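import Groth.Statements.S0466
import Groth.Agent.Lib.Cohomology.Helper4_Cech
import Mathlib.Topology.Sheaves.Flasque

set_option autoImplicit false
universe u
open CategoryTheory
open CohTop

namespace Groth.Agent.S0466

open TopologicalSpace Opposite Groth.Agent.Lib.Cohomology.Cech

section rs
variable {X : TopCat.{u}}

/-- Restriction of sections of a presheaf of abelian groups, as an additive map. -/
noncomputable def rs (P : (Opens X)ᵒᵖ ⥤ AddCommGrpCat.{u}) {A B : Opens X} (h : B ≤ A) :
    P.obj (op A) →+ P.obj (op B) := (P.map (homOfLE h).op).hom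

lemma map_eq_rs (P : (Opens X)ᵒᵖ ⥤ AddCommGrpCat.{u}) {A B : Opens X} (φ : op A ⟶ op B)
    (x : P.obj (op A)) : P.map φ x = rs P (leOfHom φ.unop) x := rfl

@[simp] lemma rs_rs (P : (Opens X)ᵒᵖ ⥤ AddCommGrpCat.{u}) {A B C : Opens X} (h : B ≤ A) (h' : C ≤ B)
    (x : P.obj (op A)) : rs P h' (rs P h x) = rs P (h'.trans h) x := by
  unfold rs
  rw [← AddCommGrpCat.comp_apply, ← P.map_comp]
  rfl

@[simp] lemma rs_self (P : (Opens X)ᵒᵖ ⥤ AddCommGrpCat.{u}) {A : Opens X} (h : A ≤ A)
    (x : P.obj (op A)) : rs P h x = x := by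
  unfold rs
  have : (homOfLE h).op = 𝟙 (op A) := rfl
  rw [this, P.map_id]
  rfl

lemma nat_rs {P Q : (Opens X)ᵒᵖ ⥤ AddCommGrpCat.{u}} (φ : P ⟶ Q) {A B : Opens X} (h : B ≤ A)
    (x : P.obj (op A)) : φ.app (op B) (rs P h x) = rs Q h (φ.app (op A) x) := by
  unfold rs
  have := φ.naturality (homOfLE h).op
  exact congrArg (fun m => m.hom x) this

lemma face_eq_rs (P : (Opens X)ᵒᵖ ⥤ AddCommGrpCat.{u}) {ι : Type u} (U : ι → Opens X) {n : ℕ}
    (i : Fin (n + 2) → ι) (k : Fin (n + 2)) (x : P.obj (op (inter U (i ∘ k.succAbove)))) :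
    face P U i k x = rs P (inter_succAbove_le U i k) x := rfl

end rs


/-- sections: injectivity of a mono of sheaves -/
lemma injective_of_mono {X : TopCat.{u}} {F G : CohTop.Ab X} (f : F ⟶ G) [Mono f] (V : Opens X) :
    Function.Injective (f.hom.app (op V)) := by
  have h1 : Mono ((sheafToPresheaf _ _).map f) := inferInstance
  have h2 : Mono (((sheafToPresheaf _ _).map f).app (op V)) := inferInstance
  exact (AddCommGrpCat.mono_iff_injective _).1 h2


open TopologicalSpace Opposite in
/-- Consider a short exact sequence of abelian sheaves with kernel F, middle term G and quotient H, and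
an open U. If every open covering of U admits a refinement on which the first Cech cohomology of F
vanishes, then sections of G over U map onto sections of H over U. -/
theorem result {X : TopCat.{u}}
    (S : CategoryTheory.ShortComplex (CohTop.Ab X)) (hS : S.ShortExact) (U : Opens X)
    (h : ∀ (ι : Type u) (V : ι → Opens X), iSup V = U →
      ∃ (κ : Type u) (W : κ → Opens X) (r : κ → ι), iSup W = U ∧ (∀ k, W k ≤ V (r k)) ∧
        CategoryTheory.Limits.IsZero (CohTop.cechH S.X₁.obj W 1)) :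
    Function.Surjective (S.g.hom.app (op U)) := by
  intro s
  have hmono : Mono S.f := hS.mono_f
  have hepi : Epi S.g := hS.epi_g
  -- step 1: local lifts
  have hloc := (TopCat.Presheaf.isLocallySurjective_iff S.g.hom).mp
    ((TopCat.Sheaf.isLocallySurjective_iff_epi S.g).mpr hepi) U s
  choose V hVU hV hxV using hloc
  -- family indexed by the points of U
  let V' : {x : X // x ∈ U} → Opens X := fun x => V x.1 x.2
  have hV'U : iSup V' = U := by
    apply le_antisymm
    · exact iSup_le fun x => hVU x.1 x.2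
    · intro x hx
      exact Opens.mem_iSup.2 ⟨⟨x, hx⟩, hxV x hx⟩
  choose t ht using fun x : {x : X // x ∈ U} => hV x.1 x.2
  obtain ⟨κ, W, r, hWU, hWV, hZ⟩ := h _ V' hV'U
  have hWU' : ∀ k, W k ≤ U := fun k => hWU ▸ le_iSup W k
  -- lifts on the refinement
  let t' : ∀ k, S.X₂.obj.obj (op (W k)) := fun k => rs S.X₂.obj (hWV k) (t (r k))
  have ht' : ∀ k, S.g.hom.app (op (W k)) (t' k) = rs S.X₃.obj (hWU' k) s := by
    intro k
    simp only [t']
    rw [nat_rs, ht]
    exact rs_rs S.X₃.obj _ _ s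
  have hgf : ∀ (A : Opens X) (x : S.X₁.obj.obj (op A)),
      S.g.hom.app (op A) (S.f.hom.app (op A) x) = 0 := by
    intro A x
    have h0 := S.zero
    have h2 := congrArg (fun m => m.hom.app (op A) x) h0
    exact h2
  -- restriction of the lifts to an arbitrary smaller open
  let u : ∀ (A : Opens X) (k : κ), A ≤ W k → S.X₂.obj.obj (op A) :=
    fun A k hk => rs S.X₂.obj hk (t' k)
  have u_congr : ∀ (A : Opens X) (k k' : κ) (hk : A ≤ W k) (hk' : A ≤ W k'), k = k' →
      u A k hk = u A k' hk' := by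
    intro A k k' hk hk' e
    subst e
    rfl
  have hgu : ∀ (A : Opens X) (k : κ) (hk : A ≤ W k),
      S.g.hom.app (op A) (u A k hk) = rs S.X₃.obj (hk.trans (hWU' k)) s := by
    intro A k hk
    simp only [u]
    rw [nat_rs, ht', rs_rs]
  -- the Čech 1-cochain of differences
  have hc : ∀ i : Fin 2 → κ, ∃ c : S.X₁.obj.obj (op (inter W i)),
      S.f.hom.app (op (inter W i)) c = u _ (i 1) (inter_le W i 1) - u _ (i 0) (inter_le W i 0) := by
    intro i
    refine TopCat.Sheaf.sections_exact_of_left_exact hS.exact hmono _ ?_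
    rw [map_sub, hgu, hgu, sub_self]
  choose c hc using hc
  let c' : (cx S.X₁.obj W).X 1 := (cochEquiv S.X₁.obj W 1).symm c
  have hdc : (cx S.X₁.obj W).d 1 2 c' = 0 := by
    apply cx_ext
    intro i
    rw [map_zero]
    apply injective_of_mono S.f (inter W i)
    rw [map_zero, proj_d_apply, map_sum]
    have hle : ∀ a : Fin 3, inter W i ≤ W (i a) := fun a => inter_le W i a
    have key : ∀ x : Fin 3, S.f.hom.app (op (inter W i))
        ((-1 : ℤ) ^ (x : ℕ) • face S.X₁.obj W i x (proj S.X₁.obj W 1 (i ∘ x.succAbove) c')) =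
        (-1 : ℤ) ^ (x : ℕ) • (u (inter W i) (i (x.succAbove 1)) (hle _) -
          u (inter W i) (i (x.succAbove 0)) (hle _)) := by
      intro x
      rw [map_zsmul, face_eq_rs, nat_rs]
      simp only [c', proj_cochEquiv_symm, hc, map_sub, u, rs_rs]
      rfl
    change ∑ x : Fin 3, _ = 0
    simp only [key]
    rw [Fin.sum_univ_three]
    have e01 : (0 : Fin 3).succAbove (1 : Fin 2) = 2 := by decide
    have e00 : (0 : Fin 3).succAbove (0 : Fin 2) = 1 := by decide
    have e11 : (1 : Fin 3).succAbove (1 : Fin 2) = 2 := by decide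
    have e10 : (1 : Fin 3).succAbove (0 : Fin 2) = 0 := by decide
    have e21 : (2 : Fin 3).succAbove (1 : Fin 2) = 1 := by decide
    have e20 : (2 : Fin 3).succAbove (0 : Fin 2) = 0 := by decide
    rw [u_congr _ _ _ _ (hle 2) (congrArg i e01), u_congr _ _ _ _ (hle 1) (congrArg i e00),
      u_congr _ _ _ _ (hle 2) (congrArg i e11), u_congr _ _ _ _ (hle 0) (congrArg i e10),
      u_congr _ _ _ _ (hle 1) (congrArg i e21), u_congr _ _ _ _ (hle 0) (congrArg i e20)]
    simp
  -- c' is a coboundary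
  obtain ⟨b', hb'⟩ := (isZero_cechH_succ_iff S.X₁.obj W 0).1 hZ c' hdc
  let bk : ∀ j : Fin 1 → κ, S.X₁.obj.obj (op (inter W j)) := fun j => proj S.X₁.obj W 0 j b'
  let β : ∀ k : κ, S.X₁.obj.obj (op (W k)) := fun k =>
    rs S.X₁.obj (le_inter W (fun _ => k) (fun _ => le_rfl)) (bk (fun _ => k))
  have bk_congr : ∀ (j j' : Fin 1 → κ), j = j' → ∀ (A : Opens X) (hA : A ≤ inter W j)
      (hA' : A ≤ inter W j'), rs S.X₁.obj hA (bk j) = rs S.X₁.obj hA' (bk j') := by
    intro j j' e A hA hA'
    subst e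
    rfl
  have hbk : ∀ (j : Fin 1 → κ) (A : Opens X) (hA : A ≤ inter W j),
      rs S.X₁.obj hA (bk j) = rs S.X₁.obj (hA.trans (inter_le W j 0)) (β (j 0)) := by
    intro j A hA
    have e : j = fun _ => j 0 := by
      funext a
      rw [Subsingleton.elim a 0]
    have hA' : A ≤ inter W (fun _ : Fin 1 => j 0) := e ▸ hA
    rw [bk_congr j _ e A hA hA']
    simp only [β, rs_rs]
  have v_congr : ∀ (A : Opens X) (k k' : κ) (hk : A ≤ W k) (hk' : A ≤ W k'), k = k' →
      rs S.X₁.obj hk (β k) = rs S.X₁.obj hk' (β k') := by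
    intro A k k' hk hk' e
    subst e
    rfl
  -- formula for c in terms of β
  have hcβ : ∀ i : Fin 2 → κ, c i = rs S.X₁.obj (inter_le W i 1) (β (i 1)) -
      rs S.X₁.obj (inter_le W i 0) (β (i 0)) := by
    intro i
    have h1 : proj S.X₁.obj W 1 i c' = c i := proj_cochEquiv_symm _ _ _ _ _
    rw [← h1, ← hb', proj_d_apply]
    change ∑ x : Fin 2, _ = _
    rw [Fin.sum_univ_two]
    simp only [face_eq_rs]
    change (-1 : ℤ) ^ (0 : ℕ) • rs S.X₁.obj _ (bk _) + (-1 : ℤ) ^ (1 : ℕ) • rs S.X₁.obj _ (bk _) = _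
    rw [hbk, hbk]
    simp only [pow_zero, one_smul, pow_one, neg_smul, Function.comp_apply]
    have e0 : (0 : Fin 2).succAbove (0 : Fin 1) = 1 := by decide
    have e1 : (1 : Fin 2).succAbove (0 : Fin 1) = 0 := by decide
    rw [v_congr _ _ _ _ (inter_le W i 1) (congrArg i e0),
      v_congr _ _ _ _ (inter_le W i 0) (congrArg i e1), sub_eq_add_neg]
  -- corrected lifts
  let t'' : ∀ k, S.X₂.obj.obj (op (W k)) := fun k => t' k - S.f.hom.app (op (W k)) (β k)
  have hcompat : TopCat.Presheaf.IsCompatible S.X₂.obj W t'' := by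
    intro k l
    rw [map_eq_rs, map_eq_rs]
    set A := W k ⊓ W l with hA
    have hAk : A ≤ W k := inf_le_left
    have hAl : A ≤ W l := inf_le_right
    let i : Fin 2 → κ := ![k, l]
    have hAi : A ≤ inter W i := by
      apply le_inter
      intro a
      fin_cases a
      · exact hAk
      · exact hAl
    have h1 := congrArg (rs S.X₂.obj hAi) (hc i)
    rw [← nat_rs, hcβ i, map_sub, map_sub] at h1
    simp only [u, rs_rs, map_sub] at h1
    change S.f.hom.app (op A) (rs S.X₁.obj _ (β l)) - S.f.hom.app (op A) (rs S.X₁.obj _ (β k)) =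
      rs S.X₂.obj _ (t' l) - rs S.X₂.obj _ (t' k) at h1
    simp only [t'', map_sub]
    rw [← nat_rs, ← nat_rs]
    have h2 : ∀ (B : Opens X) (x y z w : S.X₂.obj.obj (op B)), x - y = z - w → w - y = z - x := by
      intro B x y z w e
      have h3 : z = x - y + w := by rw [e]; abel
      rw [h3]; abel
    exact h2 _ _ _ _ _ h1
  obtain ⟨tt, htt, -⟩ := TopCat.Sheaf.existsUnique_gluing' (F := S.X₂) W U
    (fun k => homOfLE (hWU' k)) hWU.ge t'' hcompat
  refine ⟨tt, ?_⟩
  refine TopCat.Sheaf.eq_of_locally_eq' (F := S.X₃) W U (fun k => homOfLE (hWU' k)) hWU.ge _ _ ?_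
  intro k
  rw [map_eq_rs, map_eq_rs, ← nat_rs]
  have := htt k
  rw [map_eq_rs] at this
  rw [this]
  simp only [t'', map_sub, hgf, sub_zero]
  exact ht' k

end Groth.Agent.S0466
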