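import Groth.Statements.S6160
-- import your own Groth.Agent.* helpers here

set_option autoImplicit false
universe u
open CategoryTheory
open ModSite

namespace Groth.Agent.S6160

section Aux

open CategoryTheory.Limits

variable {C : Type u} [SmallCategory C] {J : GrothendieckTopology C}

/-- The forgetful functor from sheaves of modules to abelian sheaves preserves colimits. -/
theorem toSheaf_preservesColimitsOfSize (R : Sheaf J RingCat.{u}) :
    PreservesColimitsOfSize.{u, u} (SheafOfModules.toSheaf.{u} R) := by
  constructor
  intro K _
  constructor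
  intro F
  let L := PresheafOfModules.sheafification.{u} (𝟙 R.obj)
  let G : K ⥤ PresheafOfModules.{u} R.obj := F ⋙ SheafOfModules.forget R
  let e : F ≅ G ⋙ L :=
    Functor.isoWhiskerLeft F
      (asIso (PresheafOfModules.sheafificationAdjunction (𝟙 R.obj)).counit).symm
  have h1 : PreservesColimit G (L ⋙ SheafOfModules.toSheaf.{u} R) := by
    have : PreservesColimit G
        (PresheafOfModules.toPresheaf R.obj ⋙ presheafToSheaf J AddCommGrpCat.{u}) := inferInstance
    exact preservesColimit_of_natIso G
      (PresheafOfModules.sheafificationCompToSheaf.{u} (𝟙 R.obj)).symm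
  have h2 : PreservesColimit (G ⋙ L) (SheafOfModules.toSheaf.{u} R) := by
    refine preservesColimit_of_preserves_colimit_cocone
      (isColimitOfPreserves L (colimit.isColimit G)) ?_
    exact isColimitOfPreserves (L ⋙ SheafOfModules.toSheaf.{u} R) (colimit.isColimit G)
  exact preservesColimit_of_iso_diagram _ e.symm

/-- The forgetful functor from sheaves of modules to abelian sheaves preserves limits. -/
theorem toSheaf_preservesLimitsOfSize (R : Sheaf J RingCat.{u}) :
    PreservesLimitsOfSize.{u, u} (SheafOfModules.toSheaf.{u} R) := by
  have : PreservesLimitsOfSize.{u, u}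
      (SheafOfModules.toSheaf.{u} R ⋙ sheafToPresheaf J AddCommGrpCat.{u}) :=
    inferInstanceAs (PreservesLimitsOfSize.{u, u}
      (SheafOfModules.forget.{u} R ⋙ PresheafOfModules.toPresheaf R.obj))
  exact preservesLimits_of_reflects_of_preserves _ (sheafToPresheaf J AddCommGrpCat.{u})

end Aux

open CategoryTheory.Limits in
/-- Ringed topos of sheaves on a small site; u : A -> B a morphism of sheaves of rings: the
restriction-of-scalars functor from B-Modules to A-Modules commutes with all u-small limits and
colimits and is conservative. -/
theorem result {C : Type u} [SmallCategory C]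
    {J : GrothendieckTopology C} {A B : Sheaf J RingCat.{u}} (φ : A ⟶ B) :
    PreservesLimitsOfSize.{u, u} (SheafOfModules.restrictScalars.{u} φ) ∧
    PreservesColimitsOfSize.{u, u} (SheafOfModules.restrictScalars.{u} φ) ∧
    (SheafOfModules.restrictScalars.{u} φ).ReflectsIsomorphisms := by
  have hcomp : SheafOfModules.restrictScalars.{u} φ ⋙ SheafOfModules.toSheaf.{u} A =
      SheafOfModules.toSheaf.{u} B := rfl
  have hA1 := toSheaf_preservesLimitsOfSize A
  have hA2 := toSheaf_preservesColimitsOfSize A
  have hB1 := toSheaf_preservesLimitsOfSize B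
  have hB2 := toSheaf_preservesColimitsOfSize B
  have hrA : ReflectsLimitsOfSize.{u, u} (SheafOfModules.toSheaf.{u} A) :=
    reflectsLimits_of_reflectsIsomorphisms
  have hrA' : ReflectsColimitsOfSize.{u, u} (SheafOfModules.toSheaf.{u} A) :=
    reflectsColimits_of_reflectsIsomorphisms
  refine ⟨?_, ?_, ?_⟩
  · have : PreservesLimitsOfSize.{u, u}
        (SheafOfModules.restrictScalars.{u} φ ⋙ SheafOfModules.toSheaf.{u} A) := by
      rw [hcomp]; exact hB1
    exact preservesLimits_of_reflects_of_preserves _ (SheafOfModules.toSheaf.{u} A)
  · have : PreservesColimitsOfSize.{u, u}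
        (SheafOfModules.restrictScalars.{u} φ ⋙ SheafOfModules.toSheaf.{u} A) := by
      rw [hcomp]; exact hB2
    exact preservesColimits_of_reflects_of_preserves _ (SheafOfModules.toSheaf.{u} A)
  · have : (SheafOfModules.restrictScalars.{u} φ ⋙
        SheafOfModules.toSheaf.{u} A).ReflectsIsomorphisms := by
      rw [hcomp]; infer_instance
    exact reflectsIsomorphisms_of_comp _ (SheafOfModules.toSheaf.{u} A)

end Groth.Agent.S6160
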