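import Groth.Statements.S0010
import Groth.Agent.Lib.Cohomology.Helper1_SerreVanishing
import Groth.Agent.Lib.Cohomology.Helper1_MV

set_option autoImplicit false
universe u
open Coherent

namespace Groth.Agent.S0010

open AlgebraicGeometry in
/-- Let X be a scheme in which the intersection of any two affine opens is affine (equivalently, X has
affine diagonal; e.g. X separated), covered by t affine opens. Then H^n(X, F) = 0 for every
quasi-coherent F and every n ≥ t. -/
theorem result (X : Scheme.{u}) (t : ℕ) (U : Fin t → X.Opens)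
    (hU : ∀ i, IsAffineOpen (U i)) (hcov : ⨆ i, U i = ⊤)
    (hd : ∀ V W : X.Opens, IsAffineOpen V → IsAffineOpen W → IsAffineOpen (V ⊓ W))
    (M : X.Modules) [Coh.IsQCoh M] (n : ℕ) (hn : t ≤ n) :
    Subsingleton (Coh.HH X M n) := by
  rcases Nat.eq_zero_or_pos t with rfl | ht
  · -- `X` is empty
    have hbot : (⊤ : X.Opens) = ⊥ := by
      rw [← hcov]
      simp
    rcases Nat.eq_zero_or_pos n with rfl | hn'
    · have e := CategoryTheory.Sheaf.H.equiv₀ (Coh.toAb M)
        (Groth.Agent.Lib.Cohomology.isTerminalTop X.toTopCat)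
      have hT : CategoryTheory.Limits.IsTerminal ((Coh.toAb M).obj.obj (Opposite.op ⊤)) :=
        TopCat.Sheaf.isTerminalOfEqEmpty (Coh.toAb M) hbot
      have hz : CategoryTheory.Limits.IsZero ((Coh.toAb M).obj.obj (Opposite.op ⊤)) :=
        (CategoryTheory.Limits.isZero_zero _).of_iso
          (hT.uniqueUpToIso (CategoryTheory.Limits.isZero_zero _).isTerminal)
      have := AddCommGrpCat.subsingleton_of_isZero hz
      exact e.subsingleton
    · have hE : IsEmpty X := by
        constructor
        intro x
        have : x ∈ (⊤ : X.Opens) := trivial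
        rw [hbot] at this
        exact this
      obtain ⟨q, rfl⟩ : ∃ q, n = q + 1 := ⟨n - 1, by omega⟩
      exact Groth.Agent.Lib.Cohomology.H_succ_subsingleton_of_isAffine M q
  · obtain ⟨s, rfl⟩ : ∃ s, t = s + 1 := ⟨t - 1, by omega⟩
    have := Groth.Agent.Lib.Cohomology.HU_iSup_subsingleton (Coh.toAb M) {V | IsAffineOpen V}
      (fun V hV W hW => hd V W hV hW)
      (fun V hV n => Groth.Agent.Lib.Cohomology.HU_succ_subsingleton_of_isAffineOpen M V hV n)
      s U hU n hn
    rw [hcov] at this
    exact (Groth.Agent.Lib.Cohomology.HUTopEquiv _ (Coh.toAb M) n).symm.subsingleton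

end Groth.Agent.S0010
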