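import Groth.Statements.S8266
-- import your own Groth.Agent.* helpers here

set_option autoImplicit false
universe u
open CategoryTheory CategoryTheory.Limits AlgebraicGeometry Opposite TopologicalSpace
open scoped HomogeneousIdeal
open EGA2

namespace Groth.Agent.S8266


/-- `A_(f)` is reduced when the irrelevant ideal contains no nonzero nilpotent. -/
lemma away_isReduced {σ A : Type*} [CommRing A] [SetLike σ A] [AddSubgroupClass σ A]
    (𝒜 : ℕ → σ) [GradedRing 𝒜]
    (hred : ∀ x : A, x ∈ 𝒜₊ → IsNilpotent x → x = 0)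
    {d : ℕ} (hd : 0 < d) {f : A} (hf : f ∈ 𝒜 d) :
    _root_.IsReduced (HomogeneousLocalization.Away 𝒜 f) := by
  constructor
  intro z hz
  obtain ⟨k, hk⟩ := hz
  apply HomogeneousLocalization.val_injective
  rw [HomogeneousLocalization.val_zero]
  have hk' : z.val ^ k = 0 := by
    rw [← HomogeneousLocalization.val_pow, hk, HomogeneousLocalization.val_zero]
  rw [HomogeneousLocalization.eq_num_div_den] at hk' ⊢
  rw [Localization.mk_pow, Localization.mk_eq_mk', IsLocalization.mk'_eq_zero_iff] at hk'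
  obtain ⟨⟨c, m, rfl⟩, hc⟩ := hk'
  have hc' : f ^ m * z.num ^ k = 0 := hc
  have hnil : IsNilpotent (f * z.num) := by
    refine ⟨m + k, ?_⟩
    rw [mul_pow, pow_add f, pow_add z.num]
    calc f ^ m * f ^ k * (z.num ^ m * z.num ^ k)
        = (f ^ m * z.num ^ k) * (f ^ k * z.num ^ m) := by ring
      _ = 0 := by rw [hc', zero_mul]
  have hmem : f * z.num ∈ 𝒜₊ :=
    Ideal.mul_mem_right _ _ (HomogeneousIdeal.mem_irrelevant_of_mem _ hd hf)
  have h0 := hred _ hmem hnil
  rw [Localization.mk_eq_mk', IsLocalization.mk'_eq_zero_iff]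
  exact ⟨⟨f, 1, pow_one f⟩, h0⟩

/-- `Proj 𝒜` is reduced when the irrelevant ideal contains no nonzero nilpotent. -/
lemma proj_isReduced {σ A : Type u} [CommRing A] [SetLike σ A] [AddSubgroupClass σ A]
    (𝒜 : ℕ → σ) [GradedRing 𝒜]
    (hred : ∀ x : A, x ∈ 𝒜₊ → IsNilpotent x → x = 0) : IsReduced (Proj 𝒜) := by
  have : ∀ i, IsReduced ((Proj.affineOpenCover 𝒜).openCover.X i) := by
    intro i
    have h := away_isReduced 𝒜 hred i.1.2 i.2.2
    change IsReduced (Spec (CommRingCat.of (HomogeneousLocalization.Away 𝒜 i.2.1)))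
    infer_instance
  exact IsReduced.of_openCover _ (Proj.affineOpenCover 𝒜).openCover

/-- If the quasi-coherent positively graded O_Y-algebra 𝒮 is essentially reduced (affine-locally, no
nonzero nilpotent element in the irrelevant ideal), then Proj(𝒮) is reduced. -/
theorem result {Y P : Scheme.{u}} (𝒮 : RelProj.QCGrAlg Y)
    (hred : ∀ (U : Y.Opens) (hU : IsAffineOpen U) (x : 𝒮.presheaf.obj (op U)),
      x ∈ (𝒮.deg U hU)₊ → IsNilpotent x → x = 0)
    (p : P ⟶ Y)
    (chart : ∀ (U : Y.Opens) (hU : IsAffineOpen U), (((p ⁻¹ᵁ U : P.Opens) : Scheme.{u}) ≅ Proj (𝒮.deg U hU)))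
    (hP : RelProj.IsRelProj 𝒮 p chart) : IsReduced P := by
  have hcov : IsOpenCover (fun i : Y.affineOpens => p ⁻¹ᵁ (i : Y.Opens)) := by
    change (⨆ i : Y.affineOpens, p ⁻¹ᵁ (i : Y.Opens)) = ⊤
    rw [← Scheme.Hom.preimage_iSup, iSup_affineOpens_eq_top]
    rfl
  have : ∀ i, IsReduced ((P.openCoverOfIsOpenCover _ hcov).X i) := by
    intro (i : Y.affineOpens)
    have hi : IsAffineOpen (i : Y.Opens) := i.2
    have h := proj_isReduced (𝒮.deg i.1 hi) (hred i.1 hi)
    change IsReduced ((p ⁻¹ᵁ (i : Y.Opens) : P.Opens) : Scheme.{u})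
    exact isReduced_of_isOpenImmersion (chart i.1 hi).hom
  exact IsReduced.of_openCover _ (P.openCoverOfIsOpenCover _ hcov)

end Groth.Agent.S8266
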