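import Groth.Statements.S8264
import Groth.Agent.S8266
-- import your own Groth.Agent.* helpers here

set_option autoImplicit false
universe u
open CategoryTheory CategoryTheory.Limits AlgebraicGeometry Opposite TopologicalSpace
open scoped HomogeneousIdeal
open EGA2

namespace Groth.Agent.S8264


section projdomain

variable {A : Type u} [CommRing A] {σ : Type u} [SetLike σ A] [AddSubgroupClass σ A]
  (𝒜 : ℕ → σ) [GradedRing 𝒜]

/-- the generic point of `Proj` of a graded domain with nonzero irrelevant ideal. -/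
noncomputable def genericPt [IsDomain A]
    (hirr : (HomogeneousIdeal.irrelevant 𝒜).toIdeal ≠ ⊥) : Proj 𝒜 :=
  (⟨⊥, by rw [HomogeneousIdeal.toIdeal_bot]; exact Ideal.isPrime_bot, fun h => hirr (by
    rw [eq_bot_iff]
    intro x hx
    have := h hx
    exact this)⟩ : ProjectiveSpectrum 𝒜)

/-- every nonempty open of `Proj` of a graded domain contains the generic point. -/
lemma genericPt_mem [IsDomain A] (hirr : (HomogeneousIdeal.irrelevant 𝒜).toIdeal ≠ ⊥)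
    (O : (Proj 𝒜).Opens) (hO : (O : Set (Proj 𝒜)).Nonempty) : genericPt 𝒜 hirr ∈ O := by
  obtain ⟨y, hy⟩ := hO
  obtain ⟨_, ⟨f, rfl⟩, hyf, hfO⟩ :=
    TopologicalSpace.Opens.isBasis_iff_nbhd.mp (Proj.isBasis_basicOpen 𝒜) hy
  apply hfO
  rw [Proj.mem_basicOpen] at hyf ⊢
  intro hf
  apply hyf
  have hf0 : f = 0 := hf
  rw [hf0]
  exact Ideal.zero_mem _

lemma proj_irreducibleSpace [IsDomain A] (hirr : (HomogeneousIdeal.irrelevant 𝒜).toIdeal ≠ ⊥) :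
    IrreducibleSpace (Proj 𝒜) := by
  refine @IrreducibleSpace.mk _ _ ⟨?_⟩ ⟨genericPt 𝒜 hirr⟩
  intro u v hu hv hune hvne
  obtain ⟨x, -, hx⟩ := hune
  obtain ⟨y, -, hy⟩ := hvne
  exact ⟨genericPt 𝒜 hirr, trivial, genericPt_mem 𝒜 hirr ⟨u, hu⟩ ⟨x, hx⟩,
    genericPt_mem 𝒜 hirr ⟨v, hv⟩ ⟨y, hy⟩⟩

end projdomain

/-- Let Y be an integral scheme and 𝒮 a quasi-coherent positively graded O_Y-algebra with 𝒮_0 = O_Y
which is integral, stated here affine-locally: over every nonempty affine open U the ring 𝒮(U) is an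
integral domain whose irrelevant ideal is nonzero (for Y integral this is equivalent to the
stalkwise condition of the published text: every stalk 𝒮_y an integral domain with (𝒮_y)_+ ≠ 0).
Then Proj(𝒮) is integral and its structure morphism to Y is dominant. -/
theorem result {Y P : Scheme.{u}} [IsIntegral Y] (𝒮 : RelProj.QCGrAlg Y)
    (h0 : ∀ (U : Y.Opens) (hU : IsAffineOpen U), Function.Bijective (𝒮.strZero U hU).hom)
    (hint : ∀ (U : Y.Opens) (hU : IsAffineOpen U), (U : Set Y).Nonempty →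
      IsDomain (𝒮.presheaf.obj (op U)) ∧ ((𝒮.deg U hU)₊).toIdeal ≠ ⊥)
    (p : P ⟶ Y)
    (chart : ∀ (U : Y.Opens) (hU : IsAffineOpen U), (((p ⁻¹ᵁ U : P.Opens) : Scheme.{u}) ≅ Proj (𝒮.deg U hU)))
    (hP : RelProj.IsRelProj 𝒮 p chart) : IsIntegral P ∧ DenseRange p.base := by
  classical
  have hIrr : ∀ (U : Y.Opens) (hU : IsAffineOpen U), (U : Set Y).Nonempty →
      IsIrreducible ((p ⁻¹ᵁ U : P.Opens) : Set P) := by
    intro U hU hne
    have hd := (hint U hU hne).1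
    have hi := proj_irreducibleSpace (𝒮.deg U hU) (hint U hU hne).2
    have h1 := (IrreducibleSpace.isIrreducible_univ (Proj (𝒮.deg U hU))).image
      ((chart U hU).inv ≫ (p ⁻¹ᵁ U).ι) ((chart U hU).inv ≫ (p ⁻¹ᵁ U).ι).continuous.continuousOn
    have h2 : ((chart U hU).inv ≫ (p ⁻¹ᵁ U).ι) '' Set.univ = ((p ⁻¹ᵁ U : P.Opens) : Set P) := by
      ext x
      constructor
      · rintro ⟨y, -, rfl⟩
        exact ((chart U hU).inv y).2
      · intro hx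
        refine ⟨(chart U hU).hom ⟨x, hx⟩, trivial, ?_⟩
        have h3 : ((chart U hU).hom ≫ (chart U hU).inv) ⟨x, hx⟩ = ⟨x, hx⟩ := by
          rw [Iso.hom_inv_id]; rfl
        have h4 : (chart U hU).inv ((chart U hU).hom ⟨x, hx⟩) = ⟨x, hx⟩ := h3
        change (p ⁻¹ᵁ U).ι ((chart U hU).inv ((chart U hU).hom ⟨x, hx⟩)) = x
        rw [h4]
        rfl
    rwa [h2] at h1
  have hNE : ∀ (U : Y.Opens) (hU : IsAffineOpen U), (U : Set Y).Nonempty →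
      ((p ⁻¹ᵁ U : P.Opens) : Set P).Nonempty := fun U hU hne => (hIrr U hU hne).nonempty
  have haff : ∀ y : Y, ∃ U : Y.Opens, IsAffineOpen U ∧ y ∈ U := by
    intro y
    obtain ⟨U, hU, hyU, -⟩ := TopologicalSpace.Opens.isBasis_iff_nbhd.mp Y.isBasis_affineOpens
      (show y ∈ (⊤ : Y.Opens) from trivial)
    exact ⟨U, hU, hyU⟩
  -- irreducibility
  have hPirr : IrreducibleSpace P := by
    have hne : Nonempty P := by
      obtain ⟨y⟩ := (inferInstance : Nonempty Y)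
      obtain ⟨U, hU, hyU⟩ := haff y
      obtain ⟨x, -⟩ := hNE U hU ⟨y, hyU⟩
      exact ⟨x⟩
    refine @IrreducibleSpace.mk _ _ ⟨?_⟩ hne
    rintro O₁ O₂ hO₁ hO₂ ⟨x₁, -, hx₁⟩ ⟨x₂, -, hx₂⟩
    obtain ⟨U₁, hU₁, hxU₁⟩ := haff (p x₁)
    obtain ⟨U₂, hU₂, hxU₂⟩ := haff (p x₂)
    obtain ⟨y, hy₁, hy₂⟩ := nonempty_preirreducible_inter U₁.2 U₂.2 ⟨p x₁, hxU₁⟩ ⟨p x₂, hxU₂⟩
    obtain ⟨r, r', hrr', hy⟩ := exists_basicOpen_le_affine_inter hU₁ hU₂ y ⟨hy₁, hy₂⟩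
    have hW : IsAffineOpen (Y.basicOpen r) := hU₁.basicOpen r
    have hWU₁ : Y.basicOpen r ≤ U₁ := Y.basicOpen_le r
    have hWU₂ : Y.basicOpen r ≤ U₂ := hrr' ▸ Y.basicOpen_le r'
    have hWne : ((Y.basicOpen r : Y.Opens) : Set Y).Nonempty := ⟨y, hy⟩
    obtain ⟨w, hw⟩ := hNE _ hW hWne
    obtain ⟨z₁, ⟨-, hz₁O, hz₁W⟩⟩ := (hIrr U₁ hU₁ ⟨p x₁, hxU₁⟩).2 O₁
      ((p ⁻¹ᵁ (Y.basicOpen r) : P.Opens) : Set P) hO₁ (p ⁻¹ᵁ (Y.basicOpen r)).2
      ⟨x₁, hxU₁, hx₁⟩ ⟨w, p.preimage_mono hWU₁ hw, hw⟩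
    obtain ⟨z₂, ⟨-, hz₂O, hz₂W⟩⟩ := (hIrr U₂ hU₂ ⟨p x₂, hxU₂⟩).2 O₂
      ((p ⁻¹ᵁ (Y.basicOpen r) : P.Opens) : Set P) hO₂ (p ⁻¹ᵁ (Y.basicOpen r)).2
      ⟨x₂, hxU₂, hx₂⟩ ⟨w, p.preimage_mono hWU₂ hw, hw⟩
    obtain ⟨z, ⟨-, hzO₁, hzO₂⟩⟩ := (hIrr _ hW hWne).2 O₁ O₂ hO₁ hO₂
      ⟨z₁, hz₁W, hz₁O⟩ ⟨z₂, hz₂W, hz₂O⟩
    exact ⟨z, trivial, hzO₁, hzO₂⟩
  -- reducedness
  have hPred : IsReduced P := by
    have hcov : IsOpenCover (fun i : {U : Y.affineOpens // ((U : Y.Opens) : Set Y).Nonempty} =>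
        p ⁻¹ᵁ (i.1 : Y.Opens)) := by
      rw [IsOpenCover, eq_top_iff]
      rintro x -
      obtain ⟨U, hU, hxU⟩ := haff (p x)
      exact TopologicalSpace.Opens.mem_iSup.2 ⟨⟨⟨U, hU⟩, ⟨p x, hxU⟩⟩, hxU⟩
    have : ∀ i, IsReduced ((P.openCoverOfIsOpenCover _ hcov).X i) := by
      intro (i : {U : Y.affineOpens // ((U : Y.Opens) : Set Y).Nonempty})
      have hi : IsAffineOpen (i.1 : Y.Opens) := i.1.2
      have hd := (hint i.1.1 hi i.2).1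
      have h := Groth.Agent.S8266.proj_isReduced (𝒮.deg i.1.1 hi)
        (fun x _ hx => hx.eq_zero)
      change IsReduced ((p ⁻¹ᵁ (i.1 : Y.Opens) : P.Opens) : Scheme.{u})
      exact isReduced_of_isOpenImmersion (chart i.1.1 hi).hom
    exact IsReduced.of_openCover _ (P.openCoverOfIsOpenCover _ hcov)
  refine ⟨isIntegral_of_irreducibleSpace_of_isReduced P, ?_⟩
  -- dominance
  rw [DenseRange, dense_iff_inter_open]
  rintro V hV ⟨y, hyV⟩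
  obtain ⟨U, hU, hyU, hUV⟩ := TopologicalSpace.Opens.isBasis_iff_nbhd.mp Y.isBasis_affineOpens
    (show y ∈ (⟨V, hV⟩ : Y.Opens) from hyV)
  obtain ⟨x, hx⟩ := hNE U hU ⟨y, hyU⟩
  exact ⟨p x, hUV hx, x, rfl⟩

end Groth.Agent.S8264
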