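import Groth.Statements.S2466
import Groth.Agent.Lib.Helper13.PBasis
open Groth.Agent.Lib.Helper13.PBasis

set_option autoImplicit false
universe u
open EGA41

namespace Groth.Agent.S2466

/-- Let p be a prime, B an A-algebra of characteristic p and (x_α) a p-basis of B over A. Then the
family of differentials (d_{B/A} x_α) is a basis of the B-module Ω_{B/A}. -/
theorem result (p : ℕ) [Fact p.Prime] {A B : Type u} [CommRing A] [CommRing B] [Algebra A B] [CharP B p]
    {ι : Type u} (x : ι → B) (hx : EGA41.IsPBasis p A x) :
    ∃ b : Module.Basis ι B (Ω[B⁄A]), ∀ i, b i = KaehlerDifferential.D A B (x i) := by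
  classical
  obtain ⟨D, hD⟩ := exists_derivation_of_pBasis p x hx
    (L := ι →₀ B) (fun i => Finsupp.single i (1 : B))
  have hli : LinearIndependent B (fun i => KaehlerDifferential.D A B (x i)) := by
    apply LinearIndependent.of_comp D.liftKaehlerDifferential
    have : (D.liftKaehlerDifferential ∘ fun i => KaehlerDifferential.D A B (x i)) =
        fun i => Finsupp.single i (1 : B) := by
      funext i
      simp [Function.comp, Derivation.liftKaehlerDifferential_comp_D, hD]
    rw [this]
    have := (Finsupp.basisSingleOne (R := B) (ι := ι)).linearIndependent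
    rwa [Finsupp.coe_basisSingleOne] at this
  have hsp : ⊤ ≤ Submodule.span B (Set.range fun i => KaehlerDifferential.D A B (x i)) :=
    (span_D_eq_top_of_pGenerating p x hx.2).ge
  exact ⟨Module.Basis.mk hli hsp, fun i => Module.Basis.mk_apply hli hsp i⟩

end Groth.Agent.S2466
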