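import Groth.Statements.S2467
import Groth.Agent.Lib.Helper13.PBasisField
open Groth.Agent.Lib.Helper13.PBasis

set_option autoImplicit false
universe u
open EGA41

namespace Groth.Agent.S2467

theorem pIndependent_mono (p : ℕ) [Fact p.Prime] {k K : Type u} [Field k] [Field K] [Algebra k K]
    {T₀ T : Set K} (h : T₀ ⊆ T) (hT : EGA41.IsPIndependent p k (Subtype.val : T → K)) :
    EGA41.IsPIndependent p k (Subtype.val : T₀ → K) :=
  linearIndependent_comp_of_injective p (Subtype.val : T → K) (Set.inclusion h)
    (Set.inclusion_injective h) hT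

theorem pIndependent_of_finite_subsets (p : ℕ) [Fact p.Prime] {k K : Type u} [Field k] [Field K]
    [Algebra k K] {T : Set K}
    (h : ∀ y ⊆ T, y.Finite → EGA41.IsPIndependent p k (Subtype.val : y → K)) :
    EGA41.IsPIndependent p k (Subtype.val : T → K) := by
  classical
  apply linearIndependent_of_finset p (Subtype.val : T → K)
  intro s
  let y : Set K := Subtype.val '' (s : Set T)
  have hy : y ⊆ T := by rintro _ ⟨t, -, rfl⟩; exact t.2
  have hyf : y.Finite := (Finset.finite_toSet s).image _
  let j : {i // i ∈ s} → y := fun i => ⟨i.1.1, ⟨i.1, i.2, rfl⟩⟩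
  have hj : Function.Injective j := by
    intro a b hab
    apply Subtype.ext; apply Subtype.ext
    exact congrArg (fun z : y => z.1) hab
  exact linearIndependent_comp_of_injective p (Subtype.val : y → K) j hj (h y hy hyf)

theorem pIndependent_insert (p : ℕ) [Fact p.Prime] {k K : Type u} [Field k] [Field K] [Algebra k K]
    [CharP K p] {T : Set K} (hT : EGA41.IsPIndependent p k (Subtype.val : T → K)) (s : K)
    (hs : s ∉ Algebra.adjoin (EGA41.pPowerSubalgebra p k K) (Set.range (Subtype.val : T → K))) :
    EGA41.IsPIndependent p k (Subtype.val : ↥(insert s T) → K) := by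
  classical
  have h1 := pIndependent_sumElim_of_not_mem p (Subtype.val : T → K) hT s hs
  let j : ↥(insert s T) → T ⊕ PUnit.{u+1} := fun t =>
    if h : t.1 ∈ T then Sum.inl ⟨t.1, h⟩ else Sum.inr PUnit.unit
  have hjv : ∀ t, Sum.elim (Subtype.val : T → K) (fun _ : PUnit.{u+1} => s) (j t) = t.1 := by
    intro t
    by_cases h : t.1 ∈ T
    · simp [j, h]
    · have : t.1 = s := (Set.mem_insert_iff.mp t.2).resolve_right h
      show Sum.elim _ _ (dite _ _ _) = _
      rw [dif_neg h]
      exact this.symm
  have hj : Function.Injective j := by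
    intro a b hab
    apply Subtype.ext
    rw [← hjv a, ← hjv b, hab]
  have h2 := linearIndependent_comp_of_injective p _ j hj h1
  have : (Sum.elim (Subtype.val : T → K) (fun _ : PUnit.{u+1} => s)) ∘ j = Subtype.val :=
    funext hjv
  rw [this] at h2
  exact h2


/-- Let k ⊆ K be fields of characteristic p > 0, S ⊆ K a system of p-generators of K over k and L ⊆ S a
subset which is p-free over k. Then there is a p-basis B of K over k with L ⊆ B ⊆ S. In particular
every extension of k has a p-basis over k. -/
theorem result (p : ℕ) [Fact p.Prime] {k K : Type u} [Field k] [Field K] [Algebra k K] [CharP K p]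
    (S L : Set K) (hLS : L ⊆ S) (hS : EGA41.IsPGenerating p k (Subtype.val : S → K)) (hL : EGA41.IsPIndependent p k (Subtype.val : L → K)) :
    ∃ B : Set K, L ⊆ B ∧ B ⊆ S ∧ EGA41.IsPBasis p k (Subtype.val : B → K) := by
  classical
  let 𝒮 : Set (Set K) := {B | B ⊆ S ∧ EGA41.IsPIndependent p k (Subtype.val : B → K)}
  have hfc : Order.IsOfFiniteCharacter 𝒮 := by
    intro B
    constructor
    · rintro ⟨h1, h2⟩ y hy _
      exact ⟨hy.trans h1, pIndependent_mono p hy h2⟩
    · intro h
      refine ⟨fun b hb => ?_, pIndependent_of_finite_subsets p fun y hy hyf => (h y hy hyf).2⟩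
      exact (h {b} (Set.singleton_subset_iff.mpr hb) (Set.finite_singleton b)).1 rfl
  obtain ⟨B, hLB, hBmax⟩ := hfc.exists_maximal (x := L) ⟨hLS, hL⟩
  refine ⟨B, hLB, hBmax.prop.1, hBmax.prop.2, ?_⟩
  rw [← adjoin_eq_top_iff_pGenerating]
  have hSsub : S ⊆ Algebra.adjoin (EGA41.pPowerSubalgebra p k K)
      (Set.range (Subtype.val : B → K)) := by
    intro s hs
    by_contra hns
    have hins : insert s B ∈ 𝒮 :=
      ⟨Set.insert_subset hs hBmax.prop.1, pIndependent_insert p hBmax.prop.2 s hns⟩
    have hle := hBmax.le_of_ge hins (Set.subset_insert s B)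
    exact hns (Algebra.subset_adjoin ⟨⟨s, hle (Set.mem_insert s B)⟩, rfl⟩)
  have hStop := (adjoin_eq_top_iff_pGenerating p _).mpr hS
  rw [eq_top_iff, ← hStop]
  apply Algebra.adjoin_le
  rintro _ ⟨s, rfl⟩
  exact hSsub s.2

end Groth.Agent.S2467
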