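import Groth.Statements.S2468
import Groth.Agent.Lib.Helper13.PBasisField2
import Groth.Agent.S2466
import Groth.Agent.S2467
open Groth.Agent.Lib.Helper13.PBasis

set_option autoImplicit false
universe u
open EGA41

namespace Groth.Agent.S2468

open MvPolynomial in
theorem pIndependent_of_isEmpty (p : ℕ) [Fact p.Prime] {k K : Type u} [Field k] [Field K]
    [Algebra k K] {ι : Type u} [IsEmpty ι] (x : ι → K) : EGA41.IsPIndependent p k x := by
  unfold EGA41.IsPIndependent EGA41.pMonomial
  rw [linearIndependent_iff_poly]
  intro f _ h0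
  rw [eq_C_of_isEmpty f] at h0 ⊢
  rw [aeval_C] at h0
  have : coeff 0 f = 0 := by
    have h1 : ((coeff 0 f : EGA41.pPowerSubalgebra p k K) : K) = 0 := h0
    exact Subtype.ext h1
  rw [this, map_zero]

theorem indep_of_pIndependent (p : ℕ) [Fact p.Prime] {k K : Type u} [Field k] [Field K]
    [Algebra k K] [CharP K p] {ι : Type u} (x : ι → K) (hx : EGA41.IsPIndependent p k x) :
    LinearIndependent K (fun i => KaehlerDifferential.D k K (x i)) := by
  classical
  have hp1 : 1 < p := (Fact.out : p.Prime).one_lt
  -- `x` is injective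
  have hxinj : Function.Injective x := by
    intro i j hij
    let ei : RedE p ι := ⟨Finsupp.single i 1, fun a => by
      rw [Finsupp.single_apply]; split_ifs <;> omega⟩
    let ej : RedE p ι := ⟨Finsupp.single j 1, fun a => by
      rw [Finsupp.single_apply]; split_ifs <;> omega⟩
    have hm : EGA41.pMonomial x ei.1 = EGA41.pMonomial x ej.1 := by
      unfold EGA41.pMonomial
      simp [ei, ej, hij]
    have := LinearIndependent.injective hx hm
    have h2 : Finsupp.single i 1 = Finsupp.single j 1 := congrArg Subtype.val this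
    exact Finsupp.single_left_injective one_ne_zero h2
  let L : Set K := Set.range x
  let j : L → ι := fun t => t.2.choose
  have hjx : ∀ t : L, x (j t) = t.1 := fun t => t.2.choose_spec
  have hj : Function.Injective j := by
    intro a b hab
    apply Subtype.ext
    rw [← hjx a, ← hjx b, hab]
  have hL : EGA41.IsPIndependent p k (Subtype.val : L → K) := by
    have := linearIndependent_comp_of_injective p x j hj hx
    rw [show x ∘ j = Subtype.val from funext hjx] at this
    exact this
  have hS : EGA41.IsPGenerating p k (Subtype.val : ↥(Set.univ : Set K) → K) :=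
    (adjoin_eq_top_iff_pGenerating p _).mp
      (eq_top_iff.mpr fun b _ => Algebra.subset_adjoin ⟨⟨b, trivial⟩, rfl⟩)
  obtain ⟨B, hLB, -, hB⟩ := Groth.Agent.S2467.result p Set.univ L (Set.subset_univ _) hS hL
  obtain ⟨bas, hbas⟩ := Groth.Agent.S2466.result p (Subtype.val : B → K) hB
  have hli : LinearIndependent K (fun t : B => KaehlerDifferential.D k K t.1) := by
    have := bas.linearIndependent
    rwa [show ⇑bas = fun t : B => KaehlerDifferential.D k K t.1 from funext hbas] at this
  exact hli.comp (fun i => (⟨x i, hLB ⟨i, rfl⟩⟩ : B))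
    (fun a b hab => hxinj (congrArg Subtype.val hab))

theorem pIndependent_of_indep (p : ℕ) [Fact p.Prime] {k K : Type u} [Field k] [Field K]
    [Algebra k K] [CharP K p] {ι : Type u} (x : ι → K)
    (hx : LinearIndependent K (fun i => KaehlerDifferential.D k K (x i))) :
    EGA41.IsPIndependent p k x := by
  classical
  apply linearIndependent_of_finset p x
  intro s
  induction s using Finset.induction_on with
  | empty => exact pIndependent_of_isEmpty p (x ∘ (Subtype.val : {i // i ∈ (∅ : Finset ι)} → ι))
  | insert a s ha ih =>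
    have hnot : x a ∉ Algebra.adjoin (EGA41.pPowerSubalgebra p k K)
        (Set.range (x ∘ (Subtype.val : {i // i ∈ s} → ι))) := by
      intro hmem
      have h1 := derivation_mem_span_of_mem_adjoin p _ (KaehlerDifferential.D k K) (x a) hmem
      have h2 := hx.notMem_span_image (s := (s : Set ι)) (x := a) (by simpa using ha)
      have h3 : (fun i => KaehlerDifferential.D k K (x i)) '' (s : Set ι) =
          Set.range fun i : {i // i ∈ s} =>
            KaehlerDifferential.D k K ((x ∘ (Subtype.val : {i // i ∈ s} → ι)) i) := by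
        ext ω
        constructor
        · rintro ⟨i, hi, rfl⟩
          exact ⟨⟨i, hi⟩, rfl⟩
        · rintro ⟨i, rfl⟩
          exact ⟨i.1, i.2, rfl⟩
      rw [h3] at h2
      exact h2 h1
    have h1 := pIndependent_sumElim_of_not_mem p _ ih (x a) hnot
    let j : {i // i ∈ insert a s} → {i // i ∈ s} ⊕ PUnit.{u+1} := fun t =>
      if h : t.1 ∈ s then Sum.inl ⟨t.1, h⟩ else Sum.inr PUnit.unit
    have hjv : ∀ t, Sum.elim (x ∘ (Subtype.val : {i // i ∈ s} → ι))
        (fun _ : PUnit.{u+1} => x a) (j t) = x t.1 := by
      intro t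
      by_cases h : t.1 ∈ s
      · simp [j, h]
      · have : t.1 = a := (Finset.mem_insert.mp t.2).resolve_right h
        show Sum.elim _ _ (dite _ _ _) = _
        rw [dif_neg h, this]
        rfl
    have hj : Function.Injective j := by
      intro t t' hab
      apply Subtype.ext
      by_cases h : t.1 ∈ s <;> by_cases h' : t'.1 ∈ s
      · simp only [j, dif_pos h, dif_pos h'] at hab
        have h3 := Sum.inl.inj hab
        exact Subtype.mk.inj h3
      · simp [j, dif_pos h, dif_neg h'] at hab
      · simp [j, dif_neg h, dif_pos h'] at hab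
      · rw [(Finset.mem_insert.mp t.2).resolve_right h, (Finset.mem_insert.mp t'.2).resolve_right h']
    have h2 := linearIndependent_comp_of_injective p _ j hj h1
    rw [show (Sum.elim (x ∘ (Subtype.val : {i // i ∈ s} → ι)) (fun _ : PUnit.{u+1} => x a)) ∘ j =
      x ∘ Subtype.val from funext hjv] at h2
    exact h2

theorem pGenerating_of_span (p : ℕ) [Fact p.Prime] {k K : Type u} [Field k] [Field K]
    [Algebra k K] [CharP K p] {ι : Type u} (x : ι → K)
    (hx : Submodule.span K (Set.range fun i => KaehlerDifferential.D k K (x i)) = ⊤) :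
    EGA41.IsPGenerating p k x := by
  classical
  rw [← adjoin_eq_top_iff_pGenerating]
  by_contra hne
  obtain ⟨s, hs⟩ : ∃ s : K, s ∉ Algebra.adjoin (EGA41.pPowerSubalgebra p k K) (Set.range x) := by
    by_contra h
    push Not at h
    exact hne (eq_top_iff.mpr fun b _ => h b)
  obtain ⟨B₁, -, hB₁sub, hB₁ind, hB₁gen⟩ := exists_pIndependent_adjoin p (Set.range x) ∅
    (Set.empty_subset _) (pIndependent_of_isEmpty (k := k) p _)
  have hFle : Algebra.adjoin (EGA41.pPowerSubalgebra p k K) (Set.range x) ≤
      Algebra.adjoin (EGA41.pPowerSubalgebra p k K) (Set.range (Subtype.val : B₁ → K)) :=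
    Algebra.adjoin_le hB₁gen
  have hs₁ : s ∉ Algebra.adjoin (EGA41.pPowerSubalgebra p k K)
      (Set.range (Subtype.val : B₁ → K)) := by
    intro h
    apply hs
    refine Algebra.adjoin_mono ?_ h
    rintro _ ⟨t, rfl⟩
    exact hB₁sub t.2
  have hins := pIndependent_insert p hB₁ind s hs₁
  have hS : EGA41.IsPGenerating p k (Subtype.val : ↥(Set.univ : Set K) → K) :=
    (adjoin_eq_top_iff_pGenerating p _).mp
      (eq_top_iff.mpr fun b _ => Algebra.subset_adjoin ⟨⟨b, trivial⟩, rfl⟩)
  obtain ⟨B, hB₁B, -, hB⟩ := Groth.Agent.S2467.result p Set.univ (insert s B₁)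
    (Set.subset_univ _) hS hins
  obtain ⟨D₀, hD₀⟩ := exists_derivation_of_pBasis p (Subtype.val : B → K) hB (L := K)
    (fun t => if t.1 = s then 1 else 0)
  have hD₀s : D₀ s = 1 := by
    have := hD₀ ⟨s, hB₁B (Set.mem_insert s B₁)⟩
    simpa using this
  have hD₀B₁ : ∀ t : B₁, D₀ t.1 = 0 := by
    intro t
    have hts : t.1 ≠ s := by
      intro h
      exact hs₁ (h ▸ Algebra.subset_adjoin ⟨t, rfl⟩)
    have := hD₀ ⟨t.1, hB₁B (Set.mem_insert_of_mem s t.2)⟩
    simpa [hts] using this
  have hD₀x : ∀ i, D₀ (x i) = 0 := fun i =>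
    derivation_eq_zero_of_mem_adjoin p (Subtype.val : B₁ → K) D₀ hD₀B₁ (x i)
      (hFle (Algebra.subset_adjoin ⟨i, rfl⟩))
  have hl : D₀.liftKaehlerDifferential = 0 := by
    apply LinearMap.ext_on hx
    rintro _ ⟨i, rfl⟩
    rw [Derivation.liftKaehlerDifferential_comp_D, hD₀x, LinearMap.zero_apply]
  have : D₀ s = 0 := by
    rw [← Derivation.liftKaehlerDifferential_comp_D D₀ s, hl, LinearMap.zero_apply]
  rw [hD₀s] at this
  exact one_ne_zero this


/-- Let k ⊆ K be fields of characteristic p > 0 and (x_α) a family of elements of K. Then (x_α) is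
p-free over k if and only if the d_{K/k} x_α are linearly independent over K; it is a system of
p-generators of K over k if and only if the d x_α span Ω_{K/k}; and it is a p-basis if and only if
the d x_α form a basis of Ω_{K/k} (stated as the existence of a K-basis of Ω_{K/k} indexed by the
same index set whose members are the d x_α). (With the empty family the second equivalence
specializes to: Ω_{K/k} = 0 iff K = k(K^p).) -/
theorem result (p : ℕ) [Fact p.Prime] {k K : Type u} [Field k] [Field K] [Algebra k K] [CharP K p]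
    {ι : Type u} (x : ι → K) :
    (EGA41.IsPIndependent p k x ↔ LinearIndependent K (fun i => KaehlerDifferential.D k K (x i))) ∧
    (EGA41.IsPGenerating p k x ↔ Submodule.span K (Set.range fun i => KaehlerDifferential.D k K (x i)) = ⊤) ∧
    (EGA41.IsPBasis p k x ↔ ∃ b : Module.Basis ι K (Ω[K⁄k]), ∀ i, b i = KaehlerDifferential.D k K (x i)) := by
  refine ⟨⟨indep_of_pIndependent p x, pIndependent_of_indep p x⟩,
    ⟨span_D_eq_top_of_pGenerating p x, pGenerating_of_span p x⟩, ⟨?_, ?_⟩⟩
  · intro hx
    exact Groth.Agent.S2466.result p x hx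
  · rintro ⟨b, hb⟩
    have hfun : ⇑b = fun i => KaehlerDifferential.D k K (x i) := funext hb
    refine ⟨pIndependent_of_indep p x ?_, pGenerating_of_span p x ?_⟩
    · have := b.linearIndependent
      rwa [hfun] at this
    · have := b.span_eq
      rwa [hfun] at this

end Groth.Agent.S2468
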