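import Groth.Statements.S4628
-- import your own Groth.Agent.* helpers here

set_option autoImplicit false
open CategoryTheory AlgebraicGeometry
universe u
open FBase

namespace Groth.Agent.S4628

open CategoryTheory.Limits TensorProduct

/-- Precomposing a geometrically reduced morphism with an open immersion stays geometrically
reduced. -/
lemma geometricallyReduced_openImmersion_comp {U X Y : Scheme.{u}} (j : U ⟶ X) (f : X ⟶ Y)
    [IsOpenImmersion j] [GeometricallyReduced f] : GeometricallyReduced (j ≫ f) := by
  refine ⟨geometrically_iff_of_isClosedUnderIsomorphisms.mpr fun K _ x ↦ ?_⟩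
  let i : pullback (j ≫ f) x ⟶ pullback f x :=
    pullback.map _ _ _ _ j (𝟙 _) (𝟙 _) (by simp) (by simp)
  have : AlgebraicGeometry.IsReduced (pullback f x) :=
    GeometricallyReduced.geometrically_isReduced _ _ _ (.of_hasPullback _ _)
  exact isReduced_of_isOpenImmersion i

/-- Affine core: if `Spec C → Spec k` is geometrically reduced and `A` is a reduced `k`-algebra then
`C ⊗[k] A` is reduced. -/
lemma isReduced_tensorProduct_of_geometricallyReduced {k : Type u} [Field k]
    (C A : Type u) [CommRing C] [CommRing A] [Algebra k C] [Algebra k A]
    [GeometricallyReduced (Spec.map (CommRingCat.ofHom (algebraMap k C)))]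
    [_root_.IsReduced A] : _root_.IsReduced (C ⊗[k] A) := by
  apply IsReduced.tensorProduct_of_flat_of_forall_fg
  intro B hB
  have : Algebra.FiniteType k B := ⟨by rwa [← Subalgebra.fg_top] at hB⟩
  have : IsNoetherianRing B := Algebra.FiniteType.isNoetherianRing k B
  have : _root_.IsReduced B := isReduced_of_injective B.val Subtype.val_injective
  have hred : AlgebraicGeometry.IsReduced
      (pullback (Spec.map (CommRingCat.ofHom (algebraMap k C)))
        (Spec.map (CommRingCat.ofHom (algebraMap k B)))) := inferInstance
  have : AlgebraicGeometry.IsReduced (Spec (.of (C ⊗[k] B))) :=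
    isReduced_of_isOpenImmersion (pullbackSpecIso k C B).inv
  exact (affine_isReduced_iff (.of (C ⊗[k] B))).mp this

/-- Affine case in scheme language. -/
lemma isReduced_pullback_Spec {k : Type u} [Field k] (R A : CommRingCat.{u})
    (p : Spec R ⟶ Spec (CommRingCat.of k)) (q : Spec A ⟶ Spec (CommRingCat.of k))
    [GeometricallyReduced p] [AlgebraicGeometry.IsReduced (Spec A)] :
    AlgebraicGeometry.IsReduced (pullback p q) := by
  obtain ⟨φ, rfl⟩ := Spec.map_surjective p
  obtain ⟨ψ, rfl⟩ := Spec.map_surjective q
  algebraize [φ.hom, ψ.hom]
  have hA : _root_.IsReduced A := (affine_isReduced_iff A).mp inferInstance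
  have : GeometricallyReduced (Spec.map (CommRingCat.ofHom (algebraMap k R))) := ‹_›
  have h := isReduced_tensorProduct_of_geometricallyReduced (k := k) R A
  have : AlgebraicGeometry.IsReduced (Spec (.of (R ⊗[k] A))) :=
    (affine_isReduced_iff (.of (R ⊗[k] A))).mpr h
  exact isReduced_of_isOpenImmersion (pullbackSpecIso k R A).hom

open CategoryTheory.Limits in
/-- Let X be a scheme over a field k which is geometrically reduced (X ⊗_k K is reduced for every
extension field K of k), and let S be any reduced scheme over k. Then the product X ×_k S is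
reduced. (No Noetherian or finiteness assumption on S.) -/
theorem result {k : Type u} [Field k] {X S : Scheme.{u}}
    (f : X ⟶ Spec (CommRingCat.of k)) (g : S ⟶ Spec (CommRingCat.of k)) [GeometricallyReduced f]
    [AlgebraicGeometry.IsReduced S] : AlgebraicGeometry.IsReduced (pullback f g) := by
  apply +allowSynthFailures @IsReduced.of_openCover
    (𝒰 := Scheme.Pullback.openCoverOfLeftRight X.affineOpenCover.openCover
      S.affineOpenCover.openCover f g)
  rintro ⟨i, j⟩
  have hi : IsOpenImmersion (X.affineOpenCover.openCover.f i) :=
    X.affineOpenCover.openCover.map_prop i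
  have hj : IsOpenImmersion (S.affineOpenCover.openCover.f j) :=
    S.affineOpenCover.openCover.map_prop j
  have h1 : GeometricallyReduced (X.affineOpenCover.openCover.f i ≫ f) :=
    @geometricallyReduced_openImmersion_comp _ _ _ _ _ hi _
  have h2 : AlgebraicGeometry.IsReduced (Spec (S.affineOpenCover.X j)) :=
    @isReduced_of_isOpenImmersion _ _ (S.affineOpenCover.openCover.f j) hj _
  exact @isReduced_pullback_Spec _ _ (X.affineOpenCover.X i) (S.affineOpenCover.X j)
    (X.affineOpenCover.openCover.f i ≫ f) (S.affineOpenCover.openCover.f j ≫ g) h1 h2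

end Groth.Agent.S4628
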