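import Groth.Statements.S4541
-- import your own Groth.Agent.* helpers here
import Groth.Agent.Lib.Helper31.PBasis
import Mathlib.FieldTheory.Perfect
import Mathlib.RingTheory.Smooth.Basic
import Mathlib.Algebra.CharP.Reduced

set_option autoImplicit false
universe u
open EGA41

namespace Groth.Agent.S4541

open Groth.Agent.Lib.Helper31.PBasis

section Helpers

variable (p : ℕ) [Fact p.Prime] {A B : Type u} [CommRing A] [CharP A p] [PerfectRing A p]
  [CommRing B] [Algebra A B] [CharP B p] [IsReduced B]

omit [IsReduced B] in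
/-- every element of `A[B^p]` is a `p`-th power when `A` is perfect -/
theorem exists_pow_eq (a : pPowerSubalgebra p A B) : ∃ b : B, b ^ p = (a : B) := by
  obtain ⟨a, ha⟩ := a
  change ∃ b : B, b ^ p = a
  induction ha using Algebra.adjoin_induction with
  | mem b hb =>
    obtain ⟨c, rfl⟩ := hb
    exact ⟨c, rfl⟩
  | algebraMap r =>
    exact ⟨algebraMap A B ((frobeniusEquiv A p).symm r), by
      rw [← map_pow, frobeniusEquiv_symm_pow_p]⟩
  | add b c _ _ hb hc =>
    obtain ⟨b', hb'⟩ := hb
    obtain ⟨c', hc'⟩ := hc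
    exact ⟨b' + c', by rw [add_pow_char, hb', hc']⟩
  | mul b c _ _ hb hc =>
    obtain ⟨b', hb'⟩ := hb
    obtain ⟨c', hc'⟩ := hc
    exact ⟨b' * c', by rw [mul_pow, hb', hc']⟩

omit [CharP A p] [PerfectRing A p] [Algebra A B] in
theorem pow_inj {b c : B} (h : b ^ p = c ^ p) : b = c :=
  frobenius_inj B p h

/-- the `p`-th root map `A[B^p] → B` -/
noncomputable def root (a : pPowerSubalgebra p A B) : B := Classical.choose (exists_pow_eq p a)

theorem root_pow (a : pPowerSubalgebra p A B) : root p a ^ p = (a : B) :=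
  Classical.choose_spec (exists_pow_eq p a)

theorem root_eq {a : pPowerSubalgebra p A B} {b : B} (h : b ^ p = (a : B)) : root p a = b :=
  pow_inj p ((root_pow p a).trans h.symm)

omit [PerfectRing A p] [CharP B p] [IsReduced B] in
/-- in an `A`-algebra `D`, two lifts of the same element along a map with `(ker π)^p = 0` have the
same `p`-th power -/
theorem pow_eq_of_map_eq {D E' : Type u} [CommRing D] [CommRing E'] [Algebra A D] [Algebra A E']
    (π : D →ₐ[A] E') (hK : RingHom.ker π ^ p = ⊥) {d d' : D} (h : π d = π d') :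
    d ^ p = d' ^ p := by
  rcases subsingleton_or_nontrivial D with hD | hD
  · exact Subsingleton.elim _ _
  · have hp0 : (p : D) = 0 := by
      rw [← map_natCast (algebraMap A D), CharP.cast_eq_zero, map_zero]
    have : CharP D p := (CharP.charP_iff_prime_eq_zero (Fact.out : p.Prime)).mpr hp0
    have h1 : d - d' ∈ RingHom.ker π := by
      rw [RingHom.mem_ker, map_sub, h, sub_self]
    have h2 : (d - d') ^ p ∈ RingHom.ker π ^ p := Ideal.pow_mem_pow h1 p
    rw [hK, Ideal.mem_bot, sub_pow_char, sub_eq_zero] at h2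
    exact h2

theorem add_pow_of_natCast_eq_zero {D : Type u} [CommRing D] (h : (p : D) = 0) (a b : D) :
    (a + b) ^ p = a ^ p + b ^ p := by
  rcases subsingleton_or_nontrivial D with hD | hD
  · exact Subsingleton.elim _ _
  · have : CharP D p := (CharP.charP_iff_prime_eq_zero (Fact.out : p.Prime)).mpr h
    exact add_pow_char a b p

/-- the `p`-th root map as a ring homomorphism -/
noncomputable def rootHom : pPowerSubalgebra p A B →+* B where
  toFun := root p
  map_one' := root_eq p (by simp)
  map_mul' a b := root_eq p (by rw [mul_pow, root_pow, root_pow]; rfl)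
  map_zero' := root_eq p (by simp [(Fact.out : p.Prime).ne_zero])
  map_add' a b := root_eq p (by rw [add_pow_char, root_pow, root_pow]; rfl)

theorem base_case {ι : Type u} (x : ι → B) (hx : EGA41.IsPBasis p A x)
    {D E' : Type u} [CommRing D] [CommRing E'] [Algebra A D] [Algebra A E']
    (π : D →ₐ[A] E') (hπ : Function.Surjective π) (hK : RingHom.ker π ^ p = ⊥)
    (v : B →ₐ[A] E') (z : ι → D) (hz : ∀ i, π (z i) = v (x i)) :
    ∃! w : B →ₐ[A] D, π.comp w = v ∧ ∀ i, w (x i) = z i := by
  have hp0 : (p : D) = 0 := by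
    rw [← map_natCast (algebraMap A D), CharP.cast_eq_zero, map_zero]
  have hψ : ∀ (b : B) (d : D), π d = v b → (Function.surjInv hπ (v b)) ^ p = d ^ p := by
    intro b d hd
    exact pow_eq_of_map_eq p π hK ((Function.surjInv_eq hπ (v b)).trans hd.symm)
  let ψ : B →+* D :=
    { toFun := fun b => (Function.surjInv hπ (v b)) ^ p
      map_one' := by rw [hψ 1 1 (by simp), one_pow]
      map_mul' := fun b c => by
        rw [hψ (b * c) (Function.surjInv hπ (v b) * Function.surjInv hπ (v c))
          (by rw [map_mul, Function.surjInv_eq hπ, Function.surjInv_eq hπ, map_mul]), mul_pow]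
      map_zero' := by rw [hψ 0 0 (by simp), zero_pow (Fact.out : p.Prime).ne_zero]
      map_add' := fun b c => by
        rw [hψ (b + c) (Function.surjInv hπ (v b) + Function.surjInv hπ (v c))
          (by rw [map_add, Function.surjInv_eq hπ, Function.surjInv_eq hπ, map_add]),
          add_pow_of_natCast_eq_zero p hp0] }
  have hψ' : ∀ (b : B) (d : D), π d = v b → ψ b = d ^ p := hψ
  have hπψ : ∀ b, π (ψ b) = v b ^ p := by
    intro b
    change π ((Function.surjInv hπ (v b)) ^ p) = _
    rw [map_pow, Function.surjInv_eq hπ]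
  let φ : pPowerSubalgebra p A B →+* D := ψ.comp (rootHom p)
  have hφ : ∀ a, φ a = ψ (root p a) := fun a => rfl
  obtain ⟨w, hw1, hw2⟩ := exists_ringHom (Fact.out : p.Prime).pos hx φ z (by
    intro i
    rw [hφ, root_eq p (b := x i) rfl, hψ' (x i) (z i) (hz i)])
  have hwA : ∀ a : A, w (algebraMap A B a) = algebraMap A D a := by
    intro a
    have h1 : algebraMap A B a = algebraMap (pPowerSubalgebra p A B) B
        ⟨algebraMap A B a, Subalgebra.algebraMap_mem _ a⟩ := rfl
    rw [h1, hw1, hφ, root_eq p (b := algebraMap A B ((frobeniusEquiv A p).symm a))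
      (by rw [← map_pow, frobeniusEquiv_symm_pow_p]),
      hψ' _ (algebraMap A D ((frobeniusEquiv A p).symm a)) (by rw [AlgHom.commutes, AlgHom.commutes]),
      ← map_pow, frobeniusEquiv_symm_pow_p]
  let wA : B →ₐ[A] D := { w with commutes' := hwA }
  have hwA' : ∀ b, wA b = w b := fun b => rfl
  have hcomp : π.comp wA = v := by
    have h2 : (π.toRingHom.comp w) = v.toRingHom := by
      refine ringHom_ext hx _ _ (fun a => ?_) (fun i => ?_)
      · change π (w (algebraMap _ B a)) = v (a : B)
        rw [hw1, hφ, hπψ, ← map_pow, root_pow]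
      · change π (w (x i)) = v (x i)
        rw [hw2, hz]
    ext b
    exact congr($h2 b)
  refine ⟨wA, ⟨hcomp, hw2⟩, ?_⟩
  rintro w' ⟨hw'1, hw'2⟩
  have h3 : w'.toRingHom = wA.toRingHom := by
    refine ringHom_ext hx _ _ (fun a => ?_) (fun i => ?_)
    · change w' (a : B) = wA (a : B)
      rw [← root_pow p a, map_pow, map_pow]
      apply pow_eq_of_map_eq p π hK
      have e1 := congr($hw'1 (root p a))
      have e2 := congr($hcomp (root p a))
      simp only [AlgHom.comp_apply] at e1 e2
      rw [e1, e2]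
    · change w' (x i) = wA (x i)
      rw [hw'2, hwA', hw2]
  ext b
  exact congr($h3 b)

theorem general_case {ι : Type u} (x : ι → B) (hx : EGA41.IsPBasis p A x) (n : ℕ) :
    ∀ {D E' : Type u} [CommRing D] [CommRing E'] [Algebra A D] [Algebra A E']
    (π : D →ₐ[A] E') (_ : Function.Surjective π) (_ : RingHom.ker π ^ (p ^ n) = ⊥)
    (v : B →ₐ[A] E') (z : ι → D) (_ : ∀ i, π (z i) = v (x i)),
    ∃! w : B →ₐ[A] D, π.comp w = v ∧ ∀ i, w (x i) = z i := by
  have hpne : p ≠ 0 := (Fact.out : p.Prime).ne_zero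
  induction n with
  | zero =>
    intro D E' _ _ _ _ π hπ hK v z hz
    apply base_case p x hx π hπ _ v z hz
    rw [pow_zero, pow_one] at hK
    rw [hK]
    exact Ideal.bot_pow hpne
  | succ n ih =>
    intro D E' _ _ _ _ π hπ hK v z hz
    have hKp : ∀ a ∈ RingHom.ker π ^ p, π a = 0 := fun a ha => Ideal.pow_le_self hpne ha
    have hπ₂π₁ : (Ideal.Quotient.liftₐ (RingHom.ker π ^ p) π hKp).comp
        (Ideal.Quotient.mkₐ A (RingHom.ker π ^ p)) = π := by
      ext; rfl
    have hK₂ : RingHom.ker (Ideal.Quotient.liftₐ (RingHom.ker π ^ p) π hKp) ^ p = ⊥ := by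
      have h1 : RingHom.ker (Ideal.Quotient.liftₐ (RingHom.ker π ^ p) π hKp) ≤
          (RingHom.ker π).map (Ideal.Quotient.mk (RingHom.ker π ^ p)) := by
        intro y hy
        obtain ⟨d, rfl⟩ := Ideal.Quotient.mk_surjective y
        exact Ideal.mem_map_of_mem _ (show d ∈ RingHom.ker π from hy)
      rw [eq_bot_iff]
      calc _ ≤ ((RingHom.ker π).map (Ideal.Quotient.mk (RingHom.ker π ^ p))) ^ p :=
            Ideal.pow_right_mono h1 p
        _ = (RingHom.ker π ^ p).map (Ideal.Quotient.mk (RingHom.ker π ^ p)) :=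
            (Ideal.map_pow _ _ _).symm
        _ = ⊥ := Ideal.map_quotient_self _
    have hK₁ : RingHom.ker (Ideal.Quotient.mkₐ A (RingHom.ker π ^ p)) ^ (p ^ n) = ⊥ := by
      have h1 : RingHom.ker (Ideal.Quotient.mkₐ A (RingHom.ker π ^ p)) = RingHom.ker π ^ p := by
        ext y; simp [RingHom.mem_ker, Ideal.Quotient.eq_zero_iff_mem]
      rw [h1, ← pow_mul, ← pow_succ']
      exact hK
    have hsurj₂ : Function.Surjective (Ideal.Quotient.liftₐ (RingHom.ker π ^ p) π hKp) := by
      intro y
      obtain ⟨d, rfl⟩ := hπ y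
      exact ⟨Ideal.Quotient.mk _ d, rfl⟩
    obtain ⟨v₁, ⟨hv₁1, hv₁2⟩, hv₁u⟩ := base_case p x hx _ hsurj₂ hK₂ v
      (fun i => Ideal.Quotient.mkₐ A (RingHom.ker π ^ p) (z i)) (fun i => hz i)
    obtain ⟨w, ⟨hw1, hw2⟩, hwu⟩ := ih (Ideal.Quotient.mkₐ A (RingHom.ker π ^ p))
      (Ideal.Quotient.mkₐ_surjective A _) hK₁ v₁ z (fun i => (hv₁2 i).symm)
    refine ⟨w, ⟨by rw [← hπ₂π₁, AlgHom.comp_assoc, hw1, hv₁1], hw2⟩, ?_⟩
    rintro w' ⟨hw'1, hw'2⟩
    apply hwu
    refine ⟨?_, hw'2⟩
    apply hv₁u
    exact ⟨by rw [← AlgHom.comp_assoc, hπ₂π₁, hw'1], fun i => by rw [AlgHom.comp_apply, hw'2]⟩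

end Helpers

/-- Let p be a prime, A a perfect ring of characteristic p and B a reduced A-algebra of characteristic p
which admits a p-basis (x_α) over A. Then B is a formally smooth A-algebra (discrete topologies);
more precisely, for every A-algebra E, every nilpotent ideal R of E, every A-algebra homomorphism v
: B → E/R and every family (z_α) of elements of E lifting the v(x_α), there is a unique A-algebra
homomorphism w : B → E lifting v with w(x_α) = z_α for all α. (The published statement assumes,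
instead of A perfect and B reduced, that the canonical map A^(p) ⊗_A B → B^(p), a ⊗ b ↦ a b^p with
Frobenius-twisted structures, is injective; when A is perfect that condition says exactly that B is
reduced, which is the case stated here. The published statement also treats admissible topological
E; only discrete E is stated.) -/
theorem result (p : ℕ) [Fact p.Prime] {A B : Type u} [CommRing A] [CharP A p]
    [PerfectRing A p] [CommRing B] [Algebra A B] [CharP B p] [IsReduced B]
    {ι : Type u} (x : ι → B) (hx : EGA41.IsPBasis p A x) :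
    Algebra.FormallySmooth A B ∧
    ∀ (E : Type u) [CommRing E] [Algebra A E] (R : Ideal E), IsNilpotent R →
      ∀ (v : B →ₐ[A] E ⧸ R) (z : ι → E), (∀ i, Ideal.Quotient.mk R (z i) = v (x i)) →
        ∃! w : B →ₐ[A] E, (Ideal.Quotient.mkₐ A R).comp w = v ∧ ∀ i, w (x i) = z i := by
  have hp : p.Prime := Fact.out
  have key : ∀ (E : Type u) [CommRing E] [Algebra A E] (R : Ideal E), IsNilpotent R →
      ∀ (v : B →ₐ[A] E ⧸ R) (z : ι → E), (∀ i, Ideal.Quotient.mk R (z i) = v (x i)) →
        ∃! w : B →ₐ[A] E, (Ideal.Quotient.mkₐ A R).comp w = v ∧ ∀ i, w (x i) = z i := by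
    intro E _ _ R hR v z hz
    obtain ⟨N, hN⟩ := hR
    have hker : RingHom.ker (Ideal.Quotient.mkₐ A R) = R := by
      ext y; simp [RingHom.mem_ker, Ideal.Quotient.eq_zero_iff_mem]
    refine general_case p x hx N (Ideal.Quotient.mkₐ A R) (Ideal.Quotient.mkₐ_surjective A R) ?_
      v z hz
    rw [hker, eq_bot_iff, ← Ideal.zero_eq_bot, ← hN]
    exact Ideal.pow_le_pow_right (Nat.lt_pow_self hp.one_lt).le
  refine ⟨?_, key⟩
  refine Algebra.FormallySmooth.of_comp_surjective fun E _ _ I hI v => ?_
  obtain ⟨w, ⟨hw, -⟩, -⟩ := key E I ⟨2, hI⟩ v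
    (fun i => Function.surjInv Ideal.Quotient.mk_surjective (v (x i)))
    (fun i => Function.surjInv_eq _ _)
  exact ⟨w, hw⟩

end Groth.Agent.S4541
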