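import Groth.Statements.S9455
import Mathlib
import Groth.Agent.Lib.Helper96.SmoothNilp
import Groth.Agent.Lib.Helper96.ZModFlat
import Groth.Agent.S4541
import Groth.Agent.S2467
import Groth.Agent.S2468
import Groth.Agent.Lib.Helper13.PBasis

set_option autoImplicit false
universe u
open CAlg

namespace Groth.Agent.S9455

open Groth.Agent.Lib.Helper96

/-- A field of characteristic `p` is formally smooth over (a universe lift of) `𝔽_p`:
it has a `p`-basis (S2467) and `𝔽_p` is perfect (S4541). -/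
theorem formallySmooth_ulift_zmod (p : ℕ) [Fact p.Prime] (k : Type u) [Field k] [CharP k p]
    [Algebra (ULift.{u} (ZMod p)) k] : Algebra.FormallySmooth (ULift.{u} (ZMod p)) k := by
  haveI : ExpChar (ULift.{u} (ZMod p)) p := ExpChar.prime Fact.out
  haveI : PerfectRing (ULift.{u} (ZMod p)) p := PerfectRing.ofFiniteOfIsReduced p _
  have hS : EGA41.IsPGenerating p (ULift.{u} (ZMod p))
      (Subtype.val : ↥(Set.univ : Set k) → k) :=
    (Groth.Agent.Lib.Helper13.PBasis.adjoin_eq_top_iff_pGenerating p _).mp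
      (eq_top_iff.mpr fun b _ => Algebra.subset_adjoin ⟨⟨b, trivial⟩, rfl⟩)
  obtain ⟨B, -, -, hB⟩ := Groth.Agent.S2467.result p Set.univ (∅ : Set k) (Set.empty_subset _) hS
    (Groth.Agent.S2468.pIndependent_of_isEmpty (k := ULift.{u} (ZMod p)) p _)
  exact (Groth.Agent.S4541.result p (Subtype.val : B → k) hB).1

theorem charZero_of_dvr (Λ : Type u) [CommRing Λ] [IsDomain Λ]
    [IsDiscreteValuationRing Λ] (p : ℕ)
    (hp : p.Prime) (hm : IsLocalRing.maximalIdeal Λ = Ideal.span {(p : Λ)}) : CharZero Λ := by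
  have hpne : (p : Λ) ≠ 0 := by
    intro h0
    have : IsLocalRing.maximalIdeal Λ = ⊥ := by
      rw [hm, h0]; exact Ideal.span_singleton_eq_bot.mpr rfl
    exact IsDiscreteValuationRing.not_a_field Λ this
  have hpm : (p : Λ) ∈ IsLocalRing.maximalIdeal Λ := by
    rw [hm]; exact Ideal.mem_span_singleton_self _
  obtain ⟨q, hq⟩ := CharP.exists Λ
  rcases CharP.char_is_prime_or_zero Λ q with hq' | rfl
  · exfalso
    by_cases hqp : q = p
    · subst hqp
      exact hpne (CharP.cast_eq_zero Λ q)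
    · have hcop : Nat.Coprime q p := (Nat.coprime_primes hq' hp).mpr hqp
      have h1 : ((q.gcdA p : ℤ) : Λ) * (q : Λ) + ((q.gcdB p : ℤ) : Λ) * (p : Λ) = 1 := by
        have := congrArg (fun z : ℤ => (z : Λ)) (Nat.gcd_eq_gcd_ab q p)
        simp only [hcop.gcd_eq_one] at this
        push_cast at this
        rw [this]; ring
      rw [CharP.cast_eq_zero Λ q, mul_zero, zero_add] at h1
      have hu : IsUnit (p : Λ) := IsUnit.of_mul_eq_one _ (by rw [mul_comm]; exact h1)
      exact (IsLocalRing.mem_maximalIdeal _).mp hpm hu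
  · exact CharP.charP_to_charZero Λ

/-- If Λ is a Cohen ring (a complete discrete valuation ring with maximal ideal generated by a prime
number p) then Λ/p^nΛ is formally smooth over ℤ/p^nℤ for every n ≥ 1; the ℤ/p^nℤ-algebra structure
on Λ/p^nΛ is the unique one and is taken as a hypothesis. -/
theorem result (Λ : Type u) [CommRing Λ] [IsDomain Λ]
    [IsDiscreteValuationRing Λ] [IsAdicComplete (IsLocalRing.maximalIdeal Λ) Λ] (p : ℕ)
    (hp : p.Prime) (hm : IsLocalRing.maximalIdeal Λ = Ideal.span {(p : Λ)}) (n : ℕ) (hn : 1 ≤ n)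
    [Algebra (ZMod (p ^ n)) (Λ ⧸ Ideal.span {((p : Λ) ^ n)})] :
    Algebra.FormallySmooth (ZMod (p ^ n)) (Λ ⧸ Ideal.span {((p : Λ) ^ n)}) := by
  haveI : Fact p.Prime := ⟨hp⟩
  haveI : CharZero Λ := charZero_of_dvr Λ p hp hm
  have hn0 : n ≠ 0 := by omega
  have hI : Ideal.span {((p : Λ) ^ n)} = Ideal.span {((p ^ n : ℕ) : Λ)} := by rw [Nat.cast_pow]
  have hpm : (p : Λ) ∈ IsLocalRing.maximalIdeal Λ := by
    rw [hm]; exact Ideal.mem_span_singleton_self _
  have hmax : (Ideal.span {(p : Λ)}).IsMaximal := hm ▸ IsLocalRing.maximalIdeal.isMaximal Λ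
  letI : Field (Λ ⧸ Ideal.span {(p : Λ)}) := Ideal.Quotient.field _
  haveI : CharP (Λ ⧸ Ideal.span {(p : Λ)}) p :=
    CharP.quotient Λ p ((IsLocalRing.mem_maximalIdeal _).mp hpm)
  have hle : Ideal.span {((p : Λ) ^ n)} ≤ Ideal.span {(p : Λ)} := by
    rw [Ideal.span_singleton_le_span_singleton]
    exact dvd_pow_self _ hn0
  have flat : (algebraMap (ZMod (p ^ n)) (Λ ⧸ Ideal.span {((p : Λ) ^ n)})).Flat :=
    RingHom.flat_algebraMap_iff.mpr (flat_zmod_quotient (p ^ n) _ hI)
  have hkerR : RingHom.ker ((ULift.ringEquiv.{0, u}.symm.toRingHom).comp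
      (ZMod.castHom (dvd_pow_self p hn0) (ZMod p))) = Ideal.span {(p : ZMod (p ^ n))} := by
    rw [← ker_zmod_castHom (dvd_pow_self p hn0)]
    ext x
    simp [RingHom.mem_ker]
  refine RingHom.formallySmooth_algebraMap.mp
    (formallySmooth_of_flat_of_nilpotent n
      (algebraMap (ZMod (p ^ n)) (Λ ⧸ Ideal.span {((p : Λ) ^ n)})) flat
      ((ULift.ringEquiv.{0, u}.symm.toRingHom).comp (ZMod.castHom (dvd_pow_self p hn0) (ZMod p)))
      (Ideal.Quotient.factor hle)
      ((ZMod.castHom (dvd_refl p) (Λ ⧸ Ideal.span {(p : Λ)})).comp ULift.ringEquiv.toRingHom)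
      ?_ (Ideal.Quotient.factor_surjective hle) (Subsingleton.elim _ _) ?_ ?_ ?_)
  · exact (ULift.ringEquiv.symm.surjective).comp (ZMod.castHom_surjective _)
  · rw [hkerR, Ideal.span_singleton_pow, ← Nat.cast_pow, ZMod.natCast_self]
    exact Ideal.span_singleton_eq_bot.mpr rfl
  · rw [hkerR, ker_lift_eq_map (Ideal.Quotient.mk (Ideal.span {((p : Λ) ^ n)}))
      Ideal.Quotient.mk_surjective (Ideal.Quotient.factor hle)
      (Ideal.Quotient.mk (Ideal.span {(p : Λ)})) (Ideal.Quotient.factor_comp_mk hle),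
      Ideal.mk_ker, Ideal.map_span, Ideal.map_span, Set.image_singleton, Set.image_singleton,
      map_natCast, map_natCast]
  · letI : Algebra (ULift.{u} (ZMod p)) (Λ ⧸ Ideal.span {(p : Λ)}) :=
      ((ZMod.castHom (dvd_refl p) (Λ ⧸ Ideal.span {(p : Λ)})).comp
        ULift.ringEquiv.toRingHom).toAlgebra
    exact formallySmooth_ulift_zmod p (Λ ⧸ Ideal.span {(p : Λ)})

end Groth.Agent.S9455
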