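import Groth.Statements.S0560
import Mathlib.RingTheory.KrullDimension.Regular
-- import your own Groth.Agent.* helpers here

set_option autoImplicit false
universe u
open CAlg

namespace Groth.Agent.S0560


open IsLocalRing in
/-- The maximal ideal of `R` needs at most one more generator than that of `R ⧸ (x)`. -/
theorem spanFinrank_maximalIdeal_le_succ (R : Type u) [CommRing R] [IsLocalRing R]
    [IsNoetherianRing R] (x : R) (hx : x ∈ maximalIdeal R)
    [IsLocalRing (R ⧸ Ideal.span ({x} : Set R))] :
    (maximalIdeal R).spanFinrank ≤
      (maximalIdeal (R ⧸ Ideal.span ({x} : Set R))).spanFinrank + 1 := by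
  classical
  set π := Ideal.Quotient.mk (Ideal.span ({x} : Set R)) with hπ
  have hπs : Function.Surjective π := Ideal.Quotient.mk_surjective
  have hfg : (maximalIdeal (R ⧸ Ideal.span ({x} : Set R))).FG :=
    (maximalIdeal _).fg_of_isNoetherianRing
  obtain ⟨s', hcard, hspan⟩ := Submodule.FG.exists_span_finset_card_eq_spanFinrank hfg
  let t : Finset R := s'.image (Function.surjInv hπs)
  have ht : t.image π = s' := by
    rw [Finset.image_image]
    conv_rhs => rw [← Finset.image_id (s := s')]
    apply Finset.image_congr
    intro a _
    simp [Function.surjInv_eq hπs a]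
  have hloc : IsLocalHom π := IsLocalHom.of_surjective π hπs
  have hcomap : (maximalIdeal (R ⧸ Ideal.span ({x} : Set R))).comap π = maximalIdeal R := by
    ext y
    simp only [Ideal.mem_comap, mem_maximalIdeal, mem_nonunits_iff]
    exact not_congr (isUnit_map_iff π y)
  have hm : maximalIdeal R = Ideal.span ((t : Set R) ∪ {x}) := by
    apply le_antisymm
    · intro y hy
      have hy' : π y ∈ maximalIdeal (R ⧸ Ideal.span ({x} : Set R)) := by
        rw [← hcomap] at hy; exact hy
      rw [← hspan, ← ht] at hy'
      have : π y ∈ Ideal.map π (Ideal.span (t : Set R)) := by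
        rw [Ideal.map_span]
        simpa using hy'
      rw [Ideal.mem_map_iff_of_surjective π hπs] at this
      obtain ⟨z, hz, hzy⟩ := this
      have hker : y - z ∈ Ideal.span ({x} : Set R) := by
        rw [← Ideal.Quotient.eq_zero_iff_mem, map_sub]
        simp [hπ] at hzy ⊢
        rw [hzy]; simp
      rw [Ideal.span_union]
      have : y = z + (y - z) := by ring
      rw [this]
      exact Ideal.add_mem _ (Ideal.mem_sup_left hz) (Ideal.mem_sup_right hker)
    · rw [Ideal.span_le]
      intro y hy
      rcases hy with hy | hy
      · rw [← hcomap]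
        change π y ∈ maximalIdeal (R ⧸ Ideal.span ({x} : Set R))
        have : π y ∈ (s' : Set (R ⧸ Ideal.span ({x} : Set R))) := by
          rw [← ht]; simp only [Finset.coe_image]; exact ⟨y, hy, rfl⟩
        rw [← hspan]
        exact Submodule.subset_span this
      · rw [Set.mem_singleton_iff] at hy; rw [hy]; exact hx
  have hfin : ((t : Set R) ∪ {x}).Finite := (Finset.finite_toSet t).union (Set.finite_singleton x)
  have h1 : (maximalIdeal R).spanFinrank ≤ ((t : Set R) ∪ {x}).ncard := by
    conv_lhs => rw [hm]
    exact Submodule.spanFinrank_span_le_ncard_of_finite hfin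
  have h2 : ((t : Set R) ∪ {x}).ncard ≤ (t : Set R).ncard + 1 := by
    refine (Set.ncard_union_le _ _).trans ?_
    simp
  have h3 : (t : Set R).ncard ≤ s'.card := by
    rw [Set.ncard_coe_finset]
    exact Finset.card_image_le
  omega

/-- Regularity of a Noetherian local ring can be checked after dividing out one nonzerodivisor lying in
the maximal ideal: if that quotient is a regular local ring, so is the original ring. -/
theorem result (R : Type u) [CommRing R] [IsLocalRing R]
    [IsNoetherianRing R] (x : R) (hx : x ∈ IsLocalRing.maximalIdeal R) (hreg : x ∈ nonZeroDivisors R)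
    [IsRegularLocalRing (R ⧸ Ideal.span ({x} : Set R))] : IsRegularLocalRing R := by
  apply IsRegularLocalRing.of_spanFinrank_maximalIdeal_le
  have hdim :=
    ringKrullDim_quotient_span_singleton_succ_eq_ringKrullDim_of_mem_nonZeroDivisors hreg hx
  rw [← hdim]
  have hR' : ((IsLocalRing.maximalIdeal (R ⧸ Ideal.span ({x} : Set R))).spanFinrank : WithBot ℕ∞) =
      ringKrullDim (R ⧸ Ideal.span ({x} : Set R)) :=
    IsRegularLocalRing.spanFinrank_maximalIdeal
  rw [← hR']
  have := spanFinrank_maximalIdeal_le_succ R x hx
  exact_mod_cast this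

end Groth.Agent.S0560
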