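import Groth.Statements.S0558
import Mathlib.RingTheory.KrullDimension.Regular
import Mathlib.RingTheory.Nakayama
import Mathlib.RingTheory.Ideal.MinimalPrime.Noetherian
-- import your own Groth.Agent.* helpers here

set_option autoImplicit false
universe u
open CAlg

namespace Groth.Agent.S0558


open IsLocalRing

/-- If `x ∈ m \ m²`, then the maximal ideal of `R ⧸ (x)` is generated by one element less. -/
theorem spanFinrank_quot_succ_le (R : Type u) [CommRing R] [IsLocalRing R]
    [IsNoetherianRing R] (x : R) (hx : x ∈ maximalIdeal R) (hx2 : x ∉ (maximalIdeal R) ^ 2)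
    [IsLocalRing (R ⧸ Ideal.span ({x} : Set R))] :
    (maximalIdeal (R ⧸ Ideal.span ({x} : Set R))).spanFinrank + 1 ≤
      (maximalIdeal R).spanFinrank := by
  classical
  set π := Ideal.Quotient.mk (Ideal.span ({x} : Set R)) with hπ
  have hπs : Function.Surjective π := Ideal.Quotient.mk_surjective
  have hfg : (maximalIdeal R).FG := (maximalIdeal R).fg_of_isNoetherianRing
  obtain ⟨s, hcard, hspan⟩ := Submodule.FG.exists_span_finset_card_eq_spanFinrank hfg
  have hxs : x ∈ Submodule.span R (s : Set R) := by rw [hspan]; exact hx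
  obtain ⟨f, hfs, hfx⟩ := Submodule.mem_span_finset.1 hxs
  -- some coefficient is a unit
  have hex : ∃ j ∈ s, IsUnit (f j) := by
    by_contra hcon
    push Not at hcon
    apply hx2
    rw [← hfx, pow_two]
    refine Ideal.sum_mem _ fun i hi => ?_
    have h1 : f i ∈ maximalIdeal R := (mem_maximalIdeal _).2 (hcon i hi)
    have h2 : i ∈ maximalIdeal R := by
      rw [← hspan]; exact Submodule.subset_span hi
    exact Ideal.mul_mem_mul h1 h2
  obtain ⟨j, hj, hju⟩ := hex
  have hcomap : (maximalIdeal (R ⧸ Ideal.span ({x} : Set R))).comap π = maximalIdeal R := by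
    have hloc : IsLocalHom π := IsLocalHom.of_surjective π hπs
    ext y
    simp only [Ideal.mem_comap, mem_maximalIdeal, mem_nonunits_iff]
    exact not_congr (isUnit_map_iff π y)
  have hmap : maximalIdeal (R ⧸ Ideal.span ({x} : Set R)) = Ideal.map π (maximalIdeal R) := by
    rw [← hcomap, Ideal.map_comap_of_surjective π hπs]
  -- π j lies in the span of the images of the other generators
  have hπx : π x = 0 := by
    rw [hπ, Ideal.Quotient.eq_zero_iff_mem]; exact Ideal.subset_span rfl
  have hsum : π (f j) * π j = - ∑ i ∈ s.erase j, π (f i) * π i := by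
    have := congrArg π hfx
    rw [map_sum, hπx, ← Finset.add_sum_erase s _ hj] at this
    simp only [smul_eq_mul, map_mul] at this
    rw [eq_neg_iff_add_eq_zero]
    exact this
  have hjmem : π j ∈ Ideal.span ((s.erase j).image π : Set (R ⧸ Ideal.span ({x} : Set R))) := by
    have hu : IsUnit (π (f j)) := hju.map π
    obtain ⟨u, hu'⟩ := hu
    have : π j = ↑u⁻¹ * (π (f j) * π j) := by
      rw [← mul_assoc, ← hu', Units.inv_mul, one_mul]
    rw [this, hsum]
    refine Ideal.mul_mem_left _ _ (neg_mem (Ideal.sum_mem _ fun i hi => ?_))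
    refine Ideal.mul_mem_left _ _ (Ideal.subset_span ?_)
    simp only [Finset.coe_image, Set.mem_image, Finset.mem_coe]
    exact ⟨i, hi, rfl⟩
  have hgen : maximalIdeal (R ⧸ Ideal.span ({x} : Set R)) =
      Ideal.span ((s.erase j).image π : Set (R ⧸ Ideal.span ({x} : Set R))) := by
    rw [hmap]
    have : maximalIdeal R = Ideal.span (s : Set R) := hspan.symm
    rw [this, Ideal.map_span]
    apply le_antisymm
    · rw [Ideal.span_le]
      rintro _ ⟨i, hi, rfl⟩
      by_cases hij : i = j
      · rw [hij]; exact hjmem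
      · apply Ideal.subset_span
        simp only [Finset.coe_image, Set.mem_image, Finset.mem_coe]
        exact ⟨i, Finset.mem_erase.2 ⟨hij, hi⟩, rfl⟩
    · apply Ideal.span_mono
      simp only [Finset.coe_image]
      exact Set.image_mono (Finset.coe_subset.2 (Finset.erase_subset _ _))
  have h1 : (maximalIdeal (R ⧸ Ideal.span ({x} : Set R))).spanFinrank ≤
      ((s.erase j).image π).card := by
    conv_lhs => rw [hgen]
    have := Submodule.spanFinrank_span_le_ncard_of_finite (R := R ⧸ Ideal.span ({x} : Set R))
      (Finset.finite_toSet ((s.erase j).image π))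
    rwa [Set.ncard_coe_finset] at this
  have h2 : ((s.erase j).image π).card ≤ (s.erase j).card := Finset.card_image_le
  have h3 : (s.erase j).card + 1 = s.card := Finset.card_erase_add_one hj
  omega

/-- The quotient of a regular local ring by `x ∈ m \ m²` is regular, of dimension one less. -/
theorem isRegularLocalRing_quot (R : Type u) [CommRing R] [IsRegularLocalRing R]
    (x : R) (hx : x ∈ maximalIdeal R) (hx2 : x ∉ (maximalIdeal R) ^ 2) :
    ∃ (_ : IsRegularLocalRing (R ⧸ Ideal.span ({x} : Set R))),
      (maximalIdeal (R ⧸ Ideal.span ({x} : Set R))).spanFinrank + 1 =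
        (maximalIdeal R).spanFinrank := by
  have hne : Ideal.span ({x} : Set R) ≠ ⊤ := by
    intro h
    have : (1 : R) ∈ maximalIdeal R := by
      have h1 : (1 : R) ∈ Ideal.span ({x} : Set R) := by rw [h]; trivial
      exact (Ideal.span_le.2 (by simpa using hx)) h1
    exact (maximalIdeal.isMaximal R).ne_top ((Ideal.eq_top_iff_one _).2 this)
  have : Nontrivial (R ⧸ Ideal.span ({x} : Set R)) := Ideal.Quotient.nontrivial_iff.2 hne
  have : IsLocalRing (R ⧸ Ideal.span ({x} : Set R)) :=
    IsLocalRing.of_surjective' (Ideal.Quotient.mk _) Ideal.Quotient.mk_surjective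
  have h1 := spanFinrank_quot_succ_le R x hx hx2
  have h2 : ringKrullDim R ≤ ringKrullDim (R ⧸ Ideal.span ({x} : Set R)) +
      (Ideal.span ({x} : Set R)).spanFinrank := by
    apply ringKrullDim_le_ringKrullDim_quotient_add_spanFinrank
    rw [IsLocalRing.ringJacobson_eq_maximalIdeal]
    exact Ideal.span_le.2 (by simpa using hx)
  have h3 : (Ideal.span ({x} : Set R)).spanFinrank ≤ 1 := by
    have := Submodule.spanFinrank_span_le_ncard_of_finite (R := R) (Set.finite_singleton x)
    simpa using this
  have h4 : ringKrullDim (R ⧸ Ideal.span ({x} : Set R)) ≤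
      (maximalIdeal (R ⧸ Ideal.span ({x} : Set R))).spanFinrank :=
    ringKrullDim_le_spanFinrank_maximalIdeal _
  have h5 : ((maximalIdeal R).spanFinrank : WithBot ℕ∞) = ringKrullDim R :=
    IsRegularLocalRing.spanFinrank_maximalIdeal
  -- combine
  obtain ⟨n, hn⟩ : ∃ n : ℕ, ringKrullDim (R ⧸ Ideal.span ({x} : Set R)) = n := by
    have hfin : ringKrullDim (R ⧸ Ideal.span ({x} : Set R)) ≠ ⊤ := ringKrullDim_ne_top
    have hbot : ringKrullDim (R ⧸ Ideal.span ({x} : Set R)) ≠ ⊥ :=
      ringKrullDim_ne_bot
    obtain ⟨m, hm⟩ := WithBot.ne_bot_iff_exists.1 hbot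
    have hm' : m ≠ ⊤ := by
      intro h; apply hfin; rw [← hm, h]; rfl
    obtain ⟨n, hn⟩ := ENat.ne_top_iff_exists.1 hm'
    exact ⟨n, by rw [← hm, ← hn]; rfl⟩
  rw [hn] at h2 h4
  rw [← h5] at h2
  have h2' : (maximalIdeal R).spanFinrank ≤ n + (Ideal.span ({x} : Set R)).spanFinrank := by
    exact_mod_cast h2
  have h4' : n ≤ (maximalIdeal (R ⧸ Ideal.span ({x} : Set R))).spanFinrank := by
    exact_mod_cast h4
  have heq : (maximalIdeal (R ⧸ Ideal.span ({x} : Set R))).spanFinrank = n := by omega
  refine ⟨⟨?_⟩, by omega⟩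
  rw [hn, heq]

theorem isDomain_aux : ∀ (d : ℕ) (R : Type u) [CommRing R] [IsRegularLocalRing R],
    (maximalIdeal R).spanFinrank = d → IsDomain R := by
  intro d
  induction d with
  | zero =>
    intro R _ _ hd
    have hfg : (maximalIdeal R).FG := (maximalIdeal R).fg_of_isNoetherianRing
    have hbot : maximalIdeal R = ⊥ := (Submodule.spanFinrank_eq_zero_iff_eq_bot hfg).1 hd
    have : IsField R := IsLocalRing.isField_iff_maximalIdeal_eq.2 hbot
    exact this.isDomain
  | succ d ih =>
    intro R _ _ hd
    classical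
    have hfg : (maximalIdeal R).FG := (maximalIdeal R).fg_of_isNoetherianRing
    have hmne : maximalIdeal R ≠ ⊥ := by
      intro h
      rw [h, Submodule.spanFinrank_bot] at hd
      omega
    have hdim : ringKrullDim R = ((d + 1 : ℕ) : WithBot ℕ∞) := by
      rw [← hd]; exact IsRegularLocalRing.spanFinrank_maximalIdeal.symm
    -- prime avoidance
    have hfin : (minimalPrimes R).Finite := minimalPrimes.finite_of_isNoetherianRing R
    let S : Finset (Ideal R) := insert ((maximalIdeal R) ^ 2) hfin.toFinset
    have havoid : ¬ ((maximalIdeal R : Set R) ⊆ ⋃ i ∈ (↑S : Set (Ideal R)), (i : Set R)) := by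
      intro hsub
      have := (Ideal.subset_union_prime (R := R) (s := S) (f := id)
        ((maximalIdeal R) ^ 2) ((maximalIdeal R) ^ 2) (by
          intro i hi hne _
          have : i ∈ hfin.toFinset := by
            rcases Finset.mem_insert.1 hi with h | h
            · exact absurd h hne
            · exact h
          exact ((Set.Finite.mem_toFinset hfin).1 this).1.1) (I := maximalIdeal R)).1 hsub
      obtain ⟨i, hi, hle⟩ := this
      rcases Finset.mem_insert.1 hi with h | h
      · -- m ≤ m²
        rw [h] at hle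
        apply hmne
        apply Submodule.eq_bot_of_le_smul_of_le_jacobson_bot (maximalIdeal R) _ hfg
        · rw [pow_two] at hle
          exact hle
        · exact IsLocalRing.maximalIdeal_le_jacobson _
      · -- m ≤ minimal prime
        have hi' : i ∈ minimalPrimes R := (Set.Finite.mem_toFinset hfin).1 h
        have := hi'.1.1
        have hmi : maximalIdeal R = i :=
          (maximalIdeal.isMaximal R).eq_of_le hi'.1.1.ne_top hle
        have hh : (maximalIdeal R).height = 0 := by
          rw [Ideal.height_eq_zero_iff, hmi]; exact hi'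
        have := IsLocalRing.maximalIdeal_height_eq_ringKrullDim (R := R)
        rw [hh, hdim] at this
        have h0 : ((0 : ℕ) : WithBot ℕ∞) = ((d + 1 : ℕ) : WithBot ℕ∞) := by exact_mod_cast this
        have : (0 : ℕ) = d + 1 := by exact_mod_cast h0
        omega
    obtain ⟨x, hxm, hxn⟩ := Set.not_subset.1 havoid
    have hx2 : x ∉ (maximalIdeal R) ^ 2 := by
      intro h
      apply hxn
      simp only [Set.mem_iUnion]
      exact ⟨(maximalIdeal R) ^ 2, Finset.mem_coe.2 (Finset.mem_insert_self _ _), h⟩
    have hxmin : ∀ p ∈ minimalPrimes R, x ∉ p := by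
      intro p hp h
      apply hxn
      simp only [Set.mem_iUnion]
      exact ⟨p, Finset.mem_coe.2 (Finset.mem_insert_of_mem ((Set.Finite.mem_toFinset hfin).2 hp)), h⟩
    obtain ⟨hreg, hrank⟩ := isRegularLocalRing_quot R x hxm hx2
    have hdom : IsDomain (R ⧸ Ideal.span ({x} : Set R)) := ih _ (by omega)
    have hprime : (Ideal.span ({x} : Set R)).IsPrime := (Ideal.Quotient.isDomain_iff_prime _).1 hdom
    obtain ⟨p, hp, hple⟩ := Ideal.exists_minimalPrimes_le (I := ⊥) (J := Ideal.span ({x} : Set R))
      bot_le
    have hpprime : p.IsPrime := hp.1.1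
    have hxp : x ∉ p := hxmin p hp
    have hpbot : p = ⊥ := by
      apply Submodule.eq_bot_of_le_smul_of_le_jacobson_bot (maximalIdeal R) p
        (p.fg_of_isNoetherianRing)
      · intro y hy
        obtain ⟨a, rfl⟩ := Ideal.mem_span_singleton'.1 (hple hy)
        have ha : a ∈ p := (hpprime.mem_or_mem hy).resolve_right hxp
        rw [mul_comm]
        exact Submodule.smul_mem_smul hxm ha
      · exact IsLocalRing.maximalIdeal_le_jacobson _
    rw [hpbot] at hpprime
    exact IsDomain.of_bot_isPrime R

/-- Every regular local ring is an integral domain. -/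
theorem result (R : Type u) [CommRing R] [IsRegularLocalRing R] :
    IsDomain R := by
  exact isDomain_aux _ R rfl

end Groth.Agent.S0558
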