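import Groth.Statements.S0559
import Groth.Agent.S0558
import Mathlib.RingTheory.Regular.RegularSequence
-- import your own Groth.Agent.* helpers here

set_option autoImplicit false
universe u
open CAlg

namespace Groth.Agent.S0559


open IsLocalRing RingTheory.Sequence Pointwise

theorem isRegular_aux : ∀ (d : ℕ) (R : Type u) [CommRing R] [IsRegularLocalRing R],
    (maximalIdeal R).spanFinrank = d → ∀ x : Fin d → R,
    Ideal.span (Set.range x) = maximalIdeal R → IsRegular R (List.ofFn x) := by
  intro d
  induction d with
  | zero =>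
    intro R _ _ _ x _
    simp only [List.ofFn_zero]
    exact IsRegular.nil R R
  | succ d ih =>
    intro R _ _ hd x hx
    classical
    have hfg : (maximalIdeal R).FG := (maximalIdeal R).fg_of_isNoetherianRing
    have hx0m : x 0 ∈ maximalIdeal R := by
      rw [← hx]; exact Ideal.subset_span ⟨0, rfl⟩
    have hx02 : x 0 ∉ (maximalIdeal R) ^ 2 := by
      intro h2
      have hle : maximalIdeal R ≤ Ideal.span (Set.range (Fin.tail x)) := by
        apply Submodule.le_of_le_smul_of_le_jacobson_bot (I := maximalIdeal R) hfg
          (IsLocalRing.maximalIdeal_le_jacobson _)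
        conv_lhs => rw [← hx]
        rw [Ideal.span_le]
        rintro _ ⟨i, rfl⟩
        refine Fin.cases ?_ (fun j => ?_) i
        · apply Submodule.mem_sup_right
          rw [pow_two] at h2
          exact h2
        · apply Submodule.mem_sup_left
          exact Ideal.subset_span ⟨j, rfl⟩
      have heq : maximalIdeal R = Ideal.span (Set.range (Fin.tail x)) := by
        apply le_antisymm hle
        rw [Ideal.span_le]
        rintro _ ⟨j, rfl⟩
        rw [← hx]; exact Ideal.subset_span ⟨j.succ, rfl⟩
      have h1 : (maximalIdeal R).spanFinrank ≤ (Set.range (Fin.tail x)).ncard := by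
        conv_lhs => rw [heq]
        exact Submodule.spanFinrank_span_le_ncard_of_finite (Set.finite_range _)
      have h2 : (Set.range (Fin.tail x)).ncard ≤ d := by
        have := Set.ncard_image_le (f := Fin.tail x) (Set.finite_univ (α := Fin d))
        rw [Set.image_univ] at this
        simpa using this
      omega
    obtain ⟨hreg, hrank⟩ := Groth.Agent.S0558.isRegularLocalRing_quot R (x 0) hx0m hx02
    have hdom : IsDomain R := Groth.Agent.S0558.result R
    have hx0ne : x 0 ≠ 0 := by
      intro h; apply hx02; rw [h]; exact Ideal.zero_mem _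
    set π := Ideal.Quotient.mk (Ideal.span ({x 0} : Set R)) with hπ
    have hπs : Function.Surjective π := Ideal.Quotient.mk_surjective
    have hcomap : (maximalIdeal (R ⧸ Ideal.span ({x 0} : Set R))).comap π = maximalIdeal R := by
      have hloc : IsLocalHom π := IsLocalHom.of_surjective π hπs
      ext y
      simp only [Ideal.mem_comap, mem_maximalIdeal, mem_nonunits_iff]
      exact not_congr (isUnit_map_iff π y)
    have hmap : maximalIdeal (R ⧸ Ideal.span ({x 0} : Set R)) = Ideal.map π (maximalIdeal R) := by
      rw [← hcomap, Ideal.map_comap_of_surjective π hπs]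
    have hπx : π (x 0) = 0 := by
      rw [hπ, Ideal.Quotient.eq_zero_iff_mem]; exact Ideal.subset_span rfl
    have hx' : Ideal.span (Set.range (π ∘ Fin.tail x)) =
        maximalIdeal (R ⧸ Ideal.span ({x 0} : Set R)) := by
      rw [hmap, ← hx, Ideal.map_span]
      apply le_antisymm
      · apply Ideal.span_mono
        rintro _ ⟨j, rfl⟩
        exact ⟨x j.succ, ⟨j.succ, rfl⟩, rfl⟩
      · rw [Ideal.span_le]
        rintro _ ⟨_, ⟨i, rfl⟩, rfl⟩
        refine Fin.cases ?_ (fun j => ?_) i
        · rw [hπx]; exact Ideal.zero_mem _
        · exact Ideal.subset_span ⟨j, rfl⟩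
    have hIH := ih (R ⧸ Ideal.span ({x 0} : Set R)) (by omega) (π ∘ Fin.tail x) hx'
    rw [List.ofFn_succ]
    rw [isRegular_cons_iff]
    refine ⟨IsSMulRegular.of_ne_zero hx0ne, ?_⟩
    have hIeq : (x 0 • (⊤ : Submodule R R)) = Ideal.span ({x 0} : Set R) := by
      simp [← Submodule.ideal_span_singleton_smul]
    let e : QuotSMulTop (x 0) R ≃+ (R ⧸ Ideal.span ({x 0} : Set R)) :=
      (Submodule.quotEquivOfEq _ _ hIeq).toAddEquiv
    have hlist : List.ofFn (π ∘ Fin.tail x) = (List.ofFn (fun i : Fin d => x i.succ)).map π := by
      rw [List.map_ofFn]; rfl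
    rw [hlist] at hIH
    refine (e.isRegular_congr ?_).2 hIH
    rw [List.forall₂_map_right_iff]
    apply List.forall₂_same.2
    intro a _ y
    obtain ⟨z, rfl⟩ := Submodule.Quotient.mk_surjective _ y
    rfl

/-- In a regular local ring of dimension `d`, any `d` elements generating the maximal ideal form a
regular sequence. -/
theorem result (R : Type u) [CommRing R]
    [IsRegularLocalRing R] (d : ℕ) (hd : ringKrullDim R = d) (x : Fin d → R)
    (hx : Ideal.span (Set.range x) = IsLocalRing.maximalIdeal R) :
    RingTheory.Sequence.IsRegular R (List.ofFn x) := by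
  apply isRegular_aux d R ?_ x hx
  have h5 : ((IsLocalRing.maximalIdeal R).spanFinrank : WithBot ℕ∞) = ringKrullDim R :=
    IsRegularLocalRing.spanFinrank_maximalIdeal
  rw [hd] at h5
  exact_mod_cast h5

end Groth.Agent.S0559
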