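import Groth.Statements.S0561
import Groth.Agent.S0558
import Mathlib.RingTheory.KrullDimension.Regular
import Mathlib.RingTheory.Nakayama
-- import your own Groth.Agent.* helpers here

set_option autoImplicit false
universe u
open CAlg

namespace Groth.Agent.S0561


open IsLocalRing

theorem comap_maximalIdeal_of_surjective {R S : Type u} [CommRing R] [CommRing S] [IsLocalRing R]
    [IsLocalRing S] (f : R →+* S) (hf : Function.Surjective f) :
    (maximalIdeal S).comap f = maximalIdeal R := by
  have hloc : IsLocalHom f := IsLocalHom.of_surjective f hf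
  ext y
  simp only [Ideal.mem_comap, mem_maximalIdeal, mem_nonunits_iff]
  exact not_congr (isUnit_map_iff f y)

theorem spanFinrank_eq_nat (R : Type u) [CommRing R] [IsRegularLocalRing R] (d : ℕ)
    (hd : ringKrullDim R = d) : (maximalIdeal R).spanFinrank = d := by
  have h5 : ((maximalIdeal R).spanFinrank : WithBot ℕ∞) = ringKrullDim R :=
    IsRegularLocalRing.spanFinrank_maximalIdeal
  rw [hd] at h5
  exact_mod_cast h5

/-- An ideal inside `m²` with regular quotient is zero. -/
theorem eq_bot_of_le_sq (R : Type u) [CommRing R] [IsRegularLocalRing R] (I : Ideal R)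
    [IsRegularLocalRing (R ⧸ I)] (hI : I ≤ (maximalIdeal R) ^ 2) : I = ⊥ := by
  classical
  by_contra hne
  have hdom : IsDomain R := Groth.Agent.S0558.result R
  obtain ⟨a, haI, ha0⟩ := Submodule.exists_mem_ne_zero_of_ne_bot hne
  have ham : a ∈ maximalIdeal R := Ideal.pow_le_self (by norm_num) (hI haI)
  have hfg : (maximalIdeal R).FG := (maximalIdeal R).fg_of_isNoetherianRing
  set π := Ideal.Quotient.mk I with hπ
  have hπs : Function.Surjective π := Ideal.Quotient.mk_surjective
  have hcomap := comap_maximalIdeal_of_surjective π hπs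
  -- (1) d ≤ n
  have hfg' : (maximalIdeal (R ⧸ I)).FG := (maximalIdeal _).fg_of_isNoetherianRing
  obtain ⟨s', hcard, hspan⟩ := Submodule.FG.exists_span_finset_card_eq_spanFinrank hfg'
  let t : Finset R := s'.image (Function.surjInv hπs)
  have ht : t.image π = s' := by
    rw [Finset.image_image]
    conv_rhs => rw [← Finset.image_id (s := s')]
    apply Finset.image_congr
    intro b _
    simp [Function.surjInv_eq hπs b]
  have htm : Ideal.span (t : Set R) ≤ maximalIdeal R := by
    rw [Ideal.span_le]
    intro y hy
    rw [← hcomap]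
    change π y ∈ maximalIdeal (R ⧸ I)
    have : π y ∈ (s' : Set (R ⧸ I)) := by
      rw [← ht]; simp only [Finset.coe_image]; exact ⟨y, hy, rfl⟩
    rw [← hspan]
    exact Submodule.subset_span this
  have hmt : maximalIdeal R ≤ Ideal.span (t : Set R) := by
    apply Submodule.le_of_le_smul_of_le_jacobson_bot (I := maximalIdeal R) hfg
      (IsLocalRing.maximalIdeal_le_jacobson _)
    intro y hy
    have hy' : π y ∈ maximalIdeal (R ⧸ I) := by
      rw [← hcomap] at hy; exact hy
    rw [← hspan, ← ht] at hy'
    have : π y ∈ Ideal.map π (Ideal.span (t : Set R)) := by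
      rw [Ideal.map_span]
      simpa using hy'
    rw [Ideal.mem_map_iff_of_surjective π hπs] at this
    obtain ⟨z, hz, hzy⟩ := this
    have hker : y - z ∈ I := by
      rw [← Ideal.Quotient.eq_zero_iff_mem, map_sub]
      simp [hπ] at hzy ⊢
      rw [hzy]; simp
    have : y = z + (y - z) := by ring
    rw [this]
    refine Submodule.add_mem _ (Submodule.mem_sup_left hz) (Submodule.mem_sup_right ?_)
    have := hI hker
    rw [pow_two] at this
    exact this
  have heq : maximalIdeal R = Ideal.span (t : Set R) := le_antisymm hmt htm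
  have h1 : (maximalIdeal R).spanFinrank ≤ (maximalIdeal (R ⧸ I)).spanFinrank := by
    have h1 : (maximalIdeal R).spanFinrank ≤ (t : Set R).ncard := by
      conv_lhs => rw [heq]
      exact Submodule.spanFinrank_span_le_ncard_of_finite (Finset.finite_toSet t)
    have h3 : (t : Set R).ncard ≤ s'.card := by
      rw [Set.ncard_coe_finset]
      exact Finset.card_image_le
    omega
  -- (2) n + 1 ≤ d
  have hle : Ideal.span ({a} : Set R) ≤ I := by
    rw [Ideal.span_le]; simpa using haI
  have h2 : ringKrullDim (R ⧸ I) ≤ ringKrullDim (R ⧸ Ideal.span ({a} : Set R)) :=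
    ringKrullDim_le_of_surjective (Ideal.Quotient.factor hle) (Ideal.Quotient.factor_surjective hle)
  have h3 := ringKrullDim_quotient_span_singleton_succ_eq_ringKrullDim_of_mem_nonZeroDivisors
    (mem_nonZeroDivisors_of_ne_zero ha0) ham
  have h4 : ((maximalIdeal R).spanFinrank : WithBot ℕ∞) = ringKrullDim R :=
    IsRegularLocalRing.spanFinrank_maximalIdeal
  have h5 : ((maximalIdeal (R ⧸ I)).spanFinrank : WithBot ℕ∞) = ringKrullDim (R ⧸ I) :=
    IsRegularLocalRing.spanFinrank_maximalIdeal
  rw [← h4] at h3
  rw [← h5] at h2
  have h6 : ((maximalIdeal (R ⧸ I)).spanFinrank : WithBot ℕ∞) + 1 ≤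
      ((maximalIdeal R).spanFinrank : WithBot ℕ∞) := by
    rw [← h3]
    gcongr
  have h7 : (maximalIdeal (R ⧸ I)).spanFinrank + 1 ≤ (maximalIdeal R).spanFinrank := by
    exact_mod_cast h6
  omega

/-- A generating family of the maximal ideal indexed by `Fin d`. -/
theorem exists_generators (R : Type u) [CommRing R] [IsLocalRing R] [IsNoetherianRing R] (d : ℕ)
    (hd : (maximalIdeal R).spanFinrank = d) :
    ∃ x : Fin d → R, Ideal.span (Set.range x) = maximalIdeal R := by
  classical
  have hfg : (maximalIdeal R).FG := (maximalIdeal R).fg_of_isNoetherianRing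
  obtain ⟨s, hcard, hspan⟩ := Submodule.FG.exists_span_finset_card_eq_spanFinrank hfg
  rw [hd] at hcard
  refine ⟨fun i => (s.equivFin.symm (Fin.cast hcard.symm i)).1, ?_⟩
  have : Set.range (fun i : Fin d => ((s.equivFin.symm (Fin.cast hcard.symm i)).1 : R)) =
      (s : Set R) := by
    ext y
    constructor
    · rintro ⟨i, rfl⟩
      exact (s.equivFin.symm (Fin.cast hcard.symm i)).2
    · intro hy
      refine ⟨Fin.cast hcard (s.equivFin ⟨y, hy⟩), ?_⟩
      simp
  rw [this]
  exact hspan

theorem aux : ∀ (d : ℕ) (R : Type u) [CommRing R] [IsRegularLocalRing R],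
    (maximalIdeal R).spanFinrank = d → ∀ (I : Ideal R) [IsRegularLocalRing (R ⧸ I)],
    ∃ (x : Fin d → R) (c : ℕ) (hc : c ≤ d), Ideal.span (Set.range x) = maximalIdeal R ∧
      I = Ideal.span (Set.range (fun i : Fin c => x (Fin.castLE hc i))) := by
  intro d
  induction d with
  | zero =>
    intro R _ _ hd I _
    have hfg : (maximalIdeal R).FG := (maximalIdeal R).fg_of_isNoetherianRing
    have hbot : maximalIdeal R = ⊥ := (Submodule.spanFinrank_eq_zero_iff_eq_bot hfg).1 hd
    have hItop : I ≠ ⊤ := by
      intro h
      have : Nontrivial (R ⧸ I) := inferInstance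
      exact (Ideal.Quotient.nontrivial_iff.1 this) h
    have hI : I = ⊥ := by
      have := IsLocalRing.le_maximalIdeal hItop
      rw [hbot] at this
      exact le_bot_iff.1 this
    refine ⟨fun i => i.elim0, 0, le_rfl, ?_, ?_⟩
    · rw [hbot]; simp
    · rw [hI]; simp
  | succ d ih =>
    intro R _ _ hd I _
    classical
    by_cases hI : I ≤ (maximalIdeal R) ^ 2
    · have hIbot := eq_bot_of_le_sq R I hI
      obtain ⟨x, hx⟩ := exists_generators R (d + 1) hd
      refine ⟨x, 0, Nat.zero_le _, hx, ?_⟩
      rw [hIbot]; simp
    · obtain ⟨a, haI, ha2⟩ := Set.not_subset.1 hI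
      have hItop : I ≠ ⊤ := by
        intro h
        have : Nontrivial (R ⧸ I) := inferInstance
        exact (Ideal.Quotient.nontrivial_iff.1 this) h
      have hIm : I ≤ maximalIdeal R := IsLocalRing.le_maximalIdeal hItop
      have ham : a ∈ maximalIdeal R := hIm haI
      set J := Ideal.span ({a} : Set R) with hJ
      obtain ⟨hreg, hrank⟩ : ∃ (_ : IsRegularLocalRing (R ⧸ J)),
          (maximalIdeal (R ⧸ J)).spanFinrank + 1 = (maximalIdeal R).spanFinrank :=
        Groth.Agent.S0558.isRegularLocalRing_quot R a ham ha2
      have hJI : J ≤ I := by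
        rw [hJ, Ideal.span_le]; simpa using haI
      set π := Ideal.Quotient.mk J with hπ
      have hπs : Function.Surjective π := Ideal.Quotient.mk_surjective
      have hker : Ideal.comap π ⊥ = J := by
        rw [← RingHom.ker_eq_comap_bot, hπ, Ideal.mk_ker]
      let e : (R ⧸ J) ⧸ I.map π ≃+* R ⧸ I := DoubleQuot.quotQuotEquivQuotOfLE hJI
      have hreg' : IsRegularLocalRing ((R ⧸ J) ⧸ I.map π) := IsRegularLocalRing.of_ringEquiv e.symm
      obtain ⟨y, c', hc', hy, hIy⟩ := ih (R ⧸ J) (by omega) (I.map π)
      -- lift
      let z : Fin d → R := fun i => Function.surjInv hπs (y i)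
      have hz : ∀ i, π (z i) = y i := fun i => Function.surjInv_eq hπs (y i)
      have hcomap := comap_maximalIdeal_of_surjective π hπs
      refine ⟨Fin.cons a z, c' + 1, Nat.succ_le_succ hc', ?_, ?_⟩
      · -- generators of m
        have h1 : Ideal.map π (Ideal.span (Set.range z)) = maximalIdeal (R ⧸ J) := by
          rw [Ideal.map_span, ← hy]
          congr 1
          ext w
          constructor
          · rintro ⟨_, ⟨i, rfl⟩, rfl⟩; exact ⟨i, (hz i).symm⟩
          · rintro ⟨i, rfl⟩; exact ⟨z i, ⟨i, rfl⟩, hz i⟩
        rw [← hcomap, ← h1, Ideal.comap_map_of_surjective π hπs, hker, hJ, ← Ideal.span_union]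
        congr 1
        ext w
        constructor
        · rintro ⟨i, rfl⟩
          refine Fin.cases ?_ (fun j => ?_) i
          · right; simp
          · left; exact ⟨j, by simp⟩
        · rintro (⟨j, rfl⟩ | hw)
          · exact ⟨j.succ, by simp⟩
          · rw [Set.mem_singleton_iff] at hw; rw [hw]; exact ⟨0, by simp⟩
      · -- generators of I
        have hIc : I = Ideal.comap π (Ideal.map π I) := by
          rw [Ideal.comap_map_of_surjective π hπs, hker]
          exact (sup_eq_left.2 hJI).symm
        have h1 : Ideal.map π (Ideal.span (Set.range (fun i : Fin c' => z (Fin.castLE hc' i)))) =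
            Ideal.map π I := by
          rw [Ideal.map_span, hIy]
          congr 1
          ext w
          constructor
          · rintro ⟨_, ⟨i, rfl⟩, rfl⟩; exact ⟨i, (hz _).symm⟩
          · rintro ⟨i, rfl⟩; exact ⟨z (Fin.castLE hc' i), ⟨i, rfl⟩, hz _⟩
        conv_lhs => rw [hIc, ← h1, Ideal.comap_map_of_surjective π hπs, hker, hJ, ← Ideal.span_union]
        congr 1
        ext w
        constructor
        · rintro (⟨j, rfl⟩ | hw)
          · refine ⟨j.succ, ?_⟩
            simp only
            have : Fin.castLE (Nat.succ_le_succ hc') j.succ = (Fin.castLE hc' j).succ := by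
              ext; simp
            rw [this, Fin.cons_succ]
          · rw [Set.mem_singleton_iff] at hw; rw [hw]
            refine ⟨0, ?_⟩
            simp only
            have : Fin.castLE (Nat.succ_le_succ hc') (0 : Fin (c' + 1)) = 0 := by
              ext; simp
            rw [this, Fin.cons_zero]
        · rintro ⟨i, rfl⟩
          refine Fin.cases ?_ (fun j => ?_) i
          · right
            simp only
            have : Fin.castLE (Nat.succ_le_succ hc') (0 : Fin (c' + 1)) = 0 := by
              ext; simp
            rw [this, Fin.cons_zero]; simp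
          · left
            refine ⟨j, ?_⟩
            simp only
            have : Fin.castLE (Nat.succ_le_succ hc') j.succ = (Fin.castLE hc' j).succ := by
              ext; simp
            rw [this, Fin.cons_succ]

/-- Let `R` be a regular local ring of dimension `d` and `I` an ideal with `R/I` a regular local ring.
Then there are elements `x₁, …, x_d` generating the maximal ideal such that `I` is generated by `x₁,
…, x_c` for some `c ≤ d`. -/
theorem result (R : Type u) [CommRing R]
    [IsRegularLocalRing R] (d : ℕ) (hd : ringKrullDim R = d) (I : Ideal R)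
    [IsRegularLocalRing (R ⧸ I)] :
    ∃ (x : Fin d → R) (c : ℕ) (hc : c ≤ d), Ideal.span (Set.range x) = IsLocalRing.maximalIdeal R ∧
      I = Ideal.span (Set.range (fun i : Fin c => x (Fin.castLE hc i))) := by
  exact aux d R (spanFinrank_eq_nat R d hd) I

end Groth.Agent.S0561
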