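import Groth.Statements.S0563
import Groth.Agent.S5805
import Groth.Agent.S0559
import Groth.Agent.S0561
-- import your own Groth.Agent.* helpers here

set_option autoImplicit false
universe u
open CategoryTheory
open CAlg

namespace Groth.Agent.S0563


open IsLocalRing in
/-- The residue field of a regular local ring of dimension `d` has projective dimension `≤ d`. -/
theorem residueField_hasProjectiveDimensionLT (R : Type u) [CommRing R] [IsRegularLocalRing R]
    (d : ℕ) (hd : ringKrullDim R = d) :
    HasProjectiveDimensionLT (ModuleCat.of R (IsLocalRing.ResidueField R)) (d + 1) := by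
  obtain ⟨x, hx⟩ := Groth.Agent.S0561.exists_generators R d
    (Groth.Agent.S0561.spanFinrank_eq_nat R d hd)
  have reg := Groth.Agent.S0559.result R d hd x hx
  have hlist : Ideal.ofList (List.ofFn x) = maximalIdeal R := by
    rw [← hx]
    have : {r | r ∈ List.ofFn x} = Set.range x := by
      ext r
      rw [Set.mem_ofPred_eq, List.mem_ofFn]
      rfl
    unfold Ideal.ofList
    rw [this]
  have h1 := ModuleCat.projectiveDimension_quotient_eq_length.{u} (List.ofFn x) reg
  let e : Shrink.{u} (R ⧸ Ideal.ofList (List.ofFn x)) ≃ₗ[R] IsLocalRing.ResidueField R :=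
    ((Shrink.linearEquiv R (R ⧸ Ideal.ofList (List.ofFn x))).trans
      (Submodule.quotEquivOfEq _ _ hlist)).trans
      (Groth.Agent.Lib.Helper29.residueFieldLinearEquiv R)
  rw [projectiveDimension_eq_of_iso e.toModuleIso, List.length_ofFn] at h1
  exact (projectiveDimension_le_iff _ d).mp (le_of_eq h1)

/-- Over a regular local ring R of Krull dimension d, every R-module has projective dimension at most d
(encoded as `HasProjectiveDimensionLT _ (d + 1)`). -/
theorem result (R : Type u) [CommRing R]
    [IsRegularLocalRing R] (d : ℕ) (hd : ringKrullDim R = d) (M : Type u) [AddCommGroup M]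
    [Module R M] : HasProjectiveDimensionLT (ModuleCat.of R M) (d + 1) := by
  exact Groth.Agent.S5805.result R d (residueField_hasProjectiveDimensionLT R d hd) M

end Groth.Agent.S0563
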