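import Groth.Statements.S0564
import Groth.Agent.Lib.Helper33.SerreConverse
import Groth.Agent.Lib.Helper33.LocalizationGlDim
import Groth.Agent.S0563

set_option autoImplicit false
universe u
open CAlg

namespace Groth.Agent.S0564

/-- The localization of a regular local ring at any prime ideal is a regular local ring. -/
theorem result (R : Type u) [CommRing R]
    [IsRegularLocalRing R] (p : Ideal R) [p.IsPrime] :
    IsRegularLocalRing (Localization.AtPrime p) := by
  obtain ⟨d, hd⟩ : ∃ d : ℕ, ringKrullDim R = d :=
    ⟨(IsLocalRing.maximalIdeal R).spanFinrank, IsRegularLocalRing.spanFinrank_maximalIdeal.symm⟩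
  have h := Groth.Agent.Lib.Helper33.hasProjectiveDimensionLE_of_localization R p.primeCompl d
    (fun M _ _ => Groth.Agent.S0563.result R d hd M)
    (IsLocalRing.ResidueField (Localization.AtPrime p))
  exact Groth.Agent.Lib.Helper33.isRegularLocalRing_of_hasProjectiveDimensionLT_residueField
    (d + 1) (Localization.AtPrime p) h

end Groth.Agent.S0564
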