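import Groth.Statements.S0565
import Groth.Agent.Lib.Helper33.SerreConverse
import Groth.Agent.Lib.Helper33.FlatDescentPd
import Groth.Agent.S0563

set_option autoImplicit false
universe u
open CAlg

namespace Groth.Agent.S0565

/-- Let `R → S` be a flat local homomorphism of Noetherian local rings. If `S` is regular then so is
`R`. -/
theorem result (R : Type u) [CommRing R]
    [IsLocalRing R] [IsNoetherianRing R] (S : Type u) [CommRing S] [IsRegularLocalRing S] [Algebra R S]
    [IsLocalHom (algebraMap R S)] [Module.Flat R S] : IsRegularLocalRing R := by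
  have : Module.FaithfullyFlat R S := Module.FaithfullyFlat.of_flat_of_isLocalHom
  obtain ⟨d, hd⟩ : ∃ d : ℕ, ringKrullDim S = d :=
    ⟨(IsLocalRing.maximalIdeal S).spanFinrank, IsRegularLocalRing.spanFinrank_maximalIdeal.symm⟩
  have h := Groth.Agent.S0563.result S d hd
    (TensorProduct R S (IsLocalRing.ResidueField R))
  have h2 := Groth.Agent.Lib.Helper33.hasProjectiveDimensionLT_of_baseChange R S d
    (IsLocalRing.ResidueField R) h
  exact Groth.Agent.Lib.Helper33.isRegularLocalRing_of_hasProjectiveDimensionLT_residueField
    (d + 1) R h2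

end Groth.Agent.S0565
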