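import Groth.Statements.S5671
import Groth.Agent.Lib.Helper29.CMRing
import Groth.Agent.Lib.Helper29.DimTheory
import Groth.Agent.Lib.Helper93.ReflexiveDepth
import Groth.Agent.S5150
import Groth.Agent.S0559
import Groth.Agent.S0561

set_option autoImplicit false
universe u
open CategoryTheory
open Dual

namespace Groth.Agent.S5671

open IsLocalRing RingTheory.Sequence in
/-- A regular local ring is Cohen–Macaulay (as a module over itself). -/
theorem isCM_of_regular (A : Type u) [CommRing A] [IsRegularLocalRing A] :
    LocCoh.IsCohenMacaulayModule A A := by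
  classical
  have h5 : ((maximalIdeal A).spanFinrank : WithBot ℕ∞) = ringKrullDim A :=
    IsRegularLocalRing.spanFinrank_maximalIdeal
  set d := (maximalIdeal A).spanFinrank with hd
  have hfg : (maximalIdeal A).FG := IsNoetherian.noetherian _
  obtain ⟨s, hcard, hspan⟩ := Submodule.FG.exists_span_finset_card_eq_spanFinrank hfg
  let e := s.equivFinOfCardEq hcard
  let x : Fin d → A := fun i => (e.symm i : A)
  have hrange : Set.range x = (s : Set A) := by
    ext a
    constructor
    · rintro ⟨i, rfl⟩; exact (e.symm i).2
    · intro ha; exact ⟨e ⟨a, ha⟩, by simp [x]⟩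
  have hx : Ideal.span (Set.range x) = maximalIdeal A := by rw [hrange]; exact hspan
  have hreg := Groth.Agent.S0559.isRegular_aux d A rfl x hx
  have hmem : ∀ r ∈ List.ofFn x, r ∈ maximalIdeal A := by
    intro r hr
    rw [List.mem_ofFn] at hr
    obtain ⟨i, rfl⟩ := hr
    rw [← hx]; exact Ideal.subset_span ⟨i, rfl⟩
  unfold LocCoh.IsCohenMacaulayModule
  apply le_antisymm
  · rw [Module.supportDim_self_eq_ringKrullDim, ← h5]
    have h1 := Groth.Agent.Lib.Helper29.DepthLib.length_le_idealDepth (maximalIdeal A) A
      hreg.toIsWeaklyRegular hmem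
    rw [List.length_ofFn] at h1
    have h2 : (d : ℕ∞) ≤ LocCoh.depth A A := h1
    exact_mod_cast h2
  · exact Groth.Agent.Lib.Helper29.DepthLib.depth_le_supportDim A A

/-- First assertion, in the local-algebra form to which its proof reduces it: let `A` be a regular local
ring of dimension `n`, `p ≥ 0`, and `M` a finite `A`-module whose support has dimension at most `n -
p`. Then `Ext^i_A(M, A) = 0` for every `i < p`. (The geometric statement: on a nonsingular
`n`-dimensional variety the sheaves `Ext^i(F, L)` vanish for `i < p` when `F` is coherent with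
support of dimension `≤ n - p` and `L` is locally free.) -/
theorem result (A : Type u) [CommRing A] [IsRegularLocalRing A] (M : Type u) [AddCommGroup M] [Module A M] [Module.Finite A M] (p : ℕ) (hdim : Module.supportDim A M + p ≤ ringKrullDim A) (i : ℕ) (hi : i < p) : Subsingleton (Abelian.Ext (ModuleCat.of A M) (ModuleCat.of A A) i) := by
  classical
  rcases subsingleton_or_nontrivial M with hM | hM
  · have hz : Limits.IsZero (ModuleCat.of A M) := ModuleCat.isZero_of_subsingleton _
    have := hz.hasProjectiveDimensionLT_zero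
    exact HasProjectiveDimensionLT.subsingleton _ 0 i (Nat.zero_le i) _
  set I := Module.annihilator A M with hI
  have hItop : I ≠ ⊤ := by
    intro h
    rw [Module.annihilator_eq_top_iff] at h
    exact not_subsingleton M h
  have hCM := isCM_of_regular A
  have h1 := Groth.Agent.Lib.Helper29.CMRing.supportDim_eq_add_idealDepth_of_isCM A I hItop A hCM
  have hIt : I • (⊤ : Submodule A A) = I := by
    rw [smul_eq_mul, Ideal.mul_top]
  rw [hIt, Module.supportDim_self_eq_ringKrullDim, Module.supportDim_quotient_eq_ringKrullDim,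
    ← Module.supportDim_eq_ringKrullDim_quotient_annihilator] at h1
  obtain ⟨a, ha⟩ := Groth.Agent.Lib.Helper29.DimTheory.exists_nat_supportDim A M
  rw [h1, ha] at hdim
  have hp : (p : ℕ∞) ≤ LocCoh.idealDepth I A := by
    have h2 : ((a : ℕ∞) + (p : ℕ∞)) ≤ (a : ℕ∞) + LocCoh.idealDepth I A := by
      exact_mod_cast hdim
    exact (ENat.add_le_add_iff_left (ENat.natCast_ne_top a)).mp h2
  have hIA : I • (⊤ : Submodule A A) ≠ ⊤ := by rw [hIt]; exact hItop
  obtain ⟨rs, hrs, hmem, hlen⟩ :=
    Groth.Agent.Lib.Helper93.ReflexiveDepth.exists_regular_of_le_idealDepth I A p hp hIA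
  have hN : ∀ a ∈ I ^ 1, a ∈ Module.annihilator A (ModuleCat.of A M) := by
    intro a ha; rw [pow_one] at ha; exact ha
  exact Groth.Agent.S5150.aux A I (ModuleCat.of A M) 1 hN rs.length (ModuleCat.of A A) rs rfl hrs
    hmem i (lt_of_lt_of_le hi hlen)


end Groth.Agent.S5671
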