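import Groth.Statements.S9297
import Groth.Agent.Lib.Helper49.FibreSk
import Groth.Agent.Lib.Helper15.CatDim
-- import your own Groth.Agent.* helpers here

set_option autoImplicit false
universe u
open EGA4

namespace Groth.Agent.S9297

open Groth.Agent.Lib.Helper49.FibreSk IsLocalRing

/-- Going down: a minimal prime over `pB` (for `B` flat over `A`) contracts to `p`. -/
theorem under_eq_of_mem_minimalPrimes {A B : Type u} [CommRing A] [CommRing B] [Algebra A B]
    [Module.Flat A B] (p : Ideal A) [p.IsPrime] (Q : Ideal B)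
    (hQ : Q ∈ (p.map (algebraMap A B)).minimalPrimes) : Q.under A = p := by
  haveI : Q.IsPrime := hQ.1.1
  have hle : p ≤ Q.under A := Ideal.map_le_iff_le_comap.1 hQ.1.2
  haveI : Q.LiesOver (Q.under A) := ⟨rfl⟩
  obtain ⟨P, hPQ, hPprime, hPover⟩ :=
    Ideal.exists_ideal_le_liesOver_of_le (p := p) (q := Q.under A) Q hle
  have hpP : p.map (algebraMap A B) ≤ P := by
    rw [Ideal.map_le_iff_le_comap]
    exact le_of_eq (hPover.over)
  have hQP : Q ≤ P := hQ.2 ⟨hPprime, hpP⟩ hPQ
  have hPQ' : P = Q := le_antisymm hPQ hQP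
  rw [← hPQ']
  exact (hPover.over).symm

/-- The fibre local ring at a minimal prime over `pB` is zero-dimensional. -/
theorem ringKrullDim_fibLoc_eq_zero {A B : Type u} [CommRing A] [CommRing B] [Algebra A B]
    (p : Ideal A) [p.IsPrime] (Q : Ideal B) [Q.IsPrime] [Q.LiesOver p]
    (hQ : Q ∈ (p.map (algebraMap A B)).minimalPrimes) : ringKrullDim (FibLoc p Q) = 0 := by
  haveI := isLocalRing_fibLoc p Q
  rw [← ringKrullDimZero_iff_ringKrullDim_eq_zero, Ring.krullDimLE_zero_iff]
  intro P' hP'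
  set J : Ideal (Localization.AtPrime Q) :=
    (p.map (algebraMap A B)).map (algebraMap B (Localization.AtPrime Q)) with hJ
  set P'' : Ideal (Localization.AtPrime Q) := P'.comap (Ideal.Quotient.mk J) with hP''
  haveI : P''.IsPrime := Ideal.comap_isPrime _ _
  have hJP : J ≤ P'' := by
    intro x hx
    rw [hP'', Ideal.mem_comap, Ideal.Quotient.eq_zero_iff_mem.2 hx]
    exact P'.zero_mem
  set Q' : Ideal B := P''.comap (algebraMap B (Localization.AtPrime Q)) with hQ'
  haveI : Q'.IsPrime := Ideal.comap_isPrime _ _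
  have hQ'Q : Q' ≤ Q := by
    rw [← IsLocalization.AtPrime.under_maximalIdeal (Localization.AtPrime Q) Q]
    exact Ideal.comap_mono (le_maximalIdeal (Ideal.IsPrime.ne_top inferInstance))
  have hpQ' : p.map (algebraMap A B) ≤ Q' := by
    rw [hQ', ← Ideal.map_le_iff_le_comap]
    exact hJP
  have hQQ' : Q ≤ Q' := hQ.2 ⟨inferInstance, hpQ'⟩ hQ'Q
  have hQeq : Q' = Q := le_antisymm hQ'Q hQQ'
  have hP''max : P'' = maximalIdeal (Localization.AtPrime Q) := by
    rw [← IsLocalization.map_under Q.primeCompl (Localization.AtPrime Q) P'']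
    change Ideal.map (algebraMap B (Localization.AtPrime Q)) Q' = _
    rw [hQeq, IsLocalization.AtPrime.map_eq_maximalIdeal]
  have : P' = maximalIdeal (FibLoc p Q) := by
    refine le_antisymm (le_maximalIdeal hP'.ne_top) ?_
    intro x hx
    obtain ⟨y, rfl⟩ := Ideal.Quotient.mk_surjective x
    have hy : y ∈ maximalIdeal (Localization.AtPrime Q) := by
      by_contra hy
      have hu : IsUnit y := by
        by_contra hu
        exact hy ((mem_maximalIdeal y).2 hu)
      exact (mem_maximalIdeal _).1 hx (hu.map (Ideal.Quotient.mk J))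
    rw [← hP''max] at hy
    exact hy
  rw [this]
  exact maximalIdeal.isMaximal _

/-- In a catenary equidimensional Noetherian local ring `B`, if all minimal primes over `I` have
the same finite height then `B ⧸ I` is equidimensional. -/
theorem isEquidim_quotient_of_height_const {B : Type u} [CommRing B] [IsNoetherianRing B]
    [IsLocalRing B] (hcat : CAlg.IsCatenary B) (heq : EGA4.IsEquidim B) (I : Ideal B) (h : ℕ∞)
    (hh : h ≠ ⊤)
    (stepA : ∀ (Q : Ideal B) (_ : Q ∈ I.minimalPrimes) (hQp : Q.IsPrime),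
      Order.height (⟨Q, hQp⟩ : PrimeSpectrum B) = h) : EGA4.IsEquidim (B ⧸ I) := by
  intro P hP
  -- Step B: hence they all have the same coheight.
  have stepB : ∀ (Q₁ Q₂ : Ideal B) (h₁ : Q₁ ∈ I.minimalPrimes) (h₂ : Q₂ ∈ I.minimalPrimes)
      (hp₁ : Q₁.IsPrime) (hp₂ : Q₂.IsPrime),
      Order.coheight (⟨Q₁, hp₁⟩ : PrimeSpectrum B) = Order.coheight (⟨Q₂, hp₂⟩ : PrimeSpectrum B) := by
    intro Q₁ Q₂ h₁ h₂ hp₁ hp₂
    have e₁ := Groth.Agent.Lib.Helper15.CatDim.height_add_coheight hcat heq ⟨Q₁, hp₁⟩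
    have e₂ := Groth.Agent.Lib.Helper15.CatDim.height_add_coheight hcat heq ⟨Q₂, hp₂⟩
    rw [stepA Q₁ h₁ hp₁] at e₁
    rw [stepA Q₂ h₂ hp₂] at e₂
    have e := e₁.trans e₂.symm
    have e' : h + Order.coheight (⟨Q₁, hp₁⟩ : PrimeSpectrum B) =
        h + Order.coheight (⟨Q₂, hp₂⟩ : PrimeSpectrum B) := WithBot.coe_inj.mp e
    exact (ENat.add_right_injective_of_ne_top hh) e'
  -- Step C: dimension of the quotient by a minimal prime of `B ⧸ I`.
  have stepC : ∀ (P' : Ideal (B ⧸ I)) (hP'p : P'.IsPrime),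
      ringKrullDim ((B ⧸ I) ⧸ P') =
        (Order.coheight (⟨P'.comap (Ideal.Quotient.mk I), Ideal.comap_isPrime _ _⟩ :
          PrimeSpectrum B) : WithBot ℕ∞) := by
    intro P' hP'p
    rw [← Groth.Agent.Lib.Helper15.CatDomain.ringKrullDim_quotient_eq_coheight]
    let f : B →+* (B ⧸ I) ⧸ P' := (Ideal.Quotient.mk P').comp (Ideal.Quotient.mk I)
    have hf : Function.Surjective f :=
      Ideal.Quotient.mk_surjective.comp Ideal.Quotient.mk_surjective
    have hker : RingHom.ker f = P'.comap (Ideal.Quotient.mk I) := by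
      ext x
      simp [f, RingHom.mem_ker, Ideal.Quotient.eq_zero_iff_mem]
    exact (ringKrullDim_eq_of_ringEquiv
      ((Ideal.quotEquivOfEq hker.symm).trans (RingHom.quotientKerEquivOfSurjective hf))).symm
  have hmin : ∀ P' ∈ minimalPrimes (B ⧸ I), P'.comap (Ideal.Quotient.mk I) ∈ I.minimalPrimes := by
    intro P' hP'
    rw [Ideal.minimalPrimes_eq_comap]
    exact ⟨P', hP', rfl⟩
  -- all quotients by minimal primes have the same dimension
  have hconst : ∀ P' ∈ minimalPrimes (B ⧸ I),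
      ringKrullDim ((B ⧸ I) ⧸ P') = ringKrullDim ((B ⧸ I) ⧸ P) := by
    intro P' hP'
    haveI := hP'.1.1
    haveI := hP.1.1
    rw [stepC P' hP'.1.1, stepC P hP.1.1,
      stepB _ _ (hmin P' hP') (hmin P hP) (Ideal.comap_isPrime _ _) (Ideal.comap_isPrime _ _)]
  refine le_antisymm (ringKrullDim_le_of_surjective _ Ideal.Quotient.mk_surjective) ?_
  haveI hPp := hP.1.1
  haveI : Nonempty (PrimeSpectrum (B ⧸ I)) := ⟨⟨P, hPp⟩⟩
  rw [ringKrullDim, Order.krullDim_eq_iSup_coheight_of_nonempty]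
  rw [← hconst P hP, Groth.Agent.Lib.Helper15.CatDomain.ringKrullDim_quotient_eq_coheight ⟨P, hPp⟩,
    WithBot.coe_le_coe]
  refine iSup_le fun x => ?_
  obtain ⟨P', hP', hP'x⟩ := Ideal.exists_minimalPrimes_le (bot_le : (⊥ : Ideal (B ⧸ I)) ≤ x.asIdeal)
  have h1 : Order.coheight x ≤ Order.coheight (⟨P', hP'.1.1⟩ : PrimeSpectrum (B ⧸ I)) :=
    Order.coheight_anti (show (⟨P', hP'.1.1⟩ : PrimeSpectrum (B ⧸ I)) ≤ x from hP'x)
  refine h1.trans (le_of_eq ?_)
  have h2 := hconst P' hP'
  rw [Groth.Agent.Lib.Helper15.CatDomain.ringKrullDim_quotient_eq_coheight ⟨P', hP'.1.1⟩,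
    Groth.Agent.Lib.Helper15.CatDomain.ringKrullDim_quotient_eq_coheight ⟨P, hPp⟩] at h2
  exact WithBot.coe_inj.mp h2


/-- Let A → B be a flat local homomorphism of Noetherian local rings with B catenary and Spec(B)
equidimensional. Then Spec(B/pB) is equidimensional for every prime p of A. -/
theorem result (A B : Type u) [CommRing A] [CommRing B]
    [IsNoetherianRing A] [IsNoetherianRing B] [IsLocalRing A] [IsLocalRing B] [Algebra A B]
    [IsLocalHom (algebraMap A B)] [Module.Flat A B] (hcat : CAlg.IsCatenary B) (heq : EGA4.IsEquidim B)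
    (p : Ideal A) [p.IsPrime] : EGA4.IsEquidim (B ⧸ Ideal.map (algebraMap A B) p) := by
  refine isEquidim_quotient_of_height_const hcat heq _ p.height
    (Ideal.height_ne_top (Ideal.IsPrime.ne_top inferInstance)) ?_
  intro Q hQ hQp
  have hover : Q.under A = p := under_eq_of_mem_minimalPrimes p Q hQ
  haveI : Q.LiesOver p := ⟨hover.symm⟩
  have h1 := height_eq_add p Q
  rw [ringKrullDim_fibLoc_eq_zero p Q hQ, add_zero] at h1
  have h2 : Q.height = p.height := WithBot.coe_inj.mp h1
  rw [← h2]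
  exact (PrimeSpectrum.height_eq_orderHeight ⟨Q, hQp⟩).symm

end Groth.Agent.S9297
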