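import Groth.Statements.S18866
import Mathlib
import Groth.Agent.S0341
import Groth.Agent.Lib.Helper49.Serre2

set_option autoImplicit false
universe u
open Liaison

namespace Groth.Agent.S18866

/-- In a Gorenstein ring every associated prime of the ring is a minimal prime. -/
theorem mem_minimalPrimes_of_isAssociatedPrime (B : Type u) [CommRing B] [LocCoh.IsGorensteinRing B]
    (Q : Ideal B) (hQ : Q ∈ associatedPrimes B B) : Q ∈ minimalPrimes B := by
  haveI : Q.IsPrime := hQ.isPrime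
  haveI := LocCoh.IsGorensteinRing.isGorensteinLocalRing_localization Q
  have hCM := Groth.Agent.S0341.result (Localization.AtPrime Q)
  have h1 := hCM.supportDim_eq_depth
  have h2 := (Groth.Agent.Lib.Helper49.Serre.depth_localizedModule_eq_zero_iff (R := B) (M := B)
    Q).mpr hQ
  rw [Groth.Agent.Lib.Helper49.Serre.depth_localizedModule_self] at h2
  rw [h2, Module.supportDim_self_eq_ringKrullDim,
    IsLocalization.AtPrime.ringKrullDim_eq_height Q (Localization.AtPrime Q)] at h1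
  have h3 : Q.height = 0 := by exact_mod_cast h1
  have : Q.FiniteHeight := inferInstance
  have := Ideal.mem_minimalPrimes_of_height_le (I := (⊥ : Ideal B)) (J := Q) bot_le
    (by rw [h3]; exact bot_le)
  exact this


/-- Let K be a field, R = K[x_0, …, x_n] graded by degree, c ≥ 2, 𝔠 ⊂ R a homogeneous ideal of height c
such that R/𝔠 is a Gorenstein ring, and I, J ⊂ R homogeneous ideals that are directly linked by 𝔠,
that is 𝔠 : I = J and 𝔠 : J = I. If R/I and R/J have no associated prime in common, then I ∩ J = 𝔠,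
so I and J are geometrically linked by 𝔠. -/
theorem result (K : Type u) [Field K] (n c : ℕ) (hc : 2 ≤ c)
    (𝔠 I J : Ideal (MvPolynomial (Fin (n + 1)) K))
    (h𝔠 : 𝔠.IsHomogeneous (GrSyz.stdGr K (Fin (n + 1)))) (hI : I.IsHomogeneous (GrSyz.stdGr K (Fin (n + 1)))) (hJ : J.IsHomogeneous (GrSyz.stdGr K (Fin (n + 1))))
    [LocCoh.IsGorensteinRing (MvPolynomial (Fin (n + 1)) K ⧸ 𝔠)] (h𝔠c : 𝔠.height = c)
    (hIJ : 𝔠.colon (I : Set (MvPolynomial (Fin (n + 1)) K)) = J) (hJI : 𝔠.colon (J : Set (MvPolynomial (Fin (n + 1)) K)) = I)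
    (hdisj : Disjoint (associatedPrimes (MvPolynomial (Fin (n + 1)) K) (MvPolynomial (Fin (n + 1)) K ⧸ I)) (associatedPrimes (MvPolynomial (Fin (n + 1)) K) (MvPolynomial (Fin (n + 1)) K ⧸ J))) :
    I ⊓ J = 𝔠 := by
  classical
  set R := MvPolynomial (Fin (n + 1)) K with hR
  have hcI : 𝔠 ≤ I := by
    rw [← hJI]
    intro y hy
    rw [Submodule.mem_colon]
    intro s _
    exact Ideal.mul_mem_right _ _ hy
  have hcJ : 𝔠 ≤ J := by
    rw [← hIJ]
    intro y hy
    rw [Submodule.mem_colon]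
    intro s _
    exact Ideal.mul_mem_right _ _ hy
  refine le_antisymm ?_ (le_inf hcI hcJ)
  intro x hx
  by_contra hxc
  obtain ⟨hxI, hxJ⟩ := hx
  have hx0 : (Ideal.Quotient.mk 𝔠 x) ≠ 0 := by
    rwa [Ne, Ideal.Quotient.eq_zero_iff_mem]
  obtain ⟨Q, hQ, hle⟩ := exists_le_isAssociatedPrime_of_isNoetherianRing (R ⧸ 𝔠)
    (Ideal.Quotient.mk 𝔠 x) hx0
  have hQmin := mem_minimalPrimes_of_isAssociatedPrime (R ⧸ 𝔠) Q hQ
  haveI : Q.IsPrime := hQ.isPrime
  set P := Q.comap (Ideal.Quotient.mk 𝔠) with hP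
  have hPmin : P ∈ 𝔠.minimalPrimes := by
    rw [Ideal.minimalPrimes_eq_comap]
    exact ⟨Q, hQmin, rfl⟩
  have hkill : ∀ y : R, x * y ∈ 𝔠 → y ∈ P := by
    intro y hy
    rw [hP, Ideal.mem_comap]
    apply hle
    rw [Submodule.mem_colon_singleton, Submodule.mem_bot, smul_eq_mul, ← map_mul,
      Ideal.Quotient.eq_zero_iff_mem, mul_comm]
    exact hy
  have hIP : I ≤ P := by
    intro y hy
    apply hkill
    have : x ∈ 𝔠.colon (I : Set R) := by rw [hIJ]; exact hxJ
    rw [Submodule.mem_colon] at this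
    exact this y hy
  have hJP : J ≤ P := by
    intro y hy
    apply hkill
    have : x ∈ 𝔠.colon (J : Set R) := by rw [hJI]; exact hxI
    rw [Submodule.mem_colon] at this
    exact this y hy
  have hmin : ∀ (L : Ideal R), 𝔠 ≤ L → L ≤ P → P ∈ L.minimalPrimes := by
    intro L hcL hLP
    refine ⟨⟨hPmin.1.1, hLP⟩, ?_⟩
    intro P' hP' hP'P
    exact hPmin.2 ⟨hP'.1, hcL.trans hP'.2⟩ hP'P
  have hass : ∀ (L : Ideal R), 𝔠 ≤ L → L ≤ P → P ∈ associatedPrimes R (R ⧸ L) := by
    intro L hcL hLP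
    apply Module.associatedPrimes.minimalPrimes_annihilator_subset_associatedPrimes R (R ⧸ L)
    rw [Ideal.annihilator_quotient]
    exact hmin L hcL hLP
  exact Set.disjoint_left.mp hdisj (hass I hcI hIP) (hass J hcJ hJP)

end Groth.Agent.S18866
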