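import Groth.Statements.S18865
import Mathlib
import Groth.Agent.Lib.Helper33.Unmixed
import Groth.Agent.Lib.Helper33.HomogPrimes
import Groth.Agent.S18866

set_option autoImplicit false
universe u
open Liaison

namespace Groth.Agent.S18865

open Groth.Agent.Lib.Helper33.Unmixed Groth.Agent.Lib.Helper33.HomogPrimes

/-- A regular ring is a Cohen–Macaulay ring. -/
theorem isCohenMacaulayRing_of_isRegularRing (R : Type u) [CommRing R] [IsRegularRing R] :
    LocCoh.IsCohenMacaulayRing R := by
  refine ⟨fun P hP => ?_⟩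
  have : IsRegularLocalRing (Localization.AtPrime P) := inferInstance
  exact LocCoh.IsCohenMacaulayLocalRing.mk
    (Groth.Agent.S5671.isCM_of_regular (Localization.AtPrime P))

/-- A Gorenstein ring is a Cohen–Macaulay ring. -/
theorem isCohenMacaulayRing_of_isGorensteinRing (B : Type u) [CommRing B]
    [LocCoh.IsGorensteinRing B] : LocCoh.IsCohenMacaulayRing B := by
  refine ⟨fun P hP => ?_⟩
  have := LocCoh.IsGorensteinRing.isGorensteinLocalRing_localization P
  exact Groth.Agent.S0341.result (Localization.AtPrime P)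

/-- For `R/𝔠` Gorenstein, associated primes of `R/𝔠` (over `R`) are minimal primes of `𝔠`. -/
theorem mem_minimalPrimes_of_mem_associatedPrimes (R : Type u) [CommRing R] [IsNoetherianRing R]
    (𝔠 : Ideal R) [LocCoh.IsGorensteinRing (R ⧸ 𝔠)] (p : Ideal R)
    (hp : p ∈ associatedPrimes R (R ⧸ 𝔠)) : p ∈ 𝔠.minimalPrimes := by
  obtain ⟨hprime, xbar, hx⟩ := isAssociatedPrime_iff.1 hp
  set Q : Ideal (R ⧸ 𝔠) := (⊥ : Submodule (R ⧸ 𝔠) (R ⧸ 𝔠)).colon {xbar} with hQ
  have hcomap : Q.comap (Ideal.Quotient.mk 𝔠) = p := by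
    ext r
    rw [Ideal.mem_comap, hQ, hx, Submodule.mem_colon_singleton, Submodule.mem_colon_singleton,
      Submodule.mem_bot, Submodule.mem_bot, smul_eq_mul]
    conv_rhs => rw [Algebra.smul_def, Ideal.Quotient.algebraMap_eq]
  have hmap : Q = p.map (Ideal.Quotient.mk 𝔠) := by
    rw [← hcomap, Ideal.map_comap_of_surjective _ Ideal.Quotient.mk_surjective]
  have hcp : 𝔠 ≤ p := by
    rw [← hcomap]
    intro c hc
    rw [Ideal.mem_comap, Ideal.Quotient.eq_zero_iff_mem.mpr hc]
    exact zero_mem _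
  have hQprime : Q.IsPrime := by
    rw [hmap]
    exact Ideal.map_isPrime_of_surjective Ideal.Quotient.mk_surjective (by rwa [Ideal.mk_ker])
  have hQass : Q ∈ associatedPrimes (R ⧸ 𝔠) (R ⧸ 𝔠) :=
    isAssociatedPrime_iff.2 ⟨hQprime, xbar, rfl⟩
  have hQmin := Groth.Agent.S18866.mem_minimalPrimes_of_isAssociatedPrime (R ⧸ 𝔠) Q hQass
  rw [Ideal.minimalPrimes_eq_comap]
  exact ⟨Q, hQmin, hcomap⟩


/-- Let K be a field, R = K[x_0, …, x_n] graded by degree, c ≥ 2 an integer, 𝔠 ⊂ R a homogeneous ideal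
of height c such that R/𝔠 is a Gorenstein ring, and I ⊂ R a homogeneous ideal with I ⊄ 𝔠. Then the
ideal quotient 𝔠 : I is unmixed of codimension c: it has height c and every associated prime of R/(𝔠
: I) has height c. (A Gorenstein ideal of the notes, one whose quotient is Cohen–Macaulay with last
graded Betti number 1, is rendered as: the quotient ring is Gorenstein.) -/
theorem result (K : Type u) [Field K] (n c : ℕ) (hc : 2 ≤ c)
    (𝔠 I : Ideal (MvPolynomial (Fin (n + 1)) K))
    (h𝔠 : 𝔠.IsHomogeneous (GrSyz.stdGr K (Fin (n + 1)))) (hI : I.IsHomogeneous (GrSyz.stdGr K (Fin (n + 1))))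
    [LocCoh.IsGorensteinRing (MvPolynomial (Fin (n + 1)) K ⧸ 𝔠)] (h𝔠c : 𝔠.height = c) (hI𝔠 : ¬ I ≤ 𝔠) :
    (𝔠.colon (I : Set (MvPolynomial (Fin (n + 1)) K))).height = c ∧
      ∀ p ∈ associatedPrimes (MvPolynomial (Fin (n + 1)) K) (MvPolynomial (Fin (n + 1)) K ⧸ 𝔠.colon (I : Set (MvPolynomial (Fin (n + 1)) K))), p.height = c := by
  classical
  set R := MvPolynomial (Fin (n + 1)) K with hR
  haveI hRCM : LocCoh.IsCohenMacaulayRing R := isCohenMacaulayRing_of_isRegularRing R
  haveI hBCM : LocCoh.IsCohenMacaulayRing (R ⧸ 𝔠) := isCohenMacaulayRing_of_isGorensteinRing _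
  set m : Ideal R := RingHom.ker (MvPolynomial.constantCoeff : R →+* K) with hm
  haveI hmmax : m.IsMaximal :=
    RingHom.ker_isMaximal_of_surjective _ (fun a => ⟨MvPolynomial.C a, MvPolynomial.constantCoeff_C _ a⟩)
  haveI hmprime : m.IsPrime := hmmax.isPrime
  -- every minimal prime of `𝔠` lies in `m` and satisfies the height formula
  have hform : ∀ q ∈ 𝔠.minimalPrimes,
      m.height = q.height + (m.map (Ideal.Quotient.mk 𝔠)).height := by
    intro q hq
    have hqhom := isHomogeneous_of_mem_minimalPrimes _ h𝔠 hq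
    have hqm : q ≤ m := le_ker_constantCoeff K _ hqhom hq.1.1.ne_top
    exact height_eq_add_of_mem_minimalPrimes R 𝔠 m q hq hqm
  have hmfin : m.height ≠ ⊤ := Ideal.height_ne_top hmprime.ne_top
  have htfin : (m.map (Ideal.Quotient.mk 𝔠)).height ≠ ⊤ := by
    intro h
    by_cases hne : (𝔠.minimalPrimes).Nonempty
    · obtain ⟨q, hq⟩ := hne
      have := hform q hq
      rw [h, add_top] at this
      exact hmfin this
    · rw [Set.not_nonempty_iff_eq_empty, Ideal.minimalPrimes_eq_empty_iff] at hne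
      rw [hne] at h
      have hbot : (⊤ : Ideal R).map (Ideal.Quotient.mk (⊤ : Ideal R)) = ⊤ :=
        Ideal.map_top _
      have hsub : Subsingleton (R ⧸ (⊤ : Ideal R)) := Ideal.Quotient.subsingleton_iff.mpr rfl
      have hc : (c : ℕ∞) = ⊤ := by rw [← h𝔠c, hne, Ideal.height_top]
      exact ENat.natCast_ne_top c hc
  -- all minimal primes of `𝔠` have height `c`
  have hmin : ∀ q ∈ 𝔠.minimalPrimes, q.height = c := by
    intro q hq
    have hqprime : q.IsPrime := hq.1.1
    have hall : ∀ q' ∈ 𝔠.minimalPrimes, q'.height = q.height := by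
      intro q' hq'
      have h1 := hform q hq
      have h2 := hform q' hq'
      rw [h1] at h2
      exact ((ENat.add_left_injective_of_ne_top htfin) h2).symm
    apply le_antisymm
    · have h𝔠inf : 𝔠.height = ⨅ J ∈ 𝔠.minimalPrimes, J.height :=
        Ideal.height_eq_inf_minimalPrimes 𝔠
      rw [← h𝔠c, h𝔠inf]
      exact le_iInf₂ fun q' hq' => (hall q' hq').ge
    · rw [← h𝔠c]
      exact Ideal.height_mono hq.1.2
  -- all associated primes of `R/𝔠` have height `c`
  have hass : ∀ p ∈ associatedPrimes R (R ⧸ 𝔠), p.height = c := fun p hp =>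
    hmin p (mem_minimalPrimes_of_mem_associatedPrimes R 𝔠 p hp)
  have hassJ : ∀ p ∈ associatedPrimes R (R ⧸ 𝔠.colon (I : Set R)), p.height = c := fun p hp =>
    hass p (associatedPrimes_colon_subset R 𝔠 I hp)
  refine ⟨?_, hassJ⟩
  have hcJ : 𝔠 ≤ 𝔠.colon (I : Set R) := by
    intro y hy
    rw [Submodule.mem_colon]
    intro s _
    exact Ideal.mul_mem_right _ _ hy
  have hJne : 𝔠.colon (I : Set R) ≠ ⊤ := by
    intro h
    apply hI𝔠
    intro i hi
    have h1 : (1 : R) ∈ 𝔠.colon (I : Set R) := by rw [h]; trivial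
    rw [Submodule.mem_colon] at h1
    simpa using h1 i hi
  apply le_antisymm
  · obtain ⟨q, hq⟩ := Ideal.nonempty_minimalPrimes hJne
    have hqass : q ∈ associatedPrimes R (R ⧸ 𝔠.colon (I : Set R)) := by
      apply Module.associatedPrimes.minimalPrimes_annihilator_subset_associatedPrimes R
        (R ⧸ 𝔠.colon (I : Set R))
      rw [Ideal.annihilator_quotient]
      exact hq
    rw [← hassJ q hqass]
    exact Ideal.height_mono hq.1.2
  · rw [← h𝔠c]
    exact Ideal.height_mono hcJ

end Groth.Agent.S18865
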