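import Groth.Statements.S2092
import Groth.Agent.Lib.Helper49.CMFibre
import Groth.Agent.Lib.Helper49.SmoothReg
import Groth.Agent.S18865
-- import your own Groth.Agent.* helpers here

set_option autoImplicit false
universe u
open CAlg

namespace Groth.Agent.S2092

/-- Case `M = R`: if `R` is a Cohen–Macaulay ring then so is the polynomial ring `R[x_1, …, x_n]`. -/
theorem result {R : Type u} [CommRing R] [LocCoh.IsCohenMacaulayRing R] (n : ℕ) :
    LocCoh.IsCohenMacaulayRing (MvPolynomial (Fin n) R) := by
  haveI : IsNoetherianRing R := inferInstance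
  haveI : IsNoetherianRing (MvPolynomial (Fin n) R) := inferInstance
  haveI : Algebra.Smooth R (MvPolynomial (Fin n) R) := ⟨inferInstance, inferInstance⟩
  apply Groth.Agent.Lib.Helper49.CMFibre.isCM_of_flat_of_fibres (R := R)
  intro p hp
  haveI : IsRegularRing p.ResidueField := inferInstance
  haveI : Algebra.Smooth p.ResidueField (p.Fiber (MvPolynomial (Fin n) R)) := by
    unfold Ideal.Fiber
    infer_instance
  haveI : IsRegularRing (p.Fiber (MvPolynomial (Fin n) R)) :=
    Groth.Agent.Lib.Helper49.SmoothReg.isRegularRing_of_smooth p.ResidueField _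
  exact Groth.Agent.S18865.isCohenMacaulayRing_of_isRegularRing _

end Groth.Agent.S2092
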