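import Groth.Statements.S9296
import Mathlib
import Groth.Agent.S0564

set_option autoImplicit false
universe u
open EGA4

namespace Groth.Agent.S9296

/-- The regular locus is stable under generization (Serre). -/
theorem mem_regLocus_of_le (R : Type u) [CommRing R] (p q : PrimeSpectrum R)
    (hqp : q.asIdeal ≤ p.asIdeal) (hp : p ∈ EGA4.regLocus R) : q ∈ EGA4.regLocus R := by
  have hreg : IsRegularLocalRing (Localization.AtPrime p.asIdeal) := hp
  have hdisj : Disjoint (p.asIdeal.primeCompl : Set R) (q.asIdeal : Set R) := by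
    rw [Set.disjoint_left]
    intro x hx hxq
    exact hx (hqp hxq)
  have hQ : (q.asIdeal.map (algebraMap R (Localization.AtPrime p.asIdeal))).IsPrime :=
    IsLocalization.isPrime_of_isPrime_disjoint p.asIdeal.primeCompl _ q.asIdeal q.isPrime hdisj
  have hcomap : (q.asIdeal.map (algebraMap R (Localization.AtPrime p.asIdeal))).comap
      (algebraMap R (Localization.AtPrime p.asIdeal)) = q.asIdeal :=
    IsLocalization.comap_map_of_isPrime_disjoint p.asIdeal.primeCompl _ q.isPrime hdisj
  have h1 : IsRegularLocalRing (Localization.AtPrime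
      (q.asIdeal.map (algebraMap R (Localization.AtPrime p.asIdeal)))) :=
    Groth.Agent.S0564.result _ _
  have h2 : IsRegularLocalRing (Localization.AtPrime
      ((q.asIdeal.map (algebraMap R (Localization.AtPrime p.asIdeal))).comap
        (algebraMap R (Localization.AtPrime p.asIdeal)))) :=
    IsRegularLocalRing.of_ringEquiv
      (IsLocalization.localizationLocalizationAtPrimeIsoLocalization p.asIdeal.primeCompl
        (q.asIdeal.map (algebraMap R (Localization.AtPrime p.asIdeal)))).symm.toRingEquiv
  have key : ∀ (I : Ideal R) [I.IsPrime], I = q.asIdeal →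
      IsRegularLocalRing (Localization.AtPrime I) →
        IsRegularLocalRing (Localization.AtPrime q.asIdeal) := by
    intro I _ h
    subst h
    exact id
  exact key _ hcomap h2

/-- Nagata's topological criterion, in the form needed. -/
theorem isClosed_of_nagata (R : Type u) [CommRing R] [IsNoetherianRing R]
    (Z : Set (PrimeSpectrum R))
    (hspec : ∀ p q : PrimeSpectrum R, q.asIdeal ≤ p.asIdeal → q ∈ Z → p ∈ Z)
    (hloc : ∀ p : PrimeSpectrum R, p ∉ Z → ∃ K : Ideal R, ¬ K ≤ p.asIdeal ∧
      ∀ z ∈ Z, p.asIdeal ≤ z.asIdeal → K ≤ z.asIdeal) : IsClosed Z := by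
  classical
  set I : Ideal R := PrimeSpectrum.vanishingIdeal Z with hI
  have hZI : ∀ z ∈ Z, I ≤ z.asIdeal := fun z hz =>
    PrimeSpectrum.vanishingIdeal_anti_mono (Set.singleton_subset_iff.2 hz) |>.trans
      (by rw [PrimeSpectrum.vanishingIdeal_singleton])
  have hfin : (I.minimalPrimes).Finite := I.finite_minimalPrimes_of_isNoetherianRing R
  -- every minimal prime over `I` is in `Z`
  have hmin : ∀ P ∈ I.minimalPrimes, ∃ z ∈ Z, z.asIdeal = P := by
    intro P hP
    have hPprime : P.IsPrime := hP.1.1
    by_contra hcon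
    push Not at hcon
    have hPZ : (⟨P, hPprime⟩ : PrimeSpectrum R) ∉ Z := fun h => hcon _ h rfl
    obtain ⟨K, hK, hKZ⟩ := hloc ⟨P, hPprime⟩ hPZ
    -- the other minimal primes
    set T : Finset (Ideal R) := hfin.toFinset.erase P with hT
    set I'' : Ideal R := (P ⊔ K) ⊓ T.inf id with hI''
    have hle : I'' ≤ I := by
      rw [hI, ← PrimeSpectrum.subset_zeroLocus_iff_le_vanishingIdeal]
      intro z hz
      rw [PrimeSpectrum.mem_zeroLocus]
      obtain ⟨P', hP', hP'z⟩ := Ideal.exists_minimalPrimes_le (hZI z hz)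
      by_cases hPP : P' = P
      · subst hPP
        have h1 : P' ⊔ K ≤ z.asIdeal := sup_le hP'z (hKZ z hz hP'z)
        exact fun x hx => h1 (inf_le_left (a := P' ⊔ K) (b := T.inf id) hx)
      · have hmem : P' ∈ T := by
          rw [hT, Finset.mem_erase]
          exact ⟨hPP, hfin.mem_toFinset.2 hP'⟩
        have h1 : T.inf id ≤ P' := Finset.inf_le (f := id) hmem
        exact fun x hx => hP'z (h1 (inf_le_right (a := P ⊔ K) (b := T.inf id) hx))
    have hI''P : I'' ≤ P := hle.trans hP.1.2
    rw [hI'', Ideal.IsPrime.inf_le hPprime] at hI''P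
    rcases hI''P with h | h
    · exact hK (le_sup_right.trans h)
    · rw [Ideal.IsPrime.inf_le' hPprime] at h
      obtain ⟨P', hP'T, hP'P⟩ := h
      rw [hT, Finset.mem_erase] at hP'T
      have hP'min : P' ∈ I.minimalPrimes := hfin.mem_toFinset.1 hP'T.2
      have : P ≤ P' := hP.2 ⟨hP'min.1.1, hP'min.1.2⟩ hP'P
      exact hP'T.1 (le_antisymm hP'P this)
  have hZeq : Z = PrimeSpectrum.zeroLocus (I : Set R) := by
    apply Set.Subset.antisymm
    · intro z hz
      rw [PrimeSpectrum.mem_zeroLocus]
      exact hZI z hz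
    · intro q hq
      rw [PrimeSpectrum.mem_zeroLocus] at hq
      obtain ⟨P, hP, hPq⟩ := Ideal.exists_minimalPrimes_le (show I ≤ q.asIdeal from hq)
      obtain ⟨z, hz, rfl⟩ := hmin P hP
      exact hspec q z hPq hz
  rw [hZeq]
  exact PrimeSpectrum.isClosed_zeroLocus _

/-- For a Noetherian ring R, the set of primes at which R is regular is open in Spec R (R is J-1)
exactly when, for each such prime p, some nonempty open part of the closed set V(p) consists of
primes at which R is regular. Stated with an open U of Spec R whose trace on V(p) is nonempty and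
contained in the regular locus. -/
theorem result (R : Type u) [CommRing R] [IsNoetherianRing R] :
    IsOpen (EGA4.regLocus R) ↔
      ∀ p ∈ EGA4.regLocus R, ∃ U : Set (PrimeSpectrum R), IsOpen U ∧
        (U ∩ PrimeSpectrum.zeroLocus (p.asIdeal : Set R)).Nonempty ∧
        U ∩ PrimeSpectrum.zeroLocus (p.asIdeal : Set R) ⊆ EGA4.regLocus R := by
  constructor
  · intro hopen p hp
    refine ⟨EGA4.regLocus R, hopen, ⟨p, hp, ?_⟩, Set.inter_subset_left⟩
    rw [PrimeSpectrum.mem_zeroLocus]
  · intro h
    rw [← isClosed_compl_iff]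
    apply isClosed_of_nagata R
    · intro p q hqp hq hp
      exact hq (mem_regLocus_of_le R p q hqp (Set.notMem_compl_iff.1 (fun hc => hc hp)))
    · intro p hp
      have hp' : p ∈ EGA4.regLocus R := Set.notMem_compl_iff.1 hp
      obtain ⟨U, hU, ⟨q, hqU, hqV⟩, hsub⟩ := h p hp'
      obtain ⟨K, hK⟩ := (PrimeSpectrum.isClosed_iff_zeroLocus_ideal _).1 hU.isClosed_compl
      rw [PrimeSpectrum.mem_zeroLocus] at hqV
      refine ⟨K, ?_, ?_⟩
      · intro hKp
        have : q ∈ Uᶜ := by
          rw [hK, PrimeSpectrum.mem_zeroLocus]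
          exact hKp.trans hqV
        exact this hqU
      · intro z hz hpz
        have hzU : z ∈ Uᶜ := by
          intro hzU
          apply hz
          apply hsub
          refine ⟨hzU, ?_⟩
          rw [PrimeSpectrum.mem_zeroLocus]
          exact hpz
        rw [hK, PrimeSpectrum.mem_zeroLocus] at hzU
        exact hzU

end Groth.Agent.S9296
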