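import Groth.Statements.S4700
import Mathlib
import Groth.Agent.S9296

set_option autoImplicit false
universe u
open EGA4

namespace Groth.Agent.S4700

namespace NG

open EGA4 IsLocalRing

section order
variable {α : Type*} [Preorder α]

lemma height_head_add_le (s : LTSeries α) (i : Fin (s.length + 1)) :
    Order.height s.head + (i : ℕ) ≤ Order.height (s i) := by
  induction i using Fin.induction with
  | zero => simp [RelSeries.head]
  | succ i ih =>
    have hlt : s i.castSucc < s i.succ := s.step i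
    calc Order.height s.head + ((i.succ : Fin (s.length + 1)) : ℕ)
        = Order.height s.head + ((i.castSucc : Fin (s.length + 1)) : ℕ) + 1 := by
          simp [add_assoc]
      _ ≤ Order.height (s i.castSucc) + 1 := by gcongr
      _ ≤ Order.height (s i.succ) := Order.height_add_one_le hlt

lemma height_head_add_length_le (s : LTSeries α) :
    Order.height s.head + s.length ≤ Order.height s.last := by
  have := height_head_add_le s (Fin.last _)
  simpa [RelSeries.last] using this

end order

section chain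
variable {A : Type*} [CommRing A]

lemma height_add_height_quot_le [IsNoetherianRing A] (p q : Ideal A) [p.IsPrime] [q.IsPrime] (hpq : p ≤ q)
    (Q : Ideal (A ⧸ p)) [Q.IsPrime] (hQ : Q.comap (Ideal.Quotient.mk p) = q) :
    p.height + Q.height ≤ q.height := by
  have hfin : Q.height ≠ ⊤ := Ideal.height_ne_top (Ideal.IsPrime.ne_top inferInstance)
  obtain ⟨n, hn⟩ := ENat.ne_top_iff_exists.mp hfin
  rw [← hn]
  have hQn : (n : ℕ∞) ≤ Order.height (⟨Q, inferInstance⟩ : PrimeSpectrum (A ⧸ p)) := by
    rw [hn]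
    exact (PrimeSpectrum.height_eq_orderHeight (⟨Q, inferInstance⟩ : PrimeSpectrum (A ⧸ p))).le
  obtain ⟨ℓ, hℓlast, hℓlen⟩ := Order.exists_series_of_le_height _ hQn
  let f : PrimeSpectrum (A ⧸ p) → PrimeSpectrum A := PrimeSpectrum.comap (Ideal.Quotient.mk p)
  have hf : StrictMono f := by
    intro x y hxy
    refine lt_of_le_of_ne (Ideal.comap_mono hxy.le) ?_
    intro h
    exact hxy.ne (PrimeSpectrum.comap_injective_of_surjective _ Ideal.Quotient.mk_surjective h)
  let ℓ' := ℓ.map f hf
  have h1 := height_head_add_length_le ℓ'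
  have hlast : ℓ'.last = ⟨q, inferInstance⟩ := by
    rw [LTSeries.last_map, hℓlast]
    exact PrimeSpectrum.ext hQ
  have hhead : (⟨p, inferInstance⟩ : PrimeSpectrum A) ≤ ℓ'.head := by
    rw [LTSeries.head_map]
    change p ≤ (ℓ.head.asIdeal).comap (Ideal.Quotient.mk p)
    intro x hx
    rw [Ideal.mem_comap, Ideal.Quotient.eq_zero_iff_mem.mpr hx]
    exact Ideal.zero_mem _
  have h2 : Order.height (⟨p, inferInstance⟩ : PrimeSpectrum A) ≤ Order.height ℓ'.head :=
    Order.height_mono hhead
  have ep := PrimeSpectrum.height_eq_orderHeight (⟨p, inferInstance⟩ : PrimeSpectrum A)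
  have eq := PrimeSpectrum.height_eq_orderHeight (⟨q, inferInstance⟩ : PrimeSpectrum A)
  change p.height = _ at ep
  change q.height = _ at eq
  rw [ep, eq]
  rw [← hlast]
  refine le_trans ?_ h1
  have : ℓ'.length = n := by rw [LTSeries.map_length]; exact hℓlen
  rw [this]
  gcongr

end chain


section gens
variable {R : Type*} [CommRing R]

/-- generators of the maximal ideal of `R_P` coming from `P`. -/
lemma exists_gens [IsNoetherianRing R] (P : Ideal R) [P.IsPrime] :
    ∃ s : Finset R, (↑s ⊆ (P : Set R)) ∧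
      s.card ≤ (maximalIdeal (Localization.AtPrime P)).spanFinrank ∧
      (Ideal.span (s : Set R)).map (algebraMap R (Localization.AtPrime P)) =
        maximalIdeal (Localization.AtPrime P) := by
  classical
  set RP := Localization.AtPrime P
  have hfg : (maximalIdeal RP).FG := (isNoetherianRing_iff_ideal_fg RP).mp inferInstance _
  set G := Submodule.generators (maximalIdeal RP) with hG
  have hGfin : G.Finite := Submodule.FG.finite_generators hfg
  have hGcard : G.ncard = (maximalIdeal RP).spanFinrank := Submodule.FG.generators_ncard hfg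
  have hGspan : Ideal.span G = maximalIdeal RP := Submodule.span_generators _
  have hGmem : ∀ g ∈ G, ∃ a : R, a ∈ P ∧ ∃ t : R, t ∉ P ∧ g * algebraMap R RP t = algebraMap R RP a := by
    intro g hg
    have hgm : g ∈ maximalIdeal RP := Submodule.FG.generators_mem _ hg
    rw [← Localization.AtPrime.map_eq_maximalIdeal, IsLocalization.mem_map_algebraMap_iff P.primeCompl] at hgm
    obtain ⟨⟨a, t⟩, h⟩ := hgm
    exact ⟨a.1, a.2, t.1, t.2, h⟩
  choose! a haP t htP hat using hGmem
  refine ⟨hGfin.toFinset.image a, ?_, ?_, ?_⟩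
  · intro x hx
    simp only [Finset.coe_image, Set.Finite.coe_toFinset, Set.mem_image] at hx
    obtain ⟨g, hg, rfl⟩ := hx
    exact haP g hg
  · calc (hGfin.toFinset.image a).card ≤ hGfin.toFinset.card := Finset.card_image_le
      _ = G.ncard := (Set.ncard_eq_toFinset_card G hGfin).symm
      _ = _ := hGcard
  · rw [Ideal.map_span]
    apply le_antisymm
    · rw [Ideal.span_le]
      rintro _ ⟨x, hx, rfl⟩
      simp only [Finset.coe_image, Set.Finite.coe_toFinset, Set.mem_image] at hx
      obtain ⟨g, hg, rfl⟩ := hx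
      rw [← hat g hg]
      exact Ideal.mul_mem_right _ _ (Submodule.FG.generators_mem _ hg)
    · rw [← hGspan, Ideal.span_le]
      intro g hg
      have hu : IsUnit (algebraMap R RP (t g)) :=
        IsLocalization.map_units RP (⟨t g, htP g hg⟩ : P.primeCompl)
      obtain ⟨u, hu'⟩ := hu
      have : g = algebraMap R RP (a g) * ↑u⁻¹ := by
        rw [← hat g hg, ← hu', mul_assoc, Units.mul_inv, mul_one]
      rw [this]
      refine Ideal.mul_mem_right _ _ (Ideal.subset_span ?_)
      refine ⟨a g, ?_, rfl⟩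
      simp only [Finset.coe_image, Set.Finite.coe_toFinset, Set.mem_image]
      exact ⟨g, hg, rfl⟩

end gens


section core
variable {A : Type u} [CommRing A] [IsNoetherianRing A]

lemma exists_mul_le (p : Ideal A) [p.IsPrime] (J : Ideal A)
    (hJ : J.map (algebraMap A (Localization.AtPrime p)) = maximalIdeal (Localization.AtPrime p)) :
    ∃ f : A, f ∉ p ∧ ∀ z ∈ p, f * z ∈ J := by
  classical
  obtain ⟨S, hS⟩ := (isNoetherianRing_iff_ideal_fg A).mp inferInstance p
  have hSp : ∀ z ∈ S, z ∈ p := fun z hz => hS ▸ Ideal.subset_span hz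
  have hex : ∀ z ∈ S, ∃ m : A, m ∉ p ∧ m * z ∈ J := by
    intro z hz
    have : algebraMap A (Localization.AtPrime p) z ∈ J.map (algebraMap A (Localization.AtPrime p)) := by
      rw [hJ, ← Localization.AtPrime.map_eq_maximalIdeal]
      exact Ideal.mem_map_of_mem _ (hSp z hz)
    rw [IsLocalization.algebraMap_mem_map_algebraMap_iff p.primeCompl] at this
    obtain ⟨m, hm, hmz⟩ := this
    exact ⟨m, hm, hmz⟩
  choose! m hmp hmz using hex
  refine ⟨∏ z ∈ S, m z, ?_, ?_⟩
  · intro h
    rw [Ideal.IsPrime.prod_mem_iff] at h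
    obtain ⟨z, hz, hmem⟩ := h
    exact hmp z hz hmem
  · intro z hz
    rw [← hS] at hz
    induction hz using Submodule.span_induction with
    | mem z hz =>
      rw [← Finset.prod_erase_mul S m hz, mul_assoc]
      exact Ideal.mul_mem_left J _ (hmz z hz)
    | zero => simp
    | add x y _ _ hx hy => rw [mul_add]; exact Ideal.add_mem _ hx hy
    | smul a x _ hx =>
      rw [smul_eq_mul, mul_left_comm]
      exact Ideal.mul_mem_left _ _ hx

lemma core (p : PrimeSpectrum A) (hp : p ∈ regLocus A) :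
    ∃ f : A, f ∉ p.asIdeal ∧ ∀ Q : PrimeSpectrum (A ⧸ p.asIdeal), Q ∈ regLocus (A ⧸ p.asIdeal) →
      f ∉ (PrimeSpectrum.comap (Ideal.Quotient.mk p.asIdeal) Q).asIdeal →
      PrimeSpectrum.comap (Ideal.Quotient.mk p.asIdeal) Q ∈ regLocus A := by
  classical
  obtain ⟨sp, hspP, hspcard, hspmap⟩ := exists_gens p.asIdeal
  obtain ⟨f, hfp, hf⟩ := exists_mul_le p.asIdeal (Ideal.span sp) hspmap
  refine ⟨f, hfp, ?_⟩
  intro Q hQ hfq
  set mk := Ideal.Quotient.mk p.asIdeal with hmk
  set q := PrimeSpectrum.comap mk Q with hq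
  have hqdef : q.asIdeal = Q.asIdeal.comap mk := rfl
  have hpq : p.asIdeal ≤ q.asIdeal := by
    intro x hx
    rw [hqdef, Ideal.mem_comap, Ideal.Quotient.eq_zero_iff_mem.mpr hx]
    exact Ideal.zero_mem _
  obtain ⟨sQ, hsQQ, hsQcard, hsQmap⟩ := exists_gens Q.asIdeal
  have hsurj : Function.Surjective mk := Ideal.Quotient.mk_surjective
  let σ := Function.surjInv hsurj
  have hσ : ∀ b, mk (σ b) = b := Function.surjInv_eq hsurj
  let sY : Finset A := sQ.image σ
  let T : Finset A := sp ∪ sY
  have hsYq : ∀ y ∈ sY, y ∈ q.asIdeal := by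
    intro y hy
    obtain ⟨b, hb, rfl⟩ := Finset.mem_image.mp hy
    rw [hqdef, Ideal.mem_comap, hσ]
    exact hsQQ hb
  have hTq : ∀ x ∈ T, x ∈ q.asIdeal := by
    intro x hx
    rcases Finset.mem_union.mp hx with h | h
    · exact hpq (hspP h)
    · exact hsYq x h
  have hmapY : (Ideal.span (sY : Set A)).map mk = Ideal.span (sQ : Set (A ⧸ p.asIdeal)) := by
    rw [Ideal.map_span]
    congr 1
    ext b
    simp only [sY, Finset.coe_image, Set.mem_image, Finset.mem_coe]
    constructor
    · rintro ⟨_, ⟨b', hb', rfl⟩, rfl⟩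
      rwa [hσ]
    · intro hb
      exact ⟨σ b, ⟨b, hb, rfl⟩, hσ b⟩
  set Aq := Localization.AtPrime q.asIdeal
  have hgen : (Ideal.span (T : Set A)).map (algebraMap A Aq) = maximalIdeal Aq := by
    apply le_antisymm
    · rw [Ideal.map_span, Ideal.span_le]
      rintro _ ⟨x, hx, rfl⟩
      rw [SetLike.mem_coe, ← Localization.AtPrime.map_eq_maximalIdeal]
      exact Ideal.mem_map_of_mem _ (hTq x hx)
    · rw [← Localization.AtPrime.map_eq_maximalIdeal, Ideal.map_le_iff_le_comap]
      intro z hz
      rw [Ideal.mem_comap, IsLocalization.algebraMap_mem_map_algebraMap_iff q.asIdeal.primeCompl]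
      have hzQ : mk z ∈ Q.asIdeal := hz
      have h1 : algebraMap (A ⧸ p.asIdeal) (Localization.AtPrime Q.asIdeal) (mk z) ∈
          (Ideal.span (sQ : Set (A ⧸ p.asIdeal))).map (algebraMap _ (Localization.AtPrime Q.asIdeal)) := by
        rw [hsQmap, ← Localization.AtPrime.map_eq_maximalIdeal]
        exact Ideal.mem_map_of_mem _ hzQ
      rw [IsLocalization.algebraMap_mem_map_algebraMap_iff Q.asIdeal.primeCompl] at h1
      obtain ⟨c, hcQ, hcz⟩ := h1
      obtain ⟨c₀, rfl⟩ := hsurj c
      have hc₀ : c₀ ∉ q.asIdeal := hcQ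
      rw [← map_mul, ← hmapY] at hcz
      have h2 : c₀ * z ∈ (Ideal.span (sY : Set A)) ⊔ p.asIdeal := by
        have := Ideal.mem_comap.mpr hcz
        rw [Ideal.comap_map_of_surjective mk hsurj, ← RingHom.ker_eq_comap_bot, Ideal.mk_ker] at this
        exact this
      obtain ⟨y', hy', π, hπ, hsum⟩ := Submodule.mem_sup.mp h2
      refine ⟨f * c₀, ?_, ?_⟩
      · intro hmem
        rcases (q.isPrime.mem_or_mem hmem) with h | h
        · exact hfq h
        · exact hc₀ h
      · rw [mul_assoc, ← hsum, mul_add]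
        refine Ideal.add_mem _ (Ideal.mul_mem_left _ _ ?_) ?_
        · exact Ideal.span_mono (by simp [T]) hy'
        · exact Ideal.span_mono (by simp [T]) (hf π hπ)
  -- numerics
  have hregp : IsRegularLocalRing (Localization.AtPrime p.asIdeal) := hp
  have hregQ : IsRegularLocalRing (Localization.AtPrime Q.asIdeal) := hQ
  have hdp : ((maximalIdeal (Localization.AtPrime p.asIdeal)).spanFinrank : WithBot ℕ∞) = p.asIdeal.height := by
    rw [hregp.spanFinrank_maximalIdeal, IsLocalization.AtPrime.ringKrullDim_eq_height p.asIdeal]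
  have hdQ : ((maximalIdeal (Localization.AtPrime Q.asIdeal)).spanFinrank : WithBot ℕ∞) = Q.asIdeal.height := by
    rw [hregQ.spanFinrank_maximalIdeal, IsLocalization.AtPrime.ringKrullDim_eq_height Q.asIdeal]
  have hchain : p.asIdeal.height + Q.asIdeal.height ≤ q.asIdeal.height :=
    height_add_height_quot_le p.asIdeal q.asIdeal hpq Q.asIdeal rfl
  have hcard : T.card ≤ (maximalIdeal (Localization.AtPrime p.asIdeal)).spanFinrank +
      (maximalIdeal (Localization.AtPrime Q.asIdeal)).spanFinrank := by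
    calc T.card ≤ sp.card + sY.card := Finset.card_union_le _ _
      _ ≤ sp.card + sQ.card := by gcongr; exact Finset.card_image_le
      _ ≤ _ := by gcongr
  have hsf : (maximalIdeal Aq).spanFinrank ≤ T.card := by
    rw [← hgen, Ideal.map_span]
    refine (Submodule.spanFinrank_span_le_ncard_of_finite ((T : Set A).toFinite.image _)).trans ?_
    refine (Set.ncard_image_le (T : Set A).toFinite).trans ?_
    rw [Set.ncard_coe_finset]
  change IsRegularLocalRing Aq
  apply IsRegularLocalRing.of_spanFinrank_maximalIdeal_le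
  rw [IsLocalization.AtPrime.ringKrullDim_eq_height q.asIdeal]
  have h3 : ((maximalIdeal Aq).spanFinrank : WithBot ℕ∞) ≤
      ((maximalIdeal (Localization.AtPrime p.asIdeal)).spanFinrank : WithBot ℕ∞) +
      ((maximalIdeal (Localization.AtPrime Q.asIdeal)).spanFinrank : WithBot ℕ∞) := by
    exact_mod_cast hsf.trans hcard
  rw [hdp, hdQ] at h3
  refine h3.trans ?_
  exact_mod_cast hchain

end core


section main
variable {A : Type u} [CommRing A] [IsNoetherianRing A]

/-- the generic point of a domain lies in every nonempty open set -/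
lemma bot_mem_of_isOpen {B : Type*} [CommRing B] [IsDomain B] (U : Set (PrimeSpectrum B))
    (hU : IsOpen U) (hne : U.Nonempty) : (⟨⊥, Ideal.isPrime_bot⟩ : PrimeSpectrum B) ∈ U := by
  obtain ⟨x, hx⟩ := hne
  have hle : (⟨⊥, Ideal.isPrime_bot⟩ : PrimeSpectrum B) ≤ x := bot_le (a := x.asIdeal)
  exact ((PrimeSpectrum.le_iff_specializes _ _).mp hle).mem_open hU hx

theorem nagata
    (h : ∀ p : PrimeSpectrum A, p ∈ EGA4.regLocus A →
      ∃ U : Set (PrimeSpectrum (A ⧸ p.asIdeal)), IsOpen U ∧ U.Nonempty ∧ U ⊆ EGA4.regLocus (A ⧸ p.asIdeal)) :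
    IsOpen (EGA4.regLocus A) := by
  rw [Groth.Agent.S9296.result]
  intro p hp
  obtain ⟨U', hU'o, hU'ne, hU'sub⟩ := h p hp
  obtain ⟨f, hfp, hf⟩ := core p hp
  let c := PrimeSpectrum.comap (Ideal.Quotient.mk p.asIdeal)
  have hcl : Topology.IsClosedEmbedding c :=
    PrimeSpectrum.isClosedEmbedding_comap_of_surjective _ _ Ideal.Quotient.mk_surjective
  let W : Set (PrimeSpectrum A) := (c '' U'ᶜ)ᶜ
  have hWo : IsOpen W := (hcl.isClosedMap _ hU'o.isClosed_compl).isOpen_compl
  let gen : PrimeSpectrum (A ⧸ p.asIdeal) := ⟨⊥, Ideal.isPrime_bot⟩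
  have hgen : gen ∈ U' := bot_mem_of_isOpen U' hU'o hU'ne
  have hcgen : c gen = p := by
    apply PrimeSpectrum.ext
    change Ideal.comap (Ideal.Quotient.mk p.asIdeal) ⊥ = p.asIdeal
    rw [← RingHom.ker_eq_comap_bot, Ideal.mk_ker]
  refine ⟨W ∩ (PrimeSpectrum.basicOpen f : Set (PrimeSpectrum A)),
    hWo.inter (PrimeSpectrum.basicOpen f).isOpen, ?_, ?_⟩
  · refine ⟨p, ⟨?_, hfp⟩, ?_⟩
    · rintro ⟨x, hx, hxp⟩
      have : x = gen := hcl.injective (hxp.trans hcgen.symm)
      exact hx (this ▸ hgen)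
    · rw [PrimeSpectrum.mem_zeroLocus]
  · rintro q ⟨⟨hqW, hqf⟩, hqV⟩
    have hrange : q ∈ Set.range c := by
      rw [range_comap_of_surjective _ _ Ideal.Quotient.mk_surjective, Ideal.mk_ker]
      exact hqV
    obtain ⟨Q, rfl⟩ := hrange
    have hQU : Q ∈ U' := by
      by_contra hQ
      exact hqW ⟨Q, hQ, rfl⟩
    exact hf Q (hU'sub hQU) hqf

end main


section transfer

lemma mem_regLocus_of_ringEquiv {B B' : Type u} [CommRing B] [CommRing B'] (e : B ≃+* B')
    (Q' : PrimeSpectrum B') (h : PrimeSpectrum.comap (e : B →+* B') Q' ∈ EGA4.regLocus B) :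
    Q' ∈ EGA4.regLocus B' := by
  set Q := PrimeSpectrum.comap (e : B →+* B') Q' with hQ
  have hreg : IsRegularLocalRing (Localization.AtPrime Q.asIdeal) := h
  have H : Q.asIdeal.primeCompl.map (e : B →* B') = Q'.asIdeal.primeCompl := by
    ext x
    constructor
    · rintro ⟨y, hy, rfl⟩
      exact hy
    · intro hx
      refine ⟨e.symm x, ?_, by simp⟩
      change e.symm x ∉ Q.asIdeal
      intro hmem
      apply hx
      have : e (e.symm x) ∈ Q'.asIdeal := hmem
      simpa using this
  let E : Localization.AtPrime Q.asIdeal ≃+* Localization.AtPrime Q'.asIdeal :=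
    IsLocalization.ringEquivOfRingEquiv (M := Q.asIdeal.primeCompl) (T := Q'.asIdeal.primeCompl)
      (Localization.AtPrime Q.asIdeal) (Localization.AtPrime Q'.asIdeal) e H
  exact IsRegularLocalRing.of_ringEquiv E

lemma bot_mem_regLocus (B : Type u) [CommRing B] [IsDomain B] [IsNoetherianRing B] :
    (⟨⊥, Ideal.isPrime_bot⟩ : PrimeSpectrum B) ∈ EGA4.regLocus B := by
  change IsRegularLocalRing (Localization.AtPrime (⊥ : Ideal B))
  apply IsRegularLocalRing.of_spanFinrank_maximalIdeal_le
  rw [← Localization.AtPrime.map_eq_maximalIdeal, Ideal.map_bot]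
  have : (⊥ : Ideal (Localization.AtPrime (⊥ : Ideal B))).spanFinrank = 0 := by
    rw [Submodule.spanFinrank_eq_zero_iff_eq_bot (Submodule.fg_bot)]
  rw [this]
  exact_mod_cast ringKrullDim_nonneg_of_nontrivial

theorem nagata_iff {A : Type u} [CommRing A] [IsNoetherianRing A] :
    (∀ I : Ideal A, IsOpen (EGA4.regLocus (A ⧸ I))) ↔
      ∀ (p : Ideal A) [p.IsPrime],
        ∃ U : Set (PrimeSpectrum (A ⧸ p)), IsOpen U ∧ U.Nonempty ∧ U ⊆ EGA4.regLocus (A ⧸ p) := by
  constructor
  · intro h p hp
    exact ⟨EGA4.regLocus (A ⧸ p), h p, ⟨_, bot_mem_regLocus (A ⧸ p)⟩, subset_rfl⟩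
  · intro h I
    apply nagata
    intro P _
    let p : Ideal A := P.asIdeal.comap (Ideal.Quotient.mk I)
    have hp : p.IsPrime := Ideal.IsPrime.comap _
    obtain ⟨U, hUo, hUne, hUsub⟩ := h p
    let f : A →+* (A ⧸ I) ⧸ P.asIdeal := (Ideal.Quotient.mk P.asIdeal).comp (Ideal.Quotient.mk I)
    have hf : Function.Surjective f :=
      Ideal.Quotient.mk_surjective.comp Ideal.Quotient.mk_surjective
    have hker : RingHom.ker f = p := by
      ext x
      simp only [f, RingHom.mem_ker, RingHom.comp_apply, Ideal.Quotient.eq_zero_iff_mem, p,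
        Ideal.mem_comap]
    let e : (A ⧸ p) ≃+* ((A ⧸ I) ⧸ P.asIdeal) :=
      (Ideal.quotEquivOfEq hker.symm).trans (RingHom.quotientKerEquivOfSurjective hf)
    let φ : PrimeSpectrum ((A ⧸ I) ⧸ P.asIdeal) → PrimeSpectrum (A ⧸ p) :=
      PrimeSpectrum.comap (e : (A ⧸ p) →+* ((A ⧸ I) ⧸ P.asIdeal))
    refine ⟨φ ⁻¹' U, hUo.preimage (PrimeSpectrum.continuous_comap _), ?_, ?_⟩
    · obtain ⟨x, hx⟩ := hUne
      have hsurj : Function.Surjective φ := (PrimeSpectrum.comapEquiv e).symm.surjective
      obtain ⟨y, rfl⟩ := hsurj x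
      exact ⟨y, hx⟩
    · intro Q' hQ'
      exact mem_regLocus_of_ringEquiv e Q' (hUsub hQ')

end transfer

end NG


/-- Let A be a Noetherian ring. Suppose that for every prime p of A such that A_p is regular, the
regular locus of the domain A/p contains a nonempty open subset of Spec(A/p) (equivalently, is a
neighbourhood of the generic point). Then the regular locus of A is open in Spec A. -/
theorem result (A : Type u) [CommRing A] [IsNoetherianRing A]
    (h : ∀ p : PrimeSpectrum A, p ∈ EGA4.regLocus A →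
      ∃ U : Set (PrimeSpectrum (A ⧸ p.asIdeal)), IsOpen U ∧ U.Nonempty ∧ U ⊆ EGA4.regLocus (A ⧸ p.asIdeal)) :
    IsOpen (EGA4.regLocus A) :=
  NG.nagata h

end Groth.Agent.S4700
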