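import Groth.Statements.S0028
import Groth.Agent.Lib.Cohomology.Helper1_SerreVanishing
import Groth.Agent.Lib.Cohomology.helper5_Leray
import Groth.Agent.Lib.Cohomology.Helper3_Acyclic

set_option autoImplicit false
universe u
open Coherent

namespace Groth.Agent.S0028

open AlgebraicGeometry CategoryTheory TopologicalSpace Opposite Limits Abelian
open Groth.Agent.Lib.Cohomology

variable {X S : Scheme.{u}} (f : X ⟶ S)

/-- the adapted class: vanishing of higher cohomology on preimages of affine opens -/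
def P (F : CohTop.Ab X) : Prop :=
  ∀ V : S.Opens, IsAffineOpen V → ∀ p : ℕ, Subsingleton (CohTop.HU F (p + 1) (f ⁻¹ᵁ V))

lemma P_of_injective (I : CohTop.Ab X) (hI : Injective I) : P f I := by
  intro V _ p
  have : TopCat.Sheaf.IsFlasque I := isFlasque_of_injective I
  exact HU_succ_subsingleton_of_flasque I _ p

lemma P_of_shortExact (T : ShortComplex (CohTop.Ab X)) (hT : T.ShortExact)
    (h1 : P f T.X₁) (h2 : P f T.X₂) : P f T.X₃ := by
  intro V hV p
  have s1 := h1 V hV (p + 1)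
  have s2 := h2 V hV p
  refine subsingleton_of_forall_eq 0 fun x => ?_
  change Ext.{u} (CohCx.freeSheaf (Opens.grothendieckTopology X) (f ⁻¹ᵁ V)) T.X₃ (p + 1) at x
  have s1' : Subsingleton
      (Ext.{u} (CohCx.freeSheaf (Opens.grothendieckTopology X) (f ⁻¹ᵁ V)) T.X₁ (p + 1 + 1)) := s1
  have s2' : Subsingleton
      (Ext.{u} (CohCx.freeSheaf (Opens.grothendieckTopology X) (f ⁻¹ᵁ V)) T.X₂ (p + 1)) := s2
  obtain ⟨x₂, hx₂⟩ := Ext.covariant_sequence_exact₃ _ hT x rfl (Subsingleton.elim _ _)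
  rw [← hx₂, Subsingleton.elim x₂ 0, Ext.zero_comp]
  rfl


lemma epi_of_P (T : ShortComplex (CohTop.Ab X)) (hT : T.ShortExact) (h1 : P f T.X₁) :
    Epi ((Coh.pushAb f).map T.g) := by
  refine (TopCat.Sheaf.isLocallySurjective_iff_epi (X := S.toTopCat) (C := AddCommGrpCat.{u})
    ((Coh.pushAb f).map T.g)).1 ?_
  rw [TopCat.Presheaf.isLocallySurjective_iff]
  intro V t y hy
  obtain ⟨V', hV', hyV', hV'V⟩ :=
    (Opens.isBasis_iff_nbhd.1 S.isBasis_affineOpens) hy
  have hsurj := Leray.sections_surjective_of_H1 hT (f ⁻¹ᵁ V') (h1 V' hV' 0)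
  obtain ⟨s, hs⟩ := hsurj (T.X₃.obj.map (homOfLE (show f ⁻¹ᵁ V' ≤ f ⁻¹ᵁ V from
    fun _ hx => hV'V hx)).op t)
  exact ⟨V', hV'V, ⟨s, hs⟩, hyV'⟩

theorem main [IsAffineHom f] (M : X.Modules) [Coh.IsQCoh M] (n : ℕ) :
    IsZero ((Coh.RpushAb f (n + 1)).obj (Coh.toAb M)) := by
  have : PreservesFiniteLimits (Coh.pushAb f) := push_preservesFiniteLimits f.base
  refine isZero_rightDerived_succ_of_class (Coh.pushAb f) (P f) (P_of_injective f)
    (P_of_shortExact f) (epi_of_P f) (Coh.toAb M) ?_ n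
  intro V hV p
  exact HU_succ_subsingleton_of_isAffineOpen M (f ⁻¹ᵁ V) (hV.preimage f) p


open AlgebraicGeometry CategoryTheory in
/-- If f : X → S is an affine morphism and F is a quasi-coherent O_X-module, then R^i f_* F = 0 for all
i > 0 (higher direct images of the underlying abelian sheaf). -/
theorem result {X S : Scheme.{u}} (f : X ⟶ S) [IsAffineHom f]
    (M : X.Modules) [Coh.IsQCoh M] (i : ℕ) (hi : 0 < i) :
    Limits.IsZero ((Coh.RpushAb f i).obj (Coh.toAb M)) := by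
  obtain ⟨n, rfl⟩ : ∃ n, i = n + 1 := ⟨i - 1, by omega⟩
  exact main f M n

end Groth.Agent.S0028
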