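import Groth.Statements.S0484
import Groth.Agent.Lib.Helper94.ModSiteBasic
import Mathlib.Algebra.Category.ModuleCat.Presheaf.Generator

set_option autoImplicit false
universe u
open CategoryTheory
open CohSite

namespace Groth.Agent.S0484

/-- For a sheaf of rings O on a small site, the category of O-modules has exact filtered colimits and a
generator, so it is a Grothendieck abelian category. -/
theorem result {C : Type u} [SmallCategory C] (J : GrothendieckTopology C)
    (R : Sheaf J RingCat.{u}) : IsGrothendieckAbelian.{u} (SheafOfModules.{u} R) := by
  let L := PresheafOfModules.sheafification.{u} (𝟙 R.obj)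
  let adj := PresheafOfModules.sheafificationAdjunction.{u} (𝟙 R.obj)
  have hsep : ObjectProperty.IsSeparating (.ofObj fun X : C =>
      L.obj ((PresheafOfModules.free R.obj).obj (yoneda.obj X))) := by
    intro F G f g hfg
    apply (SheafOfModules.forget R ⋙ PresheafOfModules.restrictScalars (𝟙 R.obj)).map_injective
    apply PresheafOfModules.freeYoneda.isSeparating R.obj
    rintro _ ⟨X⟩ a
    apply (adj.homEquiv _ _).symm.injective
    have h := hfg _ (ObjectProperty.ofObj_apply _ X) ((adj.homEquiv _ _).symm a)
    simp only [← Adjunction.homEquiv_naturality_right_symm] at h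
    exact h
  have hS : HasSeparator (SheafOfModules.{u} R) := ⟨_, hsep.isSeparator_coproduct⟩
  have hAB5 : AB5OfSize.{u, u} (SheafOfModules.{u} R) := by
    constructor
    intro Λ _ _
    have := Groth.Agent.Lib.Helper94.ModSiteBasic.presheafExact R.obj Λ
    exact (PresheafOfModules.sheafificationAdjunction (𝟙 R.obj)).hasExactColimitsOfShape Λ
  exact {}

end Groth.Agent.S0484
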