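import Groth.Statements.S0856
import Mathlib.Algebra.Category.ModuleCat.Presheaf.Free
import Mathlib.Algebra.Category.ModuleCat.Presheaf.Sheafification
import Mathlib.Algebra.Category.ModuleCat.Presheaf.EpiMono
-- import your own Groth.Agent.* helpers here

set_option autoImplicit false
universe u
open CategoryTheory
open CohSite

namespace Groth.Agent.S0856

section Helpers
open Opposite

variable {C : Type u} [SmallCategory C] {J : GrothendieckTopology C} (O : Sheaf J RingCat.{u})

/-- The free presheaf of modules functor preserves monomorphisms. -/
instance free_preservesMono : (PresheafOfModules.free O.obj).PreservesMonomorphisms where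
  preserves {F G} φ hφ := by
    apply PresheafOfModules.mono_of_injective
    intro X
    have h1 : Function.Injective (φ.app X) := by
      have : Mono (φ.app X) := inferInstance
      exact (mono_iff_injective (φ.app X)).1 this
    change Function.Injective ((ModuleCat.free (O.obj.obj X)).map (φ.app X))
    exact Finsupp.mapDomain_injective h1

/-- The composite adjunction (free sheaf of modules on a presheaf of sets) ⊣ (underlying presheaf of sets). -/
noncomputable def adj :
    PresheafOfModules.free O.obj ⋙ PresheafOfModules.sheafification (J := J) (𝟙 O.obj) ⊣
      (SheafOfModules.forget O ⋙ PresheafOfModules.restrictScalars (𝟙 O.obj)) ⋙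
        (PresheafOfModules.toPresheaf O.obj ⋙ (Functor.whiskeringRight Cᵒᵖ Ab (Type u)).obj (forget Ab)) :=
  (PresheafOfModules.freeAdjunction O.obj).comp
    (PresheafOfModules.sheafificationAdjunction (J := J) (R := O) (𝟙 O.obj))

theorem result' (I : SheafOfModules.{u} O) [Injective I]
    {U U' : C} (a : U' ⟶ U) [Mono a] : Function.Surjective (I.val.map a.op) := by
  have hI := Injective.injective_of_adjoint (adj O) I
  intro s'
  let P := ((SheafOfModules.forget O ⋙ PresheafOfModules.restrictScalars (𝟙 O.obj)) ⋙
        (PresheafOfModules.toPresheaf O.obj ⋙
          (Functor.whiskeringRight Cᵒᵖ Ab (Type u)).obj (forget Ab))).obj I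
  have : Mono (yoneda.map a) := inferInstance
  let f' : yoneda.obj U' ⟶ P := yonedaEquiv.symm s'
  let g := Injective.factorThru f' (yoneda.map a)
  have hg : yoneda.map a ≫ g = f' := Injective.comp_factorThru _ _
  refine ⟨yonedaEquiv g, ?_⟩
  have := congrArg yonedaEquiv hg
  rw [← yonedaEquiv_naturality] at this
  simp only [f', Equiv.apply_symm_apply] at this
  exact this

end Helpers

open Opposite in
/-- Let (C, O) be a ringed site, a : U' -> U a monomorphism of C and I an injective sheaf of O-modules.
Then the restriction map I(U) -> I(U') is surjective. -/
theorem result {C : Type u} [SmallCategory C]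
    {J : GrothendieckTopology C} (O : Sheaf J RingCat.{u}) (I : SheafOfModules.{u} O) [Injective I]
    {U U' : C} (a : U' ⟶ U) [Mono a] : Function.Surjective (I.val.map a.op) := by
  exact result' O I a

end Groth.Agent.S0856
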