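import Groth.Statements.S11319
import Groth.Agent.S0856
import Groth.Agent.Lib.Cohomology.helper5_AcyclicCompare
import Groth.Agent.Lib.Cohomology.helper5_HHLES
import Groth.Agent.Lib.Cohomology.Helper3_Flasque

set_option autoImplicit false
universe u
open CategoryTheory AlgebraicGeometry
open Coherent

namespace Groth.Agent.S11319

open AlgebraicGeometry CategoryTheory CategoryTheory.Limits TopologicalSpace Opposite
open Groth.Agent.Lib.Cohomology.AcyclicCompare Groth.Agent.Lib.Cohomology.RDShift
open Groth.Agent.Lib.Cohomology.HHLES

/-- an injective `O_X`-module is flasque -/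
theorem isFlasque_toAb_of_injective {X : Scheme.{u}} (I : X.Modules) (hI : Injective I) :
    TopCat.Sheaf.IsFlasque (Coh.toAb I) := by
  constructor
  intro U V i
  rw [AddCommGrpCat.epi_iff_surjective]
  have hm : Mono i.unop := ⟨fun _ _ _ => Subsingleton.elim _ _⟩
  exact @Groth.Agent.S0856.result _ _ _ (RR X) I hI _ _ i.unop hm

instance {X Y : Scheme.{u}} (f : X ⟶ Y) : PreservesFiniteLimits (Coh.pushAb f) :=
  inferInstanceAs (PreservesFiniteLimits (CohTop.push f.base))

instance {X Y : Scheme.{u}} (f : X ⟶ Y) : PreservesFiniteLimits (Scheme.Modules.pushforward f) := by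
  have : PreservesLimitsOfSize.{0, 0} (Scheme.Modules.pushforward f) :=
    (Scheme.Modules.pullbackPushforwardAdjunction f).rightAdjoint_preservesLimits
  exact PreservesLimitsOfSize.preservesFiniteLimits _

/-- pushforward commutes with the forgetful functors -/
noncomputable def pushToAbIso {X Y : Scheme.{u}} (f : X ⟶ Y) :
    Scheme.Modules.pushforward f ⋙ toAbF Y ≅ toAbF X ⋙ Coh.pushAb f :=
  NatIso.ofComponents (fun F => Iso.refl _) (by intros; rfl)


/-- Let f : X → Y be a morphism of schemes, M an O_X-module and n ≥ 0. Then the underlying abelian sheaf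
of the n-th higher direct image R^n f_* M computed in the category of O-modules (the n-th right
derived functor of f_* : Mod(O_X) → Mod(O_Y), which needs the stated instance that Mod(O_X) has
injective resolutions — it does) is isomorphic to the n-th higher direct image of the underlying
abelian sheaf of M (the right derived functor of f_* on abelian sheaves). (Stated for schemes; the
published statement is for ringed spaces. Existence of an isomorphism only.) -/
theorem result {X Y : Scheme.{u}} (f : X ⟶ Y)
    [HasInjectiveResolutions X.Modules] (M : X.Modules) (n : ℕ) :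
    Nonempty (Coh.toAb ((Coh.Rpush f n).obj M) ≅ (Coh.RpushAb f n).obj (Coh.toAb M)) := by
  exact compare (Scheme.Modules.pushforward f) (toAbF Y) (toAbF X) (Coh.pushAb f) (pushToAbIso f)
    (fun _ => True)
    (fun A _ => ⟨trivial, (embSES_shortExact A).map_of_exact (toAbF X)⟩)
    (fun I hI n => by
      have := hI
      have : TopCat.Sheaf.IsFlasque ((toAbF X).obj I) := isFlasque_toAb_of_injective I hI
      exact Groth.Agent.Lib.Cohomology.isZero_Rpush_succ_of_flasque f.base _ n)
    n M trivial

end Groth.Agent.S11319
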