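import Groth.Statements.S4456
import Groth.Agent.S0028
import Groth.Agent.S0904
import Groth.Agent.Lib.Cohomology.helper5_AcyclicCompare

set_option autoImplicit false
universe u
open Coherent

namespace Groth.Agent.S4456

open AlgebraicGeometry CategoryTheory CategoryTheory.Limits TopologicalSpace
open Groth.Agent.Lib.Cohomology.AcyclicCompare Groth.Agent.Lib.Cohomology.RDShift

instance {X Y : Scheme.{u}} (f : X ⟶ Y) : PreservesFiniteLimits (Coh.pushAb f) :=
  inferInstanceAs (PreservesFiniteLimits (CohTop.push f.base))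

/-- pushforward of abelian sheaves along a composite -/
noncomputable def pushCompIso {X Y Z : Scheme.{u}} (f : X ⟶ Y) (g : Y ⟶ Z) :
    Coh.pushAb (f ≫ g) ⋙ 𝟭 _ ≅ Coh.pushAb f ⋙ Coh.pushAb g :=
  NatIso.ofComponents (fun F => Iso.refl _) (by intros; rfl)

open AlgebraicGeometry CategoryTheory in
/-- Let f : X → Y be an affine morphism, g : Y → Z a morphism of schemes and F a quasi-coherent
O_X-module. Then for every p ≥ 0 the higher direct image R^p g_*(f_* F) is isomorphic to R^p (g ∘
f)_* F (higher direct images of the underlying abelian sheaves). The source shows that the canonical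
comparison map is an isomorphism; only the existence of an isomorphism is asserted here. -/
theorem result {X Y Z : Scheme.{u}} (f : X ⟶ Y) (g : Y ⟶ Z)
    [IsAffineHom f] (F : X.Modules) [Coh.IsQCoh F] (p : ℕ) :
    Nonempty ((Coh.RpushAb g p).obj (Coh.toAb ((Coh.push f).obj F)) ≅
      (Coh.RpushAb (f ≫ g) p).obj (Coh.toAb F)) := by
  obtain ⟨e⟩ := compare (Coh.pushAb (f ≫ g)) (𝟭 _) (Coh.pushAb f) (Coh.pushAb g) (pushCompIso f g)
    (fun A => ∀ q : ℕ, IsZero ((Coh.RpushAb f (q + 1)).obj A))
    (fun A hA => ⟨fun q => isZero_rightDerived_X₃ (embSES_shortExact A) (Coh.pushAb f) q (hA (q + 1)),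
      map_shortExact_of_isZero (embSES_shortExact A) (Coh.pushAb f) (hA 0)⟩)
    (fun I hI n => by
      have := hI
      have : Injective ((Coh.pushAb f).obj I) := Groth.Agent.S0904.result f.base I
      exact Functor.isZero_rightDerived_obj_injective_succ _ n _)
    p (Coh.toAb F) (fun q => Groth.Agent.S0028.result f F (q + 1) (Nat.succ_pos q))
  exact ⟨e.symm⟩

end Groth.Agent.S4456
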