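import Groth.Statements.S11165
import Groth.Agent.S11319
import Groth.Agent.S4456
import Groth.Agent.Lib.QCoh.Helper50_Products

set_option autoImplicit false
universe u
open CategoryTheory CategoryTheory.Limits AlgebraicGeometry
open Coherent

namespace Groth.Agent.S11165

open Groth.Agent.Lib.Cohomology.HHLES

/-- the forgetful functor to abelian sheaves reflects zero objects -/
theorem isZero_of_isZero_toAb {Y : Scheme.{u}} (Z : Y.Modules) (h : IsZero (Coh.toAb Z)) :
    IsZero Z := by
  have : (toAbF Y).Faithful := inferInstanceAs (SheafOfModules.toSheaf.{u} (RR Y)).Faithful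
  rw [IsZero.iff_id_eq_zero]
  apply (toAbF Y).map_injective
  exact h.eq_of_src _ _


/-- Let f : X ⟶ Y be a separated morphism of schemes, U an open of X on which f restricts to an affine
morphism, i : U ⟶ X the inclusion and F a quasi-coherent O_X-module. Then i_*(F|_U) is acyclic for
f_*: its higher direct images R^j f_* vanish for j > 0. (The binder asserting injective resolutions
of O_X-modules always holds.) -/
theorem result {X Y : Scheme.{u}} (f : X ⟶ Y) [IsSeparated f]
    (U : X.Opens) [IsAffineHom (U.ι ≫ f)] (F : X.Modules) (hF : Coh.IsQCoh F)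
    [HasInjectiveResolutions X.Modules] (j : ℕ) (hj : 0 < j) :
    IsZero ((Coh.Rpush f j).obj ((Scheme.Modules.pushforward U.ι).obj ((Scheme.Modules.restrictFunctor U.ι).obj F))) := by
  have : IsAffineHom U.ι := IsAffineHom.of_comp U.ι f
  have hG : Coh.IsQCoh ((Scheme.Modules.restrictFunctor U.ι).obj F) :=
    Groth.Agent.Lib.QCoh.isQuasicoherent_restrict U.ι F
  obtain ⟨e1⟩ := Groth.Agent.S11319.result f
    ((Scheme.Modules.pushforward U.ι).obj ((Scheme.Modules.restrictFunctor U.ι).obj F)) j
  obtain ⟨e2⟩ := Groth.Agent.S4456.result U.ι f ((Scheme.Modules.restrictFunctor U.ι).obj F) j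
  have h0 := Groth.Agent.S0028.result (U.ι ≫ f) ((Scheme.Modules.restrictFunctor U.ι).obj F) j hj
  exact isZero_of_isZero_toAb _ (h0.of_iso (e1 ≪≫ e2))

end Groth.Agent.S11165
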