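import Groth.Statements.S0048
import Groth.Agent.Lib.Cohomology.Helper1_KernelSections
import Groth.Agent.Lib.QCoh.Coherent
import Groth.Agent.Lib.QCoh.Invertible
-- import your own Groth.Agent.* helpers here

set_option autoImplicit false
universe u
open Coherent

namespace Groth.Agent.S0048

section Aux
open AlgebraicGeometry CategoryTheory CategoryTheory.Limits Opposite TopologicalSpace
open Groth.Agent.Lib.QCoh Groth.Agent.Lib.Cohomology

variable {X : Scheme.{u}}

/-- The structure sheaf is quasi-coherent. -/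
lemma isQuasicoherent_structureModule (X : Scheme.{u}) : (Coh.structureModule X).IsQuasicoherent :=
  (exists_presentation_structureModule X).choose.isQuasicoherent

/-- A zero module is quasi-coherent. -/
lemma isQuasicoherent_of_isZero {N : X.Modules} (hN : IsZero N) : N.IsQuasicoherent := by
  haveI := isQuasicoherent_structureModule X
  have h1 : (cokernel (𝟙 (Coh.structureModule X))).IsQuasicoherent :=
    isQuasicoherent_cokernel (𝟙 (Coh.structureModule X))
  have hz : IsZero (cokernel (𝟙 (Coh.structureModule X))) := by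
    rw [IsZero.iff_id_eq_zero, ← cancel_epi (cokernel.π (𝟙 (Coh.structureModule X)))]
    have := cokernel.condition (𝟙 (Coh.structureModule X))
    rw [Category.id_comp] at this
    rw [this, zero_comp, comp_zero]
  exact isQuasicoherent_of_iso (hz.iso hN) h1

/-- A module whose sections over all opens vanish is zero. -/
lemma isZero_of_forall_sections_subsingleton (N : X.Modules)
    (h : ∀ O : X.Opens, Subsingleton Γ(N, O)) : IsZero N := by
  rw [IsZero.iff_id_eq_zero]
  ext O s
  haveI := h O
  exact Subsingleton.elim _ _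

/-- Sections of `j_* F` over an affine open inside `U` form a finite module. -/
lemma finite_sections_pushforward_ι (U : X.Opens) (F : (U : Scheme.{u}).Modules)
    [F.IsQuasicoherent] [F.IsFiniteType] (V : X.Opens) (hV : IsAffineOpen V) (hVU : V ≤ U) :
    Module.Finite Γ(X, V) Γ((Scheme.Modules.pushforward U.ι).obj F, V) := by
  have hV' : IsAffineOpen (U.ι ⁻¹ᵁ V) := by
    rw [← U.ι.isAffineOpen_iff_of_isOpenImmersion, Scheme.Hom.image_preimage_eq_opensRange_inf,
      Scheme.Opens.opensRange_ι, inf_eq_right.2 hVU]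
    exact hV
  have hfin : Module.Finite Γ((U : Scheme.{u}), U.ι ⁻¹ᵁ V) Γ(F, U.ι ⁻¹ᵁ V) :=
    finite_Γ_of_isAffineOpen hV' F
  have hiso : IsIso (U.ι.app V) :=
    Scheme.Hom.isIso_app U.ι V (by rw [Scheme.Opens.opensRange_ι]; exact hVU)
  have hsurj : Function.Surjective (U.ι.app V) := by
    intro b
    refine ⟨(inv (U.ι.app V)) b, ?_⟩
    rw [← ConcreteCategory.comp_apply, IsIso.inv_hom_id]
    rfl
  obtain ⟨S, hS⟩ := hfin.1
  refine ⟨⟨S, ?_⟩⟩
  rw [eq_top_iff]
  have key : ∀ m' : Γ(F, U.ι ⁻¹ᵁ V),
      m' ∈ Submodule.span Γ((U : Scheme.{u}), U.ι ⁻¹ᵁ V) (S : Set Γ(F, U.ι ⁻¹ᵁ V)) →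
      (show Γ((Scheme.Modules.pushforward U.ι).obj F, V) from m') ∈
        Submodule.span Γ(X, V)
          ((show Finset Γ((Scheme.Modules.pushforward U.ι).obj F, V) from S) :
            Set Γ((Scheme.Modules.pushforward U.ι).obj F, V)) := by
    intro m' hm
    induction hm using Submodule.span_induction with
    | mem x hx => exact Submodule.subset_span hx
    | zero => exact zero_mem _
    | add x y _ _ hx hy => exact add_mem hx hy
    | smul b x _ hx =>
      obtain ⟨a, rfl⟩ := hsurj b
      exact Submodule.smul_mem _ a hx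
  intro m _
  exact key m (hS ▸ trivial)

theorem aux (X : Scheme.{u}) (U : X.Opens) (T : Set X) (hT : IsClosed T)
    (hTU : T ⊆ (U : Set X)) (F : (↑U : Scheme.{u}).Modules) (hF : Coh.IsCoh F)
    (hs : ∀ x : ↥U, x ∈ CohB1.support F → (x : X) ∈ T) :
    Coh.IsCoh ((Coh.push U.ι).obj F) := by
  obtain ⟨hFq, hFf⟩ := hF
  haveI : F.IsQuasicoherent := hFq
  haveI : F.IsFiniteType := hFf
  let W : X.Opens := ⟨Tᶜ, hT.isOpen_compl⟩
  -- sections over opens inside `W` vanish
  have hGW : ∀ O : X.Opens, O ≤ W →
      Subsingleton Γ((Scheme.Modules.pushforward U.ι).obj F, O) := by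
    intro O hO
    have : Subsingleton Γ(F, U.ι ⁻¹ᵁ O) :=
      subsingleton_sections_of_disjoint_support F _ (fun x hx hxs => hO hx (hs x hxs))
    exact this
  have hUW : ∀ x : X, x ∈ U ∨ x ∈ W := by
    intro x
    by_cases hx : x ∈ T
    · exact Or.inl (hTU hx)
    · exact Or.inr hx
  have hGq : ((Scheme.Modules.pushforward U.ι).obj F).IsQuasicoherent := by
    refine isQuasicoherent_of_isOpenCover _ (fun b : ULift.{u} Bool => cond b.down U W) ?_ ?_
    · rw [IsOpenCover, eq_top_iff]
      intro x _
      rcases hUW x with hx | hx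
      · exact Opens.mem_iSup.2 ⟨⟨true⟩, hx⟩
      · exact Opens.mem_iSup.2 ⟨⟨false⟩, hx⟩
    · rintro ⟨b⟩
      cases b
      · apply isQuasicoherent_of_isZero
        apply isZero_of_forall_sections_subsingleton
        intro O
        exact hGW (W.ι ''ᵁ O) (by
          rintro _ ⟨z, -, rfl⟩
          exact z.2)
      · exact isQuasicoherent_of_iso
          (asIso ((Scheme.Modules.restrictAdjunction U.ι).counit.app F)).symm hFq
  refine ⟨hGq, ?_⟩
  haveI := hGq
  refine isFiniteType_of_isOpenCover _
    (fun V : {V : X.Opens // IsAffineOpen V ∧ (V ≤ U ∨ V ≤ W)} => V.1) ?_ ?_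
  · rw [IsOpenCover, eq_top_iff]
    intro x _
    rcases hUW x with hx | hx
    · obtain ⟨_, ⟨V, hV, rfl⟩, hxV, hVU⟩ :=
        X.isBasis_affineOpens.exists_subset_of_mem_open hx U.isOpen
      exact Opens.mem_iSup.2 ⟨⟨V, hV, Or.inl hVU⟩, hxV⟩
    · obtain ⟨_, ⟨V, hV, rfl⟩, hxV, hVW⟩ :=
        X.isBasis_affineOpens.exists_subset_of_mem_open hx W.isOpen
      exact Opens.mem_iSup.2 ⟨⟨V, hV, Or.inr hVW⟩, hxV⟩
  · rintro ⟨V, hV, hVUW⟩
    apply exists_generatingSections_restrict_of_finite hV
    rcases hVUW with hVU | hVW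
    · exact finite_sections_pushforward_ι U F V hV hVU
    · haveI := hGW V hVW
      exact Module.Finite.of_finite

end Aux

open AlgebraicGeometry in
/-- Let U ⊆ X be open and T ⊆ U a subset closed in X. If F is a coherent (quasi-coherent of finite type,
i.e. `Coh.IsCoh`) module on U with support contained in T, then its direct image along U ↪ X is
again coherent in the same sense. (The published statement is for coherent modules in the usual
sense; here both hypothesis and conclusion use the notion `Coh.IsCoh`.) -/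
theorem result (X : Scheme.{u}) (U : X.Opens) (T : Set X)
    (hT : IsClosed T) (hTU : T ⊆ (U : Set X)) (F : (↑U : Scheme.{u}).Modules) (hF : Coh.IsCoh F)
    (hs : ∀ x : ↥U, x ∈ CohB1.support F → (x : X) ∈ T) : Coh.IsCoh ((Coh.push U.ι).obj F) := by
  exact aux X U T hT hTU F hF hs

end Groth.Agent.S0048
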