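import Groth.Statements.S6632
-- import your own Groth.Agent.* helpers here

set_option autoImplicit false
open CategoryTheory CategoryTheory.Limits AlgebraicGeometry Opposite
universe u
open EtCore

namespace Groth.Agent.S6632

/-- Unfolding the small étale topology (pointwise criterion). -/
theorem mem_smallEtaleTopology_iff {X : Scheme.{u}} (W : X.Etale) (S : Sieve W) :
    S ∈ X.smallEtaleTopology W ↔
      ∀ x : ↥(W.left), ∃ (Y : X.Etale) (f : Y ⟶ W) (y : ↥(Y.left)), S f ∧ f.left.base y = x := by
  change S ∈ X.smallGrothendieckTopology (P := @Etale) W ↔ _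
  rw [Scheme.smallGrothendieckTopology_eq_toGrothendieck_smallPretopology _ le_rfl]
  refine (Scheme.mem_toGrothendieck_smallPretopology (P := @Etale) (Q := @Etale) W S).trans ?_
  constructor
  · intro h x
    obtain ⟨Y, f, y, h1, -, h3⟩ := h x
    exact ⟨Y, f, y, h1, h3⟩
  · intro h x
    obtain ⟨Y, f, y, h1, h3⟩ := h x
    exact ⟨Y, f, y, h1, inferInstance, h3⟩

set_option backward.isDefEq.respectTransparency.types false in
theorem bc_map_left_fst {X Y : Scheme.{u}} (f : X ⟶ Y) {U V : Y.Etale} (g : V ⟶ U) :
    ((EtCoh.bc f).map g).left ≫ pullback.fst U.hom f = pullback.fst V.hom f ≫ g.left :=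
  (EtCoh.isPullback_bc_map f g).w

set_option backward.isDefEq.respectTransparency.types false in
theorem bc_map_left_snd {X Y : Scheme.{u}} (f : X ⟶ Y) {U V : Y.Etale} (g : V ⟶ U) :
    ((EtCoh.bc f).map g).left ≫ pullback.snd U.hom f = pullback.snd V.hom f := by
  dsimp [EtCoh.bc]
  exact pullback.lift_snd _ _ _

/-- The sieve of arrows which either have sheaf-theoretically empty base change or whose base
change lies in `R`. -/
noncomputable def sieveR' {X Y : Scheme.{u}} (f : X ⟶ Y) (U : Y.Etale)
    (R : Sieve ((EtCoh.bc f).obj U)) : Sieve U where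
  arrows V' g := (⊥ : Sieve ((EtCoh.bc f).obj V')) ∈ X.smallEtaleTopology ((EtCoh.bc f).obj V') ∨
    R ((EtCoh.bc f).map g)
  downward_closed := by
    intro V' V'' g hg k
    rcases hg with hg | hg
    · left
      have := X.smallEtaleTopology.pullback_stable ((EtCoh.bc f).map k) hg
      refine X.smallEtaleTopology.superset_covering ?_ this
      intro Z a ha
      exact ha.elim
    · right
      rw [Functor.map_comp]
      exact R.downward_closed hg _


set_option backward.defeqAttrib.useBackward true in
set_option backward.isDefEq.respectTransparency false in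
/-- Case 1: points outside the (closed) image of `X ×_Y V ⟶ V`. -/
theorem case_not_mem {X Y : Scheme.{u}} (f : X ⟶ Y) (U : Y.Etale)
    (R : Sieve ((EtCoh.bc f).obj U))
    (hcl : IsClosed (Set.range (pullback.fst U.hom f).base))
    (y : ↥(U.left)) (hy : y ∉ Set.range (pullback.fst U.hom f).base) :
    ∃ (V' : Y.Etale) (g : V' ⟶ U) (y' : ↥(V'.left)), sieveR' f U R g ∧ g.left.base y' = y := by
  let W : U.left.Opens := ⟨(Set.range (pullback.fst U.hom f).base)ᶜ, hcl.isOpen_compl⟩
  let V' : Y.Etale := Scheme.Etale.mk (W.ι ≫ U.hom)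
  let g : V' ⟶ U := MorphismProperty.Over.homMk W.ι rfl trivial
  refine ⟨V', g, ⟨y, hy⟩, Or.inl ?_, rfl⟩
  rw [mem_smallEtaleTopology_iff]
  intro x
  exfalso
  have h1 := bc_map_left_fst f g
  have h2 : (pullback.fst U.hom f).base (((EtCoh.bc f).map g).left.base x) =
      g.left.base ((pullback.fst V'.hom f).base x) :=
    congrArg (fun φ : ((EtCoh.bc f).obj V').left ⟶ U.left => φ.base x) h1
  have h3 : g.left.base ((pullback.fst V'.hom f).base x) ∈ (W : Set ↥(U.left)) :=
    ((pullback.fst V'.hom f).base x).2
  exact h3 ⟨_, h2⟩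

set_option backward.defeqAttrib.useBackward true in
set_option backward.isDefEq.respectTransparency false in
/-- Case 2: points in the image of `X ×_Y V ⟶ V`. -/
theorem case_mem {X Y : Scheme.{u}} (f : X ⟶ Y) (U : Y.Etale)
    (R : Sieve ((EtCoh.bc f).obj U)) (hR : R ∈ X.smallEtaleTopology ((EtCoh.bc f).obj U))
    (hC : BigSite.PropC (pullback.snd f U.hom))
    (x : ↥(pullback U.hom f)) :
    ∃ (V' : Y.Etale) (g : V' ⟶ U) (y' : ↥(V'.left)), sieveR' f U R g ∧
      g.left.base y' = (pullback.fst U.hom f).base x := by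
  rw [mem_smallEtaleTopology_iff] at hR
  obtain ⟨U₁, k₁, u₁, hRk, hu₁⟩ := hR x
  let g₁ : U₁.left ⟶ pullback f U.hom := k₁.left ≫ (pullbackSymmetry U.hom f).hom
  obtain ⟨V₁, v₁, hv₁, h, hh, hs⟩ := hC U₁.left g₁
  let V' : Y.Etale := Scheme.Etale.mk (v₁ ≫ U.hom)
  let g : V' ⟶ U := MorphismProperty.Over.homMk v₁ rfl trivial
  obtain ⟨w, hw⟩ := hs.surj u₁
  -- key identities
  have hk₁fst : k₁.left ≫ pullback.fst U.hom f = g₁ ≫ pullback.snd f U.hom := by
    simp only [g₁, Category.assoc, pullbackSymmetry_hom_comp_snd]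
  have hU₁ : U₁.hom = g₁ ≫ pullback.fst f U.hom := by
    have := CategoryTheory.Over.w k₁.hom
    simp only [g₁, Category.assoc, pullbackSymmetry_hom_comp_fst]
    exact this.symm
  refine ⟨V', g, (pullback.snd (pullback.snd f U.hom) v₁).base w, Or.inr ?_, ?_⟩
  · -- `bc.map g` factors through `k₁`
    let a := pullback.fst (v₁ ≫ U.hom) f
    let b := pullback.snd (v₁ ≫ U.hom) f
    have hab : a ≫ v₁ ≫ U.hom = b ≫ f := pullback.condition
    let θ₁ : pullback (v₁ ≫ U.hom) f ⟶ pullback f U.hom :=
      pullback.lift b (a ≫ v₁) (by rw [Category.assoc, hab])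
    let θ : pullback (v₁ ≫ U.hom) f ⟶ pullback (pullback.snd f U.hom) v₁ :=
      pullback.lift θ₁ a (pullback.lift_snd _ _ _)
    have hθ₁ : θ ≫ pullback.fst _ _ = θ₁ := pullback.lift_fst _ _ _
    have hm : (θ ≫ h) ≫ U₁.hom = b := by
      rw [hU₁, Category.assoc, ← Category.assoc h, hh, ← Category.assoc, hθ₁]
      exact pullback.lift_fst _ _ _
    let m : (EtCoh.bc f).obj V' ⟶ U₁ := MorphismProperty.Over.homMk (θ ≫ h) hm trivial
    have : (EtCoh.bc f).map g = m ≫ k₁ := by
      apply MorphismProperty.Over.Hom.ext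
      apply pullback.hom_ext
      · rw [bc_map_left_fst]
        change a ≫ v₁ = (θ ≫ h) ≫ k₁.left ≫ pullback.fst U.hom f
        rw [hk₁fst, Category.assoc, ← Category.assoc h, hh, ← Category.assoc, hθ₁]
        exact (pullback.lift_snd _ _ _).symm
      · rw [bc_map_left_snd]
        change b = (θ ≫ h) ≫ k₁.left ≫ pullback.snd U.hom f
        have : k₁.left ≫ pullback.snd U.hom f = U₁.hom := CategoryTheory.Over.w k₁.hom
        rw [this, hm]
    change R ((EtCoh.bc f).map g)
    rw [this]
    exact R.downward_closed hRk m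
  · change v₁.base ((pullback.snd (pullback.snd f U.hom) v₁).base w) = _
    rw [← Scheme.Hom.comp_apply, ← pullback.condition, Scheme.Hom.comp_apply]
    have e1 : (pullback.fst (pullback.snd f U.hom) v₁).base w = g₁.base u₁ := by
      rw [← hh, Scheme.Hom.comp_apply, hw]
    rw [e1, ← Scheme.Hom.comp_apply, ← hk₁fst, Scheme.Hom.comp_apply, hu₁]
    rfl

/-- Let f : X ⟶ Y be a morphism of schemes such that, for every etale V ⟶ Y, the base change X ×_Y V ⟶ V
satisfies condition (C) (for every etale U ⟶ X ×_Y V there are an etale V' ⟶ V and a surjective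
morphism from the base change of V' to U over X ×_Y V) and is closed as a map of topological spaces.
Then the base change functor V ↦ X ×_Y V from the small etale site of Y to that of X is almost
cocontinuous: every covering sieve of X ×_Y V contains the images of the members of some covering
sieve of V, except for members V' for which X ×_Y V' is covered by the empty sieve. -/
theorem result {X Y : Scheme.{u}} (f : X ⟶ Y)
    (hC : ∀ (V : Scheme.{u}) (v : V ⟶ Y) [Etale v], BigSite.PropC (pullback.snd f v))
    (hcl : ∀ (V : Scheme.{u}) (v : V ⟶ Y) [Etale v], IsClosedMap (pullback.snd f v).base) :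
    BigSite.IsAlmostCocontinuous (EtCoh.bc f) Y.smallEtaleTopology X.smallEtaleTopology := by
  intro U R hR
  refine ⟨sieveR' f U R, ?_, fun V' g hg => hg⟩
  rw [mem_smallEtaleTopology_iff]
  intro y
  by_cases hy : y ∈ Set.range (pullback.fst U.hom f).base
  · obtain ⟨x, rfl⟩ := hy
    exact case_mem f U R hR (hC U.left U.hom) x
  · refine case_not_mem f U R ?_ y hy
    have h1 := (hcl U.left U.hom).isClosed_range
    have h2 : Set.range (pullback.fst U.hom f).base = Set.range (pullback.snd f U.hom).base := by
      rw [← pullbackSymmetry_hom_comp_snd U.hom f, Scheme.Hom.comp_base, TopCat.coe_comp,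
        Set.range_comp]
      have : Function.Surjective (pullbackSymmetry U.hom f).hom.base :=
        (inferInstance : Surjective (pullbackSymmetry U.hom f).hom).surj
      rw [this.range_eq, Set.image_univ]
    rw [h2]
    exact h1

end Groth.Agent.S6632
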