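import Groth.Statements.S0660
import Groth.Agent.Lib.Helper70.EtaleGraph
import Groth.Agent.S6632

set_option autoImplicit false
open CategoryTheory CategoryTheory.Limits AlgebraicGeometry Opposite
universe u
open EtCore

namespace Groth.Agent.S0660

/-- Let i : Z -> X be a closed immersion, U and U' schemes etale over X, and h a Z-morphism from U x_X Z
to U' x_X Z. Then there are an etale X-scheme W and X-morphisms a : W -> U, b : W -> U' such that
the base change of a to Z is an isomorphism and h is the base change of b composed with the inverse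
of the base change of a. -/
theorem result {Z X : Scheme.{u}} (i : Z ⟶ X) [IsClosedImmersion i] (U U' : X.Etale)
    (h : (EtCoh.bc i).obj U ⟶ (EtCoh.bc i).obj U') :
    ∃ (W : X.Etale) (a : W ⟶ U) (b : W ⟶ U'), IsIso ((EtCoh.bc i).map a) ∧ (EtCoh.bc i).map a ≫ h = (EtCoh.bc i).map b := by
  obtain ⟨W, w, a, b, ha, hb, hw, hiso, heq⟩ :=
    Groth.Agent.Lib.Helper70.EtaleGraph.exists_correspondence (U := U.left) (U' := U'.left) i
      U.hom U'.hom h.left (CategoryTheory.Over.w h.hom)
  let Wet : X.Etale := Scheme.Etale.mk w
  let aet : Wet ⟶ U := MorphismProperty.Over.homMk a ha trivial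
  let bet : Wet ⟶ U' := MorphismProperty.Over.homMk b hb trivial
  have hA : ((EtCoh.bc i).map aet).left =
      pullback.map w i U.hom i a (𝟙 Z) (𝟙 X) (by simp [ha]) (by simp) := by
    apply pullback.hom_ext
    · refine (Groth.Agent.S6632.bc_map_left_fst i aet).trans ?_
      exact (pullback.lift_fst _ _ _).symm
    · refine (Groth.Agent.S6632.bc_map_left_snd i aet).trans ?_
      exact ((pullback.lift_snd _ _ _).trans (Category.comp_id _)).symm
  have hB : ((EtCoh.bc i).map bet).left =
      pullback.map w i U'.hom i b (𝟙 Z) (𝟙 X) (by simp [hb]) (by simp) := by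
    apply pullback.hom_ext
    · refine (Groth.Agent.S6632.bc_map_left_fst i bet).trans ?_
      exact (pullback.lift_fst _ _ _).symm
    · refine (Groth.Agent.S6632.bc_map_left_snd i bet).trans ?_
      exact ((pullback.lift_snd _ _ _).trans (Category.comp_id _)).symm
  refine ⟨Wet, aet, bet, ?_, ?_⟩
  · have h1 : IsIso ((EtCoh.bc i).map aet).left := by rw [hA]; exact hiso
    exact Groth.Agent.Lib.Helper70.EtaleGraph.isIso_of_isIso_left _ h1
  · apply MorphismProperty.Over.Hom.ext
    change ((EtCoh.bc i).map aet).left ≫ h.left = ((EtCoh.bc i).map bet).left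
    rw [hA, hB]
    exact heq

end Groth.Agent.S0660
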