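import Groth.Statements.S0101
import Groth.Agent.Lib.Helper1.LanFlat
import Mathlib.Algebra.Category.Grp.FilteredColimits
-- import your own Groth.Agent.* helpers here

set_option autoImplicit false
open CategoryTheory CategoryTheory.Limits AlgebraicGeometry Opposite
universe u
open EtBase

namespace Groth.Agent.S0101

section Aux

attribute [local instance] CategoryTheory.Limits.reflectsLimits_of_reflectsIsomorphisms in
set_option backward.isDefEq.respectTransparency.types false in
theorem aux {X Y : Scheme.{u}} (f : X ⟶ Y) [EtCoh.BCCont f] :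
    PreservesFiniteLimits (EtCoh.pull f) := by
  haveI : PreservesFilteredColimitsOfSize.{u, u + 1} (forget AddCommGrpCat.{u + 1}) :=
    preservesFilteredColimitsOfSize_shrink.{u + 1, u + 1, u, u + 1} _
  haveI : ∀ V : (X.Etale)ᵒᵖ, IsFiltered (CostructuredArrow (EtCoh.bc f).op V) := fun V =>
    IsFiltered.of_equivalence (structuredArrowOpEquivalence (EtCoh.bc f) (unop V))
  haveI : ∀ V : (X.Etale)ᵒᵖ, PreservesColimitsOfShape (CostructuredArrow (EtCoh.bc f).op V)
      (forget AddCommGrpCat.{u + 1}) := fun V =>
    PreservesFilteredColimitsOfSize.preserves_filtered_colimits _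
  haveI : PreservesFiniteLimits ((EtCoh.bc f).op.lan :
      ((Y.Etale)ᵒᵖ ⥤ AddCommGrpCat.{u + 1}) ⥤ ((X.Etale)ᵒᵖ ⥤ AddCommGrpCat.{u + 1})) :=
    Groth.Agent.Lib.Helper1.LanFlat.lan_preservesFiniteLimits_of_flat
      (E := AddCommGrpCat.{u + 1}) (EtCoh.bc f)
  exact Functor.sheafPullbackConstruction.preservesFiniteLimits (EtCoh.bc f)
    AddCommGrpCat.{u + 1} Y.smallEtaleTopology X.smallEtaleTopology

end Aux

/-- Part (1) — pullback of abelian étale sheaves along a morphism of schemes is exact (it is a left
adjoint and preserves finite limits). -/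
theorem result {X Y : Scheme.{u}} (f : X ⟶ Y) [EtCoh.BCCont f] :
    PreservesFiniteLimits (EtCoh.pull f) := by
  exact aux f

end Groth.Agent.S0101
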