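import Groth.Statements.S6773
import Mathlib.CategoryTheory.Abelian.Exact
import Mathlib.Algebra.Homology.ShortComplex.Exact
-- import your own Groth.Agent.* helpers here

set_option autoImplicit false
open CategoryTheory
universe v u v' u'
open DeltaF

namespace Groth.Agent.S6773

open CategoryTheory.Limits

section aux

variable {A : Type u} [Category.{v} A] [Abelian A] {B : Type u'} [Category.{v'} B] [Abelian B]
variable (T T' : DeltaF.CohDeltaFunctor A B ℕ) (n : ℕ) (σ : T.F n ⟶ T'.F n)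

/-- the standard short exact sequence of a monomorphism -/
noncomputable abbrev stdS {X Y : A} (u : X ⟶ Y) : ShortComplex A :=
  ShortComplex.mk u (cokernel.π u) (cokernel.condition u)

theorem stdS_shortExact {X Y : A} (u : X ⟶ Y) [Mono u] : (stdS u).ShortExact :=
  ShortComplex.ShortExact.mk' (ShortComplex.exact_cokernel u) (by dsimp [stdS]; infer_instance)
    (by dsimp [stdS]; infer_instance)

theorem epi_δ (S : ShortComplex A) (hS : S.ShortExact) (he : (T.F (n + 1)).map S.f = 0) :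
    Epi (T.δ S hS n (n + 1) rfl) :=
  (T.exact₁ S hS n (n + 1) rfl).epi_f he

include σ in
theorem exists_θ (S : ShortComplex A) (hS : S.ShortExact) (he : (T.F (n + 1)).map S.f = 0) :
    ∃ θ : (T.F (n + 1)).obj S.X₁ ⟶ (T'.F (n + 1)).obj S.X₁,
      T.δ S hS n (n + 1) rfl ≫ θ = σ.app S.X₃ ≫ T'.δ S hS n (n + 1) rfl := by
  have := epi_δ T n S hS he
  have hk : (T.F n).map S.g ≫ (σ.app S.X₃ ≫ T'.δ S hS n (n + 1) rfl) = 0 := by
    rw [← Category.assoc, σ.naturality, Category.assoc, T'.comp_δ, comp_zero]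
  exact (T.exact₃ S hS n (n + 1) rfl).desc' _ hk

/-- Claim A: compatibility of the `θ`'s with morphisms of short exact sequences. -/
theorem claimA {S S' : ShortComplex A} (hS : S.ShortExact) (hS' : S'.ShortExact)
    (he : (T.F (n + 1)).map S.f = 0) (φ : S ⟶ S')
    (θ : (T.F (n + 1)).obj S.X₁ ⟶ (T'.F (n + 1)).obj S.X₁)
    (hθ : T.δ S hS n (n + 1) rfl ≫ θ = σ.app S.X₃ ≫ T'.δ S hS n (n + 1) rfl)
    (θ' : (T.F (n + 1)).obj S'.X₁ ⟶ (T'.F (n + 1)).obj S'.X₁)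
    (hθ' : T.δ S' hS' n (n + 1) rfl ≫ θ' = σ.app S'.X₃ ≫ T'.δ S' hS' n (n + 1) rfl) :
    (T.F (n + 1)).map φ.τ₁ ≫ θ' = θ ≫ (T'.F (n + 1)).map φ.τ₁ := by
  have := epi_δ T n S hS he
  rw [← cancel_epi (T.δ S hS n (n + 1) rfl)]
  calc T.δ S hS n (n + 1) rfl ≫ (T.F (n + 1)).map φ.τ₁ ≫ θ'
      = ((T.F n).map φ.τ₃ ≫ T.δ S' hS' n (n + 1) rfl) ≫ θ' := by
        rw [T.δ_natural hS hS' φ n (n + 1) rfl, Category.assoc]
    _ = (T.F n).map φ.τ₃ ≫ σ.app S'.X₃ ≫ T'.δ S' hS' n (n + 1) rfl := by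
        rw [Category.assoc, hθ']
    _ = σ.app S.X₃ ≫ (T'.F n).map φ.τ₃ ≫ T'.δ S' hS' n (n + 1) rfl := by
        rw [← Category.assoc, σ.naturality, Category.assoc]
    _ = σ.app S.X₃ ≫ T'.δ S hS n (n + 1) rfl ≫ (T'.F (n + 1)).map φ.τ₁ := by
        rw [T'.δ_natural hS hS' φ n (n + 1) rfl]
    _ = T.δ S hS n (n + 1) rfl ≫ θ ≫ (T'.F (n + 1)).map φ.τ₁ := by
        rw [← Category.assoc, ← hθ, Category.assoc]

/-- Claim B: naturality (and independence of the effacing monomorphism). -/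
theorem claimB {X X' Y Y' : A} (f : X ⟶ X') (u : X ⟶ Y) [Mono u] (u' : X' ⟶ Y') [Mono u']
    (he : (T.F (n + 1)).map u = 0) (he' : (T.F (n + 1)).map u' = 0)
    (θ : (T.F (n + 1)).obj X ⟶ (T'.F (n + 1)).obj X)
    (hθ : T.δ (stdS u) (stdS_shortExact u) n (n + 1) rfl ≫ θ =
      σ.app (stdS u).X₃ ≫ T'.δ (stdS u) (stdS_shortExact u) n (n + 1) rfl)
    (θ' : (T.F (n + 1)).obj X' ⟶ (T'.F (n + 1)).obj X')
    (hθ' : T.δ (stdS u') (stdS_shortExact u') n (n + 1) rfl ≫ θ' =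
      σ.app (stdS u').X₃ ≫ T'.δ (stdS u') (stdS_shortExact u') n (n + 1) rfl) :
    (T.F (n + 1)).map f ≫ θ' = θ ≫ (T'.F (n + 1)).map f := by
  have hmono : Mono (u' ≫ (pushout.inr u (f ≫ u'))) := mono_comp _ _
  have he'' : (T.F (n + 1)).map (u' ≫ (pushout.inr u (f ≫ u'))) = 0 := by
    rw [Functor.map_comp, he', zero_comp]
  obtain ⟨θ'', hθ''⟩ := exists_θ T T' n σ (stdS (u' ≫ (pushout.inr u (f ≫ u'))))
    (stdS_shortExact _) he''
  have comm₁ : u ≫ pushout.inl u (f ≫ u') = f ≫ (u' ≫ (pushout.inr u (f ≫ u'))) := by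
    rw [pushout.condition, Category.assoc]
  have comm₂ : u' ≫ pushout.inr u (f ≫ u') = 𝟙 X' ≫ (u' ≫ (pushout.inr u (f ≫ u'))) := by
    rw [Category.id_comp]
  let φ₁ : stdS u ⟶ stdS (u' ≫ (pushout.inr u (f ≫ u'))) :=
    ShortComplex.homMk f (pushout.inl u (f ≫ u')) (cokernel.map u _ f (pushout.inl u (f ≫ u')) comm₁)
      comm₁.symm (by dsimp [stdS]; simp)
  let φ₂ : stdS u' ⟶ stdS (u' ≫ (pushout.inr u (f ≫ u'))) :=
    ShortComplex.homMk (𝟙 X') (pushout.inr u (f ≫ u'))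
      (cokernel.map u' _ (𝟙 X') (pushout.inr u (f ≫ u')) comm₂)
      comm₂.symm (by dsimp [stdS]; simp)
  have h₁ := claimA T T' n σ (stdS_shortExact u) (stdS_shortExact _) he φ₁ θ hθ θ'' hθ''
  have h₂ := claimA T T' n σ (stdS_shortExact u') (stdS_shortExact _) he' φ₂ θ' hθ' θ'' hθ''
  have h₁' : (T.F (n + 1)).map f ≫ θ'' = θ ≫ (T'.F (n + 1)).map f := h₁
  have h₂' : (T.F (n + 1)).map (𝟙 X') ≫ θ'' = θ' ≫ (T'.F (n + 1)).map (𝟙 X') := h₂
  rw [CategoryTheory.Functor.map_id, CategoryTheory.Functor.map_id, Category.id_comp,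
    Category.comp_id] at h₂'
  rw [← h₂']
  exact h₁'

/-- Claim C: compatibility with the connecting morphisms of arbitrary short exact sequences. -/
theorem claimC (S₀ : ShortComplex A) (hS₀ : S₀.ShortExact) {Y₁ Y₂ : A}
    (u₁ : S₀.X₁ ⟶ Y₁) [Mono u₁] (he₁ : (T.F (n + 1)).map u₁ = 0)
    (u₂ : S₀.X₂ ⟶ Y₂) [Mono u₂] (he₂ : (T.F (n + 1)).map u₂ = 0)
    (θ : (T.F (n + 1)).obj S₀.X₁ ⟶ (T'.F (n + 1)).obj S₀.X₁)
    (hθ : T.δ (stdS u₁) (stdS_shortExact u₁) n (n + 1) rfl ≫ θ =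
      σ.app (stdS u₁).X₃ ≫ T'.δ (stdS u₁) (stdS_shortExact u₁) n (n + 1) rfl) :
    T.δ S₀ hS₀ n (n + 1) rfl ≫ θ = σ.app S₀.X₃ ≫ T'.δ S₀ hS₀ n (n + 1) rfl := by
  have := hS₀.mono_f
  have := hS₀.epi_g
  have hmono : Mono (S₀.f ≫ u₂) := mono_comp _ _
  have hew : (T.F (n + 1)).map (S₀.f ≫ u₂) = 0 := by
    rw [Functor.map_comp, he₂, comp_zero]
  obtain ⟨θw, hθw⟩ := exists_θ T T' n σ (stdS (S₀.f ≫ u₂)) (stdS_shortExact _) hew
  have hk : S₀.f ≫ (u₂ ≫ cokernel.π (S₀.f ≫ u₂)) = 0 := by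
    rw [← Category.assoc, cokernel.condition]
  let φ : S₀ ⟶ stdS (S₀.f ≫ u₂) :=
    ShortComplex.homMk (𝟙 S₀.X₁) u₂ (hS₀.exact.desc (u₂ ≫ cokernel.π (S₀.f ≫ u₂)) hk)
      (by dsimp [stdS]; simp) (by dsimp [stdS]; simp)
  have e₁ : φ.τ₁ = 𝟙 S₀.X₁ := rfl
  -- `θw = θ`
  have hB := claimB T T' n σ (𝟙 S₀.X₁) (S₀.f ≫ u₂) u₁ hew he₁ θw hθw θ hθ
  rw [CategoryTheory.Functor.map_id, CategoryTheory.Functor.map_id, Category.id_comp,
    Category.comp_id] at hB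
  rw [hB]
  have n₁ : (T.F n).map φ.τ₃ ≫ T.δ (stdS (S₀.f ≫ u₂)) (stdS_shortExact _) n (n + 1) rfl =
      T.δ S₀ hS₀ n (n + 1) rfl ≫ (T.F (n + 1)).map (𝟙 S₀.X₁) :=
    T.δ_natural hS₀ (stdS_shortExact (S₀.f ≫ u₂)) φ n (n + 1) rfl
  have n₂ : (T'.F n).map φ.τ₃ ≫ T'.δ (stdS (S₀.f ≫ u₂)) (stdS_shortExact _) n (n + 1) rfl =
      T'.δ S₀ hS₀ n (n + 1) rfl ≫ (T'.F (n + 1)).map (𝟙 S₀.X₁) :=
    T'.δ_natural hS₀ (stdS_shortExact (S₀.f ≫ u₂)) φ n (n + 1) rfl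
  rw [CategoryTheory.Functor.map_id, Category.comp_id] at n₁ n₂
  have hθw' : T.δ (stdS (S₀.f ≫ u₂)) (stdS_shortExact _) n (n + 1) rfl ≫ θw =
      σ.app (cokernel (S₀.f ≫ u₂)) ≫ T'.δ (stdS (S₀.f ≫ u₂)) (stdS_shortExact _) n (n + 1) rfl := hθw
  have hnat : (T.F n).map φ.τ₃ ≫ σ.app (cokernel (S₀.f ≫ u₂)) =
      σ.app S₀.X₃ ≫ (T'.F n).map φ.τ₃ := σ.naturality φ.τ₃
  calc T.δ S₀ hS₀ n (n + 1) rfl ≫ θw
      = ((T.F n).map φ.τ₃ ≫ T.δ (stdS (S₀.f ≫ u₂)) (stdS_shortExact _) n (n + 1) rfl) ≫ θw := by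
        rw [n₁]
    _ = (T.F n).map φ.τ₃ ≫ σ.app (cokernel (S₀.f ≫ u₂)) ≫
          T'.δ (stdS (S₀.f ≫ u₂)) (stdS_shortExact _) n (n + 1) rfl := by
        rw [Category.assoc, hθw']
    _ = σ.app S₀.X₃ ≫ (T'.F n).map φ.τ₃ ≫
          T'.δ (stdS (S₀.f ≫ u₂)) (stdS_shortExact _) n (n + 1) rfl := by
        rw [← Category.assoc, hnat, Category.assoc]
    _ = σ.app S₀.X₃ ≫ T'.δ S₀ hS₀ n (n + 1) rfl := by rw [n₂]

theorem step (hT : T.IsEffaceable) :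
    ∃ σ' : T.F (n + 1) ⟶ T'.F (n + 1), ∀ (S : ShortComplex A) (hS : S.ShortExact),
      T.δ S hS n (n + 1) rfl ≫ σ'.app S.X₁ = σ.app S.X₃ ≫ T'.δ S hS n (n + 1) rfl := by
  choose Y u hu he using fun X => hT n X
  have hex := fun X => exists_θ T T' n σ (stdS (u X)) (stdS_shortExact (u X)) (he X)
  choose θ hθ using hex
  refine ⟨{ app := θ, naturality := fun X X' f => ?_ }, fun S hS => ?_⟩
  · exact claimB T T' n σ f (u X) (u X') (he X) (he X') (θ X) (hθ X) (θ X') (hθ X')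
  · exact claimC T T' n σ S hS (u S.X₁) (he S.X₁) (u S.X₂) (he S.X₂) (θ S.X₁) (hθ S.X₁)

theorem step_unique (hT : T.IsEffaceable) (σ₁ σ₂ : T.F (n + 1) ⟶ T'.F (n + 1))
    (h₁ : ∀ (S : ShortComplex A) (hS : S.ShortExact),
      T.δ S hS n (n + 1) rfl ≫ σ₁.app S.X₁ = σ.app S.X₃ ≫ T'.δ S hS n (n + 1) rfl)
    (h₂ : ∀ (S : ShortComplex A) (hS : S.ShortExact),
      T.δ S hS n (n + 1) rfl ≫ σ₂.app S.X₁ = σ.app S.X₃ ≫ T'.δ S hS n (n + 1) rfl) :
    σ₁ = σ₂ := by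
  ext X
  obtain ⟨Y, u, hu, he⟩ := hT n X
  have := epi_δ T n (stdS u) (stdS_shortExact u) he
  exact (cancel_epi (T.δ (stdS u) (stdS_shortExact u) n (n + 1) rfl)).mp
    ((h₁ (stdS u) (stdS_shortExact u)).trans (h₂ (stdS u) (stdS_shortExact u)).symm)

end aux

/-- An effaceable cohomological delta-functor (for every degree `n + 1 ≥ 1` and every object `X` there
is a monomorphism out of `X` killed by the functor in that degree) is universal. Delta-functors here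
are indexed by `ℕ` and are not required to be left exact in degree `0`; universality is tested
against all such delta-functors. -/
theorem result {A : Type u} [Category.{v} A] [Abelian A] {B : Type u'} [Category.{v'} B] [Abelian B] (T : DeltaF.CohDeltaFunctor A B ℕ) (hT : T.IsEffaceable) : T.IsUniversal := by
  intro T' t
  let τ : ∀ n : ℕ, T.F n ⟶ T'.F n := fun n =>
    Nat.rec t (fun n σ => Classical.choose (step T T' n σ hT)) n
  have hτ : ∀ (n : ℕ) (S : ShortComplex A) (hS : S.ShortExact),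
      T.δ S hS n (n + 1) rfl ≫ (τ (n + 1)).app S.X₁ = (τ n).app S.X₃ ≫ T'.δ S hS n (n + 1) rfl :=
    fun n => Classical.choose_spec (step T T' n (τ n) hT)
  refine ⟨{ app := τ, comm := fun S hS n₀ n₁ h => ?_ }, rfl, ?_⟩
  · subst h
    exact hτ n₀ S hS
  · intro τ' hτ'
    apply DeltaF.CohDeltaFunctor.hom_ext
    intro n
    induction n with
    | zero => exact hτ'
    | succ n ih =>
      refine step_unique T T' n (τ n) hT _ _ ?_ (hτ n)
      intro S hS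
      rw [τ'.comm S hS n (n + 1) rfl, ih]

end Groth.Agent.S6773
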