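import Groth.Statements.S0127
import Groth.Agent.Lib.Cohomology.Helper3_Constr2
-- import your own Groth.Agent.* helpers here

set_option autoImplicit false
universe u
open CategoryTheory CategoryTheory.Limits AlgebraicGeometry Opposite
open EtPBC

namespace Groth.Agent.S0127

/-- Abelian case: if F is a constructible abelian sheaf on Y_et and f : X -> Y is any morphism of
schemes, then f^* F is constructible on X_et. -/
theorem result {X Y : Scheme.{u}} (f : X ⟶ Y) [EtCoh.BCCont f]
    (F : EtCoh.Ab Y) (hF : EtPBC.IsConstructible F) :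
    EtPBC.IsConstructible ((EtCoh.pull f).obj F) := by
  intro A hA
  haveI := Groth.Agent.Lib.Cohomology.Constr.quasiSeparatedSpace_of_isAffineOpen hA
  obtain ⟨κ, hκ, W, hWaff, hWP, hWcov⟩ :=
    Groth.Agent.Lib.Cohomology.Constr.exists_finite_affine_cover A hA.isCompact
      (fun W => ∃ V : Y.Opens, IsAffineOpen V ∧ W ≤ f ⁻¹ᵁ V) (by
        intro x hx
        obtain ⟨_, ⟨V, hVaff, rfl⟩, hxV, -⟩ := Y.isBasis_affineOpens.exists_subset_of_mem_open
          (Set.mem_univ (f x)) isOpen_univ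
        obtain ⟨_, ⟨W, hWaff, rfl⟩, hxW, hWsub⟩ := X.isBasis_affineOpens.exists_subset_of_mem_open
          (show x ∈ ((A ⊓ f ⁻¹ᵁ V : X.Opens) : Set X) from ⟨hx, hxV⟩) (A ⊓ f ⁻¹ᵁ V).2
        exact ⟨W, hWaff, hxW, fun y hy => (hWsub hy).1, V, hVaff, fun y hy => (hWsub hy).2⟩)
  refine Groth.Agent.Lib.Cohomology.Constr.adaptedStrata_glue' _ (A : Set X) W
    (fun k => (hWaff k).isCompact) hWcov (fun k => ?_)
  obtain ⟨V, hV, hWV⟩ := hWP k
  exact Groth.Agent.Lib.Cohomology.Constr.adaptedStrata_pull f F V hV (W k) (hWaff k) hWV (hF V hV)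

end Groth.Agent.S0127
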