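import Groth.Statements.S13507
import Mathlib
import Groth.Agent.Lib.Helper11.CycloUnits

set_option autoImplicit false
set_option linter.style.haveILetI false
set_option linter.unusedSimpArgs false
universe u
open CategoryTheory CategoryTheory.Limits AlgebraicGeometry
open EtCore

namespace Groth.Agent.S13507

open CategoryTheory Limits AlgebraicGeometry Opposite
open Groth.Agent.Lib.Helper11.CycloUnits EtCoh

variable (S : Scheme.{u}) (n : ℕ)

/-- the constant presheaf -/
noncomputable abbrev P₀ : S.Etaleᵒᵖ ⥤ AddCommGrpCat.{u+1} :=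
  (Functor.const _).obj (AddCommGrpCat.of (ULift.{u+1} (ZMod n)))


def mkSec {U : S.Etale} (x : (Γ(U.left, ⊤))ˣ) : (Gm S).obj.obj (op U) :=
  (ULift.up (Additive.ofMul x) : ULift.{u+1} (Additive (Γ(U.left, ⊤))ˣ))

variable {S n}

noncomputable def zetaU (hn : 1 ≤ n) (ζ : Γ(S, ⊤)) (hζ : ζ ^ n = 1) (U : S.Etale) : (Γ(U.left, ⊤))ˣ :=
  Units.ofPowEqOne (U.hom.appTop.hom ζ) n (by rw [← map_pow, hζ, map_one]) (by omega)

lemma zetaU_pow (hn : 1 ≤ n) (ζ : Γ(S, ⊤)) (hζ : ζ ^ n = 1) (U : S.Etale) :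
    (zetaU hn ζ hζ U) ^ n = 1 := by
  apply Units.ext
  simp [zetaU, ← map_pow, hζ]

noncomputable def liftHom (hn : 1 ≤ n) (ζ : Γ(S, ⊤)) (hζ : ζ ^ n = 1) (U : S.Etale) :
    ZMod n →+ Additive (Γ(U.left, ⊤))ˣ :=
  ZMod.lift n ⟨zmultiplesHom _ (Additive.ofMul (zetaU hn ζ hζ U)), by
      change ((n : ℤ)) • Additive.ofMul (zetaU hn ζ hζ U) = 0
      rw [natCast_zsmul, ← ofMul_pow, zetaU_pow]
      rfl⟩

lemma liftHom_apply (hn : 1 ≤ n) (ζ : Γ(S, ⊤)) (hζ : ζ ^ n = 1) (U : S.Etale) (a : ZMod n) :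
    liftHom hn ζ hζ U a = Additive.ofMul ((zetaU hn ζ hζ U) ^ a.val) := by
  haveI : NeZero n := ⟨by omega⟩
  have ha : a = ((a.val : ℤ) : ZMod n) := by simp
  conv_lhs => rw [ha]
  rw [liftHom, ZMod.lift_coe]
  change ((a.val : ℤ)) • Additive.ofMul (zetaU hn ζ hζ U) = _
  rw [natCast_zsmul, ofMul_pow]

noncomputable def psiHom (hn : 1 ≤ n) (ζ : Γ(S, ⊤)) (hζ : ζ ^ n = 1) (U : S.Etale) :
    ULift.{u+1} (ZMod n) →+ ULift.{u+1} (Additive (Γ(U.left, ⊤))ˣ) :=
  (AddEquiv.ulift.symm.toAddMonoidHom).comp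
    ((liftHom hn ζ hζ U).comp AddEquiv.ulift.toAddMonoidHom)

lemma psiHom_apply (hn : 1 ≤ n) (ζ : Γ(S, ⊤)) (hζ : ζ ^ n = 1) (U : S.Etale) (a : ZMod n) :
    psiHom hn ζ hζ U (ULift.up a) = mkSec S ((zetaU hn ζ hζ U) ^ a.val) := by
  apply ULift.ext
  change liftHom hn ζ hζ U a = _
  rw [liftHom_apply]
  rfl


lemma Gm_map_apply {U V : S.Etale} (g : V ⟶ U) (x : (Γ(U.left, ⊤))ˣ) :
    (Gm S).obj.map g.op (mkSec S x) = mkSec S (Units.map g.left.appTop.hom.toMonoidHom x) := rfl

lemma zetaU_map (hn : 1 ≤ n) (ζ : Γ(S, ⊤)) (hζ : ζ ^ n = 1) {U V : S.Etale} (g : V ⟶ U) :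
    Units.map g.left.appTop.hom.toMonoidHom (zetaU hn ζ hζ U) = zetaU hn ζ hζ V := by
  apply Units.ext
  change g.left.appTop.hom (U.hom.appTop.hom ζ) = V.hom.appTop.hom ζ
  have hw : g.left ≫ U.hom = V.hom := Over.w g.hom
  rw [← hw, Scheme.Hom.comp_appTop]
  rfl

/-- the presheaf map from the constant presheaf to `G_m`, `a ↦ ζ^a`. -/
noncomputable def psi (hn : 1 ≤ n) (ζ : Γ(S, ⊤)) (hζ : ζ ^ n = 1) : P₀ S n ⟶ (Gm S).obj where
  app X := AddCommGrpCat.ofHom (psiHom hn ζ hζ X.unop)
  naturality X Y f := by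
    ext ⟨a⟩
    change psiHom hn ζ hζ Y.unop (ULift.up a) =
      (Gm S).obj.map f (psiHom hn ζ hζ X.unop (ULift.up a))
    rw [psiHom_apply, psiHom_apply]
    have : f = f.unop.op := rfl
    rw [this, Gm_map_apply, map_pow, zetaU_map]



set_option backward.isDefEq.respectTransparency.types false in
theorem cover_key {U : S.Etale} (R : Sieve U)
    (h : ∀ x : U.left, ∃ (Y : S.Etale) (f : Y ⟶ U) (y : Y.left),
        R f ∧ EtCoh.etaleMP f.left ∧ f.left y = x) : R ∈ S.smallEtaleTopology U := by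
  have eS : S.smallEtaleTopology =
      (S.smallPretopology (P := EtCoh.etaleMP) (Q := EtCoh.etaleMP)).toGrothendieck :=
    Scheme.smallGrothendieckTopology_eq_toGrothendieck_smallPretopology S le_rfl
  rw [eS]
  exact (Scheme.mem_toGrothendieck_smallPretopology U _).2 h

lemma nsmul_hom_app {F G : Ab S} (f : F ⟶ G) (k : ℕ) (X : S.Etaleᵒᵖ) (s : F.obj.obj X) :
    (k • f).hom.app X s = k • (f.hom.app X s) := by
  induction k with
  | zero =>
    rw [zero_nsmul, zero_nsmul]
    rfl
  | succ k ih =>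
    rw [succ_nsmul, succ_nsmul, Sheaf.Hom.add_app, ← ih]
    rfl

theorem psi_locInj (hn : 1 ≤ n) (hunit : IsUnit (n : Γ(S, ⊤))) (ζ : Γ(S, ⊤))
    (hζ : Polynomial.aeval ζ (Polynomial.cyclotomic n ℤ) = 0) :
    Presheaf.IsLocallyInjective S.smallEtaleTopology (psi hn ζ (pow_n_eq_one n hn ζ hζ)) := by
  haveI : NeZero n := ⟨by omega⟩
  constructor
  intro X x y h
  obtain ⟨a⟩ := x
  obtain ⟨b⟩ := y
  by_cases hab : a = b
  · subst hab
    rw [Presheaf.equalizerSieve_self_eq_top]
    exact GrothendieckTopology.top_mem _ _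
  · apply cover_key
    intro pt
    exfalso
    have h1 : psiHom hn ζ (pow_n_eq_one n hn ζ hζ) X.unop (ULift.up a) =
        psiHom hn ζ (pow_n_eq_one n hn ζ hζ) X.unop (ULift.up b) := h
    rw [psiHom_apply, psiHom_apply] at h1
    have h2 : (zetaU hn ζ (pow_n_eq_one n hn ζ hζ) X.unop) ^ a.val =
        (zetaU hn ζ (pow_n_eq_one n hn ζ hζ) X.unop) ^ b.val :=
      congrArg (fun s => Additive.toMul (ULift.down s)) h1
    have h3 : (X.unop.hom.appTop.hom ζ) ^ a.val = (X.unop.hom.appTop.hom ζ) ^ b.val := by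
      have := congrArg Units.val h2
      simpa [zetaU] using this
    have hu : IsUnit (ζ ^ a.val - ζ ^ b.val) :=
      isUnit_pow_sub_pow n hn hunit ζ hζ a.val b.val (ZMod.val_lt a) (ZMod.val_lt b)
        (fun e => hab (ZMod.val_injective n e))
    have hu' : IsUnit (X.unop.hom.appTop.hom (ζ ^ a.val - ζ ^ b.val)) := hu.map _
    rw [map_sub, map_pow, map_pow, h3, sub_self] at hu'
    have hu'' : IsUnit ((X.unop.left.presheaf.germ ⊤ pt trivial).hom (0 : Γ(X.unop.left, ⊤))) :=
      hu'.map _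
    rw [map_zero] at hu''
    exact not_isUnit_zero hu''

/-- Let S be a scheme and n ≥ 1 with n invertible in the ring of global functions Γ(S, O_S). If Γ(S,
O_S) contains a root ζ of the n-th cyclotomic polynomial, then the sheaf μ_n of n-th roots of unity
on the small étale site of S is isomorphic to the constant sheaf with value Z/n (existence of an
isomorphism only; the published isomorphism is the one sending 1 to ζ). -/
theorem result (S : Scheme.{u}) (n : ℕ) (hn : 1 ≤ n)
    (hunit : IsUnit (n : Γ(S, ⊤))) (ζ : Γ(S, ⊤))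
    (hζ : Polynomial.aeval ζ (Polynomial.cyclotomic n ℤ) = 0) :
    Nonempty (EtCoh.mu S n ≅ EtCoh.const S (ZMod n)) := by
  haveI : NeZero n := ⟨by omega⟩
  have hζn : ζ ^ n = 1 := pow_n_eq_one n hn ζ hζ
  set ψ : P₀ S n ⟶ (Gm S).obj := psi hn ζ hζn with hψdef
  haveI hψinj : Presheaf.IsLocallyInjective S.smallEtaleTopology ψ := psi_locInj hn hunit ζ hζ
  let ψs : const S (ZMod n) ⟶ Gm S :=
    ⟨sheafifyLift S.smallEtaleTopology ψ (Gm S).property⟩
  have hfac : toSheafify S.smallEtaleTopology (P₀ S n) ≫ ψs.hom = ψ :=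
    toSheafify_sheafifyLift _ _ _
  have hpow : ∀ (X : S.Etaleᵒᵖ) (s : (Gm S).obj.obj X), (powMap S n).hom.app X s = n • s := by
    intro X s
    have := nsmul_hom_app (𝟙 (Gm S)) n X s
    exact this
  have w : ψs ≫ powMap S n = 0 := by
    apply Sheaf.hom_ext
    apply sheafify_hom_ext S.smallEtaleTopology _ _ (Gm S).property
    change toSheafify S.smallEtaleTopology (P₀ S n) ≫ ψs.hom ≫ (powMap S n).hom = _
    rw [← Category.assoc, hfac]
    have : ψ ≫ (powMap S n).hom = 0 := by
      ext X ⟨a⟩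
      change (powMap S n).hom.app X (ψ.app X (ULift.up a)) = 0
      rw [hpow, ← map_nsmul]
      have : n • (ULift.up a : ULift.{u+1} (ZMod n)) = 0 := by
        apply ULift.ext
        change n • a = 0
        simp
      rw [this, map_zero]
    rw [this]
    change 0 = toSheafify S.smallEtaleTopology (P₀ S n) ≫ 0
    rw [comp_zero]
  let φ' : const S (ZMod n) ⟶ mu S n := kernel.lift (powMap S n) ψs w
  have hφ' : φ' ≫ muι S n = ψs := kernel.lift_ι _ _ _
  have hφ'hom : φ'.hom ≫ (muι S n).hom = ψs.hom := by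
    rw [← hφ']; rfl
  -- local injectivity
  haveI hψsinj : Presheaf.IsLocallyInjective S.smallEtaleTopology ψs.hom := by
    haveI : Presheaf.IsLocallyInjective S.smallEtaleTopology
        (toSheafify S.smallEtaleTopology (P₀ S n) ≫ ψs.hom) := by
      rw [hfac]; exact hψinj
    exact (Presheaf.comp_isLocallyInjective_iff S.smallEtaleTopology
      (toSheafify S.smallEtaleTopology (P₀ S n)) ψs.hom).mp inferInstance
  haveI inj : Sheaf.IsLocallyInjective φ' :=
    Presheaf.isLocallyInjective_of_isLocallyInjective_fac S.smallEtaleTopology hφ'hom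
  -- muι is injective on sections
  have hmuι_inj : ∀ X : S.Etaleᵒᵖ, Function.Injective ((muι S n).hom.app X) := by
    intro X
    haveI : Mono (muι S n) := by unfold muι; exact equalizer.ι_mono
    haveI : Mono ((sheafToPresheaf _ _).map (muι S n)) := inferInstance
    haveI : Mono (muι S n).hom := this
    haveI : Mono ((muι S n).hom.app X) := by
      have := (NatTrans.mono_iff_mono_app (muι S n).hom).mp inferInstance
      exact this X
    exact (AddCommGrpCat.mono_iff_injective _).mp inferInstance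
  have hker : ∀ (X : S.Etaleᵒᵖ) (s : (mu S n).obj.obj X), n • ((muι S n).hom.app X s) = 0 := by
    intro X s
    rw [← hpow]
    have hc : muι S n ≫ powMap S n = 0 := by unfold muι; exact kernel.condition _
    have : ((muι S n) ≫ powMap S n).hom.app X s = 0 := by rw [hc]; rfl
    exact this
  haveI surj : Sheaf.IsLocallySurjective φ' := by
    constructor
    intro U s
    apply cover_key
    intro x
    set σ : (Gm S).obj.obj (op U) := (muι S n).hom.app (op U) s with hσdef
    let yU : (Γ(U.left, ⊤))ˣ := Additive.toMul (ULift.down σ)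
    have hσ : σ = mkSec S yU := rfl
    have hyU : yU ^ n = 1 := by
      have h := hker (op U) s
      have h2 := congrArg
        (fun t : ULift.{u+1} (Additive (Γ(U.left, ⊤))ˣ) => Additive.toMul (ULift.down t)) h
      exact h2
    let y : Γ(U.left, ⊤) := (yU : Γ(U.left, ⊤))
    have hy : y ^ n = 1 := by
      have := congrArg Units.val hyU
      simpa using this
    let ζU : Γ(U.left, ⊤) := U.hom.appTop.hom ζ
    have hζU : Polynomial.aeval ζU (Polynomial.cyclotomic n ℤ) = 0 := by
      have := Polynomial.aeval_algHom_apply (U.hom.appTop.hom.toIntAlgHom) ζ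
        (Polynomial.cyclotomic n ℤ)
      rw [hζ, map_zero] at this
      exact this
    have hunitU : IsUnit (n : Γ(U.left, ⊤)) := by
      have := hunit.map U.hom.appTop.hom
      rwa [map_natCast] at this
    have hprod : ∏ b ∈ Finset.range n, (y - ζU ^ b) = 0 := prod_sub_pow n hn ζU hζU y hy
    let g := (U.left.presheaf.germ ⊤ x trivial).hom
    have hprod' : ∏ b ∈ Finset.range n, (g y - (g ζU) ^ b) = 0 := by
      have := congrArg g hprod
      simpa [map_prod] using this
    have hζg : Polynomial.aeval (g ζU) (Polynomial.cyclotomic n ℤ) = 0 := by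
      have := Polynomial.aeval_algHom_apply (g.toIntAlgHom) ζU (Polynomial.cyclotomic n ℤ)
      rw [hζU, map_zero] at this
      exact this
    have hunitg : IsUnit (n : U.left.presheaf.stalk x) := by
      have := hunitU.map g
      rwa [map_natCast] at this
    obtain ⟨a, han, hua⟩ := exists_isUnit_prod_erase n (g ζU) (g y) hprod'
      (fun a b ha hb hab => isUnit_pow_sub_pow n hn hunitg (g ζU) hζg a b ha hb hab)
    let fa : Γ(U.left, ⊤) := ∏ b ∈ (Finset.range n).erase a, (y - ζU ^ b)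
    have hfa : IsUnit (g fa) := by
      simpa [fa, map_prod] using hua
    have hx : x ∈ U.left.basicOpen fa := by
      rw [Scheme.mem_basicOpen_top]
      exact hfa
    let V : U.left.Opens := U.left.basicOpen fa
    let Y : S.Etale := Scheme.Etale.mk (V.ι ≫ U.hom)
    let gY : Y ⟶ U := MorphismProperty.Over.homMk V.ι rfl trivial
    have hunitfa : IsUnit (V.ι.appTop.hom fa) := by
      apply RingedSpace.isUnit_of_isUnit_germ V.toScheme.toLocallyRingedSpace.toRingedSpace ⊤
      intro p hp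
      have hp' : p ∈ V.toScheme.basicOpen (V.ι.appTop.hom fa) := by
        rw [← Scheme.preimage_basicOpen_top]
        change p ∈ V.ι ⁻¹ᵁ V
        rw [Scheme.Opens.ι_preimage_self]
        trivial
      exact (Scheme.mem_basicOpen_top _ _ p).mp hp'
    have hzero : V.ι.appTop.hom (y - ζU ^ a) = 0 := by
      have h0 : (y - ζU ^ a) * fa = 0 := by
        rw [← hprod]
        exact Finset.mul_prod_erase (Finset.range n) (fun b => y - ζU ^ b)
          (Finset.mem_range.mpr han)
      have h1 := congrArg V.ι.appTop.hom h0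
      rw [map_mul, map_zero] at h1
      exact (hunitfa.mul_left_eq_zero).mp h1
    refine ⟨Y, gY, ⟨x, hx⟩, ?_, (inferInstance : Etale V.ι), rfl⟩
    refine ⟨(toSheafify S.smallEtaleTopology (P₀ S n)).app (op Y)
      (ULift.up ((a : ℕ) : ZMod n)), ?_⟩
    apply hmuι_inj (op Y)
    have hL : (muι S n).hom.app (op Y) (φ'.hom.app (op Y)
        ((toSheafify S.smallEtaleTopology (P₀ S n)).app (op Y)
          (ULift.up ((a : ℕ) : ZMod n)))) = ψ.app (op Y) (ULift.up ((a : ℕ) : ZMod n)) := by
      have h1 := congrArg (fun τ => (τ.app (op Y)) (ULift.up ((a : ℕ) : ZMod n))) hfac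
      have h2 := congrArg (fun τ => (τ.app (op Y))
        ((toSheafify S.smallEtaleTopology (P₀ S n)).app (op Y)
          (ULift.up ((a : ℕ) : ZMod n)))) hφ'hom
      exact h2.trans h1
    have hR : (muι S n).hom.app (op Y) ((mu S n).obj.map gY.op s) =
        (Gm S).obj.map gY.op σ := by
      have := congrArg (fun τ => τ s) ((muι S n).hom.naturality gY.op)
      exact this
    rw [hL, hR, hσ, Gm_map_apply]
    change psiHom hn ζ hζn Y (ULift.up ((a : ℕ) : ZMod n)) = _
    rw [psiHom_apply, ZMod.val_natCast_of_lt han]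
    congr 1
    apply Units.ext
    have hYhom : Y.hom.appTop.hom ζ = V.ι.appTop.hom ζU := by
      change (V.ι ≫ U.hom).appTop.hom ζ = _
      rw [Scheme.Hom.comp_appTop]
      rfl
    have h2 : V.ι.appTop.hom (ζU ^ a) = V.ι.appTop.hom ζU ^ a := map_pow _ _ _
    have h3 : V.ι.appTop.hom y = V.ι.appTop.hom (ζU ^ a) := by
      rw [map_sub, sub_eq_zero] at hzero
      exact hzero
    have h4 : (V.ι.appTop.hom ζU) ^ a = V.ι.appTop.hom y := h2.symm.trans h3.symm
    have h5 : (Y.hom.appTop.hom ζ) ^ a = V.ι.appTop.hom y := by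
      have := congrArg (fun t => t ^ a) hYhom
      exact this.trans h4
    exact h5
  haveI : IsIso φ' := (Sheaf.isLocallyBijective_iff_isIso φ').mp ⟨inj, surj⟩
  exact ⟨(asIso φ').symm⟩


end Groth.Agent.S13507
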