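import Groth.Statements.S14615
-- import your own Groth.Agent.* helpers here

set_option autoImplicit false
universe u
open Formal2

namespace Groth.Agent.S14615

/-- `aux y d n` is the partial sum `∑_{n ≤ m < n + d} T(n, m) (y m)` of the formal solution. -/
def aux (G : ℕ → Type u) [∀ n, AddCommGroup (G n)] (t : ∀ n, G (n + 1) →+ G n)
    (y : ∀ n, G n) : ℕ → ∀ n, G n
  | 0, _ => 0
  | (d + 1), n => y n + t n (aux G t y d (n + 1))

theorem aux_succ (G : ℕ → Type u) [∀ n, AddCommGroup (G n)] (t : ∀ n, G (n + 1) →+ G n)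
    (y : ∀ n, G n) (d n : ℕ) :
    aux G t y (d + 1) n = y n + t n (aux G t y d (n + 1)) := rfl

/-- The increments satisfy the homogeneous recursion. -/
theorem incr_succ (G : ℕ → Type u) [∀ n, AddCommGroup (G n)] (t : ∀ n, G (n + 1) →+ G n)
    (y : ∀ n, G n) (d n : ℕ) :
    aux G t y (d + 2) n - aux G t y (d + 1) n =
      t n (aux G t y (d + 1) (n + 1) - aux G t y d (n + 1)) := by
  rw [aux_succ, aux_succ G t y d n, map_sub]
  abel

theorem aux_stable (G : ℕ → Type u) [∀ n, AddCommGroup (G n)] (t : ∀ n, G (n + 1) →+ G n)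
    (y : ∀ n, G n) (i j : ℕ)
    (hj : ∀ x : ∀ n, G n, (∀ n, i ≤ n → n < j → x n = t n (x (n + 1))) → x i = 0)
    (d : ℕ) (hd : j ≤ i + d) : aux G t y (d + 1) i = aux G t y d i := by
  -- the sequence of increments along the antidiagonal `m + e = i + d`
  let z : ∀ m, G m := fun m => aux G t y (i + d - m + 1) m - aux G t y (i + d - m) m
  have hz : z i = 0 := by
    apply hj
    intro m hm1 hm2
    have e : i + d - m = (i + d - (m + 1)) + 1 := by omega
    change aux G t y (i + d - m + 1) m - aux G t y (i + d - m) m =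
      t m (aux G t y (i + d - (m + 1) + 1) (m + 1) - aux G t y (i + d - (m + 1)) (m + 1))
    rw [e]
    exact incr_succ G t y _ m
  have hz' : z i = aux G t y (d + 1) i - aux G t y d i := by
    change aux G t y (i + d - i + 1) i - aux G t y (i + d - i) i = _
    rw [Nat.add_sub_cancel_left]
  rw [hz'] at hz
  exact sub_eq_zero.mp hz

theorem aux_stable' (G : ℕ → Type u) [∀ n, AddCommGroup (G n)] (t : ∀ n, G (n + 1) →+ G n)
    (y : ∀ n, G n) (i j : ℕ)
    (hj : ∀ x : ∀ n, G n, (∀ n, i ≤ n → n < j → x n = t n (x (n + 1))) → x i = 0)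
    (d₀ d : ℕ) (hd₀ : j ≤ i + d₀) (hd : d₀ ≤ d) : aux G t y d i = aux G t y d₀ i := by
  induction d, hd using Nat.le_induction with
  | base => rfl
  | succ d hd ih =>
    rw [aux_stable G t y i j hj d (by omega), ih]

/-- Let … → G_2 → G_1 → G_0 be an inverse system of abelian groups with transition maps t_n : G_{n+1} →
G_n, and suppose that for every i there is j ≥ i such that the composite transition map G_j → G_i is
zero; this is expressed by asking that every sequence (x_n) ∈ ∏ G_n satisfying x_n = t_n(x_{n+1})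
for i ≤ n < j has x_i = 0. Then both lim G_n and lim¹ G_n vanish: the map (x_n) ↦ (x_n −
t_n(x_{n+1})) on ∏ G_n, whose kernel is lim and whose cokernel is lim¹, is injective and surjective. -/
theorem result (G : ℕ → Type u)
    [∀ n, AddCommGroup (G n)] (t : ∀ n, G (n + 1) →+ G n)
    (h : ∀ i : ℕ, ∃ j : ℕ, i ≤ j ∧
      ∀ x : ∀ n, G n, (∀ n, i ≤ n → n < j → x n = t n (x (n + 1))) → x i = 0) :
    Formal2.limZero G t = ⊥ ∧ Function.Surjective (Formal2.towerDiff G t) := by
  choose j hij hj using h
  constructor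
  · rw [eq_bot_iff]
    intro x hx
    rw [AddSubgroup.mem_bot]
    have hx' : ∀ n, x n - t n (x (n + 1)) = 0 := fun n => congrFun (AddMonoidHom.mem_ker.mp hx) n
    funext i
    exact hj i x fun n _ _ => sub_eq_zero.mp (hx' n)
  · intro y
    refine ⟨fun n => aux G t y (j n - n) n, ?_⟩
    funext n
    change aux G t y (j n - n) n - t n (aux G t y (j (n + 1) - (n + 1)) (n + 1)) = y n
    set d₀ := j n - n with hd₀
    set d₁ := j (n + 1) - (n + 1) with hd₁
    have h1 : aux G t y (max d₀ d₁ + 1) n = aux G t y d₀ n :=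
      aux_stable' G t y n (j n) (hj n) d₀ _ (by have := hij n; omega) (by omega)
    have h2 : aux G t y (max d₀ d₁) (n + 1) = aux G t y d₁ (n + 1) :=
      aux_stable' G t y (n + 1) (j (n + 1)) (hj (n + 1)) d₁ _ (by have := hij (n + 1); omega)
        (by omega)
    rw [← h1, ← h2, aux_succ]
    abel

end Groth.Agent.S14615
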