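import Groth.Statements.S14616
import Groth.Agent.S14615
-- import your own Groth.Agent.* helpers here

set_option autoImplicit false
universe u
open Formal2

namespace Groth.Agent.S14616

section helpers

open CategoryTheory

variable (G : ℕ → Type u) [∀ n, AddCommGroup (G n)] (t : ∀ n, G (n + 1) →+ G n)

/-- Towers with surjective transition maps have vanishing `lim¹`. -/
theorem surj_of_surj (H : ℕ → Type u) [∀ n, AddCommGroup (H n)] (s : ∀ n, H (n + 1) →+ H n)
    (hs : ∀ n, Function.Surjective (s n)) : Function.Surjective (Formal2.towerDiff H s) := by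
  intro y
  choose g hg using hs
  let x : ∀ n, H n := fun n => Nat.rec (motive := fun n => H n) 0 (fun n xn => g n (xn - y n)) n
  refine ⟨x, ?_⟩
  funext n
  change x n - s n (x (n + 1)) = y n
  have : x (n + 1) = g n (x n - y n) := rfl
  rw [this, hg]
  abel

/-- The tower as a functor. -/
noncomputable abbrev Φ : ℕᵒᵖ ⥤ AddCommGrpCat.{u} :=
  Functor.ofOpSequence (X := fun n => AddCommGrpCat.of (G n)) (fun n => AddCommGrpCat.ofHom (t n))

/-- Composite transition maps. -/
noncomputable def T {i k : ℕ} (h : i ≤ k) : G k →+ G i := ((Φ G t).map (homOfLE h).op).hom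

theorem T_comp {i k l : ℕ} (h1 : i ≤ k) (h2 : k ≤ l) (w : G l) :
    T G t h1 (T G t h2 w) = T G t (h1.trans h2) w := by
  have : (homOfLE (h1.trans h2)).op = (homOfLE h2).op ≫ (homOfLE h1).op := rfl
  unfold T
  rw [this, Functor.map_comp]
  rfl

theorem T_refl (n : ℕ) (w : G n) : T G t (le_refl n) w = w := by
  have : (homOfLE (le_refl n)).op = 𝟙 (Opposite.op n) := rfl
  have h2 : (Φ G t).map (homOfLE (le_refl n)).op = 𝟙 _ := by
    rw [this, CategoryTheory.Functor.map_id]
  unfold T
  rw [h2]
  rfl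

theorem T_succ (n : ℕ) (w : G (n + 1)) : T G t (Nat.le_succ n) w = t n w := by
  unfold T
  have := Functor.ofOpSequence_map_homOfLE_succ (X := fun n => AddCommGrpCat.of (G n))
    (fun n => AddCommGrpCat.ofHom (t n)) n
  have e : (homOfLE (Nat.le_succ n)).op = (homOfLE (Nat.le_add_right n 1)).op := rfl
  rw [e, this]
  rfl

end helpers

open CategoryTheory in
/-- Let … → G_2 → G_1 → G_0 be an inverse system of abelian groups with transition maps t_n : G_{n+1} →
G_n which satisfies the Mittag-Leffler condition: for every i there is j ≥ i such that for all k ≥ j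
the images of G_k → G_i and G_j → G_i coincide. Then lim¹ G_n = 0, i.e. the map (x_n) ↦ (x_n −
t_n(x_{n+1})) on ∏ G_n is surjective. -/
theorem result (G : ℕ → Type u) [∀ n, AddCommGroup (G n)]
    (t : ∀ n, G (n + 1) →+ G n)
    (h : (Functor.ofOpSequence (X := fun n => AddCommGrpCat.of (G n))
      (fun n => AddCommGrpCat.ofHom (t n)) ⋙ forget AddCommGrpCat).IsMittagLeffler) :
    Function.Surjective (Formal2.towerDiff G t) := by
  -- unpack the Mittag-Leffler condition
  have hML : ∀ n : ℕ, ∃ m : ℕ, ∃ hm : n ≤ m, ∀ (k : ℕ) (hk : n ≤ k),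
      Set.range (T G t hm) ⊆ Set.range (T G t hk) := by
    intro n
    obtain ⟨i, f, hf⟩ := h (Opposite.op n)
    have hm : n ≤ i.unop := leOfHom f.unop
    refine ⟨i.unop, hm, fun k hk => ?_⟩
    have h1 := hf (k := Opposite.op k) (homOfLE hk).op
    have e : f = (homOfLE hm).op := Subsingleton.elim _ _
    rw [e] at h1
    exact h1
  choose j hj hjr using hML
  -- the stable images
  let S : ∀ n, AddSubgroup (G n) := fun n => (T G t (hj n)).range
  have hS_le : ∀ n k (hk : n ≤ k), (S n : Set (G n)) ⊆ Set.range (T G t hk) := fun n k hk => by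
    have := hjr n k hk
    simpa [S] using this
  have hS_ge : ∀ n k (hk : n ≤ k), j n ≤ k → Set.range (T G t hk) ⊆ (S n : Set (G n)) := by
    rintro n k hk hjk _ ⟨w, rfl⟩
    exact ⟨T G t hjk w, T_comp G t (hj n) hjk w⟩
  -- `t n` maps `S (n+1)` onto `S n`
  have hS_map : ∀ n, S (n + 1) ≤ (S n).comap (t n) := by
    intro n x hx
    obtain ⟨w, rfl⟩ := hS_le (n + 1) (max (j n) (n + 1)) (le_max_right _ _) hx
    apply hS_ge n (max (j n) (n + 1)) ((Nat.le_succ n).trans (le_max_right _ _)) (le_max_left _ _)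
    refine ⟨w, ?_⟩
    rw [← T_succ, T_comp]
  have hS_surj : ∀ n (x : G n), x ∈ S n → ∃ x' ∈ S (n + 1), t n x' = x := by
    intro n x hx
    have hk1 : n + 1 ≤ max (j (n + 1)) (n + 1) := le_max_right _ _
    obtain ⟨w, rfl⟩ := hS_le n (max (j (n + 1)) (n + 1)) ((Nat.le_succ n).trans hk1) hx
    refine ⟨T G t hk1 w, hS_ge (n + 1) _ hk1 (le_max_left _ _) ⟨w, rfl⟩, ?_⟩
    rw [← T_succ, T_comp]
  -- the quotient tower
  let Q : ℕ → Type u := fun n => G n ⧸ S n
  let tQ : ∀ n, Q (n + 1) →+ Q n := fun n => QuotientAddGroup.map (S (n + 1)) (S n) (t n) (hS_map n)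
  have hQ : Function.Surjective (Formal2.towerDiff Q tQ) := by
    refine (Groth.Agent.S14615.result Q tQ fun i => ⟨j i, hj i, fun x hx => ?_⟩).2
    obtain ⟨w, hw⟩ := QuotientAddGroup.mk_surjective (x (j i))
    have key : ∀ (m : ℕ) (hm : m ≤ j i), i ≤ m → x m = QuotientAddGroup.mk (T G t hm w) := by
      intro m hm
      induction hm using Nat.decreasingInduction with
      | self =>
        intro _
        rw [← hw]
        rw [T_refl]
      | of_succ k hk ih =>
        intro hik
        rw [hx k hik hk, ih (by omega)]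
        change QuotientAddGroup.mk (t k _) = _
        rw [← T_succ, T_comp]
    rw [key i (hj i) le_rfl]
    exact (QuotientAddGroup.eq_zero_iff _).mpr ⟨w, rfl⟩
  -- the tower of stable images
  let tS : ∀ n, S (n + 1) →+ S n := fun n =>
    ((t n).comp (S (n + 1)).subtype).codRestrict (S n) fun x => hS_map n x.2
  have hSs : Function.Surjective (Formal2.towerDiff (fun n => S n) tS) := by
    apply surj_of_surj
    intro n x
    obtain ⟨x', hx', hx''⟩ := hS_surj n x.1 x.2
    exact ⟨⟨x', hx'⟩, Subtype.ext hx''⟩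
  -- combine
  intro y
  obtain ⟨xb, hxb⟩ := hQ fun n => QuotientAddGroup.mk (y n)
  choose x hx using fun n => QuotientAddGroup.mk_surjective (xb n)
  have hr : ∀ n, y n - (x n - t n (x (n + 1))) ∈ S n := by
    intro n
    rw [← QuotientAddGroup.eq_zero_iff]
    have h1 := congrFun hxb n
    change xb n - tQ n (xb (n + 1)) = QuotientAddGroup.mk (y n) at h1
    rw [QuotientAddGroup.mk_sub, QuotientAddGroup.mk_sub, ← h1, hx, ← hx (n + 1)]
    change _ - (_ - QuotientAddGroup.mk (t n (x (n + 1)))) = 0
    exact sub_self _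
  obtain ⟨x', hx'⟩ := hSs fun n => ⟨_, hr n⟩
  refine ⟨fun n => x n + (x' n : G n), ?_⟩
  funext n
  have h2 := congrArg Subtype.val (congrFun hx' n)
  change (x' n : G n) - t n (x' (n + 1) : G (n + 1)) = y n - (x n - t n (x (n + 1))) at h2
  change x n + (x' n : G n) - t n (x (n + 1) + (x' (n + 1) : G (n + 1))) = y n
  rw [map_add]
  have : (x' n : G n) = y n - (x n - t n (x (n + 1))) + t n (x' (n + 1) : G (n + 1)) := by
    rw [← h2]; abel
  rw [this]
  abel

end Groth.Agent.S14616
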