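import Groth.Statements.S0022
import Groth.Agent.S0010
import Mathlib.AlgebraicGeometry.Morphisms.Affine
import Mathlib.AlgebraicGeometry.ProjectiveSpectrum.Proper

set_option autoImplicit false
universe u
open Coherent

namespace Groth.Agent.S0022

open AlgebraicGeometry in
/-- The standard opens `D₊(T_k)` cover projective space. -/
theorem iSup_basicOpen_X (n : ℕ) (R : Type u) [CommRing R] :
    ⨆ k : Fin (n + 1), Proj.basicOpen (CohB1.polyGrading n R) (MvPolynomial.X k) = ⊤ := by
  classical
  rw [eq_top_iff]
  intro x _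
  by_contra H
  rw [TopologicalSpace.Opens.mem_iSup] at H
  push Not at H
  apply x.not_irrelevant_le
  rw [HomogeneousIdeal.irrelevant_le]
  intro d hd p hp
  have hp' : p.IsHomogeneous d := hp
  rw [p.as_sum]
  refine Ideal.sum_mem _ (fun m hm => ?_)
  have hm' : MvPolynomial.coeff m p ≠ 0 := MvPolynomial.mem_support_iff.1 hm
  have hdeg : (Finsupp.weight 1) m = d := hp' hm'
  have hm0 : m ≠ 0 := by
    rintro rfl
    rw [map_zero] at hdeg
    omega
  obtain ⟨k, hk⟩ : ∃ k, m k ≠ 0 := by
    by_contra h
    push Not at h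
    exact hm0 (Finsupp.ext h)
  have hX : (MvPolynomial.X k : MvPolynomial (Fin (n + 1)) R) ∈
      x.asHomogeneousIdeal.toIdeal := by
    have := H k
    rw [Proj.mem_basicOpen] at this
    exact not_not.1 this
  obtain ⟨q, hq⟩ := (MvPolynomial.X_dvd_monomial (i := k) (j := m)
    (r := MvPolynomial.coeff m p)).2 (Or.inr hk)
  rw [hq]
  exact Ideal.mul_mem_right _ _ hX

open AlgebraicGeometry in
/-- For any ring R, any quasi-coherent module F on projective space ℙ^n_R and any i > n, H^i(ℙ^n_R, F) =
0. (The published statement is for coherent modules over a Noetherian ring; it is stated here for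
quasi-coherent modules over any ring.) -/
theorem result (n : ℕ) (R : Type u) [CommRing R]
    (M : (CohB1.ProjSpace n R).Modules) [Coh.IsQCoh M] (i : ℕ) (hi : n < i) :
    Subsingleton (Coh.HH (CohB1.ProjSpace n R) M i) := by
  refine Groth.Agent.S0010.result (CohB1.ProjSpace n R) (n + 1)
    (fun k => Proj.basicOpen (CohB1.polyGrading n R) (MvPolynomial.X k)) (fun k => ?_)
    (iSup_basicOpen_X n R) (fun V W hV hW => ?_) M i (by omega)
  · exact Proj.isAffineOpen_basicOpen (CohB1.polyGrading n R) (MvPolynomial.X k)
      (MvPolynomial.isHomogeneous_X R k) one_pos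
  · exact IsAffineOpen.inf (X := Proj (CohB1.polyGrading n R)) hV hW

end Groth.Agent.S0022
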