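import Groth.Statements.S0013
import Groth.Agent.Lib.Cohomology.Helper1_SerreVanishing
import Groth.Agent.S0464

set_option autoImplicit false
universe u
open Coherent

namespace Groth.Agent.S0013

open AlgebraicGeometry in
/-- Let X be a scheme with an open covering all of whose nonempty finite intersections are affine. For a
quasi-coherent module M and every degree p, Čech cohomology with respect to this covering is
isomorphic to sheaf cohomology; only the existence of an isomorphism of additive groups is asserted
(the published statement gives an isomorphism of modules over the global sections). -/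
theorem result (X : Scheme.{u}) {ι : Type u}
    (U : ι → X.Opens) (hcov : ⨆ i, U i = ⊤)
    (hU : ∀ s : Finset ι, s.Nonempty → IsAffineOpen (⨅ i ∈ s, U i))
    (M : X.Modules) [Coh.IsQCoh M] (p : ℕ) :
    Nonempty (↑(CohB1.cechH U M p) ≃+ Coh.HH X M p) := by
  classical
  have hvan : ∀ (p : ℕ) (a : Fin (p + 1) → ι) (q : ℕ),
      Subsingleton (CohTop.HU (Coh.toAb M) (q + 1) (iInf fun k => U (a k))) := by
    intro p a q
    refine Groth.Agent.Lib.Cohomology.HU_succ_subsingleton_of_isAffineOpen M _ ?_ q
    have := hU (Finset.univ.image a) ⟨a 0, Finset.mem_image.2 ⟨0, Finset.mem_univ _, rfl⟩⟩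
    convert this using 1
    apply le_antisymm
    · refine le_iInf (fun i => le_iInf (fun hi => ?_))
      obtain ⟨k, -, rfl⟩ := Finset.mem_image.1 hi
      exact iInf_le _ k
    · refine le_iInf (fun k => ?_)
      exact (iInf_le _ (a k)).trans (iInf_le _ (Finset.mem_image.2 ⟨k, Finset.mem_univ _, rfl⟩))
  obtain ⟨e⟩ := Groth.Agent.S0464.result (Coh.toAb M) U hvan p
  rw [hcov] at e
  exact ⟨e.trans (Groth.Agent.Lib.Cohomology.HUTopEquiv _ (Coh.toAb M) p)⟩

end Groth.Agent.S0013
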