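import Groth.Statements.S2357
import Mathlib.AlgebraicGeometry.ProjectiveSpectrum.Proper
import Mathlib.RingTheory.GradedAlgebra.Noetherian
import Mathlib.RingTheory.GradedAlgebra.FiniteType

set_option autoImplicit false
universe u
open CategoryTheory CategoryTheory.Limits AlgebraicGeometry
open EGA2

namespace Groth.Agent.S2357

open DirectSum in
/-- A Noetherian `ℕ`-graded ring is of finite type over its degree-zero part. -/
theorem finiteType_of_noetherian {R A : Type u} [CommRing R] [CommRing A] [Algebra R A]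
    (𝒜 : ℕ → Submodule R A) [GradedAlgebra 𝒜] [IsNoetherianRing A] :
    Algebra.FiniteType (𝒜 0) A := by
  classical
  have hfg : ((HomogeneousIdeal.irrelevant 𝒜).toIdeal).FG := IsNoetherian.noetherian _
  rw [HomogeneousIdeal.irrelevant_eq_span] at hfg
  obtain ⟨T, hTsub, hTspan⟩ := (Submodule.fg_span_iff_fg_span_finset_subset _).mp hfg
  have hTdeg : ∀ t ∈ T, ∃ d, 0 < d ∧ t ∈ 𝒜 d := by
    intro t ht
    have := hTsub ht
    simp only [Set.mem_iUnion, exists_prop] at this
    obtain ⟨d, hd, htd⟩ := this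
    exact ⟨d, hd, htd⟩
  refine ⟨⟨T, ?_⟩⟩
  set S := Algebra.adjoin (𝒜 0) (T : Set A) with hS
  have key : ∀ n : ℕ, ∀ a ∈ 𝒜 n, a ∈ S := by
    intro n
    induction n using Nat.strong_induction_on with
    | _ n ih =>
      intro a ha
      rcases Nat.eq_zero_or_pos n with rfl | hn
      · exact Subalgebra.algebraMap_mem S (⟨a, ha⟩ : 𝒜 0)
      · have hmem : a ∈ (HomogeneousIdeal.irrelevant 𝒜).toIdeal :=
          HomogeneousIdeal.mem_irrelevant_of_mem 𝒜 hn ha
        rw [HomogeneousIdeal.irrelevant_eq_span] at hmem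
        replace hmem : a ∈ Submodule.span A (T : Set A) := hTspan ▸ hmem
        obtain ⟨f, -, hf⟩ := Submodule.mem_span_finset.mp hmem
        have h1 : a = GradedRing.proj 𝒜 n a := by
          rw [GradedRing.proj_apply, DirectSum.decompose_of_mem_same 𝒜 ha]
        rw [h1, ← hf, map_sum]
        refine Subalgebra.sum_mem _ ?_
        intro t ht
        obtain ⟨d, hd, htd⟩ := hTdeg t ht
        rw [GradedRing.proj_apply, smul_eq_mul, DirectSum.coe_decompose_mul_of_right_mem 𝒜 n htd]
        split_ifs with hle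
        · refine Subalgebra.mul_mem _ ?_ (Algebra.subset_adjoin ht)
          exact ih (n - d) (by omega) _ (SetLike.coe_mem _)
        · exact Subalgebra.zero_mem _
  rw [eq_top_iff]
  rintro a -
  rw [← DirectSum.sum_support_decompose 𝒜 a]
  exact Subalgebra.sum_mem _ (fun i _ => key i _ (SetLike.coe_mem _))

/-- If A is a graded ring which is Noetherian, then Proj A is a Noetherian scheme. -/
theorem result {R A : Type u} [CommRing R] [CommRing A] [Algebra R A] (𝒜 : ℕ → Submodule R A) [GradedAlgebra 𝒜] [IsNoetherianRing A] :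
    IsNoetherian (Proj 𝒜) := by
  haveI : Algebra.FiniteType (𝒜 0) A := finiteType_of_noetherian 𝒜
  haveI : IsNoetherianRing (𝒜 0) := GradedRing.GradeZero.isNoetherianRing 𝒜
  haveI : IsLocallyNoetherian (Proj 𝒜) :=
    LocallyOfFiniteType.isLocallyNoetherian (Proj.toSpecZero 𝒜)
  haveI : CompactSpace (Proj 𝒜) :=
    QuasiCompact.compactSpace_of_compactSpace (Proj.toSpecZero 𝒜)
  exact ⟨⟩

end Groth.Agent.S2357
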