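import Groth.Statements.S9407
import Groth.Agent.Lib.Helper70.ReducedAscent

set_option autoImplicit false
universe u
open CAlg
open TensorProduct

namespace Groth.Agent.S9407

open Groth.Agent.Lib.Helper70.ReducedAscent in
/-- local-to-global for reducedness -/
lemma isReduced_of_forall_exists_away (S : Type*) [CommRing S]
    (h : ∀ p : Ideal S, p.IsPrime → ∃ f ∉ p, IsReduced (Localization.Away f)) : IsReduced S := by
  constructor
  intro x hx
  by_contra hx0
  have hne : (Ideal.span {x}).annihilator ≠ ⊤ := by
    intro htop
    have : (1 : S) ∈ (Ideal.span {x}).annihilator := htop ▸ Submodule.mem_top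
    rw [Submodule.mem_annihilator_span_singleton] at this
    exact hx0 (by simpa using this)
  obtain ⟨m, hm, hle⟩ := Ideal.exists_le_maximal _ hne
  obtain ⟨f, hf, hred⟩ := h m hm.isPrime
  have h0 : algebraMap S (Localization.Away f) x = 0 := (hx.map _).eq_zero
  rw [IsLocalization.map_eq_zero_iff (Submonoid.powers f)] at h0
  obtain ⟨⟨_, k, rfl⟩, hk⟩ := h0
  have : f ^ k ∈ (Ideal.span {x}).annihilator := by
    rw [Submodule.mem_annihilator_span_singleton]
    simpa using hk
  exact hf (hm.isPrime.mem_of_pow_mem _ (hle this))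

theorem noeth (R : Type u) [CommRing R] (S : Type u) [CommRing S]
    [Algebra R S] [Algebra.Smooth R S] [IsReduced R] [IsNoetherianRing R] : IsReduced S := by
  apply isReduced_of_forall_exists_away
  intro p hp
  obtain ⟨f, hf, n, _, _, hstd⟩ :=
    Algebra.IsSmoothAt.exists_isStandardEtale_mvPolynomial (R := R) (S := S) (p := p)
  refine ⟨f, hf, ?_⟩
  have : Algebra.Etale (MvPolynomial (Fin n) R) (Localization.Away f) := inferInstance
  exact Groth.Agent.Lib.Helper70.ReducedAscent.isReduced_of_flat_of_formallyUnramified
    (MvPolynomial (Fin n) R) (Localization.Away f)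

/-- Reducedness ascends along smooth ring maps: if R is reduced and S is smooth over R then S is
reduced. -/
theorem result (R : Type u) [CommRing R] (S : Type u) [CommRing S]
    [Algebra R S] [Algebra.Smooth R S] [IsReduced R] : IsReduced S := by
  obtain ⟨A₀, B₀, _, _, hfg, hsm, ⟨e⟩⟩ := Algebra.Smooth.exists_subalgebra_fg ℤ R S
  have : Algebra.FiniteType ℤ A₀ := (Subalgebra.fg_iff_finiteType A₀).mp hfg
  have : IsNoetherianRing A₀ := Algebra.FiniteType.isNoetherianRing ℤ A₀
  have : Module.Flat A₀ B₀ := inferInstance
  have key : IsReduced (B₀ ⊗[A₀] R) := by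
    apply IsReduced.tensorProduct_of_flat_of_forall_fg
    intro B hB
    have : Algebra.FiniteType A₀ B := (Subalgebra.fg_iff_finiteType B).mp hB
    have : IsNoetherianRing B := Algebra.FiniteType.isNoetherianRing A₀ B
    have : IsReduced B := isReduced_of_injective B.val Subtype.val_injective
    have : IsReduced (B ⊗[A₀] B₀) := noeth B (B ⊗[A₀] B₀)
    exact isReduced_of_injective (Algebra.TensorProduct.comm A₀ B₀ B).toRingEquiv.toRingHom
      (Algebra.TensorProduct.comm A₀ B₀ B).injective
  have : IsReduced (R ⊗[A₀] B₀) :=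
    isReduced_of_injective (Algebra.TensorProduct.comm A₀ R B₀).toRingEquiv.toRingHom
      (Algebra.TensorProduct.comm A₀ R B₀).injective
  exact isReduced_of_injective e.toRingEquiv.toRingHom e.injective

end Groth.Agent.S9407
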