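import Groth.Statements.S7157
import Groth.Agent.Lib.Helper10.EisDVR
import Groth.Agent.Lib.Helper10.TotRamDVR
-- import your own Groth.Agent.* helpers here

set_option autoImplicit false
universe u
open EtAlg

namespace Groth.Agent.S7157

set_option linter.style.haveILetI false
set_option linter.unusedSectionVars false

section core

open Polynomial IsLocalRing Groth.Agent.Lib.Helper10.EisDVR Groth.Agent.Lib.Helper10.TotRamDVR

theorem isSeparable_adjoinRoot_of_separable {F : Type u} [Field F] (g : F[X]) [Fact (Irreducible g)]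
    (hsep : g.Separable) : Algebra.IsSeparable F (AdjoinRoot g) := by
  have hroot : IsSeparable F (AdjoinRoot.root g) := by
    apply hsep.of_dvd
    apply minpoly.dvd
    rw [AdjoinRoot.aeval_eq, AdjoinRoot.mk_self]
  have hle : Algebra.adjoin F ({AdjoinRoot.root g} : Set (AdjoinRoot g)) ≤
      (separableClosure F (AdjoinRoot g)).toSubalgebra := by
    apply Algebra.adjoin_le
    intro x hx
    rw [Set.mem_singleton_iff] at hx
    rw [hx]
    exact mem_separableClosure_iff.mpr hroot
  rw [AdjoinRoot.adjoinRoot_eq_top] at hle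
  exact ⟨fun x => mem_separableClosure_iff.mp (hle Algebra.mem_top)⟩

variable (A K : Type u) [CommRing A] [IsDomain A] [IsDiscreteValuationRing A] [Field K]
  [Algebra A K] [IsFractionRing A K] (π : A) (hπ : Irreducible π)

include hπ in
theorem case_zero (n : ℕ) :
    ∃ (L : Type u) (_ : Field L) (_ : Algebra K L) (_ : Algebra A L) (_ : IsScalarTower A K L),
      Module.finrank K L = 1 ∧ Algebra.IsSeparable K L ∧
      EtRam.IsTotallyRamified A (algebraMap A L) ∧
      ∃ πB b b' : L, πB ∈ integralClosure A L ∧ b ∈ integralClosure A L ∧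
        b' ∈ integralClosure A L ∧
        πB ^ 1 = algebraMap A L π + algebraMap A L π ^ n * b ∧
        πB ^ 1 = algebraMap A L π + πB ^ (n * 1) * b' := by
  refine ⟨K, inferInstance, inferInstance, inferInstance, inferInstance, Module.finrank_self K,
    inferInstance, ?_, algebraMap A K π, 0, 0, isIntegral_algebraMap, isIntegral_zero,
    isIntegral_zero, by simp, by simp⟩
  haveI : IsLocalHom (algebraMap A A) := ⟨fun a ha => ha⟩
  have h := isTotallyRamified_of_dvr A A K Function.injective_id
    (fun x => by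
      obtain ⟨a, rfl⟩ := residue_surjective x
      exact ⟨a, rfl⟩)
  have hcomp : (algebraMap A K).comp (algebraMap A A) = algebraMap A K := by
    ext a; rfl
  rw [hcomp] at h
  exact h

include hπ in
theorem case_pos (n : ℕ) (hn : 1 < n) (q : ℕ) (hq : 2 ≤ q) :
    ∃ (L : Type u) (_ : Field L) (_ : Algebra K L) (_ : Algebra A L) (_ : IsScalarTower A K L),
      Module.finrank K L = q ∧ Algebra.IsSeparable K L ∧
      EtRam.IsTotallyRamified A (algebraMap A L) ∧
      ∃ πB b b' : L, πB ∈ integralClosure A L ∧ b ∈ integralClosure A L ∧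
        b' ∈ integralClosure A L ∧
        πB ^ q = algebraMap A L π + algebraMap A L π ^ n * b ∧
        πB ^ q = algebraMap A L π + πB ^ (n * q) * b' := by
  classical
  obtain ⟨f, hf⟩ : ∃ f : A[X], f = X ^ q + (C (π ^ n) * X - C π) := ⟨_, rfl⟩
  have hdeglt : (C (π ^ n) * X - C π : A[X]).degree < (q : ℕ) := by
    have h1 : (C (π ^ n) * X - C π : A[X]).degree ≤ 1 := by
      refine (degree_sub_le _ _).trans (max_le ?_ ?_)
      · exact (degree_C_mul_X_le _)
      · exact (degree_C_le).trans (by norm_num)
    exact lt_of_le_of_lt h1 (by exact_mod_cast hq)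
  have hmonic : f.Monic := by rw [hf]; exact monic_X_pow_add hdeglt
  have hnat : f.natDegree = q := by
    rw [hf, natDegree_add_eq_left_of_degree_lt]
    · exact natDegree_X_pow q
    · rw [degree_X_pow]; exact hdeglt
  have hprime : Prime π := hπ.prime
  have hP : (Ideal.span {π}).IsPrime := (Ideal.span_singleton_prime hπ.ne_zero).mpr hprime
  have hcoeff : ∀ i, f.coeff i = (if i = q then 1 else 0) +
      ((if i = 1 then π ^ n else 0) - (if i = 0 then π else 0)) := by
    intro i
    rw [hf, coeff_add, coeff_sub, coeff_X_pow, coeff_C_mul_X, coeff_C]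
  have hirr : Irreducible f := by
    refine Polynomial.IsEisensteinAt.irreducible (𝓟 := Ideal.span {π}) ?_ hP hmonic.isPrimitive
      (by rw [hnat]; omega)
    refine ⟨?_, ?_, ?_⟩
    · rw [hmonic.leadingCoeff]
      exact fun h => hP.ne_top ((Ideal.eq_top_iff_one _).mpr h)
    · intro i hi
      rw [hnat] at hi
      rw [hcoeff, if_neg (by omega), zero_add]
      apply Ideal.sub_mem
      · split_ifs
        · exact Ideal.pow_mem_of_mem _ (Ideal.mem_span_singleton_self π) n (by omega)
        · exact Ideal.zero_mem _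
      · split_ifs
        · exact Ideal.mem_span_singleton_self π
        · exact Ideal.zero_mem _
    · rw [hcoeff, if_neg (by omega), if_neg (by omega), if_pos rfl, zero_add, zero_sub,
        Ideal.span_singleton_pow, Ideal.neg_mem_iff, Ideal.mem_span_singleton]
      rintro ⟨c, hc⟩
      have h2 : π * 1 = π * (π * c) := by
        rw [mul_one]
        conv_lhs => rw [hc]
        ring
      have h1 := mul_left_cancel₀ hπ.ne_zero h2
      exact hπ.not_isUnit (IsUnit.of_mul_eq_one c h1.symm)
  -- the relation
  have hrel : AdjoinRoot.root f ^ q + (AdjoinRoot.of f (π ^ n) * AdjoinRoot.root f -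
      AdjoinRoot.of f π) = 0 := by
    have h : AdjoinRoot.mk f (X ^ q + (C (π ^ n) * X - C π)) = 0 := by
      rw [← hf]; exact AdjoinRoot.mk_self
    rw [map_add, map_sub, map_mul, map_pow, AdjoinRoot.mk_X, AdjoinRoot.mk_C,
      AdjoinRoot.mk_C] at h
    exact h
  have hq1 : 1 ≤ q := by omega
  set c : AdjoinRoot f := AdjoinRoot.root f ^ (q - 1) + AdjoinRoot.of f (π ^ n) with hc
  set w : AdjoinRoot f := 1 - AdjoinRoot.of f (π ^ (n - 1)) * AdjoinRoot.root f with hw
  have hpowq : AdjoinRoot.root f ^ q = AdjoinRoot.root f * AdjoinRoot.root f ^ (q - 1) := by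
    rw [← pow_succ']; congr 1; omega
  have hpown : π ^ n = π * π ^ (n - 1) := by
    rw [← pow_succ']; congr 1; omega
  have h2 : AdjoinRoot.of f π = AdjoinRoot.root f * c := by
    rw [hc, mul_add, ← hpowq]
    linear_combination -hrel
  have h3 : AdjoinRoot.root f ^ q = AdjoinRoot.of f π * w := by
    rw [hw, mul_sub, mul_one, ← mul_assoc, ← map_mul, ← hpown]
    linear_combination hrel
  haveI domA' : IsDomain (AdjoinRoot f) := isDomain A f hirr
  haveI locA' : IsLocalRing (AdjoinRoot f) := isLocalRing A π hπ f hmonic hirr q hq1 c w h2 h3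
  haveI dvrA' : IsDiscreteValuationRing (AdjoinRoot f) :=
    isDiscreteValuationRing A π hπ f hmonic hirr q hq1 c w h2 h3
  haveI locAA' : IsLocalHom (algebraMap A (AdjoinRoot f)) :=
    isLocalHom_algebraMap A π hπ f hmonic hirr q hq1 c w h2 h3
  have hmax := maxIdeal_eq A π hπ f hmonic hirr q hq1 c w h2 h3
  have hwu : IsUnit w := by
    rw [hw]
    apply IsLocalRing.isUnit_one_sub_self_of_mem_nonunits
    show _ ∈ maximalIdeal (AdjoinRoot f)
    rw [hmax]
    exact Ideal.mul_mem_left _ _ (Ideal.mem_span_singleton_self _)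
  haveI : Module.Finite A (AdjoinRoot f) := hmonic.finite_adjoinRoot
  haveI : Algebra.IsIntegral A (AdjoinRoot f) := Algebra.IsIntegral.of_finite _ _
  -- the field `L`
  obtain ⟨fK, hfK⟩ : ∃ fK : K[X], fK = f.map (algebraMap A K) := ⟨_, rfl⟩
  have hirrK : Irreducible fK := by
    rw [hfK]; exact (hmonic.irreducible_iff_irreducible_map_fraction_map).mp hirr
  haveI : Fact (Irreducible fK) := ⟨hirrK⟩
  have hfK0 : fK ≠ 0 := hirrK.ne_zero
  have hnatK : fK.natDegree = q := by rw [hfK, hmonic.natDegree_map, hnat]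
  have hinjAK : Function.Injective (algebraMap A K) := IsFractionRing.injective A K
  have hπK : algebraMap A K (π ^ n) ≠ 0 := fun h =>
    (pow_ne_zero n hπ.ne_zero) (hinjAK (by rw [h, map_zero]))
  have hsepK : fK.Separable := by
    rw [separable_iff_derivative_ne_zero hirrK]
    intro h0
    have h1 : (derivative fK).coeff 0 = 0 := by rw [h0, coeff_zero]
    rw [hfK, hf] at h1
    simp only [Polynomial.map_add, Polynomial.map_sub, Polynomial.map_mul, Polynomial.map_pow,
      map_X, map_C, derivative_add, derivative_sub, derivative_X_pow, derivative_mul, derivative_C,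
      derivative_X, zero_mul, zero_add, mul_one, sub_zero, coeff_add, coeff_C_zero] at h1
    have h2' : (C ((q : ℕ) : K) * X ^ (q - 1) : K[X]).coeff 0 = 0 := by
      rw [coeff_C_mul, coeff_X_pow, if_neg (by omega), mul_zero]
    rw [h2', zero_add] at h1
    exact hπK h1
  haveI sepL : Algebra.IsSeparable K (AdjoinRoot fK) := isSeparable_adjoinRoot_of_separable fK hsepK
  have hfinrank : Module.finrank K (AdjoinRoot fK) = q := by
    rw [(AdjoinRoot.powerBasis hfK0).finrank, AdjoinRoot.powerBasis_dim, hnatK]
  -- the map `A' → L`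
  let i : A →+* AdjoinRoot fK := (algebraMap K (AdjoinRoot fK)).comp (algebraMap A K)
  have hiA : ∀ a, i a = algebraMap A (AdjoinRoot fK) a := fun a =>
    (IsScalarTower.algebraMap_apply A K (AdjoinRoot fK) a).symm
  have heval : f.eval₂ i (AdjoinRoot.root fK) = 0 := by
    have h1 : f.eval₂ i (AdjoinRoot.root fK) =
        (f.map (algebraMap A K)).eval₂ (algebraMap K (AdjoinRoot fK)) (AdjoinRoot.root fK) := by
      rw [eval₂_map]
    rw [h1, ← hfK]
    exact AdjoinRoot.eval₂_root fK
  let φ : AdjoinRoot f →+* AdjoinRoot fK := AdjoinRoot.lift i (AdjoinRoot.root fK) heval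
  have hφof : ∀ a, φ (AdjoinRoot.of f a) = algebraMap A (AdjoinRoot fK) a := fun a => by
    rw [← hiA]; exact AdjoinRoot.lift_of heval
  have hφroot : φ (AdjoinRoot.root f) = AdjoinRoot.root fK := AdjoinRoot.lift_root heval
  have hφmk : ∀ h : A[X], φ (AdjoinRoot.mk f h) = AdjoinRoot.mk fK (h.map (algebraMap A K)) := by
    intro h
    rw [AdjoinRoot.lift_mk, ← AdjoinRoot.aeval_eq, aeval_def, eval₂_map]
  have hALinj : Function.Injective (algebraMap A (AdjoinRoot fK)) := by
    rw [IsScalarTower.algebraMap_eq A K (AdjoinRoot fK)]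
    exact (algebraMap K (AdjoinRoot fK)).injective.comp hinjAK
  have hφinj : Function.Injective φ := by
    rw [RingHom.injective_iff_ker_eq_bot]
    apply Ideal.eq_bot_of_comap_eq_bot (R := A)
    rw [eq_bot_iff]
    intro a ha
    rw [Ideal.mem_comap, RingHom.mem_ker, AdjoinRoot.algebraMap_eq, hφof] at ha
    exact hALinj (by rw [ha, map_zero])
  letI algA'L : Algebra (AdjoinRoot f) (AdjoinRoot fK) := φ.toAlgebra
  haveI : FaithfulSMul (AdjoinRoot f) (AdjoinRoot fK) :=
    (faithfulSMul_iff_algebraMap_injective _ _).mpr hφinj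
  haveI fracA'L : IsFractionRing (AdjoinRoot f) (AdjoinRoot fK) := by
    apply IsFractionRing.of_field
    intro z
    obtain ⟨g', rfl⟩ := AdjoinRoot.mk_surjective z
    obtain ⟨b, hb₁, hb₂⟩ := IsLocalization.integerNormalization_spec (nonZeroDivisors A) g'
    refine ⟨AdjoinRoot.mk f (IsLocalization.integerNormalization (nonZeroDivisors A) g'),
      AdjoinRoot.of f b, ?_⟩
    have hb0 : algebraMap A (AdjoinRoot fK) b ≠ 0 := fun h =>
      nonZeroDivisors.ne_zero hb₁ (hALinj (by rw [h, map_zero]))
    show _ = φ _ / φ _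
    rw [hφmk, hφof, hb₂, eq_div_iff hb0, Algebra.smul_def, map_mul, mul_comm,
      IsScalarTower.algebraMap_apply A K (AdjoinRoot fK)]
    congr 1
  have hinjAA' : Function.Injective (algebraMap A (AdjoinRoot f)) := by
    rw [AdjoinRoot.algebraMap_eq]; exact of_injective A f hmonic hirr
  have htot := isTotallyRamified_of_dvr A (AdjoinRoot f) (AdjoinRoot fK) hinjAA'
    (residue_surjective' A π hπ f hmonic hirr q hq1 c w h2 h3)
  have hcomp : (algebraMap (AdjoinRoot f) (AdjoinRoot fK)).comp (algebraMap A (AdjoinRoot f)) =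
      algebraMap A (AdjoinRoot fK) := by
    ext a
    show φ (algebraMap A (AdjoinRoot f) a) = _
    rw [AdjoinRoot.algebraMap_eq, hφof]
  rw [hcomp] at htot
  -- integrality
  have hint : ∀ x : AdjoinRoot f, φ x ∈ integralClosure A (AdjoinRoot fK) := by
    intro x
    have hcomm : ∀ a : A, φ (algebraMap A (AdjoinRoot f) a) = algebraMap A (AdjoinRoot fK) a := by
      intro a
      rw [AdjoinRoot.algebraMap_eq, hφof]
    let φₐ : AdjoinRoot f →ₐ[A] AdjoinRoot fK := { φ with commutes' := hcomm }
    exact (Algebra.IsIntegral.isIntegral (R := A) x).map φₐ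
  obtain ⟨u, hu⟩ := hwu
  refine ⟨AdjoinRoot fK, inferInstance, inferInstance, inferInstance, inferInstance, hfinrank, sepL,
    htot, φ (AdjoinRoot.root f), φ (-AdjoinRoot.root f),
    φ (-(((u⁻¹ : (AdjoinRoot f)ˣ) : AdjoinRoot f) ^ n * AdjoinRoot.root f)),
    hint _, hint _, hint _, ?_, ?_⟩
  · rw [← hφof, ← map_pow, ← map_pow, ← map_mul, ← map_add]
    congr 1
    rw [← map_pow]
    linear_combination hrel
  · rw [← hφof, ← map_pow, ← map_pow, ← map_mul, ← map_add]
    congr 1
    have hπu : AdjoinRoot.of f π = AdjoinRoot.root f ^ q * ((u⁻¹ : (AdjoinRoot f)ˣ) : AdjoinRoot f) := by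
      rw [h3, ← hu, mul_assoc, Units.mul_inv, mul_one]
    have hπn : AdjoinRoot.of f (π ^ n) = AdjoinRoot.root f ^ (n * q) *
        ((u⁻¹ : (AdjoinRoot f)ˣ) : AdjoinRoot f) ^ n := by
      rw [map_pow, hπu, mul_pow, ← pow_mul, mul_comm q n]
    have := hrel
    rw [hπn] at this
    linear_combination this

end core

/-- Let A be a discrete valuation ring, π a uniformizer, K its field of fractions, and suppose the
residue field of A has characteristic p > 0. For every n > 1 and every power q of p there is a
separable degree-q extension L/K that is totally ramified with respect to A and whose ring of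
integers B (the integral closure of A in L) contains elements π_B, b, b' with π_B^q = π + πⁿ·b and
π_B^q = π + π_B^(nq)·b' (π_B is then a uniformizer of B and the ramification index is q). -/
theorem result (p : ℕ) (hp : p.Prime) (A K : Type u)
    [CommRing A] [IsDomain A] [IsDiscreteValuationRing A] [Field K] [Algebra A K] [IsFractionRing A K]
    [CharP (IsLocalRing.ResidueField A) p] (π : A) (hπ : IsLocalRing.maximalIdeal A = Ideal.span {π})
    (n : ℕ) (hn : 1 < n) (k : ℕ) :
    ∃ (L : Type u) (_ : Field L) (_ : Algebra K L) (_ : Algebra A L) (_ : IsScalarTower A K L),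
      Module.finrank K L = p ^ k ∧ Algebra.IsSeparable K L ∧ EtRam.IsTotallyRamified A (algebraMap A L) ∧
      ∃ πB b b' : L, πB ∈ integralClosure A L ∧ b ∈ integralClosure A L ∧ b' ∈ integralClosure A L ∧
        πB ^ (p ^ k) = algebraMap A L π + algebraMap A L π ^ n * b ∧
        πB ^ (p ^ k) = algebraMap A L π + πB ^ (n * p ^ k) * b' := by
  have hπirr : Irreducible π := (IsDiscreteValuationRing.irreducible_iff_uniformizer π).mpr hπ
  rcases Nat.eq_zero_or_pos k with hk | hk
  · subst hk
    simp only [pow_zero]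
    exact case_zero A K π hπirr n
  · have hq : 2 ≤ p ^ k := by
      calc 2 ≤ p := hp.two_le
        _ = p ^ 1 := (pow_one p).symm
        _ ≤ p ^ k := Nat.pow_le_pow_right hp.pos hk
    exact case_pos A K π hπirr n hn (p ^ k) hq

end Groth.Agent.S7157
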