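import Groth.Statements.S2004
import Groth.Agent.Lib.Helper10.BL

set_option autoImplicit false
universe u
open TensorProduct
open EtAlg

namespace Groth.Agent.S2004

open Groth.Agent.Lib.Helper10.BL

variable {R R' : Type u} [CommRing R] [CommRing R'] [Algebra R R'] {f : R}

theorem algebraMap_away_eq_zero_iff (r : R) :
    algebraMap R (Localization.Away f) r = 0 ↔ ∃ n : ℕ, f ^ n * r = 0 := by
  rw [IsLocalization.map_eq_zero_iff (Submonoid.powers f)]
  constructor
  · rintro ⟨⟨_, n, rfl⟩, h⟩
    exact ⟨n, h⟩
  · rintro ⟨n, h⟩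
    exact ⟨⟨f ^ n, n, rfl⟩, h⟩

theorem awayMap_algebraMap (r : R) :
    Localization.awayMap (algebraMap R R') f (algebraMap R (Localization.Away f) r) =
      algebraMap R' (Localization.Away (algebraMap R R' f)) (algebraMap R R' r) := by
  rw [Localization.awayMap, IsLocalization.Away.map, IsLocalization.map_eq]

theorem awayMap_mk' (r : R) (n : ℕ) :
    Localization.awayMap (algebraMap R R') f
      (IsLocalization.mk' (Localization.Away f) r (⟨f ^ n, n, rfl⟩ : Submonoid.powers f)) =
    IsLocalization.mk' (Localization.Away (algebraMap R R' f)) (algebraMap R R' r)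
      (⟨algebraMap R R' f ^ n, n, rfl⟩ : Submonoid.powers (algebraMap R R' f)) := by
  rw [Localization.awayMap, IsLocalization.Away.map, IsLocalization.map_mk']
  congr 1
  ext
  simp

/-- Let R -> R' induce bijections R/f^n R -> R'/f^n R' for all n > 0. Then (R -> R', f) is a glueing
pair if and only if R -> R' maps the f-power torsion of R bijectively onto the f-power torsion of R'
(stated as: injective on f-power torsion elements, and every f-power torsion element of R' is the
image of one of R). -/
theorem result (R R' : Type u) [CommRing R] [CommRing R'] [Algebra R R'] (f : R)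
    (hq : EtGlue.QuotPowBijective R R' f) :
    EtGlue.IsGlueingPair R R' f ↔
      ((∀ x : R, (∃ n : ℕ, f ^ n * x = 0) → algebraMap R R' x = 0 → x = 0) ∧
       (∀ x' : R', (∃ n : ℕ, algebraMap R R' f ^ n * x' = 0) →
          ∃ x : R, (∃ n : ℕ, f ^ n * x = 0) ∧ algebraMap R R' x = x')) := by
  constructor
  · rintro ⟨-, hinj, hmid, -⟩
    constructor
    · intro x hx hx0
      apply hinj
      simp only [Prod.mk.injEq, map_zero]
      exact ⟨hx0, (algebraMap_away_eq_zero_iff x).mpr hx⟩
    · rintro x' ⟨n, hn⟩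
      have h0 : algebraMap R' (Localization.Away (algebraMap R R' f)) x' = 0 := by
        rw [IsLocalization.map_eq_zero_iff (Submonoid.powers (algebraMap R R' f))]
        exact ⟨⟨algebraMap R R' f ^ n, n, rfl⟩, hn⟩
      obtain ⟨r, hr1, hr2⟩ := hmid x' 0 (by rw [h0, map_zero])
      exact ⟨r, (algebraMap_away_eq_zero_iff r).mp hr2, hr1⟩
  · rintro ⟨hinj, hsurj⟩
    refine ⟨hq, ?_, ?_, ?_⟩
    · intro a b hab
      simp only [Prod.mk.injEq] at hab
      rw [← sub_eq_zero]
      apply hinj
      · rw [← algebraMap_away_eq_zero_iff, map_sub, hab.2, sub_self]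
      · rw [map_sub, hab.1, sub_self]
    · intro x' y hxy
      obtain ⟨r, ⟨_, n, rfl⟩, rfl⟩ := IsLocalization.exists_mk'_eq (Submonoid.powers f) y
      rw [awayMap_mk', eq_comm, IsLocalization.mk'_eq_iff_eq_mul, ← map_mul,
        IsLocalization.eq_iff_exists (Submonoid.powers (algebraMap R R' f))] at hxy
      obtain ⟨⟨_, k, rfl⟩, hk⟩ := hxy
      simp only at hk
      -- hk : φ f ^ k * φ r = φ f ^ k * (x' * φ f ^ n)
      obtain ⟨r0, hr0⟩ := exists_eq_pow_mul hq (k + n) (f ^ k * r) x' (by
        rw [map_mul, map_pow, hk, pow_add]; ring)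
      -- f^k * r = f^(k+n) * r0
      have hy : IsLocalization.mk' (Localization.Away f) r (⟨f ^ n, n, rfl⟩ : Submonoid.powers f) =
          algebraMap R (Localization.Away f) r0 := by
        rw [IsLocalization.mk'_eq_iff_eq_mul, ← map_mul,
          IsLocalization.eq_iff_exists (Submonoid.powers f)]
        refine ⟨⟨f ^ k, k, rfl⟩, ?_⟩
        simp only
        rw [hr0, pow_add]; ring
      have htors : ∃ j : ℕ, algebraMap R R' f ^ j * (x' - algebraMap R R' r0) = 0 := by
        refine ⟨k + n, ?_⟩
        rw [mul_sub, ← map_pow, ← map_mul, ← hr0, map_mul, map_pow, map_pow, hk, pow_add]; ring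
      obtain ⟨t, ht, ht'⟩ := hsurj _ htors
      refine ⟨r0 + t, ?_, ?_⟩
      · rw [map_add, ht']; ring
      · rw [map_add, (algebraMap_away_eq_zero_iff t).mpr ht, add_zero, hy]
    · intro z
      obtain ⟨x', ⟨_, n, rfl⟩, rfl⟩ :=
        IsLocalization.exists_mk'_eq (Submonoid.powers (algebraMap R R' f)) z
      obtain ⟨r, s', hrs⟩ := exists_approx hq n x'
      refine ⟨s', - IsLocalization.mk' (Localization.Away f) r (⟨f ^ n, n, rfl⟩ : Submonoid.powers f), ?_⟩
      rw [map_neg, awayMap_mk', sub_neg_eq_add, eq_comm, IsLocalization.mk'_eq_iff_eq_mul, add_mul,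
        IsLocalization.mk'_spec, ← map_mul, ← map_add, hrs]
      congr 1
      ring

end Groth.Agent.S2004
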