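import Groth.Statements.S0544
import Mathlib.RingTheory.AdicCompletion.Functoriality
import Mathlib.RingTheory.Finiteness.Cardinality
import Mathlib.LinearAlgebra.Finsupp.LinearCombination
import Mathlib.LinearAlgebra.Pi

set_option autoImplicit false
universe u
open CAlg

namespace Groth.Agent.S0544

section aux
-- the next three lemmas follow helper26's S5078 (finite products of precomplete modules)

variable {A : Type u} [CommRing A] (I : Ideal A)

theorem smodEq_map' {M : Type*} {N : Type*} [AddCommGroup M] [Module A M] [AddCommGroup N]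
    [Module A N] (f : M →ₗ[A] N) {x y : M} {k : ℕ}
    (h : x ≡ y [SMOD (I ^ k • ⊤ : Submodule A M)]) :
    f x ≡ f y [SMOD (I ^ k • ⊤ : Submodule A N)] := by
  have h1 := h.map f
  refine h1.mono ?_
  rw [Submodule.map_smul'']
  exact Submodule.smul_mono le_rfl le_top

theorem mem_pow_smul_top_pi' {ι : Type*} [Fintype ι] [DecidableEq ι] (k : ℕ) (x : ι → A) :
    x ∈ (I ^ k • ⊤ : Submodule A (ι → A)) ↔ ∀ i, x i ∈ I ^ k := by
  constructor
  · intro hx i
    have h1 : (LinearMap.proj i : (ι → A) →ₗ[A] A) x ∈
        (I ^ k • ⊤ : Submodule A (ι → A)).map (LinearMap.proj i) := Submodule.mem_map_of_mem hx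
    rw [Submodule.map_smul''] at h1
    have h2 : (I ^ k • (⊤ : Submodule A (ι → A)).map (LinearMap.proj i) : Submodule A A) ≤
        I ^ k := by
      intro z hz
      have : z ∈ (I ^ k • ⊤ : Submodule A A) := Submodule.smul_mono le_rfl le_top hz
      simpa using this
    exact h2 h1
  · intro hx
    rw [pi_eq_sum_univ x]
    refine Submodule.sum_mem _ fun i _ => ?_
    exact Submodule.smul_mem_smul (hx i) trivial

theorem isPrecomplete_pi' {ι : Type*} [Fintype ι] [DecidableEq ι] [IsPrecomplete I A] :
    IsPrecomplete I (ι → A) := by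
  refine ⟨fun f hf => ?_⟩
  have h1 : ∀ i : ι, ∃ L : A, ∀ n, f n i ≡ L [SMOD (I ^ n • ⊤ : Submodule A A)] := by
    intro i
    refine IsPrecomplete.prec' (I := I) (fun n => f n i) ?_
    intro m n hmn
    have := smodEq_map' I (LinearMap.proj i : (ι → A) →ₗ[A] A) (hf hmn)
    simpa using this
  choose L hL using h1
  refine ⟨L, fun n => ?_⟩
  rw [SModEq.sub_mem, mem_pow_smul_top_pi']
  intro i
  have := (hL i n)
  rw [SModEq.sub_mem] at this
  simpa using this

end aux

/-- Let `R` be complete with respect to an ideal `I` and `M` an `R`-module which is `I`-adically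
separated and such that `M/IM` is finitely generated. Then `M` is a finitely generated `R`-module. -/
theorem result (R : Type u) [CommRing R]
    (I : Ideal R) [IsAdicComplete I R] (M : Type u) [AddCommGroup M] [Module R M] [IsHausdorff I M]
    (h : Module.Finite R (M ⧸ (I • ⊤ : Submodule R M))) : Module.Finite R M := by
  classical
  obtain ⟨n, s, hs⟩ := Module.Finite.exists_fin (R := R) (M := M ⧸ (I • ⊤ : Submodule R M))
  have hlift : ∀ i, ∃ m : M, (I • ⊤ : Submodule R M).mkQ m = s i :=
    fun i => Submodule.mkQ_surjective _ (s i)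
  choose m hm using hlift
  let f : (Fin n → R) →ₗ[R] M := Fintype.linearCombination R m
  haveI : IsPrecomplete I (Fin n → R) := isPrecomplete_pi' I
  have hcomp : (I • ⊤ : Submodule R M).mkQ ∘ₗ f = Fintype.linearCombination R s := by
    apply LinearMap.ext
    intro c
    simp only [f, LinearMap.comp_apply, Fintype.linearCombination_apply, map_sum, map_smul, hm]
  have hsurj : Function.Surjective ((I • ⊤ : Submodule R M).mkQ ∘ₗ f) := by
    rw [hcomp, ← LinearMap.range_eq_top, Fintype.range_linearCombination, hs]
  have hf : Function.Surjective f := surjective_of_mkQ_comp_surjective hsurj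
  exact Module.Finite.of_surjective f hf

end Groth.Agent.S0544
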