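import Groth.Statements.S4562
import Groth.Agent.Lib.Helper88.InsepTower
-- import your own Groth.Agent.* helpers here

set_option autoImplicit false
universe u
open CAlg

namespace Groth.Agent.S4562

open Groth.Agent.Lib.Helper88

/-- integral closure in a finite separable extension `N` of the fraction field `P` of a domain `B`
which is module-finite over a Noetherian domain `A`, integrally closed. -/
theorem finite_integralClosure_of_tower (A : Type u) [CommRing A] [IsDomain A] [IsNoetherianRing A]
    (P N : Type u) [Field P] [Field N] [Algebra A P] [Algebra P N] [Algebra A N]
    [IsScalarTower A P N] [FiniteDimensional P N] [Algebra.IsSeparable P N]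
    (hB : Module.Finite A (integralClosure A P))
    (hcl : IsIntegrallyClosed (integralClosure A P))
    (hfr : IsFractionRing (integralClosure A P) P) :
    Module.Finite A (integralClosure A N) := by
  have hBN : IsNoetherianRing (integralClosure A P) := IsNoetherianRing.of_finite A _
  have hBint : Algebra.IsIntegral A (integralClosure A P) := inferInstance
  have hst : IsScalarTower (integralClosure A P) P N := inferInstance
  have hfin : Module.Finite (integralClosure A P) (integralClosure (integralClosure A P) N) :=
    IsIntegralClosure.finite (integralClosure A P) P N _
  have hst2 : IsScalarTower A (integralClosure A P) N := inferInstance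
  have hst3 : IsScalarTower A (integralClosure A P) (integralClosure (integralClosure A P) N) :=
    inferInstance
  have hfinA : Module.Finite A (integralClosure (integralClosure A P) N) :=
    Module.Finite.trans (integralClosure A P) _
  have hNoeth : IsNoetherian A (integralClosure (integralClosure A P) N) :=
    isNoetherian_of_isNoetherianRing_of_finite A _
  let f : integralClosure A N →ₗ[A] integralClosure (integralClosure A P) N :=
    { toFun := fun x => ⟨(x : N), (x.2 : IsIntegral A (x : N)).tower_top⟩
      map_add' := fun x y => rfl
      map_smul' := fun a x => rfl }
  have hf : Function.Injective f := by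
    intro x y hxy
    apply Subtype.ext
    exact congrArg (fun z : integralClosure (integralClosure A P) N => (z : N)) hxy
  exact Module.Finite.of_injective f hf

/-- Let A be a Noetherian domain with fraction field K. If the integral closure of A in every finite
purely inseparable extension of K is a finitely generated A-module, then A is Japanese (N-2). -/
theorem result (A : Type u) [CommRing A] [IsDomain A]
    [IsNoetherianRing A]
    (h : ∀ (K' : Type u) [Field K'] [Algebra A K'] [Algebra (FractionRing A) K']
      [IsScalarTower A (FractionRing A) K'], FiniteDimensional (FractionRing A) K' →
      IsPurelyInseparable (FractionRing A) K' → Module.Finite A (integralClosure A K')) :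
    CAlg.IsN2 A := by
  intro L _ _ _ _ hfin
  obtain ⟨P, N, _, _, _, _, _, _, _, _, hP, hPi, hN, hsep⟩ :=
    exists_insep_sep_tower (FractionRing A) L
  letI : Algebra A P :=
    ((algebraMap (FractionRing A) P).comp (algebraMap A (FractionRing A))).toAlgebra
  haveI : IsScalarTower A (FractionRing A) P := IsScalarTower.of_algebraMap_eq (fun _ => rfl)
  letI : Algebra A N :=
    ((algebraMap (FractionRing A) N).comp (algebraMap A (FractionRing A))).toAlgebra
  haveI : IsScalarTower A (FractionRing A) N := IsScalarTower.of_algebraMap_eq (fun _ => rfl)
  haveI : IsScalarTower A P N := IsScalarTower.of_algebraMap_eq (fun x => by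
    change algebraMap (FractionRing A) N (algebraMap A (FractionRing A) x) =
      algebraMap P N (algebraMap (FractionRing A) P (algebraMap A (FractionRing A) x))
    rw [← IsScalarTower.algebraMap_apply (FractionRing A) P N])
  haveI : IsScalarTower A L N := IsScalarTower.of_algebraMap_eq (fun x => by
    change algebraMap (FractionRing A) N (algebraMap A (FractionRing A) x) =
      algebraMap L N (algebraMap A L x)
    rw [IsScalarTower.algebraMap_apply A (FractionRing A) L,
      ← IsScalarTower.algebraMap_apply (FractionRing A) L N])
  have hB : Module.Finite A (integralClosure A P) := h P hP hPi
  have hcl : IsIntegrallyClosed (integralClosure A P) :=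
    integralClosure.isIntegrallyClosedOfFiniteExtension (FractionRing A)
  have hfr : IsFractionRing (integralClosure A P) P :=
    integralClosure.isFractionRing_of_finite_extension (FractionRing A) P
  have hCN : Module.Finite A (integralClosure A N) :=
    finite_integralClosure_of_tower A P N hB hcl hfr
  have hNoeth : IsNoetherian A (integralClosure A N) :=
    isNoetherian_of_isNoetherianRing_of_finite A _
  let ψ : L →ₐ[A] N := IsScalarTower.toAlgHom A L N
  let g : integralClosure A L →ₗ[A] integralClosure A N :=
    { toFun := fun x => ⟨ψ (x : L), (x.2 : IsIntegral A (x : L)).map ψ⟩
      map_add' := fun x y => Subtype.ext (map_add ψ (x : L) (y : L))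
      map_smul' := fun a x => Subtype.ext (map_smul ψ a (x : L)) }
  have hg : Function.Injective g := by
    intro x y hxy
    apply Subtype.ext
    have : ψ (x : L) = ψ (y : L) := congrArg (fun z : integralClosure A N => (z : N)) hxy
    exact (algebraMap L N).injective this
  exact Module.Finite.of_injective g hg

end Groth.Agent.S4562
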