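import Groth.Statements.S0569
import Groth.Agent.Lib.Helper88.Tate
import Groth.Agent.S4562
import Mathlib

set_option autoImplicit false
universe u
open CAlg

namespace Groth.Agent.S0569

open Groth.Agent.Lib.Helper88

/-- Let `R` be an integrally closed Noetherian domain and `x` an element such that `R/xR` is a domain
which is N-2 and `R` is complete with respect to `xR`. Then `R` is N-2. -/
theorem result (R : Type u) [CommRing R] [IsDomain R]
    [IsNoetherianRing R] [IsIntegrallyClosed R] (x : R) [(Ideal.span ({x} : Set R)).IsPrime]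
    (h2 : CAlg.IsN2 (R ⧸ Ideal.span ({x} : Set R))) [IsAdicComplete (Ideal.span ({x} : Set R)) R] :
    CAlg.IsN2 R := by
  classical
  by_cases hx0 : x = 0
  · have hbot : Ideal.span ({x} : Set R) = ⊥ := by rw [hx0]; simp
    have e : (R ⧸ Ideal.span ({x} : Set R)) ≃+* R :=
      (Ideal.quotEquivOfEq hbot).trans (RingEquiv.quotientBot R)
    exact isN2_of_ringEquiv e h2
  apply Groth.Agent.S4562.result R
  intro K' _ _ _ _ hfin hpi
  set K := FractionRing R with hK
  let p := ringExpChar K
  haveI : ExpChar K p := ringExpChar.expChar K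
  let e := IsPurelyInseparable.exponent K K'
  let q := p ^ e
  have hq0 : 0 < q := pow_pos (expChar_pos K p) e
  let Ω := AlgebraicClosure K'
  obtain ⟨y, hy⟩ : ∃ y : Ω, y ^ q = algebraMap R Ω x :=
    IsAlgClosed.exists_pow_nat_eq _ hq0
  let L' := IntermediateField.adjoin K' ({y} : Set Ω)
  haveI : ExpChar Ω p := expChar_of_injective_algebraMap (algebraMap K Ω).injective p
  -- q-th powers land in K
  have hpow : ∀ a ∈ L', a ^ q ∈ (algebraMap K Ω).fieldRange := by
    intro a ha
    induction ha using IntermediateField.adjoin_induction with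
    | mem a ha =>
      rw [Set.mem_singleton_iff] at ha
      rw [ha, hy]
      exact ⟨algebraMap R K x, (IsScalarTower.algebraMap_apply R K Ω x).symm⟩
    | algebraMap a =>
      obtain ⟨c, hc⟩ := IsPurelyInseparable.exponent_def' K p a
      refine ⟨c, ?_⟩
      rw [IsScalarTower.algebraMap_apply K K' Ω, hc, map_pow]
    | add a b _ _ ha hb =>
      rw [add_pow_expChar_pow]
      exact add_mem ha hb
    | inv a _ ha =>
      rw [inv_pow]
      exact inv_mem ha
    | mul a b _ _ ha hb =>
      rw [mul_pow]
      exact mul_mem ha hb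
  have cR : ∀ r : R, ((algebraMap R L' r : L') : Ω) = algebraMap R Ω r := fun r => rfl
  have cK : ∀ r : K, ((algebraMap K L' r : L') : Ω) = algebraMap K Ω r := fun r => rfl
  have cK' : ∀ r : K', ((algebraMap K' L' r : L') : Ω) = algebraMap K' Ω r := fun r => rfl
  haveI i3 : IsScalarTower R K L' := IsScalarTower.of_algebraMap_eq (fun r => Subtype.ext (by
    rw [cR, cK, ← IsScalarTower.algebraMap_apply R K Ω]))
  haveI i4 : IsScalarTower K K' L' := IsScalarTower.of_algebraMap_eq (fun r => Subtype.ext (by
    rw [cK, cK', ← IsScalarTower.algebraMap_apply K K' Ω]))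
  haveI i5 : IsScalarTower R K' L' := IsScalarTower.of_algebraMap_eq (fun r => Subtype.ext (by
    rw [cR, cK', ← IsScalarTower.algebraMap_apply R K' Ω]))
  have hinj : Function.Injective (algebraMap R L') := by
    rw [IsScalarTower.algebraMap_eq R K L']
    exact (algebraMap K L').injective.comp (IsFractionRing.injective R K)
  have h2' : IsN2' (R ⧸ Ideal.span ({x} : Set R)) := (isN2_iff _).mp h2
  have hLq : ∀ a : L', IsIntegral R a → ∃ r : R, algebraMap R L' r = a ^ q := by
    intro a ha
    obtain ⟨c, hc⟩ := hpow a a.2
    have hc' : algebraMap K L' c = a ^ q := Subtype.ext (by rw [cK, hc]; rfl)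
    have hcint : IsIntegral R c := by
      have h1 : IsIntegral R (algebraMap K L' c) := by rw [hc']; exact ha.pow q
      exact (isIntegral_algebraMap_iff (algebraMap K L').injective).mp h1
    obtain ⟨r, hr⟩ := IsIntegrallyClosed.isIntegral_iff.mp hcint
    exact ⟨r, by rw [IsScalarTower.algebraMap_apply R K L', hr, hc']⟩
  let y' : L' := ⟨y, IntermediateField.mem_adjoin_simple_self K' y⟩
  have hy' : y' ^ q = algebraMap R L' x := Subtype.ext (by
    rw [cR, ← hy]; rfl)
  have hyint : IsIntegral K' y := by
    refine ⟨Polynomial.X ^ q - Polynomial.C (algebraMap R K' x),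
      Polynomial.monic_X_pow_sub_C _ hq0.ne', ?_⟩
    simp [hy, ← IsScalarTower.algebraMap_apply R K' Ω]
  haveI : FiniteDimensional K' L' := IntermediateField.adjoin.finiteDimensional hyint
  haveI : FiniteDimensional K K' := hfin
  haveI : FiniteDimensional K L' := Module.Finite.trans K' L'
  have hrank : ∀ (k : ℕ) (a : Fin k → L'), LinearIndependent R a → k ≤ Module.finrank K L' := by
    intro k a ha
    have h1 : LinearIndependent K a := (LinearIndependent.iff_fractionRing R K).mp ha
    simpa using h1.fintype_card_le_finrank
  have hfinL : Module.Finite R (integralClosure R L') :=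
    Tate.finite_integralClosure_core hinj x hx0 h2' q hq0 hLq y' hy' _ hrank
  -- descend to K'
  let f : K' →ₐ[R] L' := (IsScalarTower.toAlgHom R K' L')
  have hfinj : Function.Injective f.mapIntegralClosure := by
    intro a b hab
    apply Subtype.ext
    have := congrArg Subtype.val hab
    exact (algebraMap K' L').injective this
  haveI : IsNoetherian R (integralClosure R L') := isNoetherian_of_isNoetherianRing_of_finite R _
  exact Module.Finite.of_injective f.mapIntegralClosure.toLinearMap hfinj

end Groth.Agent.S0569
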