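import Groth.Statements.S4563
import Groth.Agent.Lib.Helper88.PowerSeriesN2
import Mathlib

set_option autoImplicit false
universe u
open CAlg

namespace Groth.Agent.S4563

open Groth.Agent.Lib.Helper88 in
theorem aux {A : Type u} [CommRing A] [IsDomain A]
    [IsNoetherianRing A] [IsIntegrallyClosed A] (hA : CAlg.IsN2 A) (r : ℕ) :
    ∃ (_ : IsDomain (MvPowerSeries (Fin r) A)), IsIntegrallyClosed (MvPowerSeries (Fin r) A) ∧
      CAlg.IsN2 (MvPowerSeries (Fin r) A) := by
  induction r with
  | zero =>
    let e : MvPowerSeries (Fin 0) A ≃+* A := (MvPowerSeries.isEmptyEquiv (Fin 0) A).toRingEquiv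
    haveI : IsDomain (MvPowerSeries (Fin 0) A) := NoZeroDivisors.to_isDomain _
    exact ⟨inferInstance, IsIntegrallyClosed.of_equiv e.symm, isN2_of_ringEquiv e.symm hA⟩
  | succ r ih =>
    obtain ⟨hdom, hic, hN2⟩ := ih
    let e : MvPowerSeries (Fin (r + 1)) A ≃+* PowerSeries (MvPowerSeries (Fin r) A) :=
      (MvPowerSeries.finSuccEquiv A r).toRingEquiv
    haveI : IsDomain (MvPowerSeries (Fin (r + 1)) A) := NoZeroDivisors.to_isDomain _
    haveI := PowerSeriesNormal.isIntegrallyClosed (MvPowerSeries (Fin r) A)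
    exact ⟨inferInstance, IsIntegrallyClosed.of_equiv e.symm,
      isN2_of_ringEquiv e.symm (PowerSeriesN2.isN2_powerSeries_of_isIntegrallyClosed _ hN2)⟩

/-- If A is a Noetherian integrally closed Japanese (N-2) domain, then every formal power series ring
A[[T_1, ..., T_r]] is Japanese. (The power series ring is a domain; that instance is taken as a
hypothesis binder.) -/
theorem result {A : Type u} [CommRing A] [IsDomain A]
    [IsNoetherianRing A] [IsIntegrallyClosed A] (hA : CAlg.IsN2 A) (r : ℕ)
    [IsDomain (MvPowerSeries (Fin r) A)] :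
    CAlg.IsN2 (MvPowerSeries (Fin r) A) := by
  obtain ⟨_, _, h⟩ := aux hA r
  exact h

end Groth.Agent.S4563
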