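import Groth.Statements.S6333
import Mathlib.RingTheory.AlgebraicIndependent.AlgebraicClosure
import Mathlib.RingTheory.AlgebraicIndependent.TranscendenceBasis
import Mathlib.FieldTheory.IntermediateField.Adjoin.Algebra
import Mathlib.RingTheory.Localization.Module
import Mathlib.RingTheory.EssentialFiniteness

set_option autoImplicit false
universe u
open Fields

namespace Groth.Agent.S6333

/-- Linear disjointness of an algebraic extension and a purely transcendental one: a family of
elements algebraic over `k` which is `k`-linearly independent stays linearly independent over the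
polynomial ring generated by an algebraically independent set. -/
theorem linearIndependent_algebra_adjoin {k K : Type u} [Field k] [Field K] [Algebra k K]
    (s : Set K) (hs : AlgebraicIndependent k ((↑) : s → K)) {ι : Type*}
    (v : ι → algebraicClosure k K) (hv : LinearIndependent k v) :
    LinearIndependent (Algebra.adjoin k s) (fun i => ((v i : algebraicClosure k K) : K)) := by
  classical
  have hsE : AlgebraicIndependent (algebraicClosure k K) ((↑) : s → K) :=
    hs.extendScalars (algebraicClosure k K)
  rw [linearIndependent_iff']
  intro t g hg i hi
  have hmem : ∀ j, ∃ p : MvPolynomial s k, MvPolynomial.aeval ((↑) : s → K) p = (g j : K) := by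
    intro j
    have h0 : ∀ y : K, y ∈ Algebra.adjoin k s →
        ∃ p : MvPolynomial s k, MvPolynomial.aeval ((↑) : s → K) p = y := by
      intro y hy
      rw [Algebra.adjoin_eq_range] at hy
      exact hy
    exact h0 _ (g j).2
  choose p hp using hmem
  let q : MvPolynomial s (algebraicClosure k K) :=
    ∑ j ∈ t, MvPolynomial.C (v j) * MvPolynomial.map (algebraMap k (algebraicClosure k K)) (p j)
  have hq : MvPolynomial.aeval ((↑) : s → K) q = 0 := by
    rw [← hg]
    simp only [q, map_sum, map_mul, MvPolynomial.aeval_C, MvPolynomial.aeval_map_algebraMap, hp]
    refine Finset.sum_congr rfl fun j _ => ?_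
    rw [mul_comm]
    rfl
  have hq0 : q = 0 := hsE.eq_zero_of_aeval_eq_zero q hq
  have hcoeff : ∀ m, ∀ j ∈ t, MvPolynomial.coeff m (p j) = 0 := by
    intro m
    have h1 : ∑ j ∈ t, MvPolynomial.coeff m (p j) • v j = 0 := by
      have h2 : MvPolynomial.coeff m q = 0 := by rw [hq0]; simp
      rw [← h2]
      simp only [q, MvPolynomial.coeff_sum, MvPolynomial.coeff_C_mul, MvPolynomial.coeff_map]
      refine Finset.sum_congr rfl fun j _ => ?_
      rw [Algebra.smul_def, mul_comm]
    exact linearIndependent_iff'.1 hv t (fun j => MvPolynomial.coeff m (p j)) h1
  have hpi : p i = 0 := by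
    ext m
    simpa using hcoeff m i hi
  apply Subtype.ext
  rw [← hp i, hpi]
  simp

open scoped IntermediateField.algebraAdjoinAdjoin in
/-- Linear disjointness of an algebraic extension and a purely transcendental one. -/
theorem linearIndependent_adjoin {k K : Type u} [Field k] [Field K] [Algebra k K]
    (s : Set K) (hs : AlgebraicIndependent k ((↑) : s → K)) {ι : Type*}
    (v : ι → algebraicClosure k K) (hv : LinearIndependent k v) :
    LinearIndependent (IntermediateField.adjoin k s)
      (fun i => ((v i : algebraicClosure k K) : K)) :=
  (linearIndependent_algebra_adjoin s hs v hv).localization (IntermediateField.adjoin k s)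
    (nonZeroDivisors (Algebra.adjoin k s))

/-- For a finitely generated field extension K/k, the algebraic closure of k inside K is a finite
extension of k. -/
theorem result {k K : Type u} [Field k] [Field K] [Algebra k K]
    (hfg : (⊤ : IntermediateField k K).FG) :
    FiniteDimensional k (algebraicClosure k K) := by
  classical
  have hess : Algebra.EssFiniteType k K := IntermediateField.fg_top_iff.1 hfg
  obtain ⟨s, hs⟩ := exists_isTranscendenceBasis k K
  have halg : Algebra.IsAlgebraic (IntermediateField.adjoin k s) K := by
    have := hs.isAlgebraic_field
    rwa [Subtype.range_coe] at this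
  have hess' : Algebra.EssFiniteType (IntermediateField.adjoin k s) K :=
    Algebra.EssFiniteType.of_comp k (IntermediateField.adjoin k s) K
  have hfin : Module.Finite (IntermediateField.adjoin k s) K :=
    Algebra.finite_of_essFiniteType_of_isAlgebraic
  let b := Module.Basis.ofVectorSpace k (algebraicClosure k K)
  have hli := linearIndependent_adjoin s hs.1 b b.linearIndependent
  have : Finite (Module.Basis.ofVectorSpaceIndex k (algebraicClosure k K)) := hli.finite
  exact Module.Finite.of_basis b

end Groth.Agent.S6333
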