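import Groth.Statements.S0573
-- import your own Groth.Agent.* helpers here
import Groth.Agent.Lib.Helper88.Japanese9

set_option autoImplicit false
universe u
open CAlg

namespace Groth.Agent.S0573

/-- Stated for finite type rather than essentially finite type algebras: if `R` is a Nagata ring and `S`
a reduced `R`-algebra of finite type, then the integral closure of `R` in `S` is a finitely
generated `R`-module. -/
theorem result (R : Type u) [CommRing R] (hR : CAlg.IsNagata R)
    (S : Type u) [CommRing S] [IsReduced S] [Algebra R S] [Algebra.FiniteType R S] :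
    Module.Finite R (integralClosure R S) := by
  classical
  open Groth.Agent.Lib.Helper88 in
  haveI : IsNoetherianRing R := hR.1
  haveI : IsNoetherianRing S := Algebra.FiniteType.isNoetherianRing R S
  have hfinmin : (minimalPrimes S).Finite := minimalPrimes.finite_of_isNoetherianRing S
  haveI : Finite (minimalPrimes S) := hfinmin.to_subtype
  haveI : ∀ q : minimalPrimes S, (q : Ideal S).IsPrime := fun q => Ideal.IsMinimalPrime.isPrime q.2
  let φ : S →ₐ[R] (∀ q : minimalPrimes S, FractionRing (S ⧸ (q : Ideal S))) :=
    AlgHom.pi (fun q =>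
      (IsScalarTower.toAlgHom R (S ⧸ (q : Ideal S)) (FractionRing (S ⧸ (q : Ideal S)))).comp
        (Ideal.Quotient.mkₐ R (q : Ideal S)))
  have hφinj : Function.Injective φ := by
    rw [injective_iff_map_eq_zero]
    intro x hx
    have hmem : x ∈ sInf (minimalPrimes S) := by
      rw [Ideal.mem_sInf]
      intro q hq
      have h1 := congrFun hx ⟨q, hq⟩
      have h2 : algebraMap (S ⧸ q) (FractionRing (S ⧸ q)) (Ideal.Quotient.mk q x) = 0 := h1
      haveI : q.IsPrime := Ideal.IsMinimalPrime.isPrime hq
      rw [map_eq_zero_iff _ (IsFractionRing.injective (S ⧸ q) (FractionRing (S ⧸ q)))] at h2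
      exact Ideal.Quotient.eq_zero_iff_mem.mp h2
    have h3 : sInf (minimalPrimes S) = (⊥ : Ideal S).radical := Ideal.sInf_minimalPrimes
    rw [h3] at hmem
    have h4 : (⊥ : Ideal S).radical = ⊥ := by
      change nilradical S = ⊥
      exact nilradical_eq_zero S
    rw [h4] at hmem
    exact hmem
  have hfac : ∀ q : minimalPrimes S, (Subalgebra.toSubmodule
      (integralClosure R (FractionRing (S ⧸ (q : Ideal S))))).FG := fun q =>
    fg_integralClosure_of_finiteType_of_isNagata R (S ⧸ (q : Ideal S)) _ hR
  have hpi := Submodule.fg_pi hfac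
  have hle : (Subalgebra.toSubmodule (integralClosure R S)).map φ.toLinearMap ≤
      Submodule.pi Set.univ (fun q : minimalPrimes S =>
        Subalgebra.toSubmodule (integralClosure R (FractionRing (S ⧸ (q : Ideal S))))) := by
    rintro _ ⟨x, hx, rfl⟩ q -
    have hx' : IsIntegral R x := hx
    exact hx'.map ((Pi.evalAlgHom R _ q).comp φ)
  have hmapfg : ((Subalgebra.toSubmodule (integralClosure R S)).map φ.toLinearMap).FG :=
    Submodule.FG.of_le hpi hle
  have : (Subalgebra.toSubmodule (integralClosure R S)).FG :=
    Submodule.fg_of_fg_map_injective φ.toLinearMap hφinj hmapfg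
  exact Module.Finite.of_fg this

end Groth.Agent.S0573
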