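import Groth.Statements.S7132
import Mathlib

set_option autoImplicit false
universe u
open EtAlg

namespace Groth.Agent.S7132

open IsDiscreteValuationRing

section core
variable {A B : Type u} [CommRing A] [IsDomain A] [IsDiscreteValuationRing A]
  [CommRing B] [IsDomain B] [IsDiscreteValuationRing B] [Algebra A B]
  [IsLocalHom (algebraMap A B)]

theorem lemA (ϖ : A) (hϖ : Irreducible ϖ) (ϖB : B) (hϖB : Irreducible ϖB) (e : ℕ) (v : Bˣ)
    (hev : algebraMap A B ϖ = v * ϖB ^ e) (r : ℕ) (b : Fin r → B)
    (hb : LinearIndependent (IsLocalRing.ResidueField A) (fun i => IsLocalRing.residue B (b i)))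
    (a : Fin r → Fin e → A)
    (hsum : ∑ j, (∑ i, algebraMap A B (a i j) * b i) * ϖB ^ (j : ℕ) = 0) :
    ∀ (k : ℕ) (hk : k < e) (i : Fin r), a i ⟨k, hk⟩ ∈ IsLocalRing.maximalIdeal A := by
  classical
  have hmA : IsLocalRing.maximalIdeal A = Ideal.span {ϖ} := (irreducible_iff_uniformizer ϖ).mp hϖ
  have hmB : IsLocalRing.maximalIdeal B = Ideal.span {ϖB} :=
    (irreducible_iff_uniformizer ϖB).mp hϖB
  have hϖB0 : ϖB ≠ 0 := hϖB.ne_zero
  have hdiv : ∀ x ∈ IsLocalRing.maximalIdeal A, ϖB ^ e ∣ algebraMap A B x := by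
    intro x hx
    rw [hmA, Ideal.mem_span_singleton] at hx
    obtain ⟨c, rfl⟩ := hx
    rw [map_mul, hev]
    exact Dvd.intro_left ((v : B) * algebraMap A B c) (by ring)
  intro k
  induction k using Nat.strong_induction_on with
  | _ k ih =>
    intro hk
    set j : Fin e := ⟨k, hk⟩ with hj
    set S : Fin e → B := fun j' => ∑ i, algebraMap A B (a i j') * b i with hS
    have hother : ∀ j' ∈ Finset.univ.erase j, ϖB ^ (k + 1) ∣ S j' * ϖB ^ (j' : ℕ) := by
      intro j' hj'
      have hne : j' ≠ j := (Finset.mem_erase.mp hj').1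
      rcases lt_or_gt_of_ne (fun h => hne (Fin.ext h) : (j' : ℕ) ≠ k) with hlt | hgt
      · apply Dvd.dvd.mul_right
        apply Finset.dvd_sum
        intro i _
        apply Dvd.dvd.mul_right
        exact (pow_dvd_pow ϖB (by omega : k + 1 ≤ e)).trans (hdiv _ (ih j' hlt j'.2 i))
      · apply Dvd.dvd.mul_left
        exact pow_dvd_pow ϖB (by omega)
    have hTj : S j * ϖB ^ k = -∑ j' ∈ Finset.univ.erase j, S j' * ϖB ^ (j' : ℕ) := by
      have := Finset.add_sum_erase Finset.univ (fun j' => S j' * ϖB ^ (j' : ℕ)) (Finset.mem_univ j)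
      rw [hsum] at this
      have h2 : S j * ϖB ^ (j : ℕ) = S j * ϖB ^ k := rfl
      linear_combination this
    have hdvd : ϖB ^ (k + 1) ∣ S j * ϖB ^ k := by
      rw [hTj]
      exact (Finset.dvd_sum hother).neg_right
    have hdvd' : ϖB ∣ S j := by
      rw [pow_succ, mul_comm (S j)] at hdvd
      exact (mul_dvd_mul_iff_left (pow_ne_zero k hϖB0)).mp hdvd
    have hres : IsLocalRing.residue B (S j) = 0 := by
      rw [IsLocalRing.residue_eq_zero_iff, hmB, Ideal.mem_span_singleton]
      exact hdvd'
    have hlin : ∑ i, (IsLocalRing.residue A (a i j)) • IsLocalRing.residue B (b i) = 0 := by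
      rw [← hres, hS, map_sum]
      apply Finset.sum_congr rfl
      intro i _
      rw [Algebra.smul_def, IsLocalRing.ResidueField.algebraMap_residue, map_mul]
    intro i
    have := Fintype.linearIndependent_iff.mp hb (fun i => IsLocalRing.residue A (a i j)) hlin i
    exact (IsLocalRing.residue_eq_zero_iff _).mp this

theorem lemB (hinj : Function.Injective (algebraMap A B))
    (ϖ : A) (hϖ : Irreducible ϖ) (ϖB : B) (hϖB : Irreducible ϖB) (e : ℕ) (v : Bˣ)
    (hev : algebraMap A B ϖ = v * ϖB ^ e) (r : ℕ) (b : Fin r → B)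
    (hb : LinearIndependent (IsLocalRing.ResidueField A) (fun i => IsLocalRing.residue B (b i)))
    (n : ℕ) : ∀ (a : Fin r → Fin e → A),
      (∑ j, (∑ i, algebraMap A B (a i j) * b i) * ϖB ^ (j : ℕ) = 0) → ∀ i j, ϖ ^ n ∣ a i j := by
  have hmA : IsLocalRing.maximalIdeal A = Ideal.span {ϖ} := (irreducible_iff_uniformizer ϖ).mp hϖ
  induction n with
  | zero => intro a _ i j; simp
  | succ n ih =>
    intro a hsum i j
    have hmem := lemA ϖ hϖ ϖB hϖB e v hev r b hb a hsum
    have hex : ∀ i j, ∃ c : A, a i j = ϖ * c := by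
      intro i j
      have := hmem j.1 j.2 i
      rw [hmA, Ideal.mem_span_singleton] at this
      exact this
    choose a' ha' using hex
    have hϖ0 : algebraMap A B ϖ ≠ 0 := by
      intro h0
      exact hϖ.ne_zero (hinj (by rw [h0, map_zero]))
    have hsum' : ∑ j, (∑ i, algebraMap A B (a' i j) * b i) * ϖB ^ (j : ℕ) = 0 := by
      have : algebraMap A B ϖ * ∑ j, (∑ i, algebraMap A B (a' i j) * b i) * ϖB ^ (j : ℕ) = 0 := by
        rw [← hsum, Finset.mul_sum]
        apply Finset.sum_congr rfl
        intro j _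
        rw [← mul_assoc, Finset.mul_sum]
        congr 1
        apply Finset.sum_congr rfl
        intro i _
        rw [ha' i j, map_mul]
        ring
      exact (mul_eq_zero.mp this).resolve_left hϖ0
    have := ih a' hsum' i j
    rw [ha' i j, pow_succ, mul_comm]
    exact mul_dvd_mul_left ϖ this

theorem lemC (hinj : Function.Injective (algebraMap A B))
    (ϖ : A) (hϖ : Irreducible ϖ) (ϖB : B) (hϖB : Irreducible ϖB) (e : ℕ) (v : Bˣ)
    (hev : algebraMap A B ϖ = v * ϖB ^ e) (r : ℕ) (b : Fin r → B)
    (hb : LinearIndependent (IsLocalRing.ResidueField A) (fun i => IsLocalRing.residue B (b i)))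
    (a : Fin r → Fin e → A)
    (hsum : ∑ j, (∑ i, algebraMap A B (a i j) * b i) * ϖB ^ (j : ℕ) = 0) : ∀ i j, a i j = 0 := by
  intro i j
  by_contra hne
  obtain ⟨n, u, hu⟩ := eq_unit_mul_pow_irreducible hne hϖ
  have hd := lemB hinj ϖ hϖ ϖB hϖB e v hev r b hb (n + 1) a hsum i j
  rw [hu, pow_succ, mul_comm (u : A)] at hd
  have : ϖ ∣ (u : A) := (mul_dvd_mul_iff_left (pow_ne_zero n hϖ.ne_zero)).mp hd
  exact hϖ.not_isUnit (isUnit_of_dvd_unit this u.isUnit)

end core

section main
variable (A B K L : Type u) [CommRing A] [IsDomain A]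
    [IsDiscreteValuationRing A] [CommRing B] [IsDomain B] [IsDiscreteValuationRing B] [Algebra A B]
    [IsLocalHom (algebraMap A B)]
    [Field K] [Field L] [Algebra A K] [IsFractionRing A K] [Algebra B L] [IsFractionRing B L]
    [Algebra K L] [Algebra A L] [IsScalarTower A K L] [IsScalarTower A B L]

theorem lemD (hinj : Function.Injective (algebraMap A B))
    (ϖ : A) (hϖ : Irreducible ϖ) (ϖB : B) (hϖB : Irreducible ϖB) (e : ℕ) (v : Bˣ)
    (hev : algebraMap A B ϖ = v * ϖB ^ e) (r : ℕ) (b : Fin r → B)
    (hb : LinearIndependent (IsLocalRing.ResidueField A) (fun i => IsLocalRing.residue B (b i))) :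
    LinearIndependent K
      (fun ij : Fin r × Fin e => algebraMap B L (b ij.1 * ϖB ^ (ij.2 : ℕ))) := by
  rw [Fintype.linearIndependent_iff]
  intro c hc ij0
  obtain ⟨s, hs⟩ := IsLocalization.exist_integer_multiples_of_finite (nonZeroDivisors A) c
  have hs' : ∀ ij, ∃ a : A, algebraMap A K a = (s : A) • c ij := fun ij => hs ij
  choose a ha using hs'
  have hsum : ∑ j, (∑ i, algebraMap A B (a (i, j)) * b i) * ϖB ^ (j : ℕ) = 0 := by
    apply IsFractionRing.injective B L
    rw [map_zero, map_sum]
    have h0 : (s : A) • ∑ ij, c ij • algebraMap B L (b ij.1 * ϖB ^ (ij.2 : ℕ)) = 0 := by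
      rw [hc, smul_zero]
    rw [Finset.smul_sum, Fintype.sum_prod_type_right] at h0
    rw [← h0]
    apply Finset.sum_congr rfl
    intro j _
    rw [Finset.sum_mul, map_sum]
    apply Finset.sum_congr rfl
    intro i _
    rw [← smul_assoc, ← ha (i, j), algebraMap_smul, Algebra.smul_def,
      IsScalarTower.algebraMap_apply A B L, ← map_mul]
    congr 1
    ring
  have h0 := lemC hinj ϖ hϖ ϖB hϖB e v hev r b hb (fun i j => a (i, j)) hsum ij0.1 ij0.2
  have h1 : (s : A) • c ij0 = 0 := by
    rw [← ha ij0]
    have : a ij0 = 0 := h0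
    rw [this, map_zero]
  rw [Algebra.smul_def] at h1
  refine (mul_eq_zero.mp h1).resolve_left ?_
  intro h
  exact nonZeroDivisors.ne_zero s.2 ((IsFractionRing.injective A K) (by rw [h, map_zero]))

end main
/-- For an injective local homomorphism A → B of discrete valuation rings whose fraction fields K ⊆ L
form a finite extension, the residue field of B is finite over that of A, and the ramification index
e times the residue degree f is at most [L : K]. -/
theorem result (A B K L : Type u) [CommRing A] [IsDomain A]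
    [IsDiscreteValuationRing A] [CommRing B] [IsDomain B] [IsDiscreteValuationRing B] [Algebra A B]
    (hinj : Function.Injective (algebraMap A B)) [IsLocalHom (algebraMap A B)]
    [Field K] [Field L] [Algebra A K] [IsFractionRing A K] [Algebra B L] [IsFractionRing B L]
    [Algebra K L] [Algebra A L] [IsScalarTower A K L] [IsScalarTower A B L] [FiniteDimensional K L] :
    Module.Finite (IsLocalRing.ResidueField A) (IsLocalRing.ResidueField B) ∧
      Ideal.ramificationIdx' (IsLocalRing.maximalIdeal A) (IsLocalRing.maximalIdeal B) *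
          Module.finrank (IsLocalRing.ResidueField A) (IsLocalRing.ResidueField B) ≤
        Module.finrank K L := by
  classical
  obtain ⟨ϖ, hϖ⟩ := exists_irreducible A
  obtain ⟨ϖB, hϖB⟩ := exists_irreducible B
  have hmA : IsLocalRing.maximalIdeal A = Ideal.span {ϖ} := (irreducible_iff_uniformizer ϖ).mp hϖ
  have hmB : IsLocalRing.maximalIdeal B = Ideal.span {ϖB} :=
    (irreducible_iff_uniformizer ϖB).mp hϖB
  have hfϖ0 : algebraMap A B ϖ ≠ 0 := by
    intro h0
    exact hϖ.ne_zero (hinj (by rw [h0, map_zero]))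
  obtain ⟨e, v, hev⟩ := eq_unit_mul_pow_irreducible hfϖ0 hϖB
  have he1 : 1 ≤ e := by
    by_contra hlt
    have he0 : e = 0 := by omega
    rw [he0, pow_zero, mul_one] at hev
    have : IsUnit (algebraMap A B ϖ) := by rw [hev]; exact v.isUnit
    exact hϖ.not_isUnit (isUnit_of_map_unit (algebraMap A B) ϖ this)
  have hram : Ideal.ramificationIdx' (IsLocalRing.maximalIdeal A) (IsLocalRing.maximalIdeal B) = e := by
    apply Ideal.ramificationIdx'_spec
    · rw [hmA, hmB, Ideal.map_span, Set.image_singleton, Ideal.span_singleton_pow,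
        Ideal.span_singleton_le_span_singleton, hev]
      exact Dvd.intro_left _ rfl
    · rw [hmA, hmB, Ideal.map_span, Set.image_singleton, Ideal.span_singleton_pow,
        Ideal.span_singleton_le_span_singleton, hev]
      intro hdvd
      have h1 : ϖB ^ (e + 1) ∣ ϖB ^ e := by
        have : (v : B) * ϖB ^ e ∣ ϖB ^ e := ⟨((v⁻¹ : Bˣ) : B), by
          rw [mul_comm (v : B), mul_assoc, Units.mul_inv, mul_one]⟩
        exact hdvd.trans this
      have := (pow_dvd_pow_iff hϖB.ne_zero hϖB.not_isUnit).mp h1
      omega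
  have hbound : ∀ s : Finset (IsLocalRing.ResidueField B),
      (LinearIndependent (IsLocalRing.ResidueField A) fun i : s => (i : IsLocalRing.ResidueField B)) →
        s.card ≤ Module.finrank K L / e := by
    intro s hs
    set r := s.card with hr
    let bbar : Fin r → IsLocalRing.ResidueField B := fun i => ((s.equivFin.symm i : s) : _)
    have hbbar : LinearIndependent (IsLocalRing.ResidueField A) bbar :=
      hs.comp _ s.equivFin.symm.injective
    have hlift : ∀ i, ∃ b : B, IsLocalRing.residue B b = bbar i := fun i =>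
      IsLocalRing.residue_surjective (bbar i)
    choose b hbl using hlift
    have hb : LinearIndependent (IsLocalRing.ResidueField A) (fun i => IsLocalRing.residue B (b i)) := by
      have : (fun i => IsLocalRing.residue B (b i)) = bbar := funext hbl
      rw [this]; exact hbbar
    have hD := lemD A B K L hinj ϖ hϖ ϖB hϖB e v hev r b hb
    have hcard := hD.fintype_card_le_finrank
    rw [Fintype.card_prod, Fintype.card_fin, Fintype.card_fin] at hcard
    exact (Nat.le_div_iff_mul_le (by omega)).mpr hcard
  have hrank : Module.rank (IsLocalRing.ResidueField A) (IsLocalRing.ResidueField B) ≤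
      ((Module.finrank K L / e : ℕ) : Cardinal) := rank_le hbound
  have hfin : Module.Finite (IsLocalRing.ResidueField A) (IsLocalRing.ResidueField B) :=
    Module.rank_lt_aleph0_iff.mp (lt_of_le_of_lt hrank (Cardinal.nat_lt_aleph0 _))
  refine ⟨hfin, ?_⟩
  rw [hram]
  have hfr : Module.finrank (IsLocalRing.ResidueField A) (IsLocalRing.ResidueField B) ≤
      Module.finrank K L / e := by
    rw [← Module.finrank_eq_rank] at hrank
    exact_mod_cast hrank
  calc e * Module.finrank (IsLocalRing.ResidueField A) (IsLocalRing.ResidueField B)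
      ≤ e * (Module.finrank K L / e) := Nat.mul_le_mul_left _ hfr
    _ ≤ Module.finrank K L := Nat.mul_div_le _ _

end Groth.Agent.S7132
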