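import Groth.Statements.S1983
import Groth.Agent.S7132
import Groth.Agent.Lib.Helper10.RamTower
import Groth.Agent.Lib.Helper10.SolCore
-- import your own Groth.Agent.* helpers here

set_option autoImplicit false
set_option linter.style.haveILetI false
universe u
open EtAlg
open Groth.Agent.Lib.Helper10.RamTower Groth.Agent.Lib.Helper10.SolCore Groth.Agent.Lib.Helper10.VNRGen
open IsLocalRing

namespace Groth.Agent.S1983

/-- Suppose A -> B makes the discrete valuation ring B an extension of the discrete valuation ring A,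
with fraction fields K ⊂ L, and that this extension is weakly unramified with separable, i.e.
geometrically reduced and possibly transcendental, residue field extension (formally smooth for the
adic topology). Then every finite extension K₁/K is a solution for A -> B. -/
theorem result (A B K L : Type u) [CommRing A] [IsDomain A] [IsDiscreteValuationRing A]
    [CommRing B] [IsDomain B] [IsDiscreteValuationRing B] [Algebra A B] [IsLocalHom (algebraMap A B)]
    (hinj : Function.Injective (algebraMap A B))
    [Field K] [Field L] [Algebra A K] [IsFractionRing A K] [Algebra B L] [IsFractionRing B L]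
    [Algebra K L] [Algebra A L] [IsScalarTower A K L] [IsScalarTower A B L]
    (hw : EtRam.IsWeaklyUnramified A B) [Algebra.IsGeometricallyReduced (IsLocalRing.ResidueField A) (IsLocalRing.ResidueField B)]
    (K₁ : Type u) [Field K₁] [Algebra K K₁] [FiniteDimensional K K₁] : EtRam.IsSolution B K L K₁ := by
  classical
  intro M _ _ _ _ _ _ hM W hW
  -- the valuation subring of `K₁`
  have hfK : ∀ k : K, algebraMap K₁ M (algebraMap K K₁ k) = algebraMap L M (algebraMap K L k) := by
    intro k
    rw [← IsScalarTower.algebraMap_apply K K₁ M, ← IsScalarTower.algebraMap_apply K L M]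
  have hfA : ∀ a : A, algebraMap K₁ M (((algebraMap K K₁).comp (algebraMap A K)) a) =
      ((algebraMap L M).comp (algebraMap B L)) (algebraMap A B a) := by
    intro a
    simp only [RingHom.comp_apply]
    rw [hfK, ← IsScalarTower.algebraMap_apply A K L, ← IsScalarTower.algebraMap_apply A B L]
  have hV₁ : EtRam.Dominates A ((algebraMap K K₁).comp (algebraMap A K))
      (W.comap (algebraMap K₁ M)) :=
    ⟨fun a => by
      show algebraMap K₁ M _ ∈ W
      rw [hfA]; exact hW.1 _,
    fun a ha => by
      rw [valuation_comap_lt_one_iff, hfA]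
      exact hW.2 _ (map_nonunit (algebraMap A B) a ha)⟩
  letI algAV : Algebra A (W.comap (algebraMap K₁ M)) :=
    (RingHom.codRestrict ((algebraMap K K₁).comp (algebraMap A K)) _ hV₁.1).toAlgebra
  haveI locAV : IsLocalHom (algebraMap A (W.comap (algebraMap K₁ M))) :=
    isLocalHom_of_dominates A _ _ hV₁
  haveI dvrV : IsDiscreteValuationRing (W.comap (algebraMap K₁ M)) :=
    isDiscreteValuationRing_of_dominates A K K₁ _ hV₁
  letI algBW : Algebra B W :=
    (RingHom.codRestrict ((algebraMap L M).comp (algebraMap B L)) W hW.1).toAlgebra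
  haveI locBW : IsLocalHom (algebraMap B W) := isLocalHom_of_dominates B _ W hW
  -- `M` is finite over `L`
  haveI finLM : FiniteDimensional L M := by
    let bs := Module.finBasis K K₁
    have hsub : Set.range (algebraMap K₁ M) ⊆
        Algebra.adjoin L (Set.range (fun i => algebraMap K₁ M (bs i))) := by
      rintro _ ⟨x, rfl⟩
      rw [← bs.sum_repr x, map_sum]
      refine Subalgebra.sum_mem _ (fun i _ => ?_)
      rw [Algebra.smul_def, map_mul, hfK]
      exact Subalgebra.mul_mem _ (Subalgebra.algebraMap_mem _ _)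
        (Algebra.subset_adjoin ⟨i, rfl⟩)
    have htop : Algebra.adjoin L (Set.range (fun i => algebraMap K₁ M (bs i))) = ⊤ := by
      rw [eq_top_iff, ← hM]
      exact Algebra.adjoin_le hsub
    have hfg : (Algebra.adjoin L (Set.range (fun i => algebraMap K₁ M (bs i)))).toSubmodule.FG := by
      apply fg_adjoin_of_finite (Set.finite_range _)
      rintro _ ⟨i, rfl⟩
      have h1 : IsIntegral K (bs i) := Algebra.IsIntegral.isIntegral _
      have h2 : IsIntegral K (algebraMap K₁ M (bs i)) := h1.algebraMap
      exact h2.tower_top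
    rw [htop] at hfg
    exact ⟨by simpa using hfg⟩
  haveI dvrW : IsDiscreteValuationRing W := isDiscreteValuationRing_of_dominates B L M W hW
  -- residue field of `V₁` is algebraic over that of `A`
  letI algAK₁ : Algebra A K₁ := ((algebraMap K K₁).comp (algebraMap A K)).toAlgebra
  haveI : IsScalarTower A K K₁ := IsScalarTower.of_algebraMap_eq (fun _ => rfl)
  haveI : IsScalarTower A (W.comap (algebraMap K₁ M)) K₁ :=
    IsScalarTower.of_algebraMap_eq (fun _ => rfl)
  have hAVinj : Function.Injective (algebraMap A (W.comap (algebraMap K₁ M))) := fun a b hab =>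
    ((algebraMap K K₁).injective.comp (IsFractionRing.injective A K)) (congrArg Subtype.val hab)
  haveI finRes : Module.Finite (ResidueField A) (ResidueField (W.comap (algebraMap K₁ M))) :=
    (Groth.Agent.S7132.result A (W.comap (algebraMap K₁ M)) K K₁ hAVinj).1
  haveI algRes : Algebra.IsAlgebraic (ResidueField A)
    (ResidueField (W.comap (algebraMap K₁ M))) := Algebra.IsAlgebraic.of_finite _ _
  -- the two maps into `W`
  have hcomp : ∀ a, (algebraMap B W) (algebraMap A B a) =
      (EtRam.inclOfComap W (algebraMap K₁ M)) (algebraMap A (W.comap (algebraMap K₁ M)) a) :=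
    fun a => Subtype.ext (hfA a).symm
  obtain ⟨π₁, hπ₁⟩ := IsDiscreteValuationRing.exists_irreducible (W.comap (algebraMap K₁ M))
  have hπm : maximalIdeal (W.comap (algebraMap K₁ M)) = Ideal.span {π₁} := hπ₁.maximalIdeal_eq
  have hvnr := vnr_mod_uniformizer (algebraMap B W) (EtRam.inclOfComap W (algebraMap K₁ M))
    hcomp hw π₁ hπm
  set S := Subring.closure (Set.range (algebraMap B W) ∪
    Set.range (EtRam.inclOfComap W (algebraMap K₁ M))) with hS
  have hβS : ∀ b, algebraMap B W b ∈ S := fun b => Subring.subset_closure (Or.inl ⟨b, rfl⟩)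
  have hνS : ∀ v, EtRam.inclOfComap W (algebraMap K₁ M) v ∈ S :=
    fun v => Subring.subset_closure (Or.inr ⟨v, rfl⟩)
  -- fractions
  have hfracM : ∀ x : M, ∃ c₁ ∈ S, ∃ c₂ ∈ S, c₂ ≠ 0 ∧ x * (c₂ : M) = (c₁ : M) := by
    intro x
    have hx : x ∈ Algebra.adjoin L (Set.range (algebraMap K₁ M)) := hM ▸ Algebra.mem_top
    induction hx using Algebra.adjoin_induction with
    | mem y hy =>
      obtain ⟨k, rfl⟩ := hy
      obtain ⟨⟨v₁, v₂⟩, hv⟩ := IsLocalization.surj (nonZeroDivisors (W.comap (algebraMap K₁ M))) k
      refine ⟨_, hνS v₁, _, hνS v₂, ?_, ?_⟩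
      · intro h0
        have h1 : algebraMap K₁ M ((v₂ : W.comap (algebraMap K₁ M)) : K₁) = 0 :=
          congrArg Subtype.val h0
        have h2 : ((v₂ : W.comap (algebraMap K₁ M)) : K₁) = 0 :=
          (algebraMap K₁ M).injective (by rw [h1, map_zero])
        exact nonZeroDivisors.ne_zero v₂.2 (Subtype.ext h2)
      · show algebraMap K₁ M k * algebraMap K₁ M ((v₂ : W.comap (algebraMap K₁ M)) : K₁) =
          algebraMap K₁ M (v₁ : K₁)
        rw [← map_mul]
        exact congrArg _ hv
    | algebraMap l =>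
      obtain ⟨⟨b₁, b₂⟩, hb⟩ := IsLocalization.surj (nonZeroDivisors B) l
      refine ⟨_, hβS b₁, _, hβS b₂, ?_, ?_⟩
      · intro h0
        have h1 : algebraMap L M (algebraMap B L (b₂ : B)) = 0 := congrArg Subtype.val h0
        have h2 : (b₂ : B) = 0 := by
          apply IsFractionRing.injective B L
          apply (algebraMap L M).injective
          rw [h1, map_zero, map_zero]
        exact nonZeroDivisors.ne_zero b₂.2 h2
      · show algebraMap L M l * algebraMap L M (algebraMap B L (b₂ : B)) =
          algebraMap L M (algebraMap B L b₁)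
        rw [← map_mul]
        exact congrArg _ hb
    | add y z _ _ hy hz =>
      obtain ⟨c₁, hc₁, c₂, hc₂, hc₂0, hc⟩ := hy
      obtain ⟨d₁, hd₁, d₂, hd₂, hd₂0, hd⟩ := hz
      refine ⟨c₁ * d₂ + d₁ * c₂, S.add_mem (S.mul_mem hc₁ hd₂) (S.mul_mem hd₁ hc₂), c₂ * d₂,
        S.mul_mem hc₂ hd₂, mul_ne_zero hc₂0 hd₂0, ?_⟩
      push_cast
      linear_combination (d₂ : M) * hc + (c₂ : M) * hd
    | mul y z _ _ hy hz =>
      obtain ⟨c₁, hc₁, c₂, hc₂, hc₂0, hc⟩ := hy
      obtain ⟨d₁, hd₁, d₂, hd₂, hd₂0, hd⟩ := hz
      refine ⟨c₁ * d₁, S.mul_mem hc₁ hd₁, c₂ * d₂, S.mul_mem hc₂ hd₂, mul_ne_zero hc₂0 hd₂0, ?_⟩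
      push_cast
      linear_combination (z * (d₂ : M)) * hc + (c₁ : M) * hd
  have hfrac : ∀ w : W, ∃ c₁ ∈ S, ∃ c₂ ∈ S, c₂ ≠ 0 ∧ w * c₂ = c₁ := by
    intro w
    obtain ⟨c₁, hc₁, c₂, hc₂, hc₂0, hc⟩ := hfracM (w : M)
    exact ⟨c₁, hc₁, c₂, hc₂, hc₂0, Subtype.ext hc⟩
  have hπS : EtRam.inclOfComap W (algebraMap K₁ M) π₁ ∈ S := hνS π₁
  have hπmW : EtRam.inclOfComap W (algebraMap K₁ M) π₁ ∈ maximalIdeal W :=
    map_nonunit (EtRam.inclOfComap W (algebraMap K₁ M)) π₁ (by
      rw [hπm]; exact Ideal.mem_span_singleton_self _)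
  have hπ0 : EtRam.inclOfComap W (algebraMap K₁ M) π₁ ≠ 0 := by
    intro h0
    have h1 : algebraMap K₁ M (π₁ : K₁) = 0 := congrArg Subtype.val h0
    have h2 : (π₁ : K₁) = 0 := (algebraMap K₁ M).injective (by rw [h1, map_zero])
    exact hπ₁.ne_zero (Subtype.ext h2)
  have hmW := maximalIdeal_eq_span S _ hπS hπmW hπ0 hvnr hfrac
  refine ⟨?_, ?_⟩
  · show (maximalIdeal (W.comap (algebraMap K₁ M))).map (EtRam.inclOfComap W (algebraMap K₁ M)) =
      maximalIdeal W
    rw [hπm, Ideal.map_span, Set.image_singleton, hmW]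
  · letI algA_W : Algebra A W := ((algebraMap B W).comp (algebraMap A B)).toAlgebra
    haveI : IsScalarTower A B W := IsScalarTower.of_algebraMap_eq (fun _ => rfl)
    haveI locAW : IsLocalHom (algebraMap A W) := by
      show IsLocalHom ((algebraMap B W).comp (algebraMap A B))
      infer_instance
    letI algκ : Algebra (ResidueField (W.comap (algebraMap K₁ M))) (ResidueField W) :=
      (ResidueField.map (EtRam.inclOfComap W (algebraMap K₁ M))).toAlgebra
    haveI : IsScalarTower (ResidueField A) (ResidueField (W.comap (algebraMap K₁ M)))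
        (ResidueField W) := by
      refine IsScalarTower.of_algebraMap_eq (fun r => ?_)
      obtain ⟨a, rfl⟩ := residue_surjective r
      show algebraMap (ResidueField A) (ResidueField W) (residue A a) =
        ResidueField.map (EtRam.inclOfComap W (algebraMap K₁ M))
          (algebraMap (ResidueField A) (ResidueField (W.comap (algebraMap K₁ M))) (residue A a))
      rw [ResidueField.algebraMap_residue, ResidueField.algebraMap_residue,
        ResidueField.map_residue, ← hcomp]
      rfl
    apply geomReduced_of_generated (kA := ResidueField A) (kB := ResidueField B)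
    intro z
    obtain ⟨w, rfl⟩ := residue_surjective z
    obtain ⟨c, hcS, hwc⟩ := exists_sub_mem S _ hπS hπmW hπ0 hvnr hfrac w
    have hres : residue W w = residue W c := by
      rw [← sub_eq_zero, ← map_sub, residue_eq_zero_iff]
      exact hwc
    rw [hres]
    have h1 : residue W c ∈ (S.map (residue W)) := ⟨c, hcS, rfl⟩
    rw [hS, RingHom.map_closure] at h1
    refine Subring.closure_mono ?_ h1
    rintro _ ⟨x, hx | hx, rfl⟩
    · obtain ⟨b, rfl⟩ := hx
      exact Or.inl ⟨residue B b, rfl⟩
    · obtain ⟨v, rfl⟩ := hx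
      exact Or.inr ⟨residue _ v, rfl⟩

end Groth.Agent.S1983
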