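import Groth.Statements.S1988
import Groth.Agent.Lib.Helper10.ValCompositum
import Groth.Agent.Lib.Helper10.SolTransfer
-- import your own Groth.Agent.* helpers here

set_option autoImplicit false
set_option linter.style.haveILetI false
universe u
open EtAlg

namespace Groth.Agent.S1988

/-- Let A -> B -> C be extensions of discrete valuation rings (local injective maps) with fraction
fields K ⊂ L ⊂ M₀ and K₁/K a finite extension. (The solution predicates mention only B, C and the
fields: in them the bottom ring is recovered as B ∩ K, which the hypotheses on A force to be A.) If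
K₁ is a weak solution (resp. a solution) for A -> C then it is a weak solution (resp. a solution)
for A -> B. -/
theorem result (A B C K L M₀ K₁ : Type u) [CommRing A] [IsDomain A] [IsDiscreteValuationRing A]
    [CommRing B] [IsDomain B] [IsDiscreteValuationRing B] [Algebra A B] [IsLocalHom (algebraMap A B)]
    (hinjA : Function.Injective (algebraMap A B))
    [CommRing C] [IsDomain C] [IsDiscreteValuationRing C] [Algebra B C] [IsLocalHom (algebraMap B C)]
    (hinj : Function.Injective (algebraMap B C))
    [Field K] [Field L] [Field M₀] [Field K₁] [Algebra K L] [Algebra K M₀] [Algebra L M₀] [IsScalarTower K L M₀]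
    [Algebra K K₁] [FiniteDimensional K K₁] [Algebra A K] [IsFractionRing A K]
    [Algebra B L] [IsFractionRing B L] [Algebra A L] [IsScalarTower A K L] [IsScalarTower A B L]
    [Algebra C M₀] [IsFractionRing C M₀] [Algebra B M₀]
    [IsScalarTower B C M₀] [IsScalarTower B L M₀] :
    (EtRam.IsWeakSolution C K M₀ K₁ → EtRam.IsWeakSolution B K L K₁) ∧
    (EtRam.IsSolution C K M₀ K₁ → EtRam.IsSolution B K L K₁) := by
  classical
  -- common construction
  have key : ∀ (P : ∀ (M : Type u) [Field M], ValuationSubring M → (K₁ →+* M) → Prop),
      (∀ (M M' : Type u) [Field M] [Field M'] (j : M →+* M') (f : K₁ →+* M)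
        (W' : ValuationSubring M'), P M' W' (j.comp f) → P M (W'.comap j) f) →
      EtRam.ForallLocalExt C K M₀ K₁ P → EtRam.ForallLocalExt B K L K₁ P := by
    intro P hP hsol M _ _ _ _ _ _ hM W hW
    obtain ⟨M', instM', j, j₀, W', hcompat, hcomap, hdom, hgen⟩ :=
      Groth.Agent.Lib.Helper10.ValCompositum.exists_compositum (B := B) (L := L) (M := M)
        (C := C) (M₀ := M₀) hinj W hW
    subst hcomap
    letI algM₀ : Algebra M₀ M' := j₀.toAlgebra
    letI algK : Algebra K M' := (j.comp (algebraMap K M)).toAlgebra
    letI algK₁ : Algebra K₁ M' := (j.comp (algebraMap K₁ M)).toAlgebra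
    have hcompat' : ∀ l : L, j (algebraMap L M l) = j₀ (algebraMap L M₀ l) := fun l =>
      congrArg (fun φ : L →+* M' => φ l) hcompat
    haveI : IsScalarTower K M₀ M' := IsScalarTower.of_algebraMap_eq (fun k => by
      show j (algebraMap K M k) = j₀ (algebraMap K M₀ k)
      rw [IsScalarTower.algebraMap_apply K L M, hcompat', ← IsScalarTower.algebraMap_apply K L M₀])
    haveI : IsScalarTower K K₁ M' := IsScalarTower.of_algebraMap_eq (fun k => by
      show j (algebraMap K M k) = j (algebraMap K₁ M (algebraMap K K₁ k))
      rw [← IsScalarTower.algebraMap_apply K K₁ M])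
    have halg : ∀ x ∈ Set.range (algebraMap K₁ M'), IsAlgebraic M₀ x := by
      rintro _ ⟨y, rfl⟩
      have h1 : IsAlgebraic K y := Algebra.IsAlgebraic.isAlgebraic y
      have h2 : IsAlgebraic K (algebraMap K₁ M' y) := h1.algebraMap
      exact h2.tower_top M₀
    have hadj : Algebra.adjoin M₀ (Set.range (algebraMap K₁ M')) = ⊤ := by
      rw [← IntermediateField.adjoin_toSubalgebra_of_isAlgebraic halg]
      have htop : IntermediateField.adjoin M₀ (Set.range (algebraMap K₁ M')) = ⊤ := by
        apply IntermediateField.toSubfield_injective
        rw [IntermediateField.top_toSubfield]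
        apply hgen
        · intro x
          have hx : x ∈ Algebra.adjoin L (Set.range (algebraMap K₁ M)) := hM ▸ Algebra.mem_top
          induction hx using Algebra.adjoin_induction with
          | mem y hy =>
            obtain ⟨z, rfl⟩ := hy
            exact IntermediateField.subset_adjoin M₀ _ ⟨z, rfl⟩
          | algebraMap l =>
            rw [hcompat']
            exact IntermediateField.algebraMap_mem _ (algebraMap L M₀ l)
          | add y z _ _ hy hz =>
            rw [map_add]
            exact add_mem hy hz
          | mul y z _ _ hy hz =>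
            rw [map_mul]
            exact mul_mem hy hz
        · intro y
          exact IntermediateField.algebraMap_mem _ y
      rw [htop, IntermediateField.top_toSubalgebra]
    have h1 := hsol M' hadj W' hdom
    exact hP M M' j (algebraMap K₁ M) W' h1
  refine ⟨key _ ?_, key _ ?_⟩
  · intro M M' _ _ j f W' h
    exact Groth.Agent.Lib.Helper10.SolTransfer.weaklyUnramified_comap_of j f W' h
  · intro M M' _ _ j f W' h
    exact ⟨Groth.Agent.Lib.Helper10.SolTransfer.weaklyUnramified_comap_of j f W' h.1,
      Groth.Agent.Lib.Helper10.SolTransfer.geomReduced_comap_of j f W' h.2⟩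

end Groth.Agent.S1988
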