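import Groth.Statements.S0426
import Groth.Agent.Lib.Helper3.WeaklyEtaleDescent
import Mathlib.RingTheory.Unramified.Field
import Mathlib.FieldTheory.IntermediateField.Adjoin.Algebra
-- import your own Groth.Agent.* helpers here

set_option autoImplicit false
universe u
open FlatMor

namespace Groth.Agent.S0426

/-- A field extension L/K such that L is weakly étale over K (equivalently the multiplication map of L
⊗_K L is flat) is algebraic and separable. -/
theorem result {K L : Type u} [Field K] [Field L] [Algebra K L] [Algebra.WeaklyEtale K L] : Algebra.IsSeparable K L := by
  refine ⟨fun x => ?_⟩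
  -- the subfield generated by `x`
  let L' := IntermediateField.adjoin K {x}
  have hfg : L'.FG := IntermediateField.fg_adjoin_of_finite (Set.finite_singleton x)
  have hess : Algebra.EssFiniteType K L' := IntermediateField.essFiniteType_iff.mpr hfg
  have hwe : Algebra.WeaklyEtale K L' :=
    Groth.Agent.Lib.Helper3.weaklyEtale_of_faithfullyFlat K L' L
  have hfu : Algebra.FormallyUnramified K L' :=
    Groth.Agent.Lib.Helper3.formallyUnramified_of_weaklyEtale K L'
  have hsep : Algebra.IsSeparable K L' := Algebra.FormallyUnramified.isSeparable K L'
  have hx : x ∈ L' := IntermediateField.mem_adjoin_simple_self K x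
  have := (Algebra.IsSeparable.isSeparable K (⟨x, hx⟩ : L')).map L'.val L'.val.injective
  exact this

end Groth.Agent.S0426
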