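import Groth.Statements.S9812
-- import your own Groth.Agent.* helpers here

set_option autoImplicit false
universe u
open CAlg2

namespace Groth.Agent.S9812

/-- At the level of the local ring: an integrally closed local domain is geometrically unibranch.
Consequently a normal scheme is geometrically unibranch. -/
theorem result (A : Type u) [CommRing A] [IsLocalRing A]
    [IsDomain A] [IsIntegrallyClosed A] : CAlg2.IsGeomUnibranch A := by
  classical
  have hnil : nilradical A = ⊥ := nilradical_eq_zero A
  haveI : (nilradical A).IsPrime := by rw [hnil]; exact Ideal.bot_prime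
  have hdom : IsDomain (red A) := inferInstance
  let e : A ≃+* red A := (RingEquiv.quotientBot A).symm.trans (Ideal.quotEquivOfEq hnil.symm)
  haveI : IsIntegrallyClosed (red A) := IsIntegrallyClosed.of_equiv e
  have hbot : integralClosure (red A) (FractionRing (red A)) = ⊥ :=
    IsIntegrallyClosed.integralClosure_eq_bot _ _
  have hsurj : Function.Surjective (algebraMap (red A) (normRed A)) := by
    rintro ⟨y, hy⟩
    have hy' : y ∈ (⊥ : Subalgebra (red A) (FractionRing (red A))) := hbot ▸ hy
    obtain ⟨z, hz⟩ := Algebra.mem_bot.mp hy'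
    exact ⟨z, Subtype.ext hz⟩
  haveI : IsLocalRing (red A) := IsLocalRing.of_surjective' (Ideal.Quotient.mk (nilradical A))
    Ideal.Quotient.mk_surjective
  have hloc : IsLocalRing (normRed A) := IsLocalRing.of_surjective' _ hsurj
  refine ⟨⟨hdom, hloc⟩, ?_⟩
  intro m' _ x
  refine ⟨0, ?_⟩
  obtain ⟨y, rfl⟩ := Ideal.Quotient.mk_surjective x
  obtain ⟨z, rfl⟩ := hsurj y
  obtain ⟨a, rfl⟩ := Ideal.Quotient.mk_surjective z
  exact ⟨a, by simp⟩

end Groth.Agent.S9812
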