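import Groth.Statements.S9358
import Mathlib
import Groth.Agent.Lib.Helper21.FieldDimSq
import Groth.Agent.Lib.Helper21.FibrePoints
import Groth.Agent.Lib.Helper21.FibreBaseChange
-- import your own Groth.Agent.* helpers here

set_option autoImplicit false
universe u
open FibDim

namespace Groth.Agent.S9358

open AlgebraicGeometry CategoryTheory in
/-- In a cartesian square with f : X → S locally of finite type and base change f' : X' → S', g' : X' →
X, one has dim_{x'}(X'_{f' x'}) = dim_{g' x'}(X_{f (g' x')}) for all x' ∈ X'; hence relative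
dimension ≤ d and relative dimension d are preserved by base change. -/
theorem result {X S X' S' : Scheme.{u}} (f : X ⟶ S) [LocallyOfFiniteType f] (g : S' ⟶ S)
    (g' : X' ⟶ X) (f' : X' ⟶ S') (hsq : IsPullback g' f' f g) (d : ℕ) :
    (∀ x' : ↑X', FlatMor.fibreDimAt f' x' = FlatMor.fibreDimAt f (g'.base x')) ∧
      ((∀ x : ↑X, FlatMor.fibreDimAt f x ≤ d) → ∀ x' : ↑X', FlatMor.fibreDimAt f' x' ≤ d) ∧
        (Cyc.HasRelDim f d → Cyc.HasRelDim f' d) := by
  have transport : ∀ (s : S) (z : f.fiber s) (y : X), f.fiberι s z = y →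
      FlatMor.localDim (f.fiber s) z = FlatMor.localDim (f.fiber (f.base y)) (f.asFiber y) := by
    intro s z y hz
    have hy : f.base y = s := by
      rw [← hz]; exact Groth.Agent.Lib.Helper21.map_fiberι f z
    subst hy
    have : z = f.asFiber y :=
      (f.fiberι (f.base y)).isEmbedding.injective (hz.trans (f.fiberι_asFiber y).symm)
    rw [this]
  have key : ∀ x' : ↑X', FlatMor.fibreDimAt f' x' = FlatMor.fibreDimAt f (g'.base x') := by
    intro x'
    unfold FlatMor.fibreDimAt
    have sq := Groth.Agent.Lib.Helper21.isPullback_fiberMapOfIsPullback hsq (f'.base x')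
    have h1 := Groth.Agent.Lib.Helper21.FieldDim.localDim_eq_of_isPullback
      (k := S.residueField (g.base (f'.base x'))) (K := S'.residueField (f'.base x')) sq
      (f'.asFiber x')
    rw [h1]
    refine transport _ _ _ ?_
    rw [Groth.Agent.Lib.Helper21.fiberι_fiberMapOfIsPullback_apply, Scheme.Hom.fiberι_asFiber]
  refine ⟨key, ?_, ?_⟩
  · intro H x'
    rw [key]
    exact H _
  · intro H y' T hT
    have sq := Groth.Agent.Lib.Helper21.isPullback_fiberMapOfIsPullback hsq y'
    obtain ⟨T₀, hT₀, hd⟩ := Groth.Agent.Lib.Helper21.FieldDim.exists_dim_eq_of_mem_irreducibleComponents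
      (k := S.residueField (g.base y')) (K := S'.residueField y') sq T hT
    rw [hd]
    exact H (g.base y') T₀ hT₀

end Groth.Agent.S9358
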