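import Groth.Statements.S9682
import Mathlib.AlgebraicGeometry.Morphisms.QuasiFinite
import Mathlib.AlgebraicGeometry.Artinian
import Mathlib.Topology.Sober
import Groth.Agent.Lib.Helper29.TopDim
-- import your own Groth.Agent.* helpers here

set_option autoImplicit false
universe u
open CategoryTheory CategoryTheory.Limits AlgebraicGeometry
open Mor

namespace Groth.Agent.S9682

section Top

variable {X : Type*} [TopologicalSpace X]

/-- Generic points of irreducible components in a quasi-sober T0 space are the points without
proper generalisations. -/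
theorem closure_singleton_mem_irreducibleComponents_iff [QuasiSober X] [T0Space X] (x : X) :
    closure {x} ∈ irreducibleComponents X ↔ ∀ x' : X, x' ⤳ x → x' = x := by
  constructor
  · intro h x' hx'
    have h1 : closure {x} ⊆ closure {x'} := specializes_iff_closure_subset.mp hx'
    have h2 : closure {x'} ⊆ closure {x} := h.2 isIrreducible_singleton.closure h1
    exact (hx'.antisymm (specializes_iff_closure_subset.mpr h2)).eq
  · intro h
    refine ⟨isIrreducible_singleton.closure, fun Z hZ hxZ => ?_⟩
    obtain ⟨x', hx'⟩ := QuasiSober.sober hZ.closure isClosed_closure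
    have hx : x ∈ closure {x'} := by
      rw [hx'.def]
      exact subset_closure (hxZ (subset_closure rfl))
    have : x' = x := h x' (specializes_iff_mem_closure.mpr hx)
    subst this
    intro z hz
    rw [hx'.def]
    exact subset_closure hz

/-- A quasi-sober space without nontrivial specialisations has dimension at most zero. -/
theorem topologicalKrullDim_le_zero_of_forall_specializes_eq [QuasiSober X]
    (h : ∀ x y : X, x ⤳ y → x = y) : topologicalKrullDim X ≤ 0 := by
  rw [Groth.Agent.Lib.Helper29.topologicalKrullDim_le_iff_forall_chain]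
  intro p
  by_contra hp
  have hlen : 0 < p.length := by
    by_contra h0
    apply hp
    have : p.length = 0 := by omega
    rw [this]
    rfl
  have hlt : p ⟨0, by omega⟩ < p ⟨1, by omega⟩ := p.strictMono (by simp [Fin.lt_def])
  obtain ⟨a, ha⟩ := QuasiSober.sober (p ⟨0, by omega⟩).isIrreducible (p ⟨0, by omega⟩).isClosed
  obtain ⟨b, hb⟩ := QuasiSober.sober (p ⟨1, by omega⟩).isIrreducible (p ⟨1, by omega⟩).isClosed
  have hab : b ⤳ a := by
    rw [specializes_iff_mem_closure, hb.def]
    have ha' : a ∈ (p ⟨0, by omega⟩ : Set X) := by rw [← ha.def]; exact subset_closure rfl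
    exact hlt.le ha'
  have := h b a hab
  subst this
  have : (p ⟨0, by omega⟩ : Set X) = (p ⟨1, by omega⟩ : Set X) := by rw [← ha.def, ← hb.def]
  exact hlt.ne (TopologicalSpace.IrreducibleCloseds.ext this)

end Top

section Sch

variable {X Y : Scheme.{u}} (f : X ⟶ Y) [LocallyOfFiniteType f]

/-- Quasi-finiteness at `x` is openness of `x` in the set-theoretic fibre. -/
theorem quasiFiniteAt_iff_isOpen_singleton (x : X) :
    f.QuasiFiniteAt x ↔ IsOpen ({⟨x, rfl⟩} : Set ↥(f ⁻¹' {f x})) := by
  rw [Scheme.Hom.quasiFiniteAt_iff_isOpen_singleton_asFiber,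
    ← (f.fiberHomeo (f x)).isOpen_image]
  simp only [Set.image_singleton, Scheme.Hom.asFiber, Homeomorph.apply_symm_apply]

theorem isClosed_singleton_of_quasiFiniteAt (x : X) (hx : f.QuasiFiniteAt x) :
    IsClosed ({⟨x, rfl⟩} : Set ↥(f ⁻¹' {f x})) := by
  have h := hx.isClopen_singleton_asFiber.1
  rw [← (f.fiberHomeo (f x)).isClosed_image] at h
  simpa only [Set.image_singleton, Scheme.Hom.asFiber, Homeomorph.apply_symm_apply] using h

/-- A generalisation `x'` of `x` in the same fibre at which `f` is quasi-finite equals `x`. -/
theorem eq_of_specializes_of_quasiFiniteAt (x x' : X) (h : x' ⤳ x) (hf : f x' = f x)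
    (hx' : f.QuasiFiniteAt x') : x' = x := by
  have hcl := isClosed_singleton_of_quasiFiniteAt f x' hx'
  have hs : (⟨x', rfl⟩ : ↥(f ⁻¹' {f x'})) ⤳ ⟨x, hf.symm⟩ := by
    exact (Topology.IsInducing.subtypeVal.specializes_iff).mp h
  have := hs.mem_closed hcl rfl
  exact (congrArg Subtype.val (Set.mem_singleton_iff.mp this)).symm

/-- If no point of the fibre over `y` has a proper generalisation in the fibre, then `f` is
quasi-finite at all points of this fibre. -/
theorem quasiFiniteAt_of_forall_specializes_eq (y : Y)
    (h : ∀ a b : X, f a = y → f b = y → a ⤳ b → a = b) (x : X) (hx : f x = y) :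
    f.QuasiFiniteAt x := by
  subst hx
  have hZ : ∀ a b : ↥(f.fiber (f x)), a ⤳ b → a = b := by
    intro a b hab
    have h1 : (f.fiberHomeo (f x) a).1 ⤳ (f.fiberHomeo (f x) b).1 :=
      (hab.map (f.fiberHomeo (f x)).continuous).map continuous_subtype_val
    have h2 := h _ _ (f.fiberHomeo (f x) a).2 (f.fiberHomeo (f x) b).2 h1
    exact (f.fiberHomeo (f x)).injective (Subtype.ext h2)
  have hdim := topologicalKrullDim_le_zero_of_forall_specializes_eq hZ
  have hft : LocallyOfFiniteType (f.fiberToSpecResidueField (f x)) := by
    dsimp only [Scheme.Hom.fiberToSpecResidueField]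
    exact MorphismProperty.pullback_snd _ _ ‹LocallyOfFiniteType f›
  have : IsLocallyNoetherian (f.fiber (f x)) :=
    LocallyOfFiniteType.isLocallyNoetherian (f.fiberToSpecResidueField (f x))
  have : IsLocallyArtinian (f.fiber (f x)) := IsLocallyArtinian.of_topologicalKrullDim_le_zero hdim
  rw [Scheme.Hom.quasiFiniteAt_iff_isOpen_singleton_asFiber]
  exact isOpen_discrete _

end Sch

/-- Take f : X ⟶ Y locally of finite type and η the generic point of some irreducible component of Y.
Three conditions turn out to coincide: (1) each point of X mapping to η is the generic point of some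
irreducible component of X; (2) f is quasi-finite at every point over η; (3) f is quasi-finite at
each point over η that is generic in some irreducible component of X. Stated as (1) iff (2) together
with (1) iff (3). -/
theorem result {X Y : Scheme.{u}} (f : X ⟶ Y)
    [LocallyOfFiniteType f] (η : Y) (hη : closure {η} ∈ irreducibleComponents ↥Y) :
    ((∀ x : X, f.base x = η → closure {x} ∈ irreducibleComponents ↥X) ↔
      (∀ x : X, f.base x = η → f.QuasiFiniteAt x)) ∧
    ((∀ x : X, f.base x = η → closure {x} ∈ irreducibleComponents ↥X) ↔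
      (∀ x : X, f.base x = η → closure {x} ∈ irreducibleComponents ↥X → f.QuasiFiniteAt x)) := by
  -- generalisations of points over `η` lie over `η`
  have hA : ∀ x x' : X, f.base x = η → x' ⤳ x → f.base x' = η := by
    intro x x' hx hx'
    have h1 : f.base x' ⤳ f.base x := hx'.map f.continuous
    rw [hx] at h1
    exact (closure_singleton_mem_irreducibleComponents_iff η).mp hη _ h1
  have h12 : (∀ x : X, f.base x = η → closure {x} ∈ irreducibleComponents ↥X) →
      (∀ x : X, f.base x = η → f.QuasiFiniteAt x) := by
    intro h1 x hx
    refine quasiFiniteAt_of_forall_specializes_eq f η (fun a b _ hb hab => ?_) x hx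
    exact (closure_singleton_mem_irreducibleComponents_iff b).mp (h1 b hb) a hab
  have h31 : (∀ x : X, f.base x = η → closure {x} ∈ irreducibleComponents ↥X → f.QuasiFiniteAt x) →
      (∀ x : X, f.base x = η → closure {x} ∈ irreducibleComponents ↥X) := by
    intro h3 x hx
    -- the generic point of the irreducible component of `x`
    obtain ⟨x₀, hx₀⟩ := QuasiSober.sober (isIrreducible_irreducibleComponent (x := x))
      isClosed_irreducibleComponent
    have hs : x₀ ⤳ x := by
      rw [specializes_iff_mem_closure, hx₀.def]
      exact mem_irreducibleComponent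
    have hmem : closure {x₀} ∈ irreducibleComponents ↥X := by
      rw [hx₀.def]
      exact irreducibleComponent_mem_irreducibleComponents x
    have hfx₀ : f.base x₀ = η := hA x x₀ hx hs
    have hq := h3 x₀ hfx₀ hmem
    have : x₀ = x := eq_of_specializes_of_quasiFiniteAt f x x₀ hs (hfx₀.trans hx.symm) hq
    rw [← this]
    exact hmem
  refine ⟨⟨h12, fun h2 => h31 fun x hx _ => h2 x hx⟩, ⟨fun h1 x hx _ => h12 h1 x hx, h31⟩⟩

end Groth.Agent.S9682
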