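import Groth.Statements.S1386
import Mathlib
import Groth.Agent.Lib.Helper31.FibCritG

set_option autoImplicit false
universe u
open FlatMor

namespace Groth.Agent.S1386
open AlgebraicGeometry CategoryTheory Limits
open Groth.Agent.Lib.Helper31.FibCrit Groth.Agent.Lib.Helper35
open AlgebraicGeometry CategoryTheory Limits
open Groth.Agent.Lib.Helper31.FibCrit Groth.Agent.Lib.Helper35

theorem flat_atPrime_congr {A B : Type u} [CommRing A] [CommRing B] [Algebra A B] {q q' : Ideal B}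
    [q.IsPrime] [q'.IsPrime] (h : q = q') :
    Module.Flat A (Localization.AtPrime q) ↔ Module.Flat A (Localization.AtPrime q') := by
  subst h; rfl

theorem primeIdealOf_fromSpec {X : Scheme.{u}} {V : X.Opens} (hV : IsAffineOpen V)
    (q : PrimeSpectrum Γ(X, V)) (hy : hV.fromSpec q ∈ V) :
    hV.primeIdealOf ⟨hV.fromSpec q, hy⟩ = q :=
  hV.fromSpec.isOpenEmbedding.injective (hV.fromSpec_primeIdealOf ⟨_, hy⟩)

theorem fromSpec_mem {X : Scheme.{u}} {V : X.Opens} (hV : IsAffineOpen V)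
    (q : PrimeSpectrum Γ(X, V)) : hV.fromSpec q ∈ V := by
  have : hV.fromSpec q ∈ Set.range hV.fromSpec := ⟨q, rfl⟩
  rwa [hV.range_fromSpec] at this

/-- a chart around a point where `h` is flat on which the coordinate ring is flat. -/
theorem exists_flat_chart {X S : Scheme.{u}} (h : X ⟶ S) [LocallyOfFinitePresentation h] (x : X)
    (hflat : (h.stalkMap x).hom.Flat) {W : S.Opens} (hW : IsAffineOpen W) (O : X.Opens)
    (hxO : x ∈ O) (hOW : O ≤ h ⁻¹ᵁ W) :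
    ∃ (V : X.Opens) (_ : IsAffineOpen V) (hVO : V ≤ O), x ∈ V ∧
      (letI := (h.appLE W V (hVO.trans hOW)).hom.toAlgebra; Module.Flat Γ(S, W) Γ(X, V)) := by
  classical
  obtain ⟨_, ⟨V₀, hV₀ : IsAffineOpen V₀, rfl⟩, hxV₀, hV₀O⟩ :=
    (X.isBasis_affineOpens).exists_subset_of_mem_open hxO O.2
  have e₀ : V₀ ≤ h ⁻¹ᵁ W := fun z hz => hOW (hV₀O hz)
  letI algC₀ : Algebra Γ(S, W) Γ(X, V₀) := (h.appLE W V₀ e₀).hom.toAlgebra
  haveI : Algebra.FinitePresentation Γ(S, W) Γ(X, V₀) := h.finitePresentation_appLE hW hV₀ e₀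
  have hopen := Groth.Agent.S0387.result (R := Γ(S, W)) (S := Γ(X, V₀)) (M := Γ(X, V₀))
  set F := {q : PrimeSpectrum Γ(X, V₀) |
      Module.Flat Γ(S, W) (LocalizedModule q.asIdeal.primeCompl Γ(X, V₀))} with hF
  have hO' : IsOpen (hV₀.fromSpec '' F) := hV₀.fromSpec.isOpenEmbedding.isOpenMap _ hopen
  have hxO' : x ∈ hV₀.fromSpec '' F := by
    refine ⟨hV₀.primeIdealOf ⟨x, hxV₀⟩, ?_, hV₀.fromSpec_primeIdealOf ⟨x, hxV₀⟩⟩
    exact (Groth.Agent.S17593.flat_atPrime_iff _).mpr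
      ((flat_stalkMap_iff W hW V₀ hV₀ e₀ hxV₀).mp hflat)
  have hflat' : ∀ z ∈ hV₀.fromSpec '' F, (h.stalkMap z).hom.Flat := by
    rintro _ ⟨q, hq, rfl⟩
    have hy := fromSpec_mem hV₀ q
    refine (flat_stalkMap_iff W hW V₀ hV₀ e₀ hy).mpr ?_
    rw [primeIdealOf_fromSpec hV₀ q hy]
    haveI : q.asIdeal.IsPrime := q.isPrime
    exact (Groth.Agent.S17593.flat_atPrime_iff q.asIdeal).mp hq
  obtain ⟨_, ⟨V, hV : IsAffineOpen V, rfl⟩, hxV, hVO'⟩ :=
    (X.isBasis_affineOpens).exists_subset_of_mem_open hxO' hO'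
  have hVV₀ : V ≤ V₀ := by
    intro z hz
    obtain ⟨q, -, rfl⟩ := hVO' hz
    exact fromSpec_mem hV₀ q
  refine ⟨V, hV, hVV₀.trans hV₀O, hxV, ?_⟩
  letI algC : Algebra Γ(S, W) Γ(X, V) := (h.appLE W V ((hVV₀.trans hV₀O).trans hOW)).hom.toAlgebra
  refine Module.flat_of_isLocalized_maximal (R := Γ(S, W)) Γ(X, V) Γ(X, V)
    (fun P _ => Localization.AtPrime P)
    (fun P _ => Algebra.linearMap Γ(X, V) (Localization.AtPrime P)) ?_
  intro P hP
  have hy := fromSpec_mem hV ⟨P, hP.isPrime⟩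
  have h1 := (flat_stalkMap_iff W hW V hV ((hVV₀.trans hV₀O).trans hOW) hy).mp
    (hflat' _ (hVO' hy))
  rw [primeIdealOf_fromSpec hV ⟨P, hP.isPrime⟩ hy] at h1
  exact h1

theorem local_package {X Y S : Scheme.{u}} (f : X ⟶ Y) (g : Y ⟶ S)
    [LocallyOfFinitePresentation (f ≫ g)] [LocallyOfFiniteType g] (x : X)
    (hflat : ((f ≫ g).stalkMap x).hom.Flat) :
    (((MoreMor.fiberMap f g (g (f x))).stalkMap ((f ≫ g).asFiber x)).hom.Flat →
        (g.stalkMap (f x)).hom.Flat ∧ (f.stalkMap x).hom.Flat) ∧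
    ((f.stalkMap x).hom.Flat →
        ((MoreMor.fiberMap f g (g (f x))).stalkMap ((f ≫ g).asFiber x)).hom.Flat ∧
        ∃ O : Set X, IsOpen O ∧ x ∈ O ∧
          ∀ x' ∈ O, (g.stalkMap (f x')).hom.Flat ∧ (f.stalkMap x').hom.Flat) := by
  classical
  obtain ⟨_, ⟨W, hW : IsAffineOpen W, rfl⟩, hsW, -⟩ :=
    (S.isBasis_affineOpens).exists_subset_of_mem_open (Set.mem_univ (g (f x))) isOpen_univ
  obtain ⟨_, ⟨U, hU : IsAffineOpen U, rfl⟩, hyU, hUW'⟩ :=
    (Y.isBasis_affineOpens).exists_subset_of_mem_open (show f x ∈ g ⁻¹ᵁ W from hsW) (g ⁻¹ᵁ W).2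
  have hUW : U ≤ g ⁻¹ᵁ W := hUW'
  have hOW : f ⁻¹ᵁ U ≤ (f ≫ g) ⁻¹ᵁ W := fun z hz => hUW hz
  obtain ⟨V, hV, hVU, hxV, hAC⟩ := exists_flat_chart (f ≫ g) x hflat hW (f ⁻¹ᵁ U) hyU hOW
  have hVW : V ≤ (f ≫ g) ⁻¹ᵁ W := hVU.trans hOW
  letI algAB : Algebra Γ(S, W) Γ(Y, U) := (g.appLE W U hUW).hom.toAlgebra
  letI algBC : Algebra Γ(Y, U) Γ(X, V) := (f.appLE U V hVU).hom.toAlgebra
  letI algAC : Algebra Γ(S, W) Γ(X, V) := ((f ≫ g).appLE W V hVW).hom.toAlgebra
  haveI tower : IsScalarTower Γ(S, W) Γ(Y, U) Γ(X, V) := IsScalarTower.of_algebraMap_eq' (by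
    simp only [RingHom.algebraMap_toAlgebra]
    rw [← CommRingCat.hom_comp, Scheme.Hom.appLE_comp_appLE])
  haveI : Algebra.FiniteType Γ(S, W) Γ(Y, U) := g.finiteType_appLE hW hU hUW
  haveI : Algebra.FinitePresentation Γ(S, W) Γ(X, V) :=
    (f ≫ g).finitePresentation_appLE hW hV hVW
  haveI : Module.Flat Γ(S, W) Γ(X, V) := hAC
  have dict : ∀ (x' : X) (hx' : x' ∈ V),
      ((g.stalkMap (f x')).hom.Flat ↔ Module.Flat Γ(S, W)
        (Localization.AtPrime ((hV.primeIdealOf ⟨x', hx'⟩).asIdeal.under Γ(Y, U)))) ∧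
      ((f.stalkMap x').hom.Flat ↔ Module.Flat Γ(Y, U)
        (Localization.AtPrime (hV.primeIdealOf ⟨x', hx'⟩).asIdeal)) := by
    intro x' hx'
    refine ⟨?_, flat_stalkMap_iff U hU V hV hVU hx'⟩
    rw [flat_stalkMap_iff W hW U hU hUW (hVU hx')]
    apply flat_atPrime_congr
    have h1 := congr($(IsAffineOpen.comap_primeIdealOf_appLE U hU V hV hVU hx').1)
    exact h1.symm
  let r : Ideal Γ(X, V) := (hV.primeIdealOf ⟨x, hxV⟩).asIdeal
  have hxι : ((f ≫ g).fiberι (g (f x))) ((f ≫ g).asFiber x) = x := (f ≫ g).fiberι_asFiber x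
  have hxV' : ((f ≫ g).fiberι (g (f x))) ((f ≫ g).asFiber x) ∈ V := by rw [hxι]; exact hxV
  have bridge := fiberMap_stalkMap_flat_iff f g (g (f x)) ((f ≫ g).asFiber x) hW hU hV hUW hVU hxV'
    rfl rfl
  have hr : (hV.primeIdealOf ⟨_, hxV'⟩).asIdeal = r := by
    have : (⟨_, hxV'⟩ : V) = ⟨x, hxV⟩ := Subtype.ext hxι
    rw [this]
  rw [fibFlatAt_congr hr] at bridge
  obtain ⟨dg, df⟩ := dict x hxV
  refine ⟨fun hfib => ?_, fun hf => ?_⟩
  · have := core_ft r (bridge.mp hfib)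
    exact ⟨dg.mpr this.1, df.mpr this.2⟩
  · have hBC := df.mp hf
    refine ⟨bridge.mpr (fibFlatAt_of_flat _ _ _ r hBC), ?_⟩
    obtain ⟨U', hU'open, hrU', hU'⟩ :=
      exists_isOpen_flat (A := Γ(S, W)) (B := Γ(Y, U)) r hBC
    refine ⟨hV.fromSpec '' U', hV.fromSpec.isOpenEmbedding.isOpenMap _ hU'open,
      ⟨hV.primeIdealOf ⟨x, hxV⟩, hrU', hV.fromSpec_primeIdealOf ⟨x, hxV⟩⟩, ?_⟩
    rintro _ ⟨q, hq, rfl⟩
    have hy := fromSpec_mem hV q
    obtain ⟨dg', df'⟩ := dict _ hy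
    have := hU' q hq
    rw [primeIdealOf_fromSpec hV q hy] at dg' df'
    exact ⟨dg'.mpr this.1, df'.mpr this.2⟩

theorem flat_comp {X Y S : Scheme.{u}} (f : X ⟶ Y) (g : Y ⟶ S) (x : X)
    (hg : (g.stalkMap (f x)).hom.Flat) (hf : (f.stalkMap x).hom.Flat) :
    ((f ≫ g).stalkMap x).hom.Flat := by
  have h : ((f ≫ g).stalkMap x).hom = (f.stalkMap x).hom.comp (g.stalkMap (f x)).hom :=
    congr(($(Scheme.Hom.stalkMap_comp f g x)).hom)
  rw [h]
  exact RingHom.Flat.comp hg hf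


open AlgebraicGeometry CategoryTheory Limits in
/-- Fibrewise flatness criterion (critère de platitude par fibres), for the structure sheaf: let f : X →
Y and g : Y → S be morphisms of schemes with X locally of finite presentation over S (via g ∘ f) and
Y locally of finite type over S. For a point x of X with images y = f(x) and s = g(y) the following
are equivalent: (1) X → S is flat at x and the induced morphism of fibres X_s → Y_s is flat at x;
(2) Y → S is flat at y and f is flat at x. Moreover the set of points x at which (2) holds is open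
in X. The published statement treats a finitely presented quasi-coherent O_X-module; here the module
is O_X. -/
theorem result {X Y S : Scheme.{u}} (f : X ⟶ Y) (g : Y ⟶ S) [LocallyOfFinitePresentation (f ≫ g)] [LocallyOfFiniteType g] :
    (∀ x : X, ((f ≫ g).stalkMap x).hom.Flat ∧ ((MoreMor.fiberMap f g (g (f x))).stalkMap ((f ≫ g).asFiber x)).hom.Flat ↔
        (g.stalkMap (f x)).hom.Flat ∧ (f.stalkMap x).hom.Flat) ∧
      IsOpen {x : ↑X | (g.stalkMap (f x)).hom.Flat ∧ (f.stalkMap x).hom.Flat} := by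
  refine ⟨fun x => ⟨fun h => (local_package f g x h.1).1 h.2, fun h => ?_⟩, ?_⟩
  · have hflat := flat_comp f g x h.1 h.2
    exact ⟨hflat, ((local_package f g x hflat).2 h.2).1⟩
  · rw [isOpen_iff_forall_mem_open]
    intro x hx
    have hflat := flat_comp f g x hx.1 hx.2
    obtain ⟨O, hO, hxO, hOsub⟩ := ((local_package f g x hflat).2 hx.2).2
    exact ⟨O, fun x' hx' => hOsub x' hx', hO, hxO⟩

end Groth.Agent.S1386
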