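import Groth.Statements.S1381
import Mathlib
import Groth.Agent.S1386

set_option autoImplicit false
universe u
open FlatMor

namespace Groth.Agent.S1381
open AlgebraicGeometry CategoryTheory Limits
open AlgebraicGeometry CategoryTheory Limits

theorem isPullback_fiberMap {X Y S : Scheme.{u}} (f : X ⟶ Y) (g : Y ⟶ S) (s : S) :
    IsPullback ((f ≫ g).fiberι s) (MoreMor.fiberMap f g s) f (g.fiberι s) := by
  have h1 : MoreMor.fiberMap f g s ≫ g.fiberι s = (f ≫ g).fiberι s ≫ f := pullback.lift_fst _ _ _
  have h2 : MoreMor.fiberMap f g s ≫ g.fiberToSpecResidueField s =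
      (f ≫ g).fiberToSpecResidueField s := pullback.lift_snd _ _ _
  have hbig : IsPullback (MoreMor.fiberMap f g s ≫ g.fiberToSpecResidueField s)
      ((f ≫ g).fiberι s) (S.fromSpecResidueField s) (f ≫ g) := by
    rw [h2]
    exact (IsPullback.of_hasPullback (f ≫ g) (S.fromSpecResidueField s)).flip
  have hright : IsPullback (g.fiberToSpecResidueField s) (g.fiberι s)
      (S.fromSpecResidueField s) g :=
    (IsPullback.of_hasPullback g (S.fromSpecResidueField s)).flip
  exact (IsPullback.of_right hbig h1 hright).flip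


open AlgebraicGeometry CategoryTheory Limits in
/-- Let S ⟶ S' be an arbitrary thickening, let X' ⟶ Y' be a morphism of schemes over S' with X' flat and
locally of finite presentation over S' and Y' locally of finite type over S', and let X ⟶ Y be its
base change to S. Then X ⟶ Y is flat if and only if X' ⟶ Y' is. -/
theorem result {X X' Y Y' S S' : Scheme.{u}} (iX : X ⟶ X') (iY : Y ⟶ Y') (iS : S ⟶ S')
    (f : X ⟶ Y) (f' : X' ⟶ Y') (g : Y ⟶ S) (g' : Y' ⟶ S')
    (hS : MoreMor.IsThickening iS) (hcX : IsPullback iX (f ≫ g) (f' ≫ g') iS) (hcY : IsPullback iY g g' iS)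
    (w : iX ≫ f' = f ≫ iY) [Flat (f' ≫ g')] [LocallyOfFinitePresentation (f' ≫ g')] [LocallyOfFiniteType g'] :
    Flat f ↔ Flat f' := by
  obtain ⟨hci, hsurj⟩ := hS
  haveI := hci
  haveI := hsurj
  have hpb : IsPullback iX f f' iY := IsPullback.of_bot hcX w hcY
  constructor
  · intro hf
    have key : ∀ s' : S', Flat (MoreMor.fiberMap f' g' s') := by
      intro s'
      haveI : IsIso (pullback.snd iS (S'.fromSpecResidueField s')) :=
        isIso_of_isClosedImmersion_of_surjective _
      let t : Spec (S'.residueField s') ⟶ S :=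
        inv (pullback.snd iS (S'.fromSpecResidueField s')) ≫
          pullback.fst iS (S'.fromSpecResidueField s')
      have ht : t ≫ iS = S'.fromSpecResidueField s' := by
        simp only [t, Category.assoc, pullback.condition]
        simp
      let j : g'.fiber s' ⟶ Y := hcY.lift (g'.fiberι s') (g'.fiberToSpecResidueField s' ≫ t)
        (by rw [Category.assoc, ht]; exact g'.fiber_fac s')
      have hj : j ≫ iY = g'.fiberι s' := hcY.lift_fst _ _ _
      have hpb' := isPullback_fiberMap f' g' s'
      let k : (f' ≫ g').fiber s' ⟶ X := hpb.lift ((f' ≫ g').fiberι s')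
        (MoreMor.fiberMap f' g' s' ≫ j) (by rw [Category.assoc, hj]; exact hpb'.w)
      have hk : IsPullback k (MoreMor.fiberMap f' g' s') f j :=
        IsPullback.of_right (by rw [hpb.lift_fst, hj]; exact hpb') (hpb.lift_snd _ _ _) hpb
      exact MorphismProperty.of_isPullback (P := @Flat) hk hf
    refine Flat.of_stalkMap f' (fun x' => ?_)
    haveI := key (g' (f' x'))
    exact (((Groth.Agent.S1386.result f' g').1 x').mp
      ⟨Flat.stalkMap (f' ≫ g') x', Flat.stalkMap (MoreMor.fiberMap f' g' (g' (f' x'))) _⟩).2
  · intro hf'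
    exact MorphismProperty.of_isPullback (P := @Flat) hpb hf'

end Groth.Agent.S1381
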