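import Groth.Statements.S2068
import Groth.Agent.Lib.Helper12.DRingFinite
-- import your own Groth.Agent.* helpers here

set_option autoImplicit false
universe u
open CategoryTheory
attribute [local instance] HasDerivedCategory.standard
open CAlg

namespace Groth.Agent.S2068

open Groth.Agent.Lib.Helper12 CategoryTheory.Limits CategoryTheory.Pretriangulated DRing DerivedCategory

lemma termwise_fp_of_ff {A : Type u} [CommRing A] (E : Cx A) (h : TermwiseFiniteFree E) :
    Termwise (finiteProjective A) E := fun i =>
  ⟨(h i).1, finiteFree_projective _ (h i)⟩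

lemma part_a {A : Type u} [CommRing A] (K : Dual.D A) (m : ℤ)
    (hK : DRing.IsPseudoCoherent A m K)
    (hz : ∀ i : ℤ, m < i → IsZero ((HF A i).obj K)) :
    Module.Finite A ((HF A m).obj K) := by
  obtain ⟨E, b, α, hE, hff, hα'⟩ := exists_truncated_of_isPseudoCoherent hK
  have hα : IsConn m α := hα'
  have hEz : ∀ i : ℤ, m < i → IsZero ((HF A i).obj (toD E)) := by
    intro i hi
    have := hα.1 i hi
    exact (hz i hi).of_iso (asIso ((HF A i).map α))
  obtain ⟨hfin, -⟩ := finite_projective_HF_bottom (b - m + 1).toNat m b E (by omega) hE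
    (termwise_fp_of_ff E hff) hEz
  have hepi := hα.2
  rw [ModuleCat.epi_iff_surjective] at hepi
  have : Module.Finite A ((HF A m).obj (toD E)) := hfin
  exact Module.Finite.of_surjective ((HF A m).map α).hom hepi


lemma part_b {A : Type u} [CommRing A] (K : Dual.D A) (m : ℤ)
    (hK : DRing.IsPseudoCoherent A m K)
    (hz : ∀ i : ℤ, m + 1 < i → IsZero ((HF A i).obj K)) :
    Module.FinitePresentation A ((HF A (m + 1)).obj K) := by
  obtain ⟨E, b, α, hE, hff, hα'⟩ := exists_truncated_of_isPseudoCoherent hK
  have hα : IsConn m α := hα'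
  have hterm := termwise_fp_of_ff E hff
  have hEz : ∀ i : ℤ, m + 1 < i → IsZero ((HF A i).obj (toD E)) := by
    intro i hi
    have := hα.1 i (by omega)
    exact (hz i hi).of_iso (asIso ((HF A i).map α))
  have h0 : IsZero (E.X (m - 1)) := hE (m - 1) (Or.inl (by omega))
  have hT := bottomTriangle_distinguished E m h0
  set T := bottomTriangle E m h0 with hTdef
  have hCterm : Termwise (finiteProjective A) (bottomKer E m h0) := by
    intro i
    by_cases hi : i = m
    · subst hi; exact (finiteProjective A).zero (isZero_bottomKer_X_self E i h0)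
    · exact (finiteProjective A).iso (bottomKerXIsoOfNe E m h0 i hi).symm (hterm i)
  have hCex : ∀ i : ℤ, m + 1 < i → IsZero ((HF A i).obj (toD (bottomKer E m h0))) := by
    intro i hi
    have hex1 := HomologySequence.exact₁ T hT (i - 1) i (by omega)
    refine hex1.isZero_of_both_zeros ?_ ?_
    · exact (isZero_HF_toD_singleCx m _ (i - 1) (by omega)).eq_of_src _ _
    · exact (hEz i hi).eq_of_tgt _ _
  obtain ⟨hNfin, hNproj⟩ := finite_projective_HF_bottom (b - m + 1).toNat (m + 1) b
    (bottomKer E m h0) (by omega) (vanishesOutside_bottomKer hE) hCterm hCex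
  have hN1 : Module.Finite A ((HF A (m + 1)).obj T.obj₁) := hNfin
  have hN2 : Module.Projective A ((HF A (m + 1)).obj T.obj₁) := hNproj
  have hNfp : Module.FinitePresentation A ((HF A (m + 1)).obj T.obj₁) :=
    Module.finitePresentation_of_projective A _
  -- the map N → H^{m+1}(E) is surjective
  have hepi : Epi ((HF A (m + 1)).map T.mor₁) := by
    rw [HomologySequence.epi_homologyMap_mor₁_iff _ hT]
    exact (isZero_HF_toD_singleCx m _ (m + 1) (by omega)).eq_of_tgt _ _
  rw [ModuleCat.epi_iff_surjective] at hepi
  have hex1 := HomologySequence.exact₁ T hT m (m + 1) rfl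
  have hrange := hex1.moduleCat_range_eq_ker
  have hMfin : Module.Finite A ((HF A m).obj T.obj₃) :=
    ((finiteProjective A).iso (HFToDSingleIso m (E.X m)).symm (hterm m)).1
  have hker : (LinearMap.ker ((HF A (m + 1)).map T.mor₁).hom).FG := by
    rw [← hrange, LinearMap.range_eq_map]
    exact Submodule.FG.map _ Module.Finite.fg_top
  have hEfp : Module.FinitePresentation A ((HF A (m + 1)).obj T.obj₂) :=
    Module.finitePresentation_of_surjective ((HF A (m + 1)).map T.mor₁).hom hepi hker
  have hiso := hα.1 (m + 1) (by omega)
  have hEfp' : Module.FinitePresentation A ((HF A (m + 1)).obj (toD E)) := hEfp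
  exact Module.FinitePresentation.of_equiv (asIso ((HF A (m + 1)).map α)).toLinearEquiv

/-- If `K` is `m`-pseudo-coherent in `D(A)`, its cohomology in degree `m` is a finitely generated module
when nothing above degree `m` survives, and its cohomology in degree `m+1` is finitely presented
when nothing above degree `m+1` survives. -/
theorem result {A : Type u} [CommRing A] (K : Dual.D A) (m : ℤ)
    (hK : DRing.IsPseudoCoherent A m K) :
    ((∀ i : ℤ, m < i → Limits.IsZero ((DerivedCategory.homologyFunctor (ModuleCat.{u} A) i).obj K)) →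
        Module.Finite A ((DerivedCategory.homologyFunctor (ModuleCat.{u} A) m).obj K)) ∧
      ((∀ i : ℤ, m + 1 < i → Limits.IsZero ((DerivedCategory.homologyFunctor (ModuleCat.{u} A) i).obj K)) →
        Module.FinitePresentation A ((DerivedCategory.homologyFunctor (ModuleCat.{u} A) (m + 1)).obj K)) := by
  exact ⟨part_a K m hK, part_b K m hK⟩

end Groth.Agent.S2068
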