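import Groth.Statements.S0364
import Groth.Agent.Lib.Helper12.ResidueExtMain

set_option autoImplicit false
universe u v
open CategoryTheory
attribute [local instance] HasDerivedCategory.standard
open Dual

namespace Groth.Agent.S0364

/-- For a dualizing complex ω over a Noetherian ring and a maximal ideal m with residue field κ = A/m,
the groups Hom(κ, ω[i]) in D(A) vanish except in one degree n, where the group is isomorphic to κ as
an A-module. -/
theorem result (A : Type u) [CommRing A] [IsNoetherianRing A] (ω : Dual.D A) (hω : Dual.IsDualizing A ω) (m : Ideal A) [m.IsMaximal] : ∃ n : ℤ, (∀ i : ℤ, i ≠ n → Subsingleton (Dual.inD A (A ⧸ m) ⟶ ω⟦i⟧)) ∧ Nonempty ((Dual.inD A (A ⧸ m) ⟶ ω⟦n⟧) ≃ₗ[A] (A ⧸ m)) := by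
  obtain ⟨a, b, E, hE, hinj, ⟨e⟩⟩ := Groth.Agent.Lib.Helper12.ModDual.exists_injective_model ω hω
  have hω' : Dual.IsDualizing A (DRing.toD E) :=
    Groth.Agent.Lib.Helper12.DualizingBC.isDualizing_of_iso e.symm hω
  obtain ⟨d, h1, ⟨h2⟩⟩ := Groth.Agent.Lib.Helper12.ResExt.main_E E a b hE hinj hω' m
  refine ⟨d, fun i hi => ⟨fun f g => ?_⟩, ⟨?_⟩⟩
  · have hf := h1 i hi (f ≫ ((shiftFunctor (Dual.D A) i).mapIso e.symm).hom)
    have hg := h1 i hi (g ≫ ((shiftFunctor (Dual.D A) i).mapIso e.symm).hom)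
    rw [← cancel_mono ((shiftFunctor (Dual.D A) i).mapIso e.symm).hom, hf, hg]
  · exact (Linear.homCongr A (Iso.refl _) ((shiftFunctor (Dual.D A) d).mapIso e.symm)).trans h2

end Groth.Agent.S0364
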