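import Groth.Statements.S5170
import Mathlib
-- import your own Groth.Agent.* helpers here

set_option autoImplicit false
universe u
open Matlis

namespace Groth.Agent.S5170


open IsLocalRing in
/-- Socle elements of an injective hull of the residue field lie in the image. -/
theorem mem_range_of_soc {A : Type u} [CommRing A] [IsLocalRing A] {E : Type u} [AddCommGroup E]
    [Module A E] (f : IsLocalRing.ResidueField A →ₗ[A] E) (hf : InjHull.IsEssentialInj f)
    (e : E) (he : ∀ a ∈ maximalIdeal A, a • e = 0) : e ∈ LinearMap.range f := by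
  by_cases h0 : e = 0
  · rw [h0]; exact Submodule.zero_mem _
  have hne : Submodule.span A {e} ≠ ⊥ := by
    intro h
    apply h0
    have : e ∈ Submodule.span A {e} := Submodule.mem_span_singleton_self e
    rw [h] at this
    simpa using this
  have := hf.essential _ hne
  obtain ⟨y, hy, hy0⟩ := (Submodule.ne_bot_iff _).mp this
  obtain ⟨hy1, hy2⟩ := hy
  obtain ⟨a, rfl⟩ := Submodule.mem_span_singleton.mp hy1
  obtain ⟨c, hc⟩ := hy2
  have ha : IsUnit a := by
    by_contra hna
    have : a ∈ maximalIdeal A := (IsLocalRing.mem_maximalIdeal a).mpr hna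
    exact hy0 (he a this)
  obtain ⟨u, rfl⟩ := ha
  refine ⟨(↑u⁻¹ : A) • c, ?_⟩
  rw [map_smul, hc, smul_smul]
  simp

open IsLocalRing in
theorem isSimple_hom_residue {A : Type u} [CommRing A] [IsLocalRing A] {E : Type u} [AddCommGroup E]
    [Module A E] (f : IsLocalRing.ResidueField A →ₗ[A] E) (hf : InjHull.IsEssentialInj f) :
    IsSimpleModule A (IsLocalRing.ResidueField A →ₗ[A] E) := by
  rw [isSimpleModule_iff_toSpanSingleton_surjective]
  have hval : ∀ g : IsLocalRing.ResidueField A →ₗ[A] E, ∀ a ∈ maximalIdeal A, a • g 1 = 0 := by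
    intro g a ha
    rw [← map_smul]
    have : a • (1 : IsLocalRing.ResidueField A) = 0 := by
      rw [Algebra.smul_def, mul_one]
      exact (IsLocalRing.residue_eq_zero_iff a).mpr ha
    rw [this, map_zero]
  have hext : ∀ g h : IsLocalRing.ResidueField A →ₗ[A] E, g 1 = h 1 → g = h := by
    intro g h hgh
    ext x
    obtain ⟨a, rfl⟩ := IsLocalRing.residue_surjective x
    have : IsLocalRing.residue A a = a • (1 : IsLocalRing.ResidueField A) := by
      rw [Algebra.smul_def, mul_one]; rfl
    rw [this, map_smul, map_smul, hgh]
  refine ⟨⟨f, 0, ?_⟩, ?_⟩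
  · intro h
    have h1 : f 1 = 0 := by rw [h]; rfl
    have : (1 : IsLocalRing.ResidueField A) = 0 := hf.injective (by rw [h1, map_zero])
    exact one_ne_zero this
  · intro g hg h
    obtain ⟨c₁, hc₁⟩ := mem_range_of_soc f hf (g 1) (hval g)
    obtain ⟨c₂, hc₂⟩ := mem_range_of_soc f hf (h 1) (hval h)
    have hc₁0 : c₁ ≠ 0 := by
      intro h0
      apply hg
      apply hext
      rw [← hc₁, h0, map_zero]; rfl
    obtain ⟨b, hb⟩ := IsLocalRing.residue_surjective (c₂ / c₁)
    refine ⟨b, ?_⟩
    apply hext
    show (b • g) 1 = h 1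
    rw [LinearMap.smul_apply, ← hc₁, ← hc₂, ← map_smul]
    congr 1
    rw [Algebra.smul_def]
    show IsLocalRing.residue A b * c₁ = c₂
    rw [hb, div_mul_cancel₀ _ hc₁0]

open IsLocalRing in
theorem length_hom_simple {A : Type u} [CommRing A] [IsLocalRing A] {E : Type u} [AddCommGroup E]
    [Module A E] (f : IsLocalRing.ResidueField A →ₗ[A] E) (hf : InjHull.IsEssentialInj f)
    (S : Type u) [AddCommGroup S] [Module A S] [IsSimpleModule A S] :
    Module.length A (S →ₗ[A] E) = 1 := by
  obtain ⟨I, hI, ⟨e⟩⟩ := isSimpleModule_iff_quot_maximal.mp (inferInstance : IsSimpleModule A S)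
  have hIm : I = maximalIdeal A := IsLocalRing.eq_maximalIdeal hI
  subst hIm
  have e' : S ≃ₗ[A] IsLocalRing.ResidueField A := e
  have e2 : (S →ₗ[A] E) ≃ₗ[A] (IsLocalRing.ResidueField A →ₗ[A] E) :=
    LinearEquiv.congrLeft E A e'
  rw [e2.length_eq]
  have := isSimple_hom_residue f hf
  exact Module.length_eq_one A _

/-- Applied to the dualizing functor Hom_A(−, E). Let A be a Noetherian local ring, E an injective hull
of the residue field and M an A-module of finite length. Then length Hom_A(M, E) = length M. -/
theorem result (A : Type u) [CommRing A] [IsLocalRing A] [IsNoetherianRing A] (E : Type u) [AddCommGroup E] [Module A E] (f : IsLocalRing.ResidueField A →ₗ[A] E) (hf : InjHull.IsInjectiveHull f) (M : Type u) [AddCommGroup M] [Module A M] (hM : IsFiniteLength A M) : Module.length A (M →ₗ[A] E) = Module.length A M := by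
  have hEinj : Module.Injective A E := hf.isInjective
  have hess : InjHull.IsEssentialInj f := hf.toIsEssentialInj
  induction hM with
  | of_subsingleton =>
    rename_i M _ _ _
    have : Subsingleton (M →ₗ[A] E) := ⟨fun g h => by ext x; rw [Subsingleton.elim x 0]; simp⟩
    rw [Module.length_eq_zero, Module.length_eq_zero]
  | of_simple_quotient _ ih =>
    rename_i M _ _ N _ hN
    -- exact sequence 0 → Hom(M/N,E) → Hom(M,E) → Hom(N,E) → 0
    have h1 : Module.length A M = Module.length A N + Module.length A (M ⧸ N) :=
      Module.length_eq_add_of_exact N.subtype N.mkQ N.injective_subtype N.mkQ_surjective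
        (LinearMap.exact_subtype_mkQ N)
    have h2 : Module.length A (M →ₗ[A] E) =
        Module.length A ((M ⧸ N) →ₗ[A] E) + Module.length A (N →ₗ[A] E) := by
      refine Module.length_eq_add_of_exact (LinearMap.lcomp A E N.mkQ) (LinearMap.lcomp A E N.subtype)
        ?_ ?_ ?_
      · intro g h hgh
        ext x
        have := LinearMap.congr_fun hgh x
        simpa using this
      · intro g
        obtain ⟨g', hg'⟩ := Module.Injective.extension_property A E N M N.subtype
          N.injective_subtype g
        exact ⟨g', hg'⟩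
      · intro g
        constructor
        · intro hg
          have hker : N ≤ LinearMap.ker g := by
            intro x hx
            have := LinearMap.congr_fun hg ⟨x, hx⟩
            simpa using this
          exact ⟨N.liftQ g hker, by ext x; simp⟩
        · rintro ⟨h, rfl⟩
          ext x
          have : Submodule.Quotient.mk (p := N) (x : M) = 0 :=
            (Submodule.Quotient.mk_eq_zero N).mpr x.2
          simp [this]
    rw [h1, h2, ih, length_hom_simple f hess (M ⧸ N), Module.length_eq_one A (M ⧸ N), add_comm]

end Groth.Agent.S5170
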