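import Groth.Statements.S0343
import Groth.Agent.Lib.Helper29.ReesGor

set_option autoImplicit false
universe u v
open Goren

namespace Groth.Agent.S0343

/-- For a Noetherian local ring A and a non-zero-divisor f in the maximal ideal, A is Gorenstein exactly
when A/(f) is. -/
theorem result (A : Type u) [CommRing A] [IsLocalRing A] [IsNoetherianRing A] (f : A) (hf : f ∈ IsLocalRing.maximalIdeal A) (hreg : IsSMulRegular A f) : LocCoh.IsGorensteinLocalRing A ↔ LocCoh.IsGorensteinLocalRing (A ⧸ Ideal.span {f}) := by
  have hne : Ideal.span {f} ≠ (⊤ : Ideal A) := by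
    intro h
    have h1 : (1 : A) ∈ Ideal.span {f} := h ▸ Submodule.mem_top
    have h2 : Ideal.span {f} ≤ IsLocalRing.maximalIdeal A :=
      (Ideal.span_singleton_le_iff_mem _).2 hf
    exact (Ideal.ne_top_iff_one _).1 (IsLocalRing.maximalIdeal.isMaximal A).ne_top (h2 h1)
  have : Nontrivial (A ⧸ Ideal.span {f}) := Ideal.Quotient.nontrivial_iff.2 hne
  have : IsLocalRing (A ⧸ Ideal.span {f}) :=
    IsLocalRing.of_surjective' (Ideal.Quotient.mk (Ideal.span {f})) Ideal.Quotient.mk_surjective
  have key := Groth.Agent.Lib.Helper29.ReesGor.hasInjectiveDimensionLT_quotient_iff f hreg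
  constructor
  · rintro ⟨h⟩
    exact { exists_hasInjectiveDimensionLT := key.1 h }
  · rintro ⟨h⟩
    exact { exists_hasInjectiveDimensionLT := key.2 h }

end Groth.Agent.S0343
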