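import Groth.Statements.S0345
import Mathlib
import Groth.Agent.Lib.Helper29.GorCM2
import Groth.Agent.Lib.Helper29.Bass
import Groth.Agent.Lib.Helper33.LocalizationGlDim

set_option autoImplicit false
universe u v
open Goren

namespace Groth.Agent.S0345

open CategoryTheory IsLocalRing in
/-- the localized module of `A` at `S` is `Localization S`. -/
noncomputable def locSelfIso (A : Type u) [CommRing A] (S : Submonoid A) :
    ((ModuleCat.of A A).localizedModule S) ≅ ModuleCat.of (Localization S) (Localization S) :=
  (Groth.Agent.Lib.Helper33.localizedModuleEquiv S (ModuleCat.of A A) (Localization S)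
    (Algebra.linearMap A (Localization S))).toModuleIso

open CategoryTheory Abelian IsLocalRing in
/-- a Gorenstein local ring has injective dimension `dim A`. -/
theorem injDim_of_gorenstein_local (S : Type u) [CommRing S] [IsLocalRing S] [IsNoetherianRing S]
    (n₀ : ℕ) (h : HasInjectiveDimensionLT (ModuleCat.of S S) n₀) :
    ∃ r : ℕ, r < n₀ ∧ ringKrullDim S = (r : WithBot ℕ∞) ∧
      HasInjectiveDimensionLT (ModuleCat.of S S) (r + 1) := by
  obtain ⟨r, hr, hne, hdim, -⟩ := Groth.Agent.Lib.Helper29.GorCM.exists_top_ext n₀ h
  refine ⟨r, ?_, hdim, ?_⟩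
  · by_contra hlt
    push Not at hlt
    exact hne (HasInjectiveDimensionLT.subsingleton (ModuleCat.of S S) n₀ r hlt _)
  · exact Groth.Agent.Lib.Helper29.Bass.hasInjectiveDimensionLT_of_residueField S r
      (fun i hi => hr i (by omega))

open CategoryTheory in
/-- For a Noetherian ring A, the A-module A has finite injective dimension exactly when every
localization of A at a prime is Gorenstein and A has finite Krull dimension. -/
theorem result (A : Type u) [CommRing A] [IsNoetherianRing A] : (∃ n : ℕ, CategoryTheory.HasInjectiveDimensionLT (ModuleCat.of A A) n) ↔ (LocCoh.IsGorensteinRing A ∧ ringKrullDim A < ⊤) := by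
  constructor
  · rintro ⟨n, hn⟩
    have hn1 : HasInjectiveDimensionLE (ModuleCat.of A A) n :=
      hasInjectiveDimensionLT_of_ge _ n (n + 1) (Nat.le_succ n)
    have hloc : ∀ (p : Ideal A) [p.IsPrime],
        HasInjectiveDimensionLT (ModuleCat.of (Localization.AtPrime p) (Localization.AtPrime p))
          (n + 1) := by
      intro p _
      have h2 : HasInjectiveDimensionLE ((ModuleCat.of A A).localizedModule p.primeCompl) n :=
        ModuleCat.localizedModule_hasInjectiveDimensionLE n p.primeCompl (ModuleCat.of A A)
      exact hasInjectiveDimensionLT_of_iso (locSelfIso A p.primeCompl) (n + 1)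
    refine ⟨⟨fun p _ => ⟨⟨n + 1, hloc p⟩⟩⟩, ?_⟩
    have hle : Ring.KrullDimLE n A := by
      refine Ring.krullDimLE_of_isLocalization_maximal (fun P _ => Localization.AtPrime P) ?_
      intro P _
      obtain ⟨r, hr, hdim, -⟩ := injDim_of_gorenstein_local (Localization.AtPrime P) (n + 1) (hloc P)
      rw [Ring.krullDimLE_iff, hdim]
      exact_mod_cast (by omega : r ≤ n)
    rw [Ring.krullDimLE_iff] at hle
    exact lt_of_le_of_lt hle (WithBot.coe_lt_coe.mpr (ENat.natCast_lt_top n))
  · rintro ⟨hG, hdim⟩
    rcases subsingleton_or_nontrivial A with hA | hA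
    · exact ⟨0, (ModuleCat.isZero_of_subsingleton (ModuleCat.of A A)).hasInjectiveDimensionLT_zero⟩
    · obtain ⟨d, hd⟩ : ∃ d : ℕ, ringKrullDim A = (d : WithBot ℕ∞) := by
        have h0 : 0 ≤ ringKrullDim A := ringKrullDim_nonneg_of_nontrivial
        cases h : ringKrullDim A with
        | bot => rw [h] at h0; simp at h0
        | coe x =>
          cases x with
          | top => rw [h] at hdim; simp at hdim
          | coe m => exact ⟨m, rfl⟩
      refine ⟨d + 1, ?_⟩
      show HasInjectiveDimensionLE (ModuleCat.of A A) d
      rw [ModuleCat.hasInjectiveDimensionLE_iff_forall_primeSpectrum]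
      intro p
      have hGp := hG.isGorensteinLocalRing_localization p.asIdeal
      obtain ⟨n₀, hn₀⟩ := hGp.exists_hasInjectiveDimensionLT
      obtain ⟨r, -, hrdim, hr⟩ := injDim_of_gorenstein_local (Localization.AtPrime p.asIdeal) n₀ hn₀
      have hrd : r ≤ d := by
        have h1 : ringKrullDim (Localization.AtPrime p.asIdeal) ≤ ringKrullDim A := by
          rw [IsLocalization.AtPrime.ringKrullDim_eq_height p.asIdeal]
          exact Ideal.height_le_ringKrullDim_of_isPrime
        rw [hrdim, hd] at h1
        exact_mod_cast h1
      have h3 : HasInjectiveDimensionLT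
          (ModuleCat.of (Localization.AtPrime p.asIdeal) (Localization.AtPrime p.asIdeal)) (d + 1) :=
        hasInjectiveDimensionLT_of_ge _ (r + 1) (d + 1) (by omega)
      exact hasInjectiveDimensionLT_of_iso (locSelfIso A p.asIdeal.primeCompl).symm (d + 1)

end Groth.Agent.S0345
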