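import Groth.Statements.S11179
import Mathlib
import Groth.Agent.Lib.Helper33.DualizingSelf

set_option autoImplicit false
universe u
open CategoryTheory
attribute [local instance] HasDerivedCategory.standard
open Goren

namespace Groth.Agent.S11179

/-- A Noetherian local ring A is Gorenstein (A has finite injective dimension as a module over itself)
if and only if the complex A[0] is a dualizing complex for A (finite injective dimension expressed
by vanishing of maps M[0] → A[i] in D(A) outside a bounded range, finite cohomology, A → End(A[0])
bijective and no self-maps of nonzero degree). -/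
theorem result (A : Type u) [CommRing A] [IsLocalRing A] [IsNoetherianRing A] : LocCoh.IsGorensteinLocalRing A ↔ Dual.IsDualizing A (Dual.inD A A) := by
  constructor
  · intro hG
    obtain ⟨n, hn⟩ := hG.exists_hasInjectiveDimensionLT
    rw [Groth.Agent.Lib.Helper33.DualizingSelf.hasInjectiveDimensionLT_iff_hom] at hn
    refine Groth.Agent.Lib.Helper33.DualizingSelf.isDualizing_inD_self A ((n : ℤ) - 1) ?_
    intro M _ _ i hi
    have h1 := hn i.toNat (by omega) (ModuleCat.of A M)
    have h2 : ((i.toNat : ℕ) : ℤ) = i := Int.toNat_of_nonneg (by omega)
    rw [h2] at h1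
    exact h1
  · intro hD
    obtain ⟨a, b, hab⟩ := hD.finite_injective_dimension
    refine { exists_hasInjectiveDimensionLT := ⟨(b + 1).toNat, ?_⟩ }
    rw [Groth.Agent.Lib.Helper33.DualizingSelf.hasInjectiveDimensionLT_iff_hom]
    intro i hi Y
    exact hab Y (i : ℤ) (Or.inr (by omega))

end Groth.Agent.S11179
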