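import Groth.Statements.S1747
import Groth.Agent.Lib.Helper12.DualizingUnique
import Groth.Agent.Lib.Helper12.PointwiseDualizing

set_option autoImplicit false
universe u
open CategoryTheory
attribute [local instance] HasDerivedCategory.standard
open Dual

namespace Groth.Agent.S1747

/-- Let A be a Noetherian local ring. If ω and ω' are both dualizing complexes for A, then ω' ≅ ω[n] in
D(A) for some integer n. The published statement is over an arbitrary Noetherian ring, with the
tensor product by an invertible object of D(A) in place of the shift; over a local ring the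
invertible objects of D(A) are exactly the shifts A[n], which gives the form stated here. -/
theorem result (A : Type u) [CommRing A] [IsLocalRing A] [IsNoetherianRing A] (ω ω' : Dual.D A) (hω : Dual.IsDualizing A ω) (hω' : Dual.IsDualizing A ω') : ∃ n : ℤ, Nonempty (ω' ≅ ω⟦n⟧) := by
  classical
  -- normalization of a dualizing complex over the local ring `A`
  have key : ∀ (T : Dual.D A), Dual.IsDualizing A T → ∃ d : ℤ, Dual.IsDualizing A (T⟦d⟧) ∧
      Dual.IsNormalized A (T⟦d⟧) := by
    intro T hT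
    obtain ⟨d, hd1, -⟩ := Groth.Agent.S0364.result A T hT (IsLocalRing.maximalIdeal A)
    refine ⟨d, Groth.Agent.Lib.Helper12.Shriek.isDualizing_shift _ hT d, ?_⟩
    intro j hj
    have h1' : Subsingleton (Dual.inD A (IsLocalRing.ResidueField A) ⟶ T⟦d + j⟧) :=
      hd1 (d + j) (by omega)
    exact ⟨fun x y => by
      rw [← cancel_mono ((shiftFunctorAdd' (Dual.D A) d j (d + j) rfl).app T).inv]
      exact Subsingleton.elim _ _⟩
  obtain ⟨d, hd, hnd⟩ := key ω hω
  obtain ⟨d', hd', hnd'⟩ := key ω' hω'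
  obtain ⟨a, b, E, hE, hinj, ⟨e⟩⟩ :=
    Groth.Agent.Lib.Helper12.ModDual.exists_injective_model (ω'⟦d'⟧) hd'
  have hωE : Dual.IsDualizing A (DRing.toD E) :=
    Groth.Agent.Lib.Helper12.DualizingBC.isDualizing_of_iso e.symm hd'
  have hnE : Dual.IsNormalized A (DRing.toD E) := by
    intro j hj
    have := hnd' j hj
    exact ⟨fun x y => by
      rw [← cancel_mono ((shiftFunctor (Dual.D A) j).mapIso e).hom]
      exact Subsingleton.elim _ _⟩
  obtain ⟨φ⟩ := Groth.Agent.Lib.Helper12.DualUnique.nonempty_iso_of_normalized E a b hE hinj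
    hωE hnE (ω⟦d⟧) hd hnd
  -- `ω'⟦d'⟧ ≅ ω⟦d⟧`
  let ψ : ω'⟦d'⟧ ≅ ω⟦d⟧ := e.symm ≪≫ φ
  refine ⟨d - d', ⟨?_⟩⟩
  exact ((shiftFunctorCompIsoId (Dual.D A) d' (-d') (by omega)).app ω').symm ≪≫
    (shiftFunctor (Dual.D A) (-d')).mapIso ψ ≪≫
    ((shiftFunctorAdd' (Dual.D A) d (-d') (d - d') (by omega)).app ω).symm

end Groth.Agent.S1747
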