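import Groth.Statements.S14388
import Mathlib
-- import your own Groth.Agent.* helpers here

set_option autoImplicit false
open CategoryTheory CategoryTheory.Limits
universe w v u
open CohDer

namespace Groth.Agent.S14388

section partA
open Pretriangulated

variable {D : Type*} [Category D] [Preadditive D] [HasZeroObject D] [HasShift D ℤ]
  [∀ n : ℤ, (shiftFunctor D n).Additive] [Pretriangulated D]

/-- composition with `mor₁` of a distinguished triangle is injective on `Hom(X, obj₁)` when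
`Hom(X⟦1⟧, obj₃) = 0`. -/
lemma eq_zero_of_comp_mor₁ (T' : Triangle D) (hT' : T' ∈ distTriang D) {X : D}
    (k : X ⟶ T'.obj₁) (hk : k ≫ T'.mor₁ = 0)
    (hX : ∀ y : X⟦(1 : ℤ)⟧ ⟶ T'.obj₃, y = 0) : k = 0 := by
  have h1 : k⟦(1 : ℤ)⟧' ≫ T'.mor₁⟦(1 : ℤ)⟧' = 0 := by
    rw [← Functor.map_comp, hk, Functor.map_zero]
  obtain ⟨y, hy⟩ := Triangle.coyoneda_exact₁ T' hT' (k⟦(1 : ℤ)⟧') h1
  rw [hX y, zero_comp] at hy
  apply (shiftFunctor D (1 : ℤ)).map_injective
  rw [hy, Functor.map_zero]

theorem existsUnique_factor (T T' : Triangle D) (hT : T ∈ distTriang D) (hT' : T' ∈ distTriang D)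
    (g : T.obj₂ ⟶ T'.obj₂) (h1 : g ≫ T'.mor₂ = 0) (h2 : T.mor₁ ≫ g = 0)
    (o13 : ∀ y : T.obj₁⟦(1 : ℤ)⟧ ⟶ T'.obj₃, y = 0)
    (o23 : ∀ y : T.obj₂⟦(1 : ℤ)⟧ ⟶ T'.obj₃, y = 0)
    (o11 : ∀ y : T.obj₁⟦(1 : ℤ)⟧ ⟶ T'.obj₁, y = 0) :
    ∃! L : T.obj₃ ⟶ T'.obj₁, g = T.mor₂ ≫ L ≫ T'.mor₁ := by
  obtain ⟨g₁, hg₁⟩ := Triangle.coyoneda_exact₂ T' hT' g h1
  have hk : T.mor₁ ≫ g₁ = 0 := by
    apply eq_zero_of_comp_mor₁ T' hT' _ _ o13
    rw [Category.assoc, ← hg₁, h2]
  obtain ⟨L, hL⟩ := Triangle.yoneda_exact₂ T hT g₁ hk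
  refine ⟨L, by rw [hg₁, hL, Category.assoc], ?_⟩
  intro L₂ hL₂
  have hd : T.mor₂ ≫ (L₂ - L) = 0 := by
    apply eq_zero_of_comp_mor₁ T' hT' _ _ o23
    rw [Category.assoc, Preadditive.sub_comp, Preadditive.comp_sub, ← hL₂, hg₁, hL,
      Category.assoc, sub_self]
  obtain ⟨z, hz⟩ := Triangle.yoneda_exact₃ T hT (L₂ - L) hd
  rw [o11 z, comp_zero] at hz
  exact sub_eq_zero.mp hz


end partA

section partB
open Pretriangulated

variable {D : Type*} [Category D] [Preadditive D] [HasZeroObject D] [HasShift D ℤ]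
  [∀ n : ℤ, (shiftFunctor D n).Additive] [Pretriangulated D] [IsTriangulated D]
  (t : Triangulated.TStructure D)

lemma hab (q : ℤ) : ((q - 1 : ℤ) : EInt) ≤ ((q : ℤ) : EInt) := by
  exact WithBotTop.coe_le_coe.mpr (sub_one_lt q).le

lemma hbc (q : ℤ) : ((q : ℤ) : EInt) ≤ ((q + 1 : ℤ) : EInt) := by
  exact WithBotTop.coe_le_coe.mpr (lt_add_one q).le

/-- the functorial distinguished triangle `τ[q-1,q) → τ[q-1,q+1) → τ[q,q+1) →` -/
noncomputable abbrev Tri (q : ℤ) : D ⥤ Triangle D :=
  t.triangleω₁δ ((q - 1 : ℤ) : EInt) (q : ℤ) ((q + 1 : ℤ) : EInt) (hab q) (hbc q)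


lemma Tri_mor₂ (q : ℤ) (K : D) : ((Tri t q).obj K).mor₂ =
    (t.natTransTruncGEOfLE (q - 1) q (sub_one_lt q).le).app ((t.truncLT (q + 1)).obj K) := by
  rw [Triangulated.TStructure.triangleω₁δ_obj_mor₂]
  rfl

lemma Tri_mor₁ (q : ℤ) (K : D) : ((Tri t q).obj K).mor₁ =
    (t.truncGE (q - 1)).map ((t.natTransTruncLTOfLE q (q + 1) (lt_add_one q).le).app K) := by
  rw [Triangulated.TStructure.triangleω₁δ_obj_mor₁]
  rfl


end partB

section partC
open Pretriangulated

variable {C : Type u} [Category.{v} C] [Abelian C] [HasDerivedCategory.{w} C]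

open DerivedCategory

variable (C) in
/-- the canonical t-structure -/
noncomputable abbrev tt : Triangulated.TStructure (DerivedCategory C) := DerivedCategory.TStructure.t (C := C)

/-- a morphism between objects concentrated in degree `n` is zero if it is zero on `H^n`. -/
lemma eq_zero_of_homologyMap_eq_zero {X Y : DerivedCategory C} (n : ℤ)
    [X.IsGE n] [X.IsLE n] [Y.IsGE n] [Y.IsLE n] (φ : X ⟶ Y)
    (h : (homologyFunctor C n).map φ = 0) : φ = 0 := by
  obtain ⟨A, ⟨eX⟩⟩ := exists_iso_singleFunctor_obj_of_isGE_of_isLE X n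
  obtain ⟨B, ⟨eY⟩⟩ := exists_iso_singleFunctor_obj_of_isGE_of_isLE Y n
  obtain ⟨ψ, hψ⟩ := (singleFunctor C n).map_surjective (eX.inv ≫ φ ≫ eY.hom)
  have hnat := (singleFunctorCompHomologyFunctorIso C n).hom.naturality ψ
  have h1 : (singleFunctor C n ⋙ homologyFunctor C n).map ψ = 0 := by
    rw [Functor.comp_map, hψ, Functor.map_comp, Functor.map_comp, h, zero_comp, comp_zero]
  rw [h1, zero_comp] at hnat
  have hψ0 : ψ = 0 := by
    have : (𝟭 C).map ψ = 0 := by
      rw [← cancel_epi ((singleFunctorCompHomologyFunctorIso C n).hom.app A), ← hnat, comp_zero]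
    simpa using this
  rw [hψ0, Functor.map_zero] at hψ
  have : φ = eX.hom ≫ (eX.inv ≫ φ ≫ eY.hom) ≫ eY.inv := by simp
  rw [this, ← hψ, zero_comp, comp_zero]

lemma mono_homologyMap_truncLTι (X : DerivedCategory C) (b n : ℤ) (hb : n < b) :
    Mono ((homologyFunctor C n).map (((tt C).truncLTι b).app X)) := by
  have hT := (tt C).triangleLTGE_distinguished b X
  have := (HomologySequence.mono_homologyMap_mor₁_iff _ hT (n - 1) n (by omega)).mpr
  apply this
  apply IsZero.eq_of_src
  exact isZero_of_isGE (((tt C).triangleLTGE b).obj X).obj₃ b (n - 1) (by omega)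

lemma epi_homologyMap_truncGEπ (X : DerivedCategory C) (a n : ℤ) (ha : a ≤ n) :
    Epi ((homologyFunctor C n).map (((tt C).truncGEπ a).app X)) := by
  have hT := (tt C).triangleLTGE_distinguished a X
  have := (HomologySequence.epi_homologyMap_mor₂_iff _ hT n (n + 1) rfl).mpr
  apply this
  apply IsZero.eq_of_tgt
  exact isZero_of_isLE (((tt C).triangleLTGE a).obj X).obj₁ (a - 1) (n + 1) (by omega)

lemma homologyMap_truncGELT_eq_zero {K K' : DerivedCategory C} (f : K ⟶ K') (a b n : ℤ)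
    (ha : a ≤ n) (hb : n < b) (h : (homologyFunctor C n).map f = 0) :
    (homologyFunctor C n).map (((tt C).truncGELT a b).map f) = 0 := by
  have h1 : (homologyFunctor C n).map (((tt C).truncLT b).map f) = 0 := by
    have := mono_homologyMap_truncLTι K' b n hb
    rw [← cancel_mono ((homologyFunctor C n).map (((tt C).truncLTι b).app K')), zero_comp,
      ← Functor.map_comp]
    have hnat := ((tt C).truncLTι b).naturality f
    simp only [Functor.id_map] at hnat
    rw [hnat, Functor.map_comp, h, comp_zero]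
  have := epi_homologyMap_truncGEπ (((tt C).truncLT b).obj K) a n ha
  rw [← cancel_epi ((homologyFunctor C n).map (((tt C).truncGEπ a).app (((tt C).truncLT b).obj K))),
    comp_zero, ← Functor.map_comp]
  have hnat := ((tt C).truncGEπ a).naturality (((tt C).truncLT b).map f)
  simp only [Functor.id_map] at hnat
  show (homologyFunctor C n).map (((tt C).truncGEπ a).app (((tt C).truncLT b).obj K) ≫
    ((tt C).truncGE a).map (((tt C).truncLT b).map f)) = 0
  rw [← hnat, Functor.map_comp, h1, zero_comp]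


set_option backward.isDefEq.respectTransparency.types false in
theorem main {K K' : DerivedCategory C} (f : K ⟶ K') (q : ℤ)
    (h₁ : (DerivedCategory.homologyFunctor C (q - 1)).map f = 0)
    (h₂ : (DerivedCategory.homologyFunctor C q).map f = 0) :
    ∃! L : ((tt C).truncGELT q (q + 1)).obj K ⟶ ((tt C).truncGELT (q - 1) q).obj K',
      ((tt C).truncGELT (q - 1) (q + 1)).map f =
        ((tt C).natTransTruncGEOfLE (q - 1) q (sub_one_lt q).le).app
            (((tt C).truncLT (q + 1)).obj K) ≫ L ≫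
          ((tt C).truncGE (q - 1)).map
            (((tt C).natTransTruncLTOfLE q (q + 1) (lt_add_one q).le).app K') := by
  have hT := (tt C).triangleω₁δ_distinguished _ _ _ (hab q) (hbc q) K
  have hT' := (tt C).triangleω₁δ_distinguished _ _ _ (hab q) (hbc q) K'
  have hom₁ : ((tt C).truncGELT (q - 1) q).map f = 0 := by
    apply eq_zero_of_homologyMap_eq_zero (q - 1)
    exact homologyMap_truncGELT_eq_zero f (q - 1) q (q - 1) le_rfl (sub_one_lt q) h₁
  have hom₃ : ((tt C).truncGELT q (q + 1)).map f = 0 := by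
    have i1 : (tt C).IsLE ((((tt C).truncGELT q (q + 1)).obj K)) q :=
      inferInstanceAs ((tt C).IsLE (((tt C).truncGE q).obj (((tt C).truncLT (q + 1)).obj K)) q)
    have i2 : (tt C).IsLE ((((tt C).truncGELT q (q + 1)).obj K')) q :=
      inferInstanceAs ((tt C).IsLE (((tt C).truncGE q).obj (((tt C).truncLT (q + 1)).obj K')) q)
    apply eq_zero_of_homologyMap_eq_zero q
    exact homologyMap_truncGELT_eq_zero f q (q + 1) q le_rfl (lt_add_one q) h₂
  have c1 : ((Tri (tt C) q).obj K).mor₁ ≫ ((tt C).truncGELT (q - 1) (q + 1)).map f = 0 := by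
    refine ((Tri (tt C) q).map f).comm₁.trans ?_
    show ((tt C).truncGELT (q - 1) q).map f ≫ ((Tri (tt C) q).obj K').mor₁ = 0
    rw [hom₁]
    exact zero_comp
  have c2 : ((tt C).truncGELT (q - 1) (q + 1)).map f ≫ ((Tri (tt C) q).obj K').mor₂ = 0 := by
    refine ((Tri (tt C) q).map f).comm₂.symm.trans ?_
    show ((Tri (tt C) q).obj K).mor₂ ≫ ((tt C).truncGELT q (q + 1)).map f = 0
    rw [hom₃]
    exact comp_zero
  have key := existsUnique_factor ((Tri (tt C) q).obj K) ((Tri (tt C) q).obj K') hT hT'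
    (((tt C).truncGELT (q - 1) (q + 1)).map f) c2 c1 ?_ ?_ ?_
  · rw [Tri_mor₂, Tri_mor₁] at key
    exact key
  · intro y
    have : (tt C).IsLE ((((Tri (tt C) q).obj K).obj₁)⟦(1 : ℤ)⟧) (q - 2) := by
      have : (tt C).IsLE (((Tri (tt C) q).obj K).obj₁) (q - 1) :=
        inferInstanceAs ((tt C).IsLE (((tt C).truncGE (q - 1)).obj (((tt C).truncLT q).obj K)) (q - 1))
      exact (tt C).isLE_shift _ (q - 1) 1 (q - 2)
    have : (tt C).IsGE (((Tri (tt C) q).obj K').obj₃) q :=
      inferInstanceAs ((tt C).IsGE (((tt C).truncGE q).obj (((tt C).truncLT (q + 1)).obj K')) q)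
    exact (tt C).zero y (q - 2) q
  · intro y
    have : (tt C).IsLE ((((Tri (tt C) q).obj K).obj₂)⟦(1 : ℤ)⟧) (q - 1) := by
      have : (tt C).IsLE (((Tri (tt C) q).obj K).obj₂) q :=
        inferInstanceAs ((tt C).IsLE (((tt C).truncGE (q - 1)).obj (((tt C).truncLT (q + 1)).obj K)) q)
      exact (tt C).isLE_shift _ q 1 (q - 1)
    have : (tt C).IsGE (((Tri (tt C) q).obj K').obj₃) q :=
      inferInstanceAs ((tt C).IsGE (((tt C).truncGE q).obj (((tt C).truncLT (q + 1)).obj K')) q)
    exact (tt C).zero y (q - 1) q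
  · intro y
    have : (tt C).IsLE ((((Tri (tt C) q).obj K).obj₁)⟦(1 : ℤ)⟧) (q - 2) := by
      have : (tt C).IsLE (((Tri (tt C) q).obj K).obj₁) (q - 1) :=
        inferInstanceAs ((tt C).IsLE (((tt C).truncGE (q - 1)).obj (((tt C).truncLT q).obj K)) (q - 1))
      exact (tt C).isLE_shift _ (q - 1) 1 (q - 2)
    have : (tt C).IsGE (((Tri (tt C) q).obj K').obj₁) (q - 1) :=
      inferInstanceAs ((tt C).IsGE (((tt C).truncGE (q - 1)).obj (((tt C).truncLT q).obj K')) (q - 1))
    exact (tt C).zero y (q - 2) (q - 1)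

end partC

/-- Let A be an abelian category, D(A) its derived category with the canonical t-structure and
truncation functors τ_{≥a}, τ_{<b}, and write τ_[a,b] = τ_{≥a} ∘ τ_{<b+1}, so that τ_[q,q] K is
H^q(K) placed in degree q. Let f : K → K' be a morphism in D(A) and q an integer such that the
induced maps H^(q-1)(K) → H^(q-1)(K') and H^q(K) → H^q(K') are both zero. Then there is a unique
morphism L : τ_[q,q] K → τ_[q-1,q-1] K' such that τ_[q-1,q](f) : τ_[q-1,q] K → τ_[q-1,q] K' is the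
composite of the canonical projection τ_[q-1,q] K → τ_[q,q] K, the morphism L, and the canonical
inclusion τ_[q-1,q-1] K' → τ_[q-1,q] K'. (Under τ_[n,n] ≅ H^n(−)[−n] the morphism L corresponds to a
morphism L_f[−q] : H^q(K)[−q] → H^(q-1)(K')[1−q].) -/
theorem result {C : Type u} [Category.{v} C] [Abelian C]
    [HasDerivedCategory.{w} C] {K K' : DerivedCategory C} (f : K ⟶ K') (q : ℤ)
    (h₁ : (DerivedCategory.homologyFunctor C (q - 1)).map f = 0)
    (h₂ : (DerivedCategory.homologyFunctor C q).map f = 0) :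
    ∃! L : ((DerivedCategory.TStructure.t (C := C)).truncGELT q (q + 1)).obj K ⟶
        ((DerivedCategory.TStructure.t (C := C)).truncGELT (q - 1) q).obj K',
      ((DerivedCategory.TStructure.t (C := C)).truncGELT (q - 1) (q + 1)).map f =
        ((DerivedCategory.TStructure.t (C := C)).natTransTruncGEOfLE (q - 1) q (sub_one_lt q).le).app
            (((DerivedCategory.TStructure.t (C := C)).truncLT (q + 1)).obj K) ≫ L ≫
          ((DerivedCategory.TStructure.t (C := C)).truncGE (q - 1)).map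
            (((DerivedCategory.TStructure.t (C := C)).natTransTruncLTOfLE q (q + 1) (lt_add_one q).le).app K') := by
  exact main f q h₁ h₂

end Groth.Agent.S14388
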