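import Groth.Statements.S0973
import Mathlib
import Groth.Agent.S14388
-- import your own Groth.Agent.* helpers here

set_option autoImplicit false
universe w v u
open CategoryTheory CategoryTheory.Limits
open CohDer

namespace Groth.Agent.S0973

open Pretriangulated DerivedCategory
open Groth.Agent.S14388 (tt mono_homologyMap_truncLTι epi_homologyMap_truncGEπ)

section orth
variable {D : Type*} [Category D] [Preadditive D]

/-- every morphism `X ⟶ Y` is zero -/
def Orth (X Y : D) : Prop := ∀ f : X ⟶ Y, f = 0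

lemma Orth.of_iso {X X' Y Y' : D} (h : Orth X Y) (eX : X ≅ X') (eY : Y ≅ Y') : Orth X' Y' := by
  intro f
  have := h (eX.hom ≫ f ≫ eY.inv)
  have h2 : f = eX.inv ≫ (eX.hom ≫ f ≫ eY.inv) ≫ eY.hom := by simp
  rw [h2, this, zero_comp, comp_zero]

lemma Orth.shift [HasShift D ℤ] {X Y : D} (h : Orth X Y) (n : ℤ) : Orth (X⟦n⟧) (Y⟦n⟧) := by
  intro f
  obtain ⟨g, rfl⟩ := (shiftFunctor D n).map_surjective f
  rw [h g]
  have : (shiftFunctor D n).PreservesZeroMorphisms := inferInstance
  exact (shiftFunctor D n).map_zero _ _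

end orth

variable {C : Type u} [Category.{v} C] [Abelian C] [HasDerivedCategory.{w} C]

/-- translate the `Ext` vanishing hypothesis -/
lemma orth_single (M N : C) (i c : ℤ) (p : ℕ) (hp : (p : ℤ) = i - c + 1)
    (h : ∀ f : (singleFunctor C 0).obj M ⟶ ((singleFunctor C 0).obj N)⟦(p : ℤ)⟧, f = 0) :
    Orth ((singleFunctor C i).obj M) (((singleFunctor C c).obj N)⟦(1 : ℤ)⟧) := by
  have h1 : Orth ((singleFunctor C 0).obj M) (((singleFunctor C 0).obj N)⟦(p : ℤ)⟧) := h
  have h2 := h1.shift (-i)
  refine h2.of_iso (((singleFunctors C).shiftIso (-i) i 0 (by omega)).app M) ?_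
  refine ((shiftFunctorAdd' (DerivedCategory C) (p : ℤ) (-i) (-c + 1) (by omega)).app _).symm ≪≫ ?_
  refine ((shiftFunctorAdd' (DerivedCategory C) (-c) 1 (-c + 1) (by omega)).app _) ≪≫ ?_
  exact (shiftFunctor (DerivedCategory C) (1 : ℤ)).mapIso
    (((singleFunctors C).shiftIso (-c) c 0 (by omega)).app N)

lemma isIso_homologyMap_truncLTι (X : DerivedCategory C) (b n : ℤ) (hb : n < b) :
    IsIso ((homologyFunctor C n).map (((tt C).truncLTι b).app X)) := by
  have hT := (tt C).triangleLTGE_distinguished b X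
  have h1 := mono_homologyMap_truncLTι X b n hb
  have h2 : Epi ((homologyFunctor C n).map (((tt C).truncLTι b).app X)) := by
    apply (HomologySequence.epi_homologyMap_mor₁_iff _ hT n).mpr
    apply IsZero.eq_of_tgt
    exact isZero_of_isGE (((tt C).triangleLTGE b).obj X).obj₃ b n hb
  exact isIso_of_mono_of_epi _

lemma isIso_homologyMap_truncGEπ (X : DerivedCategory C) (a n : ℤ) (ha : a ≤ n) :
    IsIso ((homologyFunctor C n).map (((tt C).truncGEπ a).app X)) := by
  have hT := (tt C).triangleLTGE_distinguished a X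
  have h1 := epi_homologyMap_truncGEπ X a n ha
  have h2 : Mono ((homologyFunctor C n).map (((tt C).truncGEπ a).app X)) := by
    apply (HomologySequence.mono_homologyMap_mor₂_iff _ hT n).mpr
    apply IsZero.eq_of_src
    exact isZero_of_isLE (((tt C).triangleLTGE a).obj X).obj₁ (a - 1) n (by omega)
  exact isIso_of_mono_of_epi _

/-- the object `τ_{≥c}τ_{<c+1} K`. -/
noncomputable abbrev E (K : DerivedCategory C) (c : ℤ) : DerivedCategory C :=
  ((tt C).truncGELT c (c + 1)).obj K

instance (K : DerivedCategory C) (c : ℤ) : (E K c).IsGE c :=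
  inferInstanceAs ((tt C).IsGE (((tt C).truncGE c).obj (((tt C).truncLT (c + 1)).obj K)) c)

instance (K : DerivedCategory C) (c : ℤ) : (E K c).IsLE c :=
  inferInstanceAs ((tt C).IsLE (((tt C).truncGE c).obj (((tt C).truncLT (c + 1)).obj K)) c)

lemma nonempty_iso_E (K : DerivedCategory C) (c : ℤ) :
    Nonempty (E K c ≅ (singleFunctor C c).obj ((homologyFunctor C c).obj K)) := by
  obtain ⟨M, ⟨e⟩⟩ := exists_iso_singleFunctor_obj_of_isGE_of_isLE (E K c) c
  have := isIso_homologyMap_truncLTι K (c + 1) c (lt_add_one c)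
  have := isIso_homologyMap_truncGEπ (((tt C).truncLT (c + 1)).obj K) c c le_rfl
  let e1 : (homologyFunctor C c).obj (E K c) ≅ (homologyFunctor C c).obj K :=
    (asIso ((homologyFunctor C c).map (((tt C).truncGEπ c).app (((tt C).truncLT (c + 1)).obj K)))).symm ≪≫
      asIso ((homologyFunctor C c).map (((tt C).truncLTι (c + 1)).app K))
  let e2 : M ≅ (homologyFunctor C c).obj K :=
    ((singleFunctorCompHomologyFunctorIso C c).app M).symm ≪≫
      (homologyFunctor C c).mapIso e.symm ≪≫ e1
  exact ⟨e ≪≫ (singleFunctor C c).mapIso e2⟩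

lemma orth_of_triangle (T : Triangle (DerivedCategory C)) (hT : T ∈ distTriang _)
    (S : DerivedCategory C) (h1 : Orth S (T.obj₁⟦(1 : ℤ)⟧)) (h3 : Orth S (T.obj₃⟦(1 : ℤ)⟧)) :
    Orth S (T.obj₂⟦(1 : ℤ)⟧) := by
  intro f
  have hT' := rot_of_distTriang _ (rot_of_distTriang _ hT)
  have hf : f ≫ T.rotate.rotate.mor₃ = 0 := h3 _
  obtain ⟨g, hg⟩ := Triangle.coyoneda_exact₃ _ hT' f hf
  have hg0 : g = 0 := h1 g
  rw [hg, hg0]
  exact zero_comp

lemma orth_truncLT_shift (K : DerivedCategory C) (a : ℤ) [K.IsGE a] (S : DerivedCategory C) (c : ℤ)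
    (h : ∀ c' : ℤ, c' < c → Orth S ((E K c')⟦(1 : ℤ)⟧)) :
    Orth S ((((tt C).truncLT c).obj K)⟦(1 : ℤ)⟧) := by
  have aux : ∀ c : ℤ, a ≤ c → (∀ c' : ℤ, c' < c → Orth S ((E K c')⟦(1 : ℤ)⟧)) →
      Orth S ((((tt C).truncLT c).obj K)⟦(1 : ℤ)⟧) := by
    intro c hc
    induction c, hc using Int.le_induction with
    | base =>
      intro h
      have hZ : IsZero ((((tt C).truncLT a).obj K)⟦(1 : ℤ)⟧) :=
        (shiftFunctor _ (1 : ℤ)).map_isZero ((tt C).isZero_truncLT_obj_of_isGE a K)
      intro f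
      exact hZ.eq_of_tgt _ _
    | succ c hc ih =>
      intro h
      have hT := (tt C).triangleLTLTGELT_distinguished c (c + 1) (by omega) K
      exact orth_of_triangle _ hT S (ih (fun c' hc' => h c' (by omega))) (h c (by omega))
  by_cases hc : c ≤ a
  · have : (tt C).IsGE K c := (tt C).isGE_of_ge K c a hc
    have hZ : IsZero ((((tt C).truncLT c).obj K)⟦(1 : ℤ)⟧) :=
      (shiftFunctor _ (1 : ℤ)).map_isZero ((tt C).isZero_truncLT_obj_of_isGE c K)
    intro f
    exact hZ.eq_of_tgt _ _
  · exact aux c (by omega) h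


lemma exists_section (K : DerivedCategory C) (a : ℤ) [K.IsGE a] (i : ℤ)
    (h : ∀ c' : ℤ, c' < i → Orth (E K i) ((E K c')⟦(1 : ℤ)⟧)) :
    ∃ s : E K i ⟶ K, IsIso ((homologyFunctor C i).map s) := by
  have hT := (tt C).triangleLTLTGELT_distinguished i (i + 1) (by omega) K
  have hδ := orth_truncLT_shift K a (E K i) i h
  obtain ⟨σ, hσ⟩ := Triangle.coyoneda_exact₃ _ hT (𝟙 (E K i)) (hδ _)
  obtain ⟨σ', hσ'⟩ : ∃ σ' : E K i ⟶ ((tt C).truncLT (i + 1)).obj K,
    𝟙 (E K i) = σ' ≫ ((tt C).truncGEπ i).app (((tt C).truncLT (i + 1)).obj K) := ⟨σ, hσ⟩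
  refine ⟨σ' ≫ ((tt C).truncLTι (i + 1)).app K, ?_⟩
  rw [CategoryTheory.Functor.map_comp]
  have := isIso_homologyMap_truncLTι K (i + 1) i (lt_add_one i)
  have i2 := isIso_homologyMap_truncGEπ (((tt C).truncLT (i + 1)).obj K) i i le_rfl
  have : IsIso ((homologyFunctor C i).map σ') := by
    have e : (homologyFunctor C i).map σ' ≫
        (homologyFunctor C i).map (((tt C).truncGEπ i).app (((tt C).truncLT (i + 1)).obj K)) = 𝟙 _ := by
      rw [← CategoryTheory.Functor.map_comp, ← hσ', CategoryTheory.Functor.map_id]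
    exact IsIso.of_isIso_fac_right e
  infer_instance



/-- Let K be an object of the derived category of an abelian category with cohomology concentrated in
degrees a, …, b. Suppose that for all i > j and p ≥ 2 every morphism H^i(K) ⟶ H^j(K)[p] in the
derived category (an element of Ext^p) vanishes. Then K splits: it is isomorphic to ⨁_{a ≤ i ≤ b}
Hⁱ(K)[-i]. -/
theorem result {A : Type u} [Category.{v} A] [Abelian A] [HasDerivedCategory.{w} A]
    (K : DerivedCategory A) (a b : ℤ) [K.IsGE a] [K.IsLE b]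
    (hExt : ∀ (i j : ℤ) (p : ℕ), j < i → 2 ≤ p →
      ∀ f : (DerivedCategory.singleFunctor A 0).obj ((DerivedCategory.homologyFunctor A i).obj K) ⟶
        ((DerivedCategory.singleFunctor A 0).obj ((DerivedCategory.homologyFunctor A j).obj K))⟦(p : ℤ)⟧, f = 0)
    [HasBiproduct (fun i : Finset.Icc a b => (DerivedCategory.singleFunctor A (i : ℤ)).obj ((DerivedCategory.homologyFunctor A (i : ℤ)).obj K))] :
    Nonempty (K ≅ ⨁ (fun i : Finset.Icc a b => (DerivedCategory.singleFunctor A (i : ℤ)).obj ((DerivedCategory.homologyFunctor A (i : ℤ)).obj K))) := by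
  have hs : ∀ i : ℤ, ∃ s : (singleFunctor A i).obj ((homologyFunctor A i).obj K) ⟶ K,
      IsIso ((homologyFunctor A i).map s) := by
    intro i
    obtain ⟨e⟩ := nonempty_iso_E K i
    obtain ⟨s, hs⟩ := exists_section K a i (by
      intro c' hc'
      obtain ⟨e'⟩ := nonempty_iso_E K c'
      refine Orth.of_iso ?_ e.symm ((shiftFunctor _ (1 : ℤ)).mapIso e'.symm)
      exact orth_single _ _ i c' (Int.toNat (i - c' + 1)) (by omega) (hExt i c' _ hc' (by omega)))
    exact ⟨e.inv ≫ s, by rw [CategoryTheory.Functor.map_comp]; infer_instance⟩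
  choose s hs using hs
  let F := fun i : Finset.Icc a b => (singleFunctor A (i : ℤ)).obj ((homologyFunctor A (i : ℤ)).obj K)
  let φ : ⨁ F ⟶ K := biproduct.desc (fun i => s i)
  suffices IsIso φ from ⟨(asIso φ).symm⟩
  rw [DerivedCategory.isIso_iff]
  intro n
  have hzero : ∀ i : Finset.Icc a b, (i : ℤ) ≠ n → IsZero ((homologyFunctor A n).obj (F i)) := by
    intro i hi
    rcases lt_or_gt_of_ne hi with h | h
    · exact isZero_of_isLE (F i) (i : ℤ) n h
    · exact isZero_of_isGE (F i) (i : ℤ) n h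
  have hsum : 𝟙 ((homologyFunctor A n).obj (⨁ F)) = ∑ i, (homologyFunctor A n).map (biproduct.π F i) ≫
      (homologyFunctor A n).map (biproduct.ι F i) := by
    rw [← CategoryTheory.Functor.map_id, ← biproduct.total, Functor.map_sum]
    simp
  by_cases hn : n ∈ Finset.Icc a b
  · let j : Finset.Icc a b := ⟨n, hn⟩
    have h1 : (homologyFunctor A n).map (biproduct.π F j) ≫
        (homologyFunctor A n).map (biproduct.ι F j) = 𝟙 _ := by
      rw [hsum]
      symm
      apply Finset.sum_eq_single j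
      · intro i _ hij
        have : (i : ℤ) ≠ n := fun h => hij (Subtype.ext h)
        rw [(hzero i this).eq_of_tgt ((homologyFunctor A n).map (biproduct.π F i)) 0, zero_comp]
      · intro h
        exact absurd (Finset.mem_univ j) h
    have h2 : (homologyFunctor A n).map (biproduct.ι F j) ≫
        (homologyFunctor A n).map (biproduct.π F j) = 𝟙 _ := by
      rw [← CategoryTheory.Functor.map_comp, biproduct.ι_π_self, CategoryTheory.Functor.map_id]
    have : IsIso ((homologyFunctor A n).map (biproduct.ι F j)) := ⟨_, h2, h1⟩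
    have h3 : (homologyFunctor A n).map (biproduct.ι F j) ≫ (homologyFunctor A n).map φ =
        (homologyFunctor A n).map (s n) := by
      rw [← CategoryTheory.Functor.map_comp, biproduct.ι_desc]
    have := hs n
    exact IsIso.of_isIso_fac_left h3
  · have hK : IsZero ((homologyFunctor A n).obj K) := by
      rw [Finset.mem_Icc] at hn
      by_cases h : n < a
      · exact isZero_of_isGE K a n h
      · exact isZero_of_isLE K b n (by omega)
    have hF : IsZero ((homologyFunctor A n).obj (⨁ F)) := by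
      rw [IsZero.iff_id_eq_zero, hsum]
      apply Finset.sum_eq_zero
      intro i _
      have : (i : ℤ) ≠ n := by
        intro h
        apply hn
        rw [← h]
        exact i.2
      rw [(hzero i this).eq_of_tgt ((homologyFunctor A n).map (biproduct.π F i)) 0, zero_comp]
    exact ⟨0, hF.eq_of_src _ _, hK.eq_of_src _ _⟩

end Groth.Agent.S0973
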