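import Groth.Statements.S0982
import Mathlib
import Groth.Agent.S14388
-- import your own Groth.Agent.* helpers here

set_option autoImplicit false
universe w v u
open CategoryTheory CategoryTheory.Limits
open CohDer

namespace Groth.Agent.S0982

open Pretriangulated DerivedCategory
open Groth.Agent.S14388 (tt eq_zero_of_homologyMap_eq_zero homologyMap_truncGELT_eq_zero)

variable {C : Type u} [Category.{v} C] [Abelian C] [HasDerivedCategory.{w} C]

/-- middle lemma: if `H^a(f) = 0`, then `ι_{<a+1} ≫ f ≫ π_{≥a} = 0`. -/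
lemma mid {X Y : DerivedCategory C} (f : X ⟶ Y) (a : ℤ) (h : (homologyFunctor C a).map f = 0) :
    ((tt C).truncLTι (a+1)).app X ≫ f ≫ ((tt C).truncGEπ a).app Y = 0 := by
  have h3 : ((tt C).truncGELT a (a + 1)).map f = 0 := by
    have i1 : (tt C).IsLE ((((tt C).truncGELT a (a + 1)).obj X)) a :=
      inferInstanceAs ((tt C).IsLE (((tt C).truncGE a).obj (((tt C).truncLT (a + 1)).obj X)) a)
    have i2 : (tt C).IsLE ((((tt C).truncGELT a (a + 1)).obj Y)) a :=
      inferInstanceAs ((tt C).IsLE (((tt C).truncGE a).obj (((tt C).truncLT (a + 1)).obj Y)) a)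
    apply eq_zero_of_homologyMap_eq_zero a
    exact homologyMap_truncGELT_eq_zero f a (a + 1) a le_rfl (lt_add_one a) h
  have n1 := ((tt C).truncLTι (a+1)).naturality f
  have n2 := ((tt C).truncGEπ a).naturality (((tt C).truncLTι (a+1)).app Y)
  have n3 := ((tt C).truncGEπ a).naturality (((tt C).truncLT (a+1)).map f)
  simp only [Functor.id_map, Functor.id_obj] at n1 n2 n3
  have h3' : ((tt C).truncGE a).map (((tt C).truncLT (a+1)).map f) = 0 := h3
  rw [← Category.assoc, ← n1, Category.assoc, n2, ← Category.assoc, n3, h3', comp_zero, zero_comp]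

lemma homologyMap_Q_eq_zero {K L : CochainComplex C ℤ} (φ : K ⟶ L) (a : ℤ)
    (h : HomologicalComplex.homologyMap φ a = 0) :
    (homologyFunctor C a).map (Q.map φ) = 0 := by
  have hn := (homologyFunctorFactors C a).hom.naturality φ
  have h' : (HomologicalComplex.homologyFunctor C (ComplexShape.up ℤ) a).map φ = 0 := h
  rw [h', comp_zero] at hn
  rw [← cancel_mono ((homologyFunctorFactors C a).hom.app L), zero_comp]
  exact hn

lemma isLE_Q_of_homology (K : CochainComplex C ℤ) (n : ℤ)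
    (h : ∀ i : ℤ, n < i → IsZero (K.homology i)) : (Q.obj K).IsLE n := by
  rw [isLE_Q_obj_iff, CochainComplex.isLE_iff]
  intro i hi
  rw [HomologicalComplex.exactAt_iff_isZero_homology]
  exact h i hi

lemma isGE_Q_of_homology (K : CochainComplex C ℤ) (n : ℤ)
    (h : ∀ i : ℤ, i < n → IsZero (K.homology i)) : (Q.obj K).IsGE n := by
  rw [isGE_Q_obj_iff, CochainComplex.isGE_iff]
  intro i hi
  rw [HomologicalComplex.exactAt_iff_isZero_homology]
  exact h i hi

/-- one step of the induction (LE version) -/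
lemma step {W X Y : DerivedCategory C} (g : W ⟶ X) (f : X ⟶ Y) (a : ℤ)
    (hg : g ≫ ((tt C).truncGEπ (a + 1)).app X = 0)
    (hf : (homologyFunctor C a).map f = 0) :
    (g ≫ f) ≫ ((tt C).truncGEπ a).app Y = 0 := by
  obtain ⟨ψ, hψ⟩ := Triangle.coyoneda_exact₂ _ ((tt C).triangleLTGE_distinguished (a + 1) X) g hg
  obtain ⟨ψ', hψ'⟩ : ∃ ψ' : W ⟶ ((tt C).truncLT (a + 1)).obj X,
    g = ψ' ≫ ((tt C).truncLTι (a + 1)).app X := ⟨ψ, hψ⟩
  rw [hψ', Category.assoc, Category.assoc, mid f a hf, comp_zero]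

/-- final step (LE version) -/
lemma final_LE {W : DerivedCategory C} (K : CochainComplex C ℤ) (m : ℤ) (g : W ⟶ Q.obj K)
    (hg : g ≫ ((tt C).truncGEπ (m + 1)).app (Q.obj K) = 0) :
    ∃ φ : W ⟶ Q.obj (K.truncLE m), φ ≫ Q.map (K.ιTruncLE m) = g := by
  have h := K.shortComplexTruncLE_shortExact m
  have hT := triangleOfSES_distinguished h
  have : (Q.obj (K.shortComplexTruncLE m).X₃).IsGE (m + 1) :=
    (tt C).isGE_of_iso (asIso (Q.map (K.shortComplexTruncLEX₃ToTruncGE m (m + 1) rfl))).symm (m + 1)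
  let u : Q.obj K ⟶ Q.obj (K.shortComplexTruncLE m).X₃ := Q.map (K.shortComplexTruncLE m).g
  have hz : g ≫ u = 0 := by
    rw [← (tt C).π_descTruncGE u (m + 1), ← Category.assoc]
    have hg' : g ≫ ((tt C).truncGEπ (m + 1)).app (Q.obj K) = 0 := hg
    rw [hg', zero_comp]
  obtain ⟨φ, hφ⟩ := Triangle.coyoneda_exact₂ _ hT g hz
  exact ⟨φ, hφ.symm⟩



/-- Let K : ℕ ⥤ CochainComplex A ℤ be a sequence of cochain maps K₀ → K₁ → K₂ → … in an abelian category
with Hⁱ(K₀) = 0 for i > 0 and such that for every j < n the map H⁻ʲ(Kⱼ) → H⁻ʲ(Kⱼ₊₁) is zero. Then in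
the derived category the composite K₀ → Kₙ factors through the canonical truncation τ_{≤ -n}Kₙ → Kₙ. -/
theorem result {A : Type u} [Category.{v} A] [Abelian A] [HasDerivedCategory.{w} A]
    (K : ℕ ⥤ CochainComplex A ℤ) (n : ℕ)
    (h0 : ∀ i : ℤ, 0 < i → IsZero ((K.obj 0).homology i))
    (hz : ∀ j : ℕ, j < n → HomologicalComplex.homologyMap (K.map (homOfLE (Nat.le_succ j))) (-(j : ℤ)) = 0) :
    ∃ φ : DerivedCategory.Q.obj (K.obj 0) ⟶ DerivedCategory.Q.obj ((K.obj n).truncLE (-(n : ℤ))),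
      φ ≫ DerivedCategory.Q.map ((K.obj n).ιTruncLE (-(n : ℤ))) = DerivedCategory.Q.map (K.map (homOfLE (Nat.zero_le n))) := by
  have key : ∀ j : ℕ, j ≤ n → ∀ a : ℤ, a = -(j : ℤ) →
      Q.map (K.map (homOfLE (Nat.zero_le j))) ≫ ((tt A).truncGEπ (a + 1)).app (Q.obj (K.obj j)) = 0 := by
    intro j
    induction j with
    | zero =>
      intro _ a ha
      have : (Q.obj (K.obj 0)).IsLE 0 := isLE_Q_of_homology _ 0 h0
      have hZ : IsZero (((tt A).truncGE (a + 1)).obj (Q.obj (K.obj 0))) :=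
        (tt A).isZero_truncGE_obj_of_isLE 0 (a + 1) (by simp [ha]) _
      exact hZ.eq_of_tgt _ _
    | succ j ih =>
      intro hj a ha
      have ha' : a + 1 = -(j : ℤ) := by push_cast at ha; omega
      have h1 := ih (by omega) (a + 1) ha'
      have h2 : (homologyFunctor A (a + 1)).map (Q.map (K.map (homOfLE (Nat.le_succ j)))) = 0 := by
        rw [ha']
        exact homologyMap_Q_eq_zero _ _ (hz j (by omega))
      have h3 := step _ _ (a + 1) h1 h2
      rw [← Functor.map_comp, ← Functor.map_comp] at h3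
      exact h3
  obtain ⟨φ, hφ⟩ := final_LE (K.obj n) (-(n : ℤ)) _ (key n le_rfl _ rfl)
  exact ⟨φ, hφ⟩

end Groth.Agent.S0982
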