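import Groth.Statements.S6945
-- import your own Groth.Agent.* helpers here
import Mathlib
import Groth.Agent.Lib.Helper36.LTensorAPI

set_option autoImplicit false
universe u
open CategoryTheory CategoryTheory.Limits
attribute [local instance] HasDerivedCategory.standard
open DRing

namespace Groth.Agent.S6945

open Groth.Agent.Lib.Helper36 Groth.Agent.Lib.Helper12 MonoidalCategory

/-- With the definition of tor amplitude: let R be a commutative ring, K an object of D(R) and a, b
integers, and assume the derived tensor product - ⊗^L_R M exists on D(R) for every R-module M. Then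
K is isomorphic in D(R) to a complex of flat R-modules vanishing outside [a, b] if and only if H^i(K
⊗^L_R M) = 0 for every R-module M and every integer i outside [a, b]. -/
theorem result (R : Type u) [CommRing R]
    [∀ M : ModuleCat.{u} R, DRing.HasLTensor R M] (K : Dual.D R) (a b : ℤ) :
    DRing.HasTorAmplitudeIn R a b K ↔
      ∀ (M : ModuleCat.{u} R) (i : ℤ), (i < a ∨ b < i) → Subsingleton (Dual.HD R ((DRing.LTensor R M).obj K) i) := by
  constructor
  · rintro ⟨E, hE, hfl, ⟨e⟩⟩ M i hi
    exact LT.subsingleton_HD_lTensor_of_flat M E b (vanishesAbove_of_vanishesOutside hE) hfl e i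
      (hE i hi)
  · intro h
    -- cohomology of `K` vanishes outside `[a, b]`
    have hK : ∀ i : ℤ, (i < a ∨ b < i) → IsZero ((HF R i).obj K) := by
      intro i hi
      obtain ⟨e⟩ := LT.nonempty_lTensorUnitIso (A := R) K
      have h1 := h (𝟙_ (ModuleCat.{u} R)) i hi
      exact (@ModuleCat.isZero_of_subsingleton _ _ _ h1).of_iso ((HF R i).mapIso e.symm)
    obtain ⟨P, hPb, hPp, ⟨e⟩⟩ := exists_projective_rep K b (fun i hi => hK i (Or.inr hi))
    have : P.IsKProjective := isKProjective_of_vanishesAbove P b hPb hPp
    have hPfl : ∀ j, Module.Flat R (P.X j) := fun j => by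
      have := hPp j
      infer_instance
    have hlow : ∀ i : ℤ, i < a → IsZero ((HF R i).obj (toD P)) := fun i hi =>
      (hK i (Or.inl hi)).of_iso ((HF R i).mapIso e)
    have hop : Module.Flat R (P.opcycles a) := by
      apply LT.flat_opcycles_of_exactAt_tensorCx P a (hPfl a)
      · exact exactAt_of_isZero_HF P (a - 1) (hlow _ (by omega))
      · intro I
        exact LT.exactAt_tensorCx_of_subsingleton _ P e (a - 1) (h _ _ (Or.inl (by omega)))
    obtain ⟨G, hG, hGfl, ⟨e'⟩⟩ := exists_truncGE_rep (flatP R) P a b hPb (fun j _ => hPfl j) hop hlow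
    exact ⟨G, hG, hGfl, ⟨e' ≪≫ e⟩⟩

end Groth.Agent.S6945
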