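import Groth.Statements.S6974
-- import your own Groth.Agent.* helpers here
import Mathlib
import Groth.Agent.Lib.Helper36.LocalGlobalExact
import Groth.Agent.Lib.Helper36.LeftDerivedCompute
import Groth.Agent.Lib.Helper12.DRingTruncRep
import Groth.Agent.Lib.Helper12.DRingTorAmp

set_option autoImplicit false
universe u
open CategoryTheory CategoryTheory.Limits
attribute [local instance] HasDerivedCategory.standard
open DRing

namespace Groth.Agent.S6974

open Groth.Agent.Lib.Helper12 Groth.Agent.Lib.Helper36 Groth.Agent.Lib.Helper36.LT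

/-- The quotient ring, as the restriction of scalars of the regular module over itself. -/
noncomputable def resEquiv (R : Type u) [CommRing R] (m : Ideal R) :
    ((ModuleCat.restrictScalars (Ideal.Quotient.mk m)).obj
      (ModuleCat.of (R ⧸ m) (R ⧸ m))) ≃ₗ[R] (R ⧸ m) where
  toFun x := x
  invFun x := x
  map_add' _ _ := rfl
  map_smul' r x := by
    have key : ∀ y : R ⧸ m, (Ideal.Quotient.mk m r) * y = r • y := by
      intro y
      rw [Algebra.smul_def]
      rfl
    exact key x
  left_inv _ := rfl
  right_inv _ := rfl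

/-- Exactness of the base change to the quotient, concretely. -/
theorem exact_lTensor_of_exactAt (R : Type u) [CommRing R] (m : Ideal R) (E : DRing.Cx R)
    (i j k : ℤ) (hij : i + 1 = j) (hjk : j + 1 = k)
    (h : (((ModuleCat.extendScalars.{u, u, u} (Ideal.Quotient.mk m)).mapHomologicalComplex
      (ComplexShape.up ℤ)).obj E).ExactAt j) :
    Function.Exact (LinearMap.lTensor (R ⧸ m) (E.d i j).hom)
      (LinearMap.lTensor (R ⧸ m) (E.d j k).hom) := by
  rw [HomologicalComplex.exactAt_iff' _ i j k (by simp; omega) (by simp; omega),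
    ShortComplex.ShortExact.moduleCat_exact_iff_function_exact] at h
  exact LocalExact.exact_lTensor_congr (resEquiv R m) _ _ h

/-- Let R be a commutative ring such that the derived base change D(R) → D(R/m) exists for every ideal
m, let K be a pseudo-coherent object of D(R) and a, b integers. If for every maximal ideal m of R
the cohomology H^i(K ⊗^L_R R/m) vanishes for all i outside [a, b], then K is perfect and has tor
amplitude in [a, b]. -/
theorem result (R : Type u) [CommRing R]
    [∀ m : Ideal R, DRing.HasLBaseChange (Ideal.Quotient.mk m)] (K : Dual.D R)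
    (hK : DRing.IsPseudoCoherent' R K) (a b : ℤ)
    (h : ∀ (m : Ideal R), m.IsMaximal → ∀ i : ℤ, (i < a ∨ b < i) →
      Subsingleton (Dual.HD (R ⧸ m) ((DRing.LBaseChange (Ideal.Quotient.mk m)).obj K) i)) :
    DRing.IsPerfect R K ∧ DRing.HasTorAmplitudeIn R a b K := by
  obtain ⟨E, b', hb', hff, ⟨e⟩⟩ := hK
  have hfin : ∀ i, Module.Finite R (E.X i) := fun i => (hff i).1
  have hfree : ∀ i, Module.Free R (E.X i) := fun i => (hff i).2
  have hproj : ∀ i, Module.Projective R (E.X i) := fun i => inferInstance
  have hKP : E.IsKProjective := isKProjective_of_vanishesAbove E b' hb' hproj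
  have hex' : ∀ (m : Ideal R), m.IsMaximal → ∀ i : ℤ, (i < a ∨ b < i) →
      (((ModuleCat.extendScalars.{u, u, u}
      (Ideal.Quotient.mk m)).mapHomologicalComplex (ComplexShape.up ℤ)).obj E).ExactAt i := by
    intro m hm i hi
    have e' : (DRing.LBaseChange (Ideal.Quotient.mk m)).obj K ≅
        DerivedCategory.Q.obj (((ModuleCat.extendScalars.{u, u, u}
          (Ideal.Quotient.mk m)).mapHomologicalComplex (ComplexShape.up ℤ)).obj E) :=
      (DRing.LBaseChange (Ideal.Quotient.mk m)).mapIso e.symm ≪≫
        lBaseChangeObjIso (Ideal.Quotient.mk m) E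
    apply exactAt_of_isZero_HF
    exact (@ModuleCat.isZero_of_subsingleton _ _ _ (h m hm i hi)).of_iso
      ((HF (R ⧸ m) i).mapIso e'.symm)
  have hd0 : ∀ i : ℤ, (E.d i (i + 1)).hom.comp (E.d (i - 1) i).hom = 0 := by
    intro i
    rw [← ModuleCat.hom_comp, E.d_comp_d]
    rfl
  have hexE : ∀ i : ℤ, (i < a ∨ b < i) → E.ExactAt i := by
    intro i hi
    rw [HomologicalComplex.exactAt_iff' _ (i - 1) i (i + 1) (by simp) (by simp),
      ShortComplex.ShortExact.moduleCat_exact_iff_function_exact]
    exact LocalGlobal.exact_of_exact_lTensor_quotient_maximal (E.d (i - 1) i).hom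
      (E.d i (i + 1)).hom (hd0 i) (fun m hm =>
        exact_lTensor_of_exactAt R m E (i - 1) i (i + 1) (by omega) rfl (hex' m hm i hi))
  have hHF : ∀ i : ℤ, (i < a ∨ b < i) → IsZero ((HF R i).obj (toD E)) := by
    intro i hi
    have := hexE i hi
    rw [HomologicalComplex.exactAt_iff_isZero_homology] at this
    exact this.of_iso ((DerivedCategory.homologyFunctorFactors (ModuleCat.{u} R) i).app E)
  have hop : (finiteProjective R).P (E.opcycles a) := by
    have h1 : Module.Projective R ((E.X a) ⧸ LinearMap.range (E.d (a - 1) a).hom) := by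
      have h2 := LocalGlobal.projective_quotient_range (E.d (a - 1 - 1) (a - 1)).hom
        (E.d (a - 1) (a - 1 + 1)).hom (hd0 (a - 1)) (fun m hm =>
          exact_lTensor_of_exactAt R m E (a - 1 - 1) (a - 1) (a - 1 + 1) (by omega) rfl
            (hex' m hm (a - 1) (Or.inl (by omega))))
      have h3 : a - 1 + 1 = a := by omega
      rw [h3] at h2
      exact h2
    have h4 : Module.Finite R ((E.X a) ⧸ LinearMap.range (E.d (a - 1) a).hom) := inferInstance
    exact (finiteProjective R).iso (opcyclesIsoQuot E a).symm ⟨h4, h1⟩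
  obtain ⟨G, hG, hterm, ⟨g⟩⟩ := exists_truncGE_rep (finiteProjective R) E a b' hb'
    (fun j _ => ⟨hfin j, hproj j⟩) hop (fun i hi => hHF i (Or.inl hi))
  obtain ⟨G', hG', hterm', ⟨g'⟩⟩ := exists_truncLE_rep (finiteProjective R)
    finiteProjective_kerClosed G a b' b hG hterm
    (fun i hi => (hHF i (Or.inr hi)).of_iso ((HF R i).mapIso g))
  refine ⟨⟨G', a, b, hG', hterm', ⟨g' ≪≫ g ≪≫ e⟩⟩, ⟨G', hG', ?_, ⟨g' ≪≫ g ≪≫ e⟩⟩⟩
  intro i
  have := (hterm' i).2
  infer_instance

end Groth.Agent.S6974
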