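import Groth.Statements.S7027
-- import your own Groth.Agent.* helpers here
import Mathlib
import Groth.Agent.Lib.Helper36.LTensorHomological
import Groth.Agent.Lib.Helper12.DRingTorAmpClosure
import Groth.Agent.S6945

set_option autoImplicit false
universe u
open CategoryTheory CategoryTheory.Limits
attribute [local instance] HasDerivedCategory.standard
open DRing

namespace Groth.Agent.S7027


open Groth.Agent.Lib.Helper36 Groth.Agent.Lib.Helper12 MonoidalCategory in
/-- Tor amplitude is closed under extensions. -/
theorem hasTorAmplitudeIn_ext (R : Type u) [CommRing R] [∀ M : ModuleCat.{u} R, DRing.HasLTensor R M]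
    (a b : ℤ) (T : Pretriangulated.Triangle (Dual.D R)) (hT : T ∈ Pretriangulated.distinguishedTriangles)
    (h1 : DRing.HasTorAmplitudeIn R a b T.obj₁) (h3 : DRing.HasTorAmplitudeIn R a b T.obj₃) :
    DRing.HasTorAmplitudeIn R a b T.obj₂ := by
  rw [Groth.Agent.S6945.result] at h1 h3 ⊢
  intro M i hi
  have := LT.isHomological_totalLeftDerived_comp_homology (tensorRight M) i
  have hex := (DRing.LTensor R M ⋙ DerivedCategory.homologyFunctor (ModuleCat.{u} R) i).map_distinguished_exact
    T hT
  have hz1 := @ModuleCat.isZero_of_subsingleton _ _ _ (h1 M i hi)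
  have hz3 := @ModuleCat.isZero_of_subsingleton _ _ _ (h3 M i hi)
  exact ModuleCat.subsingleton_of_isZero (hex.isZero_of_both_zeros (hz1.eq_of_src _ _)
    (hz3.eq_of_tgt _ _))

open CategoryTheory.Pretriangulated in
/-- Let R be a commutative ring such that the derived tensor product - ⊗^L_R M exists on D(R) for every
R-module M, let a, b be integers and K → L → M → K[1] a distinguished triangle in D(R). (1) Tor
amplitude of K in [a+1, b+1] together with tor amplitude of L in [a, b] gives tor amplitude of M in
[a, b]. (2) Tor amplitude of both K and M in [a, b] gives tor amplitude of L in [a, b]. (3) Tor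
amplitude of L in [a+1, b+1] together with tor amplitude of M in [a, b] gives tor amplitude of K in
[a+1, b+1]. (Tor amplitude is taken in the flat-representative sense: isomorphic in D(R) to a
complex of flat modules vanishing outside the interval.) -/
theorem result (R : Type u) [CommRing R] [∀ M : ModuleCat.{u} R, DRing.HasLTensor R M] (a b : ℤ)
    (T : Triangle (Dual.D R)) (hT : T ∈ distinguishedTriangles) :
    (DRing.HasTorAmplitudeIn R (a + 1) (b + 1) T.obj₁ → DRing.HasTorAmplitudeIn R a b T.obj₂ →
        DRing.HasTorAmplitudeIn R a b T.obj₃) ∧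
      (DRing.HasTorAmplitudeIn R a b T.obj₁ → DRing.HasTorAmplitudeIn R a b T.obj₃ →
        DRing.HasTorAmplitudeIn R a b T.obj₂) ∧
      (DRing.HasTorAmplitudeIn R (a + 1) (b + 1) T.obj₂ → DRing.HasTorAmplitudeIn R a b T.obj₃ →
        DRing.HasTorAmplitudeIn R (a + 1) (b + 1) T.obj₁) := by
  refine ⟨fun h1 h2 => ?_, fun h1 h3 => hasTorAmplitudeIn_ext R a b T hT h1 h3, fun h2 h3 => ?_⟩
  · have hT' := Pretriangulated.rot_of_distTriang _ hT
    have h1' := Groth.Agent.Lib.Helper12.hasTorAmplitudeIn_shift h1 1
    have e1 : a + 1 - 1 = a := by omega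
    have e2 : b + 1 - 1 = b := by omega
    rw [e1, e2] at h1'
    exact hasTorAmplitudeIn_ext R a b T.rotate hT' h2 h1'
  · have hT' := Pretriangulated.inv_rot_of_distTriang _ hT
    have h3' := Groth.Agent.Lib.Helper12.hasTorAmplitudeIn_shift h3 (-1)
    have e1 : a - -1 = a + 1 := by omega
    have e2 : b - -1 = b + 1 := by omega
    rw [e1, e2] at h3'
    exact hasTorAmplitudeIn_ext R (a + 1) (b + 1) T.invRotate hT' h3' h2

end Groth.Agent.S7027
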