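import Groth.Statements.S3435
-- import your own Groth.Agent.* helpers here

set_option autoImplicit false
universe u
open EGA41

namespace Groth.Agent.S3435


open TensorProduct in
theorem aux_step (Λ A B C : Type u) [CommRing Λ] [CommRing A] [CommRing B] [CommRing C]
    [Algebra Λ A] [Algebra Λ B] [Algebra Λ C] [Algebra A B] [Algebra A C] [Algebra B C]
    [IsScalarTower Λ A B] [IsScalarTower Λ A C] [IsScalarTower Λ B C] [IsScalarTower A B C]
    (α : C ⊗[A] Ω[A⁄Λ]) :
    ∃ β : C ⊗[B] Ω[B⁄Λ], KaehlerDifferential.mapBaseChange Λ B C β =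
        KaehlerDifferential.mapBaseChange Λ A C α ∧
      (KaehlerDifferential.map Λ A B B).baseChange C β = 0 := by
  induction α with
  | zero => exact ⟨0, by simp, by simp⟩
  | tmul c x =>
    refine ⟨c ⊗ₜ KaehlerDifferential.map Λ Λ A B x, ?_, ?_⟩
    · simp only [KaehlerDifferential.mapBaseChange_tmul]
      congr 1
      have h : ((KaehlerDifferential.map Λ Λ B C).restrictScalars A) ∘ₗ
          (KaehlerDifferential.map Λ Λ A B) = KaehlerDifferential.map Λ Λ A C := by
        apply Derivation.liftKaehlerDifferential_unique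
        ext a
        simp [← IsScalarTower.algebraMap_apply]
      exact LinearMap.congr_fun h x
    · simp only [LinearMap.baseChange_tmul]
      have : KaehlerDifferential.map Λ A B B (KaehlerDifferential.map Λ Λ A B x) = 0 := by
        have h1 : KaehlerDifferential.map Λ Λ A B x ∈
            LinearMap.range (KaehlerDifferential.mapBaseChange Λ A B) :=
          ⟨1 ⊗ₜ x, by simp⟩
        rw [KaehlerDifferential.range_mapBaseChange] at h1
        exact h1
      rw [this, TensorProduct.tmul_zero]
  | add a b ha hb =>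
    obtain ⟨β₁, h1, h1'⟩ := ha
    obtain ⟨β₂, h2, h2'⟩ := hb
    exact ⟨β₁ + β₂, by simp [h1, h2], by simp [h1', h2']⟩

open TensorProduct in
theorem aux_square (Λ A B C : Type u) [CommRing Λ] [CommRing A] [CommRing B] [CommRing C]
    [Algebra Λ A] [Algebra Λ B] [Algebra Λ C] [Algebra A B] [Algebra A C] [Algebra B C]
    [IsScalarTower Λ A B] [IsScalarTower Λ A C] [IsScalarTower Λ B C] [IsScalarTower A B C]
    (η : C ⊗[B] Ω[B⁄Λ]) :
    KaehlerDifferential.map Λ A C C (KaehlerDifferential.mapBaseChange Λ B C η) =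
      KaehlerDifferential.mapBaseChange A B C ((KaehlerDifferential.map Λ A B B).baseChange C η) := by
  induction η with
  | zero => simp
  | tmul c x =>
    simp only [KaehlerDifferential.mapBaseChange_tmul, LinearMap.baseChange_tmul, map_smul]
    congr 1
    have h : ((KaehlerDifferential.map Λ A C C).restrictScalars B) ∘ₗ
          (KaehlerDifferential.map Λ Λ B C) =
        ((KaehlerDifferential.map A A B C)) ∘ₗ (KaehlerDifferential.map Λ A B B) := by
      apply Derivation.liftKaehlerDifferential_unique
      ext a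
      simp
    exact LinearMap.congr_fun h x
  | add a b ha hb => simp [ha, hb]

open TensorProduct in
/-- Let Λ → A → B → C be ring homomorphisms. The homomorphism Ω_{B/Λ} ⊗_B C → Ω_{B/A} ⊗_B C maps the
imperfection module Υ_{C/B/Λ} (the kernel of Ω_{B/Λ} ⊗_B C → Ω_{C/Λ}) onto the imperfection module
Υ_{C/B/A} (the kernel of Ω_{B/A} ⊗_B C → Ω_{C/A}): every element of Υ_{C/B/A} is the image of some
element of Υ_{C/B/Λ}. -/
theorem result (Λ A B C : Type u) [CommRing Λ] [CommRing A] [CommRing B] [CommRing C]
    [Algebra Λ A] [Algebra Λ B] [Algebra Λ C] [Algebra A B] [Algebra A C] [Algebra B C]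
    [IsScalarTower Λ A B] [IsScalarTower Λ A C] [IsScalarTower Λ B C] [IsScalarTower A B C] :
    ∀ ω ∈ EGA41.imperfection A B C, ∃ η ∈ EGA41.imperfection Λ B C,
      (KaehlerDifferential.map Λ A B B).baseChange C η = ω := by
  intro ω hω
  have hsurj : Function.Surjective ((KaehlerDifferential.map Λ A B B).baseChange C) :=
    LinearMap.lTensor_surjective _ (KaehlerDifferential.map_surjective Λ A B)
  obtain ⟨η', rfl⟩ := hsurj ω
  have hω' : KaehlerDifferential.mapBaseChange A B C
      ((KaehlerDifferential.map Λ A B B).baseChange C η') = 0 := hω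
  rw [← aux_square] at hω'
  obtain ⟨α, hα⟩ := (KaehlerDifferential.exact_mapBaseChange_map Λ A C _).mp hω'
  obtain ⟨β, hβ1, hβ2⟩ := aux_step Λ A B C α
  refine ⟨η' - β, ?_, ?_⟩
  · show KaehlerDifferential.mapBaseChange Λ B C (η' - β) = 0
    rw [map_sub, hβ1, hα, sub_self]
  · rw [map_sub, hβ2, sub_zero]

end Groth.Agent.S3435
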