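import Groth.Statements.S9561
import Groth.Agent.S0544
import Groth.Agent.Lib.Helper35.EtaleLocal
import Mathlib.RingTheory.AdicCompletion.LocalRing
import Mathlib.RingTheory.AdicCompletion.AsTensorProduct
import Mathlib.RingTheory.Flat.FaithfullyFlat.Algebra

set_option autoImplicit false
universe u
open EtLocal

namespace Groth.Agent.S9561

section Helpers

open IsLocalRing

variable {A B : Type u} [CommRing A] [CommRing B]
    [IsLocalRing A] [IsLocalRing B] [IsNoetherianRing A] [IsNoetherianRing B] [Algebra A B]
    [IsLocalHom (algebraMap A B)]
    (ψ : AdicCompletion (maximalIdeal A) A →+* AdicCompletion (maximalIdeal B) B)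
    (hψ : ψ.comp (algebraMap A (AdicCompletion (maximalIdeal A) A)) =
      (algebraMap B (AdicCompletion (maximalIdeal B) B)).comp (algebraMap A B))

include hψ

/-- F2 -/
lemma map_maximalIdeal_eq :
    (maximalIdeal (AdicCompletion (maximalIdeal A) A)).map ψ =
      ((maximalIdeal A).map (algebraMap A B)).map (algebraMap B (AdicCompletion (maximalIdeal B) B)) := by
  rw [AdicCompletion.maximalIdeal_eq_map, Ideal.map_map, Ideal.map_map, hψ]

/-- F1 -/
lemma map_maximalIdeal_le :
    (maximalIdeal (AdicCompletion (maximalIdeal A) A)).map ψ ≤
      maximalIdeal (AdicCompletion (maximalIdeal B) B) := by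
  rw [map_maximalIdeal_eq ψ hψ, AdicCompletion.maximalIdeal_eq_map (R := B)]
  exact Ideal.map_mono (((IsLocalRing.local_hom_TFAE (algebraMap A B)).out 0 2).mp ‹IsLocalHom (algebraMap A B)›)

lemma isLocalHom_psi : IsLocalHom ψ :=
  ((IsLocalRing.local_hom_TFAE ψ).out 0 2).mpr (map_maximalIdeal_le ψ hψ)


omit hψ in
/-- residue field of the completion -/
noncomputable def resEquiv (R : Type u) [CommRing R] [IsLocalRing R] [IsNoetherianRing R] :
    ResidueField R ≃+* ResidueField (AdicCompletion (maximalIdeal R) R) :=
  RingEquiv.ofBijective _ (AdicCompletion.residueField_map_bijective R)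

lemma resEquiv_compat [Algebra (AdicCompletion (maximalIdeal A) A) (AdicCompletion (maximalIdeal B) B)]
    [IsLocalHom (algebraMap (AdicCompletion (maximalIdeal A) A) (AdicCompletion (maximalIdeal B) B))]
    (halg : algebraMap (AdicCompletion (maximalIdeal A) A) (AdicCompletion (maximalIdeal B) B) = ψ) :
    RingHom.comp (algebraMap (ResidueField (AdicCompletion (maximalIdeal A) A))
        (ResidueField (AdicCompletion (maximalIdeal B) B))) (resEquiv A : _ →+* _) =
      RingHom.comp (resEquiv B : _ →+* _) (algebraMap (ResidueField A) (ResidueField B)) := by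
  ext x
  obtain ⟨x, rfl⟩ := residue_surjective x
  change algebraMap (ResidueField (AdicCompletion (maximalIdeal A) A))
      (ResidueField (AdicCompletion (maximalIdeal B) B))
      (ResidueField.map (algebraMap A (AdicCompletion (maximalIdeal A) A)) (residue A x)) =
    ResidueField.map (algebraMap B (AdicCompletion (maximalIdeal B) B))
      (algebraMap (ResidueField A) (ResidueField B) (residue A x))
  rw [ResidueField.map_residue, ResidueField.algebraMap_residue, ResidueField.algebraMap_residue,
    ResidueField.map_residue, halg]
  exact congrArg _ (RingHom.congr_fun hψ x)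

end Helpers

/-- Let A → B be a local homomorphism of Noetherian local rings with B essentially of finite type over
A, and let ψ be the induced map between the completions of A and B at their maximal ideals (a ring
map of the completions whose composite with A → A^ is A → B → B^; such a map is unique). Then A → B
is an unramified homomorphism of local rings, i.e. m_A B = m_B and the residue field of B is a
finite separable extension of that of A, if and only if ψ is an unramified ring map (of finite type
and formally unramified). (The published statement lists a third equivalent condition, that ψ is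
itself an unramified homomorphism of local rings; this row keeps the two outer ones.) -/
theorem result (A B : Type u) [CommRing A] [CommRing B]
    [IsLocalRing A] [IsLocalRing B] [IsNoetherianRing A] [IsNoetherianRing B] [Algebra A B]
    [IsLocalHom (algebraMap A B)] [Algebra.EssFiniteType A B]
    (ψ : AdicCompletion (IsLocalRing.maximalIdeal A) A →+* AdicCompletion (IsLocalRing.maximalIdeal B) B)
    (hψ : ψ.comp (algebraMap A (AdicCompletion (IsLocalRing.maximalIdeal A) A)) =
      (algebraMap B (AdicCompletion (IsLocalRing.maximalIdeal B) B)).comp (algebraMap A B)) :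
    ((IsLocalRing.maximalIdeal A).map (algebraMap A B) = IsLocalRing.maximalIdeal B ∧
        Module.Finite (IsLocalRing.ResidueField A) (IsLocalRing.ResidueField B) ∧
        Algebra.IsSeparable (IsLocalRing.ResidueField A) (IsLocalRing.ResidueField B)) ↔
      (ψ.FiniteType ∧ ψ.FormallyUnramified) := by
  algebraize [ψ]
  have halg : algebraMap (AdicCompletion (IsLocalRing.maximalIdeal A) A)
      (AdicCompletion (IsLocalRing.maximalIdeal B) B) = ψ := rfl
  haveI : IsLocalHom (algebraMap (AdicCompletion (IsLocalRing.maximalIdeal A) A)
      (AdicCompletion (IsLocalRing.maximalIdeal B) B)) := isLocalHom_psi ψ hψ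
  have hcompat := resEquiv_compat ψ hψ halg
  have hF2 := map_maximalIdeal_eq ψ hψ
  constructor
  · rintro ⟨hm, hfin, hsep⟩
    have hmap' : (IsLocalRing.maximalIdeal (AdicCompletion (IsLocalRing.maximalIdeal A) A)).map
        (algebraMap (AdicCompletion (IsLocalRing.maximalIdeal A) A)
          (AdicCompletion (IsLocalRing.maximalIdeal B) B)) =
        IsLocalRing.maximalIdeal (AdicCompletion (IsLocalRing.maximalIdeal B) B) := by
      rw [halg, hF2, hm, AdicCompletion.maximalIdeal_eq_map]
    have hsep' : Algebra.IsSeparable
        (IsLocalRing.ResidueField (AdicCompletion (IsLocalRing.maximalIdeal A) A))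
        (IsLocalRing.ResidueField (AdicCompletion (IsLocalRing.maximalIdeal B) B)) :=
      Algebra.IsSeparable.of_equiv_equiv (resEquiv A) (resEquiv B) hcompat
    have hfin' : Module.Finite
        (IsLocalRing.ResidueField (AdicCompletion (IsLocalRing.maximalIdeal A) A))
        (IsLocalRing.ResidueField (AdicCompletion (IsLocalRing.maximalIdeal B) B)) :=
      Module.Finite.of_equiv_equiv (resEquiv A) (resEquiv B) hcompat
    have hfinite : Module.Finite (AdicCompletion (IsLocalRing.maximalIdeal A) A)
        (AdicCompletion (IsLocalRing.maximalIdeal B) B) := by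
      have hsmul : ∀ n : ℕ, ((IsLocalRing.maximalIdeal (AdicCompletion (IsLocalRing.maximalIdeal A) A)) ^ n • ⊤ :
          Submodule (AdicCompletion (IsLocalRing.maximalIdeal A) A)
            (AdicCompletion (IsLocalRing.maximalIdeal B) B)) =
          ((IsLocalRing.maximalIdeal (AdicCompletion (IsLocalRing.maximalIdeal B) B)) ^ n).restrictScalars
            (AdicCompletion (IsLocalRing.maximalIdeal A) A) := by
        intro n
        rw [Ideal.smul_top_eq_map, Ideal.map_pow, hmap']
      haveI : IsHausdorff (IsLocalRing.maximalIdeal (AdicCompletion (IsLocalRing.maximalIdeal A) A))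
          (AdicCompletion (IsLocalRing.maximalIdeal B) B) := by
        refine ⟨fun x hx ↦ ?_⟩
        apply IsHausdorff.haus' (I := IsLocalRing.maximalIdeal (AdicCompletion (IsLocalRing.maximalIdeal B) B)) x
        intro n
        have := hx n
        rw [SModEq.zero, hsmul n] at this
        rw [SModEq.zero, smul_eq_mul, Ideal.mul_top]
        exact this
      apply Groth.Agent.S0544.result (AdicCompletion (IsLocalRing.maximalIdeal A) A)
        (IsLocalRing.maximalIdeal (AdicCompletion (IsLocalRing.maximalIdeal A) A))
      have e1 : (IsLocalRing.maximalIdeal (AdicCompletion (IsLocalRing.maximalIdeal A) A) • ⊤ :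
          Submodule (AdicCompletion (IsLocalRing.maximalIdeal A) A)
            (AdicCompletion (IsLocalRing.maximalIdeal B) B)) =
          (IsLocalRing.maximalIdeal (AdicCompletion (IsLocalRing.maximalIdeal B) B)).restrictScalars
            (AdicCompletion (IsLocalRing.maximalIdeal A) A) := by
        rw [Ideal.smul_top_eq_map, hmap']
      have h3 : Module.Finite (AdicCompletion (IsLocalRing.maximalIdeal A) A)
          (IsLocalRing.ResidueField (AdicCompletion (IsLocalRing.maximalIdeal B) B)) :=
        Module.Finite.trans (IsLocalRing.ResidueField (AdicCompletion (IsLocalRing.maximalIdeal A) A)) _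
      let e := (Submodule.quotEquivOfEq _ _ e1).trans
        (Submodule.Quotient.restrictScalarsEquiv (AdicCompletion (IsLocalRing.maximalIdeal A) A)
          (IsLocalRing.maximalIdeal (AdicCompletion (IsLocalRing.maximalIdeal B) B)))
      have h4 : Module.Finite (AdicCompletion (IsLocalRing.maximalIdeal A) A)
          (AdicCompletion (IsLocalRing.maximalIdeal B) B ⧸
            IsLocalRing.maximalIdeal (AdicCompletion (IsLocalRing.maximalIdeal B) B)) := h3
      exact Module.Finite.equiv e.symm
    have hft : Algebra.FiniteType (AdicCompletion (IsLocalRing.maximalIdeal A) A)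
        (AdicCompletion (IsLocalRing.maximalIdeal B) B) := inferInstance
    refine ⟨hft, ?_⟩
    exact Algebra.FormallyUnramified.iff_map_maximalIdeal_eq.mpr ⟨hsep', hmap'⟩
  · rintro ⟨hft, hur⟩
    have hft' : Algebra.FiniteType (AdicCompletion (IsLocalRing.maximalIdeal A) A)
      (AdicCompletion (IsLocalRing.maximalIdeal B) B) := hft
    have hur' : Algebra.FormallyUnramified (AdicCompletion (IsLocalRing.maximalIdeal A) A)
      (AdicCompletion (IsLocalRing.maximalIdeal B) B) := hur
    obtain ⟨hsep', hmap'⟩ := Algebra.FormallyUnramified.iff_map_maximalIdeal_eq.mp hur'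
    have hfin' : Module.Finite (IsLocalRing.ResidueField (AdicCompletion (IsLocalRing.maximalIdeal A) A))
        (IsLocalRing.ResidueField (AdicCompletion (IsLocalRing.maximalIdeal B) B)) :=
      Algebra.FormallyUnramified.finite_of_free _ _
    have hcompat' : RingHom.comp (algebraMap (IsLocalRing.ResidueField A) (IsLocalRing.ResidueField B))
        ((resEquiv A).symm : _ →+* _) = RingHom.comp ((resEquiv B).symm : _ →+* _)
          (algebraMap (IsLocalRing.ResidueField (AdicCompletion (IsLocalRing.maximalIdeal A) A))
            (IsLocalRing.ResidueField (AdicCompletion (IsLocalRing.maximalIdeal B) B))) := by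
      ext x
      simpa [RingEquiv.eq_symm_apply] using (RingHom.ext_iff.mp hcompat ((resEquiv A).symm x)).symm
    refine ⟨?_, ?_, ?_⟩
    · have hff : Module.FaithfullyFlat B (AdicCompletion (IsLocalRing.maximalIdeal B) B) :=
        Module.FaithfullyFlat.of_flat_of_isLocalHom
      have h1 : ((IsLocalRing.maximalIdeal A).map (algebraMap A B)).map
          (algebraMap B (AdicCompletion (IsLocalRing.maximalIdeal B) B)) =
          (IsLocalRing.maximalIdeal B).map (algebraMap B (AdicCompletion (IsLocalRing.maximalIdeal B) B)) := by
        rw [← hF2, ← halg, hmap', AdicCompletion.maximalIdeal_eq_map]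
      rw [← Ideal.comap_map_eq_self_of_faithfullyFlat
        (B := AdicCompletion (IsLocalRing.maximalIdeal B) B) ((IsLocalRing.maximalIdeal A).map (algebraMap A B)),
        h1, Ideal.comap_map_eq_self_of_faithfullyFlat]
    · exact Module.Finite.of_equiv_equiv (resEquiv A).symm (resEquiv B).symm hcompat'
    · exact Algebra.IsSeparable.of_equiv_equiv (resEquiv A).symm (resEquiv B).symm hcompat'

end Groth.Agent.S9561
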