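import Groth.Statements.S9562
import Groth.Agent.S9561
import Groth.Agent.S0543
import Groth.Agent.Lib.Helper6.FlatCancel
import Mathlib.RingTheory.LocalRing.Module
import Mathlib.RingTheory.RingHom.Etale
import Mathlib.RingTheory.AdicCompletion.Noetherian

set_option autoImplicit false
universe u
open EtLocal

namespace Groth.Agent.S9562

section Helpers

open TensorProduct IsLocalRing

lemma rTensor_map_injective {R S M : Type*} [CommRing R] [CommRing S] [Algebra R S]
    [AddCommGroup M] [Module R M] [Module S M] [IsScalarTower R S M] [Module.Flat R M]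
    (I : Ideal R) (J : Ideal S) (hJ : J = I.map (algebraMap R S)) :
    Function.Injective (J.subtype.rTensor M) := by
  subst hJ
  let g : I →ₗ[R] ↥(I.map (algebraMap R S)) :=
    { toFun := fun a => ⟨algebraMap R S a, Ideal.mem_map_of_mem _ a.2⟩
      map_add' := by intros; ext; simp
      map_smul' := by intros; ext; simp [Algebra.smul_def] }
  let θ : I ⊗[R] M →ₗ[R] ↥(I.map (algebraMap R S)) ⊗[S] M :=
    (TensorProduct.mapOfCompatibleSMul S R R ↥(I.map (algebraMap R S)) M) ∘ₗ (g.rTensor M)
  have hθ : ∀ (a : I) (m : M), θ (a ⊗ₜ m) = (g a) ⊗ₜ m := by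
    intro a m
    simp [θ]
  have hle : Submodule.span S ((algebraMap R S) '' (I : Set R)) ≤ I.map (algebraMap R S) := le_of_eq rfl
  have hsurj : Function.Surjective θ := by
    intro x
    induction x using TensorProduct.induction_on with
    | zero => exact ⟨0, map_zero _⟩
    | add x y hx hy =>
      obtain ⟨x', rfl⟩ := hx
      obtain ⟨y', rfl⟩ := hy
      exact ⟨x' + y', map_add _ _ _⟩
    | tmul z m =>
      obtain ⟨w, hw⟩ := z
      have key : ∀ (w : S) (hw : w ∈ Submodule.span S ((algebraMap R S) '' (I : Set R))) (m : M),
          ∃ y, θ y = (⟨w, hle hw⟩ : ↥(I.map (algebraMap R S))) ⊗ₜ[S] m := by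
        intro w hw
        induction hw using Submodule.span_induction with
        | mem w hw =>
          intro m
          obtain ⟨a, ha, rfl⟩ := hw
          exact ⟨(⟨a, ha⟩ : I) ⊗ₜ m, hθ _ _⟩
        | zero =>
          intro m
          refine ⟨0, ?_⟩
          rw [map_zero]
          exact (zero_tmul _ _).symm
        | add w1 w2 h1 h2 ih1 ih2 =>
          intro m
          obtain ⟨y1, hy1⟩ := ih1 m
          obtain ⟨y2, hy2⟩ := ih2 m
          refine ⟨y1 + y2, ?_⟩
          rw [map_add, hy1, hy2, ← add_tmul]
          rfl
        | smul r w h ih =>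
          intro m
          obtain ⟨y, hy⟩ := ih (r • m)
          refine ⟨y, ?_⟩
          rw [hy, ← smul_tmul]
          rfl
      exact key w hw m
  have hcompat : ∀ y, TensorProduct.lid S M (((I.map (algebraMap R S)).subtype.rTensor M) (θ y)) =
      TensorProduct.lid R M ((I.subtype.rTensor M) y) := by
    intro y
    induction y using TensorProduct.induction_on with
    | zero => simp
    | add x y hx hy => simp only [map_add, hx, hy]
    | tmul a m =>
      rw [hθ]
      simp [g]
  have hinj : Function.Injective (I.subtype.rTensor M) :=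
    Module.Flat.rTensor_preserves_injective_linearMap I.subtype Subtype.val_injective
  rw [injective_iff_map_eq_zero]
  intro x hx
  obtain ⟨y, rfl⟩ := hsurj x
  have h1 := hcompat y
  rw [hx, map_zero] at h1
  have h2 : (I.subtype.rTensor M) y = 0 := (TensorProduct.lid R M).injective (by rw [← h1, map_zero])
  have h3 : y = 0 := hinj (by rw [h2, map_zero])
  rw [h3, map_zero]

lemma finite_of_map_maximalIdeal_eq {R S : Type u} [CommRing R] [CommRing S] [IsLocalRing R]
    [IsLocalRing S] [IsNoetherianRing S] [Algebra R S] [IsLocalHom (algebraMap R S)]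
    [IsAdicComplete (maximalIdeal R) R]
    (hmap : (maximalIdeal R).map (algebraMap R S) = maximalIdeal S)
    [Module.Finite (ResidueField R) (ResidueField S)] : Module.Finite R S := by
  have hsmul : ∀ n : ℕ, ((maximalIdeal R) ^ n • ⊤ : Submodule R S) =
      ((maximalIdeal S) ^ n).restrictScalars R := by
    intro n
    rw [Ideal.smul_top_eq_map, Ideal.map_pow, hmap]
  have : IsHausdorff (maximalIdeal S) S := IsHausdorff.of_isLocalRing (maximalIdeal S) S (maximalIdeal.isMaximal S).ne_top
  have : IsHausdorff (maximalIdeal R) S := by
    refine ⟨fun x hx ↦ ?_⟩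
    apply IsHausdorff.haus' (I := maximalIdeal S) x
    intro n
    have := hx n
    rw [SModEq.zero, hsmul n] at this
    rw [SModEq.zero, smul_eq_mul, Ideal.mul_top]
    exact this
  apply Groth.Agent.S0544.result R (maximalIdeal R)
  have e1 : (maximalIdeal R • ⊤ : Submodule R S) = (maximalIdeal S).restrictScalars R := by
    rw [Ideal.smul_top_eq_map, hmap]
  have h3 : Module.Finite R (ResidueField S) := Module.Finite.trans (ResidueField R) _
  let e := (Submodule.quotEquivOfEq _ _ e1).trans
    (Submodule.Quotient.restrictScalarsEquiv R (maximalIdeal S))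
  have h4 : Module.Finite R (S ⧸ maximalIdeal S) := h3
  exact Module.Finite.equiv e.symm

end Helpers

/-- Let A → B be a local homomorphism of Noetherian local rings with B essentially of finite type over
A, and let ψ be the induced map between the completions of A and B at their maximal ideals (a ring
map of the completions whose composite with A → A^ is A → B → B^; such a map is unique). Then A → B
is an étale homomorphism of local rings, i.e. B is flat over A, m_A B = m_B and the residue field of
B is a finite separable extension of that of A, if and only if ψ is an étale ring map; moreover in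
that case the completion of B is, through ψ, a free module of finite positive rank over the
completion of A. (The published statement lists a third equivalent condition, that ψ is itself an
étale homomorphism of local rings; this row keeps the two outer ones.) -/
theorem result (A B : Type u) [CommRing A] [CommRing B]
    [IsLocalRing A] [IsLocalRing B] [IsNoetherianRing A] [IsNoetherianRing B] [Algebra A B]
    [IsLocalHom (algebraMap A B)] [Algebra.EssFiniteType A B]
    (ψ : AdicCompletion (IsLocalRing.maximalIdeal A) A →+* AdicCompletion (IsLocalRing.maximalIdeal B) B)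
    (hψ : ψ.comp (algebraMap A (AdicCompletion (IsLocalRing.maximalIdeal A) A)) =
      (algebraMap B (AdicCompletion (IsLocalRing.maximalIdeal B) B)).comp (algebraMap A B)) :
    ((Module.Flat A B ∧ (IsLocalRing.maximalIdeal A).map (algebraMap A B) = IsLocalRing.maximalIdeal B ∧
        Module.Finite (IsLocalRing.ResidueField A) (IsLocalRing.ResidueField B) ∧
        Algebra.IsSeparable (IsLocalRing.ResidueField A) (IsLocalRing.ResidueField B)) ↔ ψ.Etale) ∧
      (ψ.Etale →
        letI := ψ.toAlgebra
        ∃ n : ℕ, 0 < n ∧
          Nonempty ((Fin n → AdicCompletion (IsLocalRing.maximalIdeal A) A) ≃ₗ[AdicCompletion (IsLocalRing.maximalIdeal A) A]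
            AdicCompletion (IsLocalRing.maximalIdeal B) B)) := by
  algebraize [ψ]
  have halg : algebraMap (AdicCompletion (IsLocalRing.maximalIdeal A) A)
      (AdicCompletion (IsLocalRing.maximalIdeal B) B) = ψ := rfl
  have : IsLocalHom (algebraMap (AdicCompletion (IsLocalRing.maximalIdeal A) A)
      (AdicCompletion (IsLocalRing.maximalIdeal B) B)) := Groth.Agent.S9561.isLocalHom_psi ψ hψ
  have : IsNoetherianRing (AdicCompletion (IsLocalRing.maximalIdeal A) A) :=
    Groth.Agent.S0543.result A _
  have : IsNoetherianRing (AdicCompletion (IsLocalRing.maximalIdeal B) B) :=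
    Groth.Agent.S0543.result B _
  have hunr := Groth.Agent.S9561.result A B ψ hψ
  have : IsScalarTower A (AdicCompletion (IsLocalRing.maximalIdeal A) A)
      (AdicCompletion (IsLocalRing.maximalIdeal B) B) := by
    apply IsScalarTower.of_algebraMap_eq
    intro x
    rw [halg]
    exact (RingHom.congr_fun hψ x).symm
  -- finiteness + freeness from the conditions
  have hfree : (Module.Flat A B ∧ (IsLocalRing.maximalIdeal A).map (algebraMap A B) = IsLocalRing.maximalIdeal B ∧
        Module.Finite (IsLocalRing.ResidueField A) (IsLocalRing.ResidueField B) ∧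
        Algebra.IsSeparable (IsLocalRing.ResidueField A) (IsLocalRing.ResidueField B)) →
      Module.Finite (AdicCompletion (IsLocalRing.maximalIdeal A) A)
        (AdicCompletion (IsLocalRing.maximalIdeal B) B) ∧
      Module.Free (AdicCompletion (IsLocalRing.maximalIdeal A) A)
        (AdicCompletion (IsLocalRing.maximalIdeal B) B) ∧ ψ.FiniteType ∧ ψ.FormallyUnramified := by
    rintro ⟨hflat, hm, hfin, hsep⟩
    obtain ⟨hft, hur⟩ := hunr.mp ⟨hm, hfin, hsep⟩
    have hft' : Algebra.FiniteType (AdicCompletion (IsLocalRing.maximalIdeal A) A)
      (AdicCompletion (IsLocalRing.maximalIdeal B) B) := hft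
    have hur' : Algebra.FormallyUnramified (AdicCompletion (IsLocalRing.maximalIdeal A) A)
      (AdicCompletion (IsLocalRing.maximalIdeal B) B) := hur
    obtain ⟨hsep', hmap'⟩ := Algebra.FormallyUnramified.iff_map_maximalIdeal_eq.mp hur'
    have : Module.Finite (IsLocalRing.ResidueField (AdicCompletion (IsLocalRing.maximalIdeal A) A))
        (IsLocalRing.ResidueField (AdicCompletion (IsLocalRing.maximalIdeal B) B)) :=
      Algebra.FormallyUnramified.finite_of_free _ _
    have hfinite : Module.Finite (AdicCompletion (IsLocalRing.maximalIdeal A) A)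
        (AdicCompletion (IsLocalRing.maximalIdeal B) B) := finite_of_map_maximalIdeal_eq hmap'
    have : Module.Flat A (AdicCompletion (IsLocalRing.maximalIdeal B) B) :=
      Module.Flat.trans A B _
    have hinj := rTensor_map_injective (R := A) (S := AdicCompletion (IsLocalRing.maximalIdeal A) A)
      (M := AdicCompletion (IsLocalRing.maximalIdeal B) B) (IsLocalRing.maximalIdeal A)
      (IsLocalRing.maximalIdeal (AdicCompletion (IsLocalRing.maximalIdeal A) A))
      (AdicCompletion.maximalIdeal_eq_map (R := A))
    have : Module.FinitePresentation (AdicCompletion (IsLocalRing.maximalIdeal A) A)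
        (AdicCompletion (IsLocalRing.maximalIdeal B) B) := Module.finitePresentation_of_finite _ _
    exact ⟨hfinite, Module.free_of_maximalIdeal_rTensor_injective hinj, hft, hur⟩
  have hback : ψ.Etale → (Module.Flat A B ∧ (IsLocalRing.maximalIdeal A).map (algebraMap A B) = IsLocalRing.maximalIdeal B ∧
        Module.Finite (IsLocalRing.ResidueField A) (IsLocalRing.ResidueField B) ∧
        Algebra.IsSeparable (IsLocalRing.ResidueField A) (IsLocalRing.ResidueField B)) := by
    intro het
    obtain ⟨hfl, hur, hfp⟩ := RingHom.Etale.iff_flat_and_formallyUnramified.mp het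
    have hft : ψ.FiniteType := RingHom.FiniteType.of_finitePresentation hfp
    obtain ⟨hm, hfin, hsep⟩ := hunr.mpr ⟨hft, hur⟩
    refine ⟨?_, hm, hfin, hsep⟩
    have : Module.Flat (AdicCompletion (IsLocalRing.maximalIdeal A) A)
      (AdicCompletion (IsLocalRing.maximalIdeal B) B) := hfl
    have : Module.Flat A (AdicCompletion (IsLocalRing.maximalIdeal B) B) :=
      Module.Flat.trans A (AdicCompletion (IsLocalRing.maximalIdeal A) A) _
    have : Module.FaithfullyFlat B (AdicCompletion (IsLocalRing.maximalIdeal B) B) :=
      Module.FaithfullyFlat.of_flat_of_isLocalHom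
    exact Groth.Agent.Lib.Helper6.flat_of_flat_of_factor_faithfullyFlat (A := A) (B := B)
      (C := AdicCompletion (IsLocalRing.maximalIdeal B) B)
      (D := AdicCompletion (IsLocalRing.maximalIdeal B) B)
  refine ⟨⟨fun h ↦ ?_, hback⟩, fun het ↦ ?_⟩
  · obtain ⟨hfinite, hfr, hft, hur⟩ := hfree h
    rw [RingHom.Etale.iff_flat_and_formallyUnramified]
    refine ⟨?_, hur, ?_⟩
    · show Module.Flat (AdicCompletion (IsLocalRing.maximalIdeal A) A)
        (AdicCompletion (IsLocalRing.maximalIdeal B) B)
      infer_instance
    · have hft' : Algebra.FiniteType (AdicCompletion (IsLocalRing.maximalIdeal A) A)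
        (AdicCompletion (IsLocalRing.maximalIdeal B) B) := hft
      exact Algebra.FinitePresentation.of_finiteType.mp hft'
  · obtain ⟨hfinite, hfr, hft, hur⟩ := hfree (hback het)
    have hn : 0 < Module.finrank (AdicCompletion (IsLocalRing.maximalIdeal A) A)
        (AdicCompletion (IsLocalRing.maximalIdeal B) B) := by
      rw [Module.finrank_pos_iff_of_free]
      infer_instance
    exact ⟨_, hn, ⟨(Module.finBasis (AdicCompletion (IsLocalRing.maximalIdeal A) A)
        (AdicCompletion (IsLocalRing.maximalIdeal B) B)).equivFun.symm⟩⟩

end Groth.Agent.S9562
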