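import Groth.Statements.S5151
import Mathlib.RingTheory.Depth.Rees

set_option autoImplicit false
universe u
open LocCoh

namespace Groth.Agent.S5151


open RingTheory.Sequence CategoryTheory Abelian

section
variable {A : Type u} [CommRing A]

theorem ofList_le {I : Ideal A} {rs : List A} (h : ∀ r ∈ rs, r ∈ I) : Ideal.ofList rs ≤ I :=
  Ideal.span_le.mpr fun r hr => h r hr

theorem ofList_smul_ne_top {I : Ideal A} {M : Type u} [AddCommGroup M] [Module A M]
    (hIM : I • (⊤ : Submodule A M) ≠ ⊤) {rs : List A} (h : ∀ r ∈ rs, r ∈ I) :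
    Ideal.ofList rs • (⊤ : Submodule A M) ≠ ⊤ := by
  intro h1
  apply hIM
  have h2 : Ideal.ofList rs • (⊤ : Submodule A M) ≤ I • ⊤ := Submodule.smul_mono (ofList_le h) le_rfl
  exact eq_top_iff.mpr (h1.ge.trans h2)

theorem ofList_lt {I : Ideal A} {M : Type u} [AddCommGroup M] [Module A M]
    (hIM : I • (⊤ : Submodule A M) ≠ ⊤) {rs : List A} (h : ∀ r ∈ rs, r ∈ I) {r : A}
    (hreg : IsWeaklyRegular M (rs ++ [r])) :
    Ideal.ofList rs < Ideal.ofList (rs ++ [r]) := by
  rw [Ideal.ofList_append]
  refine lt_of_le_of_ne le_sup_left ?_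
  intro heq
  have hr : r ∈ Ideal.ofList rs := by
    rw [heq]
    exact Ideal.mem_sup_right (Ideal.subset_span (by simp))
  rw [isWeaklyRegular_append_iff, isWeaklyRegular_singleton_iff] at hreg
  have hsub : Subsingleton (M ⧸ (Ideal.ofList rs • ⊤ : Submodule A M)) := by
    refine ⟨fun x y => ?_⟩
    apply hreg.2
    induction x using Submodule.Quotient.induction_on with
    | _ x =>
    induction y using Submodule.Quotient.induction_on with
    | _ y =>
    show r • Submodule.Quotient.mk x = r • Submodule.Quotient.mk y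
    rw [← Submodule.Quotient.mk_smul, ← Submodule.Quotient.mk_smul, Submodule.Quotient.eq, ← smul_sub]
    exact Submodule.smul_mem_smul hr trivial
  exact ofList_smul_ne_top hIM h (Submodule.Quotient.subsingleton_iff.mp hsub)

theorem smul_top_quotSMulTop_ne_top {M : Type u} [AddCommGroup M]
    [Module A M] {I : Ideal A} {r : A} (hr : r ∈ I)
    (hI : I • (⊤ : Submodule A M) ≠ ⊤) :
    I • (⊤ : Submodule A (QuotSMulTop r M)) ≠ ⊤ := by
  by_contra eq
  absurd congrArg (Submodule.comap (Submodule.mkQ _)) eq
  simpa [Submodule.comap_smul_top_of_surjective I _ (Submodule.mkQ_surjective _),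
    Submodule.smul_mono_left ((Ideal.span_singleton_le_iff_mem I).mpr hr),
    ← Submodule.ideal_span_singleton_smul] using hI

theorem exists_maximal_extension [IsNoetherianRing A] (I : Ideal A) (M : Type u) [AddCommGroup M]
    [Module A M] (hIM : I • (⊤ : Submodule A M) ≠ ⊤) :
    ∀ (J : Ideal A) (rs : List A), Ideal.ofList rs = J → IsWeaklyRegular M rs → (∀ r ∈ rs, r ∈ I) →
      ∃ rs' : List A, rs <+: rs' ∧ IsWeaklyRegular M rs' ∧ (∀ r ∈ rs', r ∈ I) ∧
        ∀ r ∈ I, ¬ IsWeaklyRegular M (rs' ++ [r]) := by
  intro J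
  induction J using WellFoundedGT.induction with
  | ind J ih =>
    intro rs hJ hreg hmem
    by_cases hmax : ∀ r ∈ I, ¬ IsWeaklyRegular M (rs ++ [r])
    · exact ⟨rs, List.prefix_refl _, hreg, hmem, hmax⟩
    · push Not at hmax
      obtain ⟨r, hrI, hr⟩ := hmax
      have hlt := ofList_lt hIM hmem hr
      have hmem' : ∀ x ∈ rs ++ [r], x ∈ I := by
        intro x hx
        rcases List.mem_append.mp hx with h | h
        · exact hmem x h
        · simp at h; rw [h]; exact hrI
      obtain ⟨rs', hpre, h1, h2, h3⟩ := ih (Ideal.ofList (rs ++ [r])) (hJ ▸ hlt) (rs ++ [r]) rfl hr hmem'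
      exact ⟨rs', (List.prefix_append rs [r]).trans hpre, h1, h2, h3⟩

theorem support_quotient (I : Ideal A) :
    Module.support A (A ⧸ I) = PrimeSpectrum.zeroLocus (I : Set A) := by
  rw [Module.support_eq_zeroLocus, Ideal.annihilator_quotient]

theorem key [IsNoetherianRing A] (I : Ideal A) :
    ∀ (n : ℕ) (M : Type u) [AddCommGroup M] [Module A M] [Module.Finite A M]
      (_ : I • (⊤ : Submodule A M) ≠ ⊤) (rs : List A), rs.length = n → IsWeaklyRegular M rs →
      (∀ r ∈ rs, r ∈ I) →
      (∀ i ≤ n, Subsingleton (Ext (ModuleCat.of A (A ⧸ I)) (ModuleCat.of A M) i)) →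
      ∃ r ∈ I, IsWeaklyRegular M (rs ++ [r]) := by
  intro n
  induction n with
  | zero =>
    intro M _ _ _ hIM rs len hreg hmem hext
    have hrs : rs = [] := List.length_eq_zero_iff.mp len
    subst hrs
    obtain ⟨rs₁, hlen, hmem₁, hreg₁⟩ :=
      ModuleCat.exists_isRegular_of_exists_subsingleton_ext I 1 (ModuleCat.of A M)
        (lt_top_iff_ne_top.mpr hIM) (ModuleCat.of A (A ⧸ I)) (support_quotient I)
        (fun i hi => hext i (by omega))
    match rs₁, hlen with
    | [r], _ =>
      exact ⟨r, hmem₁ r (by simp), by simpa using hreg₁.toIsWeaklyRegular⟩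
  | succ n ih =>
    intro M _ _ _ hIM rs len hreg hmem hext
    match rs, len with
    | a :: rs', len =>
      simp only [List.length_cons, Nat.add_left_inj] at len
      rw [isWeaklyRegular_cons_iff] at hreg
      simp only [List.mem_cons, forall_eq_or_imp] at hmem
      have hIM₁ := smul_top_quotSMulTop_ne_top hmem.1 hIM
      have hext₁ : ∀ i ≤ n, Subsingleton
          (Ext (ModuleCat.of A (A ⧸ I)) (ModuleCat.of A (QuotSMulTop a M)) i) := by
        intro i hi
        have hS := hreg.1.smulShortComplex_shortExact (M := ModuleCat.of A M)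
        have hs₂ : Subsingleton (Ext (ModuleCat.of A (A ⧸ I))
            ((ModuleCat.of A M).smulShortComplex a).X₂ i) := hext i (by omega)
        have hs₁ : Subsingleton (Ext (ModuleCat.of A (A ⧸ I))
            ((ModuleCat.of A M).smulShortComplex a).X₁ (i + 1)) := hext (i + 1) (by omega)
        refine ⟨fun x y => ?_⟩
        have hx : ∀ z : Ext (ModuleCat.of A (A ⧸ I))
            ((ModuleCat.of A M).smulShortComplex a).X₃ i, z = 0 := by
          intro z
          obtain ⟨z₂, hz₂⟩ := Ext.covariant_sequence_exact₃ (ModuleCat.of A (A ⧸ I)) hS z rfl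
            (Subsingleton.elim _ _)
          rw [← hz₂, Subsingleton.elim z₂ 0, Ext.zero_comp]
        exact (hx x).trans (hx y).symm
      obtain ⟨r, hrI, hr⟩ := ih (QuotSMulTop a M) hIM₁ rs' len hreg.2 hmem.2 hext₁
      refine ⟨r, hrI, ?_⟩
      rw [List.cons_append, isWeaklyRegular_cons_iff]
      exact ⟨hreg.1, hr⟩

end

/-- Let A be a Noetherian ring, I an ideal and M a finite A-module with IM ≠ M. Every weakly M-regular
sequence of elements of I can be extended to a maximal one (one after which no element of I is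
M-regular on the quotient), and any maximal weakly M-regular sequence of elements of I has length
equal to the I-depth of M. (The published statement does not assume IM ≠ M; without it the first
assertion fails: over ℤ with I = (2) and M = ℤ/3 the element 2 is M-regular with M/2M = 0, after
which every element of I is regular on the zero module, so no weakly M-regular sequence of elements
of I is maximal, while the I-depth is infinite. With IM ≠ M every weakly M-regular sequence in I is
M-regular and the I-depth is finite.) -/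
theorem result (A : Type u) [CommRing A] [IsNoetherianRing A] (I : Ideal A) (M : Type u) [AddCommGroup M] [Module A M] [Module.Finite A M] (hIM : I • (⊤ : Submodule A M) ≠ ⊤) : (∀ rs : List A, RingTheory.Sequence.IsWeaklyRegular M rs → (∀ r ∈ rs, r ∈ I) → ∃ rs' : List A, rs <+: rs' ∧ RingTheory.Sequence.IsWeaklyRegular M rs' ∧ (∀ r ∈ rs', r ∈ I) ∧ ∀ r ∈ I, ¬ RingTheory.Sequence.IsWeaklyRegular M (rs' ++ [r])) ∧ (∀ rs : List A, RingTheory.Sequence.IsWeaklyRegular M rs → (∀ r ∈ rs, r ∈ I) → (∀ r ∈ I, ¬ RingTheory.Sequence.IsWeaklyRegular M (rs ++ [r])) → (rs.length : ℕ∞) = LocCoh.idealDepth I M) := by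
  refine ⟨fun rs hreg hmem => exists_maximal_extension I M hIM _ rs rfl hreg hmem, ?_⟩
  intro rs hreg hmem hmax
  unfold LocCoh.idealDepth
  rw [if_neg hIM]
  apply le_antisymm
  · exact le_iSup₂_of_le rs ⟨hreg, hmem⟩ le_rfl
  · refine iSup₂_le fun rs₂ h₂ => ?_
    by_contra hlt
    push Not at hlt
    have hlt' : rs.length < rs₂.length := by exact_mod_cast hlt
    set rs₃ := rs₂.take (rs.length + 1) with hrs₃
    have hlen₃ : rs₃.length = rs.length + 1 := by
      rw [hrs₃, List.length_take]; omega
    have hreg₃ : RingTheory.Sequence.IsWeaklyRegular M rs₃ := by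
      have := h₂.1
      rw [← List.take_append_drop (rs.length + 1) rs₂,
        RingTheory.Sequence.isWeaklyRegular_append_iff] at this
      exact this.1
    have hmem₃ : ∀ r ∈ rs₃, r ∈ I := fun r hr => h₂.2 r (List.mem_of_mem_take hr)
    have hR₃ : RingTheory.Sequence.IsRegular M rs₃ :=
      ⟨hreg₃, (ofList_smul_ne_top hIM hmem₃).symm⟩
    have hext := ModuleCat.subsingleton_ext_of_exists_isRegular I (ModuleCat.of A (A ⧸ I))
      (support_quotient I).subset (ModuleCat.of A M) (lt_top_iff_ne_top.mpr hIM) rs₃ hmem₃ hR₃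
    obtain ⟨r, hrI, hr⟩ := key I rs.length M hIM rs rfl hreg hmem
      (fun i hi => hext i (by omega))
    exact hmax r hrI hr

end Groth.Agent.S5151
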