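import Groth.Statements.S0318
-- import your own Groth.Agent.* helpers here
import Groth.Agent.Lib.Helper41.LC0
import Groth.Agent.S5150
import Groth.Agent.S5151

set_option autoImplicit false
universe u v
open LocCoh

namespace Groth.Agent.S0318


open Groth.Agent.Lib.Helper41.LC CategoryTheory CategoryTheory.Abelian in
/-- Vanishing below the length of a regular sequence. -/
theorem vanish_below {R : Type u} [CommRing R] (I : Ideal R) (M : Type u) [AddCommGroup M] [Module R M]
    (rs : List R) (hreg : RingTheory.Sequence.IsWeaklyRegular M rs) (hI : ∀ r ∈ rs, r ∈ I)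
    (i : ℕ) (hi : i < rs.length) : Subsingleton (LocCoh.H I i M) := by
  refine ⟨fun x y => ?_⟩
  obtain ⟨n, e, rfl⟩ := exists_rep (I := I) (i := i) (M := ModuleCat.of R M) x
  obtain ⟨n', e', rfl⟩ := exists_rep (I := I) (i := i) (M := ModuleCat.of R M) y
  have hq : ∀ k : ℕ, (I ^ k) • (⊤ : Submodule R (R ⧸ I ^ k)) = ⊥ := by
    intro k
    rw [eq_bot_iff, Submodule.smul_le]
    intro a ha y _
    obtain ⟨y, rfl⟩ := Submodule.Quotient.mk_surjective _ y
    rw [Submodule.mem_bot, ← Submodule.Quotient.mk_smul, Submodule.Quotient.mk_eq_zero, smul_eq_mul]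
    exact (I ^ k).mul_mem_right y ha
  have h1 := Groth.Agent.S5150.result R I M (R ⧸ I ^ n) rs hreg hI n (hq n) i hi
  have h2 := Groth.Agent.S5150.result R I M (R ⧸ I ^ n') rs hreg hI n' (hq n') i hi
  rw [Subsingleton.elim e 0, Subsingleton.elim e' 0, map_zero, map_zero]


open CategoryTheory CategoryTheory.Abelian in
theorem precomp_epi_eq_zero {R : Type u} [CommRing R] {X Y M : ModuleCat.{u} R} (g : X ⟶ Y) [Epi g] (t : ℕ)
    (ht : t = 0) (e : Ext.{u} Y M t) (h0 : (Ext.mk₀ g).comp e (zero_add t) = 0) : e = 0 := by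
  subst ht
  apply Ext.precomp_mk₀_injective_of_epi M g
  rw [map_zero]
  exact h0

open Groth.Agent.Lib.Helper41.LC CategoryTheory CategoryTheory.Abelian in
/-- Non-vanishing at the length of a maximal regular sequence. -/
theorem nonvanish_at {R : Type u} [CommRing R] [IsNoetherianRing R] (I : Ideal R) (M : Type u) [AddCommGroup M]
    [Module R M] [Module.Finite R M] (hIM : I • (⊤ : Submodule R M) ≠ ⊤)
    (rs : List R) (hreg : RingTheory.Sequence.IsWeaklyRegular M rs) (hI : ∀ r ∈ rs, r ∈ I)
    (hmax : ∀ r ∈ I, ¬ RingTheory.Sequence.IsWeaklyRegular M (rs ++ [r])) :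
    Nontrivial (LocCoh.H I rs.length M) := by
  -- killed-by-power facts
  have hq1 : (I ^ 1) • (⊤ : Submodule R (R ⧸ I)) = ⊥ := by
    rw [eq_bot_iff, Submodule.smul_le]
    intro a ha y _
    obtain ⟨y, rfl⟩ := Submodule.Quotient.mk_surjective _ y
    rw [Submodule.mem_bot, ← Submodule.Quotient.mk_smul, Submodule.Quotient.mk_eq_zero, smul_eq_mul]
    rw [pow_one] at ha
    exact I.mul_mem_right y ha
  -- step 1: Ext^t(R/I, M) ≠ 0
  have hne : ¬ Subsingleton (Ext.{u} (ModuleCat.of R (R ⧸ I)) (ModuleCat.of R M) rs.length) := by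
    intro hsub
    obtain ⟨r, hrI, hr⟩ := Groth.Agent.S5151.key I rs.length M hIM rs rfl hreg hI (by
      intro i hi
      rcases Nat.lt_or_eq_of_le hi with h | h
      · exact Groth.Agent.S5150.result R I M (R ⧸ I) rs hreg hI 1 hq1 i h
      · rw [h]; exact hsub)
    exact hmax r hrI hr
  rw [not_subsingleton_iff_nontrivial] at hne
  obtain ⟨e₀, he₀⟩ := exists_ne (0 : Ext.{u} (ModuleCat.of R (R ⧸ I)) (ModuleCat.of R M) rs.length)
  -- step 2: transport to Q I 1
  let φ : Q I 1 ≅ ModuleCat.of R (R ⧸ I) := (Submodule.quotEquivOfEq (I ^ 1) I (pow_one I)).toModuleIso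
  let e : Ext.{u} (Q I 1) (ModuleCat.of R M) rs.length := (Ext.mk₀ φ.hom).comp e₀ (zero_add _)
  have he : e ≠ 0 := by
    intro h0
    apply he₀
    have : e₀ = (Ext.mk₀ φ.inv).comp e (zero_add _) := by
      simp only [e]
      rw [← Ext.comp_assoc_of_second_deg_zero, Ext.mk₀_comp_mk₀, Iso.inv_hom_id, Ext.mk₀_id_comp]
    rw [this, h0, Ext.comp_zero]
  -- step 3: the class of e in the colimit is nonzero
  refine ⟨⟨ιH I rs.length (ModuleCat.of R M) 1 e, 0, ?_⟩⟩
  intro hzero
  rw [ιH_eq_zero_iff] at hzero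
  obtain ⟨m, hm, h0⟩ := hzero
  apply he
  have hsurj : Function.Surjective (proj I hm).hom := by
    intro y
    obtain ⟨y, rfl⟩ := Submodule.Quotient.mk_surjective _ y
    exact ⟨Submodule.Quotient.mk y, rfl⟩
  have hS := LinearMap.shortExact_shortComplexKer hsurj
  have hker : (I ^ m) • (⊤ : Submodule R (LinearMap.ker (proj I hm).hom)) = ⊥ := by
    rw [eq_bot_iff, Submodule.smul_le]
    rintro a ha ⟨y, hy⟩ _
    obtain ⟨y, rfl⟩ := Submodule.Quotient.mk_surjective _ y
    rw [Submodule.mem_bot]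
    apply Subtype.ext
    change a • (Submodule.Quotient.mk y : R ⧸ I ^ m) = 0
    rw [← Submodule.Quotient.mk_smul, Submodule.Quotient.mk_eq_zero, smul_eq_mul]
    exact (I ^ m).mul_mem_right y ha
  rcases Nat.eq_zero_or_pos rs.length with hlen | hlen
  · -- degree zero
    have : Epi (proj I hm) := (ModuleCat.epi_iff_surjective _).2 hsurj
    exact precomp_epi_eq_zero (proj I hm) _ hlen e h0
  · obtain ⟨n₀, hn₀⟩ : ∃ n₀, 1 + n₀ = rs.length := ⟨rs.length - 1, by omega⟩
    obtain ⟨x₁, hx₁⟩ := Ext.contravariant_sequence_exact₃ hS (ModuleCat.of R M) e h0 hn₀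
    have hsub := Groth.Agent.S5150.result R I M (LinearMap.ker (proj I hm).hom) rs hreg hI m hker n₀ (by omega)
    rw [← hx₁, Subsingleton.elim x₁ 0, Ext.comp_zero]

/-- Part (1): =(3): for a finite module M over a Noetherian ring and an ideal I with IM ≠ M, the I-depth
of M is the least degree in which the local cohomology of M with support in I is nonzero. -/
theorem result (R : Type u) [CommRing R] [IsNoetherianRing R] (I : Ideal R) (M : Type u) [AddCommGroup M] [Module R M] [Module.Finite R M] (hIM : I • (⊤ : Submodule R M) ≠ ⊤) (n : ℕ) : LocCoh.idealDepth I M = n ↔ ((∀ i : ℕ, i < n → Subsingleton (LocCoh.H I i M)) ∧ Nontrivial (LocCoh.H I n M)) := by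
  obtain ⟨hext, hlen⟩ := Groth.Agent.S5151.result R I M hIM
  obtain ⟨rs, -, hreg, hI, hmax⟩ := hext [] (RingTheory.Sequence.IsWeaklyRegular.nil R M) (by simp)
  have ht : (rs.length : ℕ∞) = LocCoh.idealDepth I M := hlen rs hreg hI hmax
  have hA : ∀ i : ℕ, i < rs.length → Subsingleton (LocCoh.H I i M) :=
    fun i hi => vanish_below I M rs hreg hI i hi
  have hB : Nontrivial (LocCoh.H I rs.length M) := nonvanish_at I M hIM rs hreg hI hmax
  constructor
  · intro h
    have : rs.length = n := by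
      rw [← ht] at h
      exact_mod_cast h
    subst this
    exact ⟨hA, hB⟩
  · rintro ⟨h1, h2⟩
    rw [← ht]
    have : rs.length = n := by
      rcases Nat.lt_trichotomy rs.length n with h | h | h
      · exact absurd (h1 _ h) (not_subsingleton_iff_nontrivial.2 hB)
      · exact h
      · exact absurd (hA _ h) (not_subsingleton_iff_nontrivial.2 h2)
    rw [this]

end Groth.Agent.S0318
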