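import Groth.Statements.S4542
-- import your own Groth.Agent.* helpers here
import Mathlib.RingTheory.AdicCompletion.RingHom
import Mathlib.RingTheory.Ideal.Quotient.PowTransition

set_option autoImplicit false
universe u
open EGA41

namespace Groth.Agent.S4542

theorem sup_pow_le {R : Type*} [CommRing R] (J K : Ideal R) (m : ℕ) :
    (J ⊔ K) ^ m ≤ J ^ m ⊔ K := by
  induction m with
  | zero => simp
  | succ m ih =>
    rw [pow_succ, pow_succ]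
    calc (J ⊔ K) ^ m * (J ⊔ K) ≤ (J ^ m ⊔ K) * (J ⊔ K) := Ideal.mul_mono_left ih
      _ ≤ J ^ m * J ⊔ K := by
        rw [Ideal.sup_mul, Ideal.mul_sup, Ideal.mul_sup]
        exact sup_le (sup_le le_sup_left (le_sup_of_le_right Ideal.mul_le_right))
          (sup_le (le_sup_of_le_right Ideal.mul_le_left) (le_sup_of_le_right Ideal.mul_le_left))

theorem lift_of_surjective {A B : Type u} [CommRing A] [CommRing B] [Algebra A B] (𝔞 : Ideal A)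
    (𝔟 : Ideal B) (hB : EGA41.IsFormallySmoothAdic A 𝔞 B 𝔟)
    {D E : Type u} [CommRing D] [CommRing E] [Algebra A D] [Algebra A E] (π : D →ₐ[A] E)
    (hπ : Function.Surjective π) (hnil : IsNilpotent (RingHom.ker π))
    (hdisc : ∃ k : ℕ, (𝔞 ^ k).map (algebraMap A D) = ⊥)
    (g : B →ₐ[A] E) (hg : ∃ m : ℕ, ∀ x ∈ 𝔟 ^ m, g x = 0) :
    ∃ g' : B →ₐ[A] D, π.comp g' = g ∧ ∃ m : ℕ, ∀ x ∈ 𝔟 ^ m, g' x = 0 := by
  obtain ⟨m, hm⟩ := hg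
  obtain ⟨N, hN⟩ := hnil
  obtain ⟨g', hg'⟩ := hB D (RingHom.ker π) ⟨N, hN⟩ hdisc
    ((Ideal.quotientKerAlgEquivOfSurjective hπ).symm.toAlgHom.comp g)
    ⟨m, fun x hx => by simp [hm x hx]⟩
  have h1 : π.comp g' = g := by
    ext b
    have h2 := congr((Ideal.quotientKerAlgEquivOfSurjective hπ) ($hg' b))
    simpa using h2
  refine ⟨g', h1, m * N, fun x hx => ?_⟩
  have h3 : (𝔟 ^ m).map g'.toRingHom ≤ RingHom.ker π := by
    rw [Ideal.map_le_iff_le_comap]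
    intro y hy
    have h4 := congr($h1 y)
    simp only [AlgHom.comp_apply] at h4
    simp only [Ideal.mem_comap, RingHom.mem_ker]
    exact h4.trans (hm y hy)
  have h4 : ((𝔟 ^ m) ^ N).map g'.toRingHom ≤ ⊥ := by
    rw [Ideal.map_pow, ← Ideal.zero_eq_bot, ← hN]
    exact Ideal.pow_right_mono h3 N
  rw [← pow_mul] at h4
  have h5 := h4 (Ideal.mem_map_of_mem _ hx)
  simpa using h5


theorem glue {A B C : Type u} [CommRing A] [CommRing B] [CommRing C] [Algebra A B] [Algebra A C]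
    (I₁ I₂ K : Ideal C) (h₁ : I₁ ≤ K) (h₂ : I₂ ≤ K) (hK : K ≤ I₁ ⊔ I₂)
    (f₁ : B →ₐ[A] C ⧸ I₁) (f₂ : B →ₐ[A] C ⧸ I₂)
    (hf : (Ideal.Quotient.factorₐ A h₁).comp f₁ = (Ideal.Quotient.factorₐ A h₂).comp f₂) :
    ∃ f : B →ₐ[A] C ⧸ (I₁ ⊓ I₂),
      (Ideal.Quotient.factorₐ A (inf_le_left : I₁ ⊓ I₂ ≤ I₁)).comp f = f₁ ∧
      (Ideal.Quotient.factorₐ A (inf_le_right : I₁ ⊓ I₂ ≤ I₂)).comp f = f₂ ∧
      ∀ b, f₁ b = 0 → f₂ b = 0 → f b = 0 := by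
  have hι : Function.Injective
      ((Ideal.Quotient.factorₐ A (inf_le_left : I₁ ⊓ I₂ ≤ I₁)).prod
        (Ideal.Quotient.factorₐ A (inf_le_right : I₁ ⊓ I₂ ≤ I₂))) := by
    rw [injective_iff_map_eq_zero]
    intro x hx
    obtain ⟨c, rfl⟩ := Ideal.Quotient.mk_surjective x
    rw [AlgHom.prod_apply, Prod.mk_eq_zero] at hx
    rw [Ideal.Quotient.factorₐ_apply_mk, Ideal.Quotient.factorₐ_apply_mk,
      Ideal.Quotient.eq_zero_iff_mem, Ideal.Quotient.eq_zero_iff_mem] at hx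
    rw [Ideal.Quotient.eq_zero_iff_mem]
    exact ⟨hx.1, hx.2⟩
  have hrange : ∀ b, (f₁.prod f₂) b ∈
      ((Ideal.Quotient.factorₐ A (inf_le_left : I₁ ⊓ I₂ ≤ I₁)).prod
        (Ideal.Quotient.factorₐ A (inf_le_right : I₁ ⊓ I₂ ≤ I₂))).range := by
    intro b
    obtain ⟨x, hx⟩ := Ideal.Quotient.mk_surjective (f₁ b)
    obtain ⟨y, hy⟩ := Ideal.Quotient.mk_surjective (f₂ b)
    have h3 := congr($hf b)
    rw [AlgHom.comp_apply, AlgHom.comp_apply, ← hx, ← hy, Ideal.Quotient.factorₐ_apply_mk,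
      Ideal.Quotient.factorₐ_apply_mk, Ideal.Quotient.eq] at h3
    obtain ⟨a, ha, c, hc, hac⟩ := Submodule.mem_sup.mp (hK h3)
    refine ⟨Ideal.Quotient.mk _ (x - a), Prod.ext ?_ ?_⟩
    · change Ideal.Quotient.mk I₁ (x - a) = f₁ b
      rw [← hx, Ideal.Quotient.eq]
      simpa using I₁.neg_mem ha
    · change Ideal.Quotient.mk I₂ (x - a) = f₂ b
      rw [← hy, Ideal.Quotient.eq]
      have : x - a - y = c := by
        have : x - y - a = c := by rw [← hac]; ring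
        rw [← this]; ring
      simpa [this] using hc
  obtain ⟨F, hF⟩ : ∃ F : B →ₐ[A] C ⧸ (I₁ ⊓ I₂), ∀ b,
      ((Ideal.Quotient.factorₐ A (inf_le_left : I₁ ⊓ I₂ ≤ I₁)).prod
        (Ideal.Quotient.factorₐ A (inf_le_right : I₁ ⊓ I₂ ≤ I₂))) (F b) = (f₁ b, f₂ b) := by
    refine ⟨(AlgEquiv.ofInjective _ hι).symm.toAlgHom.comp
      ((f₁.prod f₂).codRestrict _ hrange), fun b => ?_⟩
    rw [← AlgEquiv.ofInjective_apply _ hι]
    simp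
  refine ⟨F, ?_, ?_, ?_⟩
  · ext b
    exact congr(($(hF b)).1)
  · ext b
    exact congr(($(hF b)).2)
  · intro b hb1 hb2
    apply hι
    rw [hF b, hb1, hb2, map_zero]
    rfl


theorem step {A B C : Type u} [CommRing A] [CommRing B] [CommRing C] [Algebra A B]
    [Algebra A C] (𝔞 : Ideal A) (𝔟 : Ideal B) (𝔠 : Ideal C) (hB : EGA41.IsFormallySmoothAdic A 𝔞 B 𝔟)
    (hAC : ∃ k : ℕ, (𝔞 ^ k).map (algebraMap A C) ≤ 𝔠)
    (J : Ideal C) (hJ : ∃ t : ℕ, J ^ t ≤ 𝔠)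
    (u : B →ₐ[A] C ⧸ J) (hu : ∃ k : ℕ, (𝔟 ^ k).map u.toRingHom ≤ 𝔠.map (Ideal.Quotient.mk J))
    (n : ℕ) (w : B →ₐ[A] C ⧸ 𝔠 ^ n)
    (hw : (Ideal.Quotient.factorₐ A (le_sup_right : 𝔠 ^ n ≤ J ⊔ 𝔠 ^ n)).comp w =
      (Ideal.Quotient.factorₐ A (le_sup_left : J ≤ J ⊔ 𝔠 ^ n)).comp u)
    (hw0 : ∃ m : ℕ, ∀ x ∈ 𝔟 ^ m, w x = 0) :
    ∃ w' : B →ₐ[A] C ⧸ 𝔠 ^ (n + 1),
      ((Ideal.Quotient.factorₐ A (le_sup_right : 𝔠 ^ (n + 1) ≤ J ⊔ 𝔠 ^ (n + 1))).comp w' =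
        (Ideal.Quotient.factorₐ A (le_sup_left : J ≤ J ⊔ 𝔠 ^ (n + 1))).comp u ∧
        ∃ m : ℕ, ∀ x ∈ 𝔟 ^ m, w' x = 0) ∧
      (Ideal.Quotient.factorₐ A (Ideal.pow_le_pow_right n.le_succ)).comp w' = w := by
  have h₁ : 𝔠 ^ n ≤ J ⊔ 𝔠 ^ n := le_sup_right
  have h₂ : J ⊔ 𝔠 ^ (n + 1) ≤ J ⊔ 𝔠 ^ n :=
    sup_le le_sup_left (le_sup_of_le_right (Ideal.pow_le_pow_right n.le_succ))
  have hK : J ⊔ 𝔠 ^ n ≤ 𝔠 ^ n ⊔ (J ⊔ 𝔠 ^ (n + 1)) :=
    sup_le (le_sup_of_le_right le_sup_left) le_sup_left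
  obtain ⟨f, hf1, hf2, hf0⟩ := glue (A := A) (B := B) (𝔠 ^ n) (J ⊔ 𝔠 ^ (n + 1)) (J ⊔ 𝔠 ^ n) h₁ h₂ hK w
    ((Ideal.Quotient.factorₐ A (le_sup_left : J ≤ J ⊔ 𝔠 ^ (n + 1))).comp u) (by
      rw [hw, ← AlgHom.comp_assoc, Ideal.Quotient.factorₐ_comp])
  have h3 : 𝔠 ^ (n + 1) ≤ 𝔠 ^ n ⊓ (J ⊔ 𝔠 ^ (n + 1)) :=
    le_inf (Ideal.pow_le_pow_right n.le_succ) le_sup_right
  -- nilpotency of the kernel
  obtain ⟨t, ht⟩ := hJ
  have hnil : IsNilpotent (RingHom.ker (Ideal.Quotient.factorₐ A h3)) := by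
    refine ⟨t * (n + 1), ?_⟩
    have h4 : RingHom.ker (Ideal.Quotient.factorₐ A h3) =
        (𝔠 ^ n ⊓ (J ⊔ 𝔠 ^ (n + 1))).map (Ideal.Quotient.mk (𝔠 ^ (n + 1))) :=
      Ideal.Quotient.factor_ker h3
    rw [h4, ← Ideal.map_pow, Ideal.zero_eq_bot, Ideal.map_eq_bot_iff_le_ker, Ideal.mk_ker]
    calc (𝔠 ^ n ⊓ (J ⊔ 𝔠 ^ (n + 1))) ^ (t * (n + 1))
        ≤ (J ⊔ 𝔠 ^ (n + 1)) ^ (t * (n + 1)) := Ideal.pow_right_mono inf_le_right _
      _ ≤ J ^ (t * (n + 1)) ⊔ 𝔠 ^ (n + 1) := sup_pow_le _ _ _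
      _ ≤ 𝔠 ^ (n + 1) := by
        refine sup_le ?_ le_rfl
        rw [pow_mul]
        exact Ideal.pow_right_mono ht _
  -- discreteness
  obtain ⟨k₀, hk₀⟩ := hAC
  have hdisc : ∃ k : ℕ, (𝔞 ^ k).map (algebraMap A (C ⧸ 𝔠 ^ (n + 1))) = ⊥ := by
    refine ⟨k₀ * (n + 1), ?_⟩
    rw [IsScalarTower.algebraMap_eq A C (C ⧸ 𝔠 ^ (n + 1)), ← Ideal.map_map, pow_mul, Ideal.map_pow,
      Ideal.Quotient.algebraMap_eq, Ideal.map_eq_bot_iff_le_ker, Ideal.mk_ker]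
    exact Ideal.pow_right_mono hk₀ _
  -- continuity of the glued map
  obtain ⟨m₁, hm₁⟩ := hw0
  obtain ⟨k₁, hk₁⟩ := hu
  have hg : ∃ m : ℕ, ∀ x ∈ 𝔟 ^ m, f x = 0 := by
    refine ⟨m₁ + k₁ * (n + 1), fun x hx => hf0 x ?_ ?_⟩
    · exact hm₁ x (Ideal.pow_le_pow_right (Nat.le_add_right _ _) hx)
    · have hx2 : x ∈ (𝔟 ^ k₁) ^ (n + 1) := by
        rw [← pow_mul]
        exact Ideal.pow_le_pow_right (Nat.le_add_left _ _) hx
      have hx3 : u x ∈ (𝔠 ^ (n + 1)).map (Ideal.Quotient.mk J) := by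
        rw [Ideal.map_pow]
        have := Ideal.mem_map_of_mem u.toRingHom hx2
        rw [Ideal.map_pow] at this
        exact Ideal.pow_right_mono hk₁ _ this
      obtain ⟨c, hc, hcx⟩ := (Ideal.mem_map_iff_of_surjective _ Ideal.Quotient.mk_surjective).mp hx3
      rw [AlgHom.comp_apply, ← hcx, Ideal.Quotient.factorₐ_apply_mk, Ideal.Quotient.eq_zero_iff_mem]
      exact le_sup_right (a := J) hc
  obtain ⟨w', hw'1, hw'0⟩ := lift_of_surjective 𝔞 𝔟 hB (Ideal.Quotient.factorₐ A h3)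
    (Ideal.Quotient.factor_surjective h3) hnil hdisc f hg
  refine ⟨w', ⟨?_, hw'0⟩, ?_⟩
  · rw [← hf2, ← hw'1, ← AlgHom.comp_assoc, Ideal.Quotient.factorₐ_comp]
  · rw [← hf1, ← hw'1, ← AlgHom.comp_assoc, Ideal.Quotient.factorₐ_comp]

/-- Let B (𝔟-adic) be formally smooth over A (𝔞-adic); let C be a topological A-algebra for the 𝔠-adic
topology (a power of 𝔞 maps into 𝔠) which is complete, and J an ideal which is closed, i.e. C/J is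
Hausdorff for the 𝔠-adic topology, and whose powers tend to 0, i.e. some power of J lies in 𝔠. Then
every continuous A-algebra homomorphism u : B → C/J (a power of 𝔟 maps into the image of 𝔠) factors
as B → C → C/J with B → C a continuous A-algebra homomorphism (a power of 𝔟 maps into 𝔠). -/
theorem result {A B C : Type u} [CommRing A] [CommRing B] [CommRing C] [Algebra A B]
    [Algebra A C] (𝔞 : Ideal A) (𝔟 : Ideal B) (𝔠 : Ideal C) (hB : EGA41.IsFormallySmoothAdic A 𝔞 B 𝔟)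
    [IsAdicComplete 𝔠 C] (hAC : ∃ k : ℕ, (𝔞 ^ k).map (algebraMap A C) ≤ 𝔠)
    (J : Ideal C) (hJ : ∃ t : ℕ, J ^ t ≤ 𝔠) [IsHausdorff (𝔠.map (Ideal.Quotient.mk J)) (C ⧸ J)]
    (u : B →ₐ[A] C ⧸ J) (hu : ∃ k : ℕ, (𝔟 ^ k).map u.toRingHom ≤ 𝔠.map (Ideal.Quotient.mk J)) :
    ∃ v : B →ₐ[A] C, (∃ k : ℕ, (𝔟 ^ k).map v.toRingHom ≤ 𝔠) ∧ (Ideal.Quotient.mkₐ A J).comp v = u := by
  classical
  -- the property carried along the tower
  let P : ∀ n : ℕ, (B →ₐ[A] C ⧸ 𝔠 ^ n) → Prop := fun n w =>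
    (Ideal.Quotient.factorₐ A (le_sup_right : 𝔠 ^ n ≤ J ⊔ 𝔠 ^ n)).comp w =
      (Ideal.Quotient.factorₐ A (le_sup_left : J ≤ J ⊔ 𝔠 ^ n)).comp u ∧
    ∃ m : ℕ, ∀ x ∈ 𝔟 ^ m, w x = 0
  have hstep : ∀ (n : ℕ) (w : {w : B →ₐ[A] C ⧸ 𝔠 ^ n // P n w}),
      ∃ w' : {w : B →ₐ[A] C ⧸ 𝔠 ^ (n + 1) // P (n + 1) w},
        (Ideal.Quotient.factorₐ A (Ideal.pow_le_pow_right n.le_succ)).comp w'.1 = w.1 := by
    intro n w
    obtain ⟨w', hw', hc⟩ := step 𝔞 𝔟 𝔠 hB hAC J hJ u hu n w.1 w.2.1 w.2.2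
    exact ⟨⟨w', hw'⟩, hc⟩
  have h0 : J ≤ 𝔠 ^ 0 := by simp
  have hP0 : P 0 ((Ideal.Quotient.factorₐ A h0).comp u) := by
    refine ⟨?_, 0, fun x _ => ?_⟩
    · rw [← AlgHom.comp_assoc, Ideal.Quotient.factorₐ_comp]
    · have : Subsingleton (C ⧸ 𝔠 ^ 0) := by
        rw [Ideal.Quotient.subsingleton_iff]; simp
      exact Subsingleton.elim _ _
  let s : ∀ n : ℕ, {w : B →ₐ[A] C ⧸ 𝔠 ^ n // P n w} := fun n =>
    Nat.rec ⟨_, hP0⟩ (fun n w => Classical.choose (hstep n w)) n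
  have hs : ∀ n, (Ideal.Quotient.factorₐ A (Ideal.pow_le_pow_right n.le_succ)).comp (s (n + 1)).1 =
      (s n).1 := fun n => Classical.choose_spec (hstep n (s n))
  have hcompat : ∀ {m n : ℕ} (hle : m ≤ n),
      (Ideal.Quotient.factorₐ A (Ideal.pow_le_pow_right hle)).comp (s n).1 = (s m).1 := by
    intro m n hle
    induction n, hle using Nat.le_induction with
    | base => rw [Ideal.Quotient.factorₐ_refl]; rfl
    | succ n hmn ih =>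
      rw [← ih, ← hs n, ← AlgHom.comp_assoc, Ideal.Quotient.factorₐ_comp]
  let v : B →ₐ[A] C := IsAdicComplete.liftAlgHom 𝔠 (fun n => (s n).1) hcompat
  have hv : ∀ n (b : B), Ideal.Quotient.mk (𝔠 ^ n) (v b) = (s n).1 b := fun n b =>
    IsAdicComplete.mk_liftAlgHom 𝔠 (fun n => (s n).1) hcompat n b
  refine ⟨v, ?_, ?_⟩
  · obtain ⟨m, hm⟩ := (s 1).2.2
    refine ⟨m, ?_⟩
    rw [Ideal.map_le_iff_le_comap]
    intro x hx
    have h1 := hv 1 x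
    rw [hm x hx, Ideal.Quotient.eq_zero_iff_mem, pow_one] at h1
    exact h1
  · ext b
    rw [AlgHom.comp_apply, Ideal.Quotient.mkₐ_eq_mk, ← sub_eq_zero]
    apply IsHausdorff.haus' (I := 𝔠.map (Ideal.Quotient.mk J))
    intro n
    rw [SModEq.zero, smul_eq_mul, Ideal.mul_top, ← Ideal.map_pow]
    obtain ⟨c, hc⟩ := Ideal.Quotient.mk_surjective (u b)
    have h1 := congr($((s n).2.1) b)
    rw [AlgHom.comp_apply, AlgHom.comp_apply, ← hv n b, ← hc, Ideal.Quotient.factorₐ_apply_mk,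
      Ideal.Quotient.factorₐ_apply_mk, Ideal.Quotient.eq] at h1
    have h2 := Ideal.mem_map_of_mem (Ideal.Quotient.mk J) h1
    rw [Ideal.map_sup, Ideal.map_quotient_self, bot_sup_eq, map_sub, hc] at h2
    exact h2

end Groth.Agent.S4542
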