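import Groth.Statements.S4537
-- import your own Groth.Agent.* helpers here

set_option autoImplicit false
universe u
open EGA41

namespace Groth.Agent.S4537

theorem aux {A B : Type u} [CommRing A] [CommRing B] [Algebra A B]
    (𝔫 : Ideal B) (h : CAlgX.IsAdicFormallySmooth A B 𝔫) {S : Type u} [CommRing S] (J : Ideal S)
    (hJ : IsNilpotent J) :
    ∀ [Algebra A S] (u : B →ₐ[A] S ⧸ J), (∃ k : ℕ, ∀ x ∈ 𝔫 ^ k, u x = 0) →
      ∃ v : B →ₐ[A] S, (Ideal.Quotient.mkₐ A J).comp v = u := by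
  have key := Ideal.IsNilpotent.induction_on (S := S) J hJ
    (P := fun (S : Type u) (_ : CommRing S) (J : Ideal S) => IsNilpotent J → ∀ [Algebra A S] (u : B →ₐ[A] S ⧸ J),
      (∃ k : ℕ, ∀ x ∈ 𝔫 ^ k, u x = 0) → ∃ v : B →ₐ[A] S, (Ideal.Quotient.mkₐ A J).comp v = u)
    ?_ ?_
  · intro _ u hu
    exact key hJ u hu
  · intro S _ I hI _ _ u hu
    exact h S I hI u hu
  · intro S _ I J hIJ h₁ h₂ hJ _ u hu
    obtain ⟨n, hn⟩ := hJ
    have hI : IsNilpotent I := ⟨n, by
      rw [Ideal.zero_eq_bot, eq_bot_iff] at hn ⊢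
      exact (Ideal.pow_right_mono hIJ n).trans hn⟩
    have hJ'n : (J.map (Ideal.Quotient.mk I)) ^ n = ⊥ := by
      rw [← Ideal.map_pow, hn, Ideal.zero_eq_bot, Ideal.map_bot]
    have hJ' : IsNilpotent (J.map (Ideal.Quotient.mk I)) := ⟨n, hJ'n⟩
    let e : ((S ⧸ I) ⧸ J.map (Ideal.Quotient.mk I)) ≃ₐ[A] S ⧸ J :=
      { (DoubleQuot.quotQuotEquivQuotSup I J).trans
          (Ideal.quotEquivOfEq (sup_eq_right.mpr hIJ)) with
        commutes' := fun x => rfl }
    obtain ⟨k, hk⟩ := hu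
    obtain ⟨g', e'⟩ := h₂ hJ' (e.symm.toAlgHom.comp u) ⟨k, fun x hx => by
      simp [hk x hx]⟩
    -- `g'` kills a power of `𝔫`
    have hg' : ∀ x ∈ 𝔫 ^ k, g' x ∈ J.map (Ideal.Quotient.mk I) := by
      intro x hx
      have := AlgHom.congr_fun e' x
      simp only [AlgHom.comp_apply, Ideal.Quotient.mkₐ_eq_mk, hk x hx, map_zero] at this
      exact Ideal.Quotient.eq_zero_iff_mem.1 this
    have hg'' : ∀ x ∈ 𝔫 ^ (k * n), g' x = 0 := by
      intro x hx
      rw [pow_mul] at hx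
      have : g' x ∈ (J.map (Ideal.Quotient.mk I)) ^ n := by
        have hle : (𝔫 ^ k) ^ n ≤ ((J.map (Ideal.Quotient.mk I)) ^ n).comap g'.toRingHom := by
          refine (Ideal.pow_right_mono (I := 𝔫 ^ k)
            (J := (J.map (Ideal.Quotient.mk I)).comap g'.toRingHom) hg' n).trans ?_
          exact Ideal.le_comap_pow _ _
        exact hle hx
      rw [hJ'n] at this
      exact this
    obtain ⟨g, rfl⟩ := h₁ hI g' ⟨k * n, hg''⟩
    refine ⟨g, ?_⟩
    replace e' := congr_arg e.toAlgHom.comp e'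
    conv_rhs at e' =>
      rw [← AlgHom.comp_assoc, AlgEquiv.comp_symm, AlgHom.id_comp]
    exact e'

/-- For a discrete base and an adic algebra: let A be a discrete ring and B an A-algebra with the 𝔫-adic
topology. If every continuous A-algebra map from B to a quotient C/J with J² = 0 lifts to C, then
the same holds for every nilpotent J; hence the square-zero and the nilpotent forms of adic formal
smoothness agree. -/
theorem result {A B : Type u} [CommRing A] [CommRing B] [Algebra A B]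
    (𝔫 : Ideal B) :
    CAlgX.IsAdicFormallySmooth A B 𝔫 ↔ EGA41.IsFormallySmoothAdic A ⊥ B 𝔫 := by
  constructor
  · intro h C _ _ J hJ _ u hu
    exact aux 𝔫 h J hJ u hu
  · intro h C _ _ J hJ u hu
    exact h C J ⟨2, hJ⟩ ⟨1, by simp⟩ u hu

end Groth.Agent.S4537
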