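import Groth.Statements.S2461
-- import your own Groth.Agent.* helpers here
import Groth.Agent.S4542
import Mathlib.RingTheory.AdicCompletion.Completeness

set_option autoImplicit false
universe u
open EGA41

namespace Groth.Agent.S2461

theorem ker_evalₐ_le {R : Type*} [CommRing R] {I : Ideal R} (fg : I.FG) (n : ℕ) :
    RingHom.ker (AdicCompletion.evalₐ I n) ≤ (I ^ n).map (algebraMap R (AdicCompletion I R)) := by
  intro x hx
  have h1 : x ∈ (AdicCompletion.eval I R n).ker := by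
    rw [RingHom.mem_ker] at hx
    have h : I ^ n ≤ I ^ n • ⊤ := by simp
    rw [LinearMap.mem_ker, ← AdicCompletion.factor_evalₐ_eq_eval I x h, hx, map_zero]
  rw [← AdicCompletion.pow_smul_top_eq_ker_eval fg] at h1
  rw [Ideal.smul_top_eq_map] at h1
  exact h1

theorem map_le_ker_evalₐ {R : Type*} [CommRing R] (I : Ideal R) (n : ℕ) :
    (I ^ n).map (algebraMap R (AdicCompletion I R)) ≤ RingHom.ker (AdicCompletion.evalₐ I n) := by
  rw [Ideal.map_le_iff_le_comap]
  intro b hb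
  rw [Ideal.mem_comap, RingHom.mem_ker]
  change AdicCompletion.evalₐ I n (AdicCompletion.of I R b) = 0
  rw [AdicCompletion.evalₐ_of, Ideal.Quotient.eq_zero_iff_mem]
  exact hb

/-- Let A carry the 𝔞-adic topology and let B be a Noetherian A-algebra with the 𝔟-adic topology. Then B
is formally smooth over A if and only if the 𝔟-adic completion of B, with the adic topology of the
extended ideal, is formally smooth over A. -/
theorem result {A B : Type u} [CommRing A] (𝔞 : Ideal A) [CommRing B] [IsNoetherianRing B] [Algebra A B] (𝔟 : Ideal B) :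
    EGA41.IsFormallySmoothAdic A 𝔞 B 𝔟 ↔
      EGA41.IsFormallySmoothAdic A 𝔞 (AdicCompletion 𝔟 B) (𝔟.map (algebraMap B (AdicCompletion 𝔟 B))) := by
  have fg : 𝔟.FG := IsNoetherian.noetherian 𝔟
  -- the A-algebra maps B → B̂ and B̂ → B/𝔟^n
  let ι : B →ₐ[A] AdicCompletion 𝔟 B := IsScalarTower.toAlgHom A B (AdicCompletion 𝔟 B)
  let ev : ∀ n : ℕ, AdicCompletion 𝔟 B →ₐ[A] B ⧸ 𝔟 ^ n := fun n =>
    (AdicCompletion.evalₐ 𝔟 n).restrictScalars A
  have hev : ∀ n b, ev n (ι b) = Ideal.Quotient.mk (𝔟 ^ n) b := fun n b =>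
    AdicCompletion.evalₐ_of 𝔟 n b
  constructor
  · intro hB C _ _ J hJ hdisc u hu
    obtain ⟨m, hm⟩ := hu
    obtain ⟨v', hv', M, hM⟩ := Groth.Agent.S4542.lift_of_surjective 𝔞 𝔟 hB (Ideal.Quotient.mkₐ A J)
      (Ideal.Quotient.mkₐ_surjective A J) (by
        have : RingHom.ker (Ideal.Quotient.mkₐ A J) = J := by
          ext y; simp [RingHom.mem_ker, Ideal.Quotient.eq_zero_iff_mem]
        rwa [this]) hdisc (u.comp ι)
      ⟨m, fun x hx => hm _ (by
        rw [← Ideal.map_pow]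
        exact Ideal.mem_map_of_mem _ hx)⟩
    have hM' : ∀ x ∈ 𝔟 ^ (M + m), v' x = 0 := fun x hx =>
      hM x (Ideal.pow_le_pow_right (Nat.le_add_right _ _) hx)
    refine ⟨(Ideal.Quotient.liftₐ (𝔟 ^ (M + m)) v' hM').comp (ev (M + m)), ?_⟩
    ext x
    obtain ⟨b, hb⟩ := Ideal.Quotient.mk_surjective (ev (M + m) x)
    have h1 : x - ι b ∈ (𝔟.map (algebraMap B (AdicCompletion 𝔟 B))) ^ m := by
      have h2 : x - ι b ∈ RingHom.ker (AdicCompletion.evalₐ 𝔟 (M + m)) := by
        rw [RingHom.mem_ker, map_sub, sub_eq_zero]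
        exact (hb.symm.trans (hev (M + m) b).symm)
      have h3 := ker_evalₐ_le fg (M + m) h2
      rw [Ideal.map_pow] at h3
      exact Ideal.pow_le_pow_right (Nat.le_add_left _ _) h3
    have h4 : u x = u (ι b) := by
      rw [← sub_eq_zero, ← map_sub]; exact hm _ h1
    have hl : (Ideal.Quotient.liftₐ (𝔟 ^ (M + m)) v' hM') (Ideal.Quotient.mk _ b) = v' b := rfl
    rw [AlgHom.comp_apply, AlgHom.comp_apply, ← hb, hl, h4]
    exact congr($hv' b)
  · intro hB C _ _ J hJ hdisc u hu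
    obtain ⟨m, hm⟩ := hu
    obtain ⟨v, hv⟩ := hB C J hJ hdisc ((Ideal.Quotient.liftₐ (𝔟 ^ m) u hm).comp (ev m))
      ⟨m, fun x hx => by
        rw [← Ideal.map_pow] at hx
        have h1 := map_le_ker_evalₐ 𝔟 m hx
        rw [RingHom.mem_ker] at h1
        rw [AlgHom.comp_apply]
        change (Ideal.Quotient.liftₐ (𝔟 ^ m) u hm) (AdicCompletion.evalₐ 𝔟 m x) = 0
        rw [h1, map_zero]⟩
    refine ⟨v.comp ι, ?_⟩
    rw [← AlgHom.comp_assoc, hv]
    ext b
    rw [AlgHom.comp_apply, AlgHom.comp_apply, hev]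
    rfl

end Groth.Agent.S2461
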