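import Groth.Statements.S9318
-- import your own Groth.Agent.* helpers here
import Groth.Agent.S2461

set_option autoImplicit false
universe u
open CAlg

namespace Groth.Agent.S9318

/-- Let `R → S` be a ring map and `𝔫 ⊆ S` a finitely generated ideal, and let `S^` be the `𝔫`-adic
completion of `S`. Then `R → S` is formally smooth for the `𝔫`-adic topology if and only if `R → S^`
is formally smooth for the adic topology of the extension of `𝔫` to `S^`. No Noetherian hypothesis
is made on `S`. -/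
theorem result {R S : Type u} [CommRing R] [CommRing S]
    [Algebra R S] (𝔫 : Ideal S) (h𝔫 : 𝔫.FG) :
    CAlgX.IsAdicFormallySmooth R S 𝔫 ↔
      CAlgX.IsAdicFormallySmooth R (AdicCompletion 𝔫 S) (𝔫.map (algebraMap S (AdicCompletion 𝔫 S))) := by
  -- the R-algebra maps S → Ŝ and Ŝ → S/𝔫^n
  let ι : S →ₐ[R] AdicCompletion 𝔫 S := IsScalarTower.toAlgHom R S (AdicCompletion 𝔫 S)
  let ev : ∀ n : ℕ, AdicCompletion 𝔫 S →ₐ[R] S ⧸ 𝔫 ^ n := fun n =>
    (AdicCompletion.evalₐ 𝔫 n).restrictScalars R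
  have hev : ∀ n b, ev n (ι b) = Ideal.Quotient.mk (𝔫 ^ n) b := fun n b =>
    AdicCompletion.evalₐ_of 𝔫 n b
  constructor
  · intro hB C _ _ J hJ u hu
    obtain ⟨m, hm⟩ := hu
    obtain ⟨v', hv'⟩ := hB C J hJ (u.comp ι)
      ⟨m, fun x hx => hm _ (by
        rw [← Ideal.map_pow]
        exact Ideal.mem_map_of_mem _ hx)⟩
    have hvJ : ∀ x ∈ 𝔫 ^ m, v' x ∈ J := by
      intro x hx
      rw [← Ideal.Quotient.eq_zero_iff_mem]
      have h1 := congr($hv' x)
      rw [AlgHom.comp_apply, Ideal.Quotient.mkₐ_eq_mk] at h1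
      rw [h1]
      exact hm _ (by
        rw [← Ideal.map_pow]
        exact Ideal.mem_map_of_mem _ hx)
    have hM' : ∀ x ∈ 𝔫 ^ (m + m), v' x = 0 := by
      intro x hx
      rw [pow_add] at hx
      refine Submodule.mul_induction_on hx (fun a ha b hb => ?_) (fun a b ha hb => ?_)
      · rw [map_mul]
        have : v' a * v' b ∈ J ^ 2 := by
          rw [pow_two]; exact Ideal.mul_mem_mul (hvJ a ha) (hvJ b hb)
        rw [hJ] at this
        exact this
      · rw [map_add, ha, hb, add_zero]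
    refine ⟨(Ideal.Quotient.liftₐ (𝔫 ^ (m + m)) v' hM').comp (ev (m + m)), ?_⟩
    ext x
    obtain ⟨b, hb⟩ := Ideal.Quotient.mk_surjective (ev (m + m) x)
    have h1 : x - ι b ∈ (𝔫.map (algebraMap S (AdicCompletion 𝔫 S))) ^ m := by
      have h2 : x - ι b ∈ RingHom.ker (AdicCompletion.evalₐ 𝔫 (m + m)) := by
        rw [RingHom.mem_ker, map_sub, sub_eq_zero]
        exact (hb.symm.trans (hev (m + m) b).symm)
      have h3 := Groth.Agent.S2461.ker_evalₐ_le h𝔫 (m + m) h2
      rw [Ideal.map_pow] at h3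
      exact Ideal.pow_le_pow_right (Nat.le_add_left _ _) h3
    have h4 : u x = u (ι b) := by
      rw [← sub_eq_zero, ← map_sub]; exact hm _ h1
    have hl : (Ideal.Quotient.liftₐ (𝔫 ^ (m + m)) v' hM') (Ideal.Quotient.mk _ b) = v' b := rfl
    rw [AlgHom.comp_apply, AlgHom.comp_apply, ← hb, hl, h4]
    exact congr($hv' b)
  · intro hB C _ _ J hJ u hu
    obtain ⟨m, hm⟩ := hu
    obtain ⟨v, hv⟩ := hB C J hJ ((Ideal.Quotient.liftₐ (𝔫 ^ m) u hm).comp (ev m))
      ⟨m, fun x hx => by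
        rw [← Ideal.map_pow] at hx
        have h1 := Groth.Agent.S2461.map_le_ker_evalₐ 𝔫 m hx
        rw [RingHom.mem_ker] at h1
        rw [AlgHom.comp_apply]
        change (Ideal.Quotient.liftₐ (𝔫 ^ m) u hm) (AdicCompletion.evalₐ 𝔫 m x) = 0
        rw [h1, map_zero]⟩
    refine ⟨v.comp ι, ?_⟩
    rw [← AlgHom.comp_assoc, hv]
    ext b
    rw [AlgHom.comp_apply, AlgHom.comp_apply, hev]
    rfl

end Groth.Agent.S9318
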