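import Groth.Statements.S9443
import Groth.Agent.Lib.Helper76.PSDim

set_option autoImplicit false
universe u
open CAlg
open Groth.Agent.Lib.Helper76.PSComplete

namespace Groth.Agent.S9443

/-- A complete regular local ring R with a coefficient field k (a subfield mapping isomorphically onto
the residue field) is k-isomorphic to a power series ring over k in finitely many variables
(existence of an isomorphism only; the number of variables is then the dimension of R). -/
theorem result (R : Type u)
    [CommRing R] [IsRegularLocalRing R] [IsAdicComplete (IsLocalRing.maximalIdeal R) R]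
    (k : Type u) [Field k] [Algebra k R]
    (hk : Function.Bijective (algebraMap k (IsLocalRing.ResidueField R))) :
    ∃ d : ℕ, Nonempty (R ≃ₐ[k] MvPowerSeries (Fin d) k) := by
  classical
  set m := IsLocalRing.maximalIdeal R with hm
  have hreg : (m.spanFinrank : WithBot ℕ∞) = ringKrullDim R :=
    IsRegularLocalRing.spanFinrank_maximalIdeal
  have hfg : m.FG := (isNoetherianRing_iff_ideal_fg R).mp inferInstance m
  obtain ⟨s, hcard, hspan⟩ := Submodule.FG.exists_span_finset_card_eq_spanFinrank hfg
  set d := m.spanFinrank with hd
  let e : s ≃ Fin d := Finset.equivFinOfCardEq hcard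
  let b : Fin d → R := fun i => ((e.symm i : s) : R)
  have hrange : Set.range b = (s : Set R) := by
    ext y
    constructor
    · rintro ⟨i, rfl⟩
      exact (e.symm i).2
    · intro hy
      exact ⟨e ⟨y, hy⟩, by simp [b]⟩
  have hgen : Ideal.span (Set.range b) = m := by rw [hrange]; exact hspan
  have hb : ∀ i, b i ∈ m := fun i => by
    rw [← hgen]; exact Ideal.subset_span ⟨i, rfl⟩
  let ψ : MvPowerSeries (Fin d) k →ₐ[k] R := evC m b hb
  have hsurj : Function.Surjective ψ := by
    refine evC_surjective m b hb hgen ?_
    intro y
    obtain ⟨a, ha⟩ := hk.2 y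
    exact ⟨a, ha⟩
  have hinj : Function.Injective ψ :=
    injective_of_surjective_of_dim k d (ψ : MvPowerSeries (Fin d) k →+* R) hsurj (le_of_eq hreg)
  exact ⟨d, ⟨(AlgEquiv.ofBijective ψ ⟨hinj, hsurj⟩).symm⟩⟩

end Groth.Agent.S9443
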