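import Groth.Statements.S2453
import Mathlib
import Groth.Agent.S2451
import Groth.Agent.S9318
import Groth.Agent.S4537
import Groth.Agent.S0548
import Groth.Agent.S9443
import Groth.Agent.Lib.Helper96.SmoothRegular
import Groth.Agent.Lib.Helper96.AdicSmoothPS
import Groth.Agent.Lib.Helper96.PerfectSmooth

set_option autoImplicit false
universe u
open EGA41

namespace Groth.Agent.S2453

open IsLocalRing in
/-- Let k be a field and A a Noetherian local k-algebra with maximal ideal 𝔪 and residue field K
separable over k; give A the 𝔪-adic topology (k discrete). The following are equivalent: (a) A is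
formally smooth over k; (b) the 𝔪-adic completion of A is isomorphic to some K[[T_1, …, T_n]] by an
isomorphism carrying the image of k in A to the image of k under k → K → K[[T]]; (b') the completion
is isomorphic as a ring to some K[[T_1, …, T_n]]; (c) A is a regular local ring. -/
theorem result {k A : Type u} [Field k] [CommRing A] [IsLocalRing A] [IsNoetherianRing A] [Algebra k A]
    [Algebra.IsGeometricallyReduced k (ResidueField A)] :
    [CAlgX.IsAdicFormallySmooth k A (maximalIdeal A),
     ∃ (n : ℕ) (e : AdicCompletion (maximalIdeal A) A ≃+* MvPowerSeries (Fin n) (ResidueField A)),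
       ∀ x : k, e (algebraMap A (AdicCompletion (maximalIdeal A) A) (algebraMap k A x)) =
         algebraMap (ResidueField A) (MvPowerSeries (Fin n) (ResidueField A)) (algebraMap k (ResidueField A) x),
     ∃ n : ℕ, Nonempty (AdicCompletion (maximalIdeal A) A ≃+* MvPowerSeries (Fin n) (ResidueField A)),
     IsRegularLocalRing A].TFAE := by
  classical
  haveI : IsNoetherianRing (AdicCompletion (maximalIdeal A) A) :=
    Groth.Agent.Lib.Helper83.isNoetherianRing_adicCompletion _
  haveI : Algebra.FormallySmooth k (ResidueField A) := Groth.Agent.S2451.result.mpr inferInstance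
  obtain ⟨g, hg⟩ := Groth.Agent.Lib.Helper96.exists_coeff_section k A
  letI : Algebra (ResidueField A) (AdicCompletion (maximalIdeal A) A) :=
    (g : ResidueField A →+* AdicCompletion (maximalIdeal A) A).toAlgebra
  haveI : IsScalarTower k (ResidueField A) (AdicCompletion (maximalIdeal A) A) :=
    IsScalarTower.of_algebraMap_eq (fun x => (g.commutes x).symm)
  have hK : Function.Surjective ((residue (AdicCompletion (maximalIdeal A) A)).comp
      (algebraMap (ResidueField A) (AdicCompletion (maximalIdeal A) A))) := by
    intro y
    obtain ⟨c, hc⟩ := (AdicCompletion.residueField_map_bijective A).2 y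
    exact ⟨c, (hg c).trans hc⟩
  have hmax : maximalIdeal (AdicCompletion (maximalIdeal A) A) =
      (maximalIdeal A).map (algebraMap A (AdicCompletion (maximalIdeal A) A)) :=
    AdicCompletion.maximalIdeal_eq_map
  have hfg : (maximalIdeal A).FG := (maximalIdeal A).fg_of_isNoetherianRing
  tfae_have 1 → 4 := by
    intro h
    have h1 := (Groth.Agent.S9318.result (maximalIdeal A) hfg).mp h
    rw [← hmax] at h1
    have h2 := (Groth.Agent.S4537.result (maximalIdeal (AdicCompletion (maximalIdeal A) A))).mp h1
    have h3 := Groth.Agent.Lib.Helper96.isRegularLocalRing_of_formallySmoothAdic k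
      (ResidueField A) (AdicCompletion (maximalIdeal A) A) hK h2
    exact (Groth.Agent.S0548.result A).mpr h3
  tfae_have 4 → 2 := by
    intro h
    haveI : IsRegularLocalRing (AdicCompletion (maximalIdeal A) A) :=
      (Groth.Agent.S0548.result A).mp h
    obtain ⟨d, ⟨e⟩⟩ := Groth.Agent.S9443.result (AdicCompletion (maximalIdeal A) A)
      (ResidueField A)
      ⟨RingHom.injective _, hK⟩
    refine ⟨d, e.toRingEquiv, fun x => ?_⟩
    show e (algebraMap A (AdicCompletion (maximalIdeal A) A) (algebraMap k A x)) = _
    rw [← IsScalarTower.algebraMap_apply k A (AdicCompletion (maximalIdeal A) A),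
      IsScalarTower.algebraMap_apply k (ResidueField A) (AdicCompletion (maximalIdeal A) A),
      e.commutes]
  tfae_have 2 → 1 := by
    rintro ⟨n, e, he⟩
    have hK0 : CAlgX.IsAdicFormallySmooth k (ResidueField A) ⊥ :=
      Groth.Agent.Lib.Helper96.isAdicFormallySmooth_of_formallySmooth ⊥
    have hP : CAlgX.IsAdicFormallySmooth k (MvPowerSeries (Fin n) (ResidueField A))
        (maximalIdeal (MvPowerSeries (Fin n) (ResidueField A))) := by
      refine Groth.Agent.Lib.Helper96.isAdicFormallySmooth_mvPowerSeries ⊥ n _ ?_ ?_ hK0
      · intro l hl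
        rw [Ideal.mem_bot] at hl
        rw [hl, map_zero]
        exact zero_mem _
      · intro i
        rw [IsLocalRing.mem_maximalIdeal, mem_nonunits_iff,
          MvPowerSeries.isUnit_iff_constantCoeff]
        simp
    let e' : AdicCompletion (maximalIdeal A) A ≃ₐ[k] MvPowerSeries (Fin n) (ResidueField A) :=
      AlgEquiv.ofRingEquiv (f := e) (fun x => by
        rw [IsScalarTower.algebraMap_apply k A (AdicCompletion (maximalIdeal A) A), he,
          ← IsScalarTower.algebraMap_apply])
    have h1 := Groth.Agent.Lib.Helper96.isAdicFormallySmooth_of_algEquiv e' hP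
    rw [hmax] at h1
    exact (Groth.Agent.S9318.result (maximalIdeal A) hfg).mpr h1
  tfae_have 2 → 3 := by
    rintro ⟨n, e, -⟩
    exact ⟨n, ⟨e⟩⟩
  tfae_have 3 → 4 := by
    rintro ⟨n, ⟨e⟩⟩
    have h3 : IsRegularLocalRing (AdicCompletion (maximalIdeal A) A) :=
      IsRegularLocalRing.of_ringEquiv e.symm
    exact (Groth.Agent.S0548.result A).mpr h3
  tfae_finish

end Groth.Agent.S2453
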