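import Groth.Statements.S9295
import Groth.Agent.S9406
import Groth.Agent.Lib.Helper40.FlatDescentSrc
import Groth.Agent.Lib.Helper49.RegularHom
-- import your own Groth.Agent.* helpers here

set_option autoImplicit false
universe u
open CAlg

namespace Groth.Agent.S9295

open TensorProduct

theorem isNoetherianRing_of_faithfullyFlat (A B : Type*) [CommRing A] [CommRing B] [Algebra A B]
    [Module.FaithfullyFlat A B] [IsNoetherianRing B] : IsNoetherianRing A := by
  have hB : WellFoundedGT (Ideal B) := isNoetherian_iff'.mp inferInstance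
  have hmono : StrictMono (Ideal.map (algebraMap A B)) :=
    Monotone.strictMono_of_injective (fun _ _ h => Ideal.map_mono h)
      Ideal.map_injective_of_faithfullyFlat
  exact isNoetherian_iff'.mpr hmono.wellFoundedGT

/-- Base change of a faithfully flat map `B → C` of `A`-algebras along `A → X`. -/
theorem faithfullyFlat_tensor (A B C X : Type u) [CommRing A] [CommRing B] [CommRing C]
    [CommRing X] [Algebra A B] [Algebra B C] [Algebra A C] [IsScalarTower A B C] [Algebra A X]
    [Module.FaithfullyFlat B C] :
    (Algebra.TensorProduct.map (IsScalarTower.toAlgHom A B C) (AlgHom.id A X)).toRingHom.FaithfullyFlat := by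
  letI alg : Algebra (B ⊗[A] X) (C ⊗[A] X) :=
    (Algebra.TensorProduct.map (IsScalarTower.toAlgHom A B C) (AlgHom.id A X)).toRingHom.toAlgebra
  have hst : IsScalarTower B (B ⊗[A] X) (C ⊗[A] X) := by
    refine IsScalarTower.of_algebraMap_eq' ?_
    ext b
    simp [RingHom.algebraMap_toAlgebra, Algebra.TensorProduct.algebraMap_apply]
  have hpo : Algebra.IsPushout B C (B ⊗[A] X) (C ⊗[A] X) := by
    refine Algebra.IsPushout.tensorProduct_tensorProduct A X B C ?_
    ext x
    simp [RingHom.algebraMap_toAlgebra]
  have h0 : (algebraMap B C).FaithfullyFlat := by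
    rw [RingHom.faithfullyFlat_algebraMap_iff]
    infer_instance
  exact RingHom.FaithfullyFlat.isStableUnderBaseChange B C (B ⊗[A] X) (C ⊗[A] X) h0

/-- Descent of a ring property along the base change of a faithfully flat map. -/
theorem descend (P : ∀ (R : Type u) [CommRing R], Prop)
    (hiso : ∀ (R R' : Type u) [CommRing R] [CommRing R'], (R ≃+* R') → P R → P R')
    (hdesc : ∀ (R S : Type u) [CommRing R] [CommRing S] [Algebra R S] [Module.FaithfullyFlat R S],
      P S → P R)
    (A B C X : Type u) [CommRing A] [CommRing B] [CommRing C]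
    [CommRing X] [Algebra A B] [Algebra B C] [Algebra A C] [IsScalarTower A B C] [Algebra A X]
    [Module.FaithfullyFlat B C] (h : P (X ⊗[A] C)) : P (X ⊗[A] B) := by
  have h1 : P (C ⊗[A] X) := hiso _ _ (Algebra.TensorProduct.comm A X C).toRingEquiv h
  have hff := faithfullyFlat_tensor A B C X
  letI alg : Algebra (B ⊗[A] X) (C ⊗[A] X) :=
    (Algebra.TensorProduct.map (IsScalarTower.toAlgHom A B C) (AlgHom.id A X)).toRingHom.toAlgebra
  have : Module.FaithfullyFlat (B ⊗[A] X) (C ⊗[A] X) :=
    (RingHom.faithfullyFlat_algebraMap_iff).1 hff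
  have h2 : P (B ⊗[A] X) := hdesc _ _ h1
  exact hiso _ _ (Algebra.TensorProduct.comm A B X).toRingEquiv h2


/-- For ring maps A → B → C, if the composite A → C is a regular map and C is flat over B with every
prime of B lying under a prime of C (that is, B → C is faithfully flat), then A → B is a regular
map. -/
theorem result (A B C : Type u) [CommRing A] [CommRing B] [CommRing C]
    [Algebra A B] [Algebra B C] [Algebra A C] [IsScalarTower A B C]
    (hAC : CAlg.IsRegularHom A C) [Module.Flat B C]
    (hsurj : Function.Surjective (PrimeSpectrum.comap (algebraMap B C))) :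
    CAlg.IsRegularHom A B := by
  obtain ⟨hflat, hfib⟩ := hAC
  have hff : Module.FaithfullyFlat B C :=
    Module.FaithfullyFlat.of_comap_surjective hsurj
  refine ⟨Groth.Agent.Lib.Helper40.FlatDescentSrc.flat_of_faithfullyFlat_of_flat A B C,
    fun p _ => ?_⟩
  obtain ⟨hN, hG⟩ := hfib p
  have hNB : IsNoetherianRing (p.Fiber B) :=
    descend (fun R _ => IsNoetherianRing R)
      (fun R R' _ _ e h => isNoetherianRing_of_ringEquiv R e)
      (fun R S _ _ _ _ h => isNoetherianRing_of_faithfullyFlat R S) A B C p.ResidueField hN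
  refine ⟨hNB, fun L _ _ hfin => ?_⟩
  have h1 : IsRegularRing (L ⊗[p.ResidueField] p.Fiber C) := hG L hfin
  letI : Algebra A L := ((algebraMap p.ResidueField L).comp (algebraMap A p.ResidueField)).toAlgebra
  haveI : IsScalarTower A p.ResidueField L := IsScalarTower.of_algebraMap_eq' rfl
  have h2 : IsRegularRing (L ⊗[A] C) :=
    Groth.Agent.Lib.Helper49.RegularHom.isRegularRing_of_ringEquiv'
      (Algebra.TensorProduct.cancelBaseChange A p.ResidueField L L C).toRingEquiv h1
  have h3 : IsRegularRing (L ⊗[A] B) :=
    descend (fun R _ => IsRegularRing R)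
      (fun R R' _ _ e h => Groth.Agent.Lib.Helper49.RegularHom.isRegularRing_of_ringEquiv' e h)
      (fun R S _ _ _ _ h => @Groth.Agent.S9406.result R _ S _ _ _ h) A B C L h2
  exact Groth.Agent.Lib.Helper49.RegularHom.isRegularRing_of_ringEquiv'
      (Algebra.TensorProduct.cancelBaseChange A p.ResidueField L L B).symm.toRingEquiv h3

end Groth.Agent.S9295
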