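import Groth.Statements.S4754
import Groth.Agent.Lib.Helper96.ComplQuotRegular
import Groth.Agent.Lib.Helper49.HomLoc
-- import your own Groth.Agent.* helpers here

set_option autoImplicit false
universe u
open EGA4

namespace Groth.Agent.S4754

open IsLocalRing in
theorem aux (A : Type u) [CommRing A] [IsNoetherianRing A] [IsLocalRing A]
    (hA : EGA4.HasGeomNormalFormalFibres A) (I : Ideal A)
    (J : Ideal (A ⧸ I)) (hJ : J = (maximalIdeal A).map (Ideal.Quotient.mk I))
    (Q : Ideal (A ⧸ I)) [Q.IsPrime] :
    EGA4.IsGeomNormal Q.ResidueField (Q.Fiber (AdicCompletion J (A ⧸ I))) := by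
  subst hJ
  obtain ⟨e, he⟩ := Groth.Agent.Lib.Helper96.exists_tensor_equiv_complQuot A (maximalIdeal A) I
  have hn : EGA4.IsNormalHom A (EGA4.Cpl A) := ⟨inferInstance, hA⟩
  haveI : Algebra.QuasiFinite A (A ⧸ I) := inferInstance
  have h1 := Groth.Agent.Lib.Helper49.NormalHom.isNormalHom_baseChange A (A ⧸ I) (EGA4.Cpl A) hn
  intro L _ _ hL
  exact Groth.Agent.Lib.Helper49.HomLoc.forall_fiber_of_algEquiv (A ⧸ I) _ _
    (AlgEquiv.ofRingEquiv (f := e) he) (fun T _ => EGA4.IsNormalRing T)
    (fun T T' _ _ e => Groth.Agent.Lib.Helper49.NormalHom.isNormalRing_of_ringEquiv e) Q L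
    (h1.2 Q L hL)


/-- For the property 'geometrically normal', case of a local ring: if the formal fibres of a Noetherian
local ring A are geometrically normal, then so are the formal fibres of A/I for every proper ideal I
of A. -/
theorem result (A : Type u) [CommRing A] [IsNoetherianRing A] [IsLocalRing A]
    (hA : EGA4.HasGeomNormalFormalFibres A) (I : Ideal A) [Nontrivial (A ⧸ I)] :
    EGA4.HasGeomNormalFormalFibres (A ⧸ I) := by
  intro p hp
  exact aux A hA I _
    (IsLocalRing.map_maximalIdeal_of_surjective (Ideal.Quotient.mk I)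
      Ideal.Quotient.mk_surjective).symm p

end Groth.Agent.S4754
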