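import Groth.Statements.S4755
import Groth.Agent.Lib.Helper96.ComplQuotRegular
import Groth.Agent.Lib.Helper49.HomLoc
import Groth.Agent.Lib.Helper49.CMFibre
import Groth.Agent.Lib.Helper28.CMRingAux
-- import your own Groth.Agent.* helpers here

set_option autoImplicit false
universe u
open EGA4

namespace Groth.Agent.S4755

open TensorProduct in
theorem isCM_finite_tensor (k : Type u) [Field k] (X : Type u) [CommRing X] [Algebra k X]
    [LocCoh.IsCohenMacaulayRing X] (L : Type u) [Field L] [Algebra k L] [Module.Finite k L] :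
    LocCoh.IsCohenMacaulayRing (L ⊗[k] X) := by
  haveI : IsNoetherianRing X := inferInstance
  haveI : Module.Finite X (X ⊗[k] L) := inferInstance
  haveI : Module.Flat X (X ⊗[k] L) := inferInstance
  haveI : IsNoetherianRing (X ⊗[k] L) := IsNoetherianRing.of_finite X _
  haveI : Algebra.IsIntegral X (X ⊗[k] L) := inferInstance
  have h : LocCoh.IsCohenMacaulayRing (X ⊗[k] L) :=
    Groth.Agent.Lib.Helper49.CMFibre.isCM_of_flat_of_isIntegral (R := X)
  exact Groth.Agent.Lib.Helper28.CMRingAux.isCohenMacaulayRing_of_ringEquiv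
    (Algebra.TensorProduct.comm k L X).toRingEquiv h

open IsLocalRing in
theorem aux (A : Type u) [CommRing A] [IsNoetherianRing A] [IsLocalRing A]
    (hA : EGA4.HasCMFormalFibres A) (I : Ideal A)
    (J : Ideal (A ⧸ I)) (hJ : J = (maximalIdeal A).map (Ideal.Quotient.mk I))
    (Q : Ideal (A ⧸ I)) [Q.IsPrime] :
    LocCoh.IsCohenMacaulayRing (Q.Fiber (AdicCompletion J (A ⧸ I))) := by
  subst hJ
  obtain ⟨e, he⟩ := Groth.Agent.Lib.Helper96.exists_tensor_equiv_complQuot A (maximalIdeal A) I
  haveI : Algebra.QuasiFinite A (A ⧸ I) := inferInstance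
  have hP : ∀ (T T' : Type u) [CommRing T] [CommRing T'], (T ≃+* T') →
      LocCoh.IsCohenMacaulayRing T → LocCoh.IsCohenMacaulayRing T' := fun T T' _ _ e h =>
    Groth.Agent.Lib.Helper28.CMRingAux.isCohenMacaulayRing_of_ringEquiv e.symm h
  have h1 := Groth.Agent.Lib.Helper49.NormalHom.forall_fiber_baseChange A (A ⧸ I) (EGA4.Cpl A)
    (fun T _ => LocCoh.IsCohenMacaulayRing T) hP
    (fun q _ L _ _ hL => by
      haveI := hA q
      haveI := hL
      exact isCM_finite_tensor q.ResidueField (q.Fiber (EGA4.Cpl A)) L)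
    Q Q.ResidueField (Module.Finite.self _)
  have h2 := Groth.Agent.Lib.Helper49.HomLoc.forall_fiber_of_algEquiv (A ⧸ I) _ _
    (AlgEquiv.ofRingEquiv (f := e) he) (fun T _ => LocCoh.IsCohenMacaulayRing T) hP
    Q Q.ResidueField h1
  exact hP _ _ (Algebra.TensorProduct.lid Q.ResidueField _).toRingEquiv h2


/-- For the property 'Cohen–Macaulay', case of a local ring: if the formal fibres of a Noetherian local
ring A are Cohen–Macaulay, then so are the formal fibres of A/I for every proper ideal I of A. -/
theorem result (A : Type u) [CommRing A] [IsNoetherianRing A] [IsLocalRing A]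
    (hA : EGA4.HasCMFormalFibres A) (I : Ideal A) [Nontrivial (A ⧸ I)] :
    EGA4.HasCMFormalFibres (A ⧸ I) := by
  intro p hp
  exact aux A hA I _
    (IsLocalRing.map_maximalIdeal_of_surjective (Ideal.Quotient.mk I)
      Ideal.Quotient.mk_surjective).symm p

end Groth.Agent.S4755
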