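import Groth.Statements.S5785
import Groth.Agent.Lib.Helper33.RegularRing
import Groth.Agent.Lib.Helper63.CompletionNoeth

set_option autoImplicit false
universe u
open EGA41

namespace Groth.Agent.S5785

/-- Localizations of the completion at maximal ideals are regular. -/
theorem isRegularLocalRing_localization_completion (A : Type u) [CommRing A] [IsRegularRing A]
    (J : Ideal A) [IsNoetherianRing (AdicCompletion J A)] (M : Ideal (AdicCompletion J A))
    [hM : M.IsMaximal] : IsRegularLocalRing (Localization.AtPrime M) := by
  have fg : J.FG := J.fg_of_isNoetherianRing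
  -- `J Â ≤ M`
  have hcomp := AdicCompletion.isAdicComplete_self J fg
  have hJM : J.map (algebraMap A (AdicCompletion J A)) ≤ M :=
    (IsAdicComplete.le_jacobson_bot _).trans (sInf_le ⟨bot_le, hM⟩)
  -- the contraction `m`
  let m : Ideal A := M.comap (algebraMap A (AdicCompletion J A))
  have hJm : J ≤ m := Ideal.map_le_iff_le_comap.mp hJM
  -- `A → Â/M` is surjective
  have hsurj : Function.Surjective ((Ideal.Quotient.mk M).comp
      (algebraMap A (AdicCompletion J A))) := by
    intro y
    obtain ⟨y, rfl⟩ := Ideal.Quotient.mk_surjective y
    obtain ⟨a, ha⟩ := Ideal.Quotient.mk_surjective (AdicCompletion.evalOneₐ J y)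
    refine ⟨a, ?_⟩
    rw [RingHom.comp_apply, Ideal.Quotient.eq]
    apply hJM
    rw [← AdicCompletion.ker_evalOneₐ_eq_map J fg, RingHom.mem_ker, map_sub]
    have : (AdicCompletion.evalOneₐ J).toRingHom (algebraMap A (AdicCompletion J A) a) =
        Ideal.Quotient.mk J a := by
      rw [← RingHom.comp_apply, AdicCompletion.evalOneₐ_comp_algebraMap_eq_mk]
    rw [this, ha]
    exact sub_self _
  have hmker : m = RingHom.ker ((Ideal.Quotient.mk M).comp
      (algebraMap A (AdicCompletion J A))) := by
    ext a
    rw [RingHom.mem_ker, RingHom.comp_apply, Ideal.Quotient.eq_zero_iff_mem]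
    rfl
  let _ : Field (AdicCompletion J A ⧸ M) := Ideal.Quotient.field M
  have hmmax : m.IsMaximal := by
    rw [hmker]
    exact RingHom.ker_isMaximal_of_surjective _ hsurj
  have hmM : m.map (algebraMap A (AdicCompletion J A)) = M :=
    (AdicCompletion.isMaximal_map_of_le J m hJm fg).eq_of_le hM.ne_top Ideal.map_comap_le
  have hlo : M.LiesOver m := ⟨rfl⟩
  let _ := Localization.AtPrime.algebraOfLiesOver m M
  have hloc : IsLocalHom (algebraMap (Localization.AtPrime m) (Localization.AtPrime M)) := by
    rw [RingHom.algebraMap_toAlgebra]
    exact Localization.isLocalHom_localRingHom m M (algebraMap A (AdicCompletion J A))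
      Ideal.LiesOver.over
  have : IsRegularLocalRing (Localization.AtPrime m) :=
    IsRegularRing.isRegularLocalRing_localization m
  apply Groth.Agent.Lib.Helper33.isRegularLocalRing_of_flat_of_map_maximalIdeal
    (Localization.AtPrime m) (Localization.AtPrime M)
  rw [← IsLocalization.AtPrime.map_eq_maximalIdeal m (Localization.AtPrime m), Ideal.map_map,
    ← IsScalarTower.algebraMap_eq A (Localization.AtPrime m) (Localization.AtPrime M),
    IsScalarTower.algebraMap_eq A (AdicCompletion J A) (Localization.AtPrime M),
    ← Ideal.map_map, hmM, IsLocalization.AtPrime.map_eq_maximalIdeal M (Localization.AtPrime M)]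

/-- Let A be a regular ring and J an ideal of A. Then the separated completion of A for the J-adic
topology is a regular ring. -/
theorem result (A : Type u) [CommRing A] [IsRegularRing A] (J : Ideal A) :
    IsRegularRing (AdicCompletion J A) := by
  have hN : IsNoetherianRing (AdicCompletion J A) :=
    Groth.Agent.Lib.Helper63.CompletionNoeth.isNoetherianRing_adicCompletion A J
  exact Groth.Agent.Lib.Helper33.isRegularRing_of_forall_isMaximal _
    (fun M _ => isRegularLocalRing_localization_completion A J M)

end Groth.Agent.S5785
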