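import Groth.Statements.S4558
import Mathlib
import Groth.Agent.Lib.Helper83.CompleteNoeth
import Groth.Agent.Lib.Helper83.AdicExt

set_option autoImplicit false
universe u
open EGA41

namespace Groth.Agent.S4558

/-- Complete Nakayama: over a ring complete along a finitely generated ideal `𝔫`, the completion of
a module `M` with `M ⧸ 𝔫 M` finite is finite. -/
theorem finite_adicCompletion_of_finite_quotient {B : Type u} [CommRing B] (𝔫 : Ideal B)
    [IsPrecomplete 𝔫 B] (hfg : 𝔫.FG) (M : Type u) [AddCommGroup M] [Module B M]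
    [hfin : Module.Finite B (M ⧸ (𝔫 • ⊤ : Submodule B M))] :
    Module.Finite B (AdicCompletion 𝔫 M) := by
  classical
  obtain ⟨r, g, hg⟩ := Module.Finite.exists_fin (R := B) (M := M ⧸ (𝔫 • ⊤ : Submodule B M))
  have hlift : ∀ j, ∃ m : M, Submodule.Quotient.mk m = g j := fun j =>
    Submodule.Quotient.mk_surjective _ (g j)
  choose m hm using hlift
  let f : (Fin r → B) →ₗ[B] AdicCompletion 𝔫 M :=
    Fintype.linearCombination B (fun j => AdicCompletion.of 𝔫 M (m j))
  have : IsPrecomplete 𝔫 (Fin r → B) := Groth.Agent.Lib.Helper83.isPrecomplete_pi 𝔫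
  have hsurj : Function.Surjective
      ((Submodule.mkQ (𝔫 • ⊤ : Submodule B (AdicCompletion 𝔫 M))) ∘ₗ f) := by
    intro y
    obtain ⟨y, rfl⟩ := Submodule.Quotient.mk_surjective _ y
    -- the class of `y` modulo `𝔫`
    obtain ⟨m0, hm0⟩ := Submodule.Quotient.mk_surjective _ (AdicCompletion.eval 𝔫 M 1 y)
    have hmem : (Submodule.Quotient.mk m0 : M ⧸ (𝔫 • ⊤ : Submodule B M)) ∈
        Submodule.span B (Set.range g) := by rw [hg]; trivial
    obtain ⟨c, hc⟩ := (Submodule.mem_span_range_iff_exists_fun B).1 hmem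
    refine ⟨c, ?_⟩
    rw [LinearMap.comp_apply, Submodule.mkQ_apply, Submodule.Quotient.eq]
    have hker : (𝔫 • ⊤ : Submodule B (AdicCompletion 𝔫 M)) =
        LinearMap.ker (AdicCompletion.eval 𝔫 M 1) := by
      have := AdicCompletion.pow_smul_top_eq_ker_eval (I := 𝔫) (M := M) (n := 1) hfg
      rw [← this, pow_one]
    rw [hker, LinearMap.mem_ker, map_sub]
    have h1 : f c = AdicCompletion.of 𝔫 M (∑ j, c j • m j) := by
      simp only [f, Fintype.linearCombination_apply, map_sum, map_smul]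
    rw [h1, AdicCompletion.eval_of, ← hm0, sub_eq_zero]
    have h2 : (Submodule.mkQ (𝔫 • ⊤ : Submodule B M)) (∑ j, c j • m j) =
        Submodule.Quotient.mk m0 := by
      rw [← hc, map_sum]
      refine Finset.sum_congr rfl fun j _ => ?_
      rw [map_smul, Submodule.mkQ_apply, hm]
    have h3 : (𝔫 ^ 1 • ⊤ : Submodule B M) = 𝔫 • ⊤ := by rw [pow_one]
    rw [Submodule.mkQ_apply, Submodule.Quotient.eq] at h2 ⊢
    rw [h3]
    exact h2
  have hf : Function.Surjective f := surjective_of_mkQ_comp_surjective hsurj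
  exact Module.Finite.of_surjective f hf

/-- Let A be a discrete ring, B an adic topological A-algebra with ideal of definition 𝔫 (B separated
and complete for the 𝔫-adic topology) and B₀ = B/𝔫. If Ω_{B₀/A} and 𝔫/𝔫² are B₀-modules of finite
type, then Ω̂_{B/A}, the 𝔫-adic completion of Ω_{B/A}, is a B-module of finite type. -/
theorem result {A B : Type u} [CommRing A] [CommRing B] [Algebra A B] (𝔫 : Ideal B)
    [IsAdicComplete 𝔫 B] [Module.Finite (B ⧸ 𝔫) (Ω[B ⧸ 𝔫⁄A])] [Module.Finite (B ⧸ 𝔫) 𝔫.Cotangent] :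
    Module.Finite B (AdicCompletion 𝔫 (Ω[B⁄A])) := by
  classical
  -- `𝔫` is finitely generated
  have hfinB0 : Module.Finite B (B ⧸ 𝔫) := inferInstance
  have h1 : Module.Finite B 𝔫.Cotangent := Module.Finite.trans (B ⧸ 𝔫) _
  have h2 : Module.Finite B 𝔫.cotangentIdeal := Module.Finite.equiv 𝔫.cotangentEquivIdeal
  have h3 : Module.Finite (B ⧸ 𝔫 ^ 2) 𝔫.cotangentIdeal :=
    Module.Finite.of_restrictScalars_finite B (B ⧸ 𝔫 ^ 2) 𝔫.cotangentIdeal
  have h4 : (𝔫.cotangentIdeal).FG := Module.Finite.iff_fg.1 h3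
  have h5 : (𝔫.map (Ideal.Quotient.mk (𝔫 ^ 2))).FG := by
    rw [Ideal.map_eq_submodule_map]
    exact h4
  have hfg : 𝔫.FG := Groth.Agent.Lib.Helper83.fg_of_isAdicComplete_of_fg_map_sq 𝔫 h5
  -- `Ω ⧸ 𝔫 Ω` is finite
  have hsurj : Function.Surjective (algebraMap B (B ⧸ 𝔫)) := Ideal.Quotient.mk_surjective
  have hker : RingHom.ker (algebraMap B (B ⧸ 𝔫)) = 𝔫 := Ideal.mk_ker
  have h6 : Module.Finite B (RingHom.ker (algebraMap B (B ⧸ 𝔫))).Cotangent := by
    rw [hker]; exact h1
  have h7 : Module.Finite B (Ω[B ⧸ 𝔫⁄A]) := Module.Finite.trans (B ⧸ 𝔫) _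
  have hex := KaehlerDifferential.exact_kerCotangentToTensor_mapBaseChange A B (B ⧸ 𝔫) hsurj
  have hsurj2 := KaehlerDifferential.mapBaseChange_surjective A B (B ⧸ 𝔫) hsurj
  have h8 : Module.Finite B (TensorProduct B (B ⧸ 𝔫) (Ω[B⁄A])) := by
    rw [Module.finite_def]
    apply Submodule.fg_of_fg_map_of_fg_inf_ker
      ((KaehlerDifferential.mapBaseChange A B (B ⧸ 𝔫)).restrictScalars B)
    · rw [Submodule.map_top, LinearMap.range_eq_top.2 (by exact hsurj2)]
      exact Module.finite_def.1 h7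
    · rw [top_inf_eq]
      have : LinearMap.ker ((KaehlerDifferential.mapBaseChange A B (B ⧸ 𝔫)).restrictScalars B) =
          LinearMap.range (KaehlerDifferential.kerCotangentToTensor A B (B ⧸ 𝔫)) := by
        ext t
        rw [LinearMap.mem_ker, LinearMap.mem_range]
        exact hex t
      rw [this, LinearMap.range_eq_map]
      exact (Module.finite_def.1 h6).map _
  have h9 : Module.Finite B (Ω[B⁄A] ⧸ (𝔫 • ⊤ : Submodule B (Ω[B⁄A]))) :=
    Module.Finite.equiv (TensorProduct.quotTensorEquivQuotSMul (Ω[B⁄A]) 𝔫)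
  exact finite_adicCompletion_of_finite_quotient 𝔫 hfg (Ω[B⁄A])

end Groth.Agent.S4558
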