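import Groth.Statements.S15797
import Mathlib
import Groth.Agent.S0559
import Groth.Agent.Lib.Helper29.CM
-- import your own Groth.Agent.* helpers here

set_option autoImplicit false
universe u v
open WildQuot

namespace Groth.Agent.S15797

open RingTheory.Sequence IsLocalRing

section aux

/-- A regular local ring is Cohen–Macaulay (as a module over itself). -/
lemma isCM_of_regular (A : Type u) [CommRing A] [IsRegularLocalRing A] (n : ℕ)
    (hn : ringKrullDim A = n) (u : Fin n → A)
    (hu : Ideal.span (Set.range u) = maximalIdeal A) :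
    LocCoh.IsCohenMacaulayModule A A := by
  have hsf : (maximalIdeal A).spanFinrank = n := by
    have h5 : ((maximalIdeal A).spanFinrank : WithBot ℕ∞) = ringKrullDim A :=
      IsRegularLocalRing.spanFinrank_maximalIdeal
    rw [hn] at h5
    exact_mod_cast h5
  have hreg := Groth.Agent.S0559.isRegular_aux n A hsf u hu
  have hdepth : (n : ℕ∞) ≤ LocCoh.depth A A := by
    have := Groth.Agent.Lib.Helper29.DepthLib.length_le_idealDepth (maximalIdeal A) A
      hreg.toIsWeaklyRegular (rs := List.ofFn u) (by
        intro r hr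
        rw [List.mem_ofFn] at hr
        obtain ⟨i, rfl⟩ := hr
        rw [← hu]
        exact Ideal.subset_span ⟨i, rfl⟩)
    unfold LocCoh.depth
    simpa using this
  unfold LocCoh.IsCohenMacaulayModule
  have hle := Groth.Agent.Lib.Helper29.DepthLib.depth_le_supportDim A A
  rw [Module.supportDim_self_eq_ringKrullDim, hn] at hle ⊢
  refine le_antisymm ?_ hle
  exact_mod_cast hdepth

/-- A system of parameters in a Cohen–Macaulay local ring is a weakly regular sequence. -/
lemma isWeaklyRegular_of_sop (A : Type u) [CommRing A] [IsLocalRing A] [IsNoetherianRing A]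
    (hCM : LocCoh.IsCohenMacaulayModule A A) (n : ℕ) (hn : ringKrullDim A = n)
    (xs : List A) (hlen : xs.length = n) (hmem : ∀ x ∈ xs, x ∈ maximalIdeal A)
    (hrad : maximalIdeal A ≤ (Ideal.ofList xs).radical) : IsWeaklyRegular A xs := by
  obtain ⟨h1, -⟩ := Groth.Agent.Lib.Helper29.CMLib.isWeaklyRegular_iff_of_isCM A xs A hCM hmem
  rw [h1]
  have hsmul : Ideal.ofList xs • (⊤ : Submodule A A) = Ideal.ofList xs := by
    rw [smul_eq_mul, Ideal.mul_top]
  have hne : Ideal.ofList xs ≠ ⊤ := by
    intro h
    have hle : Ideal.ofList xs ≤ maximalIdeal A := Ideal.span_le.mpr (fun x hx => hmem x hx)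
    rw [h] at hle
    exact (IsLocalRing.maximalIdeal.isMaximal A).ne_top (top_le_iff.mp hle)
  have h0 : ringKrullDim (A ⧸ Ideal.ofList xs) = 0 := by
    have : Nontrivial (A ⧸ Ideal.ofList xs) := Ideal.Quotient.nontrivial_iff.mpr hne
    rw [← ringKrullDimZero_iff_ringKrullDim_eq_zero,
      Ideal.krullDimLE_zero_quotient_iff_forall_minimalPrimes_isMaximal]
    intro J hJ
    have hJp : J.IsPrime := hJ.1.1
    have hIJ : Ideal.ofList xs ≤ J := hJ.1.2
    have hmJ : maximalIdeal A ≤ J := hrad.trans (hJp.radical_le_iff.mpr hIJ)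
    have : maximalIdeal A = J :=
      (IsLocalRing.maximalIdeal.isMaximal A).eq_of_le hJp.ne_top hmJ
    rw [← this]
    exact IsLocalRing.maximalIdeal.isMaximal A
  rw [hsmul, Module.supportDim_quotient_eq_ringKrullDim, Module.supportDim_self_eq_ringKrullDim,
    hn, hlen, h0, zero_add]

/-- In a Cohen–Macaulay local ring of dimension `n`, each member of a system of parameters
is regular modulo the others. -/
lemma reg_of_sop (A : Type u) [CommRing A] [IsLocalRing A] [IsNoetherianRing A]
    (hCM : LocCoh.IsCohenMacaulayModule A A) (n : ℕ) (hn : ringKrullDim A = n)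
    (w : Fin n → A) (hw : ∀ i, w i ∈ maximalIdeal A)
    (hrad : maximalIdeal A ≤ (Ideal.span (Set.range w)).radical) (i : Fin n) (r : A)
    (h : w i * r ∈ Ideal.span (w '' {j | j ≠ i})) : r ∈ Ideal.span (w '' {j | j ≠ i}) := by
  classical
  have hset1 : {x | x ∈ ((Finset.univ.erase i).toList.map w)} = w '' {j | j ≠ i} := by
    ext x
    simp only [List.mem_map, Finset.mem_toList, Finset.mem_erase, Finset.mem_univ, and_true,
      Set.mem_ofPred_eq, Set.mem_image]
  have hof1 : Ideal.ofList ((Finset.univ.erase i).toList.map w) =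
      Ideal.span (w '' {j | j ≠ i}) := by
    show Ideal.span _ = _
    rw [hset1]
  have hof : Ideal.ofList ((Finset.univ.erase i).toList.map w ++ [w i]) =
      Ideal.span (Set.range w) := by
    rw [Ideal.ofList_append, Ideal.ofList_singleton, hof1, ← Ideal.span_union]
    congr 1
    ext x
    simp only [Set.mem_union, Set.mem_image, Set.mem_ofPred_eq, Set.mem_singleton_iff,
      Set.mem_range]
    constructor
    · rintro (⟨j, -, rfl⟩ | rfl)
      · exact ⟨j, rfl⟩
      · exact ⟨i, rfl⟩
    · rintro ⟨j, rfl⟩
      by_cases hj : j = i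
      · right; rw [hj]
      · left; exact ⟨j, hj, rfl⟩
  have hlen : ((Finset.univ.erase i).toList.map w ++ [w i]).length = n := by
    rw [List.length_append, List.length_map, Finset.length_toList,
      Finset.card_erase_of_mem (Finset.mem_univ i), Finset.card_univ, Fintype.card_fin,
      List.length_singleton]
    have := i.pos
    omega
  have hmem : ∀ x ∈ ((Finset.univ.erase i).toList.map w ++ [w i]), x ∈ maximalIdeal A := by
    intro x hx
    rw [List.mem_append, List.mem_map, List.mem_singleton] at hx
    rcases hx with ⟨j, -, rfl⟩ | rfl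
    · exact hw j
    · exact hw i
  have hreg := isWeaklyRegular_of_sop A hCM n hn _ hlen hmem (by rw [hof]; exact hrad)
  rw [isWeaklyRegular_append_iff, isWeaklyRegular_singleton_iff] at hreg
  have h2 := hreg.2
  have hsmul : Ideal.ofList ((Finset.univ.erase i).toList.map w) • (⊤ : Submodule A A) =
      Ideal.span (w '' {j | j ≠ i}) := by
    rw [smul_eq_mul, Ideal.mul_top, hof1]
  rw [← hsmul] at h ⊢
  have h3 : w i • (Submodule.Quotient.mk r : A ⧸
      (Ideal.ofList ((Finset.univ.erase i).toList.map w) • (⊤ : Submodule A A))) = w i • 0 := by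
    rw [smul_zero, ← Submodule.Quotient.mk_smul, Submodule.Quotient.mk_eq_zero]
    exact h
  exact (Submodule.Quotient.mk_eq_zero _).mp (h2 h3)

lemma length_quot_mul_ge {A : Type*} [CommRing A] (J : Ideal A) (a b : A)
    (ha : ∀ r, a * r ∈ J → r ∈ J) :
    Module.length A (A ⧸ (J ⊔ Ideal.span {a})) + Module.length A (A ⧸ (J ⊔ Ideal.span {b})) ≤
      Module.length A (A ⧸ (J ⊔ Ideal.span {a * b})) := by
  have hle : J ⊔ Ideal.span {a * b} ≤ J ⊔ Ideal.span {a} := by
    refine sup_le_sup_left ?_ J
    rw [Ideal.span_singleton_le_iff_mem]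
    exact Ideal.mul_mem_right _ _ (Ideal.mem_span_singleton_self a)
  let q : (A ⧸ (J ⊔ Ideal.span {a * b})) →ₗ[A] (A ⧸ (J ⊔ Ideal.span {a})) :=
    Submodule.mapQ _ _ LinearMap.id hle
  have hq : Function.Surjective q := by
    intro x
    obtain ⟨r, rfl⟩ := Submodule.Quotient.mk_surjective _ x
    exact ⟨Submodule.Quotient.mk r, rfl⟩
  have hφle : J ⊔ Ideal.span {b} ≤
      Submodule.comap (LinearMap.lsmul A A a) (J ⊔ Ideal.span {a * b}) := by
    intro r hr
    obtain ⟨j, hj, c, hc, rfl⟩ := Submodule.mem_sup.mp hr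
    obtain ⟨c', rfl⟩ := Ideal.mem_span_singleton'.mp hc
    rw [Submodule.mem_comap]
    simp only [LinearMap.lsmul_apply, smul_eq_mul, mul_add]
    refine Submodule.add_mem _ (Ideal.mem_sup_left (Ideal.mul_mem_left _ _ hj))
      (Ideal.mem_sup_right ?_)
    rw [Ideal.mem_span_singleton']
    exact ⟨c', by ring⟩
  let φ : (A ⧸ (J ⊔ Ideal.span {b})) →ₗ[A] (A ⧸ (J ⊔ Ideal.span {a * b})) :=
    Submodule.mapQ _ _ (LinearMap.lsmul A A a) hφle
  have hφinj : Function.Injective φ := by
    rw [← LinearMap.ker_eq_bot, LinearMap.ker_eq_bot']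
    intro x hx
    obtain ⟨r, rfl⟩ := Submodule.Quotient.mk_surjective _ x
    simp only [φ, Submodule.mapQ_apply, LinearMap.lsmul_apply, smul_eq_mul] at hx
    rw [Submodule.Quotient.mk_eq_zero] at hx ⊢
    obtain ⟨j, hj, c, hc, hsum⟩ := Submodule.mem_sup.mp hx
    obtain ⟨c', rfl⟩ := Ideal.mem_span_singleton'.mp hc
    have h1 : a * (r - c' * b) ∈ J := by
      have : a * (r - c' * b) = j := by
        rw [mul_sub, ← hsum]; ring
      rw [this]; exact hj
    have h2 := ha _ h1
    have : r = (r - c' * b) + c' * b := by ring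
    rw [this]
    exact Submodule.add_mem _ (Ideal.mem_sup_left h2)
      (Ideal.mem_sup_right (Ideal.mem_span_singleton'.mpr ⟨c', rfl⟩))
  have hφq : ∀ x, φ x ∈ LinearMap.ker q := by
    intro x
    obtain ⟨r, rfl⟩ := Submodule.Quotient.mk_surjective _ x
    rw [LinearMap.mem_ker]
    simp only [φ, q, Submodule.mapQ_apply, LinearMap.lsmul_apply, smul_eq_mul, LinearMap.id_coe,
      id_eq]
    rw [Submodule.Quotient.mk_eq_zero]
    exact Ideal.mem_sup_right (Ideal.mem_span_singleton'.mpr ⟨r, mul_comm r a⟩)
  rw [Module.length_eq_add_of_exact (LinearMap.ker q).subtype q (Submodule.subtype_injective _) hq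
    (LinearMap.exact_subtype_ker_map q), add_comm]
  refine add_le_add ?_ le_rfl
  exact Module.length_le_of_injective (LinearMap.codRestrict (LinearMap.ker q) φ hφq)
    (fun x y hxy => hφinj (by simpa using congrArg Subtype.val hxy))

lemma span_range_update {A : Type*} [CommRing A] {n : ℕ} (w : Fin n → A) (i : Fin n) (a : A) :
    Ideal.span (Set.range (Function.update w i a)) =
      Ideal.span (w '' {j | j ≠ i}) ⊔ Ideal.span {a} := by
  rw [← Ideal.span_union]
  congr 1
  ext x
  simp only [Set.mem_range, Set.mem_union, Set.mem_image, Set.mem_ofPred_eq,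
    Set.mem_singleton_iff]
  constructor
  · rintro ⟨j, rfl⟩
    by_cases hj : j = i
    · right; rw [hj, Function.update_self]
    · left; exact ⟨j, hj, (Function.update_of_ne hj _ _).symm⟩
  · rintro (⟨j, hj, rfl⟩ | rfl)
    · exact ⟨j, Function.update_of_ne hj _ _⟩
    · exact ⟨i, Function.update_self _ _ _⟩

lemma prod_update_card {n : ℕ} {G : Type*} (c : Fin n → Finset G) (i : Fin n) (s : Finset G) :
    ∏ j, (Function.update c i s j).card = s.card * ∏ j ∈ Finset.univ.erase i, (c j).card := by
  rw [← Finset.mul_prod_erase Finset.univ _ (Finset.mem_univ i), Function.update_self]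
  congr 1
  refine Finset.prod_congr rfl (fun j hj => ?_)
  rw [Function.update_of_ne (Finset.ne_of_mem_erase hj)]

lemma sum_update_card {n : ℕ} {G : Type*} (c : Fin n → Finset G) (i : Fin n) (s : Finset G) :
    ∑ j, (Function.update c i s j).card = s.card + ∑ j ∈ Finset.univ.erase i, (c j).card := by
  rw [← Finset.add_sum_erase Finset.univ _ (Finset.mem_univ i), Function.update_self]
  congr 1
  refine Finset.sum_congr rfl (fun j hj => ?_)
  rw [Function.update_of_ne (Finset.ne_of_mem_erase hj)]

lemma v_update {A : Type*} [CommRing A] {n : ℕ} {G : Type*} (F : Fin n → G → A)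
    (c : Fin n → Finset G) (i : Fin n) (s : Finset G) :
    (fun j => ∏ σ ∈ Function.update c i s j, F j σ) =
      Function.update (fun j => ∏ σ ∈ c j, F j σ) i (∏ σ ∈ s, F i σ) := by
  funext j
  by_cases hj : j = i
  · subst hj
    rw [Function.update_self, Function.update_self]
  · rw [Function.update_of_ne hj, Function.update_of_ne hj]

section main
variable (A : Type u) [CommRing A] [IsLocalRing A] [IsNoetherianRing A]
  (hCM : LocCoh.IsCohenMacaulayModule A A) (n : ℕ) (hn : ringKrullDim A = n)
  {G : Type v} (F : Fin n → G → A) (hF : ∀ i σ, F i σ ∈ maximalIdeal A)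
  (hrad : ∀ τ : Fin n → G,
    maximalIdeal A ≤ (Ideal.span (Set.range fun i => F i (τ i))).radical)

include hF in
omit [IsNoetherianRing A] in
lemma good_mem (c : Fin n → Finset G) (hc : ∀ i, (c i).Nonempty) (i : Fin n) :
    ∏ σ ∈ c i, F i σ ∈ maximalIdeal A := by
  obtain ⟨σ, hσ⟩ := hc i
  exact Ideal.prod_mem _ hσ (hF i σ)

include hrad in
omit [IsNoetherianRing A] in
lemma good_rad (c : Fin n → Finset G) :
    maximalIdeal A ≤ (Ideal.span (Set.range fun i => ∏ σ ∈ c i, F i σ)).radical := by
  rw [Ideal.radical_eq_sInf]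
  refine le_sInf ?_
  rintro P ⟨hP, hPp⟩
  have : ∀ i, ∃ σ, F i σ ∈ P := by
    intro i
    have h1 : ∏ σ ∈ c i, F i σ ∈ P := hP (Ideal.subset_span ⟨i, rfl⟩)
    rw [hPp.prod_mem_iff] at h1
    obtain ⟨σ, -, h⟩ := h1
    exact ⟨σ, h⟩
  choose τ hτ using this
  refine (hrad τ).trans ?_
  rw [hPp.radical_le_iff]
  exact Ideal.span_le.mpr (by rintro _ ⟨i, rfl⟩; exact hτ i)

include hCM hn hF hrad in
lemma main_ineq [DecidableEq G] : ∀ (N : ℕ) (c : Fin n → Finset G), (∀ i, (c i).Nonempty) →
    ∑ i, (c i).card = N →
    ((∏ i, (c i).card : ℕ) : ℕ∞) ≤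
      Module.length A (A ⧸ Ideal.span (Set.range fun i => ∏ σ ∈ c i, F i σ)) := by
  intro N
  induction N using Nat.strong_induction_on with
  | _ N ih =>
  intro c hc hN
  by_cases hall : ∀ i, (c i).card = 1
  · have h1 : (∏ i, (c i).card) = 1 := Finset.prod_eq_one (fun i _ => hall i)
    rw [h1, Nat.cast_one, Order.one_le_iff_ne_zero, Ne, Module.length_eq_zero_iff,
      Submodule.Quotient.subsingleton_iff]
    intro htop
    have hle : Ideal.span (Set.range fun i => ∏ σ ∈ c i, F i σ) ≤ maximalIdeal A :=
      Ideal.span_le.mpr (by rintro _ ⟨i, rfl⟩; exact good_mem A n F hF c hc i)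
    rw [htop] at hle
    exact (IsLocalRing.maximalIdeal.isMaximal A).ne_top (top_le_iff.mp hle)
  · push Not at hall
    obtain ⟨i, hi⟩ := hall
    have hcard : 2 ≤ (c i).card := by have := (hc i).card_pos; omega
    obtain ⟨σ, hσ⟩ := hc i
    have hs'card : ((c i).erase σ).card = (c i).card - 1 := Finset.card_erase_of_mem hσ
    have hs'ne : ((c i).erase σ).Nonempty := by rw [← Finset.card_pos]; omega
    have hc1 : ∀ j, (Function.update c i {σ} j).Nonempty := by
      intro j
      by_cases hj : j = i
      · subst hj; rw [Function.update_self]; exact Finset.singleton_nonempty σ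
      · rw [Function.update_of_ne hj]; exact hc j
    have hc2 : ∀ j, (Function.update c i ((c i).erase σ) j).Nonempty := by
      intro j
      by_cases hj : j = i
      · subst hj; rw [Function.update_self]; exact hs'ne
      · rw [Function.update_of_ne hj]; exact hc j
    have hsum : ∑ j, (c j).card = (c i).card + ∑ j ∈ Finset.univ.erase i, (c j).card :=
      (Finset.add_sum_erase Finset.univ _ (Finset.mem_univ i)).symm
    have hprod : ∏ j, (c j).card = (c i).card * ∏ j ∈ Finset.univ.erase i, (c j).card :=
      (Finset.mul_prod_erase Finset.univ _ (Finset.mem_univ i)).symm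
    have ih1 := ih _ (by
      rw [← hN, hsum, sum_update_card, Finset.card_singleton]; omega)
      (Function.update c i {σ}) hc1 rfl
    have ih2 := ih _ (by
      rw [← hN, hsum, sum_update_card, hs'card]; omega)
      (Function.update c i ((c i).erase σ)) hc2 rfl
    rw [prod_update_card, Finset.card_singleton, v_update, span_range_update,
      Finset.prod_singleton] at ih1
    rw [prod_update_card, hs'card, v_update, span_range_update] at ih2
    -- regularity of `F i σ` modulo the others
    have hreg : ∀ r, F i σ * r ∈ Ideal.span ((fun j => ∏ σ ∈ c j, F j σ) '' {j | j ≠ i}) →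
        r ∈ Ideal.span ((fun j => ∏ σ ∈ c j, F j σ) '' {j | j ≠ i}) := by
      intro r hr
      have himg : (fun j => ∏ σ ∈ Function.update c i {σ} j, F j σ) '' {j | j ≠ i} =
          (fun j => ∏ σ ∈ c j, F j σ) '' {j | j ≠ i} := by
        refine Set.image_congr (fun j hj => ?_)
        show ∏ σ ∈ Function.update c i {σ} j, F j σ = _
        rw [Function.update_of_ne hj]
      have := reg_of_sop A hCM n hn (fun j => ∏ σ ∈ Function.update c i {σ} j, F j σ)
        (good_mem A n F hF _ hc1) (good_rad A n F hrad _) i r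
      rw [himg] at this
      apply this
      show (∏ σ' ∈ Function.update c i {σ} i, F i σ') * r ∈ _
      rw [Function.update_self, Finset.prod_singleton]
      exact hr
    have hadd := length_quot_mul_ge _ (F i σ) (∏ σ' ∈ (c i).erase σ, F i σ') hreg
    rw [Finset.mul_prod_erase (c i) (F i) hσ] at hadd
    have hspan : Ideal.span (Set.range fun j => ∏ σ ∈ c j, F j σ) =
        Ideal.span ((fun j => ∏ σ ∈ c j, F j σ) '' {j | j ≠ i}) ⊔
          Ideal.span {∏ σ ∈ c i, F i σ} := by
      rw [← span_range_update, Function.update_eq_self]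
    rw [hspan, hprod]
    refine le_trans ?_ ((add_le_add ih1 ih2).trans hadd)
    rw [← Nat.cast_add]
    refine Nat.cast_le.mpr (le_of_eq ?_)
    rw [← add_mul]
    congr 1
    omega

end main

end aux

/-- Let `A` be a regular local ring of Krull dimension `n` with maximal ideal `m` generated by `u_1, …,
u_n`, let a finite group `G` of order `g` act on `A` by ring automorphisms, and suppose `u` is
weakly admissible: for every choice `σ_1, …, σ_n ∈ G` the radical of `(σ_1 u_1, …, σ_n u_n)`
contains `m`. With `x_i = ∏_{σ ∈ G} σ u_i` the norms, the length of `A / (x_1, …, x_n)` is at least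
`g ^ n` (so the finite flat map from `k[[x_1, …, x_n]]` has degree at least `g ^ n`). (The published
statement is for a complete regular local ring containing a `G`-fixed field of representatives; this
row does not assume those.) -/
theorem result
    (A : Type u) [CommRing A] [IsRegularLocalRing A]
    (G : Type v) [Group G] [Fintype G] [MulSemiringAction G A]
    (n : ℕ) (hn : ringKrullDim A = n) (u : Fin n → A)
    (hu : Ideal.span (Set.range u) = IsLocalRing.maximalIdeal A)
    (hwa : ∀ τ : Fin n → G,
      IsLocalRing.maximalIdeal A ≤ (Ideal.span (Set.range fun i => τ i • u i)).radical) :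
    ((Fintype.card G ^ n : ℕ) : ℕ∞) ≤
      Module.length A (A ⧸ Ideal.span (Set.range fun i => ∏ σ : G, σ • u i)) := by
  classical
  have hCM := isCM_of_regular A n hn u hu
  have hF : ∀ (i : Fin n) (σ : G), σ • u i ∈ IsLocalRing.maximalIdeal A := by
    intro i σ
    have hui : u i ∈ IsLocalRing.maximalIdeal A := by
      rw [← hu]; exact Ideal.subset_span ⟨i, rfl⟩
    rw [IsLocalRing.mem_maximalIdeal, mem_nonunits_iff] at hui ⊢
    intro h
    apply hui
    have := h.map (MulSemiringAction.toRingHom G A σ⁻¹)
    simpa using this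
  have := main_ineq A hCM n hn (fun i σ => σ • u i) hF hwa _ (fun _ => Finset.univ)
    (fun _ => Finset.univ_nonempty) rfl
  simpa [Finset.card_univ, Finset.prod_const] using this

end Groth.Agent.S15797
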