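import Groth.Statements.S9829
import Groth.Agent.S0564
import Groth.Agent.S0558
import Groth.Agent.Lib.Helper33.NormalOfPrime

set_option autoImplicit false
universe u
open CAlg

namespace Groth.Agent.S9829

open IsLocalRing in
/-- A Noetherian local domain with principal maximal ideal is integrally closed. -/
theorem isIntegrallyClosed_of_isPrincipal (B : Type u) [CommRing B] [IsLocalRing B]
    [IsNoetherianRing B] [IsDomain B] (h : (maximalIdeal B).IsPrincipal) :
    IsIntegrallyClosed B := by
  have h43 : (maximalIdeal B).IsPrincipal → (IsIntegrallyClosed B ∧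
      ∀ P : Ideal B, P ≠ ⊥ → P.IsPrime → P = maximalIdeal B) :=
    ((tfae_of_isNoetherianRing_of_isLocalRing_of_isDomain B).out 4 3).mp
  exact (h43 h).1

open IsLocalRing in
theorem isIntegrallyClosed_aux (d : ℕ) : ∀ (R : Type u) [CommRing R] [IsRegularLocalRing R],
    ringKrullDim R ≤ d → IsIntegrallyClosed R := by
  induction d with
  | zero =>
    intro R _ _ hd
    have hspan : ((maximalIdeal R).spanFinrank : WithBot ℕ∞) = ringKrullDim R :=
      IsRegularLocalRing.spanFinrank_maximalIdeal
    have h0 : (maximalIdeal R).spanFinrank = 0 := by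
      have : ((maximalIdeal R).spanFinrank : WithBot ℕ∞) ≤ ((0 : ℕ) : WithBot ℕ∞) := hspan ▸ hd
      have h' : (maximalIdeal R).spanFinrank ≤ 0 := by exact_mod_cast this
      omega
    have hm : maximalIdeal R = ⊥ :=
      (Submodule.spanFinrank_eq_zero_iff_eq_bot (maximalIdeal R).fg_of_isNoetherianRing).mp h0
    exact ((IsLocalRing.isField_iff_maximalIdeal_eq).mpr hm).toField.instIsIntegrallyClosed
  | succ d ih =>
    intro R _ _ hd
    have : IsDomain R := Groth.Agent.S0558.result R
    by_cases hm : maximalIdeal R = ⊥
    · exact ((IsLocalRing.isField_iff_maximalIdeal_eq).mpr hm).toField.instIsIntegrallyClosed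
    · -- pick `x ∈ m \ m²`
      have hex : ∃ x ∈ maximalIdeal R, x ∉ maximalIdeal R ^ 2 := by
        by_contra hcon
        push Not at hcon
        apply hm
        refine Submodule.eq_bot_of_le_smul_of_le_jacobson_bot (maximalIdeal R) (maximalIdeal R)
          (IsNoetherian.noetherian _) ?_ ?_
        · rw [smul_eq_mul, ← pow_two]
          exact fun x hx => hcon x hx
        · rw [IsLocalRing.jacobson_eq_maximalIdeal ⊥ bot_ne_top]
      obtain ⟨x, hx, hx2⟩ := hex
      obtain ⟨hreg, -⟩ := Groth.Agent.S0558.isRegularLocalRing_quot R x hx hx2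
      have hdom : IsDomain (R ⧸ Ideal.span ({x} : Set R)) :=
        Groth.Agent.S0558.result (R ⧸ Ideal.span ({x} : Set R))
      have hprime : (Ideal.span ({x} : Set R)).IsPrime :=
        (Ideal.Quotient.isDomain_iff_prime _).mp hdom
      have hx0 : x ≠ 0 := by
        rintro rfl
        exact hx2 (Ideal.zero_mem _)
      have hxp : Prime x := (Ideal.span_singleton_prime hx0).mp hprime
      refine Groth.Agent.Lib.Helper33.isIntegrallyClosed_of_prime R x hxp ?_ ?_
      · -- `R_(x)` has principal maximal ideal
        apply isIntegrallyClosed_of_isPrincipal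
        rw [← Localization.AtPrime.map_eq_maximalIdeal, Ideal.map_span, Set.image_singleton]
        exact ⟨⟨_, rfl⟩⟩
      · intro p hp hxp'
        have : IsRegularLocalRing (Localization.AtPrime p) := Groth.Agent.S0564.result R p
        apply ih
        rw [IsLocalization.AtPrime.ringKrullDim_eq_height p (Localization.AtPrime p)]
        have hlt : p < maximalIdeal R :=
          lt_of_le_of_ne (IsLocalRing.le_maximalIdeal hp.ne_top) (fun h => hxp' (h ▸ hx))
        have h1 : p.height + 1 ≤ (maximalIdeal R).height :=
          Ideal.height_add_one_le_of_lt_of_isPrime hlt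
        have h2 : ((maximalIdeal R).height : WithBot ℕ∞) ≤ ((d + 1 : ℕ) : WithBot ℕ∞) := by
          rw [IsLocalRing.maximalIdeal_height_eq_ringKrullDim]
          exact hd
        have h3 : (maximalIdeal R).height ≤ ((d + 1 : ℕ) : ℕ∞) := by exact_mod_cast h2
        have h4 : p.height + 1 ≤ ((d : ℕ) : ℕ∞) + 1 := by
          refine le_trans h1 (le_trans h3 ?_)
          push_cast
          exact le_refl _
        have h5 : p.height ≤ (d : ℕ∞) := (ENat.add_le_add_iff_right ENat.one_ne_top).mp h4
        exact_mod_cast h5

/-- A regular local ring is an integrally closed domain. Hence a scheme all of whose local rings are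
regular is normal. -/
theorem result (A : Type u) [CommRing A] [IsRegularLocalRing A] :
    IsIntegrallyClosed A := by
  obtain ⟨d, hd⟩ : ∃ d : ℕ, ringKrullDim A = d :=
    ⟨(IsLocalRing.maximalIdeal A).spanFinrank, IsRegularLocalRing.spanFinrank_maximalIdeal.symm⟩
  exact isIntegrallyClosed_aux d A hd.le

end Groth.Agent.S9829
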