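import Groth.Statements.S14670
import Groth.Agent.S0563
import Groth.Agent.S9829
import Groth.Agent.S15797
import Groth.Agent.Lib.Helper11.IntegralDim

set_option autoImplicit false
universe u
open CAlg

namespace Groth.Agent.S14670

open RingTheory.Sequence IsLocalRing CategoryTheory

/-- local-global principle for weakly regular sequences -/
theorem isWeaklyRegular_of_localized_maximal {S : Type u} [CommRing S] (M : Type u) [AddCommGroup M]
    [Module S M] (rs : List S)
    (h : ∀ (q : Ideal S) [q.IsMaximal], IsWeaklyRegular (LocalizedModule q.primeCompl M) rs) :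
    IsWeaklyRegular M rs := by
  rw [isWeaklyRegular_iff_Fin]
  intro i
  rw [isSMulRegular_iff_right_eq_zero_of_smul]
  intro y hy
  obtain ⟨m, rfl⟩ := Submodule.Quotient.mk_surjective _ y
  rw [← Submodule.Quotient.mk_smul, Submodule.Quotient.mk_eq_zero] at hy
  rw [Submodule.Quotient.mk_eq_zero]
  refine Submodule.mem_of_localization_maximal
    (fun q _ => LocalizedModule q.primeCompl M) (fun q _ => LocalizedModule.mkLinearMap q.primeCompl M)
    m _ ?_
  intro q hq
  have hq' := (isWeaklyRegular_iff_Fin _ _).1 (h q) i
  rw [Submodule.localized₀_smul, Submodule.localized₀_top]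
  have h1 : rs[i] • LocalizedModule.mkLinearMap q.primeCompl M m ∈
      (Ideal.ofList (rs.take i) • ⊤ : Submodule S (LocalizedModule q.primeCompl M)) := by
    rw [← map_smul]
    have := Submodule.map_le_localized₀ q.primeCompl (LocalizedModule.mkLinearMap q.primeCompl M)
      (Ideal.ofList (rs.take i) • (⊤ : Submodule S M)) (Submodule.mem_map_of_mem hy)
    rwa [Submodule.localized₀_smul, Submodule.localized₀_top] at this
  have h2 := hq'.right_eq_zero_of_smul (x := Submodule.Quotient.mk
    (LocalizedModule.mkLinearMap q.primeCompl M m)) (by
      rw [← Submodule.Quotient.mk_smul, Submodule.Quotient.mk_eq_zero]; exact h1)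
  exact (Submodule.Quotient.mk_eq_zero _).1 h2

section StepA

variable (R S : Type u) [CommRing R] [CommRing S]
    [IsRegularLocalRing R] [IsDomain S] [Algebra R S] [Module.Finite R S]
    (hinj : Function.Injective (algebraMap R S))

include hinj in
/-- the localization of `S` at a maximal ideal has the dimension of `R` -/
theorem ringKrullDim_localization (q : Ideal S) [q.IsMaximal] :
    ringKrullDim (Localization.AtPrime q) = ringKrullDim R := by
  have : IsDomain R := Groth.Agent.S0558.result R
  have : IsIntegrallyClosed R := Groth.Agent.S9829.result R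
  have : Algebra.IsIntegral R S := Algebra.IsIntegral.of_finite R S
  have : FaithfulSMul R S := (faithfulSMul_iff_algebraMap_injective R S).2 hinj
  have : IsNoetherianRing S := IsNoetherianRing.of_finite R S
  have hmax : (q.under R).IsMaximal := Ideal.isMaximal_comap_of_isIntegral_of_isMaximal q
  have hqm : q.under R = maximalIdeal R := IsLocalRing.eq_maximalIdeal hmax
  have : q.LiesOver (maximalIdeal R) := ⟨hqm.symm⟩
  rw [IsLocalization.AtPrime.ringKrullDim_eq_height q]
  apply le_antisymm
  · calc (q.height : WithBot ℕ∞) ≤ ringKrullDim S :=
          Ideal.height_le_ringKrullDim_of_ne_top (Ideal.IsPrime.ne_top inferInstance)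
      _ ≤ ringKrullDim R := Groth.Agent.Lib.Helper11.IntegralDim.ringKrullDim_le_of_isIntegral
  · rw [← IsLocalRing.maximalIdeal_height_eq_ringKrullDim,
      Ideal.height_eq_height_add_of_liesOver_of_hasGoingDown (maximalIdeal R) q]
    exact_mod_cast le_self_add

include hinj in
/-- generators of the maximal ideal of `R` form a weakly regular sequence on each CM localization -/
theorem isWeaklyRegular_localization (q : Ideal S) [q.IsMaximal]
    (hCM : LocCoh.IsCohenMacaulayLocalRing (Localization.AtPrime q))
    (d : ℕ) (hd : ringKrullDim R = d) (xs : List R) (hlen : xs.length = d)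
    (hxs : Ideal.ofList xs = maximalIdeal R) :
    IsWeaklyRegular (Localization.AtPrime q) (xs.map (algebraMap R (Localization.AtPrime q))) := by
  have : Algebra.IsIntegral R S := Algebra.IsIntegral.of_finite R S
  have : IsNoetherianRing S := IsNoetherianRing.of_finite R S
  have hmax : (q.under R).IsMaximal := Ideal.isMaximal_comap_of_isIntegral_of_isMaximal q
  have hqm : q.under R = maximalIdeal R := IsLocalRing.eq_maximalIdeal hmax
  have hmemR : ∀ x ∈ xs, x ∈ maximalIdeal R := fun x hx => by
    rw [← hxs]; exact Ideal.subset_span hx
  have hmemq : ∀ x ∈ maximalIdeal R, algebraMap R S x ∈ q := fun x hx => by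
    rw [← hqm] at hx; exact hx
  apply Groth.Agent.S15797.isWeaklyRegular_of_sop (Localization.AtPrime q) hCM.supportDim_eq_depth d
    ((ringKrullDim_localization R S hinj q).trans hd)
  · rw [List.length_map, hlen]
  · intro y hy
    obtain ⟨x, hx, rfl⟩ := List.mem_map.1 hy
    rw [IsScalarTower.algebraMap_apply R S (Localization.AtPrime q),
      ← Localization.AtPrime.map_eq_maximalIdeal]
    exact Ideal.mem_map_of_mem _ (hmemq x (hmemR x hx))
  · -- the maximal ideal is the only prime containing the extension of `𝔪_R`
    rw [Ideal.radical_eq_sInf]
    apply le_sInf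
    rintro P ⟨hP, hPprime⟩
    have hP' : (P.under S).IsPrime := Ideal.IsPrime.under S P
    have h1 : maximalIdeal R ≤ (P.under S).under R := by
      intro x hx
      rw [← hxs] at hx
      show algebraMap S (Localization.AtPrime q) (algebraMap R S x) ∈ P
      rw [← IsScalarTower.algebraMap_apply]
      apply hP
      refine Submodule.span_induction (p := fun y _ => algebraMap R (Localization.AtPrime q) y ∈
        Ideal.ofList (xs.map (algebraMap R (Localization.AtPrime q)))) ?_ ?_ ?_ ?_ hx
      · intro y hy
        exact Ideal.subset_span (List.mem_map.2 ⟨y, hy, rfl⟩)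
      · rw [map_zero]; exact Ideal.zero_mem _
      · intro a b _ _ ha hb; rw [map_add]; exact Ideal.add_mem _ ha hb
      · intro a b _ hb; rw [smul_eq_mul, map_mul]; exact Ideal.mul_mem_left _ _ hb
    have h2 : ((P.under S).under R).IsMaximal := by
      have hne : (P.under S).under R ≠ ⊤ := (Ideal.IsPrime.under R (P.under S)).ne_top
      rw [← (IsLocalRing.maximalIdeal.isMaximal R).eq_of_le hne h1]
      infer_instance
    have h3 : (P.under S).IsMaximal := Ideal.isMaximal_of_isIntegral_of_isMaximal_comap _ h2
    have h4 : P.under S ≤ q := by
      intro y hy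
      by_contra hyq
      have hu : IsUnit (algebraMap S (Localization.AtPrime q) y) :=
        IsLocalization.map_units _ (⟨y, hyq⟩ : q.primeCompl)
      exact hPprime.ne_top (Ideal.eq_top_of_isUnit_mem _ hy hu)
    have h5 : P.under S = q := h3.eq_of_le (Ideal.IsPrime.ne_top inferInstance) h4
    rw [← Localization.AtPrime.map_eq_maximalIdeal]
    calc Ideal.map (algebraMap S (Localization.AtPrime q)) q
        ≤ Ideal.map (algebraMap S (Localization.AtPrime q)) (P.under S) := Ideal.map_mono h5.ge
      _ ≤ P := Ideal.map_comap_le

end StepA

/-- Let R be a regular local ring and S an integral domain containing R as a subring over which it is a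
finitely generated module, such that the localization of S at each of its maximal ideals is a
Cohen–Macaulay local ring. Then S is a flat R-module. (The published statement does not require S to
be a domain; in that generality it fails — for a discrete valuation ring R with residue field κ the
ring R × κ contains R diagonally, is finite over R with Cohen–Macaulay localizations, and is not
flat — and the printed argument needs every maximal ideal of S to have height dim R, which holds
when S is a domain by going down.) -/
theorem result (R S : Type u) [CommRing R] [CommRing S]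
    [IsRegularLocalRing R] [IsDomain S] [Algebra R S] [Module.Finite R S]
    (hinj : Function.Injective (algebraMap R S))
    (hCM : ∀ (q : Ideal S) [q.IsMaximal], LocCoh.IsCohenMacaulayLocalRing (Localization.AtPrime q)) :
    Module.Flat R S := by
  have hdomR : IsDomain R := Groth.Agent.S0558.result R
  obtain ⟨d, hd⟩ : ∃ d : ℕ, ringKrullDim R = d :=
    ⟨(maximalIdeal R).spanFinrank, IsRegularLocalRing.spanFinrank_maximalIdeal.symm⟩
  obtain ⟨s, hcard, hspan⟩ := Submodule.FG.exists_span_finset_card_eq_spanFinrank
    (IsNoetherian.noetherian (maximalIdeal R))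
  have hlen : s.toList.length = d := by
    rw [Finset.length_toList, hcard]
    have h1 : ((maximalIdeal R).spanFinrank : WithBot ℕ∞) = (d : WithBot ℕ∞) :=
      IsRegularLocalRing.spanFinrank_maximalIdeal.trans hd
    exact_mod_cast h1
  have hxs : Ideal.ofList s.toList = maximalIdeal R := by
    rw [← hspan]
    unfold Ideal.ofList
    congr 1
    ext x
    simp
  have hmem : ∀ x ∈ s.toList, x ∈ maximalIdeal R := fun x hx => by
    rw [← hxs]; exact Ideal.subset_span hx
  -- weakly regular on `S` as an `S`-module
  have hreg : IsWeaklyRegular S (s.toList.map (algebraMap R S)) := by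
    apply isWeaklyRegular_of_localized_maximal
    intro q hq
    have h1 := isWeaklyRegular_localization R S hinj q (hCM q) d hd s.toList hlen hxs
    let e : LocalizedModule q.primeCompl S ≃ₗ[S] Localization.AtPrime q :=
      IsLocalizedModule.iso q.primeCompl (Algebra.linearMap S (Localization.AtPrime q))
    rw [e.isWeaklyRegular_congr,
      ← isWeaklyRegular_map_algebraMap_iff (Localization.AtPrime q) (Localization.AtPrime q), List.map_map]
    have h2 : (algebraMap S (Localization.AtPrime q)) ∘ (algebraMap R S) =
        algebraMap R (Localization.AtPrime q) := by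
      funext x
      exact (IsScalarTower.algebraMap_apply R S (Localization.AtPrime q) x).symm
    rw [h2]
    exact h1
  have hregR : IsWeaklyRegular S s.toList := (isWeaklyRegular_map_algebraMap_iff S S s.toList).1 hreg
  -- projective dimension
  have : Nontrivial (ModuleCat.of R S) := (inferInstance : Nontrivial S)
  have : Module.Finite R (ModuleCat.of R S) := (inferInstance : Module.Finite R S)
  have hpd := ModuleCat.projectiveDimension_quotient_eq_add_length_of_isWeaklyRegular (ModuleCat.of R S)
    s.toList hregR hmem
  have hle : projectiveDimension (ModuleCat.of R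
      ((ModuleCat.of R S) ⧸ Ideal.ofList s.toList • (⊤ : Submodule R (ModuleCat.of R S)))) ≤ d :=
    (projectiveDimension_le_iff _ d).2 (Groth.Agent.S0563.result R d hd _)
  rw [hpd, hlen] at hle
  have h0 : projectiveDimension (ModuleCat.of R S) ≤ (0 : ℕ) := by
    generalize projectiveDimension (ModuleCat.of R S) = a at hle
    induction a with
    | bot => exact bot_le
    | coe a =>
      induction a with
      | top =>
        exfalso
        have h1 : ((⊤ : ℕ∞) : WithBot ℕ∞) + (d : WithBot ℕ∞) =
            ((⊤ + (d : ℕ∞) : ℕ∞) : WithBot ℕ∞) := by norm_cast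
        rw [h1, top_add] at hle
        have h2 : (⊤ : ℕ∞) ≤ (d : ℕ∞) := by exact_mod_cast hle
        exact absurd (top_le_iff.1 h2) (ENat.natCast_ne_top d)
      | coe a =>
        have : a + d ≤ d := by exact_mod_cast hle
        have : a = 0 := by omega
        subst this
        exact le_refl _
  have h1 : HasProjectiveDimensionLT (ModuleCat.of R S) 1 := (projectiveDimension_le_iff _ 0).1 h0
  have h2 : Projective (ModuleCat.of R S) := projective_iff_hasProjectiveDimensionLT_one.2 h1
  have h3 : Module.Projective R S := (IsProjective.iff_projective (R := R) (P := S)).2 h2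
  infer_instance

end Groth.Agent.S14670
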