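import Groth.Statements.S15042
import Mathlib

set_option autoImplicit false
open CategoryTheory AlgebraicGeometry
universe u
open Quiet

set_option linter.style.haveILetI false
open CategoryTheory AlgebraicGeometry Polynomial Limits

namespace Groth.Agent.S15042

open TensorProduct Quiet

section adjoin

variable {A A' : Type u} [CommRing A] [CommRing A'] [Algebra A A'] (f : A[X])

/-- the canonical map on AdjoinRoot -/
noncomputable def arMap : AdjoinRoot f →+* AdjoinRoot (f.map (algebraMap A A')) :=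
  AdjoinRoot.map (algebraMap A A') f _ dvd_rfl

theorem rid_comp_includeRight :
    ((Algebra.TensorProduct.rid A A' A' : A' ⊗[A] A →+* A')).comp
      (Algebra.TensorProduct.includeRight (R := A) (A := A') (B := A)).toRingHom =
      algebraMap A A' := by
  ext x
  simp [Algebra.algebraMap_eq_smul_one]

/-- first piece -/
noncomputable def arE1 : A' ⊗[A] AdjoinRoot f ≃ₐ[A']
    AdjoinRoot (f.map (Algebra.TensorProduct.includeRight (R := A) (A := A') (B := A)).toRingHom) :=
  AdjoinRoot.tensorAlgEquiv (R := A) (S := A) (T := A') f _ rfl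

/-- second piece -/
noncomputable def arE2 :
    AdjoinRoot (f.map (Algebra.TensorProduct.includeRight (R := A) (A := A') (B := A)).toRingHom)
      ≃ₐ[A'] AdjoinRoot (f.map (algebraMap A A')) :=
  AdjoinRoot.mapAlgEquiv (Algebra.TensorProduct.rid A A' A') _ _ (by
    rw [Polynomial.map_map]
    have := rid_comp_includeRight (A := A) (A' := A')
    have h2 : (f.map ((RingHomClass.toRingHom (Algebra.TensorProduct.rid A A' A')).comp
        (Algebra.TensorProduct.includeRight (R := A) (A := A') (B := A)).toRingHom)) =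
        f.map (algebraMap A A') := by
      congr 1
    rw [h2])

/-- base change equivalence -/
noncomputable def arEquiv : A' ⊗[A] AdjoinRoot f ≃ₐ[A'] AdjoinRoot (f.map (algebraMap A A')) :=
  (arE1 f).trans (arE2 f)

theorem arEquiv_tmul (x : AdjoinRoot f) : arEquiv (A' := A') f (1 ⊗ₜ x) = arMap f x := by
  have : ((RingHomClass.toRingHom (arEquiv (A' := A') f)).comp
      (Algebra.TensorProduct.includeRight (R := A) (A := A') (B := AdjoinRoot f)).toRingHom) =
      arMap f := by
    apply AdjoinRoot.ringHom_ext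
    · ext a
      change arE2 f (arE1 f (1 ⊗ₜ _)) = _
      simp only [arE1, arE2]
      rw [AdjoinRoot.tensorAlgEquiv_of, AdjoinRoot.coe_mapAlgEquiv, AdjoinRoot.map_of]
      simp [arMap, Algebra.algebraMap_eq_smul_one]
    · change arE2 f (arE1 f (1 ⊗ₜ _)) = _
      simp only [arE1, arE2]
      rw [AdjoinRoot.tensorAlgEquiv_root, AdjoinRoot.coe_mapAlgEquiv, AdjoinRoot.map_root]
      simp [arMap]
  exact congrArg (fun g => g x) this


attribute [local instance] Algebra.TensorProduct.rightAlgebra in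
theorem ar_isPushout :
    letI : Algebra (AdjoinRoot f) (AdjoinRoot (f.map (algebraMap A A'))) := (arMap f).toAlgebra
    haveI : IsScalarTower A (AdjoinRoot f) (AdjoinRoot (f.map (algebraMap A A'))) :=
      IsScalarTower.of_algebraMap_eq (fun a => by
        change AdjoinRoot.of _ (algebraMap A A' a) = arMap f (AdjoinRoot.of f a)
        simp [arMap])
    Algebra.IsPushout A (AdjoinRoot f) A' (AdjoinRoot (f.map (algebraMap A A'))) := by
  letI : Algebra (AdjoinRoot f) (AdjoinRoot (f.map (algebraMap A A'))) := (arMap f).toAlgebra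
  haveI : IsScalarTower A (AdjoinRoot f) (AdjoinRoot (f.map (algebraMap A A'))) :=
    IsScalarTower.of_algebraMap_eq (fun a => by
      change AdjoinRoot.of _ (algebraMap A A' a) = arMap f (AdjoinRoot.of f a)
      simp [arMap])
  have h : Algebra.IsPushout A A' (AdjoinRoot f) (A' ⊗[A] AdjoinRoot f) := inferInstance
  have := Algebra.IsPushout.of_equiv (h := h) (arEquiv (A' := A') f)
    (RingHom.ext fun x => arEquiv_tmul f x)
  exact this.symm


/-- general target version -/
noncomputable def arMap' (f' : A'[X]) (h : f' = f.map (algebraMap A A')) :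
    AdjoinRoot f →+* AdjoinRoot f' :=
  AdjoinRoot.map (algebraMap A A') f f' (h ▸ dvd_rfl)


theorem ar_isPushout' (f' : A'[X]) (h : f' = f.map (algebraMap A A')) :
    letI : Algebra (AdjoinRoot f) (AdjoinRoot f') := (arMap' f f' h).toAlgebra
    haveI : IsScalarTower A (AdjoinRoot f) (AdjoinRoot f') :=
      IsScalarTower.of_algebraMap_eq (fun a => by
        change AdjoinRoot.of _ (algebraMap A A' a) = arMap' f f' h (AdjoinRoot.of f a)
        simp [arMap'])
    Algebra.IsPushout A (AdjoinRoot f) A' (AdjoinRoot f') := by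
  subst h
  exact ar_isPushout f


end adjoin

theorem isRootTower_of_isPushout (p : ℕ) : ∀ (n : ℕ) (A B A' B' : Type u) [CommRing A] [CommRing B]
    [CommRing A'] [CommRing B'] [Algebra A B] [Algebra A A'] [Algebra B B'] [Algebra A' B']
    [Algebra A B'] [IsScalarTower A A' B'] [IsScalarTower A B B'] [Algebra.IsPushout A B A' B'],
    IsRootTower p n A B → IsRootTower p n A' B' := by
  intro n
  induction n with
  | zero =>
    intro A B A' B' _ _ _ _ _ _ _ _ _ _ _ hpo h
    obtain ⟨e⟩ := h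
    have hpo' : Algebra.IsPushout A A' B B' := hpo.symm
    let e1 : A' ⊗[A] B ≃ₐ[A'] B' := Algebra.IsPushout.equiv A A' B B'
    let e2 : A' ⊗[A] B ≃ₐ[A'] A' ⊗[A] A := Algebra.TensorProduct.congr AlgEquiv.refl e
    let e3 : A' ⊗[A] A ≃ₐ[A'] A' := Algebra.TensorProduct.rid A A' A'
    exact ⟨e1.symm.trans (e2.trans e3)⟩
  | succ n ih =>
    intro A B A' B' _ _ _ _ _ _ _ _ _ _ _ hpo h
    obtain ⟨a, alg, tower, H⟩ := h
    let a' : A' := algebraMap A A' a
    have hf : (X ^ p - C a' : A'[X]) = (X ^ p - C a : A[X]).map (algebraMap A A') := by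
      simp [a']
    letI i1 : Algebra (RootRing p A a) (RootRing p A' a') := (arMap' _ _ hf).toAlgebra
    haveI t1 : IsScalarTower A (RootRing p A a) (RootRing p A' a') :=
      IsScalarTower.of_algebraMap_eq (fun a => by
        change AdjoinRoot.of _ (algebraMap A A' a) = arMap' _ _ hf (AdjoinRoot.of _ a)
        simp [arMap'])
    haveI po1 : Algebra.IsPushout A (RootRing p A a) A' (RootRing p A' a') := ar_isPushout' _ _ hf
    have h0 : (X ^ p - C a' : A'[X]).eval₂ (algebraMap A' B')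
        (algebraMap B B' (algebraMap (RootRing p A a) B (AdjoinRoot.root _))) = 0 := by
      have hr : (AdjoinRoot.root (X ^ p - C a : A[X])) ^ p = AdjoinRoot.of _ a := by
        have := AdjoinRoot.eval₂_root (X ^ p - C a : A[X])
        simpa [sub_eq_zero] using this
      have hofa : algebraMap (RootRing p A a) B (AdjoinRoot.of _ a) = algebraMap A B a := by
        rw [IsScalarTower.algebraMap_apply A (RootRing p A a) B]
        rfl
      simp only [eval₂_sub, eval₂_pow, eval₂_X, eval₂_C, ← map_pow, hr, hofa, a']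
      rw [← IsScalarTower.algebraMap_apply, ← IsScalarTower.algebraMap_apply, sub_self]
    letI i2 : Algebra (RootRing p A' a') B' :=
      (AdjoinRoot.lift (algebraMap A' B')
        (algebraMap B B' (algebraMap (RootRing p A a) B (AdjoinRoot.root _))) h0).toAlgebra
    letI i3 : Algebra (RootRing p A a) B' :=
      ((algebraMap B B').comp (algebraMap (RootRing p A a) B)).toAlgebra
    haveI t2 : IsScalarTower (RootRing p A a) B B' := IsScalarTower.of_algebraMap_eq (fun _ => rfl)
    haveI t3 : IsScalarTower A' (RootRing p A' a') B' := IsScalarTower.of_algebraMap_eq (fun x => by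
      change _ = AdjoinRoot.lift _ _ h0 (AdjoinRoot.of _ x)
      rw [AdjoinRoot.lift_of])
    have hofx : ∀ x : A, algebraMap (RootRing p A a) B (AdjoinRoot.of _ x) = algebraMap A B x := by
      intro x
      rw [IsScalarTower.algebraMap_apply A (RootRing p A a) B]
      rfl
    haveI t4 : IsScalarTower (RootRing p A a) (RootRing p A' a') B' := by
      have : (algebraMap B B').comp (algebraMap (RootRing p A a) B) =
          (AdjoinRoot.lift (algebraMap A' B')
            (algebraMap B B' (algebraMap (RootRing p A a) B (AdjoinRoot.root _))) h0).comp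
            (arMap' _ _ hf) := by
        apply AdjoinRoot.ringHom_ext
        · ext x
          simp only [RingHom.coe_comp, Function.comp_apply, hofx, arMap', AdjoinRoot.map_of,
            AdjoinRoot.lift_of]
          rw [← IsScalarTower.algebraMap_apply, ← IsScalarTower.algebraMap_apply]
        · simp only [RingHom.coe_comp, Function.comp_apply, arMap', AdjoinRoot.map_root,
            AdjoinRoot.lift_root]
      exact IsScalarTower.of_algebraMap_eq (fun x => congrArg (fun g => g x) this)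
    haveI t5 : IsScalarTower A (RootRing p A' a') B' := IsScalarTower.of_algebraMap_eq (fun x => by
      change _ = AdjoinRoot.lift _ _ h0 (AdjoinRoot.of _ (algebraMap A A' x))
      rw [AdjoinRoot.lift_of, ← IsScalarTower.algebraMap_apply])
    have po2 : Algebra.IsPushout (RootRing p A a) B (RootRing p A' a') B' :=
      (Algebra.IsPushout.comp_iff A (RootRing p A a) A' (RootRing p A' a') (T := B) (T' := B')).1 hpo
    exact ⟨a', i2, t3, ih (RootRing p A a) B (RootRing p A' a') B' H⟩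


theorem isPthRoot_of_isPullback (p : ℕ) {A B A' B' : Scheme.{u}} {a : A' ⟶ A} {r' : A' ⟶ B'}
    {r : A ⟶ B} {b : B' ⟶ B} (H : IsPullback a r' r b) (hr : IsPthRoot p r) : IsPthRoot p r' := by
  intro x'
  obtain ⟨U, hxU, hUaff, n, hn⟩ := hr (b.base x')
  obtain ⟨_, ⟨U', hU', rfl⟩, hx'U', hU'U⟩ :=
    B'.isBasis_affineOpens.exists_subset_of_mem_open (show x' ∈ (b ⁻¹ᵁ U.1 : Set B') from hxU)
      (b ⁻¹ᵁ U.1).isOpen
  have hUST : U' ≤ b ⁻¹ᵁ U.1 := hU'U
  have hUSX : r ⁻¹ᵁ U.1 ≤ r ⁻¹ᵁ U.1 := le_rfl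
  have hUY : r' ⁻¹ᵁ U' = a ⁻¹ᵁ (r ⁻¹ᵁ U.1) ⊓ r' ⁻¹ᵁ U' := by
    apply le_antisymm
    · refine le_inf ?_ le_rfl
      intro z hz
      have h1 : b.base (r'.base z) ∈ U.1 := hUST hz
      have h2 : r.base (a.base z) = b.base (r'.base z) := by
        rw [← Scheme.Hom.comp_apply, ← Scheme.Hom.comp_apply, H.w]
      change r.base (a.base z) ∈ U.1
      rw [h2]
      exact h1
    · exact inf_le_right
  have iso := isIso_pushoutSection_of_isAffineOpen H hUST hUSX hUY U.2 hU' hUaff
  have po := (isIso_pushoutSection_iff H hUST hUSX hUY).1 iso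
  have hUY' : IsAffineOpen (r' ⁻¹ᵁ U') := by
    haveI : IsAffine (U.1 : Scheme.{u}) := U.2
    haveI : IsAffine (U' : Scheme.{u}) := hU'
    haveI : IsAffine ((r ⁻¹ᵁ U.1 : A.Opens) : Scheme.{u}) := hUaff
    exact .of_isIso (Scheme.Hom.isPullback_resLE H hUST hUSX hUY).isoPullback.hom
  refine ⟨⟨U', hU'⟩, hx'U', hUY', ?_⟩
  letI i1 : Algebra Γ(B, U.1) Γ(A, r ⁻¹ᵁ U.1) := (r.app U.1).hom.toAlgebra
  letI i2 : Algebra Γ(B, U.1) Γ(B', U') := (b.appLE U.1 U' hUST).hom.toAlgebra
  letI i3 : Algebra Γ(A, r ⁻¹ᵁ U.1) Γ(A', r' ⁻¹ᵁ U') :=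
    (a.appLE (r ⁻¹ᵁ U.1) (r' ⁻¹ᵁ U') (by rw [hUY]; exact inf_le_left)).hom.toAlgebra
  letI i4 : Algebra Γ(B', U') Γ(A', r' ⁻¹ᵁ U') := (r'.app U').hom.toAlgebra
  letI i5 : Algebra Γ(B, U.1) Γ(A', r' ⁻¹ᵁ U') :=
    ((r'.app U').hom.comp (b.appLE U.1 U' hUST).hom).toAlgebra
  haveI t1 : IsScalarTower Γ(B, U.1) Γ(B', U') Γ(A', r' ⁻¹ᵁ U') :=
    IsScalarTower.of_algebraMap_eq (fun _ => rfl)
  have e1 : r.appLE U.1 (r ⁻¹ᵁ U.1) hUSX = r.app U.1 := (Scheme.Hom.app_eq_appLE _).symm
  have e2 : r'.appLE U' (r' ⁻¹ᵁ U') le_rfl = r'.app U' :=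
    (Scheme.Hom.app_eq_appLE _).symm
  have hw := po.w
  rw [e1, e2] at hw
  haveI t2 : IsScalarTower Γ(B, U.1) Γ(A, r ⁻¹ᵁ U.1) Γ(A', r' ⁻¹ᵁ U') :=
    IsScalarTower.of_algebraMap_eq (fun x => by
      have := congrArg (fun φ => φ.hom x) hw
      exact this.symm)
  haveI po' : Algebra.IsPushout Γ(B, U.1) Γ(A, r ⁻¹ᵁ U.1) Γ(B', U') Γ(A', r' ⁻¹ᵁ U') := by
    have po2 := po.flip
    rw [e1, e2] at po2
    have : Algebra.IsPushout Γ(B, U.1) Γ(B', U') Γ(A, r ⁻¹ᵁ U.1) Γ(A', r' ⁻¹ᵁ U') :=
      CommRingCat.isPushout_iff_isPushout.1 po2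
    exact this.symm
  exact ⟨n, isRootTower_of_isPushout p n Γ(B, U.1) Γ(A, r ⁻¹ᵁ U.1) Γ(B', U') Γ(A', r' ⁻¹ᵁ U') hn⟩


theorem main (p : ℕ) {X Y X' Y' : Scheme.{u}}
    (f : Y ⟶ X) (g : X' ⟶ X) (f' : Y' ⟶ X') (g' : Y' ⟶ Y) (H : IsPullback g' f' f g)
    (hf : Quiet.IsQuiet p f) : Quiet.IsQuiet p f' := by
  intro y'
  obtain ⟨V, Y₁, r, e, hyV, hr, he, hre⟩ := hf (g'.base y')
  have comm : ((g' ∣_ V) ≫ r) ≫ e = ((g' ⁻¹ᵁ V).ι ≫ f') ≫ g := by
    rw [Category.assoc, hre, ← Category.assoc, morphismRestrict_ι, Category.assoc, Category.assoc,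
      H.w]
  refine ⟨g' ⁻¹ᵁ V, pullback e g, pullback.lift ((g' ∣_ V) ≫ r) ((g' ⁻¹ᵁ V).ι ≫ f') comm,
    pullback.snd e g, hyV, ?_, inferInstance, pullback.lift_snd _ _ _⟩
  have outer : IsPullback (g' ∣_ V) ((g' ⁻¹ᵁ V).ι ≫ f') (V.ι ≫ f) g :=
    (isPullback_morphismRestrict g' V).paste_vert H
  rw [← hre, ← pullback.lift_snd ((g' ∣_ V) ≫ r) ((g' ⁻¹ᵁ V).ι ≫ f') comm] at outer
  have left := IsPullback.of_bot outer (pullback.lift_fst _ _ _).symm
    (IsPullback.of_hasPullback e g)
  exact isPthRoot_of_isPullback p left hr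


end Groth.Agent.S15042

namespace Groth.Agent.S15042

/-- Over a scheme `X` of prime characteristic `p`, if `f : Y ⟶ X` is quasi-etale (locally on the source
an extraction of `p`-th roots followed by an etale morphism) and `Y'` with its projections `g' : Y'
⟶ Y`, `f' : Y' ⟶ X'` is the fibre product of `f` and a morphism `g : X' ⟶ X`, then `f'` is
quasi-etale. -/
theorem result (p : ℕ) [Fact p.Prime] {X Y X' Y' : Scheme.{u}} [FrobSch.IsCharP X p]
    (f : Y ⟶ X) (g : X' ⟶ X) (f' : Y' ⟶ X') (g' : Y' ⟶ Y) (H : IsPullback g' f' f g)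
    (hf : Quiet.IsQuiet p f) : Quiet.IsQuiet p f' := by

  exact Groth.Agent.S15042.main p f g f' g' H hf

end Groth.Agent.S15042
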