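import Groth.Statements.S9319
import Mathlib
import Groth.Agent.Lib.Helper96.PerfectSmooth
-- import your own Groth.Agent.* helpers here

set_option autoImplicit false
universe u
open CAlg

namespace Groth.Agent.S9319

open TensorProduct KaehlerDifferential MvPolynomial Algebra

section nat

variable {F K L M : Type*} [CommRing F] [CommRing K] [CommRing L] [CommRing M]
  [Algebra F K] [Algebra K L] [Algebra L M] [Algebra K M] [IsScalarTower K L M]
  [Algebra F L] [Algebra F M] [IsScalarTower F K L] [IsScalarTower F K M]

/-- the comparison map `L ⊗[K] Ω[K/F] → M ⊗[K] Ω[K/F]`. -/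
noncomputable def iota : L ⊗[K] Ω[K⁄F] →ₗ[K] M ⊗[K] Ω[K⁄F] :=
  (IsScalarTower.toAlgHom K L M).toLinearMap.rTensor (Ω[K⁄F])

theorem iota_tmul (l : L) (w : Ω[K⁄F]) :
    iota (F := F) (K := K) (L := L) (M := M) (l ⊗ₜ w) = algebraMap L M l ⊗ₜ w := rfl

theorem δAux_rename (x : (Generators.self K L).Ring) :
    Generators.H1Cotangent.δAux F (Generators.self K M) (MvPolynomial.rename (algebraMap L M) x) =
      iota (F := F) (M := M) (Generators.H1Cotangent.δAux F (Generators.self K L) x) := by
  induction x using MvPolynomial.induction_on' with
  | monomial n r =>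
    rw [MvPolynomial.rename_monomial, Generators.H1Cotangent.δAux_monomial,
      Generators.H1Cotangent.δAux_monomial, iota_tmul]
    congr 1
    rw [Finsupp.prod_mapDomain_index (by simp) (by intro a b c; exact pow_add _ _ _)]
    simp only [Generators.self_val, id_eq]
    rw [map_finsuppProd]
    simp
  | add x₁ x₂ h₁ h₂ => simp only [map_add, h₁, h₂]

/-- the canonical hom of generators `self K L → self K M`. -/
noncomputable def selfHom : (Generators.self K L).Hom (Generators.self K M) where
  val := fun t => MvPolynomial.X (algebraMap L M t)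
  aeval_val := by intro i; simp [Generators.self_val]

theorem selfHom_toAlgHom (x : (Generators.self K L).Ring) :
    (selfHom (K := K) (L := L) (M := M)).toAlgHom x = MvPolynomial.rename (algebraMap L M) x := by
  induction x using MvPolynomial.induction_on with
  | C a => simp [Generators.Hom.toAlgHom_C]
  | add p q hp hq => rw [map_add, map_add, hp, hq]
  | mul_X p i hp => rw [map_mul, map_mul, hp, Generators.Hom.toAlgHom_X, MvPolynomial.rename_X]; rfl

set_option backward.isDefEq.respectTransparency false in
theorem δ_natural (h : Algebra.H1Cotangent K L) :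
    Algebra.H1Cotangent.δ F K M (Algebra.H1Cotangent.map K K L M h) =
      iota (F := F) (M := M) (Algebra.H1Cotangent.δ F K L h) := by
  obtain ⟨x, hx⟩ := h
  obtain ⟨⟨y, hy⟩, rfl⟩ := Extension.Cotangent.mk_surjective x
  rw [Algebra.H1Cotangent.map,
    Extension.H1Cotangent.map_eq _ (selfHom (K := K) (L := L) (M := M)).toExtensionHom]
  change Generators.H1Cotangent.δ _ _ ⟨_, _⟩ = iota (Generators.H1Cotangent.δ _ _ ⟨_, _⟩)
  simp only [LinearMap.domRestrict_apply, Extension.Cotangent.map_mk,
    Generators.H1Cotangent.δ_eq_δAux]
  rw [← δAux_rename (F := F) (M := M) y, ← selfHom_toAlgHom]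
  rfl

end nat

section inj

variable {F K L M : Type*} [CommRing F] [Field K] [Field L] [Field M]
  [Algebra F K] [Algebra K L] [Algebra L M] [Algebra K M] [IsScalarTower K L M]
  [Algebra F L] [Algebra F M] [IsScalarTower F K L] [IsScalarTower F K M]

theorem cancel_tmul (m : M) (z : L ⊗[K] Ω[K⁄F]) :
    TensorProduct.AlgebraTensorModule.cancelBaseChange K L M M (Ω[K⁄F]) (m ⊗ₜ[L] z) =
      m • iota (F := F) (M := M) z := by
  induction z using TensorProduct.induction_on with
  | zero => simp
  | tmul l w =>
    rw [TensorProduct.AlgebraTensorModule.cancelBaseChange_tmul, iota_tmul, smul_tmul',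
      Algebra.smul_def, smul_eq_mul, mul_comm]
  | add x y hx hy => rw [tmul_add, map_add, map_add, smul_add, hx, hy]

theorem injective_of_subsingleton [Subsingleton (Algebra.H1Cotangent F L)] :
    Function.Injective ((Algebra.H1Cotangent.map K K L M).liftBaseChange M) := by
  have hδ : Function.Injective (Algebra.H1Cotangent.δ F K L) := by
    rw [injective_iff_map_eq_zero]
    intro x hx
    obtain ⟨y, rfl⟩ := (Algebra.H1Cotangent.exact_map_δ F K L x).mp hx
    rw [Subsingleton.elim y 0, map_zero]
  have hbc : Function.Injective ((Algebra.H1Cotangent.δ F K L).baseChange M) :=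
    Module.Flat.lTensor_preserves_injective_linearMap (M := M) _ hδ
  have key : ∀ x : M ⊗[L] Algebra.H1Cotangent K L,
      TensorProduct.AlgebraTensorModule.cancelBaseChange K L M M (Ω[K⁄F])
        ((Algebra.H1Cotangent.δ F K L).baseChange M x) =
      Algebra.H1Cotangent.δ F K M ((Algebra.H1Cotangent.map K K L M).liftBaseChange M x) := by
    intro x
    induction x using TensorProduct.induction_on with
    | zero => simp
    | tmul m h =>
      rw [LinearMap.baseChange_tmul, cancel_tmul, LinearMap.liftBaseChange_tmul, map_smul,
        δ_natural]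
    | add x y hx hy => rw [map_add, map_add, map_add, map_add, hx, hy]
  rw [injective_iff_map_eq_zero]
  intro x hx
  apply hbc
  rw [map_zero]
  apply (TensorProduct.AlgebraTensorModule.cancelBaseChange K L M M (Ω[K⁄F])).injective
  rw [map_zero, key, hx, map_zero]

end inj


open TensorProduct in
/-- For a tower of fields `K ⊆ L ⊆ M`, the first map of the Jacobi–Zariski sequence, from `H_1(L_{L/K})
⊗_L M` to `H_1(L_{M/K})`, is injective; here `H_1(L)` denotes the first homology of the naive
cotangent complex and the map is the `M`-linear extension of the functoriality map. (The rest of the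
six-term sequence is exact for any three rings, so for fields it is exact with a zero on the left.) -/
theorem result {K L M : Type u} [Field K] [Field L]
    [Field M] [Algebra K L] [Algebra L M] [Algebra K M] [IsScalarTower K L M] :
    Function.Injective ((Algebra.H1Cotangent.map K K L M).liftBaseChange M) := by
  obtain ⟨p, hp⟩ := CharP.exists K
  rcases CharP.char_is_prime_or_zero K p with hpp | rfl
  · have : Fact p.Prime := ⟨hpp⟩
    have : CharP L p := charP_of_injective_algebraMap (algebraMap K L).injective p
    let aK : Algebra (ULift.{u} (ZMod p)) K :=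
      ((ZMod.castHom (dvd_refl p) K).comp
        (ULift.ringEquiv : ULift.{u} (ZMod p) ≃+* ZMod p).toRingHom).toAlgebra
    let aL : Algebra (ULift.{u} (ZMod p)) L :=
      ((algebraMap K L).comp (algebraMap (ULift.{u} (ZMod p)) K)).toAlgebra
    let aM : Algebra (ULift.{u} (ZMod p)) M :=
      ((algebraMap K M).comp (algebraMap (ULift.{u} (ZMod p)) K)).toAlgebra
    have : IsScalarTower (ULift.{u} (ZMod p)) K L := IsScalarTower.of_algebraMap_eq (fun _ => rfl)
    have : IsScalarTower (ULift.{u} (ZMod p)) K M := IsScalarTower.of_algebraMap_eq (fun _ => rfl)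
    have : Algebra.FormallySmooth (ULift.{u} (ZMod p)) L :=
      Groth.Agent.Lib.Helper96.formallySmooth_of_perfectRing_charP p
    have : Subsingleton (Algebra.H1Cotangent (ULift.{u} (ZMod p)) L) :=
      Algebra.FormallySmooth.subsingleton_h1Cotangent
    exact injective_of_subsingleton (F := ULift.{u} (ZMod p))
  · have : CharZero K := CharP.charP_to_charZero K
    have : CharZero L := charZero_of_injective_algebraMap (algebraMap K L).injective
    have : CharZero M := charZero_of_injective_algebraMap (algebraMap K M).injective
    have : Algebra.FormallySmooth ℚ L := Groth.Agent.Lib.Helper96.formallySmooth_of_charZero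
    have : Subsingleton (Algebra.H1Cotangent ℚ L) :=
      Algebra.FormallySmooth.subsingleton_h1Cotangent
    exact injective_of_subsingleton (F := ℚ)

end Groth.Agent.S9319
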