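import Groth.Statements.S4450
import Groth.Agent.Lib.Helper39.ResidueFG
-- import your own Groth.Agent.* helpers here

set_option autoImplicit false
universe u
open CategoryTheory CategoryTheory.Limits AlgebraicGeometry
open EGA2

namespace Groth.Agent.S4450

section Helpers

open CategoryTheory CategoryTheory.Limits AlgebraicGeometry
open Groth.Agent.Lib.Helper39.KA

theorem main4450 {X Y : Scheme.{u}} [IsLocallyNoetherian Y]
    (p : X ⟶ Y) [LocallyOfFiniteType p] (x : X) (y' : Y) (hsp : p.base x ⤳ y') (hne : y' ≠ p.base x) :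
    ∃ (A : ValuationSubring (X.residueField x)) (h : Spec (CommRingCat.of A) ⟶ Y), IsDiscreteValuationRing A ∧
      h.base (IsLocalRing.closedPoint A) = y' ∧
      Spec.map (CommRingCat.ofHom A.subtype) ≫ h = X.fromSpecResidueField x ≫ p := by
  classical
  let φ : Y.presheaf.stalk y' ⟶ X.residueField x :=
    Y.presheaf.stalkSpecializes hsp ≫ p.stalkMap x ≫ X.residue x
  have w' : X.fromSpecResidueField x ≫ p = Spec.map φ ≫ Y.fromSpecStalk y' := by
    rw [Scheme.fromSpecResidueField, Category.assoc, ← Scheme.SpecMap_stalkMap_fromSpecStalk,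
      ← Scheme.SpecMap_stalkSpecializes_fromSpecStalk hsp]
    simp_rw [← Spec.map_comp_assoc]
    rfl
  have hnoeth : IsNoetherianRing (Y.presheaf.stalk y') := inferInstance
  obtain ⟨A₀, hA₀, hA₀_local⟩ := IsLocalRing.exists_factor_valuationRing φ.hom
  obtain ⟨s, hs⟩ := exists_finset_closure_residueField_eq_top p x y' hsp
  let _ : Algebra (Y.presheaf.stalk y') (X.residueField x) := φ.hom.toAlgebra
  obtain ⟨G, hG⟩ := (isNoetherianRing_iff_ideal_fg _).mp hnoeth
    (IsLocalRing.maximalIdeal (Y.presheaf.stalk y'))
  have hGm : ∀ g ∈ G, g ∈ IsLocalRing.maximalIdeal (Y.presheaf.stalk y') := by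
    intro g hg
    rw [← hG]
    exact Ideal.subset_span hg
  let W : Finset (X.residueField x) := G.image φ.hom
  have hW : ∀ w ∈ W, w ∈ A₀.nonunits := by
    intro w hw
    obtain ⟨g, hg, rfl⟩ := Finset.mem_image.mp hw
    rw [ValuationSubring.mem_nonunits_iff_exists_mem_maximalIdeal]
    refine ⟨hA₀ g, ?_⟩
    intro hu
    exact hGm g hg (hA₀_local.map_nonunit g hu)
  have hW0 : ∃ w ∈ W, w ≠ 0 := by
    by_contra hcon
    push Not at hcon
    apply hne
    have hker : IsLocalRing.maximalIdeal (Y.presheaf.stalk y') ≤ RingHom.ker φ.hom := by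
      rw [← hG, Ideal.span_le]
      intro g hg
      exact hcon _ (Finset.mem_image_of_mem _ hg)
    have hlocal : IsLocalHom φ.hom := by
      constructor
      intro a ha
      by_contra hna
      have : φ.hom a = 0 := hker hna
      rw [this] at ha
      exact not_isUnit_zero ha
    have h1 : Spec.map φ (IsLocalRing.closedPoint (X.residueField x)) =
        IsLocalRing.closedPoint (Y.presheaf.stalk y') :=
      IsLocalRing.comap_closedPoint φ.hom
    have h2 := congr(($w').base (IsLocalRing.closedPoint (X.residueField x)))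
    calc y' = (Y.fromSpecStalk y') (IsLocalRing.closedPoint (Y.presheaf.stalk y')) :=
          (Y.fromSpecStalk_closedPoint).symm
      _ = (Spec.map φ ≫ Y.fromSpecStalk y').base (IsLocalRing.closedPoint (X.residueField x)) := by
          rw [← h1]; rfl
      _ = (X.fromSpecResidueField x ≫ p).base (IsLocalRing.closedPoint (X.residueField x)) :=
          h2.symm
      _ = p.base x := congrArg p.base (Scheme.fromSpecResidueField_apply x _)
  obtain ⟨V, hVdvr, hV1, hV2⟩ := exists_dvr_of_valuationSubring (Y.presheaf.stalk y')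
    (X.residueField x) s hs A₀ (fun a => hA₀ a) W hW hW0
  have hV1' : ∀ a, φ.hom a ∈ V.toSubring := fun a => hV1 a
  let ψ : Y.presheaf.stalk y' ⟶ .of V := CommRingCat.ofHom (φ.hom.codRestrict V.toSubring hV1')
  have hψlocal : IsLocalHom (φ.hom.codRestrict V.toSubring hV1') := by
    constructor
    intro a ha
    by_contra hna
    have ham : a ∈ IsLocalRing.maximalIdeal (Y.presheaf.stalk y') := hna
    have hle : IsLocalRing.maximalIdeal (Y.presheaf.stalk y') ≤
        (IsLocalRing.maximalIdeal V).comap (φ.hom.codRestrict V.toSubring hV1') := by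
      rw [← hG, Ideal.span_le]
      intro g hg
      have h3 := hV2 _ (Finset.mem_image_of_mem φ.hom hg)
      rw [ValuationSubring.mem_nonunits_iff_exists_mem_maximalIdeal] at h3
      obtain ⟨_, h4⟩ := h3
      exact h4
    exact hle ham ha
  have w : X.fromSpecResidueField x ≫ p =
      Spec.map (CommRingCat.ofHom (algebraMap V (X.residueField x))) ≫
        Spec.map ψ ≫ Y.fromSpecStalk y' := by
    rw [w', ← Spec.map_comp_assoc]
    rfl
  have hclosed : (Spec.map ψ ≫ Y.fromSpecStalk y').base (IsLocalRing.closedPoint V) = y' := by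
    have : Spec.map ψ (IsLocalRing.closedPoint V) = IsLocalRing.closedPoint (Y.presheaf.stalk y') :=
      IsLocalRing.comap_closedPoint (S := V) (φ.hom.codRestrict V.toSubring hV1')
    change (Y.fromSpecStalk y') ((Spec.map ψ) (IsLocalRing.closedPoint V)) = y'
    rw [this, Y.fromSpecStalk_closedPoint]
  exact ⟨V, Spec.map ψ ≫ Y.fromSpecStalk y', hVdvr, hclosed, w.symm⟩

end Helpers

/-- Let Y be a locally Noetherian scheme, p : X ⟶ Y a morphism locally of finite type, x a point of X, y
= p(x) and y' a specialization of y distinct from y. Then there are a discrete valuation ring A with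
field of fractions the residue field k(x) and a morphism Spec A ⟶ Y mapping the closed point to y'
and restricting on Spec k(x) to the canonical morphism Spec k(x) ⟶ X ⟶ Y (so the generic point goes
to y, and the rational map from Spec A to X so defined induces the identity of k(x)). -/
theorem result {X Y : Scheme.{u}} [IsLocallyNoetherian Y]
    (p : X ⟶ Y) [LocallyOfFiniteType p] (x : X) (y' : Y) (hsp : p.base x ⤳ y') (hne : y' ≠ p.base x) :
    ∃ (A : ValuationSubring (X.residueField x)) (h : Spec (CommRingCat.of A) ⟶ Y), IsDiscreteValuationRing A ∧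
      h.base (IsLocalRing.closedPoint A) = y' ∧
      Spec.map (CommRingCat.ofHom A.subtype) ≫ h = X.fromSpecResidueField x ≫ p := by
  exact main4450 p x y' hsp hne

end Groth.Agent.S4450
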