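import Groth.Statements.S1454
import Groth.Agent.Lib.Helper61.UnibranchUnivOpen
import Groth.Agent.Lib.Helper78.UnivOpenAt

set_option autoImplicit false
universe u
open FlatMor

namespace Groth.Agent.S1454

open AlgebraicGeometry CategoryTheory Limits in
/-- Consider a locally quasi-finite f : X → Y whose target is locally Noetherian with geometrically
unibranch local rings, and assume every irreducible component of X dominates an irreducible
component of Y (its generic point maps to a generic point of an irreducible component of Y). Then f
is universally open. -/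
theorem result {X Y : Scheme.{u}} (f : X ⟶ Y) [LocallyQuasiFinite f] [LocallyOfFiniteType f] [IsLocallyNoetherian Y]
    (hY : ∀ y : Y, CAlg2.IsGeomUnibranch (Y.presheaf.stalk y))
    (hdom : ∀ Z ∈ irreducibleComponents ↑X, ∀ x : X, IsGenericPoint x Z → ∃ W ∈ irreducibleComponents ↑Y, IsGenericPoint (f x) W) :
    UniversallyOpen f := by
  have key : ∀ x : X, EGA43.IsUnivOpenAt f x := by
    intro x
    have hZ : irreducibleComponent x ∈ irreducibleComponents ↑X :=
      irreducibleComponent_mem_irreducibleComponents x
    have hZirr : IsIrreducible (irreducibleComponent x) := isIrreducible_irreducibleComponent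
    have hZcl : IsClosed (irreducibleComponent x) := isClosed_irreducibleComponent
    obtain ⟨x₀, hx₀⟩ := QuasiSober.sober hZirr hZcl
    have hspec : x₀ ⤳ x := hx₀.specializes mem_irreducibleComponent
    obtain ⟨W, hW, hfx₀⟩ := hdom _ hZ x₀ hx₀
    refine Groth.Agent.Lib.Helper61.UnibranchUnivOpen.isUnivOpenAt_of_isGeomUnibranch f x (hY _)
      x₀ hspec ?_
    intro y' hy'
    have h1 : W ⊆ closure {y'} := by
      rw [← hfx₀.def]
      exact hy'.closure_subset
    have h2 : closure {y'} ⊆ W := hW.2 isIrreducible_singleton.closure h1
    have h3 : IsGenericPoint y' W := subset_antisymm h2 h1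
    exact h3.eq hfx₀
  refine ⟨fun X' Y' i₁ i₂ f' sq => ?_⟩
  apply IsOpenMap.of_nhds_le
  intro p
  apply Filter.le_map
  intro s hs
  exact Groth.Agent.Lib.Helper78.UnivOpenAt.isOpenAt_snd_of_isPullback sq.flip (key (i₁ p)) p rfl s hs

end Groth.Agent.S1454
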