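import Groth.Statements.S3394
import Groth.Agent.Lib.Helper35.NoetherFibre

set_option autoImplicit false
open CategoryTheory AlgebraicGeometry
universe u
open EGA43

namespace Groth.Agent.S3394

section Helpers
set_option linter.style.haveILetI false
set_option maxHeartbeats 400000
open CategoryTheory.Limits TensorProduct Groth.Agent.Lib.Helper35

/-- the ring map `Γ(Y) → κ(y)` induced by `Spec κ(y) → Y` is evaluation at `y`. -/
theorem appTop_fromSpecResidueField {Y : Scheme.{u}} (y : Y) :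
    (Y.fromSpecResidueField y).appTop ≫ (Scheme.ΓSpecIso (Y.residueField y)).hom =
      Y.Γevaluation y := by
  rw [Scheme.fromSpecResidueField, Scheme.Hom.comp_appTop, Scheme.fromSpecStalk_appTop]
  simp only [Category.assoc, Scheme.ΓSpecIso_naturality]
  have h1 : (Spec (Y.presheaf.stalk y)).presheaf.map (homOfLE (le_top : (⊤ : (Spec (Y.presheaf.stalk y)).Opens) ≤ ⊤)).op = 𝟙 _ :=
    (Spec (Y.presheaf.stalk y)).presheaf.map_id _
  erw [h1]
  rw [Category.id_comp, Iso.inv_hom_id_assoc]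
  rfl

theorem fromSpecResidueField_eq {Y : Scheme.{u}} [IsAffine Y] (y : Y) :
    Y.fromSpecResidueField y = Spec.map (Y.Γevaluation y) ≫ Y.isoSpec.inv := by
  have h := Scheme.isoSpec_inv_naturality (Y.fromSpecResidueField y)
  rw [Scheme.isoSpec_Spec_inv] at h
  rw [← appTop_fromSpecResidueField, Spec.map_comp, Category.assoc, h, ← Spec.map_comp_assoc,
    Iso.inv_hom_id, Spec.map_id, Category.id_comp]

/-- every element of the residue field at `y` is a fraction of global sections (affine case). -/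
theorem frac_Γevaluation {Y : Scheme.{u}} [IsAffine Y] (y : Y) (c : Y.residueField y) :
    ∃ a s : Γ(Y, ⊤), (Y.Γevaluation y).hom s ≠ 0 ∧
      c * (Y.Γevaluation y).hom s = (Y.Γevaluation y).hom a := by
  obtain ⟨z, rfl⟩ := Y.residue_surjective y c
  letI := Y.presheaf.algebra_section_stalk (⟨y, trivial⟩ : (⊤ : Y.Opens))
  haveI := (isAffineOpen_top Y).isLocalization_stalk ⟨y, trivial⟩
  obtain ⟨⟨a, s⟩, hz⟩ := IsLocalization.surj
    ((isAffineOpen_top Y).primeIdealOf ⟨y, trivial⟩).asIdeal.primeCompl z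
  have hunit : IsUnit (Y.presheaf.germ ⊤ y trivial s.1) :=
    IsLocalization.map_units (M := ((isAffineOpen_top Y).primeIdealOf ⟨y, trivial⟩).asIdeal.primeCompl)
      (Y.presheaf.stalk y) s
  refine ⟨a, s.1, ?_, ?_⟩
  · exact (hunit.map (Y.residue y).hom).ne_zero
  · have hz' : z * Y.presheaf.germ ⊤ y trivial s.1 = Y.presheaf.germ ⊤ y trivial a := hz
    show (Y.residue y).hom z * (Y.residue y).hom (Y.presheaf.germ ⊤ y trivial s.1) =
      (Y.residue y).hom (Y.presheaf.germ ⊤ y trivial a)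
    rw [← map_mul, hz']

set_option backward.isDefEq.respectTransparency false in
/-- the fibre of a morphism of affine schemes as the spectrum of a tensor product. -/
theorem exists_fiber_iso {X Y : Scheme.{u}} [IsAffine X] [IsAffine Y] (f : X ⟶ Y) (y : Y) :
    letI : Algebra Γ(Y, ⊤) Γ(X, ⊤) := f.appTop.hom.toAlgebra
    letI : Algebra Γ(Y, ⊤) (Y.residueField y) := (Y.Γevaluation y).hom.toAlgebra
    ∃ Ψ : f.fiber y ≅ Spec (.of ((Y.residueField y) ⊗[Γ(Y, ⊤)] Γ(X, ⊤))),
      Ψ.hom ≫ Spec.map (CommRingCat.ofHom (Algebra.TensorProduct.includeLeftRingHom)) =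
        f.fiberToSpecResidueField y ∧
      Ψ.hom ≫ Spec.map (CommRingCat.ofHom (R := Γ(X, ⊤))
          (RingHomClass.toRingHom Algebra.TensorProduct.includeRight)) =
        f.fiberι y ≫ X.isoSpec.hom := by
  letI : Algebra Γ(Y, ⊤) Γ(X, ⊤) := f.appTop.hom.toAlgebra
  letI : Algebra Γ(Y, ⊤) (Y.residueField y) := (Y.Γevaluation y).hom.toAlgebra
  have hPB : IsPullback (f.fiberToSpecResidueField y) (f.fiberι y ≫ X.isoSpec.hom)
      (Spec.map (CommRingCat.ofHom (algebraMap Γ(Y, ⊤) (Y.residueField y))))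
      (Spec.map (CommRingCat.ofHom (algebraMap Γ(Y, ⊤) Γ(X, ⊤)))) := by
    have h0 : IsPullback (f.fiberToSpecResidueField y) (f.fiberι y) (Y.fromSpecResidueField y) f :=
      (IsPullback.of_hasPullback f (Y.fromSpecResidueField y)).flip
    refine IsPullback.of_iso h0 (Iso.refl _) (Iso.refl _) X.isoSpec Y.isoSpec ?_ ?_ ?_ ?_
    · simp
    · simp
    · rw [Iso.refl_hom, Category.id_comp, fromSpecResidueField_eq, Category.assoc, Iso.inv_hom_id,
        Category.comp_id]
      rfl
    · rw [← Scheme.isoSpec_hom_naturality]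
      rfl
  refine ⟨hPB.isoPullback ≪≫ pullbackSpecIso Γ(Y, ⊤) (Y.residueField y) Γ(X, ⊤), ?_, ?_⟩
  · rw [Iso.trans_hom, Category.assoc, pullbackSpecIso_hom_fst, IsPullback.isoPullback_hom_fst]
  · rw [Iso.trans_hom, Category.assoc, pullbackSpecIso_hom_snd, IsPullback.isoPullback_hom_snd]

set_option backward.isDefEq.respectTransparency false in
theorem aux {X Y : Scheme.{u}} [IsAffine X] [IsAffine Y] (f : X ⟶ Y)
    [LocallyOfFiniteType f] (y : Y) (e : ℕ)
    (he : topologicalKrullDim ↥(f.fiber y) = e) :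
    ∃ g : X ⟶ 𝔸(ULift.{u} (Fin e); Y), g ≫ (𝔸(ULift.{u} (Fin e); Y) ↘ Y) = f ∧
      IsFinite (pullback.snd g ((𝔸(ULift.{u} (Fin e); Y) ↘ Y).fiberι y)) := by
  letI : Algebra Γ(Y, ⊤) Γ(X, ⊤) := f.appTop.hom.toAlgebra
  letI : Algebra Γ(Y, ⊤) (Y.residueField y) := (Y.Γevaluation y).hom.toAlgebra
  obtain ⟨Ψ, hΨ1, hΨ2⟩ := exists_fiber_iso f y
  haveI : Algebra.FiniteType Γ(Y, ⊤) Γ(X, ⊤) := by
    have h1 : f.appTop.hom.FiniteType :=
      (HasRingHomProperty.iff_of_isAffine (P := @LocallyOfFiniteType)).mp ‹_›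
    exact RingHom.finiteType_algebraMap.mp h1
  have hdim : ringKrullDim ((Y.residueField y) ⊗[Γ(Y, ⊤)] Γ(X, ⊤)) = e := by
    rw [← PrimeSpectrum.topologicalKrullDim_eq_ringKrullDim, ← he]
    exact (IsHomeomorph.topologicalKrullDim_eq _ (Scheme.homeoOfIso Ψ).isHomeomorph).symm
  obtain ⟨b, hb⟩ := NoetherFibre.exists_finite_aeval (A := Γ(Y, ⊤)) (κ := Y.residueField y)
    (B := Γ(X, ⊤)) (frac_Γevaluation y) e hdim
  refine ⟨AffineSpace.homOfVector f b, AffineSpace.homOfVector_over f b, ?_⟩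
  obtain ⟨n, hn⟩ : ∃ n : Type u, n = ULift.{u} (Fin e) := ⟨_, rfl⟩
  subst hn
  set g := AffineSpace.homOfVector f b with hg
  set π := 𝔸(ULift.{u} (Fin e); Y) ↘ Y with hπ
  have hgf : g ≫ π = f := AffineSpace.homOfVector_over f b
  set q := pullback.snd g (π.fiberι y) with hq
  let α : pullback g (π.fiberι y) ≅ f.fiber y :=
    pullbackRightPullbackFstIso π (Y.fromSpecResidueField y) g ≪≫ pullback.congrHom hgf rfl
  have hα1 : α.hom ≫ f.fiberι y = pullback.fst g (π.fiberι y) := by
    simp [α, Scheme.Hom.fiberι]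
  have hα2 : α.hom ≫ f.fiberToSpecResidueField y = q ≫ π.fiberToSpecResidueField y := by
    simp [α, Scheme.Hom.fiberToSpecResidueField, Scheme.Hom.fiberι, q]
  let β : 𝔸(ULift.{u} (Fin e); Spec (Y.residueField y)) ≅ π.fiber y :=
    (AffineSpace.isPullback_map (n := ULift.{u} (Fin e)) (Y.fromSpecResidueField y)).isoPullback
  have hβ1 : β.hom ≫ π.fiberι y = AffineSpace.map _ (Y.fromSpecResidueField y) :=
    IsPullback.isoPullback_hom_fst _
  have hβ2 : β.hom ≫ π.fiberToSpecResidueField y =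
      𝔸(ULift.{u} (Fin e); Spec (Y.residueField y)) ↘ Spec (Y.residueField y) :=
    IsPullback.isoPullback_hom_snd _
  let ψ : CommRingCat.of (MvPolynomial (ULift.{u} (Fin e)) (Y.residueField y)) ⟶
      CommRingCat.of ((Y.residueField y) ⊗[Γ(Y, ⊤)] Γ(X, ⊤)) :=
    CommRingCat.ofHom (MvPolynomial.aeval fun i => (1 : Y.residueField y) ⊗ₜ[Γ(Y, ⊤)] b i :
      MvPolynomial (ULift.{u} (Fin e)) (Y.residueField y) →ₐ[Y.residueField y] _).toRingHom
  haveI hψfin : IsFinite (Spec.map ψ) := (IsFinite.SpecMap_iff ψ).mpr hb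
  have key : q ≫ β.inv = α.hom ≫ Ψ.hom ≫ Spec.map ψ ≫
      (AffineSpace.SpecIso (ULift.{u} (Fin e)) (Y.residueField y)).inv := by
    have hCψ : CommRingCat.ofHom (MvPolynomial.C) ≫ ψ =
        CommRingCat.ofHom (Algebra.TensorProduct.includeLeftRingHom :
          (Y.residueField y) →+* (Y.residueField y) ⊗[Γ(Y, ⊤)] Γ(X, ⊤)) := by
      ext c
      show (MvPolynomial.aeval fun i => (1 : Y.residueField y) ⊗ₜ[Γ(Y, ⊤)] b i)
        (MvPolynomial.C c) = c ⊗ₜ 1
      rw [MvPolynomial.aeval_C]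
      rfl
    apply AffineSpace.hom_ext
    · have hL : (q ≫ β.inv) ≫ (𝔸(ULift.{u} (Fin e); Spec (Y.residueField y)) ↘
          Spec (Y.residueField y)) = q ≫ π.fiberToSpecResidueField y := by
        rw [Category.assoc, ← hβ2, Iso.inv_hom_id_assoc]
      have hR : (α.hom ≫ Ψ.hom ≫ Spec.map ψ ≫
          (AffineSpace.SpecIso (ULift.{u} (Fin e)) (Y.residueField y)).inv) ≫
          (𝔸(ULift.{u} (Fin e); Spec (Y.residueField y)) ↘ Spec (Y.residueField y)) =
          α.hom ≫ Ψ.hom ≫ Spec.map (CommRingCat.ofHom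
            (Algebra.TensorProduct.includeLeftRingHom :
              (Y.residueField y) →+* (Y.residueField y) ⊗[Γ(Y, ⊤)] Γ(X, ⊤))) := by
        simp only [Category.assoc, AffineSpace.SpecIso_inv_over]
        rw [← Spec.map_comp, hCψ]
      rw [hL, hR, hΨ1, hα2]
    · intro i
      have hL : (q ≫ β.inv).appTop (AffineSpace.coord (Spec (Y.residueField y)) i) =
          (pullback.fst g (π.fiberι y)).appTop (b i) := by
        rw [← AffineSpace.map_appTop_coord (Y.fromSpecResidueField y) i, ← hβ1,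
          ← CommRingCat.comp_apply, ← Scheme.Hom.comp_appTop]
        have h1 : (q ≫ β.inv) ≫ β.hom ≫ π.fiberι y = pullback.fst g (π.fiberι y) ≫ g := by
          rw [Category.assoc, Iso.inv_hom_id_assoc]
          exact pullback.condition.symm
        rw [h1, Scheme.Hom.comp_appTop, CommRingCat.comp_apply, hg,
          AffineSpace.homOfVector_appTop_coord]
      have hR : (α.hom ≫ Ψ.hom ≫ Spec.map ψ ≫
          (AffineSpace.SpecIso (ULift.{u} (Fin e)) (Y.residueField y)).inv).appTop
            (AffineSpace.coord (Spec (Y.residueField y)) i) =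
          (pullback.fst g (π.fiberι y)).appTop (b i) := by
        have h1 : (α.hom ≫ Ψ.hom ≫ Spec.map ψ ≫
            (AffineSpace.SpecIso (ULift.{u} (Fin e)) (Y.residueField y)).inv).appTop =
            (AffineSpace.SpecIso (ULift.{u} (Fin e)) (Y.residueField y)).inv.appTop ≫
              (Spec.map ψ).appTop ≫ (α.hom ≫ Ψ.hom).appTop := by
          simp only [Scheme.Hom.comp_appTop, Category.assoc]
        rw [h1, CommRingCat.comp_apply, CommRingCat.comp_apply,
          AffineSpace.SpecIso_inv_appTop_coord]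
        have h2 : (Spec.map ψ).appTop ((Scheme.ΓSpecIso _).inv (MvPolynomial.X i)) =
            (Scheme.ΓSpecIso _).inv (ψ (MvPolynomial.X i)) := by
          rw [← CommRingCat.comp_apply, ← CommRingCat.comp_apply, Scheme.ΓSpecIso_inv_naturality]
        have h3 : ψ (MvPolynomial.X i) = (CommRingCat.ofHom (R := Γ(X, ⊤))
            (RingHomClass.toRingHom (Algebra.TensorProduct.includeRight :
              Γ(X, ⊤) →ₐ[Γ(Y, ⊤)] (Y.residueField y) ⊗[Γ(Y, ⊤)] Γ(X, ⊤)))) (b i) := by
          show (MvPolynomial.aeval fun i => (1 : Y.residueField y) ⊗ₜ[Γ(Y, ⊤)] b i)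
            (MvPolynomial.X i) = _
          rw [MvPolynomial.aeval_X]
          rfl
        rw [h2, h3, ← CommRingCat.comp_apply (CommRingCat.ofHom _) (Scheme.ΓSpecIso _).inv,
          Scheme.ΓSpecIso_inv_naturality, CommRingCat.comp_apply, ← CommRingCat.comp_apply,
          ← Scheme.Hom.comp_appTop]
        have h5 : (α.hom ≫ Ψ.hom) ≫ Spec.map (CommRingCat.ofHom (R := Γ(X, ⊤))
            (RingHomClass.toRingHom (Algebra.TensorProduct.includeRight :
              Γ(X, ⊤) →ₐ[Γ(Y, ⊤)] (Y.residueField y) ⊗[Γ(Y, ⊤)] Γ(X, ⊤)))) =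
            pullback.fst g (π.fiberι y) ≫ X.isoSpec.hom := by
          rw [Category.assoc, hΨ2, ← Category.assoc, hα1]
        rw [h5, Scheme.Hom.comp_appTop, CommRingCat.comp_apply]
        congr 1
        show X.toSpecΓ.appTop _ = _
        rw [Scheme.toSpecΓ_appTop]
        exact Iso.inv_hom_id_apply (C := CommRingCat) (Scheme.ΓSpecIso Γ(X, ⊤)) (b i)
      rw [hL, hR]
  have hq' : q = α.hom ≫ Ψ.hom ≫ Spec.map ψ ≫
      (AffineSpace.SpecIso (ULift.{u} (Fin e)) (Y.residueField y)).inv ≫ β.hom := by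
    rw [← Category.assoc, ← Category.assoc, ← Category.assoc, ← Iso.comp_inv_eq, key]
    simp only [Category.assoc]
  rw [hq']
  infer_instance

end Helpers

open CategoryTheory.Limits in
/-- Let X and Y be affine schemes, f : X ⟶ Y a morphism of finite type, y a point of f(X) and e the
dimension of the fibre of f over y. Then there is a Y-morphism g from X to the affine space of
dimension e over Y such that the morphism induced by g on the fibres over y is finite (here written
as the base change of g along the inclusion of the fibre of the affine space over y). -/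
theorem result {X Y : Scheme.{u}} [IsAffine X] [IsAffine Y] (f : X ⟶ Y)
    [LocallyOfFiniteType f] (y : Y) (hy : y ∈ Set.range f.base) (e : ℕ)
    (he : topologicalKrullDim ↥(f.fiber y) = e) :
    ∃ g : X ⟶ 𝔸(ULift.{u} (Fin e); Y), g ≫ (𝔸(ULift.{u} (Fin e); Y) ↘ Y) = f ∧
      IsFinite (pullback.snd g ((𝔸(ULift.{u} (Fin e); Y) ↘ Y).fiberι y)) := by
  exact aux f y e he

end Groth.Agent.S3394
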