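import Groth.Statements.S3395
import Groth.Agent.Lib.Helper11.IntegralDim
import Groth.Agent.Lib.Helper35.QFSplit5

set_option autoImplicit false
open CategoryTheory AlgebraicGeometry
universe u
open EGA43

namespace Groth.Agent.S3395

section Helpers
set_option linter.style.haveILetI false
open CategoryTheory.Limits Groth.Agent.Lib.Helper11.IntegralDim

/-- a finite (integral) map out of a finite dimensional domain onto a ring of the same dimension is
surjective on spectra. -/
lemma comap_surjective_of_isIntegral_of_dim {D B : Type*} [CommRing D] [IsDomain D] [CommRing B]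
    (ψ : D →+* B) (hψ : ψ.IsIntegral) (e : ℕ) (hD : ringKrullDim D = e)
    (hB : ringKrullDim B = e) : Function.Surjective (PrimeSpectrum.comap ψ) := by
  have hinj : Function.Injective ψ := by
    rw [injective_iff_map_eq_zero]
    intro a ha
    by_contra hne
    letI := ψ.toAlgebra
    haveI : Algebra.IsIntegral D B := ⟨hψ⟩
    let I : Ideal D := RingHom.ker ψ
    let ψ' : D ⧸ I →+* B := RingHom.kerLift ψ
    have hψ'inj : Function.Injective ψ' := RingHom.kerLift_injective ψ
    letI : Algebra (D ⧸ I) B := ψ'.toAlgebra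
    haveI : Algebra.IsIntegral (D ⧸ I) B := by
      refine ⟨fun b => ?_⟩
      have hb := hψ b
      obtain ⟨p, hp, hpb⟩ := hb
      refine ⟨p.map (Ideal.Quotient.mk I), hp.map _, ?_⟩
      rw [Polynomial.eval₂_map]
      have : (algebraMap (D ⧸ I) B).comp (Ideal.Quotient.mk I) = ψ := by
        ext d
        rfl
      rw [this]
      exact hpb
    have h1 : ringKrullDim (D ⧸ I) = ringKrullDim B :=
      (ringKrullDim_eq_of_isIntegral_of_injective (R := D ⧸ I) (S := B) hψ'inj).symm
    have h2 : ringKrullDim (D ⧸ I) + 1 ≤ ringKrullDim D :=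
      ringKrullDim_succ_le_of_surjective (Ideal.Quotient.mk I) Ideal.Quotient.mk_surjective
        (mem_nonZeroDivisors_of_ne_zero hne) (by
          rw [Ideal.Quotient.eq_zero_iff_mem]
          exact ha)
    rw [h1, hB, hD] at h2
    have : ((e : ℕ∞) : WithBot ℕ∞) + 1 ≤ ((e : ℕ∞) : WithBot ℕ∞) := h2
    rw [← WithBot.coe_one, ← WithBot.coe_add, WithBot.coe_le_coe] at this
    have h3 : (e : ℕ∞) + 1 ≤ e := this
    have h4 : ((e + 1 : ℕ) : ℕ∞) ≤ (e : ℕ∞) := by exact_mod_cast h3
    have := Nat.cast_le.mp h4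
    omega
  exact hψ.comap_surjective hinj

theorem aux {X Y : Scheme.{u}} [IsAffine X] [IsAffine Y]
    (f : X ⟶ Y) [LocallyOfFiniteType f] (y : Y) (hy : y ∈ Set.range f.base) (e : ℕ)
    (he : topologicalKrullDim ↥(f.fiber y) = e) (g : X ⟶ 𝔸(ULift.{u} (Fin e); Y))
    (hg : g ≫ (𝔸(ULift.{u} (Fin e); Y) ↘ Y) = f)
    (hfin : IsFinite (pullback.snd g ((𝔸(ULift.{u} (Fin e); Y) ↘ Y).fiberι y))) :
    Function.Surjective (pullback.snd g ((𝔸(ULift.{u} (Fin e); Y) ↘ Y).fiberι y)).base ∧
      ∃ U : X.Opens, f.base ⁻¹' {y} ⊆ (U : Set X) ∧ LocallyQuasiFinite (U.ι ≫ g) := by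
  subst hg
  obtain ⟨n, hn⟩ : ∃ n : Type u, n = ULift.{u} (Fin e) := ⟨_, rfl⟩
  subst hn
  let π := 𝔸(ULift.{u} (Fin e); Y) ↘ Y
  let j := Y.fromSpecResidueField y
  let q := pullback.snd g (π.fiberι y)
  haveI : IsFinite q := hfin
  haveI : LocallyOfFiniteType g := locallyOfFiniteType_of_comp g π
  constructor
  · -- dimension of the source
    let α : pullback g (π.fiberι y) ≅ (g ≫ π).fiber y := pullbackRightPullbackFstIso π j g
    have hdimP : topologicalKrullDim ↥(pullback g (π.fiberι y)) = e := by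
      rw [← he]
      exact IsHomeomorph.topologicalKrullDim_eq _ (Scheme.homeoOfIso α).isHomeomorph
    let κ := Y.residueField y
    let β : 𝔸(ULift.{u} (Fin e); Spec κ) ≅ π.fiber y :=
      (AffineSpace.isPullback_map (n := ULift.{u} (Fin e)) j).isoPullback
    let γ : π.fiber y ≅ Spec (.of (MvPolynomial (ULift.{u} (Fin e)) κ)) :=
      β.symm ≪≫ AffineSpace.SpecIso (ULift.{u} (Fin e)) κ
    haveI : IsAffine (pullback g (π.fiberι y)) := inferInstance
    let P := pullback g (π.fiberι y)
    let q' : Spec Γ(P, ⊤) ⟶ Spec (.of (MvPolynomial (ULift.{u} (Fin e)) κ)) :=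
      P.isoSpec.inv ≫ q ≫ γ.hom
    let ψ := Spec.preimage q'
    have hψ : Spec.map ψ = q' := Spec.map_preimage q'
    have hq'fin : IsFinite q' := by
      show IsFinite (P.isoSpec.inv ≫ q ≫ γ.hom)
      infer_instance
    rw [← hψ, IsFinite.SpecMap_iff] at hq'fin
    have hD : ringKrullDim (MvPolynomial (ULift.{u} (Fin e)) κ) = e := by
      rw [MvPolynomial.ringKrullDim_of_isNoetherianRing, ringKrullDim_eq_zero_of_field, zero_add]
      simp
    have hB : ringKrullDim Γ(P, ⊤) = e := by
      rw [← PrimeSpectrum.topologicalKrullDim_eq_ringKrullDim, ← hdimP]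
      exact (IsHomeomorph.topologicalKrullDim_eq _ (Scheme.homeoOfIso P.isoSpec).isHomeomorph).symm
    have hsurj := comap_surjective_of_isIntegral_of_dim ψ.hom hq'fin.to_isIntegral e hD hB
    have hq : q = P.isoSpec.hom ≫ Spec.map ψ ≫ γ.inv := by
      rw [hψ]
      simp [q']
    show Function.Surjective q.base
    rw [hq]
    intro z
    obtain ⟨w, hw⟩ := hsurj (γ.hom z)
    refine ⟨P.isoSpec.inv w, ?_⟩
    simp only [Scheme.Hom.comp_base, TopCat.hom_comp, ContinuousMap.comp_apply]
    have h1 : P.isoSpec.hom (P.isoSpec.inv w) = w := by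
      show (P.isoSpec.inv ≫ P.isoSpec.hom) w = w
      rw [Iso.inv_hom_id]
      rfl
    have h2 : (Spec.map ψ) w = γ.hom z := hw
    have h3 : γ.inv (γ.hom z) = z := by
      show (γ.hom ≫ γ.inv) z = z
      rw [Iso.hom_inv_id]
      rfl
    show γ.inv ((Spec.map ψ) (P.isoSpec.hom (P.isoSpec.inv w))) = z
    rw [h1, h2, h3]
  · refine ⟨g.quasiFiniteLocus, ?_, inferInstance⟩
    intro x hx
    have hx : (g ≫ π) x = y := hx
    show g.QuasiFiniteAt x
    apply Groth.Agent.Lib.Helper35.QFSplit.quasiFiniteAt_of_finite_fibre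
    have ha : g x ∈ Set.range (π.fiberι y) := by
      rw [Scheme.Hom.range_fiberι]
      simpa using hx
    obtain ⟨a', ha'⟩ := ha
    refine ((q.finite_preimage_singleton a').image (pullback.fst g (π.fiberι y))).subset ?_
    intro x' hx'
    have hx' : g x' = g x := hx'
    obtain ⟨p, hp1, hp2⟩ := Scheme.Pullback.exists_preimage_pullback (f := g) (g := π.fiberι y)
      x' a' (by rw [hx', ha'])
    exact ⟨p, hp2, hp1⟩

end Helpers

open CategoryTheory.Limits in
/-- Let X and Y be affine schemes, f : X ⟶ Y of finite type, y a point of f(X), e the dimension of the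
fibre over y, and g a Y-morphism from X to the affine space of dimension e over Y whose base change
to the fibre of the affine space over y is finite. Then that base change is surjective, and g is
locally quasi-finite on some open U ⊆ X that contains the fibre f⁻¹(y). -/
theorem result {X Y : Scheme.{u}} [IsAffine X] [IsAffine Y]
    (f : X ⟶ Y) [LocallyOfFiniteType f] (y : Y) (hy : y ∈ Set.range f.base) (e : ℕ)
    (he : topologicalKrullDim ↥(f.fiber y) = e) (g : X ⟶ 𝔸(ULift.{u} (Fin e); Y)) (hg : g ≫ (𝔸(ULift.{u} (Fin e); Y) ↘ Y) = f)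
    (hfin : IsFinite (pullback.snd g ((𝔸(ULift.{u} (Fin e); Y) ↘ Y).fiberι y))) :
    Function.Surjective (pullback.snd g ((𝔸(ULift.{u} (Fin e); Y) ↘ Y).fiberι y)).base ∧
      ∃ U : X.Opens, f.base ⁻¹' {y} ⊆ (U : Set X) ∧ LocallyQuasiFinite (U.ι ≫ g) := by
  exact aux f y hy e he g hg hfin

end Groth.Agent.S3395
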