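import Groth.Statements.S2113
import Mathlib

set_option autoImplicit false
universe u
open CAlg

namespace Groth.Agent.S2113

open Ideal

/-- In a Noetherian domain where a nonzero `f` lies in every nonzero prime, every nonzero prime is
minimal over `(f)`. -/
theorem mem_minimalPrimes_of_forall {D : Type*} [CommRing D] [IsDomain D] [IsNoetherianRing D]
    (f : D) (hf : f ≠ 0)
    (h : ∀ (q : Ideal D), q.IsPrime → q ≠ ⊥ → f ∈ q) (P : Ideal D) [hP : P.IsPrime] (hP0 : P ≠ ⊥) :
    P ∈ (span {f}).minimalPrimes := by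
  classical
  by_contra hcon
  have hfin := (span {f}).finite_minimalPrimes_of_isNoetherianRing D
  have hfP : span {f} ≤ P := by
    rw [span_singleton_le_iff_mem]; exact h P hP hP0
  obtain ⟨q, hq, hqP⟩ := Ideal.exists_minimalPrimes_le hfP
  -- P is not below any minimal prime
  have hnot : ¬ ∃ i ∈ hfin.toFinset, P ≤ (id i : Ideal D) := by
    rintro ⟨j, hj, hPj⟩
    rw [Set.Finite.mem_toFinset] at hj
    have hjq : j ≤ q := hj.2 hq.1 (hqP.trans hPj)
    have : P = j := le_antisymm hPj (hjq.trans hqP)
    exact hcon (this ▸ hj)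
  have hav := (Ideal.subset_union_prime (s := hfin.toFinset) (f := fun i : Ideal D => i) q q
    (fun i hi _ _ => by
      rw [Set.Finite.mem_toFinset] at hi; exact hi.isPrime) (I := P)).not.mpr hnot
  rw [Set.not_subset] at hav
  obtain ⟨x, hxP, hxU⟩ := hav
  have hxq : ∀ j ∈ (span {f}).minimalPrimes, x ∉ j := by
    intro j hj hxj
    apply hxU
    simp only [Set.mem_iUnion]
    exact ⟨j, by simpa using hj, hxj⟩
  have hxP' : span {x} ≤ P := by rwa [span_singleton_le_iff_mem]
  obtain ⟨Q, hQ, hQP⟩ := Ideal.exists_minimalPrimes_le hxP'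
  have hQprime : Q.IsPrime := hQ.isPrime
  have hxQ : x ∈ Q := by
    have := hQ.1.2; rwa [span_singleton_le_iff_mem] at this
  have hx0 : x ≠ 0 := by
    rintro rfl; exact hxq q hq (zero_mem _)
  have hQ0 : Q ≠ ⊥ := by
    rintro rfl; exact hx0 (by simpa using hxQ)
  have hfQ : span {f} ≤ Q := by
    rw [span_singleton_le_iff_mem]; exact h Q hQprime hQ0
  obtain ⟨q', hq', hq'Q⟩ := Ideal.exists_minimalPrimes_le hfQ
  have hq'prime : q'.IsPrime := hq'.isPrime
  have hq'0 : q' ≠ ⊥ := by
    rintro rfl
    have := hq'.1.2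
    rw [span_singleton_le_iff_mem] at this
    exact hf (by simpa using this)
  have hht : Q.height ≤ 1 :=
    Ideal.height_le_one_of_isPrincipal_of_mem_minimalPrimes (span {x}) Q hQ
  have hqQ : q' = Q := by
    by_contra hne
    have hlt : q' < Q := lt_of_le_of_ne hq'Q hne
    have hbot : (⊥ : Ideal D) < q' := bot_lt_iff_ne_bot.mpr hq'0
    haveI : (⊥ : Ideal D).IsPrime := Ideal.isPrime_bot
    have h1 := Ideal.height_strict_mono_of_isPrime_of_isPrime hbot
    have h2 := Ideal.height_strict_mono_of_isPrime_of_isPrime hlt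
    have h3 : (1 : ℕ∞) ≤ q'.height := Order.one_le_iff_pos.mpr (lt_of_le_of_lt zero_le h1)
    have h4 : (1 : ℕ∞) < Q.height := lt_of_le_of_lt h3 h2
    exact absurd hht (not_le.mpr h4)
  exact hxq q' hq' (hqQ ▸ hxQ)

theorem finite_primeSpectrum_of_forall {D : Type*} [CommRing D] [IsDomain D] [IsNoetherianRing D]
    (f : D) (hf : f ≠ 0)
    (h : ∀ (q : Ideal D), q.IsPrime → q ≠ ⊥ → f ∈ q) : Finite (PrimeSpectrum D) := by
  have hfin := (span {f}).finite_minimalPrimes_of_isNoetherianRing D
  have hsub : (Set.univ : Set (PrimeSpectrum D)) ⊆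
      PrimeSpectrum.asIdeal ⁻¹' (insert ⊥ (span {f}).minimalPrimes) := by
    intro P _
    by_cases hP0 : P.asIdeal = ⊥
    · exact Or.inl hP0
    · exact Or.inr (mem_minimalPrimes_of_forall f hf h P.asIdeal hP0)
  have hfin2 : (PrimeSpectrum.asIdeal ⁻¹' (insert ⊥ (span {f}).minimalPrimes) :
      Set (PrimeSpectrum D)).Finite :=
    Set.Finite.preimage (fun a _ b _ hab => PrimeSpectrum.ext hab) (hfin.insert ⊥)
  exact Set.finite_univ_iff.mp (hfin2.subset hsub)
/-- A Noetherian ring in which each prime is maximal or else lies below infinitely many primes is a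
Jacobson ring. -/
theorem result {R : Type u} [CommRing R] [IsNoetherianRing R]
    (h : ∀ (p : Ideal R) [p.IsPrime], p.IsMaximal ∨ {q : PrimeSpectrum R | p ≤ q.asIdeal}.Infinite) :
    IsJacobsonRing R := by
  rw [isJacobsonRing_iff_prime_eq]
  intro P
  induction P using WellFoundedGT.induction with
  | ind P ih =>
  intro hP
  rcases h P with hmax | hinf
  · exact jacobson_eq_self_of_isMaximal
  · by_contra hne
    have hlt : P < P.jacobson := lt_of_le_of_ne le_jacobson (Ne.symm hne)
    obtain ⟨f, hfJ, hfP⟩ := Set.exists_of_ssubset hlt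
    -- f lies in every prime strictly above P
    have hfQ : ∀ Q : Ideal R, Q.IsPrime → P < Q → f ∈ Q := by
      intro Q hQ hPQ
      have := ih Q hPQ hQ
      rw [← this]
      exact jacobson_mono hPQ.le hfJ
    apply hinf
    have : Finite (PrimeSpectrum (R ⧸ P)) := by
      apply finite_primeSpectrum_of_forall (Ideal.Quotient.mk P f)
      · rwa [Ne, Ideal.Quotient.eq_zero_iff_mem]
      · intro q hq hq0
        have hle : P ≤ q.comap (Ideal.Quotient.mk P) := by
          intro x hx
          rw [Ideal.mem_comap, Ideal.Quotient.eq_zero_iff_mem.mpr hx]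
          exact zero_mem _
        have hne' : P ≠ q.comap (Ideal.Quotient.mk P) := by
          intro heq
          apply hq0
          rw [eq_bot_iff]
          intro y hy
          obtain ⟨x, rfl⟩ := Ideal.Quotient.mk_surjective y
          have : x ∈ P := by rw [heq]; exact hy
          rw [Ideal.Quotient.eq_zero_iff_mem.mpr this]; exact zero_mem _
        exact hfQ _ (Ideal.comap_isPrime _ _) (lt_of_le_of_ne hle hne')
    have hrange : {q : PrimeSpectrum R | P ≤ q.asIdeal} =
        Set.range (PrimeSpectrum.comap (Ideal.Quotient.mk P)) := by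
      rw [range_comap_of_surjective _ _ Ideal.Quotient.mk_surjective, Ideal.mk_ker]
      ext q
      simp [PrimeSpectrum.mem_zeroLocus]
    rw [hrange]
    exact Set.finite_range _

end Groth.Agent.S2113
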