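import Groth.Statements.S4713
import Mathlib
import Groth.Agent.Lib.Helper48.JacPunct
-- import your own Groth.Agent.* helpers here

set_option autoImplicit false
universe u
open EGA4

namespace Groth.Agent.S4713

open AlgebraicGeometry in
/-- In a locally Noetherian scheme X, every nonempty closed subset contains a closed point of X. -/
theorem result (X : Scheme.{u}) [IsLocallyNoetherian X]
    (Z : Set X) (hZ : IsClosed Z) (hne : Z.Nonempty) : ∃ x ∈ Z, IsClosed ({x} : Set X) := by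
  obtain ⟨x0, hx0⟩ := hne
  obtain ⟨W, hW, hxW, -⟩ :=
    AlgebraicGeometry.exists_isAffineOpen_mem_and_subset (X := X) (x := x0) (U := ⊤) trivial
  have hemb : Topology.IsOpenEmbedding hW.fromSpec := hW.fromSpec.isOpenEmbedding
  obtain ⟨p0, rfl⟩ : x0 ∈ Set.range hW.fromSpec := by rw [hW.range_fromSpec]; exact hxW
  obtain ⟨m, hm, hpm⟩ := Ideal.exists_le_maximal (PrimeSpectrum.asIdeal p0)
    (PrimeSpectrum.isPrime p0).ne_top
  have hspec : p0 ⤳ (⟨m, hm.isPrime⟩ : PrimeSpectrum Γ(X, W)) :=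
    (PrimeSpectrum.le_iff_specializes p0 ⟨m, hm.isPrime⟩).mp
      ((PrimeSpectrum.asIdeal_le_asIdeal p0 ⟨m, hm.isPrime⟩).mp hpm)
  have hpmc : IsClosed ({(⟨m, hm.isPrime⟩ : PrimeSpectrum Γ(X, W))} :
      Set (PrimeSpectrum Γ(X, W))) :=
    (PrimeSpectrum.isClosed_singleton_iff_isMaximal _).mpr hm
  have hxZ : hW.fromSpec (⟨m, hm.isPrime⟩ : PrimeSpectrum Γ(X, W)) ∈ Z :=
    (hspec.map hemb.continuous).mem_closed hZ hx0
  refine Groth.Agent.Lib.Helper48.JacPunct.exists_isClosed_singleton_of_no_chain _ ?_ Z hZ hxZ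
  intro z w hxz hzw
  refine Groth.Agent.Lib.Helper48.JacPunct.scheme_no_chain X _ z w hxz hzw (W : Set X)
    W.isOpen ?_ ?_
  · rw [← hW.range_fromSpec]
    exact ⟨_, rfl⟩
  · intro y hy hxy
    obtain ⟨py, rfl⟩ : y ∈ Set.range hW.fromSpec := by rw [hW.range_fromSpec]; exact hy
    rw [hemb.isInducing.specializes_iff] at hxy
    have : py ∈ ({(⟨m, hm.isPrime⟩ : PrimeSpectrum Γ(X, W))} :
        Set (PrimeSpectrum Γ(X, W))) := hxy.mem_closed hpmc rfl
    have h2 : py = (⟨m, hm.isPrime⟩ : PrimeSpectrum Γ(X, W)) := this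
    rw [h2]

end Groth.Agent.S4713
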