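import Groth.Statements.S0342
import Groth.Agent.S0563
-- import your own Groth.Agent.* helpers here

set_option autoImplicit false
universe u v
open Goren

namespace Groth.Agent.S0342

/-- Regular local rings have finite injective dimension over themselves, i.e. are Gorenstein. -/
theorem result (A : Type u) [CommRing A] [IsRegularLocalRing A] : LocCoh.IsGorensteinLocalRing A := by
  have hn : ringKrullDim A = ((IsLocalRing.maximalIdeal A).spanFinrank : ℕ) := by
    rw [← IsRegularLocalRing.spanFinrank_maximalIdeal]
  refine { exists_hasInjectiveDimensionLT := ⟨(IsLocalRing.maximalIdeal A).spanFinrank + 1, ?_⟩ }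
  apply CategoryTheory.HasInjectiveDimensionLT.mk
  intro i hi Y e
  have h1 : CategoryTheory.HasProjectiveDimensionLT (ModuleCat.of A Y)
      ((IsLocalRing.maximalIdeal A).spanFinrank + 1) :=
    Groth.Agent.S0563.result A _ hn Y
  exact CategoryTheory.Abelian.Ext.eq_zero_of_hasProjectiveDimensionLT e _ hi

end Groth.Agent.S0342
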