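import Groth.Statements.S9152
import Groth.Agent.S2678
import Groth.Agent.Lib.Helper49.Serre2
import Groth.Agent.Lib.Helper29.Depth

set_option autoImplicit false
universe u
open CAlg

namespace Groth.Agent.S9152

/-- The Cohen–Macaulay locus of a finite type algebra over a field is open. -/
theorem result (k S : Type u) [Field k] [CommRing S] [Algebra k S]
    [Algebra.FiniteType k S] :
    IsOpen {q : PrimeSpectrum S | LocCoh.IsCohenMacaulayLocalRing (Localization.AtPrime q.asIdeal)} := by
  obtain ⟨n, f, hf⟩ := Algebra.FiniteType.iff_quotient_mvPolynomial''.mp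
    (inferInstance : Algebra.FiniteType k S)
  let _ : Algebra (MvPolynomial (Fin n) k) S := f.toRingHom.toAlgebra
  have hs : Function.Surjective (algebraMap (MvPolynomial (Fin n) k) S) := hf
  have hnS : IsNoetherianRing S :=
    isNoetherianRing_of_surjective (MvPolynomial (Fin n) k) S (algebraMap _ S) hs
  have hopen := Groth.Agent.S2678.result (MvPolynomial (Fin n) k) S hs S 0
  convert hopen using 1
  ext q
  simp only [Set.mem_ofPred_eq]
  have hnt : Nontrivial (LocalizedModule q.asIdeal.primeCompl S) :=
    (Groth.Agent.Lib.Helper49.Serre.localizedModuleSelfEquiv q.asIdeal).toEquiv.nontrivial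
  have hle := Groth.Agent.Lib.Helper29.DepthLib.depth_le_supportDim
    (Localization.AtPrime q.asIdeal) (LocalizedModule q.asIdeal.primeCompl S)
  have hcongr := Groth.Agent.Lib.Helper29.CMLib.isCohenMacaulayModule_congr
    (Groth.Agent.Lib.Helper49.Serre.localizedModuleSelfEquiv q.asIdeal)
  constructor
  · intro h
    have h1 : LocCoh.IsCohenMacaulayModule (Localization.AtPrime q.asIdeal)
        (LocalizedModule q.asIdeal.primeCompl S) := hcongr.mpr h.supportDim_eq_depth
    rw [Nat.cast_zero, add_zero]
    exact le_of_eq h1
  · intro h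
    rw [Nat.cast_zero, add_zero] at h
    have h1 : LocCoh.IsCohenMacaulayModule (Localization.AtPrime q.asIdeal)
        (LocalizedModule q.asIdeal.primeCompl S) := le_antisymm h hle
    exact LocCoh.IsCohenMacaulayLocalRing.mk (hcongr.mp h1)

end Groth.Agent.S9152
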