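import Groth.Statements.S9766
import Mathlib
import Groth.Agent.Lib.Helper33.CMComp
import Groth.Agent.Lib.Helper33.GorComp

set_option autoImplicit false
universe u
open FlatMor

namespace Groth.Agent.S9766

open AlgebraicGeometry CategoryTheory Limits in
/-- For morphisms f : X ⟶ Y, g : Y ⟶ Z and a point x of X whose fibre under f ≫ g is locally Noetherian,
Cohen–Macaulayness of f at x (flat at x with Cohen–Macaulay local ring of the fibre at x) together
with that of g at f x implies that f ≫ g is Cohen–Macaulay at x. The published statement assumes all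
fibres of f, g and g ∘ f locally Noetherian; this row assumes only that the fibre of f ≫ g through x
is, which is all the argument uses. -/
theorem result {X Y Z : Scheme.{u}} (f : X ⟶ Y) (g : Y ⟶ Z) (x : X)
    (hN : IsLocallyNoetherian ((f ≫ g).fiber (g (f x))))
    (hf : MoreMor.IsCMAt f x) (hg : MoreMor.IsCMAt g (f x)) : MoreMor.IsCMAt (f ≫ g) x := by
  obtain ⟨hff, hF⟩ := hf
  obtain ⟨hgf, hG⟩ := hg
  haveI : IsLocallyNoetherian ((f ≫ g).fiber ((f ≫ g) x)) := hN
  obtain ⟨πg, hπg, hkerg⟩ := Groth.Agent.Lib.Helper33.GorComp.exists_fibre_proj g (f x)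
  obtain ⟨πh, hπh, hkerh⟩ := Groth.Agent.Lib.Helper33.GorComp.exists_fibre_proj (f ≫ g) x
  obtain ⟨πf, hπf, hkerf⟩ := Groth.Agent.Lib.Helper33.GorComp.exists_fibre_proj f x
  have hcomp : ((f ≫ g).stalkMap x).hom = (f.stalkMap x).hom.comp (g.stalkMap (f x)).hom := by
    rw [Scheme.Hom.stalkMap_comp]; rfl
  rw [hcomp] at hkerh
  haveI : IsNoetherianRing ((g.fiber (g (f x))).presheaf.stalk (g.asFiber (f x))) :=
    hG.1
  have key := Groth.Agent.Lib.Helper33.CMComp.cm_fibres_comp
    (g.stalkMap (f x)).hom (f.stalkMap x).hom hff πg hπg hkerg πh hπh hkerh πf hπf hkerf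
  refine ⟨?_, ?_⟩
  · rw [hcomp]; exact RingHom.Flat.comp hgf hff
  · exact key.2 ⟨hG, hF⟩

end Groth.Agent.S9766
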