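import Groth.Statements.S9767
import Mathlib
import Groth.Agent.Lib.Helper33.CMComp
import Groth.Agent.Lib.Helper33.GorComp
import Groth.Agent.Lib.Helper40.FlatDescentSrc

set_option autoImplicit false
universe u
open FlatMor

namespace Groth.Agent.S9767

open AlgebraicGeometry CategoryTheory Limits in
/-- For f : X ⟶ Y, g : Y ⟶ Z and a point x of X such that the fibre of f through x and the fibre of g
through f x are locally Noetherian, suppose the stalk map of f at x is flat and f ≫ g is
Cohen–Macaulay at x; then Cohen–Macaulayness passes to f at x and to g at the image point f x. The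
published statement assumes all fibres of f, g and g ∘ f locally Noetherian; this row assumes only
the fibres of f and g through x and f x. -/
theorem result {X Y Z : Scheme.{u}} (f : X ⟶ Y) (g : Y ⟶ Z) (x : X)
    (hNf : IsLocallyNoetherian (f.fiber (f x))) (hNg : IsLocallyNoetherian (g.fiber (g (f x))))
    (h : MoreMor.IsCMAt (f ≫ g) x) (hfl : (f.stalkMap x).hom.Flat) : MoreMor.IsCMAt f x ∧ MoreMor.IsCMAt g (f x) := by
  obtain ⟨hgff, hH⟩ := h
  haveI := hNf
  haveI := hNg
  obtain ⟨πg, hπg, hkerg⟩ := Groth.Agent.Lib.Helper33.GorComp.exists_fibre_proj g (f x)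
  obtain ⟨πh, hπh, hkerh⟩ := Groth.Agent.Lib.Helper33.GorComp.exists_fibre_proj (f ≫ g) x
  obtain ⟨πf, hπf, hkerf⟩ := Groth.Agent.Lib.Helper33.GorComp.exists_fibre_proj f x
  have hcomp : ((f ≫ g).stalkMap x).hom = (f.stalkMap x).hom.comp (g.stalkMap (f x)).hom := by
    rw [Scheme.Hom.stalkMap_comp]; rfl
  rw [hcomp] at hkerh hgff
  haveI : IsNoetherianRing (((f ≫ g).fiber ((f ≫ g) x)).presheaf.stalk ((f ≫ g).asFiber x)) :=
    hH.1
  have key := Groth.Agent.Lib.Helper33.CMComp.cm_fibres_comp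
    (g.stalkMap (f x)).hom (f.stalkMap x).hom hfl πg hπg hkerg πh hπh hkerh πf hπf hkerf
  have hgf : (g.stalkMap (f x)).hom.Flat :=
    Groth.Agent.Lib.Helper40.FlatDescentSrc.ringHom_flat_of_comp _ _ hfl hgff
  obtain ⟨hG, hF⟩ := key.1 hH
  exact ⟨⟨hfl, hF⟩, ⟨hgf, hG⟩⟩

end Groth.Agent.S9767
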