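import Groth.Statements.S1341
import Mathlib
import Groth.Agent.Lib.Helper21.CMEquidim
-- import your own Groth.Agent.* helpers here

set_option autoImplicit false
universe u
open FlatMor

namespace Groth.Agent.S1341
open CategoryTheory CategoryTheory.Limits AlgebraicGeometry

open AlgebraicGeometry CategoryTheory Limits in
/-- Let f : X ⟶ S be flat and locally of finite presentation. Then the set of points of X at which f is
Cohen–Macaulay is open in X, and its intersection with every fibre of f is dense in that fibre. -/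
theorem result {X S : Scheme.{u}} (f : X ⟶ S) [Flat f] [LocallyOfFinitePresentation f] :
    IsOpen {x : ↑X | MoreMor.IsCMAt f x} ∧ ∀ s : S, Dense ((f.fiberι s) ⁻¹' {x : ↑X | MoreMor.IsCMAt f x}) := by
  refine ⟨?_, fun s => Groth.Agent.Lib.Helper21.CMEquidim.dense_cmLocus_fibre f s⟩
  rw [isOpen_iff_forall_mem_open]
  intro x hx
  obtain ⟨ζ, n, -, -, -, hn⟩ :=
    Groth.Agent.Lib.Helper73.SchemeDim.exists_specializes_trdeg_eq_fibreDimAt f x
  obtain ⟨U, hxU, g, hg, hqf, hfl⟩ :=
    Groth.Agent.Lib.Helper21.CMChartMain.exists_chart_of_isCMAt f x hx n hn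
  refine ⟨U, fun u hu => ?_, U.isOpen, hxU⟩
  exact Groth.Agent.Lib.Helper21.CMChartMain.isCMAt_of_chart f u n U hu g hg (Flat.stalkMap g _)

end Groth.Agent.S1341
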