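import Groth.Statements.S1349
import Groth.Agent.Lib.Helper35.IterSliceScheme
import Groth.Agent.Lib.Helper35.QFCriterion
import Groth.Agent.Lib.Helper35.CMSeq
import Groth.Agent.Lib.Helper91.RegImmBaseChange

set_option autoImplicit false
universe u
open FlatMor

namespace Groth.Agent.S1349

section Helpers

set_option linter.style.haveILetI false
set_option maxHeartbeats 800000

open AlgebraicGeometry CategoryTheory Limits IsLocalRing RingTheory.Sequence
open Groth.Agent.Lib.Helper35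

theorem exists_fibre_surj {X S : Scheme.{u}} (f : X ⟶ S) (s : S) (x' : f.fiber s) (x : X)
    (hx : f.fiberι s x' = x) :
    ∃ φ : X.presheaf.stalk x →+* (f.fiber s).presheaf.stalk x', Function.Surjective φ ∧
      RingHom.ker φ = (maximalIdeal (S.presheaf.stalk (f x))).map (f.stalkMap x).hom := by
  subst hx
  exact ⟨_, FiberStalk.stalkMap_fiberι_surjective f s x', FiberStalk.ker_stalkMap_fiberι f s x'⟩

theorem exists_local_seq {T R : Type u} [CommRing T] [IsLocalRing T] [CommRing R]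
    [LocCoh.IsCohenMacaulayLocalRing R]
    (φ : T →+* R) (hφ : Function.Surjective φ) (I : Ideal T) (hI : RingHom.ker φ = I) :
    ∃ hs : List T, (∀ h ∈ hs, h ∈ maximalIdeal T) ∧ IsWeaklyRegular (T ⧸ I) hs ∧
      ∀ P : Ideal T, P.IsPrime → I ≤ P → (∀ h ∈ hs, h ∈ P) → P = maximalIdeal T := by
  obtain ⟨rs, hreg, hmem, hprime⟩ := CMSeq.exists_regular_of_cm R
  obtain ⟨hs, rfl⟩ := RegSmooth.exists_list_map_eq' φ hφ rs
  subst hI
  refine ⟨hs, ?_, ?_, ?_⟩
  · intro h hh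
    by_contra hnot
    have hu : IsUnit h := by
      by_contra hnu
      exact hnot ((IsLocalRing.mem_maximalIdeal _).2 hnu)
    have h1 := hmem (φ h) (List.mem_map_of_mem hh)
    exact (IsLocalRing.mem_maximalIdeal _).1 h1 (hu.map φ)
  · letI := φ.toAlgebra
    have h1 : IsWeaklyRegular R hs := (isWeaklyRegular_map_algebraMap_iff R R hs).1 hreg
    let e1 : (T ⧸ RingHom.ker φ) ≃ₗ[T] (T ⧸ LinearMap.ker (Algebra.linearMap T R)) :=
      Submodule.quotEquivOfEq _ _ (by ext; rfl)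
    let e2 : (T ⧸ LinearMap.ker (Algebra.linearMap T R)) ≃ₗ[T] R :=
      LinearMap.quotKerEquivOfSurjective (Algebra.linearMap T R) hφ
    exact (LinearEquiv.isWeaklyRegular_congr (e1 ≪≫ₗ e2) hs).2 h1
  · intro P hP hIP hhs
    haveI : (P.map φ).IsPrime := Ideal.map_isPrime_of_surjective hφ hIP
    have h1 : Ideal.ofList (hs.map φ) ≤ P.map φ := by
      rw [Ideal.span_le]
      intro r hr
      obtain ⟨h, hh, rfl⟩ := List.mem_map.1 hr
      exact Ideal.mem_map_of_mem φ (hhs h hh)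
    have h2 := hprime (P.map φ) inferInstance h1
    have h3 : P = (P.map φ).comap φ := by
      rw [Ideal.comap_map_of_surjective _ hφ, ← RingHom.ker_eq_comap_bot]
      exact (sup_eq_left.mpr hIP).symm
    have h4 : P.IsMaximal := by
      rw [h3, h2]
      exact Ideal.comap_isMaximal_of_surjective _ hφ
    exact IsLocalRing.eq_maximalIdeal h4

theorem eq_of_specializes_of_isClosed {X S : Scheme.{u}} (f : X ⟶ S) (x : X)
    (hcl : IsClosed ({f.asFiber x} : Set ↑(f.fiber (f x)))) (y : X) (hy : f y = f x)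
    (hxy : x ⤳ y) : y = x := by
  rw [← (f.fiberHomeo (f x)).isClosed_image] at hcl
  simp only [Set.image_singleton, Scheme.Hom.asFiber, Homeomorph.apply_symm_apply] at hcl
  have h1 : (⟨y, hy⟩ : f ⁻¹' {f x}) ∈ closure ({⟨x, rfl⟩} : Set (f ⁻¹' {f x})) := by
    rw [← specializes_iff_mem_closure, subtype_specializes_iff]
    exact hxy
  rw [hcl.closure_eq, Set.mem_singleton_iff] at h1
  exact congrArg Subtype.val h1


theorem quasiFiniteAt_chart {X S : Scheme.{u}} (f : X ⟶ S) [LocallyOfFinitePresentation f] (x : X)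
    {V : S.Opens} (hV : IsAffineOpen V) {U : X.Opens} (hU : IsAffineOpen U) (hUV : U ≤ f ⁻¹ᵁ V)
    (hxU : x ∈ U) (gs : List Γ(X, U))
    (hspec : ∀ y : X, f y = f x → x ⤳ y → y = x)
    (hprime : ∀ P : Ideal (X.presheaf.stalk x), P.IsPrime →
      (maximalIdeal (S.presheaf.stalk (f x))).map (f.stalkMap x).hom ≤ P →
      (∀ g ∈ gs, X.presheaf.germ U x hxU g ∈ P) → P = maximalIdeal (X.presheaf.stalk x))
    (z₀ : Spec (CommRingCat.of (Γ(X, U) ⧸ Ideal.ofList gs)))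
    (hz₀ : (Spec.map (CommRingCat.ofHom (Ideal.Quotient.mk (Ideal.ofList gs))) ≫
      hU.fromSpec) z₀ = x) :
    (Spec.map (CommRingCat.ofHom (Ideal.Quotient.mk (Ideal.ofList gs))) ≫
      hU.fromSpec ≫ f).QuasiFiniteAt z₀ := by
  obtain ⟨ψ, hψ⟩ : ∃ ψ : Γ(S, V) ⟶ CommRingCat.of (Γ(X, U) ⧸ Ideal.ofList gs),
      ψ = f.appLE V U hUV ≫ CommRingCat.ofHom (Ideal.Quotient.mk (Ideal.ofList gs)) := ⟨_, rfl⟩
  have hfac : Spec.map (CommRingCat.ofHom (Ideal.Quotient.mk (Ideal.ofList gs))) ≫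
      hU.fromSpec ≫ f = Spec.map ψ ≫ hV.fromSpec := by
    rw [hψ, ← hV.SpecMap_appLE_fromSpec f hU hUV, ← Category.assoc, ← Spec.map_comp]
  obtain ⟨ι₀, hι₀⟩ : ∃ ι₀ : Spec (CommRingCat.of (Γ(X, U) ⧸ Ideal.ofList gs)) ⟶ X,
      ι₀ = Spec.map (CommRingCat.ofHom (Ideal.Quotient.mk (Ideal.ofList gs))) ≫ hU.fromSpec :=
    ⟨_, rfl⟩
  have hfac' : ι₀ ≫ f = Spec.map ψ ≫ hV.fromSpec := by
    rw [hι₀, Category.assoc, hfac]
  rw [← hι₀] at hz₀
  haveI : IsClosedImmersion (Spec.map (CommRingCat.ofHom (Ideal.Quotient.mk (Ideal.ofList gs)))) :=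
    IsClosedImmersion.spec_of_surjective _ Ideal.Quotient.mk_surjective
  have hinj : Function.Injective ι₀ := by
    rw [hι₀]
    intro a b hab
    rw [Scheme.Hom.comp_apply, Scheme.Hom.comp_apply] at hab
    exact (Spec.map (CommRingCat.ofHom (Ideal.Quotient.mk
      (Ideal.ofList gs)))).isClosedEmbedding.injective (hU.fromSpec.isOpenEmbedding.injective hab)
  rw [hfac, Scheme.Hom.quasiFiniteAt_comp_iff,
    QFCriterion.quasiFiniteAt_SpecMap_iff]
  letI algAC : Algebra Γ(S, V) (Γ(X, U) ⧸ Ideal.ofList gs) := ψ.hom.toAlgebra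
  letI algAB : Algebra Γ(S, V) Γ(X, U) := (f.appLE V U hUV).hom.toAlgebra
  haveI : Algebra.FiniteType Γ(S, V) (Γ(X, U) ⧸ Ideal.ofList gs) := by
    have h1 : (f.appLE V U hUV).hom.FiniteType :=
      RingHom.FiniteType.of_finitePresentation (f.finitePresentation_appLE hV hU hUV)
    have h2 : (Ideal.Quotient.mk (Ideal.ofList gs)).FiniteType :=
      RingHom.FiniteType.of_surjective _ Ideal.Quotient.mk_surjective
    have h3 := h2.comp h1
    have h4 : ψ.hom = (Ideal.Quotient.mk (Ideal.ofList gs)).comp (f.appLE V U hUV).hom := by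
      rw [hψ]; rfl
    rw [← h4] at h3
    exact h3
  have hcomapA : ∀ Q' : PrimeSpectrum (Γ(X, U) ⧸ Ideal.ofList gs),
      (Q'.comap (algebraMap Γ(S, V) (Γ(X, U) ⧸ Ideal.ofList gs))).asIdeal =
        (Q'.asIdeal.comap (Ideal.Quotient.mk (Ideal.ofList gs))).comap
          (algebraMap Γ(S, V) Γ(X, U)) := by
    intro Q'
    rw [PrimeSpectrum.comap_asIdeal, Ideal.comap_comap]
    congr 1
    show ψ.hom = _
    rw [hψ]
    rfl
  refine QFCriterion.quasiFiniteAt_of_isolated (R := Γ(S, V)) (S := Γ(X, U) ⧸ Ideal.ofList gs)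
    z₀ ?_ ?_
  · -- maximal in the fibre
    intro Q' hQ' hle
    obtain ⟨Q'', hQ''⟩ : ∃ Q'' : Spec (CommRingCat.of (Γ(X, U) ⧸ Ideal.ofList gs)), Q'' = Q' :=
      ⟨Q', rfl⟩
    have hy : f (ι₀ Q'') = f x := by
      rw [← hz₀, ← Scheme.Hom.comp_apply, ← Scheme.Hom.comp_apply, hfac', Scheme.Hom.comp_apply,
        Scheme.Hom.comp_apply]
      congr 1
      rw [hQ'']
      exact hQ'
    have hxy : x ⤳ ι₀ Q'' := by
      rw [← hz₀, hQ'']
      exact ((PrimeSpectrum.le_iff_specializes z₀ Q').1 hle).map ι₀.continuous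
    have h1 := hspec _ hy hxy
    rw [← hz₀] at h1
    rw [← hQ'']
    exact hinj h1
  · -- minimal in the fibre
    intro Q' hQ' hle
    let p := (hV.primeIdealOf ⟨f x, hUV hxU⟩).asIdeal
    let q := (hU.primeIdealOf ⟨x, hxU⟩).asIdeal
    haveI : q.LiesOver p :=
      ⟨congr($(IsAffineOpen.comap_primeIdealOf_appLE V hV U hU hUV hxU).1).symm⟩
    letI := S.presheaf.algebra_section_stalk ⟨f x, hUV hxU⟩
    haveI := hV.isLocalization_stalk ⟨f x, hUV hxU⟩
    letI := X.presheaf.algebra_section_stalk ⟨x, hxU⟩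
    haveI := hU.isLocalization_stalk ⟨x, hxU⟩
    have hσ : (f.stalkMap x).hom.comp (algebraMap Γ(S, V) (S.presheaf.stalk (f x))) =
        (algebraMap Γ(X, U) (X.presheaf.stalk x)).comp (algebraMap Γ(S, V) Γ(X, U)) := by
      ext a
      simp only [RingHom.algebraMap_toAlgebra, Scheme.Hom.germ_stalkMap_apply, Scheme.Hom.appLE,
        homOfLE_leOfHom, CommRingCat.hom_comp, RingHom.coe_comp, Function.comp_apply,
        X.presheaf.germ_res_apply]
    -- the prime of `z₀`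
    have hz₀q : z₀.asIdeal.comap (Ideal.Quotient.mk (Ideal.ofList gs)) = q := by
      have h1 : hU.fromSpec ((Spec.map (CommRingCat.ofHom (Ideal.Quotient.mk
          (Ideal.ofList gs)))) z₀) = hU.fromSpec (hU.primeIdealOf ⟨x, hxU⟩) := by
        rw [hU.fromSpec_primeIdealOf, ← Scheme.Hom.comp_apply, ← hι₀, hz₀]
      have h2 := hU.fromSpec.isOpenEmbedding.injective h1
      exact congrArg PrimeSpectrum.asIdeal h2
    obtain ⟨Q, hQ⟩ : ∃ Q : Ideal Γ(X, U),
      Q = Q'.asIdeal.comap (Ideal.Quotient.mk (Ideal.ofList gs)) := ⟨_, rfl⟩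
    haveI hQprime : Q.IsPrime := hQ ▸ Ideal.comap_isPrime _ _
    have hQq : Q ≤ q := by
      rw [hQ, ← hz₀q]
      exact Ideal.comap_mono hle
    have hdisj : Disjoint (q.primeCompl : Set Γ(X, U)) (Q : Set Γ(X, U)) := by
      rw [Set.disjoint_left]
      intro b hb hbQ
      exact hb (hQq hbQ)
    have hPprime : (Q.map (algebraMap Γ(X, U) (X.presheaf.stalk x))).IsPrime :=
      IsLocalization.isPrime_of_isPrime_disjoint q.primeCompl _ Q hQprime hdisj
    have hPcomap : (Q.map (algebraMap Γ(X, U) (X.presheaf.stalk x))).comap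
        (algebraMap Γ(X, U) (X.presheaf.stalk x)) = Q :=
      IsLocalization.under_map_of_isPrime_disjoint q.primeCompl _ hQprime hdisj
    have hQA : Q.comap (algebraMap Γ(S, V) Γ(X, U)) = p := by
      have h5 := hcomapA Q'
      have h6 := hcomapA z₀
      rw [hQ'] at h5
      rw [hQ, ← h5, h6, hz₀q]
      exact (Ideal.LiesOver.over (p := p) (P := q)).symm
    have hm : (maximalIdeal (S.presheaf.stalk (f x))).map (f.stalkMap x).hom ≤
        Q.map (algebraMap Γ(X, U) (X.presheaf.stalk x)) := by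
      rw [← IsLocalization.AtPrime.map_eq_maximalIdeal p (S.presheaf.stalk (f x)),
        Ideal.map_map, hσ, Ideal.map_le_iff_le_comap, ← Ideal.comap_comap, hPcomap, hQA]
    have hgsP : ∀ g ∈ gs, X.presheaf.germ U x hxU g ∈
        Q.map (algebraMap Γ(X, U) (X.presheaf.stalk x)) := by
      intro g hg
      have h1 : g ∈ Q := by
        rw [hQ, Ideal.mem_comap]
        have h2 : Ideal.Quotient.mk (Ideal.ofList gs) g = 0 :=
          Ideal.Quotient.eq_zero_iff_mem.2 (Ideal.subset_span hg)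
        rw [h2]
        exact Ideal.zero_mem _
      exact Ideal.mem_map_of_mem _ h1
    have hPmax := hprime _ hPprime hm hgsP
    have hQeq : Q = q := by
      rw [← hPcomap, hPmax]
      exact IsLocalization.AtPrime.under_maximalIdeal (X.presheaf.stalk x) q
    apply PrimeSpectrum.ext
    rw [← Ideal.map_comap_of_surjective _ Ideal.Quotient.mk_surjective Q'.asIdeal, ← hQ, hQeq,
      ← hz₀q, Ideal.map_comap_of_surjective _ Ideal.Quotient.mk_surjective]


theorem aux {X S : Scheme.{u}} (f : X ⟶ S) [LocallyOfFinitePresentation f] (x : X)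
    (hcm : MoreMor.IsCMAt f x) (hcl : IsClosed ({f.asFiber x} : Set ↑(f.fiber (f x)))) :
    ∃ (V : X.Opens) (Z : Scheme.{u}) (i : Z ⟶ (V : Scheme.{u})),
      Mor2.IsRegularClosedImmersion i ∧ x ∈ Set.range ⇑(i ≫ V.ι) ∧
      Flat (i ≫ V.ι ≫ f) ∧ LocallyOfFinitePresentation (i ≫ V.ι ≫ f) ∧
      LocallyQuasiFinite (i ≫ V.ι ≫ f) ∧
      ∀ z : Z, f (V.ι (i z)) = f x → V.ι (i z) = x := by
  obtain ⟨hflat, hcmR⟩ := hcm
  haveI := hcmR
  obtain ⟨φ, hφ, hker⟩ := exists_fibre_surj f (f x) (f.asFiber x) x (f.fiberι_asFiber x)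
  obtain ⟨hs, hmem, hreg, hprime⟩ := exists_local_seq φ hφ _ hker
  obtain ⟨V, hV, U, hU, hUV, hxU, gs, -, hgs, hwr, hgsq, hfl⟩ :=
    IterSliceScheme.exists_chart f x hflat hs hmem hreg ⊤ trivial
  have hspec := eq_of_specializes_of_isClosed f x hcl
  obtain ⟨z₀, hz₀⟩ := IterSliceScheme.mem_range_chart hU gs x hxU hgsq
  have hprime' : ∀ P : Ideal (X.presheaf.stalk x), P.IsPrime →
      (maximalIdeal (S.presheaf.stalk (f x))).map (f.stalkMap x).hom ≤ P →
      (∀ g ∈ gs, X.presheaf.germ U x hxU g ∈ P) → P = maximalIdeal (X.presheaf.stalk x) := by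
    intro P hP hm hg
    apply hprime P hP hm
    intro h hh
    rw [← hgs] at hh
    obtain ⟨g, hg', rfl⟩ := List.mem_map.1 hh
    exact hg g hg'
  have hqf := quasiFiniteAt_chart f x hV hU hUV hxU gs hspec hprime' z₀ hz₀
  have hreg₀ := IterSliceScheme.isRegularClosedImmersion_chart hU gs hwr
    (IterSliceScheme.ofList_ne_top hU gs x hxU hgsq)
  haveI hflat₀ := IterSliceScheme.flat_chart f hU gs hV hUV (by
    have := hfl gs.length
    rwa [List.take_length] at this)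
  haveI hlfp₀ := IterSliceScheme.lfp_chart f hU gs
  -- abbreviations
  obtain ⟨i₀, hi₀⟩ : ∃ i₀ : Spec (CommRingCat.of (Γ(X, U) ⧸ Ideal.ofList gs)) ⟶ (U : Scheme.{u}),
      i₀ = Spec.map (CommRingCat.ofHom (Ideal.Quotient.mk (Ideal.ofList gs))) ≫ hU.isoSpec.inv :=
    ⟨_, rfl⟩
  obtain ⟨ι₀, hι₀⟩ : ∃ ι₀ : Spec (CommRingCat.of (Γ(X, U) ⧸ Ideal.ofList gs)) ⟶ X,
      ι₀ = Spec.map (CommRingCat.ofHom (Ideal.Quotient.mk (Ideal.ofList gs))) ≫ hU.fromSpec :=
    ⟨_, rfl⟩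
  obtain ⟨h₀, hh₀⟩ : ∃ h₀ : Spec (CommRingCat.of (Γ(X, U) ⧸ Ideal.ofList gs)) ⟶ S,
      h₀ = Spec.map (CommRingCat.ofHom (Ideal.Quotient.mk (Ideal.ofList gs))) ≫ hU.fromSpec ≫ f :=
    ⟨_, rfl⟩
  rw [← hi₀] at hreg₀
  rw [← hι₀] at hz₀
  rw [← hh₀] at hqf hflat₀ hlfp₀
  have hi₀ι : i₀ ≫ U.ι = ι₀ := by
    rw [hi₀, hι₀, Category.assoc, hU.isoSpec_inv_ι]
  have hι₀f : ι₀ ≫ f = h₀ := by
    rw [hι₀, hh₀, Category.assoc]
  haveI : LocallyOfFiniteType h₀ := inferInstance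
  -- an open neighbourhood of `z₀` isolating it in its fibre
  obtain ⟨O₁, hO₁, hz₀O₁, hO₁iso⟩ : ∃ O₁ : Set ↥(Spec (CommRingCat.of (Γ(X, U) ⧸ Ideal.ofList gs))),
      IsOpen O₁ ∧ z₀ ∈ O₁ ∧ ∀ z ∈ O₁, h₀ z = h₀ z₀ → z = z₀ := by
    have h1 := (hqf.isClopen_singleton_asFiber).isOpen
    rw [← (h₀.fiberHomeo (h₀ z₀)).isOpen_image] at h1
    simp only [Set.image_singleton, Scheme.Hom.asFiber, Homeomorph.apply_symm_apply] at h1
    obtain ⟨O, hO, hOeq⟩ := isOpen_induced_iff.1 h1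
    refine ⟨O, hO, ?_, ?_⟩
    · have : (⟨z₀, rfl⟩ : h₀ ⁻¹' {h₀ z₀}) ∈ Subtype.val ⁻¹' O := by rw [hOeq]; rfl
      exact this
    · intro z hz hzz
      have : (⟨z, hzz⟩ : h₀ ⁻¹' {h₀ z₀}) ∈ Subtype.val ⁻¹' O := hz
      rw [hOeq] at this
      exact congrArg Subtype.val this
  haveI : IsClosedImmersion (Spec.map (CommRingCat.ofHom (Ideal.Quotient.mk (Ideal.ofList gs)))) :=
    IsClosedImmersion.spec_of_surjective _ Ideal.Quotient.mk_surjective
  have hemb : Topology.IsEmbedding ι₀ := by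
    rw [hι₀]
    exact hU.fromSpec.isOpenEmbedding.isEmbedding.comp
      (Spec.map (CommRingCat.ofHom (Ideal.Quotient.mk
        (Ideal.ofList gs)))).isClosedEmbedding.isEmbedding
  have hO₂ : IsOpen (O₁ ∩ (h₀.quasiFiniteLocus : Set _)) := hO₁.inter h₀.quasiFiniteLocus.isOpen
  obtain ⟨Ω, hΩ, hΩeq⟩ := hemb.isInducing.isOpen_iff.1 hO₂
  let V' : X.Opens := ⟨Ω, hΩ⟩ ⊓ U
  have hxΩ : x ∈ Ω := by
    have : z₀ ∈ ι₀ ⁻¹' Ω := by
      rw [hΩeq]
      exact ⟨hz₀O₁, hqf⟩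
    rw [← hz₀]
    exact this
  have hxV' : x ∈ V' := ⟨hxΩ, hxU⟩
  have hV'U : V' ≤ U := inf_le_right
  obtain ⟨g, hg⟩ : ∃ g : (V' : Scheme.{u}) ⟶ (U : Scheme.{u}), g = X.homOfLE hV'U := ⟨_, rfl⟩
  haveI : IsOpenImmersion g := hg ▸ inferInstance
  have hgι : g ≫ U.ι = V'.ι := by rw [hg, X.homOfLE_ι]
  have hcomp : pullback.snd i₀ g ≫ V'.ι = pullback.fst i₀ g ≫ ι₀ := by
    rw [← hgι, ← Category.assoc, ← pullback.condition, Category.assoc, hi₀ι]
  have hcomp' : pullback.snd i₀ g ≫ V'.ι ≫ f = pullback.fst i₀ g ≫ h₀ := by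
    rw [← Category.assoc, hcomp, Category.assoc, hι₀f]
  have hpt : ∀ t : ↥(pullback i₀ g), V'.ι (pullback.snd i₀ g t) = ι₀ (pullback.fst i₀ g t) := by
    intro t
    rw [← Scheme.Hom.comp_apply, ← Scheme.Hom.comp_apply, hcomp]
  have hfstmem : ∀ t : ↥(pullback i₀ g),
      pullback.fst i₀ g t ∈ O₁ ∩ (h₀.quasiFiniteLocus : Set _) := by
    intro t
    rw [← hΩeq]
    show ι₀ (pullback.fst i₀ g t) ∈ Ω
    rw [← hpt]
    exact (pullback.snd i₀ g t).2.1
  refine ⟨V', pullback i₀ g, pullback.snd i₀ g, ?_, ?_, ?_, ?_, ?_, ?_⟩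
  · exact Groth.Agent.Lib.Helper91.RegImmBaseChange.baseChange i₀ g hreg₀
  · have h1 : i₀ z₀ = g ⟨x, hxV'⟩ := by
      apply U.ι.isOpenEmbedding.injective
      show (i₀ ≫ U.ι) z₀ = (g ≫ U.ι) ⟨x, hxV'⟩
      rw [hi₀ι, hgι, hz₀]
      rfl
    obtain ⟨t, -, ht2⟩ := Scheme.Pullback.exists_preimage_pullback (f := i₀) (g := g) z₀
      (⟨x, hxV'⟩ : ↥(V' : Scheme.{u})) h1
    refine ⟨t, ?_⟩
    rw [Scheme.Hom.comp_apply, ht2]
    rfl
  · rw [hcomp']
    infer_instance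
  · rw [hcomp']
    infer_instance
  · rw [hcomp']
    haveI : LocallyOfFiniteType (pullback.fst i₀ g ≫ h₀) := inferInstance
    rw [← Scheme.Hom.quasiFiniteLocus_eq_top_iff, Scheme.Hom.quasiFiniteLocus_comp]
    ext t
    simp only [Scheme.Hom.coe_preimage, Set.mem_preimage, SetLike.mem_coe,
      TopologicalSpace.Opens.coe_top, Set.mem_univ, iff_true]
    exact (hfstmem t).2
  · intro t ht
    rw [hpt] at ht ⊢
    have h1 : h₀ (pullback.fst i₀ g t) = h₀ z₀ := by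
      rw [← hι₀f, Scheme.Hom.comp_apply, Scheme.Hom.comp_apply, ht, hz₀]
    rw [hO₁iso _ (hfstmem t).1 h1, hz₀]

end Helpers

open AlgebraicGeometry CategoryTheory Limits in
/-- Let f be locally of finite presentation and Cohen–Macaulay at a point x which is closed in its
fibre. Then there are an open neighbourhood V of x and a regular closed immersion i into V whose
image contains x, such that the composite Z ⟶ V ⟶ X ⟶ S is flat, locally of finite presentation and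
locally quasi-finite, and x is the only point of (the image of) Z lying over the image of x. -/
theorem result {X S : Scheme.{u}} (f : X ⟶ S) [LocallyOfFinitePresentation f] (x : X)
    (hcm : MoreMor.IsCMAt f x) (hcl : IsClosed ({f.asFiber x} : Set ↑(f.fiber (f x)))) :
    ∃ (V : X.Opens) (Z : Scheme.{u}) (i : Z ⟶ (V : Scheme.{u})), Mor2.IsRegularClosedImmersion i ∧ x ∈ Set.range ⇑(i ≫ V.ι) ∧
      Flat (i ≫ V.ι ≫ f) ∧ LocallyOfFinitePresentation (i ≫ V.ι ≫ f) ∧ LocallyQuasiFinite (i ≫ V.ι ≫ f) ∧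
      ∀ z : Z, f (V.ι (i z)) = f x → V.ι (i z) = x := by
  exact aux f x hcm hcl

end Groth.Agent.S1349
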