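import Groth.Statements.S1375
-- import your own Groth.Agent.* helpers here
import Mathlib
import Groth.Agent.S1349
import Groth.Agent.S1341

set_option autoImplicit false
universe u
open FlatMor

namespace Groth.Agent.S1375

open AlgebraicGeometry CategoryTheory Limits

/-- transport of closedness of a point of a fibre along an equality of base points. -/
theorem isClosed_asFiber {X S : Scheme.{u}} (f : X ⟶ S) (s : S) (w : f.fiber s)
    (hw : IsClosed ({w} : Set ↑(f.fiber s))) :
    IsClosed ({f.asFiber (f.fiberι s w)} : Set ↑(f.fiber (f (f.fiberι s w)))) := by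
  have key : ∀ (x : X) (s : S) (_ : f x = s) (w : f.fiber s) (_ : f.fiberι s w = x),
      IsClosed ({w} : Set ↑(f.fiber s)) → IsClosed ({f.asFiber x} : Set ↑(f.fiber (f x))) := by
    intro x s hs w hwx h
    subst hs
    have : f.asFiber x = w := by
      apply (f.fiberι (f x)).isEmbedding.injective
      rw [Scheme.Hom.fiberι_asFiber, hwx]
    rwa [this]
  have hfs : f (f.fiberι s w) = s := by
    have : f.fiberι s w ∈ Set.range (f.fiberι s) := ⟨w, rfl⟩
    rwa [Scheme.Hom.range_fiberι] at this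
  exact key _ s hfs w rfl hw

/-- a quasi-finite flat slice of an fppf cover through a given point of the base. -/
theorem exists_slice {S' S : Scheme.{u}} (g : S' ⟶ S) [Flat g] [LocallyOfFinitePresentation g]
    [Surjective g] (s : S) :
    ∃ (Z : Scheme.{u}) (j : Z ⟶ S'), Flat (j ≫ g) ∧ LocallyOfFinitePresentation (j ≫ g) ∧
      LocallyQuasiFinite (j ≫ g) ∧ s ∈ Set.range (j ≫ g) := by
  obtain ⟨hopen, hdense⟩ := Groth.Agent.S1341.result g
  obtain ⟨x₀, hx₀⟩ := g.surjective s
  have hne : Nonempty ↑(g.fiber s) := by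
    have : x₀ ∈ Set.range (g.fiberι s) := by rw [Scheme.Hom.range_fiberι]; exact hx₀
    obtain ⟨w₀, -⟩ := this
    exact ⟨w₀⟩
  set O : Set ↑(g.fiber s) := (g.fiberι s) ⁻¹' {x : ↑S' | MoreMor.IsCMAt g x} with hO
  have hOopen : IsOpen O := hopen.preimage (g.fiberι s).continuous
  have hOne : O.Nonempty := (hdense s).nonempty
  obtain ⟨w, hwO, hwcl⟩ := nonempty_inter_closedPoints hOne hOopen.isLocallyClosed
  set x := g.fiberι s w with hx
  have hcm : MoreMor.IsCMAt g x := hwO
  have hcl := isClosed_asFiber g s w hwcl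
  have hgx : g x = s := by
    have : x ∈ Set.range (g.fiberι s) := ⟨w, rfl⟩
    rwa [Scheme.Hom.range_fiberι] at this
  obtain ⟨V, Z, i, -, hxr, h1, h2, h3, -⟩ := Groth.Agent.S1349.result g x hcm hcl
  refine ⟨Z, i ≫ V.ι, ?_, ?_, ?_, ?_⟩
  · rwa [Category.assoc]
  · rwa [Category.assoc]
  · rwa [Category.assoc]
  · obtain ⟨z, hz⟩ := hxr
    refine ⟨z, ?_⟩
    rw [Scheme.Hom.comp_apply, hz, hgx]

open AlgebraicGeometry CategoryTheory Limits in
/-- Let S' → S be flat, locally of finite presentation and surjective (an fppf cover by one morphism).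
Then there is a flat, locally of finite presentation, locally quasi-finite and surjective T → S
which factors through S' locally on T. -/
theorem result {S' S : Scheme.{u}} (g : S' ⟶ S) [Flat g] [LocallyOfFinitePresentation g] [Surjective g] :
    ∃ (T : Scheme.{u}) (h : T ⟶ S), Flat h ∧ LocallyOfFinitePresentation h ∧ LocallyQuasiFinite h ∧ Surjective h ∧
      ∀ t : ↑T, ∃ (V : T.Opens) (r : ↑V ⟶ S'), t ∈ V ∧ r ≫ g = V.ι ≫ h := by
  choose Z j h1 h2 h3 h4 using exists_slice g
  refine ⟨∐ Z, Sigma.desc (fun s => j s ≫ g), ?_, ?_, ?_, ?_, ?_⟩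
  · exact IsZariskiLocalAtSource.sigmaDesc h1
  · exact IsZariskiLocalAtSource.sigmaDesc h2
  · exact IsZariskiLocalAtSource.sigmaDesc h3
  · apply Surjective.sigmaDesc_of_union_range_eq_univ
    rw [Set.eq_univ_iff_forall]
    intro s
    exact Set.mem_iUnion.mpr ⟨s, h4 s⟩
  · intro t
    obtain ⟨⟨s, z⟩, rfl⟩ := (sigmaMk Z).surjective t
    rw [sigmaMk_mk]
    refine ⟨(Sigma.ι Z s).opensRange, (Sigma.ι Z s).isoOpensRange.inv ≫ j s, ⟨z, rfl⟩, ?_⟩
    rw [Category.assoc, ← Sigma.ι_desc (fun s => j s ≫ g) s, ← Category.assoc,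
      Scheme.Hom.isoOpensRange_inv_comp]

end Groth.Agent.S1375
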