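import Groth.Statements.S9432
-- import your own Groth.Agent.* helpers here
import Mathlib
import Groth.Agent.S1375

set_option autoImplicit false
universe u
open CAlg

namespace Groth.Agent.S9432

open AlgebraicGeometry CategoryTheory Limits

/-- scheme form: an fppf cover of an affine scheme by an affine scheme is refined by a quasi-finite
flat lfp surjective morphism from an affine scheme. -/
theorem exists_affine_refinement {S' S : Scheme.{u}} [CompactSpace S] (g : S' ⟶ S) [Flat g]
    [LocallyOfFinitePresentation g] [Surjective g] :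
    ∃ (T : Scheme.{u}) (_ : IsAffine T) (h : T ⟶ S) (m : T ⟶ S'), m ≫ g = h ∧ Flat h ∧
      LocallyOfFinitePresentation h ∧ LocallyQuasiFinite h ∧ Surjective h := by
  classical
  choose Z j h1 h2 h3 h4 using Groth.Agent.S1375.exists_slice g
  choose z hz using h4
  have hW : ∀ s : S, ∃ W : (Z s).Opens, IsAffineOpen W ∧ z s ∈ W := by
    intro s
    obtain ⟨_, ⟨W, hW, rfl⟩, hzW, -⟩ :=
      (Z s).isBasis_affineOpens.exists_subset_of_mem_open (Set.mem_univ (z s)) isOpen_univ
    exact ⟨W, hW, hzW⟩
  choose W hWaff hzW using hW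
  let k : ∀ s : S, ((W s : (Z s).Opens) : Scheme.{u}) ⟶ S := fun s => (W s).ι ≫ (j s ≫ g)
  haveI hk1 : ∀ s, Flat (k s) := fun s => by
    haveI := h1 s
    exact inferInstanceAs (Flat ((W s).ι ≫ (j s ≫ g)))
  haveI hk2 : ∀ s, LocallyOfFinitePresentation (k s) := fun s => by
    haveI := h2 s
    exact inferInstanceAs (LocallyOfFinitePresentation ((W s).ι ≫ (j s ≫ g)))
  haveI hk3 : ∀ s, LocallyQuasiFinite (k s) := fun s => by
    haveI := h3 s
    exact inferInstanceAs (LocallyQuasiFinite ((W s).ι ≫ (j s ≫ g)))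
  have hopen : ∀ s, IsOpen (Set.range (k s)) := fun s => (k s).isOpenMap.isOpen_range
  have hmem : ∀ s, s ∈ Set.range (k s) := by
    intro s
    refine ⟨⟨z s, hzW s⟩, ?_⟩
    change (j s ≫ g) (z s) = s
    exact hz s
  obtain ⟨t, ht⟩ := isCompact_univ.elim_finite_subcover (fun s : S => Set.range (k s)) hopen
    (fun s _ => Set.mem_iUnion.mpr ⟨s, hmem s⟩)
  let Wt : {s : S // s ∈ t} → Scheme.{u} := fun s => ((W s.1 : (Z s.1).Opens) : Scheme.{u})
  haveI : ∀ s : {s : S // s ∈ t}, IsAffine (Wt s) := fun s => hWaff s.1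
  refine ⟨∐ Wt, inferInstance, Limits.Sigma.desc (fun s : {s : S // s ∈ t} => k s.1),
    Limits.Sigma.desc (fun s : {s : S // s ∈ t} => (W s.1).ι ≫ j s.1), ?_, ?_, ?_, ?_, ?_⟩
  · apply Limits.Sigma.hom_ext
    intro s
    rw [Limits.Sigma.ι_desc, ← Category.assoc, Limits.Sigma.ι_desc, Category.assoc]
  · exact IsZariskiLocalAtSource.sigmaDesc (fun s : {s : S // s ∈ t} => hk1 s.1)
  · exact IsZariskiLocalAtSource.sigmaDesc (fun s : {s : S // s ∈ t} => hk2 s.1)
  · exact IsZariskiLocalAtSource.sigmaDesc (fun s : {s : S // s ∈ t} => hk3 s.1)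
  · apply Surjective.sigmaDesc_of_union_range_eq_univ
    rw [Set.eq_univ_iff_forall]
    intro y
    have := ht (Set.mem_univ y)
    simp only [Set.mem_iUnion] at this
    obtain ⟨s, hst, hy⟩ := this
    exact Set.mem_iUnion.mpr ⟨⟨s, hst⟩, hy⟩

/-- For a faithfully flat ring map R → S of finite presentation there is a quasi-finite (of finite type
with finite fibres), faithfully flat, finitely presented R-algebra S' together with an R-algebra map
S → S'. -/
theorem result (R : Type u) [CommRing R]
    (S : Type u) [CommRing S] [Algebra R S] [Module.FaithfullyFlat R S]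
    [Algebra.FinitePresentation R S] :
    ∃ (S' : Type u) (_ : CommRing S') (_ : Algebra R S'),
      Algebra.QuasiFinite R S' ∧ Algebra.FiniteType R S' ∧ Module.FaithfullyFlat R S' ∧
        Algebra.FinitePresentation R S' ∧ Nonempty (S →ₐ[R] S') := by
  set g := Spec.map (CommRingCat.ofHom (algebraMap R S)) with hg
  haveI : Flat g := by
    rw [hg, HasRingHomProperty.Spec_iff (P := @Flat)]
    exact RingHom.flat_algebraMap_iff.mpr inferInstance
  haveI : LocallyOfFinitePresentation g := by
    rw [hg, HasRingHomProperty.Spec_iff (P := @LocallyOfFinitePresentation)]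
    exact RingHom.finitePresentation_algebraMap.mpr inferInstance
  haveI : Surjective g := ⟨PrimeSpectrum.comap_surjective_of_faithfullyFlat⟩
  haveI : CompactSpace ↥(Spec (CommRingCat.of R)) :=
    inferInstanceAs (CompactSpace (PrimeSpectrum R))
  obtain ⟨T, hT, h, m, hmh, hfl, hfp, hqf, hsurj⟩ := exists_affine_refinement g
  let φ : CommRingCat.of R ⟶ Γ(T, ⊤) := Spec.preimage (T.isoSpec.inv ≫ h)
  have hφ : Spec.map φ = T.isoSpec.inv ≫ h := Spec.map_preimage _
  let ψ : CommRingCat.of S ⟶ Γ(T, ⊤) := Spec.preimage (T.isoSpec.inv ≫ m)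
  have hψ : Spec.map ψ = T.isoSpec.inv ≫ m := Spec.map_preimage _
  have hcomp : CommRingCat.ofHom (algebraMap R S) ≫ ψ = φ := by
    apply Spec.map_injective
    rw [Spec.map_comp, hψ, hφ, Category.assoc, ← hmh]
  letI : Algebra R Γ(T, ⊤) := φ.hom.toAlgebra
  have hfl' : Flat (Spec.map φ) := by rw [hφ]; infer_instance
  have hfp' : LocallyOfFinitePresentation (Spec.map φ) := by rw [hφ]; infer_instance
  have hqf' : LocallyQuasiFinite (Spec.map φ) := by rw [hφ]; infer_instance
  have hsurj' : Surjective (Spec.map φ) := by rw [hφ]; infer_instance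
  rw [HasRingHomProperty.Spec_iff (P := @Flat)] at hfl'
  rw [HasRingHomProperty.Spec_iff (P := @LocallyOfFinitePresentation)] at hfp'
  rw [HasRingHomProperty.Spec_iff (P := @LocallyQuasiFinite)] at hqf'
  haveI hF : Module.Flat R Γ(T, ⊤) := hfl'
  haveI hP : Algebra.FinitePresentation R Γ(T, ⊤) := hfp'
  haveI hQ : Algebra.QuasiFinite R Γ(T, ⊤) := hqf'
  refine ⟨Γ(T, ⊤), inferInstance, inferInstance, hQ, inferInstance, ?_, hP, ?_⟩
  · apply Module.FaithfullyFlat.of_comap_surjective
    exact hsurj'.surj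
  · refine ⟨{ ψ.hom with commutes' := ?_ }⟩
    intro r
    have := congrArg (fun f => f.hom r) hcomp
    exact this

end Groth.Agent.S9432
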