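import Groth.Statements.S0572
-- import your own Groth.Agent.* helpers here
import Groth.Agent.Lib.Helper88.Japanese7

set_option autoImplicit false
universe u
open CAlg

namespace Groth.Agent.S0572

/-- Let `R` be a Noetherian domain such that `R_f` is integrally closed for some nonzero `f`. Then the
set of primes `p` with `R_p` integrally closed is open in `Spec R`. -/
theorem result (R : Type u) [CommRing R] [IsDomain R] [IsNoetherianRing R] (f : R)
    (hf : f ≠ 0) (hn : IsIntegrallyClosed (Localization.Away f)) :
    IsOpen {p : PrimeSpectrum R | IsIntegrallyClosed (Localization.AtPrime p.asIdeal)} := by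
  classical
  open Groth.Agent.Lib.Helper88 in
  haveI : IsDomain (Localization.Away f) :=
    IsLocalization.isDomain_localization (powers_le_nonZeroDivisors_of_noZeroDivisors hf)
  have hA : ∀ y : FractionRing R, IsIntegral R y →
      ∃ (n : ℕ) (r : R), algebraMap R (FractionRing R) r = f ^ n • y := fun y hy =>
    exists_pow_smul_eq_of_isIntegrallyClosed_away R (FractionRing R) f (Localization.Away f) y hy
  let J0 : Ideal R := (denomSub R (FractionRing R) f 0).colon
    (denomSub R (FractionRing R) f 1 : Set (FractionRing R))
  have hset : {p : PrimeSpectrum R | IsIntegrallyClosed (Localization.AtPrime p.asIdeal)} =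
      (PrimeSpectrum.zeroLocus (J0 : Set R))ᶜ := by
    ext p
    simp only [Set.mem_ofPred_eq, Set.mem_compl_iff, PrimeSpectrum.mem_zeroLocus]
    rw [isIntegrallyClosed_iff_of_isLocalization R (FractionRing R) p.asIdeal.primeCompl
      (Localization.AtPrime p.asIdeal)]
    constructor
    · intro h hJ
      obtain ⟨G, hG⟩ := denomSub_fg (K := FractionRing R) hf 1
      have hGt : ∀ y ∈ G, ∃ t : R, t ∉ p.asIdeal ∧
          t • y ∈ denomSub R (FractionRing R) f 0 := by
        intro y hy
        have hyN : y ∈ denomSub R (FractionRing R) f 1 := by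
          rw [← hG]; exact Submodule.subset_span hy
        obtain ⟨t, htm, r, hr⟩ := h y (mem_denomSub.mp hyN).1
        exact ⟨t, htm, mem_denomSub_zero.mpr ⟨r, hr⟩⟩
      choose! tf htf using hGt
      have hprod : (∏ y ∈ G, tf y) ∈ J0 := by
        have hle : denomSub R (FractionRing R) f 1 ≤ Submodule.comap
            ((∏ y ∈ G, tf y) • (LinearMap.id : FractionRing R →ₗ[R] FractionRing R))
            (denomSub R (FractionRing R) f 0) := by
          rw [← hG]
          apply Submodule.span_le.mpr
          intro y hy
          change (∏ y ∈ G, tf y) • y ∈ denomSub R (FractionRing R) f 0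
          rw [← Finset.mul_prod_erase G tf hy, mul_comm, mul_smul]
          exact Submodule.smul_mem _ _ (htf y hy).2
        change (∏ y ∈ G, tf y) ∈ (denomSub R (FractionRing R) f 0).colon
          (denomSub R (FractionRing R) f 1 : Set (FractionRing R))
        rw [Submodule.mem_colon]
        intro y hy
        exact hle hy
      have hmem : (∏ y ∈ G, tf y) ∈ p.asIdeal := hJ hprod
      obtain ⟨y, hy, hym⟩ := (Ideal.IsPrime.prod_mem_iff).mp hmem
      exact (htf y hy).1 hym
    · intro hJ y hy
      obtain ⟨r0, hr0J, hr0p⟩ := Set.not_subset.mp hJ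
      obtain ⟨n, r, hr⟩ := hA y hy
      have hyn : y ∈ denomSub R (FractionRing R) f n := mem_denomSub.mpr ⟨hy, r, hr⟩
      obtain ⟨r2, hr2⟩ := exists_pow_smul_of_mem_colon hr0J n y hyn
      exact ⟨r0 ^ n, p.asIdeal.primeCompl.pow_mem hr0p n, r2, hr2⟩
  rw [hset]
  exact (PrimeSpectrum.isClosed_zeroLocus _).isOpen_compl

end Groth.Agent.S0572
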