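import Groth.Statements.S2460
import Mathlib
import Groth.Agent.S0544
import Groth.Agent.Lib.Helper76.PSCohen
import Groth.Agent.Lib.Helper23.OrbitDim
import Groth.Agent.Lib.Helper96.FiniteLengthField

set_option autoImplicit false
universe u
open EGA41

namespace Groth.Agent.S2460

open Groth.Agent.Lib.Helper76.PSComplete

open IsLocalRing in
/-- Let A be a complete Noetherian local domain containing a field k₀ such that the residue field of A
is a finite extension of k₀. Then there are n and an injective local k₀-algebra homomorphism from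
the power series ring k₀[[T_1, …, T_n]] into A making A a finite module over it. -/
theorem result {k₀ A : Type u} [Field k₀] [CommRing A] [IsDomain A] [IsLocalRing A] [IsNoetherianRing A]
    [IsAdicComplete (maximalIdeal A) A] [Algebra k₀ A] [Module.Finite k₀ (ResidueField A)] :
    ∃ (n : ℕ) (w : MvPowerSeries (Fin n) k₀ →ₐ[k₀] A), Function.Injective w ∧ IsLocalHom w.toRingHom ∧ w.toRingHom.Finite := by
  classical
  -- a system of parameters
  obtain ⟨s, hs, hcard⟩ :=
    Ideal.exists_finset_card_eq_height_of_isNoetherianRing (maximalIdeal A)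
  let x : Fin s.card → A := fun i => ((s.equivFin.symm i : s) : A)
  have hrange : Set.range x = (s : Set A) := by
    ext y
    constructor
    · rintro ⟨i, rfl⟩
      exact (s.equivFin.symm i).2
    · intro hy
      exact ⟨s.equivFin ⟨y, hy⟩, by simp [x]⟩
  have hIle : Ideal.span (s : Set A) ≤ maximalIdeal A := hs.1.2
  have hx : ∀ i, x i ∈ maximalIdeal A := fun i =>
    hIle (Ideal.subset_span (by rw [← hrange]; exact ⟨i, rfl⟩))
  let w : MvPowerSeries (Fin s.card) k₀ →ₐ[k₀] A := evC (maximalIdeal A) x hx
  have hwX : ∀ i, w (MvPowerSeries.X i) = x i := evC_X (maximalIdeal A) x hx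
  letI : Algebra (MvPowerSeries (Fin s.card) k₀) A := w.toRingHom.toAlgebra
  have halg : ∀ F, algebraMap (MvPowerSeries (Fin s.card) k₀) A F = w F := fun F => rfl
  haveI : IsScalarTower k₀ (MvPowerSeries (Fin s.card) k₀) A :=
    IsScalarTower.of_algebraMap_eq (fun c => (w.commutes c).symm)
  have hdim : ringKrullDim A = (s.card : WithBot ℕ∞) := by
    rw [← IsLocalRing.maximalIdeal_height_eq_ringKrullDim, ← hcard]
    rfl
  -- the image of the maximal ideal of the power series ring
  have hmapP : (maximalIdeal (MvPowerSeries (Fin s.card) k₀)).map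
      (algebraMap (MvPowerSeries (Fin s.card) k₀) A) = Ideal.span (s : Set A) := by
    rw [maximalIdeal_eq_varIdeal]
    unfold varIdeal
    rw [Ideal.map_span, ← hrange]
    congr 1
    ext y
    constructor
    · rintro ⟨_, ⟨i, rfl⟩, rfl⟩
      exact ⟨i, (hwX i).symm⟩
    · rintro ⟨i, rfl⟩
      exact ⟨MvPowerSeries.X i, ⟨i, rfl⟩, hwX i⟩
  haveI : IsAdicComplete (maximalIdeal (MvPowerSeries (Fin s.card) k₀))
      (MvPowerSeries (Fin s.card) k₀) := by
    rw [maximalIdeal_eq_varIdeal]; infer_instance
  -- finiteness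
  haveI : IsArtinianRing (A ⧸ Ideal.span (s : Set A)) :=
    IsLocalRing.quotient_artinian_of_mem_minimalPrimes_of_isLocalRing _ hs
  have hfin0 : Module.Finite k₀ (A ⧸ Ideal.span (s : Set A)) :=
    Groth.Agent.Lib.Helper96.finite_quotient_of_isArtinianRing _
  have hsmul : ∀ n : ℕ, ((maximalIdeal (MvPowerSeries (Fin s.card) k₀)) ^ n • ⊤ :
      Submodule (MvPowerSeries (Fin s.card) k₀) A) =
      ((Ideal.span (s : Set A)) ^ n).restrictScalars (MvPowerSeries (Fin s.card) k₀) := by
    intro n
    rw [Ideal.smul_top_eq_map, Ideal.map_pow, hmapP]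
  haveI : IsHausdorff (maximalIdeal (MvPowerSeries (Fin s.card) k₀)) A := by
    refine ⟨fun a ha => ?_⟩
    apply IsHausdorff.haus' (I := maximalIdeal A) a
    intro n
    have := ha n
    rw [SModEq.zero, hsmul n] at this
    rw [SModEq.zero, smul_eq_mul, Ideal.mul_top]
    exact Ideal.pow_right_mono hIle n this
  have hfinP : Module.Finite (MvPowerSeries (Fin s.card) k₀) A := by
    apply Groth.Agent.S0544.result (MvPowerSeries (Fin s.card) k₀)
      (maximalIdeal (MvPowerSeries (Fin s.card) k₀))
    have e1 : (maximalIdeal (MvPowerSeries (Fin s.card) k₀) • ⊤ :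
        Submodule (MvPowerSeries (Fin s.card) k₀) A) =
        (Ideal.span (s : Set A)).restrictScalars (MvPowerSeries (Fin s.card) k₀) := by
      have := hsmul 1
      rwa [pow_one, pow_one] at this
    have h3 : Module.Finite (MvPowerSeries (Fin s.card) k₀) (A ⧸ Ideal.span (s : Set A)) :=
      Module.Finite.of_restrictScalars_finite k₀ _ _
    let e := (Submodule.quotEquivOfEq _ _ e1).trans
      (Submodule.Quotient.restrictScalarsEquiv (MvPowerSeries (Fin s.card) k₀)
        (Ideal.span (s : Set A)))
    exact Module.Finite.equiv e.symm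
  refine ⟨s.card, w, ?_, ?_, hfinP⟩
  · -- injectivity by dimension
    have hint : w.toRingHom.IsIntegral := RingHom.IsIntegral.of_finite hfinP
    have h1 := Groth.Agent.Lib.Helper23.OrbitDim.ringKrullDim_quotient_comap_eq
      w.toRingHom hint (⊥ : Ideal A)
    have h2 : ringKrullDim (A ⧸ (⊥ : Ideal A)) = ringKrullDim A :=
      ringKrullDim_eq_of_ringEquiv (RingEquiv.quotientBot A)
    rw [injective_iff_map_eq_zero]
    intro F hF
    by_contra hne
    have hmem : F ∈ (⊥ : Ideal A).comap w.toRingHom := by
      rw [Ideal.mem_comap, Ideal.mem_bot]; exact hF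
    have h3 := ringKrullDim_succ_le_of_surjective
      (Ideal.Quotient.mk ((⊥ : Ideal A).comap w.toRingHom)) Ideal.Quotient.mk_surjective
      (mem_nonZeroDivisors_of_ne_zero hne) (Ideal.Quotient.eq_zero_iff_mem.mpr hmem)
    have h4 := ringKrullDim_le_card k₀ s.card
    rw [h1, h2, hdim] at h3
    have h5 : ((s.card + 1 : ℕ) : WithBot ℕ∞) ≤ ((s.card : ℕ) : WithBot ℕ∞) := by
      exact_mod_cast h3.trans h4
    have h6 : s.card + 1 ≤ s.card := by exact_mod_cast h5
    omega
  · -- local homomorphism
    constructor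
    intro F hF
    rw [MvPowerSeries.isUnit_iff_constantCoeff, isUnit_iff_ne_zero]
    intro h0
    have hFm : F ∈ maximalIdeal (MvPowerSeries (Fin s.card) k₀) := by
      rw [IsLocalRing.mem_maximalIdeal, mem_nonunits_iff, MvPowerSeries.isUnit_iff_constantCoeff,
        h0]
      exact not_isUnit_zero
    have h1 : w F ∈ (maximalIdeal (MvPowerSeries (Fin s.card) k₀)).map
        (algebraMap (MvPowerSeries (Fin s.card) k₀) A) := Ideal.mem_map_of_mem _ hFm
    rw [hmapP] at h1
    exact (IsLocalRing.mem_maximalIdeal _).mp (hIle h1) hF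

end Groth.Agent.S2460
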