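import Groth.Statements.S4551
import Mathlib

set_option autoImplicit false
universe u
open EGA41


namespace Groth.Agent.S4551

open TensorProduct

variable {k Ω : Type u} [Field k] [Field Ω] [Algebra k Ω] (σ : Type)

/-- The comparison map `Ω ⊗ k[[T]] → Ω[[T]]`. -/
noncomputable def Φ : Ω ⊗[k] MvPowerSeries σ k →ₐ[k] MvPowerSeries σ Ω :=
  Algebra.TensorProduct.lift (IsScalarTower.toAlgHom k Ω (MvPowerSeries σ Ω))
    (MvPowerSeries.mapAlgHom (Algebra.ofId k Ω)) (fun _ _ => Commute.all _ _)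

theorem Φ_tmul (ω : Ω) (f : MvPowerSeries σ k) :
    Φ (k := k) (Ω := Ω) σ (ω ⊗ₜ[k] f) =
      MvPowerSeries.C ω * MvPowerSeries.map (algebraMap k Ω) f := by
  simp [Φ, MvPowerSeries.c_eq_algebraMap]
  left
  rfl

theorem Φ_injective : Function.Injective (Φ (k := k) (Ω := Ω) σ) := by
  classical
  rw [injective_iff_map_eq_zero]
  intro x hx
  let b := Module.Free.chooseBasis k Ω
  obtain ⟨c, rfl⟩ := TensorProduct.eq_repr_basis_left b x
  have hc : c = 0 := by
    ext i : 1
    by_contra hi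
    have hi' : i ∈ c.support := Finsupp.mem_support_iff.2 hi
    apply hi
    ext α
    have hcoef := congrArg (MvPowerSeries.coeff α) hx
    rw [Finsupp.sum, map_sum, map_sum] at hcoef
    simp only [Φ_tmul, MvPowerSeries.coeff_C_mul, MvPowerSeries.coeff_map, map_zero] at hcoef
    have hli := b.linearIndependent
    rw [linearIndependent_iff'] at hli
    have := hli c.support (fun j => MvPowerSeries.coeff α (c j)) (by
      rw [← hcoef]
      refine Finset.sum_congr rfl fun j _ => ?_
      rw [Algebra.smul_def, mul_comm]) i hi'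
    simpa using this
  rw [hc]
  simp

theorem reduced_tensor : IsReduced (Ω ⊗[k] MvPowerSeries σ k) :=
  isReduced_of_injective (Φ σ) (Φ_injective σ)

theorem reduced_tensor_frac :
    IsReduced (Ω ⊗[k] FractionRing (MvPowerSeries σ k)) := by
  classical
  let ι : Ω ⊗[k] MvPowerSeries σ k →ₐ[k] Ω ⊗[k] FractionRing (MvPowerSeries σ k) :=
    Algebra.TensorProduct.map (AlgHom.id k Ω)
      (IsScalarTower.toAlgHom k (MvPowerSeries σ k) (FractionRing (MvPowerSeries σ k)))
  have hι : Function.Injective ι :=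
    Module.Flat.lTensor_preserves_injective_linearMap _
      (IsFractionRing.injective (MvPowerSeries σ k) (FractionRing (MvPowerSeries σ k)))
  have claim : ∀ x : Ω ⊗[k] FractionRing (MvPowerSeries σ k), ∃ s : MvPowerSeries σ k, s ≠ 0 ∧
      ∃ y, ((1 : Ω) ⊗ₜ[k] algebraMap (MvPowerSeries σ k) (FractionRing (MvPowerSeries σ k)) s) * x
        = ι y := by
    intro x
    induction x using TensorProduct.induction_on with
    | zero => exact ⟨1, one_ne_zero, 0, by simp⟩
    | tmul ω κ =>
      obtain ⟨p, s, hs, rfl⟩ := IsFractionRing.div_surjective (A := MvPowerSeries σ k) κ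
      have hs0 : s ≠ 0 := nonZeroDivisors.ne_zero hs
      refine ⟨s, hs0, ω ⊗ₜ[k] p, ?_⟩
      have hsK : algebraMap (MvPowerSeries σ k) (FractionRing (MvPowerSeries σ k)) s ≠ 0 := by
        rwa [Ne, map_eq_zero_iff _ (IsFractionRing.injective _ _)]
      simp only [ι, Algebra.TensorProduct.tmul_mul_tmul, one_mul, Algebra.TensorProduct.map_tmul,
        AlgHom.coe_id, id_eq, IsScalarTower.coe_toAlgHom']
      rw [mul_div_cancel₀ _ hsK]
    | add x1 x2 h1 h2 =>
      obtain ⟨s1, hs1, y1, h1⟩ := h1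
      obtain ⟨s2, hs2, y2, h2⟩ := h2
      refine ⟨s1 * s2, mul_ne_zero hs1 hs2,
        ((1 : Ω) ⊗ₜ[k] s2) * y1 + ((1 : Ω) ⊗ₜ[k] s1) * y2, ?_⟩
      have e1 : ι ((1 : Ω) ⊗ₜ[k] s2) = (1 : Ω) ⊗ₜ[k]
          algebraMap (MvPowerSeries σ k) (FractionRing (MvPowerSeries σ k)) s2 := by
        simp [ι]
      have e2 : ι ((1 : Ω) ⊗ₜ[k] s1) = (1 : Ω) ⊗ₜ[k]
          algebraMap (MvPowerSeries σ k) (FractionRing (MvPowerSeries σ k)) s1 := by
        simp [ι]
      have e0 : (1 : Ω) ⊗ₜ[k]
          (algebraMap (MvPowerSeries σ k) (FractionRing (MvPowerSeries σ k)) s1 *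
            algebraMap (MvPowerSeries σ k) (FractionRing (MvPowerSeries σ k)) s2) =
          ((1 : Ω) ⊗ₜ[k] algebraMap (MvPowerSeries σ k) (FractionRing (MvPowerSeries σ k)) s1) *
          ((1 : Ω) ⊗ₜ[k] algebraMap (MvPowerSeries σ k) (FractionRing (MvPowerSeries σ k)) s2) := by
        rw [Algebra.TensorProduct.tmul_mul_tmul, one_mul]
      rw [map_mul (algebraMap (MvPowerSeries σ k) (FractionRing (MvPowerSeries σ k))) s1 s2, e0,
        map_add ι, map_mul ι, map_mul ι, e1, e2, ← h1, ← h2]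
      ring
  have := reduced_tensor (k := k) (Ω := Ω) σ
  constructor
  intro x hx
  obtain ⟨s, hs, y, hy⟩ := claim x
  obtain ⟨n, hn⟩ := hx
  have hyn : y ^ n = 0 := by
    apply hι
    rw [map_pow, ← hy, mul_pow, hn, mul_zero, map_zero]
  have hy0 : y = 0 := IsNilpotent.eq_zero ⟨n, hyn⟩
  rw [hy0, map_zero] at hy
  have hsK : algebraMap (MvPowerSeries σ k) (FractionRing (MvPowerSeries σ k)) s ≠ 0 := by
    rwa [Ne, map_eq_zero_iff _ (IsFractionRing.injective _ _)]
  have hunit : ((1 : Ω) ⊗ₜ[k]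
      (algebraMap (MvPowerSeries σ k) (FractionRing (MvPowerSeries σ k)) s)⁻¹) *
      ((1 : Ω) ⊗ₜ[k] algebraMap (MvPowerSeries σ k) (FractionRing (MvPowerSeries σ k)) s) = 1 := by
    rw [Algebra.TensorProduct.tmul_mul_tmul, one_mul, inv_mul_cancel₀ hsK]
    rfl
  calc x = (((1 : Ω) ⊗ₜ[k]
      (algebraMap (MvPowerSeries σ k) (FractionRing (MvPowerSeries σ k)) s)⁻¹) *
      ((1 : Ω) ⊗ₜ[k] algebraMap (MvPowerSeries σ k) (FractionRing (MvPowerSeries σ k)) s)) * x := by
        rw [hunit, one_mul]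
    _ = 0 := by rw [mul_assoc, hy, mul_zero]

end Groth.Agent.S4551

namespace Groth.Agent.S4551

/-- For every field k (any characteristic) the field of fractions k((T_1, …, T_r)) of the power series
ring k[[T_1, …, T_r]] is a separable extension of k, i.e. it is geometrically reduced over k. -/
theorem result (k : Type u) [Field k] (r : ℕ) :
    Algebra.IsGeometricallyReduced k (FractionRing (MvPowerSeries (Fin r) k)) := by
  rw [Algebra.isGeometricallyReduced_field_iff]
  exact Groth.Agent.S4551.reduced_tensor_frac (Fin r)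

end Groth.Agent.S4551
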