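import Groth.Statements.S2475
import Groth.Agent.Lib.Helper13.Admissible
open Groth.Agent.Lib.Helper13.Admissible Groth.Agent.Lib.Helper13.PBasis Groth.Agent.Lib.Helper13.DescendLI Groth.Agent.Lib.Helper13.SepDiff

set_option autoImplicit false
universe u
open EGA41

namespace Groth.Agent.S2475

/-- Let K be a field of characteristic p > 0, k₀ ⊆ K a subfield and (k_α) a decreasing filtered family
of subfields of K containing k₀. Then ⋂_α k_α(K^p) = k₀(K^p) if and only if the canonical map
Ω_{K/k₀} → lim_α Ω_{K/k_α} is injective (an element of Ω_{K/k₀} whose image in every Ω_{K/k_α}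
vanishes is zero). (Conditions (b), (b') of the source, on admissible subfields, are not stated.) -/
theorem result (p : ℕ) [Fact p.Prime] {k₀ K : Type u} [Field k₀] [Field K] [Algebra k₀ K] [CharP K p]
    {ι : Type u} [Preorder ι] [IsDirected ι (· ≤ ·)] [Nonempty ι] (k : ι → IntermediateField k₀ K) (hk : Antitone k) :
    (⨅ i, k i ⊔ IntermediateField.adjoin k₀ (Set.range fun y : K => y ^ p)) = IntermediateField.adjoin k₀ (Set.range fun y : K => y ^ p) ↔
      ∀ ω : Ω[K⁄k₀], (∀ i, KaehlerDifferential.map k₀ (k i) K K ω = 0) → ω = 0 := by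
  classical
  -- notation
  set E0 : IntermediateField k₀ K :=
    IntermediateField.adjoin k₀ (Set.range fun y : K => y ^ p) with hE0
  have hE0' : E0 = E₀ (k₀ := k₀) p := rfl
  -- kernel of `d` over `k i`
  have hD0 : ∀ x : K, KaehlerDifferential.D k₀ K x = 0 ↔ x ∈ E0 := by
    intro x
    rw [D_eq_zero_iff p, hE0', mem_E₀_iff]
  have hDi : ∀ (i : ι) (x : K), KaehlerDifferential.D (k i) K x = 0 ↔ x ∈ k i ⊔ E0 := by
    intro i x
    rw [D_eq_zero_iff p, hE0', mem_sup_E₀_iff]
  have hmem_iInf : ∀ x : K, x ∈ ⨅ i, k i ⊔ E0 ↔ ∀ i, x ∈ k i ⊔ E0 := by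
    intro x
    rw [← SetLike.mem_coe, IntermediateField.coe_iInf, Set.mem_iInter]
    rfl
  constructor
  · -- (⇒)
    intro hinf ω hω
    obtain ⟨B, hB⟩ := exists_pBasis (K := k₀) (E := K) p
    obtain ⟨bΩ, hbΩ⟩ := Groth.Agent.S2466.result p (Subtype.val : B → K) hB
    -- the finite support of `ω`
    let F : Finset B := (bΩ.repr ω).support
    let F' : Set K := Subtype.val '' (F : Set B)
    have hF'B : F' ⊆ B := by
      rintro _ ⟨t, -, rfl⟩
      exact t.2
    haveI : Finite F' := (F.finite_toSet.image _).to_subtype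
    have hind0 : EGA41.IsPIndependent p k₀ (Subtype.val : F' → K) :=
      pIndependent_mono p hF'B hB.1
    -- the common family of reduced monomials
    let w : RedE p F' → K := fun e => EGA41.pMonomial (Subtype.val : F' → K) e.1
    cases nonempty_fintype (RedE p F')
    have hlis0 : LISon ((EGA41.pPowerSubalgebra p k₀ K : Subalgebra k₀ K) : Set K) w
        Finset.univ :=
      (linearIndependent_subalgebra_iff _ w).mp hind0 Finset.univ
    -- the decreasing family of subfields
    let S : ι → Subfield K := fun i => (k i ⊔ E0).toSubfield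
    have hSanti : Antitone S := by
      intro i j hij x hx
      exact (sup_le_sup_right (hk hij) E0) hx
    have hS0 : ∀ x, (∀ j, x ∈ S j) →
        x ∈ ((EGA41.pPowerSubalgebra p k₀ K : Subalgebra k₀ K) : Set K) := by
      intro x hx
      have h1 : x ∈ ⨅ i, k i ⊔ E0 := (hmem_iInf x).mpr hx
      rw [hinf, hE0', mem_E₀_iff] at h1
      exact h1
    obtain ⟨i, hi⟩ := exists_lison S hSanti _ hS0 (one_mem _) w Finset.univ hlis0
    -- `F'` is `p`-independent over `k i`
    have hindi : EGA41.IsPIndependent p (k i) (Subtype.val : F' → K) := by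
      unfold EGA41.IsPIndependent
      rw [linearIndependent_subalgebra_iff]
      intro t
      have hset : ((EGA41.pPowerSubalgebra p (k i) K : Subalgebra (k i) K) : Set K) ⊆
          (S i : Set K) := by
        intro x hx
        exact (mem_sup_E₀_iff p (k i) x).mpr hx
      exact (hi.mono_set hset).mono_finset (zero_mem _) (Finset.subset_univ t)
    have hli := (Groth.Agent.S2468.result p (k := k i) (K := K)
      (Subtype.val : F' → K)).1.mp hindi
    -- expand `ω`
    have hωsum : ω = ∑ t ∈ F, bΩ.repr ω t • KaehlerDifferential.D k₀ K (t : K) := by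
      conv_lhs => rw [← bΩ.linearCombination_repr ω, Finsupp.linearCombination_apply, Finsupp.sum]
      refine Finset.sum_congr rfl fun t _ => ?_
      rw [hbΩ]
    have h0 : ∑ t ∈ F, bΩ.repr ω t • KaehlerDifferential.D (k i) K (t : K) = 0 := by
      have h1 : KaehlerDifferential.map k₀ (k i) K K ω =
          ∑ t ∈ F, bΩ.repr ω t • KaehlerDifferential.D (k i) K (t : K) := by
        conv_lhs => rw [hωsum]
        rw [map_sum]
        refine Finset.sum_congr rfl fun t _ => ?_
        rw [map_smul, KaehlerDifferential.map_D]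
        rfl
      rw [← h1, hω i]
    -- reindex by `F'`
    let g : F → F' := fun t => ⟨(t : B), ⟨t.1, t.2, rfl⟩⟩
    have hg : Function.Injective g := by
      intro a b hab
      apply Subtype.ext
      apply Subtype.ext
      exact congrArg (fun z : F' => (z : K)) hab
    have hli' : LinearIndependent K (fun t : F => KaehlerDifferential.D (k i) K ((t : B) : K)) :=
      hli.comp g hg
    rw [← Finset.sum_coe_sort] at h0
    have hcoef := Fintype.linearIndependent_iff.mp hli' (fun t => bΩ.repr ω t) h0
    rw [hωsum]
    refine Finset.sum_eq_zero fun t ht => ?_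
    rw [hcoef ⟨t, ht⟩, zero_smul]
  · -- (⇐)
    intro hsep
    apply le_antisymm
    · intro x hx
      rw [hmem_iInf] at hx
      rw [← hD0]
      apply hsep
      intro i
      rw [KaehlerDifferential.map_D]
      exact (hDi i x).mpr (hx i)
    · exact le_iInf fun i => le_sup_right

end Groth.Agent.S2475
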