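import Groth.Statements.S4699
import Groth.Agent.Lib.Helper29.DepthSES
import Groth.Agent.Lib.Helper29.DepthZero
import Groth.Agent.Lib.Helper29.DepthLoc
import Groth.Agent.Lib.Helper29.SuppLoc
import Groth.Agent.Lib.Helper87.ModHilbA

set_option autoImplicit false
universe u
open EGA4

namespace Groth.Agent.S4699

namespace S4699P

open IsLocalRing Groth.Agent.Lib.Helper29 Pointwise
set_option linter.style.haveILetI false

section Basic

variable {A : Type u} [CommRing A]

/-- depth of `M_q` -/
noncomputable abbrev dp (q : Ideal A) [q.IsPrime] (M : Type u) [AddCommGroup M] [Module A M] : ℕ∞ :=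
  LocCoh.depth (Localization.AtPrime q) (LocalizedModule q.primeCompl M)

/-- dimension of `M_q` -/
noncomputable abbrev dm (q : Ideal A) [q.IsPrime] (M : Type u) [AddCommGroup M] [Module A M] :
    WithBot ℕ∞ :=
  Module.supportDim (Localization.AtPrime q) (LocalizedModule q.primeCompl M)

theorem supportDim_of_exact {R : Type*} [CommRing R] {N₁ N₂ N₃ : Type*}
    [AddCommGroup N₁] [Module R N₁] [AddCommGroup N₂] [Module R N₂] [AddCommGroup N₃] [Module R N₃]
    (f : N₁ →ₗ[R] N₂) (g : N₂ →ₗ[R] N₃) (hf : Function.Injective f) (hg : Function.Surjective g)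
    (hfg : Function.Exact f g) :
    Module.supportDim R N₂ = max (Module.supportDim R N₁) (Module.supportDim R N₃) := by
  apply le_antisymm
  · unfold Module.supportDim
    rw [Module.support_of_exact hfg hf hg]
    exact Groth.Agent.Lib.Helper87.ModHilbA.krullDim_union_le _ _
      (fun p q hpq hp => Module.mem_support_mono hpq hp)
      (fun p q hpq hp => Module.mem_support_mono hpq hp) _ (le_max_left _ _) (le_max_right _ _)
  · exact max_le (Module.supportDim_le_of_injective f hf) (Module.supportDim_le_of_surjective g hg)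

end Basic

section SES

variable {A : Type u} [CommRing A] [IsNoetherianRing A]
  {N₁ N₂ N₃ : Type u} [AddCommGroup N₁] [Module A N₁] [Module.Finite A N₁]
  [AddCommGroup N₂] [Module A N₂] [Module.Finite A N₂]
  [AddCommGroup N₃] [Module A N₃] [Module.Finite A N₃]
  (f : N₁ →ₗ[A] N₂) (g : N₂ →ₗ[A] N₃)
  (hf : Function.Injective f) (hg : Function.Surjective g) (hfg : Function.Exact f g)
  (q : Ideal A) [q.IsPrime]

include hfg in
theorem loc_exact : Function.Exact (LocalizedModule.map q.primeCompl f)
    (LocalizedModule.map q.primeCompl g) :=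
  LocalizedModule.map_exact q.primeCompl f g hfg

include hf hg hfg

theorem dm_mid : dm q N₂ = max (dm q N₁) (dm q N₃) :=
  supportDim_of_exact _ _ (LocalizedModule.map_injective _ f hf)
    (LocalizedModule.map_surjective _ g hg) (loc_exact f g hfg q)

theorem dp_mid : min (dp q N₁) (dp q N₃) ≤ dp q N₂ :=
  DepthSES.min_le_idealDepth_mid (maximalIdeal (Localization.AtPrime q)) _ _ _
    (LocalizedModule.map q.primeCompl f) (LocalizedModule.map q.primeCompl g)
    (LocalizedModule.map_injective _ f hf)
    (LocalizedModule.map_surjective _ g hg) (loc_exact f g hfg q)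

theorem dp_left : min (dp q N₂) (dp q N₃ + 1) ≤ dp q N₁ :=
  DepthSES.min_le_idealDepth_left (maximalIdeal (Localization.AtPrime q)) _ _ _
    (LocalizedModule.map q.primeCompl f) (LocalizedModule.map q.primeCompl g)
    (LocalizedModule.map_injective _ f hf)
    (LocalizedModule.map_surjective _ g hg) (loc_exact f g hfg q)

end SES


section Good

variable {A : Type u} [CommRing A] [IsNoetherianRing A]

/-- The additivity property along `V(p)` near the generic point. -/
def Good (p : Ideal A) [p.IsPrime] (M : Type u) [AddCommGroup M] [Module A M] : Prop :=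
  ∃ f : A, f ∉ p ∧ ∀ (q : Ideal A) [q.IsPrime], p ≤ q → f ∉ q →
    dm q M = dm p M + dm q (A ⧸ p) ∧ dp q M = dp p M + dp q (A ⧸ p)

theorem exists_kill (p : Ideal A) [p.IsPrime] (M : Type u) [AddCommGroup M] [Module A M]
    [Module.Finite A M] (h : Subsingleton (LocalizedModule p.primeCompl M)) :
    ∃ f : A, f ∉ p ∧ ∀ m : M, f • m = 0 := by
  have h1 : (⟨p, inferInstance⟩ : PrimeSpectrum A) ∉ Module.support A M :=
    Module.notMem_support_iff.2 h
  rw [Module.mem_support_iff_of_finite] at h1
  obtain ⟨f, hf, hfp⟩ := SetLike.not_le_iff_exists.1 h1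
  exact ⟨f, hfp, fun m => Module.mem_annihilator.1 hf m⟩

theorem subsingleton_of_kill (q : Ideal A) [q.IsPrime] (M : Type u) [AddCommGroup M] [Module A M]
    (f : A) (hf : f ∉ q) (h : ∀ m : M, f • m = 0) :
    Subsingleton (LocalizedModule q.primeCompl M) := by
  rw [LocalizedModule.subsingleton_iff]
  intro m
  exact ⟨f, hf, h m⟩

theorem nontrivial_of_le (p q : Ideal A) [p.IsPrime] [q.IsPrime] (hpq : p ≤ q)
    (M : Type u) [AddCommGroup M] [Module A M]
    (h : Nontrivial (LocalizedModule p.primeCompl M)) :
    Nontrivial (LocalizedModule q.primeCompl M) := by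
  have h1 : (⟨p, inferInstance⟩ : PrimeSpectrum A) ∈ Module.support A M :=
    Module.mem_support_iff.2 h
  exact Module.mem_support_iff.1 (Module.mem_support_mono
    (show (⟨p, inferInstance⟩ : PrimeSpectrum A) ≤ ⟨q, inferInstance⟩ from hpq) h1)

theorem good_of_subsingleton (p : Ideal A) [p.IsPrime] (M : Type u) [AddCommGroup M] [Module A M]
    [Module.Finite A M] (h : Subsingleton (LocalizedModule p.primeCompl M)) : Good p M := by
  obtain ⟨f, hfp, hf⟩ := exists_kill p M h
  refine ⟨f, hfp, fun q _ hpq hfq => ?_⟩
  have hq : Subsingleton (LocalizedModule q.primeCompl M) := subsingleton_of_kill q M f hfq hf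
  constructor
  · rw [dm, dm, Module.supportDim_eq_bot_of_subsingleton, Module.supportDim_eq_bot_of_subsingleton,
      WithBot.bot_add]
  · rw [dp, dp, DepthLoc.depth_eq_top_of_subsingleton, DepthLoc.depth_eq_top_of_subsingleton,
      top_add]


theorem exists_regular (p : Ideal A) [p.IsPrime] (M : Type u) [AddCommGroup M] [Module A M]
    [Module.Finite A M] [Nontrivial (LocalizedModule p.primeCompl M)] (hd : dp p M ≠ 0) :
    ∃ x ∈ p, IsSMulRegular (LocalizedModule p.primeCompl M)
      (algebraMap A (Localization.AtPrime p) x) := by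
  have h1 := (depth_eq_zero_iff_forall_not_isSMulRegular (Localization.AtPrime p)
    (LocalizedModule p.primeCompl M) (maximalIdeal_smul_top_ne_top _ _)).not.1 hd
  push Not at h1
  obtain ⟨y, hy, hreg⟩ := h1
  obtain ⟨a, s, rfl⟩ := IsLocalization.exists_mk'_eq p.primeCompl y
  refine ⟨a, (IsLocalization.AtPrime.mk'_mem_maximal_iff _ p a s).1 hy, ?_⟩
  have : algebraMap A (Localization.AtPrime p) a =
      IsLocalization.mk' (Localization.AtPrime p) a s * algebraMap A _ (s : A) :=
    (IsLocalization.mk'_spec _ a s).symm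
  rw [this]
  exact hreg.mul ((IsLocalization.map_units _ s).isSMulRegular _)

theorem exists_regular_nbhd (p : Ideal A) [p.IsPrime] (M : Type u) [AddCommGroup M] [Module A M]
    [Module.Finite A M] (x : A)
    (hreg : IsSMulRegular (LocalizedModule p.primeCompl M)
      (algebraMap A (Localization.AtPrime p) x)) :
    ∃ f : A, f ∉ p ∧ ∀ (q : Ideal A) [q.IsPrime], f ∉ q →
      IsSMulRegular (LocalizedModule q.primeCompl M)
        (algebraMap A (Localization.AtPrime q) x) := by
  have hK : Subsingleton (LocalizedModule p.primeCompl (LinearMap.ker (LinearMap.lsmul A M x))) := by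
    rw [LocalizedModule.subsingleton_iff]
    intro k
    have hk : x • (k : M) = 0 := k.2
    have h1 : algebraMap A (Localization.AtPrime p) x •
        LocalizedModule.mkLinearMap p.primeCompl M (k : M) = 0 := by
      rw [algebraMap_smul, ← map_smul, hk, map_zero]
    have h2 : LocalizedModule.mkLinearMap p.primeCompl M (k : M) = 0 :=
      hreg (by simp only [h1, smul_zero])
    rw [IsLocalizedModule.eq_zero_iff p.primeCompl] at h2
    obtain ⟨s, hs⟩ := h2
    exact ⟨s, s.2, Subtype.ext hs⟩
  obtain ⟨f, hfp, hf⟩ := exists_kill p _ hK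
  refine ⟨f, hfp, fun q _ hfq => ?_⟩
  rw [isSMulRegular_iff_right_eq_zero_of_smul]
  intro y hy
  obtain ⟨⟨m, s⟩, rfl⟩ := IsLocalizedModule.mk'_surjective q.primeCompl
    (LocalizedModule.mkLinearMap q.primeCompl M) y
  simp only [Function.uncurry_apply_pair] at hy ⊢
  rw [algebraMap_smul, ← IsLocalizedModule.mk'_smul, IsLocalizedModule.mk'_eq_zero'] at hy
  obtain ⟨t, ht⟩ := hy
  have hmem : (t : A) • m ∈ LinearMap.ker (LinearMap.lsmul A M x) := by
    rw [LinearMap.mem_ker, LinearMap.lsmul_apply, smul_comm]
    exact ht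
  have h3 : f • ((t : A) • m) = 0 := congrArg Subtype.val (hf ⟨_, hmem⟩)
  rw [IsLocalizedModule.mk'_eq_zero']
  refine ⟨⟨f, hfq⟩ * t, ?_⟩
  rw [Submonoid.smul_def, Submonoid.coe_mul, mul_smul]
  exact h3

theorem quot_formulas (q : Ideal A) [q.IsPrime] (M : Type u) [AddCommGroup M] [Module A M]
    [Module.Finite A M] (x : A) (hx : x ∈ q)
    [Nontrivial (LocalizedModule q.primeCompl M)]
    (hreg : IsSMulRegular (LocalizedModule q.primeCompl M)
      (algebraMap A (Localization.AtPrime q) x)) :
    dm q (QuotSMulTop x M) + 1 = dm q M ∧ dp q (QuotSMulTop x M) + 1 = dp q M := by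
  have hxm : algebraMap A (Localization.AtPrime q) x ∈ maximalIdeal (Localization.AtPrime q) :=
    (IsLocalization.AtPrime.to_map_mem_maximal_iff _ q x).2 hx
  constructor
  · rw [dm, ← Module.supportDim_eq_of_equiv (DepthLoc.quotSMulTopLocEquiv q.primeCompl M x)]
    exact Module.supportDim_quotSMulTop_succ_eq_supportDim hreg hxm
  · rw [dp, ← CMLib.depth_congr (DepthLoc.quotSMulTopLocEquiv q.primeCompl M x)]
    exact DepthLib.depth_quotSMulTop_add_one _ _ hxm hreg

theorem stepB (p : Ideal A) [p.IsPrime] (M : Type u) [AddCommGroup M] [Module A M]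
    [Module.Finite A M] [Nontrivial (LocalizedModule p.primeCompl M)] (x : A) (hx : x ∈ p)
    (hreg : IsSMulRegular (LocalizedModule p.primeCompl M)
      (algebraMap A (Localization.AtPrime p) x))
    (hG : Good p (QuotSMulTop x M)) : Good p M := by
  obtain ⟨f0, hf0p, hf0⟩ := exists_regular_nbhd p M x hreg
  obtain ⟨f2, hf2p, hf2⟩ := hG
  refine ⟨f0 * f2, ?_, fun q _ hpq hfq => ?_⟩
  · exact fun h => (Ideal.IsPrime.mem_or_mem inferInstance h).elim hf0p hf2p
  have hf0q : f0 ∉ q := fun h => hfq (Ideal.mul_mem_right _ _ h)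
  have hf2q : f2 ∉ q := fun h => hfq (Ideal.mul_mem_left _ _ h)
  haveI := nontrivial_of_le p q hpq M inferInstance
  obtain ⟨h1, h2⟩ := quot_formulas q M x (hpq hx) (hf0 q hf0q)
  obtain ⟨h3, h4⟩ := quot_formulas p M x hx hreg
  obtain ⟨h5, h6⟩ := hf2 q hpq hf2q
  constructor
  · rw [← h1, ← h3, h5, add_right_comm]
  · rw [← h2, ← h4, h6, add_right_comm]


theorem mem_ass_of_depth_zero (p : Ideal A) [p.IsPrime] (M : Type u) [AddCommGroup M] [Module A M]
    [Module.Finite A M] (hd : dp p M = 0) : p ∈ associatedPrimes A M := by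
  have h1 := (depth_eq_zero_iff_maximalIdeal_mem_ass (Localization.AtPrime p)
    (LocalizedModule p.primeCompl M)).1 hd
  have h2 := Module.associatedPrimes.comap_mem_associatedPrimes_of_mem_associatedPrimes_of_isLocalizedModule_of_fg
    p.primeCompl (LocalizedModule.mkLinearMap p.primeCompl M) _ h1
    ((isNoetherianRing_iff_ideal_fg A).mp inferInstance _)
  have h3 : (maximalIdeal (Localization.AtPrime p)).comap (algebraMap A (Localization.AtPrime p)) = p :=
    IsLocalization.AtPrime.under_maximalIdeal (Localization.AtPrime p) p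
  rwa [h3] at h2

theorem exists_injective_of_mem_ass (p : Ideal A) [p.IsPrime] (M : Type u) [AddCommGroup M]
    [Module A M] (h : p ∈ associatedPrimes A M) :
    ∃ φ : (A ⧸ p) →ₗ[A] M, Function.Injective φ := by
  obtain ⟨_, m, hm⟩ := (isAssociatedPrime_iff).1 h
  have hker : LinearMap.ker (LinearMap.toSpanSingleton A M m) = p := by
    ext a
    rw [hm, LinearMap.mem_ker, LinearMap.toSpanSingleton_apply, Submodule.mem_colon_singleton,
      Submodule.mem_bot]
  refine ⟨Submodule.liftQ p (LinearMap.toSpanSingleton A M m) hker.ge, ?_⟩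
  rw [← LinearMap.ker_eq_bot]
  exact Submodule.ker_liftQ_eq_bot _ _ _ hker.le

theorem nontrivial_quot (I q : Ideal A) [q.IsPrime] (h : I ≤ q) :
    Nontrivial (LocalizedModule q.primeCompl (A ⧸ I)) := by
  have : (⟨q, inferInstance⟩ : PrimeSpectrum A) ∈ Module.support A (A ⧸ I) := by
    rw [Module.mem_support_iff_of_finite, Ideal.annihilator_quotient]
    exact h
  exact Module.mem_support_iff.1 this

theorem dm_quot_eq_zero (I p : Ideal A) [p.IsPrime] (hI : I.radical = p) : dm p (A ⧸ I) = 0 := by
  have hIp : I ≤ p := hI ▸ Ideal.le_radical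
  haveI := nontrivial_quot I p hIp
  have hsupp : ∀ Q : PrimeSpectrum (Localization.AtPrime p),
      Q ∈ Module.support (Localization.AtPrime p) (LocalizedModule p.primeCompl (A ⧸ I)) →
      PrimeSpectrum.comap (algebraMap A (Localization.AtPrime p)) Q = ⟨p, inferInstance⟩ := by
    intro Q hQ
    rw [SuppLoc.mem_support_iff_comap_mem_support p.primeCompl
      (LocalizedModule.mkLinearMap p.primeCompl (A ⧸ I)), Module.mem_support_iff_of_finite,
      Ideal.annihilator_quotient] at hQ
    apply PrimeSpectrum.ext
    apply le_antisymm (SuppLoc.comap_le_atPrime A p Q)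
    exact hI.symm.le.trans ((Ideal.IsPrime.radical_le_iff
      (PrimeSpectrum.comap (algebraMap A (Localization.AtPrime p)) Q).isPrime).2 hQ)
  have hsub : Subsingleton (Module.support (Localization.AtPrime p)
      (LocalizedModule p.primeCompl (A ⧸ I))) :=
    ⟨fun a b => Subtype.ext (SuppLoc.comap_injective_atPrime A p
      ((hsupp a a.2).trans (hsupp b b.2).symm))⟩
  have hne : Nonempty (Module.support (Localization.AtPrime p)
      (LocalizedModule p.primeCompl (A ⧸ I))) :=
    Module.nonempty_support_of_nontrivial.to_subtype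
  unfold dm Module.supportDim
  exact Order.krullDim_eq_zero

theorem dp_quot_eq_zero (I p : Ideal A) [p.IsPrime] (hI : I.radical = p) : dp p (A ⧸ I) = 0 := by
  have hIp : I ≤ p := hI ▸ Ideal.le_radical
  have hmin : p ∈ (Module.annihilator A (A ⧸ I)).minimalPrimes := by
    rw [Ideal.annihilator_quotient]
    refine ⟨⟨inferInstance, hIp⟩, fun q hq _ => ?_⟩
    exact hI.symm.le.trans ((Ideal.IsPrime.radical_le_iff hq.1).2 hq.2)
  have h1 := Module.associatedPrimes.minimalPrimes_annihilator_subset_associatedPrimes A (A ⧸ I) hmin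
  have h2 := Module.associatedPrimes.mem_associatedPrimes_atPrime_of_mem_associatedPrimes h1
  exact (depth_eq_zero_iff_maximalIdeal_mem_ass (Localization.AtPrime p)
    (LocalizedModule p.primeCompl (A ⧸ I))).2 h2

theorem stepA (p : Ideal A) [p.IsPrime] (M M1 : Type u) [AddCommGroup M] [Module A M]
    [Module.Finite A M] [AddCommGroup M1] [Module A M1] [Module.Finite A M1]
    (φ : (A ⧸ p) →ₗ[A] M) (g : M →ₗ[A] M1) (hφ : Function.Injective φ)
    (hg : Function.Surjective g) (hex : Function.Exact φ g)
    (hd : dp p M = 0) (hG : Good p M1) : Good p M := by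
  obtain ⟨f, hfp, hf⟩ := hG
  refine ⟨f, hfp, fun q _ hpq hfq => ?_⟩
  obtain ⟨h1, h2⟩ := hf q hpq hfq
  constructor
  · rw [dm_mid φ g hφ hg hex q, dm_mid φ g hφ hg hex p, h1,
      dm_quot_eq_zero p p (Ideal.IsPrime.radical inferInstance), ← max_add_add_right, zero_add]
  · rw [hd, zero_add]
    haveI := nontrivial_quot p q hpq
    have hδ : dp q (A ⧸ p) ≠ ⊤ := DepthLib.depth_ne_top _ _
    have hmid := dp_mid φ g hφ hg hex q
    have hleft := dp_left φ g hφ hg hex q
    rw [h2] at hmid hleft
    apply le_antisymm
    · rcases min_le_iff.1 hleft with h | h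
      · exact h
      · exfalso
        have h3 : dp q (A ⧸ p) + 1 ≤ dp q (A ⧸ p) :=
          le_trans (add_le_add_left le_add_self 1) h
        rw [ENat.add_one_le_iff hδ] at h3
        exact lt_irrefl _ h3
    · exact le_trans (le_min le_rfl le_add_self) hmid


theorem good_all (p : Ideal A) [p.IsPrime] (M : Type u) [AddCommGroup M] [Module A M]
    [Module.Finite A M] (U : Submodule A M) :
    ∀ (M' : Type u) [AddCommGroup M'] [Module A M'] (π : M →ₗ[A] M'),
      Function.Surjective π → LinearMap.ker π = U → Good p M' := by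
  haveI : IsNoetherian A M := isNoetherian_of_isNoetherianRing_of_finite A M
  refine IsNoetherian.induction (P := fun U => ∀ (M' : Type u) [AddCommGroup M'] [Module A M']
    (π : M →ₗ[A] M'), Function.Surjective π → LinearMap.ker π = U → Good p M') ?_ U
  intro U IH M' _ _ π hπ hker
  haveI : Module.Finite A M' := Module.Finite.of_surjective π hπ
  by_cases h0 : Subsingleton (LocalizedModule p.primeCompl M')
  · exact good_of_subsingleton p M' h0
  rw [not_subsingleton_iff_nontrivial] at h0
  haveI := h0
  have key : ∀ (M'' : Type u) [AddCommGroup M''] [Module A M''] (g : M' →ₗ[A] M''),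
      Function.Surjective g → LinearMap.ker g ≠ ⊥ → Good p M'' := by
    intro M'' _ _ g hg hne
    refine IH (LinearMap.ker (g ∘ₗ π)) ?_ M'' (g ∘ₗ π) (hg.comp hπ) rfl
    rw [← hker]
    refine lt_of_le_of_ne (LinearMap.ker_le_ker_comp π g) ?_
    intro heq
    apply hne
    rw [eq_bot_iff]
    intro y hy
    obtain ⟨m, rfl⟩ := hπ y
    have h1 : m ∈ LinearMap.ker (g ∘ₗ π) := hy
    rw [← heq] at h1
    rw [Submodule.mem_bot]
    exact h1
  by_cases hd : dp p M' = 0
  · obtain ⟨φ, hφ⟩ := exists_injective_of_mem_ass p M' (mem_ass_of_depth_zero p M' hd)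
    refine stepA p M' (M' ⧸ LinearMap.range φ) φ (LinearMap.range φ).mkQ hφ
      (Submodule.mkQ_surjective _) (LinearMap.exact_map_mkQ_range φ) hd ?_
    apply key _ _ (Submodule.mkQ_surjective _)
    rw [Submodule.ker_mkQ]
    intro h
    rw [LinearMap.range_eq_bot] at h
    have h1 : (1 : A ⧸ p) = 0 := hφ (by rw [h]; simp)
    exact one_ne_zero h1
  · obtain ⟨x, hxp, hreg⟩ := exists_regular p M' hd
    refine stepB p M' x hxp hreg ?_
    apply key _ (Submodule.mkQ _) (Submodule.mkQ_surjective _)
    rw [Submodule.ker_mkQ]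
    intro h
    obtain ⟨y, hy⟩ := exists_ne (0 : LocalizedModule p.primeCompl M')
    apply hy
    apply hreg
    simp only [smul_zero]
    obtain ⟨⟨m, s⟩, rfl⟩ := IsLocalizedModule.mk'_surjective p.primeCompl
      (LocalizedModule.mkLinearMap p.primeCompl M') y
    simp only [Function.uncurry_apply_pair]
    rw [algebraMap_smul, ← IsLocalizedModule.mk'_smul]
    have h1 : x • m = 0 := by
      have h2 : x • m ∈ x • (⊤ : Submodule A M') :=
        Submodule.smul_mem_pointwise_smul m x ⊤ trivial
      rw [h] at h2
      simpa using h2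
    rw [h1, IsLocalizedModule.mk'_zero]

theorem good (p : Ideal A) [p.IsPrime] (M : Type u) [AddCommGroup M] [Module A M]
    [Module.Finite A M] : Good p M :=
  good_all p M ⊥ M LinearMap.id Function.surjective_id LinearMap.ker_id

/-- the map `A/I → A_q / I A_q`. -/
noncomputable def qmap (I q : Ideal A) [q.IsPrime] :
    (A ⧸ I) →ₗ[A] (Localization.AtPrime q ⧸ I.map (algebraMap A (Localization.AtPrime q))) :=
  ((Submodule.quotEquivOfEq _ _
      (Ideal.localized'_eq_map (Localization.AtPrime q) q.primeCompl I)).restrictScalars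
        A).toLinearMap ∘ₗ
    (Submodule.toLocalizedQuotient' (Localization.AtPrime q) q.primeCompl
      (Algebra.linearMap A (Localization.AtPrime q)) I)

instance (I q : Ideal A) [q.IsPrime] : IsLocalizedModule q.primeCompl (qmap I q) := by
  unfold qmap
  exact IsLocalizedModule.of_linearEquiv _ _ _

/-- `(A/I)_q ≃ A_q / I A_q`. -/
noncomputable def quotEquiv (I q : Ideal A) [q.IsPrime] :
    LocalizedModule q.primeCompl (A ⧸ I) ≃ₗ[Localization.AtPrime q]
      (Localization.AtPrime q ⧸ I.map (algebraMap A (Localization.AtPrime q))) :=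
  (IsLocalizedModule.iso q.primeCompl (qmap I q)).extendScalarsOfIsLocalization q.primeCompl
    (Localization.AtPrime q)

end Good

theorem main (A : Type u) [CommRing A] [IsNoetherianRing A]
    (M : Type u) [AddCommGroup M] [Module A M] [Module.Finite A M] (I : Ideal A) [I.radical.IsPrime] :
    ∃ f : A, f ∉ I.radical ∧ ∀ (q : Ideal A) [q.IsPrime], I ≤ q → f ∉ q →
      Module.supportDim (Localization.AtPrime q) (LocalizedModule q.primeCompl M) =
          Module.supportDim (Localization.AtPrime I.radical) (LocalizedModule I.radical.primeCompl M) +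
            Module.supportDim (Localization.AtPrime q)
              (Localization.AtPrime q ⧸ I.map (algebraMap A (Localization.AtPrime q))) ∧
        LocCoh.depth (Localization.AtPrime q) (LocalizedModule q.primeCompl M) =
          LocCoh.depth (Localization.AtPrime I.radical) (LocalizedModule I.radical.primeCompl M) +
            LocCoh.depth (Localization.AtPrime q)
              (Localization.AtPrime q ⧸ I.map (algebraMap A (Localization.AtPrime q))) := by
  obtain ⟨f1, hf1p, hf1⟩ := good I.radical M
  obtain ⟨f2, hf2p, hf2⟩ := good I.radical (A ⧸ I)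
  refine ⟨f1 * f2, ?_, fun q _ hIq hfq => ?_⟩
  · exact fun h => (Ideal.IsPrime.mem_or_mem inferInstance h).elim hf1p hf2p
  have hf1q : f1 ∉ q := fun h => hfq (Ideal.mul_mem_right _ _ h)
  have hf2q : f2 ∉ q := fun h => hfq (Ideal.mul_mem_left _ _ h)
  have hpq : I.radical ≤ q := (Ideal.IsPrime.radical_le_iff inferInstance).2 hIq
  obtain ⟨h1, h2⟩ := hf1 q hpq hf1q
  obtain ⟨h3, h4⟩ := hf2 q hpq hf2q
  rw [dm_quot_eq_zero I I.radical rfl, zero_add] at h3
  rw [dp_quot_eq_zero I I.radical rfl, zero_add] at h4
  rw [← Module.supportDim_eq_of_equiv (quotEquiv I q), ← CMLib.depth_congr (quotEquiv I q)]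
  exact ⟨h1.trans (congrArg (fun t => dm I.radical M + t) h3.symm),
    h2.trans (congrArg (fun t => dp I.radical M + t) h4.symm)⟩

end S4699P


/-- Let A be a Noetherian ring, M a finite A-module and I an ideal of A whose radical p is a prime ideal
lying in the support of M (so V(I) is an irreducible closed subset whose generic point is in Supp
M). Then there is an element f outside p such that, for every prime q containing I with f outside q,
the dimension of M_q is the dimension of M_p plus the dimension of (A/I)_q, and the depth of M_q is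
the depth of M_p plus the depth of (A/I)_q (the module (A/I)_q = A_q / I A_q being regarded over
A_q). -/
theorem result (A : Type u) [CommRing A] [IsNoetherianRing A]
    (M : Type u) [AddCommGroup M] [Module A M] [Module.Finite A M] (I : Ideal A) [I.radical.IsPrime]
    (hp : (⟨I.radical, inferInstance⟩ : PrimeSpectrum A) ∈ Module.support A M) :
    ∃ f : A, f ∉ I.radical ∧ ∀ (q : Ideal A) [q.IsPrime], I ≤ q → f ∉ q →
      Module.supportDim (Localization.AtPrime q) (LocalizedModule q.primeCompl M) =
          Module.supportDim (Localization.AtPrime I.radical) (LocalizedModule I.radical.primeCompl M) +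
            Module.supportDim (Localization.AtPrime q)
              (Localization.AtPrime q ⧸ I.map (algebraMap A (Localization.AtPrime q))) ∧
        LocCoh.depth (Localization.AtPrime q) (LocalizedModule q.primeCompl M) =
          LocCoh.depth (Localization.AtPrime I.radical) (LocalizedModule I.radical.primeCompl M) +
            LocCoh.depth (Localization.AtPrime q)
              (Localization.AtPrime q ⧸ I.map (algebraMap A (Localization.AtPrime q))) :=
  S4699P.main A M I

end Groth.Agent.S4699
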