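import Groth.Statements.S0370
import Groth.Agent.Lib.Helper12.DualizingDim
import Groth.Agent.Lib.Helper12.BassDevissage
import Groth.Agent.Lib.Helper29.Depth
import Groth.Agent.Lib.Helper29.DepthZero
import Groth.Agent.S4699

set_option autoImplicit false
universe u v
open CategoryTheory
attribute [local instance] HasDerivedCategory.standard
open Dual

namespace Groth.Agent.S0370

namespace D370
open CategoryTheory CategoryTheory.Limits
open Groth.Agent.Lib.Helper12 Groth.Agent.Lib.Helper12.FlatHomBC DRing Pretriangulated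
open Groth.Agent.Lib.Helper12.Bass Groth.Agent.Lib.Helper36.InjAmp
open Groth.Agent.Lib.Helper12.DualDim
open IsLocalRing Groth.Agent.Lib.Helper29 Groth.Agent.Lib.Helper29.DepthLib Pointwise
set_option linter.style.haveILetI false

variable {A : Type u} [CommRing A]

/-- `Hom(A, K[j]) = 0` if `H^j(K) = 0` -/
lemma hom_ring_eq_zero (K : Dual.D A) (j : ℤ) (h : IsZero ((HF A j).obj K))
    (f : Dual.inD A A ⟶ K⟦j⟧) : f = 0 := by
  revert f
  rw [hom_shift_eq_zero_iff]
  intro g
  have h1 : (toDSingleIso j (ModuleCat.of A A)).hom ≫ g = 0 := by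
    apply homClass_injective (k := j) (M := ModuleCat.of A A) K
    exact h.eq_of_tgt _ _
  rw [← cancel_epi (toDSingleIso j (ModuleCat.of A A)).hom, h1, comp_zero]

lemma shift_add_zero (X K : Dual.D A) (i j k : ℤ) (h : i + j = k) (hk : ∀ f : X ⟶ K⟦k⟧, f = 0)
    (f : X ⟶ (K⟦i⟧)⟦j⟧) : f = 0 := by
  have := hk (f ≫ ((shiftFunctorAdd' (Dual.D A) i j k h).app K).inv)
  rw [← cancel_mono ((shiftFunctorAdd' (Dual.D A) i j k h).app K).inv, this, zero_comp]

section SES

variable {M₁ M₂ M₃ : Type u} [AddCommGroup M₁] [Module A M₁]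
    [AddCommGroup M₂] [Module A M₂] [AddCommGroup M₃] [Module A M₃]
    (f : M₁ →ₗ[A] M₂) (g : M₂ →ₗ[A] M₃)

lemma exists_triangle (hf : Function.Injective f)
    (hg : Function.Surjective g) (hfg : Function.Exact f g) :
    ∃ δ : Dual.inD A M₃ ⟶ (Dual.inD A M₁)⟦(1 : ℤ)⟧,
      Triangle.mk ((DerivedCategory.singleFunctor (ModuleCat.{u} A) 0).map (ModuleCat.ofHom f))
        ((DerivedCategory.singleFunctor (ModuleCat.{u} A) 0).map (ModuleCat.ofHom g)) δ ∈
          distTriang (Dual.D A) := by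
  let S : ShortComplex (ModuleCat.{u} A) :=
    ShortComplex.mk (ModuleCat.ofHom f) (ModuleCat.ofHom g) (by
      refine ModuleCat.hom_ext (LinearMap.ext fun x => ?_)
      exact hfg.apply_apply_eq_zero x)
  have hS : S.ShortExact := by
    have hmono : Mono S.f := (ModuleCat.mono_iff_injective _).mpr hf
    have hepi : Epi S.g := (ModuleCat.epi_iff_surjective _).mpr hg
    refine ShortComplex.ShortExact.mk ?_
    rw [ShortComplex.moduleCat_exact_iff_range_eq_ker]
    exact (LinearMap.exact_iff.mp hfg).symm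
  exact ⟨hS.singleδ, hS.singleTriangle_distinguished⟩

variable (K : Dual.D A)

/-- `Ext^i(M₁) = 0 = Ext^i(M₃) ⇒ Ext^i(M₂) = 0` -/
lemma ext_mid (hf : Function.Injective f)
    (hg : Function.Surjective g) (hfg : Function.Exact f g) (i : ℤ)
    (h₁ : Subsingleton (Dual.inD A M₁ ⟶ K⟦i⟧)) (h₃ : Subsingleton (Dual.inD A M₃ ⟶ K⟦i⟧)) :
    Subsingleton (Dual.inD A M₂ ⟶ K⟦i⟧) := by
  obtain ⟨δ, hT⟩ := exists_triangle f g hf hg hfg
  have h0 : ∀ y : Dual.inD A M₂ ⟶ K⟦i⟧, y = 0 := fun y => by
    obtain ⟨z, hz⟩ := Triangle.yoneda_exact₂ _ hT y (h₁.elim _ _)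
    rw [hz, h₃.elim z 0]
    exact comp_zero
  exact ⟨fun y y' => (h0 y).trans (h0 y').symm⟩

/-- `Ext^{i-1}(M₁) = 0 = Ext^i(M₂) ⇒ Ext^i(M₃) = 0` -/
lemma ext_right (hf : Function.Injective f)
    (hg : Function.Surjective g) (hfg : Function.Exact f g) (i : ℤ)
    (h₁ : Subsingleton (Dual.inD A M₁ ⟶ K⟦i - 1⟧)) (h₂ : Subsingleton (Dual.inD A M₂ ⟶ K⟦i⟧)) :
    Subsingleton (Dual.inD A M₃ ⟶ K⟦i⟧) := by
  obtain ⟨δ, hT⟩ := exists_triangle f g hf hg hfg
  have hT' := rot_of_distTriang _ hT
  have hz1 : ∀ z : (Dual.inD A M₁)⟦(1 : ℤ)⟧ ⟶ K⟦i⟧, z = 0 := by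
    have h1 : ∀ f' : Dual.inD A M₁ ⟶ (K⟦i⟧)⟦(-1 : ℤ)⟧, f' = 0 :=
      shift_add_zero _ K i (-1) (i - 1) (by omega) (fun f' => Subsingleton.elim _ _)
    exact (hom_shift_eq_zero_iff (Dual.inD A M₁) (K⟦i⟧) (-1)).mp h1
  have h0 : ∀ y : Dual.inD A M₃ ⟶ K⟦i⟧, y = 0 := fun y => by
    obtain ⟨z, hz⟩ := Triangle.yoneda_exact₂ _ hT' y (h₂.elim _ _)
    rw [hz, hz1 z]
    exact comp_zero
  exact ⟨fun y y' => (h0 y).trans (h0 y').symm⟩

/-- `Ext^i(M₂) = 0 = Ext^{i+1}(M₃) ⇒ Ext^i(M₁) = 0` -/
lemma ext_left (hf : Function.Injective f)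
    (hg : Function.Surjective g) (hfg : Function.Exact f g) (i : ℤ)
    (h₂ : Subsingleton (Dual.inD A M₂ ⟶ K⟦i⟧)) (h₃ : Subsingleton (Dual.inD A M₃ ⟶ K⟦i + 1⟧)) :
    Subsingleton (Dual.inD A M₁ ⟶ K⟦i⟧) := by
  obtain ⟨δ, hT⟩ := exists_triangle f g hf hg hfg
  have hT' := inv_rot_of_distTriang _ hT
  have h0 : ∀ y : Dual.inD A M₁ ⟶ K⟦i⟧, y = 0 := fun y => by
    obtain ⟨z, hz⟩ := Triangle.yoneda_exact₂ _ hT' y
      (hom_shift_neg_one_eq_zero _ _ i (fun g => h₃.elim _ _) _)
    rw [hz, h₂.elim z 0]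
    exact comp_zero
  exact ⟨fun y y' => (h0 y).trans (h0 y').symm⟩

end SES

section Local

variable [IsLocalRing A] [IsNoetherianRing A]

/-- Bass-type bound: the top degree `t` of `Ext(κ, K)` is at most `c + depth N` when
`Ext^i(N, K) = 0` for `i > c`. -/
theorem top_le (K : Dual.D A) (t : ℤ)
    (hnt : Nontrivial (Dual.inD A (A ⧸ maximalIdeal A) ⟶ K⟦t⟧))
    (hall : ∀ (M : Type u) [AddCommGroup M] [Module A M] [Module.Finite A M],
      Subsingleton (Dual.inD A M ⟶ K⟦t + 1⟧)) :
    ∀ (r : ℕ) (N : Type u) [AddCommGroup N] [Module A N] [Module.Finite A N] [Nontrivial N],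
      LocCoh.depth A N = r → ∀ c : ℤ, VanishAbove K c N → t ≤ c + r := by
  intro r
  induction r with
  | zero =>
    intro N _ _ _ _ hd c hc
    by_contra hlt
    push Not at hlt
    simp only [Nat.cast_zero, add_zero] at hlt
    have hass := (depth_eq_zero_iff_maximalIdeal_mem_ass A N).1 (by simpa using hd)
    obtain ⟨φ, hφ⟩ := Groth.Agent.S4699.S4699P.exists_injective_of_mem_ass (maximalIdeal A) N hass
    have h2 : Subsingleton (Dual.inD A N ⟶ K⟦t⟧) := hc t hlt
    have h3 : Subsingleton (Dual.inD A (N ⧸ LinearMap.range φ) ⟶ K⟦t + 1⟧) := hall _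
    have := ext_left φ (LinearMap.range φ).mkQ K hφ (Submodule.mkQ_surjective _)
      (LinearMap.exact_map_mkQ_range φ) t h2 h3
    exact not_subsingleton _ this
  | succ r ih =>
    intro N _ _ _ _ hd c hc
    have hne : LocCoh.depth A N ≠ 0 := by
      rw [hd]
      exact_mod_cast Nat.succ_ne_zero r
    have h1 := (depth_eq_zero_iff_forall_not_isSMulRegular A N
      (maximalIdeal_smul_top_ne_top A N)).not.1 hne
    push Not at h1
    obtain ⟨x, hxm, hreg⟩ := h1
    have hnt' : Nontrivial (QuotSMulTop x N) := nontrivial_quotSMulTop A N hxm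
    have hd' : LocCoh.depth A (QuotSMulTop x N) = r := by
      have h2 := depth_quotSMulTop_add_one A N hxm hreg
      rw [hd] at h2
      have h3 : LocCoh.depth A (QuotSMulTop x N) + 1 = (r : ℕ∞) + 1 := by
        rw [h2]; push_cast; rfl
      exact ENat.add_left_injective_of_ne_top ENat.one_ne_top h3
    have hex : Function.Exact (LinearMap.lsmul A N x) (x • (⊤ : Submodule A N)).mkQ := by
      rw [LinearMap.exact_iff, Submodule.ker_mkQ]
      ext y
      rw [Submodule.mem_smul_pointwise_iff_exists, LinearMap.mem_range]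
      constructor
      · rintro ⟨z, -, rfl⟩
        exact ⟨z, rfl⟩
      · rintro ⟨z, rfl⟩
        exact ⟨z, trivial, rfl⟩
    have hc' : VanishAbove K (c + 1) (QuotSMulTop x N) := by
      intro i hi
      exact ext_right (LinearMap.lsmul A N x) (x • (⊤ : Submodule A N)).mkQ K hreg
        (Submodule.mkQ_surjective _) hex i (hc (i - 1) (by omega)) (hc i (by omega))
    have := ih (QuotSMulTop x N) hd' (c + 1) hc'
    push_cast
    omega

/-- **Local case**: a Noetherian local ring with a dualizing module is Cohen–Macaulay. -/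
theorem isCM_local (W : Type u) [AddCommGroup W] [Module A W]
    (h : Dual.IsDualizing A (Dual.inD A W)) : LocCoh.IsCohenMacaulayLocalRing A := by
  set ω : Dual.D A := Dual.inD A W with hω
  have hlow : ∀ j : ℤ, j < 0 → IsZero ((HF A j).obj ω) := fun j hj =>
    DerivedCategory.isZero_of_isGE _ 0 j hj
  have hhigh : ∀ j : ℤ, 0 < j → IsZero ((HF A j).obj ω) := fun j hj =>
    DerivedCategory.isZero_of_isLE _ 0 j hj
  obtain ⟨a, b, hab⟩ := h.finite_injective_dimension
  classical
  obtain ⟨t, hnt, htmax⟩ := Int.exists_greatest_of_bdd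
    (P := fun i : ℤ => Nontrivial (Dual.inD A (A ⧸ maximalIdeal A) ⟶ ω⟦i⟧))
    ⟨b, fun z hz => by
      by_contra hlt
      push Not at hlt
      exact not_subsingleton _ (hab (A ⧸ maximalIdeal A) z (Or.inr hlt))⟩
    (exists_nontrivial_hom_residue ω h)
  have ht : ∀ i : ℤ, t < i → Subsingleton (Dual.inD A (A ⧸ maximalIdeal A) ⟶ ω⟦i⟧) := by
    intro i hi
    by_contra hns
    rw [not_subsingleton_iff_nontrivial] at hns
    have := htmax i hns
    omega
  have hall : ∀ (M : Type u) [AddCommGroup M] [Module A M] [Module.Finite A M],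
      VanishAbove ω t M := fun M _ _ _ =>
    vanishAbove_of_maximal 0 hlow h.finite_cohomology (fun m hm => by
      have hmm := IsLocalRing.eq_maximalIdeal hm
      subst hmm
      exact ht) M
  have hdim := height_maximalIdeal_le (t - 0).toNat A ω h 0 t hlow ht (Int.self_le_toNat _)
  obtain ⟨n, hn⟩ := ENat.ne_top_iff_exists.1 (depth_ne_top A A)
  have hc0 : VanishAbove ω 0 A := fun i hi =>
    ⟨fun f g => (hom_ring_eq_zero ω i (hhigh i hi) f).trans (hom_ring_eq_zero ω i (hhigh i hi) g).symm⟩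
  have htop := top_le ω t hnt (fun M _ _ _ => hall M (t + 1) (by omega)) n A hn.symm 0 hc0
  refine ⟨?_⟩
  apply le_antisymm _ (depth_le_supportDim A A)
  rw [Module.supportDim_self_eq_ringKrullDim, ← IsLocalRing.maximalIdeal_height_eq_ringKrullDim,
    ← hn]
  have h3 : (t - 0).toNat ≤ n := by omega
  have h4 : (maximalIdeal A).height ≤ (n : ℕ∞) := hdim.trans (by exact_mod_cast h3)
  exact_mod_cast h4

end Local

/-- localization of a dualizing complex -/
theorem isDualizing_localization [IsNoetherianRing A] (ω : Dual.D A) (hω : Dual.IsDualizing A ω)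
    (p : Ideal A) [p.IsPrime] :
    Dual.IsDualizing (Localization.AtPrime p) ((extScD A (Localization.AtPrime p)).obj ω) := by
  have : IsNoetherianRing (Localization.AtPrime p) :=
    IsLocalization.isNoetherianRing p.primeCompl _ inferInstance
  exact DualizingBC.isDualizing_extScD_of_ideals_extended (B := Localization.AtPrime p)
    (fun J => ⟨J.under A, IsLocalization.map_under p.primeCompl _ J⟩) ω hω

theorem main (A : Type u) [CommRing A] [IsNoetherianRing A] (W : Type u) [AddCommGroup W]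
    [Module A W] [Module.Finite A W] (h : Dual.IsDualizing A (Dual.inD A W)) :
    LocCoh.IsCohenMacaulayRing A := by
  refine ⟨fun p hp => ?_⟩
  have : IsNoetherianRing (Localization.AtPrime p) :=
    IsLocalization.isNoetherianRing p.primeCompl _ inferInstance
  have h1 := isDualizing_localization (Dual.inD A W) h p
  have h2 := DualizingBC.isDualizing_of_iso (extScD_inD (B := Localization.AtPrime p) W) h1
  exact isCM_local _ h2

end D370


/-- A Noetherian ring admitting a finite module which, placed in degree 0, is a dualizing complex, is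
Cohen–Macaulay. -/
theorem result (A : Type u) [CommRing A] [IsNoetherianRing A] (W : Type u) [AddCommGroup W] [Module A W] [Module.Finite A W] (h : Dual.IsDualizing A (Dual.inD A W)) : LocCoh.IsCohenMacaulayRing A :=
  D370.main A W h

end Groth.Agent.S0370
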