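import Groth.Statements.S1721
import Groth.Agent.Lib.Helper14.DualCoheight
import Groth.Agent.Lib.Helper12.PolyDualizing

set_option autoImplicit false
universe u
open CategoryTheory
attribute [local instance] HasDerivedCategory.standard
open Dual

namespace Groth.Agent.S1721

namespace D1721
open Groth.Agent.Lib.Helper14.DualDelta Groth.Agent.Lib.Helper14.DualCoheight
open Groth.Agent.Lib.Helper12 Polynomial

/-- transport of dualizing complexes along ring isomorphisms -/
theorem exists_dualizing_of_ringEquiv (P Q : Type u) [CommRing P] [CommRing Q]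
    [IsNoetherianRing P] (e : P ≃+* Q) (h : ∃ ω : Dual.D P, Dual.IsDualizing P ω) :
    ∃ ω' : Dual.D Q, Dual.IsDualizing Q ω' := by
  obtain ⟨ω, hω⟩ := h
  let _ : Algebra P Q := e.toRingHom.toAlgebra
  have hN : IsNoetherianRing Q := isNoetherianRing_of_ringEquiv P e
  let l : P ≃ₗ[P] Q :=
    { toFun := e
      invFun := e.symm
      left_inv := e.left_inv
      right_inv := e.right_inv
      map_add' := map_add e
      map_smul' := fun p x => by
        show e (p * x) = e p * e x
        exact map_mul e p x }
  have hflat : Module.Flat P Q := Module.Flat.of_linearEquiv l.symm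
  refine ⟨(extScD P Q).obj ω, DualizingBC.isDualizing_extScD_of_ideals_extended (B := Q)
    (fun J => ⟨J.comap (algebraMap P Q), ?_⟩) ω hω⟩
  exact Ideal.map_comap_of_surjective _ e.surjective J

theorem exists_dualizing_mvPolynomial (A : Type u) [CommRing A] [IsNoetherianRing A]
    (h : ∃ ω : Dual.D A, Dual.IsDualizing A ω) (n : ℕ) :
    ∃ ω' : Dual.D (MvPolynomial (Fin n) A), Dual.IsDualizing (MvPolynomial (Fin n) A) ω' := by
  induction n with
  | zero =>
    exact exists_dualizing_of_ringEquiv A _ (MvPolynomial.isEmptyRingEquiv A (Fin 0)).symm h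
  | succ n ih =>
    obtain ⟨ω, hω⟩ := ih
    have h1 : ∃ ω' : Dual.D (MvPolynomial (Fin n) A)[X],
        Dual.IsDualizing (MvPolynomial (Fin n) A)[X] ω' :=
      ⟨_, PolyDual.isDualizing_extScD_polynomial ω hω⟩
    exact exists_dualizing_of_ringEquiv _ _
      (MvPolynomial.finSuccEquiv A n).symm.toRingEquiv h1

/-- a ring of finite dimension with a "dimension function" is catenary -/
theorem isCatenary_of_dimFun (S : Type u) [CommRing S] (d : PrimeSpectrum S → ℤ)
    (hd : ∀ x y : PrimeSpectrum S, x ⋖ y → d x = d y - 1) (hfin : ringKrullDim S < ⊤) :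
    CAlg.IsCatenary S := by
  constructor
  · intro p q _
    have h0 : (0 : WithBot ℕ∞) ≤ ringKrullDim S := by
      have : Nonempty (PrimeSpectrum S) := ⟨p⟩
      exact Order.krullDim_nonneg
    obtain ⟨k, hk⟩ : ∃ k : ℕ, ringKrullDim S = k := by
      have hne : ringKrullDim S ≠ ⊥ := fun h => by
        rw [h] at h0
        exact absurd h0 (not_le.2 (WithBot.bot_lt_coe (0 : ℕ∞)))
      obtain ⟨x, hx⟩ := WithBot.ne_bot_iff_exists.1 hne
      rw [← hx] at hfin
      have hx' : x ≠ ⊤ := by
        rintro rfl
        exact lt_irrefl _ hfin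
      obtain ⟨k, rfl⟩ := ENat.ne_top_iff_exists.1 hx'
      exact ⟨k, hx.symm⟩
    refine ⟨k, fun s _ _ => ?_⟩
    have := Order.LTSeries.length_le_krullDim s
    rw [show Order.krullDim (PrimeSpectrum S) = ringKrullDim S from rfl, hk] at this
    exact_mod_cast this
  · intro s t hhead hlast hs ht
    have key : ∀ (r : LTSeries (PrimeSpectrum S)),
        (∀ i : Fin r.length, r (Fin.castSucc i) ⋖ r (Fin.succ i)) →
        d r.last = d r.head + r.length := by
      intro r hr
      have : ∀ i : Fin (r.length + 1), d (r i) = d (r 0) + (i : ℕ) := by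
        intro i
        induction i using Fin.induction with
        | zero => simp
        | succ i ih =>
          have := hd _ _ (hr i)
          rw [ih] at this
          rw [Fin.val_succ]
          push_cast
          rw [Fin.val_castSucc] at this
          omega
      have h1 := this (Fin.last _)
      simpa [RelSeries.last, RelSeries.head] using h1
    have h1 := key s hs
    have h2 := key t ht
    rw [hhead, hlast] at h1
    omega

theorem main (A : Type u) [CommRing A] [IsNoetherianRing A] (ω : Dual.D A)
    (hω : Dual.IsDualizing A ω) : CAlg.IsUniversallyCatenary A := by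
  refine ⟨inferInstance, fun S _ _ hS => ?_⟩
  obtain ⟨n, f, hf⟩ := Algebra.FiniteType.iff_quotient_mvPolynomial''.1 hS
  obtain ⟨ωP, hωP⟩ := exists_dualizing_mvPolynomial A ⟨ω, hω⟩ n
  have hfinP : ringKrullDim (MvPolynomial (Fin n) A) < ⊤ := DualDim.ringKrullDim_lt_top ωP hωP
  have hfinS : ringKrullDim S < ⊤ :=
    lt_of_le_of_lt (ringKrullDim_le_of_surjective f.toRingHom hf) hfinP
  refine isCatenary_of_dimFun S
    (fun x => tdeg ωP hωP (x.asIdeal.comap f.toRingHom)) (fun x y hxy => ?_) hfinS
  have hlt : x.asIdeal.comap f.toRingHom < y.asIdeal.comap f.toRingHom := by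
    have h1 : x.asIdeal < y.asIdeal := hxy.1
    refine lt_of_le_of_ne (Ideal.comap_mono h1.le) (fun h => ?_)
    have := Ideal.comap_injective_of_surjective f.toRingHom hf h
    exact h1.ne this
  refine tdeg_covBy ωP hωP _ _ hlt ?_
  intro c hc hxc hcy
  -- `c` contains the kernel, hence comes from a prime of `S`
  have hker : RingHom.ker f.toRingHom ≤ c := by
    intro z hz
    apply hxc.le
    rw [Ideal.mem_comap, (RingHom.mem_ker).1 hz]
    exact x.asIdeal.zero_mem
  have hc' : (c.map f.toRingHom).IsPrime := Ideal.map_isPrime_of_surjective hf hker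
  have hcm : (c.map f.toRingHom).comap f.toRingHom = c := by
    rw [Ideal.comap_map_of_surjective f.toRingHom hf c, ← RingHom.ker_eq_comap_bot]
    exact sup_eq_left.2 hker
  have hxc' : x < (⟨c.map f.toRingHom, hc'⟩ : PrimeSpectrum S) := by
    refine lt_of_le_of_ne ?_ (fun h => ?_)
    · show x.asIdeal ≤ c.map f.toRingHom
      rw [← Ideal.map_comap_of_surjective f.toRingHom hf x.asIdeal]
      exact Ideal.map_mono hxc.le
    · have h2 : x.asIdeal.comap f.toRingHom = c := by
        rw [h]
        exact hcm
      exact hxc.ne h2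
  have hcy' : (⟨c.map f.toRingHom, hc'⟩ : PrimeSpectrum S) ≤ y := by
    show c.map f.toRingHom ≤ y.asIdeal
    rw [← Ideal.map_comap_of_surjective f.toRingHom hf y.asIdeal]
    exact Ideal.map_mono hcy
  have h3 := eq_of_le_of_not_lt hcy' (hxy.2 hxc')
  rw [← hcm]
  exact congrArg (fun z : PrimeSpectrum S => z.asIdeal.comap f.toRingHom) h3

end D1721


/-- A Noetherian ring admitting a dualizing complex is universally catenary. (Finiteness of the
dimension is a separate, earlier result.) -/
theorem result (A : Type u) [CommRing A] [IsNoetherianRing A] (ω : Dual.D A) (hω : Dual.IsDualizing A ω) : CAlg.IsUniversallyCatenary A :=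
  D1721.main A ω hω

end Groth.Agent.S1721
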