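import Groth.Statements.S1780
import Groth.Agent.Lib.Helper12.DualizingBC

set_option autoImplicit false
universe u
open CategoryTheory
attribute [local instance] HasDerivedCategory.standard
open Dual

namespace Groth.Agent.S1780

/-- Let A → B be a faithfully flat homomorphism of Noetherian rings and K an object of D(A). Assuming
the derived base change functor D(A) → D(B) exists, if the derived base change of K to B is
dualizing over B, then K is already dualizing over A. -/
theorem result (A B : Type u) [CommRing A] [CommRing B] [Algebra A B] [IsNoetherianRing A] [IsNoetherianRing B] [Module.FaithfullyFlat A B] [DRing.HasLBaseChange (algebraMap A B)] (K : Dual.D A) (hK : Dual.IsDualizing B ((DRing.LBaseChange (algebraMap A B)).obj K)) : Dual.IsDualizing A K := by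
  have hK' : Dual.IsDualizing B ((Groth.Agent.Lib.Helper12.extScD A B).obj K) :=
    Groth.Agent.Lib.Helper12.DualizingBC.isDualizing_of_iso
      ((Groth.Agent.Lib.Helper12.FlatHomBC.lBaseChangeIsoExtScD (A := A) (B := B)).app K) hK
  exact Groth.Agent.Lib.Helper12.DualizingBC.isDualizing_of_detectsZero_finite
    (fun _ : Unit => B) (Groth.Agent.Lib.Helper12.FlatHomBC.detectsZero_faithfullyFlat B)
    (Groth.Agent.Lib.Helper12.FlatHomBC.detectsZero_faithfullyFlat B)
    (fun M h => Groth.Agent.Lib.Helper12.finite_of_finite_extSc M (h ())) K (fun _ => hK')

end Groth.Agent.S1780
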