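import Groth.Statements.S18939
import Mathlib
import Groth.Agent.Lib.Helper22.KoszulH1
-- import your own Groth.Agent.* helpers here

set_option autoImplicit false
universe u
open LCI

namespace Groth.Agent.S18939

section PRE
open Groth.Agent.Lib.Helper22.KoszulH1

variable {R : Type u} [CommRing R]

/-- `H_1`-regularity in `Fin r`-indexed form for `List.ofFn` -/
lemma h1_ofFn (r : ℕ) (g : Fin r → R) (hg : LCI.IsKoszulRegularSeq R (List.ofFn g)) :
    CAlgX.IsH1Regular g := by
  have h := isH1Regular_of_isKoszulRegularSeq (List.ofFn g) hg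
  have hlen : (List.ofFn g).length = r := List.length_ofFn
  intro a ha
  -- transport along the index equivalence
  let e : Fin (List.ofFn g).length ≃ Fin r := finCongr hlen
  have hget : ∀ i, (List.ofFn g).get i = g (e i) := by
    intro i
    simp [e]
    rfl
  have ha' : ∑ i, (a ∘ e) i * (List.ofFn g).get i = 0 := by
    rw [← ha]
    refine Fintype.sum_equiv e _ _ (fun i => ?_)
    rw [hget]
    rfl
  have h1 := h (a ∘ e) ha'
  -- map along the linear equivalence
  let L : (Fin (List.ofFn g).length → R) ≃ₗ[R] (Fin r → R) := LinearEquiv.funCongrLeft R R e.symm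
  have hL : ∀ v, L v = v ∘ e.symm := fun v => rfl
  have h2 : L (a ∘ e) ∈ Submodule.map L.toLinearMap
      (Submodule.span R {v | ∃ i j, v = Pi.single i ((List.ofFn g).get j) - Pi.single j ((List.ofFn g).get i)}) :=
    Submodule.mem_map_of_mem h1
  have h3 : L (a ∘ e) = a := by
    rw [hL]
    funext i
    simp
  rw [h3, Submodule.map_span] at h2
  refine Submodule.span_mono ?_ h2
  rintro _ ⟨v, ⟨i, j, rfl⟩, rfl⟩
  refine ⟨e i, e j, ?_⟩
  show L _ = _
  rw [hL, hget, hget]
  funext k
  simp only [Function.comp_apply, Pi.sub_apply, Pi.single_apply]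
  have h4 : ∀ i', (e.symm k = i') ↔ (k = e i') := fun i' => by
    constructor
    · rintro rfl; simp
    · rintro rfl; simp
  simp only [h4]

lemma triv_le (r : ℕ) (g : Fin r → R) (I : Ideal R) (hg : ∀ i, g i ∈ I) (v : Fin r → R)
    (hv : v ∈ Submodule.span R {v : Fin r → R | ∃ i j : Fin r, v = Pi.single i (g j) - Pi.single j (g i)})
    (k : Fin r) : v k ∈ I := by
  induction hv using Submodule.span_induction with
  | mem x hx =>
    obtain ⟨i, j, rfl⟩ := hx
    simp only [Pi.sub_apply, Pi.single_apply]
    refine Ideal.sub_mem _ ?_ ?_ <;> split_ifs <;> simp [hg]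
  | zero => simp
  | add x y _ _ hx hy => exact Ideal.add_mem _ hx hy
  | smul a x _ hx => exact Ideal.mul_mem_left _ _ hx

lemma coeff_mem (r : ℕ) (g : Fin r → R) (I : Ideal R) (hI : Ideal.span (Set.range g) = I)
    (h1 : CAlgX.IsH1Regular g) (a : Fin r → R) (ha : ∑ i, a i * g i ∈ I ^ 2) (k : Fin r) :
    a k ∈ I := by
  have hgI : ∀ i, g i ∈ I := fun i => hI ▸ Ideal.subset_span ⟨i, rfl⟩
  have h2 : ∑ i, a i * g i ∈ I • Submodule.span R (Set.range g) := by
    have : I • Submodule.span R (Set.range g) = I ^ 2 := by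
      rw [pow_two, ← hI]
      rfl
    rw [this]
    exact ha
  rw [Submodule.mem_ideal_smul_span_iff_exists_sum] at h2
  obtain ⟨b, hb, hsum⟩ := h2
  rw [Finsupp.sum_fintype _ _ (fun i => by rw [zero_smul])] at hsum
  have h3 : ∑ i, (a i - b i) * g i = 0 := by
    simp only [sub_mul, Finset.sum_sub_distrib]
    rw [sub_eq_zero, ← hsum]
    rfl
  have h4 := h1 (fun i => a i - b i) h3
  have h5 := triv_le r g I hgI _ h4 k
  have : a k = (a k - b k) + b k := by ring
  rw [this]
  exact Ideal.add_mem _ h5 (hb k)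

theorem main {I : Ideal R} (hI : I ≠ ⊤)
    (r : ℕ) (f : Fin r → I) (hf : LCI.IsKoszulRegularSeq R (List.ofFn (fun i => (f i : R))))
    (hfI : Ideal.span (Set.range (fun i => (f i : R))) = I) :
    ∃ b : Module.Basis (Fin r) (R ⧸ I) I.Cotangent, ∀ i, b i = I.toCotangent (f i) := by
  have h1 := h1_ofFn r (fun i => (f i : R)) hf
  have hli : LinearIndependent (R ⧸ I) (fun i => I.toCotangent (f i)) := by
    rw [Fintype.linearIndependent_iff]
    intro c hc i
    choose a ha using fun i => Ideal.Quotient.mk_surjective (c i)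
    have h2 : I.toCotangent (∑ i, a i • f i) = 0 := by
      rw [map_sum, ← hc]
      refine Finset.sum_congr rfl (fun i _ => ?_)
      rw [map_smul, ← ha i]
      rfl
    rw [Ideal.toCotangent_eq_zero] at h2
    have h3 : ∑ i, a i * (f i : R) ∈ I ^ 2 := by
      convert h2 using 1
      simp
    have := coeff_mem r _ I hfI h1 a h3 i
    rw [← ha i]
    exact Ideal.Quotient.eq_zero_iff_mem.mpr this
  have hsp : ⊤ ≤ Submodule.span (R ⧸ I) (Set.range (fun i => I.toCotangent (f i))) := by
    rintro y -
    obtain ⟨x, rfl⟩ := Ideal.toCotangent_surjective I y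
    have hx : (x : R) ∈ Ideal.span (Set.range (fun i => (f i : R))) := by rw [hfI]; exact x.2
    rw [Ideal.mem_span_range_iff_exists_fun] at hx
    obtain ⟨a, ha⟩ := hx
    have hx' : x = ∑ i, a i • f i := by
      apply Subtype.ext
      rw [← ha]
      simp
    rw [hx', map_sum]
    refine Submodule.sum_mem _ (fun i _ => ?_)
    rw [map_smul]
    have : a i • I.toCotangent (f i) = (Ideal.Quotient.mk I (a i)) • I.toCotangent (f i) := rfl
    rw [this]
    exact Submodule.smul_mem _ _ (Submodule.subset_span ⟨i, rfl⟩)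
  exact ⟨Module.Basis.mk hli hsp, fun i => by simp⟩

end PRE

/-- Let R be a commutative ring, I a proper ideal of R and f_1, …, f_r a Koszul-regular sequence of
elements of I generating I. Then I/I² is a free R/I-module of rank r, with basis the classes of f_1,
…, f_r. -/
theorem result {R : Type u} [CommRing R] {I : Ideal R} (hI : I ≠ ⊤)
    (r : ℕ) (f : Fin r → I) (hf : LCI.IsKoszulRegularSeq R (List.ofFn (fun i => (f i : R))))
    (hfI : Ideal.span (Set.range (fun i => (f i : R))) = I) :
    ∃ b : Module.Basis (Fin r) (R ⧸ I) I.Cotangent, ∀ i, b i = I.toCotangent (f i) := by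
  exact main hI r f hf hfI

end Groth.Agent.S18939
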