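import Groth.Statements.S2104
import Mathlib

set_option autoImplicit false
universe u
open CAlg

namespace Groth.Agent.S2104

open MvPolynomial

section Fil
variable {A : Type u} [CommRing A] {m : ℕ}

/-- the filtration `(I, Y)^N` on `A[Y]`, described coefficientwise -/
def Fil (I : Ideal A) (N : ℕ) : Submodule A (MvPolynomial (Fin m) A) where
  carrier := {H | ∀ β : Fin m →₀ ℕ, coeff β H ∈ I ^ (N - β.degree)}
  add_mem' := by
    intro a b ha hb β
    rw [coeff_add]
    exact Ideal.add_mem _ (ha β) (hb β)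
  zero_mem' := by
    intro β
    simp
  smul_mem' := by
    intro c x hx β
    rw [coeff_smul]
    exact Ideal.mul_mem_left _ _ (hx β)

theorem mem_Fil (I : Ideal A) (N : ℕ) (H : MvPolynomial (Fin m) A) :
    H ∈ Fil I N ↔ ∀ β : Fin m →₀ ℕ, coeff β H ∈ I ^ (N - β.degree) := Iff.rfl

theorem Fil_anti (I : Ideal A) {N N' : ℕ} (h : N ≤ N') : (Fil I N' : Submodule A (MvPolynomial (Fin m) A)) ≤ Fil I N := by
  intro H hH β
  exact Ideal.pow_le_pow_right (by omega) (hH β)

theorem Fil_zero (I : Ideal A) (H : MvPolynomial (Fin m) A) : H ∈ Fil I 0 := by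
  intro β
  simp

theorem X_mul_mem_Fil (I : Ideal A) (N : ℕ) (j : Fin m) (H : MvPolynomial (Fin m) A)
    (hH : H ∈ Fil I N) : X j * H ∈ Fil I (N + 1) := by
  classical
  intro β
  rw [coeff_X_mul']
  split_ifs with hj
  · have h1 : (β - Finsupp.single j 1).degree + 1 = β.degree := by
      have hβ : β = (β - Finsupp.single j 1) + Finsupp.single j 1 := by
        ext i
        by_cases hij : i = j
        · subst hij
          have : 1 ≤ β i := Nat.one_le_iff_ne_zero.mpr (Finsupp.mem_support_iff.mp hj)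
          simp; omega
        · simp [hij]
      conv_rhs => rw [hβ]
      rw [map_add, Finsupp.degree_single]
    have := hH (β - Finsupp.single j 1)
    rwa [show N + 1 - β.degree = N - (β - Finsupp.single j 1).degree by omega]
  · exact Ideal.zero_mem _

theorem C_mul_mem_Fil (I : Ideal A) (N : ℕ) (a : A) (H : MvPolynomial (Fin m) A)
    (hH : H ∈ Fil I N) : C a * H ∈ Fil I N := by
  rw [C_mul']
  exact (Fil I N).smul_mem a hH

theorem monomial_mem_Fil (I : Ideal A) (N : ℕ) (β : Fin m →₀ ℕ) (t : A)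
    (ht : t ∈ I ^ (N - β.degree)) : monomial β t ∈ Fil I N := by
  classical
  intro β'
  rw [coeff_monomial]
  split_ifs with h
  · subst h; exact ht
  · exact Ideal.zero_mem _

end Fil

section Kz
variable {S : Type u} [CommRing S] {m : ℕ}

/-- the module of Koszul boundaries (trivial relations) -/
def Kz (h : Fin m → S) : Submodule S (Fin m → S) :=
  Submodule.span S {v | ∃ i j : Fin m, v = Pi.single i (h j) - Pi.single j (h i)}

theorem sum_Kz (h : Fin m → S) (v : Fin m → S) (hv : v ∈ Kz h) : ∑ j, h j * v j = 0 := by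
  classical
  refine Submodule.span_induction ?_ ?_ ?_ ?_ hv
  · rintro _ ⟨i, j, rfl⟩
    simp only [Pi.sub_apply, Pi.single_apply, mul_sub, mul_ite, mul_zero, Finset.sum_sub_distrib,
      Finset.sum_ite_eq', Finset.mem_univ, if_true]
    ring
  · simp
  · intro x y _ _ hx hy
    simp only [Pi.add_apply, mul_add, Finset.sum_add_distrib, hx, hy, add_zero]
  · intro a x _ hx
    simp only [Pi.smul_apply, smul_eq_mul, mul_left_comm, ← Finset.mul_sum, hx, mul_zero]

theorem abs_lemma (F : ℕ → AddSubgroup S) (hF0 : F 0 = ⊤) (hFanti : ∀ N, F (N + 1) ≤ F N)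
    (h : Fin m → S)
    (Hk : ∀ k (a : Fin m → S), (∀ j, a j ∈ F k) → ∑ j, h j * a j ∈ F (k + 1) →
      ∃ v ∈ Kz h, ∀ j, a j - v j ∈ F (k + 1))
    (N : ℕ) (a : Fin m → S) (ha : ∑ j, h j * a j ∈ F N) : ∃ v ∈ Kz h, ∀ j, a j - v j ∈ F N := by
  induction N with
  | zero => exact ⟨0, Submodule.zero_mem _, fun j => by rw [hF0]; trivial⟩
  | succ N ih =>
    obtain ⟨v, hv, hr⟩ := ih (hFanti N ha)
    have hsum : ∑ j, h j * (a j - v j) ∈ F (N + 1) := by
      have : ∑ j, h j * (a j - v j) = ∑ j, h j * a j := by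
        simp [mul_sub, Finset.sum_sub_distrib, sum_Kz h v hv]
      rw [this]; exact ha
    obtain ⟨v', hv', hr'⟩ := Hk N (fun j => a j - v j) hr hsum
    refine ⟨v + v', Submodule.add_mem _ hv hv', fun j => ?_⟩
    have := hr' j
    simp only [Pi.add_apply]
    rwa [show a j - (v j + v' j) = a j - v j - v' j by ring]

end Kz

section L2
variable {A : Type u} [CommRing A] {n m : ℕ}

theorem hg_lift (I : Ideal A) (g : Fin m → A)
    (hg : CAlgX.IsH1Regular (fun j => Ideal.Quotient.mk I (g j)))
    (a : Fin m → A) (ha : ∑ j, a j * g j ∈ I) :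
    ∃ w ∈ Kz g, ∀ j, a j - w j ∈ I := by
  classical
  have h0 : ∑ j, (fun j => Ideal.Quotient.mk I (a j)) j *
      (fun j => Ideal.Quotient.mk I (g j)) j = 0 := by
    simp only [← map_mul, ← map_sum]; exact Ideal.Quotient.eq_zero_iff_mem.mpr ha
  have := hg (fun j => Ideal.Quotient.mk I (a j)) h0
  have key : ∀ x ∈ Submodule.span (A ⧸ I) {v : Fin m → A ⧸ I | ∃ i j : Fin m,
      v = Pi.single i (Ideal.Quotient.mk I (g j)) - Pi.single j (Ideal.Quotient.mk I (g i))},
      ∃ w ∈ Kz g, ∀ j, Ideal.Quotient.mk I (w j) = x j := by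
    intro x hx
    refine Submodule.span_induction ?_ ?_ ?_ ?_ hx
    · rintro _ ⟨i, j, rfl⟩
      refine ⟨Pi.single i (g j) - Pi.single j (g i), Submodule.subset_span ⟨i, j, rfl⟩, fun k => ?_⟩
      simp only [Pi.sub_apply, Pi.single_apply, map_sub]
      congr 1 <;> split_ifs <;> simp
    · exact ⟨0, Submodule.zero_mem _, fun j => by simp⟩
    · rintro x y _ _ ⟨w, hw, hwx⟩ ⟨w', hw', hwy⟩
      exact ⟨w + w', Submodule.add_mem _ hw hw', fun j => by simp [hwx, hwy]⟩
    · rintro r x _ ⟨w, hw, hwx⟩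
      obtain ⟨r, rfl⟩ := Ideal.Quotient.mk_surjective r
      exact ⟨r • w, Submodule.smul_mem _ _ hw, fun j => by simp [hwx]⟩
  obtain ⟨w, hw, hwx⟩ := key _ this
  refine ⟨w, hw, fun j => ?_⟩
  rw [← Ideal.Quotient.eq_zero_iff_mem, map_sub, hwx j, sub_self]

/-- the monomial `f^α` -/
def fpow (f : Fin n → A) (α : Fin n →₀ ℕ) : A := ∏ i, f i ^ α i

theorem eval_monomial_one (f : Fin n → A) (α : Fin n →₀ ℕ) (a : A) :
    eval f (monomial α a) = a * fpow f α := by
  rw [eval_monomial, fpow, Finsupp.prod_fintype]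
  intro i; simp

theorem fpow_mem (f : Fin n → A) (α : Fin n →₀ ℕ) (d : ℕ) (hα : α.degree = d) :
    fpow f α ∈ Ideal.span (Set.range f) ^ d := by
  rw [Ideal.mem_span_pow_iff_exists_isHomogeneous]
  exact ⟨monomial α 1, isHomogeneous_monomial _ hα, by rw [eval_monomial_one, one_mul]⟩

theorem eval_eq_sum_fpow (f : Fin n → A) (T : Finset (Fin n →₀ ℕ)) (P : MvPolynomial (Fin n) A)
    (hT : P.support ⊆ T) : eval f P = ∑ α ∈ T, coeff α P * fpow f α := by
  rw [eval_eq']
  apply Finset.sum_subset hT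
  intro α _ hα
  rw [notMem_support_iff.mp hα, zero_mul]

theorem L2 (f : Fin n → A) (g : Fin m → A) (hf : CAlgX.IsQuasiRegular f)
    (hg : CAlgX.IsH1Regular (fun j => Ideal.Quotient.mk (Ideal.span (Set.range f)) (g j)))
    (d : ℕ) (c : Fin m → A) (hc : ∀ j, c j ∈ Ideal.span (Set.range f) ^ d)
    (hsum : ∑ j, g j * c j ∈ Ideal.span (Set.range f) ^ (d + 1)) :
    ∃ w ∈ (Ideal.span (Set.range f) ^ d) • (Kz g),
      ∀ j, c j - w j ∈ Ideal.span (Set.range f) ^ (d + 1) := by
  classical
  set I := Ideal.span (Set.range f) with hI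
  have hc' : ∀ j, ∃ Cj : MvPolynomial (Fin n) A, Cj.IsHomogeneous d ∧ eval f Cj = c j := fun j =>
    (Ideal.mem_span_pow_iff_exists_isHomogeneous f (c j)).mp (hc j)
  choose Cp hCp hCe using hc'
  set T : MvPolynomial (Fin n) A := ∑ j, C (g j) * Cp j with hT
  have hTh : T.IsHomogeneous d := by
    apply IsHomogeneous.sum
    intro j _
    have := (isHomogeneous_C (Fin n) (g j)).mul (hCp j)
    rwa [zero_add] at this
  have hTe : eval f T ∈ I ^ (d + 1) := by
    have : eval f T = ∑ j, g j * c j := by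
      simp only [hT, map_sum, map_mul, eval_C, hCe]
    rw [this]; exact hsum
  have hcoef := hf d T hTh hTe
  have hcoef' : ∀ α : Fin n →₀ ℕ, ∑ j, coeff α (Cp j) * g j ∈ I := by
    intro α
    have := hcoef α
    rw [hT, coeff_sum] at this
    simp only [coeff_C_mul] at this
    convert this using 2 with j
    ring
  have hw := fun α => hg_lift I g hg (fun j => coeff α (Cp j)) (hcoef' α)
  choose w hwK hwI using hw
  set Tα : Finset (Fin n →₀ ℕ) := Finset.univ.biUnion (fun j => (Cp j).support) with hTα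
  have hTdeg : ∀ α ∈ Tα, α.degree = d := by
    intro α hα
    rw [hTα, Finset.mem_biUnion] at hα
    obtain ⟨j, _, hj⟩ := hα
    by_contra hne
    exact (mem_support_iff.mp hj) ((hCp j).coeff_eq_zero hne)
  refine ⟨∑ α ∈ Tα, fpow f α • w α, ?_, ?_⟩
  · apply Submodule.sum_mem
    intro α hα
    exact Submodule.smul_mem_smul (fpow_mem f α d (hTdeg α hα)) (hwK α)
  · intro j
    have h1 : c j = ∑ α ∈ Tα, coeff α (Cp j) * fpow f α := by
      rw [← hCe j]
      apply eval_eq_sum_fpow
      intro α hα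
      rw [hTα, Finset.mem_biUnion]
      exact ⟨j, Finset.mem_univ _, hα⟩
    have h2 : (∑ α ∈ Tα, fpow f α • w α) j = ∑ α ∈ Tα, fpow f α * w α j := by
      simp [Finset.sum_apply]
    rw [h1, h2, ← Finset.sum_sub_distrib]
    apply Ideal.sum_mem
    intro α hα
    have : coeff α (Cp j) * fpow f α - fpow f α * w α j = fpow f α * (coeff α (Cp j) - w α j) := by
      ring
    rw [this, pow_succ]
    exact Ideal.mul_mem_mul (fpow_mem f α d (hTdeg α hα)) (hwI α j)

end L2

section Lift
variable {A : Type u} [CommRing A] {m : ℕ}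

/-- the sequence `Y_j - g_j` in `A[Y]` -/
noncomputable def hseq (g : Fin m → A) : Fin m → MvPolynomial (Fin m) A := fun j => X j - C (g j)

theorem lift1 (I : Ideal A) (g : Fin m → A) (k d : ℕ) (β : Fin m →₀ ℕ) (hβ : β.degree + d = k)
    (t : A) (ht : t ∈ I ^ d) (u : Fin m → A) (hu : u ∈ Kz g) :
    ∃ v ∈ Kz (hseq g), ∀ j, monomial β (t * u j) - v j ∈ Fil I (k + 1) := by
  classical
  have hmt : (monomial β t : MvPolynomial (Fin m) A) ∈ Fil I k :=
    monomial_mem_Fil I k β t (by rwa [show k - β.degree = d by omega])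
  refine Submodule.span_induction ?_ ?_ ?_ ?_ hu
  · rintro _ ⟨i, j', rfl⟩
    refine ⟨(-(monomial β t : MvPolynomial (Fin m) A)) •
      ((Pi.single i (hseq g j') - Pi.single j' (hseq g i) : Fin m → MvPolynomial (Fin m) A)),
      Submodule.smul_mem _ _ (Submodule.subset_span ⟨i, j', rfl⟩), fun j => ?_⟩
    have e : monomial β (t * (Pi.single i (g j') - Pi.single j' (g i) : Fin m → A) j) -
        ((-(monomial β t : MvPolynomial (Fin m) A)) •
          ((Pi.single i (hseq g j') - Pi.single j' (hseq g i) :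
            Fin m → MvPolynomial (Fin m) A))) j =
        (if j = i then X j' * monomial β t else 0) - (if j = j' then X i * monomial β t else 0) := by
      have hmon : ∀ x : A, (monomial β (t * x) : MvPolynomial (Fin m) A) = monomial β t * C x := by
        intro x
        rw [mul_comm (monomial β t), C_mul_monomial, mul_comm]
      rw [hmon]
      simp only [Pi.sub_apply, Pi.single_apply, Pi.smul_apply, smul_eq_mul, hseq]
      split_ifs <;> simp <;> ring
    rw [e]
    apply Submodule.sub_mem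
    · split_ifs
      · exact X_mul_mem_Fil I k j' _ hmt
      · exact Submodule.zero_mem _
    · split_ifs
      · exact X_mul_mem_Fil I k i _ hmt
      · exact Submodule.zero_mem _
  · exact ⟨0, Submodule.zero_mem _, fun j => by simp⟩
  · rintro x y _ _ ⟨v, hv, hvx⟩ ⟨v', hv', hvy⟩
    refine ⟨v + v', Submodule.add_mem _ hv hv', fun j => ?_⟩
    have : monomial β (t * (x + y) j) - (v + v') j =
        (monomial β (t * x j) - v j) + (monomial β (t * y j) - v' j) := by
      simp only [Pi.add_apply, mul_add, map_add]; ring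
    rw [this]
    exact Submodule.add_mem _ (hvx j) (hvy j)
  · rintro a x _ ⟨v, hv, hvx⟩
    refine ⟨(C a : MvPolynomial (Fin m) A) • v, Submodule.smul_mem _ _ hv, fun j => ?_⟩
    have : monomial β (t * (a • x) j) - ((C a : MvPolynomial (Fin m) A) • v) j =
        C a * (monomial β (t * x j) - v j) := by
      simp only [Pi.smul_apply, smul_eq_mul, mul_sub, C_mul_monomial]
      congr 2; ring
    rw [this]
    exact C_mul_mem_Fil I _ a _ (hvx j)

theorem lift2 (I : Ideal A) (g : Fin m → A) (k d : ℕ) (β : Fin m →₀ ℕ) (hβ : β.degree + d = k)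
    (w : Fin m → A) (hw : w ∈ (I ^ d) • (Kz g)) :
    ∃ v ∈ Kz (hseq g), ∀ j, monomial β (w j) - v j ∈ Fil I (k + 1) := by
  refine Submodule.smul_induction_on hw ?_ ?_
  · intro t ht u hu
    obtain ⟨v, hv, hvj⟩ := lift1 I g k d β hβ t ht u hu
    exact ⟨v, hv, fun j => by simpa using hvj j⟩
  · rintro x y ⟨v, hv, hvx⟩ ⟨v', hv', hvy⟩
    refine ⟨v + v', Submodule.add_mem _ hv hv', fun j => ?_⟩
    have : monomial β ((x + y) j) - (v + v') j =
        (monomial β (x j) - v j) + (monomial β (y j) - v' j) := by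
      simp only [Pi.add_apply, map_add]; ring
    rw [this]
    exact Submodule.add_mem _ (hvx j) (hvy j)

end Lift

section HkSec
variable {A : Type u} [CommRing A] {n m : ℕ}

theorem Hk (f : Fin n → A) (g : Fin m → A) (hf : CAlgX.IsQuasiRegular f)
    (hg : CAlgX.IsH1Regular (fun j => Ideal.Quotient.mk (Ideal.span (Set.range f)) (g j)))
    (k : ℕ) (a : Fin m → MvPolynomial (Fin m) A)
    (ha : ∀ j, a j ∈ Fil (Ideal.span (Set.range f)) k)
    (hsum : ∑ j, hseq g j * a j ∈ Fil (Ideal.span (Set.range f)) (k + 1)) :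
    ∃ v ∈ Kz (hseq g), ∀ j, a j - v j ∈ Fil (Ideal.span (Set.range f)) (k + 1) := by
  classical
  set I := Ideal.span (Set.range f) with hI
  have h1 : ∑ j, C (g j) * a j ∈ Fil I (k + 1) := by
    have : ∑ j, C (g j) * a j = ∑ j, X j * a j - ∑ j, hseq g j * a j := by
      simp only [hseq, sub_mul, Finset.sum_sub_distrib]; ring
    rw [this]
    exact Submodule.sub_mem _ (Submodule.sum_mem _ fun j _ => X_mul_mem_Fil I k j _ (ha j)) hsum
  have hβ : ∀ β : Fin m →₀ ℕ, ∃ v ∈ Kz (hseq g),
      ∀ j, monomial β (coeff β (a j)) - v j ∈ Fil I (k + 1) := by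
    intro β
    by_cases hle : β.degree ≤ k
    · obtain ⟨d, hd⟩ : ∃ d, β.degree + d = k := ⟨k - β.degree, by omega⟩
      have hc : ∀ j, coeff β (a j) ∈ I ^ d := by
        intro j
        have := ha j β
        rwa [show k - β.degree = d by omega] at this
      have hs : ∑ j, g j * coeff β (a j) ∈ I ^ (d + 1) := by
        have := h1 β
        rw [coeff_sum] at this
        simp only [coeff_C_mul] at this
        rwa [show k + 1 - β.degree = d + 1 by omega] at this
      obtain ⟨w, hw, hwc⟩ := L2 f g hf hg d (fun j => coeff β (a j)) hc hs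
      obtain ⟨v, hv, hvj⟩ := lift2 I g k d β hd w hw
      refine ⟨v, hv, fun j => ?_⟩
      have : monomial β (coeff β (a j)) - v j =
          monomial β (coeff β (a j) - w j) + (monomial β (w j) - v j) := by
        rw [map_sub]; ring
      rw [this]
      refine Submodule.add_mem _ (monomial_mem_Fil I (k + 1) β _ ?_) (hvj j)
      rw [show k + 1 - β.degree = d + 1 by omega]
      exact hwc j
    · refine ⟨0, Submodule.zero_mem _, fun j => ?_⟩
      simp only [Pi.zero_apply, sub_zero]
      apply monomial_mem_Fil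
      rw [show k + 1 - β.degree = 0 by omega]
      simp
  choose vβ hvK hvF using hβ
  set T : Finset (Fin m →₀ ℕ) := Finset.univ.biUnion (fun j => (a j).support) with hT
  refine ⟨∑ β ∈ T, vβ β, Submodule.sum_mem _ fun β _ => hvK β, fun j => ?_⟩
  have haj : a j = ∑ β ∈ T, monomial β (coeff β (a j)) := by
    conv_lhs => rw [as_sum (a j)]
    apply Finset.sum_subset
    · intro β hβ
      exact Finset.mem_biUnion.mpr ⟨j, Finset.mem_univ _, hβ⟩
    · intro β _ hβ
      rw [notMem_support_iff.mp hβ, map_zero]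
  have : a j - (∑ β ∈ T, vβ β) j = ∑ β ∈ T, (monomial β (coeff β (a j)) - vβ β j) := by
    rw [Finset.sum_sub_distrib, ← haj, Finset.sum_apply]
  rw [this]
  exact Submodule.sum_mem _ fun β _ => hvF β j

end HkSec

section Subst
variable {A : Type u} [CommRing A] {n m : ℕ}

theorem kerEval (g : Fin m → A) (Q : MvPolynomial (Fin m) A) (hQ : eval g Q = 0) :
    ∃ a : Fin m → MvPolynomial (Fin m) A, Q = ∑ j, hseq g j * a j := by
  set b : Ideal (MvPolynomial (Fin m) A) := Ideal.span (Set.range (hseq g)) with hb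
  have hmem : Q ∈ b := by
    have hhom : (Ideal.Quotient.mk b) =
        ((Ideal.Quotient.mk b).comp C).comp (eval g) := by
      apply MvPolynomial.ringHom_ext
      · intro a; simp
      · intro j
        simp only [RingHom.comp_apply, eval_X]
        rw [Ideal.Quotient.eq]
        exact Ideal.subset_span ⟨j, rfl⟩
    rw [← Ideal.Quotient.eq_zero_iff_mem, hhom, RingHom.comp_apply, hQ, map_zero]
  obtain ⟨c, hc⟩ := Ideal.mem_span_range_iff_exists_fun.mp hmem
  exact ⟨c, by rw [← hc]; simp only [mul_comm]⟩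

/-- the `X`-part of an exponent vector -/
noncomputable def dX (δ : Fin (n + m) →₀ ℕ) : Fin n →₀ ℕ :=
  Finsupp.equivFunOnFinite.symm (fun i => δ (Fin.castAdd m i))

/-- the `Y`-part of an exponent vector -/
noncomputable def dY (δ : Fin (n + m) →₀ ℕ) : Fin m →₀ ℕ :=
  Finsupp.equivFunOnFinite.symm (fun j => δ (Fin.natAdd n j))

@[simp] theorem dX_apply (δ : Fin (n + m) →₀ ℕ) (i : Fin n) : dX δ i = δ (Fin.castAdd m i) := rfl
@[simp] theorem dY_apply (δ : Fin (n + m) →₀ ℕ) (j : Fin m) : dY δ j = δ (Fin.natAdd n j) := rfl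

theorem degree_split (δ : Fin (n + m) →₀ ℕ) : δ.degree = (dX δ).degree + (dY δ).degree := by
  rw [Finsupp.degree_eq_sum, Finsupp.degree_eq_sum, Finsupp.degree_eq_sum, Fin.sum_univ_add]
  simp

theorem dXY_inj (δ δ' : Fin (n + m) →₀ ℕ) (hX : dX δ = dX δ') (hY : dY δ = dY δ') : δ = δ' := by
  ext k
  refine Fin.addCases (fun i => ?_) (fun j => ?_) k
  · have := DFunLike.congr_fun hX i
    simpa using this
  · have := DFunLike.congr_fun hY j
    simpa using this

/-- substitute `X ↦ f`, keeping `Y` -/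
noncomputable def sub (f : Fin n → A) : MvPolynomial (Fin (n + m)) A →ₐ[A] MvPolynomial (Fin m) A :=
  aeval (Fin.append (fun i => (C (f i) : MvPolynomial (Fin m) A)) (fun j => X j))

theorem sub_monomial (f : Fin n → A) (δ : Fin (n + m) →₀ ℕ) (p : A) :
    sub (m := m) f (monomial δ p) = monomial (dY δ) (p * fpow f (dX δ)) := by
  rw [sub, aeval_monomial, Finsupp.prod_fintype _ _ (fun i => by simp), Fin.prod_univ_add]
  simp only [Fin.append_left, Fin.append_right]
  have h1 : ∏ i : Fin n, (C (f i) : MvPolynomial (Fin m) A) ^ δ (Fin.castAdd m i) =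
      C (fpow f (dX δ)) := by
    rw [fpow, map_prod]
    simp
  have h2 : ∏ j : Fin m, (X j : MvPolynomial (Fin m) A) ^ δ (Fin.natAdd n j) =
      monomial (dY δ) 1 := by
    rw [monomial_eq, Finsupp.prod_fintype _ _ (fun i => by simp)]
    simp
  rw [h1, h2, algebraMap_eq, ← mul_assoc, ← map_mul, C_mul_monomial, mul_one]

theorem sub_eq_sum (f : Fin n → A) (P : MvPolynomial (Fin (n + m)) A) :
    sub (m := m) f P = ∑ δ ∈ P.support, monomial (dY δ) (coeff δ P * fpow f (dX δ)) := by
  conv_lhs => rw [as_sum P]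
  rw [map_sum]
  exact Finset.sum_congr rfl fun δ _ => sub_monomial f δ _

theorem sub_mem_Fil (f : Fin n → A) (N : ℕ) (P : MvPolynomial (Fin (n + m)) A)
    (hP : P.IsHomogeneous N) : sub (m := m) f P ∈ Fil (Ideal.span (Set.range f)) N := by
  rw [sub_eq_sum]
  apply Submodule.sum_mem
  intro δ hδ
  apply monomial_mem_Fil
  apply Ideal.mul_mem_left
  apply fpow_mem
  have h1 : δ.degree = N := by
    by_contra hne
    exact (mem_support_iff.mp hδ) (hP.coeff_eq_zero hne)
  have := degree_split δ
  omega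

theorem eval_sub (f : Fin n → A) (g : Fin m → A) (P : MvPolynomial (Fin (n + m)) A) :
    eval g (sub f P) = eval (Fin.append f g) P := by
  have : (eval g).comp (sub (m := m) f).toRingHom = eval (Fin.append f g) := by
    apply MvPolynomial.ringHom_ext
    · intro a; simp [sub]
    · intro k
      refine Fin.addCases (fun i => ?_) (fun j => ?_) k
      · simp [sub]
      · simp [sub]
  exact RingHom.congr_fun this P

/-- the `Y^β`-coefficient of `P` as a polynomial in `X` -/
noncomputable def Theta (β : Fin m →₀ ℕ) (P : MvPolynomial (Fin (n + m)) A) :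
    MvPolynomial (Fin n) A := by
  classical
  exact ∑ δ ∈ P.support.filter (fun δ => dY δ = β), monomial (dX δ) (coeff δ P)

theorem eval_Theta (f : Fin n → A) (β : Fin m →₀ ℕ) (P : MvPolynomial (Fin (n + m)) A) :
    eval f (Theta β P) = coeff β (sub (m := m) f P) := by
  classical
  rw [Theta, map_sum, sub_eq_sum, coeff_sum, Finset.sum_filter]
  apply Finset.sum_congr rfl
  intro δ _
  rw [coeff_monomial, eval_monomial_one]

theorem Theta_homog (β : Fin m →₀ ℕ) (N d : ℕ) (hd : d + β.degree = N)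
    (P : MvPolynomial (Fin (n + m)) A) (hP : P.IsHomogeneous N) : (Theta β P).IsHomogeneous d := by
  classical
  rw [Theta]
  apply IsHomogeneous.sum
  intro δ hδ
  rw [Finset.mem_filter] at hδ
  apply isHomogeneous_monomial
  have h1 : δ.degree = N := by
    by_contra hne
    exact (mem_support_iff.mp hδ.1) (hP.coeff_eq_zero hne)
  have := degree_split δ
  rw [hδ.2] at this
  omega

theorem coeff_Theta (δ₀ : Fin (n + m) →₀ ℕ) (P : MvPolynomial (Fin (n + m)) A) :
    coeff (dX δ₀) (Theta (dY δ₀) P) = coeff δ₀ P := by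
  classical
  rw [Theta, coeff_sum]
  by_cases h0 : δ₀ ∈ P.support
  · rw [Finset.sum_eq_single δ₀]
    · simp
    · intro δ hδ hne
      rw [Finset.mem_filter] at hδ
      rw [coeff_monomial, if_neg]
      intro hX
      exact hne (dXY_inj δ δ₀ hX hδ.2)
    · intro hn
      exact absurd (Finset.mem_filter.mpr ⟨h0, (rfl : dY δ₀ = dY δ₀)⟩) hn
  · rw [notMem_support_iff.mp h0]
    apply Finset.sum_eq_zero
    intro δ hδ
    rw [Finset.mem_filter] at hδ
    rw [coeff_monomial, if_neg]
    intro hX
    exact h0 (dXY_inj δ δ₀ hX hδ.2 ▸ hδ.1)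

end Subst
/-- Appending to a quasi-regular sequence `f` a sequence `g` whose image modulo the ideal `(f)` is
`H_1`-regular yields a quasi-regular sequence. -/
theorem result {A : Type u} [CommRing A] {n m : ℕ} (f : Fin n → A)
    (g : Fin m → A) (hf : CAlgX.IsQuasiRegular f)
    (hg : CAlgX.IsH1Regular (fun j => Ideal.Quotient.mk (Ideal.span (Set.range f)) (g j))) :
    CAlgX.IsQuasiRegular (Fin.append f g) := by
  classical
  intro N P hP hPe δ₀
  set I := Ideal.span (Set.range f) with hI
  set J := Ideal.span (Set.range (Fin.append f g)) with hJ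
  have hIJ : I ≤ J := by
    rw [hI, Ideal.span_le]
    rintro _ ⟨i, rfl⟩
    exact Ideal.subset_span ⟨Fin.castAdd m i, by simp⟩
  have hgJ : ∀ j, g j ∈ J := fun j => Ideal.subset_span ⟨Fin.natAdd n j, by simp⟩
  by_cases hδ0 : coeff δ₀ P = 0
  · rw [hδ0]; exact Ideal.zero_mem _
  have hdeg : δ₀.degree = N := by
    by_contra hne
    exact hδ0 (hP.coeff_eq_zero hne)
  obtain ⟨Q', hQ'h, hQ'e⟩ := (Ideal.mem_span_pow_iff_exists_isHomogeneous _ _).mp hPe
  set Qt := sub (m := m) f P - sub (m := m) f Q' with hQt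
  have hQtF : Qt ∈ Fil I N :=
    Submodule.sub_mem _ (sub_mem_Fil f N P hP)
      (Fil_anti I (Nat.le_succ N) (sub_mem_Fil f (N + 1) Q' hQ'h))
  have hQt0 : eval g Qt = 0 := by
    rw [hQt, map_sub, eval_sub, eval_sub, hQ'e, sub_self]
  obtain ⟨a, ha⟩ := kerEval g Qt hQt0
  obtain ⟨v, hv, hr⟩ := abs_lemma (fun N => (Fil (m := m) I N).toAddSubgroup)
    (by ext x; simpa using Fil_zero I x)
    (fun N => by intro x hx; exact Fil_anti I (Nat.le_succ N) hx) (hseq g)
    (fun k a ha hs => Hk f g hf hg k a ha hs) N a (by rw [← ha]; exact hQtF)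
  set r := fun j => a j - v j with hrdef
  have hQr : Qt = ∑ j, hseq g j * r j := by
    rw [ha]
    simp only [hrdef, mul_sub, Finset.sum_sub_distrib, sum_Kz _ v hv, sub_zero]
  set β := dY δ₀ with hβ
  set d := (dX δ₀).degree with hd
  have hsplit : N = d + β.degree := by rw [← hdeg, degree_split δ₀]
  have hrF : ∀ j, r j ∈ Fil I N := fun j => hr j
  have hc : ∀ j, coeff β (r j) ∈ I ^ d := by
    intro j
    have := hrF j β
    rwa [show N - β.degree = d by omega] at this
  have hkey : eval f (Theta β P) + ∑ j, g j * coeff β (r j) ∈ I ^ (d + 1) := by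
    have e1 : coeff β Qt = eval f (Theta β P) - coeff β (sub (m := m) f Q') := by
      rw [hQt, coeff_sub, eval_Theta]
    have e2 : coeff β Qt = ∑ j, coeff β (X j * r j) - ∑ j, g j * coeff β (r j) := by
      rw [hQr, coeff_sum, ← Finset.sum_sub_distrib]
      apply Finset.sum_congr rfl
      intro j _
      rw [hseq, sub_mul, coeff_sub, coeff_C_mul]
    have e3 : eval f (Theta β P) + ∑ j, g j * coeff β (r j) =
        coeff β (sub (m := m) f Q') + ∑ j, coeff β (X j * r j) := by
      linear_combination e2 - e1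
    rw [e3]
    apply Ideal.add_mem
    · have := sub_mem_Fil f (N + 1) Q' hQ'h β
      rwa [show N + 1 - β.degree = d + 1 by omega] at this
    · apply Ideal.sum_mem
      intro j _
      have := X_mul_mem_Fil I N j (r j) (hrF j) β
      rwa [show N + 1 - β.degree = d + 1 by omega] at this
  have hc' : ∀ j, ∃ Cj : MvPolynomial (Fin n) A, Cj.IsHomogeneous d ∧
      eval f Cj = coeff β (r j) := fun j =>
    (Ideal.mem_span_pow_iff_exists_isHomogeneous f _).mp (hc j)
  choose Cp hCp hCe using hc'
  set T : MvPolynomial (Fin n) A := Theta β P + ∑ j, C (g j) * Cp j with hT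
  have hTh : T.IsHomogeneous d := by
    apply IsHomogeneous.add
    · exact Theta_homog β N d (by omega) P hP
    · apply IsHomogeneous.sum
      intro j _
      have := (isHomogeneous_C (Fin n) (g j)).mul (hCp j)
      rwa [zero_add] at this
  have hTe : eval f T ∈ I ^ (d + 1) := by
    have : eval f T = eval f (Theta β P) + ∑ j, g j * coeff β (r j) := by
      simp only [hT, map_add, map_sum, map_mul, eval_C, hCe]
    rw [this]; exact hkey
  have hfin := hf d T hTh hTe (dX δ₀)
  rw [hT, coeff_add, hβ, coeff_Theta, coeff_sum] at hfin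
  simp only [coeff_C_mul] at hfin
  have : coeff δ₀ P = (coeff δ₀ P + ∑ j, g j * coeff (dX δ₀) (Cp j)) -
      ∑ j, g j * coeff (dX δ₀) (Cp j) := by ring
  rw [this]
  exact Ideal.sub_mem _ (hIJ hfin) (Ideal.sum_mem _ fun j _ => Ideal.mul_mem_right _ _ (hgJ j))

end Groth.Agent.S2104
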