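import Groth.Statements.S2103
import Groth.Agent.S2104
import Mathlib

set_option autoImplicit false
universe u
open CAlg

namespace Groth.Agent.S2103

open MvPolynomial

theorem empty_qr {R : Type u} [CommRing R] (e : Fin 0 → R) : CAlgX.IsQuasiRegular e := by
  intro N P _ hPe d
  have hI : Ideal.span (Set.range e) = ⊥ := by
    rw [Ideal.span_eq_bot]
    rintro _ ⟨i, rfl⟩
    exact i.elim0
  rw [hI] at hPe ⊢
  have h0 : eval e P = 0 := by
    have : (⊥ : Ideal R) ^ (N + 1) = ⊥ := by
      rw [← Ideal.zero_eq_bot, zero_pow (Nat.succ_ne_zero N)]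
    rw [this] at hPe
    exact hPe
  have hP : P = C (coeff 0 P) := eq_C_of_isEmpty P
  rw [hP, eval_C] at h0
  rw [hP, h0, map_zero, coeff_zero]
  exact Ideal.zero_mem _

theorem hg_of {R : Type u} [CommRing R] {c : ℕ} (f : Fin c → R) (hf : CAlgX.IsH1Regular f)
    (I : Ideal R) (hI : I = ⊥) :
    CAlgX.IsH1Regular (fun j => Ideal.Quotient.mk I (f j)) := by
  classical
  intro abar habar
  have hsurj : ∀ j, ∃ a : R, Ideal.Quotient.mk I a = abar j := fun j =>
    Ideal.Quotient.mk_surjective (abar j)
  choose a ha using hsurj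
  have hsum : ∑ j, a j * f j = 0 := by
    have : Ideal.Quotient.mk I (∑ j, a j * f j) = 0 := by
      rw [map_sum]
      simp only [map_mul, ha]
      exact habar
    rw [Ideal.Quotient.eq_zero_iff_mem, hI] at this
    exact this
  have hmem := hf a hsum
  have key : ∀ x ∈ Submodule.span R {v : Fin c → R | ∃ i j : Fin c,
      v = Pi.single i (f j) - Pi.single j (f i)},
      (fun j => Ideal.Quotient.mk I (x j)) ∈ Submodule.span (R ⧸ I)
        {v : Fin c → R ⧸ I | ∃ i j : Fin c,
          v = Pi.single i (Ideal.Quotient.mk I (f j)) - Pi.single j (Ideal.Quotient.mk I (f i))} := by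
    intro x hx
    refine Submodule.span_induction ?_ ?_ ?_ ?_ hx
    · rintro _ ⟨i, j, rfl⟩
      apply Submodule.subset_span
      refine ⟨i, j, ?_⟩
      ext k
      simp only [Pi.sub_apply, Pi.single_apply, map_sub]
      congr 1 <;> split_ifs <;> simp
    · have : (fun j => Ideal.Quotient.mk I ((0 : Fin c → R) j)) = 0 := by
        funext j; simp
      rw [this]
      exact Submodule.zero_mem _
    · intro x y _ _ hx hy
      have : (fun j => Ideal.Quotient.mk I ((x + y) j)) =
          (fun j => Ideal.Quotient.mk I (x j)) + (fun j => Ideal.Quotient.mk I (y j)) := by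
        funext j; simp
      rw [this]
      exact Submodule.add_mem _ hx hy
    · intro r x _ hx
      have : (fun j => Ideal.Quotient.mk I ((r • x) j)) =
          (Ideal.Quotient.mk I r) • (fun j => Ideal.Quotient.mk I (x j)) := by
        funext j; simp
      rw [this]
      exact Submodule.smul_mem _ _ hx
  have := key a hmem
  convert this using 1
  ext j
  exact (ha j).symm
/-- Case `M = R`: an `H_1`-regular sequence in a ring (first Koszul homology zero) is quasi-regular (the
associated graded of the ideal it generates is a polynomial ring over the quotient). -/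
theorem result {R : Type u} [CommRing R] {c : ℕ} (f : Fin c → R) (hf : CAlgX.IsH1Regular f) :
    CAlgX.IsQuasiRegular f := by
  classical
  have hI : Ideal.span (Set.range (Fin.elim0 : Fin 0 → R)) = ⊥ := by
    rw [Ideal.span_eq_bot]
    rintro _ ⟨i, rfl⟩
    exact i.elim0
  have hmain := Groth.Agent.S2104.result (Fin.elim0 : Fin 0 → R) f (empty_qr _)
    (hg_of f hf _ hI)
  intro N P hP hPe d
  have hφinj : Function.Injective (Fin.natAdd 0 : Fin c → Fin (0 + c)) := Fin.natAdd_injective _ _
  have hcomp : (Fin.append (Fin.elim0 : Fin 0 → R) f) ∘ (Fin.natAdd 0 : Fin c → Fin (0 + c)) = f := by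
    ext j
    simp [Fin.append_right]
  have hrange : Set.range (Fin.append (Fin.elim0 : Fin 0 → R) f) = Set.range f := by
    ext x
    constructor
    · rintro ⟨k, rfl⟩
      refine Fin.addCases (fun i => i.elim0) (fun j => ?_) k
      exact ⟨j, by rw [Fin.append_right]⟩
    · rintro ⟨j, rfl⟩
      exact ⟨Fin.natAdd 0 j, by rw [Fin.append_right]⟩
  have := hmain N (rename (Fin.natAdd 0) P) hP.rename_isHomogeneous
    (by rw [eval_rename, hcomp, hrange]; exact hPe) (Finsupp.mapDomain (Fin.natAdd 0) d)
  rw [coeff_rename_mapDomain _ hφinj, hrange] at this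
  exact this

end Groth.Agent.S2103
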