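import Groth.Statements.S9252
import Groth.Agent.S3826
import Groth.Agent.Lib.Helper9.QRegDescent
-- import your own Groth.Agent.* helpers here

set_option autoImplicit false
universe u
attribute [local instance] HasDerivedCategory.standard
open CategoryTheory
open PP16

namespace Groth.Agent.S9252

/-- Let A → B be faithfully flat and I an ideal of A. If IB is a quasi-regular ideal of B then I is a
quasi-regular ideal of A. -/
theorem result (A B : Type u) [CommRing A] [CommRing B]
    [Algebra A B] [Module.FaithfullyFlat A B] (I : Ideal A)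
    (h : PP16.IsLocallyQuasiRegular B (Ideal.map (algebraMap A B) I)) :
    PP16.IsLocallyQuasiRegular A I := by
  obtain ⟨hFG, hproj, hsym⟩ := (Groth.Agent.S3826.result B _).mp h
  have hFG_A : I.FG := Ideal.FG.of_FG_map_of_faithfullyFlat hFG
  haveI : Module.Finite (B ⧸ Ideal.map (algebraMap A B) I) (Ideal.map (algebraMap A B) I).Cotangent :=
    Groth.Agent.Lib.Helper9.QRegLocalB.finite_cotangent _ hFG
  haveI := hproj
  obtain ⟨_, hprojA⟩ := Groth.Agent.Lib.Helper9.QRegDescent.finite_projective_cotangent (R' := B) I
  haveI := hprojA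
  have hinj := Groth.Agent.Lib.Helper9.QRegDescent.canon_injective_descent (R' := B) I
    ((Groth.Agent.Lib.Helper13.SymGrA.symGrBijective_iff _).mp hsym)
  exact (Groth.Agent.S3826.result A I).mpr
    ⟨hFG_A, hprojA, (Groth.Agent.Lib.Helper13.SymGrA.symGrBijective_iff I).mpr hinj⟩

end Groth.Agent.S9252
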