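import Groth.Statements.S3405
import Groth.Agent.Lib.Helper87.SamuelLower
import Groth.Agent.Lib.Helper87.PolyGrowth
import Groth.Agent.Lib.Helper29.DimTheory

set_option autoImplicit false
universe u
open EGA41
open Groth.Agent.Lib.Helper87.SamuelFn Groth.Agent.Lib.Helper87.HSArith Groth.Agent.Lib.Helper87.PolyGrowth

namespace Groth.Agent.S3405

/-- The degree of the Hilbert–Samuel polynomial equals the dimension: let A be a Noetherian ring with
finitely many maximal ideals, r its Jacobson radical and M a nonzero finitely generated A-module.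
Then there is a polynomial P with rational coefficients such that the length of M/rⁿM is finite and
equals P(n) for all large n, and the degree of P is the dimension of M (the Krull dimension of its
support). -/
theorem result (A : Type u) [CommRing A] [IsNoetherianRing A]
    [Finite (MaximalSpectrum A)] (M : Type u) [AddCommGroup M] [Module A M] [Module.Finite A M] [Nontrivial M] :
    ∃ P : Polynomial ℚ,
      (∃ N : ℕ, ∀ n : ℕ, N ≤ n →
        ∃ ℓ : ℕ, Module.length A (M ⧸ (Ring.jacobson A ^ n • (⊤ : Submodule A M))) = ℓ ∧ (ℓ : ℚ) = P.eval (n : ℚ)) ∧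
      (P.natDegree : WithBot ℕ∞) = Module.supportDim A M := by
  classical
  obtain ⟨d, hd⟩ := Groth.Agent.Lib.Helper29.DimTheory.exists_nat_supportDim A M
  set r := Ring.jacobson A with hr
  -- generators of the radical
  obtain ⟨s, a, ha⟩ := Submodule.fg_iff_exists_fin_generating_family.mp
    (IsNoetherian.noetherian r)
  -- finiteness of the lengths
  have hfin1 : chi r M 1 ≠ ⊤ := by
    rw [chi_def, Module.length_ne_top_iff, pow_one]
    apply isFiniteLength_of_supportDim_le_zero
    apply supportDim_le_zero_of_forall_isMaximal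
    intro p hp
    rw [Module.support_quotient] at hp
    have := p.2
    exact Groth.Agent.Lib.Helper29.DimTheory.isMaximal_of_jacobson_le hp.2
  have hfin : ∀ n, chi r M n ≠ ⊤ := chi_ne_top_of_one r M hfin1
  -- the Hilbert–Samuel polynomial
  have hHS : IsHS (s + 1) (fun n => ((chi r M n).toNat : ℤ)) := by
    have h1 := isHS_chi (M := M) a (by rw [show Ideal.span (Set.range a) = r from ha]; exact hfin)
    rwa [show Ideal.span (Set.range a) = r from ha] at h1
  obtain ⟨P, -, N, hP⟩ := hHS.exists_poly
  have hP' : ∀ n, N ≤ n → ((chi r M n).toNat : ℚ) = P.eval (n : ℚ) := by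
    intro n hn
    have := hP n hn
    push_cast at this
    exact this
  refine ⟨P, ⟨N, fun n hn => ⟨(chi r M n).toNat, (ENat.natCast_toNat (hfin n)).symm, hP' n hn⟩⟩, ?_⟩
  -- the degree: upper bound through a system of parameters
  have hupper : P.natDegree ≤ d := by
    obtain ⟨ys, hys, hlen, hle⟩ := Groth.Agent.Lib.Helper29.DimTheory.exists_parameters d M hd
    set q := Ideal.ofList ys with hq
    have hqr : q ≤ r := Ideal.span_le.mpr fun y hy => hys y hy
    let a' : Fin d → A := fun i => ys.get (i.cast hlen.symm)
    have ha' : Ideal.span (Set.range a') = q := by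
      rw [hq, Ideal.ofList]
      congr 1
      ext y
      simp only [Set.mem_range, a', Set.mem_ofPred_eq]
      constructor
      · rintro ⟨i, rfl⟩
        exact List.get_mem _ _
      · intro hy
        obtain ⟨i, rfl⟩ := List.get_of_mem hy
        exact ⟨i.cast hlen, by simp⟩
    have hqfin1 : chi q M 1 ≠ ⊤ := by
      rw [chi_def, Module.length_ne_top_iff, pow_one]
      exact isFiniteLength_of_supportDim_le_zero _ hle
    have hqfin : ∀ n, chi q M n ≠ ⊤ := chi_ne_top_of_one q M hqfin1
    have hHSq : IsHS (d + 1) (fun n => ((chi q M n).toNat : ℤ)) := by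
      have h1 := isHS_chi (M := M) a' (by rw [ha']; exact hqfin)
      rwa [ha'] at h1
    obtain ⟨Q, hQdeg, N', hQ⟩ := hHSq.exists_poly
    refine natDegree_le_of_eventually_le P Q d hQdeg ?_
    filter_upwards [Filter.eventually_ge_atTop N, Filter.eventually_ge_atTop N'] with n hn hn'
    rw [← hP' n hn]
    refine ⟨by positivity, ?_⟩
    have h2 := hQ n hn'
    push_cast at h2
    rw [← h2]
    have h3 : (chi r M n).toNat ≤ (chi q M n).toNat :=
      ENat.toNat_le_toNat (chi_le_of_le M hqr n) (hqfin n)
    exact_mod_cast h3
  -- lower bound through a chain of primes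
  have hlower : d ≤ P.natDegree := by
    obtain ⟨C, hC, c, hCt⟩ := exists_pow_le_mul_chi M r le_rfl d hd.ge
    refine le_natDegree_of_eventually_pow_le P d c (C : ℚ) ?_
    filter_upwards [Filter.eventually_ge_atTop N, Filter.eventually_ge_atTop (c + 1)] with n hn hnc
    rw [← hP' n hn]
    have h1 := hCt (n - c) (by omega)
    rw [Nat.sub_add_cancel (by omega)] at h1
    have h2 : ((n - c) ^ d : ℕ) ≤ C * (chi r M n).toNat := by
      have h3 : (((n - c) ^ d : ℕ) : ℕ∞) ≤ ((C * (chi r M n).toNat : ℕ) : ℕ∞) := by
        rw [Nat.cast_mul, ENat.natCast_toNat (hfin n)]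
        exact h1
      exact_mod_cast h3
    exact_mod_cast h2
  rw [hd]
  exact_mod_cast le_antisymm hupper hlower

end Groth.Agent.S3405
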