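import Groth.Statements.S18539
import Mathlib.Tactic
-- import your own Groth.Agent.* helpers here

set_option autoImplicit false
universe u v w
open CAlg

namespace Groth.Agent.S18539
open scoped Pointwise

/-- For a commutative ring R, R-modules M and N and elements r₁, r₂ of R such that r₁ is a
non-zero-divisor on N and r₂ is a non-zero-divisor on N/r₁N, the element r₁ is a non-zero-divisor on
the module Hom_R(M, N) and r₂ is a non-zero-divisor on Hom_R(M, N)/r₁Hom_R(M, N). (Weak regularity
on both sides: no condition that the quotient by (r₁, r₂) is nonzero, which would fail for M = 0.) -/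
theorem result
    (R : Type u) [CommRing R] (M : Type v) (N : Type w)
    [AddCommGroup M] [Module R M] [AddCommGroup N] [Module R N]
    (r₁ r₂ : R) (h : RingTheory.Sequence.IsWeaklyRegular N [r₁, r₂]) :
    RingTheory.Sequence.IsWeaklyRegular (M →ₗ[R] N) [r₁, r₂] := by
  rw [RingTheory.Sequence.isWeaklyRegular_cons_iff, RingTheory.Sequence.isWeaklyRegular_cons_iff] at h ⊢
  obtain ⟨h1, h2, -⟩ := h
  have h1' : IsSMulRegular (M →ₗ[R] N) r₁ := by
    intro f g hfg
    ext m
    apply h1
    simpa using congrArg (fun φ : M →ₗ[R] N => φ m) hfg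
  refine ⟨h1', ?_, RingTheory.Sequence.IsWeaklyRegular.nil _ _⟩
  rw [isSMulRegular_quotient_iff_mem_of_smul_mem] at h2 ⊢
  intro f hf
  rw [Submodule.mem_smul_pointwise_iff_exists] at hf ⊢
  obtain ⟨g, -, hg⟩ := hf
  -- r₁ g = r₂ f
  have key : ∀ m, ∃ n : N, r₁ • n = f m := by
    intro m
    have : r₂ • f m ∈ r₁ • (⊤ : Submodule R N) := by
      rw [Submodule.mem_smul_pointwise_iff_exists]
      refine ⟨g m, trivial, ?_⟩
      have := congrArg (fun φ : M →ₗ[R] N => φ m) hg
      simpa using this
    have := h2 (f m) this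
    rw [Submodule.mem_smul_pointwise_iff_exists] at this
    obtain ⟨n, -, hn⟩ := this
    exact ⟨n, hn⟩
  choose h hh using key
  refine ⟨{ toFun := h, map_add' := ?_, map_smul' := ?_ }, trivial, ?_⟩
  · intro x y
    apply h1
    simp only [smul_add, hh, map_add]
  · intro c x
    apply h1
    simp only [RingHom.id_apply, hh, map_smul]
    rw [smul_comm, hh]
  · ext m
    simp [hh]

end Groth.Agent.S18539
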