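import Groth.Statements.S6876
import Groth.Agent.S18539
import Mathlib
-- import your own Groth.Agent.* helpers here

set_option autoImplicit false
universe u
open CAlg

namespace Groth.Agent.S6876


open RingTheory.Sequence in
theorem le_depth_of_regular {R : Type u} [CommRing R] [IsLocalRing R] (X : Type u) [AddCommGroup X]
    [Module R X] (rs : List R) (h : IsWeaklyRegular X rs)
    (hm : ∀ r ∈ rs, r ∈ IsLocalRing.maximalIdeal R) : (rs.length : ℕ∞) ≤ LocCoh.depth R X := by
  unfold LocCoh.depth LocCoh.idealDepth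
  split_ifs
  · exact le_top
  · exact le_iSup₂_of_le rs ⟨h, hm⟩ le_rfl

open RingTheory.Sequence in
theorem exists_regular_of_le_depth {R : Type u} [CommRing R] [IsLocalRing R] (N : Type u)
    [AddCommGroup N] [Module R N] (k : ℕ) (hk : (k : ℕ∞) ≤ LocCoh.depth R N)
    (hN : IsLocalRing.maximalIdeal R • (⊤ : Submodule R N) ≠ ⊤) :
    ∃ rs : List R, IsWeaklyRegular N rs ∧ (∀ r ∈ rs, r ∈ IsLocalRing.maximalIdeal R) ∧
      k ≤ rs.length := by
  unfold LocCoh.depth LocCoh.idealDepth at hk
  rw [if_neg hN] at hk
  by_contra hcon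
  push Not at hcon
  rcases Nat.eq_zero_or_pos k with rfl | hkpos
  · exact absurd (Nat.zero_le _) (not_le.mpr (hcon [] (IsWeaklyRegular.nil R N) (by simp)))
  have hle : (⨆ (rs : List R) (_ : IsWeaklyRegular N rs ∧ ∀ r ∈ rs, r ∈ IsLocalRing.maximalIdeal R),
      (rs.length : ℕ∞)) ≤ ((k - 1 : ℕ) : ℕ∞) := by
    refine iSup₂_le fun rs hrs => ?_
    have := hcon rs hrs.1 hrs.2
    exact_mod_cast Nat.le_sub_one_of_lt this
  have : (k : ℕ∞) ≤ ((k - 1 : ℕ) : ℕ∞) := hk.trans hle
  have h2 : k ≤ k - 1 := by exact_mod_cast this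
  omega

/-- Let `R` be a Noetherian local ring and `M, N` finite `R`-modules. If `N` has depth `≥ 1` then so
does `Hom_R(M, N)`; if `N` has depth `≥ 2` then so does `Hom_R(M, N)`. -/
theorem result (R : Type u) [CommRing R] [IsNoetherianRing R] [IsLocalRing R]
    (M N : Type u) [AddCommGroup M] [Module R M] [Module.Finite R M] [AddCommGroup N] [Module R N] [Module.Finite R N] :
    (1 ≤ LocCoh.depth R N → 1 ≤ LocCoh.depth R (M →ₗ[R] N)) ∧
    (2 ≤ LocCoh.depth R N → 2 ≤ LocCoh.depth R (M →ₗ[R] N)) := by
  classical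
  have hHom_of_N_zero : IsLocalRing.maximalIdeal R • (⊤ : Submodule R N) = ⊤ →
      ∀ k : ℕ∞, k ≤ LocCoh.depth R (M →ₗ[R] N) := by
    intro hN k
    have hNbot : (⊤ : Submodule R N) = ⊥ := by
      apply Submodule.eq_bot_of_le_smul_of_le_jacobson_bot (IsLocalRing.maximalIdeal R) ⊤
        Module.Finite.fg_top
      · rw [hN]
      · exact IsLocalRing.maximalIdeal_le_jacobson ⊥
    have hsub : Subsingleton N := by
      constructor
      intro a b
      have ha : a ∈ (⊤ : Submodule R N) := trivial
      have hb : b ∈ (⊤ : Submodule R N) := trivial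
      rw [hNbot, Submodule.mem_bot] at ha hb
      rw [ha, hb]
    have hsub' : Subsingleton (M →ₗ[R] N) := by
      constructor
      intro a b
      ext m
      exact Subsingleton.elim _ _
    unfold LocCoh.depth LocCoh.idealDepth
    rw [if_pos (Subsingleton.elim _ _)]
    exact le_top
  constructor
  · intro h1
    by_cases hN : IsLocalRing.maximalIdeal R • (⊤ : Submodule R N) = ⊤
    · exact hHom_of_N_zero hN 1
    obtain ⟨rs, hreg, hmem, hlen⟩ := exists_regular_of_le_depth N 1 (by exact_mod_cast h1) hN
    match rs, hreg, hmem, hlen with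
    | r₁ :: rest, hreg, hmem, _ =>
      rw [RingTheory.Sequence.isWeaklyRegular_cons_iff] at hreg
      have hr : IsSMulRegular (M →ₗ[R] N) r₁ := by
        intro f g hfg
        ext m
        apply hreg.1
        simpa using congrArg (fun φ : M →ₗ[R] N => φ m) hfg
      have hw : RingTheory.Sequence.IsWeaklyRegular (M →ₗ[R] N) [r₁] := by
        rw [RingTheory.Sequence.isWeaklyRegular_cons_iff]
        exact ⟨hr, RingTheory.Sequence.IsWeaklyRegular.nil _ _⟩
      have := le_depth_of_regular (M →ₗ[R] N) [r₁] hw (by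
        intro r hr'
        rw [List.mem_singleton] at hr'
        subst hr'
        exact hmem _ (by simp))
      simpa using this
  · intro h2
    by_cases hN : IsLocalRing.maximalIdeal R • (⊤ : Submodule R N) = ⊤
    · exact hHom_of_N_zero hN 2
    obtain ⟨rs, hreg, hmem, hlen⟩ := exists_regular_of_le_depth N 2 (by exact_mod_cast h2) hN
    match rs, hreg, hmem, hlen with
    | r₁ :: r₂ :: rest, hreg, hmem, _ =>
      rw [RingTheory.Sequence.isWeaklyRegular_cons_iff,
        RingTheory.Sequence.isWeaklyRegular_cons_iff] at hreg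
      have hw0 : RingTheory.Sequence.IsWeaklyRegular N [r₁, r₂] := by
        rw [RingTheory.Sequence.isWeaklyRegular_cons_iff,
          RingTheory.Sequence.isWeaklyRegular_cons_iff]
        exact ⟨hreg.1, hreg.2.1, RingTheory.Sequence.IsWeaklyRegular.nil _ _⟩
      have hw := Groth.Agent.S18539.result R M N r₁ r₂ hw0
      have := le_depth_of_regular (M →ₗ[R] N) [r₁, r₂] hw (by
        intro r hr'
        simp only [List.mem_cons, List.not_mem_nil, or_false] at hr'
        rcases hr' with rfl | rfl
        · exact hmem _ (by simp)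
        · exact hmem _ (by simp))
      simpa using this

end Groth.Agent.S6876
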