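import Groth.Statements.S6880
import Groth.Agent.S6876
import Groth.Agent.Lib.Helper93.Reflexive5
-- import your own Groth.Agent.* helpers here

set_option autoImplicit false
universe u
open CAlg

namespace Groth.Agent.S6880


theorem depth_congr {R : Type u} [CommRing R] [IsLocalRing R] {X Y : Type u} [AddCommGroup X]
    [Module R X] [AddCommGroup Y] [Module R Y] (e : X ≃ₗ[R] Y) :
    LocCoh.depth R X = LocCoh.depth R Y := by
  have key : ∀ {X Y : Type u} [AddCommGroup X] [Module R X] [AddCommGroup Y] [Module R Y]
      (e : X ≃ₗ[R] Y), IsLocalRing.maximalIdeal R • (⊤ : Submodule R X) = ⊤ →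
      IsLocalRing.maximalIdeal R • (⊤ : Submodule R Y) = ⊤ := by
    intro X Y _ _ _ _ e h
    have := congrArg (Submodule.map e.toLinearMap) h
    rw [Submodule.map_smul'', Submodule.map_top, LinearMap.range_eq_top.2 e.surjective] at this
    exact this
  unfold LocCoh.depth LocCoh.idealDepth
  by_cases h : IsLocalRing.maximalIdeal R • (⊤ : Submodule R X) = ⊤
  · rw [if_pos h, if_pos (key e h)]
  · have h' : ¬ IsLocalRing.maximalIdeal R • (⊤ : Submodule R Y) = ⊤ := fun h'' => h (key e.symm h'')
    rw [if_neg h, if_neg h']
    simp only [e.isWeaklyRegular_congr]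

theorem two_le_depth_localized (R : Type u) [CommRing R] [IsDomain R] [IsNoetherianRing R]
    (M : Type u) [AddCommGroup M] [Module R M] [Module.Finite R M] [Module.IsReflexive R M]
    (p : Ideal R) [p.IsPrime]
    (h : 2 ≤ LocCoh.depth (Localization.AtPrime p) (Localization.AtPrime p)) :
    2 ≤ LocCoh.depth (Localization.AtPrime p) (LocalizedModule p.primeCompl M) := by
  have hrefl : Module.IsReflexive (Localization.AtPrime p) (LocalizedModule p.primeCompl M) :=
    Groth.Agent.Lib.Helper93.Reflexive.isReflexive_localizedModule M p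
  have h2 := (Groth.Agent.S6876.result (Localization.AtPrime p)
    (Module.Dual (Localization.AtPrime p) (LocalizedModule p.primeCompl M))
    (Localization.AtPrime p)).2 h
  rw [depth_congr (Module.evalEquiv (Localization.AtPrime p) (LocalizedModule p.primeCompl M))]
  exact h2

/-- Let `R` be a Noetherian domain and `M` a finite reflexive `R`-module. For a prime `𝔭` with
`depth(R_𝔭) ≥ 2` one has `depth(M_𝔭) ≥ 2`; and if `R` has `(S_2)` then `M` has `(S_2)`. -/
theorem result (R : Type u) [CommRing R] [IsDomain R] [IsNoetherianRing R] (M : Type u)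
    [AddCommGroup M] [Module R M] [Module.Finite R M] [Module.IsReflexive R M] :
    (∀ (p : Ideal R) [p.IsPrime], 2 ≤ LocCoh.depth (Localization.AtPrime p) (Localization.AtPrime p) →
      2 ≤ LocCoh.depth (Localization.AtPrime p) (LocalizedModule p.primeCompl M)) ∧
    (LocCoh.HasSk 2 R R → LocCoh.HasSk 2 R M) := by
  refine ⟨fun p hp h => two_le_depth_localized R M p h, ?_⟩
  intro hR p hp
  have hRp := hR p
  rw [Module.supportDim_self_eq_ringKrullDim] at hRp
  have e0 : (0 : WithBot ℕ∞) = ((0 : ℕ∞) : WithBot ℕ∞) := rfl
  have e1 : (1 : WithBot ℕ∞) = ((1 : ℕ∞) : WithBot ℕ∞) := rfl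
  have e2 : ((2 : ℕ) : WithBot ℕ∞) = ((2 : ℕ∞) : WithBot ℕ∞) := rfl
  have hrefl : Module.IsReflexive (Localization.AtPrime p) (LocalizedModule p.primeCompl M) :=
    Groth.Agent.Lib.Helper93.Reflexive.isReflexive_localizedModule M p
  by_cases h2 : 2 ≤ LocCoh.depth (Localization.AtPrime p) (Localization.AtPrime p)
  · have := two_le_depth_localized R M p h2
    refine le_trans (min_le_left _ _) ?_
    rw [e2, WithBot.coe_le_coe]
    exact this
  · -- depth R_p ≤ 1, hence dim R_p ≤ 1
    have hsle := Module.supportDim_le_ringKrullDim (Localization.AtPrime p)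
      (LocalizedModule p.primeCompl M)
    refine le_trans (min_le_right _ _) ?_
    by_cases hs0 : Module.supportDim (Localization.AtPrime p) (LocalizedModule p.primeCompl M) ≤ 0
    · refine le_trans hs0 ?_
      rw [e0, WithBot.coe_le_coe]
      exact zero_le
    -- supportDim > 0, so dim R_p ≥ 1 and the maximal ideal is nonzero
    have hdimpos : ¬ ringKrullDim (Localization.AtPrime p) ≤ 0 := fun h => hs0 (hsle.trans h)
    have hmax : IsLocalRing.maximalIdeal (Localization.AtPrime p) ≠ ⊥ := by
      intro h
      have hf : IsField (Localization.AtPrime p) := IsLocalRing.isField_iff_maximalIdeal_eq.mpr h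
      exact hdimpos (ringKrullDim_eq_zero_of_isField hf).le
    obtain ⟨r, hr, hr0⟩ := Submodule.exists_mem_ne_zero_of_ne_bot hmax
    have hreg : IsSMulRegular (LocalizedModule p.primeCompl M) r :=
      (IsRegular.of_ne_zero hr0).isSMulRegular
    have hw : RingTheory.Sequence.IsWeaklyRegular (LocalizedModule p.primeCompl M) [r] := by
      rw [RingTheory.Sequence.isWeaklyRegular_cons_iff]
      exact ⟨hreg, RingTheory.Sequence.IsWeaklyRegular.nil _ _⟩
    have hd1 := Groth.Agent.S6876.le_depth_of_regular (LocalizedModule p.primeCompl M) [r] hw (by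
      intro x hx
      rw [List.mem_singleton] at hx
      subst hx
      exact hr)
    -- supportDim ≤ dim R_p ≤ 1
    have hdim1 : ringKrullDim (Localization.AtPrime p) ≤ 1 := by
      by_contra hcon
      have h2' : ((2 : ℕ) : WithBot ℕ∞) ≤ ringKrullDim (Localization.AtPrime p) := by
        rw [not_le] at hcon
        generalize ringKrullDim (Localization.AtPrime p) = x at hcon
        induction x using WithBot.recBotCoe with
        | bot => simp at hcon
        | coe a =>
          rw [e1, WithBot.coe_lt_coe] at hcon
          rw [e2, WithBot.coe_le_coe]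
          have := Order.add_one_le_of_lt hcon
          simpa [one_add_one_eq_two] using this
      rw [min_eq_left h2', e2, WithBot.coe_le_coe] at hRp
      exact h2 hRp
    refine le_trans (hsle.trans hdim1) ?_
    rw [e1, WithBot.coe_le_coe]
    simpa using hd1

end Groth.Agent.S6880
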