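import Groth.Statements.S18702
import Groth.Agent.Lib.Helper93.ReflexiveDepth2
-- import your own Groth.Agent.* helpers here

set_option autoImplicit false
universe u
open QGor

namespace Groth.Agent.S18702


open Groth.Agent.Lib.Helper93.ReflexiveDepth RingTheory.Sequence

/-- regular sequences of length `k ≤ 2` in `I` on `A` transfer to a reflexive module. -/
theorem le_idealDepth_of_isReflexive (A : Type u) [CommRing A] (I : Ideal A)
    (G : Type u) [AddCommGroup G] [Module A G] [Module.Finite A G] [Module.IsReflexive A G]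
    (k : ℕ) (hk : k = 1 ∨ k = 2) (h : (k : ℕ∞) ≤ LocCoh.idealDepth I A) :
    (k : ℕ∞) ≤ LocCoh.idealDepth I G := by
  classical
  by_cases hIG : I • (⊤ : Submodule A G) = ⊤
  · unfold LocCoh.idealDepth
    rw [if_pos hIG]
    exact le_top
  have hIA : I • (⊤ : Submodule A A) ≠ ⊤ := by
    intro hI
    apply hIG
    have h1 : I = ⊤ := by simpa using hI
    rw [h1, Submodule.top_smul]
  obtain ⟨rs, hrs, hI, hlen⟩ := exists_regular_of_le_idealDepth I A k h hIA
  -- reduce to a pair
  have key : ∃ x y : A, x ∈ I ∧ y ∈ I ∧ IsWeaklyRegular A [x, y] ∨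
      (k = 1 ∧ ∃ x : A, x ∈ I ∧ IsSMulRegular A x) := by
    match rs, hrs, hI, hlen with
    | [], _, _, hlen => rcases hk with rfl | rfl <;> simp at hlen
    | [x], hrs, hI, hlen =>
      rcases hk with rfl | rfl
      · refine ⟨x, x, Or.inr ⟨rfl, x, hI x (by simp), ?_⟩⟩
        rw [isWeaklyRegular_cons_iff] at hrs
        exact hrs.1
      · simp at hlen
    | x :: y :: rs', hrs, hI, _ =>
      refine ⟨x, y, Or.inl ⟨hI x (by simp), hI y (by simp), ?_⟩⟩
      rw [isWeaklyRegular_cons_iff] at hrs ⊢
      refine ⟨hrs.1, ?_⟩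
      have h2 := hrs.2
      rw [isWeaklyRegular_cons_iff] at h2 ⊢
      exact ⟨h2.1, IsWeaklyRegular.nil _ _⟩
  obtain ⟨x, y, hxy⟩ := key
  rcases hxy with ⟨hx, hy, hreg⟩ | ⟨rfl, x', hx', hreg'⟩
  · have h1 : IsWeaklyRegular (Module.Dual A (Module.Dual A G)) [x, y] :=
      Groth.Agent.S18539.result A (Module.Dual A G) A x y hreg
    have h2 : IsWeaklyRegular G [x, y] :=
      ((Module.evalEquiv A G).isWeaklyRegular_congr [x, y]).mpr h1
    have h3 := Groth.Agent.Lib.Helper29.DepthLib.length_le_idealDepth I G h2 (by
      intro r hr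
      simp only [List.mem_cons, List.not_mem_nil, or_false] at hr
      rcases hr with rfl | rfl
      · exact hx
      · exact hy)
    refine le_trans ?_ h3
    rcases hk with rfl | rfl <;> simp
  · have h1 : IsSMulRegular (Module.Dual A (Module.Dual A G)) x' := by
      intro φ ψ h
      refine LinearMap.ext fun l => ?_
      apply hreg'
      have := LinearMap.congr_fun h l
      simpa using this
    have h2 : IsWeaklyRegular G [x'] := by
      rw [(Module.evalEquiv A G).isWeaklyRegular_congr [x'], isWeaklyRegular_cons_iff]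
      exact ⟨h1, IsWeaklyRegular.nil _ _⟩
    have h3 := Groth.Agent.Lib.Helper29.DepthLib.length_le_idealDepth I G h2 (by
      intro r hr
      simp only [List.mem_cons, List.not_mem_nil, or_false] at hr
      rw [hr]; exact hx')
    simpa using h3

/-- Serre's condition passes from a Noetherian ring to a finite reflexive module (`k ≤ 2`). -/
theorem hasSk_of_isReflexive (A : Type u) [CommRing A] [IsNoetherianRing A]
    (G : Type u) [AddCommGroup G] [Module A G] [Module.Finite A G] [Module.IsReflexive A G]
    (k : ℕ) (hk : k ≤ 2) (h : LocCoh.HasSk k A A) : LocCoh.HasSk k A G := by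
  have hfp : Module.FinitePresentation A G := Module.finitePresentation_of_finite A G
  have hfp' : Module.FinitePresentation A (Module.Dual A G) :=
    Module.finitePresentation_of_finite A _
  intro p hp
  have hA := (Groth.Agent.Lib.Helper49.Serre.hasSk_self_iff A k).mp h p
  have hrefl : Module.IsReflexive (Localization.AtPrime p) (LocalizedModule p.primeCompl G) :=
    isReflexive_localizedModule' G p.primeCompl
  refine min_le_of_forall_le k _ (p.height : WithBot ℕ∞) _ _ ?_ hA ?_
  · rw [← IsLocalization.AtPrime.ringKrullDim_eq_height p (Localization.AtPrime p)]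
    exact Module.supportDim_le_ringKrullDim _ _
  · intro j hjk hj
    exact le_depth_of_isReflexive _ j (le_trans hjk hk) hj

/-- Affine form, for an arbitrary Noetherian ring A (not assumed to be a domain). Let I be an ideal and
G a finite reflexive A-module (the evaluation map into the double dual is bijective). For k = 1 and
k = 2: if depth_I A ≥ k then depth_I G ≥ k; and if A satisfies (S_k) then G satisfies (S_k). -/
theorem result (A : Type u) [CommRing A] [IsNoetherianRing A] (I : Ideal A)
    (G : Type u) [AddCommGroup G] [Module A G] [Module.Finite A G] [Module.IsReflexive A G] :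
    (1 ≤ LocCoh.idealDepth I A → 1 ≤ LocCoh.idealDepth I G) ∧
    (2 ≤ LocCoh.idealDepth I A → 2 ≤ LocCoh.idealDepth I G) ∧
    (LocCoh.HasSk 1 A A → LocCoh.HasSk 1 A G) ∧ (LocCoh.HasSk 2 A A → LocCoh.HasSk 2 A G) := by
  refine ⟨fun h => ?_, fun h => ?_, fun h => ?_, fun h => ?_⟩
  · exact_mod_cast le_idealDepth_of_isReflexive A I G 1 (Or.inl rfl) (by exact_mod_cast h)
  · exact_mod_cast le_idealDepth_of_isReflexive A I G 2 (Or.inr rfl) (by exact_mod_cast h)
  · exact hasSk_of_isReflexive A G 1 (by norm_num) h
  · exact hasSk_of_isReflexive A G 2 le_rfl h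

end Groth.Agent.S18702
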