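import Groth.Statements.S2053
-- import your own Groth.Agent.* helpers here
import Groth.Agent.Lib.Helper15.CohenFac

set_option linter.style.haveILetI false

set_option autoImplicit false
universe u
open CAlg

namespace Groth.Agent.S2053

/-- Consider a local homomorphism `A → B` between complete Noetherian local rings. Then there are power
series rings `R`, `S` in finitely many variables over coefficient rings which are both fields (when
the residue characteristic of `A` is zero) or both Cohen rings (when it is positive), surjections `R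
→ A`, `S → B` and a ring map `R → S` making the square commute, such that `R → S` is flat and `S/𝔪_R
S` is a regular ring. (The published statement also arranges that a regular system of parameters
maps into one; that is not asserted here.) -/
theorem result {A B : Type u} [CommRing A] [CommRing B]
    [IsLocalRing A] [IsLocalRing B] [IsNoetherianRing A] [IsNoetherianRing B]
    [IsAdicComplete (IsLocalRing.maximalIdeal A) A] [IsAdicComplete (IsLocalRing.maximalIdeal B) B]
    [Algebra A B] [IsLocalHom (algebraMap A B)] :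
    ∃ (Λ Λ' : Type u) (_ : CommRing Λ) (_ : CommRing Λ') (_ : IsLocalRing Λ) (n m : ℕ)
      (ρ : MvPowerSeries (Fin n) Λ →+* A) (σ : MvPowerSeries (Fin m) Λ' →+* B)
      (τ : MvPowerSeries (Fin n) Λ →+* MvPowerSeries (Fin m) Λ'),
      ((CharZero (IsLocalRing.ResidueField A) ∧ IsField Λ ∧ IsField Λ') ∨
        (¬ CharZero (IsLocalRing.ResidueField A) ∧ CAlg.IsCohenRing Λ ∧ CAlg.IsCohenRing Λ')) ∧
        Function.Surjective ρ ∧ Function.Surjective σ ∧ σ.comp τ = (algebraMap A B).comp ρ ∧
        τ.Flat ∧ IsRegularRing (MvPowerSeries (Fin m) Λ' ⧸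
          (IsLocalRing.maximalIdeal (MvPowerSeries (Fin n) Λ)).map τ) := by
  classical
  let α : A →+* B := algebraMap A B
  have hfgA : (IsLocalRing.maximalIdeal A).FG := IsNoetherian.noetherian _
  obtain ⟨n, a, ha⟩ := Submodule.fg_iff_exists_fin_generating_family.mp hfgA
  have ham : ∀ i, a i ∈ IsLocalRing.maximalIdeal A := by
    intro i
    rw [← ha]
    exact Submodule.subset_span ⟨i, rfl⟩
  have hαm : ∀ x ∈ IsLocalRing.maximalIdeal A, α x ∈ IsLocalRing.maximalIdeal B := by
    intro x hx
    rw [IsLocalRing.mem_maximalIdeal, mem_nonunits_iff] at hx ⊢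
    exact fun h => hx (isUnit_of_map_unit α x h)
  let κ : IsLocalRing.ResidueField A →+* IsLocalRing.ResidueField B :=
    IsLocalRing.ResidueField.map α
  have core : ∀ (Λ Λ' : Type u) [CommRing Λ] [CommRing Λ'] [IsLocalRing Λ] [IsNoetherianRing Λ]
      [IsLocalRing Λ'] [IsNoetherianRing Λ'] (v : Λ →+* A)
      (_ : Function.Surjective ((IsLocalRing.residue A).comp v)),
      Groth.Agent.Lib.Helper15.CohenFac.Fac Λ' Λ (α.comp v) →
      ∃ (n m : ℕ) (ρ : MvPowerSeries (Fin n) Λ →+* A) (σ : MvPowerSeries (Fin m) Λ' →+* B)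
        (τ : MvPowerSeries (Fin n) Λ →+* MvPowerSeries (Fin m) Λ'),
        Function.Surjective ρ ∧ Function.Surjective σ ∧ σ.comp τ = (algebraMap A B).comp ρ ∧
        τ.Flat ∧ IsRegularRing (MvPowerSeries (Fin m) Λ' ⧸
          (IsLocalRing.maximalIdeal (MvPowerSeries (Fin n) Λ)).map τ) := by
    intro Λ Λ' _ _ _ _ _ _ v hv hbase
    letI : Algebra Λ A := v.toAlgebra
    let ρ : MvPowerSeries (Fin n) Λ →+* A :=
      (Groth.Agent.Lib.Helper76.PSComplete.evC (IsLocalRing.maximalIdeal A) a ham :
        MvPowerSeries (Fin n) Λ →ₐ[Λ] A).toRingHom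
    have hρ : Function.Surjective ρ :=
      Groth.Agent.Lib.Helper76.PSComplete.evC_surjective (IsLocalRing.maximalIdeal A) a ham ha hv
    have hρX : ∀ i, ρ (MvPowerSeries.X i) = a i := fun i =>
      Groth.Agent.Lib.Helper76.PSComplete.evC_X _ _ _ i
    have hρC : ∀ x : Λ, ρ (MvPowerSeries.C x) = v x := by
      intro x
      have := (Groth.Agent.Lib.Helper76.PSComplete.evC (IsLocalRing.maximalIdeal A) a ham :
        MvPowerSeries (Fin n) Λ →ₐ[Λ] A).commutes x
      rwa [MvPowerSeries.algebraMap_apply, Algebra.algebraMap_self, RingHom.id_apply] at this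
    let φ : MvPowerSeries (Fin n) Λ →+* B := α.comp ρ
    have hφX : ∀ i, φ (MvPowerSeries.X i) ∈ IsLocalRing.maximalIdeal B := fun i => by
      change α (ρ (MvPowerSeries.X i)) ∈ _
      rw [hρX]
      exact hαm _ (ham i)
    have hφC : φ.comp (MvPowerSeries.C : Λ →+* MvPowerSeries (Fin n) Λ) = α.comp v := by
      ext x : 1
      change α (ρ (MvPowerSeries.C x)) = α (v x)
      rw [hρC]
    obtain ⟨m, σ, τ, F, _, π, hσ, hcomp, hfl, hπ, hk, hreg⟩ :=
      Groth.Agent.Lib.Helper15.CohenFac.Fac.mvPowerSeries (Λ' := Λ') n φ hφX (by rw [hφC]; exact hbase)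
    refine ⟨n, m, ρ, σ, τ, hρ, hσ, hcomp, hfl, ?_⟩
    let e : F ≃+* MvPowerSeries (Fin m) Λ' ⧸
        (IsLocalRing.maximalIdeal (MvPowerSeries (Fin n) Λ)).map τ :=
      (RingHom.quotientKerEquivOfSurjective hπ).symm.trans (Ideal.quotEquivOfEq hk)
    exact IsRegularRing.of_ringEquiv e
  by_cases h0 : CharZero (IsLocalRing.ResidueField A)
  · haveI := h0
    haveI : CharP (IsLocalRing.ResidueField A) 0 := CharP.ofCharZero _
    haveI : CharZero (IsLocalRing.ResidueField B) := charZero_of_injective_ringHom κ.injective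
    haveI : CharP (IsLocalRing.ResidueField B) 0 := CharP.ofCharZero _
    obtain ⟨σA, hσA⟩ :=
      Groth.Agent.Lib.Helper13.CohenEq.exists_section_of_natCast_eq_zero (A := A) 0 (by simp)
    obtain ⟨σB, hσB⟩ :=
      Groth.Agent.Lib.Helper13.CohenEq.exists_section_of_natCast_eq_zero (A := B) 0 (by simp)
    haveI : IsAdicComplete (IsLocalRing.maximalIdeal (IsLocalRing.ResidueField B))
        (IsLocalRing.ResidueField B) := by
      rw [IsLocalRing.maximalIdeal_eq_bot]
      infer_instance
    have hvA : Function.Surjective ((IsLocalRing.residue A).comp σA) := fun x => ⟨x, hσA x⟩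
    have hvB : Function.Surjective ((IsLocalRing.residue B).comp σB) := fun x => ⟨x, hσB x⟩
    have hbase : Groth.Agent.Lib.Helper15.CohenFac.Fac (IsLocalRing.ResidueField B)
        (IsLocalRing.ResidueField A) (α.comp σA) :=
      Groth.Agent.Lib.Helper15.CohenFac.Fac.of_isField (Field.toIsField _) (Field.toIsField _)
        σB hvB (Groth.Agent.Lib.Helper96.liftSq_field_charZero _ _) _
    obtain ⟨n', m, ρ, σ, τ, h⟩ := core (IsLocalRing.ResidueField A) (IsLocalRing.ResidueField B)
      σA hvA hbase
    exact ⟨IsLocalRing.ResidueField A, IsLocalRing.ResidueField B, inferInstance, inferInstance,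
      inferInstance, n', m, ρ, σ, τ, Or.inl ⟨h0, Field.toIsField _, Field.toIsField _⟩, h⟩
  · let p := ringChar (IsLocalRing.ResidueField A)
    haveI : CharP (IsLocalRing.ResidueField A) p := ringChar.charP _
    have hp : p.Prime := by
      rcases CharP.char_is_prime_or_zero (IsLocalRing.ResidueField A) p with h | h
      · exact h
      · exfalso
        apply h0
        haveI : CharP (IsLocalRing.ResidueField A) 0 := h ▸ (inferInstance : CharP _ p)
        exact CharP.charP_to_charZero _
    haveI : CharP (IsLocalRing.ResidueField B) p := charP_of_injective_ringHom κ.injective p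
    obtain ⟨Λ, _, hdom, hdvr, v, hcomp, hm, hsurj⟩ :=
      Groth.Agent.Lib.Helper88.CohenStruct.exists_cohen_coefficient_ring A p hp
    obtain ⟨Λ', _, hdom', hdvr', v', hcomp', hm', hsurj'⟩ :=
      Groth.Agent.Lib.Helper88.CohenStruct.exists_cohen_coefficient_ring B p hp
    haveI := hdom
    haveI := hdvr
    haveI := hcomp
    haveI := hdom'
    haveI := hdvr'
    haveI := hcomp'
    have hpB : (p : B) ∈ IsLocalRing.maximalIdeal B := by
      rw [← IsLocalRing.residue_eq_zero_iff, map_natCast]
      exact CharP.cast_eq_zero _ p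
    have hbase : Groth.Agent.Lib.Helper15.CohenFac.Fac Λ' Λ (α.comp v) :=
      Groth.Agent.Lib.Helper15.CohenFac.Fac.of_cohenRing p hp hm hm' v' hsurj' _ hpB
    obtain ⟨n', m, ρ, σ, τ, h⟩ := core Λ Λ' v hsurj hbase
    exact ⟨Λ, Λ', inferInstance, inferInstance, inferInstance, n', m, ρ, σ, τ,
      Or.inr ⟨h0, ⟨hdom, hdvr, hcomp, p, hp, hm⟩, ⟨hdom', hdvr', hcomp', p, hp, hm'⟩⟩, h⟩

end Groth.Agent.S2053
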