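import Groth.Statements.S10903
import Groth.Agent.Lib.Helper73.DimField
import Groth.Agent.Lib.Helper29.CMRing
import Groth.Agent.S5671
-- import your own Groth.Agent.* helpers here

set_option autoImplicit false
universe u
open CInt

namespace Groth.Agent.S10903

section Aux

/-- the polynomial ring -/
abbrev Sk (k : Type*) [Field k] (n : ℕ) := MvPolynomial (Fin (n + 1)) k

/-- `dim (R/I) + ht I ≤ dim R` for any ideal. -/
theorem ringKrullDim_quotient_add_height_le' (R : Type*) [CommRing R] (I : Ideal R) :
    ringKrullDim (R ⧸ I) + (I.height : WithBot ℕ∞) ≤ ringKrullDim R := by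
  rw [ringKrullDim_quotient]
  rcases isEmpty_or_nonempty (PrimeSpectrum.zeroLocus (R := R) (I : Set R)) with hE | hN
  · rw [Order.krullDim_eq_bot, WithBot.bot_add]; exact bot_le
  · obtain ⟨q0⟩ := hN
    have : Nonempty (PrimeSpectrum.zeroLocus (R := R) (I : Set R)) := ⟨q0⟩
    have : Nonempty (PrimeSpectrum R) := ⟨q0.1⟩
    rw [Order.krullDim_eq_iSup_coheight_of_nonempty, ringKrullDim,
      Order.krullDim_eq_iSup_height_add_coheight_of_nonempty, ← WithBot.coe_add,
      WithBot.coe_le_coe, ENat.iSup_add]
    refine iSup_le fun q => ?_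
    have h1 : Order.coheight q ≤ Order.coheight (q : PrimeSpectrum R) :=
      Order.coheight_le_coheight_apply_of_strictMono Subtype.val (fun _ _ h => h) q
    have h2 : I.height ≤ Order.height (q : PrimeSpectrum R) := by
      rw [← PrimeSpectrum.height_eq_orderHeight]
      exact Ideal.height_mono q.2
    calc Order.coheight q + I.height
        ≤ Order.coheight (q : PrimeSpectrum R) + Order.height (q : PrimeSpectrum R) :=
          add_le_add h1 h2
      _ = Order.height (q : PrimeSpectrum R) + Order.coheight (q : PrimeSpectrum R) :=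
          add_comm _ _
      _ ≤ _ := le_iSup (fun a : PrimeSpectrum R => Order.height a + Order.coheight a) q.1

end Aux

/-- Let k be a field, S = k[x_0, …, x_n], and f_1, …, f_r with r ≤ n homogeneous polynomials of positive
degrees whose ideal J = (f_1, …, f_r) has height r — the subscheme of P^n_k cut out by the
hypersurfaces f_i = 0 has codimension r, an ideal-theoretic complete intersection. Then J is
saturated with respect to the irrelevant ideal (x_0, …, x_n): an element g of S such that, for each
i, x_i^m g ∈ J for some m, already lies in J. Hence J is the full homogeneous ideal of that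
subscheme (a global complete intersection). -/
theorem result (k : Type u) [Field k] (n r : ℕ)
    (hr : r ≤ n) (f : Fin r → MvPolynomial (Fin (n + 1)) k) (d : Fin r → ℕ)
    (hf : ∀ i, (f i).IsHomogeneous (d i)) (hd : ∀ i, 0 < d i)
    (hJ : (Ideal.span (Set.range f)).height = r) (g : MvPolynomial (Fin (n + 1)) k)
    (hg : ∀ i : Fin (n + 1), ∃ m : ℕ, MvPolynomial.X i ^ m * g ∈ Ideal.span (Set.range f)) :
    g ∈ Ideal.span (Set.range f) := by
  classical
  set J : Ideal (Sk k n) := Ideal.span (Set.range f) with hJdef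
  by_contra hgJ
  -- the irrelevant maximal ideal
  set m0 : Ideal (Sk k n) := RingHom.ker (MvPolynomial.constantCoeff : Sk k n →+* k) with hm0
  have hm0max : m0.IsMaximal := RingHom.ker_isMaximal_of_surjective _
    (fun a => ⟨MvPolynomial.C a, MvPolynomial.constantCoeff_C _ a⟩)
  haveI : m0.IsPrime := hm0max.isPrime
  have hXm0 : ∀ i, (MvPolynomial.X i : Sk k n) ∈ m0 := fun i => by
    rw [hm0, RingHom.mem_ker]; simp
  have hfm0 : ∀ i, f i ∈ m0 := fun i => by
    rw [hm0, RingHom.mem_ker, MvPolynomial.constantCoeff_eq]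
    apply (hf i).coeff_eq_zero
    simpa using (hd i).ne
  have hJm0 : J ≤ m0 := Ideal.span_le.mpr (by rintro _ ⟨i, rfl⟩; exact hfm0 i)
  set JT : Submodule (Sk k n) (Sk k n) := J • (⊤ : Submodule (Sk k n) (Sk k n)) with hJTdef
  have hJT : JT = J := by rw [hJTdef, smul_eq_mul, Ideal.mul_top]
  -- Step C: m0 is associated to S/J
  have hass : m0 ∈ associatedPrimes (Sk k n) (Sk k n ⧸ JT) := by
    set gb : Sk k n ⧸ JT := Submodule.Quotient.mk g with hgb
    have hgb0 : gb ≠ 0 := by
      rw [hgb, Ne, Submodule.Quotient.mk_eq_zero, hJT]; exact hgJ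
    set N : Submodule (Sk k n) (Sk k n ⧸ JT) := Submodule.span (Sk k n) {gb} with hN
    haveI hNnt : Nontrivial N := by
      rw [Submodule.nontrivial_iff_ne_bot, Ne, Submodule.span_singleton_eq_bot]; exact hgb0
    obtain ⟨P, hP⟩ := associatedPrimes.nonempty (Sk k n) N
    have hP' : P ∈ associatedPrimes (Sk k n) (Sk k n ⧸ JT) :=
      associatedPrimes.subset_of_injective (f := N.subtype) N.injective_subtype hP
    obtain ⟨hPprime, y, hy⟩ := (isAssociatedPrime_iff).mp hP
    have hXP : ∀ i, (MvPolynomial.X i : Sk k n) ∈ P := by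
      intro i
      obtain ⟨m, hm⟩ := hg i
      apply hPprime.mem_of_pow_mem m
      rw [hy, Submodule.mem_colon_singleton, Submodule.mem_bot]
      obtain ⟨s, hs⟩ := Submodule.mem_span_singleton.mp y.2
      apply Subtype.ext
      rw [Submodule.coe_smul, ← hs, smul_comm]
      have : (MvPolynomial.X i ^ m : Sk k n) • gb = 0 := by
        rw [hgb, ← Submodule.Quotient.mk_smul, Submodule.Quotient.mk_eq_zero, hJT, smul_eq_mul]
        exact hm
      rw [this, smul_zero]; rfl
    have hle : m0 ≤ P := by
      intro p hp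
      have hp0 : MvPolynomial.constantCoeff p = 0 := hp
      have hmem : p ∈ Ideal.span (MvPolynomial.X '' (Set.univ : Set (Fin (n + 1))) : Set (Sk k n)) := by
        rw [MvPolynomial.mem_ideal_span_X_image]
        intro mm hmm
        by_contra hcon
        push Not at hcon
        have hz : mm = 0 := by
          ext i; simpa using hcon i (Set.mem_univ i)
        rw [hz, MvPolynomial.mem_support_iff] at hmm
        exact hmm (by rwa [MvPolynomial.constantCoeff_eq] at hp0)
      refine (Ideal.span_le.mpr ?_) hmem
      rintro _ ⟨i, -, rfl⟩; exact hXP i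
    have : m0 = P := hm0max.eq_of_le hPprime.ne_top hle
    rw [this]; exact hP'
  -- Step D: localize at m0
  set A := Localization.AtPrime m0 with hA
  haveI : IsRegularLocalRing A := inferInstance
  have hCM : LocCoh.IsCohenMacaulayModule A A := Groth.Agent.S5671.isCM_of_regular A
  set xs : List A := (List.ofFn f).map (algebraMap (Sk k n) A) with hxs
  have hxsmem : ∀ x ∈ xs, x ∈ IsLocalRing.maximalIdeal A := by
    intro x hx
    obtain ⟨a, ha, rfl⟩ := List.mem_map.1 hx
    obtain ⟨i, rfl⟩ := (List.mem_ofFn' f a).mp ha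
    rw [IsLocalization.AtPrime.to_map_mem_maximal_iff A m0]; exact hfm0 i
  have hlen : xs.length = r := by rw [hxs, List.length_map, List.length_ofFn]
  have hofListS : Ideal.ofList (List.ofFn f) = J := by
    rw [Ideal.ofList, hJdef]; congr 1; ext x; simp [List.mem_ofFn']
  have hofList : Ideal.ofList xs = J.map (algebraMap (Sk k n) A) := by
    rw [hxs, ← Ideal.map_ofList, hofListS]
  set I : Ideal A := J.map (algebraMap (Sk k n) A) with hI
  have hIT : (Ideal.ofList xs • (⊤ : Submodule A A)) = I := by
    rw [hofList, smul_eq_mul, Ideal.mul_top]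
  -- height of I
  have hIht : (r : ℕ∞) ≤ I.height := by
    rw [← hJ, ← IsLocalization.height_under m0.primeCompl I]
    exact Ideal.height_mono Ideal.le_comap_map
  -- dimension of the quotient
  have hdimq : Module.supportDim A (A ⧸ (Ideal.ofList xs • (⊤ : Submodule A A))) =
      ringKrullDim (A ⧸ I) := by
    rw [Module.supportDim_eq_of_equiv (Submodule.quotEquivOfEq _ _ hIT)]
    exact Module.supportDim_quotient_eq_ringKrullDim I
  have hdimA : Module.supportDim A A = ringKrullDim A := Module.supportDim_self_eq_ringKrullDim A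
  have h1 := Groth.Agent.Lib.Helper29.CMLib.supportDim_le_quotient_add_length A xs A hxsmem
  have h2 : ringKrullDim (A ⧸ I) + (r : WithBot ℕ∞) ≤ ringKrullDim A := by
    refine le_trans ?_ (ringKrullDim_quotient_add_height_le' A I)
    gcongr
    exact_mod_cast hIht
  have heq : Module.supportDim A (A ⧸ (Ideal.ofList xs • (⊤ : Submodule A A))) + xs.length =
      Module.supportDim A A := by
    apply le_antisymm
    · rw [hdimq, hdimA, hlen]; exact h2
    · exact h1
  obtain ⟨hiff, hCMq⟩ := Groth.Agent.Lib.Helper29.CMLib.isWeaklyRegular_iff_of_isCM A xs A hCM hxsmem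
  have hreg := hiff.mpr heq
  have hCMq' := hCMq hreg
  -- the maximal ideal of A is associated to the quotient
  have hassA : IsLocalRing.maximalIdeal A ∈ associatedPrimes A
      (A ⧸ (Ideal.ofList xs • (⊤ : Submodule A A))) := by
    rw [hofList]
    apply Groth.Agent.Lib.Helper29.CMRing.mem_ass_quotient_of_isLocalizedModule m0.primeCompl
      (Algebra.linearMap (Sk k n) A)
    have hcomap : (IsLocalRing.maximalIdeal A).comap (algebraMap (Sk k n) A) = m0 :=
      IsLocalization.AtPrime.under_maximalIdeal A m0
    rw [hcomap]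
    exact hass
  have hdepth0 : LocCoh.depth A (A ⧸ (Ideal.ofList xs • (⊤ : Submodule A A))) = 0 :=
    (Groth.Agent.Lib.Helper29.depth_eq_zero_iff_maximalIdeal_mem_ass A _).mpr hassA
  have hq0 : Module.supportDim A (A ⧸ (Ideal.ofList xs • (⊤ : Submodule A A))) = 0 := by
    rw [hCMq', hdepth0]; rfl
  -- dimension of A
  have hdimA' : ringKrullDim A = ((n + 1 : ℕ) : WithBot ℕ∞) := by
    rw [IsLocalization.AtPrime.ringKrullDim_eq_height m0 A]
    obtain ⟨N, -, hN2, hN3, -⟩ := Groth.Agent.Lib.Helper73.DimFormula.exists_trdeg_eq_ringKrullDim k (Sk k n)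
    have hS' : ringKrullDim (Sk k n) = ((n + 1 : ℕ) : WithBot ℕ∞) := by
      show ringKrullDim (MvPolynomial (Fin (n + 1)) k) = _
      rw [MvPolynomial.ringKrullDim_of_isNoetherianRing, ringKrullDim_eq_zero_of_field]
      simp
    rw [hN3 m0]
    rw [hN2] at hS'
    exact_mod_cast hS'
  rw [hq0, hdimA, hdimA', hlen, zero_add] at heq
  have : r = n + 1 := by exact_mod_cast heq
  omega

end Groth.Agent.S10903
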