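import Groth.Statements.S0733
import Mathlib.Algebra.Category.Ring.Under.Basic
import Mathlib.RingTheory.Etale.Basic
import Mathlib.CategoryTheory.Adjunction.Limits
-- import your own Groth.Agent.* helpers here

set_option autoImplicit false
open CategoryTheory CategoryTheory.Limits AlgebraicGeometry Opposite Topology
universe u
open scoped TensorProduct
open ProEtW

namespace Groth.Agent.S0733

/-- The base change functor on `Under` categories of commutative rings preserves colimits. -/
noncomputable instance preservesColimits_tensorProd (R S : CommRingCat.{u}) [Algebra R S] :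
    PreservesColimitsOfSize.{u, u} (CommRingCat.tensorProd R S) :=
  have : PreservesColimitsOfSize.{u, u} (Under.pushout (CommRingCat.ofHom <| algebraMap R S)) :=
    (Under.mapPushoutAdj _).leftAdjoint_preservesColimits
  preservesColimits_of_natIso (CommRingCat.tensorProdIsoPushout R S).symm

/-- If A -> B is ind-etale (a filtered colimit of etale A-algebras) and A -> A' is any ring map, then A'
-> A' (x)_A B is ind-etale. -/
theorem result (A B A' : Type u) [CommRing A] [CommRing B] [CommRing A']
    [Algebra A B] [Algebra A A'] (h : EtPBC.IsIndEtale A B) :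
    EtPBC.IsIndEtale A' (A' ⊗[A] B) := by
  obtain ⟨J, hJ, hJf, D, c, hc, hEt, ⟨e⟩⟩ := h
  let R : CommRingCat.{u} := CommRingCat.of A
  let S : CommRingCat.{u} := CommRingCat.of A'
  let _ : Algebra R S := inferInstanceAs (Algebra A A')
  refine ⟨J, hJ, hJf, D ⋙ CommRingCat.tensorProd R S, (CommRingCat.tensorProd R S).mapCocone c,
    isColimitOfPreserves (CommRingCat.tensorProd R S) hc, ?_, ?_⟩
  · intro j
    let _ := (D.obj j).hom.hom.toAlgebra
    have h1 : Algebra.Etale A (D.obj j).right := hEt j
    have h2 : Algebra.Etale A' (A' ⊗[A] (D.obj j).right) := inferInstance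
    have key : ∀ (inst : Algebra A' (A' ⊗[A] (D.obj j).right)),
        inst = Algebra.TensorProduct.leftAlgebra →
        @Algebra.Etale A' (A' ⊗[A] (D.obj j).right) _ _ inst := by
      rintro _ rfl; exact h2
    exact key _ (Algebra.algebra_ext _ _ (fun r => rfl))
  · let eR : c.pt.right ≃+* B := ((Under.forget _).mapIso e).commRingCatIsoToRingEquiv
    let instA : Algebra A c.pt.right := c.pt.hom.hom.toAlgebra
    let eA : c.pt.right ≃ₐ[A] B := AlgEquiv.ofRingEquiv (f := eR) (by
      intro a
      have hw := Under.w e.hom
      have := congrArg (fun φ => φ.hom a) hw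
      exact this)
    let eT : A' ⊗[A] c.pt.right ≃ₐ[A'] A' ⊗[A] B :=
      Algebra.TensorProduct.congr AlgEquiv.refl eA
    exact ⟨AlgEquiv.toUnder (R := S) eT⟩

end Groth.Agent.S0733
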