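import Groth.Statements.S0735
import Groth.Agent.Lib.Helper4.IndEtale

set_option autoImplicit false
open CategoryTheory CategoryTheory.Limits AlgebraicGeometry Opposite Topology
universe u
open ProEtW

namespace Groth.Agent.S0735

open Groth.Agent.Lib.Helper4

/-- If A -> B and A -> C are ind-etale and C is a B-algebra compatibly with A, then C is ind-etale over
B. -/
theorem result (A B C : Type u) [CommRing A] [CommRing B]
    [CommRing C] [Algebra A B] [Algebra B C] [Algebra A C] [IsScalarTower A B C]
    (hB : EtPBC.IsIndEtale A B) (hC : EtPBC.IsIndEtale A C) : EtPBC.IsIndEtale B C := by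
  rw [isIndEtale_iff_hasFactorization]
  have hCf := (isIndEtale_iff_hasFactorization C).mp hC
  obtain ⟨J, _, _, D, c, hc, hEt, ⟨e⟩⟩ := hB
  -- replace the cocone point by `B` itself
  let c' : Cocone D :=
    { pt := Under.mk (CommRingCat.ofHom (algebraMap A B))
      ι := c.ι ≫ (Functor.const J).map e.hom }
  have hc' : IsColimit c' := IsColimit.ofIsoColimit hc (Cocone.ext e (fun j => rfl))
  intro P _ _ hP φ
  classical
  obtain ⟨n, g, hg, SB, hSB⟩ := Algebra.FinitePresentation.out (R := B) (A := P)
  obtain ⟨j, hj⟩ := exists_stage_of_finset_mvPolynomial hc' (ι := Fin n) SB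
  let _ : Algebra A (D.obj j).right := (D.obj j).hom.hom.toAlgebra
  have hEtj : Algebra.Etale A (D.obj j).right := hEt j
  let ι : (D.obj j).right →+* B := (c'.ι.app j).right.hom
  let _ : Algebra (D.obj j).right B := ι.toAlgebra
  have hιA : ∀ a : A, ι (algebraMap A (D.obj j).right a) = algebraMap A B a := fun a =>
    congrArg (fun m => m.hom a) (Under.w (c'.ι.app j))
  have : IsScalarTower A (D.obj j).right B :=
    IsScalarTower.of_algebraMap_eq (fun a => (hιA a).symm)
  let _ : Algebra (D.obj j).right C := ((algebraMap B C).comp ι).toAlgebra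
  have : IsScalarTower (D.obj j).right B C := IsScalarTower.of_algebraMap_eq (fun _ => rfl)
  have : IsScalarTower A (D.obj j).right C := IsScalarTower.of_algebraMap_eq (fun a => by
    change algebraMap A C a = algebraMap B C (ι (algebraMap A (D.obj j).right a))
    rw [hιA, ← IsScalarTower.algebraMap_apply])
  -- lift the relations
  let lift : MvPolynomial (Fin n) B → MvPolynomial (Fin n) (D.obj j).right := fun f =>
    if h : f ∈ SB then (hj f h).choose else 0
  have hlift : ∀ f ∈ SB, MvPolynomial.map ι (lift f) = f := fun f hf => by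
    simp only [lift, dif_pos hf]
    exact (hj f hf).choose_spec
  let S : Finset (MvPolynomial (Fin n) (D.obj j).right) := SB.image lift
  have himage : (fun f => MvPolynomial.map (algebraMap (D.obj j).right B) f) ''
      (S : Set (MvPolynomial (Fin n) (D.obj j).right)) = (SB : Set (MvPolynomial (Fin n) B)) := by
    ext f
    simp only [Set.mem_image, Finset.mem_coe, S, Finset.mem_image]
    constructor
    · rintro ⟨_, ⟨f', hf', rfl⟩, rfl⟩
      have := hlift f' hf'
      change MvPolynomial.map ι (lift f') ∈ SB
      rw [this]; exact hf'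
    · intro hf
      exact ⟨lift f, ⟨f, hf, rfl⟩, hlift f hf⟩
  have hIB : RingHom.ker g.toRingHom = Ideal.span
      ((fun f => MvPolynomial.map (algebraMap (D.obj j).right B) f) ''
        (S : Set (MvPolynomial (Fin n) (D.obj j).right))) := by
    rw [himage]; exact hSB.symm
  let eq : (MvPolynomial (Fin n) B ⧸ RingHom.ker g.toRingHom) ≃ₐ[B] P :=
    Ideal.quotientKerAlgEquivOfSurjective hg
  obtain ⟨E, _, _, hE, α, β, hαβ⟩ := cancel_aux (A := A) (R := (D.obj j).right) (B := B) (C := C)
    hCf n S (RingHom.ker g.toRingHom) hIB (φ.comp eq.toAlgHom)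
  refine ⟨E, inferInstance, inferInstance, hE, α.comp eq.symm.toAlgHom, β, ?_⟩
  rw [← AlgHom.comp_assoc, hαβ]
  ext x
  change φ (eq (eq.symm x)) = φ x
  rw [AlgEquiv.apply_symm_apply]

end Groth.Agent.S0735
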