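import Groth.Statements.S5342
import Mathlib
import Groth.Agent.S2502
-- import your own Groth.Agent.* helpers here

set_option autoImplicit false
universe u
open CategoryTheory CategoryTheory.Limits MonoidalCategory CartesianMonoidalCategory MonObj GrpObj AlgebraicGeometry
open SGA3

namespace Groth.Agent.S5342

/-- Let X and Y be connected schemes over a field k such that X has a k-rational point (a section of X →
Spec k). Then X ×_k Y is connected. -/
theorem result (k : Type u) [Field k] (X Y : Scheme.{u})
    (f : X ⟶ Spec (CommRingCat.of k)) (g : Y ⟶ Spec (CommRingCat.of k)) [ConnectedSpace X] [ConnectedSpace Y]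
    (x : Spec (CommRingCat.of k) ⟶ X) (hx : x ≫ f = 𝟙 _) : ConnectedSpace ↥(pullback f g) := by
  have h1 : GeometricallyConnected (x ≫ f) := by
    rw [hx]
    refine ⟨fun K _ y W fst snd h => ?_⟩
    have : IsIso snd := by
      have := h.flip
      exact MorphismProperty.of_isPullback (P := MorphismProperty.isomorphisms Scheme.{u}) h
        (MorphismProperty.isomorphisms.infer_property (𝟙 _))
    exact (snd.homeomorph.symm.connectedSpace_iff).1 inferInstance
  have h2 : GeometricallyConnected f := Groth.Agent.S2502.result x f
  infer_instance

end Groth.Agent.S5342
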