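import Groth.Statements.S3291
-- import your own Groth.Agent.* helpers here

set_option autoImplicit false
universe u
open Finset
open LambdaRing

namespace Groth.Agent.S3291

variable {K : Type u} [CommRing K] [LambdaRing.LambdaOps K]

/-- the generating set of the `n`-th step of the gamma filtration -/
def Gen (P : LambdaRing.PosStructure K) (n : ℕ) : Set K :=
  {y | ∃ (l : List (ℕ × K)), (∀ p ∈ l, P.aug p.2 = 0) ∧ n ≤ (l.map Prod.fst).sum ∧
        y = (l.map fun p => LambdaRing.gamma p.1 p.2).prod}

lemma filt_pos (P : LambdaRing.PosStructure K) {n : ℕ} (hn : n ≠ 0) :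
    LambdaRing.gammaFiltration P n = AddSubgroup.closure (Gen P n) := by
  unfold LambdaRing.gammaFiltration Gen
  rw [if_neg hn]

lemma filt_zero (P : LambdaRing.PosStructure K) :
    LambdaRing.gammaFiltration P 0 = ⊤ := by
  unfold LambdaRing.gammaFiltration
  rw [if_pos rfl]

lemma gen_mul (P : LambdaRing.PosStructure K) {m n : ℕ} {y z : K} (hy : y ∈ Gen P m)
    (hz : z ∈ Gen P n) : y * z ∈ Gen P (m + n) := by
  obtain ⟨l1, h1, h1s, rfl⟩ := hy
  obtain ⟨l2, h2, h2s, rfl⟩ := hz
  refine ⟨l1 ++ l2, ?_, ?_, ?_⟩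
  · intro p hp
    rcases List.mem_append.mp hp with hp | hp
    · exact h1 p hp
    · exact h2 p hp
  · rw [List.map_append, List.sum_append]
    omega
  · rw [List.map_append, List.prod_append]

lemma gen_mono (P : LambdaRing.PosStructure K) {m n : ℕ} (h : m ≤ n) : Gen P n ⊆ Gen P m := by
  rintro y ⟨l, h1, h2, h3⟩
  exact ⟨l, h1, le_trans h h2, h3⟩

lemma gamma_one (z : K) : LambdaRing.gamma 1 z = z := by
  unfold LambdaRing.gamma
  rw [if_neg one_ne_zero]
  simp [Finset.sum_range_succ, LambdaRing.LambdaOps.lam_one]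

lemma mem_gen_one (P : LambdaRing.PosStructure K) {z : K} (hz : P.aug z = 0) : z ∈ Gen P 1 := by
  refine ⟨[(1, z)], ?_, ?_, ?_⟩
  · intro p hp
    rw [List.mem_singleton] at hp
    subst hp
    exact hz
  · simp
  · simp [gamma_one]

lemma mul_gen_mem (P : LambdaRing.PosStructure K) {n : ℕ} (a : K) {y : K} (hy : y ∈ Gen P n) :
    a * y ∈ AddSubgroup.closure (Gen P n) := by
  have haug : P.aug (a - ((P.aug a : ℤ) : K)) = 0 := by
    rw [map_sub, map_intCast]
    simp
  have h1 : (a - ((P.aug a : ℤ) : K)) * y ∈ Gen P n := by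
    have := gen_mul P (mem_gen_one P haug) hy
    exact gen_mono P (by omega) this
  have h2 : ((P.aug a : ℤ) : K) * y ∈ AddSubgroup.closure (Gen P n) := by
    have : ((P.aug a : ℤ) : K) * y = (P.aug a) • y := by
      rw [zsmul_eq_mul]
    rw [this]
    exact AddSubgroup.zsmul_mem _ (AddSubgroup.subset_closure hy) _
  have : a * y = (a - ((P.aug a : ℤ) : K)) * y + ((P.aug a : ℤ) : K) * y := by ring
  rw [this]
  exact AddSubgroup.add_mem _ (AddSubgroup.subset_closure h1) h2

lemma mul_closure_mem (P : LambdaRing.PosStructure K) {n : ℕ} (a : K) {x : K}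
    (hx : x ∈ AddSubgroup.closure (Gen P n)) : a * x ∈ AddSubgroup.closure (Gen P n) := by
  induction hx using AddSubgroup.closure_induction with
  | mem y hy => exact mul_gen_mem P a hy
  | zero => simp
  | add x y _ _ hx hy => rw [mul_add]; exact AddSubgroup.add_mem _ hx hy
  | neg x _ hx => rw [mul_neg]; exact AddSubgroup.neg_mem _ hx

lemma ideal_part (P : LambdaRing.PosStructure K) (n : ℕ) (a x : K)
    (hx : x ∈ LambdaRing.gammaFiltration P n) : a * x ∈ LambdaRing.gammaFiltration P n := by
  by_cases hn : n = 0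
  · subst hn
    rw [filt_zero]
    exact AddSubgroup.mem_top _
  · rw [filt_pos P hn] at hx ⊢
    exact mul_closure_mem P a hx

lemma closure_mul_closure (P : LambdaRing.PosStructure K) {m n : ℕ} {x y : K}
    (hx : x ∈ AddSubgroup.closure (Gen P m)) (hy : y ∈ AddSubgroup.closure (Gen P n)) :
    x * y ∈ AddSubgroup.closure (Gen P (m + n)) := by
  induction hx using AddSubgroup.closure_induction with
  | mem x hx =>
    induction hy using AddSubgroup.closure_induction with
    | mem y hy => exact AddSubgroup.subset_closure (gen_mul P hx hy)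
    | zero => simp
    | add y z _ _ hy hz => rw [mul_add]; exact AddSubgroup.add_mem _ hy hz
    | neg y _ hy => rw [mul_neg]; exact AddSubgroup.neg_mem _ hy
  | zero => simp
  | add x z _ _ hx hz => rw [add_mul]; exact AddSubgroup.add_mem _ hx hz
  | neg x _ hx => rw [neg_mul]; exact AddSubgroup.neg_mem _ hx


/-- The γ-filtration F^n K of a λ-ring with positive structure (F^0 = K, F^n for n ≥ 1 generated
additively by products γ^(r₁)(x₁)⋯γ^(r_k)(x_k) with ε(x_i) = 0 and Σ r_i ≥ n) consists of ideals,
and F^m · F^n ⊆ F^(m+n). -/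
theorem result (K : Type u) [CommRing K] [LambdaRing.LambdaOps K] (P : LambdaRing.PosStructure K) :
    (∀ (n : ℕ) (a x : K), x ∈ LambdaRing.gammaFiltration P n → a * x ∈ LambdaRing.gammaFiltration P n) ∧
    ∀ (m n : ℕ) (x y : K), x ∈ LambdaRing.gammaFiltration P m → y ∈ LambdaRing.gammaFiltration P n →
      x * y ∈ LambdaRing.gammaFiltration P (m + n) := by
  refine ⟨fun n a x hx => ideal_part P n a x hx, ?_⟩
  intro m n x y hx hy
  by_cases hm : m = 0
  · subst hm
    rw [zero_add]
    exact ideal_part P n x y hy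
  by_cases hn : n = 0
  · subst hn
    rw [add_zero, mul_comm]
    exact ideal_part P m y x hx
  have hmn : m + n ≠ 0 := by omega
  rw [filt_pos P hm] at hx
  rw [filt_pos P hn] at hy
  rw [filt_pos P hmn]
  exact closure_mul_closure P hx hy

end Groth.Agent.S3291
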