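import Groth.Statements.S4543
-- import your own Groth.Agent.* helpers here
import Groth.Agent.S4542
import Mathlib.RingTheory.AdicCompletion.Functoriality
import Mathlib.RingTheory.Nakayama
import Mathlib.LinearAlgebra.TensorProduct.RightExactness

set_option autoImplicit false
universe u
open EGA41

namespace Groth.Agent.S4543

open TensorProduct in
/-- The multiplication map `J ⊗ N → N`. -/
noncomputable def mu {A : Type*} [CommRing A] (J : Ideal A) (N : Type*) [AddCommGroup N] [Module A N] :
    J ⊗[A] N →ₗ[A] N :=
  (TensorProduct.lid A N).toLinearMap ∘ₗ LinearMap.rTensor N J.subtype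

open TensorProduct in
theorem mu_tmul {A : Type*} [CommRing A] (J : Ideal A) (N : Type*) [AddCommGroup N] [Module A N]
    (a : J) (n : N) : mu J N (a ⊗ₜ n) = (a : A) • n := by
  simp [mu]

open TensorProduct in
/-- Flat Nakayama-type lemma: if `g : M → M'` is a surjective `A`-linear map onto a flat module, then
`ker g ∩ J M = J (ker g)`. -/
theorem ker_inf_smul_le {A M M' : Type*} [CommRing A] [AddCommGroup M] [Module A M]
    [AddCommGroup M'] [Module A M'] [Module.Flat A M'] (J : Ideal A) (g : M →ₗ[A] M')
    (hg : Function.Surjective g) (x : M) (hx : x ∈ J • (⊤ : Submodule A M)) (hgx : g x = 0) :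
    x ∈ J • LinearMap.ker g := by
  have hinj : Function.Injective (mu J M') := by
    simp only [mu, LinearMap.coe_comp, LinearEquiv.coe_coe, EquivLike.comp_injective]
    exact Module.Flat.rTensor_preserves_injective_linearMap _ Subtype.val_injective
  obtain ⟨t, ht⟩ : ∃ t : J ⊗[A] M, mu J M t = x := by
    refine Submodule.smul_induction_on hx (fun a ha m _ => ⟨(⟨a, ha⟩ : J) ⊗ₜ m, mu_tmul J M _ _⟩) ?_
    rintro _ _ ⟨t₁, rfl⟩ ⟨t₂, rfl⟩
    exact ⟨t₁ + t₂, map_add _ _ _⟩
  have hnat : ∀ t : J ⊗[A] M, mu J M' (LinearMap.lTensor J g t) = g (mu J M t) := by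
    intro t
    induction t using TensorProduct.induction_on with
    | zero => simp
    | tmul a m => simp [mu_tmul]
    | add t₁ t₂ h₁ h₂ => simp only [map_add, h₁, h₂]
  have h0 : LinearMap.lTensor J g t = 0 := by
    apply hinj
    rw [hnat, ht, hgx, map_zero]
  have hex : Function.Exact (LinearMap.lTensor J (LinearMap.ker g).subtype) (LinearMap.lTensor J g) :=
    lTensor_exact J (fun y => by simp) hg
  obtain ⟨s, hs⟩ := (hex t).mp h0
  rw [← ht, ← hs]
  clear hs h0 ht
  induction s using TensorProduct.induction_on with
  | zero => simp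
  | tmul a k =>
    simp only [LinearMap.lTensor_tmul, Submodule.coe_subtype, mu_tmul]
    exact Submodule.smul_mem_smul a.2 k.2
  | add t₁ t₂ h₁ h₂ =>
    simp only [map_add]
    exact Submodule.add_mem _ h₁ h₂

open IsLocalRing in
/-- Let A be a Noetherian ring, J an ideal of A, B and B' two A-algebras which are Noetherian local
rings, the structure maps being continuous for the J-adic topology on A (JB and JB' lie in the
maximal ideals); suppose B and B' are complete for the J-adic topologies, B is a formally smooth
A-algebra for the J-adic topology on A and the JB-adic topology on B (nilpotent test ideals, test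
algebras killed by a power of J, test maps killing a power of JB), and B' is a flat A-module. Then
every (A/J)-algebra isomorphism u₀ : B/JB ≅ B'/JB' comes from an A-algebra isomorphism u : B ≅ B' by
passing to quotients. (B is taken formally smooth for the JB-adic topology, the topology along which
the argument lifts B → B'/JB' to B'; read with the convention that a local ring carries the adic
topology of its maximal ideal, the published hypothesis would be formal smoothness for the
maximal-ideal topology on B, a weaker condition when JB is strictly smaller than the maximal ideal,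
and that reading is not what the argument establishes.) -/
theorem result {A B B' : Type u} [CommRing A] [IsNoetherianRing A] (J : Ideal A)
    [CommRing B] [IsLocalRing B] [IsNoetherianRing B] [Algebra A B]
    [CommRing B'] [IsLocalRing B'] [IsNoetherianRing B'] [Algebra A B']
    (hB : J.map (algebraMap A B) ≤ maximalIdeal B) (hB' : J.map (algebraMap A B') ≤ maximalIdeal B')
    [IsAdicComplete (J.map (algebraMap A B)) B] [IsAdicComplete (J.map (algebraMap A B')) B']
    (hfs : EGA41.IsFormallySmoothAdic A J B (J.map (algebraMap A B))) [Module.Flat A B']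
    (u₀ : (B ⧸ J.map (algebraMap A B)) ≃ₐ[A ⧸ J] (B' ⧸ J.map (algebraMap A B'))) :
    ∃ u : B ≃ₐ[A] B', ∀ b : B,
      Ideal.Quotient.mk (J.map (algebraMap A B')) (u b) = u₀ (Ideal.Quotient.mk (J.map (algebraMap A B)) b) := by
  -- the composite B → B/JB ≃ B'/JB' as an A-algebra map
  let u : B →ₐ[A] B' ⧸ J.map (algebraMap A B') :=
    ((u₀.restrictScalars A : _ ≃ₐ[A] _) : _ →ₐ[A] _).comp (Ideal.Quotient.mkₐ A (J.map (algebraMap A B)))
  have hu : ∀ b, u b = u₀ (Ideal.Quotient.mk _ b) := fun b => rfl
  have hbot : (J.map (algebraMap A B')).map (Ideal.Quotient.mk (J.map (algebraMap A B'))) = ⊥ :=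
    Ideal.map_quotient_self _
  have hH : IsHausdorff ((J.map (algebraMap A B')).map (Ideal.Quotient.mk (J.map (algebraMap A B'))))
      (B' ⧸ J.map (algebraMap A B')) := by
    rw [hbot]
    refine ⟨fun x hx => ?_⟩
    have := hx 1
    simpa [SModEq.zero] using this
  obtain ⟨v, -, hv⟩ := Groth.Agent.S4542.result J (J.map (algebraMap A B)) (J.map (algebraMap A B'))
    hfs ⟨1, by simp⟩ (J.map (algebraMap A B')) ⟨1, by simp⟩ u ⟨1, by
      rw [hbot, pow_one, Ideal.map_le_iff_le_comap]
      intro b hb
      rw [Ideal.mem_comap, Ideal.mem_bot]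
      change u b = 0
      rw [hu, Ideal.Quotient.eq_zero_iff_mem.mpr hb, map_zero]⟩
  have hv' : ∀ b, Ideal.Quotient.mk (J.map (algebraMap A B')) (v b) = u₀ (Ideal.Quotient.mk _ b) :=
    fun b => congr($hv b)
  have hmap : (J.map (algebraMap A B)).map v.toRingHom = J.map (algebraMap A B') := by
    rw [Ideal.map_map]
    congr 1
    exact v.comp_algebraMap
  -- surjectivity
  have hsurj : Function.Surjective v := by
    have : IsHausdorff ((J.map (algebraMap A B)).map v.toRingHom) B' := by
      rw [hmap]; infer_instance
    apply surjective_of_mk_map_comp_surjective (I := J.map (algebraMap A B)) v.toRingHom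
    intro y
    obtain ⟨z, hz⟩ := u₀.surjective ((Ideal.quotEquivOfEq hmap) y)
    obtain ⟨b, rfl⟩ := Ideal.Quotient.mk_surjective z
    refine ⟨b, ?_⟩
    apply (Ideal.quotEquivOfEq hmap).injective
    rw [← hz, ← hv']
    rfl
  -- injectivity
  have hinj : Function.Injective v := by
    rw [injective_iff_map_eq_zero]
    have hK : RingHom.ker v.toRingHom = ⊥ := by
      apply Submodule.eq_bot_of_le_smul_of_le_jacobson_bot (J.map (algebraMap A B)) _
        (IsNoetherian.noetherian _) ?_ (hB.trans (IsLocalRing.maximalIdeal_le_jacobson _))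
      intro x hx
      have hx0 : v x = 0 := hx
      have hxJ : x ∈ J.map (algebraMap A B) := by
        have h1 := hv' x
        rw [hx0, map_zero, eq_comm, map_eq_zero_iff _ u₀.injective,
          Ideal.Quotient.eq_zero_iff_mem] at h1
        exact h1
      have hxJ' : x ∈ J • (⊤ : Submodule A B) := by
        rw [Ideal.smul_top_eq_map]; exact hxJ
      have h2 := ker_inf_smul_le J v.toLinearMap hsurj x hxJ' hx0
      refine Submodule.smul_induction_on h2 (fun a ha k hk => ?_) (fun _ _ h₁ h₂ => Submodule.add_mem _ h₁ h₂)
      rw [← algebraMap_smul B a k]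
      exact Submodule.smul_mem_smul (Ideal.mem_map_of_mem _ ha) hk
    intro x hx
    have : x ∈ RingHom.ker v.toRingHom := hx
    rw [hK] at this
    exact this
  exact ⟨AlgEquiv.ofBijective v ⟨hinj, hsurj⟩, hv'⟩

end Groth.Agent.S4543
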