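import Groth.Statements.S2483
-- import your own Groth.Agent.* helpers here
import Groth.Agent.S4541
import Groth.Agent.S2467
import Mathlib.RingTheory.Smooth.AdicCompletion
import Mathlib.RingTheory.Smooth.Field
import Mathlib.RingTheory.Derivation.ToSquareZero
import Mathlib.LinearAlgebra.Dual.Lemmas

set_option autoImplicit false
universe u
open EGA41

namespace Groth.Agent.S2483

open IsLocalRing

theorem smodEq_iff {R : Type*} [CommRing R] (J : Ideal R) (x y : R) :
    x ≡ y [SMOD (J • ⊤ : Submodule R R)] ↔ x - y ∈ J := by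
  rw [SModEq.sub_mem, smul_eq_mul, Ideal.mul_top]

/-- `I²`-adic completeness from `I`-adic completeness -/
theorem isAdicComplete_sq {R : Type*} [CommRing R] (I : Ideal R) [IsAdicComplete I R] :
    IsAdicComplete (I ^ 2) R := by
  have hle : ∀ n, (I ^ 2) ^ n ≤ I ^ n := by
    intro n
    rw [← pow_mul]
    exact Ideal.pow_le_pow_right (by omega)
  have : IsHausdorff (I ^ 2) R := by
    refine ⟨fun x hx => ?_⟩
    apply IsHausdorff.haus' (I := I)
    intro n
    have := hx n
    rw [smodEq_iff] at this ⊢
    exact hle n this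
  have : IsPrecomplete (I ^ 2) R := by
    refine ⟨fun f hf => ?_⟩
    obtain ⟨L, hL⟩ := IsPrecomplete.prec' (I := I) f (by
      intro m n hmn
      have := hf hmn
      rw [smodEq_iff] at this ⊢
      exact hle m this)
    refine ⟨L, fun n => ?_⟩
    rw [smodEq_iff]
    have h1 := hf (show n ≤ 2 * n by omega)
    have h2 := hL (2 * n)
    rw [smodEq_iff] at h1 h2
    have h3 : f n - L = (f n - f (2 * n)) + (f (2 * n) - L) := by ring
    rw [h3]
    refine Ideal.add_mem _ h1 ?_
    rw [← pow_mul]
    exact h2
  exact {}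

/-- clean-context lemma: two lifts agree when `Ω = 0` -/
theorem lift_eq_of_subsingleton {R K B : Type*} [CommRing R] [CommRing K] [CommRing B]
    [Algebra R K] [Algebra R B] [Algebra K B] [IsScalarTower R K B] (I : Ideal B) (hI : I ^ 2 = ⊥)
    [Subsingleton (Ω[K⁄R])] (f : K →ₐ[R] B)
    (e : (Ideal.Quotient.mkₐ R I).comp f = IsScalarTower.toAlgHom R K (B ⧸ I)) (x : K) :
    f x = algebraMap K B x := by
  let D := derivationToSquareZeroOfLift I hI f e
  have hD : D x = 0 := by
    rw [← Derivation.liftKaehlerDifferential_comp_D D x,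
      Subsingleton.elim (KaehlerDifferential.D R K x) 0, map_zero]
  have h1 := derivationToSquareZeroOfLift_apply I hI f e x
  change (D x : B) = _ at h1
  rw [hD] at h1
  exact (sub_eq_zero.mp h1.symm)

/-- clean-context lemma: a nonzero derivation of a field with `Ω ≠ 0` -/
theorem exists_derivation_ne_zero {R K : Type*} [CommRing R] [Field K] [Algebra R K]
    (h : ¬ Subsingleton (Ω[K⁄R])) : ∃ (D : Derivation R K K) (x : K), D x ≠ 0 := by
  rw [not_subsingleton_iff_nontrivial] at h
  obtain ⟨ω, hω⟩ := exists_ne (0 : Ω[K⁄R])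
  obtain ⟨φ, hφ⟩ : ∃ φ : Module.Dual K (Ω[K⁄R]), φ ω ≠ 0 := by
    by_contra hcon
    push Not at hcon
    exact hω ((Module.forall_dual_apply_eq_zero_iff K ω).mp hcon)
  refine ⟨φ.compDer (KaehlerDifferential.D R K), ?_⟩
  by_contra hcon
  push Not at hcon
  apply hφ
  have h1 : φ = 0 := by
    apply LinearMap.ext_on (KaehlerDifferential.span_range_derivation R K)
    rintro _ ⟨x, rfl⟩
    exact hcon x
  rw [h1, LinearMap.zero_apply]

section Sections

variable {C : Type u} [CommRing C] [IsLocalRing C] [IsNoetherianRing C]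
  [IsAdicComplete (maximalIdeal C) C]

/-- `Ω = 0` implies uniqueness of the coefficient field. -/
theorem unique_section (hΩ : Subsingleton (Ω[ResidueField C⁄ℤ])) (u v : ResidueField C →+* C)
    (hu : ∀ x, residue C (u x) = x) (hv : ∀ x, residue C (v x) = x) : v = u := by
  have key : ∀ n : ℕ, ∀ x, v x - u x ∈ maximalIdeal C ^ (n + 1) := by
    intro n
    induction n with
    | zero =>
      intro x
      rw [zero_add, pow_one, ← Ideal.Quotient.eq]
      exact (hv x).trans (hu x).symm
    | succ n ih =>
      intro x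
      let I : Ideal (C ⧸ maximalIdeal C ^ (n + 1 + 1)) :=
        (maximalIdeal C ^ (n + 1)).map (Ideal.Quotient.mk _)
      have hI : I ^ 2 = ⊥ := by
        rw [← Ideal.map_pow, ← pow_mul]
        exact eq_bot_mono (Ideal.map_mono (Ideal.pow_le_pow_right (by omega)))
          (Ideal.map_quotient_self _)
      letI : Algebra (ResidueField C) (C ⧸ maximalIdeal C ^ (n + 1 + 1)) :=
        ((Ideal.Quotient.mk _).comp u).toAlgebra
      haveI := IsScalarTower.of_algebraMap_eq (R := ℤ) (S := ResidueField C)
        (A := C ⧸ maximalIdeal C ^ (n + 1 + 1))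
        (fun z => by rw [eq_intCast, eq_intCast, map_intCast])
      let f : ResidueField C →ₐ[ℤ] (C ⧸ maximalIdeal C ^ (n + 1 + 1)) :=
        { (Ideal.Quotient.mk _).comp v with
          commutes' := fun z => by
            simp only [RingHom.toMonoidHom_eq_coe, OneHom.toFun_eq_coe, MonoidHom.toOneHom_coe,
              MonoidHom.coe_coe, eq_intCast, map_intCast] }
      have h1 := lift_eq_of_subsingleton I hI f (by
        ext y
        change Ideal.Quotient.mk I (Ideal.Quotient.mk _ (v y)) =
          Ideal.Quotient.mk I (Ideal.Quotient.mk _ (u y))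
        rw [Ideal.Quotient.eq, ← map_sub]
        exact Ideal.mem_map_of_mem _ (ih y)) x
      have h2 : Ideal.Quotient.mk (maximalIdeal C ^ (n + 1 + 1)) (v x) =
          Ideal.Quotient.mk (maximalIdeal C ^ (n + 1 + 1)) (u x) := h1
      rwa [Ideal.Quotient.eq] at h2
  ext x
  rw [← sub_eq_zero]
  apply IsHausdorff.haus' (I := maximalIdeal C)
  intro n
  rw [smodEq_iff, sub_zero]
  exact Ideal.pow_le_pow_right (Nat.le_succ n) (key n x)

end Sections


section Fields

theorem formallySmooth_of_charZero (K : Type u) [Field K] [CharZero K] :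
    Algebra.FormallySmooth ℚ K := by
  obtain ⟨s, hs⟩ := exists_isTranscendenceBasis ℚ K
  have h1 : Algebra.IsAlgebraic (IntermediateField.adjoin ℚ (Set.range ((↑) : s → K))) K :=
    hs.isAlgebraic_field
  have h2 : Algebra.IsSeparable (IntermediateField.adjoin ℚ (Set.range ((↑) : s → K))) K :=
    inferInstance
  exact Algebra.FormallySmooth.of_algebraicIndependent_of_isSeparable hs.1

theorem isPGenerating_univ (p : ℕ) [Fact p.Prime] {k K : Type u} [CommRing k] [CommRing K]
    [Algebra k K] : EGA41.IsPGenerating p k (Subtype.val : ↥(Set.univ : Set K) → K) := by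
  classical
  have hp : p.Prime := Fact.out
  unfold EGA41.IsPGenerating
  rw [eq_top_iff]
  intro y _
  apply Submodule.subset_span
  refine ⟨⟨Finsupp.single ⟨y, trivial⟩ 1, ?_⟩, ?_⟩
  · intro i
    rw [Finsupp.single_apply]
    split_ifs
    · exact hp.one_lt
    · exact hp.pos
  · simp [EGA41.pMonomial]

theorem isPIndependent_empty (p : ℕ) {k K : Type u} [Field k] [Field K]
    [Algebra k K] : EGA41.IsPIndependent p k (Subtype.val : ↥(∅ : Set K) → K) := by
  unfold EGA41.IsPIndependent
  have : IsEmpty (↥(∅ : Set K)) := by simp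
  rw [linearIndependent_subsingleton_index_iff]
  intro e
  have : e.1 = 0 := Subsingleton.elim _ _
  rw [this]
  simp [EGA41.pMonomial]

theorem formallySmooth_of_charP (p : ℕ) [Fact p.Prime] (K : Type u) [Field K] [CharP K p]
    [Algebra (ULift.{u} (ZMod p)) K] : Algebra.FormallySmooth (ULift.{u} (ZMod p)) K := by
  have hp : p.Prime := Fact.out
  haveI : ExpChar (ULift.{u} (ZMod p)) p := ExpChar.prime hp
  obtain ⟨B, -, -, hB⟩ := Groth.Agent.S2467.result p (k := ULift.{u} (ZMod p)) (K := K) Set.univ ∅
    (Set.empty_subset _) (isPGenerating_univ p) (isPIndependent_empty p)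
  exact (Groth.Agent.S4541.result p (A := ULift.{u} (ZMod p)) (B := K) _ hB).1

end Fields

section Exists

variable {C : Type u} [CommRing C] [IsLocalRing C] [IsNoetherianRing C]
  [IsAdicComplete (maximalIdeal C) C]

/-- existence of a second coefficient field, relative to a base `R₀` over which the residue field
is formally smooth -/
theorem exists_ne_section {R₀ : Type*} [CommRing R₀] [Algebra R₀ (ResidueField C)]
    [Algebra.FormallySmooth R₀ (ResidueField C)]
    (hsub : ∀ (S : Type u) [CommRing S] (f g : R₀ →+* S), f = g)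
    (hm : maximalIdeal C ≠ ⊥) (u : ResidueField C →+* C) (hu : ∀ x, residue C (u x) = x)
    (hΩ : ¬ Subsingleton (Ω[ResidueField C⁄ℤ])) :
    ∃ v : ResidueField C →+* C, (∀ x, residue C (v x) = x) ∧ v ≠ u := by
  obtain ⟨D₀, x₀, hx₀⟩ := exists_derivation_ne_zero hΩ
  -- an element of `𝔍 \ 𝔍²`
  obtain ⟨j₀, hj₀, hj₀'⟩ : ∃ j₀ ∈ maximalIdeal C, j₀ ∉ maximalIdeal C ^ 2 := by
    by_contra hcon
    push Not at hcon
    apply hm
    refine Submodule.eq_bot_of_le_smul_of_le_jacobson_bot (maximalIdeal C) (maximalIdeal C)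
      (IsNoetherian.noetherian _) ?_ (IsLocalRing.maximalIdeal_le_jacobson _)
    intro j hj
    have := hcon j hj
    rwa [pow_two] at this
  let mk2 := Ideal.Quotient.mk (maximalIdeal C ^ 2)
  have hε : mk2 j₀ * mk2 j₀ = 0 := by
    rw [← map_mul, Ideal.Quotient.eq_zero_iff_mem, pow_two]
    exact Ideal.mul_mem_mul hj₀ hj₀
  -- the deformed section modulo `𝔍²`
  let v₂ : ResidueField C →+* C ⧸ maximalIdeal C ^ 2 :=
    { toFun := fun x => mk2 (u x) + mk2 (u (D₀ x)) * mk2 j₀
      map_one' := by
        rw [Derivation.map_one_eq_zero, map_zero, map_zero, zero_mul, add_zero, map_one, map_one]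
      map_mul' := by
        intro x y
        rw [Derivation.leibniz, smul_eq_mul, smul_eq_mul]
        simp only [map_add, map_mul]
        linear_combination (-(mk2 (u (D₀ x)) * mk2 (u (D₀ y)))) * hε
      map_zero' := by
        simp only [map_zero, zero_mul, add_zero]
      map_add' := by
        intro x y
        simp only [map_add]
        ring }
  have hv₂ : ∀ x, v₂ x = mk2 (u x) + mk2 (u (D₀ x)) * mk2 j₀ := fun x => rfl
  letI algC : Algebra R₀ C := (u.comp (algebraMap R₀ (ResidueField C))).toAlgebra
  let v₂' : ResidueField C →ₐ[R₀] C ⧸ maximalIdeal C ^ 2 :=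
    { v₂ with
      commutes' := fun r =>
        congr($(hsub (C ⧸ maximalIdeal C ^ 2) (v₂.comp (algebraMap R₀ (ResidueField C)))
          (algebraMap R₀ (C ⧸ maximalIdeal C ^ 2))) r) }
  haveI : IsAdicComplete (maximalIdeal C ^ 2) C := isAdicComplete_sq (maximalIdeal C)
  obtain ⟨v, hv⟩ := Algebra.FormallySmooth.exists_mkₐ_comp_eq_of_isAdicComplete
    (R := R₀) (A := ResidueField C) (S := C) (I := maximalIdeal C ^ 2) v₂'
  have hv' : ∀ x, mk2 (v x) = mk2 (u x) + mk2 (u (D₀ x)) * mk2 j₀ := fun x => congr($hv x)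
  refine ⟨v.toRingHom, ?_, ?_⟩
  · intro x
    have h1 : v x - u x ∈ maximalIdeal C := by
      have h2 : mk2 (v x - u x - u (D₀ x) * j₀) = 0 := by
        rw [map_sub, map_sub, hv', map_mul]
        ring
      rw [Ideal.Quotient.eq_zero_iff_mem] at h2
      have h3 := Ideal.pow_le_self two_ne_zero h2
      have h4 : v x - u x = (v x - u x - u (D₀ x) * j₀) + u (D₀ x) * j₀ := by ring
      rw [h4]
      exact Ideal.add_mem _ h3 (Ideal.mul_mem_left _ _ hj₀)
    change residue C (v x) = x
    have h5 : residue C (v x) = residue C (u x) := Ideal.Quotient.eq.mpr h1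
    rw [h5, hu]
  · intro hvu
    have h1 : v x₀ = u x₀ := congr($hvu x₀)
    have h2 := hv' x₀
    rw [h1, left_eq_add, ← map_mul, Ideal.Quotient.eq_zero_iff_mem] at h2
    have hunit : IsUnit (u (D₀ x₀)) := by
      rw [← IsLocalRing.notMem_maximalIdeal]
      intro hmem
      have := hu (D₀ x₀)
      rw [(IsLocalRing.residue_eq_zero_iff _).mpr hmem] at this
      exact hx₀ this.symm
    exact hj₀' ((Ideal.unit_mul_mem_iff_mem _ hunit).mp h2)

end Exists


open IsLocalRing in
/-- Let C be a complete Noetherian local ring with maximal ideal 𝔍 ≠ 0 and residue field K, and u : K →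
C a ring homomorphism which is a section of the residue map. Then u is the only such section if and
only if Ω_{K/ℤ} = 0. -/
theorem result {C : Type u} [CommRing C] [IsLocalRing C] [IsNoetherianRing C] [IsAdicComplete (maximalIdeal C) C]
    (hm : maximalIdeal C ≠ ⊥) (u : ResidueField C →+* C) (hu : ∀ x, residue C (u x) = x) :
    (∀ v : ResidueField C →+* C, (∀ x, residue C (v x) = x) → v = u) ↔ Subsingleton (Ω[ResidueField C⁄ℤ]) := by
  constructor
  · intro h
    by_contra hΩ
    obtain ⟨p, hp⟩ := CharP.exists (ResidueField C)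
    rcases CharP.char_is_prime_or_zero (ResidueField C) p with hpp | hp0
    · haveI := Fact.mk hpp
      letI : Algebra (ZMod p) (ResidueField C) := ZMod.algebra _ p
      letI : Algebra (ULift.{u} (ZMod p)) (ResidueField C) := ULift.algebra' (ZMod p) (ResidueField C)
      haveI := formallySmooth_of_charP p (ResidueField C)
      obtain ⟨v, hv1, hv2⟩ := exists_ne_section (R₀ := ULift.{u} (ZMod p)) (by
        intro S _ f g
        have h1 : f.comp (ULift.ringEquiv : ULift.{u} (ZMod p) ≃+* ZMod p).symm.toRingHom =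
            g.comp (ULift.ringEquiv : ULift.{u} (ZMod p) ≃+* ZMod p).symm.toRingHom :=
          Subsingleton.elim _ _
        ext x
        have := congr($h1 (ULift.ringEquiv x))
        simpa using this) hm u hu hΩ
      exact hv2 (h v hv1)
    · subst hp0
      haveI : CharZero (ResidueField C) := CharP.charP_to_charZero _
      haveI := formallySmooth_of_charZero (ResidueField C)
      obtain ⟨v, hv1, hv2⟩ := exists_ne_section (R₀ := ℚ) (by
        intro S _ f g
        exact Subsingleton.elim _ _) hm u hu hΩ
      exact hv2 (h v hv1)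
  · intro hΩ v hv
    exact unique_section hΩ u v hu hv

end Groth.Agent.S2483
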