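import Groth.Statements.S7134
-- import your own Groth.Agent.* helpers here
import Groth.Agent.Lib.Helper31.FlatFS
import Groth.Agent.Lib.Helper31.ArtinFS
import Groth.Agent.Lib.Helper31.SmallExt
import Groth.Agent.S2451

set_option autoImplicit false
universe u
open EtAlg

namespace Groth.Agent.S7134

open IsLocalRing

section

variable {A B : Type u} [CommRing A] [CommRing B] [IsLocalRing A] [IsLocalRing B] [Algebra A B]
  [IsLocalHom (algebraMap A B)]

/-- the comparison between the residue field of `B` and `B/𝔪_A B` when `𝔪_A B = 𝔪_B`. -/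
noncomputable def fiberEquiv (h : (maximalIdeal A).map (algebraMap A B) = maximalIdeal B) :
    (B ⧸ maximalIdeal B) ≃ₐ[A ⧸ maximalIdeal A] (B ⧸ (maximalIdeal A).map (algebraMap A B)) :=
  { Ideal.quotEquivOfEq h.symm with
    commutes' := fun r => by
      obtain ⟨a, rfl⟩ := Ideal.Quotient.mk_surjective r
      rfl }

omit [IsLocalHom (algebraMap A B)] in
/-- the closed fibre of an adically formally smooth local homomorphism is formally smooth over
the residue field (discrete topologies), provided some power of `𝔪_B` lies in `𝔪_A B`. -/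
theorem formallySmooth_fiber (h : CAlgX.IsAdicFormallySmooth A B (maximalIdeal B)) (n : ℕ)
    (hn : maximalIdeal B ^ n ≤ (maximalIdeal A).map (algebraMap A B)) :
    Algebra.FormallySmooth (A ⧸ maximalIdeal A) (B ⧸ (maximalIdeal A).map (algebraMap A B)) := by
  apply Algebra.FormallySmooth.of_comp_surjective
  intro T _ _ N hN g
  letI : Algebra A T := Algebra.compHom T (algebraMap A (A ⧸ maximalIdeal A))
  haveI : IsScalarTower A (A ⧸ maximalIdeal A) T := IsScalarTower.of_algebraMap_eq (fun _ => rfl)
  let ψ : B →ₐ[A] T ⧸ N :=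
    (g.restrictScalars A).comp (Ideal.Quotient.mkₐ A ((maximalIdeal A).map (algebraMap A B)))
  have hψ : ∃ k : ℕ, ∀ x ∈ maximalIdeal B ^ k, ψ x = 0 := by
    refine ⟨n, fun x hx => ?_⟩
    change g (Ideal.Quotient.mk _ x) = 0
    rw [Ideal.Quotient.eq_zero_iff_mem.mpr (hn hx), map_zero]
  obtain ⟨χ, hχ⟩ := h T N hN ψ hψ
  have hkill : ∀ b ∈ (maximalIdeal A).map (algebraMap A B), χ b = 0 := by
    intro b hb
    have hle : (maximalIdeal A).map (algebraMap A B) ≤ RingHom.ker χ := by
      rw [Ideal.map_le_iff_le_comap]
      intro a ha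
      rw [Ideal.mem_comap, RingHom.mem_ker, χ.commutes,
        IsScalarTower.algebraMap_apply A (A ⧸ maximalIdeal A) T, Ideal.Quotient.algebraMap_eq,
        Ideal.Quotient.eq_zero_iff_mem.mpr ha, map_zero]
    exact hle hb
  let χ₁ : (B ⧸ (maximalIdeal A).map (algebraMap A B)) →ₐ[A] T :=
    Ideal.Quotient.liftₐ _ χ hkill
  refine ⟨AlgHom.extendScalarsOfSurjective Ideal.Quotient.mk_surjective χ₁, AlgHom.ext fun x => ?_⟩
  obtain ⟨b, rfl⟩ := Ideal.Quotient.mk_surjective x
  exact congr($hχ b)

end


/-- For an injective local homomorphism A → B of discrete valuation rings, A → B is formally smooth for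
the adic topology of the maximal ideal of B if and only if A → B is weakly unramified and the
residue field of B is a separable (possibly transcendental, i.e. geometrically reduced) extension of
the residue field of A. -/
theorem result (A B : Type u) [CommRing A]
    [IsDomain A] [IsDiscreteValuationRing A] [CommRing B] [IsDomain B] [IsDiscreteValuationRing B] [Algebra A B]
    (hinj : Function.Injective (algebraMap A B)) [IsLocalHom (algebraMap A B)] :
    CAlgX.IsAdicFormallySmooth A B (IsLocalRing.maximalIdeal B) ↔
      EtRam.IsWeaklyUnramified A B ∧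
        Algebra.IsGeometricallyReduced (IsLocalRing.ResidueField A) (IsLocalRing.ResidueField B) := by
  haveI : Module.IsTorsionFree A B := Module.isTorsionFree_iff_algebraMap_injective.mpr hinj
  haveI : Module.Flat A B := inferInstance
  constructor
  · intro h
    -- `𝔪_A B` is a power of `𝔪_B`
    obtain ⟨ϖ, hϖ⟩ := IsDiscreteValuationRing.exists_irreducible B
    have hne : (maximalIdeal A).map (algebraMap A B) ≠ ⊥ := by
      intro h0
      rw [Ideal.map_eq_bot_iff_of_injective hinj] at h0
      exact IsDiscreteValuationRing.not_a_field A h0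
    obtain ⟨n, hn⟩ := IsDiscreteValuationRing.ideal_eq_span_pow_irreducible hne hϖ
    have hpow : maximalIdeal B ^ n = (maximalIdeal A).map (algebraMap A B) := by
      rw [hn, (IsDiscreteValuationRing.irreducible_iff_uniformizer ϖ).mp hϖ,
        Ideal.span_singleton_pow]
    have hfs := formallySmooth_fiber h n hpow.le
    -- the fibre is an Artinian local ring
    have hle : (maximalIdeal A).map (algebraMap A B) ≤ maximalIdeal B :=
      IsLocalRing.map_maximalIdeal_le (algebraMap A B)
    have hne_top : (maximalIdeal A).map (algebraMap A B) ≠ ⊤ :=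
      (IsLocalRing.map_maximalIdeal_lt_top (algebraMap A B)).ne
    haveI : Nontrivial (B ⧸ (maximalIdeal A).map (algebraMap A B)) :=
      Ideal.Quotient.nontrivial_iff.mpr hne_top
    haveI : IsLocalRing (B ⧸ (maximalIdeal A).map (algebraMap A B)) :=
      IsLocalRing.of_surjective' (Ideal.Quotient.mk _) Ideal.Quotient.mk_surjective
    haveI : IsArtinianRing (B ⧸ (maximalIdeal A).map (algebraMap A B)) := by
      have h1 := Groth.Agent.Lib.Helper31.SmallExt.isArtinianRing_quot_maximalIdeal_pow B n
      exact Function.Surjective.isArtinianRing (f := Ideal.quotEquivOfEq hpow)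
        (Ideal.quotEquivOfEq hpow).surjective
    letI : Field (A ⧸ maximalIdeal A) := Ideal.Quotient.field _
    have h0 := Groth.Agent.Lib.Helper31.ArtinFS.maximalIdeal_eq_bot_of_formallySmooth
      (A ⧸ maximalIdeal A) (B ⧸ (maximalIdeal A).map (algebraMap A B))
    have hfield : IsField (B ⧸ (maximalIdeal A).map (algebraMap A B)) :=
      IsLocalRing.isField_iff_maximalIdeal_eq.mpr h0
    have hmax : ((maximalIdeal A).map (algebraMap A B)).IsMaximal :=
      Ideal.Quotient.maximal_of_isField _ hfield
    have hwu : (maximalIdeal A).map (algebraMap A B) = maximalIdeal B :=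
      IsLocalRing.eq_maximalIdeal hmax
    refine ⟨hwu, ?_⟩
    have hfs' : Algebra.FormallySmooth (A ⧸ maximalIdeal A) (B ⧸ maximalIdeal B) :=
      Algebra.FormallySmooth.of_equiv (fiberEquiv hwu).symm
    have hfs'' : Algebra.FormallySmooth (ResidueField A) (ResidueField B) := hfs'
    exact Groth.Agent.S2451.result.mp hfs''
  · rintro ⟨hwu, hsep⟩
    have hfs : Algebra.FormallySmooth (ResidueField A) (ResidueField B) :=
      Groth.Agent.S2451.result.mpr hsep
    haveI hfs2 : Algebra.FormallySmooth (A ⧸ maximalIdeal A) (B ⧸ maximalIdeal B) := hfs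
    have hfs' : Algebra.FormallySmooth (A ⧸ maximalIdeal A)
        (B ⧸ (maximalIdeal A).map (algebraMap A B)) :=
      Algebra.FormallySmooth.of_equiv (fiberEquiv hwu)
    have := Groth.Agent.Lib.Helper31.FlatFS.isAdicFormallySmooth_of_flat (maximalIdeal A) hfs'
    have hwu' : (maximalIdeal A).map (algebraMap A B) = maximalIdeal B := hwu
    rwa [hwu'] at this

end Groth.Agent.S7134
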