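import Groth.Statements.S2455
import Groth.Agent.S7134
import Groth.Agent.S4542
import Groth.Agent.S4537
import Groth.Agent.S4543
import Groth.Agent.S2451
import Groth.Agent.Lib.Helper31.FlatFS
import Groth.Agent.S2363
import Groth.Agent.S0543

set_option autoImplicit false
universe u
open EGA41

namespace Groth.Agent.S2455
open IsLocalRing

section uniq

variable {A B : Type u} [CommRing A] [CommRing B] [IsLocalRing A] [IsLocalRing B] [Algebra A B]
  [IsLocalHom (algebraMap A B)]

/-- a flat local algebra with `𝔪_A B = 𝔪_B` and separable residue field extension is formally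
smooth for the `𝔪_B`-adic topology -/
theorem isAdicFormallySmooth_of_flat_of_sep [Module.Flat A B]
    (hwu : (maximalIdeal A).map (algebraMap A B) = maximalIdeal B)
    (hsep : Algebra.IsGeometricallyReduced (ResidueField A) (ResidueField B)) :
    CAlgX.IsAdicFormallySmooth A B (maximalIdeal B) := by
  have hfs : Algebra.FormallySmooth (ResidueField A) (ResidueField B) :=
    Groth.Agent.S2451.result.mpr hsep
  haveI hfs2 : Algebra.FormallySmooth (A ⧸ maximalIdeal A) (B ⧸ maximalIdeal B) := hfs
  have hfs' : Algebra.FormallySmooth (A ⧸ maximalIdeal A)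
      (B ⧸ (maximalIdeal A).map (algebraMap A B)) :=
    Algebra.FormallySmooth.of_equiv (Groth.Agent.S7134.fiberEquiv hwu)
  have := Groth.Agent.Lib.Helper31.FlatFS.isAdicFormallySmooth_of_flat (maximalIdeal A) hfs'
  rwa [hwu] at this

variable {B' : Type u} [CommRing B'] [IsLocalRing B'] [Algebra A B']
  [IsLocalHom (algebraMap A B')]

/-- an `A`-algebra map between Cohen-type algebras inducing an isomorphism on residue fields is
bijective -/
theorem bijective_of_residue (v : B →ₐ[A] B') [IsNoetherianRing B] [IsPrecomplete (maximalIdeal B) B]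
    [IsHausdorff (maximalIdeal B') B'] [Module.Flat A B']
    (hwu : (maximalIdeal A).map (algebraMap A B) = maximalIdeal B)
    (hwu' : (maximalIdeal A).map (algebraMap A B') = maximalIdeal B')
    (σ : ResidueField B ≃+* ResidueField B')
    (hres : ∀ b : B, residue B' (v b) = σ (residue B b)) : Function.Bijective v := by
  have hmap : (maximalIdeal B).map (v : B →+* B') = maximalIdeal B' := by
    rw [← hwu, Ideal.map_map, ← hwu']
    congr 1
    ext a
    exact v.commutes a
  have hvsurj : Function.Surjective (v : B →+* B') := by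
    haveI : IsHausdorff ((maximalIdeal B).map (v : B →+* B')) B' := by
      rw [hmap]; infer_instance
    apply surjective_of_mk_map_comp_surjective (I := maximalIdeal B)
    intro x
    obtain ⟨b', rfl⟩ := Ideal.Quotient.mk_surjective x
    obtain ⟨b, hb⟩ : ∃ b, σ (residue B b) = residue B' b' := by
      obtain ⟨r, hr⟩ := σ.surjective (residue B' b')
      obtain ⟨b, rfl⟩ := residue_surjective r
      exact ⟨b, hr⟩
    refine ⟨b, ?_⟩
    simp only [RingHom.comp_apply]
    rw [Ideal.Quotient.eq, hmap]
    have h1 : residue B' (v b - b') = 0 := by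
      rw [map_sub, hres, hb, sub_self]
    exact (residue_eq_zero_iff _).mp h1
  refine ⟨?_, hvsurj⟩
  -- injectivity
  have hker_le : RingHom.ker (v : B →+* B') ≤ maximalIdeal B := by
    intro x hx
    rw [RingHom.mem_ker] at hx
    have h1 : σ (residue B x) = 0 := by
      rw [← hres]
      show residue B' ((v : B →+* B') x) = 0
      rw [hx, map_zero]
    have h2 : residue B x = 0 := by
      rwa [map_eq_zero_iff σ σ.injective] at h1
    exact (residue_eq_zero_iff _).mp h2
  have key : ∀ y ∈ (maximalIdeal A) • LinearMap.ker v.toLinearMap,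
      y ∈ maximalIdeal B * RingHom.ker (v : B →+* B') := by
    intro y hy
    refine Submodule.smul_induction_on hy (fun a ha n hn => ?_) (fun y z hy hz => add_mem hy hz)
    have hn' : n ∈ RingHom.ker (v : B →+* B') := by
      rw [RingHom.mem_ker]; exact hn
    have ha' : algebraMap A B a ∈ maximalIdeal B := by
      rw [← hwu]; exact Ideal.mem_map_of_mem _ ha
    rw [Algebra.smul_def]
    exact Ideal.mul_mem_mul ha' hn'
  have hN : RingHom.ker (v : B →+* B') ≤ maximalIdeal B • RingHom.ker (v : B →+* B') := by
    intro x hx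
    have hx0 : v.toLinearMap x = 0 := hx
    have hxm : x ∈ (maximalIdeal A) • (⊤ : Submodule A B) := by
      have := hker_le hx
      rw [← hwu] at this
      rw [Ideal.smul_top_eq_map]
      exact this
    have h3 := Groth.Agent.S4543.ker_inf_smul_le (maximalIdeal A) v.toLinearMap hvsurj x hxm hx0
    rw [smul_eq_mul]
    exact key x h3
  have hbot : RingHom.ker (v : B →+* B') = ⊥ :=
    Submodule.eq_bot_of_le_smul_of_le_jacobson_bot (maximalIdeal B) _
      (IsNoetherian.noetherian _) hN (IsLocalRing.maximalIdeal_le_jacobson _)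
  exact (RingHom.injective_iff_ker_eq_bot _).mpr hbot

theorem uniq
    (K : Type u) [Field K] [Algebra (ResidueField A) K]
    (hB : EGA41.IsCohenAlgebra A B) (hB' : EGA41.IsCohenAlgebra A B')
    (e : ResidueField B ≃ₐ[ResidueField A] K) (e' : ResidueField B' ≃ₐ[ResidueField A] K) :
    Nonempty (B ≃ₐ[A] B') := by
  obtain ⟨hAN, hBN, hBc, hBf, hBm, hBs⟩ := hB
  obtain ⟨-, hBN', hBc', hBf', hBm', hBs'⟩ := hB'
  haveI := hBN; haveI := hBc; haveI := hBf; haveI := hBN'; haveI := hBc'; haveI := hBf'
  have hfs := isAdicFormallySmooth_of_flat_of_sep hBm hBs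
  have hfs' : EGA41.IsFormallySmoothAdic A ⊥ B (maximalIdeal B) :=
    (Groth.Agent.S4537.result _).mp hfs
  let σ : ResidueField B ≃ₐ[ResidueField A] ResidueField B' := e.trans e'.symm
  let u₀ : B →ₐ[A] B' ⧸ maximalIdeal B' :=
    { toRingHom := (σ : ResidueField B →+* ResidueField B').comp (residue B)
      commutes' := by
        intro a
        exact σ.commutes (residue A a) }
  haveI : IsHausdorff ((maximalIdeal B').map (Ideal.Quotient.mk (maximalIdeal B')))
      (B' ⧸ maximalIdeal B') := by
    have : (maximalIdeal B').map (Ideal.Quotient.mk (maximalIdeal B')) = ⊥ := by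
      rw [Ideal.map_quotient_self]
    rw [this]
    refine ⟨fun x hx => ?_⟩
    have := hx 1
    rw [pow_one, Submodule.bot_smul, SModEq.bot] at this
    exact this
  obtain ⟨v, -, hv⟩ := Groth.Agent.S4542.result (A := A) (B := B) (C := B')
    ⊥ (maximalIdeal B) (maximalIdeal B') hfs'
    ⟨1, by rw [pow_one, Ideal.map_bot]; exact bot_le⟩ (maximalIdeal B')
    ⟨1, by rw [pow_one]⟩ u₀
    ⟨1, by
      rw [pow_one, Ideal.map_le_iff_le_comap]
      intro b hb
      rw [Ideal.mem_comap]
      have : u₀ b = 0 := by
        show σ (residue B b) = 0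
        rw [(residue_eq_zero_iff b).mpr hb, map_zero]
      show u₀ b ∈ _
      rw [this]; exact zero_mem _⟩
  have hres : ∀ b : B, residue B' (v b) = σ (residue B b) := by
    intro b
    exact DFunLike.congr_fun hv b
  have hbij := bijective_of_residue v hBm hBm' σ.toRingEquiv hres
  exact ⟨AlgEquiv.ofBijective v hbij⟩

end uniq

section exist

theorem exist {A : Type u} [CommRing A] [IsLocalRing A] [IsNoetherianRing A]
    (K : Type u) [Field K] [Algebra (ResidueField A) K]
    [Algebra.IsGeometricallyReduced (ResidueField A) K] :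
    ∃ (B : Type u) (_ : CommRing B) (_ : IsLocalRing B) (_ : Algebra A B)
      (_ : IsLocalHom (algebraMap A B)),
      EGA41.IsCohenAlgebra A B ∧ Nonempty (ResidueField B ≃ₐ[ResidueField A] K) := by
  obtain ⟨B₀, _, _, hN, hL, hLH, hF, e, he⟩ := Groth.Agent.S2363.result (A := A) K
  haveI := hN; haveI := hL; haveI := hLH; haveI := hF
  -- `𝔪_A B₀ = 𝔪_{B₀}`
  have hfield : IsField (B₀ ⧸ (maximalIdeal A).map (algebraMap A B₀)) :=
    e.toMulEquiv.isField (Field.toIsField K)
  have hmax : ((maximalIdeal A).map (algebraMap A B₀)).IsMaximal :=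
    Ideal.Quotient.maximal_of_isField _ hfield
  have hwu₀ : (maximalIdeal A).map (algebraMap A B₀) = maximalIdeal B₀ :=
    IsLocalRing.eq_maximalIdeal hmax
  -- the residue field of `B₀` is `K`
  let φ₀ : ResidueField B₀ ≃+* K := (Ideal.quotEquivOfEq hwu₀.symm).trans e
  have hφ₀ : ∀ a : A, φ₀ (residue B₀ (algebraMap A B₀ a)) =
      algebraMap (ResidueField A) K (residue A a) := fun a => he a
  -- the completion
  let B := AdicCompletion (maximalIdeal B₀) B₀
  haveI hBN : IsNoetherianRing B := Groth.Agent.S0543.result B₀ (maximalIdeal B₀)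
  have halg : algebraMap A B = (algebraMap B₀ B).comp (algebraMap A B₀) :=
    IsScalarTower.algebraMap_eq A B₀ B
  haveI hLH' : IsLocalHom (algebraMap A B) := by
    rw [halg]
    exact RingHom.isLocalHom_comp _ _
  haveI : Module.Flat A B := Module.Flat.trans A B₀ B
  have hwu : (maximalIdeal A).map (algebraMap A B) = maximalIdeal B := by
    rw [halg, ← Ideal.map_map, hwu₀, AdicCompletion.maximalIdeal_eq_map]
  -- residue fields
  let ψ : ResidueField B₀ ≃+* ResidueField B :=
    RingEquiv.ofBijective (ResidueField.map (algebraMap B₀ B))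
      (AdicCompletion.residueField_map_bijective B₀)
  let θ : ResidueField B ≃ₐ[ResidueField A] K :=
    AlgEquiv.ofRingEquiv (f := ψ.symm.trans φ₀) (by
      intro r
      obtain ⟨a, rfl⟩ := residue_surjective r
      have h1 : algebraMap (ResidueField A) (ResidueField B) (residue A a) =
          ψ (residue B₀ (algebraMap A B₀ a)) := by
        show residue B (algebraMap A B a) = residue B (algebraMap B₀ B (algebraMap A B₀ a))
        rw [halg]; rfl
      rw [h1, RingEquiv.trans_apply, RingEquiv.symm_apply_apply, hφ₀])
  refine ⟨B, inferInstance, inferInstance, inferInstance, hLH', ⟨inferInstance, hBN, inferInstance,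
    inferInstance, hwu, ?_⟩, ⟨θ⟩⟩
  exact Algebra.IsGeometricallyReduced.of_injective θ.toAlgHom θ.injective

end exist


open IsLocalRing in
/-- Let A be a Noetherian local ring with residue field k and K a separable extension field of k. Then
there is a Cohen A-algebra B whose residue field is k-isomorphic to K; and two Cohen A-algebras
whose residue fields are k-isomorphic to K are isomorphic as A-algebras. -/
theorem result {A : Type u} [CommRing A] [IsLocalRing A] [IsNoetherianRing A]
    (K : Type u) [Field K] [Algebra (ResidueField A) K] [Algebra.IsGeometricallyReduced (ResidueField A) K] :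
    (∃ (B : Type u) (_ : CommRing B) (_ : IsLocalRing B) (_ : Algebra A B) (_ : IsLocalHom (algebraMap A B)),
      EGA41.IsCohenAlgebra A B ∧ Nonempty (ResidueField B ≃ₐ[ResidueField A] K)) ∧
    ∀ (B B' : Type u) [CommRing B] [IsLocalRing B] [Algebra A B] [IsLocalHom (algebraMap A B)]
      [CommRing B'] [IsLocalRing B'] [Algebra A B'] [IsLocalHom (algebraMap A B')],
      EGA41.IsCohenAlgebra A B → EGA41.IsCohenAlgebra A B' →
      Nonempty (ResidueField B ≃ₐ[ResidueField A] K) → Nonempty (ResidueField B' ≃ₐ[ResidueField A] K) →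
      Nonempty (B ≃ₐ[A] B') := by
  refine ⟨exist K, ?_⟩
  intro B B' _ _ _ _ _ _ _ _ hB hB' ⟨e⟩ ⟨e'⟩
  exact uniq K hB hB' e e'

end Groth.Agent.S2455
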