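import Groth.Statements.S14727
-- import your own Groth.Agent.* helpers here

set_option autoImplicit false
universe u
open ValPrufer

namespace Groth.Agent.S14727

section aux
variable {R : Type u} [CommRing R]

/-- (A): an element locally in `J R_m` for all maximal `m ⊇ I` is in `J = I^n`. -/
theorem mem_of_forall_mem_map (I : Ideal R) (n : ℕ) (r : R)
    (h : ∀ m : MaximalSpectrum R, I ≤ m.asIdeal →
      algebraMap R (Localization.AtPrime m.asIdeal) r ∈
        Ideal.map (algebraMap R (Localization.AtPrime m.asIdeal)) (I ^ n)) :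
    r ∈ I ^ n := by
  classical
  by_contra hr
  -- colon ideal
  have hCdef : ∃ C : Ideal R, ∀ c, c ∈ C ↔ c * r ∈ I ^ n :=
    ⟨Submodule.colon (I ^ n) ({r} : Set R), fun c => by rw [Submodule.mem_colon_singleton, smul_eq_mul]⟩
  obtain ⟨C, hCm⟩ := hCdef
  have hC : C ≠ ⊤ := by
    intro hC
    have : (1 : R) ∈ C := by rw [hC]; trivial
    rw [hCm] at this
    exact hr (by simpa using this)
  obtain ⟨M, hM, hCM⟩ := Ideal.exists_le_maximal C hC
  have hJM : I ^ n ≤ M := by
    intro j hj
    apply hCM
    rw [hCm]
    exact Ideal.mul_mem_right _ _ hj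
  have hIM : I ≤ M := hM.isPrime.le_of_pow_le hJM
  have hP : M.IsPrime := hM.isPrime
  have h1 := h ⟨M, hM⟩ hIM
  rw [IsLocalization.mem_map_algebraMap_iff M.primeCompl] at h1
  obtain ⟨⟨j, s⟩, hjs⟩ := h1
  rw [← map_mul, IsLocalization.eq_iff_exists M.primeCompl] at hjs
  obtain ⟨t, ht⟩ := hjs
  have hmem : (t : R) * (s : R) ∈ C := by
    rw [hCm]
    have : (t : R) * (s : R) * r = t * j := by
      rw [← ht]; ring
    rw [this]
    exact Ideal.mul_mem_left _ _ j.2
  have := hCM hmem
  exact (M.primeCompl.mul_mem t.2 s.2) this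

/-- (F1): the only maximal ideal containing `q_m = comap (I^n R_m)` is `m`. -/
theorem eq_of_comap_map_le (I : Ideal R)
    (hI : ∀ (p : Ideal R), p.IsPrime → I ≤ p → p.IsMaximal) (n : ℕ)
    (m : Ideal R) [hm : m.IsMaximal] (M : Ideal R) (hM : M.IsMaximal)
    (h : Ideal.comap (algebraMap R (Localization.AtPrime m))
      (Ideal.map (algebraMap R (Localization.AtPrime m)) (I ^ n)) ≤ M) : M = m := by
  classical
  by_contra hne
  have hnle : ¬ m ≤ M := fun hle => hne (hm.eq_of_le hM.ne_top hle).symm
  obtain ⟨a, ham, haM⟩ := Set.not_subset.mp hnle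
  have hrad : algebraMap R (Localization.AtPrime m) a ∈
      (Ideal.map (algebraMap R (Localization.AtPrime m)) (I ^ n)).radical := by
    rw [Ideal.radical_eq_sInf, Ideal.mem_sInf]
    rintro P ⟨hPle, hPprime⟩
    have hcp : (Ideal.comap (algebraMap R (Localization.AtPrime m)) P).IsPrime :=
      Ideal.comap_isPrime _ _
    have hJ : I ^ n ≤ Ideal.comap (algebraMap R (Localization.AtPrime m)) P :=
      Ideal.map_le_iff_le_comap.mp hPle
    have hIc : I ≤ Ideal.comap (algebraMap R (Localization.AtPrime m)) P :=
      hcp.le_of_pow_le hJ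
    have hmax := hI _ hcp hIc
    have hle : Ideal.comap (algebraMap R (Localization.AtPrime m)) P ≤ m := by
      have e := IsLocalization.AtPrime.comap_maximalIdeal (Localization.AtPrime m) m
      calc Ideal.comap (algebraMap R (Localization.AtPrime m)) P
          ≤ Ideal.comap (algebraMap R (Localization.AtPrime m))
              (IsLocalRing.maximalIdeal (Localization.AtPrime m)) :=
            Ideal.comap_mono (IsLocalRing.le_maximalIdeal hPprime.ne_top)
        _ = m := e
    have heq := hmax.eq_of_le hm.ne_top hle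
    have : a ∈ Ideal.comap (algebraMap R (Localization.AtPrime m)) P := by rw [heq]; exact ham
    exact this
  obtain ⟨N, hN⟩ := hrad
  rw [← map_pow] at hN
  have : a ^ N ∈ M := h hN
  exact haM (hM.isPrime.mem_of_pow_mem _ this)

/-- (B): levelwise surjectivity via CRT. -/
theorem exists_forall_sub_mem_map (hR : Finite (MaximalSpectrum R)) (I : Ideal R)
    (hI : ∀ (p : Ideal R), p.IsPrime → I ≤ p → p.IsMaximal) (n : ℕ)
    (z : ∀ m : {m : MaximalSpectrum R // I ≤ m.asIdeal}, Localization.AtPrime m.1.asIdeal) :
    ∃ r : R, ∀ m : {m : MaximalSpectrum R // I ≤ m.asIdeal},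
      algebraMap R (Localization.AtPrime m.1.asIdeal) r - z m ∈
        Ideal.map (algebraMap R (Localization.AtPrime m.1.asIdeal)) (I ^ n) := by
  classical
  let ι := {m : MaximalSpectrum R // I ≤ m.asIdeal}
  let q : ι → Ideal R := fun m => Ideal.comap (algebraMap R (Localization.AtPrime m.1.asIdeal))
      (Ideal.map (algebraMap R (Localization.AtPrime m.1.asIdeal)) (I ^ n))
  -- step 1: representatives in R
  have hb : ∀ m : ι, ∃ b : R, algebraMap R (Localization.AtPrime m.1.asIdeal) b - z m ∈
        Ideal.map (algebraMap R (Localization.AtPrime m.1.asIdeal)) (I ^ n) := by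
    intro m
    obtain ⟨⟨a, s⟩, has⟩ := IsLocalization.surj m.1.asIdeal.primeCompl (z m)
    simp only at has
    have hsup : Ideal.span {(s : R)} ⊔ q m = ⊤ := by
      by_contra hne
      obtain ⟨M, hM, hle⟩ := Ideal.exists_le_maximal _ hne
      have hMm : M = m.1.asIdeal :=
        eq_of_comap_map_le I hI n m.1.asIdeal M hM (le_trans le_sup_right hle)
      have : (s : R) ∈ M := hle (Ideal.mem_sup_left (Ideal.mem_span_singleton_self _))
      rw [hMm] at this
      exact s.2 this
    have h1 : (1 : R) ∈ Ideal.span {(s : R)} ⊔ q m := by rw [hsup]; trivial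
    rw [Submodule.mem_sup] at h1
    obtain ⟨x, hx, u, hu, hxu⟩ := h1
    rw [Ideal.mem_span_singleton'] at hx
    obtain ⟨t, rfl⟩ := hx
    refine ⟨a * t, ?_⟩
    have hu' : algebraMap R (Localization.AtPrime m.1.asIdeal) u ∈
        Ideal.map (algebraMap R (Localization.AtPrime m.1.asIdeal)) (I ^ n) := hu
    have : algebraMap R (Localization.AtPrime m.1.asIdeal) (a * t) - z m
        = - (z m * algebraMap R (Localization.AtPrime m.1.asIdeal) u) := by
      have e1 : algebraMap R (Localization.AtPrime m.1.asIdeal) u
          = 1 - algebraMap R (Localization.AtPrime m.1.asIdeal) t *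
            algebraMap R (Localization.AtPrime m.1.asIdeal) s := by
        rw [← map_mul, ← map_one (algebraMap R (Localization.AtPrime m.1.asIdeal)), ← map_sub]
        congr 1
        rw [← hxu]; ring
      rw [map_mul, ← has, e1]; ring
    rw [this]
    exact neg_mem (Ideal.mul_mem_left _ _ hu')
  choose b hb using hb
  -- step 2: CRT
  have hcop : Pairwise (Function.onFun IsCoprime q) := by
    intro m m' hmm'
    change IsCoprime (q m) (q m')
    rw [Ideal.isCoprime_iff_sup_eq]
    by_contra hne
    obtain ⟨M, hM, hle⟩ := Ideal.exists_le_maximal _ hne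
    have h1 : M = m.1.asIdeal :=
      eq_of_comap_map_le I hI n m.1.asIdeal M hM (le_trans le_sup_left hle)
    have h2 : M = m'.1.asIdeal :=
      eq_of_comap_map_le I hI n m'.1.asIdeal M hM (le_trans le_sup_right hle)
    apply hmm'
    apply Subtype.ext
    apply MaximalSpectrum.ext
    rw [← h1, ← h2]
  haveI : Finite ι := Subtype.finite
  obtain ⟨r, hr⟩ := Ideal.exists_forall_sub_mem_ideal hcop b
  refine ⟨r, fun m => ?_⟩
  have h1 : algebraMap R (Localization.AtPrime m.1.asIdeal) (r - b m) ∈
        Ideal.map (algebraMap R (Localization.AtPrime m.1.asIdeal)) (I ^ n) := hr m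
  have : algebraMap R (Localization.AtPrime m.1.asIdeal) r - z m
      = algebraMap R (Localization.AtPrime m.1.asIdeal) (r - b m) +
        (algebraMap R (Localization.AtPrime m.1.asIdeal) (b m) - z m) := by
    rw [map_sub]; ring
  rw [this]
  exact add_mem h1 (hb m)

end aux

/-- Let R be a semilocal ring (finitely many maximal ideals) and I an ideal of R of co-height zero, i.e.
every prime ideal containing I is maximal. Then the canonical map from the I-adic completion of R to
the product, over the maximal ideals m ⊇ I, of the I-adic completions of the local rings R_m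
(equivalently their IR_m-adic completions) is bijective; it is the continuous ring isomorphism of
the source, stated here as bijectivity of the canonical map of completed modules. -/
theorem result
    (R : Type u) [CommRing R] (hR : Finite (MaximalSpectrum R)) (I : Ideal R)
    (hI : ∀ (p : Ideal R), p.IsPrime → I ≤ p → p.IsMaximal) :
    Function.Bijective (LinearMap.pi (fun m : {m : MaximalSpectrum R // I ≤ m.asIdeal} =>
      AdicCompletion.map I (Algebra.linearMap R (Localization.AtPrime m.1.asIdeal)))) := by
  classical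
  have hmem : ∀ (m : MaximalSpectrum R) (n : ℕ) (x : Localization.AtPrime m.asIdeal),
      x ∈ (I ^ n • ⊤ : Submodule R (Localization.AtPrime m.asIdeal)) ↔
      x ∈ Ideal.map (algebraMap R (Localization.AtPrime m.asIdeal)) (I ^ n) := by
    intro m n x
    rw [Ideal.smul_top_eq_map]; rfl
  have hmemR : ∀ (n : ℕ) (x : R), x ∈ (I ^ n • ⊤ : Submodule R R) ↔ x ∈ I ^ n := by
    intro n x
    rw [smul_eq_mul, Ideal.mul_top]
  constructor
  · intro x y hxy
    apply AdicCompletion.ext
    intro n
    obtain ⟨a, ha⟩ := Submodule.Quotient.mk_surjective _ (x.val n)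
    obtain ⟨b, hb⟩ := Submodule.Quotient.mk_surjective _ (y.val n)
    rw [← ha, ← hb, Submodule.Quotient.eq, hmemR]
    apply mem_of_forall_mem_map
    intro m hm
    have h1 := congrFun hxy ⟨m, hm⟩
    simp only [LinearMap.pi_apply] at h1
    have h2 := congrArg (fun w => w.val n) h1
    simp only [AdicCompletion.map_val_apply, ← ha, ← hb, LinearMap.reduceModIdeal_apply] at h2
    rw [Submodule.Quotient.eq, hmem] at h2
    simpa [map_sub] using h2
  · intro y
    have hz : ∀ (n : ℕ) (m : {m : MaximalSpectrum R // I ≤ m.asIdeal}),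
        ∃ z : Localization.AtPrime m.1.asIdeal,
          Submodule.Quotient.mk z = (y m).val n := fun n m =>
      Submodule.Quotient.mk_surjective _ _
    choose z hz using hz
    have hr := fun n => exists_forall_sub_mem_map hR I hI n (z n)
    choose r hr using hr
    have hcompat : ∀ {k n : ℕ} (hkn : k ≤ n), r k ≡ r n [SMOD (I ^ k • ⊤ : Submodule R R)] := by
      intro k n hkn
      rw [SModEq.comm, SModEq.def, Submodule.Quotient.eq, hmemR]
      apply mem_of_forall_mem_map
      intro m hm
      have h1 := hr n ⟨m, hm⟩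
      have h2 := hr k ⟨m, hm⟩
      have h3 : z n ⟨m, hm⟩ - z k ⟨m, hm⟩ ∈
          Ideal.map (algebraMap R (Localization.AtPrime m.asIdeal)) (I ^ k) := by
        rw [← hmem, ← Submodule.Quotient.eq]
        have e1 : (Submodule.Quotient.mk (z n ⟨m, hm⟩) :
            Localization.AtPrime m.asIdeal ⧸ (I ^ k • ⊤ : Submodule R _))
            = AdicCompletion.transitionMap I _ hkn (Submodule.Quotient.mk (z n ⟨m, hm⟩)) := rfl
        rw [e1, hz, hz, AdicCompletion.transitionMap_comp_eval_apply]
      have h1' : algebraMap R (Localization.AtPrime m.asIdeal) (r n) - z n ⟨m, hm⟩ ∈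
          Ideal.map (algebraMap R (Localization.AtPrime m.asIdeal)) (I ^ k) :=
        Ideal.map_mono (Ideal.pow_le_pow_right hkn) h1
      have : algebraMap R (Localization.AtPrime m.asIdeal) (r n - r k)
          = (algebraMap R (Localization.AtPrime m.asIdeal) (r n) - z n ⟨m, hm⟩)
            + (z n ⟨m, hm⟩ - z k ⟨m, hm⟩)
            - (algebraMap R (Localization.AtPrime m.asIdeal) (r k) - z k ⟨m, hm⟩) := by
        rw [map_sub]; ring
      rw [this]
      exact sub_mem (add_mem h1' h3) h2
    refine ⟨AdicCompletion.mk I R (AdicCompletion.AdicCauchySequence.mk I R r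
      (fun n => hcompat (Nat.le_succ n))), ?_⟩
    funext m
    apply AdicCompletion.ext
    intro n
    rw [LinearMap.pi_apply, AdicCompletion.map_val_apply, AdicCompletion.mk_apply_coe,
      Submodule.mkQ_apply]
    change (LinearMap.reduceModIdeal (I ^ n) _) (Submodule.Quotient.mk (r n)) = _
    rw [LinearMap.reduceModIdeal_apply, ← hz, Submodule.Quotient.eq, hmem]
    exact hr n m

end Groth.Agent.S14727
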