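import Groth.Statements.S9405
import Groth.Agent.S14727
import Groth.Agent.S9604
import Groth.Agent.Lib.Helper83.AdicExt

set_option autoImplicit false
set_option linter.unusedSectionVars false
universe u
open CAlg

namespace Groth.Agent.S9405

open IsLocalRing

section general
variable (R : Type u) [CommRing R] [IsLocalRing R] [IsNoetherianRing R]
  [IsAdicComplete (IsLocalRing.maximalIdeal R) R]

theorem isAdicComplete_of_finite (M : Type u) [AddCommGroup M] [Module R M] [Module.Finite R M] :
    IsAdicComplete (maximalIdeal R) M := by
  obtain ⟨n, f, hf⟩ := Module.Finite.exists_fin' R M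
  have : IsPrecomplete (maximalIdeal R) R := inferInstance
  have : IsPrecomplete (maximalIdeal R) (Fin n → R) :=
    Groth.Agent.Lib.Helper83.isPrecomplete_pi (maximalIdeal R)
  have : IsPrecomplete (maximalIdeal R) M :=
    Groth.Agent.Lib.Helper83.isPrecomplete_of_surjective (maximalIdeal R) f hf
  have : IsHausdorff (maximalIdeal R) M := inferInstance
  exact {}

variable (T : Type u) [CommRing T] [Algebra R T] [Module.Finite R T]

theorem isAdicComplete_map : IsAdicComplete ((maximalIdeal R).map (algebraMap R T)) T := by
  rw [IsAdicComplete.map_algebraMap_iff]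
  exact isAdicComplete_of_finite R T

theorem map_le_of_isMaximal (M : Ideal T) (hM : M.IsMaximal) :
    (maximalIdeal R).map (algebraMap R T) ≤ M := by
  have : Algebra.IsIntegral R T := Algebra.IsIntegral.of_finite R T
  have h1 : (M.comap (algebraMap R T)).IsMaximal :=
    Ideal.isMaximal_comap_of_isIntegral_of_isMaximal (R := R) M
  rw [Ideal.map_le_iff_le_comap, IsLocalRing.eq_maximalIdeal h1]

theorem isMaximal_of_map_le (P : Ideal T) (hP : P.IsPrime)
    (h : (maximalIdeal R).map (algebraMap R T) ≤ P) : P.IsMaximal := by
  have : Algebra.IsIntegral R T := Algebra.IsIntegral.of_finite R T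
  have hcp : (P.comap (algebraMap R T)).IsPrime := Ideal.comap_isPrime _ _
  have hle : maximalIdeal R ≤ P.comap (algebraMap R T) := Ideal.map_le_iff_le_comap.mp h
  have heq : maximalIdeal R = P.comap (algebraMap R T) :=
    (IsLocalRing.maximalIdeal.isMaximal R).eq_of_le hcp.ne_top hle
  apply Ideal.isMaximal_of_isIntegral_of_isMaximal_comap (R := R) P
  rw [← heq]
  exact IsLocalRing.maximalIdeal.isMaximal R

include R in
theorem isAdicComplete_maximalIdeal_of_finite [IsLocalRing T] :
    IsAdicComplete (maximalIdeal T) T := by
  have : IsNoetherianRing T := by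
    have : IsNoetherian R T := isNoetherian_of_isNoetherianRing_of_finite R T
    exact isNoetherian_of_tower R inferInstance
  set J := (maximalIdeal R).map (algebraMap R T) with hJ
  have h1 : J ≤ maximalIdeal T := map_le_of_isMaximal R T _ (IsLocalRing.maximalIdeal.isMaximal T)
  have hrad : J.radical = maximalIdeal T := by
    rw [Ideal.radical_eq_sInf]
    apply le_antisymm
    · exact sInf_le ⟨h1, (IsLocalRing.maximalIdeal.isMaximal T).isPrime⟩
    · apply le_sInf
      rintro P ⟨hPle, hPprime⟩
      rw [IsLocalRing.eq_maximalIdeal (isMaximal_of_map_le R T P hPprime hPle)]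
  obtain ⟨N, hN⟩ := Ideal.exists_radical_pow_le_of_fg J (IsNoetherian.noetherian _)
  rw [hrad] at hN
  have hN' : maximalIdeal T ^ (N + 1) ≤ J := le_trans (Ideal.pow_le_pow_right (Nat.le_succ N)) hN
  exact Groth.Agent.S9604.aux J (maximalIdeal T) 1 (N + 1) one_pos (Nat.succ_pos N)
    (by rwa [pow_one]) hN' T (isAdicComplete_map R T)

end general

section main
variable (R : Type u) [CommRing R] [IsLocalRing R] [IsNoetherianRing R]
  [IsAdicComplete (IsLocalRing.maximalIdeal R) R]
  (S : Type u) [CommRing S] [Algebra R S] [Module.Finite R S]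

include R in
theorem isNoetherianRing_of_finite' : IsNoetherianRing S := by
  have : IsNoetherian R S := isNoetherian_of_isNoetherianRing_of_finite R S
  exact isNoetherian_of_tower R inferInstance

include R in
theorem finite_maximalSpectrum : Finite (MaximalSpectrum S) := by
  have hN : IsNoetherianRing S := isNoetherianRing_of_finite' R S
  set I := (maximalIdeal R).map (algebraMap R S) with hI
  have hfin := Ideal.finite_minimalPrimes_of_isNoetherianRing S I
  have : Finite ↥(I.minimalPrimes) := hfin.to_subtype
  have hmem : ∀ m : MaximalSpectrum S, m.asIdeal ∈ I.minimalPrimes := by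
    intro m
    obtain ⟨P, hP, hPle⟩ := Ideal.exists_minimalPrimes_le (map_le_of_isMaximal R S m.asIdeal m.isMaximal)
    have hPmax : P.IsMaximal := isMaximal_of_map_le R S P hP.1.1 hP.1.2
    have : P = m.asIdeal := hPmax.eq_of_le m.isMaximal.ne_top hPle
    rw [← this]; exact hP
  let f : MaximalSpectrum S → I.minimalPrimes := fun m => ⟨m.asIdeal, hmem m⟩
  apply Finite.of_injective f
  intro m m' h
  apply MaximalSpectrum.ext
  exact congrArg Subtype.val h

include R in
theorem exists_idem (m : MaximalSpectrum S) :
    ∃ e : S, algebraMap S (Localization.AtPrime m.asIdeal) e = 1 ∧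
      ∀ m' : MaximalSpectrum S, m' ≠ m →
        algebraMap S (Localization.AtPrime m'.asIdeal) e = 0 := by
  classical
  have hfin : Finite (MaximalSpectrum S) := finite_maximalSpectrum R S
  set I := (maximalIdeal R).map (algebraMap R S) with hI
  have hIle : ∀ m : MaximalSpectrum S, I ≤ m.asIdeal :=
    fun m => map_le_of_isMaximal R S m.asIdeal m.isMaximal
  have hIprime : ∀ (p : Ideal S), p.IsPrime → I ≤ p → p.IsMaximal :=
    fun p hp h => isMaximal_of_map_le R S p hp h
  have hc : IsAdicComplete I S := isAdicComplete_map R S
  -- approximate idempotent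
  obtain ⟨r, hr⟩ := Groth.Agent.S14727.exists_forall_sub_mem_map hfin I hIprime 1
    (fun m' => if m'.1 = m then 1 else 0)
  simp only [pow_one] at hr
  have hrI : r ^ 2 - r ∈ I := by
    have := Groth.Agent.S14727.mem_of_forall_mem_map I 1 (r ^ 2 - r) ?_
    · simpa using this
    intro m' hm'
    have h1 := hr ⟨m', hm'⟩
    simp only [pow_one]
    set z : Localization.AtPrime m'.asIdeal := if m' = m then 1 else 0 with hz
    have hz2 : z ^ 2 = z := by
      rw [hz]; split_ifs <;> simp
    set j := algebraMap S (Localization.AtPrime m'.asIdeal) r - z with hj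
    have : algebraMap S (Localization.AtPrime m'.asIdeal) (r ^ 2 - r)
        = j * (2 * z + j - 1) := by
      have e1 : algebraMap S (Localization.AtPrime m'.asIdeal) r = z + j := by rw [hj]; ring
      rw [map_sub, map_pow, e1]
      have : (z + j) ^ 2 - (z + j) = (z ^ 2 - z) + j * (2 * z + j - 1) := by ring
      rw [this, hz2]; ring
    rw [this]
    exact Ideal.mul_mem_right _ _ h1
  -- Henselian lifting
  have hnt : Nontrivial S := ⟨⟨0, 1, fun h => m.isMaximal.ne_top
    ((Ideal.eq_top_iff_one _).mpr (h ▸ m.asIdeal.zero_mem))⟩⟩
  have hH : HenselianRing S I := inferInstance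
  obtain ⟨e, he, heI⟩ := hH.is_henselian (Polynomial.X ^ 2 - Polynomial.X)
    (Polynomial.monic_X_pow_sub (by rw [Polynomial.degree_X]; norm_num)) r
    (by simpa using hrI)
    (by
      apply IsUnit.of_mul_eq_one (Ideal.Quotient.mk I (2 * r - 1))
      have : (Polynomial.derivative (Polynomial.X ^ 2 - Polynomial.X : Polynomial S)).eval r
          = 2 * r - 1 := by simp; ring
      rw [this, ← map_mul, ← map_one (Ideal.Quotient.mk I), Ideal.Quotient.eq]
      have : (2 * r - 1) * (2 * r - 1) - 1 = 4 * (r ^ 2 - r) := by ring
      rw [this]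
      exact Ideal.mul_mem_left _ _ hrI)
  have he2 : e * e = e := by
    have : e ^ 2 - e = 0 := by simpa [Polynomial.IsRoot] using he
    rw [← sub_eq_zero, ← this]; ring
  have hmapI : ∀ (m' : MaximalSpectrum S) (x : S), x ∈ I →
      algebraMap S (Localization.AtPrime m'.asIdeal) x ∈
        maximalIdeal (Localization.AtPrime m'.asIdeal) := by
    intro m' x hx
    have e1 := IsLocalization.AtPrime.comap_maximalIdeal (Localization.AtPrime m'.asIdeal) m'.asIdeal
    have : x ∈ Ideal.under S (maximalIdeal (Localization.AtPrime m'.asIdeal)) := by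
      rw [e1]; exact hIle m' hx
    exact this
  have hmapI' : ∀ (m' : MaximalSpectrum S),
      Ideal.map (algebraMap S (Localization.AtPrime m'.asIdeal)) I ≤
        maximalIdeal (Localization.AtPrime m'.asIdeal) := by
    intro m'
    rw [Ideal.map_le_iff_le_comap]
    intro x hx
    exact hmapI m' x hx
  refine ⟨e, ?_, ?_⟩
  · -- image of e in S_m is a unit idempotent
    have h1 := hmapI' m (hr ⟨m, hIle m⟩)
    simp only [if_true] at h1
    have h2 := hmapI m (e - r) heI
    have h3 : algebraMap S (Localization.AtPrime m.asIdeal) e - 1 ∈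
        maximalIdeal (Localization.AtPrime m.asIdeal) := by
      have : algebraMap S (Localization.AtPrime m.asIdeal) e - 1
          = algebraMap S (Localization.AtPrime m.asIdeal) (e - r)
            + (algebraMap S (Localization.AtPrime m.asIdeal) r - 1) := by
        rw [map_sub]; ring
      rw [this]; exact add_mem h2 h1
    have hu : IsUnit (algebraMap S (Localization.AtPrime m.asIdeal) e) := by
      by_contra hnu
      have : algebraMap S (Localization.AtPrime m.asIdeal) e ∈
          maximalIdeal (Localization.AtPrime m.asIdeal) := hnu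
      have h1' := sub_mem this h3
      simp only [sub_sub_cancel] at h1'
      exact (Ideal.ne_top_iff_one _).mp (IsLocalRing.maximalIdeal.isMaximal _).ne_top h1'
    have hid : algebraMap S (Localization.AtPrime m.asIdeal) e *
        algebraMap S (Localization.AtPrime m.asIdeal) e
        = algebraMap S (Localization.AtPrime m.asIdeal) e := by rw [← map_mul, he2]
    exact hu.mul_left_cancel (by rw [hid, mul_one])
  · intro m' hne
    have h1 := hmapI' m' (hr ⟨m', hIle m'⟩)
    simp only [if_neg hne, sub_zero] at h1
    have h2 := hmapI m' (e - r) heI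
    have h3 : algebraMap S (Localization.AtPrime m'.asIdeal) e ∈
        maximalIdeal (Localization.AtPrime m'.asIdeal) := by
      have : algebraMap S (Localization.AtPrime m'.asIdeal) e
          = algebraMap S (Localization.AtPrime m'.asIdeal) (e - r)
            + algebraMap S (Localization.AtPrime m'.asIdeal) r := by
        rw [map_sub]; ring
      rw [this]; exact add_mem h2 h1
    have hu : IsUnit (1 - algebraMap S (Localization.AtPrime m'.asIdeal) e) :=
      IsLocalRing.isUnit_one_sub_self_of_mem_nonunits _ h3
    have hid : (1 - algebraMap S (Localization.AtPrime m'.asIdeal) e) *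
        algebraMap S (Localization.AtPrime m'.asIdeal) e = 0 := by
      rw [sub_mul, one_mul, ← map_mul, he2, sub_self]
    exact (IsUnit.mul_right_eq_zero hu).mp hid

include R in
theorem exists_lift (m : MaximalSpectrum S) (w : Localization.AtPrime m.asIdeal) :
    ∃ x : S, algebraMap S (Localization.AtPrime m.asIdeal) x = w ∧
      ∀ m' : MaximalSpectrum S, m' ≠ m →
        algebraMap S (Localization.AtPrime m'.asIdeal) x = 0 := by
  obtain ⟨e, he1, he0⟩ := exists_idem R S m
  obtain ⟨⟨a, s⟩, has⟩ := IsLocalization.surj m.asIdeal.primeCompl w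
  simp only at has
  have himg : ∀ m' : MaximalSpectrum S,
      IsUnit (algebraMap S (Localization.AtPrime m'.asIdeal) ((s : S) * e + (1 - e))) := by
    intro m'
    by_cases h : m' = m
    · subst h
      rw [map_add, map_mul, map_sub, he1, map_one, mul_one, sub_self, add_zero]
      exact IsLocalization.map_units _ s
    · rw [map_add, map_mul, map_sub, he0 m' h, map_one, mul_zero, sub_zero, zero_add]
      exact isUnit_one
  have hu : IsUnit ((s : S) * e + (1 - e)) := by
    by_contra hnu
    obtain ⟨M, hM, huM⟩ := exists_max_ideal_of_mem_nonunits hnu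
    have h1 := himg ⟨M, hM⟩
    have hP : M.IsPrime := hM.isPrime
    rw [IsLocalization.AtPrime.isUnit_to_map_iff (Localization.AtPrime M) M] at h1
    exact h1 huM
  obtain ⟨u, hu'⟩ := hu
  refine ⟨a * e * (↑u⁻¹ : S), ?_, ?_⟩
  · have hs : IsUnit (algebraMap S (Localization.AtPrime m.asIdeal) (s : S)) :=
      IsLocalization.map_units _ s
    apply hs.mul_right_cancel
    rw [has]
    have e1 : algebraMap S (Localization.AtPrime m.asIdeal) (s : S)
        = algebraMap S (Localization.AtPrime m.asIdeal) (u : S) := by
      rw [hu', map_add, map_mul, map_sub, he1, map_one, mul_one, sub_self, add_zero]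
    rw [e1, ← map_mul, mul_assoc (a * e), Units.inv_mul, mul_one, map_mul, he1, mul_one]
  · intro m' hne
    rw [map_mul, map_mul, he0 m' hne, mul_zero, zero_mul]

end main

/-- A module-finite algebra S over a complete Noetherian local ring R is a finite product of complete
Noetherian local rings; precisely, S has finitely many maximal ideals, S maps bijectively onto the
product of its localizations at them, and each of these localizations is Noetherian and complete for
its maximal ideal. -/
theorem result (R : Type u) [CommRing R]
    [IsLocalRing R] [IsNoetherianRing R] [IsAdicComplete (IsLocalRing.maximalIdeal R) R]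
    (S : Type u) [CommRing S] [Algebra R S] [Module.Finite R S] :
    Finite (MaximalSpectrum S) ∧
      Function.Bijective
        (algebraMap S ((m : MaximalSpectrum S) → Localization.AtPrime m.asIdeal)) ∧
      ∀ m : MaximalSpectrum S, IsNoetherianRing (Localization.AtPrime m.asIdeal) ∧
        IsAdicComplete (IsLocalRing.maximalIdeal (Localization.AtPrime m.asIdeal))
          (Localization.AtPrime m.asIdeal) := by
  have hfin : Finite (MaximalSpectrum S) := finite_maximalSpectrum R S
  refine ⟨hfin, ⟨?_, ?_⟩, ?_⟩
  · exact MaximalSpectrum.toPiLocalization_injective S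
  · intro z
    classical
    cases nonempty_fintype (MaximalSpectrum S)
    choose x hx1 hx0 using fun m => exists_lift R S m (z m)
    refine ⟨∑ m, x m, ?_⟩
    funext m
    rw [Pi.algebraMap_apply, map_sum, Finset.sum_eq_single m]
    · exact hx1 m
    · intro m' _ hne
      exact hx0 m' m hne.symm
    · simp
  · intro m
    have hsurj : Function.Surjective (algebraMap S (Localization.AtPrime m.asIdeal)) :=
      fun w => let ⟨x, hx, _⟩ := exists_lift R S m w; ⟨x, hx⟩
    have hfinm : Module.Finite R (Localization.AtPrime m.asIdeal) :=
      Module.Finite.of_surjective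
        ((IsScalarTower.toAlgHom R S (Localization.AtPrime m.asIdeal)).toLinearMap) hsurj
    have hN : IsNoetherianRing S := isNoetherianRing_of_finite' R S
    exact ⟨IsLocalization.isNoetherianRing m.asIdeal.primeCompl _ hN,
      isAdicComplete_maximalIdeal_of_finite R _⟩

end Groth.Agent.S9405
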