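import Groth.Statements.S9257
import Mathlib
import Groth.Agent.Lib.Helper96.QuotientFibre

set_option autoImplicit false
universe u
open CAlg

namespace Groth.Agent.S9257

/-- A Noetherian ring R is a G-ring exactly when, for all primes q ⊆ p of R, the completion of the local
domain (R/q)_p tensored with its fraction field κ(q) is geometrically regular over κ(q). Here the
pairs q ⊆ p are enumerated as primes P of R/q. -/
theorem result (R : Type u) [CommRing R] [IsNoetherianRing R] :
    CAlg.IsGRing R ↔
      ∀ (q : Ideal R) [q.IsPrime] (P : Ideal (R ⧸ q)) [P.IsPrime],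
        CAlg.IsGeometricallyRegular (⊥ : Ideal (Localization.AtPrime P)).ResidueField
          (EGA4.formalFibre (Localization.AtPrime P) (⊥ : Ideal (Localization.AtPrime P))) := by
  classical
  constructor
  · intro hG q _ P _
    haveI : Module.Finite R (R ⧸ q) := Module.Finite.of_surjective
      (Algebra.linearMap R (R ⧸ q)) Ideal.Quotient.mk_surjective
    have hD := Groth.Agent.Lib.Helper96.isRegularHom_adicCompletion_of_finite_global R (R ⧸ q) P
      (P.comap (algebraMap R (R ⧸ q))) rfl (hG.2 _)
    exact (hD.2 ⊥).2
  · intro H
    refine ⟨inferInstance, fun p _ => ⟨inferInstance, fun Q _ => ⟨?_, ?_⟩⟩⟩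
    · exact Groth.Agent.Lib.Helper96.isNoetherianRing_fiber (Localization.AtPrime p) _ Q
    · exact Groth.Agent.Lib.Helper96.isGeometricallyRegular_formalFibre_of_quotient_aux R p Q
        (R ⧸ Q.comap (algebraMap R (Localization.AtPrime p))) Ideal.Quotient.mk_surjective
        (by rw [Ideal.Quotient.algebraMap_eq, Ideal.mk_ker])
        (fun P _ => H (Q.comap (algebraMap R (Localization.AtPrime p))) P)

end Groth.Agent.S9257
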