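import Groth.Statements.S8649
-- import your own Groth.Agent.* helpers here

set_option autoImplicit false
universe u
open Finset
open LambdaRing

namespace Groth.Agent.S8649

/-- adding a line-like element -/
theorem lam_add_line {K : Type u} [CommRing K] [LambdaRing.LambdaOps K] (y : K)
    (hy : ∀ j : ℕ, 2 ≤ j → LambdaRing.LambdaOps.lam j y = 0) (m : ℕ) (w : K) :
    LambdaRing.LambdaOps.lam (m + 1) (w + y) =
      LambdaRing.LambdaOps.lam (m + 1) w + y * LambdaRing.LambdaOps.lam m w := by
  rw [LambdaRing.LambdaOps.lam_add, Finset.sum_range_succ, Finset.sum_range_succ]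
  have h0 : ∑ i ∈ range m, LambdaRing.LambdaOps.lam i w * LambdaRing.LambdaOps.lam (m + 1 - i) y = 0 := by
    apply Finset.sum_eq_zero
    intro i hi
    rw [Finset.mem_range] at hi
    rw [hy (m + 1 - i) (by omega), mul_zero]
  rw [h0, zero_add, Nat.sub_self, LambdaRing.LambdaOps.lam_zero, mul_one,
    show m + 1 - m = 1 by omega, LambdaRing.LambdaOps.lam_one]
  ring

/-- the binomial expansion of `λ^k (x + m)` -/
theorem lam_add_nat {K : Type u} [CommRing K] [LambdaRing.LambdaOps K]
    (h1 : ∀ k : ℕ, 2 ≤ k → LambdaRing.LambdaOps.lam k (1 : K) = 0) (x : K) (m : ℕ) :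
    ∀ k : ℕ, LambdaRing.LambdaOps.lam k (x + (m : K)) =
      ∑ j ∈ range (k + 1), (Nat.choose m (k - j) : K) * LambdaRing.LambdaOps.lam j x := by
  induction m with
  | zero =>
    intro k
    rw [Finset.sum_range_succ]
    have h0 : ∑ j ∈ range k, (Nat.choose 0 (k - j) : K) * LambdaRing.LambdaOps.lam j x = 0 := by
      apply Finset.sum_eq_zero
      intro i hi
      rw [Finset.mem_range] at hi
      obtain ⟨t, ht⟩ : ∃ t, k - i = t + 1 := ⟨k - i - 1, by omega⟩
      rw [ht, Nat.choose_zero_succ]
      simp
    rw [h0]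
    simp
  | succ m ih =>
    intro k
    cases k with
    | zero =>
      simp [LambdaRing.LambdaOps.lam_zero]
    | succ k =>
      have e : x + ((m + 1 : ℕ) : K) = (x + (m : K)) + 1 := by push_cast; ring
      rw [e, lam_add_line 1 h1, ih (k + 1), ih k, one_mul]
      rw [Finset.sum_range_succ (n := k + 1), Finset.sum_range_succ (n := k + 1)]
      rw [Nat.sub_self, Nat.choose_zero_right, Nat.choose_zero_right]
      rw [add_right_comm, ← Finset.sum_add_distrib]
      congr 1
      apply Finset.sum_congr rfl
      intro j hj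
      rw [Finset.mem_range] at hj
      have e2 : k + 1 - j = (k - j) + 1 := by omega
      rw [e2, Nat.choose_succ_succ]
      push_cast
      ring

/-- Let K be a pre-λ-ring (λ^0 = 1, λ^1 = id, λ^n(x + y) = Σ λ^p(x) λ^q(y)) in which λ^k(1) = 0 for all
k ≥ 2, so that λ_t(1) = 1 + t. Then the γ-operations, defined as the coefficients of λ_{t/(1−t)}(x)
(γ^0 = 1 and γ^n(x) = Σ_{j=1}^{n} C(n−1, j−1) λ^j(x) for n ≥ 1), satisfy γ^n(x) = λ^n(x + n − 1) for
all x and n. (The published statement is for a λ-ring, where λ_t also respects products and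
composition; its proof uses only additivity and λ_t(1) = 1 + t, which are the hypotheses taken
here.) -/
theorem result (K : Type u) [CommRing K] [LambdaRing.LambdaOps K]
    (h1 : ∀ k : ℕ, 2 ≤ k → LambdaRing.LambdaOps.lam k (1 : K) = 0) (n : ℕ) (x : K) :
    LambdaRing.gamma n x = LambdaRing.LambdaOps.lam n (x + (n : K) - 1) := by
  cases n with
  | zero =>
    simp [LambdaRing.gamma, LambdaRing.LambdaOps.lam_zero]
  | succ n =>
    have e : x + ((n + 1 : ℕ) : K) - 1 = x + (n : K) := by push_cast; ring
    rw [e, lam_add_nat h1 x n (n + 1)]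
    unfold LambdaRing.gamma
    rw [if_neg (Nat.succ_ne_zero n)]
    apply Finset.sum_congr rfl
    intro j hj
    rw [Finset.mem_range] at hj
    by_cases hj0 : j = 0
    · subst hj0
      simp
    · rw [if_neg hj0]
      congr 2
      rw [show n + 1 - 1 = n by omega]
      have : n + 1 - j = n - (j - 1) := by omega
      rw [this]
      exact (Nat.choose_symm (by omega)).symm

end Groth.Agent.S8649
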