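import Groth.Statements.S1156
import Mathlib.RingTheory.Flat.FaithfullyFlat.Basic
import Mathlib.RingTheory.TensorProduct.Basic
-- import your own Groth.Agent.* helpers here

set_option autoImplicit false
universe u
open scoped TensorProduct
open Desc

namespace Groth.Agent.S1156

section aux

variable (R A : Type u) [CommRing R] [CommRing A] [Algebra R A]

/-- multiplication of the first two tensor factors -/
noncomputable def mulL (P : Type u) [AddCommGroup P] [Module R P] :
    A ⊗[R] (A ⊗[R] P) →ₗ[R] A ⊗[R] P :=
  (LinearMap.mul' R A).rTensor P ∘ₗ (TensorProduct.assoc R A A P).symm.toLinearMap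

@[simp] lemma mulL_tmul (P : Type u) [AddCommGroup P] [Module R P] (a b : A) (p : P) :
    mulL R A P (a ⊗ₜ (b ⊗ₜ p)) = (a * b) ⊗ₜ p := by
  simp [mulL]

variable (M : Type u) [AddCommGroup M] [Module R M]

/-- the zeroth differential of the Amitsur complex -/
noncomputable def d0 : M →ₗ[R] A ⊗[R] M := TensorProduct.mk R A M 1

/-- the first differential of the Amitsur complex -/
noncomputable def d1 : A ⊗[R] M →ₗ[R] A ⊗[R] (A ⊗[R] M) :=
  TensorProduct.mk R A (A ⊗[R] M) 1 - LinearMap.lTensor A (TensorProduct.mk R A M 1)

lemma d1_comp_d0 : d1 R A M ∘ₗ d0 R A M = 0 := by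
  ext m
  simp [d1, d0]

lemma homotopy_identity (y : A ⊗[R] (A ⊗[R] M)) :
    mulL R A (A ⊗[R] M) ((d1 R A M).lTensor A y) + (d0 R A M).lTensor A (mulL R A M y) = y := by
  induction y using TensorProduct.induction_on with
  | zero => simp
  | add x y hx hy =>
    simp only [map_add]
    nth_rewrite 3 [← hx]
    nth_rewrite 3 [← hy]
    abel
  | tmul a z =>
    induction z using TensorProduct.induction_on with
    | zero => simp
    | add x y hx hy =>
      simp only [TensorProduct.tmul_add, map_add]
      nth_rewrite 3 [← hx]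
      nth_rewrite 3 [← hy]
      abel
    | tmul b m =>
      simp [d1, d0]

end aux

/-- Exactness of the extended Amitsur complex in degree 0 (injectivity in degree −1 being standard). Let
R → A be faithfully flat and M an R-module. An element x of A ⊗_R M with 1 ⊗ x = (a ⊗ m ↦ a ⊗ 1 ⊗
m)(x) in A ⊗_R A ⊗_R M lies in the image of m ↦ 1 ⊗ m. -/
theorem result (R A : Type u) [CommRing R] [CommRing A] [Algebra R A] [Module.FaithfullyFlat R A]
    (M : Type u) [AddCommGroup M] [Module R M] (x : A ⊗[R] M)
    (hx : TensorProduct.mk R A (A ⊗[R] M) 1 x = LinearMap.lTensor A (TensorProduct.mk R A M 1) x) :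
    x ∈ LinearMap.range (TensorProduct.mk R A M 1) := by
  have ex : Function.Exact ((d0 R A M).lTensor A) ((d1 R A M).lTensor A) := by
    intro y
    constructor
    · intro hy
      refine ⟨mulL R A M y, ?_⟩
      have h := homotopy_identity R A M y
      rw [hy, map_zero, zero_add] at h
      exact h
    · rintro ⟨z, rfl⟩
      rw [← LinearMap.comp_apply, ← LinearMap.lTensor_comp, d1_comp_d0]
      simp
  have ex' : Function.Exact (d0 R A M) (d1 R A M) :=
    Module.FaithfullyFlat.lTensor_reflects_exact R A (d0 R A M) (d1 R A M) ex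
  have hx' : d1 R A M x = 0 := by
    simp only [d1, LinearMap.sub_apply]
    rw [hx, sub_self]
  obtain ⟨m, hm⟩ := (ex' x).1 hx'
  exact ⟨m, hm⟩

end Groth.Agent.S1156
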