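import Groth.Statements.S6178
import Groth.Prelude.Def_FreeSh
import Groth.Agent.Lib.Helper19.ExtShift
import Mathlib.CategoryTheory.Sites.LocallySurjective
import Mathlib.CategoryTheory.Sites.EpiMono
import Mathlib.CategoryTheory.Adjunction.Whiskering
-- import your own Groth.Agent.* helpers here

set_option autoImplicit false
universe u
open CategoryTheory
open CohSite

namespace Groth.Agent.S6178

open CategoryTheory.Limits Opposite Groth.Agent.Lib.Helper19.ExtShift

variable {C : Type u} [SmallCategory C] (J : GrothendieckTopology C)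

/-- abelian presheaves, as sheaves for the trivial topology. -/
abbrev PSh (C : Type u) [SmallCategory C] := Sheaf (⊥ : GrothendieckTopology C) AddCommGrpCat.{u}

/-- the inclusion of sheaves into presheaves. -/
noncomputable def iota : Sheaf J AddCommGrpCat.{u} ⥤ PSh C :=
  sheafToPresheaf J AddCommGrpCat.{u} ⋙ (sheafBotEquivalence AddCommGrpCat.{u}).inverse

/-- sheafification, from presheaves. -/
noncomputable def aFun : PSh C ⥤ Sheaf J AddCommGrpCat.{u} :=
  (sheafBotEquivalence AddCommGrpCat.{u}).functor ⋙ presheafToSheaf J AddCommGrpCat.{u}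

noncomputable def adj : aFun J ⊣ iota J :=
  (sheafBotEquivalence AddCommGrpCat.{u}).toAdjunction.comp
    (sheafificationAdjunction J AddCommGrpCat.{u})

instance : (aFun J).PreservesMonomorphisms := by
  unfold aFun
  infer_instance

instance : (iota J).IsRightAdjoint := ⟨_, ⟨adj J⟩⟩

instance : (iota J).PreservesZeroMorphisms where
  map_zero _ _ := rfl

theorem injective_iota (I : Sheaf J AddCommGrpCat.{u}) [Injective I] :
    Injective ((iota J).obj I) :=
  Injective.injective_of_adjoint (adj J) I

/-- the free abelian presheaf on a sieve. -/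
noncomputable abbrev ZR {X : C} (R : Sieve X) : PSh C :=
  (presheafToSheaf (⊥ : GrothendieckTopology C) AddCommGrpCat.{u}).obj
    (R.functor ⋙ AddCommGrpCat.free.{u})

/-- maps out of `ZR R` are natural families over `R`. -/
noncomputable def homEquivNat {X : C} (R : Sieve X) (P : PSh C) :
    (ZR R ⟶ P) ≃ (R.functor ⟶ P.obj ⋙ forget AddCommGrpCat.{u}) :=
  ((sheafificationAdjunction (⊥ : GrothendieckTopology C) AddCommGrpCat.{u}).homEquiv _ P).trans
    ((AddCommGrpCat.adj.{u}.whiskerRight Cᵒᵖ).homEquiv R.functor P.obj)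

theorem homEquivNat_comp {X : C} (R : Sieve X) {P P' : PSh C} (ψ : ZR R ⟶ P) (t : P ⟶ P') :
    homEquivNat R P' (ψ ≫ t) = homEquivNat R P ψ ≫ Functor.whiskerRight t.hom (forget _) := by
  unfold homEquivNat
  simp only [Equiv.trans_apply]
  rw [Adjunction.homEquiv_naturality_right, Adjunction.homEquiv_naturality_right]
  rfl


theorem isSheaf_type (F : Sheaf J AddCommGrpCat.{u}) :
    Presieve.IsSheaf J (F.obj ⋙ forget AddCommGrpCat.{u}) :=
  (isSheaf_iff_isSheaf_of_type J _).mp
    (GrothendieckTopology.HasSheafCompose.isSheaf F.obj F.property)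

theorem glue (F : Sheaf J AddCommGrpCat.{u}) {X : C} (R : Sieve X) (hR : R ∈ J X)
    (τ : R.functor ⟶ F.obj ⋙ forget AddCommGrpCat.{u}) :
    ∃ s : F.obj.obj (op X), ∀ (V : C) (f : V ⟶ X) (hf : R f),
      (F.obj.map f.op).hom s = τ.app (op V) ⟨f, hf⟩ := by
  let x : Presieve.FamilyOfElements (F.obj ⋙ forget AddCommGrpCat.{u}) R.arrows :=
    fun V f hf => τ.app (op V) ⟨f, hf⟩
  have hx : x.Compatible := by
    rw [Presieve.compatible_iff_sieveCompatible]
    intro V W f g hf
    exact NatTrans.naturality_apply τ g.op (⟨f, hf⟩ : R.functor.obj (op V))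
  refine ⟨((isSheaf_type J F) R hR).amalgamate x hx, ?_⟩
  intro V f hf
  exact Presieve.IsSheafFor.valid_glue _ hx f hf

theorem sep (F : Sheaf J AddCommGrpCat.{u}) {X : C} (R : Sieve X) (hR : R ∈ J X)
    (s t : F.obj.obj (op X))
    (h : ∀ (V : C) (f : V ⟶ X), R f → (F.obj.map f.op).hom s = (F.obj.map f.op).hom t) :
    s = t :=
  ((isSheaf_type J F) R hR).isSeparatedFor.ext (fun V f hf => h V f hf)





/-- the natural family over a sieve given by restricting a section. -/
def natOfSection (P : Cᵒᵖ ⥤ AddCommGrpCat.{u}) {X : C} (R : Sieve X) (s : P.obj (op X)) :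
    R.functor ⟶ P ⋙ forget AddCommGrpCat.{u} where
  app V := ↾fun x => (P.map x.1.op).hom s
  naturality V W h := by
    ext ⟨f, hf⟩
    change (P.map (h.unop ≫ f).op).hom s = (P.map h).hom ((P.map f.op).hom s)
    rw [op_comp, P.map_comp]
    rfl

theorem lift_of_surjective {I G : Sheaf J AddCommGrpCat.{u}} (g : I ⟶ G) {X : C} (R : Sieve X)
    (hR : R ∈ J X) (hsurj : Function.Surjective (g.hom.app (op X)).hom)
    (φ : ZR R ⟶ (iota J).obj G) : ∃ ψ : ZR R ⟶ (iota J).obj I, ψ ≫ (iota J).map g = φ := by
  obtain ⟨gX, hgX⟩ := glue J G R hR (homEquivNat R _ φ)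
  obtain ⟨s, hs⟩ := hsurj gX
  refine ⟨(homEquivNat R ((iota J).obj I)).symm (natOfSection ((iota J).obj I).obj R s), ?_⟩
  apply (homEquivNat R _).injective
  rw [homEquivNat_comp, Equiv.apply_symm_apply]
  ext V ⟨f, hf⟩
  have h1 := hgX (unop V) f hf
  have h2 : (g.hom.app V).hom ((I.obj.map f.op).hom s) =
      (G.obj.map f.op).hom ((g.hom.app (op X)).hom s) :=
    (ConcreteCategory.congr_hom (g.hom.naturality f.op) s)
  rw [hs] at h2
  exact h2.trans h1


theorem shortExact_iota {S : ShortComplex (Sheaf J AddCommGrpCat.{u})} (hS : S.ShortExact)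
    (hsurj : ∀ V : C, Function.Surjective (S.g.hom.app (op V)).hom) :
    (S.map (iota J)).ShortExact := by
  have hmono : Mono S.f := hS.mono_f
  have hex : (S.map (iota J)).Exact :=
    hS.exact.map_of_mono_of_preservesKernel (iota J) hS.mono_f inferInstance
  have h1 : Mono (S.map (iota J)).f := (inferInstance : Mono ((iota J).map S.f))
  have h2 : Epi (S.map (iota J)).g := by
    change Epi ((iota J).map S.g)
    have : Sheaf.IsLocallySurjective ((iota J).map S.g) := by
      apply Presheaf.isLocallySurjective_of_surjective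
      intro V
      exact hsurj (unop V)
    infer_instance
  exact { exact := hex }


theorem injective_app_of_mono {P Q : PSh C} (m : P ⟶ Q) [Mono m] (V : Cᵒᵖ) :
    Function.Injective (m.hom.app V).hom := by
  have h1 : Mono m.hom := (sheafToPresheaf _ _).map_mono m
  have h2 : Mono (m.hom.app V) := (NatTrans.mono_iff_mono_app m.hom).mp h1 V
  exact (AddCommGrpCat.mono_iff_injective _).mp h2

theorem surjective_of_ext_one {S : ShortComplex (Sheaf J AddCommGrpCat.{u})} (hS : S.ShortExact)
    (Y : C)
    (h : ∀ R : Sieve Y, R ∈ J Y →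
      Subsingleton (Abelian.Ext.{u} (ZR R) ((iota J).obj S.X₁) 1)) :
    Function.Surjective (S.g.hom.app (op Y)).hom := by
  intro g
  have hepi : Epi S.g := hS.epi_g
  have hls : Sheaf.IsLocallySurjective S.g := (Sheaf.isLocallySurjective_iff_epi' (φ := S.g)).mpr hepi
  let R : Sieve Y := Presheaf.imageSieve S.g.hom g
  have hR : R ∈ J Y := Presheaf.imageSieve_mem J S.g.hom g
  -- the short exact sequence of presheaves
  have hmonoS : Mono S.f := hS.mono_f
  have hmono : Mono ((iota J).map S.f) := inferInstance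
  have hex : (S.map (iota J)).Exact :=
    hS.exact.map_of_mono_of_preservesKernel (iota J) hS.mono_f inferInstance
  let T : ShortComplex (PSh C) :=
    ShortComplex.mk ((iota J).map S.f) (cokernel.π ((iota J).map S.f)) (cokernel.condition _)
  have hT : T.ShortExact :=
    { exact := ShortComplex.exact_of_g_is_cokernel _ (cokernelIsCokernel T.f) }
  let m : T.X₃ ⟶ (iota J).obj S.X₃ := cokernel.desc ((iota J).map S.f) ((iota J).map S.g)
    (S.map (iota J)).zero
  have hπm : T.g ≫ m = (iota J).map S.g := cokernel.π_desc _ _ _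
  have hm : Mono m := hex.mono_cokernelDesc
  -- the family in the image presheaf
  have hmem : ∀ (V : Cᵒᵖ) (x : R.functor.obj V),
      ∃ s : S.X₂.obj.obj V, (S.g.hom.app V).hom s = (S.X₃.obj.map x.1.op).hom g := fun V x => x.2
  choose pre hpre using hmem
  have hmπ : ∀ (V : Cᵒᵖ) (s : S.X₂.obj.obj V),
      (m.hom.app V).hom ((T.g.hom.app V).hom s) = (S.g.hom.app V).hom s := by
    intro V s
    have := congrArg (fun t : T.X₂ ⟶ (iota J).obj S.X₃ => (t.hom.app V).hom s) hπm
    exact this
  let θ : R.functor ⟶ T.X₃.obj ⋙ forget AddCommGrpCat.{u} :=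
    { app := fun V => ↾fun x => (T.g.hom.app V).hom (pre V x)
      naturality := by
        intro V W k
        ext x
        apply injective_app_of_mono m W
        change (m.hom.app W).hom ((T.g.hom.app W).hom (pre W (R.functor.map k x))) =
          (m.hom.app W).hom ((T.X₃.obj.map k).hom ((T.g.hom.app V).hom (pre V x)))
        have hnat : (m.hom.app W).hom ((T.X₃.obj.map k).hom ((T.g.hom.app V).hom (pre V x))) =
            (S.X₃.obj.map k).hom ((m.hom.app V).hom ((T.g.hom.app V).hom (pre V x))) :=
          ConcreteCategory.congr_hom (m.hom.naturality k) _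
        rw [hnat, hmπ, hmπ, hpre, hpre]
        change (S.X₃.obj.map (k.unop ≫ x.1).op).hom g = _
        rw [op_comp, S.X₃.obj.map_comp]
        rfl }
  obtain ⟨γ', hγ'⟩ := lift_of_ext_one_subsingleton (ZR R) hT (h R hR)
    ((homEquivNat R T.X₃).symm θ)
  obtain ⟨s, hs⟩ := glue J S.X₂ R hR (homEquivNat R T.X₂ γ')
  refine ⟨s, ?_⟩
  apply sep J S.X₃ R hR
  intro V f hf
  have h1 : (S.X₃.obj.map f.op).hom ((S.g.hom.app (op Y)).hom s) =
      (S.g.hom.app (op V)).hom ((S.X₂.obj.map f.op).hom s) :=
    (ConcreteCategory.congr_hom (S.g.hom.naturality f.op) s).symm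
  rw [h1, hs V f hf]
  have h2 := congrArg (fun t => (t.app (op V)) ⟨f, hf⟩) (homEquivNat_comp R γ' T.g)
  rw [hγ', Equiv.apply_symm_apply] at h2
  -- h2 : θ ⟨f,hf⟩ = T.g (homEquivNat γ' ⟨f,hf⟩)
  have h3 := hmπ (op V) ((homEquivNat R T.X₂ γ').app (op V) ⟨f, hf⟩)
  have h4 : (T.g.hom.app (op V)).hom ((homEquivNat R T.X₂ γ').app (op V) ⟨f, hf⟩) =
      (T.g.hom.app (op V)).hom (pre (op V) ⟨f, hf⟩) := h2.symm
  exact h3.symm.trans ((congrArg (m.hom.app (op V)).hom h4).trans
    ((hmπ _ _).trans (hpre _ _)))


/-- The short exact sequence `F ⟶ I(F) ⟶ I(F)/F` with `I(F)` injective. -/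
noncomputable abbrev injSeq (F : Sheaf J AddCommGrpCat.{u}) :
    ShortComplex (Sheaf J AddCommGrpCat.{u}) :=
  ShortComplex.mk _ _ (cokernel.condition (Injective.ι F))

theorem injSeq_shortExact (F : Sheaf J AddCommGrpCat.{u}) : (injSeq J F).ShortExact :=
  { exact := ShortComplex.exact_of_g_is_cokernel _ (cokernelIsCokernel (injSeq J F).f) }

theorem evalGen_comp (U : C) {F G : Sheaf J AddCommGrpCat.{u}} (φ : CohCx.freeSheaf J U ⟶ F)
    (t : F ⟶ G) :
    CohFree.evalGen J U G (φ ≫ t) = (t.hom.app (op U)).hom (CohFree.evalGen J U F φ) := rfl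

theorem freeSheaf_lift_iff_surjective (U : C) {G H : Sheaf J AddCommGrpCat.{u}} (g : G ⟶ H) :
    (∀ φ : CohCx.freeSheaf J U ⟶ H, ∃ ψ : CohCx.freeSheaf J U ⟶ G, ψ ≫ g = φ) ↔
      Function.Surjective (g.hom.app (op U)).hom := by
  constructor
  · intro h x
    obtain ⟨ψ, hψ⟩ := h (CohFree.ofSect J U H x)
    refine ⟨CohFree.evalGen J U G ψ, ?_⟩
    rw [← evalGen_comp, hψ, CohFree.evalGen_ofSect]
  · intro hg φ
    obtain ⟨t, ht⟩ := hg (CohFree.evalGen J U H φ)
    refine ⟨CohFree.ofSect J U G t, ?_⟩
    apply (CohFree.homEquivSect J U H).injective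
    rw [CohFree.homEquivSect_apply, CohFree.homEquivSect_apply, evalGen_comp,
      CohFree.evalGen_ofSect]
    exact ht

theorem forward (q : ℕ) : ∀ (F : Sheaf J AddCommGrpCat.{u}),
    (∀ (Y : C) (n : ℕ), Subsingleton (Abelian.Ext.{u} (CohCx.freeSheaf J Y) F (n + 1))) →
    ∀ (X : C) (R : Sieve X), R ∈ J X →
      Subsingleton (Abelian.Ext.{u} (ZR R) ((iota J).obj F) (q + 1)) := by
  induction q with
  | zero =>
    intro F hF X R hR
    have hS := injSeq_shortExact J F
    have hsurj : ∀ V : C, Function.Surjective ((injSeq J F).g.hom.app (op V)).hom := fun V =>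
      (freeSheaf_lift_iff_surjective J V (injSeq J F).g).mp
        (lift_of_ext_one_subsingleton _ hS (hF V 0))
    have hT := shortExact_iota J hS hsurj
    have : Injective ((injSeq J F).map (iota J)).X₂ := injective_iota J _
    exact ext_one_subsingleton_of_lift (ZR R) hT
      (fun φ => lift_of_surjective J (injSeq J F).g R hR (hsurj X) φ)
  | succ q ih =>
    intro F hF X R hR
    have hS := injSeq_shortExact J F
    have hsurj : ∀ V : C, Function.Surjective ((injSeq J F).g.hom.app (op V)).hom := fun V =>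
      (freeSheaf_lift_iff_surjective J V (injSeq J F).g).mp
        (lift_of_ext_one_subsingleton _ hS (hF V 0))
    have hT := shortExact_iota J hS hsurj
    have : Injective ((injSeq J F).map (iota J)).X₂ := injective_iota J _
    have : Injective (injSeq J F).X₂ := inferInstanceAs (Injective (Injective.under F))
    have hG : ∀ (Y : C) (n : ℕ),
        Subsingleton (Abelian.Ext.{u} (CohCx.freeSheaf J Y) (injSeq J F).X₃ (n + 1)) :=
      fun Y n => ext_succ_subsingleton_of_succ_succ _ hS n (hF Y (n + 1))
    exact ext_succ_succ_subsingleton (ZR R) hT q (ih (injSeq J F).X₃ hG X R hR)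

theorem backward (q : ℕ) : ∀ (F : Sheaf J AddCommGrpCat.{u}),
    (∀ (X : C) (R : Sieve X), R ∈ J X → ∀ n : ℕ,
      Subsingleton (Abelian.Ext.{u} (ZR R) ((iota J).obj F) (n + 1))) →
    ∀ (Y : C), Subsingleton (Abelian.Ext.{u} (CohCx.freeSheaf J Y) F (q + 1)) := by
  induction q with
  | zero =>
    intro F hF Y
    have hS := injSeq_shortExact J F
    have hsurj : ∀ V : C, Function.Surjective ((injSeq J F).g.hom.app (op V)).hom := fun V =>
      surjective_of_ext_one J hS V (fun R hR => hF V R hR 0)
    have : Injective (injSeq J F).X₂ := inferInstanceAs (Injective (Injective.under F))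
    exact ext_one_subsingleton_of_lift _ hS
      ((freeSheaf_lift_iff_surjective J Y (injSeq J F).g).mpr (hsurj Y))
  | succ q ih =>
    intro F hF Y
    have hS := injSeq_shortExact J F
    have hsurj : ∀ V : C, Function.Surjective ((injSeq J F).g.hom.app (op V)).hom := fun V =>
      surjective_of_ext_one J hS V (fun R hR => hF V R hR 0)
    have hT := shortExact_iota J hS hsurj
    have : Injective ((injSeq J F).map (iota J)).X₂ := injective_iota J _
    have : Injective (injSeq J F).X₂ := inferInstanceAs (Injective (Injective.under F))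
    have hG : ∀ (X : C) (R : Sieve X), R ∈ J X → ∀ n : ℕ,
        Subsingleton (Abelian.Ext.{u} (ZR R) ((iota J).obj (injSeq J F).X₃) (n + 1)) :=
      fun X R hR n => ext_succ_subsingleton_of_succ_succ (ZR R) hT n (hF X R hR (n + 1))
    exact ext_succ_succ_subsingleton _ hS q (ih (injSeq J F).X₃ hG Y)


/-- An abelian sheaf F on a small site (C, J) is C-acyclic, i.e. H^q(X, F) = 0 for all objects X and q >
0, if and only if H^q(R, H^0(F)) = 0 for every object X, every covering sieve R of X and every q >
0, where H^0(F) is the underlying presheaf of F and H^q(R, -), for a presheaf of sets R, is the q-th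
Ext out of the free abelian presheaf on R computed in abelian presheaves (the sheaves for the
trivial topology). -/
theorem result {C : Type u} [SmallCategory C] (J : GrothendieckTopology C)
    (F : Sheaf J AddCommGrpCat.{u}) :
    (∀ (X : C) (q : ℕ), Subsingleton (CohSite.HU F (q + 1) X)) ↔
      ∀ (X : C) (R : Sieve X), R ∈ J X → ∀ q : ℕ,
        Subsingleton (CohCx.HK (J := (⊥ : GrothendieckTopology C)) ⟨R.functor, Presheaf.isSheaf_bot _⟩
          ⟨F.obj, Presheaf.isSheaf_bot _⟩ (q + 1)) := by
  constructor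
  · intro h X R hR q
    exact forward J q F (fun Y n => h Y n) X R hR
  · intro h X q
    exact backward J q F (fun X R hR n => h X R hR n) X

end Groth.Agent.S6178
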