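import Groth.Statements.S0460
import Groth.Prelude.Def_FreeSh
import Mathlib.Topology.Sheaves.Flasque
import Mathlib.Algebra.Homology.DerivedCategory.Ext.ExactSequences

set_option autoImplicit false
universe u
open CategoryTheory
open CohTop

namespace Groth.Agent.S0460

open TopologicalSpace Opposite CategoryTheory.Limits Abelian

/-- `res` is precomposition with the class of `ℤ_V ⟶ ℤ_U`. -/
lemma res_eq {X : TopCat.{u}} (F : CohTop.Ab X) (n : ℕ) {U V : Opens X} (h : V ≤ U)
    (ξ : CohTop.HU F n U) :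
    CohTop.res F n h ξ =
      (Ext.mk₀ (CohCx.freeSheafMap (Opens.grothendieckTopology X) (homOfLE h))).comp
        (show Ext.{u} (CohCx.freeSheaf (Opens.grothendieckTopology X) U) F n from ξ) (zero_add n) :=
  rfl



theorem kill {X : TopCat.{u}} (n : ℕ) : ∀ (F : CohTop.Ab X) (U : Opens X)
    (ξ : Ext.{u} (CohCx.freeSheaf (Opens.grothendieckTopology X) U) F (n + 1)),
    ∃ (ι : Type u) (V : ι → Opens X) (hV : ∀ i, V i ≤ U), iSup V = U ∧
      ∀ i, (Ext.mk₀ (CohCx.freeSheafMap (Opens.grothendieckTopology X) (homOfLE (hV i)))).comp ξ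
        (zero_add (n + 1)) = 0 := by
  induction n with
  | zero =>
    intro F U ξ
    let S := ShortComplex.mk _ _ (cokernel.condition (Injective.ι F))
    have hS : S.ShortExact :=
      { exact := ShortComplex.exact_of_g_is_cokernel _ (cokernelIsCokernel S.f) }
    obtain ⟨x₃, hx₃⟩ := Ext.covariant_sequence_exact₁ _ hS ξ (Ext.eq_zero_of_injective _) rfl
    obtain ⟨φ, rfl⟩ := (Ext.mk₀_bijective _ S.X₃).2 x₃
    -- the section of the quotient
    let q := CohFree.evalGen (Opens.grothendieckTopology X) U S.X₃ φ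
    have hepi : Epi S.g := hS.epi_g
    have hloc := (TopCat.Presheaf.isLocallySurjective_iff S.g.hom).mp
      ((TopCat.Sheaf.isLocallySurjective_iff_epi S.g).mpr hepi) U q
    choose V hVU hV hxV using hloc
    refine ⟨{x : X // x ∈ U}, fun x => V x.1 x.2, fun x => hVU x.1 x.2, ?_, ?_⟩
    · apply le_antisymm
      · exact iSup_le fun x => hVU x.1 x.2
      · intro x hx
        exact Opens.mem_iSup.2 ⟨⟨x, hx⟩, hxV x hx⟩
    · intro x
      obtain ⟨t, ht⟩ := hV x.1 x.2
      rw [← hx₃, ← Ext.comp_assoc_of_second_deg_zero, Ext.mk₀_comp_mk₀]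
      have hφ : CohCx.freeSheafMap (Opens.grothendieckTopology X) (homOfLE (hVU x.1 x.2)) ≫ φ =
          CohFree.ofSect (Opens.grothendieckTopology X) (V x.1 x.2) S.X₂ t ≫ S.g := by
        apply (CohFree.homEquivSect (Opens.grothendieckTopology X) _ S.X₃).injective
        rw [CohFree.homEquivSect_apply, CohFree.homEquivSect_apply,
          CohFree.evalGen_freeSheafMap_comp]
        have : CohFree.evalGen (Opens.grothendieckTopology X) (V x.1 x.2) S.X₃
            (CohFree.ofSect (Opens.grothendieckTopology X) (V x.1 x.2) S.X₂ t ≫ S.g) =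
            (S.g.hom.app (op (V x.1 x.2))).hom
              (CohFree.evalGen (Opens.grothendieckTopology X) (V x.1 x.2) S.X₂
                (CohFree.ofSect (Opens.grothendieckTopology X) (V x.1 x.2) S.X₂ t)) := rfl
        rw [this, CohFree.evalGen_ofSect]
        exact ht.symm
      rw [hφ, ← Ext.mk₀_comp_mk₀, Ext.comp_assoc_of_second_deg_zero, hS.comp_extClass,
        Ext.comp_zero]
  | succ n ih =>
    intro F U ξ
    let S := ShortComplex.mk _ _ (cokernel.condition (Injective.ι F))
    have hS : S.ShortExact :=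
      { exact := ShortComplex.exact_of_g_is_cokernel _ (cokernelIsCokernel S.f) }
    obtain ⟨x₃, hx₃⟩ := Ext.covariant_sequence_exact₁ _ hS ξ (Ext.eq_zero_of_injective _) rfl
    obtain ⟨ι, V, hV, hVU, hz⟩ := ih S.X₃ U x₃
    refine ⟨ι, V, hV, hVU, fun i => ?_⟩
    rw [← hx₃, ← Ext.comp_assoc _ _ _ (zero_add (n + 1)) rfl (by omega), hz i, Ext.zero_comp]


open TopologicalSpace in
/-- Given an abelian sheaf F, an open U and a class ξ in H^(n+1)(U, F), there is an open covering of U
on each member of which ξ restricts to zero. -/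
theorem result {X : TopCat.{u}} (F : CohTop.Ab X) (U : Opens X) (n : ℕ)
    (ξ : CohTop.HU F (n + 1) U) :
    ∃ (ι : Type u) (V : ι → Opens X) (hV : ∀ i, V i ≤ U), iSup V = U ∧
      ∀ i, CohTop.res F (n + 1) (hV i) ξ = 0 := by
  obtain ⟨ι, V, hV, hVU, hz⟩ := kill n F U ξ
  exact ⟨ι, V, hV, hVU, fun i => by rw [res_eq]; exact hz i⟩

end Groth.Agent.S0460
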