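import Groth.Statements.S6021
import Groth.Agent.Lib.Helper19.LocCohVanish

set_option autoImplicit false
universe u
open CategoryTheory CategoryTheory.Limits TopologicalSpace
open LocCohZ

namespace Groth.Agent.S6021

/-- Consider a topological space X carrying an abelian sheaf F, a closed subset Z whose open complement
is U, and a natural number N > 0. Assume that, for each open V of X and each i < N, restricting
H^i(V, F) → H^i(V ∩ U, F) gives a bijection. Then ℋ^i_Z(F), the local cohomology sheaves, are zero
for every i ≤ N (no separate injectivity hypothesis in degree N is needed, since it follows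
automatically). -/
theorem result {X : TopCat.{u}} (F : CohTop.Ab X) (U : Opens X) (N : ℕ) (hN : 0 < N)
    (h : ∀ (V : Opens X) (i : ℕ), i < N → Function.Bijective (CohTop.res F i (inf_le_left : V ⊓ U ≤ V))) :
    ∀ i : ℕ, i ≤ N → IsZero ((LocCohZ.HZsh U i).obj F) := by
  intro i hi
  have hinj : ∀ W, Function.Injective (F.obj.map (homOfLE (Groth.Agent.Lib.Cohomology.OpenAdj.jj_le U W)).op) := by
    intro W
    apply Groth.Agent.Lib.Helper19.LocCohVanish.map_injective_of_res
    exact Groth.Agent.Lib.Helper19.LocCohVanish.res_transport F 0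
      (fun f => Function.Injective f) _ _
      (Groth.Agent.Lib.Helper19.LocCohVanish.jj_eq U W).symm inf_le_left _ (h W 0 hN).1
  have hsurj : ∀ (k : ℕ), k < N → ∀ W, Function.Surjective
      (CohTop.res F k (Groth.Agent.Lib.Cohomology.OpenAdj.jj_le U W)) := by
    intro k hk W
    exact Groth.Agent.Lib.Helper19.LocCohVanish.res_transport F k
      (fun f => Function.Surjective f) _ _
      (Groth.Agent.Lib.Helper19.LocCohVanish.jj_eq U W).symm inf_le_left _ (h W k hk).2
  match i, hi with
  | 0, _ => exact Groth.Agent.Lib.Helper19.LocCohVanish.isZero_HZsh_zero U F hinj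
  | 1, _ =>
    exact Groth.Agent.Lib.Helper19.LocCohVanish.isZero_HZsh_one U F (fun W =>
      Groth.Agent.Lib.Helper19.LocCohVanish.map_surjective_of_res F _ (hsurj 0 hN W))
  | (k + 2), hk =>
    exact Groth.Agent.Lib.Helper19.LocCohVanish.isZero_HZsh_succ U F k (hsurj (k + 1) (by omega))

end Groth.Agent.S6021
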