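import Groth.Statements.S6023
import Groth.Agent.Lib.Cohomology.Helper3_LocCohSh
-- import your own Groth.Agent.* helpers here

set_option autoImplicit false
universe u
open CategoryTheory CategoryTheory.Limits TopologicalSpace
open LocCohZ

namespace Groth.Agent.S6023

open Groth.Agent.Lib.Cohomology in
theorem partA {X : TopCat.{u}} (F : CohTop.Ab X) [TopCat.Sheaf.IsFlasque F]
    (W V : Opens X) (h : W ≤ V) (k : ℕ) : Subsingleton (LocCohZ.HZ F (k + 1) h) := by
  have hS := LocCohZ.zqSeq_shortExact h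
  have hV : Subsingleton (Abelian.Ext.{u} (LocCohZ.zqSeq h).X₂ F (k + 1)) :=
    HU_succ_subsingleton_of_flasque F V k
  refine subsingleton_of_forall_eq 0 fun x₃ => ?_
  obtain ⟨x₁, rfl⟩ := Abelian.Ext.contravariant_sequence_exact₃ hS F x₃
    (Subsingleton.elim _ _) (n₀ := k) (by omega)
  rcases k with _ | k
  · -- degree zero: lift along restriction using flasqueness
    obtain ⟨φ, rfl⟩ : ∃ φ : (LocCohZ.zqSeq h).X₁ ⟶ F, Abelian.Ext.mk₀ φ = x₁ :=
      ⟨Abelian.Ext.addEquiv₀ x₁, by simp⟩
    have hepi : Epi (F.obj.map (homOfLE h).op) := TopCat.Presheaf.IsFlasque.epi (F := F.obj) _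
    rw [AddCommGrpCat.epi_iff_surjective] at hepi
    obtain ⟨t, ht⟩ := hepi (CohFree.evalGen (Opens.grothendieckTopology X) W F φ)
    have hφ : φ = (LocCohZ.zqSeq h).f ≫ CohFree.ofSect (Opens.grothendieckTopology X) V F t := by
      apply (CohFree.homEquivSect (Opens.grothendieckTopology X) W F).injective
      rw [CohFree.homEquivSect_apply, CohFree.homEquivSect_apply]
      have := CohFree.evalGen_freeSheafMap_comp (Opens.grothendieckTopology X) (homOfLE h) F
        (CohFree.ofSect (Opens.grothendieckTopology X) V F t)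
      rw [CohFree.evalGen_ofSect] at this
      exact ht.symm.trans this.symm
    rw [hφ, ← Abelian.Ext.mk₀_comp_mk₀, ← Abelian.Ext.comp_assoc_of_second_deg_zero,
      hS.extClass_comp, Abelian.Ext.zero_comp]
    rfl
  · have hW : Subsingleton (Abelian.Ext.{u} (LocCohZ.zqSeq h).X₁ F (k + 1)) :=
      HU_succ_subsingleton_of_flasque F W k
    rw [Subsingleton.elim x₁ 0, Abelian.Ext.comp_zero]
    rfl

open Groth.Agent.Lib.Cohomology Groth.Agent.Lib.Cohomology.LocCohSh
  Groth.Agent.Lib.Cohomology.OpenAdj in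
theorem partB {X : TopCat.{u}} (F : CohTop.Ab X) [TopCat.Sheaf.IsFlasque F]
    (U : Opens X) (k : ℕ) : IsZero ((LocCohZ.HZsh U (k + 1)).obj F) := by
  rcases k with _ | k
  · have hex := exact_unit_π' U F
    have : Epi ((adj U).unit.app F) := epi_unit_of_flasque U F
    have h0 : (π' U).app F = 0 := hex.epi_f_iff.1 this
    exact IsZero.of_epi_eq_zero _ h0
  · obtain ⟨e⟩ := nonempty_HZsh_succ_iso U (k + 1) (by omega)
    refine IsZero.of_iso ?_ (e.app F)
    have : TopCat.Sheaf.IsFlasque (CohTop.restr F U) := Restr.isFlasque_restr U F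
    have h := isZero_Rpush_succ_of_flasque (CohCx.incl U) (CohTop.restr F U) k
    exact IsZero.of_iso h (((CohTop.push (CohCx.incl U)).rightDerived (k + 1)).mapIso
      ((pullIso U).app F))

/-- Let F be a flasque abelian sheaf on a topological space X. Then H^i_Z(V, F) = 0 for every locally
closed subset Z = V − W (W ⊆ V opens of X) and every i > 0, and ℋ^i_Z(F) = 0 for every closed subset
Z = X − U and every i > 0. (The sheaf assertion is stated for closed Z only.) -/
theorem result {X : TopCat.{u}} (F : CohTop.Ab X) [TopCat.Sheaf.IsFlasque F] :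
    (∀ (W V : Opens X) (h : W ≤ V) (i : ℕ), 0 < i → Subsingleton (LocCohZ.HZ F i h)) ∧
      ∀ (U : Opens X) (i : ℕ), 0 < i → IsZero ((LocCohZ.HZsh U i).obj F) := by
  refine ⟨fun W V h i hi => ?_, fun U i hi => ?_⟩
  · obtain ⟨k, rfl⟩ : ∃ k, i = k + 1 := ⟨i - 1, by omega⟩
    exact partA F W V h k
  · obtain ⟨k, rfl⟩ : ∃ k, i = k + 1 := ⟨i - 1, by omega⟩
    exact partB F U k

end Groth.Agent.S6023
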