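import Groth.Statements.S5168
import Mathlib
-- import your own Groth.Agent.* helpers here

set_option autoImplicit false
universe u
open InjHull

namespace Groth.Agent.S5168


/-- A linear map from a Noetherian module to a power-torsion module is killed by a single power. -/
theorem exists_pow_kills {A : Type u} [CommRing A] (J : Ideal A) {P H : Type u}
    [AddCommGroup P] [Module A P] [IsNoetherian A P] [AddCommGroup H] [Module A H]
    (hH : LocCoh.IsPowerTorsion J H) (g : P →ₗ[A] H) :
    ∃ k : ℕ, ∀ x : P, ∀ a ∈ J ^ k, a • g x = 0 := by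
  let T : ℕ →o Submodule A P :=
    { toFun := fun n =>
        { carrier := {x | ∀ a ∈ J ^ n, a • g x = 0}
          add_mem' := by
            intro x y hx hy a ha
            rw [map_add, smul_add, hx a ha, hy a ha, add_zero]
          zero_mem' := by
            intro a _
            rw [map_zero, smul_zero]
          smul_mem' := by
            intro r x hx a ha
            rw [map_smul, smul_comm, hx a ha, smul_zero] }
      monotone' := by
        intro m n hmn x hx a ha
        exact hx a (Ideal.pow_le_pow_right hmn ha) }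
  obtain ⟨k, hk⟩ := monotone_stabilizes_iff_noetherian.mpr (inferInstance : IsNoetherian A P) T
  refine ⟨k, fun x => ?_⟩
  obtain ⟨m, hm⟩ := hH (g x)
  have hxm : x ∈ T m := hm
  have hxk : x ∈ T (max m k) := T.monotone (le_max_left m k) hxm
  rw [← hk (max m k) (le_max_right m k)] at hxk
  exact hxk

/-- Let A be a Noetherian ring, J an ideal and H a J-power torsion A-module. Then H is injective if and
only if Hom_A(−, H) is exact on finite A-modules killed by a power of J, i.e. every linear map to H
from a submodule of such a module M extends to M. -/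
theorem result (A : Type u) [CommRing A] [IsNoetherianRing A] (J : Ideal A) (H : Type u) [AddCommGroup H] [Module A H] (hH : LocCoh.IsPowerTorsion J H) : Module.Injective A H ↔ ∀ (M : Type u) [AddCommGroup M] [Module A M], Module.Finite A M → (∃ k : ℕ, (J ^ k) • (⊤ : Submodule A M) = ⊥) → ∀ (N : Submodule A M) (g : N →ₗ[A] H), ∃ g' : M →ₗ[A] H, g'.comp N.subtype = g := by
  constructor
  · intro hinj M _ _ _ _ N g
    exact Module.Injective.extension_property A H N M N.subtype N.injective_subtype g
  · intro hext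
    apply Module.Baer.injective
    intro I g
    obtain ⟨k, hk⟩ := exists_pow_kills J hH g
    obtain ⟨c, hc⟩ := Ideal.exists_pow_inf_eq_pow_smul J (I : Submodule A A)
    -- g vanishes on I ∩ J^(k+c)
    have hvan : ∀ (x : A) (hxI : x ∈ I), x ∈ J ^ (k + c) → g ⟨x, hxI⟩ = 0 := by
      intro x hxI hxJ
      have h1 : x ∈ (J ^ (k + c) • (⊤ : Submodule A A) ⊓ (I : Submodule A A)) := by
        refine ⟨?_, hxI⟩
        rw [Ideal.smul_top_eq_map]
        simpa using hxJ
      rw [hc (k + c) (Nat.le_add_left c k), Nat.add_sub_cancel] at h1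
      have h2 : ∀ y ∈ J ^ k • (J ^ c • (⊤ : Submodule A A) ⊓ (I : Submodule A A)),
          ∃ hy : y ∈ I, g ⟨y, hy⟩ = 0 := by
        intro y hy
        refine Submodule.smul_induction_on hy ?_ ?_
        · intro a ha z hz
          refine ⟨I.mul_mem_left a hz.2, ?_⟩
          have : (⟨a • z, I.mul_mem_left a hz.2⟩ : I) = a • (⟨z, hz.2⟩ : I) := rfl
          rw [this, map_smul]
          exact hk _ a ha
        · rintro y z ⟨hyI, hy0⟩ ⟨hzI, hz0⟩
          refine ⟨I.add_mem hyI hzI, ?_⟩
          have : (⟨y + z, I.add_mem hyI hzI⟩ : I) = ⟨y, hyI⟩ + ⟨z, hzI⟩ := rfl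
          rw [this, map_add, hy0, hz0, add_zero]
      obtain ⟨_, h3⟩ := h2 x h1
      exact h3
    -- the quotient module
    let φ : I →ₗ[A] (A ⧸ J ^ (k + c)) := (Submodule.mkQ (J ^ (k + c))) ∘ₗ (Submodule.subtype I)
    have hker : LinearMap.ker φ ≤ LinearMap.ker g := by
      intro x hx
      rw [LinearMap.mem_ker] at hx ⊢
      have : (x : A) ∈ J ^ (k + c) := by
        have h := hx
        change Submodule.Quotient.mk (x : A) = 0 at h
        rwa [Submodule.Quotient.mk_eq_zero] at h
      exact hvan x x.2 this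
    let gbar : LinearMap.range φ →ₗ[A] H :=
      ((LinearMap.ker φ).liftQ g hker) ∘ₗ (φ.quotKerEquivRange.symm : LinearMap.range φ →ₗ[A] _)
    have hkill : ∃ k' : ℕ, (J ^ k') • (⊤ : Submodule A (A ⧸ J ^ (k + c))) = ⊥ := by
      refine ⟨k + c, ?_⟩
      rw [eq_bot_iff, Submodule.smul_le]
      intro a ha m _
      obtain ⟨b, rfl⟩ := Submodule.mkQ_surjective _ m
      rw [Submodule.mem_bot, Submodule.mkQ_apply, ← Submodule.Quotient.mk_smul,
        Submodule.Quotient.mk_eq_zero]
      exact Ideal.mul_mem_right b _ ha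
    obtain ⟨g', hg'⟩ := hext (A ⧸ J ^ (k + c)) inferInstance hkill (LinearMap.range φ) gbar
    refine ⟨g' ∘ₗ (Submodule.mkQ (J ^ (k + c))), ?_⟩
    intro x hxI
    have h1 : g' ((Submodule.mkQ (J ^ (k + c))) x) =
        (g' ∘ₗ (LinearMap.range φ).subtype) ⟨φ ⟨x, hxI⟩, LinearMap.mem_range_self φ _⟩ := rfl
    rw [LinearMap.comp_apply, h1, hg']
    change ((LinearMap.ker φ).liftQ g hker) (φ.quotKerEquivRange.symm ⟨φ ⟨x, hxI⟩, _⟩) = _
    rw [LinearMap.quotKerEquivRange_symm_apply_image]
    rfl

end Groth.Agent.S5168
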