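import Groth.Statements.S0300
import Mathlib

set_option autoImplicit false
universe u v
open InjHull

namespace Groth.Agent.S0300

/-- Over a Noetherian ring, injectivity of modules is preserved under arbitrary direct sums. -/
theorem result (R : Type u) [CommRing R] [IsNoetherianRing R] {ι : Type u} (E : ι → Type u) [∀ i, AddCommGroup (E i)] [∀ i, Module R (E i)] (hE : ∀ i, Module.Injective R (E i)) : Module.Injective R (DirectSum ι E) := by
  classical
  apply Module.Baer.injective
  intro I g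
  obtain ⟨S, hS⟩ := (IsNoetherian.noetherian I : I.FG)
  let gi : ∀ i, I →ₗ[R] E i := fun i => (DirectSum.component R ι E i).comp g
  have hext : ∀ i, ∃ h : R →ₗ[R] E i, ∀ (x : R) (mem : x ∈ I), h x = gi i ⟨x, mem⟩ :=
    fun i => Module.Baer.of_injective (hE i) I (gi i)
  choose h hh using hext
  have hSI : ∀ s ∈ S, s ∈ I := fun s hs => hS ▸ Submodule.subset_span hs
  let T : Finset ι := S.attach.biUnion (fun s => DFinsupp.support (g ⟨s.1, hSI s.1 s.2⟩))
  have hzero : ∀ i, i ∉ T → ∀ x : I, gi i x = 0 := by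
    intro i hi x
    have hle : Submodule.span R (S : Set R) ≤ (LinearMap.ker (gi i)).map I.subtype := by
      rw [Submodule.span_le]
      intro s hs
      refine ⟨⟨s, hSI s hs⟩, ?_, rfl⟩
      rw [SetLike.mem_coe, LinearMap.mem_ker]
      by_contra hne
      apply hi
      rw [Finset.mem_biUnion]
      refine ⟨⟨s, hs⟩, Finset.mem_attach _ _, ?_⟩
      rw [DFinsupp.mem_support_iff]
      exact hne
    have hx : (x : R) ∈ Submodule.span R (S : Set R) := by rw [hS]; exact x.2
    obtain ⟨y, hy, hyx⟩ := hle hx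
    have : y = x := Subtype.ext hyx
    rw [← this]
    exact hy
  refine ⟨∑ i ∈ T, (DirectSum.lof R ι E i).comp (h i), fun x mem => ?_⟩
  apply DFinsupp.ext
  intro j
  rw [LinearMap.sum_apply]
  have hcomp : ∀ i, ((DirectSum.lof R ι E i).comp (h i)) x = DirectSum.lof R ι E i (gi i ⟨x, mem⟩) := by
    intro i
    rw [LinearMap.comp_apply, hh i x mem]
  simp only [hcomp]
  have hj : (∑ i ∈ T, DirectSum.lof R ι E i (gi i ⟨x, mem⟩)) j =
      ∑ i ∈ T, (DirectSum.lof R ι E i (gi i ⟨x, mem⟩)) j := by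
    exact DFinsupp.finsetSum_apply _ _ _
  rw [hj]
  by_cases hjT : j ∈ T
  · rw [Finset.sum_eq_single_of_mem j hjT]
    · rw [DirectSum.lof_eq_of, DirectSum.of_eq_same]
      rfl
    · intro i _ hij
      rw [DirectSum.lof_eq_of, DirectSum.of_eq_of_ne _ _ _ hij.symm]
  · have h0 : (g ⟨x, mem⟩) j = 0 := hzero j hjT ⟨x, mem⟩
    rw [h0]
    apply Finset.sum_eq_zero
    intro i hi
    have hij : i ≠ j := fun hEq => hjT (hEq ▸ hi)
    rw [DirectSum.lof_eq_of, DirectSum.of_eq_of_ne _ _ _ hij.symm]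

end Groth.Agent.S0300
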