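import Groth.Statements.S0307
import Mathlib
import Groth.Agent.S0300
import Groth.Agent.Lib.Helper2.InjHull2
-- import your own Groth.Agent.* helpers here

set_option autoImplicit false
universe u v
open InjHull

namespace Groth.Agent.S0307

open Groth.Agent.Lib.Helper2 in
lemma injective_of_equiv {R : Type u} [CommRing R] {M N : Type u} [AddCommGroup M] [Module R M]
    [AddCommGroup N] [Module R N] (e : M ≃ₗ[R] N) (h : Module.Injective R M) :
    Module.Injective R N :=
  ⟨fun X Y _ _ _ _ a ha g => by
    obtain ⟨k, hk⟩ := h.out a ha (e.symm.toLinearMap ∘ₗ g)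
    exact ⟨e.toLinearMap ∘ₗ k, fun x => by simp [hk]⟩⟩


open Classical in
/-- Over a Noetherian ring every injective module is an internal direct sum of indecomposable injective
submodules. -/
theorem result (R : Type u) [CommRing R] [IsNoetherianRing R] (I : Type u) [AddCommGroup I] [Module R I] (hI : Module.Injective R I) : ∃ (ι : Type u) (E : ι → Submodule R I), DirectSum.IsInternal E ∧ ∀ i, InjHull.IsIndecomposable R ↥(E i) ∧ Module.Injective R ↥(E i) := by
  classical
  let Good : Submodule R I → Prop := fun E =>
    InjHull.IsIndecomposable R ↥E ∧ Module.Injective R ↥E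
  let SS : Set (Set (Submodule R I)) := {T | (∀ E ∈ T, Good E) ∧ sSupIndep T}
  obtain ⟨T, hT⟩ : ∃ T, Maximal (· ∈ SS) T := by
    apply zorn_subset
    intro c hc hchain
    refine ⟨⋃₀ c, ⟨?_, ?_⟩, fun s hs => Set.subset_sUnion_of_mem hs⟩
    · rintro E ⟨T, hT, hE⟩
      exact (hc hT).1 E hE
    · exact iSupIndep_sUnion_of_directed hchain.directedOn (fun T hT => (hc hT).2)
  obtain ⟨⟨hTgood, hTind⟩, hTmax⟩ := hT
  set S : Submodule R I := sSup T with hS
  have hind : iSupIndep (fun E : T => (E : Submodule R I)) := (sSupIndep_iff T).mp hTind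
  have hSsup : S = ⨆ E : T, (E : Submodule R I) := sSup_eq_iSup' T
  have hSinj : Module.Injective R ↥S := by
    have h1 : Module.Injective R (DirectSum T (fun E : T => ↥(E : Submodule R I))) :=
      Groth.Agent.S0300.result R (fun E : T => ↥(E : Submodule R I))
        (fun E => (hTgood E.1 E.2).2)
    let φ : (DirectSum T (fun E : T => ↥(E : Submodule R I))) →ₗ[R] I :=
      DFinsupp.lsum ℕ (fun E : T => (E : Submodule R I).subtype)
    have hφinj : Function.Injective φ := hind.dfinsupp_lsum_injective
    have hφrange : LinearMap.range φ = S := by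
      rw [hSsup, Submodule.iSup_eq_range_dfinsupp_lsum]
    let e : (DirectSum T (fun E : T => ↥(E : Submodule R I))) ≃ₗ[R] ↥S :=
      (LinearEquiv.ofInjective φ hφinj).trans (LinearEquiv.ofEq _ _ hφrange)
    exact injective_of_equiv e h1
  obtain ⟨r, hr⟩ := hSinj.out S.subtype S.injective_subtype LinearMap.id
  have hcompl : IsCompl S (LinearMap.ker r) := LinearMap.isCompl_of_proj hr
  set C := LinearMap.ker r with hCdef
  have hC : C = ⊥ := by
    by_contra hCne
    haveI : Nontrivial ↥C := Submodule.nontrivial_iff_ne_bot.mpr hCne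
    obtain ⟨p, hp⟩ := associatedPrimes.nonempty R ↥C
    obtain ⟨hpprime, f₀, hf₀⟩ := (isAssociatedPrime_iff_exists_injective_linearMap p ↥C).mp hp
    haveI := hpprime
    let j : (R ⧸ p) →ₗ[R] I := C.subtype ∘ₗ f₀
    have hj : Function.Injective j := C.injective_subtype.comp hf₀
    have hjC : LinearMap.range j ≤ C := by
      rintro _ ⟨a, rfl⟩
      exact (f₀ a).2
    obtain ⟨E, hME, hEss, hEinj, -⟩ :=
      Groth.Agent.Lib.Helper2.exists_injective_essential_submodule hI (LinearMap.range j)
    let f : (R ⧸ p) →ₗ[R] ↥E := LinearMap.codRestrict E j (fun c => hME ⟨c, rfl⟩)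
    have hf : Function.Injective f := fun a b hab =>
      hj (show j a = j b from congrArg (Subtype.val : ↥E → I) hab)
    have hfess : Groth.Agent.Lib.Helper2.EssElt f := by
      intro z hz
      have hz' : (z : I) ≠ 0 := fun h => hz (Subtype.ext h)
      obtain ⟨t, ht0, a, ha⟩ := hEss z.1 z.2 hz'
      refine ⟨t, fun h => ht0 (congrArg Subtype.val h), a, Subtype.ext ?_⟩
      exact ha
    have hEindec : InjHull.IsIndecomposable R ↥E :=
      Groth.Agent.Lib.Helper2.isIndecomposable_of_essential_quotient_prime p f hf hfess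
    have hES : Disjoint E S := by
      rw [Submodule.disjoint_def]
      intro z hzE hzS
      by_contra hz0
      obtain ⟨t, ht0, ht⟩ := hEss z hzE hz0
      have h1 : t • z ∈ S ⊓ C := ⟨S.smul_mem t hzS, hjC ht⟩
      rw [hcompl.inf_eq_bot] at h1
      exact ht0 h1
    have hET : E ∉ T := by
      intro hmem
      have hle : E ≤ S := le_sSup hmem
      have hbot : E = ⊥ := by
        rw [eq_bot_iff]
        exact fun z hz => hES.le_bot ⟨hz, hle hz⟩
      obtain ⟨hnt, -⟩ := hEindec
      rw [hbot] at hnt
      exact not_nontrivial _ hnt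
    have hmem : insert E T ∈ SS := by
      refine ⟨?_, ?_⟩
      · rintro E' (rfl | hE')
        · exact ⟨hEindec, hEinj⟩
        · exact hTgood E' hE'
      · intro a ha
        rcases ha with rfl | ha
        · rw [Set.insert_diff_of_mem _ (Set.mem_singleton a), Set.diff_singleton_eq_self hET]
          exact hES
        · have hne : E ≠ a := fun h => hET (h ▸ ha)
          rw [Set.insert_diff_of_notMem _ (by simpa using hne), sSup_insert, sup_comm]
          have h1 : Disjoint a (sSup (T \ {a})) := hTind ha
          have h2 : Disjoint (a ⊔ sSup (T \ {a})) E := by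
            refine Disjoint.mono_left ?_ hES.symm
            exact sup_le (le_sSup ha) (sSup_le_sSup Set.diff_subset)
          exact h1.disjoint_sup_right_of_disjoint_sup_left h2
    exact hET (hTmax hmem (Set.subset_insert E T) (Set.mem_insert E T))
  have hStop : S = ⊤ := by
    have := hcompl.sup_eq_top
    rwa [hC, sup_bot_eq] at this
  refine ⟨↥T, fun E => (E : Submodule R I), ?_, fun E => hTgood E.1 E.2⟩
  exact @DirectSum.isInternal_submodule_of_iSupIndep_of_iSup_eq_top R _ ↥T
    (fun a b => Classical.propDecidable (a = b)) I _ _ _ hind (by rw [← hSsup, hStop])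

end Groth.Agent.S0307
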