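import Groth.Statements.S0319
import Groth.Agent.S5151
import Groth.Agent.Lib.Helper29.Depth
import Groth.Agent.Lib.Helper93.ReflexiveDepth
-- import your own Groth.Agent.* helpers here

set_option autoImplicit false
universe u v
open CategoryTheory
open LocCoh

namespace Groth.Agent.S0319

open RingTheory.Sequence CategoryTheory Abelian in
/-- `k ≤ depth_I M` iff `Ext^i(R/I, M) = 0` for `i < k` (Rees). -/
theorem le_idealDepth_iff_ext (R : Type u) [CommRing R] [IsNoetherianRing R] (I : Ideal R)
    (M : Type u) [AddCommGroup M] [Module R M] [Module.Finite R M]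
    (hIM : I • (⊤ : Submodule R M) ≠ ⊤) (k : ℕ) :
    (k : ℕ∞) ≤ LocCoh.idealDepth I M ↔
      ∀ i : ℕ, i < k → Subsingleton (Abelian.Ext (ModuleCat.of R (R ⧸ I)) (ModuleCat.of R M) i) := by
  constructor
  · intro hk
    obtain ⟨rs, hreg, hmem, hlen⟩ :=
      Groth.Agent.Lib.Helper93.ReflexiveDepth.exists_regular_of_le_idealDepth I M k hk hIM
    set rs₃ := rs.take k with hrs₃
    have hlen₃ : rs₃.length = k := by rw [hrs₃, List.length_take]; omega
    have hreg₃ : IsWeaklyRegular M rs₃ := by
      have := hreg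
      rw [← List.take_append_drop k rs, isWeaklyRegular_append_iff] at this
      exact this.1
    have hmem₃ : ∀ r ∈ rs₃, r ∈ I := fun r hr => hmem r (List.mem_of_mem_take hr)
    have hR₃ : IsRegular M rs₃ := ⟨hreg₃, (Groth.Agent.S5151.ofList_smul_ne_top hIM hmem₃).symm⟩
    have hext := ModuleCat.subsingleton_ext_of_exists_isRegular I (ModuleCat.of R (R ⧸ I))
      (Groth.Agent.S5151.support_quotient I).subset (ModuleCat.of R M)
      (lt_top_iff_ne_top.mpr hIM) rs₃ hmem₃ hR₃
    intro i hi
    exact hext i (by omega)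
  · intro hext
    obtain ⟨rs, hlen, hmem, hreg⟩ :=
      ModuleCat.exists_isRegular_of_exists_subsingleton_ext I k (ModuleCat.of R M)
        (lt_top_iff_ne_top.mpr hIM) (ModuleCat.of R (R ⧸ I))
        (Groth.Agent.S5151.support_quotient I) hext
    rw [← hlen]
    exact Groth.Agent.Lib.Helper29.DepthLib.length_le_idealDepth I M hreg.toIsWeaklyRegular hmem

/-- Part (1): =(2): for a finite module M over a Noetherian ring and an ideal I with IM ≠ M, the I-depth
of M is the least i with Ext^i(R/I, M) nonzero. (Close to Mathlib's Rees criterion; kept at low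
weight to pin our depth to Mathlib's Ext.) -/
theorem result (R : Type u) [CommRing R] [IsNoetherianRing R] (I : Ideal R) (M : Type u) [AddCommGroup M] [Module R M] [Module.Finite R M] (hIM : I • (⊤ : Submodule R M) ≠ ⊤) (n : ℕ) : LocCoh.idealDepth I M = n ↔ ((∀ i : ℕ, i < n → Subsingleton (Abelian.Ext (ModuleCat.of R (R ⧸ I)) (ModuleCat.of R M) i)) ∧ Nontrivial (Abelian.Ext (ModuleCat.of R (R ⧸ I)) (ModuleCat.of R M) n)) := by
  have hne : LocCoh.idealDepth I M ≠ ⊤ := Groth.Agent.Lib.Helper29.DepthLib.idealDepth_ne_top I M hIM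
  obtain ⟨d, hd⟩ := ENat.ne_top_iff_exists.mp hne
  have key := le_idealDepth_iff_ext R I M hIM
  constructor
  · intro h
    refine ⟨(key n).mp h.ge, ?_⟩
    by_contra hnt
    rw [not_nontrivial_iff_subsingleton] at hnt
    have h1 : ((n + 1 : ℕ) : ℕ∞) ≤ LocCoh.idealDepth I M := by
      rw [key]
      intro i hi
      rcases Nat.lt_succ_iff_lt_or_eq.mp hi with h' | h'
      · exact (key n).mp h.ge i h'
      · rw [h']; exact hnt
    rw [h] at h1
    have : n + 1 ≤ n := by exact_mod_cast h1
    omega
  · rintro ⟨h1, h2⟩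
    have hle : (n : ℕ∞) ≤ LocCoh.idealDepth I M := (key n).mpr h1
    refine le_antisymm ?_ hle
    by_contra hlt
    push Not at hlt
    have h3 : ((n + 1 : ℕ) : ℕ∞) ≤ LocCoh.idealDepth I M := by
      rw [← hd] at hlt ⊢
      have : n < d := by exact_mod_cast hlt
      exact_mod_cast this
    have := (key (n + 1)).mp h3 n (Nat.lt_succ_self n)
    exact not_subsingleton _ this

end Groth.Agent.S0319
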