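import Groth.Statements.S15426
-- import your own Groth.Agent.* helpers here
import Groth.Agent.Lib.Helper41.LC

set_option autoImplicit false
universe u
open LocCoh

namespace Groth.Agent.S15426

/-- Let A be a commutative ring, I an ideal, M an A-module and i ≥ 0. Every element of the local
cohomology module H^i_I(M), the direct limit over n of Ext^i_A(A/I^n, M), is annihilated by some
power of I. -/
theorem result (A : Type u) [CommRing A] (I : Ideal A) (i : ℕ)
    (M : Type u) [AddCommGroup M] [Module A M] :
    LocCoh.IsPowerTorsion I (LocCoh.H I i M) := by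
  open Groth.Agent.Lib.Helper41.LC CategoryTheory CategoryTheory.Abelian in
  intro x
  obtain ⟨n, e, rfl⟩ := exists_rep (I := I) (i := i) (M := ModuleCat.of A M) x
  refine ⟨n, fun a ha => ?_⟩
  rw [← map_smul]
  have h0 : a • e = 0 := by
    have h1 : a • e = (Ext.mk₀ (a • 𝟙 (Q I n))).comp e (zero_add i) := by
      rw [Ext.mk₀_smul, Ext.smul_comp, Ext.mk₀_id_comp]
    have h2 : a • 𝟙 (Q I n) = 0 := by
      apply ModuleCat.hom_ext
      apply LinearMap.ext
      intro y
      obtain ⟨y, rfl⟩ := Submodule.Quotient.mk_surjective _ y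
      change a • (Submodule.Quotient.mk y : A ⧸ I ^ n) = 0
      rw [← Submodule.Quotient.mk_smul, Submodule.Quotient.mk_eq_zero, smul_eq_mul]
      exact (I ^ n).mul_mem_right y ha
    rw [h1, h2, Ext.mk₀_zero, Ext.zero_comp]
  rw [h0, map_zero]

end Groth.Agent.S15426
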