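import Groth.Statements.S6476
import Mathlib
-- import your own Groth.Agent.* helpers here

set_option autoImplicit false
universe u v
open CycAlg

namespace Groth.Agent.S6476


section aux

lemma semisimple_of_killed {R : Type u} [CommRing R] (m : Ideal R) [m.IsMaximal]
    (N : Type v) [AddCommGroup N] [Module R N] (h : ∀ a ∈ m, ∀ x : N, a • x = 0) :
    IsSemisimpleModule R N := by
  classical
  let φ : N → (R ⧸ m) →ₗ[R] N := fun x =>
    Submodule.liftQ m (LinearMap.toSpanSingleton R N x) (by
      intro a ha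
      simp only [LinearMap.mem_ker, LinearMap.toSpanSingleton_apply]
      exact h a ha x)
  let Φ : (N →₀ (R ⧸ m)) →ₗ[R] N := Finsupp.lsum R φ
  have hΦ : Function.Surjective Φ := fun x => ⟨Finsupp.single x 1, by
    simp only [Φ, φ, Finsupp.lsum_single]
    have : (1 : R ⧸ m) = Submodule.Quotient.mk (1 : R) := rfl
    rw [this, Submodule.liftQ_apply, LinearMap.toSpanSingleton_apply, one_smul]⟩
  have hs : IsSimpleModule R (R ⧸ m) :=
    isSimpleModule_iff_quot_maximal.mpr ⟨m, inferInstance, ⟨LinearEquiv.refl _ _⟩⟩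
  exact IsSemisimpleModule.of_surjective Φ hΦ

lemma fl_of_pow_smul {R : Type u} [CommRing R] (m : Ideal R) [m.IsMaximal] (hm : m.FG) :
    ∀ (n : ℕ) (M : Type v) [AddCommGroup M] [Module R M] [Module.Finite R M],
      m ^ n • (⊤ : Submodule R M) = ⊥ → IsFiniteLength R M := by
  intro n
  induction n with
  | zero =>
    intro M _ _ _ h
    rw [pow_zero, Ideal.one_eq_top, Submodule.top_smul] at h
    have : Subsingleton M := by
      refine ⟨fun a b => ?_⟩
      have ha : a ∈ (⊥ : Submodule R M) := h ▸ Submodule.mem_top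
      have hb : b ∈ (⊥ : Submodule R M) := h ▸ Submodule.mem_top
      rw [Submodule.mem_bot] at ha hb
      rw [ha, hb]
    exact IsFiniteLength.of_subsingleton
  | succ n ih =>
    intro M _ _ _ h
    let N : Submodule R M := m ^ n • (⊤ : Submodule R M)
    have hNfg : N.FG := Submodule.FG.smul (Ideal.FG.pow hm) Module.Finite.fg_top
    have : Module.Finite R N := Module.Finite.iff_fg.mpr hNfg
    have hkill : ∀ a ∈ m, ∀ x : N, a • x = 0 := by
      intro a ha x
      apply Subtype.ext
      have : a • (x : M) ∈ m ^ (n + 1) • (⊤ : Submodule R M) := by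
        rw [pow_succ', mul_smul]
        exact Submodule.smul_mem_smul ha x.2
      rw [h, Submodule.mem_bot] at this
      simpa using this
    have hss : IsSemisimpleModule R N := semisimple_of_killed m N hkill
    have hN : IsFiniteLength R N := (IsSemisimpleModule.finite_tfae.out 0 3).mp ‹Module.Finite R N›
    have hQ : IsFiniteLength R (M ⧸ N) := by
      apply ih
      have : (⊤ : Submodule R (M ⧸ N)) = (⊤ : Submodule R M).map N.mkQ := by
        rw [Submodule.map_top, Submodule.range_mkQ]
      rw [this, ← Submodule.map_smul'']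
      exact Submodule.mkQ_map_self N
    rw [isFiniteLength_iff_isNoetherian_isArtinian] at hN hQ ⊢
    exact ⟨(isNoetherian_iff_submodule_quotient N).mpr ⟨hN.1, hQ.1⟩,
      (isArtinian_iff_submodule_quotient N).mpr ⟨hN.2, hQ.2⟩⟩

lemma fl_of_support {R : Type u} [CommRing R] [IsNoetherianRing R] [IsLocalRing R]
    (P : Type v) [AddCommGroup P] [Module R P] [Module.Finite R P]
    (h : ∀ q ∈ Module.support R P, q = IsLocalRing.closedPoint R) : IsFiniteLength R P := by
  have hm : (IsLocalRing.maximalIdeal R).FG := IsNoetherian.noetherian _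
  have hrad : IsLocalRing.maximalIdeal R ≤ (Module.annihilator R P).radical := by
    rw [Ideal.radical_eq_sInf]
    apply le_sInf
    rintro J ⟨hJ1, hJ2⟩
    have h1 : (⟨J, hJ2⟩ : PrimeSpectrum R) ∈ Module.support R P := by
      rw [Module.mem_support_iff_of_finite]; exact hJ1
    have h2 := h _ h1
    have h3 : J = IsLocalRing.maximalIdeal R := congrArg PrimeSpectrum.asIdeal h2
    rw [h3]
  obtain ⟨n, hn⟩ := Ideal.exists_pow_le_of_le_radical_of_fg hrad hm
  apply fl_of_pow_smul _ hm n P
  rw [eq_bot_iff]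
  calc IsLocalRing.maximalIdeal R ^ n • (⊤ : Submodule R P)
      ≤ Module.annihilator R P • (⊤ : Submodule R P) := Submodule.smul_mono_left hn
    _ = ⊥ := by rw [← Submodule.annihilator_top, Submodule.annihilator_smul]

theorem part1 {A : Type u} [CommRing A] [IsNoetherianRing A] [IsLocalRing A] {M : Type v}
    [AddCommGroup M] [Module A M] [Module.Finite A M] (hdim : Module.supportDim A M = 1)
    (θ : M →ₗ[A] M) (hθ : Function.Injective θ) :
    IsFiniteLength A (M ⧸ LinearMap.range θ) := by
  apply fl_of_support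
  intro q hq
  by_contra hne
  have hqM : q ∈ Module.support A M :=
    Module.support_subset_of_surjective (LinearMap.range θ).mkQ (Submodule.mkQ_surjective _) hq
  have hqle : q ≤ IsLocalRing.closedPoint A := IsLocalRing.le_maximalIdeal q.2.ne_top
  have hmM : IsLocalRing.closedPoint A ∈ Module.support A M := Module.mem_support_mono hqle hqM
  have hmin : ∀ q' ∈ Module.support A M, q' ≤ q → q' = q := by
    have h1 : Order.krullDim (Module.support A M) ≤ 1 := hdim.le
    rw [Order.krullDim_le_one_iff] at h1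
    rcases h1 ⟨q, hqM⟩ with h | h
    · intro q' hq' hle
      have := @h ⟨q', hq'⟩ hle
      exact le_antisymm hle this
    · exfalso
      have : (⟨IsLocalRing.closedPoint A, hmM⟩ : Module.support A M) ≤ ⟨q, hqM⟩ := h hqle
      exact hne (le_antisymm hqle this)
  revert hq
  rw [imp_false, Module.notMem_support_iff,
    ← LinearMap.localizedMap_surjective_iff_subsingleton_localized_coker]
  -- M_q has finite length over A_q
  haveI : IsFiniteLength (Localization.AtPrime q.asIdeal)
      (LocalizedModule q.asIdeal.primeCompl M) := by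
    apply fl_of_support
    intro Q hQ
    have hann := Module.annihilator_le_of_mem_support hQ
    let q' : PrimeSpectrum A := Q.comap (algebraMap A (Localization.AtPrime q.asIdeal))
    have hq'M : q' ∈ Module.support A M := by
      rw [Module.mem_support_iff_of_finite]
      intro a ha
      change algebraMap A (Localization.AtPrime q.asIdeal) a ∈ Q.asIdeal
      apply hann
      rw [Module.mem_annihilator]
      intro y
      induction y using LocalizedModule.induction_on with
      | h x s =>
        rw [algebraMap_smul, LocalizedModule.smul'_mk, Module.mem_annihilator.mp ha x,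
          LocalizedModule.zero_mk]
    have hQle : Q.asIdeal ≤ IsLocalRing.maximalIdeal (Localization.AtPrime q.asIdeal) :=
      IsLocalRing.le_maximalIdeal Q.2.ne_top
    have hq'le : q' ≤ q := by
      intro a ha
      have h1 : algebraMap A (Localization.AtPrime q.asIdeal) a ∈
          IsLocalRing.maximalIdeal (Localization.AtPrime q.asIdeal) := hQle ha
      rwa [IsLocalization.AtPrime.to_map_mem_maximal_iff (Localization.AtPrime q.asIdeal)
        q.asIdeal] at h1
    have hq'eq : q' = q := hmin q' hq'M hq'le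
    have hle : IsLocalRing.maximalIdeal (Localization.AtPrime q.asIdeal) ≤ Q.asIdeal := by
      rw [← Localization.AtPrime.map_eq_maximalIdeal]
      have : q.asIdeal = Ideal.comap (algebraMap A (Localization.AtPrime q.asIdeal)) Q.asIdeal :=
        (congrArg PrimeSpectrum.asIdeal hq'eq).symm
      exact (Ideal.map_mono (le_of_eq this)).trans Ideal.map_comap_le
    apply PrimeSpectrum.ext
    exact ((IsLocalRing.maximalIdeal.isMaximal _).eq_of_le Q.2.ne_top hle).symm
  haveI : IsArtinian (Localization.AtPrime q.asIdeal) (LocalizedModule q.asIdeal.primeCompl M) :=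
    (isFiniteLength_iff_isNoetherian_isArtinian.mp this).2
  exact IsArtinian.surjective_of_injective_endomorphism _
    (LocalizedModule.map_injective q.asIdeal.primeCompl θ hθ)

end aux

/-- Let A be a Noetherian local ring, M a finite A-module of dimension 1, and φ, ψ : M → M injective
with φ(ψ(M)) = ψ(φ(M)) (e.g. φ, ψ commute). Then length_A(M/φψM) is finite and (M/φψM, φ, ψ) is an
exact (2, 1)-periodic complex; here φ', ψ' denote the endomorphisms of M/φψM induced by φ and ψ, and
exactness says both cohomology modules (CycAlg.perH) are trivial. -/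
theorem result {A : Type u} [CommRing A] [IsNoetherianRing A] [IsLocalRing A] {M : Type v} [AddCommGroup M] [Module A M] [Module.Finite A M] (hdim : Module.supportDim A M = 1) (φ ψ : M →ₗ[A] M) (hφ : Function.Injective φ) (hψ : Function.Injective ψ) (hcomm : Submodule.map φ (LinearMap.range ψ) = Submodule.map ψ (LinearMap.range φ)) (φ' ψ' : (M ⧸ LinearMap.range (φ ∘ₗ ψ)) →ₗ[A] (M ⧸ LinearMap.range (φ ∘ₗ ψ))) (hφ' : φ' ∘ₗ (LinearMap.range (φ ∘ₗ ψ)).mkQ = (LinearMap.range (φ ∘ₗ ψ)).mkQ ∘ₗ φ) (hψ' : ψ' ∘ₗ (LinearMap.range (φ ∘ₗ ψ)).mkQ = (LinearMap.range (φ ∘ₗ ψ)).mkQ ∘ₗ ψ) : Module.length A (M ⧸ LinearMap.range (φ ∘ₗ ψ)) < ⊤ ∧ CycAlg.IsPeriodic φ' ψ' ∧ Subsingleton (CycAlg.perH φ' ψ') ∧ Subsingleton (CycAlg.perH ψ' φ') := by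
  have hφq : ∀ x, φ' ((LinearMap.range (φ ∘ₗ ψ)).mkQ x) = (LinearMap.range (φ ∘ₗ ψ)).mkQ (φ x) := fun x => LinearMap.congr_fun hφ' x
  have hψq : ∀ x, ψ' ((LinearMap.range (φ ∘ₗ ψ)).mkQ x) = (LinearMap.range (φ ∘ₗ ψ)).mkQ (ψ x) := fun x => LinearMap.congr_fun hψ' x
  have hK' : LinearMap.range (φ ∘ₗ ψ) = LinearMap.range (ψ ∘ₗ φ) := by
    rw [LinearMap.range_comp, LinearMap.range_comp, hcomm]
  have hz : ∀ x, (LinearMap.range (φ ∘ₗ ψ)).mkQ x = 0 ↔ x ∈ LinearMap.range (φ ∘ₗ ψ) := fun x => by
    rw [Submodule.mkQ_apply, Submodule.Quotient.mk_eq_zero]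
  refine ⟨?_, ⟨?_, ?_⟩, ?_, ?_⟩
  · exact lt_top_iff_ne_top.mpr (Module.length_ne_top_iff.mpr
      (part1 hdim (φ ∘ₗ ψ) (hφ.comp hψ)))
  · apply LinearMap.ext
    intro n
    obtain ⟨x, rfl⟩ := (LinearMap.range (φ ∘ₗ ψ)).mkQ_surjective n
    rw [LinearMap.comp_apply, hψq, hφq, LinearMap.zero_apply, hz]
    exact ⟨x, rfl⟩
  · apply LinearMap.ext
    intro n
    obtain ⟨x, rfl⟩ := (LinearMap.range (φ ∘ₗ ψ)).mkQ_surjective n
    rw [LinearMap.comp_apply, hφq, hψq, LinearMap.zero_apply, hz, hK']
    exact ⟨x, rfl⟩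
  · rw [Submodule.Quotient.subsingleton_iff, Submodule.submoduleOf_eq_top]
    intro n hn
    obtain ⟨x, rfl⟩ := (LinearMap.range (φ ∘ₗ ψ)).mkQ_surjective n
    rw [LinearMap.mem_ker, hφq, hz] at hn
    obtain ⟨z, hz'⟩ := hn
    have : x = ψ z := (hφ hz').symm
    rw [this, ← hψq]
    exact ⟨_, rfl⟩
  · rw [Submodule.Quotient.subsingleton_iff, Submodule.submoduleOf_eq_top]
    intro n hn
    obtain ⟨x, rfl⟩ := (LinearMap.range (φ ∘ₗ ψ)).mkQ_surjective n
    rw [LinearMap.mem_ker, hψq, hz, hK'] at hn
    obtain ⟨z, hz'⟩ := hn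
    have : x = φ z := (hψ hz').symm
    rw [this, ← hφq]
    exact ⟨_, rfl⟩

end Groth.Agent.S6476
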