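import Groth.Statements.S5156
import Mathlib
import Groth.Agent.Lib.Helper2.HullCrit
import Groth.Agent.Lib.Helper2.Matlis1
import Groth.Agent.S5170
import Groth.Agent.Lib.Helper15.FlatQuot
import Groth.Agent.Lib.Helper14.DimFormula
import Groth.Agent.Lib.Helper58.NV3

set_option autoImplicit false
universe u
open Matlis

namespace Groth.Agent.S5156

open CategoryTheory IsLocalRing Groth.Agent.Lib.Helper2

section coext

variable (A : Type u) [CommRing A] (B : Type u) [CommRing B] [Algebra A B] (E : Type u)
  [AddCommGroup E] [Module A E]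

noncomputable abbrev HH := ((ModuleCat.coextendScalars (algebraMap A B)).obj (ModuleCat.of A E))

/-- identity equivalence between `B` with restricted scalars and `B` as an `A`-module. -/
noncomputable def eB :
    ((ModuleCat.restrictScalars (algebraMap A B)).obj (ModuleCat.of B B)) ≃ₗ[A] B where
  toFun x := x
  invFun x := x
  map_add' _ _ := rfl
  map_smul' r x := by
    have h : ∀ y : B, algebraMap A B r • y = r • y := fun y => by
      rw [Algebra.smul_def r y, smul_eq_mul]
    exact h x
  left_inv _ := rfl
  right_inv _ := rfl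

noncomputable def mkH (g : B →ₗ[A] E) : HH A B E :=
  (ModuleCat.CoextendScalars.equiv (algebraMap A B) (ModuleCat.of A E)).symm
    (g.comp (eB A B).toLinearMap)

noncomputable def rdH (h : HH A B E) : B →ₗ[A] E :=
  ((ModuleCat.CoextendScalars.equiv (algebraMap A B) (ModuleCat.of A E)) h).comp
    (eB A B).symm.toLinearMap

theorem rdH_mkH (g : B →ₗ[A] E) : rdH A B E (mkH A B E g) = g := by
  ext x; rfl

theorem mkH_rdH (h : HH A B E) : mkH A B E (rdH A B E h) = h := rfl

theorem rdH_smul (b : B) (h : HH A B E) (x : B) :
    rdH A B E (b • h) x = rdH A B E h (x * b) := rfl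

theorem rdH_add (h h' : HH A B E) : rdH A B E (h + h') = rdH A B E h + rdH A B E h' := rfl

theorem rdH_zero : rdH A B E (0 : HH A B E) = 0 := rfl

theorem rdH_injective : Function.Injective (rdH A B E) := by
  intro h h' hh
  rw [← mkH_rdH A B E h, ← mkH_rdH A B E h', hh]

theorem coext_injective (hE : Module.Injective A E) : Module.Injective B (HH A B E) := by
  haveI := hE
  have h1 : CategoryTheory.Injective (ModuleCat.of A E) :=
    Module.injective_object_of_injective_module A E
  have h2 : CategoryTheory.Injective
      ((ModuleCat.coextendScalars (algebraMap A B)).obj (ModuleCat.of A E)) :=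
    Injective.injective_of_adjoint (ModuleCat.restrictCoextendScalarsAdj (algebraMap A B)) _
  exact Module.injective_module_of_injective_object B _

end coext

section fl

/-- A finite module over a Noetherian local ring killed by the maximal ideal has finite length. -/
theorem isFiniteLength_of_kill {A : Type u} [CommRing A] [IsLocalRing A] [IsNoetherianRing A]
    (N : Type u) [AddCommGroup N] [Module A N] [Module.Finite A N]
    (hN : ∀ a ∈ maximalIdeal A, ∀ x : N, a • x = 0) : IsFiniteLength A N := by
  have htors : Module.IsTorsionBySet A N (maximalIdeal A : Set A) := fun x a => hN a.1 a.2 x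
  letI := htors.module
  haveI : IsScalarTower A (A ⧸ maximalIdeal A) N := htors.isScalarTower
  haveI : IsArtinianRing (A ⧸ maximalIdeal A) := by
    letI := Ideal.Quotient.field (maximalIdeal A)
    infer_instance
  haveI : Module.Finite (A ⧸ maximalIdeal A) N := Module.Finite.of_restrictScalars_finite A _ _
  haveI : IsArtinian (A ⧸ maximalIdeal A) N := isArtinian_of_fg_of_artinian'
  haveI : IsArtinian A N :=
    isArtinian_of_surjective_algebraMap (R := A ⧸ maximalIdeal A) Ideal.Quotient.mk_surjective
  rw [isFiniteLength_iff_isNoetherian_isArtinian]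
  exact ⟨inferInstance, inferInstance⟩

end fl

section main

variable (A : Type u) [CommRing A] [IsLocalRing A] [IsNoetherianRing A] (B : Type u) [CommRing B]
  [IsLocalRing B] [IsNoetherianRing B] [Algebra A B] [Module.Finite A B]

theorem comap_maximalIdeal : (maximalIdeal B).comap (algebraMap A B) = maximalIdeal A := by
  haveI : Algebra.IsIntegral A B := Algebra.IsIntegral.of_finite A B
  haveI := Ideal.isMaximal_comap_of_isIntegral_of_isMaximal (R := A) (maximalIdeal B)
  exact IsLocalRing.eq_maximalIdeal this

theorem map_le : (maximalIdeal A).map (algebraMap A B) ≤ maximalIdeal B := by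
  rw [Ideal.map_le_iff_le_comap, comap_maximalIdeal]

theorem exists_pow_le_map :
    ∃ M : ℕ, maximalIdeal B ^ M ≤ (maximalIdeal A).map (algebraMap A B) := by
  have hJtop : (maximalIdeal A).map (algebraMap A B) ≠ ⊤ := fun h =>
    (maximalIdeal.isMaximal B).ne_top (top_le_iff.mp (h ▸ map_le A B))
  letI := Groth.Agent.Lib.Helper15.FlatQuot.quotAlgebra (S := B) (maximalIdeal A)
  haveI := Groth.Agent.Lib.Helper15.FlatQuot.isScalarTower_quot (S := B) (maximalIdeal A)
  haveI : IsArtinianRing (A ⧸ maximalIdeal A) := by
    letI := Ideal.Quotient.field (maximalIdeal A)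
    infer_instance
  haveI : Module.Finite (A ⧸ maximalIdeal A) (B ⧸ (maximalIdeal A).map (algebraMap A B)) :=
    Module.Finite.of_restrictScalars_finite A _ _
  haveI : IsArtinianRing (B ⧸ (maximalIdeal A).map (algebraMap A B)) :=
    IsArtinianRing.of_finite (A ⧸ maximalIdeal A) (B ⧸ (maximalIdeal A).map (algebraMap A B))
  haveI : IsLocalRing (B ⧸ (maximalIdeal A).map (algebraMap A B)) :=
    Groth.Agent.Lib.Helper14.DimFormula.isLocalRing_quot B _ hJtop
  obtain ⟨M, hM⟩ := (isArtinianRing_iff_isNilpotent_maximalIdeal
    (B ⧸ (maximalIdeal A).map (algebraMap A B))).mp inferInstance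
  refine ⟨M, fun x hx => ?_⟩
  have h1 : Ideal.Quotient.mk ((maximalIdeal A).map (algebraMap A B)) x ∈
      maximalIdeal (B ⧸ (maximalIdeal A).map (algebraMap A B)) ^ M := by
    rw [← Groth.Agent.Lib.Helper58.NV.map_maximalIdeal_quotient
      ((maximalIdeal A).map (algebraMap A B)), ← Ideal.map_pow]
    exact Ideal.mem_map_of_mem _ hx
  rw [hM, Ideal.zero_eq_bot, Submodule.mem_bot] at h1
  exact Ideal.Quotient.eq_zero_iff_mem.mp h1

theorem smul_residue_eq_zero (a : A) (ha : a ∈ maximalIdeal A) (x : ResidueField B) :
    a • x = 0 := by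
  obtain ⟨b, rfl⟩ := residue_surjective x
  have h1 : algebraMap A B a ∈ maximalIdeal B := map_le A B (Ideal.mem_map_of_mem _ ha)
  rw [Algebra.smul_def, IsScalarTower.algebraMap_apply A B (ResidueField B),
    ResidueField.algebraMap_eq, ← map_mul]
  exact (residue_eq_zero_iff _).mpr (Ideal.mul_mem_right _ _ h1)

/-- the residue map as an `A`-linear map -/
noncomputable def resLin : B →ₗ[A] ResidueField B :=
  (IsScalarTower.toAlgHom A B (ResidueField B)).toLinearMap

theorem resLin_apply (x : B) : resLin A B x = residue B x := rfl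

theorem isFiniteLength_residueField : IsFiniteLength A (ResidueField B) := by
  haveI : Module.Finite A (ResidueField B) :=
    Module.Finite.of_surjective (resLin A B) residue_surjective
  exact isFiniteLength_of_kill (ResidueField B) (smul_residue_eq_zero A B)

variable {E : Type u} [AddCommGroup E] [Module A E] (f : ResidueField A →ₗ[A] E)
  (hf : InjHull.IsInjectiveHull f)

include hf in
theorem isPowerTorsion_HH : LocCoh.IsPowerTorsion (maximalIdeal B) (HH A B E) := by
  intro h
  obtain ⟨M, hM⟩ := exists_pow_le_map A B
  have hE := isPowerTorsion_of_isInjectiveHull f hf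
  obtain ⟨r₀, s, hs⟩ := Module.Finite.exists_fin (R := A) (M := B)
  choose n hn using fun i => hE (rdH A B E h (s i))
  have hkillA : ∀ a ∈ maximalIdeal A ^ (Finset.univ.sup n), ∀ x : B,
      a • rdH A B E h x = 0 := by
    intro a ha x
    have hx : x ∈ Submodule.span A (Set.range s) := by rw [hs]; trivial
    refine Submodule.span_induction (p := fun x _ => a • rdH A B E h x = 0) ?_ ?_ ?_ ?_ hx
    · rintro _ ⟨i, rfl⟩
      exact hn i a (Ideal.pow_le_pow_right (Finset.le_sup (Finset.mem_univ i)) ha)
    · rw [map_zero, smul_zero]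
    · intro x y _ _ hx hy; rw [map_add, smul_add, hx, hy, add_zero]
    · intro c x _ hx; rw [map_smul, smul_comm, hx, smul_zero]
  have hkillJ : ∀ c ∈ ((maximalIdeal A).map (algebraMap A B)) ^ (Finset.univ.sup n),
      c • h = 0 := by
    intro c hc
    rw [← Ideal.map_pow] at hc
    refine Submodule.span_induction (p := fun c _ => c • h = 0) ?_ ?_ ?_ ?_ hc
    · rintro _ ⟨a, ha, rfl⟩
      apply rdH_injective A B E
      refine LinearMap.ext fun x => ?_
      have h1 : rdH A B E (algebraMap A B a • h) x = a • rdH A B E h x := by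
        rw [rdH_smul, mul_comm, ← Algebra.smul_def, map_smul]
      rw [h1, hkillA a ha x, rdH_zero, LinearMap.zero_apply]
    · exact zero_smul _ _
    · intro c d _ _ hc hd; rw [add_smul, hc, hd, add_zero]
    · intro b c _ hc; rw [smul_eq_mul, mul_smul, hc, smul_zero]
  refine ⟨M * Finset.univ.sup n, fun c hc => hkillJ c ?_⟩
  rw [pow_mul] at hc
  exact Ideal.pow_right_mono hM _ hc

/-- the form `x ↦ l (c * residue x)` -/
noncomputable def gform (l : ResidueField B →ₗ[A] E) (c : ResidueField B) : B →ₗ[A] E :=
  l ∘ₗ LinearMap.mulLeft A c ∘ₗ resLin A B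

theorem gform_apply (l : ResidueField B →ₗ[A] E) (c : ResidueField B) (x : B) :
    gform A B l c x = l (c * residue B x) := rfl

noncomputable def g0 (l : ResidueField B →ₗ[A] E) : ResidueField B →ₗ[B] HH A B E where
  toFun c := mkH A B E (gform A B l c)
  map_add' c c' := by
    apply rdH_injective A B E
    rw [rdH_add, rdH_mkH, rdH_mkH, rdH_mkH]
    ext x
    simp only [gform_apply, LinearMap.add_apply, add_mul, map_add]
  map_smul' b c := by
    apply rdH_injective A B E
    ext x
    rw [RingHom.id_apply, rdH_smul, rdH_mkH, rdH_mkH, gform_apply, gform_apply]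
    congr 1
    rw [Algebra.smul_def, (residue B).map_mul]
    have : algebraMap B (ResidueField B) b = residue B b := rfl
    rw [this]
    ring

theorem rdH_g0 (l : ResidueField B →ₗ[A] E) (c : ResidueField B) (x : B) :
    rdH A B E (g0 A B l c) x = l (c * residue B x) := by
  show rdH A B E (mkH A B E (gform A B l c)) x = _
  rw [rdH_mkH, gform_apply]

theorem g0_injective (l : ResidueField B →ₗ[A] E) (hl : l 1 ≠ 0) :
    Function.Injective (g0 A B l) := by
  rw [injective_iff_map_eq_zero]
  intro c hc
  by_contra hc0
  obtain ⟨x, hx⟩ := residue_surjective (c⁻¹)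
  have h1 := rdH_g0 A B l c x
  rw [hc, rdH_zero, hx, mul_inv_cancel₀ hc0] at h1
  exact hl h1.symm

include hf in
theorem g0_soc (l : ResidueField B →ₗ[A] E) (hl : l 1 ≠ 0) (h : HH A B E)
    (hh : ∀ b ∈ maximalIdeal B, b • h = 0) : h ∈ LinearMap.range (g0 A B l) := by
  set g := rdH A B E h with hg
  have hgm : ∀ b ∈ maximalIdeal B, g b = 0 := by
    intro b hb
    have := rdH_smul A B E b h 1
    rw [hh b hb, rdH_zero, one_mul] at this
    exact this.symm
  have hker : LinearMap.ker (resLin A B) ≤ LinearMap.ker g := by
    intro b hb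
    rw [LinearMap.mem_ker, resLin_apply, residue_eq_zero_iff] at hb
    exact hgm b hb
  let e := LinearMap.quotKerEquivOfSurjective (resLin A B) residue_surjective
  let gbar : ResidueField B →ₗ[A] E :=
    (LinearMap.ker (resLin A B)).liftQ g hker ∘ₗ e.symm.toLinearMap
  have hgbar : ∀ x : B, gbar (residue B x) = g x := by
    intro x
    have : e.symm (residue B x) = Submodule.Quotient.mk x := by
      rw [LinearEquiv.symm_apply_eq]
      rfl
    show (LinearMap.ker (resLin A B)).liftQ g hker (e.symm (residue B x)) = g x
    rw [this]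
    rfl
  let Φ : ResidueField B →ₗ[A] (ResidueField B →ₗ[A] E) :=
    { toFun := fun c => l ∘ₗ LinearMap.mulLeft A c
      map_add' := fun c c' => by
        ext y
        simp [add_mul]
      map_smul' := fun r c => by
        ext y
        simp }
  have hΦinj : Function.Injective Φ := by
    rw [injective_iff_map_eq_zero]
    intro c hc
    by_contra hc0
    have h1 : Φ c c⁻¹ = l (c * c⁻¹) := rfl
    rw [hc, mul_inv_cancel₀ hc0] at h1
    exact hl h1.symm
  have hfl := isFiniteLength_residueField A B
  have hlen := Groth.Agent.S5170.result A E f hf (ResidueField B) hfl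
  have hΦsurj : Function.Surjective Φ :=
    surjective_of_injective_of_length_eq Φ hΦinj hlen (Module.length_ne_top_iff.mpr hfl)
  obtain ⟨c, hc⟩ := hΦsurj gbar
  refine ⟨c, ?_⟩
  apply rdH_injective A B E
  ext x
  rw [rdH_g0, ← hg, ← hgbar x, ← hc]
  rfl

end main

/-- Let A and B be Noetherian local rings with B a finite A-algebra, and E an injective hull of the
residue field of A (a dualizing module for A). Then Hom_A(B, E), as a B-module through the action on
the source, is an injective hull of the residue field of B (a dualizing module for B). -/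
theorem result (A B : Type u) [CommRing A] [IsLocalRing A] [IsNoetherianRing A] [CommRing B] [IsLocalRing B] [IsNoetherianRing B] [Algebra A B] [Module.Finite A B] (E : Type u) [AddCommGroup E] [Module A E] (f : IsLocalRing.ResidueField A →ₗ[A] E) (hf : InjHull.IsInjectiveHull f) : ∃ g : IsLocalRing.ResidueField B →ₗ[B] (ModuleCat.coextendScalars (algebraMap A B)).obj (ModuleCat.of A E), InjHull.IsInjectiveHull g := by
  obtain ⟨l, hl⟩ := exists_linearMap_apply_ne_zero f hf (1 : IsLocalRing.ResidueField B) one_ne_zero
  refine ⟨g0 A B l, isInjectiveHull_mk (g0_injective A B l hl) ?_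
    (coext_injective A B E hf.isInjective)⟩
  intro h hh0
  obtain ⟨r, hr0, hr⟩ := essIn_socle_of_isPowerTorsion (maximalIdeal B)
    (isPowerTorsion_HH A B f hf) h Submodule.mem_top hh0
  refine ⟨r, hr0, g0_soc A B f hf l hl _ ?_⟩
  intro s hs
  exact (Submodule.mem_torsionBySet_iff _ _).mp hr ⟨s, hs⟩

end Groth.Agent.S5156
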