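import Groth.Statements.S5158
import Mathlib

set_option autoImplicit false
universe u
open scoped TensorProduct
open Matlis

namespace Groth.Agent.S5158

namespace ML

theorem main (A : Type u) [CommRing A] [IsLocalRing A] [IsNoetherianRing A] (I : Type u)
    [AddCommGroup I] [Module A I]
    (hI : LocCoh.IsPowerTorsion (IsLocalRing.maximalIdeal A) I) :
    Function.Bijective (TensorProduct.mk A (AdicCompletion (IsLocalRing.maximalIdeal A) A) I 1) := by
  have hff : Module.FaithfullyFlat A (AdicCompletion (IsLocalRing.maximalIdeal A) A) :=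
    Module.FaithfullyFlat.of_flat_of_isLocalHom
  refine ⟨Module.FaithfullyFlat.tensorProduct_mk_injective I, ?_⟩
  intro t
  induction t using TensorProduct.induction_on with
  | zero => exact ⟨0, by simp⟩
  | add a b ha hb =>
    obtain ⟨x, rfl⟩ := ha
    obtain ⟨y, rfl⟩ := hb
    exact ⟨x + y, by simp [TensorProduct.tmul_add]⟩
  | tmul â x =>
    obtain ⟨k, hk⟩ := hI x
    obtain ⟨a, ha⟩ := Submodule.Quotient.mk_surjective _
      (AdicCompletion.eval (IsLocalRing.maximalIdeal A) A k â)
    have hmem : â - algebraMap A _ a ∈
        (AdicCompletion.eval (IsLocalRing.maximalIdeal A) A k).ker := by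
      rw [LinearMap.mem_ker, map_sub, ← ha, AdicCompletion.algebraMap_apply, AdicCompletion.eval_of]
      simp
    rw [← AdicCompletion.pow_smul_top_eq_ker_eval (IsLocalRing.maximalIdeal A).fg_of_isNoetherianRing]
      at hmem
    have hz : (â - algebraMap A _ a) ⊗ₜ[A] x = 0 := by
      refine Submodule.smul_induction_on hmem ?_ ?_
      · intro c hc b _
        rw [TensorProduct.smul_tmul, hk c hc, TensorProduct.tmul_zero]
      · intro u v hu hv
        rw [TensorProduct.add_tmul, hu, hv, add_zero]
    refine ⟨a • x, ?_⟩
    rw [TensorProduct.sub_tmul, sub_eq_zero] at hz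
    rw [map_smul, TensorProduct.mk_apply, hz, TensorProduct.smul_tmul', Algebra.smul_def, mul_one]

end ML


/-- Let A be a Noetherian local ring, Â its m-adic completion and I an m-power torsion A-module (a union
of submodules of finite length). Then x ↦ 1 ⊗ x is a bijection I → Â ⊗_A I. -/
theorem result (A : Type u) [CommRing A] [IsLocalRing A] [IsNoetherianRing A] (I : Type u) [AddCommGroup I] [Module A I] (hI : LocCoh.IsPowerTorsion (IsLocalRing.maximalIdeal A) I) : Function.Bijective (TensorProduct.mk A (AdicCompletion (IsLocalRing.maximalIdeal A) A) I 1) :=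
  ML.main A I hI

end Groth.Agent.S5158
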