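import Groth.Statements.S6862
import Mathlib.RingTheory.Finiteness.Prod
-- import your own Groth.Agent.* helpers here

set_option autoImplicit false
universe u
open CAlg

namespace Groth.Agent.S6862

theorem stablyFree_prod {R : Type u} [CommRing R] {A B : Type u}
    [AddCommGroup A] [Module R A] [AddCommGroup B] [Module R B]
    (hA : Module.IsStablyFree R A) (hB : Module.IsStablyFree R B) :
    Module.IsStablyFree R (A × B) := by
  obtain ⟨NA, _, _, _, _, _⟩ := Module.IsStablyFree.exist_free_prod R A
  obtain ⟨NB, _, _, _, _, _⟩ := Module.IsStablyFree.exist_free_prod R B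
  have : Module.Free R ((A × B) × (NA × NB)) :=
    Module.Free.of_equiv (LinearEquiv.prodProdProdComm R A NA B NB)
  exact Module.IsStablyFree.of_free_prod R (A × B) (NA × NB)

theorem stablyFree_cancel {R : Type u} [CommRing R] {A B : Type u}
    [AddCommGroup A] [Module R A] [AddCommGroup B] [Module R B] [Module.Finite R A]
    (hA : Module.IsStablyFree R A) (hAB : Module.IsStablyFree R (A × B)) :
    Module.IsStablyFree R B := by
  obtain ⟨NA, _, _, _, _, _⟩ := Module.IsStablyFree.exist_free_prod R A
  obtain ⟨N, _, _, _, _, _⟩ := Module.IsStablyFree.exist_free_prod R (A × B)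
  let e1 : (B × ((A × NA) × N)) ≃ₗ[R] (B × (A × (N × NA))) :=
    (LinearEquiv.refl R B).prodCongr ((LinearEquiv.prodAssoc R A NA N).trans
      ((LinearEquiv.refl R A).prodCongr (LinearEquiv.prodComm R NA N)))
  let e2 : (((A × B) × N) × NA) ≃ₗ[R] (B × (A × (N × NA))) :=
    (LinearEquiv.prodAssoc R (A × B) N NA).trans
      (((LinearEquiv.prodComm R A B).prodCongr (LinearEquiv.refl R (N × NA))).trans
        (LinearEquiv.prodAssoc R B A (N × NA)))
  have : Module.Free R (B × ((A × NA) × N)) := Module.Free.of_equiv (e2.trans e1.symm)
  exact Module.IsStablyFree.of_free_prod R B ((A × NA) × N)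

/-- Let `R` be a commutative ring and `P'`, `P`, `P''` finitely generated projective `R`-modules in an
exact sequence `0 → P' → P → P'' → 0`. Whenever two of the three are stably free, the remaining one
is stably free too (all three cases are stated). -/
theorem result {R : Type u} [CommRing R] {P' P P'' : Type u}
    [AddCommGroup P'] [Module R P'] [Module.Finite R P'] [Module.Projective R P']
    [AddCommGroup P] [Module R P] [Module.Finite R P] [Module.Projective R P]
    [AddCommGroup P''] [Module R P''] [Module.Finite R P''] [Module.Projective R P'']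
    (f : P' →ₗ[R] P) (g : P →ₗ[R] P'') (hf : Function.Injective f) (hg : Function.Surjective g)
    (hfg : Function.Exact f g) :
    (Module.IsStablyFree R P' → Module.IsStablyFree R P → Module.IsStablyFree R P'') ∧
    (Module.IsStablyFree R P' → Module.IsStablyFree R P'' → Module.IsStablyFree R P) ∧
    (Module.IsStablyFree R P → Module.IsStablyFree R P'' → Module.IsStablyFree R P') := by
  obtain ⟨l, hl⟩ := Module.projective_lifting_property g LinearMap.id hg
  let e : P ≃ₗ[R] P' × P'' := (hfg.splitSurjectiveEquiv hf ⟨l, hl⟩).1
  refine ⟨?_, ?_, ?_⟩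
  · intro h' h
    exact stablyFree_cancel h' (h.equiv e)
  · intro h' h''
    exact (stablyFree_prod h' h'').equiv e.symm
  · intro h h''
    exact stablyFree_cancel h'' (h.equiv (e.trans (LinearEquiv.prodComm R P' P'')))

end Groth.Agent.S6862
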