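import Groth.Statements.S11499
import Groth.Agent.Lib.Helper35.TorsionFreeEmbed
-- import your own Groth.Agent.* helpers here

set_option autoImplicit false
universe u
open TensorProduct
open VBPn

namespace Groth.Agent.S11499

/-- Let A be an integral domain with fraction field K and M a finitely generated torsion-free A-module
of rank r (K ⊗_A M is r-dimensional over K). Then there is an injective A-linear map M → A^r. The
published statement is for torsion-free coherent sheaves on a complex manifold, locally near a
point; this row is its statement for one stalk, over any domain. -/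
theorem result (A : Type u) [CommRing A] [IsDomain A]
    (M : Type u) [AddCommGroup M] [Module A M] [Module.Finite A M] [NoZeroSMulDivisors A M] (r : ℕ)
    (hr : Module.finrank (FractionRing A) (FractionRing A ⊗[A] M) = r) :
    ∃ f : M →ₗ[A] (Fin r → A), Function.Injective f := by
  classical
  haveI : Module.IsTorsionFree A M := ⟨fun r hr m₁ m₂ hm => by
    have hr0 : r ≠ 0 := hr.ne_zero
    have h : r • (m₁ - m₂) = 0 := by
      rw [smul_sub]; exact sub_eq_zero.2 hm
    rcases NoZeroSMulDivisors.eq_zero_or_eq_zero_of_smul_eq_zero h with h0 | h0
    · exact absurd h0 hr0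
    · exact sub_eq_zero.1 h0⟩
  let K := FractionRing A
  let V := K ⊗[A] M
  let ι : M →ₗ[A] V := TensorProduct.mk A K M 1
  have hι : Function.Injective ι := Groth.Agent.Lib.Helper35.mk_fractionRing_injective A M
  have : Module.Finite K V := inferInstance
  let b : Module.Basis (Fin r) K V := Module.finBasisOfFinrankEq K V hr
  let e : V ≃ₗ[K] (Fin r → K) := b.equivFun
  let g : M →ₗ[A] (Fin r → K) := (e.toLinearMap.restrictScalars A) ∘ₗ ι
  have hg : Function.Injective g := e.injective.comp hι
  obtain ⟨f, hf, -⟩ :=
    Groth.Agent.Lib.Helper35.exists_injective_to_free_of_injective_to_frac A M r g hg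
  exact ⟨f, hf⟩

end Groth.Agent.S11499
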