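import Groth.Statements.S9705
import Mathlib.AlgebraicGeometry.ProjectiveSpectrum.Proper
import Mathlib.AlgebraicGeometry.Morphisms.Proper
import Mathlib.AlgebraicGeometry.Morphisms.Immersion
-- import your own Groth.Agent.* helpers here

set_option autoImplicit false
universe u
open CategoryTheory CategoryTheory.Limits AlgebraicGeometry
open Mor

namespace Groth.Agent.S9705


/-- the structure morphism of projective space over a ring is proper. -/
lemma isProper_toSpec (n : ℕ) (R : Type u) [CommRing R] :
    IsProper (CohB1.ProjSpace.toSpec n R) := by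
  have htower : IsScalarTower R (CohB1.polyGrading n R 0) (MvPolynomial (Fin (n + 1)) R) :=
    IsScalarTower.of_algebraMap_eq
      (R := R) (S := CohB1.polyGrading n R 0) (A := MvPolynomial (Fin (n + 1)) R) (fun _ => rfl)
  have hft : Algebra.FiniteType (CohB1.polyGrading n R 0) (MvPolynomial (Fin (n + 1)) R) :=
    Algebra.FiniteType.of_restrictScalars_finiteType R _ _
  have hsurj : Function.Surjective (algebraMap R (CohB1.polyGrading n R 0)) := by
    rintro ⟨x, hx⟩
    have hx' : x ∈ MvPolynomial.homogeneousSubmodule (Fin (n + 1)) R 0 := hx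
    rw [MvPolynomial.homogeneousSubmodule_zero, Submodule.mem_one] at hx'
    obtain ⟨r, hr⟩ := hx'
    exact ⟨r, Subtype.ext hr⟩
  have h1 : IsProper (Proj.toSpecZero (CohB1.polyGrading n R)) := inferInstance
  have h2 : IsClosedImmersion
      (Spec.map (CommRingCat.ofHom (algebraMap R (CohB1.polyGrading n R 0)))) :=
    IsClosedImmersion.spec_of_surjective _ hsurj
  have h3 : IsProper
      (Spec.map (CommRingCat.ofHom (algebraMap R (CohB1.polyGrading n R 0)))) := inferInstance
  unfold CohB1.ProjSpace.toSpec
  exact MorphismProperty.comp_mem _ _ _ h1 h3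

set_option backward.isDefEq.respectTransparency.types false in
/-- the structure morphism of projective space over a scheme is proper. -/
lemma isProper_toBase (n : ℕ) (S : Scheme.{u}) : IsProper (CohB1.ProjSpaceOver.toBase n S) := by
  have := isProper_toSpec n (ULift.{u} ℤ)
  unfold CohB1.ProjSpaceOver.toBase
  exact MorphismProperty.pullback_snd (P := @IsProper) _ _ this

/-- Over a quasi-compact quasi-separated scheme S, a morphism f : X ⟶ S is H-projective if and only if
it is H-quasi-projective and proper. -/
theorem result {X S : Scheme.{u}} [CompactSpace ↥S]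
    [QuasiSeparatedSpace ↥S] (f : X ⟶ S) :
    RelProj.IsHProjective f ↔ RelProj.IsHQuasiProjective f ∧ IsProper f := by
  have hP : ∀ n : ℕ, IsProper (CohB1.ProjSpaceOver.toBase n S) := fun n => isProper_toBase n S
  constructor
  · rintro ⟨n, i, hi, rfl⟩
    have := hP n
    exact ⟨⟨n, i, inferInstance, inferInstance, rfl⟩, inferInstance⟩
  · rintro ⟨⟨n, i, hi, hqc, rfl⟩, hprop⟩
    have := hP n
    have hi' : IsProper i := IsProper.of_comp i (CohB1.ProjSpaceOver.toBase n S)
    have hclosed : IsClosed (Set.range i) := i.isClosedMap.isClosed_range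
    exact ⟨n, i, IsClosedImmersion.of_isPreimmersion i hclosed, rfl⟩

end Groth.Agent.S9705
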