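import Groth.Statements.S18057
import Groth.Agent.S18056

set_option autoImplicit false
universe u
open STCI

namespace Groth.Agent.S18057

open AlgebraicGeometry CategoryTheory in
theorem surjective_spec_quotient_of_sq_zero (A : Type u) [CommRing A] (I : Ideal A) (hI : I ^ 2 = ⊥) :
    Function.Surjective (Spec.map (CommRingCat.ofHom (Ideal.Quotient.mk I))) := by
  intro p
  have hrange := _root_.range_comap_of_surjective (A ⧸ I) (Ideal.Quotient.mk I)
    Ideal.Quotient.mk_surjective
  let p' : PrimeSpectrum A := p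
  have hp : p' ∈ Set.range (PrimeSpectrum.comap (Ideal.Quotient.mk I)) := by
    rw [hrange, Ideal.mk_ker, PrimeSpectrum.mem_zeroLocus]
    have : I ^ 2 ≤ p'.asIdeal := by rw [hI]; exact bot_le
    exact Ideal.IsPrime.le_of_pow_le this
  obtain ⟨q, hq⟩ := hp
  exact ⟨q, hq⟩

open AlgebraicGeometry CategoryTheory in
/-- Scheme-level formal smoothness gives ring-level formal smoothness on affine opens. -/
theorem formallySmooth_appLE {X Y : Scheme.{u}} (f : X ⟶ Y) (hf : MoreMor.IsFormallySmoothHom f)
    {U : Y.Opens} (hU : IsAffineOpen U) {V : X.Opens} (hV : IsAffineOpen V) (i : V ≤ f ⁻¹ᵁ U) :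
    (f.appLE U V i).hom.FormallySmooth := by
  letI := (f.appLE U V i).hom.toAlgebra
  show Algebra.FormallySmooth Γ(Y, U) Γ(X, V)
  refine Algebra.FormallySmooth.of_comp_surjective ?_
  intro B _ _ I hI g
  have hcomm : (f.appLE U V i) ≫ CommRingCat.ofHom (g : Γ(X, V) →+* B ⧸ I) =
      CommRingCat.ofHom (algebraMap Γ(Y, U) B) ≫ CommRingCat.ofHom (Ideal.Quotient.mk I) := by
    ext x
    simp only [CommRingCat.hom_comp, CommRingCat.hom_ofHom, RingHom.coe_comp, Function.comp_apply]
    have := g.commutes x
    rw [RingHom.algebraMap_toAlgebra] at this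
    rw [RingHom.coe_coe, this, IsScalarTower.algebraMap_apply Γ(Y, U) B (B ⧸ I)]
    rfl
  obtain ⟨l, hl1, hl2⟩ := hf B I hI
    (Spec.map (CommRingCat.ofHom (g : Γ(X, V) →+* B ⧸ I)) ≫ hV.fromSpec)
    (Spec.map (CommRingCat.ofHom (algebraMap Γ(Y, U) B)) ≫ hU.fromSpec) (by
      rw [Category.assoc, ← hU.SpecMap_appLE_fromSpec f hV i, ← Category.assoc, ← Category.assoc,
        ← Spec.map_comp, ← Spec.map_comp, hcomm])
  have hrange : Set.range l ⊆ Set.range hV.fromSpec := by
    rintro _ ⟨p, rfl⟩
    obtain ⟨q, rfl⟩ := surjective_spec_quotient_of_sq_zero B I hI p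
    rw [← Scheme.Hom.comp_apply, hl1, Scheme.Hom.comp_apply]
    exact ⟨_, rfl⟩
  let l' := IsOpenImmersion.lift hV.fromSpec l hrange
  have hl' : l' ≫ hV.fromSpec = l := IsOpenImmersion.lift_fac _ _ _
  obtain ⟨ψ, hψ⟩ : ∃ ψ : Γ(X, V) ⟶ CommRingCat.of B, Spec.map ψ = l' := ⟨Spec.preimage l', Spec.map_preimage l'⟩
  have h1 : ψ ≫ CommRingCat.ofHom (Ideal.Quotient.mk I) = CommRingCat.ofHom (g : Γ(X, V) →+* B ⧸ I) := by
    apply Spec.map_injective
    rw [Spec.map_comp, hψ, ← cancel_mono hV.fromSpec, Category.assoc, hl', hl1]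
  have h2 : f.appLE U V i ≫ ψ = CommRingCat.ofHom (algebraMap Γ(Y, U) B) := by
    apply Spec.map_injective
    rw [Spec.map_comp, hψ, ← cancel_mono hU.fromSpec, Category.assoc, hU.SpecMap_appLE_fromSpec f hV i,
      ← Category.assoc, hl', hl2]
  refine ⟨⟨ψ.hom, fun r => ?_⟩, ?_⟩
  · have := congr($(h2).hom r)
    simpa [RingHom.algebraMap_toAlgebra] using this
  · ext x
    have := congr($(h1).hom x)
    simpa using this

theorem exists_field_subring_map {A B : Type*} [CommRing A] [CommRing B] [Nontrivial B] (ψ : A →+* B)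
    (hK : ∃ K : Subring A, IsField K) : ∃ K : Subring B, IsField K := by
  obtain ⟨K, hK⟩ := hK
  refine ⟨K.map ψ, ⟨⟨0, 1, fun h => zero_ne_one (congrArg Subtype.val h)⟩, mul_comm, ?_⟩⟩
  rintro ⟨_, ⟨k, hk, rfl⟩⟩ hne
  have hk0 : (⟨k, hk⟩ : K) ≠ 0 := by
    rintro h
    apply hne
    have : k = 0 := congrArg Subtype.val h
    subst this
    ext
    simp
  obtain ⟨⟨k', hk'⟩, hkk'⟩ := hK.mul_inv_cancel hk0
  refine ⟨⟨ψ k', ⟨k', hk', rfl⟩⟩, ?_⟩
  ext
  have : k * k' = 1 := congrArg Subtype.val hkk'
  simp [← map_mul, this]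

open AlgebraicGeometry CategoryTheory in
theorem map_genericPoint {X' X : Scheme.{u}} (f : X' ⟶ X)
    [IrreducibleSpace ↥X'] [IrreducibleSpace ↥X] [Flat f] :
    f (genericPoint X') = genericPoint X := by
  have h1 : genericPoint X ⤳ f (genericPoint X') := genericPoint_specializes _
  obtain ⟨a', ha', hfa'⟩ := Flat.generalizingMap f h1
  have h2 : f (genericPoint X') ⤳ f a' := (genericPoint_specializes a').map f.continuous
  rw [hfa'] at h2
  exact (h2.antisymm h1).eq

open AlgebraicGeometry CategoryTheory in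
theorem isArtinianRing_stalk_genericPoint (X : Scheme.{u}) [IrreducibleSpace ↥X] [IsNoetherian X] :
    IsArtinianRing (X.presheaf.stalk (genericPoint X)) := by
  have h0 : Order.coheight (genericPoint X) = 0 := by
    rw [Order.coheight_eq_zero]
    intro b _
    exact genericPoint_specializes b
  haveI : Ring.KrullDimLE 0 (X.presheaf.stalk (genericPoint X)) :=
    krullDimLE_of_coheight_le (by rw [h0]; rfl)
  exact IsNoetherianRing.isArtinianRing_of_krullDimLE_zero

open AlgebraicGeometry CategoryTheory in

open AlgebraicGeometry CategoryTheory in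
/-- For a morphism f : X' → X between irreducible Noetherian schemes that is flat and formally smooth,
with X defined over a field (rendered: the ring of global sections of X contains a subring that is a
field, which for nonempty X is the same as giving a morphism from X to the spectrum of a field), the
local rings of X' and X at their generic points η', η (Artinian local rings) satisfy length
O_{X',η'} = length O_{X,η}. Formal smoothness is the infinitesimal lifting property against
square-zero thickenings of affine schemes. -/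
theorem result {X' X : Scheme.{u}} (f : X' ⟶ X)
    [IrreducibleSpace ↥X'] [IrreducibleSpace ↥X] [IsNoetherian X'] [IsNoetherian X] [Flat f]
    (hf : MoreMor.IsFormallySmoothHom f) (hK : ∃ K : Subring Γ(X, ⊤), IsField K) :
    Module.length (X'.presheaf.stalk (genericPoint X')) (X'.presheaf.stalk (genericPoint X'))
      = Module.length (X.presheaf.stalk (genericPoint X)) (X.presheaf.stalk (genericPoint X)) := by
  have hη := map_genericPoint f
  haveI := isArtinianRing_stalk_genericPoint X'
  have hA := isArtinianRing_stalk_genericPoint X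
  have hK' : ∃ K : Subring (X.presheaf.stalk (genericPoint X)), IsField K :=
    exists_field_subring_map (X.presheaf.germ ⊤ (genericPoint X) trivial).hom hK
  rw [← hη] at hA hK' ⊢
  set η' := genericPoint X'
  letI := (f.stalkMap η').hom.toAlgebra
  haveI : Module.Flat (X.presheaf.stalk (f η')) (X'.presheaf.stalk η') := Flat.stalkMap f η'
  haveI : Algebra.FormallySmooth (X.presheaf.stalk (f η')) (X'.presheaf.stalk η') := by
    obtain ⟨_, ⟨U, hU, rfl⟩, hxU, -⟩ :=
      X.isBasis_affineOpens.exists_subset_of_mem_open (Set.mem_univ (f η')) isOpen_univ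
    obtain ⟨_, ⟨V, hV, rfl⟩, hxV, hVU⟩ :=
      X'.isBasis_affineOpens.exists_subset_of_mem_open hxU (U.2.preimage f.continuous)
    have hfs := formallySmooth_appLE f hf hU hV hVU
    show (f.stalkMap η').hom.FormallySmooth
    rw [formallySmooth_stalkMap_iff U hU V hV hVU hxV]
    letI := (f.appLE U V hVU).hom.toAlgebra
    haveI : Algebra.FormallySmooth Γ(X, U) Γ(X', V) := hfs
    show Algebra.FormallySmooth Γ(X, U) (Localization.AtPrime (hV.primeIdealOf ⟨η', hxV⟩).asIdeal)
    exact Algebra.FormallySmooth.comp Γ(X, U) Γ(X', V) _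
  exact (Groth.Agent.S18056.result _ _ hK').symm

end Groth.Agent.S18057
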