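import Groth.Statements.S9602
import Mathlib.RingTheory.Ideal.Quotient.Nilpotent

set_option autoImplicit false
universe u
open CAlg

namespace Groth.Agent.S9602


open AdicCompletion in
theorem isUnit_val {R : Type u} [CommRing R] (I : Ideal R) (x : AdicCompletion I R)
    (hx : IsUnit (AdicCompletion.evalOneₐ I x)) (n : ℕ) : IsUnit (x.val n) := by
  induction x using AdicCompletion.induction_on with
  | h a =>
    rw [AdicCompletion.mk_apply_coe]
    have h : (I ^ n • ⊤ : Ideal R) = I ^ n := by ext x; simp
    change IsUnit (Ideal.Quotient.mk (I ^ n • ⊤ : Ideal R) (a n))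
    rw [h]
    rcases Nat.eq_zero_or_pos n with rfl | hn
    · have : Subsingleton (R ⧸ I ^ 0) := by
        rw [pow_zero, Ideal.one_eq_top]
        exact Ideal.Quotient.subsingleton_iff.mpr rfl
      exact isUnit_of_subsingleton _
    · rw [Ideal.Quotient.isUnit_mk_pow_iff_isUnit_mk I hn.ne']
      have h1 : AdicCompletion.evalOneₐ I (AdicCompletion.mk I R a) =
          Ideal.Quotient.mk I (a 1) := by
        rw [← AdicCompletion.factorₐ_evalₐ_one, AdicCompletion.evalₐ_mk]
        rfl
      rw [h1] at hx
      have h2 : Ideal.Quotient.mk I (a n) = Ideal.Quotient.mk I (a 1) := by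
        rw [Ideal.Quotient.eq]
        have := a.property (show 1 ≤ n from hn)
        rw [SModEq.sub_mem] at this
        have h3 : (I ^ 1 • ⊤ : Ideal R) = I := by ext x; simp
        rw [h3] at this
        have h4 := I.neg_mem this
        rwa [neg_sub] at h4
      rw [h2]
      exact hx

theorem isUnit_of_evalOne {R : Type u} [CommRing R] (I : Ideal R) :
    ∀ x : AdicCompletion I R, IsUnit (AdicCompletion.evalOneₐ I x) → IsUnit x := by
  intro x hx
  have hu := isUnit_val I x hx
  choose b hb using fun n => (hu n).exists_right_inv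
  have hcompat : ∀ {m n : ℕ} (hmn : m ≤ n),
      AdicCompletion.transitionMap I R hmn (b n) = b m := by
    intro m n hmn
    have h1 : AdicCompletion.transitionMap I R hmn (x.val n) = x.val m := x.property hmn
    have h2 : AdicCompletion.transitionMap I R hmn (b n) * x.val m = 1 := by
      rw [← h1, ← AdicCompletion.transitionMap_map_mul, mul_comm, hb n]
      exact AdicCompletion.transitionMap_map_one I hmn
    calc AdicCompletion.transitionMap I R hmn (b n)
        = AdicCompletion.transitionMap I R hmn (b n) * (x.val m * b m) := by rw [hb m, mul_one]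
      _ = (AdicCompletion.transitionMap I R hmn (b n) * x.val m) * b m := by rw [mul_assoc]
      _ = b m := by rw [h2, one_mul]
  have hmem : b ∈ AdicCompletion.submodule I R := fun hmn => hcompat hmn
  refine IsUnit.of_mul_eq_one (⟨b, hmem⟩ : AdicCompletion I R) ?_
  apply AdicCompletion.ext
  intro n
  exact hb n

theorem Ideal.le_jacobson_bot_of_ker {R : Type u} [CommRing R] (I : Ideal R)
    (ha : ∀ x : AdicCompletion I R, IsUnit (AdicCompletion.evalOneₐ I x) → IsUnit x)
    {x : AdicCompletion I R} (hx : AdicCompletion.evalOneₐ I x = 0) :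
    x ∈ (⊥ : Ideal (AdicCompletion I R)).jacobson := by
  rw [Ideal.mem_jacobson_bot]
  intro y
  apply ha
  rw [map_add, map_mul, hx, zero_mul, zero_add, map_one]
  exact isUnit_one

/-- Let R be a ring, I an ideal of R and R^ = lim R/Iⁿ the I-adic completion. An element of R^ whose
image in R/I is invertible is itself invertible in R^; and the kernel of R^ → R/I as well as the
extended ideal I R^ both lie inside the Jacobson radical of R^. -/
theorem result {R : Type u} [CommRing R] (I : Ideal R) :
    (∀ x : AdicCompletion I R, IsUnit (AdicCompletion.evalOneₐ I x) → IsUnit x) ∧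
      RingHom.ker (AdicCompletion.evalOneₐ I).toRingHom ≤ (⊥ : Ideal (AdicCompletion I R)).jacobson ∧
      I.map (algebraMap R (AdicCompletion I R)) ≤ (⊥ : Ideal (AdicCompletion I R)).jacobson := by
  have ha := isUnit_of_evalOne I
  refine ⟨ha, ?_, ?_⟩
  · intro x hx
    rw [Ideal.mem_jacobson_bot]
    intro y
    apply ha
    have hx0 : AdicCompletion.evalOneₐ I x = 0 := hx
    rw [map_add, map_mul, hx0, zero_mul, zero_add, map_one]
    exact isUnit_one
  · rw [Ideal.map_le_iff_le_comap]
    intro r hr
    rw [Ideal.mem_comap]
    apply Ideal.le_jacobson_bot_of_ker I ha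
    rw [AlgHom.commutes, Ideal.Quotient.algebraMap_eq, Ideal.Quotient.eq_zero_iff_mem]
    exact hr

end Groth.Agent.S9602
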