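import Groth.Statements.S0414
import Groth.Agent.Lib.Helper8.GenFlatSch

set_option autoImplicit false
universe u
open FlatMor

namespace Groth.Agent.S0414

open AlgebraicGeometry CategoryTheory Limits in
/-- Generic flatness: a morphism X → S of finite type with S reduced is flat and locally of finite
presentation over some dense open subscheme of S. (Stated for the structure sheaf; the published
statement also treats a quasi-coherent O_X-module of finite type.) -/
theorem result {X S : Scheme.{u}} (f : X ⟶ S) [IsReduced S] [LocallyOfFiniteType f] [QuasiCompact f] :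
    ∃ U : S.Opens, Dense (U : Set ↑S) ∧ Flat (f ∣_ U) ∧ LocallyOfFinitePresentation (f ∣_ U) := by
  classical
  let ι := {D : S.Opens // Flat (f ∣_ D) ∧ LocallyOfFinitePresentation (f ∣_ D)}
  let U : S.Opens := ⨆ D : ι, D.1
  refine ⟨U, ?_, ?_, ?_⟩
  · rw [dense_iff_inter_open]
    intro W₀ hW₀ ⟨x, hx⟩
    obtain ⟨V, hV, hxV, hVW⟩ := TopologicalSpace.Opens.isBasis_iff_nbhd.mp S.isBasis_affineOpens
      (show x ∈ (⟨W₀, hW₀⟩ : S.Opens) from hx)
    have hVne : V ≠ ⊥ := by
      rintro rfl
      exact hxV
    obtain ⟨g, hgne, hg1, hg2⟩ :=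
      Groth.Agent.Lib.Helper8.GenFlatSch.exists_basicOpen_flat_fp f ⟨V, hV⟩ hVne
    obtain ⟨y, hy⟩ : ∃ y, y ∈ S.basicOpen g := by
      by_contra hcon
      push Not at hcon
      apply hgne
      ext z
      simp only [SetLike.mem_coe]
      exact ⟨fun hz => absurd hz (hcon z), fun hz => absurd hz (by simp)⟩
    refine ⟨y, hVW (S.basicOpen_le g hy), ?_⟩
    show y ∈ U
    rw [TopologicalSpace.Opens.mem_iSup]
    exact ⟨⟨S.basicOpen g, hg1, hg2⟩, hy⟩
  · have i1 : IsZariskiLocalAtTarget @Flat.{u} := HasRingHomProperty.instIsZariskiLocalAtTarget _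
    exact Groth.Agent.Lib.Helper8.GenFlatSch.morphismRestrict_iSup (P := @Flat) f
      (fun D : ι => D.1) (fun D => D.2.1)
  · have i2 : IsZariskiLocalAtTarget @LocallyOfFinitePresentation.{u} :=
      HasRingHomProperty.instIsZariskiLocalAtTarget _
    exact Groth.Agent.Lib.Helper8.GenFlatSch.morphismRestrict_iSup
      (P := @LocallyOfFinitePresentation) f (fun D : ι => D.1) (fun D => D.2.2)

end Groth.Agent.S0414
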