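import Groth.Statements.S4961
import Mathlib
import Groth.Agent.Lib.Helper21.CMChartMain
-- import your own Groth.Agent.* helpers here

set_option autoImplicit false
open CategoryTheory AlgebraicGeometry
universe u v w
open EGA43

namespace Groth.Agent.S4961
open CategoryTheory CategoryTheory.Limits AlgebraicGeometry

/-- Let f : X ⟶ Y be a morphism locally of finite presentation. The set of points x of X at which f is
Cohen–Macaulay (f flat at x and the local ring at x of the fibre through x Cohen–Macaulay) is open
in X. -/
theorem result {X Y : Scheme.{u}} (f : X ⟶ Y)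
    [LocallyOfFinitePresentation f] : IsOpen {x : X | MoreMor.IsCMAt f x} := by
  rw [isOpen_iff_forall_mem_open]
  intro x hx
  obtain ⟨ζ, n, -, -, -, hn⟩ :=
    Groth.Agent.Lib.Helper73.SchemeDim.exists_specializes_trdeg_eq_fibreDimAt f x
  obtain ⟨U, hxU, g, hg, hqf, hfl⟩ :=
    Groth.Agent.Lib.Helper21.CMChartMain.exists_chart_of_isCMAt f x hx n hn
  refine ⟨U, fun u hu => ?_, U.isOpen, hxU⟩
  exact Groth.Agent.Lib.Helper21.CMChartMain.isCMAt_of_chart f u n U hu g hg (Flat.stalkMap g _)

end Groth.Agent.S4961
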