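import Groth.Statements.S4366
import Mathlib
-- import your own Groth.Agent.* helpers here

set_option autoImplicit false
universe u
open SchMor

namespace Groth.Agent.S4366

open AlgebraicGeometry CategoryTheory CategoryTheory.Limits

theorem flat_fromSpecStalk (Y : Scheme.{u}) (y : Y) : Flat (Y.fromSpecStalk y) := by
  obtain ⟨_, ⟨V, hV, rfl⟩, hyV, -⟩ :=
    Y.isBasis_affineOpens.exists_subset_of_mem_open (Set.mem_univ y) isOpen_univ
  rw [← hV.fromSpecStalk_eq_fromSpecStalk hyV]
  unfold IsAffineOpen.fromSpecStalk
  have : Flat (Spec.map (Y.presheaf.germ V y hyV)) := by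
    rw [Flat.SpecMap_iff]
    let _ : Algebra Γ(Y, V) (Y.presheaf.stalk y) :=
      TopCat.Presheaf.algebra_section_stalk Y.presheaf (⟨y, hyV⟩ : V)
    have := hV.isLocalization_stalk ⟨y, hyV⟩
    exact IsLocalization.flat (Y.presheaf.stalk y) (hV.primeIdealOf ⟨y, hyV⟩).asIdeal.primeCompl
  have : IsOpenImmersion hV.fromSpec := hV.isOpenImmersion_fromSpec
  infer_instance

theorem isIso_stalkMap_of_flat_of_mono {X' X : Scheme.{u}} (h : X' ⟶ X) [Flat h] [Mono h]
    (t : X') : IsIso (h.stalkMap t) := by
  have hfac : Spec.map (h.stalkMap t) ≫ X.fromSpecStalk (h t) = X'.fromSpecStalk t ≫ h :=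
    Scheme.SpecMap_stalkMap_fromSpecStalk h
  have hmono : Mono (Spec.map (h.stalkMap t)) := by
    have : Mono (Spec.map (h.stalkMap t) ≫ X.fromSpecStalk (h t)) := by
      rw [hfac]; infer_instance
    exact mono_of_mono _ (X.fromSpecStalk (h t))
  have hff : (h.stalkMap t).hom.FaithfullyFlat := by
    algebraize [(h.stalkMap t).hom]
    have : Module.FaithfullyFlat (X.presheaf.stalk (h t)) (X'.presheaf.stalk t) :=
      @Module.FaithfullyFlat.of_flat_of_isLocalHom _ _ _ _ _ _ _
        (Flat.stalkMap h t) (h.toLRSHom.prop t)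
    exact ‹RingHom.FaithfullyFlat _›
  obtain ⟨hflat, hsurj⟩ := (flat_and_surjective_SpecMap_iff (h.stalkMap t)).mpr hff
  have : IsIso (Spec.map (h.stalkMap t)) := Flat.isIso_of_surjective_of_mono _
  rw [isIso_SpecMap_iff] at this
  exact (ConcreteCategory.isIso_iff_bijective _).mpr this

open AlgebraicGeometry in
open CategoryTheory in
open CategoryTheory.Limits in
/-- Let f : X -> Y be a morphism, y a point of Y and Z = Spec O_{Y,y} the local scheme of Y at y with
its canonical morphism to Y. Then the projection p : X x_Y Z -> X induces isomorphisms on all local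
rings: for every point t of X x_Y Z the homomorphism O_{X, p t} -> O_{X x_Y Z, t} is bijective. (The
published statement also asserts that p is a homeomorphism onto the preimage of Z; that part is not
stated here.) -/
theorem result
    {X Y : Scheme.{u}} (f : X ⟶ Y) (y : Y) (t : ↑(pullback f (Y.fromSpecStalk y))) :
    IsIso ((pullback.fst f (Y.fromSpecStalk y)).stalkMap t) := by
  have := flat_fromSpecStalk Y y
  exact isIso_stalkMap_of_flat_of_mono _ t

end Groth.Agent.S4366
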