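import Groth.Statements.S0389
import Groth.Agent.Lib.Helper8.GenFree3

set_option autoImplicit false
universe u
open FlatMor

namespace Groth.Agent.S0389

open TensorProduct in
/-- Generic freeness: over a domain, for a finite type algebra and a finite module over it, after
inverting one nonzero element of the base the algebra and the module become free over the base, the
algebra becomes finitely presented over the base and the module finitely presented over the algebra. -/
theorem result {R S M : Type u} [CommRing R] [IsDomain R] [CommRing S] [Algebra R S] [Algebra.FiniteType R S] [AddCommGroup M] [Module S M] [Module R M] [IsScalarTower R S M] [Module.Finite S M] :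
    ∃ f : R, f ≠ 0 ∧ Module.Free (Localization.Away f) (Localization.Away f ⊗[R] M) ∧
      Module.Free (Localization.Away f) (Localization.Away f ⊗[R] S) ∧
      Algebra.FinitePresentation (Localization.Away f) (Localization.Away f ⊗[R] S) ∧
      Module.FinitePresentation (Localization.Away (algebraMap R S f)) (LocalizedModule (Submonoid.powers (algebraMap R S f)) M) := by
  classical
  obtain ⟨f₁, h10, h1⟩ := Groth.Agent.Lib.Helper8.GenFree.gf_of_finiteType (R := R) S M
  obtain ⟨f₂, h20, h2⟩ := Groth.Agent.Lib.Helper8.GenFree.gf_of_finiteType (R := R) S S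
  obtain ⟨f₃, h30, h3⟩ := Groth.Agent.Lib.Helper8.GenFree.exists_fp_algebra (R := R) S
  obtain ⟨f₄, h40, h4⟩ := Groth.Agent.Lib.Helper8.GenFree.fpg_of_finite (R := R) (S := S) M
  refine ⟨f₁ * f₂ * f₃ * f₄, mul_ne_zero (mul_ne_zero (mul_ne_zero h10 h20) h30) h40, ?_, ?_, ?_, ?_⟩
  · have hu : IsUnit (algebraMap R (Localization.Away (f₁ * f₂ * f₃ * f₄)) (f₁ * f₂ * f₃ * f₄)) :=
      IsLocalization.Away.algebraMap_isUnit _
    refine h1 _ ?_
    rw [map_mul, map_mul, map_mul] at hu
    exact isUnit_of_mul_isUnit_left (isUnit_of_mul_isUnit_left (isUnit_of_mul_isUnit_left hu))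
  · have hu : IsUnit (algebraMap R (Localization.Away (f₁ * f₂ * f₃ * f₄)) (f₁ * f₂ * f₃ * f₄)) :=
      IsLocalization.Away.algebraMap_isUnit _
    refine h2 _ ?_
    rw [map_mul, map_mul, map_mul] at hu
    exact isUnit_of_mul_isUnit_right (isUnit_of_mul_isUnit_left (isUnit_of_mul_isUnit_left hu))
  · have hu : IsUnit (algebraMap R (Localization.Away (f₁ * f₂ * f₃ * f₄)) (f₁ * f₂ * f₃ * f₄)) :=
      IsLocalization.Away.algebraMap_isUnit _
    refine h3 _ ?_
    rw [map_mul, map_mul, map_mul] at hu
    exact isUnit_of_mul_isUnit_right (isUnit_of_mul_isUnit_left hu)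
  · exact h4 _ (dvd_mul_left f₄ _)

end Groth.Agent.S0389
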