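import Groth.Statements.S0387
import Groth.Agent.Lib.Helper54.FlatStage5
import Groth.Agent.Lib.Helper54.FlatDescent
import Mathlib.RingTheory.Extension.Presentation.Core

set_option autoImplicit false
universe u
open FlatMor

namespace Groth.Agent.S0387

open TensorProduct in
attribute [local instance] Algebra.TensorProduct.rightAlgebra in
/-- Openness of the flat locus for a module which is, up to isomorphism, the base change of
Noetherian data. -/
theorem main_aux {R S M : Type u} [CommRing R] [CommRing S] [Algebra R S] [AddCommGroup M]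
    [Module S M] [Module R M] [IsScalarTower R S M]
    (R₀ : Type u) [CommRing R₀] [IsNoetherianRing R₀] [Algebra R₀ R] (S₀ : Type u) [CommRing S₀]
    [Algebra R₀ S₀] [Algebra.FiniteType R₀ S₀]
    (θ : S₀ ⊗[R₀] R ≃+* S) (hθ : ∀ r : R, θ (algebraMap R (S₀ ⊗[R₀] R) r) = algebraMap R S r)
    {n m : ℕ} (v₀ : Fin m → Fin n → S₀) (K : Submodule S (Fin n → S))
    (eM : M ≃ₗ[S] (Fin n → S) ⧸ K)
    (hK : K = Submodule.span S (Set.range fun j => (fun i => θ (v₀ j i ⊗ₜ 1)))) :
    IsOpen {q : PrimeSpectrum S | Module.Flat R (LocalizedModule q.asIdeal.primeCompl M)} := by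
  letI algS : Algebra S₀ S := (θ.toRingHom.comp (algebraMap S₀ (S₀ ⊗[R₀] R))).toAlgebra
  have halg : ∀ σ : S₀, algebraMap S₀ S σ = θ (σ ⊗ₜ 1) := fun σ => by
    show θ (algebraMap S₀ (S₀ ⊗[R₀] R) σ) = _
    rw [Algebra.TensorProduct.algebraMap_apply, Algebra.algebraMap_self, RingHom.id_apply]
  have hK' : Submodule.span S (Set.range fun j => (fun i => algebraMap S₀ S (v₀ j i))) = K := by
    have h1 : (fun j => (fun i => algebraMap S₀ S (v₀ j i))) =
        fun j => (fun i => θ (v₀ j i ⊗ₜ 1)) := by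
      funext j i
      exact halg _
    rw [hK, h1]
  -- the model module
  let θL : (S₀ ⊗[R₀] R) ≃ₗ[S₀] S :=
    { θ.toAddEquiv with
      map_smul' := fun σ x => by
        show θ (σ • x) = σ • θ x
        rw [Algebra.smul_def, Algebra.smul_def, map_mul]
        rfl }
  let Θ₁ : (S₀ ⊗[R₀] R) ⊗[S₀] (Groth.Agent.Lib.Helper54.FlatDescent.Q₀ S₀ v₀) ≃ₗ[S₀]
      S ⊗[S₀] (Groth.Agent.Lib.Helper54.FlatDescent.Q₀ S₀ v₀) :=
    TensorProduct.congr θL (LinearEquiv.refl S₀ _)
  have hΘ₁ : ∀ (b' : S₀ ⊗[R₀] R) (x : (S₀ ⊗[R₀] R) ⊗[S₀]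
      (Groth.Agent.Lib.Helper54.FlatDescent.Q₀ S₀ v₀)), Θ₁ (b' • x) = θ b' • Θ₁ x := by
    intro b' x
    induction x with
    | zero => simp
    | add x y hx hy => rw [smul_add, map_add, hx, hy, map_add, smul_add]
    | tmul c y =>
      rw [TensorProduct.smul_tmul', TensorProduct.congr_tmul, TensorProduct.congr_tmul,
        TensorProduct.smul_tmul', smul_eq_mul, smul_eq_mul]
      congr 1
      exact map_mul θ b' c
  let Θ₂ := (Groth.Agent.Lib.Helper54.FlatDescent.isBaseChange_quotMap S₀ S v₀).equiv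
  let Θ₃ := Submodule.quotEquivOfEq _ K hK'
  let Θ : (S₀ ⊗[R₀] R) ⊗[S₀] (Groth.Agent.Lib.Helper54.FlatDescent.Q₀ S₀ v₀) ≃+ M :=
    Θ₁.toAddEquiv.trans (Θ₂.toAddEquiv.trans (Θ₃.toAddEquiv.trans eM.symm.toAddEquiv))
  have hΘ : ∀ (b' : S₀ ⊗[R₀] R) x, Θ (b' • x) = θ b' • Θ x := by
    intro b' x
    show eM.symm (Θ₃ (Θ₂ (Θ₁ (b' • x)))) = θ b' • eM.symm (Θ₃ (Θ₂ (Θ₁ x)))
    rw [hΘ₁, map_smul, map_smul, map_smul]
  have hΘs : ∀ (b : S) (y : M), Θ.symm (b • y) = θ.symm b • Θ.symm y := by
    intro b y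
    apply Θ.injective
    rw [hΘ, AddEquiv.apply_symm_apply, AddEquiv.apply_symm_apply, RingEquiv.apply_symm_apply]
  have hopen := Groth.Agent.Lib.Helper54.FlatStage5.isOpen_flatLocus_baseChange R₀ S₀
    (Groth.Agent.Lib.Helper54.FlatDescent.Q₀ S₀ v₀) R
  have hU : {q : PrimeSpectrum S | Module.Flat R (LocalizedModule q.asIdeal.primeCompl M)} =
      PrimeSpectrum.comap θ.toRingHom ⁻¹' {q : PrimeSpectrum (S₀ ⊗[R₀] R) |
        Module.Flat R (LocalizedModule q.asIdeal.primeCompl
          ((S₀ ⊗[R₀] R) ⊗[S₀] (Groth.Agent.Lib.Helper54.FlatDescent.Q₀ S₀ v₀)))} := by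
    ext q
    constructor
    · intro hq
      exact Groth.Agent.Lib.Helper54.FlatDescent.flat_localized_of_semilinearEquiv θ.symm
        (fun r => by rw [← hθ r, RingEquiv.symm_apply_apply]) Θ.symm hΘs
        (q.asIdeal.comap θ.toRingHom) q.asIdeal
        (fun b => by rw [Ideal.mem_comap]; show b ∈ q.asIdeal ↔ θ (θ.symm b) ∈ q.asIdeal
                     rw [RingEquiv.apply_symm_apply]) hq
    · intro hq
      exact Groth.Agent.Lib.Helper54.FlatDescent.flat_localized_of_semilinearEquiv θ hθ Θ hΘ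
        q.asIdeal (q.asIdeal.comap θ.toRingHom) (fun b' => Iff.rfl) hq
  rw [hU]
  exact hopen.preimage (PrimeSpectrum.continuous_comap _)

open TensorProduct in
attribute [local instance] Algebra.TensorProduct.rightAlgebra in
/-- The case of a presentation whose relations, together with lifts of the relations of the
module, have coefficients in a Noetherian ring `R₀` mapping to `R`. -/
theorem step1 {R S M : Type u} [CommRing R] [CommRing S] [Algebra R S] [AddCommGroup M]
    [Module S M] [Module R M] [IsScalarTower R S M] {ι σ : Type} [Finite ι] [Finite σ]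
    (P : Algebra.Presentation R S ι σ) (R₀ : Type u) [CommRing R₀] [IsNoetherianRing R₀]
    [Algebra R₀ R] [Algebra R₀ S] [IsScalarTower R₀ R S] [P.HasCoeffs R₀] {n m : ℕ}
    (pol : Fin m → Fin n → MvPolynomial ι R₀)
    (K : Submodule S (Fin n → S)) (eM : M ≃ₗ[S] (Fin n → S) ⧸ K)
    (hK : K = Submodule.span S (Set.range fun j => (fun i =>
      MvPolynomial.aeval P.val (pol j i)))) :
    IsOpen {q : PrimeSpectrum S | Module.Flat R (LocalizedModule q.asIdeal.primeCompl M)} := by
  let e := P.tensorModelOfHasCoeffsEquiv R₀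
  let θ : (P.ModelOfHasCoeffs R₀) ⊗[R₀] R ≃+* S :=
    (Algebra.TensorProduct.comm R₀ (P.ModelOfHasCoeffs R₀) R).toRingEquiv.trans e.toRingEquiv
  have hθapp : ∀ x, θ x = e (Algebra.TensorProduct.comm R₀ (P.ModelOfHasCoeffs R₀) R x) :=
    fun x => rfl
  refine main_aux R₀ (P.ModelOfHasCoeffs R₀) θ ?_ (fun j i => Ideal.Quotient.mk _ (pol j i))
    K eM ?_
  · intro r
    rw [hθapp, Algebra.TensorProduct.right_algebraMap_apply, Algebra.TensorProduct.comm_tmul]
    have h1 := e.commutes r
    rw [Algebra.TensorProduct.algebraMap_apply, Algebra.algebraMap_self, RingHom.id_apply] at h1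
    exact h1
  · have h1 : (fun j => (fun i => MvPolynomial.aeval P.val (pol j i))) =
        fun j => (fun i => θ ((Ideal.Quotient.mk _ (pol j i) : P.ModelOfHasCoeffs R₀) ⊗ₜ 1)) := by
      funext j i
      rw [hθapp, Algebra.TensorProduct.comm_tmul]
      show _ = algebraMap R S 1 * MvPolynomial.aeval P.val (pol j i)
      rw [map_one, one_mul]
    rw [hK, h1]

/-- Openness of the flat locus, algebra form: for a ring map of finite presentation and a finitely
presented module over the target, the primes at which the localized module is flat over the base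
ring form an open subset of the spectrum. -/
theorem result {R S M : Type u} [CommRing R] [CommRing S] [Algebra R S] [Algebra.FinitePresentation R S] [AddCommGroup M] [Module S M] [Module R M] [IsScalarTower R S M] [Module.FinitePresentation S M] :
    IsOpen {q : PrimeSpectrum S | Module.Flat R (LocalizedModule q.asIdeal.primeCompl M)} := by
  classical
  obtain ⟨P, -⟩ : ∃ P : Algebra.Presentation R S
      (Fin (Algebra.Presentation.ofFinitePresentationVars R S))
      (Fin (Algebra.Presentation.ofFinitePresentationRels R S)), True :=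
    ⟨Algebra.Presentation.ofFinitePresentation R S, trivial⟩
  obtain ⟨n, K, eM, hK⟩ := Module.FinitePresentation.exists_fin S M
  obtain ⟨m, v, hv⟩ := Submodule.fg_iff_exists_fin_generating_family.1 hK
  have hsurj : Function.Surjective (MvPolynomial.aeval (R := R) P.val) := P.aeval_val_surjective
  choose lift hlift using hsurj
  obtain ⟨cs, hcs⟩ : ∃ cs : Set R, cs = ⋃ j : Fin m, ⋃ i : Fin n, ((lift (v j i)).coeffs : Set R) :=
    ⟨_, rfl⟩
  have hfin : cs.Finite := by
    rw [hcs]
    exact Set.finite_iUnion fun j => Set.finite_iUnion fun i => Finset.finite_toSet _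
  have hmem : ∀ j i, lift (v j i) ∈
      Set.range (MvPolynomial.map (algebraMap (Algebra.adjoin P.Core cs) R)) := by
    intro j i
    rw [MvPolynomial.mem_range_map_iff_coeffs_subset]
    intro c hc
    have hc' : c ∈ cs := by
      rw [hcs]
      exact Set.mem_iUnion.2 ⟨j, Set.mem_iUnion.2 ⟨i, hc⟩⟩
    exact ⟨⟨c, Algebra.subset_adjoin hc'⟩, rfl⟩
  choose pol hpol using hmem
  haveI : Algebra.FiniteType P.Core (Algebra.adjoin P.Core cs) :=
    Algebra.FiniteType.adjoin_of_finite hfin
  haveI : IsNoetherianRing P.Core := Algebra.FiniteType.isNoetherianRing ℤ P.Core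
  haveI : IsNoetherianRing (Algebra.adjoin P.Core cs) :=
    Algebra.FiniteType.isNoetherianRing P.Core _
  refine step1 P (Algebra.adjoin P.Core cs) pol K eM ?_
  have h1 : (fun j => (fun i => MvPolynomial.aeval P.val (pol j i))) = v := by
    funext j i
    rw [← MvPolynomial.aeval_map_algebraMap R, hpol, hlift]
  rw [h1, ← hv]

end Groth.Agent.S0387
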