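import Groth.Statements.S0386
import Mathlib
import Groth.Agent.S0387
import Groth.Agent.Lib.QCoh.Helper74_FlatOver

set_option autoImplicit false
universe u
open FlatMor

namespace Groth.Agent.S0386

open CategoryTheory CategoryTheory.Limits AlgebraicGeometry Opposite TopologicalSpace in
open Groth.Agent.Lib.QCoh in
/-- Pointwise dictionary: flatness of the stalk map at a point of an affine open `V` mapping into an
affine open `U` is flatness over `Γ(S, U)` of the localization of `Γ(X, V)` at the corresponding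
prime. -/
theorem stalkMap_flat_iff_localized {X S : Scheme.{u}} (f : X ⟶ S) {U : S.Opens} {V : X.Opens}
    (e : V ≤ f ⁻¹ᵁ U) (hU : IsAffineOpen U) (hV : IsAffineOpen V) (x : X) (hx : x ∈ V) :
    letI : Algebra Γ(S, U) Γ(X, V) := (f.appLE U V e).hom.toAlgebra
    (f.stalkMap x).hom.Flat ↔ Module.Flat Γ(S, U)
      (LocalizedModule (hV.primeIdealOf ⟨x, hx⟩).asIdeal.primeCompl Γ(X, V)) := by
  letI : Algebra Γ(S, U) Γ(X, V) := (f.appLE U V e).hom.toAlgebra
  letI algSX : Algebra (S.presheaf.stalk (f x)) (X.presheaf.stalk x) :=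
    (f.stalkMap x).hom.toAlgebra
  letI := X.presheaf.algebra_section_stalk ⟨x, hx⟩
  letI := S.presheaf.algebra_section_stalk ⟨f x, e hx⟩
  letI : Module Γ(S, U) (X.presheaf.stalk x) :=
    Module.compHom _ (algebraMap Γ(S, U) Γ(X, V))
  haveI : IsScalarTower Γ(S, U) Γ(X, V) (X.presheaf.stalk x) :=
    .of_algebraMap_smul fun _ _ => rfl
  haveI : IsScalarTower Γ(S, U) (S.presheaf.stalk (f x)) (X.presheaf.stalk x) :=
    .of_algebraMap_smul fun a m => by
      change (f.stalkMap x (S.presheaf.germ U (f x) (e hx) a)) * m =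
        (X.presheaf.germ V x hx (f.appLE U V e a)) * m
      rw [germ_appLE_apply]
  haveI := hU.isLocalization_stalk ⟨f x, e hx⟩
  haveI := hV.isLocalization_stalk ⟨x, hx⟩
  have h1 : (f.stalkMap x).hom.Flat ↔ Module.Flat Γ(S, U) (X.presheaf.stalk x) :=
    Module.flat_iff_of_isLocalization (S.presheaf.stalk (f x))
      (hU.primeIdealOf ⟨f x, e hx⟩).asIdeal.primeCompl _
  rw [h1]
  haveI : IsLocalizedModule (hV.primeIdealOf ⟨x, hx⟩).asIdeal.primeCompl
      (Algebra.linearMap Γ(X, V) (X.presheaf.stalk x)) :=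
    (isLocalizedModule_iff_isLocalization).2 inferInstance
  let eq : LocalizedModule (hV.primeIdealOf ⟨x, hx⟩).asIdeal.primeCompl Γ(X, V) ≃ₗ[Γ(X, V)]
      X.presheaf.stalk x :=
    IsLocalizedModule.iso _ (Algebra.linearMap Γ(X, V) (X.presheaf.stalk x))
  exact ⟨fun _ => Module.Flat.of_linearEquiv (eq.restrictScalars Γ(S, U)),
    fun _ => Module.Flat.of_linearEquiv (eq.restrictScalars Γ(S, U)).symm⟩

open AlgebraicGeometry CategoryTheory Limits in
/-- Openness of the flat locus: for a morphism f : X ⟶ S locally of finite presentation, the set of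
points x of X at which the local ring O_{X,x} is flat over O_{S,f(x)} is open in X. (The published
statement also treats the flat locus of a finitely presented quasi-coherent module; stated here for
the structure sheaf.) -/
theorem result {X S : Scheme.{u}} (f : X ⟶ S) [LocallyOfFinitePresentation f] :
    IsOpen {x : X | (f.stalkMap x).hom.Flat} := by
  classical
  rw [isOpen_iff_forall_mem_open]
  intro x hx
  obtain ⟨_, ⟨U, hU : IsAffineOpen U, rfl⟩, hfxU, -⟩ :=
    (S.isBasis_affineOpens).exists_subset_of_mem_open (Set.mem_univ (f x)) isOpen_univ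
  have hxU : x ∈ (f ⁻¹ᵁ U : X.Opens) := hfxU
  obtain ⟨_, ⟨V, hV : IsAffineOpen V, rfl⟩, hxV, hVsub⟩ :=
    (X.isBasis_affineOpens).exists_subset_of_mem_open hxU (f ⁻¹ᵁ U).2
  have e : V ≤ f ⁻¹ᵁ U := fun y hy => hVsub hy
  letI : Algebra Γ(S, U) Γ(X, V) := (f.appLE U V e).hom.toAlgebra
  haveI : Algebra.FinitePresentation Γ(S, U) Γ(X, V) :=
    f.finitePresentation_appLE hU hV e
  have hopen := Groth.Agent.S0387.result (R := Γ(S, U)) (S := Γ(X, V)) (M := Γ(X, V))
  refine ⟨hV.fromSpec '' {q : PrimeSpectrum Γ(X, V) |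
      Module.Flat Γ(S, U) (LocalizedModule q.asIdeal.primeCompl Γ(X, V))}, ?_,
    hV.fromSpec.isOpenEmbedding.isOpenMap _ hopen, ?_⟩
  · rintro _ ⟨q, hq, rfl⟩
    have hy : hV.fromSpec q ∈ V := by
      have : hV.fromSpec q ∈ Set.range hV.fromSpec := ⟨q, rfl⟩
      rwa [hV.range_fromSpec] at this
    have hq' : hV.primeIdealOf ⟨hV.fromSpec q, hy⟩ = q :=
      hV.fromSpec.isOpenEmbedding.injective (hV.fromSpec_primeIdealOf ⟨_, hy⟩)
    refine (stalkMap_flat_iff_localized f e hU hV (hV.fromSpec q) hy).mpr ?_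
    rw [hq']
    exact hq
  · refine ⟨hV.primeIdealOf ⟨x, hxV⟩, ?_, hV.fromSpec_primeIdealOf ⟨x, hxV⟩⟩
    exact (stalkMap_flat_iff_localized f e hU hV x hxV).mp hx

end Groth.Agent.S0386
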