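import Groth.Statements.S7508
import Mathlib
import Groth.Agent.Lib.Helper21.GrpdSliceIter
import Groth.Agent.Lib.Helper21.GrpdRestrictMain
-- import your own Groth.Agent.* helpers here

set_option autoImplicit false
universe u
open CategoryTheory CategoryTheory.Limits AlgebraicGeometry
open Grpd

namespace Groth.Agent.S7508

/-- Let (U, R, s, t, c, e, i) be a groupoid scheme over S with s and t Cohen-Macaulay and locally of
finite presentation, assume the stabilizer G -> U is locally quasi-finite (locally of finite type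
with discrete fibres), and let u be a finite type point of U. Then there exist an affine scheme U',
an immersion g : U' -> U locally of finite presentation and a point u' with g(u') = u such that h =
s ∘ pr_1 : U' x_(g,U,t) R -> U and the source and target s', t' : R' -> U' of the restriction R' =
(U' x_(g,U,t) R) x_(h,U,g) U' are flat, locally of finite presentation and locally quasi-finite.
Here a morphism is Cohen-Macaulay when it is Cohen-Macaulay at every point of its source (flat there
with Cohen-Macaulay fibre local ring, Grpd.IsCMAt), and a finite type point u is one for which Spec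
κ(u) -> U is locally of finite type. (A groupoid scheme carries U, R, s, t, c, e, i over S with the
groupoid axioms on T-points; c is defined on the fibre product of s and t and sends a pair (a, b)
with s(a) = t(b) to a composed with b.) -/
theorem result (S : Scheme.{u}) (G : Grpd.GroupoidScheme S) [LocallyOfFinitePresentation G.s] [LocallyOfFinitePresentation G.t] (hs : ∀ r : G.R, Grpd.IsCMAt G.s r) (ht : ∀ r : G.R, Grpd.IsCMAt G.t r) [LocallyOfFiniteType G.stabilizerToU] [LocallyQuasiFinite G.stabilizerToU] (u : G.U) (hu : LocallyOfFiniteType (G.U.fromSpecResidueField u)) : ∃ (U' : Scheme.{u}) (_ : IsAffine U') (g : U' ⟶ G.U) (u' : U'), IsImmersion g ∧ LocallyOfFinitePresentation g ∧ g u' = u ∧ (Flat (pullback.snd g G.t ≫ G.s) ∧ LocallyOfFinitePresentation (pullback.snd g G.t ≫ G.s) ∧ LocallyOfFiniteType (pullback.snd g G.t ≫ G.s) ∧ LocallyQuasiFinite (pullback.snd g G.t ≫ G.s)) ∧ (Flat (pullback.snd (pullback.snd g G.t ≫ G.s) g) ∧ LocallyOfFinitePresentation (pullback.snd (pullback.snd g G.t ≫ G.s) g) ∧ LocallyQuasiFinite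 (pullback.snd (pullback.snd g G.t ≫ G.s) g)) ∧ (Flat (pullback.fst (pullback.snd g G.t ≫ G.s) g ≫ pullback.fst g G.t) ∧ LocallyOfFinitePresentation (pullback.fst (pullback.snd g G.t ≫ G.s) g ≫ pullback.fst g G.t) ∧ LocallyQuasiFinite (pullback.fst (pullback.snd g G.t ≫ G.s) g ≫ pullback.fst g G.t)) := by
  classical
  have := hu
  have hfs : Flat G.s := Flat.of_stalkMap _ (fun r => (hs r).1)
  have hft : Flat G.t := Flat.of_stalkMap _ (fun r => (ht r).1)
  have hd : topologicalKrullDim ↥(G.stabilizerToU.fiber u) ≤ 0 :=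
    topologicalKrullDim_zero_of_discreteTopology _
  obtain ⟨V, hV, I₀, u', p, hfg, hgu', hp1, hp2, hcm, hdim⟩ :=
    Groth.Agent.Lib.Helper21.GrpdSliceIter.exists_iter_slice S G hs u hu 0 hd
  have hgi : IsImmersion (Groth.Agent.Lib.Helper21.PullbackSliceStalkI.sliceHomI hV I₀) :=
    inferInstance
  have hgfp : LocallyOfFinitePresentation
      (Groth.Agent.Lib.Helper21.PullbackSliceStalkI.sliceHomI hV I₀) :=
    Groth.Agent.Lib.Helper21.PullbackSliceStalkI.lfp_sliceHomI hV I₀ hfg
  generalize Groth.Agent.Lib.Helper21.PullbackSliceStalkI.sliceHomI hV I₀ = g at *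
  have : LocallyOfFinitePresentation (Groth.Agent.Lib.Helper21.GrpdAct.hX G g) := inferInstance
  have : LocallyOfFiniteType (Groth.Agent.Lib.Helper21.GrpdAct.hX G g) := inferInstance
  -- `p` lies in the flat and quasi-finite locus
  have h0 : 0 ≤ FlatMor.fibreDimAt (pullback.snd g G.t ≫ G.s) p := by
    rw [Groth.Agent.Lib.Helper21.FieldDim.fibreDimAt_eq_ringKrullDim_add]
    have : IsLocalRing (↥((pullback g G.t).presheaf.stalk p) ⧸
        (IsLocalRing.maximalIdeal (G.U.presheaf.stalk ((pullback.snd g G.t ≫ G.s) p))).map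
          ((pullback.snd g G.t ≫ G.s).stalkMap p).hom) := hcm.2.toIsLocalRing
    exact add_nonneg ringKrullDim_nonneg_of_nontrivial (Nat.cast_nonneg _)
  have hpL : p ∈ Groth.Agent.Lib.Helper21.GrpdInvLocus.fqSet
      (Groth.Agent.Lib.Helper21.GrpdAct.hX G g) :=
    ⟨hcm.1, (Groth.Agent.Lib.Helper73.QFAt.quasiFiniteAt_iff_fibreDimAt_eq_zero _ p).mpr
      (le_antisymm hdim h0)⟩
  obtain ⟨U'', hU'', hu'U'', hall⟩ := Groth.Agent.Lib.Helper21.GrpdShrink.exists_shrink G g
    (fun f => Groth.Agent.Lib.Helper21.GrpdInvLocus.fqSet f)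
    (fun hc => Groth.Agent.Lib.Helper21.GrpdInvLocus.fqSet_of_isPullback hc)
    (fun k _ f _ => Groth.Agent.Lib.Helper21.GrpdRestrictMain.fqSet_comp_openImmersion k f)
    (Groth.Agent.Lib.Helper21.GrpdInvLocus.isOpen_fqSet _) p hpL
  have : IsAffine (U'' : Scheme.{u}) := hU''
  rw [hp1] at hu'U''
  refine ⟨U'', inferInstance, U''.ι ≫ g, ⟨u', hu'U''⟩, inferInstance, inferInstance, hgu', ?_⟩
  exact Groth.Agent.Lib.Helper21.GrpdRestrictMain.restrict_fq G (U''.ι ≫ g) hall

end Groth.Agent.S7508
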