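import Groth.Statements.S9651
import Mathlib
import Groth.Agent.S0389

set_option autoImplicit false
universe u
open CAlg


namespace Groth.Agent.S9651

open TensorProduct

theorem exists_ne_zero_forall_mem_range {D B : Type u} [CommRing D] [IsDomain D] [CommRing B]
    [IsDomain B] [Algebra D B] [Algebra.FiniteType D B]
    (hinj : Function.Injective (algebraMap D B)) :
    ∃ f : D, f ≠ 0 ∧ ∀ P : PrimeSpectrum D, f ∉ P.asIdeal →
      P ∈ Set.range (PrimeSpectrum.comap (algebraMap D B)) := by
  obtain ⟨f, hf0, -, hfree, -, -⟩ := Groth.Agent.S0389.result (R := D) (S := B) (M := B)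
  refine ⟨f, hf0, fun P hP => ?_⟩
  have hnt : Nontrivial (Localization.Away f ⊗[D] B) := by
    have hfB : IsUnit (algebraMap D (FractionRing B) f) := by
      rw [IsScalarTower.algebraMap_apply D B (FractionRing B)]
      apply IsUnit.mk0
      rw [Ne, map_eq_zero_iff _ (IsFractionRing.injective B (FractionRing B))]
      exact fun h => hf0 (hinj (by simpa using h))
    let φ1 : Localization.Away f →ₐ[D] FractionRing B :=
      IsLocalization.liftAlgHom (M := Submonoid.powers f) (f := Algebra.ofId D (FractionRing B))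
        (by
          rintro ⟨_, n, rfl⟩
          simpa [Algebra.ofId_apply] using hfB.pow n)
    let φ : Localization.Away f ⊗[D] B →ₐ[D] FractionRing B :=
      Algebra.TensorProduct.lift φ1 (IsScalarTower.toAlgHom D B (FractionRing B))
        (fun _ _ => Commute.all _ _)
    exact φ.toRingHom.domain_nontrivial
  have hff : Module.FaithfullyFlat (Localization.Away f) (Localization.Away f ⊗[D] B) :=
    inferInstance
  have hdisj : Disjoint (Submonoid.powers f : Set D) (P.asIdeal : Set D) := by
    rw [Ideal.disjoint_powers_iff_notMem _ P.2.isRadical]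
    exact hP
  have hprime : (Ideal.map (algebraMap D (Localization.Away f)) P.asIdeal).IsPrime :=
    IsLocalization.isPrime_of_isPrime_disjoint (Submonoid.powers f) _ _ P.2 hdisj
  have hcomap : Ideal.comap (algebraMap D (Localization.Away f))
      (Ideal.map (algebraMap D (Localization.Away f)) P.asIdeal) = P.asIdeal :=
    IsLocalization.under_map_of_isPrime_disjoint (Submonoid.powers f) _ P.2 hdisj
  obtain ⟨Q', hQ'⟩ := PrimeSpectrum.comap_surjective_of_faithfullyFlat
    (A := Localization.Away f) (B := Localization.Away f ⊗[D] B) ⟨_, hprime⟩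
  refine ⟨PrimeSpectrum.comap
    (Algebra.TensorProduct.includeRight : B →ₐ[D] Localization.Away f ⊗[D] B).toRingHom Q', ?_⟩
  ext d
  have h1 := congrArg (fun x : PrimeSpectrum (Localization.Away f) =>
    algebraMap D (Localization.Away f) d ∈ x.asIdeal) hQ'
  simp only [PrimeSpectrum.comap_asIdeal, Ideal.mem_comap] at h1
  have h2 : algebraMap D (Localization.Away f) d ∈
      Ideal.map (algebraMap D (Localization.Away f)) P.asIdeal ↔ d ∈ P.asIdeal := by
    rw [← Ideal.mem_comap, hcomap]
  simp only [PrimeSpectrum.comap_asIdeal, Ideal.mem_comap]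
  rw [← h2, ← h1]
  have : (Algebra.TensorProduct.includeRight : B →ₐ[D] Localization.Away f ⊗[D] B).toRingHom
      (algebraMap D B d) = algebraMap (Localization.Away f) (Localization.Away f ⊗[D] B)
        (algebraMap D (Localization.Away f) d) := by
    change (1 : Localization.Away f) ⊗ₜ[D] (algebraMap D B d) = _
    rw [Algebra.TensorProduct.algebraMap_apply, Algebra.algebraMap_self_apply,
      Algebra.algebraMap_eq_smul_one, Algebra.algebraMap_eq_smul_one (A := Localization.Away f),
      smul_tmul]
  rw [this]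

end Groth.Agent.S9651

namespace Groth.Agent.S9651

/-- Let R → S be a ring map of finite type, f : Spec(S) → Spec(R) the induced map and E ⊆ Spec(S) a
constructible subset. If ξ ∈ f(E) then f(E) ∩ cl{ξ} contains an open dense subset of the closure
cl{ξ}: some open U of Spec(R) has U ∩ cl{ξ} dense in cl{ξ} and contained in f(E). -/
theorem result {R S : Type u} [CommRing R] [CommRing S] [Algebra R S] [Algebra.FiniteType R S]
    (E : Set (PrimeSpectrum S)) (hE : Topology.IsConstructible E) (ξ : PrimeSpectrum R) (hξ : ξ ∈ PrimeSpectrum.comap (algebraMap R S) '' E) :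
    ∃ U : Set (PrimeSpectrum R), IsOpen U ∧ closure ({ξ} : Set (PrimeSpectrum R)) ⊆ closure (U ∩ closure {ξ}) ∧ U ∩ closure {ξ} ⊆ PrimeSpectrum.comap (algebraMap R S) '' E := by
  classical
  obtain ⟨η, hηE, rfl⟩ := hξ
  obtain ⟨T, rfl⟩ := PrimeSpectrum.exists_constructibleSetData_iff.2 hE
  rw [PrimeSpectrum.ConstructibleSetData.toSet] at hηE
  simp only [Set.mem_iUnion] at hηE
  obtain ⟨C, hCT, hηC⟩ := hηE
  have hsub : C.toSet ⊆ T.toSet := by
    intro x hx
    rw [PrimeSpectrum.ConstructibleSetData.toSet]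
    simp only [Set.mem_iUnion]
    exact ⟨C, hCT, hx⟩
  have hgq : ∀ i, C.g i ∈ η.asIdeal := by
    intro i
    exact hηC.1 ⟨i, rfl⟩
  have hfq : C.f ∉ η.asIdeal := by
    intro h
    apply hηC.2
    rw [PrimeSpectrum.mem_zeroLocus]
    simpa using h
  have hAdom : IsDomain (S ⧸ η.asIdeal) := Ideal.Quotient.isDomain η.asIdeal
  have hf0 : Ideal.Quotient.mk η.asIdeal C.f ≠ 0 := by
    rwa [Ne, Ideal.Quotient.eq_zero_iff_mem]
  have hle : Submonoid.powers (Ideal.Quotient.mk η.asIdeal C.f) ≤ nonZeroDivisors (S ⧸ η.asIdeal) :=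
    powers_le_nonZeroDivisors_of_noZeroDivisors hf0
  have hBdom : IsDomain (Localization.Away (Ideal.Quotient.mk η.asIdeal C.f)) :=
    IsLocalization.isDomain_localization hle
  have hft1 : Algebra.FiniteType (R ⧸ η.asIdeal.comap (algebraMap R S)) (S ⧸ η.asIdeal) := by
    have : Algebra.FiniteType R (S ⧸ η.asIdeal) :=
      Algebra.FiniteType.of_surjective (Ideal.Quotient.mkₐ R η.asIdeal)
        (Ideal.Quotient.mkₐ_surjective R η.asIdeal)
    exact Algebra.FiniteType.of_restrictScalars_finiteType R _ _
  have hft2 : Algebra.FiniteType (S ⧸ η.asIdeal)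
      (Localization.Away (Ideal.Quotient.mk η.asIdeal C.f)) := by
    have := IsLocalization.Away.finitePresentation (Ideal.Quotient.mk η.asIdeal C.f)
      (S := Localization.Away (Ideal.Quotient.mk η.asIdeal C.f))
    exact Algebra.FiniteType.of_finitePresentation
  have hft : Algebra.FiniteType (R ⧸ η.asIdeal.comap (algebraMap R S))
      (Localization.Away (Ideal.Quotient.mk η.asIdeal C.f)) :=
    Algebra.FiniteType.trans hft1 hft2
  have hDdom : IsDomain (R ⧸ η.asIdeal.comap (algebraMap R S)) :=
    Ideal.Quotient.isDomain _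
  have hinj : Function.Injective (algebraMap (R ⧸ η.asIdeal.comap (algebraMap R S))
      (Localization.Away (Ideal.Quotient.mk η.asIdeal C.f))) := by
    rw [IsScalarTower.algebraMap_eq (R ⧸ η.asIdeal.comap (algebraMap R S)) (S ⧸ η.asIdeal)
      (Localization.Away (Ideal.Quotient.mk η.asIdeal C.f))]
    exact (IsLocalization.injective _ hle).comp Ideal.algebraMap_quotient_injective
  obtain ⟨fbar, hfbar0, hA⟩ := Groth.Agent.S9651.exists_ne_zero_forall_mem_range hinj
  obtain ⟨f, rfl⟩ := Ideal.Quotient.mk_surjective fbar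
  have hfξ : f ∉ η.asIdeal.comap (algebraMap R S) := by
    rwa [Ne, Ideal.Quotient.eq_zero_iff_mem] at hfbar0
  refine ⟨(PrimeSpectrum.basicOpen f : Set (PrimeSpectrum R)), (PrimeSpectrum.basicOpen f).isOpen,
    ?_, ?_⟩
  · apply closure_mono
    rw [Set.singleton_subset_iff]
    exact ⟨hfξ, subset_closure rfl⟩
  · rintro P ⟨hP1, hP2⟩
    rw [PrimeSpectrum.closure_singleton, PrimeSpectrum.mem_zeroLocus] at hP2
    have hP1' : f ∉ P.asIdeal := hP1
    -- the prime of D
    have hrange : P ∈ Set.range (PrimeSpectrum.comap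
        (Ideal.Quotient.mk (η.asIdeal.comap (algebraMap R S)))) := by
      rw [range_comap_of_surjective _ _ Ideal.Quotient.mk_surjective,
        Ideal.mk_ker, PrimeSpectrum.mem_zeroLocus]
      exact hP2
    obtain ⟨Pbar, hPbar⟩ := hrange
    have hfP : Ideal.Quotient.mk (η.asIdeal.comap (algebraMap R S)) f ∉ Pbar.asIdeal := by
      intro h
      apply hP1'
      rw [← hPbar]
      exact h
    obtain ⟨QB, hQB⟩ := hA Pbar hfP
    let ψ : S →+* Localization.Away (Ideal.Quotient.mk η.asIdeal C.f) :=
      (algebraMap (S ⧸ η.asIdeal) _).comp (Ideal.Quotient.mk η.asIdeal)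
    refine ⟨PrimeSpectrum.comap ψ QB, hsub ⟨?_, ?_⟩, ?_⟩
    · rintro _ ⟨i, rfl⟩
      change ψ (C.g i) ∈ QB.asIdeal
      have : ψ (C.g i) = 0 := by
        simp only [ψ, RingHom.comp_apply]
        rw [Ideal.Quotient.eq_zero_iff_mem.2 (hgq i), map_zero]
      rw [this]
      exact QB.asIdeal.zero_mem
    · intro h
      rw [PrimeSpectrum.mem_zeroLocus] at h
      have h' : ψ C.f ∈ QB.asIdeal := h (Set.mem_singleton _)
      have hu : IsUnit (ψ C.f) :=
        IsLocalization.Away.algebraMap_isUnit (Ideal.Quotient.mk η.asIdeal C.f)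
      exact QB.2.ne_top (Ideal.eq_top_of_isUnit_mem _ h' hu)
    · rw [← hPbar, ← hQB]
      ext r
      simp only [PrimeSpectrum.comap_asIdeal, Ideal.mem_comap]
      have : ψ (algebraMap R S r) = algebraMap (R ⧸ η.asIdeal.comap (algebraMap R S))
          (Localization.Away (Ideal.Quotient.mk η.asIdeal C.f))
          (Ideal.Quotient.mk (η.asIdeal.comap (algebraMap R S)) r) := by
        rw [IsScalarTower.algebraMap_apply (R ⧸ η.asIdeal.comap (algebraMap R S)) (S ⧸ η.asIdeal)]
        rfl
      rw [this]

end Groth.Agent.S9651
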