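import Groth.Statements.S2156
import Groth.Agent.S2757
import Groth.Agent.Lib.Helper35.FiberSmooth

set_option autoImplicit false
universe u
open CategoryTheory AlgebraicGeometry
open Mor

namespace Groth.Agent.S2156

section Helpers
open Groth.Agent.Lib.Helper35 CategoryTheory.Limits IsLocalRing

/-- the stalk map of `Spec κ(s) ⟶ S` is the quotient by the maximal ideal. -/
theorem ker_stalkMap_fromSpecResidueField {S : Scheme.{u}} (s : S)
    (y' : Spec (S.residueField s)) :
    RingHom.ker ((S.fromSpecResidueField s).stalkMap y').hom =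
      maximalIdeal (S.presheaf.stalk ((S.fromSpecResidueField s) y')) := by
  refine le_antisymm (le_maximalIdeal (RingHom.ker_ne_top _)) ?_
  intro a ha
  rw [RingHom.mem_ker]
  refine FiberStalk.stalk_spec_field_eq_zero (K := ResidueField (S.presheaf.stalk s)) y' _ ?_
  intro hu
  exact (mem_maximalIdeal a).mp ha (isUnit_of_map_unit ((S.fromSpecResidueField s).stalkMap y').hom a hu)

theorem forward {X S : Scheme.{u}} (f : X ⟶ S) (s : S) (x' : f.fiber s) (U : X.Opens)
    (hxU : (f.fiberι s) x' ∈ U) [Smooth (U.ι ≫ f)] :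
    ∃ V : (f.fiber s).Opens, x' ∈ V ∧ Smooth (V.ι ≫ f.fiberToSpecResidueField s) := by
  have hpb : IsPullback (f.fiberι s) (f.fiberToSpecResidueField s) f (S.fromSpecResidueField s) :=
    IsPullback.of_hasPullback f (S.fromSpecResidueField s)
  refine ⟨(f.fiberι s) ⁻¹ᵁ U, hxU, ?_⟩
  have sq := (isPullback_morphismRestrict (f.fiberι s) U).paste_vert hpb
  exact MorphismProperty.of_isPullback sq inferInstance

theorem backward {X S : Scheme.{u}} (f : X ⟶ S) [LocallyOfFinitePresentation f]
    (s : S) (x' : f.fiber s)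
    (hflat : (f.stalkMap (f.fiberι s x')).hom.Flat)
    (hsm : ((f.fiberToSpecResidueField s).stalkMap x').hom.FormallySmooth) :
    (f.stalkMap (f.fiberι s x')).hom.FormallySmooth := by
  have hpb : IsPullback (f.fiberι s) (f.fiberToSpecResidueField s) f (S.fromSpecResidueField s) :=
    IsPullback.of_hasPullback f (S.fromSpecResidueField s)
  have key : ∀ (h : X ⟶ S) (_ : h = f ≫ 𝟙 S) (_ : (h.stalkMap (f.fiberι s x')).hom.Flat)
      (_ : RingHom.ker ((f.fiberι s).stalkMap x').hom =
        (maximalIdeal (S.presheaf.stalk (h (f.fiberι s x')))).map (h.stalkMap (f.fiberι s x')).hom),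
      (f.stalkMap (f.fiberι s x')).hom.FormallySmooth := by
    rintro h rfl hflat hker
    refine FiberSmooth.formallySmooth_stalkMap_of_fibre (f.fiberι s) (S.fromSpecResidueField s)
      (f.fiberToSpecResidueField s) f (𝟙 S) hpb.w.symm x' hflat
      ((f.fiberι s).stalkMap_surjective x') hker
      ((S.fromSpecResidueField s).stalkMap_surjective _) ?_ hsm
    rw [ker_stalkMap_fromSpecResidueField, Scheme.Hom.stalkMap_id]
    exact (Ideal.map_id _).symm
  exact key f (Category.comp_id f).symm hflat (FiberStalk.ker_stalkMap_fiberι f s x')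

end Helpers

/-- Let `f : X → S` be locally of finite presentation and `x ∈ X` with image `s`. Then `f` is smooth at
`x` if and only if `O_{S,s} → O_{X,x}` is flat and the fibre `X_s → Spec κ(s)` is smooth at the
point corresponding to `x`. -/
theorem result {X S : Scheme.{u}} (f : X ⟶ S) [LocallyOfFinitePresentation f] (x : X)
    [LocallyOfFinitePresentation (f.fiberToSpecResidueField (f.base x))] :
    x ∈ f.smoothLocus ↔
      (f.stalkMap x).hom.Flat ∧ f.asFiber x ∈ (f.fiberToSpecResidueField (f.base x)).smoothLocus := by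
  rw [Scheme.Hom.mem_smoothLocus, Scheme.Hom.mem_smoothLocus]
  constructor
  · intro hsm
    obtain ⟨U, hxU, hU⟩ := Groth.Agent.S2757.exists_smooth_nhd_of_stalkMap f x hsm
    refine ⟨(Groth.Agent.S2757.stalkMap_of_smooth_nhd f x U hxU).1, ?_⟩
    obtain ⟨V, hxV, hV⟩ := forward f (f x) (f.asFiber x) U ((f.fiberι_asFiber x).symm ▸ hxU)
    exact (Groth.Agent.S2757.stalkMap_of_smooth_nhd
      (f.fiberToSpecResidueField (f x)) (f.asFiber x) V hxV).2
  · rintro ⟨hflat, hsm⟩
    have hflat' : (f.stalkMap (f.fiberι (f x) (f.asFiber x))).hom.Flat :=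
      Eq.subst (motive := fun z => (f.stalkMap z).hom.Flat) (f.fiberι_asFiber x).symm hflat
    have h1 := backward f (f x) (f.asFiber x) hflat' hsm
    exact Eq.subst (motive := fun z => (f.stalkMap z).hom.FormallySmooth) (f.fiberι_asFiber x) h1

end Groth.Agent.S2156
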