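import Groth.Statements.S2155
import Groth.Agent.S2156

set_option autoImplicit false
universe u
open CategoryTheory AlgebraicGeometry
open Mor

namespace Groth.Agent.S2155

section Helpers
open Groth.Agent.Lib.Helper35 CategoryTheory.Limits IsLocalRing

theorem ascend {X S X' S' : Scheme.{u}} (f : X ⟶ S) (g : S' ⟶ S) (f' : X' ⟶ S') (g' : X' ⟶ X)
    (h : IsPullback g' f' f g) [LocallyOfFinitePresentation f] (x' : X')
    (hsm : (f.stalkMap (g' x')).hom.FormallySmooth) : (f'.stalkMap x').hom.FormallySmooth := by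
  obtain ⟨U, hxU, hU⟩ := Groth.Agent.S2757.exists_smooth_nhd_of_stalkMap f (g' x') hsm
  have sq := (isPullback_morphismRestrict g' U).paste_vert h
  haveI : Smooth ((g' ⁻¹ᵁ U).ι ≫ f') := MorphismProperty.of_isPullback sq inferInstance
  exact (Groth.Agent.S2757.stalkMap_of_smooth_nhd f' x' (g' ⁻¹ᵁ U) hxU).2

theorem descend {X S X' S' : Scheme.{u}} (f : X ⟶ S) (g : S' ⟶ S) (f' : X' ⟶ S') (g' : X' ⟶ X)
    (h : IsPullback g' f' f g) [LocallyOfFinitePresentation f] [Flat g] (x' : X')
    (hsm : (f'.stalkMap x').hom.FormallySmooth) : (f.stalkMap (g' x')).hom.FormallySmooth := by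
  have h1 : ((h.isoPullback.hom ≫ pullback.snd f g).stalkMap x').hom.FormallySmooth := by
    rw [h.isoPullback_hom_snd]; exact hsm
  rw [stalkMap_comp_openImmersion_iff RingHom.FormallySmooth.respectsIso] at h1
  obtain ⟨U', hxU', hU'⟩ := Groth.Agent.S2757.exists_smooth_nhd_of_stalkMap (pullback.snd f g) _ h1
  obtain ⟨U, hxU, hU⟩ := Groth.Agent.S2757.result f g (h.isoPullback.hom x')
    (Flat.stalkMap g _) ⟨U', hxU', hU'⟩
  have h2 := (Groth.Agent.S2757.stalkMap_of_smooth_nhd f _ U hxU).2
  have e : (pullback.fst f g) (h.isoPullback.hom x') = g' x' := by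
    rw [← Scheme.Hom.comp_apply, h.isoPullback_hom_fst]
  exact Eq.subst (motive := fun z => (f.stalkMap z).hom.FormallySmooth) e h2

theorem flat_specMap_of_field {K L : Type u} [Field K] [CommRing L] (φ : CommRingCat.of K ⟶ CommRingCat.of L) :
    Flat (Spec.map φ) := by
  rw [HasRingHomProperty.Spec_iff (P := @Flat)]
  letI := φ.hom.toAlgebra
  show Module.Flat K L
  infer_instance

theorem descend_flat {X S X' S' : Scheme.{u}} (f : X ⟶ S) (g : S' ⟶ S) (f' : X' ⟶ S')
    (g' : X' ⟶ X) (h : IsPullback g' f' f g) [LocallyOfFinitePresentation f] [Flat f] (x' : X')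
    (hsm : (f'.stalkMap x').hom.FormallySmooth) : (f.stalkMap (g' x')).hom.FormallySmooth := by
  haveI : LocallyOfFinitePresentation f' := MorphismProperty.of_isPullback h inferInstance
  obtain ⟨U', hxU', hU'⟩ := Groth.Agent.S2757.exists_smooth_nhd_of_stalkMap f' x' hsm
  obtain ⟨V, hxV, hV⟩ := Groth.Agent.S2156.forward f' (f' x') (f'.asFiber x') U'
    ((f'.fiberι_asFiber x').symm ▸ hxU')
  have h1 := (Groth.Agent.S2757.stalkMap_of_smooth_nhd
      (f'.fiberToSpecResidueField (f' x')) (f'.asFiber x') V hxV).2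
  have hfib := isPullback_fiberToSpecResidueField_of_isPullback h (f' x')
  haveI : Flat (Spec.map (g.residueFieldMap (f' x'))) := flat_specMap_of_field _
  haveI : LocallyOfFinitePresentation (f.fiberToSpecResidueField (g (f' x'))) :=
    MorphismProperty.pullback_snd _ _ inferInstance
  have h2 := descend (f.fiberToSpecResidueField (g (f' x'))) _ _ _ hfib (f'.asFiber x') h1
  have h3 := Groth.Agent.S2156.backward f (g (f' x')) _ (Flat.stalkMap f _) h2
  have e0 : pullback.map _ _ _ _ g' (Spec.map (g.residueFieldMap (f' x'))) g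
      h.w.symm (by simp) ≫ f.fiberι (g (f' x')) = f'.fiberι (f' x') ≫ g' :=
    pullback.lift_fst _ _ _
  have e : f.fiberι (g (f' x')) ((pullback.map _ _ _ _ g' (Spec.map (g.residueFieldMap (f' x'))) g
      h.w.symm (by simp)) (f'.asFiber x')) = g' x' :=
    (congr(($e0) (f'.asFiber x'))).trans (congrArg g' (f'.fiberι_asFiber x'))
  exact Eq.subst (motive := fun z => (f.stalkMap z).hom.FormallySmooth) e h3

end Helpers

/-- Consider a cartesian square with `f : X → S` locally of finite presentation, base change `g : S' →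
S`, and `f' : X' → S'`, `g' : X' → X` the projections. If `f` is flat, or if `g` is flat, then the
open set of points where `f'` is smooth is the preimage under `g'` of the open set of points where
`f` is smooth. -/
theorem result {X S X' S' : Scheme.{u}} (f : X ⟶ S) (g : S' ⟶ S) (f' : X' ⟶ S') (g' : X' ⟶ X)
    (h : IsPullback g' f' f g) [LocallyOfFinitePresentation f] [LocallyOfFinitePresentation f'] (hflat : Flat f ∨ Flat g) :
    f'.smoothLocus = g' ⁻¹ᵁ f.smoothLocus := by
  ext x'
  show x' ∈ f'.smoothLocus ↔ g' x' ∈ f.smoothLocus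
  rw [Scheme.Hom.mem_smoothLocus, Scheme.Hom.mem_smoothLocus]
  refine ⟨fun hsm => ?_, ascend f g f' g' h x'⟩
  rcases hflat with hf | hg
  · exact descend_flat f g f' g' h x' hsm
  · exact descend f g f' g' h x' hsm

end Groth.Agent.S2155
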