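import Groth.Statements.S4937
import Groth.Agent.Lib.Helper61.UnibranchGoingDown
import Groth.Agent.Lib.Helper61.GraphClosure
import Groth.Agent.Lib.Helper25.UnivOpenAt

set_option autoImplicit false
open CategoryTheory AlgebraicGeometry
universe u v w
open EGA43

namespace Groth.Agent.S4937


theorem primeIdealOf_le_nilradical {X : Scheme.{u}} {U : X.Opens} (hU : IsAffineOpen U) (x₀ : X)
    (hx₀ : x₀ ∈ U) (hgen : ∀ x₁ ∈ U, x₀ ⤳ x₁) :
    (hU.primeIdealOf ⟨x₀, hx₀⟩).asIdeal ≤ nilradical Γ(X, U) := by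
  rw [nilradical_eq_sInf]
  apply le_sInf
  intro P hP
  let b : PrimeSpectrum Γ(X, U) := ⟨P, hP⟩
  have hb : hU.fromSpec b ∈ U := by
    have : hU.fromSpec b ∈ Set.range hU.fromSpec := ⟨b, rfl⟩
    rwa [hU.range_fromSpec] at this
  have h1 : hU.fromSpec (hU.primeIdealOf ⟨x₀, hx₀⟩) ⤳ hU.fromSpec b := by
    rw [hU.fromSpec_primeIdealOf]
    exact hgen _ hb
  have h2 : hU.primeIdealOf ⟨x₀, hx₀⟩ ⤳ b :=
    (hU.fromSpec.isOpenEmbedding.isInducing.specializes_iff).mp h1
  exact (PrimeSpectrum.le_iff_specializes _ _).mpr h2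

/-- Let X and Y be irreducible schemes and f : X ⟶ Y a dominant morphism which is locally of finite
presentation and locally quasi-finite. If x is a point of X whose image y = f x has unibranch local
ring O_{Y,y}, then f is open at x. (Stated for f locally of finite presentation, the class to which
the openness criterion by lifting of generizations used in the published argument applies; the
published hypothesis is 'locally quasi-finite', which includes locally of finite type.) -/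
theorem result {X Y : Scheme.{u}} [IrreducibleSpace X]
    [IrreducibleSpace Y] (f : X ⟶ Y) [LocallyOfFinitePresentation f] [LocallyQuasiFinite f] [IsDominant f]
    (x : X) (hy : CAlg2.IsUnibranch (Y.presheaf.stalk (f.base x))) : EGA43.IsOpenAt f.base x := by
  classical
  apply Groth.Agent.Lib.Helper25.UnivOpenAt.isOpenAt_of_generizations_lift f x
  intro y₁ hy₁
  obtain ⟨_, ⟨V, hV, rfl⟩, hfxV, -⟩ := Y.isBasis_affineOpens.exists_subset_of_mem_open
    (Set.mem_univ (f x)) isOpen_univ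
  obtain ⟨_, ⟨U, hU, rfl⟩, hxU, hUV⟩ := X.isBasis_affineOpens.exists_subset_of_mem_open
    (show x ∈ ((f ⁻¹ᵁ V : X.Opens) : Set X) from hfxV) (f ⁻¹ᵁ V).isOpen
  replace hUV : U ≤ f ⁻¹ᵁ V := hUV
  replace hV : IsAffineOpen V := hV
  replace hU : IsAffineOpen U := hU
  have hy₁V : y₁ ∈ V := hy₁.mem_open V.isOpen hfxV
  -- generic points
  have hξU : genericPoint X ∈ U :=
    ((genericPoint_spec X).mem_open_set_iff U.isOpen).mpr ⟨x, Set.mem_univ x, hxU⟩
  have hfξ : f (genericPoint X) = genericPoint Y :=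
    Groth.Agent.Lib.Helper61.GraphClosure.map_genericPoint_of_isDominant f
  letI alg : Algebra Γ(Y, V) Γ(X, U) := (f.appLE V U hUV).hom.toAlgebra
  have hft : (f.appLE V U hUV).hom.FiniteType := f.finiteType_appLE hV hU hUV
  haveI : Algebra.FiniteType Γ(Y, V) Γ(X, U) := hft
  have hqf := (f.quasiFiniteAt x).quasiFiniteAt hU hV hUV hxU
  haveI : Algebra.QuasiFiniteAt Γ(Y, V) (hU.primeIdealOf ⟨x, hxU⟩).asIdeal := hqf
  have hZMP : Algebra.ZariskisMainProperty Γ(Y, V) (hU.primeIdealOf ⟨x, hxU⟩).asIdeal :=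
    Algebra.ZariskisMainProperty.of_finiteType _
  have hcomap : ∀ (z : X) (hz : z ∈ U), (hU.primeIdealOf ⟨z, hz⟩).asIdeal.comap
      (algebraMap Γ(Y, V) Γ(X, U)) = (hV.primeIdealOf ⟨f z, hUV hz⟩).asIdeal := fun z hz =>
    congrArg PrimeSpectrum.asIdeal (IsAffineOpen.comap_primeIdealOf_appLE V hV U hU hUV hz)
  have hq₀ := primeIdealOf_le_nilradical hU (genericPoint X) hξU
    (fun x₁ _ => genericPoint_specializes x₁)
  have hdom : (hU.primeIdealOf ⟨genericPoint X, hξU⟩).asIdeal.comap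
      (algebraMap Γ(Y, V) Γ(X, U)) ≤ nilradical Γ(Y, V) := by
    rw [hcomap]
    apply primeIdealOf_le_nilradical hV
    intro y₂ _
    rw [hfξ]
    exact genericPoint_specializes y₂
  letI := Y.presheaf.algebra_section_stalk ⟨f x, hfxV⟩
  haveI := hV.isLocalization_stalk ⟨f x, hfxV⟩
  have hp₁ : (hV.primeIdealOf ⟨y₁, hy₁V⟩).asIdeal ≤ (hV.primeIdealOf ⟨f x, hfxV⟩).asIdeal := by
    apply (PrimeSpectrum.le_iff_specializes _ _).mpr
    apply (hV.fromSpec.isOpenEmbedding.isInducing.specializes_iff).mp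
    rw [hV.fromSpec_primeIdealOf, hV.fromSpec_primeIdealOf]
    exact hy₁
  obtain ⟨q₁, hq₁, hq₁le, hq₁comap⟩ :=
    Groth.Agent.Lib.Helper61.UnibranchGoingDown.exists_le_prime_of_isUnibranch'
      (hU.primeIdealOf ⟨x, hxU⟩).asIdeal hZMP (hU.primeIdealOf ⟨genericPoint X, hξU⟩).asIdeal hq₀ hdom
      (hV.primeIdealOf ⟨f x, hfxV⟩).asIdeal (hcomap x hxU) (Y.presheaf.stalk (f x)) hy
      (hV.primeIdealOf ⟨y₁, hy₁V⟩).asIdeal hp₁
  let b : PrimeSpectrum Γ(X, U) := ⟨q₁, hq₁⟩
  have hbU : hU.fromSpec b ∈ U := by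
    have : hU.fromSpec b ∈ Set.range hU.fromSpec := ⟨b, rfl⟩
    rwa [hU.range_fromSpec] at this
  refine ⟨hU.fromSpec b, ?_, ?_⟩
  · have h1 : b ⤳ hU.primeIdealOf ⟨x, hxU⟩ :=
      (PrimeSpectrum.le_iff_specializes _ _).mp hq₁le
    have h2 := h1.map hU.fromSpec.continuous
    rwa [hU.fromSpec_primeIdealOf] at h2
  · have hb' : hU.primeIdealOf ⟨hU.fromSpec b, hbU⟩ = b := by
      apply hU.fromSpec.isOpenEmbedding.injective
      rw [hU.fromSpec_primeIdealOf]
    have h3 := hcomap (hU.fromSpec b) hbU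
    rw [hb'] at h3
    have h4 : hV.primeIdealOf ⟨f (hU.fromSpec b), hUV hbU⟩ = hV.primeIdealOf ⟨y₁, hy₁V⟩ :=
      PrimeSpectrum.ext (h3.symm.trans hq₁comap)
    have h5 := congrArg hV.fromSpec h4
    rwa [hV.fromSpec_primeIdealOf, hV.fromSpec_primeIdealOf] at h5

end Groth.Agent.S4937
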