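import Groth.Statements.S6459
import Mathlib.AlgebraicGeometry.Stalk
import Mathlib.AlgebraicGeometry.Morphisms.Preimmersion
import Mathlib.Order.KrullDimension
import Mathlib.RingTheory.KrullDimension.Basic

set_option autoImplicit false
universe u
open CategoryTheory AlgebraicGeometry
open Cyc

namespace Groth.Agent.S6459

section aux

variable {X : Scheme.{u}}

/-- the point of `X` attached to a prime of the stalk -/
noncomputable def pt (ξ : X) (p : PrimeSpectrum (X.presheaf.stalk ξ)) : X :=
  (X.fromSpecStalk ξ) p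

theorem pt_specializes_iff (ξ : X) (p q : PrimeSpectrum (X.presheaf.stalk ξ)) :
    pt ξ p ⤳ pt ξ q ↔ p ≤ q := by
  rw [PrimeSpectrum.le_iff_specializes]
  exact (X.fromSpecStalk ξ).isEmbedding.isInducing.specializes_iff

theorem pt_injective (ξ : X) : Function.Injective (pt ξ) :=
  (X.fromSpecStalk ξ).isEmbedding.injective

theorem pt_closedPoint (ξ : X) : pt ξ (IsLocalRing.closedPoint (X.presheaf.stalk ξ)) = ξ :=
  Scheme.fromSpecStalk_closedPoint

theorem exists_pt_eq (ξ z : X) (h : z ⤳ ξ) : ∃ p, pt ξ p = z := by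
  have : z ∈ Set.range (X.fromSpecStalk ξ) := by
    rw [Scheme.range_fromSpecStalk]; exact h
  exact this

theorem pt_specializes (ξ : X) (p : PrimeSpectrum (X.presheaf.stalk ξ)) : pt ξ p ⤳ ξ := by
  have : pt ξ p ∈ Set.range (X.fromSpecStalk ξ) := ⟨p, rfl⟩
  rw [Scheme.range_fromSpecStalk] at this
  exact this

theorem delta_le (δ : X → ℤ) (hδ : Cyc.IsDimFun X δ) {x y : X} (h : x ⤳ y) : δ y ≤ δ x := by
  by_cases hxy : x = y
  · rw [hxy]
  · exact (hδ x y h hxy).1.le

theorem delta_lt (δ : X → ℤ) (hδ : Cyc.IsDimFun X δ) (ξ : X)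
    {p q : PrimeSpectrum (X.presheaf.stalk ξ)} (h : p < q) : δ (pt ξ q) < δ (pt ξ p) := by
  have h1 : pt ξ p ⤳ pt ξ q := (pt_specializes_iff ξ p q).mpr h.le
  have h2 : pt ξ p ≠ pt ξ q := fun e => h.ne (pt_injective ξ e)
  exact (hδ _ _ h1 h2).1

end aux

/-- (b) ⇔ (c): let X be integral with generic point η and Z ⊂ X an integral closed subscheme with
generic point ξ. Then Z has codimension 1 in X (the local ring O_{X,ξ} is one-dimensional; Z is a
prime divisor) if and only if dim_δ(Z) = dim_δ(X) − 1. Here a pair (X, δ) with Cyc.IsSetup plays the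
role of a scheme locally of finite type over the base (S, δ) (X locally Noetherian with universally
catenary local rings, δ a dimension function). -/
theorem result (X : Scheme.{u}) [IsIntegral X] (δ : X → ℤ) (hX : Cyc.IsSetup X δ) (ξ : X) : ringKrullDim ↑(X.presheaf.stalk ξ) = 1 ↔ δ ξ = δ (genericPoint X) - 1 := by
  have hδ : Cyc.IsDimFun X δ := hX.2.2
  set η := genericPoint X with hη
  have hηξ : η ⤳ ξ := genericPoint_specializes ξ
  obtain ⟨pη, hpη⟩ := exists_pt_eq ξ η hηξ
  set m := IsLocalRing.closedPoint (X.presheaf.stalk ξ) with hm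
  have hmξ : pt ξ m = ξ := pt_closedPoint ξ
  have hpη_le : ∀ r, pη ≤ r := by
    intro r
    rw [← pt_specializes_iff, hpη]
    exact genericPoint_specializes _
  have hle_m : ∀ r, r ≤ m := by
    intro r
    rw [← pt_specializes_iff, hmξ]
    exact pt_specializes ξ r
  show Order.krullDim (PrimeSpectrum (X.presheaf.stalk ξ)) = 1 ↔ _
  constructor
  · intro hdim
    have h1 : (1 : WithBot ℕ∞) ≤ Order.krullDim (PrimeSpectrum (X.presheaf.stalk ξ)) := hdim.ge
    have h2 := Order.krullDim_le_one_iff.mp hdim.le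
    obtain ⟨p, q, hpq⟩ := Order.one_le_krullDim_iff.mp h1
    have hne : η ≠ ξ := by
      intro e
      have : pη = m := pt_injective ξ (by rw [hpη, hmξ, e])
      have h3 : pη < m := lt_of_le_of_lt (hpη_le p) (lt_of_lt_of_le hpq (hle_m q))
      exact h3.ne this
    have himm : ∀ z : X, η ⤳ z → z ⤳ ξ → z = η ∨ z = ξ := by
      intro z hηz hzξ
      obtain ⟨r, hr⟩ := exists_pt_eq ξ z hzξ
      rcases h2 r with hmin | hmax
      · left
        have : r ≤ pη := hmin (hpη_le r)
        rw [← hr, le_antisymm this (hpη_le r)]; exact hpη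
      · right
        have : m ≤ r := hmax (hle_m r)
        rw [← hr, le_antisymm (hle_m r) this]; exact hmξ
    have := (hδ η ξ hηξ hne).2 himm
    omega
  · intro hd
    have hne : η ≠ ξ := by
      intro e
      rw [e] at hd
      omega
    apply le_antisymm
    · rw [Order.krullDim_le_one_iff]
      intro r
      by_contra hcon
      push Not at hcon
      obtain ⟨hnmin, hnmax⟩ := hcon
      rw [not_isMin_iff] at hnmin
      rw [not_isMax_iff] at hnmax
      obtain ⟨a, har⟩ := hnmin
      obtain ⟨b, hrb⟩ := hnmax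
      have h1 := delta_lt δ hδ ξ har
      have h2 := delta_lt δ hδ ξ hrb
      have h3 : δ (pt ξ a) ≤ δ η := delta_le δ hδ (genericPoint_specializes _)
      have h4 : δ ξ ≤ δ (pt ξ b) := delta_le δ hδ (pt_specializes ξ b)
      omega
    · rw [Order.one_le_krullDim_iff]
      refine ⟨pη, m, lt_of_le_of_ne (hpη_le m) ?_⟩
      intro e
      apply hne
      rw [← hpη, e]; exact hmξ

end Groth.Agent.S6459
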