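import Groth.Statements.S6462
import Groth.Agent.S6459
import Mathlib.Order.KrullDimension
import Mathlib.Data.Int.LeastGreatest
import Mathlib.Topology.JacobsonSpace
import Mathlib.Topology.KrullDimension
import Mathlib.Topology.Sober
import Mathlib.RingTheory.Spectrum.Prime.RingHom

set_option autoImplicit false
universe u
open CategoryTheory AlgebraicGeometry
open Cyc

namespace Groth.Agent.S6462
open Groth.Agent.S6459

theorem krullDim_eq_of_dimFun {α : Type*} [PartialOrder α] (d : α → ℤ) (c : ℤ)
    (hmono : ∀ a b : α, a < b → d a < d b)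
    (hcov : ∀ a b : α, a ⋖ b → d b = d a + 1)
    (hlow : ∀ a : α, ∃ b, b ≤ a ∧ d b = c)
    (top : α) (htop : ∀ a, a ≤ top) :
    Order.krullDim α = (((d top - c).toNat : ℕ) : WithBot ℕ∞) := by
  have hc : ∀ a, c ≤ d a := by
    intro a
    obtain ⟨b, hb, hbc⟩ := hlow a
    rcases hb.eq_or_lt with rfl | hlt
    · exact hbc.ge
    · have := hmono _ _ hlt; omega
  apply le_antisymm
  · unfold Order.krullDim
    apply iSup_le
    intro l
    have key : ∀ i : Fin (l.length + 1), d (l 0) + (i : ℕ) ≤ d (l i) := by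
      intro i
      induction i using Fin.induction with
      | zero => simp
      | succ i ih =>
        have := hmono _ _ (l.strictMono (Fin.castSucc_lt_succ (i := i)))
        simp only [Fin.val_succ, Fin.val_castSucc] at *
        push_cast
        omega
    have h1 := key (Fin.last _)
    have h2 := hc (l 0)
    have h3 : d (l (Fin.last _)) ≤ d top := by
      rcases (htop (l (Fin.last _))).eq_or_lt with h | h
      · rw [h]
      · exact (hmono _ _ h).le
    have : l.length ≤ (d top - c).toNat := by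
      simp only [Fin.val_last] at h1
      omega
    exact_mod_cast this
  · have chain : ∀ n : ℕ, ∀ a : α, d a - c = n → ∃ l : LTSeries α, l.length = n ∧ l.last = a := by
      intro n
      induction n with
      | zero =>
        intro a _
        exact ⟨RelSeries.singleton _ a, rfl, RelSeries.last_singleton _⟩
      | succ n ih =>
        intro a ha
        obtain ⟨b₀, hb₀, hb₀c⟩ := hlow a
        have hb₀lt : b₀ < a := lt_of_le_of_ne hb₀ (by rintro rfl; omega)
        obtain ⟨m, ⟨b, hb, rfl⟩, hmax⟩ := Int.exists_greatest_of_bdd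
          (P := fun m => ∃ b, b < a ∧ d b = m)
          ⟨d a, by rintro m ⟨b, hb, rfl⟩; exact (hmono _ _ hb).le⟩ ⟨d b₀, b₀, hb₀lt, rfl⟩
        have hcovby : b ⋖ a := ⟨hb, fun w hbw hwa => by
          have h1 := hmax (d w) ⟨w, hwa, rfl⟩
          have h2 := hmono _ _ hbw
          omega⟩
        have h3 := hcov _ _ hcovby
        obtain ⟨l, hl, hlast⟩ := ih b (by omega)
        refine ⟨l.snoc a (by rw [hlast]; exact hb), by simp [hl], by simp⟩
    obtain ⟨l, hl, -⟩ := chain (d top - c).toNat top (by have := hc top; omega)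
    rw [← hl]
    exact Order.LTSeries.length_le_krullDim l

variable {X : Scheme.{u}}

theorem ker_specMap_isPrime (z ξ : X) (h : ξ ⤳ z) : (RingHom.ker (specMap z ξ h)).IsPrime :=
  RingHom.ker_isPrime _

theorem pt_ker_specMap (z ξ : X) (h : ξ ⤳ z) :
    pt z ⟨RingHom.ker (specMap z ξ h), ker_specMap_isPrime z ξ h⟩ = ξ := by
  have h1 := Scheme.SpecMap_stalkSpecializes_fromSpecStalk (X := X) h
  have h2 : (X.fromSpecStalk ξ) (IsLocalRing.closedPoint (X.presheaf.stalk ξ)) = ξ :=
    Scheme.fromSpecStalk_closedPoint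
  rw [← h1] at h2
  have h3 : (Spec.map (X.presheaf.stalkSpecializes h) ≫ X.fromSpecStalk z)
      (IsLocalRing.closedPoint (X.presheaf.stalk ξ)) =
      (X.fromSpecStalk z) ((Spec.map (X.presheaf.stalkSpecializes h))
        (IsLocalRing.closedPoint (X.presheaf.stalk ξ))) := rfl
  rw [h3] at h2
  conv_rhs => rw [← h2]
  unfold pt
  congr 1
  apply PrimeSpectrum.ext
  ext a
  simp only [specMap, RingHom.mem_ker]
  change _ ↔ a ∈ Ideal.comap (X.presheaf.stalkSpecializes h).hom (IsLocalRing.maximalIdeal _)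
  rw [Ideal.mem_comap, ← IsLocalRing.residue_eq_zero_iff]
  rfl

/-- every point of a Jacobson space specializes to a closed point -/
theorem exists_closed_specialization {T : Type*} [TopologicalSpace T] [JacobsonSpace T] (y : T) :
    ∃ z : T, y ⤳ z ∧ IsClosed ({z} : Set T) := by
  have h := closure_inter_closedPoints (X := T) (Z := closure {y}) isClosed_closure
  have hy : y ∈ closure (closure {y} ∩ closedPoints T) := by
    rw [h]; exact subset_closure rfl
  have hne : (closure {y} ∩ closedPoints T).Nonempty := by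
    by_contra hempty
    rw [Set.not_nonempty_iff_eq_empty] at hempty
    rw [hempty, closure_empty] at hy
    exact hy
  obtain ⟨z, hz1, hz2⟩ := hne
  exact ⟨z, specializes_iff_mem_closure.mpr hz1, hz2⟩

section part2

variable (δ : X → ℤ) (hδ : Cyc.IsDimFun X δ)

include hδ in
theorem dim_locQuot (ξ z : X) (h : ξ ⤳ z) :
    ringKrullDim (Cyc.LocQuot z ξ h) = (((δ ξ - δ z).toNat : ℕ) : WithBot ℕ∞) := by
  classical
  set I := RingHom.ker (specMap z ξ h) with hI
  have hIp : I.IsPrime := ker_specMap_isPrime z ξ h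
  have hsurj : Function.Surjective (Ideal.Quotient.mk I) := Ideal.Quotient.mk_surjective
  have hrange : ∀ r : PrimeSpectrum (X.presheaf.stalk z), I ≤ r.asIdeal →
      ∃ q : PrimeSpectrum (X.presheaf.stalk z ⧸ I), PrimeSpectrum.comap (Ideal.Quotient.mk I) q = r := by
    intro r hr
    have : r ∈ Set.range (PrimeSpectrum.comap (Ideal.Quotient.mk I)) := by
      rw [range_comap_of_surjective _ _ hsurj, Ideal.mk_ker]
      exact hr
    exact this
  let φ : PrimeSpectrum (X.presheaf.stalk z ⧸ I) → X :=
    fun p => pt z (PrimeSpectrum.comap (Ideal.Quotient.mk I) p)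
  have hφle : ∀ p q, φ p ⤳ φ q ↔ p ≤ q := by
    intro p q
    rw [pt_specializes_iff]
    exact Ideal.comap_le_comap_iff_of_surjective _ hsurj _ _
  have hφinj : Function.Injective φ := by
    intro p q hpq
    apply le_antisymm
    · rw [← hφle, hpq]
    · rw [← hφle, hpq]
  have hIle : ∀ p : PrimeSpectrum (X.presheaf.stalk z ⧸ I),
      I ≤ (PrimeSpectrum.comap (Ideal.Quotient.mk I) p).asIdeal := by
    intro p a ha
    change Ideal.Quotient.mk I a ∈ p.asIdeal
    rw [Ideal.Quotient.eq_zero_iff_mem.mpr ha]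
    exact zero_mem _
  obtain ⟨bot, hbot⟩ := hrange ⟨I, hIp⟩ le_rfl
  obtain ⟨top, htop⟩ := hrange (IsLocalRing.closedPoint _)
    (IsLocalRing.le_maximalIdeal hIp.ne_top)
  have hφbot : φ bot = ξ := by
    show pt z _ = ξ
    rw [hbot]
    exact pt_ker_specMap z ξ h
  have hφtop : φ top = z := by
    show pt z _ = z
    rw [htop]
    exact pt_closedPoint z
  have hbot_le : ∀ p, bot ≤ p := by
    intro p
    rw [← hφle, hφbot]
    show ξ ⤳ pt z _
    rw [← pt_ker_specMap z ξ h, pt_specializes_iff]
    exact hIle p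
  have hle_top : ∀ p, p ≤ top := by
    intro p
    rw [← hφle, hφtop]
    exact pt_specializes z _
  have key := krullDim_eq_of_dimFun (α := PrimeSpectrum (X.presheaf.stalk z ⧸ I))
    (fun p => - δ (φ p)) (- δ ξ) ?_ ?_ ?_ top hle_top
  · show Order.krullDim (PrimeSpectrum (X.presheaf.stalk z ⧸ I)) = _
    rw [key, hφtop]
    congr 2
    ring
  · intro p q hpq
    have h1 : φ p ⤳ φ q := (hφle p q).mpr hpq.le
    have h2 : φ p ≠ φ q := fun e => hpq.ne (hφinj e)
    have := (hδ _ _ h1 h2).1
    omega
  · intro p q hpq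
    have h1 : φ p ⤳ φ q := (hφle p q).mpr hpq.le
    have h2 : φ p ≠ φ q := fun e => hpq.lt.ne (hφinj e)
    have himm : ∀ w : X, φ p ⤳ w → w ⤳ φ q → w = φ p ∨ w = φ q := by
      intro w hpw hwq
      have hwz : w ⤳ z := hwq.trans (pt_specializes z _)
      obtain ⟨r', hr'⟩ := exists_pt_eq z w hwz
      have hIr' : I ≤ r'.asIdeal := by
        have : φ p ⤳ pt z r' := by rw [hr']; exact hpw
        rw [pt_specializes_iff] at this
        exact (hIle p).trans this
      obtain ⟨r, hr⟩ := hrange r' hIr'
      have hφr : φ r = w := by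
        show pt z _ = w
        rw [hr, hr']
      rw [← hφr] at hpw hwq ⊢
      rcases hpq.eq_or_eq ((hφle _ _).mp hpw) ((hφle _ _).mp hwq) with e | e
      · left; rw [e]
      · right; rw [e]
    have := (hδ _ _ h1 h2).2 himm
    omega
  · intro p
    exact ⟨bot, hbot_le p, by simp only [hφbot]⟩

end part2

theorem dim_closure [JacobsonSpace X] (δ : X → ℤ) (hδ : Cyc.IsDimFun X δ)
    (h0 : ∀ x : X, IsClosed ({x} : Set X) → δ x = 0) (ξ : X) :
    topologicalKrullDim ↥(closure ({ξ} : Set X)) = (((δ ξ).toNat : ℕ) : WithBot ℕ∞) := by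
  classical
  haveI : QuasiSober ↥(closure ({ξ} : Set X)) :=
    (isClosed_closure.isClosedEmbedding_subtypeVal).quasiSober
  have hmem : ∀ w : X, ξ ⤳ w → w ∈ closure ({ξ} : Set X) := fun w hw =>
    specializes_iff_mem_closure.mp hw
  have hspec : ∀ a : ↥(closure ({ξ} : Set X)), ξ ⤳ a.1 := fun a =>
    specializes_iff_mem_closure.mpr a.2
  letI inst : PartialOrder ↥(closure ({ξ} : Set X)) := specializationOrder _
  have hle : ∀ a b : ↥(closure ({ξ} : Set X)), @LE.le _ inst.toLE a b ↔ b.1 ⤳ a.1 := by
    intro a b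
    show (b ⤳ a) ↔ _
    exact subtype_specializes_iff b a
  have e : @OrderIso (TopologicalSpace.IrreducibleCloseds ↥(closure ({ξ} : Set X)))
      ↥(closure ({ξ} : Set X)) _ inst.toLE := irreducibleSetEquivPoints
  unfold topologicalKrullDim
  rw [@Order.krullDim_eq_of_orderIso _ _ _ inst.toPreorder e]
  have key := @krullDim_eq_of_dimFun ↥(closure ({ξ} : Set X)) inst
    (fun y => δ y.1) 0 ?_ ?_ ?_ ⟨ξ, subset_closure rfl⟩ (fun a => (hle _ _).mpr (hspec a))
  · rw [key]
    simp
  · intro a b hab
    have h1 : b.1 ⤳ a.1 := (hle a b).mp (@le_of_lt _ inst.toPreorder a b hab)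
    have h2 : b.1 ≠ a.1 := fun e => (@ne_of_lt _ inst.toPreorder a b hab) (Subtype.ext e.symm)
    exact (hδ _ _ h1 h2).1
  · intro a b hab
    have hlt : @LT.lt _ inst.toLT a b := hab.1
    have h1 : b.1 ⤳ a.1 := (hle a b).mp (@le_of_lt _ inst.toPreorder a b hlt)
    have h2 : b.1 ≠ a.1 := fun e => (@ne_of_lt _ inst.toPreorder a b hlt) (Subtype.ext e.symm)
    refine (hδ _ _ h1 h2).2 ?_
    intro w hbw hwa
    have hw : w ∈ closure ({ξ} : Set X) := hmem w ((hspec b).trans hbw)
    rcases @CovBy.eq_or_eq _ inst a b ⟨w, hw⟩ hab ((hle a ⟨w, hw⟩).mpr hwa)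
      ((hle ⟨w, hw⟩ b).mpr hbw) with e | e
    · right; exact congrArg Subtype.val e
    · left; exact congrArg Subtype.val e
  · intro a
    obtain ⟨z, hz, hzc⟩ := exists_closed_specialization a.1
    exact ⟨⟨z, hmem z ((hspec a).trans hz)⟩, (hle _ _).mpr hz, h0 z hzc⟩

/-- Assume in addition that X is Jacobson and δ(x) = 0 for every closed point x. For a point ξ of X with
closure Z (an integral closed subscheme whose generic point is ξ) one then has δ(ξ) = dim Z = dim
O_{Z,z} for every closed point z of Z; here Z is the closure of ξ and O_{Z,z} = O_{X,z}/𝔭_ξ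
(Cyc.LocQuot). (The published statement takes X locally of finite type over a Jacobson base with δ
zero on the base's closed points; this row assumes instead that X is Jacobson and δ vanishes on the
closed points of X, which follows from the published hypotheses.) Here a pair (X, δ) with
Cyc.IsSetup plays the role of a scheme locally of finite type over the base (S, δ) (X locally
Noetherian with universally catenary local rings, δ a dimension function). -/
theorem result (X : Scheme.{u}) [JacobsonSpace X] (δ : X → ℤ) (hX : Cyc.IsSetup X δ) (h0 : ∀ x : X, IsClosed ({x} : Set X) → δ x = 0) (ξ : X) : (topologicalKrullDim ↥(closure ({ξ} : Set X)) = ((δ ξ).toNat : WithBot ℕ∞) ∧ 0 ≤ δ ξ) ∧ ∀ (z : X) (h : ξ ⤳ z), IsClosed ({z} : Set X) → ringKrullDim (Cyc.LocQuot z ξ h) = ((δ ξ).toNat : WithBot ℕ∞) := by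
  have hδ := hX.2.2
  refine ⟨⟨dim_closure δ hδ h0 ξ, ?_⟩, ?_⟩
  · obtain ⟨z, hz, hzc⟩ := exists_closed_specialization ξ
    have := delta_le δ hδ hz
    rw [h0 z hzc] at this
    exact this
  · intro z h hzc
    rw [dim_locQuot δ hδ ξ z h, h0 z hzc, sub_zero]

end Groth.Agent.S6462
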