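import Groth.Statements.S6479
import Mathlib
-- import your own Groth.Agent.* helpers here

set_option autoImplicit false
universe u
open CategoryTheory AlgebraicGeometry
open CategoryTheory.Limits
open Cyc

namespace Groth.Agent.S6479

section PRE
open AlgebraicGeometry CategoryTheory IsLocalRing TensorProduct

def MaxFib {X' X : Scheme.{u}} (p : X' ⟶ X) (x' : X') : Prop :=
  ∀ y, p y = p x' → y ⤳ x' → y = x'

lemma key_fib {X' X : Scheme.{u}} (p : X' ⟶ X) (x' : X')
    (Z : PrimeSpectrum (X'.presheaf.stalk x')) :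
    (Ideal.map (p.stalkMap x').hom (maximalIdeal (X.presheaf.stalk (p x'))) ≤ Z.asIdeal ↔
      p (X'.fromSpecStalk x' Z) = p x') := by
  have h1 : p (X'.fromSpecStalk x' Z) =
      X.fromSpecStalk (p x') (Spec.map (p.stalkMap x') Z) := by
    rw [← Scheme.Hom.comp_apply, ← Scheme.Hom.comp_apply, Scheme.SpecMap_stalkMap_fromSpecStalk]
  have hinj : Function.Injective (X.fromSpecStalk (p x')) :=
    (X.fromSpecStalk (p x')).isEmbedding.injective
  rw [h1]
  constructor
  · intro h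
    have : (Spec.map (p.stalkMap x') Z : Spec (X.presheaf.stalk (p x'))) =
        closedPoint (X.presheaf.stalk (p x')) := by
      apply PrimeSpectrum.ext
      have hle : maximalIdeal (X.presheaf.stalk (p x')) ≤
          Ideal.comap (p.stalkMap x').hom Z.asIdeal := Ideal.map_le_iff_le_comap.mp h
      have hpr : (Ideal.comap (p.stalkMap x').hom Z.asIdeal).IsPrime := inferInstance
      exact ((maximalIdeal.isMaximal _).eq_of_le hpr.ne_top hle).symm
    rw [this, Scheme.fromSpecStalk_closedPoint]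
  · intro h
    have h2 := hinj (h.trans (Scheme.fromSpecStalk_closedPoint (x := p x')).symm)
    rw [Ideal.map_le_iff_le_comap]
    have h3 : (Spec.map (p.stalkMap x') Z : PrimeSpectrum _).asIdeal =
        maximalIdeal (X.presheaf.stalk (p x')) := by rw [h2]; rfl
    exact h3.ge

lemma exists_max_gen {X' X : Scheme.{u}} (p : X' ⟶ X) (x' : X') :
    ∃ y' : X', y' ⤳ x' ∧ p y' = p x' ∧ MaxFib p y' := by
  have hI : Ideal.map (p.stalkMap x').hom (maximalIdeal (X.presheaf.stalk (p x'))) ≤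
      maximalIdeal (X'.presheaf.stalk x') :=
    ((local_hom_TFAE (p.stalkMap x').hom).out 0 2).mp (inferInstance : IsLocalHom (p.stalkMap x').hom)
  obtain ⟨q, hq, hqle⟩ := Ideal.exists_minimalPrimes_le hI
  have hqprime : q.IsPrime := hq.1.1
  let Q : PrimeSpectrum (X'.presheaf.stalk x') := ⟨q, hqprime⟩
  have hmem : ∀ z : X', z ⤳ x' → ∃ Z : PrimeSpectrum (X'.presheaf.stalk x'),
      X'.fromSpecStalk x' Z = z := by
    intro z hz
    have : z ∈ Set.range (X'.fromSpecStalk x') := by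
      rw [Scheme.range_fromSpecStalk]; exact hz
    exact this
  have hQx : X'.fromSpecStalk x' Q ⤳ x' := by
    have : X'.fromSpecStalk x' Q ∈ Set.range (X'.fromSpecStalk x') := ⟨Q, rfl⟩
    rw [Scheme.range_fromSpecStalk] at this; exact this
  refine ⟨X'.fromSpecStalk x' Q, hQx, (key_fib p x' Q).mp hq.1.2, ?_⟩
  intro z hz hzQ
  obtain ⟨Z, rfl⟩ := hmem z (hzQ.trans hQx)
  have hpz : p (X'.fromSpecStalk x' Z) = p x' := hz.trans ((key_fib p x' Q).mp hq.1.2)
  have hIZ := (key_fib p x' Z).mpr hpz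
  have hZQ : Z ⤳ Q := (X'.fromSpecStalk x').isEmbedding.specializes_iff.mp hzQ
  have hle : Z.asIdeal ≤ q := (PrimeSpectrum.le_iff_specializes Z Q).mpr hZQ
  have hge : q ≤ Z.asIdeal := hq.2 ⟨Z.2, hIZ⟩ hle
  have : Z = Q := PrimeSpectrum.ext (le_antisymm hle hge)
  rw [this]

lemma dim_iff {X' X : Scheme.{u}} (p : X' ⟶ X) (δ : X → ℤ) (δ' : X' → ℤ)
    (hd : Cyc.IsDimFun X' δ') (c : ℤ)
    (hc : ∀ x' : X', MaxFib p x' → δ' x' = δ (p x') + c) (x' : X') :
    δ' x' = δ (p x') + c ↔ MaxFib p x' := by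
  constructor
  · intro h
    obtain ⟨y', hy1, hy2, hy3⟩ := exists_max_gen p x'
    by_cases hyx : y' = x'
    · rw [← hyx]; exact hy3
    · exfalso
      have := (hd y' x' hy1 hyx).1
      rw [hc y' hy3, hy2, ← h] at this
      exact lt_irrefl _ this
  · exact hc x'

lemma max_comp {X'' X' X : Scheme.{u}} (p : X' ⟶ X) (p' : X'' ⟶ X') [Flat p'] (x'' : X'') :
    MaxFib (p' ≫ p) x'' ↔ (MaxFib p' x'' ∧ MaxFib p (p' x'')) := by
  constructor
  · intro h
    refine ⟨fun y hy hyx => h y ?_ hyx, fun y' hy' hyx' => ?_⟩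
    · rw [Scheme.Hom.comp_apply, Scheme.Hom.comp_apply, hy]
    · obtain ⟨y'', hy''1, hy''2⟩ := (Flat.generalizingMap p') hyx'
      have := h y'' (by rw [Scheme.Hom.comp_apply, Scheme.Hom.comp_apply, hy''2, hy']) hy''1
      rw [← hy''2, this]
  · rintro ⟨h1, h2⟩ y hy hyx
    rw [Scheme.Hom.comp_apply, Scheme.Hom.comp_apply] at hy
    have h3 : p' y = p' x'' := h2 (p' y) hy (hyx.map p'.continuous)
    exact h1 y h3 hyx

lemma len_alg {A A' A'' : Type u} [CommRing A] [CommRing A'] [CommRing A''] [IsLocalRing A]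
    [IsLocalRing A'] [IsLocalRing A''] (φ : A →+* A') (ψ : A' →+* A'') [IsLocalHom ψ]
    (hψ : ψ.Flat) :
    Module.length A'' (A'' ⧸ Ideal.map (ψ.comp φ) (maximalIdeal A)) =
      Module.length A' (A' ⧸ Ideal.map φ (maximalIdeal A)) *
        Module.length A'' (A'' ⧸ Ideal.map ψ (maximalIdeal A')) := by
  algebraize [ψ]
  have hloc : IsLocalHom (algebraMap A' A'') := by
    rw [RingHom.algebraMap_toAlgebra]; infer_instance
  have h1 := IsLocalRing.length_baseChange A' A'' (A' ⧸ Ideal.map φ (maximalIdeal A))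
  have h2 := (Algebra.TensorProduct.quotIdealMapEquivTensorQuot A''
    (Ideal.map φ (maximalIdeal A))).toLinearEquiv.length_eq
  rw [← h2, Ideal.map_map] at h1
  exact h1

lemma len_sch {X'' X' X : Scheme.{u}} (p : X' ⟶ X) (p' : X'' ⟶ X') [Flat p'] (x'' : X'') :
    Module.length (X''.presheaf.stalk x'') (X''.presheaf.stalk x'' ⧸
        Ideal.map ((p' ≫ p).stalkMap x'').hom
          (maximalIdeal (X.presheaf.stalk ((p' ≫ p) x'')))) =
      Module.length (X'.presheaf.stalk (p' x'')) (X'.presheaf.stalk (p' x'') ⧸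
        Ideal.map (p.stalkMap (p' x'')).hom (maximalIdeal (X.presheaf.stalk (p (p' x''))))) *
      Module.length (X''.presheaf.stalk x'') (X''.presheaf.stalk x'' ⧸
        Ideal.map (p'.stalkMap x'').hom (maximalIdeal (X'.presheaf.stalk (p' x'')))) := by
  have := len_alg (p.stalkMap (p' x'')).hom (p'.stalkMap x'').hom (Flat.stalkMap p' x'')
  rw [← this]
  rw [Scheme.Hom.stalkMap_comp]
  rfl

theorem main (X X' X'' : Scheme.{u}) (p : X' ⟶ X) (p' : X'' ⟶ X') [Flat p] [Flat p'] (δ : X → ℤ) (δ' : X' → ℤ) (δ'' : X'' → ℤ) (hX : Cyc.IsSetup X δ) (hX' : Cyc.IsSetup X' δ') (hX'' : Cyc.IsSetup X'' δ'') (c c' : ℤ) (hc : ∀ x' : X', (∀ y, p y = p x' → y ⤳ x' → y = x') → δ' x' = δ (p x') + c) (hc' : ∀ x'' : X'', (∀ y, p' y = p' x'' → y ⤳ x'' → y = x'') → δ'' x'' = δ' (p' x'') + c') (k : ℤ) (α : AlgebraicCycle X ℤ) (hα : α ∈ Cyc.Zk X δ k) : (∀ x'' : X'', (∀ y, (p' ≫ p) y = (p' ≫ p) x'' → y ⤳ x'' → y = x'') → δ'' x'' = δ ((p' ≫ p) x'') + (c + c')) ∧ Cyc.pullFun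 (p' ≫ p) δ'' δ (c + c') ⇑α = Cyc.pullFun p' δ'' δ' c' (Cyc.pullFun p δ' δ c ⇑α) := by
  have d' := dim_iff p δ δ' hX'.2.2 c hc
  have d'' := dim_iff p' δ' δ'' hX''.2.2 c' hc'
  have part1 : ∀ x'', MaxFib (p' ≫ p) x'' → δ'' x'' = δ ((p' ≫ p) x'') + (c + c') := by
    intro x'' h
    obtain ⟨h1, h2⟩ := (max_comp p p' x'').mp h
    rw [hc' x'' h1, hc _ h2, Scheme.Hom.comp_apply]; ring
  refine ⟨part1, ?_⟩
  have d3 := dim_iff (p' ≫ p) δ δ'' hX''.2.2 (c + c') part1
  funext x''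
  unfold Cyc.pullFun
  by_cases h : MaxFib (p' ≫ p) x''
  · obtain ⟨h1, h2⟩ := (max_comp p p' x'').mp h
    rw [if_pos ((d3 x'').mpr h), if_pos ((d'' x'').mpr h1), if_pos ((d' _).mpr h2)]
    rw [len_sch, ENat.toNat_mul]; push_cast; rw [Scheme.Hom.comp_apply]; ring
  · have : ¬ (MaxFib p' x'' ∧ MaxFib p (p' x'')) := fun hh => h ((max_comp p p' x'').mpr hh)
    rw [if_neg (fun hh => h ((d3 x'').mp hh))]
    by_cases h1 : MaxFib p' x''
    · rw [if_pos ((d'' x'').mpr h1), if_neg (fun hh => this ⟨h1, (d' _).mp hh⟩)]; simp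
    · rw [if_neg (fun hh => h1 ((d'' x'').mp hh))]

end PRE

/-- Let p : X' → X and p' : X'' → X' be flat with shifts c and c' on the dimension functions at generic
points of fibre components. Then the composite p' ≫ p has shift c + c' at generic points of its
fibre components, and g^* followed by (g')^* is (g ∘ g')^* on k-cycles: Cyc.pullFun (p' ≫ p) δ'' δ
(c + c') α = Cyc.pullFun p' δ'' δ' c' (Cyc.pullFun p δ' δ c α). Setting: p : X' → X is flat (not
necessarily of finite type), (X, δ) and (X', δ') satisfy Cyc.IsSetup, and δ'(x') = δ(p x') + c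
whenever x' is maximal under generalization inside its fibre p⁻¹(p x'); g^* : Z_k(X) → Z_{k+c}(X')
is the coefficientwise flat pullback Cyc.pullFun p δ' δ c. (The published statement takes both maps
to be base changes along flat S″ → S′ → S of one scheme locally of finite type over S, and has a
third part, the same composition on Chow groups, which follows; this row allows any two flat maps
with the shift conditions.) -/
theorem result (X X' X'' : Scheme.{u}) (p : X' ⟶ X) (p' : X'' ⟶ X') [Flat p] [Flat p'] (δ : X → ℤ) (δ' : X' → ℤ) (δ'' : X'' → ℤ) (hX : Cyc.IsSetup X δ) (hX' : Cyc.IsSetup X' δ') (hX'' : Cyc.IsSetup X'' δ'') (c c' : ℤ) (hc : ∀ x' : X', (∀ y, p y = p x' → y ⤳ x' → y = x') → δ' x' = δ (p x') + c) (hc' : ∀ x'' : X'', (∀ y, p' y = p' x'' → y ⤳ x'' → y = x'') → δ'' x'' = δ' (p' x'') + c') (k : ℤ) (α : AlgebraicCycle X ℤ) (hα : α ∈ Cyc.Zk X δ k) : (∀ x'' : X'', (∀ y, (p' ≫ p) y = (p' ≫ p) x'' → y ⤳ x'' → y = x'') → δ'' x'' = δ ((p'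 ≫ p) x'') + (c + c')) ∧ Cyc.pullFun (p' ≫ p) δ'' δ (c + c') ⇑α = Cyc.pullFun p' δ'' δ' c' (Cyc.pullFun p δ' δ c ⇑α) := by
  exact main X X' X'' p p' δ δ' δ'' hX hX' hX'' c c' hc hc' k α hα

end Groth.Agent.S6479
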