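import Groth.Statements.S6477
import Mathlib
import Groth.Agent.S6479
import Groth.Agent.Lib.QCoh.Helper18_PullbackStalk
-- import your own Groth.Agent.* helpers here

set_option autoImplicit false
universe u
open CategoryTheory AlgebraicGeometry
open CategoryTheory.Limits
open Cyc

namespace Groth.Agent.S6477

section PRE
open IsLocalRing TensorProduct
open Groth.Agent.S6479 (MaxFib exists_max_gen dim_iff)

lemma dim_le {X' X : Scheme.{u}} (p : X' ⟶ X) (δ : X → ℤ) (δ' : X' → ℤ)
    (hd : Cyc.IsDimFun X' δ') (c : ℤ)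
    (hc : ∀ x' : X', MaxFib p x' → δ' x' = δ (p x') + c) (x' : X') :
    δ' x' ≤ δ (p x') + c := by
  obtain ⟨y', hy1, hy2, hy3⟩ := exists_max_gen p x'
  by_cases h : y' = x'
  · subst h; exact (hc _ hy3).le
  · have := (hd y' x' hy1 h).1
    rw [hc y' hy3, hy2] at this
    exact this.le

lemma len_pull {X' X : Scheme.{u}} (p : X' ⟶ X) [Flat p] (F : X.Modules) [F.IsQuasicoherent]
    (x' : X') :
    Module.length (X'.presheaf.stalk x')
        (((Scheme.Modules.pullback p).obj F).presheaf.stalk x') =
      Module.length (X.presheaf.stalk (p x')) (F.presheaf.stalk (p x')) *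
        Module.length (X'.presheaf.stalk x') (X'.presheaf.stalk x' ⧸
          Ideal.map (p.stalkMap x').hom (maximalIdeal (X.presheaf.stalk (p x')))) := by
  letI : Algebra (X.presheaf.stalk (p x')) (X'.presheaf.stalk x') := (p.stalkMap x').hom.toAlgebra
  obtain ⟨e⟩ := Groth.Agent.Lib.QCoh.nonempty_stalk_pullback_linearEquiv p F x'
  rw [e.length_eq]
  haveI hloc : IsLocalHom (algebraMap (X.presheaf.stalk (p x')) (X'.presheaf.stalk x')) := by
    rw [RingHom.algebraMap_toAlgebra]; infer_instance
  haveI : Module.Flat (X.presheaf.stalk (p x')) (X'.presheaf.stalk x') := Flat.stalkMap p x'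
  exact IsLocalRing.length_baseChange _ _ _

theorem main (X X' : Scheme.{u}) (p : X' ⟶ X) [Flat p] (δ : X → ℤ) (δ' : X' → ℤ) (hX : Cyc.IsSetup X δ) (hX' : Cyc.IsSetup X' δ') (c : ℤ) (hc : ∀ x' : X', (∀ y, p y = p x' → y ⤳ x' → y = x') → δ' x' = δ (p x') + c) (k : ℤ) (F : X.Modules) (hF : Coh.IsCoh F) (hdim : ∀ x : X, Nontrivial (F.presheaf.stalk x) → δ x ≤ k) : (∀ x' : X', Nontrivial (((Scheme.Modules.pullback p).obj F).presheaf.stalk x') → δ' x' ≤ k + c) ∧ Cyc.pullFun p δ' δ c (Cyc.sheafFun δ k F) = Cyc.sheafFun δ' (k + c) ((Scheme.Modules.pullback p).obj F) := by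
  haveI : F.IsQuasicoherent := hF.1
  have hle := dim_le p δ δ' hX'.2.2 c hc
  have hiff := dim_iff p δ δ' hX'.2.2 c hc
  -- nontrivial pullback stalk implies nontrivial stalk
  have hnt : ∀ x' : X', Nontrivial (((Scheme.Modules.pullback p).obj F).presheaf.stalk x') →
      Nontrivial (F.presheaf.stalk (p x')) := by
    intro x' h
    by_contra hn
    rw [not_nontrivial_iff_subsingleton] at hn
    have h0 : Module.length (X.presheaf.stalk (p x')) (F.presheaf.stalk (p x')) = 0 :=
      Module.length_eq_zero_iff.mpr hn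
    have := len_pull p F x'
    rw [h0, zero_mul, Module.length_eq_zero_iff] at this
    exact not_nontrivial _ h
  refine ⟨fun x' h => ?_, ?_⟩
  · have h1 := hdim (p x') (hnt x' h)
    have h2 := hle x'
    linarith
  · funext x'
    unfold Cyc.pullFun Cyc.sheafFun
    by_cases h1 : δ' x' = δ (p x') + c
    · rw [if_pos h1]
      by_cases h2 : δ (p x') = k
      · rw [if_pos h2, if_pos (by rw [h1, h2]), len_pull, ENat.toNat_mul]
        push_cast; ring
      · rw [if_neg h2, zero_mul, if_neg (fun h => h2 (by linarith))]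
    · rw [if_neg h1]
      by_cases h3 : δ' x' = k + c
      · rw [if_pos h3]
        have hlt : δ' x' < δ (p x') + c := lt_of_le_of_ne (hle x') h1
        have hsub : Subsingleton (F.presheaf.stalk (p x')) := by
          by_contra hn
          rw [not_subsingleton_iff_nontrivial] at hn
          have := hdim (p x') hn
          linarith
        have h0 : Module.length (X.presheaf.stalk (p x')) (F.presheaf.stalk (p x')) = 0 :=
          Module.length_eq_zero_iff.mpr hsub
        rw [len_pull, h0, zero_mul]
        rfl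
      · rw [if_neg h3]

end PRE

/-- Let F be a coherent O_X-module with dim_δ Supp(F) ≤ k and F' = p^*F its base change to X'. Then
dim_{δ'} Supp(F') ≤ k + c and g^*[F]_k = [F']_{k+c} in Z_{k+c}(X') (coefficientwise; support bounds
through nontrivial stalks). Setting: p : X' → X is flat (not necessarily of finite type), (X, δ) and
(X', δ') satisfy Cyc.IsSetup, and δ'(x') = δ(p x') + c whenever x' is maximal under generalization
inside its fibre p⁻¹(p x'); g^* : Z_k(X) → Z_{k+c}(X') is the coefficientwise flat pullback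
Cyc.pullFun p δ' δ c. (The published statement takes X′ = X ×_S S′ for a flat S′ → S and X locally
of finite type over S; this row allows any flat p : X′ → X with the shift condition. The published
statement also has a part for closed subschemes, which follows with [Z]_k = [O_Z]_k; this row does
not restate it.) -/
theorem result (X X' : Scheme.{u}) (p : X' ⟶ X) [Flat p] (δ : X → ℤ) (δ' : X' → ℤ) (hX : Cyc.IsSetup X δ) (hX' : Cyc.IsSetup X' δ') (c : ℤ) (hc : ∀ x' : X', (∀ y, p y = p x' → y ⤳ x' → y = x') → δ' x' = δ (p x') + c) (k : ℤ) (F : X.Modules) (hF : Coh.IsCoh F) (hdim : ∀ x : X, Nontrivial (F.presheaf.stalk x) → δ x ≤ k) : (∀ x' : X', Nontrivial (((Scheme.Modules.pullback p).obj F).presheaf.stalk x') → δ' x' ≤ k + c) ∧ Cyc.pullFun p δ' δ c (Cyc.sheafFun δ k F) = Cyc.sheafFun δ' (k + c) ((Scheme.Modules.pullback p).obj F) := by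
  exact main X X' p δ δ' hX hX' c hc k F hF hdim

end Groth.Agent.S6477
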