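import Groth.Statements.S3245
import Mathlib.Algebra.Azumaya.Basic
import Mathlib.Algebra.Central.End
import Mathlib.RingTheory.SimpleModule.Basic
import Mathlib.RingTheory.SimpleRing.Basic
import Mathlib.RingTheory.Nakayama
import Mathlib.LinearAlgebra.Dual.Lemmas
import Mathlib.LinearAlgebra.TensorProduct.Quotient
import Mathlib.RingTheory.OrzechProperty
import Mathlib.RingTheory.LocalRing.ResidueField.Basic
import Mathlib.LinearAlgebra.FreeModule.Finite.Matrix
import Mathlib.RingTheory.TwoSidedIdeal.Lattice

set_option autoImplicit false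
universe u
open TensorProduct
open Dix

namespace Groth.Agent.S3245

open MulOpposite
section general

variable {S : Type*} [CommRing S] {C : Type*} [Ring C] [Algebra S C]

/-- list form of sandwich maps -/
def sandwich (l : List (C × C)) (y : C) : C := (l.map fun p => p.1 * y * p.2).sum

lemma sandwich_nil (y : C) : sandwich ([] : List (C × C)) y = 0 := by simp [sandwich]

lemma sandwich_cons (p : C × C) (l : List (C × C)) (y : C) :
    sandwich (p :: l) y = p.1 * y * p.2 + sandwich l y := by simp [sandwich]

lemma sandwich_append (l1 l2 : List (C × C)) (y : C) :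
    sandwich (l1 ++ l2) y = sandwich l1 y + sandwich l2 y := by simp [sandwich]

lemma mulLeftRight_eq_sandwich (t : C ⊗[S] Cᵐᵒᵖ) :
    ∃ l : List (C × C), ∀ y, AlgHom.mulLeftRight S C t y = sandwich l y := by
  induction t using TensorProduct.induction_on with
  | zero => exact ⟨[], fun y => by simp [sandwich]⟩
  | tmul a b => exact ⟨[(a, b.unop)], fun y => by simp [sandwich]⟩
  | add t1 t2 h1 h2 =>
    obtain ⟨l1, h1⟩ := h1
    obtain ⟨l2, h2⟩ := h2
    exact ⟨l1 ++ l2, fun y => by rw [map_add, LinearMap.add_apply, h1, h2, sandwich_append]⟩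

lemma sandwich_eq_mulLeftRight (l : List (C × C)) :
    ∃ t : C ⊗[S] Cᵐᵒᵖ, ∀ y, AlgHom.mulLeftRight S C t y = sandwich l y := by
  induction l with
  | nil => exact ⟨0, fun y => by simp [sandwich]⟩
  | cons p l ih =>
    obtain ⟨t, ht⟩ := ih
    exact ⟨p.1 ⊗ₜ op p.2 + t, fun y => by
      rw [map_add, LinearMap.add_apply, ht, sandwich_cons, AlgHom.mulLeftRight_apply, unop_op]⟩

lemma map_sandwich {D : Type*} [Ring D] (φ : C →+* D) (l : List (C × C)) (y : C) :
    φ (sandwich l y) = sandwich (l.map (Prod.map φ φ)) (φ y) := by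
  induction l with
  | nil => simp [sandwich]
  | cons p l ih => rw [List.map_cons, sandwich_cons, sandwich_cons, map_add, ih]; simp

lemma sandwich_mem (I : TwoSidedIdeal C) (l : List (C × C)) {x : C} (hx : x ∈ I) :
    sandwich l x ∈ I := by
  induction l with
  | nil => rw [sandwich_nil]; exact I.zero_mem
  | cons p l ih =>
    rw [sandwich_cons]
    exact I.add_mem (I.mul_mem_right _ _ (I.mul_mem_left _ _ hx)) ih

end general

section field

variable {k : Type*} [Field k] {B : Type*} [Ring B] [Algebra k B]

/-- Surjectivity of `mulLeftRight` for a finite-dimensional central simple algebra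
(via the Jacobson density theorem). -/
theorem surjective_mulLeftRight_of_csa [FiniteDimensional k B] [Algebra.IsCentral k B]
    [IsSimpleRing B] : Function.Surjective (AlgHom.mulLeftRight k B) := by
  classical
  letI : Module (B ⊗[k] Bᵐᵒᵖ) B := TensorProduct.Algebra.module
  have hsmul : ∀ (r : B ⊗[k] Bᵐᵒᵖ) (m : B), r • m = AlgHom.mulLeftRight k B r m :=
    fun r m => rfl
  have hsmul_tmul : ∀ (a : B) (b : Bᵐᵒᵖ) (m : B), (a ⊗ₜ[k] b) • m = a * m * b.unop := by
    intro a b m
    rw [hsmul, AlgHom.mulLeftRight_apply]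
  haveI : Nontrivial B := inferInstance
  haveI : IsSimpleModule (B ⊗[k] Bᵐᵒᵖ) B := by
    rw [isSimpleModule_iff]
    refine { exists_pair_ne := ⟨⊥, ⊤, bot_ne_top⟩, eq_bot_or_eq_top := ?_ }
    intro N
    let I : TwoSidedIdeal B := TwoSidedIdeal.mk' (N : Set B) N.zero_mem
      (fun hx hy => N.add_mem hx hy) (fun hx => N.neg_mem hx)
      (fun {x y} hy => by
        have : x * y = (x ⊗ₜ[k] (1 : Bᵐᵒᵖ)) • y := by rw [hsmul_tmul]; simp
        rw [this]; exact N.smul_mem _ hy)
      (fun {x y} hx => by
        have : x * y = ((1 : B) ⊗ₜ[k] (op y)) • x := by rw [hsmul_tmul]; simp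
        rw [this]; exact N.smul_mem _ hx)
    have hI : ∀ x, x ∈ I ↔ x ∈ N := fun x => by simp [I]
    rcases eq_bot_or_eq_top I with h | h
    · left
      rw [eq_bot_iff]
      intro x hx
      have : x ∈ I := (hI x).mpr hx
      rw [h] at this
      simpa using this
    · right
      rw [eq_top_iff]
      intro x _
      have : x ∈ I := by rw [h]; trivial
      exact (hI x).mp this
  -- endomorphisms of the bimodule are scalars
  have hφ : ∀ φ : Module.End (B ⊗[k] Bᵐᵒᵖ) B, ∃ c : k, ∀ m, φ m = c • m := by
    intro φ
    have h1 : ∀ m, φ m = m * φ 1 := by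
      intro m
      have : m = (m ⊗ₜ[k] (1 : Bᵐᵒᵖ)) • (1 : B) := by rw [hsmul_tmul]; simp
      conv_lhs => rw [this]
      rw [map_smul, hsmul_tmul]; simp
    have h2 : ∀ m, φ m = φ 1 * m := by
      intro m
      have : m = ((1 : B) ⊗ₜ[k] (op m)) • (1 : B) := by rw [hsmul_tmul]; simp
      conv_lhs => rw [this]
      rw [map_smul, hsmul_tmul]; simp
    have hz : φ 1 ∈ Subalgebra.center k B := by
      rw [Subalgebra.mem_center_iff]
      intro b
      rw [← h1, ← h2]
    have hz' := Algebra.IsCentral.out hz
    obtain ⟨c, hc⟩ := Algebra.mem_bot.mp hz'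
    refine ⟨c, fun m => ?_⟩
    rw [h2, ← hc, Algebra.smul_def]
  intro g
  let f : Module.End (Module.End (B ⊗[k] Bᵐᵒᵖ) B) B :=
    { toFun := g
      map_add' := g.map_add
      map_smul' := fun φ m => by
        obtain ⟨c, hc⟩ := hφ φ
        simp only [RingHom.id_apply]
        change g (φ m) = φ (g m)
        rw [hc, hc, map_smul] }
  let b := Module.finBasis k B
  obtain ⟨r, hr⟩ := jacobson_density f (Finset.univ.image b)
  refine ⟨r, ?_⟩
  apply b.ext
  intro i
  have := hr (b i) (Finset.mem_image_of_mem _ (Finset.mem_univ i))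
  rw [hsmul] at this
  exact this.symm

end field


section loc

variable (R : Type u) [CommRing R] [IsLocalRing R] (A : Type u) [Ring A] [Algebra R A]

/-- the reduction map `A → k ⊗ A` -/
noncomputable def red : A →ₐ[R] (IsLocalRing.ResidueField R) ⊗[R] A :=
  Algebra.TensorProduct.includeRight

lemma red_apply (a : A) : red R A a = (1 : IsLocalRing.ResidueField R) ⊗ₜ[R] a := rfl

lemma red_surjective : Function.Surjective (red R A) := by
  intro x
  induction x using TensorProduct.induction_on with
  | zero => exact ⟨0, map_zero _⟩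
  | tmul c a =>
    obtain ⟨r, rfl⟩ := IsLocalRing.residue_surjective c
    refine ⟨r • a, ?_⟩
    rw [red_apply, TensorProduct.tmul_smul, TensorProduct.smul_tmul']
    congr 1
    rw [Algebra.smul_def, mul_one]
    rfl
  | add x y hx hy =>
    obtain ⟨a, rfl⟩ := hx
    obtain ⟨b, rfl⟩ := hy
    exact ⟨a + b, map_add _ _ _⟩

lemma mem_of_red_eq_zero (a : A) (h : red R A a = 0) :
    a ∈ (IsLocalRing.maximalIdeal R) • (⊤ : Submodule R A) := by
  have h1 : (Ideal.Quotient.mk (IsLocalRing.maximalIdeal R) (1 : R)) ⊗ₜ[R] a
      = (0 : (R ⧸ IsLocalRing.maximalIdeal R) ⊗[R] A) := by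
    rw [map_one]
    exact h
  have h2 := congrArg (TensorProduct.quotTensorEquivQuotSMul A (IsLocalRing.maximalIdeal R)) h1
  rw [TensorProduct.quotTensorEquivQuotSMul_mk_tmul, map_zero, one_smul,
    Submodule.Quotient.mk_eq_zero] at h2
  exact h2

variable {R A}

/-- an endomorphism with values in `𝔪 A` lies in `𝔪 • End A` -/
lemma mem_smul_top_of_forall_mem [Module.Finite R A] [Module.Free R A] (h : A →ₗ[R] A)
    (hh : ∀ y, h y ∈ (IsLocalRing.maximalIdeal R) • (⊤ : Submodule R A)) :
    h ∈ (IsLocalRing.maximalIdeal R) • (⊤ : Submodule R (Module.End R A)) := by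
  classical
  let e := Module.Free.chooseBasis R A
  have hsum : h = ∑ j, (e.coord j).smulRight (h (e j)) := by
    apply e.ext
    intro i
    rw [LinearMap.sum_apply]
    simp only [LinearMap.smulRight_apply, Module.Basis.coord_apply, Module.Basis.repr_self]
    rw [Finset.sum_eq_single i]
    · simp
    · intro j _ hj
      rw [Finsupp.single_apply, if_neg (Ne.symm hj), zero_smul]
    · intro hi; exact absurd (Finset.mem_univ i) hi
  rw [hsum]
  apply Submodule.sum_mem
  intro j _
  -- the linear map a ↦ (coord j).smulRight a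
  let Φ : A →ₗ[R] Module.End R A := LinearMap.smulRightₗ (e.coord j)
  have : Φ (h (e j)) ∈ Submodule.map Φ ((IsLocalRing.maximalIdeal R) • (⊤ : Submodule R A)) :=
    Submodule.mem_map_of_mem (hh (e j))
  rw [Submodule.map_smul''] at this
  exact Submodule.smul_mono le_rfl le_top this

end loc


section main

variable (R : Type u) [CommRing R] [IsLocalRing R] (A : Type u) [Ring A] [Algebra R A]
  [Module.Finite R A] [Module.Free R A] [Nontrivial A]

omit [Module.Finite R A] [Module.Free R A] [Nontrivial A] in
lemma exists_lift_list (l : List (((IsLocalRing.ResidueField R) ⊗[R] A) ×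
    ((IsLocalRing.ResidueField R) ⊗[R] A))) :
    ∃ l' : List (A × A), l'.map (Prod.map (red R A) (red R A)) = l := by
  induction l with
  | nil => exact ⟨[], rfl⟩
  | cons p l ih =>
    obtain ⟨l', hl'⟩ := ih
    obtain ⟨a, ha⟩ := red_surjective R A p.1
    obtain ⟨b, hb⟩ := red_surjective R A p.2
    exact ⟨(a, b) :: l', by simp [hl', ha, hb]⟩

lemma nontrivial_fibre : Nontrivial ((IsLocalRing.ResidueField R) ⊗[R] A) := by
  have h1 : Module.finrank (IsLocalRing.ResidueField R) ((IsLocalRing.ResidueField R) ⊗[R] A)
      = Module.finrank R A := Module.finrank_baseChange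
  have h2 : 0 < Module.finrank R A := (Module.finrank_pos_iff_of_free R A).mpr inferInstance
  rw [← h1] at h2
  exact Module.nontrivial_of_finrank_pos (R := IsLocalRing.ResidueField R) h2

omit [Module.Finite R A] [Module.Free R A] [Nontrivial A] in
/-- every endomorphism of the fibre is a sandwich map, when `A` is Azumaya -/
lemma fibre_sandwich_of_azumaya (h : IsAzumaya R A)
    (g : ((IsLocalRing.ResidueField R) ⊗[R] A) →ₗ[IsLocalRing.ResidueField R]
      ((IsLocalRing.ResidueField R) ⊗[R] A)) :
    ∃ l : List (((IsLocalRing.ResidueField R) ⊗[R] A) × ((IsLocalRing.ResidueField R) ⊗[R] A)),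
      ∀ b, g b = sandwich l b := by
  obtain ⟨gt, hgt⟩ := Module.projective_lifting_property (red R A).toLinearMap
    ((g.restrictScalars R) ∘ₗ (red R A).toLinearMap) (red_surjective R A)
  obtain ⟨t, ht⟩ := h.bij.2 gt
  obtain ⟨l, hl⟩ := mulLeftRight_eq_sandwich (S := R) t
  refine ⟨l.map (Prod.map (red R A) (red R A)), fun b => ?_⟩
  obtain ⟨a, rfl⟩ := red_surjective R A b
  have h1 := LinearMap.congr_fun hgt a
  simp only [LinearMap.coe_comp, Function.comp_apply, AlgHom.toLinearMap_apply,
    LinearMap.coe_restrictScalars] at h1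
  rw [← h1, ← ht, hl]
  exact map_sandwich (red R A).toRingHom l a

theorem forward (h : IsAzumaya R A) :
    Algebra.IsCentral (IsLocalRing.ResidueField R) ((IsLocalRing.ResidueField R) ⊗[R] A) ∧
      IsSimpleRing ((IsLocalRing.ResidueField R) ⊗[R] A) := by
  have hnt := nontrivial_fibre R A
  have hsw := fibre_sandwich_of_azumaya R A h
  constructor
  · refine ⟨fun z hz => ?_⟩
    rw [Subalgebra.mem_center_iff] at hz
    -- left multiplication by z is central in End
    have hc : LinearMap.mulLeft (IsLocalRing.ResidueField R) z ∈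
        Subalgebra.center (IsLocalRing.ResidueField R)
          (Module.End (IsLocalRing.ResidueField R) ((IsLocalRing.ResidueField R) ⊗[R] A)) := by
      rw [Subalgebra.mem_center_iff]
      intro g
      obtain ⟨l, hl⟩ := hsw g
      apply LinearMap.ext
      intro b
      simp only [Module.End.mul_apply, LinearMap.mulLeft_apply]
      rw [hl, hl]
      -- sandwich l (z * b) = z * sandwich l b
      clear hl
      induction l with
      | nil => simp [sandwich]
      | cons p l ih =>
        rw [sandwich_cons, sandwich_cons, ih, mul_add]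
        congr 1
        rw [← mul_assoc p.1, hz p.1]
        simp only [mul_assoc]
    have hc' := Algebra.IsCentral.out hc
    obtain ⟨c, hc''⟩ := Algebra.mem_bot.mp hc'
    rw [Algebra.mem_bot]
    refine ⟨c, ?_⟩
    have := LinearMap.congr_fun hc'' 1
    simp only [LinearMap.mulLeft_apply, mul_one, Module.algebraMap_end_apply] at this
    rw [Algebra.algebraMap_eq_smul_one]
    exact this
  · refine ⟨{ exists_pair_ne := ⟨⊥, ⊤, bot_ne_top⟩, eq_bot_or_eq_top := ?_ }⟩
    intro I
    by_cases hI : I = ⊥
    · exact Or.inl hI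
    · right
      obtain ⟨x, hxI, hx0⟩ : ∃ x ∈ I, x ≠ 0 := by
        by_contra hcon
        push Not at hcon
        apply hI
        rw [eq_bot_iff]
        intro x hx
        rw [TwoSidedIdeal.mem_bot]
        exact hcon x hx
      obtain ⟨φ, hφ⟩ := Module.Projective.exists_dual_eq_one (IsLocalRing.ResidueField R) hx0
      obtain ⟨l, hl⟩ := hsw (φ.smulRight (1 : (IsLocalRing.ResidueField R) ⊗[R] A))
      have h1 := hl x
      rw [LinearMap.smulRight_apply, hφ, one_smul] at h1
      rw [← TwoSidedIdeal.one_mem_iff, h1]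
      exact sandwich_mem I l hxI

theorem backward (hc : Algebra.IsCentral (IsLocalRing.ResidueField R)
      ((IsLocalRing.ResidueField R) ⊗[R] A))
    (hs : IsSimpleRing ((IsLocalRing.ResidueField R) ⊗[R] A)) : IsAzumaya R A := by
  have hsurjB := surjective_mulLeftRight_of_csa (k := IsLocalRing.ResidueField R)
    (B := (IsLocalRing.ResidueField R) ⊗[R] A)
  -- surjectivity by Nakayama
  have hsurj : Function.Surjective (AlgHom.mulLeftRight R A) := by
    have key : (⊤ : Submodule R (Module.End R A)) ≤
        LinearMap.range (AlgHom.mulLeftRight R A).toLinearMap ⊔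
          (IsLocalRing.maximalIdeal R) • (⊤ : Submodule R (Module.End R A)) := by
      intro f _
      obtain ⟨r, hr⟩ := hsurjB (f.baseChange (IsLocalRing.ResidueField R))
      obtain ⟨l, hl⟩ := mulLeftRight_eq_sandwich (S := IsLocalRing.ResidueField R) r
      obtain ⟨l', rfl⟩ := exists_lift_list R A l
      obtain ⟨t, ht⟩ := sandwich_eq_mulLeftRight (S := R) l'
      have hker : ∀ y, (f - AlgHom.mulLeftRight R A t) y ∈
          (IsLocalRing.maximalIdeal R) • (⊤ : Submodule R A) := by
        intro y
        apply mem_of_red_eq_zero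
        rw [LinearMap.sub_apply, map_sub, ht]
        have e1 : red R A (f y) = (f.baseChange (IsLocalRing.ResidueField R)) (red R A y) := by
          rw [red_apply, red_apply, LinearMap.baseChange_tmul]
        have e2 : red R A (sandwich l' y) =
            sandwich (l'.map (Prod.map (red R A) (red R A))) (red R A y) :=
          map_sandwich (red R A).toRingHom l' y
        rw [e1, e2, ← hr, hl, sub_self]
      have hmem := mem_smul_top_of_forall_mem _ hker
      have : f = AlgHom.mulLeftRight R A t + (f - AlgHom.mulLeftRight R A t) := by abel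
      rw [this]
      exact Submodule.add_mem_sup ⟨t, rfl⟩ hmem
    have htop := Submodule.le_of_le_smul_of_le_jacobson_bot
      (Module.Finite.fg_top (R := R) (M := Module.End R A))
      (IsLocalRing.maximalIdeal_le_jacobson ⊥) key
    intro f
    obtain ⟨t, ht⟩ := htop (Submodule.mem_top (x := f))
    exact ⟨t, ht⟩
  -- injectivity by rank considerations
  have hfree_op : Module.Free R Aᵐᵒᵖ := Module.Free.of_equiv (MulOpposite.opLinearEquiv R)
  have hfin_op : Module.Finite R Aᵐᵒᵖ := Module.Finite.equiv (MulOpposite.opLinearEquiv R)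
  have hrank_op : Module.finrank R Aᵐᵒᵖ = Module.finrank R A :=
    (LinearEquiv.finrank_eq (MulOpposite.opLinearEquiv R)).symm
  have hrank : Module.finrank R (A ⊗[R] Aᵐᵒᵖ) = Module.finrank R (Module.End R A) := by
    rw [Module.finrank_tensorProduct, Module.finrank_linearMap, hrank_op]
  let e : (A ⊗[R] Aᵐᵒᵖ) ≃ₗ[R] Module.End R A := LinearEquiv.ofFinrankEq _ _ hrank
  have hinj : Function.Injective (AlgHom.mulLeftRight R A) := by
    have h1 : Function.Surjective
        (e.symm.toLinearMap ∘ₗ (AlgHom.mulLeftRight R A).toLinearMap) := by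
      simpa using e.symm.surjective.comp hsurj
    have h2 := OrzechProperty.injective_of_surjective_endomorphism _ h1
    intro x y hxy
    apply h2
    simp only [LinearMap.coe_comp, Function.comp_apply, AlgHom.toLinearMap_apply, hxy]
  exact { bij := ⟨hinj, hsurj⟩ }

end main


/-- (i) ⇔ (ii) over a local base: let R be a local ring with residue field k and A an R-algebra which is
finite and free as an R-module and nonzero. Then A is an Azumaya R-algebra (A ⊗_R A° → End_R(A)
bijective) if and only if k ⊗_R A is a central simple k-algebra. -/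
theorem result (R : Type u) [CommRing R] [IsLocalRing R] (A : Type u) [Ring A] [Algebra R A] [Module.Finite R A] [Module.Free R A] [Nontrivial A] : IsAzumaya R A ↔ (Algebra.IsCentral (IsLocalRing.ResidueField R) ((IsLocalRing.ResidueField R) ⊗[R] A) ∧ IsSimpleRing ((IsLocalRing.ResidueField R) ⊗[R] A)) := by
  exact ⟨fun h => forward R A h, fun h => backward R A h.1 h.2⟩

end Groth.Agent.S3245
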