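import Groth.Statements.S8923
import Mathlib
import Groth.Agent.Lib.Helper22.InvStalk
import Groth.Agent.Lib.Helper22.DivLocFin
import Groth.Agent.S6459
-- import your own Groth.Agent.* helpers here

set_option autoImplicit false
universe u
open CategoryTheory CategoryTheory.Limits AlgebraicGeometry TopologicalSpace
open SDiv

namespace Groth.Agent.S8923

section PRE
open Groth.Agent.Lib.Helper22.InvStalk Groth.Agent.Lib.Helper22.DivLocFin
open Groth.Agent.Lib.QCoh Groth.Agent.Lib.Ample
open Groth.Agent.S6459 (pt pt_specializes_iff pt_injective pt_closedPoint exists_pt_eq pt_specializes)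
open Cyc IsLocalRing

variable {X : Scheme.{u}} {L : X.Modules}

/-- `secOrdAt` through the chosen generator of `L_x`. -/
lemma secOrdAt_eq' (hL : PicF.IsInvertible L) {ξ x : X} (h : ξ ⤳ x) :
    ∃ t : L.presheaf.stalk x, Submodule.span (X.presheaf.stalk x) {t} = ⊤ ∧
      ∀ s : secFibre L ξ, ∃ φ : X.presheaf.stalk ξ,
      s = φ • (Submodule.Quotient.mk ((L.presheaf.stalkSpecializes h).hom t) : secFibre L ξ) ∧
        secOrdAt L ξ x h s = ordAt x ξ h ((X.residue ξ).hom φ) := by
  have ht := exists_gen hL x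
  have hb := isBasis_of_gen hL h (Classical.choose ht) (Classical.choose_spec ht)
  refine ⟨Classical.choose ht, Classical.choose_spec ht, fun s => ?_⟩
  have hφ : ∃ φ : X.presheaf.stalk ξ,
      s = φ • (Submodule.Quotient.mk ((L.presheaf.stalkSpecializes h) (Classical.choose ht)) :
        secFibre L ξ) := hb.1 s
  refine ⟨Classical.choose hφ, Classical.choose_spec hφ, ?_⟩
  unfold secOrdAt
  rw [dif_pos ht, dif_pos hφ]

/-- on a trivializing open, `secOrdAt` is the order of the coordinate up to a unit of `O_{X,x}`. -/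
lemma secOrdAt_triv (hL : PicF.IsInvertible L) {U : X.Opens} {e : Γ(L, U)}
    (he : IsGenerator L U e) {ξ x : X} (h : ξ ⤳ x) (hxU : x ∈ U) (s : secFibre L ξ)
    (φ : X.presheaf.stalk ξ)
    (hs : s = φ • (Submodule.Quotient.mk
      (L.presheaf.germ U ξ (h.mem_open U.isOpen hxU) e) : secFibre L ξ)) :
    ∃ (a : X.presheaf.stalk x) (φx : X.presheaf.stalk ξ), IsUnit a ∧
      (X.residue ξ).hom φ = (X.residue ξ).hom φx * specMap x ξ h a ∧
      secOrdAt L ξ x h s = ordAt x ξ h ((X.residue ξ).hom φx) := by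
  obtain ⟨t, ht, hst⟩ := secOrdAt_eq' hL h
  obtain ⟨φx, h1, h2⟩ := hst s
  obtain ⟨a, ha⟩ := gen_span he x hxU t
  obtain ⟨b, hb⟩ : ∃ b : X.presheaf.stalk x, b • t = L.presheaf.germ U x hxU e := by
    have : L.presheaf.germ U x hxU e ∈ Submodule.span (X.presheaf.stalk x) {t} := by
      rw [ht]; trivial
    exact Submodule.mem_span_singleton.mp this
  have hba : b * a = 1 := by
    have : (b * a - 1) • L.presheaf.germ U x hxU e = 0 := by
      rw [sub_smul, mul_smul, ← ha, hb, one_smul, sub_self]
    have := gen_free he x hxU _ this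
    exact sub_eq_zero.mp this
  have hau : IsUnit a := IsUnit.of_mul_eq_one_right b hba
  refine ⟨a, φx, hau, ?_, h2⟩
  have hg : IsBasis ξ (Submodule.Quotient.mk
      (L.presheaf.germ U ξ (h.mem_open U.isOpen hxU) e) : secFibre L ξ) := by
    have hspan : Submodule.span (X.presheaf.stalk x) {L.presheaf.germ U x hxU e} = ⊤ := by
      rw [eq_top_iff]
      intro m _
      obtain ⟨c, rfl⟩ := gen_span he x hxU m
      exact Submodule.mem_span_singleton.mpr ⟨c, rfl⟩
    have := isBasis_of_gen hL h _ hspan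
    rwa [sp_germ] at this
  have e1 : (Submodule.Quotient.mk ((L.presheaf.stalkSpecializes h).hom t) : secFibre L ξ) =
      (X.presheaf.stalkSpecializes h).hom a • (Submodule.Quotient.mk
      (L.presheaf.germ U ξ (h.mem_open U.isOpen hxU) e) : secFibre L ξ) := by
    rw [ha, sp_smul, sp_germ, Submodule.Quotient.mk_smul]
  rw [e1, smul_smul] at h1
  have : φ - φx * (X.presheaf.stalkSpecializes h).hom a ∈ maximalIdeal (X.presheaf.stalk ξ) := by
    apply hg.2
    rw [sub_smul, ← h1, ← hs, sub_self]
  have h3 := (IsLocalRing.residue_eq_zero_iff _).mpr this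
  have h4 : (X.residue ξ).hom (φ - φx * (X.presheaf.stalkSpecializes h).hom a) = 0 := h3
  rw [map_sub, sub_eq_zero, map_mul] at h4
  exact h4

lemma gen_or_self [IsIntegral X] (x : X) (hd : ringKrullDim (X.presheaf.stalk x) = 1)
    (z : X) (h : z ⤳ x) : z = genericPoint X ∨ z = x := by
  obtain ⟨p, hp⟩ := exists_pt_eq x z h
  by_cases hb : p.asIdeal = ⊥
  · left
    have hη : genericPoint X ⤳ x := genericPoint_specializes x
    obtain ⟨q, hq⟩ := exists_pt_eq x (genericPoint X) hη
    have hpq : p ≤ q := by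
      show p.asIdeal ≤ q.asIdeal
      rw [hb]; exact bot_le
    have h1 : z ⤳ genericPoint X := by
      rw [← hp, ← hq]
      exact (pt_specializes_iff x p q).mpr hpq
    exact (h1.antisymm (genericPoint_specializes z)).eq
  · right
    haveI : Ring.KrullDimLE 1 (X.presheaf.stalk x) := by
      rw [Ring.krullDimLE_iff, hd]; rfl
    have hmax : p.asIdeal.IsMaximal := Ideal.IsPrime.isMaximal_of_ne_bot p.2 hb
    have h2 : p = IsLocalRing.closedPoint (X.presheaf.stalk x) := by
      apply PrimeSpectrum.ext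
      exact IsLocalRing.eq_maximalIdeal hmax
    rw [← hp, h2, pt_closedPoint]

lemma ord_zero_nbhd [IsIntegral X] (hL : PicF.IsInvertible L)
    (s : secFibre L (genericPoint X)) (hs : s ≠ 0) (x0 : X) :
    ∃ (U W : X.Opens), x0 ∈ U ∧ genericPoint X ∈ W ∧
      ∀ x ∈ U, x ∈ W → ∀ h : genericPoint X ⤳ x, secOrdAt L (genericPoint X) x h s = 0 := by
  obtain ⟨U, hx0U, e, he⟩ := exists_isGenerator_of_isInvertible hL x0
  have hη : genericPoint X ⤳ x0 := genericPoint_specializes x0
  have hηU : genericPoint X ∈ U := hη.mem_open U.isOpen hx0U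
  have hg : IsBasis (genericPoint X) (Submodule.Quotient.mk
      (L.presheaf.germ U (genericPoint X) hηU e) : secFibre L (genericPoint X)) := by
    have hspan : Submodule.span (X.presheaf.stalk x0) {L.presheaf.germ U x0 hx0U e} = ⊤ := by
      rw [eq_top_iff]
      intro m _
      obtain ⟨c, rfl⟩ := gen_span he x0 hx0U m
      exact Submodule.mem_span_singleton.mpr ⟨c, rfl⟩
    have := isBasis_of_gen hL hη _ hspan
    rwa [sp_germ] at this
  obtain ⟨φ, hφ⟩ := hg.1 s
  have hφu : IsUnit φ := by
    by_contra hnu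
    apply hs
    rw [hφ]
    exact max_smul_eq_zero _ φ hnu _
  obtain ⟨W', hηW', f, hf⟩ := X.presheaf.germ_exist (x := genericPoint X) φ
  refine ⟨U, X.basicOpen f, hx0U, ?_, ?_⟩
  · rw [Scheme.mem_basicOpen _ _ _ hηW', hf]
    exact hφu
  · intro x hxU hxW h
    obtain ⟨a, φx, hau, hres, hord⟩ := secOrdAt_triv hL he h hxU s φ hφ
    rw [hord]
    have hxW' : x ∈ W' := X.basicOpen_le f hxW
    have hu : IsUnit (X.presheaf.germ W' x hxW' f) := (Scheme.mem_basicOpen _ _ _ hxW').mp hxW
    obtain ⟨a', ha'⟩ := hau.exists_right_inv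
    have hfφ : specMap x (genericPoint X) h (X.presheaf.germ W' x hxW' f) =
        (X.residue (genericPoint X)).hom φ := by
      show (X.residue (genericPoint X)).hom ((X.presheaf.stalkSpecializes h).hom
        (X.presheaf.germ W' x hxW' f)) = _
      rw [spO_germ, hf]
    have e : (X.residue (genericPoint X)).hom φx =
        algebraMap (Cyc.LocQuot x (genericPoint X) h) (X.residueField (genericPoint X))
        (Ideal.Quotient.mk _ (X.presheaf.germ W' x hxW' f * a')) := by
      show _ = Cyc.specMap x (genericPoint X) h (X.presheaf.germ W' x hxW' f * a')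
      rw [map_mul, hfφ, hres, mul_assoc, ← map_mul, ha', map_one, mul_one]
    unfold Cyc.ordAt
    rw [e]
    have hu' : IsUnit (X.presheaf.germ W' x hxW' f * a') :=
      hu.mul (IsUnit.of_mul_eq_one_right a ha')
    exact ordFrac_unit _ (hu'.map _)

theorem main (X : Scheme.{u}) [IsIntegral X] [IsLocallyNoetherian X] (L : X.Modules)
    (hL : PicF.IsInvertible L) (s : Cyc.secFibre L (genericPoint ↥X)) (hs : s ≠ 0) :
    LocallyFinite (fun x : {x : ↥X // ringKrullDim ↑(X.presheaf.stalk x) = 1 ∧
        Cyc.secOrdAt L (genericPoint ↥X) x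
          ((genericPoint_spec ↥X).specializes (Set.mem_univ x)) s ≠ 0} =>
      closure ({x.1} : Set ↥X)) := by
  intro x0
  obtain ⟨U, W, hx0U, hηW, hord⟩ := ord_zero_nbhd hL s hs x0
  have hT : IsClosed ((W : Set X)ᶜ) := W.isOpen.isClosed_compl
  obtain ⟨V, hVo, hx0V, hfin⟩ := maxpts_locfin scheme_locNoeth _ hT x0
  refine ⟨V ∩ (U : Set X), (hVo.inter U.isOpen).mem_nhds ⟨hx0V, hx0U⟩, ?_⟩
  refine (hfin.preimage Subtype.val_injective.injOn).subset ?_
  rintro i ⟨z, hz1, hzV, hzU⟩
  have hsp : i.1 ⤳ z := specializes_iff_mem_closure.mpr hz1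
  have hiV : i.1 ∈ V := hsp.mem_open hVo hzV
  have hiU : i.1 ∈ U := hsp.mem_open U.isOpen hzU
  have hiW : i.1 ∉ (W : Set X) := fun hw => i.2.2 (hord i.1 hiU hw _)
  refine ⟨hiV, hiW, ?_⟩
  intro z' hz'T hz'
  rcases gen_or_self i.1 i.2.1 z' hz' with h | h
  · exact absurd (h ▸ hηW) hz'T
  · exact h

end PRE

/-- Let X be an integral scheme that is locally Noetherian, L an invertible O_X-module and s a nonzero
rational (regular meromorphic) section of L, viewed as a nonzero element of the stalk of L at the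
generic point. Then the collection of prime divisors Z ⊆ X with ord_{Z,L}(s) ≠ 0, i.e. the closures
of the codimension-1 points x (dim O_{X,x} = 1) along which s has nonzero order, is locally finite
in X. -/
theorem result (X : Scheme.{u}) [IsIntegral X] [IsLocallyNoetherian X] (L : X.Modules)
    (hL : PicF.IsInvertible L) (s : Cyc.secFibre L (genericPoint ↥X)) (hs : s ≠ 0) :
    LocallyFinite (fun x : {x : ↥X // ringKrullDim ↑(X.presheaf.stalk x) = 1 ∧
        Cyc.secOrdAt L (genericPoint ↥X) x ((genericPoint_spec ↥X).specializes (Set.mem_univ x)) s ≠ 0} => closure ({x.1} : Set ↥X)) := by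
  exact main X L hL s hs

end Groth.Agent.S8923
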