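import Groth.Statements.S7446
import Groth.Agent.Lib.Helper38.BddFib

set_option autoImplicit false
universe u
open CategoryTheory AlgebraicGeometry
open BddFib

set_option linter.style.haveILetI false
open Limits Groth.Agent.Lib.Helper38

namespace Groth.Agent.S7446

theorem evaluation_surjective {T : Scheme.{u}} [IsAffine T] [IsArtinianRing Γ(T, ⊤)] (x : T) :
    Function.Surjective (T.Γevaluation x) := by
  letI := TopCat.Presheaf.algebra_section_stalk T.presheaf (⟨x, trivial⟩ : ((⊤ : T.Opens) : Type _))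
  have hloc := (isAffineOpen_top T).isLocalization_stalk ⟨x, trivial⟩
  have h1 : Function.Surjective (algebraMap Γ(T, ⊤) (T.presheaf.stalk x)) :=
    IsArtinianRing.localization_surjective
      ((isAffineOpen_top T).primeIdealOf ⟨x, trivial⟩).asIdeal.primeCompl _
  have h2 : Function.Surjective (T.residue x) := Ideal.Quotient.mk_surjective
  exact h2.comp h1

/-- algebra: finrank of the target of a surjection equals finrank of quotient by kernel -/
theorem finrank_of_surj {k A K : Type*} [Field k] [CommRing A] [Algebra k A] [CommRing K]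
    (ev : A →+* K) (hev : Function.Surjective ev) :
    letI : Algebra k K := (ev.comp (algebraMap k A)).toAlgebra
    Module.finrank k K = Module.finrank k (A ⧸ RingHom.ker ev) := by
  letI : Algebra k K := (ev.comp (algebraMap k A)).toAlgebra
  let evA : A →ₐ[k] K := { ev with commutes' := fun r => rfl }
  have hs : Function.Surjective evA := hev
  exact (LinearEquiv.finrank_eq (Ideal.quotientKerAlgEquivOfSurjective hs).toLinearEquiv).symm

/-- the residue degree computed over `k` -/
theorem residueDegree_eq {k : Type u} [Field k] {T : Scheme.{u}}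
    (p : T ⟶ Spec (CommRingCat.of k)) (x : T) :
    letI : Algebra k (T.residueField x) :=
      ((T.Γevaluation x).hom.comp ((Scheme.ΓSpecIso (CommRingCat.of k)).inv ≫ p.appTop).hom).toAlgebra
    p.residueDegree x = Module.finrank k (T.residueField x) := by
  letI : Algebra k (T.residueField x) :=
      ((T.Γevaluation x).hom.comp ((Scheme.ΓSpecIso (CommRingCat.of k)).inv ≫ p.appTop).hom).toAlgebra
  letI := (p.residueFieldMap x).hom.toAlgebra
  change Module.finrank ((Spec (CommRingCat.of k)).residueField (p x)) (T.residueField x) = _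
  let S := Spec (CommRingCat.of k)
  haveI : IsArtinianRing Γ(S, ⊤) := by
    have e : (CommRingCat.of k) ≃+* Γ(S, ⊤) := (Scheme.ΓSpecIso (CommRingCat.of k)).symm.commRingCatIsoToRingEquiv
    haveI : IsArtinianRing (CommRingCat.of k) := inferInstanceAs (IsArtinianRing k)
    exact e.isArtinianRing
  let i0 : k →+* S.residueField (p x) :=
    ((Scheme.ΓSpecIso (CommRingCat.of k)).inv ≫ S.Γevaluation (p x)).hom
  have hi0 : Function.Bijective i0 := by
    refine ⟨i0.injective, ?_⟩
    have h1 := evaluation_surjective (T := S) (p x)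
    have h2 : Function.Surjective (Scheme.ΓSpecIso (CommRingCat.of k)).inv :=
      (ConcreteCategory.bijective_of_isIso _).2
    exact h1.comp h2
  let i : k ≃+* S.residueField (p x) := RingEquiv.ofBijective i0 hi0
  refine (Algebra.finrank_eq_of_equiv_equiv i (RingEquiv.refl _) ?_).symm
  have hn := AlgebraicGeometry.Scheme.evaluation_naturality p (V := ⊤) x trivial
  ext r
  have h3 := ConcreteCategory.congr_hom hn ((Scheme.ΓSpecIso (CommRingCat.of k)).inv r)
  exact h3

theorem ker_evaluation {T : Scheme.{u}} [IsAffine T] (x : T) :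
    RingHom.ker (T.Γevaluation x).hom =
      ((isAffineOpen_top T).primeIdealOf ⟨x, trivial⟩).asIdeal := by
  rw [(isAffineOpen_top T).primeIdealOf_eq_map_closedPoint]
  ext a
  rw [RingHom.mem_ker]
  change IsLocalRing.residue _ (T.presheaf.germ ⊤ x trivial a) = 0 ↔
    T.presheaf.germ ⊤ x trivial a ∈ IsLocalRing.maximalIdeal _
  rw [IsLocalRing.residue_eq_zero_iff]

theorem sum_deg_le {k : Type u} [Field k] {T : Scheme.{u}} (p : T ⟶ Spec (CommRingCat.of k))
    (n : ℕ) (h : BddFib.FiniteOfDegLE (CommRingCat.of k) p n) :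
    Finite T ∧ ∑ᶠ x : T, p.residueDegree x ≤ n := by
  classical
  obtain ⟨hfinT, -⟩ := card_le_of_finiteOfDegLE h
  refine ⟨hfinT, ?_⟩
  obtain ⟨haff, hfin, hrk⟩ := h
  letI : Algebra k Γ(T, ⊤) := BddFib.secAlgebra (CommRingCat.of k) p
  haveI : Module.Finite k Γ(T, ⊤) := hfin
  haveI : IsArtinianRing Γ(T, ⊤) := IsArtinianRing.of_finite k _
  haveI : Fintype T := Fintype.ofFinite T
  haveI : Fintype (MaximalSpectrum Γ(T, ⊤)) := Fintype.ofFinite _
  let ev : ∀ x : T, Γ(T, ⊤) →+* T.residueField x := fun x => (T.Γevaluation x).hom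
  have hev : ∀ x, Function.Surjective (ev x) := fun x => evaluation_surjective x
  let ι : T → MaximalSpectrum Γ(T, ⊤) := fun x =>
    ⟨RingHom.ker (ev x), RingHom.ker_isMaximal_of_surjective _ (hev x)⟩
  have hι : Function.Injective ι := by
    intro x y hxy
    have h1 : RingHom.ker (ev x) = RingHom.ker (ev y) := congrArg MaximalSpectrum.asIdeal hxy
    rw [ker_evaluation, ker_evaluation] at h1
    have h2 : (isAffineOpen_top T).primeIdealOf ⟨x, trivial⟩ =
        (isAffineOpen_top T).primeIdealOf ⟨y, trivial⟩ := PrimeSpectrum.ext h1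
    have h3 := (isAffineOpen_top T).fromSpec_primeIdealOf ⟨x, trivial⟩
    have h4 := (isAffineOpen_top T).fromSpec_primeIdealOf ⟨y, trivial⟩
    rw [h2] at h3
    exact h3.symm.trans h4
  have hdeg : ∀ x, p.residueDegree x = Module.finrank k (Γ(T, ⊤) ⧸ (ι x).asIdeal) := by
    intro x
    rw [residueDegree_eq p x]
    exact finrank_of_surj (k := k) (ev x) (hev x)
  have e0 : ∑ᶠ x : T, p.residueDegree x = ∑ x : T, p.residueDegree x := finsum_eq_sum_of_fintype _
  have e1 : ∑ x, p.residueDegree x = ∑ x, Module.finrank k (Γ(T, ⊤) ⧸ (ι x).asIdeal) :=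
        Finset.sum_congr rfl (fun x _ => hdeg x)
  let F : MaximalSpectrum Γ(T, ⊤) → ℕ := fun I => Module.finrank k (Γ(T, ⊤) ⧸ I.asIdeal)
  have e2 : ∑ x, F (ι x) = ∑ I ∈ Finset.univ.image ι, F I :=
    (Finset.sum_image (fun a _ b _ h => hι h)).symm
  have e3 : ∑ I ∈ Finset.univ.image ι, F I ≤ ∑ I, F I :=
    Finset.sum_le_sum_of_subset (Finset.subset_univ _)
  have e4 : ∑ I : MaximalSpectrum Γ(T, ⊤), F I ≤ Module.finrank k Γ(T, ⊤) := sum_finrank_quotient_le_finrank k _
  rw [e0, e1]
  exact (e2.le.trans e3).trans (e4.trans hrk)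

theorem main {X Y : Scheme.{u}} (f : X ⟶ Y) (n : ℕ) (hf : BddFib.FibreDegLE f n)
    (k : Type u) [Field k] (g : Spec (CommRingCat.of k) ⟶ Y) :
    Finite ↥(Limits.pullback f g) ∧
      ∑ᶠ x : ↥(Limits.pullback f g), (Limits.pullback.snd f g).residueDegree x ≤ n :=
  sum_deg_le _ n ((fibreDegLE_iff_forall_field_points f n).1 hf k g _ _ _
    (IsPullback.of_hasPullback f g))

end Groth.Agent.S7446

namespace Groth.Agent.S7446

/-- When every fibre of `f : X → Y` has degree at most `n`, then for every field `k` and every `Spec k →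
Y`, writing `X_k = {x_1, …, x_t}`, one has `Σ_i [κ(x_i) : k] ≤ n`. (Residue degrees are taken along
`X_k → Spec k`; `X_k` is finite, so the sum is a finite sum.) -/
theorem result {X Y : Scheme.{u}} (f : X ⟶ Y) (n : ℕ) (hf : BddFib.FibreDegLE f n)
    (k : Type u) [Field k] (g : Spec (CommRingCat.of k) ⟶ Y) :
    Finite ↥(Limits.pullback f g) ∧
      ∑ᶠ x : ↥(Limits.pullback f g), (Limits.pullback.snd f g).residueDegree x ≤ n := by

  exact Groth.Agent.S7446.main f n hf k g

end Groth.Agent.S7446
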