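import Groth.Statements.S5354
import Mathlib

set_option autoImplicit false
universe u
open CategoryTheory CategoryTheory.Limits MonoidalCategory CartesianMonoidalCategory MonObj GrpObj AlgebraicGeometry
open SGA3

namespace Groth.Agent.S5354


theorem closure_image_mem {X Y : Scheme.{u}} (f : X ⟶ Y) (hf : GeneralizingMap f) (w : X)
    (hw : closure {w} ∈ irreducibleComponents ↥X) :
    closure {f w} ∈ irreducibleComponents ↥Y := by
  refine ⟨isIrreducible_singleton.closure, ?_⟩
  intro Z hZ hle
  obtain ⟨y, hy⟩ := QuasiSober.sober hZ.closure isClosed_closure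
  have hfw : f w ∈ closure ({y} : Set Y) := by
    rw [hy.def]
    exact subset_closure (hle (subset_closure rfl))
  have hspec : y ⤳ f w := specializes_iff_mem_closure.mpr hfw
  obtain ⟨w', hw', hfw'⟩ := hf hspec
  have h1 : closure ({w} : Set X) ⊆ closure {w'} :=
    (isClosed_closure.closure_subset_iff).mpr
      (Set.singleton_subset_iff.mpr (specializes_iff_mem_closure.mp hw'))
  have h2 : closure ({w'} : Set X) ⊆ closure {w} :=
    hw.2 isIrreducible_singleton.closure h1
  have h3 : w ⤳ w' := specializes_iff_mem_closure.mpr (h2 (subset_closure rfl))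
  have h4 : f w ⤳ y := hfw' ▸ h3.map f.continuous
  have h5 : y ∈ closure ({f w} : Set Y) := specializes_iff_mem_closure.mp h4
  calc Z ⊆ closure Z := subset_closure
    _ = closure {y} := hy.def.symm
    _ ⊆ closure {f w} := (isClosed_closure.closure_subset_iff).mpr (Set.singleton_subset_iff.mpr h5)

/-- Let G be a group scheme over a field k (not assumed of finite type). For every point x of G there is
a point z of G ×_k G with product x whose two projections are maximal points of G (generic points of
irreducible components). -/
theorem result (k : Type u) [Field k] (G : Over (Spec (CommRingCat.of k))) [GrpObj G] (x : G.left) :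
    ∃ z : ↥(G ⊗ G).left, μ[G].left.base z = x ∧
      closure {(fst G G).left.base z} ∈ irreducibleComponents ↥G.left ∧
      closure {(snd G G).left.base z} ∈ irreducibleComponents ↥G.left := by
  classical
  let T : Over (Spec (CommRingCat.of k)) := Over.mk (G.left.fromSpecResidueField x ≫ G.hom)
  let xT : T ⟶ G := Over.homMk (G.left.fromSpecResidueField x) rfl
  let s : T ⟶ G ⊗ T := lift (toUnit T ≫ η[G]) (𝟙 T)
  have hne : Nonempty T.left := inferInstanceAs (Nonempty (Spec (G.left.residueField x)))
  obtain ⟨t0⟩ := hne
  let w0 : (G ⊗ T).left := s.left.base t0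
  obtain ⟨w, hw⟩ := QuasiSober.sober (isIrreducible_irreducibleComponent (x := w0))
    isClosed_irreducibleComponent
  have hwmax : closure {w} ∈ irreducibleComponents ↥(G ⊗ T).left := by
    rw [hw.def]
    exact irreducibleComponent_mem_irreducibleComponents w0
  have hflatT : Flat T.hom := inferInstance
  have hflat1 : Flat (fst G T).left := inferInstanceAs (Flat (pullback.fst G.hom T.hom))
  let b : G ⊗ T ⟶ G := (fst G T)⁻¹ * (snd G T ≫ xT)
  let φ : G ⊗ T ⟶ G ⊗ T := lift b (snd G T)
  let ψ : G ⊗ T ⟶ G ⊗ T := lift ((snd G T ≫ xT) * (fst G T)⁻¹) (snd G T)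
  have hφψ : φ ≫ ψ = 𝟙 _ := by
    apply CartesianMonoidalCategory.hom_ext
    · simp only [φ, ψ, b, Category.assoc, lift_fst, Category.id_comp, MonObj.comp_mul,
        GrpObj.comp_inv, lift_snd_assoc, lift_fst, _root_.mul_inv_rev, _root_.inv_inv]
      simp
    · simp [φ, ψ]
  have hψφ : ψ ≫ φ = 𝟙 _ := by
    apply CartesianMonoidalCategory.hom_ext
    · simp only [φ, ψ, b, Category.assoc, lift_fst, Category.id_comp, MonObj.comp_mul,
        GrpObj.comp_inv, lift_snd_assoc, lift_fst, _root_.mul_inv_rev, _root_.inv_inv]
      simp
    · simp [φ, ψ]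
  have hφiso : IsIso φ := ⟨ψ, hφψ, hψφ⟩
  have hφl : IsIso φ.left := inferInstanceAs (IsIso ((Over.forget _).map φ))
  have hb : b = φ ≫ fst G T := by simp [φ]
  have hflat2 : Flat b.left := by
    rw [hb, Over.comp_left]
    infer_instance
  refine ⟨(lift (fst G T) b).left.base w, ?_, ?_, ?_⟩
  · have h1 : lift (fst G T) b ≫ μ[G] = snd G T ≫ xT := by
      show fst G T * b = _
      simp [b]
    have h2 := congrArg (fun t => t.left.base w) h1
    refine h2.trans ?_
    show (G.left.fromSpecResidueField x).base ((snd G T).left.base w) = x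
    exact Scheme.fromSpecResidueField_apply _ _
  · have h1 : lift (fst G T) b ≫ fst G G = fst G T := lift_fst _ _
    have h2 : (fst G G).left.base ((lift (fst G T) b).left.base w) = (fst G T).left.base w :=
      congrArg (fun t => t.left.base w) h1
    rw [h2]
    exact closure_image_mem _ (Flat.generalizingMap _) w hwmax
  · have h1 : lift (fst G T) b ≫ snd G G = b := lift_snd _ _
    have h2 : (snd G G).left.base ((lift (fst G T) b).left.base w) = b.left.base w :=
      congrArg (fun t => t.left.base w) h1
    rw [h2]
    exact closure_image_mem _ (Flat.generalizingMap _) w hwmax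

end Groth.Agent.S5354
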