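import Groth.Statements.S0346
import Mathlib.CategoryTheory.Monoidal.Cartesian.Grp
import Mathlib.CategoryTheory.Limits.Constructions.Over.Connected
import Mathlib.AlgebraicGeometry.Morphisms.QuasiSeparated
-- import your own Groth.Agent.* helpers here

set_option autoImplicit false
universe u v
open CategoryTheory MonoidalCategory CartesianMonoidalCategory MonObj GrpObj AlgebraicGeometry
open GrpSch

namespace Groth.Agent.S0346

open Limits in
lemma isPullback_diag {C : Type*} [Category C] [CartesianMonoidalCategory C] (G : C) [GrpObj G] :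
    IsPullback (toUnit G) (lift (𝟙 G) (𝟙 G)) η[G] (fst G G / snd G G) := by
  have w : toUnit G ≫ η[G] = lift (𝟙 G) (𝟙 G) ≫ (fst G G / snd G G) := by
    rw [GrpObj.comp_div, lift_fst, lift_snd, div_self', Hom.one_def]
  refine ⟨⟨w⟩, ⟨PullbackCone.IsLimit.mk _ (fun s => s.snd ≫ fst G G) ?_ ?_ ?_⟩⟩
  · intro s
    exact toUnit_unique _ _
  · intro s
    have hc := s.condition
    rw [GrpObj.comp_div] at hc
    have h1 : s.fst ≫ η[G] = 1 := by
      rw [Hom.one_def]; congr 1; exact toUnit_unique _ _
    rw [h1] at hc
    have h2 : s.snd ≫ fst G G = s.snd ≫ snd G G := (div_eq_one.mp hc.symm)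
    apply CartesianMonoidalCategory.hom_ext
    · simp
    · simp [h2]
  · intro s m h1 h2
    rw [← h2]; simp

open Limits in
lemma isPullback_unit {C : Type*} [Category C] [CartesianMonoidalCategory C] (G : C) [GrpObj G] :
    IsPullback η[G] η[G] (lift (𝟙 G) (𝟙 G)) (lift (𝟙 G) (toUnit G ≫ η[G])) := by
  have w : η[G] ≫ lift (𝟙 G) (𝟙 G) = η[G] ≫ lift (𝟙 G) (toUnit G ≫ η[G]) := by
    apply CartesianMonoidalCategory.hom_ext
    · simp
    · simp only [Category.assoc, lift_snd, Category.comp_id]
      rw [← Category.assoc, toUnit_unique (η[G] ≫ toUnit G) (𝟙 _), Category.id_comp]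
  refine ⟨⟨w⟩, ⟨PullbackCone.IsLimit.mk _ (fun s => toUnit s.pt) ?_ ?_ ?_⟩⟩
  · intro s
    have hc := s.condition
    have h1 := congrArg (· ≫ fst G G) hc
    have h2 := congrArg (· ≫ snd G G) hc
    simp only [Category.assoc, lift_fst, lift_snd, Category.comp_id] at h1 h2
    rw [h2, ← Category.assoc, toUnit_unique (s.snd ≫ toUnit G) (toUnit s.pt)]
  · intro s
    have hc := s.condition
    have h1 := congrArg (· ≫ fst G G) hc
    have h2 := congrArg (· ≫ snd G G) hc
    simp only [Category.assoc, lift_fst, lift_snd, Category.comp_id] at h1 h2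
    rw [← h1, h2, ← Category.assoc, toUnit_unique (s.snd ≫ toUnit G) (toUnit s.pt)]
  · intro s m h1 h2
    exact toUnit_unique _ _

lemma diag_left (S : Scheme.{u}) (G : Over S) :
    (lift (𝟙 G) (𝟙 G)).left = Limits.pullback.diagonal G.hom := by
  apply Limits.pullback.hom_ext
  · simp only [Over.lift_left, Over.id_left, Limits.pullback.diagonal_fst]
    exact Limits.pullback.lift_fst _ _ _
  · simp only [Over.lift_left, Over.id_left, Limits.pullback.diagonal_snd]
    exact Limits.pullback.lift_snd _ _ _

lemma iff_aux (S : Scheme.{u}) (G : Over S) [GrpObj G] (P : MorphismProperty Scheme.{u})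
    [P.IsStableUnderBaseChange] : P (Limits.pullback.diagonal G.hom) ↔ P η[G].left := by
  have ha := (isPullback_diag G).map (Over.forget S)
  have hb := (isPullback_unit G).map (Over.forget S)
  simp only [Over.forget_map] at ha hb
  rw [← diag_left]
  exact ⟨fun h => P.of_isPullback hb h, fun h => P.of_isPullback ha h⟩

/-- A group scheme over any base scheme is separated over the base exactly when its unit section is a
closed immersion, and quasi-separated exactly when the unit section is quasi-compact. -/
theorem result (S : Scheme.{u}) (G : Over S) [GrpObj G] : (IsSeparated G.hom ↔ IsClosedImmersion η[G].left) ∧ (QuasiSeparated G.hom ↔ QuasiCompact η[G].left) := by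
  constructor
  · rw [← iff_aux S G @IsClosedImmersion]
    exact ⟨fun h => h.1, fun h => ⟨h⟩⟩
  · rw [← iff_aux S G @QuasiCompact]
    exact ⟨fun h => h.1, fun h => ⟨h⟩⟩

end Groth.Agent.S0346
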