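import Groth.Statements.S0350
import Mathlib
import Groth.Agent.Lib.Helper21.FieldTower

set_option autoImplicit false
set_option linter.style.haveILetI false
universe u v
open CategoryTheory MonoidalCategory CartesianMonoidalCategory MonObj GrpObj AlgebraicGeometry
open GrpSch

namespace Groth.Agent.S0350
open CategoryTheory MonoidalCategory CartesianMonoidalCategory MonObj GrpObj AlgebraicGeometry Limits
open TopologicalSpace

section top

/-- at most one irreducible component through `x`. -/
def UniqueComp {X : Type*} [TopologicalSpace X] (x : X) : Prop :=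
  ∀ Z ∈ irreducibleComponents X, ∀ Z' ∈ irreducibleComponents X, x ∈ Z → x ∈ Z' → Z = Z'

variable {X Y : Type*} [TopologicalSpace X] [TopologicalSpace Y] [QuasiSober X]

/-- Lemma L: uniqueness of the component descends along generalizing continuous maps. -/
theorem UniqueComp.of_generalizingMap {π : Y → X} (hπ : Continuous π) (hg : GeneralizingMap π)
    {y : Y} (hy : UniqueComp y) : UniqueComp (π y) := by
  -- key: for any component Z through π y, there is a component W through y with Z = closure (π '' W)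
  have key : ∀ Z ∈ irreducibleComponents X, π y ∈ Z →
      ∃ W ∈ irreducibleComponents Y, y ∈ W ∧ Z ⊆ closure (π '' W) := by
    intro Z hZ hxZ
    have hZcl : IsClosed Z := isClosed_of_mem_irreducibleComponents Z hZ
    have hξ : IsGenericPoint hZ.1.genericPoint Z := hZ.1.isGenericPoint_genericPoint hZcl
    have hξx : hZ.1.genericPoint ⤳ π y := hξ.specializes hxZ
    obtain ⟨t, hty, hπt⟩ := hg hξx
    obtain ⟨W, hW, htW⟩ := exists_mem_irreducibleComponents_subset_of_isIrreducible
      ({t} : Set Y) isIrreducible_singleton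
    have hWcl : IsClosed W := isClosed_of_mem_irreducibleComponents W hW
    refine ⟨W, hW, hty.mem_closed hWcl (htW rfl), ?_⟩
    rw [← hξ.def]
    apply closure_minimal _ isClosed_closure
    rw [Set.singleton_subset_iff, ← hπt]
    exact subset_closure ⟨t, htW rfl, rfl⟩
  intro Z hZ Z' hZ' hxZ hxZ'
  obtain ⟨W, hW, hyW, hZW⟩ := key Z hZ hxZ
  obtain ⟨W', hW', hyW', hZW'⟩ := key Z' hZ' hxZ'
  obtain rfl := hy W hW W' hW' hyW hyW'
  have hirr : IsIrreducible (closure (π '' W)) := (hW.1.image π hπ.continuousOn).closure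
  have h1 : closure (π '' W) ⊆ Z := hZ.2 hirr hZW
  have h2 : closure (π '' W) ⊆ Z' := hZ'.2 hirr hZW'
  exact Set.Subset.antisymm (hZW.trans h2) (hZW'.trans h1)

end top

section minprimes

theorem closure_singleton_mem_irreducibleComponents {X : Type*} [TopologicalSpace X] [QuasiSober X]
    {x : X} (h : ∀ z, z ⤳ x → x ⤳ z) : closure ({x} : Set X) ∈ irreducibleComponents X := by
  refine ⟨isIrreducible_singleton.closure, ?_⟩
  intro Z hZ hle
  have hg : IsGenericPoint hZ.genericPoint (closure Z) := hZ.isGenericPoint_genericPoint_closure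
  have hxZ : x ∈ closure Z := subset_closure (hle (subset_closure rfl))
  have h1 : hZ.genericPoint ⤳ x := hg.specializes hxZ
  have h2 : x ⤳ hZ.genericPoint := h _ h1
  intro z hz
  have : hZ.genericPoint ⤳ z := hg.specializes (subset_closure hz)
  exact specializes_iff_mem_closure.mp (h2.trans this)

theorem minimalPrimes_subsingleton_of_uniqueComp {X : Scheme.{u}} (x : X) (h : UniqueComp x) :
    (minimalPrimes (X.presheaf.stalk x)).Subsingleton := by
  have hemb : Topology.IsEmbedding (X.fromSpecStalk x) := (X.fromSpecStalk x).isEmbedding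
  have hrange : Set.range (X.fromSpecStalk x) = {y | y ⤳ x} := Scheme.range_fromSpecStalk
  -- every minimal prime gives a component through x
  have key : ∀ p ∈ minimalPrimes (X.presheaf.stalk x), ∀ hp : p.IsPrime,
      closure {X.fromSpecStalk x ⟨p, hp⟩} ∈ irreducibleComponents X ∧
        x ∈ closure {X.fromSpecStalk x ⟨p, hp⟩} := by
    intro p hpmin hp
    have hPx : X.fromSpecStalk x ⟨p, hp⟩ ⤳ x := by
      have : X.fromSpecStalk x ⟨p, hp⟩ ∈ Set.range (X.fromSpecStalk x) := ⟨_, rfl⟩
      rw [hrange] at this; exact this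
    refine ⟨closure_singleton_mem_irreducibleComponents ?_, specializes_iff_mem_closure.mp hPx⟩
    intro z hz
    have hzx : z ∈ Set.range (X.fromSpecStalk x) := by rw [hrange]; exact hz.trans hPx
    obtain ⟨P', rfl⟩ := hzx
    rw [hemb.isInducing.specializes_iff] at hz ⊢
    have hz' : (show PrimeSpectrum (X.presheaf.stalk x) from P') ⤳
        (⟨p, hp⟩ : PrimeSpectrum (X.presheaf.stalk x)) := hz
    have hle : (show PrimeSpectrum (X.presheaf.stalk x) from P') ≤ ⟨p, hp⟩ :=
      (PrimeSpectrum.le_iff_specializes _ _).mpr hz'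
    have hge : (⟨p, hp⟩ : PrimeSpectrum (X.presheaf.stalk x)) ≤
        (show PrimeSpectrum (X.presheaf.stalk x) from P') :=
      hpmin.2 ⟨PrimeSpectrum.isPrime (show PrimeSpectrum (X.presheaf.stalk x) from P'), bot_le⟩ hle
    exact (PrimeSpectrum.le_iff_specializes _ _).mp hge
  intro p hp q hq
  have hp' : p.IsPrime := hp.1.1
  have hq' : q.IsPrime := hq.1.1
  obtain ⟨h1, h1x⟩ := key p hp hp'
  obtain ⟨h2, h2x⟩ := key q hq hq'
  have heq := h _ h1 _ h2 h1x h2x
  have hg1 : IsGenericPoint (X.fromSpecStalk x ⟨p, hp'⟩) (closure {X.fromSpecStalk x ⟨p, hp'⟩}) :=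
    isGenericPoint_closure
  have hg2 : IsGenericPoint (X.fromSpecStalk x ⟨q, hq'⟩) (closure {X.fromSpecStalk x ⟨p, hp'⟩}) := by
    rw [heq]; exact isGenericPoint_closure
  have := hemb.injective (hg1.eq hg2)
  exact congrArg PrimeSpectrum.asIdeal this

end minprimes

section irr

theorem irreducibleSpace_of_surjective {A B : Type*} [TopologicalSpace A] [TopologicalSpace B]
    {g : A → B} (hg : Continuous g) (hs : Function.Surjective g) [IrreducibleSpace A] :
    IrreducibleSpace B := by
  refine (irreducibleSpace_def B).2 ?_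
  show IsIrreducible (Set.univ : Set B)
  rw [← hs.range_eq, ← Set.image_univ]
  exact (IrreducibleSpace.isIrreducible_univ A).image g hg.continuousOn

theorem irreducibleSpace_of_isInducing {A B : Type*} [TopologicalSpace A] [TopologicalSpace B]
    {g : A → B} (hg : Topology.IsInducing g) (hr : IsIrreducible (Set.range g)) :
    IrreducibleSpace A := by
  refine (irreducibleSpace_def A).2 ⟨?_, ?_⟩
  · obtain ⟨_, ⟨a, rfl⟩⟩ := hr.1; exact ⟨a, trivial⟩
  · rintro U V hU hV ⟨u, -, huU⟩ ⟨v, -, hvV⟩
    obtain ⟨U', hU', rfl⟩ := hg.isOpen_iff.1 hU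
    obtain ⟨V', hV', rfl⟩ := hg.isOpen_iff.1 hV
    obtain ⟨_, ⟨a, rfl⟩, haU, haV⟩ := hr.2 U' V' hU' hV' ⟨g u, ⟨u, rfl⟩, huU⟩ ⟨g v, ⟨v, rfl⟩, hvV⟩
    exact ⟨a, trivial, haU, haV⟩

theorem exists_subscheme {X : Scheme.{u}} (Z : Set X) (hZ : IsClosed Z) (hZi : IsIrreducible Z) :
    ∃ (Zs : Scheme.{u}) (i : Zs ⟶ X), Set.range i = Z ∧ IrreducibleSpace Zs := by
  let I := Scheme.IdealSheafData.vanishingIdeal ⟨Z, hZ⟩
  have hr : Set.range I.subschemeι = Z := by
    rw [I.range_subschemeι]; simp [I]
  refine ⟨I.subscheme, I.subschemeι, hr, ?_⟩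
  exact irreducibleSpace_of_isInducing I.subschemeι.isEmbedding.isInducing (hr ▸ hZi)

theorem geomIrr_of_isAlgClosed {k : Type u} [Field k] [IsAlgClosed k] {Y : Scheme.{u}}
    (g : Y ⟶ Spec (CommRingCat.of k)) [IrreducibleSpace Y] : GeometricallyIrreducible g := by
  have h1 : Spec.map (CommRingCat.ofHom (algebraMap k k)) = 𝟙 _ := by
    rw [Algebra.algebraMap_self]; exact Spec.map_id _
  have : IrreducibleSpace ↥(pullback g (Spec.map (CommRingCat.ofHom (algebraMap k k)))) := by
    rw [h1]
    exact irreducibleSpace_of_surjective (Scheme.Hom.continuous (inv (pullback.fst g (𝟙 _))))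
      (Scheme.homeoOfIso (asIso (inv (pullback.fst g (𝟙 _))))).surjective
  exact Groth.Agent.Lib.Helper21.geometricallyIrreducible_of_irreducibleSpace_isAlgClosed g k

end irr

section coreA
variable {k : Type u} [Field k] [IsAlgClosed k] {X : Scheme.{u}} (f : X ⟶ Spec (CommRingCat.of k))
  (m : pullback f f ⟶ X) (e : Spec (CommRingCat.of k) ⟶ X) (he : e ≫ f = 𝟙 _)
  (hunitR : pullback.lift (𝟙 X) (f ≫ e) (by simp [he]) ≫ m = 𝟙 X)
  (hunitL : pullback.lift (f ≫ e) (𝟙 X) (by simp [he]) ≫ m = 𝟙 X)

include hunitR hunitL in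
theorem uniqueComp_unit : UniqueComp (e (IsLocalRing.closedPoint k)) := by
  intro Z hZ Z' hZ' heZ heZ'
  have hZcl := isClosed_of_mem_irreducibleComponents Z hZ
  have hZ'cl := isClosed_of_mem_irreducibleComponents Z' hZ'
  obtain ⟨Zs, i, hi, _⟩ := exists_subscheme Z hZcl hZ.1
  obtain ⟨Zs', i', hi', _⟩ := exists_subscheme Z' hZ'cl hZ'.1
  have : GeometricallyIrreducible (i ≫ f) := geomIrr_of_isAlgClosed _
  have hirr : IrreducibleSpace ↥(pullback (i ≫ f) (i' ≫ f)) := inferInstance
  let j := pullback.map (i ≫ f) (i' ≫ f) f f i i' (𝟙 _) (by simp) (by simp)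
  have hj : Set.range j = pullback.fst f f ⁻¹' Z ∩ pullback.snd f f ⁻¹' Z' := by
    rw [Scheme.Pullback.range_map, hi, hi']
  have hT : IsIrreducible (m '' Set.range j) := by
    rw [← Set.image_univ, ← Set.image_comp]
    exact (IrreducibleSpace.isIrreducible_univ _).image _
      ((Scheme.Hom.continuous m).comp (Scheme.Hom.continuous j)).continuousOn
  have heS : ∀ s, e s = e (IsLocalRing.closedPoint k) := fun s => by
    rw [Subsingleton.elim s (IsLocalRing.closedPoint k)]
  have h1 : Z ⊆ m '' Set.range j := by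
    intro z hz
    refine ⟨pullback.lift (𝟙 X) (f ≫ e) (by simp [he]) z, ?_, ?_⟩
    · rw [hj]
      refine ⟨?_, ?_⟩
      · show pullback.fst f f (pullback.lift (𝟙 X) (f ≫ e) _ z) ∈ Z
        rw [← Scheme.Hom.comp_apply, pullback.lift_fst]; exact hz
      · show pullback.snd f f (pullback.lift (𝟙 X) (f ≫ e) _ z) ∈ Z'
        rw [← Scheme.Hom.comp_apply, pullback.lift_snd, Scheme.Hom.comp_apply, heS]; exact heZ'
    · rw [← Scheme.Hom.comp_apply, hunitR]; rfl
  have h2 : Z' ⊆ m '' Set.range j := by
    intro z hz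
    refine ⟨pullback.lift (f ≫ e) (𝟙 X) (by simp [he]) z, ?_, ?_⟩
    · rw [hj]
      refine ⟨?_, ?_⟩
      · show pullback.fst f f (pullback.lift (f ≫ e) (𝟙 X) _ z) ∈ Z
        rw [← Scheme.Hom.comp_apply, pullback.lift_fst, Scheme.Hom.comp_apply, heS]; exact heZ
      · show pullback.snd f f (pullback.lift (f ≫ e) (𝟙 X) _ z) ∈ Z'
        rw [← Scheme.Hom.comp_apply, pullback.lift_snd]; exact hz
    · rw [← Scheme.Hom.comp_apply, hunitL]; rfl
  exact Set.Subset.antisymm (h1.trans (hZ'.2 hT h2)) (h2.trans (hZ.2 hT h1))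

end coreA

section grp


theorem uniqueComp_section {K : Type u} [Field K] [IsAlgClosed K]
    (H : Over (Spec (CommRingCat.of K))) [GrpObj H]
    (s : 𝟙_ (Over (Spec (CommRingCat.of K))) ⟶ H) :
    UniqueComp (s.left (IsLocalRing.closedPoint K)) := by
  have he : η[H].left ≫ H.hom = 𝟙 _ := Over.w η[H]
  have hR : pullback.lift (𝟙 H.left) (H.hom ≫ η[H].left) (by simp [he]) ≫ μ[H].left = 𝟙 H.left :=
    congr(($(lift_comp_one_right (𝟙 H) (toUnit H))).left)
  have hL : pullback.lift (H.hom ≫ η[H].left) (𝟙 H.left) (by simp [he]) ≫ μ[H].left = 𝟙 H.left :=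
    congr(($(lift_comp_one_left (toUnit H) (𝟙 H))).left)
  have h0 := uniqueComp_unit H.hom μ[H].left η[H].left he hR hL
  let φ : H.left ≅ H.left := (Over.forget _).mapIso (mulRight s)
  have hφ : φ.hom (η[H].left (IsLocalRing.closedPoint K)) = s.left (IsLocalRing.closedPoint K) := by
    have : η[H] ≫ (mulRight s).hom = s := by
      have h1 := lift_comp_one_left (𝟙 (𝟙_ (Over (Spec (CommRingCat.of K))))) s
      rw [Category.id_comp] at h1
      simpa [mulRight, comp_lift_assoc] using h1
    exact congr(($this).left (IsLocalRing.closedPoint K))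
  rw [← hφ]
  exact UniqueComp.of_generalizingMap (Scheme.Hom.continuous _)
    (Scheme.homeoOfIso φ).isOpenEmbedding.generalizingMap h0

theorem uniqueComp_all {k : Type u} [Field k] (G : Over (Spec (CommRingCat.of k))) [GrpObj G]
    (x : G.left) : UniqueComp x := by
  let K := AlgebraicClosure (G.left.residueField x)
  let a : Spec (CommRingCat.of K) ⟶ G.left :=
    Spec.map (CommRingCat.ofHom (algebraMap (G.left.residueField x) K)) ≫
      G.left.fromSpecResidueField x
  let g : Spec (CommRingCat.of K) ⟶ Spec (CommRingCat.of k) := a ≫ G.hom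
  let i1 : GrpObj (Over.mk G.hom) := ‹GrpObj G›
  let i2 : GrpObj (Over.mk (pullback.snd G.hom g)) := Over.grpObjMkPullbackSnd
  let s : 𝟙_ (Over (Spec (CommRingCat.of K))) ⟶ Over.mk (pullback.snd G.hom g) :=
    Over.homMk (pullback.lift a (𝟙 _) (by simp [g])) (pullback.lift_snd _ _ _)
  have hy := uniqueComp_section (Over.mk (pullback.snd G.hom g)) s
  have h1 := UniqueComp.of_generalizingMap (π := pullback.fst G.hom g)
    (Scheme.Hom.continuous _) (Flat.generalizingMap _) hy
  have h2 : pullback.fst G.hom g (s.left (IsLocalRing.closedPoint K)) = x := by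
    show pullback.fst G.hom g (pullback.lift a (𝟙 _) _ (IsLocalRing.closedPoint K)) = x
    rw [← Scheme.Hom.comp_apply, pullback.lift_fst]
    show G.left.fromSpecResidueField x _ = x
    exact Scheme.fromSpecResidueField_apply _ _
  rwa [h2] at h1

end grp

theorem main (K : Type u) [Field K] (G : Over (Spec (CommRingCat.of K))) [GrpObj G] :
    (∀ x : G.left, (minimalPrimes (G.left.presheaf.stalk x)).Subsingleton) ∧
    ∃! Z : Set G.left, Z ∈ irreducibleComponents (G.left : Type u) ∧
      η[G].left (IsLocalRing.closedPoint K) ∈ Z := by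
  refine ⟨fun x => minimalPrimes_subsingleton_of_uniqueComp x (uniqueComp_all G x), ?_⟩
  refine ⟨irreducibleComponent (η[G].left (IsLocalRing.closedPoint K)),
    ⟨irreducibleComponent_mem_irreducibleComponents _, mem_irreducibleComponent⟩, ?_⟩
  rintro Z ⟨hZ, heZ⟩
  exact uniqueComp_all G _ Z hZ _ (irreducibleComponent_mem_irreducibleComponents _) heZ
    mem_irreducibleComponent


/-- Let G be a group scheme over a field K. Then for every point x of G the local ring O_{G,x} has at
most one (hence exactly one) minimal prime, and there is exactly one irreducible component of G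
passing through the identity point. The published statement also asserts that this component is
geometrically irreducible, which is not asserted here. -/
theorem result (K : Type u) [Field K] (G : Over (Spec (CommRingCat.of K))) [GrpObj G] : (∀ x : G.left, (minimalPrimes (G.left.presheaf.stalk x)).Subsingleton) ∧ ∃! Z : Set G.left, Z ∈ irreducibleComponents (G.left : Type u) ∧ η[G].left (IsLocalRing.closedPoint K) ∈ Z := by
  exact main K G

end Groth.Agent.S0350
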