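import Groth.Statements.S1865
import Mathlib

set_option autoImplicit false
set_option linter.style.haveILetI false
universe u v
open CategoryTheory MonoidalCategory CartesianMonoidalCategory MonObj GrpObj AlgebraicGeometry
open GrpSch

namespace Groth.Agent.S1865
open CategoryTheory MonoidalCategory CartesianMonoidalCategory MonObj GrpObj AlgebraicGeometry Limits
open TopologicalSpace

section cat
variable {C : Type*} [Category C] [CartesianMonoidalCategory C] (A : C) [GrpObj A]

/-- shear iso `(a,b) ↦ (a, ab)`. -/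
def shear : A ⊗ A ≅ A ⊗ A where
  hom := lift (fst A A) μ[A]
  inv := lift (fst A A) (lift (fst A A ≫ ι[A]) (snd A A) ≫ μ[A])
  hom_inv_id := by
    apply CartesianMonoidalCategory.hom_ext
    · simp
    · rw [Category.assoc, lift_snd, comp_lift_assoc, ← Category.assoc, lift_fst, lift_snd,
        Category.id_comp, lift_inv_left_eq]
      simp
  inv_hom_id := by
    apply CartesianMonoidalCategory.hom_ext
    · simp
    · rw [Category.assoc, lift_snd, Category.id_comp, ← eq_lift_inv_left]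

@[reassoc (attr := simp)]
lemma shear_hom_fst : (shear A).hom ≫ fst A A = fst A A := by simp [shear]

@[reassoc (attr := simp)]
lemma shear_hom_snd : (shear A).hom ≫ snd A A = μ[A] := by simp [shear]

/-- shear iso `(a,b) ↦ (ab, b)`. -/
def shear' : A ⊗ A ≅ A ⊗ A where
  hom := lift μ[A] (snd A A)
  inv := lift (lift (fst A A) (snd A A ≫ ι[A]) ≫ μ[A]) (snd A A)
  hom_inv_id := by
    apply CartesianMonoidalCategory.hom_ext
    · rw [Category.assoc, lift_fst, comp_lift_assoc, ← Category.assoc, lift_fst, lift_snd,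
        Category.id_comp, lift_inv_right_eq]
      simp
    · simp
  inv_hom_id := by
    apply CartesianMonoidalCategory.hom_ext
    · rw [Category.assoc, lift_fst, Category.id_comp, ← eq_lift_inv_right]
    · simp

@[reassoc (attr := simp)]
lemma shear'_hom_fst : (shear' A).hom ≫ fst A A = μ[A] := by simp [shear']

@[reassoc (attr := simp)]
lemma shear'_hom_snd : (shear' A).hom ≫ snd A A = snd A A := by simp [shear']

end cat

section core
variable {X S : Scheme.{u}} (f : X ⟶ S) [IsIntegral S] [Subsingleton S] [IsAffine S]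
  (m : pullback f f ⟶ X) (σ τ : pullback f f ≅ pullback f f)
  (hσ₁ : σ.hom ≫ pullback.fst f f = pullback.fst f f) (hσ₂ : σ.hom ≫ pullback.snd f f = m)
  (hτ₁ : τ.hom ≫ pullback.fst f f = m) (hτ₂ : τ.hom ≫ pullback.snd f f = pullback.snd f f)

/-- one generating step -/
noncomputable def step (U : X.Opens) : X.Opens :=
  U ⊔ ⟨pullback.fst f f '' ((pullback.snd f f ⁻¹ᵁ U ⊓ m ⁻¹ᵁ U : (pullback f f).Opens) : Set _),
    (pullback.fst f f).isOpenMap _ (Opens.isOpen _)⟩

lemma le_step (U : X.Opens) : U ≤ step f m U := le_sup_left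

lemma mem_step (U : X.Opens) (w : ↑(pullback f f)) (h₂ : pullback.snd f f w ∈ U) (hm : m w ∈ U) :
    pullback.fst f f w ∈ step f m U :=
  Or.inr ⟨w, ⟨h₂, hm⟩, rfl⟩

include hτ₁ hτ₂ in
lemma isCompact_step (U : X.Opens) (hU : IsCompact (U : Set X)) :
    IsCompact (step f m U : Set X) := by
  have : CompactSpace U := isCompact_iff_compactSpace.mp hU
  have : QuasiCompact (U.ι ≫ f) := (HasAffineProperty.iff_of_isAffine (P := @QuasiCompact)).mpr this
  have hc : CompactSpace ↑(pullback (U.ι ≫ f) (U.ι ≫ f)) := inferInstance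
  have h1 : IsCompact ((pullback.fst f f ⁻¹ᵁ U ⊓ pullback.snd f f ⁻¹ᵁ U : (pullback f f).Opens) :
      Set ↑(pullback f f)) := by
    have := Scheme.Pullback.range_map (U.ι ≫ f) (U.ι ≫ f) f f U.ι U.ι (𝟙 S) (by simp) (by simp)
    rw [Scheme.Opens.range_ι] at this
    rw [Opens.coe_inf, Scheme.Hom.coe_preimage, Scheme.Hom.coe_preimage, ← this]
    exact isCompact_range (Scheme.Hom.continuous _)
  have h2 : ((pullback.snd f f ⁻¹ᵁ U ⊓ m ⁻¹ᵁ U : (pullback f f).Opens) : Set ↑(pullback f f)) =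
      τ.hom ⁻¹' ((pullback.fst f f ⁻¹ᵁ U ⊓ pullback.snd f f ⁻¹ᵁ U : (pullback f f).Opens) :
      Set ↑(pullback f f)) := by
    ext w
    have e1 : pullback.fst f f (τ.hom w) = m w := by rw [← Scheme.Hom.comp_apply, hτ₁]
    have e2 : pullback.snd f f (τ.hom w) = pullback.snd f f w := by
      rw [← Scheme.Hom.comp_apply, hτ₂]
    show (pullback.snd f f w ∈ U ∧ m w ∈ U) ↔
      (pullback.fst f f (τ.hom w) ∈ U ∧ pullback.snd f f (τ.hom w) ∈ U)
    rw [e1, e2]; tauto
  have h3 : IsCompact ((pullback.snd f f ⁻¹ᵁ U ⊓ m ⁻¹ᵁ U : (pullback f f).Opens) :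
      Set ↑(pullback f f)) := by
    rw [h2]
    exact (Scheme.homeoOfIso τ).isCompact_preimage.mpr h1
  exact hU.union (h3.image (Scheme.Hom.continuous _))

/-- the increasing sequence of opens -/
noncomputable def useq (U₀ : X.Opens) : ℕ → X.Opens
  | 0 => U₀
  | n + 1 => step f m (useq U₀ n)

lemma useq_mono (U₀ : X.Opens) : Monotone (useq f m U₀) :=
  monotone_nat_of_le_succ fun n => le_step f m _

include hτ₁ hτ₂ in
lemma isCompact_useq (U₀ : X.Opens) (hU₀ : IsCompact (U₀ : Set X)) (n : ℕ) :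
    IsCompact (useq f m U₀ n : Set X) := by
  induction n with
  | zero => exact hU₀
  | succ n ih => exact isCompact_step f m τ hτ₁ hτ₂ _ ih

/-- the generated open -/
noncomputable def hull (U₀ : X.Opens) : X.Opens := ⨆ n, useq f m U₀ n

lemma hull_stable (U₀ : X.Opens) (w : ↑(pullback f f))
    (h₂ : pullback.snd f f w ∈ hull f m U₀) (hm : m w ∈ hull f m U₀) :
    pullback.fst f f w ∈ hull f m U₀ := by
  obtain ⟨n₁, h₁⟩ := Opens.mem_iSup.mp h₂
  obtain ⟨n₂, h₂⟩ := Opens.mem_iSup.mp hm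
  exact Opens.mem_iSup.mpr ⟨max n₁ n₂ + 1, mem_step f m _ w
    (useq_mono f m U₀ (le_max_left _ _) h₁) (useq_mono f m U₀ (le_max_right _ _) h₂)⟩

include hσ₁ hσ₂ in
lemma isClosed_of_stable (H : X.Opens) (e : S ⟶ X) (he : e ≫ f = 𝟙 S)
    (hunit : pullback.lift (𝟙 X) (f ≫ e) (by simp [he]) ≫ m = 𝟙 X)
    (heH : ∀ s, e s ∈ H)
    (hst : ∀ w : ↑(pullback f f), pullback.snd f f w ∈ H → m w ∈ H → pullback.fst f f w ∈ H) :
    IsClosed (H : Set X) := by
  rw [← closure_subset_iff_isClosed]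
  intro x hx
  let ix := X.fromSpecResidueField x
  let p₁ := pullback.fst f f
  let t₂ := pullback.snd ix p₁
  have sq1 : IsPullback t₂ (pullback.fst ix p₁) p₁ ix := (IsPullback.of_hasPullback ix p₁).flip
  have sq2 : IsPullback σ.hom p₁ p₁ (𝟙 X) := IsPullback.of_horiz_isIso ⟨by simp [p₁, hσ₁]⟩
  have sq3 : IsPullback (pullback.snd f f) p₁ f f := (IsPullback.of_hasPullback f f).flip
  have sq := (sq1.paste_horiz sq2).paste_horiz sq3
  have hopen : UniversallyOpen ((t₂ ≫ σ.hom) ≫ pullback.snd f f) :=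
    MorphismProperty.of_isPullback sq.flip inferInstance
  have hμ : (t₂ ≫ σ.hom) ≫ pullback.snd f f = t₂ ≫ m := by rw [Category.assoc, hσ₂]
  rw [hμ] at hopen
  -- the open set "xH"
  let O : Set X := (t₂ ≫ m) '' ((t₂ ≫ pullback.snd f f) ⁻¹ᵁ H : Opens _)
  have hO : IsOpen O := (t₂ ≫ m).isOpenMap _ (Opens.isOpen _)
  -- the point (x, e)
  let w₀ : ↑(pullback f f) := pullback.lift (𝟙 X) (f ≫ e) (by simp [he]) x
  have hw₀1 : p₁ w₀ = x := by
    show pullback.fst f f (pullback.lift (𝟙 X) (f ≫ e) _ x) = x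
    rw [← Scheme.Hom.comp_apply, pullback.lift_fst]; rfl
  have hw₀2 : pullback.snd f f w₀ ∈ H := by
    show pullback.snd f f (pullback.lift (𝟙 X) (f ≫ e) _ x) ∈ H
    rw [← Scheme.Hom.comp_apply, pullback.lift_snd, Scheme.Hom.comp_apply]
    exact heH _
  have hw₀m : m w₀ = x := by
    show m (pullback.lift (𝟙 X) (f ≫ e) _ x) = x
    rw [← Scheme.Hom.comp_apply, hunit]; rfl
  obtain ⟨t₀, -, ht₀⟩ := Scheme.Pullback.exists_preimage_pullback (f := ix) (g := p₁)
    (IsLocalRing.closedPoint _) w₀ (by rw [hw₀1]; exact Scheme.fromSpecResidueField_apply _ _)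
  have hxO : x ∈ O := by
    refine ⟨t₀, ?_, ?_⟩
    · show pullback.snd f f (t₂ t₀) ∈ H
      rw [show t₂ t₀ = w₀ from ht₀]; exact hw₀2
    · show m (t₂ t₀) = x
      rw [show t₂ t₀ = w₀ from ht₀]; exact hw₀m
  obtain ⟨y, ⟨t, ht, rfl⟩, hyH⟩ := mem_closure_iff.mp hx O hO hxO
  have h1 : p₁ (t₂ t) = x := by
    rw [← Scheme.Hom.comp_apply, ← pullback.condition, Scheme.Hom.comp_apply]
    exact Scheme.fromSpecResidueField_apply _ _
  rw [← h1]
  exact hst _ ht hyH

end core

lemma exists_affine_enum {X : Scheme.{u}} (U : ℕ → X.Opens)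
    (hU : ∀ n, IsCompact (U n : Set X)) :
    ∃ V : ℕ → X.Opens, (∀ n, IsAffineOpen (V n)) ∧
      ((⨆ n, U n : X.Opens) : Set X) = ⋃ n, (V n : Set X) := by
  choose s hs hU' using fun n => isCompact_iff_finite_and_eq_biUnion_affineOpens.mp (hU n)
  let 𝒮 : Set X.affineOpens := (⋃ n, s n) ∪ {⟨⊥, isAffineOpen_bot X⟩}
  have hc : 𝒮.Countable :=
    (Set.countable_iUnion fun n => (hs n).countable).union (Set.countable_singleton _)
  obtain ⟨F, hF⟩ := hc.exists_eq_range ⟨_, Or.inr rfl⟩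
  refine ⟨fun n => (F n : X.Opens), fun n => (F n).2, ?_⟩
  ext x
  simp only [Opens.coe_iSup, Set.mem_iUnion, SetLike.mem_coe]
  constructor
  · rintro ⟨n, hx⟩
    rw [hU' n] at hx
    simp only [Opens.mem_iSup] at hx
    obtain ⟨i, hi, hxi⟩ := hx
    have : i ∈ 𝒮 := Or.inl (Set.mem_iUnion.mpr ⟨n, hi⟩)
    rw [hF] at this
    obtain ⟨k, rfl⟩ := this
    exact ⟨k, hxi⟩
  · rintro ⟨k, hx⟩
    have : F k ∈ 𝒮 := hF ▸ Set.mem_range_self k
    rcases this with h | h
    · obtain ⟨n, hn⟩ := Set.mem_iUnion.mp h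
      refine ⟨n, ?_⟩
      rw [hU' n]
      exact Opens.mem_iSup.mpr ⟨F k, Opens.mem_iSup.mpr ⟨hn, hx⟩⟩
    · rw [h] at hx; exact (hx : x ∈ (⊥ : X.Opens)).elim

variable {K : Type u} [Field K] (G : Over (Spec (CommRingCat.of K))) [GrpObj G]

theorem main : ∃ U : G.left.Opens, IsClosed (U : Set G.left) ∧
    η[G].left (IsLocalRing.closedPoint K) ∈ U ∧ ∃ V : ℕ → G.left.Opens,
      (∀ n, IsAffineOpen (V n)) ∧ (U : Set G.left) = ⋃ n, (V n : Set G.left) := by
  let f : G.left ⟶ Spec (CommRingCat.of K) := G.hom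
  let e : Spec (CommRingCat.of K) ⟶ G.left := η[G].left
  let m : pullback f f ⟶ G.left := μ[G].left
  let σ : pullback f f ≅ pullback f f := (Over.forget _).mapIso (shear G)
  let τ : pullback f f ≅ pullback f f := (Over.forget _).mapIso (shear' G)
  have hσ₁ : σ.hom ≫ pullback.fst f f = pullback.fst f f :=
    congr(($(shear_hom_fst G)).left)
  have hσ₂ : σ.hom ≫ pullback.snd f f = m := congr(($(shear_hom_snd G)).left)
  have hτ₁ : τ.hom ≫ pullback.fst f f = m := congr(($(shear'_hom_fst G)).left)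
  have hτ₂ : τ.hom ≫ pullback.snd f f = pullback.snd f f := congr(($(shear'_hom_snd G)).left)
  have he : e ≫ f = 𝟙 _ := Over.w η[G]
  have hunit : pullback.lift (𝟙 G.left) (f ≫ e) (by simp [he]) ≫ m = 𝟙 G.left := by
    have := congr(($(lift_comp_one_right (𝟙 G) (toUnit G))).left)
    exact this
  obtain ⟨U₀, hU₀, hx₀⟩ : ∃ U₀ : G.left.Opens, IsAffineOpen U₀ ∧
      e (IsLocalRing.closedPoint K) ∈ U₀ := by
    obtain ⟨U₀, hU₀, hx₀, -⟩ := Opens.isBasis_iff_nbhd.mp G.left.isBasis_affineOpens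
      (Opens.mem_top (e (IsLocalRing.closedPoint K)))
    exact ⟨U₀, hU₀, hx₀⟩
  have hle : U₀ ≤ hull f m U₀ := le_iSup (useq f m U₀) 0
  refine ⟨hull f m U₀, isClosed_of_stable f m σ hσ₁ hσ₂ _ e he hunit (fun s => ?_)
    (hull_stable f m U₀), hle hx₀, ?_⟩
  · rw [Subsingleton.elim s (IsLocalRing.closedPoint K)]; exact hle hx₀
  · exact exists_affine_enum _ (isCompact_useq f m τ hτ₁ hτ₂ U₀ hU₀.isCompact)


/-- A group scheme over a field contains an open and closed subset containing the identity point which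
is a countable union of affine opens. (The source does not mention the identity point; its
construction contains it, and without it the empty set would do.) -/
theorem result (K : Type u) [Field K] (G : Over (Spec (CommRingCat.of K))) [GrpObj G] : ∃ U : G.left.Opens, IsClosed (U : Set G.left) ∧ η[G].left (IsLocalRing.closedPoint K) ∈ U ∧ ∃ V : ℕ → G.left.Opens, (∀ n, IsAffineOpen (V n)) ∧ (U : Set G.left) = ⋃ n, (V n : Set G.left) := by
  exact main G

end Groth.Agent.S1865
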