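import Groth.Statements.S4759
import Groth.Agent.Lib.Helper24.Lim8
-- import your own Groth.Agent.* helpers here

set_option autoImplicit false
universe u
open CategoryTheory AlgebraicGeometry
open Lim8

namespace Groth.Agent.S4759

/-- Let S = lim S_i be a cofiltered limit of schemes with affine transition maps, some stage S_{i₀}
being quasi-compact and quasi-separated. Then every constructible subset Z of S is the preimage
under the projection S ⟶ S_i of a constructible subset of S_i, for some index i over i₀. -/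
theorem result {I : Type u} [SmallCategory I] [IsCofiltered I]
    (D : I ⥤ Scheme.{u}) (c : Limits.Cone D) (hc : Limits.IsLimit c)
    [∀ (i j : I) (f : i ⟶ j), IsAffineHom (D.map f)] (i₀ : I) [CompactSpace (D.obj i₀)]
    [QuasiSeparatedSpace (D.obj i₀)] (Z : Set c.pt) (hZ : Topology.IsConstructible Z) :
    ∃ (i : I) (_ : i ⟶ i₀) (Zi : Set (D.obj i)),
      Topology.IsConstructible Zi ∧ (⇑(c.π.app i) ⁻¹' Zi : Set c.pt) = Z := by
  open Groth.Agent.Lib.Helper24.Lim8 in
  have hcpt : CompactSpace c.pt := compactSpace_pt D c hc i₀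
  induction hZ using Topology.IsConstructible.empty_union_induction with
  | open_retrocompact U hUopen hUcomp =>
    obtain ⟨i, φ, V, hV, e⟩ := Groth.Agent.Lib.Helper24.Lim8.exists_preimage_eq_over D c hc i₀
      ⟨U, hUopen⟩ hUcomp.isCompact
    have : QuasiSeparatedSpace (D.obj i) :=
      Groth.Agent.Lib.Helper24.Lim8.quasiSeparatedSpace_of_hom D φ
    exact ⟨i, φ, V, hV.isConstructible V.2, congrArg (fun W : c.pt.Opens ↦ (W : Set c.pt)) e⟩
  | union s hs t ht ihs iht =>
    obtain ⟨i₁, φ₁, Z₁, hZ₁, e₁⟩ := ihs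
    obtain ⟨i₂, φ₂, Z₂, hZ₂, e₂⟩ := iht
    obtain ⟨k, a, b, -⟩ := IsCofilteredOrEmpty.cone_objs i₁ i₂
    refine ⟨k, a ≫ φ₁, D.map a ⁻¹' Z₁ ∪ D.map b ⁻¹' Z₂,
      ((D.map a).isConstructible_preimage hZ₁).union ((D.map b).isConstructible_preimage hZ₂), ?_⟩
    rw [Set.preimage_union, Groth.Agent.Lib.Helper24.Lim8.preimage_π_map,
      Groth.Agent.Lib.Helper24.Lim8.preimage_π_map, e₁, e₂]
  | compl s hs ihs =>
    obtain ⟨i₁, φ₁, Z₁, hZ₁, e₁⟩ := ihs
    exact ⟨i₁, φ₁, Z₁ᶜ, hZ₁.compl, by rw [Set.preimage_compl, e₁]⟩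

end Groth.Agent.S4759
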