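import Groth.Statements.S16765
import Groth.Agent.S9697
import Groth.Agent.Lib.Helper35.EtaleLocalScheme

set_option autoImplicit false
universe u
open Unram17

namespace Groth.Agent.S16765

section Helpers
open Groth.Agent.Lib.Helper35 AlgebraicGeometry CategoryTheory CategoryTheory.Limits

/-- The square `X_z → Y_z`, `X → Y` is a pullback. -/
theorem isPullback_fiberMapOver {X Y Z : Scheme.{u}} (f : X ⟶ Y) (gX : X ⟶ Z) (gY : Y ⟶ Z)
    (w : f ≫ gY = gX) (z : Z) :
    IsPullback (CohIII.fiberMapOver f gX gY w z) (gX.fiberι z) (gY.fiberι z) f := by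
  have t : IsPullback (gY.fiberToSpecResidueField z) (gY.fiberι z) (Z.fromSpecResidueField z) gY :=
    (IsPullback.of_hasPullback gY (Z.fromSpecResidueField z)).flip
  have s0 : IsPullback (gX.fiberToSpecResidueField z) (gX.fiberι z) (Z.fromSpecResidueField z) gX :=
    (IsPullback.of_hasPullback gX (Z.fromSpecResidueField z)).flip
  have e1 : CohIII.fiberMapOver f gX gY w z ≫ gY.fiberToSpecResidueField z =
      gX.fiberToSpecResidueField z := by
    show pullback.lift _ _ _ ≫ pullback.snd _ _ = pullback.snd _ _
    rw [pullback.lift_snd, Category.comp_id]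
  have e2 : CohIII.fiberMapOver f gX gY w z ≫ gY.fiberι z = gX.fiberι z ≫ f := by
    show pullback.lift _ _ _ ≫ pullback.fst _ _ = pullback.fst _ _ ≫ f
    rw [pullback.lift_fst]
  have s : IsPullback (CohIII.fiberMapOver f gX gY w z ≫ gY.fiberToSpecResidueField z)
      (gX.fiberι z) (Z.fromSpecResidueField z) (f ≫ gY) := by
    rw [e1, w]
    exact s0
  exact IsPullback.of_right s e2 t

theorem key {P X Y Y' : Scheme.{u}} (f : X ⟶ Y) [LocallyOfFiniteType f] (g : Y' ⟶ Y)
    (e : P ⟶ pullback f g) [IsIso e] (x' : P) :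
    (((e ≫ pullback.snd f g)).stalkMap x').hom.FormallyUnramified ↔
      (f.stalkMap ((e ≫ pullback.fst f g).base x')).hom.FormallyUnramified := by
  rw [stalkMap_comp_openImmersion_iff RingHom.FormallyUnramified.respectsIso e (pullback.snd f g) x']
  exact Groth.Agent.S9697.formallyUnramified_stalkMap_baseChange_iff f g (e.base x')

theorem formallyUnramified_stalkMap_iff_of_isPullback {P X Y Y' : Scheme.{u}} {fst : P ⟶ X}
    {snd : P ⟶ Y'} {f : X ⟶ Y} {g : Y' ⟶ Y} [LocallyOfFiniteType f] (hpb : IsPullback fst snd f g)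
    (x' : P) :
    (snd.stalkMap x').hom.FormallyUnramified ↔
      (f.stalkMap (fst.base x')).hom.FormallyUnramified := by
  have := key f g hpb.isoPullback.hom x'
  rw [hpb.isoPullback_hom_snd, hpb.isoPullback_hom_fst] at this
  exact this

end Helpers

open AlgebraicGeometry CategoryTheory CategoryTheory.Limits in
/-- Let g : Y → S and h : X → S be locally of finite presentation, f : X → Y an S-morphism (f ≫ g = h;
in particular f is locally of finite presentation, so unramified amounts to formally unramified),
and x a point of X with image s = h(x). Then f is unramified at x (formally unramified on an open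
neighbourhood of x) if and only if the induced morphism of fibres X_s → Y_s is unramified at the
point of X_s lying over x. No flatness is needed. -/
theorem result {X Y S : Scheme.{u}} (g : Y ⟶ S) (h : X ⟶ S)
    [LocallyOfFinitePresentation g] [LocallyOfFinitePresentation h] (f : X ⟶ Y) (w : f ≫ g = h)
    (x : ↥X)
    (x' : ↥(h.fiber (h x))) (hx' : (h.fiberι (h x)) x' = x) :
    (∃ U : X.Opens, x ∈ U ∧ FormallyUnramified (U.ι ≫ f)) ↔
      ∃ V : (h.fiber (h x)).Opens, x' ∈ V ∧ FormallyUnramified (V.ι ≫ CohIII.fiberMapOver f h g w (h x)) := by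
  haveI : LocallyOfFiniteType (f ≫ g) := by rw [w]; infer_instance
  haveI : LocallyOfFiniteType f := locallyOfFiniteType_of_comp f g
  have hpb := isPullback_fiberMapOver f h g w (h x)
  haveI : LocallyOfFiniteType (CohIII.fiberMapOver f h g w (h x)) :=
    MorphismProperty.of_isPullback hpb.flip inferInstance
  have h1 : (∃ U : X.Opens, x ∈ U ∧ FormallyUnramified (U.ι ≫ f)) ↔
      (f.stalkMap x).hom.FormallyUnramified :=
    ⟨fun ⟨U, hxU, hU⟩ => Groth.Agent.Lib.Helper35.stalkMap_of_formallyUnramified_nhd f x U hxU,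
      Groth.Agent.Lib.Helper35.exists_formallyUnramified_nhd_of_stalkMap f x⟩
  have h2 : (∃ V : (h.fiber (h x)).Opens, x' ∈ V ∧
      FormallyUnramified (V.ι ≫ CohIII.fiberMapOver f h g w (h x))) ↔
      ((CohIII.fiberMapOver f h g w (h x)).stalkMap x').hom.FormallyUnramified :=
    ⟨fun ⟨V, hxV, hV⟩ => Groth.Agent.Lib.Helper35.stalkMap_of_formallyUnramified_nhd _ x' V hxV,
      Groth.Agent.Lib.Helper35.exists_formallyUnramified_nhd_of_stalkMap _ x'⟩
  rw [h1, h2, formallyUnramified_stalkMap_iff_of_isPullback hpb.flip x', hx']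

end Groth.Agent.S16765
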