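import Groth.Statements.S16763
import Groth.Agent.S16765
import Groth.Agent.S2757
import Groth.Agent.Lib.Helper35.FiberSmooth
import Groth.Agent.Lib.Helper24.LfpOfComp

set_option autoImplicit false
universe u
open Unram17

namespace Groth.Agent.S16763

section Helpers
open Groth.Agent.Lib.Helper35 AlgebraicGeometry CategoryTheory CategoryTheory.Limits

theorem forward {X Y S : Scheme.{u}} (g : Y ⟶ S) (h : X ⟶ S) (f : X ⟶ Y) (w : f ≫ g = h)
    (s : S) (x' : h.fiber s) (U : X.Opens) (hxU : (h.fiberι s) x' ∈ U) [Smooth (U.ι ≫ f)] :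
    ∃ V : (h.fiber s).Opens, x' ∈ V ∧ Smooth (V.ι ≫ CohIII.fiberMapOver f h g w s) := by
  have hpb := Groth.Agent.S16765.isPullback_fiberMapOver f h g w s
  refine ⟨(h.fiberι s) ⁻¹ᵁ U, hxU, ?_⟩
  have sq := (isPullback_morphismRestrict (h.fiberι s) U).paste_vert hpb.flip
  exact MorphismProperty.of_isPullback sq inferInstance

theorem backward {X Y S : Scheme.{u}} (g : Y ⟶ S) (f : X ⟶ Y)
    [LocallyOfFinitePresentation f]
    (s : S) (x' : (f ≫ g).fiber s)
    (hflat : ((f ≫ g).stalkMap ((f ≫ g).fiberι s x')).hom.Flat)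
    (hsm : ((CohIII.fiberMapOver f (f ≫ g) g rfl s).stalkMap x').hom.FormallySmooth) :
    (f.stalkMap ((f ≫ g).fiberι s x')).hom.FormallySmooth := by
  have hpb := Groth.Agent.S16765.isPullback_fiberMapOver f (f ≫ g) g rfl s
  exact FiberSmooth.formallySmooth_stalkMap_of_fibre ((f ≫ g).fiberι s) (g.fiberι s)
    (CohIII.fiberMapOver f (f ≫ g) g rfl s) f g hpb.w x' hflat
    (FiberStalk.stalkMap_fiberι_surjective (f ≫ g) s x')
    (FiberStalk.ker_stalkMap_fiberι (f ≫ g) s x')
    (FiberStalk.stalkMap_fiberι_surjective g s _)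
    (FiberStalk.ker_stalkMap_fiberι g s _) hsm

end Helpers

open AlgebraicGeometry CategoryTheory CategoryTheory.Limits in
/-- Let g : Y → S and h : X → S be locally of finite presentation, f : X → Y an S-morphism (f ≫ g = h),
and x a point of X with image s = h(x) such that h is flat at x. Then f is smooth at x (smooth on an
open neighbourhood of x) if and only if the induced morphism of fibres X_s → Y_s is smooth at the
point of X_s lying over x. -/
theorem result {X Y S : Scheme.{u}} (g : Y ⟶ S) (h : X ⟶ S)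
    [LocallyOfFinitePresentation g] [LocallyOfFinitePresentation h] (f : X ⟶ Y) (w : f ≫ g = h)
    (x : ↥X) (hflat : (h.stalkMap x).hom.Flat)
    (x' : ↥(h.fiber (h x))) (hx' : (h.fiberι (h x)) x' = x) :
    (∃ U : X.Opens, x ∈ U ∧ Smooth (U.ι ≫ f)) ↔
      ∃ V : (h.fiber (h x)).Opens, x' ∈ V ∧ Smooth (V.ι ≫ CohIII.fiberMapOver f h g w (h x)) := by
  subst w
  haveI : LocallyOfFinitePresentation f := Groth.Agent.Lib.Helper24.locallyOfFinitePresentation_of_comp f g
  constructor
  · rintro ⟨U, hxU, hU⟩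
    exact forward g (f ≫ g) f rfl _ x' U (hx'.symm ▸ hxU)
  · rintro ⟨V, hxV, hV⟩
    have hpb := Groth.Agent.S16765.isPullback_fiberMapOver f (f ≫ g) g rfl ((f ≫ g) x)
    haveI : LocallyOfFinitePresentation (CohIII.fiberMapOver f (f ≫ g) g rfl ((f ≫ g) x)) :=
      MorphismProperty.of_isPullback hpb.flip inferInstance
    have hsm := (Groth.Agent.S2757.stalkMap_of_smooth_nhd
      (CohIII.fiberMapOver f (f ≫ g) g rfl ((f ≫ g) x)) x' V hxV).2
    have hflat' : ((f ≫ g).stalkMap ((f ≫ g).fiberι ((f ≫ g) x) x')).hom.Flat :=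
      Eq.subst (motive := fun z => ((f ≫ g).stalkMap z).hom.Flat) hx'.symm hflat
    have h1 := backward g f ((f ≫ g) x) x' hflat' hsm
    have h2 : (f.stalkMap x).hom.FormallySmooth :=
      Eq.subst (motive := fun z => (f.stalkMap z).hom.FormallySmooth) hx' h1
    exact Groth.Agent.S2757.exists_smooth_nhd_of_stalkMap f x h2

end Groth.Agent.S16763
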