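import Groth.Statements.S16764
import Groth.Agent.S16763

set_option autoImplicit false
universe u
open Unram17

namespace Groth.Agent.S16764


open AlgebraicGeometry CategoryTheory CategoryTheory.Limits in
/-- Let g : Y → S and h : X → S be locally of finite presentation, f : X → Y an S-morphism (f ≫ g = h),
and x a point of X with image s = h(x) such that h is flat at x. Then f is étale at x (étale on an
open neighbourhood of x) if and only if the induced morphism of fibres X_s → Y_s is étale at the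
point of X_s lying over x. -/
theorem result {X Y S : Scheme.{u}} (g : Y ⟶ S) (h : X ⟶ S)
    [LocallyOfFinitePresentation g] [LocallyOfFinitePresentation h] (f : X ⟶ Y) (w : f ≫ g = h)
    (x : ↥X) (hflat : (h.stalkMap x).hom.Flat)
    (x' : ↥(h.fiber (h x))) (hx' : (h.fiberι (h x)) x' = x) :
    (∃ U : X.Opens, x ∈ U ∧ Etale (U.ι ≫ f)) ↔
      ∃ V : (h.fiber (h x)).Opens, x' ∈ V ∧ Etale (V.ι ≫ CohIII.fiberMapOver f h g w (h x)) := by
  subst w
  haveI : LocallyOfFinitePresentation f :=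
    Groth.Agent.Lib.Helper24.locallyOfFinitePresentation_of_comp f g
  have hpb := Groth.Agent.S16765.isPullback_fiberMapOver f (f ≫ g) g rfl ((f ≫ g) x)
  haveI : LocallyOfFinitePresentation (CohIII.fiberMapOver f (f ≫ g) g rfl ((f ≫ g) x)) :=
    MorphismProperty.of_isPullback hpb.flip inferInstance
  have h1 : (∃ U : X.Opens, x ∈ U ∧ Etale (U.ι ≫ f)) ↔
      (f.stalkMap x).hom.FormallyUnramified ∧ (f.stalkMap x).hom.FormallySmooth :=
    ⟨fun ⟨U, hxU, hU⟩ => Groth.Agent.Lib.Helper35.stalkMap_of_etale_nhd f x U hxU,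
      fun ⟨a, b⟩ => Groth.Agent.Lib.Helper35.exists_etale_nhd_of_stalkMap f x a b⟩
  have h2 : (∃ V : ((f ≫ g).fiber ((f ≫ g) x)).Opens, x' ∈ V ∧
      Etale (V.ι ≫ CohIII.fiberMapOver f (f ≫ g) g rfl ((f ≫ g) x))) ↔
      ((CohIII.fiberMapOver f (f ≫ g) g rfl ((f ≫ g) x)).stalkMap x').hom.FormallyUnramified ∧
      ((CohIII.fiberMapOver f (f ≫ g) g rfl ((f ≫ g) x)).stalkMap x').hom.FormallySmooth :=
    ⟨fun ⟨V, hxV, hV⟩ => Groth.Agent.Lib.Helper35.stalkMap_of_etale_nhd _ x' V hxV,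
      fun ⟨a, b⟩ => Groth.Agent.Lib.Helper35.exists_etale_nhd_of_stalkMap _ x' a b⟩
  rw [h1, h2, Groth.Agent.S16765.formallyUnramified_stalkMap_iff_of_isPullback hpb.flip x', hx']
  refine and_congr_right fun _ => ?_
  constructor
  · intro hsm
    obtain ⟨U, hxU, hU⟩ := Groth.Agent.S2757.exists_smooth_nhd_of_stalkMap f x hsm
    obtain ⟨V, hxV, hV⟩ := Groth.Agent.S16763.forward g (f ≫ g) f rfl _ x' U (hx'.symm ▸ hxU)
    exact (Groth.Agent.S2757.stalkMap_of_smooth_nhd
      (CohIII.fiberMapOver f (f ≫ g) g rfl ((f ≫ g) x)) x' V hxV).2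
  · intro hsm
    have hflat' : ((f ≫ g).stalkMap ((f ≫ g).fiberι ((f ≫ g) x) x')).hom.Flat :=
      Eq.subst (motive := fun z => ((f ≫ g).stalkMap z).hom.Flat) hx'.symm hflat
    have h1 := Groth.Agent.S16763.backward g f ((f ≫ g) x) x' hflat' hsm
    exact Eq.subst (motive := fun z => (f.stalkMap z).hom.FormallySmooth) hx' h1

end Groth.Agent.S16764
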