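import Groth.Statements.S0079
-- import your own Groth.Agent.* helpers here

set_option autoImplicit false
open CategoryTheory CategoryTheory.Limits AlgebraicGeometry Opposite
universe u
open EtBase

namespace Groth.Agent.S0079

/-- Quasi-compactness of a morphism descends along a quasi-compact flat surjective base change: if the
base change of a morphism g along a quasi-compact, flat, surjective morphism to its target is
quasi-compact, then g is quasi-compact. (Stated for a single quasi-compact faithfully flat cover;
combined with Zariski-locality on the target this gives the fpqc-local form.) -/
theorem result :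
    MorphismProperty.DescendsAlong @QuasiCompact (@Surjective ⊓ @Flat ⊓ @QuasiCompact : MorphismProperty Scheme.{u}) := by
  refine IsZariskiLocalAtTarget.descendsAlong_inf_quasiCompact _ _ ?_ ?_
  · rw [inf_comm]
    exact inf_le_inf le_rfl (IsLocalIso.le_of_isZariskiLocalAtSource _)
  intro R S Y φ g ⟨_, _⟩ hfst
  -- `Spec S ×_R Y` is compact
  have hc : CompactSpace ↑(pullback (Spec.map φ) g) := by
    rw [← quasiCompact_iff_compactSpace (pullback.fst (Spec.map φ) g)]
    exact hfst
  have hs : Surjective (pullback.snd (Spec.map φ) g) := inferInstance
  have : CompactSpace Y := by
    constructor
    rw [← Set.range_eq_univ.mpr (pullback.snd (Spec.map φ) g).surjective]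
    exact isCompact_range (pullback.snd (Spec.map φ) g).continuous
  exact (quasiCompact_iff_compactSpace g).mpr inferInstance

end Groth.Agent.S0079
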