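import Groth.Statements.S1124
import Groth.Agent.Lib.Helper38.ImmDescent
import Groth.Agent.S0079
import Groth.Agent.S0083

set_option autoImplicit false
open CategoryTheory CategoryTheory.Limits AlgebraicGeometry Opposite
universe u
open Desc

namespace Groth.Agent.S1124

/-- If the base change of a morphism of schemes along a quasi-compact, flat, surjective morphism is a
quasi-compact immersion, then the morphism itself is a quasi-compact immersion. (Stated for a single
quasi-compact flat surjective base change; together with Zariski-locality on the target this is fpqc
descent for quasi-compact immersions.) -/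
theorem result :
    MorphismProperty.DescendsAlong (@IsImmersion ⊓ @QuasiCompact : MorphismProperty Scheme.{u})
      (@Surjective ⊓ @Flat ⊓ @QuasiCompact : MorphismProperty Scheme.{u}) := by
  have i79 := Groth.Agent.S0079.result.{u}
  have i83 := Groth.Agent.S0083.result.{u}
  apply MorphismProperty.DescendsAlong.mk'
  intro X Y Z f g _ hf hg
  have hfs : Surjective f := hf.1.1
  have hff : Flat f := hf.1.2
  have hfq : QuasiCompact f := hf.2
  have hqc : QuasiCompact g :=
    MorphismProperty.of_pullback_fst_of_descendsAlong (P := @QuasiCompact)
      (Q := @Surjective ⊓ @Flat ⊓ @QuasiCompact) (f := f) hf hg.2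
  have : IsImmersion (pullback.fst f g) := hg.1
  exact ⟨Groth.Agent.Lib.Helper38.ImmDescent.isImmersion_of_pullback_fst
    (@Surjective ⊓ @Flat ⊓ @QuasiCompact) i83 f g hf (Flat.isQuotientMap_of_surjective f)
    (Groth.Agent.Lib.Helper38.ImmDescent.preimage_closure_range_subset f g), hqc⟩


end Groth.Agent.S1124
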