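import Groth.Statements.S1541
import Mathlib
import Groth.Agent.Lib.Helper62.BCStalk
import Groth.Agent.S2536

set_option autoImplicit false
set_option linter.style.haveILetI false
universe u
open CategoryTheory CategoryTheory.Limits AlgebraicGeometry
attribute [local instance] Curv2.resAlgebra Curv2.stalkAlgebra
open Variety

namespace Groth.Agent.S1541

open TensorProduct Groth.Agent.Lib.Helper62

/-- a local ring over `k` all of whose "geometric points" in `K̄ ⊗ O` are reduced is geometrically
reduced. -/
theorem geomReduced_of_forall_prime (k : Type u) [Field k] (O : Type u) [CommRing O]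
    [IsLocalRing O] [Algebra k O]
    (h : ∀ (M : Ideal (AlgebraicClosure k ⊗[k] O)) [M.IsPrime],
      M.comap (Algebra.TensorProduct.includeRight (R := k) (A := AlgebraicClosure k)
        (B := O)).toRingHom = IsLocalRing.maximalIdeal O → IsReduced (Localization.AtPrime M)) :
    Algebra.IsGeometricallyReduced k O := by
  rw [Algebra.isGeometricallyReduced_field_iff]
  apply isReduced_ofLocalizationMaximal
  intro J hJ
  apply h J
  letI : Algebra O (AlgebraicClosure k ⊗[k] O) := Algebra.TensorProduct.rightAlgebra
  have hint : (algebraMap O (AlgebraicClosure k ⊗[k] O)).IsIntegral :=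
    RingHom.isIntegral_isStableUnderBaseChange k (AlgebraicClosure k) O
      (AlgebraicClosure k ⊗[k] O)
      (algebraMap_isIntegral_iff.mpr (inferInstance : Algebra.IsIntegral k (AlgebraicClosure k)))
  haveI : Algebra.IsIntegral O (AlgebraicClosure k ⊗[k] O) := algebraMap_isIntegral_iff.mp hint
  have hmax : (J.comap (algebraMap O (AlgebraicClosure k ⊗[k] O))).IsMaximal :=
    Ideal.isMaximal_comap_of_isIntegral_of_isMaximal J
  exact IsLocalRing.eq_maximalIdeal hmax

theorem forward (k : Type u) [Field k] (X : Scheme.{u}) [X.Over (Spec (CommRingCat.of k))] (x : X)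
    (h : Curv2.IsGeomReducedAt k X x) : Algebra.IsGeometricallyReduced k (X.presheaf.stalk x) := by
  apply geomReduced_of_forall_prime
  intro M _ hM
  obtain ⟨x', hx', ⟨e⟩⟩ := BCStalk.exists_point_of_prime (X ↘ Spec (CommRingCat.of k))
    (AlgebraicClosure k) x rfl M hM
  have := h (AlgebraicClosure k) x' hx'
  exact isReduced_of_injective e.symm.toRingHom e.symm.injective

theorem backward (k : Type u) [Field k] (X : Scheme.{u}) [X.Over (Spec (CommRingCat.of k))] (x : X)
    [Algebra.IsGeometricallyReduced k (X.presheaf.stalk x)] : Curv2.IsGeomReducedAt k X x := by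
  intro K _ _ x' hx'
  obtain ⟨M, hM, -, ⟨e⟩⟩ := BCStalk.exists_prime_of_point (X ↘ Spec (CommRingCat.of k)) K x' x hx'
    rfl
  haveI : IsReduced (Localization.AtPrime M) :=
    isReduced_localizationPreserves M.primeCompl (Localization.AtPrime M)
      (Groth.Agent.S2536.isReduced_tensorProduct_field k (X.presheaf.stalk x) K)
  exact isReduced_of_injective e.toRingHom e.injective


/-- Let X be a scheme over a field k and x a point of X. Then X is geometrically reduced at x (all local
rings of all base changes X_{k'} at points over x are reduced) if and only if the local ring 𝒪_{X,x}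
is geometrically reduced as a k-algebra. -/
theorem result (k : Type u) [Field k] (X : Scheme.{u}) [X.Over (Spec (CommRingCat.of k))] (x : X) :
    Curv2.IsGeomReducedAt k X x ↔ Algebra.IsGeometricallyReduced k (X.presheaf.stalk x) := by
  exact ⟨forward k X x, fun h => backward k X x⟩

end Groth.Agent.S1541
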