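import Groth.Statements.S1560
import Mathlib
import Groth.Agent.S1541
import Groth.Agent.S2535

set_option autoImplicit false
set_option linter.style.haveILetI false
universe u
open CategoryTheory CategoryTheory.Limits AlgebraicGeometry
open Variety

namespace Groth.Agent.S1560

open TensorProduct

theorem isReduced_pi {ι : Type*} (B : ι → Type*) [∀ i, CommRing (B i)] [∀ i, IsReduced (B i)] :
    IsReduced (Π i, B i) := by
  constructor
  rintro x ⟨n, hn⟩
  funext i
  have : IsNilpotent (x i) := ⟨n, by simpa using congr_fun hn i⟩
  exact this.eq_zero

/-- a finite product of field extensions of a perfect field is geometrically reduced. -/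
theorem isGeometricallyReduced_pi_field (k : Type u) [Field k] [PerfectField k] {ι : Type u}
    [Finite ι] (F : ι → Type u) [∀ i, Field (F i)] [∀ i, Algebra k (F i)] :
    Algebra.IsGeometricallyReduced k (Π i, F i) := by
  classical
  cases nonempty_fintype ι
  rw [Algebra.isGeometricallyReduced_field_iff]
  let e := Algebra.TensorProduct.piRight k k (AlgebraicClosure k) F
  haveI : ∀ i, Algebra.IsGeometricallyReduced k (F i) := fun i =>
    Groth.Agent.S2535.isGeometricallyReduced_of_perfectField k (F i)
  haveI : IsReduced (Π i, AlgebraicClosure k ⊗[k] F i) := isReduced_pi _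
  exact isReduced_of_injective e.toRingHom e.injective

/-- a reduced noetherian algebra over a perfect field is geometrically reduced. -/
theorem isGeometricallyReduced_of_noetherian (k : Type u) [Field k] [PerfectField k]
    (B : Type u) [CommRing B] [Algebra k B] [IsReduced B] [IsNoetherianRing B] :
    Algebra.IsGeometricallyReduced k B := by
  classical
  have hfin : (minimalPrimes B).Finite := minimalPrimes.finite_of_isNoetherianRing B
  haveI : Finite (minimalPrimes B) := hfin
  haveI : ∀ p : minimalPrimes B, p.1.IsPrime := fun p => Ideal.IsMinimalPrime.isPrime p.2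
  let g : B →ₐ[k] Π p : minimalPrimes B, p.1.ResidueField :=
    AlgHom.pi (fun p => IsScalarTower.toAlgHom k B p.1.ResidueField)
  have hg : Function.Injective g := by
    rw [injective_iff_map_eq_zero]
    intro x hx
    have h1 : ∀ p : minimalPrimes B, x ∈ p.1 := by
      intro p
      have := congr_fun hx p
      change algebraMap B p.1.ResidueField x = 0 at this
      rwa [Ideal.algebraMap_residueField_eq_zero] at this
    have h2 : x ∈ sInf (minimalPrimes B) := by
      rw [Ideal.mem_sInf]
      intro p hp
      exact h1 ⟨p, hp⟩
    have h3 : sInf (minimalPrimes B) = (⊥ : Ideal B).radical := Ideal.sInf_minimalPrimes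
    rw [h3] at h2
    have h4 : (⊥ : Ideal B).radical = ⊥ := nilradical_eq_bot_iff.mpr inferInstance
    rw [h4] at h2
    simpa using h2
  haveI := isGeometricallyReduced_pi_field k (fun p : minimalPrimes B => p.1.ResidueField)
  exact Algebra.IsGeometricallyReduced.of_injective g hg

/-- a reduced algebra over a perfect field is geometrically reduced. -/
theorem isGeometricallyReduced_of_perfectField (k : Type u) [Field k] [PerfectField k]
    (B : Type u) [CommRing B] [Algebra k B] [IsReduced B] :
    Algebra.IsGeometricallyReduced k B := by
  apply Algebra.IsGeometricallyReduced.of_forall_fg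
  intro B₀ hB₀
  haveI : IsReduced B₀ := isReduced_of_injective B₀.val Subtype.val_injective
  haveI : Algebra.FiniteType k B₀ := (Subalgebra.fg_iff_finiteType B₀).mp hB₀
  haveI : IsNoetherianRing B₀ := Algebra.FiniteType.isNoetherianRing k B₀
  exact isGeometricallyReduced_of_noetherian k B₀


/-- Let X be a scheme over a perfect field k and x a point whose local ring is reduced. Then X is
geometrically reduced at x. -/
theorem result (k : Type u) [Field k] (X : Scheme.{u}) [X.Over (Spec (CommRingCat.of k))] [PerfectField k] (x : X)
    [IsReduced (X.presheaf.stalk x)] : Curv2.IsGeomReducedAt k X x := by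
  letI := Curv2.stalkAlgebra k X x
  haveI := isGeometricallyReduced_of_perfectField k (X.presheaf.stalk x)
  exact Groth.Agent.S1541.backward k X x

end Groth.Agent.S1560
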