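import Groth.Statements.S1610
import Mathlib
import Groth.Agent.S1541
import Groth.Agent.S1560

set_option autoImplicit false
set_option linter.style.haveILetI false
universe u
open CategoryTheory CategoryTheory.Limits AlgebraicGeometry
open Variety

namespace Groth.Agent.S1610

open TensorProduct Groth.Agent.Lib.Helper62

/-- reducedness of `F ⊗ B` for a purely inseparable extension `F` from the finite
subextensions. -/
theorem isReduced_tensor_of_forall_finite (k : Type u) [Field k]
    (B : Type u) [CommRing B] [Algebra k B]
    (h : ∀ (k' : Type u) [Field k'] [Algebra k k'] [FiniteDimensional k k']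
      [IsPurelyInseparable k k'], _root_.IsReduced (k' ⊗[k] B))
    (F : Type u) [Field F] [Algebra k F] [IsPurelyInseparable k F] :
    _root_.IsReduced (F ⊗[k] B) := by
  haveI : Algebra.IsAlgebraic k F := inferInstance
  have h1 : _root_.IsReduced (B ⊗[k] F) := by
    apply IsReduced.tensorProduct_of_flat_of_forall_fg
    intro D hD
    have hDf : IsField D := Subalgebra.isField_of_algebraic D
    let E : IntermediateField k F := D.toIntermediateField' hDf
    let e : D ≃ₐ[k] E :=
      { toFun := fun x => ⟨x.1, x.2⟩
        invFun := fun x => ⟨x.1, x.2⟩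
        left_inv := fun _ => rfl
        right_inv := fun _ => rfl
        map_mul' := fun _ _ => rfl
        map_add' := fun _ _ => rfl
        commutes' := fun _ => rfl }
    haveI : Algebra.FiniteType k D := (Subalgebra.fg_iff_finiteType D).mp hD
    haveI : Algebra.IsIntegral k F := inferInstance
    haveI : Algebra.IsIntegral k D := Algebra.IsIntegral.of_injective D.val Subtype.val_injective
    haveI : Module.Finite k D := Algebra.IsIntegral.finite
    haveI : FiniteDimensional k E := Module.Finite.equiv e.toLinearEquiv
    haveI : IsPurelyInseparable k E := IsPurelyInseparable.tower_bot k E F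
    have h2 : _root_.IsReduced (E ⊗[k] B) := h E
    let e2 : B ⊗[k] D ≃ₐ[k] E ⊗[k] B :=
      (Algebra.TensorProduct.congr AlgEquiv.refl e).trans (Algebra.TensorProduct.comm k B E)
    exact isReduced_of_injective e2.toRingHom e2.injective
  let e3 := Algebra.TensorProduct.comm k F B
  exact isReduced_of_injective e3.toRingHom e3.injective

theorem isReduced_tensor_of_perfect (k : Type u) [Field k]
    (B : Type u) [CommRing B] [Algebra k B] (F : Type u) [Field F] [Algebra k F] [PerfectField F]
    (K : Type u) [Field K] [Algebra k K] [Algebra F K] [IsScalarTower k F K]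
    [_root_.IsReduced (F ⊗[k] B)] : _root_.IsReduced (K ⊗[k] B) := by
  haveI : Algebra.IsGeometricallyReduced F (F ⊗[k] B) :=
    Groth.Agent.S1560.isGeometricallyReduced_of_perfectField F (F ⊗[k] B)
  have h1 : _root_.IsReduced (K ⊗[F] (F ⊗[k] B)) :=
    Groth.Agent.S2536.isReduced_tensorProduct_field F (F ⊗[k] B) K
  let e := Algebra.TensorProduct.cancelBaseChange k F K K B
  exact isReduced_of_injective e.symm.toRingHom e.symm.injective

/-- in characteristic `p`, geometric reducedness can be tested on finite purely inseparable
extensions. -/
theorem isGeometricallyReduced_of_forall_purelyInseparable (k : Type u) [Field k]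
    (B : Type u) [CommRing B] [Algebra k B]
    (h : ∀ (k' : Type u) [Field k'] [Algebra k k'] [FiniteDimensional k k']
      [IsPurelyInseparable k k'], _root_.IsReduced (k' ⊗[k] B)) :
    Algebra.IsGeometricallyReduced k B := by
  haveI : _root_.IsReduced ((perfectClosure k (AlgebraicClosure k)) ⊗[k] B) :=
    isReduced_tensor_of_forall_finite k B h (perfectClosure k (AlgebraicClosure k))
  rw [Algebra.isGeometricallyReduced_field_iff]
  exact isReduced_tensor_of_perfect k B (perfectClosure k (AlgebraicClosure k)) (AlgebraicClosure k)

/-- for an algebraic extension `K`, reducedness of `K ⊗ O` can be tested at the primes over the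
maximal ideal. -/
theorem isReduced_tensor_of_forall_prime (k : Type u) [Field k] (O : Type u) [CommRing O]
    [IsLocalRing O] [Algebra k O] (K : Type u) [Field K] [Algebra k K] [Algebra.IsAlgebraic k K]
    (h : ∀ (M : Ideal (K ⊗[k] O)) [M.IsPrime],
      M.comap (Algebra.TensorProduct.includeRight (R := k) (A := K)
        (B := O)).toRingHom = IsLocalRing.maximalIdeal O →
          _root_.IsReduced (Localization.AtPrime M)) :
    _root_.IsReduced (K ⊗[k] O) := by
  apply isReduced_ofLocalizationMaximal
  intro J hJ
  apply h J
  letI : Algebra O (K ⊗[k] O) := Algebra.TensorProduct.rightAlgebra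
  haveI : Algebra.IsIntegral k K := inferInstance
  have hint : (algebraMap O (K ⊗[k] O)).IsIntegral :=
    RingHom.isIntegral_isStableUnderBaseChange k K O (K ⊗[k] O)
      (algebraMap_isIntegral_iff.mpr (inferInstance : Algebra.IsIntegral k K))
  haveI : Algebra.IsIntegral O (K ⊗[k] O) := algebraMap_isIntegral_iff.mp hint
  have hmax : (J.comap (algebraMap O (K ⊗[k] O))).IsMaximal :=
    Ideal.isMaximal_comap_of_isIntegral_of_isMaximal J
  exact IsLocalRing.eq_maximalIdeal hmax

theorem backward (k : Type u) [Field k]
    (X : Scheme.{u}) [X.Over (Spec (CommRingCat.of k))] (x : X)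
    (h : ∀ (k' : Type u) [Field k'] [Algebra k k'] [FiniteDimensional k k']
      [IsPurelyInseparable k k'] (x' : Curv2.bc k X k'), Curv2.bcFst k X k' x' = x →
        _root_.IsReduced ((Curv2.bc k X k').presheaf.stalk x')) :
    Curv2.IsGeomReducedAt k X x := by
  letI := Curv2.stalkAlgebra k X x
  haveI : Algebra.IsGeometricallyReduced k (X.presheaf.stalk x) := by
    apply isGeometricallyReduced_of_forall_purelyInseparable
    intro k' _ _ _ _
    haveI : Algebra.IsAlgebraic k k' := inferInstance
    apply isReduced_tensor_of_forall_prime
    intro M _ hM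
    obtain ⟨x', hx', ⟨e⟩⟩ := BCStalk.exists_point_of_prime (X ↘ Spec (CommRingCat.of k))
      k' x rfl M hM
    have := h k' x' hx'
    exact isReduced_of_injective e.symm.toRingHom e.symm.injective
  exact Groth.Agent.S1541.backward k X x


/-- Let k have characteristic p > 0, X a scheme over k and x a point. Then X is geometrically reduced at
x if and only if for every finite purely inseparable extension k' of k and every point x' of X_{k'}
over x, the local ring of X_{k'} at x' is reduced. -/
theorem result (k : Type u) [Field k] (p : ℕ) [Fact p.Prime] [CharP k p]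
    (X : Scheme.{u}) [X.Over (Spec (CommRingCat.of k))] (x : X) :
    Curv2.IsGeomReducedAt k X x ↔
      ∀ (k' : Type u) [Field k'] [Algebra k k'] [FiniteDimensional k k'] [IsPurelyInseparable k k']
        (x' : Curv2.bc k X k'), Curv2.bcFst k X k' x' = x → IsReduced ((Curv2.bc k X k').presheaf.stalk x') := by
  constructor
  · intro h k' _ _ _ _ x' hx'
    exact h k' x' hx'
  · intro h
    exact backward k X x h

end Groth.Agent.S1610
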