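import Groth.Statements.S1543
import Mathlib
import Groth.Agent.S1548

set_option autoImplicit false
set_option linter.style.haveILetI false
universe u
open CategoryTheory CategoryTheory.Limits AlgebraicGeometry
open Variety

namespace Groth.Agent.S1543

open TensorProduct Groth.Agent.Lib.Helper62

/-- in a reduced ring, an element vanishing in the localizations at all minimal primes is zero. -/
theorem eq_zero_of_forall_minimalPrimes {A : Type*} [CommRing A] [_root_.IsReduced A] (a : A)
    (h : ∀ (p : Ideal A) (hp : p ∈ minimalPrimes A),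
      haveI : p.IsPrime := Ideal.IsMinimalPrime.isPrime hp
      algebraMap A (Localization.AtPrime p) a = 0) : a = 0 := by
  have h2 : a ∈ sInf (minimalPrimes A) := by
    rw [Ideal.mem_sInf]
    intro p hp
    haveI : p.IsPrime := Ideal.IsMinimalPrime.isPrime hp
    have h1 := h p hp
    rw [IsLocalization.map_eq_zero_iff p.primeCompl] at h1
    obtain ⟨s, hs⟩ := h1
    have : (s : A) * a ∈ p := by rw [hs]; exact p.zero_mem
    exact (Ideal.IsPrime.mem_or_mem inferInstance this).resolve_left s.2
  have h3 : sInf (minimalPrimes A) = (⊥ : Ideal A).radical := Ideal.sInf_minimalPrimes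
  have h4 : (⊥ : Ideal A).radical = ⊥ := nilradical_eq_bot_iff.mpr inferInstance
  rw [h3, h4] at h2
  simpa using h2

/-- a reduced algebra which is geometrically reduced at its minimal primes is geometrically
reduced. -/
theorem isGeometricallyReduced_of_minimalPrimes (k : Type u) [Field k] (A : Type u) [CommRing A]
    [Algebra k A] [_root_.IsReduced A]
    (h : ∀ (p : Ideal A) (hp : p ∈ minimalPrimes A),
      haveI : p.IsPrime := Ideal.IsMinimalPrime.isPrime hp
      Algebra.IsGeometricallyReduced k (Localization.AtPrime p)) :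
    Algebra.IsGeometricallyReduced k A := by
  classical
  rw [Algebra.isGeometricallyReduced_field_iff]
  set K := AlgebraicClosure k
  let b := Module.Free.chooseBasis k K
  constructor
  intro z hz
  obtain ⟨c, rfl⟩ := TensorProduct.eq_repr_basis_left b z
  suffices hc : c = 0 by rw [hc]; simp
  ext i
  rw [Finsupp.zero_apply]
  apply eq_zero_of_forall_minimalPrimes
  intro p hp
  haveI : p.IsPrime := Ideal.IsMinimalPrime.isPrime hp
  haveI := h p hp
  haveI : _root_.IsReduced (K ⊗[k] Localization.AtPrime p) :=
    (Algebra.isGeometricallyReduced_field_iff k _).mp inferInstance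
  let φ : K ⊗[k] A →ₐ[K] K ⊗[k] Localization.AtPrime p :=
    Algebra.TensorProduct.map (AlgHom.id K K) (IsScalarTower.toAlgHom k A (Localization.AtPrime p))
  have h1 : IsNilpotent (φ (c.sum fun i n => b i ⊗ₜ[k] n)) := hz.map φ
  have h2 : φ (c.sum fun i n => b i ⊗ₜ[k] n) = 0 := h1.eq_zero
  have h3 : φ (c.sum fun i n => b i ⊗ₜ[k] n) =
      (c.mapRange (algebraMap A (Localization.AtPrime p)) (map_zero _)).sum
        fun i n => b i ⊗ₜ[k] n := by
    rw [Finsupp.sum_mapRange_index (by intro i; simp), Finsupp.sum, map_sum]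
    rfl
  rw [h3] at h2
  have h4 := TensorProduct.sum_tmul_basis_left_eq_zero b _ h2
  have := DFunLike.congr_fun h4 i
  simpa using this

/-- the closure of a maximal point of an open subset of a quasi-sober space is an irreducible
component. -/
theorem closure_mem_irreducibleComponents {X : Type*} [TopologicalSpace X] [QuasiSober X]
    (U : Set X) (hU : IsOpen U) (η : X) (hη : η ∈ U) (hmax : ∀ ζ ∈ U, ζ ⤳ η → ζ = η) :
    closure {η} ∈ irreducibleComponents X := by
  refine ⟨isIrreducible_singleton.closure, ?_⟩
  intro s hs hle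
  obtain ⟨ζ, hζ⟩ := QuasiSober.sober hs.closure isClosed_closure
  have h1 : η ∈ closure {ζ} := by
    rw [hζ.def]
    exact subset_closure (hle (subset_closure rfl))
  have h2 : ζ ⤳ η := specializes_iff_mem_closure.mpr h1
  have h3 : ζ = η := hmax ζ (h2.mem_open hU hη) h2
  calc s ⊆ closure s := subset_closure
    _ = closure {ζ} := hζ.def.symm
    _ = closure {η} := by rw [h3]

/-- localizations of a geometrically reduced algebra are geometrically reduced. -/
theorem geomReduced_localization (k : Type u) [Field k] (A : Type u) [CommRing A] [Algebra k A]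
    [Algebra.IsGeometricallyReduced k A] (q : Ideal A) [q.IsPrime]
    (O : Type u) [CommRing O] [Algebra k O] [Algebra A O] [IsScalarTower k A O]
    [IsLocalization.AtPrime O q] : Algebra.IsGeometricallyReduced k O := by
  rw [Algebra.isGeometricallyReduced_field_iff]
  have hA : _root_.IsReduced (AlgebraicClosure k ⊗[k] A) :=
    (Algebra.isGeometricallyReduced_field_iff k A).mp inferInstance
  letI := (BCStalk.tmap k (AlgebraicClosure k) A O).toRingHom.toAlgebra
  haveI := BCStalk.isLocalization_tensor k (AlgebraicClosure k) A q O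
  exact isReduced_localizationPreserves (q.primeCompl.map
    (Algebra.TensorProduct.includeRight (R := k) (A := AlgebraicClosure k) (B := A))) _ hA

theorem main (k : Type u) [Field k] (X : Scheme.{u}) [X.Over (Spec (CommRingCat.of k))]
    [IsReduced X]
    (h : ∀ Z ∈ irreducibleComponents (X : Type u), ∀ η : X, IsGenericPoint η Z →
      Curv2.IsGeomReducedAt k X η) :
    GeometricallyReduced (X ↘ (Spec (CommRingCat.of k))) := by
  apply Groth.Agent.S1548.geometricallyReduced_of_forall
  intro x
  obtain ⟨_, ⟨U, hU, rfl⟩, hxU, -⟩ :=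
    X.isBasis_affineOpens.exists_subset_of_mem_open (Set.mem_univ x) isOpen_univ
  letI : Algebra k Γ(X, U) := (BCStalk.toSection (X ↘ Spec (CommRingCat.of k)) U).toAlgebra
  haveI : Algebra.IsGeometricallyReduced k Γ(X, U) := by
    apply isGeometricallyReduced_of_minimalPrimes
    intro p hp
    haveI : p.IsPrime := Ideal.IsMinimalPrime.isPrime hp
    let y : PrimeSpectrum Γ(X, U) := ⟨p, inferInstance⟩
    let η' : (U : X.Opens) := hU.isoSpec.inv y
    have hη'y : hU.primeIdealOf η' = y := by
      change hU.isoSpec.hom (hU.isoSpec.inv y) = y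
      rw [← Scheme.Hom.comp_apply, Iso.inv_hom_id]
      rfl
    have hmax : ∀ ζ ∈ (U : Set X), ζ ⤳ η'.1 → ζ = η'.1 := by
      intro ζ hζ hsp
      have hsp1 : (⟨ζ, hζ⟩ : U) ⤳ η' := (subtype_specializes_iff _ _).mpr hsp
      have hsp2 : hU.primeIdealOf ⟨ζ, hζ⟩ ⤳ hU.primeIdealOf η' :=
        hsp1.map hU.isoSpec.hom.continuous
      have hle : (hU.primeIdealOf ⟨ζ, hζ⟩).asIdeal ≤ (hU.primeIdealOf η').asIdeal :=
        (PrimeSpectrum.le_iff_specializes _ _).mpr hsp2
      rw [hη'y] at hle
      have hle2 : p ≤ (hU.primeIdealOf ⟨ζ, hζ⟩).asIdeal :=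
        hp.2 ⟨(hU.primeIdealOf ⟨ζ, hζ⟩).isPrime, bot_le⟩ hle
      have heq : hU.primeIdealOf ⟨ζ, hζ⟩ = hU.primeIdealOf η' := by
        rw [hη'y]
        exact PrimeSpectrum.ext (le_antisymm hle hle2)
      have h3 := congr(hU.fromSpec $heq)
      rw [hU.fromSpec_primeIdealOf, hU.fromSpec_primeIdealOf] at h3
      exact h3
    have hcomp := closure_mem_irreducibleComponents (U : Set X) U.isOpen η'.1 η'.2 hmax
    have hgr := h _ hcomp η'.1 rfl
    letI := Curv2.stalkAlgebra k X η'.1
    haveI := Groth.Agent.S1541.forward k X η'.1 hgr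
    letI : Algebra Γ(X, U) (X.presheaf.stalk η'.1) := X.presheaf.algebra_section_stalk η'
    haveI : IsScalarTower k Γ(X, U) (X.presheaf.stalk η'.1) :=
      BCStalk.chart_aux (X ↘ Spec (CommRingCat.of k)) η'.1 η'.2 rfl
    haveI hloc := hU.isLocalization_stalk η'
    rw [hη'y] at hloc
    let e : Localization.AtPrime p ≃ₐ[Γ(X, U)] X.presheaf.stalk η'.1 :=
      IsLocalization.algEquiv p.primeCompl _ _
    exact Algebra.IsGeometricallyReduced.of_injective (e.toAlgHom.restrictScalars k) e.injective
  letI := Curv2.stalkAlgebra k X x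
  letI : Algebra Γ(X, U) (X.presheaf.stalk x) := X.presheaf.algebra_section_stalk ⟨x, hxU⟩
  haveI : IsScalarTower k Γ(X, U) (X.presheaf.stalk x) :=
    BCStalk.chart_aux (X ↘ Spec (CommRingCat.of k)) x hxU rfl
  haveI := hU.isLocalization_stalk ⟨x, hxU⟩
  haveI := geomReduced_localization k Γ(X, U) (hU.primeIdealOf ⟨x, hxU⟩).asIdeal
    (X.presheaf.stalk x)
  exact Groth.Agent.S1541.backward k X x


/-- A reduced scheme over k which is geometrically reduced at every generic point of an irreducible
component is geometrically reduced over k. -/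
theorem result (k : Type u) [Field k] (X : Scheme.{u}) [X.Over (Spec (CommRingCat.of k))] [IsReduced X]
    (h : ∀ Z ∈ irreducibleComponents (X : Type u), ∀ η : X, IsGenericPoint η Z → Curv2.IsGeomReducedAt k X η) :
    GeometricallyReduced (X ↘ (Spec (CommRingCat.of k))) := by
  exact main k X h

end Groth.Agent.S1543
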