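import Groth.Statements.S9735
import Groth.Agent.Lib.Helper24.GeomDescent
import Mathlib.AlgebraicGeometry.Fiber
import Mathlib.AlgebraicGeometry.Geometrically.Reduced

set_option autoImplicit false
universe u
open FlatMor

namespace Groth.Agent.S9735

open AlgebraicGeometry CategoryTheory Limits in
/-- Given a morphism f : X ⟶ Y and any g : Y' ⟶ Y, let f' : X' ⟶ Y' be obtained from f by pulling back
along g (a cartesian square with g' : X' ⟶ X). A point y' of Y' has geometrically reduced fibre
under f' exactly when g y' has geometrically reduced fibre under f. -/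
theorem result {X Y X' Y' : Scheme.{u}} (f : X ⟶ Y) (g : Y' ⟶ Y) (f' : X' ⟶ Y') (g' : X' ⟶ X)
    (hc : IsPullback g' f' f g) :
    {y' : ↑Y' | GeometricallyReduced (f'.fiberToSpecResidueField y')} =
      g ⁻¹' {y : ↑Y | GeometricallyReduced (f.fiberToSpecResidueField y)} := by
  ext y'
  simp only [Set.mem_setOf_eq, Set.mem_preimage]
  have hp := isPullback_fiberToSpecResidueField_of_isPullback hc y'
  constructor
  · intro h
    haveI : Surjective (Spec.map (g.residueFieldMap y')) :=
      Groth.Agent.Lib.Helper24.surjective_SpecMap_field
        (K := Y.residueField (g y')) (Ω := Y'.residueField y') (Spec.map (g.residueFieldMap y'))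
    rw [GeometricallyReduced.eq_geometrically] at h ⊢
    refine Groth.Agent.Lib.Helper24.geometrically_of_pullback_snd_of_surjective
      (fun a _ _ s p q hpb hW => Groth.Agent.Lib.Helper24.isReduced_of_isPullback_field a s p q hpb hW)
      (f.fiberToSpecResidueField (g y')) (Spec.map (g.residueFieldMap y')) ?_
    have e : pullback.snd (f.fiberToSpecResidueField (g y')) (Spec.map (g.residueFieldMap y')) =
        hp.isoPullback.inv ≫ f'.fiberToSpecResidueField y' := by
      exact hp.isoPullback_inv_snd.symm
    rw [e]
    exact (MorphismProperty.cancel_left_of_respectsIso _ _ _).2 h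
  · intro h
    exact MorphismProperty.of_isPullback (P := @GeometricallyReduced) hp h

end Groth.Agent.S9735
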