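import Groth.Statements.S9200
import Mathlib.AlgebraicGeometry.AffineTransitionLimit
import Mathlib.AlgebraicGeometry.Morphisms.QuasiSeparated

set_option autoImplicit false
universe u
open CategoryTheory AlgebraicGeometry
open Lim

namespace Groth.Agent.S9200

/-- Let S be a scheme and X = lim X_i a cofiltered limit of S-schemes X_i (a diagram with a compatible
family of structure maps to S) with affine transition morphisms, every X_i quasi-compact and
quasi-separated; the structure map X → S is the composite X → X_{i₀} → S for any index i₀. Assume S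
is quasi-compact and quasi-separated. If X → S is affine, then X_i → S is affine for all i beyond
some index i₁. -/
theorem result {I : Type u} [SmallCategory I] [IsCofiltered I] (S : Scheme.{u}) [CompactSpace S] [QuasiSeparatedSpace S]
    (D : I ⥤ Scheme.{u}) (t : D ⟶ (Functor.const I).obj S) (c : Limits.Cone D) (hc : Limits.IsLimit c)
    [∀ (i j : I) (a : i ⟶ j), IsAffineHom (D.map a)]
    [∀ i, CompactSpace (D.obj i)] [∀ i, QuasiSeparatedSpace (D.obj i)] (i₀ : I)
    [IsAffineHom (c.π.app i₀ ≫ t.app i₀)] :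
    ∃ i₁ : I, ∀ (i : I) (_ : i ⟶ i₁), IsAffineHom (t.app i) := by
  classical
  have hnat : ∀ {i j : I} (f : i ⟶ j), (D.map f ≫ t.app j : D.obj i ⟶ S) = t.app i := by
    intro i j f
    have := t.naturality f
    simp only [Functor.const_obj_obj, Functor.const_obj_map, Category.comp_id] at this
    exact this
  have key : ∀ V : S.Opens, IsAffineOpen V → ∃ j : I, IsAffineOpen ((t.app j) ⁻¹ᵁ V) := by
    intro V hV
    let U : (D.obj i₀).Opens := (t.app i₀) ⁻¹ᵁ V
    have : QuasiCompact (t.app i₀) :=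
      quasiCompact_of_compactSpace (X := D.obj i₀) (Y := S) (t.app i₀)
    have hUc : IsCompact (U : Set (D.obj i₀)) :=
      QuasiCompact.isCompact_preimage (f := t.app i₀) _ V.2 hV.isCompact
    have (j : Over i₀) : CompactSpace ((opensDiagram D i₀ U).obj j) :=
      isCompact_iff_compactSpace.mp (QuasiCompact.isCompact_preimage _ U.2 hUc)
    have (j : Over i₀) : QuasiSeparatedSpace ((opensDiagram D i₀ U).obj j) :=
      (isQuasiSeparated_iff_quasiSeparatedSpace _ (D.map _ ⁻¹ᵁ _).2).mp
        (.of_quasiSeparatedSpace _)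
    have : IsAffine (opensCone D c i₀ U).pt := by
      have h := hV.preimage (c.π.app i₀ ≫ t.app i₀)
      rw [Scheme.Hom.comp_preimage] at h
      exact h
    obtain ⟨j, hj⟩ := Scheme.exists_isAffine_of_isLimit _ _ (isLimitOpensCone D c hc i₀ U)
    refine ⟨j.left, ?_⟩
    have h2 : IsAffineOpen (D.map j.hom ⁻¹ᵁ U) := hj
    have h3 : D.map j.hom ⁻¹ᵁ U = (t.app j.left) ⁻¹ᵁ V := by
      change D.map j.hom ⁻¹ᵁ ((t.app i₀) ⁻¹ᵁ V) = _
      rw [← Scheme.Hom.comp_preimage, hnat]
    rwa [h3] at h2
  let 𝒰 := S.affineCover.finiteSubcover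
  choose jk hjk using fun k : 𝒰.I₀ => key (𝒰.f k).opensRange (isAffineOpen_opensRange _)
  obtain ⟨i₁, fi⟩ := IsCofiltered.inf_objs_exists (Finset.univ.image jk)
  refine ⟨i₁, fun i h => ?_⟩
  apply isAffineHom_of_forall_exists_isAffineOpen
  intro x
  obtain ⟨k, y, rfl⟩ := 𝒰.exists_eq x
  refine ⟨(𝒰.f k).opensRange, ⟨y, rfl⟩, isAffineOpen_opensRange _, ?_⟩
  have g : i₁ ⟶ jk k := (fi (by simp)).some
  have e : t.app i = D.map (h ≫ g) ≫ t.app (jk k) := (hnat (h ≫ g)).symm
  rw [e, Scheme.Hom.comp_preimage]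
  exact (hjk k).preimage _

end Groth.Agent.S9200
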