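import Groth.Statements.S0415
import Mathlib.AlgebraicGeometry.Morphisms.UniversallyClosed
import Mathlib.AlgebraicGeometry.Morphisms.Affine
-- import your own Groth.Agent.* helpers here

set_option autoImplicit false
universe u
open FlatMor

namespace Groth.Agent.S0415

open AlgebraicGeometry CategoryTheory Limits in
/-- A morphism of schemes is a universal homeomorphism if and only if it is integral, universally
injective and surjective. -/
theorem result {X Y : Scheme.{u}} (f : X ⟶ Y) :
    FlatMor.IsUnivHomeo f ↔ IsIntegralHom f ∧ UniversallyInjective f ∧ Surjective f := by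
  constructor
  · intro h
    have hf : IsHomeomorph f := h (𝟙 X) (𝟙 Y) f IsPullback.of_id_snd
    have hinj : UniversallyInjective f := by
      refine ⟨?_⟩
      intro X' Y' i₁ i₂ f' H
      exact (h i₁ i₂ f' H).injective
    have hcl : UniversallyClosed f := by
      refine ⟨?_⟩
      intro X' Y' i₁ i₂ f' H
      exact (h i₁ i₂ f' H).isClosedMap
    have haff : IsAffineHom f := by
      apply isAffineHom_of_isInducing f hf.isInducing
      rw [hf.surjective.range_eq]
      exact isClosed_univ
    exact ⟨IsIntegralHom.iff_universallyClosed_and_isAffineHom.mpr ⟨hcl, haff⟩, hinj, ⟨hf.surjective⟩⟩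
  · rintro ⟨hint, hinj, hsurj⟩
    intro X' Y' i₁ i₂ f' H
    have h1 : IsIntegralHom f' := MorphismProperty.of_isPullback H.flip hint
    have h2 : UniversallyInjective f' := MorphismProperty.of_isPullback H.flip hinj
    have h3 : Surjective f' := MorphismProperty.of_isPullback H.flip hsurj
    exact (isHomeomorph_iff_continuous_isClosedMap_bijective).mpr
      ⟨f'.continuous, f'.isClosedMap, f'.injective, f'.surjective⟩

end Groth.Agent.S0415
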