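import Groth.Statements.S9205
import Groth.Agent.Lib.Helper39.UCFT2
-- import your own Groth.Agent.* helpers here

set_option autoImplicit false
universe u
open CategoryTheory CategoryTheory.Limits AlgebraicGeometry
open Lim

namespace Groth.Agent.S9205

section Helpers

set_option autoImplicit false
open CategoryTheory CategoryTheory.Limits AlgebraicGeometry
open Groth.Agent.Lib.Helper39.UCFT

theorem isClosedMap_snd_gmap_of_affineSpace {X S : Scheme.{u}} (f : X ⟶ S)
    (H : ∀ n : ℕ, IsClosedMap (pullback.snd f (𝔸(ULift.{u} (Fin n); S) ↘ S)))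
    {R : CommRingCat.{u}} (j : Spec R ⟶ S) [IsOpenImmersion j]
    (B₀ : Type u) [CommRing B₀] [Algebra R B₀] (hB₀ : Algebra.FiniteType R B₀) :
    IsClosedMap (pullback.snd (pullback.snd f j) (gmap R B₀)) := by
  obtain ⟨n, φ, hφ⟩ := Algebra.FiniteType.iff_quotient_mvPolynomial''.mp hB₀
  let ρ : MvPolynomial (ULift.{u} (Fin n)) R ≃ₐ[R] MvPolynomial (Fin n) R :=
    MvPolynomial.renameEquiv R Equiv.ulift
  let ψ : MvPolynomial (ULift.{u} (Fin n)) R →ₐ[R] B₀ := φ.comp ρ.toAlgHom
  have hψ : Function.Surjective ψ := hφ.comp ρ.surjective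
  let c : Spec (.of B₀) ⟶ Spec (.of (MvPolynomial (ULift.{u} (Fin n)) R)) :=
    Spec.map (CommRingCat.ofHom (ψ : MvPolynomial (ULift.{u} (Fin n)) R →+* B₀))
  have : IsClosedImmersion c := IsClosedImmersion.spec_of_surjective _ hψ
  have hc : c ≫ Spec.map (CommRingCat.ofHom (MvPolynomial.C :
      R →+* MvPolynomial (ULift.{u} (Fin n)) R)) = gmap R B₀ := by
    unfold gmap
    rw [← Spec.map_comp]
    congr 1
    ext r
    show ψ (MvPolynomial.C r) = _
    rw [← MvPolynomial.algebraMap_eq]
    exact ψ.commutes r
  have hopen : IsOpenImmersion (AffineSpace.map (ULift.{u} (Fin n)) j) :=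
    MorphismProperty.of_isPullback (P := @IsOpenImmersion)
      (AffineSpace.isPullback_map (n := ULift.{u} (Fin n)) j).flip inferInstance
  rw [isClosedMap_snd_snd_iff]
  have hfac : gmap R B₀ ≫ j =
      (c ≫ (AffineSpace.SpecIso (ULift.{u} (Fin n)) R).inv ≫
        AffineSpace.map (ULift.{u} (Fin n)) j) ≫ (𝔸(ULift.{u} (Fin n); S) ↘ S) := by
    rw [Category.assoc, Category.assoc, AffineSpace.map_over, AffineSpace.SpecIso_inv_over_assoc,
      ← Category.assoc, hc]
  rw [hfac]
  exact isClosedMap_snd_comp_of_isPreimmersion f _ _ (H n)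

theorem main9205 {X S : Scheme.{u}} (f : X ⟶ S) [QuasiCompact f] :
    (UniversallyClosed f ↔ ∀ (S' : Scheme.{u}) (g : S' ⟶ S), LocallyOfFinitePresentation g →
        IsClosedMap (pullback.snd f g).base) ∧
      (UniversallyClosed f ↔ ∀ n : ℕ, IsClosedMap (pullback.snd f (𝔸(ULift.{u} (Fin n); S) ↘ S)).base) := by
  have key : (∀ n : ℕ, IsClosedMap (pullback.snd f (𝔸(ULift.{u} (Fin n); S) ↘ S)).base) →
      UniversallyClosed f := by
    intro H
    rw [IsZariskiLocalAtTarget.iff_of_openCover (P := @UniversallyClosed) S.affineCover]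
    intro i
    show UniversallyClosed (pullback.snd f (S.affineCover.f i))
    have hqc : QuasiCompact (pullback.snd f (S.affineCover.f i)) := inferInstance
    have hoi : IsOpenImmersion (S.affineCover.f i) := inferInstance
    exact @universallyClosed_of_affine_base' _ _ (pullback.snd f (S.affineCover.f i)) hqc
      (fun B₀ _ _ hB₀ => @isClosedMap_snd_gmap_of_affineSpace _ _ f H _ (S.affineCover.f i) hoi
        B₀ _ _ hB₀)
  have fwd : UniversallyClosed f → ∀ (S' : Scheme.{u}) (g : S' ⟶ S),
      IsClosedMap (pullback.snd f g).base := by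
    intro huc S' g
    exact (pullback.snd f g).isClosedMap
  refine ⟨⟨fun huc S' g _ => fwd huc S' g, fun H => key fun n => H _ _ inferInstance⟩,
    ⟨fun huc n => fwd huc _ _, key⟩⟩

end Helpers

/-- Let f : X → S be a quasi-compact morphism of schemes. Then: f is universally closed if and only if,
whenever g : S' → S is a morphism locally of finite presentation, the projection X ×_S S' → S' is a
closed map; and f is universally closed if and only if for every natural number n the base change X
×_S A^n_S → A^n_S to affine n-space over S is closed. -/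
theorem result {X S : Scheme.{u}} (f : X ⟶ S) [QuasiCompact f] :
    (UniversallyClosed f ↔ ∀ (S' : Scheme.{u}) (g : S' ⟶ S), LocallyOfFinitePresentation g →
        IsClosedMap (pullback.snd f g).base) ∧
      (UniversallyClosed f ↔ ∀ n : ℕ, IsClosedMap (pullback.snd f (𝔸(ULift.{u} (Fin n); S) ↘ S)).base) := by
  exact main9205 f

end Groth.Agent.S9205
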