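import Groth.Statements.S9675
import Groth.Agent.S0573
-- import your own Groth.Agent.* helpers here

set_option autoImplicit false
universe u
open CategoryTheory CategoryTheory.Limits AlgebraicGeometry
open Mor

namespace Groth.Agent.S9675

section Helpers

set_option autoImplicit false
set_option linter.style.haveILetI false
open CategoryTheory CategoryTheory.Limits AlgebraicGeometry

theorem finite_integralClosure_sections {X S : Scheme.{u}} (f : X ⟶ S) [LocallyOfFiniteType f]
    [QuasiCompact f] [IsReduced X] (U : S.Opens) (hU : IsAffineOpen U)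
    (hN : CAlg.IsNagata Γ(S, U)) :
    letI := (f.app U).hom.toAlgebra
    Module.Finite Γ(S, U) (integralClosure Γ(S, U) Γ(X, f ⁻¹ᵁ U)) := by
  letI := (f.app U).hom.toAlgebra
  have hc : IsCompact ((f ⁻¹ᵁ U : X.Opens) : Set X) := f.isCompact_preimage hU.isCompact
  obtain ⟨s, hs, hcov⟩ := isCompact_and_isOpen_iff_finite_and_eq_biUnion_affineOpens.mp
    ⟨hc, (f ⁻¹ᵁ U).isOpen⟩
  have : Finite s := hs.to_subtype
  have hle : ∀ V : s, (V.1.1 : X.Opens) ≤ f ⁻¹ᵁ U := fun V x hx => by
    have : x ∈ ((f ⁻¹ᵁ U : X.Opens) : Set X) := by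
      rw [hcov]
      exact Set.mem_biUnion V.2 hx
    exact this
  letI : ∀ V : s, Algebra Γ(S, U) Γ(X, V.1.1) := fun V => (f.appLE U V.1.1 (hle V)).hom.toAlgebra
  have hft : ∀ V : s, Algebra.FiniteType Γ(S, U) Γ(X, V.1.1) := fun V =>
    f.finiteType_appLE hU V.1.2 (hle V)
  have hfinV : ∀ V : s, Module.Finite Γ(S, U) (integralClosure Γ(S, U) Γ(X, V.1.1)) := fun V =>
    Groth.Agent.S0573.result Γ(S, U) hN Γ(X, V.1.1)
  have hNoeth : IsNoetherianRing Γ(S, U) := hN.1
  let ρ : ∀ V : s, Γ(X, f ⁻¹ᵁ U) →ₐ[Γ(S, U)] Γ(X, V.1.1) := fun V =>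
    { toRingHom := (X.presheaf.map (homOfLE (hle V)).op).hom
      commutes' := fun a => rfl }
  let Φ : integralClosure Γ(S, U) Γ(X, f ⁻¹ᵁ U) →ₗ[Γ(S, U)]
      (∀ V : s, integralClosure Γ(S, U) Γ(X, V.1.1)) :=
    LinearMap.pi fun V => ((ρ V).mapIntegralClosure).toLinearMap
  have hΦ : Function.Injective Φ := by
    rw [injective_iff_map_eq_zero]
    intro b hb
    apply Subtype.ext
    have hb' : ∀ V : s, (X.presheaf.map (homOfLE (hle V)).op).hom b.1 = 0 := fun V => by
      have := congr_arg Subtype.val (congr_fun hb V)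
      exact this
    refine X.sheaf.eq_of_locally_eq' (fun V : s => V.1.1) (f ⁻¹ᵁ U) (fun V => homOfLE (hle V)) ?_
      b.1 0 fun V => ?_
    · intro x hx
      have : x ∈ ((f ⁻¹ᵁ U : X.Opens) : Set X) := hx
      rw [hcov] at this
      obtain ⟨V, hV, hxV⟩ := Set.mem_iUnion₂.mp this
      exact TopologicalSpace.Opens.mem_iSup.mpr ⟨⟨V, hV⟩, hxV⟩
    · have h0 : (X.presheaf.map (homOfLE (hle V)).op).hom (0 : Γ(X, f ⁻¹ᵁ U)) = 0 := map_zero _
      exact (hb' V).trans h0.symm
  have : Module.Finite Γ(S, U) (∀ V : s, integralClosure Γ(S, U) Γ(X, V.1.1)) := Module.Finite.pi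
  have : IsNoetherian Γ(S, U) (∀ V : s, integralClosure Γ(S, U) Γ(X, V.1.1)) :=
    isNoetherian_of_isNoetherianRing_of_finite _ _
  exact Module.Finite.of_injective Φ hΦ

theorem main9675 {X S : Scheme.{u}} (f : X ⟶ S)
    [LocallyOfFiniteType f] [QuasiCompact f] [QuasiSeparated f] [IsReduced X]
    (hS : ∀ U : S.affineOpens, CAlg.IsNagata Γ(S, U)) :
    IsFinite f.fromNormalization := by
  refine (isFinite_iff _).mpr ⟨inferInstance, fun U hU => ?_⟩
  letI := (f.app U).hom.toAlgebra
  have hfin := finite_integralClosure_sections f U hU (hS ⟨U, hU⟩)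
  rw [Scheme.Hom.fromNormalization_app _ hU, CommRingCat.hom_comp]
  refine RingHom.Finite.comp ?_ ?_
  · exact RingHom.Finite.of_surjective _
      (ConcreteCategory.bijective_of_isIso (f.normalizationObjIso hU).inv).2
  · exact hfin

end Helpers

/-- Let f : X ⟶ S be of finite type with X reduced and every affine open of S having Nagata coordinate
ring. Then the normalization of S in X is finite over S. (Such an f is automatically
quasi-separated; the binder is carried only to form the relative normalization.) -/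
theorem result {X S : Scheme.{u}} (f : X ⟶ S)
    [LocallyOfFiniteType f] [QuasiCompact f] [QuasiSeparated f] [IsReduced X]
    (hS : ∀ U : S.affineOpens, CAlg.IsNagata Γ(S, U)) :
    IsFinite f.fromNormalization := by
  exact main9675 f hS

end Groth.Agent.S9675
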