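import Groth.Statements.S6337
import Groth.Agent.Lib.Helper54.ML
import Groth.Agent.S6338
import Mathlib.LinearAlgebra.DirectSum.TensorProduct

set_option autoImplicit false
universe u
open CAlg

namespace Groth.Agent.S6337

open TensorProduct in
/-- The components of `directSumLeft x` are obtained by tensoring the component maps. -/
theorem directSumLeft_apply {R : Type u} [CommRing R] {ι : Type u} [DecidableEq ι] (M : ι → Type u)
    [∀ i, AddCommGroup (M i)] [∀ i, Module R (M i)] (N : Type u) [AddCommGroup N] [Module R N]
    (x : (DirectSum ι M) ⊗[R] N) (j : ι) :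
    TensorProduct.directSumLeft R R M N x j = (DirectSum.component R ι M j).rTensor N x := by
  induction x using TensorProduct.induction_on with
  | zero => simp
  | tmul m n => simp [DirectSum.component]; rfl
  | add a b ha hb => rw [map_add, map_add, DirectSum.add_apply, ha, hb]

open TensorProduct in
/-- An element of `(⨁ M) ⊗ N` all of whose components vanish is zero. -/
theorem eq_zero_of_component {R : Type u} [CommRing R] {ι : Type u} [DecidableEq ι] (M : ι → Type u)
    [∀ i, AddCommGroup (M i)] [∀ i, Module R (M i)] (N : Type u) [AddCommGroup N] [Module R N]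
    (x : (DirectSum ι M) ⊗[R] N)
    (h : ∀ j, (DirectSum.component R ι M j).rTensor N x = 0) : x = 0 := by
  apply (TensorProduct.directSumLeft R R M N).injective
  rw [map_zero]
  apply DFinsupp.ext
  intro j
  exact (directSumLeft_apply M N x j).trans (h j)

/-- A direct sum of modules is Mittag-Leffler if and only if each summand is Mittag-Leffler. -/
theorem result (R : Type u) [CommRing R] {ι : Type u} (M : ι → Type u)
    [∀ i, AddCommGroup (M i)] [∀ i, Module R (M i)] :
    CAlg.IsMittagLeffler R (DirectSum ι M) ↔ ∀ i, CAlg.IsMittagLeffler R (M i) := by
  classical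
  constructor
  · intro h i
    refine Groth.Agent.S6338.result R (DirectSum.lof R ι M i) ?_ h
    intro Q _ _
    apply Function.LeftInverse.injective (g := (DirectSum.component R ι M i).rTensor Q)
    intro x
    rw [← LinearMap.comp_apply, ← LinearMap.rTensor_comp]
    have : DirectSum.component R ι M i ∘ₗ DirectSum.lof R ι M i = LinearMap.id := by
      ext m
      simp
    rw [this, LinearMap.rTensor_id, LinearMap.id_apply]
  · intro h κ Q _ _
    rw [injective_iff_map_eq_zero]
    intro x hx
    apply eq_zero_of_component
    intro j
    apply h j κ Q
    rw [map_zero]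
    funext i
    rw [Groth.Agent.Lib.Helper54.piRightHom_rTensor, hx]
    simp

end Groth.Agent.S6337
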