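import Groth.Statements.S6340
import Groth.Agent.Lib.Helper32.ML
import Mathlib
-- import your own Groth.Agent.* helpers here

set_option autoImplicit false
universe u
open CAlg

namespace Groth.Agent.S6340

/-- Let M₁ → M₂ → M₃ → 0 be exact with M₁ finitely generated; if M₂ is Mittag-Leffler then so is M₃.
Equivalently, as stated here: the quotient of a Mittag-Leffler module by a finitely generated
submodule is Mittag-Leffler. -/
theorem result (R : Type u) [CommRing R] {M : Type u} [AddCommGroup M] [Module R M]
    (N : Submodule R M) (hN : N.FG) (hM : CAlg.IsMittagLeffler R M) :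
    CAlg.IsMittagLeffler R (M ⧸ N) := by
  intro ι Q _ _
  haveI : Module.Finite R N := Module.Finite.iff_fg.mpr hN
  rw [injective_iff_map_eq_zero]
  intro x hx
  have hexact : Function.Exact N.subtype N.mkQ := by
    intro y
    rw [Submodule.mkQ_apply, Submodule.Quotient.mk_eq_zero]
    simp
  obtain ⟨y, rfl⟩ := LinearMap.rTensor_surjective (∀ i, Q i) N.mkQ_surjective x
  have hz : ∀ i, ∃ w : TensorProduct R N (Q i),
      N.subtype.rTensor (Q i) w = TensorProduct.piRightHom R R M Q y i := by
    intro i
    have h1 := congrFun hx i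
    rw [Groth.Agent.Lib.Helper32.piRightHom_rTensor] at h1
    exact (rTensor_exact (Q i) hexact N.mkQ_surjective _).mp h1
  choose w hw using hz
  obtain ⟨v, hv⟩ := Groth.Agent.Lib.Helper32.piRightHom_surjective_of_finite N Q w
  have h2 : TensorProduct.piRightHom R R M Q (y - N.subtype.rTensor (∀ i, Q i) v) = 0 := by
    funext i
    rw [map_sub, Pi.sub_apply, Groth.Agent.Lib.Helper32.piRightHom_rTensor, hv, hw, sub_self]
    rfl
  have h3 := (injective_iff_map_eq_zero _).mp (hM ι Q) _ h2
  rw [sub_eq_zero] at h3
  rw [h3, ← LinearMap.comp_apply, ← LinearMap.rTensor_comp]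
  have : N.mkQ ∘ₗ N.subtype = 0 := by
    ext n
    simp
  rw [this, LinearMap.rTensor_zero]
  rfl

end Groth.Agent.S6340
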