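import Groth.Statements.S6342
import Groth.Agent.Lib.Helper54.ML
import Mathlib.LinearAlgebra.TensorProduct.Tower
import Mathlib.RingTheory.Flat.Basic

set_option autoImplicit false
universe u
open CAlg

namespace Groth.Agent.S6342

open TensorProduct in
/-- The `S`-linear and the `R`-linear versions of `piRightHom` agree as functions. -/
theorem piRightHom_eq (R S : Type u) [CommRing R] [CommRing S] [Algebra R S] {ι : Type u}
    (Q : ι → Type u) [∀ i, AddCommGroup (Q i)] [∀ i, Module R (Q i)] (z : S ⊗[R] (∀ i, Q i)) :
    TensorProduct.piRightHom R S S Q z = TensorProduct.piRightHom R R S Q z := by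
  induction z using TensorProduct.induction_on with
  | zero => simp
  | tmul s q => simp
  | add a b ha hb => rw [map_add, map_add, ha, hb]

open TensorProduct in
/-- The key commutative diagram. -/
theorem key (R S : Type u) [CommRing R] [CommRing S] [Algebra R S]
    (M : Type u) [AddCommGroup M] [Module S M] [Module R M] [IsScalarTower R S M] {ι : Type u}
    (Q : ι → Type u) [∀ i, AddCommGroup (Q i)] [∀ i, Module R (Q i)] (x : M ⊗[R] (∀ i, Q i))
    (i : ι) :
    TensorProduct.AlgebraTensorModule.cancelBaseChange R S S M (Q i)
      (TensorProduct.piRightHom S S M (fun i => S ⊗[R] Q i)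
        ((TensorProduct.piRightHom R S S Q).lTensor M
          ((TensorProduct.AlgebraTensorModule.cancelBaseChange R S S M (∀ i, Q i)).symm x)) i) =
      TensorProduct.piRightHom R R M Q x i := by
  induction x using TensorProduct.induction_on with
  | zero => simp
  | tmul m q => simp
  | add a b ha hb =>
    simp only [map_add, Pi.add_apply] at ha hb ⊢
    rw [ha, hb]

/-- Let R → S be a ring map such that S is Mittag-Leffler as an R-module, and let M be an S-module which
is flat and Mittag-Leffler over S. Then M is Mittag-Leffler as an R-module. -/
theorem result (R S : Type u) [CommRing R] [CommRing S] [Algebra R S]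
    (M : Type u) [AddCommGroup M] [Module S M] [Module R M] [IsScalarTower R S M]
    (hS : CAlg.IsMittagLeffler R S) [Module.Flat S M] (hM : CAlg.IsMittagLeffler S M) :
    CAlg.IsMittagLeffler R M := by
  intro ι Q _ _
  rw [injective_iff_map_eq_zero]
  intro x hx
  -- injectivity of the `S`-linear comparison map for `S`
  have hφ : Function.Injective (TensorProduct.piRightHom R S S Q) := by
    intro a b hab
    apply hS ι Q
    rw [← piRightHom_eq, ← piRightHom_eq, hab]
  have hφM := Module.Flat.lTensor_preserves_injective_linearMap (M := M)
    (TensorProduct.piRightHom R S S Q) hφ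
  have h1 : (TensorProduct.piRightHom R S S Q).lTensor M
      ((TensorProduct.AlgebraTensorModule.cancelBaseChange R S S M (∀ i, Q i)).symm x) = 0 := by
    apply hM ι (fun i => TensorProduct R S (Q i))
    rw [map_zero]
    funext i
    apply (TensorProduct.AlgebraTensorModule.cancelBaseChange R S S M (Q i)).injective
    rw [key, hx]
    simp
  have h2 : (TensorProduct.AlgebraTensorModule.cancelBaseChange R S S M (∀ i, Q i)).symm x = 0 := by
    apply hφM
    rw [h1, map_zero]
  simpa using h2

end Groth.Agent.S6342
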