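import Groth.Statements.S6359
import Mathlib
-- import your own Groth.Agent.* helpers here

set_option autoImplicit false
universe u
open CAlg

namespace Groth.Agent.S6359

open TensorProduct

/-- lifting along a map whose range contains the range of the map to be lifted. -/
theorem exists_lift_of_range_le {R : Type*} [CommRing R] {P M N : Type*} [AddCommGroup P]
    [Module R P] [AddCommGroup M] [Module R M] [AddCommGroup N] [Module R N]
    [Module.Projective R P] (f : M →ₗ[R] N) (g : P →ₗ[R] N)
    (hle : LinearMap.range g ≤ LinearMap.range f) : ∃ h : P →ₗ[R] M, f ∘ₗ h = g := by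
  let f' : M →ₗ[R] LinearMap.range f := f.rangeRestrict
  let g' : P →ₗ[R] LinearMap.range f :=
    g.codRestrict (LinearMap.range f) (fun x => hle ⟨x, rfl⟩)
  obtain ⟨h, hh⟩ := Module.projective_lifting_property f' g' f.surjective_rangeRestrict
  refine ⟨h, ?_⟩
  ext x
  have := congrArg Subtype.val (LinearMap.congr_fun hh x)
  exact this

/-- coefficients of `∑ c i ⊗ eᵢ`. -/
theorem piScalarRight_sum {R : Type*} [CommRing R] {X : Type*} [AddCommGroup X] [Module R X]
    {m : ℕ} (c : Fin m → X) :
    TensorProduct.piScalarRight R R X (Fin m)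
      (∑ i, c i ⊗ₜ[R] (Pi.single i (1 : R) : Fin m → R)) = c := by
  ext k
  rw [map_sum, Finset.sum_apply]
  simp only [TensorProduct.piScalarRight_apply, TensorProduct.piScalarRightHom_tmul]
  rw [Finset.sum_eq_single k]
  · simp
  · intro i _ hik
    simp [hik.symm]
  · simp

theorem exists_sum_repr {R : Type*} [CommRing R] {X : Type*} [AddCommGroup X] [Module R X]
    {n : ℕ} (w : X ⊗[R] (Fin n → R)) :
    ∃ y : Fin n → X, w = ∑ j, y j ⊗ₜ[R] (Pi.single j (1 : R) : Fin n → R) := by
  refine ⟨TensorProduct.piScalarRight R R X (Fin n) w, ?_⟩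
  apply (TensorProduct.piScalarRight R R X (Fin n)).injective
  rw [piScalarRight_sum]

/-- a linear map on `Fin n → R` is determined by its values on the standard basis. -/
theorem map_eq_sum {R : Type*} [CommRing R] {X : Type*} [AddCommGroup X] [Module R X] {n : ℕ}
    (φ : (Fin n → R) →ₗ[R] X) (v : Fin n → R) :
    φ v = ∑ j, v j • φ (Pi.single j 1) := by
  conv_lhs => rw [← Finset.univ_sum_single v]
  rw [map_sum]
  apply Finset.sum_congr rfl
  intro j _
  rw [← map_smul]
  congr 1
  ext k
  simp [Pi.single_apply]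

/-- Let f : M → N and g : M → M' be maps of R-modules such that the cokernel of f is finitely presented.
Then g dominates f (for every module Q the kernel of f ⊗ id_Q is contained in the kernel of g ⊗
id_Q) if and only if g factors through f. -/
theorem result (R : Type u) [CommRing R] {M N M' : Type u}
    [AddCommGroup M] [Module R M] [AddCommGroup N] [Module R N] [AddCommGroup M'] [Module R M']
    (f : M →ₗ[R] N) (g : M →ₗ[R] M') [Module.FinitePresentation R (N ⧸ LinearMap.range f)] :
    (∀ (Q : Type u) [AddCommGroup Q] [Module R Q], LinearMap.ker (f.rTensor Q) ≤ LinearMap.ker (g.rTensor Q)) ↔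
      ∃ h : N →ₗ[R] M', g = h ∘ₗ f := by
  classical
  constructor
  swap
  · rintro ⟨h, rfl⟩ Q _ _ z hz
    rw [LinearMap.mem_ker] at hz ⊢
    rw [LinearMap.rTensor_comp, LinearMap.comp_apply, hz, map_zero]
  intro hdom
  -- presentation of the cokernel
  obtain ⟨n, m, π, κ, hπ, hκπ⟩ :=
    Module.FinitePresentation.exists_fin' R (N ⧸ LinearMap.range f)
  let q : N →ₗ[R] N ⧸ LinearMap.range f := (LinearMap.range f).mkQ
  obtain ⟨ν, hν⟩ := Module.projective_lifting_property q π (Submodule.mkQ_surjective _)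
  have hν' : ∀ r, q (ν r) = π r := fun r => LinearMap.congr_fun hν r
  obtain ⟨μ, hμ⟩ := exists_lift_of_range_le f (ν ∘ₗ κ) (by
    rintro _ ⟨t, rfl⟩
    have : q (ν (κ t)) = 0 := by rw [hν', hκπ.apply_apply_eq_zero]
    rw [← Submodule.ker_mkQ (LinearMap.range f)]
    exact this)
  have hμ' : ∀ t, f (μ t) = ν (κ t) := fun t => LinearMap.congr_fun hμ t
  -- the transpose of `κ`
  let a : Fin m → Fin n → R := fun i j => κ (Pi.single i 1) j
  let τ : (Fin n → R) →ₗ[R] (Fin m → R) :=
    { toFun := fun v i => ∑ j, a i j * v j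
      map_add' := by intro v w; ext i; simp [mul_add, Finset.sum_add_distrib]
      map_smul' := by
        intro c v; ext i
        simp only [Pi.smul_apply, smul_eq_mul, RingHom.id_apply, Finset.mul_sum]
        apply Finset.sum_congr rfl
        intro j _
        ring }
  have hτ : ∀ j, τ (Pi.single j 1) = fun i => a i j := by
    intro j
    ext i
    show ∑ j', a i j' * (Pi.single j (1 : R) : Fin n → R) j' = a i j
    rw [Finset.sum_eq_single j]
    · simp
    · intro j' _ hj'
      simp [hj']
    · simp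
  have hτ' : ∀ j, τ (Pi.single j 1) = ∑ i, a i j • (Pi.single i (1 : R) : Fin m → R) := by
    intro j
    rw [hτ]
    ext k
    simp [Finset.sum_apply, Pi.single_apply]
  have hκa : ∀ i, κ (Pi.single i 1) = ∑ j, a i j • (Pi.single j (1 : R) : Fin n → R) := by
    intro i
    ext k
    simp [a, Finset.sum_apply, Pi.single_apply]
  let Q := (Fin m → R) ⧸ LinearMap.range τ
  let qQ : (Fin m → R) →ₗ[R] Q := (LinearMap.range τ).mkQ
  -- the element of `M ⊗ Q`
  let z : M ⊗[R] Q := ∑ i, μ (Pi.single i 1) ⊗ₜ[R] qQ (Pi.single i 1)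
  have hfz : f.rTensor Q z = 0 := by
    simp only [z, map_sum, LinearMap.rTensor_tmul]
    simp_rw [hμ', hκa, map_sum, map_smul, TensorProduct.sum_tmul, TensorProduct.smul_tmul]
    rw [Finset.sum_comm]
    simp_rw [← TensorProduct.tmul_sum, ← map_smul, ← map_sum]
    apply Finset.sum_eq_zero
    intro j _
    have : qQ (∑ i, a i j • (Pi.single i (1 : R) : Fin m → R)) = 0 := by
      rw [← hτ']
      exact (Submodule.Quotient.mk_eq_zero _).mpr ⟨_, rfl⟩
    rw [this, TensorProduct.tmul_zero]
  have hgz : g.rTensor Q z = 0 := hdom Q hfz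
  -- use right exactness
  have hex : Function.Exact (LinearMap.lTensor M' τ) (LinearMap.lTensor M' qQ) :=
    lTensor_exact M' (LinearMap.exact_map_mkQ_range τ) (Submodule.mkQ_surjective _)
  have hgz' : LinearMap.lTensor M' qQ (∑ i, g (μ (Pi.single i 1)) ⊗ₜ[R]
      (Pi.single i (1 : R) : Fin m → R)) = 0 := by
    rw [← hgz]
    simp only [z, map_sum, LinearMap.rTensor_tmul, LinearMap.lTensor_tmul]
  obtain ⟨w, hw⟩ := (hex _).mp hgz'
  obtain ⟨y, rfl⟩ := exists_sum_repr w
  have hy : ∀ i, g (μ (Pi.single i 1)) = ∑ j, a i j • y j := by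
    have h1 : (∑ i, (∑ j, a i j • y j) ⊗ₜ[R] (Pi.single i (1 : R) : Fin m → R)) =
        ∑ i, g (μ (Pi.single i 1)) ⊗ₜ[R] (Pi.single i (1 : R) : Fin m → R) := by
      rw [← hw]
      simp only [map_sum, LinearMap.lTensor_tmul, hτ']
      simp_rw [TensorProduct.tmul_sum, TensorProduct.tmul_smul, TensorProduct.sum_tmul,
        ← TensorProduct.smul_tmul']
      rw [Finset.sum_comm]
    have h3 := congrArg (TensorProduct.piScalarRight R R M' (Fin m)) h1
    rw [piScalarRight_sum, piScalarRight_sum] at h3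
    intro i
    exact (congrFun h3 i).symm
  -- the map `y' : R^n → M'`
  let y' : (Fin n → R) →ₗ[R] M' := Fintype.linearCombination R y
  have hy'κ : ∀ t, y' (κ t) = g (μ t) := by
    intro t
    rw [map_eq_sum κ t, map_eq_sum μ t, map_sum, map_sum]
    apply Finset.sum_congr rfl
    intro i _
    rw [map_smul, map_smul, hy i, hκa i, map_sum]
    congr 1
    apply Finset.sum_congr rfl
    intro j _
    rw [map_smul, Fintype.linearCombination_apply_single, one_smul]
  -- define `h`
  let Φ : M × (Fin n → R) →ₗ[R] N := f.coprod ν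
  let Ψ : M × (Fin n → R) →ₗ[R] M' := g.coprod y'
  have hΦsurj : Function.Surjective Φ := by
    intro x
    obtain ⟨r, hr⟩ := hπ (q x)
    have h1 : q (x - ν r) = 0 := by rw [map_sub, hν', hr, sub_self]
    have h2 : x - ν r ∈ LinearMap.range f := by
      rw [← Submodule.ker_mkQ (LinearMap.range f)]
      exact h1
    obtain ⟨m0, hm0⟩ := h2
    refine ⟨(m0, r), ?_⟩
    show f m0 + ν r = x
    rw [hm0]
    abel
  have hker : LinearMap.ker Φ ≤ LinearMap.ker Ψ := by
    rintro ⟨m0, r⟩ hmr
    rw [LinearMap.mem_ker] at hmr ⊢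
    have hmr' : f m0 + ν r = 0 := hmr
    show g m0 + y' r = 0
    have h1 : π r = 0 := by
      rw [← hν']
      have : ν r = - f m0 := eq_neg_of_add_eq_zero_right hmr'
      rw [this, map_neg]
      have : q (f m0) = 0 := (Submodule.Quotient.mk_eq_zero _).mpr ⟨m0, rfl⟩
      rw [this, neg_zero]
    obtain ⟨t, rfl⟩ := (hκπ r).mp h1
    rw [hy'κ, ← map_add]
    -- `m0 + μ t ∈ ker f ⊆ ker g`
    have h2 : f (m0 + μ t) = 0 := by rw [map_add, hμ', hmr']
    have h3 := hdom R (show (TensorProduct.rid R M).symm (m0 + μ t) ∈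
        LinearMap.ker (f.rTensor R) by
      rw [LinearMap.mem_ker]
      show f.rTensor R ((m0 + μ t) ⊗ₜ[R] (1 : R)) = 0
      rw [LinearMap.rTensor_tmul, h2, TensorProduct.zero_tmul])
    rw [LinearMap.mem_ker] at h3
    have h4 : g.rTensor R ((m0 + μ t) ⊗ₜ[R] (1 : R)) = 0 := h3
    rw [LinearMap.rTensor_tmul] at h4
    have h5 := congrArg (TensorProduct.rid R M') h4
    simpa using h5
  let h : N →ₗ[R] M' :=
    ((LinearMap.ker Φ).liftQ Ψ hker) ∘ₗ (Φ.quotKerEquivOfSurjective hΦsurj).symm.toLinearMap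
  refine ⟨h, ?_⟩
  ext m0
  have h1 : (Φ.quotKerEquivOfSurjective hΦsurj).symm (f m0) =
      Submodule.Quotient.mk ((m0, 0) : M × (Fin n → R)) := by
    rw [LinearEquiv.symm_apply_eq]
    show f m0 = f m0 + ν 0
    rw [map_zero, add_zero]
  show g m0 = ((LinearMap.ker Φ).liftQ Ψ hker)
    ((Φ.quotKerEquivOfSurjective hΦsurj).symm (f m0))
  rw [h1]
  show g m0 = g m0 + y' 0
  rw [map_zero, add_zero]

end Groth.Agent.S6359
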