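import Groth.Statements.S5807
import Mathlib

set_option autoImplicit false
universe u
open EGA41

namespace Groth.Agent.S5807

/-- A localization of a regular ring is regular. -/
theorem isRegularRing_localization (R : Type u) [CommRing R] [IsRegularRing R] (M : Submonoid R) :
    IsRegularRing (Localization M) := by
  have : IsNoetherianRing (Localization M) := IsLocalization.isNoetherianRing M _ inferInstance
  rw [isRegularRing_iff]
  intro p hp
  have := IsRegularRing.isRegularLocalRing_localization (R := R)
    (p.comap (algebraMap R (Localization M)))
  exact IsRegularLocalRing.of_ringEquiv
    (IsLocalization.localizationLocalizationAtPrimeIsoLocalization M p).toRingEquiv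

/-- Let A be a Noetherian ring which is a quotient of a regular ring B, and C an A-algebra of finite
type. Then every ring of fractions of C is a quotient of a regular ring. -/
theorem result (B A C : Type u) [CommRing B]
    [IsRegularRing B] [CommRing A] (π : B →+* A) (hπ : Function.Surjective π) [CommRing C] [Algebra A C]
    [Algebra.FiniteType A C] (S : Submonoid C) :
    ∃ (R : Type u) (_ : CommRing R) (_ : IsRegularRing R) (f : R →+* Localization S),
      Function.Surjective f := by
  obtain ⟨n, g, hg⟩ := Algebra.FiniteType.iff_quotient_mvPolynomial''.mp ‹Algebra.FiniteType A C›
  let φ : MvPolynomial (Fin n) B →+* C := g.toRingHom.comp (MvPolynomial.map π)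
  have hφ : Function.Surjective φ := hg.comp (MvPolynomial.map_surjective π hπ)
  let T : Submonoid (MvPolynomial (Fin n) B) := S.comap φ
  have hTS : T.map φ = S := Submonoid.map_comap_eq_of_surjective hφ S
  have hloc : IsLocalization (T.map φ) (Localization S) := by rw [hTS]; infer_instance
  refine ⟨Localization T, inferInstance, isRegularRing_localization _ T,
    IsLocalization.map (Localization S) φ T.le_comap_map, ?_⟩
  exact IsLocalization.map_surjective_of_surjective T (Localization T) (Localization S) hφ

end Groth.Agent.S5807
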