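import Groth.Statements.S15821
import Groth.Agent.Lib.Helper94.KoszulReg

set_option autoImplicit false
universe u
open CategoryTheory
open Koszul

namespace Groth.Agent.S15821

open Groth.Agent.Lib.Helper94.KoszulReg in
lemma koszul_eq (A : Type u) [CommRing A] :
    ∀ l : List A, Koszul.koszul A l = kz (sg A (ModuleCat.of A A)) l
  | [] => rfl
  | f :: l => by
      change CochainComplex.mappingCone (f • 𝟙 (Koszul.koszul A l)) =
        CochainComplex.mappingCone (f • 𝟙 (kz (sg A (ModuleCat.of A A)) l))
      rw [koszul_eq A l]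

/-- Let A be a commutative ring and f = (f_1, …, f_r) a sequence in A which is regular in the weak sense
(f_1 is a non-zero-divisor of A and each f_i is a non-zero-divisor of A/(f_1, …, f_{i-1}); no
condition A/(f) ≠ 0). Then the Koszul complex K(f) (iterated mapping-cone model, degrees -r, …, 0)
has vanishing cohomology in all nonzero degrees, i.e. f is Koszul-regular, and its cohomology in
degree 0 is isomorphic as an A-module to A/(f_1, …, f_r) (existence of an A-linear isomorphism):
K(f) is a free resolution of A/(f). -/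
theorem result (A : Type u) [CommRing A] (l : List A)
    (hl : RingTheory.Sequence.IsWeaklyRegular A l) :
    LCI.IsKoszulRegularSeq A l ∧
      Nonempty ((Koszul.koszul A l).homology 0 ≅ ModuleCat.of A (A ⧸ Ideal.ofList l)) := by
  have key : ∀ (K : CochainComplex (ModuleCat.{u} A) ℤ),
      K = Groth.Agent.Lib.Helper94.KoszulReg.kz
        (Groth.Agent.Lib.Helper94.KoszulReg.sg A (ModuleCat.of A A)) l →
      (∀ i : ℤ, i ≠ 0 → Limits.IsZero (K.homology i)) ∧
        Nonempty (K.homology 0 ≅ ModuleCat.of A (A ⧸ Ideal.ofList l)) := by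
    rintro K rfl
    obtain ⟨h1, ⟨h2⟩⟩ := Groth.Agent.Lib.Helper94.KoszulReg.kz_single_of_isWeaklyRegular l A hl
    refine ⟨h1, ⟨h2 ≪≫ ?_⟩⟩
    have h0 : (Ideal.ofList l • ⊤ : Submodule A A) = Ideal.ofList l := by
      rw [smul_eq_mul, Ideal.mul_top]
    exact (Submodule.quotEquivOfEq _ _ h0).toModuleIso
  exact key _ (koszul_eq A l)

end Groth.Agent.S15821
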