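import Groth.Statements.S9154
import Mathlib
import Groth.Agent.Lib.Helper62.DimLoc8
import Groth.Agent.Lib.Helper28.CMLocP
import Groth.Agent.Lib.Helper29.CM

set_option autoImplicit false
universe u
open CAlg

namespace Groth.Agent.S9154

open Groth.Agent.Lib.Helper62.DimLoc Groth.Agent.Lib.Helper28.CMAux Groth.Agent.Lib.Helper29
  Groth.Agent.Lib.Helper29.CMLib

theorem exists_nat_of_add_eq {x y : WithBot ℕ∞} {d : ℕ} (h : x + y = (d : WithBot ℕ∞)) :
    ∃ a b : ℕ, x = a ∧ y = b ∧ a + b = d := by
  induction x with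
  | bot => rw [WithBot.bot_add] at h; exact absurd h (by simp)
  | coe x =>
    induction y with
    | bot => rw [WithBot.add_bot] at h; exact absurd h (by simp)
    | coe y =>
      have h' : ((x + y : ℕ∞) : WithBot ℕ∞) = ((d : ℕ∞) : WithBot ℕ∞) := by exact_mod_cast h
      have h'' : x + y = (d : ℕ∞) := WithBot.coe_injective h'
      induction x with
      | top => rw [top_add] at h''; exact absurd h'' (by simp)
      | coe a =>
        induction y with
        | top => rw [add_top] at h''; exact absurd h'' (by simp)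
        | coe b =>
          refine ⟨a, b, rfl, rfl, ?_⟩
          exact_mod_cast h''

section

variable (k S : Type u) [Field k] [CommRing S] [Algebra k S] [Algebra.FiniteType k S]

include k in
theorem height_add_dim (d : ℕ) (heq : ∀ p ∈ minimalPrimes S, ringKrullDim (S ⧸ p) = d)
    (q : Ideal S) [q.IsPrime] : (q.height : WithBot ℕ∞) + ringKrullDim (S ⧸ q) = d := by
  rw [← compDim_eq_height_add k S q]
  apply le_antisymm
  · rw [compDim_le_iff]
    intro Q hQ _
    exact (heq Q hQ).le
  · obtain ⟨Q, hQ, hQq⟩ := exists_minimalPrimes_le q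
    rw [← heq Q hQ]
    exact le_compDim hQ hQq

include k in
theorem height_map_add_dim_le (I q : Ideal S) [q.IsPrime] (hIq : I ≤ q) :
    (((q.map (Ideal.Quotient.mk I)).height : ℕ∞) : WithBot ℕ∞) + ringKrullDim (S ⧸ q) ≤
      ringKrullDim (S ⧸ I) := by
  haveI := isPrime_map_mk q I hIq
  have h1 := compDim_eq_height_add k (S ⧸ I) (q.map (Ideal.Quotient.mk I))
  have h2 : compDim (q.map (Ideal.Quotient.mk I)) ≤ ringKrullDim (S ⧸ I) := by
    rw [compDim_le_iff]
    intro Q _ _
    exact ringKrullDim_quotient_le Q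
  have h3 : ringKrullDim ((S ⧸ I) ⧸ q.map (Ideal.Quotient.mk I)) = ringKrullDim (S ⧸ q) :=
    ringKrullDim_eq_of_ringEquiv (DoubleQuot.quotQuotEquivQuotOfLE hIq)
  rw [← h3, ← h1]
  exact h2

end


section Main

variable (k S : Type u) [Field k] [CommRing S] [Algebra k S] [Algebra.FiniteType k S]

include k in
theorem key [LocCoh.IsCohenMacaulayRing S] (d : ℕ)
    (heq : ∀ p ∈ minimalPrimes S, ringKrullDim (S ⧸ p) = d) (f : List S) (hi : f.length ≤ d)
    (hle : ringKrullDim (S ⧸ Ideal.ofList f) ≤ ((d - f.length : ℕ) : WithBot ℕ∞))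
    (q : Ideal S) [q.IsPrime] (hfq : Ideal.ofList f ≤ q) :
    RingTheory.Sequence.IsRegular (Localization.AtPrime q)
        (f.map (algebraMap S (Localization.AtPrime q))) ∧
      ((d - f.length : ℕ) : WithBot ℕ∞) ≤ ringKrullDim (S ⧸ Ideal.ofList f) := by
  haveI : IsNoetherianRing S := Algebra.FiniteType.isNoetherianRing k S
  obtain ⟨L, hL⟩ : ∃ L : Type u, L = Localization.AtPrime q := ⟨_, rfl⟩
  set I := Ideal.ofList f with hI
  set xs := f.map (algebraMap S (Localization.AtPrime q)) with hxs
  haveI hprime := isPrime_map_mk q I hfq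
  have hA := height_add_dim k S d heq q
  have hB := height_map_add_dim_le k S I q hfq
  obtain ⟨b, c, hb, hc, hbc⟩ := exists_nat_of_add_eq hA
  -- the local ring
  have hCMloc : LocCoh.IsCohenMacaulayLocalRing (Localization.AtPrime q) :=
    LocCoh.IsCohenMacaulayRing.isCohenMacaulayLocalRing_localization q
  have hCM : LocCoh.IsCohenMacaulayModule (Localization.AtPrime q) (Localization.AtPrime q) :=
    hCMloc.supportDim_eq_depth
  have hmem : ∀ x ∈ xs, x ∈ IsLocalRing.maximalIdeal (Localization.AtPrime q) := by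
    intro x hx
    rw [hxs, List.mem_map] at hx
    obtain ⟨y, hy, rfl⟩ := hx
    rw [← IsLocalization.AtPrime.map_eq_maximalIdeal q (Localization.AtPrime q)]
    apply Ideal.mem_map_of_mem
    apply hfq
    rw [hI]
    exact Ideal.subset_span hy
  have hmap : Ideal.ofList xs = I.map (algebraMap S (Localization.AtPrime q)) := by
    rw [hxs, hI, Ideal.map_ofList]
  have hsmul : Ideal.ofList xs • (⊤ : Submodule (Localization.AtPrime q) (Localization.AtPrime q))
      = Ideal.ofList xs := by
    rw [smul_eq_mul, Ideal.mul_top]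
  have hdimL : Module.supportDim (Localization.AtPrime q) (Localization.AtPrime q) =
      (b : WithBot ℕ∞) := by
    rw [Module.supportDim_self_eq_ringKrullDim,
      IsLocalization.AtPrime.ringKrullDim_eq_height q (Localization.AtPrime q)]
    exact hb
  have hdimQ : Module.supportDim (Localization.AtPrime q)
      (Localization.AtPrime q ⧸ (Ideal.ofList xs •
        (⊤ : Submodule (Localization.AtPrime q) (Localization.AtPrime q)))) =
      (((q.map (Ideal.Quotient.mk I)).height : ℕ∞) : WithBot ℕ∞) := by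
    rw [hsmul, Module.supportDim_quotient_eq_ringKrullDim, hmap]
    have := ringKrullDim_QP_eq' q I hfq
    rw [this, IsLocalization.AtPrime.ringKrullDim_eq_height (q.map (Ideal.Quotient.mk I))
      (Localization.AtPrime (q.map (Ideal.Quotient.mk I)))]
  have h1 := supportDim_le_quotient_add_length (Localization.AtPrime q) xs
    (Localization.AtPrime q) hmem
  rw [hdimQ, hdimL] at h1
  have hlen : xs.length = f.length := by rw [hxs, List.length_map]
  rw [hlen] at h1
  -- a := ht(q/I)
  obtain ⟨a, ha⟩ : ∃ a : ℕ, (q.map (Ideal.Quotient.mk I)).height = (a : ℕ∞) := by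
    have hfin : (q.map (Ideal.Quotient.mk I)).height ≠ ⊤ := Ideal.height_ne_top
      (Ideal.IsPrime.ne_top')
    exact ⟨_, (ENat.coe_toNat hfin).symm⟩
  rw [ha] at h1 hdimQ hB
  rw [hc] at hB
  have h1' : b ≤ a + f.length := by exact_mod_cast h1
  have h2 : ((a + c : ℕ) : WithBot ℕ∞) ≤ ((d - f.length : ℕ) : WithBot ℕ∞) := by
    refine le_trans ?_ (hB.trans hle)
    push_cast
    exact le_rfl
  have h2' : a + c ≤ d - f.length := by exact_mod_cast h2
  have hab : a + f.length = b := by omega
  have hwr : RingTheory.Sequence.IsWeaklyRegular (Localization.AtPrime q) xs := by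
    refine ((isWeaklyRegular_iff_of_isCM (Localization.AtPrime q) xs (Localization.AtPrime q)
      hCM hmem).1).2 ?_
    rw [hdimQ, hdimL, hlen]
    exact_mod_cast hab
  refine ⟨⟨hwr, ?_⟩, ?_⟩
  · rw [hsmul, hmap]
    exact (map_ne_top_of_le q I hfq).symm
  · refine le_trans ?_ hB
    have : d - f.length = a + c := by omega
    rw [this]
    push_cast
    exact le_rfl

end Main

theorem result (k S : Type u) [Field k] [CommRing S] [Algebra k S]
    [Algebra.FiniteType k S] [LocCoh.IsCohenMacaulayRing S] (d : ℕ)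
    (heq : ∀ p ∈ minimalPrimes S, ringKrullDim (S ⧸ p) = d) (f : List S) (hi : f.length ≤ d)
    (hne : Ideal.ofList f ≠ ⊤)
    (hle : ringKrullDim (S ⧸ Ideal.ofList f) ≤ ((d - f.length : ℕ) : WithBot ℕ∞)) :
    ringKrullDim (S ⧸ Ideal.ofList f) = ((d - f.length : ℕ) : WithBot ℕ∞) ∧
      ∀ (q : Ideal S) [q.IsPrime], Ideal.ofList f ≤ q →
        RingTheory.Sequence.IsRegular (Localization.AtPrime q)
          (f.map (algebraMap S (Localization.AtPrime q))) := by
  refine ⟨le_antisymm hle ?_, fun q _ hq => (key k S d heq f hi hle q hq).1⟩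
  obtain ⟨m, hm, hfm⟩ := Ideal.exists_le_maximal _ hne
  haveI := hm.isPrime
  exact (key k S d heq f hi hle m hfm).2

end Groth.Agent.S9154
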