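import Groth.Statements.S9142
import Mathlib
import Groth.Agent.S9154
import Groth.Agent.S18865
import Groth.Agent.Lib.Helper49.StalkLoc

set_option autoImplicit false
universe u
open Synt

namespace Groth.Agent.S9142

open Groth.Agent.Lib.Helper28.CMAux Groth.Agent.Lib.Helper29 Groth.Agent.Lib.Helper29.CMLib

/-- transport of the localization at a prime along a ring isomorphism -/
noncomputable def locEquiv {A B : Type u} [CommRing A] [CommRing B] (e : A ≃+* B) (q : Ideal B)
    [q.IsPrime] :
    Localization.AtPrime (q.comap (e : A →+* B)) ≃+* Localization.AtPrime q :=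
  IsLocalization.ringEquivOfRingEquiv (M := (q.comap (e : A →+* B)).primeCompl)
    (T := q.primeCompl) (Localization.AtPrime (q.comap (e : A →+* B))) (Localization.AtPrime q) e
    (by
      ext y
      constructor
      · rintro ⟨x, hx, rfl⟩
        exact hx
      · intro hy
        refine ⟨e.symm y, ?_, by simp⟩
        show e.symm y ∉ q.comap (e : A →+* B)
        rw [Ideal.mem_comap]
        simpa using hy)

theorem cm_congr {R : Type u} [CommRing R] (J J' : Ideal R) [J.IsPrime] [J'.IsPrime] (h : J = J')
    (hCM : LocCoh.IsCohenMacaulayLocalRing (Localization.AtPrime J)) :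
    LocCoh.IsCohenMacaulayLocalRing (Localization.AtPrime J') := by
  subst h
  exact hCM

theorem ofList_ofFn {R : Type*} [CommRing R] {c : ℕ} (r : Fin c → R) :
    Ideal.ofList (List.ofFn r) = Ideal.span (Set.range r) := by
  unfold Ideal.ofList
  congr 1
  ext x
  simp [List.mem_ofFn]

/-- the local ring of `P/I` at `Q/I` is Cohen–Macaulay when `I` is generated by a sequence
which is regular on the Cohen–Macaulay local ring `P_Q`. -/
theorem isCM_of_regular {P : Type u} [CommRing P] [IsNoetherianRing P] (Q : Ideal P) [Q.IsPrime]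
    (hCM : LocCoh.IsCohenMacaulayLocalRing (Localization.AtPrime Q)) (f : List P)
    (hfQ : Ideal.ofList f ≤ Q)
    (hreg : RingTheory.Sequence.IsWeaklyRegular (Localization.AtPrime Q)
      (f.map (algebraMap P (Localization.AtPrime Q))))
    [(Q.map (Ideal.Quotient.mk (Ideal.ofList f))).IsPrime] :
    LocCoh.IsCohenMacaulayLocalRing
      (Localization.AtPrime (Q.map (Ideal.Quotient.mk (Ideal.ofList f)))) := by
  set I := Ideal.ofList f with hI
  set xs := f.map (algebraMap P (Localization.AtPrime Q)) with hxs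
  have hmem : ∀ x ∈ xs, x ∈ IsLocalRing.maximalIdeal (Localization.AtPrime Q) := by
    intro x hx
    rw [hxs, List.mem_map] at hx
    obtain ⟨y, hy, rfl⟩ := hx
    rw [← IsLocalization.AtPrime.map_eq_maximalIdeal Q (Localization.AtPrime Q)]
    apply Ideal.mem_map_of_mem
    apply hfQ
    rw [hI]
    exact Ideal.subset_span hy
  have hmap : Ideal.ofList xs = I.map (algebraMap P (Localization.AtPrime Q)) := by
    rw [hxs, hI, Ideal.map_ofList]
  have hsmul : Ideal.ofList xs • (⊤ : Submodule (Localization.AtPrime Q) (Localization.AtPrime Q))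
      = Ideal.ofList xs := by
    rw [smul_eq_mul, Ideal.mul_top]
  have h1 := ((isWeaklyRegular_iff_of_isCM (Localization.AtPrime Q) xs (Localization.AtPrime Q)
      hCM.supportDim_eq_depth hmem).2) hreg
  unfold LocCoh.IsCohenMacaulayModule at h1
  rw [hsmul, hmap, Module.supportDim_quotient_eq_ringKrullDim] at h1
  refine { supportDim_eq_depth := ?_ }
  rw [Module.supportDim_self_eq_ringKrullDim, ← ringKrullDim_QP_eq' Q I hfQ, ← depth_QP_eq' Q I hfQ]
  exact h1

theorem result (k S : Type u) [Field k] [CommRing S] [Algebra k S]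
    (h : Synt.IsLCIOver k S) : LocCoh.IsCohenMacaulayRing S := by
  obtain ⟨hft, hloc⟩ := h
  haveI := hft
  haveI : IsNoetherianRing S := Algebra.FiniteType.isNoetherianRing k S
  refine ⟨fun p hp => ?_⟩
  obtain ⟨g, hg, hgci⟩ := hloc ⟨p, hp⟩
  have hdisj : Disjoint (Submonoid.powers g : Set S) (p : Set S) := by
    rw [Set.disjoint_left]
    rintro x ⟨m, rfl⟩ hx
    exact hg (hp.mem_of_pow_mem m hx)
  have hp'prime := IsLocalization.isPrime_of_isPrime_disjoint (Submonoid.powers g)
    (Localization.Away g) p hp hdisj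
  have hcomap := IsLocalization.comap_map_of_isPrime_disjoint (Submonoid.powers g)
    (Localization.Away g) hp hdisj
  obtain ⟨p', hp', rfl⟩ : ∃ p' : Ideal (Localization.Away g), p'.IsPrime ∧
      p'.comap (algebraMap S (Localization.Away g)) = p := ⟨_, hp'prime, hcomap⟩
  haveI := hp'
  refine Groth.Agent.Lib.Helper49.StalkLoc.isCohenMacaulayLocalRing_of_ringEquiv
    (IsLocalization.localizationLocalizationAtPrimeIsoLocalization (Submonoid.powers g)
      p').toRingEquiv.symm ?_
  rcases hgci with hsub | ⟨n, c, hcn, φ, r, hsurj, hker, hdim⟩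
  · exfalso
    haveI := hsub
    exact hp'.ne_top (Ideal.eq_top_iff_one _ |>.2 (by rw [Subsingleton.elim (1 : Localization.Away g) 0]; exact zero_mem _))
  · -- the polynomial ring
    obtain ⟨P, hP⟩ : ∃ P : Type u, P = MvPolynomial (Fin n) k := ⟨_, rfl⟩
    haveI : IsRegularRing (MvPolynomial (Fin n) k) := inferInstance
    haveI hPCM : LocCoh.IsCohenMacaulayRing (MvPolynomial (Fin n) k) :=
      Groth.Agent.S18865.isCohenMacaulayRing_of_isRegularRing _
    have heq : ∀ q ∈ minimalPrimes (MvPolynomial (Fin n) k),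
        ringKrullDim (MvPolynomial (Fin n) k ⧸ q) = n := by
      intro q hq
      rw [IsDomain.minimalPrimes_eq_singleton_bot, Set.mem_singleton_iff] at hq
      subst hq
      rw [ringKrullDim_eq_of_ringEquiv (RingEquiv.quotientBot _),
        MvPolynomial.ringKrullDim_of_isNoetherianRing, ringKrullDim_eq_zero_of_field, zero_add,
        Nat.card_fin]
    let e : (MvPolynomial (Fin n) k ⧸ RingHom.ker φ.toRingHom) ≃+* Localization.Away g :=
      RingHom.quotientKerEquivOfSurjective hsurj
    have hI : RingHom.ker φ.toRingHom = Ideal.ofList (List.ofFn r) := by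
      rw [hker, ofList_ofFn]
    set f := List.ofFn r with hf
    have hflen : f.length = c := by rw [hf, List.length_ofFn]
    obtain ⟨Q, hQ⟩ : ∃ Q : Ideal (MvPolynomial (Fin n) k), Q = p'.comap φ.toRingHom := ⟨_, rfl⟩
    haveI hQprime : Q.IsPrime := by rw [hQ]; exact Ideal.comap_isPrime _ _
    have hfQ : Ideal.ofList f ≤ Q := by
      rw [← hI, hQ]
      intro x hx
      rw [Ideal.mem_comap, (RingHom.mem_ker).1 hx]
      exact zero_mem _
    have hle : ringKrullDim (MvPolynomial (Fin n) k ⧸ Ideal.ofList f) ≤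
        ((n - f.length : ℕ) : WithBot ℕ∞) := by
      rw [hflen, ← hdim, ← ringKrullDim_eq_of_ringEquiv e,
        ringKrullDim_eq_of_ringEquiv (Ideal.quotEquivOfEq hI)]
    have hreg := (Groth.Agent.S9154.key k (MvPolynomial (Fin n) k) n heq f (by omega) hle Q hfQ).1
    haveI hQI : (Q.map (Ideal.Quotient.mk (Ideal.ofList f))).IsPrime := isPrime_map_mk Q _ hfQ
    have hCM1 := isCM_of_regular Q (hPCM.isCohenMacaulayLocalRing_localization Q) f hfQ
      hreg.toIsWeaklyRegular
    let e' : (MvPolynomial (Fin n) k ⧸ Ideal.ofList f) ≃+* Localization.Away g :=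
      (Ideal.quotEquivOfEq hI.symm).trans e
    have he' : ∀ y : MvPolynomial (Fin n) k, e' (Ideal.Quotient.mk _ y) = φ y := by
      intro y
      show RingHom.quotientKerEquivOfSurjective hsurj
        (Ideal.quotEquivOfEq hI.symm (Ideal.Quotient.mk _ y)) = φ y
      rw [Ideal.quotEquivOfEq_mk]
      exact RingHom.quotientKerEquivOfSurjective_apply_mk hsurj y
    have hEq : Q.map (Ideal.Quotient.mk (Ideal.ofList f)) =
        p'.comap (e' : (MvPolynomial (Fin n) k ⧸ Ideal.ofList f) →+* Localization.Away g) := by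
      ext x
      obtain ⟨y, rfl⟩ := Ideal.Quotient.mk_surjective x
      rw [Ideal.mem_quotient_iff_mem hfQ, Ideal.mem_comap, hQ, Ideal.mem_comap]
      show φ y ∈ p' ↔ e' (Ideal.Quotient.mk _ y) ∈ p'
      rw [he']
    have hCM2 : LocCoh.IsCohenMacaulayLocalRing (Localization.AtPrime
        (p'.comap (e' : (MvPolynomial (Fin n) k ⧸ Ideal.ofList f) →+* Localization.Away g))) :=
      cm_congr _ _ hEq hCM1
    exact Groth.Agent.Lib.Helper49.StalkLoc.isCohenMacaulayLocalRing_of_ringEquiv
      (locEquiv e' p') hCM2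

end Groth.Agent.S9142
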