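import Groth.Statements.S9156
import Mathlib
import Groth.Agent.S9154
import Groth.Agent.Lib.Helper29.Catenary

set_option autoImplicit false
universe u
open CAlg

namespace Groth.Agent.S9156

open Groth.Agent.Lib.Helper62.DimLoc Groth.Agent.Lib.Helper28.CMAux
  Groth.Agent.Lib.Helper73.DimFormula

section

variable (k S : Type u) [Field k] [CommRing S] [Algebra k S] [Algebra.FiniteType k S]

theorem height_map_eq [LocCoh.IsCohenMacaulayRing S] (Q q : Ideal S) [q.IsPrime]
    (hQ : Q ∈ minimalPrimes S) (hQq : Q ≤ q) :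
    (q.map (Ideal.Quotient.mk Q)).height = q.height := by
  haveI : Q.IsPrime := hQ.1.1
  haveI := isPrime_map_mk q Q hQq
  have hCM : LocCoh.IsCohenMacaulayLocalRing (Localization.AtPrime q) :=
    LocCoh.IsCohenMacaulayRing.isCohenMacaulayLocalRing_localization q
  have hdisj : Disjoint (q.primeCompl : Set S) (Q : Set S) := by
    rw [Set.disjoint_left]
    intro x hx hxQ
    exact hx (hQq hxQ)
  haveI hQ' : (Q.map (algebraMap S (Localization.AtPrime q))).IsPrime :=
    IsLocalization.isPrime_of_isPrime_disjoint q.primeCompl (Localization.AtPrime q) Q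
      inferInstance hdisj
  have h1 := Groth.Agent.Lib.Helper29.Catenary.dim_eq_add_height (R := Localization.AtPrime q)
    (M := Localization.AtPrime q) hCM.supportDim_eq_depth
    (Groth.Agent.Lib.Helper29.Catenary.support_self_univ _)
    (Q.map (algebraMap S (Localization.AtPrime q)))
  have h2 : (Q.map (algebraMap S (Localization.AtPrime q))).height = 0 := by
    rw [IsLocalization.height_map_of_disjoint (S := Localization.AtPrime q) q.primeCompl Q hdisj,
      Ideal.height_eq_zero_iff]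
    exact hQ
  have h3 : ringKrullDim (Localization.AtPrime q ⧸ Q.map (algebraMap S (Localization.AtPrime q)))
      = (((q.map (Ideal.Quotient.mk Q)).height : ℕ∞) : WithBot ℕ∞) := by
    have := ringKrullDim_QP_eq' q Q hQq
    rw [this, IsLocalization.AtPrime.ringKrullDim_eq_height (q.map (Ideal.Quotient.mk Q))
      (Localization.AtPrime (q.map (Ideal.Quotient.mk Q)))]
  rw [h2, h3, IsLocalization.AtPrime.ringKrullDim_eq_height q (Localization.AtPrime q)] at h1
  have h4 : ((q.height : ℕ∞) : WithBot ℕ∞) =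
      (((q.map (Ideal.Quotient.mk Q)).height : ℕ∞) : WithBot ℕ∞) := by
    rw [h1]; simp
  exact (WithBot.coe_injective h4).symm

include k in
theorem dim_eq_compDim [LocCoh.IsCohenMacaulayRing S] (Q q : Ideal S) [q.IsPrime]
    (hQ : Q ∈ minimalPrimes S) (hQq : Q ≤ q) : ringKrullDim (S ⧸ Q) = compDim q := by
  apply le_antisymm (le_compDim hQ hQq)
  rw [compDim_eq_height_add k S q, ← height_map_eq S Q q hQ hQq]
  exact Groth.Agent.S9154.height_map_add_dim_le k S Q q hQq

/-- natural-number dimension of a quotient -/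
noncomputable def nd (Q : Ideal S) : ℕ := (WithBot.unbotD 0 (ringKrullDim (S ⧸ Q))).toNat

include k in
theorem dim_eq_nd (Q : Ideal S) (hQ : Q ∈ minimalPrimes S) :
    ringKrullDim (S ⧸ Q) = (nd S Q : WithBot ℕ∞) := by
  haveI : Q.IsPrime := hQ.1.1
  obtain ⟨n, -, hdim, -, -⟩ := exists_trdeg_eq_ringKrullDim k (S ⧸ Q)
  unfold nd
  rw [hdim]
  simp

include k in
theorem compDim_eq_nd [LocCoh.IsCohenMacaulayRing S] (Q q : Ideal S) [q.IsPrime]
    (hQ : Q ∈ minimalPrimes S) (hQq : Q ≤ q) : compDim q = (nd S Q : WithBot ℕ∞) := by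
  rw [← dim_eq_compDim k S Q q hQ hQq, dim_eq_nd k S Q hQ]

/-- the locus of primes through which the components have dimension `d` -/
def Z (d : ℕ) : Set (PrimeSpectrum S) := {q | compDim q.asIdeal = (d : WithBot ℕ∞)}

include k in
theorem Z_eq [LocCoh.IsCohenMacaulayRing S] (d : ℕ) :
    Z S d = ⋃ Q ∈ {Q : Ideal S | Q ∈ minimalPrimes S ∧ nd S Q = d},
      PrimeSpectrum.zeroLocus (Q : Set S) := by
  ext q
  simp only [Z, Set.mem_setOf_eq, Set.mem_iUnion, PrimeSpectrum.mem_zeroLocus, SetLike.coe_subset_coe,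
    exists_prop]
  constructor
  · intro h
    obtain ⟨Q, hQ, hQq⟩ := exists_minimalPrimes_le q.asIdeal
    refine ⟨Q, ⟨hQ, ?_⟩, hQq⟩
    rw [compDim_eq_nd k S Q q.asIdeal hQ hQq] at h
    exact_mod_cast h
  · rintro ⟨Q, ⟨hQ, hd⟩, hQq⟩
    rw [compDim_eq_nd k S Q q.asIdeal hQ hQq, hd]

include k in
theorem Z_compl_eq [LocCoh.IsCohenMacaulayRing S] (d : ℕ) :
    (Z S d)ᶜ = ⋃ Q ∈ {Q : Ideal S | Q ∈ minimalPrimes S ∧ nd S Q ≠ d},
      PrimeSpectrum.zeroLocus (Q : Set S) := by
  ext q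
  simp only [Z, Set.mem_compl_iff, Set.mem_setOf_eq, Set.mem_iUnion, PrimeSpectrum.mem_zeroLocus,
    SetLike.coe_subset_coe, exists_prop]
  constructor
  · intro h
    obtain ⟨Q, hQ, hQq⟩ := exists_minimalPrimes_le q.asIdeal
    refine ⟨Q, ⟨hQ, ?_⟩, hQq⟩
    rw [compDim_eq_nd k S Q q.asIdeal hQ hQq] at h
    intro hd
    apply h
    rw [hd]
  · rintro ⟨Q, ⟨hQ, hd⟩, hQq⟩
    rw [compDim_eq_nd k S Q q.asIdeal hQ hQq]
    intro h
    apply hd
    exact_mod_cast h

include k in
theorem isClopen_Z [LocCoh.IsCohenMacaulayRing S] (d : ℕ) : IsClopen (Z S d) := by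
  haveI : IsNoetherianRing S := Algebra.FiniteType.isNoetherianRing k S
  have hfin : (minimalPrimes S).Finite := minimalPrimes.finite_of_isNoetherianRing S
  constructor
  · rw [Z_eq k S d]
    exact Set.Finite.isClosed_biUnion (hfin.subset fun Q hQ => hQ.1)
      (fun Q _ => PrimeSpectrum.isClosed_zeroLocus _)
  · rw [← isClosed_compl_iff, Z_compl_eq k S d]
    exact Set.Finite.isClosed_biUnion (hfin.subset fun Q hQ => hQ.1)
      (fun Q _ => PrimeSpectrum.isClosed_zeroLocus _)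

end


section Decomp

variable (k S : Type u) [Field k] [CommRing S] [Algebra k S] [Algebra.FiniteType k S]

theorem dim_quot_quot (I : Ideal S) (Q' : Ideal (S ⧸ I)) :
    ringKrullDim ((S ⧸ I) ⧸ Q') = ringKrullDim (S ⧸ Q'.comap (Ideal.Quotient.mk I)) := by
  have hf : Function.Surjective ((Ideal.Quotient.mk Q').comp (Ideal.Quotient.mk I)) :=
    Ideal.Quotient.mk_surjective.comp Ideal.Quotient.mk_surjective
  have hker : RingHom.ker ((Ideal.Quotient.mk Q').comp (Ideal.Quotient.mk I)) =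
      Q'.comap (Ideal.Quotient.mk I) := by
    rw [← RingHom.comap_ker, Ideal.mk_ker]
  exact ringKrullDim_eq_of_ringEquiv
    ((RingHom.quotientKerEquivOfSurjective hf).symm.trans (Ideal.quotEquivOfEq hker))

end Decomp

theorem result (k S : Type u) [Field k] [CommRing S]
    [Algebra k S] [Algebra.FiniteType k S] [LocCoh.IsCohenMacaulayRing S] :
    ∃ (N : ℕ) (T : Fin (N + 1) → Type u) (_ : ∀ d, CommRing (T d)) (_ : ∀ d, Algebra k (T d)),
      Nonempty (S ≃ₐ[k] ((d : Fin (N + 1)) → T d)) ∧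
        ∀ (d : Fin (N + 1)) (m : Ideal (T d)), m.IsMaximal → m.height = (d : ℕ) := by
  classical
  haveI : IsNoetherianRing S := Algebra.FiniteType.isNoetherianRing k S
  have hfin : (minimalPrimes S).Finite := minimalPrimes.finite_of_isNoetherianRing S
  obtain ⟨N, hN⟩ : ∃ N : ℕ, ∀ Q ∈ minimalPrimes S, nd S Q ≤ N :=
    ⟨hfin.toFinset.sup (nd S), fun Q hQ => Finset.le_sup (f := nd S) (hfin.mem_toFinset.2 hQ)⟩
  have hex : ∀ d : Fin (N + 1), ∃ e : S, IsIdempotentElem e ∧
      Z S (d : ℕ) = (PrimeSpectrum.basicOpen e : Set (PrimeSpectrum S)) :=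
    fun d => PrimeSpectrum.exists_idempotent_basicOpen_eq_of_isClopen (isClopen_Z k S d)
  choose e he_idem he_Z using hex
  have hmemZ : ∀ (d : Fin (N + 1)) (q : PrimeSpectrum S),
      e d ∉ q.asIdeal ↔ compDim q.asIdeal = ((d : ℕ) : WithBot ℕ∞) := by
    intro d q
    have : q ∈ Z S (d : ℕ) ↔ q ∈ (PrimeSpectrum.basicOpen (e d) : Set (PrimeSpectrum S)) := by
      rw [he_Z d]
    rw [SetLike.mem_coe, PrimeSpectrum.mem_basicOpen] at this
    exact this.symm
  have hcover : ∀ q : PrimeSpectrum S, ∃ d : Fin (N + 1), e d ∉ q.asIdeal := by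
    intro q
    obtain ⟨Q, hQ, hQq⟩ := exists_minimalPrimes_le q.asIdeal
    refine ⟨⟨nd S Q, Nat.lt_succ_of_le (hN Q hQ)⟩, ?_⟩
    rw [hmemZ]
    exact compDim_eq_nd k S Q q.asIdeal hQ hQq
  have hortho : Pairwise (fun i j => e i * e j = 0) := by
    intro i j hij
    apply IsIdempotentElem.eq_zero_of_isNilpotent ((he_idem i).mul (he_idem j))
    rw [nilpotent_iff_mem_prime]
    intro J hJ
    by_contra hmem
    have hi : e i ∉ J := fun h => hmem (J.mul_mem_right _ h)
    have hj : e j ∉ J := fun h => hmem (J.mul_mem_left _ h)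
    have h1 := (hmemZ i ⟨J, hJ⟩).1 hi
    have h2 := (hmemZ j ⟨J, hJ⟩).1 hj
    rw [h1] at h2
    have : (i : ℕ) = (j : ℕ) := by exact_mod_cast h2
    exact hij (Fin.ext this)
  have hOI : OrthogonalIdempotents e := ⟨he_idem, hortho⟩
  have hsum : ∑ i, e i = 1 := by
    have hidem : IsIdempotentElem (1 - ∑ i, e i) :=
      (hOI.isIdempotentElem_sum (s := Finset.univ)).one_sub
    have hnil : IsNilpotent (1 - ∑ i, e i) := by
      rw [nilpotent_iff_mem_prime]
      intro J hJ
      obtain ⟨d, hd⟩ := hcover ⟨J, hJ⟩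
      have h0 : e d * (1 - ∑ i, e i) = 0 := by
        rw [mul_sub, mul_one, hOI.mul_sum_of_mem (Finset.mem_univ d), sub_self]
      have : e d * (1 - ∑ i, e i) ∈ J := by rw [h0]; exact J.zero_mem
      exact (hJ.mem_or_mem this).resolve_left hd
    have := hidem.eq_zero_of_isNilpotent hnil
    exact (sub_eq_zero.1 this).symm
  have hCOI : CompleteOrthogonalIdempotents e := ⟨hOI, hsum⟩
  have hbij := hCOI.bijective_pi
  refine ⟨N, fun d => S ⧸ Ideal.span {1 - e d}, fun d => inferInstance, fun d => inferInstance,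
    ⟨AlgEquiv.ofBijective (Pi.algHom k (fun d => S ⧸ Ideal.span {1 - e d})
      (fun d => Ideal.Quotient.mkₐ k (Ideal.span {1 - e d}))) hbij⟩, ?_⟩
  intro d m' hm'
  set I := Ideal.span {1 - e d} with hI
  haveI := hm'
  have h1 := height_eq_compDim_of_isMaximal k (S ⧸ I) m'
  -- every minimal prime below `m'` has quotient of dimension `d`
  obtain ⟨m, hm⟩ : ∃ m : Ideal S, m = m'.comap (Ideal.Quotient.mk I) := ⟨_, rfl⟩
  haveI hmprime : m.IsPrime := by rw [hm]; exact Ideal.comap_isPrime _ _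
  have hIm : I ≤ m := by
    rw [hm]
    intro x hx
    rw [Ideal.mem_comap, Ideal.Quotient.eq_zero_iff_mem.2 hx]
    exact zero_mem _
  have hedm : e d ∉ m := by
    intro h
    apply hmprime.ne_top
    rw [Ideal.eq_top_iff_one]
    have h2 : 1 - e d ∈ m := hIm (Ideal.subset_span rfl)
    have := m.add_mem h2 h
    simpa using this
  have hcompm : compDim m = ((d : ℕ) : WithBot ℕ∞) := (hmemZ d ⟨m, hmprime⟩).1 hedm
  have hdimQ' : ∀ Q' ∈ minimalPrimes (S ⧸ I), Q' ≤ m' →
      ringKrullDim ((S ⧸ I) ⧸ Q') = ((d : ℕ) : WithBot ℕ∞) := by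
    intro Q' hQ' hQ'm'
    haveI : Q'.IsPrime := hQ'.1.1
    obtain ⟨Q, hQ⟩ : ∃ Q : Ideal S, Q = Q'.comap (Ideal.Quotient.mk I) := ⟨_, rfl⟩
    haveI hQprime : Q.IsPrime := by rw [hQ]; exact Ideal.comap_isPrime _ _
    have hQm : Q ≤ m := by rw [hQ, hm]; exact Ideal.comap_mono hQ'm'
    have hQmin : Q ∈ I.minimalPrimes := by
      have := Ideal.comap_minimalPrimes_eq_of_surjective (f := Ideal.Quotient.mk I)
        Ideal.Quotient.mk_surjective (⊥ : Ideal (S ⧸ I))
      rw [← RingHom.ker_eq_comap_bot, Ideal.mk_ker] at this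
      rw [this, hQ]
      exact ⟨Q', hQ', rfl⟩
    obtain ⟨Q₀, hQ₀, hQ₀Q⟩ := exists_minimalPrimes_le Q
    haveI : Q₀.IsPrime := hQ₀.1.1
    have hIQ₀ : I ≤ Q₀ := by
      rw [hI, Ideal.span_le, Set.singleton_subset_iff]
      have h0 : e d * (1 - e d) ∈ Q₀ := by
        rw [mul_sub, mul_one, (he_idem d).eq, sub_self]
        exact zero_mem _
      rcases (hQ₀.1.1).mem_or_mem h0 with h | h
      · exact absurd (hQm (hQ₀Q h)) hedm
      · exact h
    have hQQ₀ : Q ≤ Q₀ := hQmin.2 ⟨inferInstance, hIQ₀⟩ hQ₀Q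
    have hQeq : Q = Q₀ := le_antisymm hQQ₀ hQ₀Q
    have hQminS : Q ∈ minimalPrimes S := by rw [hQeq]; exact hQ₀
    rw [dim_quot_quot S I Q', ← hQ, dim_eq_compDim k S Q m hQminS hQm, hcompm]
  have h2 : compDim m' = ((d : ℕ) : WithBot ℕ∞) := by
    apply le_antisymm
    · rw [compDim_le_iff]
      intro Q' hQ' hQ'm'
      exact (hdimQ' Q' hQ' hQ'm').le
    · obtain ⟨Q', hQ', hQ'm'⟩ := exists_minimalPrimes_le m'
      rw [← hdimQ' Q' hQ' hQ'm']
      exact le_compDim hQ' hQ'm'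
  rw [h2] at h1
  exact_mod_cast h1

end Groth.Agent.S9156
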