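import Groth.Statements.S2586
import Groth.Agent.Lib.Helper54.RegFibre6

set_option autoImplicit false
open TensorProduct
universe u
open EGA43

namespace Groth.Agent.S2586

open Groth.Agent.Lib.Helper54 in
theorem subsingleton_fibre {A B : Type*} [CommRing A] [CommRing B] [Algebra A B] (M : Type*)
    [AddCommGroup M] [Module B M] [Module A M] [IsScalarTower A B M] (K : Type*) [AddCommGroup K]
    [Module A K] (W : Submonoid B) (h : Subsingleton (LocalizedModule W M)) :
    Subsingleton (LocalizedModule W (M ⊗[A] K)) := by
  rw [LocalizedModule.subsingleton_iff] at h ⊢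
  intro z
  induction z with
  | zero => exact ⟨1, W.one_mem, smul_zero _⟩
  | tmul m c =>
    obtain ⟨s, hs, hsm⟩ := h m
    exact ⟨s, hs, by rw [TensorProduct.smul_tmul', hsm, TensorProduct.zero_tmul]⟩
  | add x y hx hy =>
    obtain ⟨s, hs, hsx⟩ := hx
    obtain ⟨t, ht, hty⟩ := hy
    refine ⟨s * t, W.mul_mem hs ht, ?_⟩
    have h1 : (s * t) • x = 0 := by rw [mul_comm, mul_smul, hsx, smul_zero]
    have h2 : (s * t) • y = 0 := by rw [mul_smul, hty, smul_zero]
    rw [smul_add, h1, h2, add_zero]

open Groth.Agent.Lib.Helper54 in
theorem flat_congr {A : Type u} {B : Type*} [CommRing A] [CommRing B] [Algebra A B] {M M' : Type*}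
    [AddCommGroup M] [Module A M] [Module B M] [IsScalarTower A B M] [AddCommGroup M']
    [Module A M'] [Module B M'] [IsScalarTower A B M'] (e : M' ≃ₗ[B] M) (q : Ideal B) [q.IsPrime]
    (h : Module.Flat A (LocalizedModule q.primeCompl M')) :
    Module.Flat A (LocalizedModule q.primeCompl M) :=
  FlatDescent.flat_localized_of_semilinearEquiv (RingEquiv.refl B) (fun _ => rfl) e.toAddEquiv
    (fun b m => e.map_smul b m) q q (fun _ => Iff.rfl) h

theorem flat_zero {A : Type u} {B : Type*} [CommRing A] [CommRing B] [Algebra A B] (M : Type*)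
    [AddCommGroup M] [Module A M] [Module B M] [IsScalarTower A B M] (q : Ideal B) [q.IsPrime]
    (g : List B) (h : Module.Flat A (LocalizedModule q.primeCompl M)) :
    Module.Flat A (LocalizedModule q.primeCompl
      (M ⧸ (Ideal.span {b | b ∈ g.take 0} • (⊤ : Submodule B M)))) := by
  have hbot : (Ideal.span {b | b ∈ g.take 0} • (⊤ : Submodule B M)) = ⊥ := by
    have : {b | b ∈ g.take 0} = (∅ : Set B) := by
      ext b
      simp
    rw [this, Ideal.span_empty, Submodule.bot_smul]
  exact flat_congr (Submodule.quotEquivOfEqBot _ hbot).symm q h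

open scoped Pointwise in
theorem finitePresentation_quotSMulTop {B : Type*} [CommRing B] (M : Type*) [AddCommGroup M]
    [Module B M] [Module.FinitePresentation B M] (r : B) :
    Module.FinitePresentation B (QuotSMulTop r M) := by
  refine Module.finitePresentation_of_surjective (Submodule.mkQ (r • (⊤ : Submodule B M)))
    (Submodule.mkQ_surjective _) ?_
  rw [Submodule.ker_mkQ]
  have h : (⊤ : Submodule B M).FG := Module.Finite.fg_top
  exact h.map (DistribSMul.toLinearMap B M r)

open Groth.Agent.Lib.Helper54 in
open scoped Pointwise in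
theorem main {A B : Type u} [CommRing A] [CommRing B] [Algebra A B]
    [Algebra.FinitePresentation A B] (q : Ideal B) [q.IsPrime] (g : List B) :
    ∀ (M : Type u) [AddCommGroup M] [Module B M] [Module A M] [IsScalarTower A B M]
      [Module.FinitePresentation B M],
      Module.Flat A (LocalizedModule q.primeCompl M) →
      RingTheory.Sequence.IsRegular
        (LocalizedModule q.primeCompl (M ⊗[A] (q.comap (algebraMap A B)).ResidueField)) g →
      RingTheory.Sequence.IsRegular (LocalizedModule q.primeCompl M) g ∧
        ∀ i ≤ g.length, Module.Flat A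
          (LocalizedModule q.primeCompl
            (M ⧸ (Ideal.span {b | b ∈ g.take i} • (⊤ : Submodule B M)))) := by
  induction g with
  | nil =>
    intro M _ _ _ _ _ hflat hreg
    constructor
    · haveI : Nontrivial (LocalizedModule q.primeCompl M) := by
        by_contra hn
        rw [not_nontrivial_iff_subsingleton] at hn
        have hs := subsingleton_fibre (A := A) M (q.comap (algebraMap A B)).ResidueField
          q.primeCompl hn
        exact (not_nontrivial_iff_subsingleton.2 hs) hreg.nontrivial
      exact RingTheory.Sequence.IsRegular.nil B _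
    · intro i hi
      obtain rfl : i = 0 := by simpa using hi
      exact flat_zero M q [] hflat
  | cons r rs ih =>
    intro M _ _ _ _ _ hflat hreg
    have hK : ∀ a : A, algebraMap A (q.comap (algebraMap A B)).ResidueField a = 0 ↔
        algebraMap A B a ∈ q := fun a => by
      rw [Ideal.algebraMap_residueField_eq_zero, Ideal.mem_comap]
    obtain ⟨h1, h2⟩ := (RingTheory.Sequence.isRegular_cons_iff _ r rs).1 hreg
    have hfib : ∀ z : M ⊗[A] (q.comap (algebraMap A B)).ResidueField, r • z = 0 → ∃ w, w ∉ q ∧ w • z = 0 := by
      intro z hz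
      obtain ⟨w, hw, hwz⟩ :=
        RegFibre6.kernel_of_isSMulRegular_localized q.primeCompl
          (M ⊗[A] (q.comap (algebraMap A B)).ResidueField) r h1 z hz
      exact ⟨w, hw, hwz⟩
    obtain ⟨c1, c2⟩ := RegFibre5.core M q r (q.comap (algebraMap A B)).ResidueField hK hflat hfib
    have hr : IsSMulRegular (LocalizedModule q.primeCompl M) r :=
      RegFibre6.isSMulRegular_localized_of_kernel q.primeCompl M r (fun y hy => by
        obtain ⟨w, hw, hwy⟩ := c1 y hy
        exact ⟨w, hw, hwy⟩)
    have : Module.FinitePresentation B (QuotSMulTop r M) := finitePresentation_quotSMulTop M r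
    obtain ⟨e₁⟩ := RegFibre6.exists_quotSMulTop_localized_equiv r q.primeCompl
      (AlgebraTensorModule.rTensor A (q.comap (algebraMap A B)).ResidueField
        (Submodule.mkQ (r • (⊤ : Submodule B M))))
      (RegFibre6.rTensor_mkQ_surjective M _ r) (RegFibre6.exact_rTensor_mkQ M _ r)
    have hreg₁ : RingTheory.Sequence.IsRegular
        (LocalizedModule q.primeCompl
          (QuotSMulTop r M ⊗[A] (q.comap (algebraMap A B)).ResidueField)) rs :=
      (LinearEquiv.isRegular_congr e₁ rs).1 h2
    obtain ⟨hR₁, hF₁⟩ := ih (QuotSMulTop r M) c2 hreg₁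
    obtain ⟨e₂⟩ := RegFibre6.exists_quotSMulTop_localized_equiv r q.primeCompl
      (Submodule.mkQ (r • (⊤ : Submodule B M))) (Submodule.mkQ_surjective _)
      (RegFibre3.exact_smul_mkQ M r)
    refine ⟨(RingTheory.Sequence.isRegular_cons_iff _ r rs).2
      ⟨hr, (LinearEquiv.isRegular_congr e₂ rs).2 hR₁⟩, ?_⟩
    intro i hi
    cases i with
    | zero => exact flat_zero M q (r :: rs) hflat
    | succ i =>
      have hi' : i ≤ rs.length := by simpa using hi
      have := hF₁ i hi'
      rw [List.take_succ_cons]
      exact flat_congr
        (Submodule.quotOfListConsSMulTopEquivQuotSMulTopInner M r (rs.take i)).symm q this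

/-- Let A ⟶ B be a ring map with B finitely presented over A, M a finitely presented B-module, q a prime
of B with contraction p, and g₁, …, gₙ elements of q. Suppose the localization M_q is flat over A
and the gᵢ form a regular sequence on the localization at q of the fibre module M ⊗_A κ(p). Then the
gᵢ form a regular sequence on M_q, and for every i the localization at q of M/(g₁, …, gᵢ)M is flat
over A. -/
theorem result {A B : Type u} [CommRing A] [CommRing B] [Algebra A B]
    [Algebra.FinitePresentation A B] (M : Type u) [AddCommGroup M] [Module B M] [Module A M] [IsScalarTower A B M]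
    [Module.FinitePresentation B M] (q : Ideal B) [q.IsPrime] (g : List B) (hg : ∀ b ∈ g, b ∈ q)
    (hflat : Module.Flat A (LocalizedModule q.primeCompl M))
    (hreg : RingTheory.Sequence.IsRegular
      (LocalizedModule q.primeCompl (M ⊗[A] (q.comap (algebraMap A B)).ResidueField)) g) :
    RingTheory.Sequence.IsRegular (LocalizedModule q.primeCompl M) g ∧
      ∀ i ≤ g.length, Module.Flat A
        (LocalizedModule q.primeCompl (M ⧸ (Ideal.span {b | b ∈ g.take i} • (⊤ : Submodule B M)))) := by
  exact main q g M hflat hreg

end Groth.Agent.S2586
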