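import Groth.Statements.S9146
import Groth.Agent.Lib.Helper62.GCIField7
import Mathlib.RingTheory.RingHom.Flat
import Mathlib.RingTheory.RingHom.FinitePresentation
import Mathlib.RingTheory.Localization.BaseChange

set_option autoImplicit false
set_option linter.style.haveILetI false
universe u
open Synt

namespace Groth.Agent.S9146


open TensorProduct Groth.Agent.Lib.Helper62.GCIField

/-- being a local complete intersection over a field can be checked on a principal open. -/
theorem exists_isGlobalCI_of_away {k T : Type u} [Field k] [CommRing T] [Algebra k T]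
    (Q : PrimeSpectrum T) (t : T) (ht : t ∉ Q.asIdeal)
    (hT : Synt.IsLCIOver k (Localization.Away t)) :
    ∃ g : T, g ∉ Q.asIdeal ∧ Synt.IsGlobalCI k (Localization.Away g) := by
  have hdisj : Disjoint (Submonoid.powers t : Set T) (Q.asIdeal : Set T) := by
    rw [Set.disjoint_left]
    rintro _ ⟨m, rfl⟩ hm
    exact ht (Q.2.mem_of_pow_mem m hm)
  haveI hQ' : (Q.asIdeal.map (algebraMap T (Localization.Away t))).IsPrime :=
    IsLocalization.isPrime_of_isPrime_disjoint (.powers t) _ _ Q.2 hdisj
  obtain ⟨h', hh', hgci⟩ := hT.2 ⟨_, hQ'⟩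
  obtain ⟨⟨h'', ⟨_, m, rfl⟩⟩, hmk⟩ := IsLocalization.surj (Submonoid.powers t) h'
  have hassoc : Associated (algebraMap T (Localization.Away t) h'') h' := by
    refine Associated.symm ⟨(IsLocalization.map_units (Localization.Away t)
      (⟨t ^ m, m, rfl⟩ : Submonoid.powers t)).unit, ?_⟩
    exact hmk
  haveI : IsLocalization.Away (t * h'') (Localization.Away h') :=
    IsLocalization.Away.mul_of_associated t h'' h' hassoc
  refine ⟨t * h'', ?_, ?_⟩
  · intro hmem
    rcases Q.2.mem_or_mem hmem with h1 | h1
    · exact ht h1
    · apply hh'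
      have h2 : algebraMap T (Localization.Away t) h'' ∈
          Q.asIdeal.map (algebraMap T (Localization.Away t)) := Ideal.mem_map_of_mem _ h1
      obtain ⟨u, hu⟩ := hassoc
      change h' ∈ Q.asIdeal.map (algebraMap T (Localization.Away t))
      rw [← hu]
      exact Ideal.mul_mem_right _ _ h2
  · let e : Localization.Away h' ≃ₐ[T] Localization.Away (t * h'') :=
      IsLocalization.algEquiv (Submonoid.powers (t * h'')) _ _
    exact isGlobalCI_of_algEquiv (e.restrictScalars k) hgci

/-- Being syntomic is local on the target ring: if finitely many elements of S generating the unit ideal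
have syntomic localizations R → S_g, then R → S is syntomic. -/
theorem result (R S : Type u) [CommRing R] [CommRing S] [Algebra R S]
    (s : Finset S) (hs : Ideal.span (s : Set S) = ⊤)
    (h : ∀ g ∈ s, Synt.IsSyntomic R (Localization.Away g)) : Synt.IsSyntomic R S := by
  classical
  have hflat : Module.Flat R S := by
    rw [← RingHom.flat_algebraMap_iff]
    apply RingHom.Flat.ofLocalizationSpanTarget _ (s : Set S) hs
    intro r
    rw [← IsScalarTower.algebraMap_eq, RingHom.flat_algebraMap_iff]
    exact (h r r.2).1
  have hfp : Algebra.FinitePresentation R S := by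
    rw [← RingHom.finitePresentation_algebraMap]
    apply RingHom.finitePresentation_ofLocalizationSpanTarget _ (s : Set S) hs
    intro r
    rw [← IsScalarTower.algebraMap_eq, RingHom.finitePresentation_algebraMap]
    exact (h r r.2).2.1
  refine ⟨hflat, hfp, fun p => ?_⟩
  haveI : Algebra.FiniteType R S := inferInstance
  haveI : Algebra.FiniteType p.asIdeal.ResidueField (p.asIdeal.Fiber S) := inferInstance
  refine ⟨inferInstance, fun Q => ?_⟩
  have hex : ∃ g ∈ s, (1 : p.asIdeal.ResidueField) ⊗ₜ[R] g ∉ Q.asIdeal := by
    by_contra hcon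
    push Not at hcon
    have hle : Ideal.map (Algebra.TensorProduct.includeRight (R := R)
        (A := p.asIdeal.ResidueField) (B := S)) (Ideal.span (s : Set S)) ≤ Q.asIdeal := by
      rw [Ideal.map_span, Ideal.span_le]
      rintro _ ⟨g, hg, rfl⟩
      exact hcon g hg
    rw [hs, Ideal.map_top] at hle
    exact Q.2.ne_top (top_le_iff.mp hle)
  obtain ⟨g, hg, hgQ⟩ := hex
  apply exists_isGlobalCI_of_away Q _ hgQ
  have e : p.asIdeal.ResidueField ⊗[R] Localization.Away g ≃ₐ[p.asIdeal.ResidueField]
      Localization.Away ((1 : p.asIdeal.ResidueField) ⊗ₜ[R] g) := by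
    haveI : IsLocalization ((Submonoid.powers g).map (Algebra.TensorProduct.includeRight (R := R)
        (A := p.asIdeal.ResidueField))) (Localization.Away ((1 : p.asIdeal.ResidueField) ⊗ₜ[R] g)) := by
      rw [Submonoid.map_powers]
      exact inferInstanceAs (IsLocalization.Away ((1 : p.asIdeal.ResidueField) ⊗ₜ[R] g) _)
    exact IsLocalization.tensorProductEquivOfMapIncludeRight R p.asIdeal.ResidueField
      (Submonoid.powers g) (Localization.Away g) _
  exact isLCIOver_of_algEquiv e ((h g hg).2.2 p)

end Groth.Agent.S9146
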