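import Groth.Statements.S1223
import Mathlib

set_option autoImplicit false
universe u
open FlatMor

namespace Groth.Agent.S1223

open TensorProduct CategoryTheory AlgebraicGeometry

attribute [local instance] Algebra.TensorProduct.rightAlgebra

theorem isDomain_fiber {A B : Type u} [CommRing A] [CommRing B] [Algebra A B]
    (h : FlatCA.GeomIntegralFibres A B)
    (A' B' : Type u) [CommRing A'] [CommRing B'] [Algebra A A'] [Algebra B B'] [Algebra A' B']
    [Algebra A B'] [IsScalarTower A B B'] [IsScalarTower A A' B']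
    (hpo : Algebra.IsPushout A B A' B') (t' : Ideal A') [t'.IsPrime] :
    IsDomain (t'.Fiber B') := by
  letI algBF : Algebra B (t'.Fiber B') :=
    ((algebraMap B' (t'.Fiber B')).comp (algebraMap B B')).toAlgebra
  haveI : IsScalarTower B B' (t'.Fiber B') := IsScalarTower.of_algebraMap_eq fun _ => rfl
  haveI : IsScalarTower A B' (t'.Fiber B') := IsScalarTower.of_algebraMap_eq fun a => by
    rw [IsScalarTower.algebraMap_apply A A' (t'.Fiber B'),
      IsScalarTower.algebraMap_apply A' B' (t'.Fiber B'), ← IsScalarTower.algebraMap_apply A A' B']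
  haveI : IsScalarTower A B (t'.Fiber B') := IsScalarTower.of_algebraMap_eq fun a => by
    change _ = algebraMap B' (t'.Fiber B') (algebraMap B B' (algebraMap A B a))
    rw [← IsScalarTower.algebraMap_apply A B B', ← IsScalarTower.algebraMap_apply A B' (t'.Fiber B')]
  haveI : Algebra.IsPushout A A' B B' := hpo.symm
  have h1 : Algebra.IsPushout A t'.ResidueField B (t'.Fiber B') :=
    (Algebra.IsPushout.comp_iff A A' B (S' := B') (T := t'.ResidueField)
      (T' := t'.Fiber B')).mpr inferInstance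
  haveI h2 : Algebra.IsPushout A B t'.ResidueField (t'.Fiber B') := h1.symm
  have h3 := CommRingCat.isPushout_of_isPushout A B t'.ResidueField (t'.Fiber B')
  have h4 := isPullback_SpecMap_of_isPushout _ _ _ _ h3
  have h5 := h.geometrically_isIntegral _ _ _ h4
  exact (affine_isIntegral_iff (CommRingCat.of (t'.Fiber B'))).mp h5

theorem eq_bot_of_isAssociatedPrime_self {R : Type*} [CommRing R] [IsDomain R] {q : Ideal R}
    (h : IsAssociatedPrime q R) : q = ⊥ := by
  obtain ⟨hq, x, rfl⟩ := h
  have hx : x ≠ 0 := by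
    rintro rfl
    apply hq.ne_top
    rw [Ideal.eq_top_iff_one]
    apply Ideal.le_radical
    simp [Submodule.mem_colon_singleton]
  rw [eq_bot_iff]
  rintro r ⟨n, hn⟩
  rw [Submodule.mem_colon_singleton, Submodule.mem_bot, smul_eq_mul] at hn
  have := (mul_eq_zero.mp hn).resolve_right hx
  exact (Ideal.mem_bot).mpr (pow_eq_zero_iff (by
    rintro rfl
    simp at this) |>.mp this)

/-- Ring form, X = Spec B affine: a finite type, flat A-algebra B with geometrically integral fibres is
universally pure relative to Spec A. -/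
theorem result {A B : Type u} [CommRing A] [CommRing B] [Algebra A B] [Algebra.FiniteType A B] [Module.Flat A B]
    (h : FlatCA.GeomIntegralFibres A B) : FlatCA.IsUnivPure A B B := by
  intro p _ A' B' N' _ _ _ _ _ _ _ _ _ _ _ _ _ _ f t' t _ _ P _ himp
  obtain ⟨hpo, hbc, htt, htp, hPt, hass, hcl⟩ := himp
  haveI hdom : IsDomain (t'.Fiber B') := isDomain_fiber h A' B' hpo t'
  let e1 : N' ≃ₗ[B'] B' := hbc.equiv.symm ≪≫ₗ AlgebraTensorModule.rid B B' B'
  let e2 : (t'.Fiber B') ⊗[B'] N' ≃ₗ[t'.Fiber B'] t'.Fiber B' :=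
    (AlgebraTensorModule.congr (LinearEquiv.refl _ _) e1) ≪≫ₗ
      AlgebraTensorModule.rid B' (t'.Fiber B') (t'.Fiber B')
  have hass' : IsAssociatedPrime (FlatCA.fiberIdeal t' P) (t'.Fiber B') :=
    (LinearEquiv.isAssociatedPrime_iff e2).mp hass
  have hbot : FlatCA.fiberIdeal t' P = ⊥ := eq_bot_of_isAssociatedPrime_self hass'
  haveI : Module.Flat A' B' := Module.Flat.isBaseChange A A' B B' hpo.symm.out
  -- a prime over `t`
  haveI hdomt : IsDomain (t.Fiber B') := isDomain_fiber h A' B' hpo t
  obtain ⟨q, hq⟩ := Ideal.exists_maximal (t.Fiber B')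
  let P₁' := (PrimeSpectrum.primesOverOrderIsoFiber A' B' t).symm ⟨q, hq.isPrime⟩
  haveI hP₁prime : (P₁' : Ideal B').IsPrime := P₁'.2.1
  haveI hP₁over : (P₁' : Ideal B').LiesOver t := P₁'.2.2
  obtain ⟨P₂, hP₂le, hP₂prime, hP₂over⟩ :=
    Ideal.exists_ideal_le_liesOver_of_le (p := t') (q := t) (P₁' : Ideal B') htt
  let e := PrimeSpectrum.primesOverOrderIsoFiber A' B' t'
  let P₂' : t'.primesOver B' := ⟨P₂, hP₂prime, hP₂over⟩
  have h1 : ((e.symm (e P₂') : t'.primesOver B') : Ideal B') = P₂ := by rw [e.symm_apply_apply]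
  rw [PrimeSpectrum.coe_primesOverOrderIsoFiber_symm_apply] at h1
  have hPP₂ : P ≤ P₂ := by
    rw [← h1]
    refine le_trans Ideal.le_comap_map (Ideal.comap_mono ?_)
    change FlatCA.fiberIdeal t' P ≤ _
    rw [hbot]
    exact bot_le
  exact hcl (P₁' : Ideal B') (hPP₂.trans hP₂le) hP₁over

end Groth.Agent.S1223
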