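import Groth.Statements.S2970
import Groth.Agent.Lib.Helper17.MultLift2

set_option autoImplicit false
universe u
open TensorProduct SGA3b
open SGA3b

namespace Groth.Agent.S2970

section aux

open Groth.Agent.Lib.Helper27.MultRigid Groth.Agent.Lib.Helper17.MultLocal
  Groth.Agent.Lib.Helper17.MultLift

variable {R : Type u} [CommRing R] {A : Type u} [CommRing A] [HopfAlgebra R A]

/-- local diagonalisation data at `f` -/
def LocDiag (R A : Type u) [CommRing R] [CommRing A] [HopfAlgebra R A] (f : R) : Prop :=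
  ∃ (P : Type u) (_ : CommRing P) (_ : Algebra R P) (_ : Algebra (Localization.Away f) P)
    (_ : IsScalarTower R (Localization.Away f) P)
    (_ : Module.FaithfullyFlat (Localization.Away f) P) (N : Type u) (_ : CommGroup N),
    Nonempty (P ⊗[Localization.Away f] (Localization.Away f ⊗[R] A) ≃ₐc[P] MonoidAlgebra P N)

theorem locDiag_of (f : R)
    (h : IsMultTypeConst (Localization.Away f) (Localization.Away f ⊗[R] A)) :
    LocDiag R A f := by
  obtain ⟨P, _, _, hff, N, _, ⟨e⟩⟩ := h
  letI : Algebra R P :=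
    ((algebraMap (Localization.Away f) P).comp (algebraMap R (Localization.Away f))).toAlgebra
  haveI : IsScalarTower R (Localization.Away f) P :=
    IsScalarTower.of_algebraMap_eq (fun _ => rfl)
  exact ⟨P, inferInstance, inferInstance, inferInstance, inferInstance, hff, N, inferInstance,
    ⟨e⟩⟩

theorem exists_tmul_eq (I : Ideal R) (w : (R ⧸ I) ⊗[R] A) :
    ∃ a : A, (1 : R ⧸ I) ⊗ₜ[R] a = w := by
  induction w using TensorProduct.induction_on with
  | zero => exact ⟨0, by simp⟩
  | tmul r a =>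
    obtain ⟨r, rfl⟩ := Ideal.Quotient.mk_surjective r
    exact ⟨r • a, by
      rw [TensorProduct.tmul_smul, TensorProduct.smul_tmul', Algebra.smul_def, mul_one,
        Ideal.Quotient.algebraMap_eq]⟩
  | add x y hx hy =>
    obtain ⟨a, rfl⟩ := hx
    obtain ⟨b, rfl⟩ := hy
    exact ⟨a + b, TensorProduct.tmul_add _ _ _⟩

theorem tmul_eq_of_mem (I : Ideal R) {M : Type*} [AddCommGroup M] [Module R M] {x y : M}
    (h : x - y ∈ I • (⊤ : Submodule R M)) :
    (1 : R ⧸ I) ⊗ₜ[R] x = (1 : R ⧸ I) ⊗ₜ[R] y := by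
  rw [← sub_eq_zero, ← TensorProduct.tmul_sub]
  refine Submodule.smul_induction_on h (fun r hr m _ => ?_) (fun a b ha hb => by
    rw [TensorProduct.tmul_add, ha, hb, add_zero])
  rw [TensorProduct.tmul_smul, TensorProduct.smul_tmul', Algebra.smul_def, mul_one,
    Ideal.Quotient.algebraMap_eq, Ideal.Quotient.eq_zero_iff_mem.2 hr, TensorProduct.zero_tmul]

theorem gli_of_tmul (I : Ideal R) {a : A}
    (h : IsGroupLikeElem (R ⧸ I) ((1 : R ⧸ I) ⊗ₜ[R] a)) :
    Coalgebra.comul (R := R) a - a ⊗ₜ[R] a ∈ I • (⊤ : Submodule R (A ⊗[R] A)) ∧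
      Coalgebra.counit (R := R) a - 1 ∈ I := by
  obtain ⟨h1, h2⟩ := tmul_comul_sub_eq_zero h
  constructor
  · have := mem_smul_top_of_tmul_eq I (Coalgebra.comul (R := R) a - a ⊗ₜ[R] a) 0
      (by rw [h1, TensorProduct.tmul_zero])
    rwa [sub_zero] at this
  · rwa [Ideal.Quotient.algebraMap_eq, Ideal.Quotient.eq_zero_iff_mem] at h2

theorem exists_local_lift (I : Ideal R) (hI : ∀ x ∈ I, IsNilpotent x) (f : R)
    (hloc : LocDiag R A f) (a : A)
    (h1 : Coalgebra.comul (R := R) a - a ⊗ₜ[R] a ∈ I • (⊤ : Submodule R (A ⊗[R] A)))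
    (h2 : Coalgebra.counit (R := R) a - 1 ∈ I) :
    ∃ g : Localization.Away f ⊗[R] A, IsGroupLikeElem (Localization.Away f) g ∧
      g - (1 : Localization.Away f) ⊗ₜ[R] a ∈
        I • (⊤ : Submodule R (Localization.Away f ⊗[R] A)) := by
  obtain ⟨P, _, _, _, _, _, N, _, ⟨e⟩⟩ := hloc
  have h1' : Coalgebra.comul (R := Localization.Away f) ((1 : Localization.Away f) ⊗ₜ[R] a) -
      ((1 : Localization.Away f) ⊗ₜ[R] a) ⊗ₜ[Localization.Away f]
        ((1 : Localization.Away f) ⊗ₜ[R] a) ∈
      (I.map (algebraMap R (Localization.Away f))) •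
        (⊤ : Submodule (Localization.Away f)
          ((Localization.Away f ⊗[R] A) ⊗[Localization.Away f] (Localization.Away f ⊗[R] A))) := by
    have e1 : Coalgebra.comul (R := Localization.Away f) ((1 : Localization.Away f) ⊗ₜ[R] a) -
        ((1 : Localization.Away f) ⊗ₜ[R] a) ⊗ₜ[Localization.Away f]
          ((1 : Localization.Away f) ⊗ₜ[R] a) =
        Xi (R := R) (R' := Localization.Away f) (bcMap (Localization.Away f) A)
          (Coalgebra.comul (R := R) a - a ⊗ₜ[R] a) := by
      rw [map_sub, Xi_tmul, ← isSemiComul_bcMap (R := R) (R' := Localization.Away f) a]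
      rfl
    rw [e1]
    exact semi_mem_smul_top I (map_mem_smul_top I
      (Xi (R := R) (R' := Localization.Away f) (bcMap (Localization.Away f) A)) h1)
  have h2' : Coalgebra.counit (R := Localization.Away f) ((1 : Localization.Away f) ⊗ₜ[R] a) - 1 ∈
      I.map (algebraMap R (Localization.Away f)) := by
    have := isSemiCounit_bcMap (k := R) (S := Localization.Away f) (C := A) a
    rw [bcMap_apply] at this
    rw [this, ← map_one (algebraMap R (Localization.Away f)), ← map_sub]
    exact Ideal.mem_map_of_mem _ h2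
  obtain ⟨g, hg, hga⟩ := exists_groupLike_of_gli e (I.map (algebraMap R (Localization.Away f)))
    (nil_map _ _ hI) ((1 : Localization.Away f) ⊗ₜ[R] a) h1' h2'
  exact ⟨g, hg, conv_mem_smul_top I hga⟩

theorem overlap_eq (I : Ideal R) (hI : ∀ x ∈ I, IsNilpotent x) (f f' : R)
    (hloc : LocDiag R A f) (a : A)
    {g : Localization.Away f ⊗[R] A} (hg : IsGroupLikeElem (Localization.Away f) g)
    (hga : g - (1 : Localization.Away f) ⊗ₜ[R] a ∈
      I • (⊤ : Submodule R (Localization.Away f ⊗[R] A)))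
    {g' : Localization.Away f' ⊗[R] A} (hg' : IsGroupLikeElem (Localization.Away f') g')
    (hga' : g' - (1 : Localization.Away f') ⊗ₜ[R] a ∈
      I • (⊤ : Submodule R (Localization.Away f' ⊗[R] A))) :
    Algebra.TensorProduct.map (Algebra.TensorProduct.includeLeft :
        Localization.Away f →ₐ[R] Localization.Away f ⊗[R] Localization.Away f')
      (AlgHom.id R A) g =
    Algebra.TensorProduct.map (Algebra.TensorProduct.includeRight :
        Localization.Away f' →ₐ[R] Localization.Away f ⊗[R] Localization.Away f')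
      (AlgHom.id R A) g' := by
  obtain ⟨P, _, _, _, _, _, N, _, ⟨e⟩⟩ := hloc
  set e' : P ⊗[R] A ≃ₐc[P] MonoidAlgebra P N :=
    (cancelBaseChangeBialg R (Localization.Away f) P A).symm.trans e with he'
  apply map_map_injective (R := R) (K := Localization.Away f) (P := P)
    (T := Localization.Away f') (A := A)
  rw [map_map_id, map_map_id]
  set j₁ := (Algebra.TensorProduct.map (IsScalarTower.toAlgHom R (Localization.Away f) P)
      (AlgHom.id R (Localization.Away f'))).comp
    (Algebra.TensorProduct.includeLeft :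
      Localization.Away f →ₐ[R] Localization.Away f ⊗[R] Localization.Away f') with hj₁
  set j₂ := (Algebra.TensorProduct.map (IsScalarTower.toAlgHom R (Localization.Away f) P)
      (AlgHom.id R (Localization.Away f'))).comp
    (Algebra.TensorProduct.includeRight :
      Localization.Away f' →ₐ[R] Localization.Away f ⊗[R] Localization.Away f') with hj₂
  have hy₁ := isGroupLike_map j₁ hg
  have hy₂ := isGroupLike_map j₂ hg'
  apply groupLike_unique (k := R) (P := P) (S' := P ⊗[R] Localization.Away f') e'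
    (I.map (algebraMap R (P ⊗[R] Localization.Away f'))) (nil_map _ _ hI) hy₁ hy₂
  apply semi_mem_smul_top I
  have c1 := map_mem_smul_top I (Algebra.TensorProduct.map j₁ (AlgHom.id R A)).toLinearMap hga
  have c2 := map_mem_smul_top I (Algebra.TensorProduct.map j₂ (AlgHom.id R A)).toLinearMap hga'
  rw [AlgHom.toLinearMap_apply, map_sub, map_one_tmul] at c1 c2
  have : Algebra.TensorProduct.map j₁ (AlgHom.id R A) g -
      Algebra.TensorProduct.map j₂ (AlgHom.id R A) g' =
      (Algebra.TensorProduct.map j₁ (AlgHom.id R A) g -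
        (1 : P ⊗[R] Localization.Away f') ⊗ₜ[R] a) -
      (Algebra.TensorProduct.map j₂ (AlgHom.id R A) g' -
        (1 : P ⊗[R] Localization.Away f') ⊗ₜ[R] a) := by abel
  rw [this]
  exact sub_mem c1 c2

theorem exists_groupLike_lift_global (I : Ideal R) (hI : ∀ x ∈ I, IsNilpotent x)
    (h : IsMultType R A) (a : A)
    (h1 : Coalgebra.comul (R := R) a - a ⊗ₜ[R] a ∈ I • (⊤ : Submodule R (A ⊗[R] A)))
    (h2 : Coalgebra.counit (R := R) a - 1 ∈ I) :
    ∃ g : A, IsGroupLikeElem R g ∧ g - a ∈ I • (⊤ : Submodule R A) := by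
  classical
  obtain ⟨s, hs, hsf⟩ := h
  obtain ⟨s₀, hs₀s, hs₀⟩ := (Ideal.span_eq_top_iff_finite s).1 hs
  have hloc : ∀ f ∈ s₀, LocDiag R A f := fun f hf => locDiag_of f (hsf f (hs₀s hf))
  have hex : ∀ f : R, ∃ g : Localization.Away f ⊗[R] A, f ∈ s₀ →
      (IsGroupLikeElem (Localization.Away f) g ∧
        g - (1 : Localization.Away f) ⊗ₜ[R] a ∈
          I • (⊤ : Submodule R (Localization.Away f ⊗[R] A))) := by
    intro f
    by_cases hf : f ∈ s₀
    · obtain ⟨g, hg⟩ := exists_local_lift I hI f (hloc f hf) a h1 h2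
      exact ⟨g, fun _ => hg⟩
    · exact ⟨0, fun h => absurd h hf⟩
  choose y hy using hex
  obtain ⟨b, hb⟩ := exists_glue s₀ hs₀ y (by
    intro f hf f' hf'
    have h3 := overlap_eq I hI f' f (hloc f' hf') a (hy f' hf').1 (hy f' hf').2
      (hy f hf).1 (hy f hf).2
    have h4 := congrArg (TensorProduct.assoc R (Localization.Away f') (Localization.Away f) A) h3
    rw [assoc_map_includeLeft, assoc_map_includeRight] at h4
    exact h4.symm)
  refine ⟨b, ?_, ?_⟩
  · have hgl : ∀ f ∈ s₀, IsGroupLikeElem (Localization.Away f)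
        ((1 : Localization.Away f) ⊗ₜ[R] b) := fun f hf => by
      rw [hb f hf]; exact (hy f hf).1
    constructor
    · have : Coalgebra.counit (R := R) b - 1 = 0 := by
        apply eq_of_locally_eq (s₀ : Set R) hs₀
        intro f hf
        have h3 := (tmul_comul_sub_eq_zero (hgl f hf)).2
        rw [TensorProduct.tmul_zero]
        have : (1 : Localization.Away f) ⊗ₜ[R] (Coalgebra.counit (R := R) b - 1) =
            (algebraMap R (Localization.Away f) (Coalgebra.counit (R := R) b - 1)) ⊗ₜ[R]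
              (1 : R) := by
          rw [Algebra.algebraMap_eq_smul_one, TensorProduct.smul_tmul, smul_eq_mul, mul_one]
        rw [this, h3, TensorProduct.zero_tmul]
      exact sub_eq_zero.1 this
    · have : Coalgebra.comul (R := R) b - b ⊗ₜ[R] b = 0 := by
        apply eq_of_locally_eq (s₀ : Set R) hs₀
        intro f hf
        rw [(tmul_comul_sub_eq_zero (hgl f hf)).1, TensorProduct.tmul_zero]
      exact sub_eq_zero.1 this
  · have : (I • (⊤ : Submodule R A)).mkQ (b - a) = 0 := by
      apply eq_of_locally_eq (s₀ : Set R) hs₀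
      intro f hf
      rw [TensorProduct.tmul_zero]
      apply tmul_mkQ_eq_zero I
      rw [TensorProduct.tmul_sub, hb f hf]
      exact (hy f hf).2
    rw [Submodule.mkQ_apply] at this
    exact (Submodule.Quotient.mk_eq_zero _).1 this

theorem groupLike_eq_of_congr (I : Ideal R) (hI : ∀ x ∈ I, IsNilpotent x)
    (h : IsMultType R A) {g g' : A} (hg : IsGroupLikeElem R g) (hg' : IsGroupLikeElem R g')
    (hgg : g - g' ∈ I • (⊤ : Submodule R A)) : g = g' := by
  obtain ⟨s, hs, hsf⟩ := h
  rw [← sub_eq_zero]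
  have h0 := Submodule.mem_of_span_eq_top_of_smul_pow_mem (⊥ : Submodule R A) s hs (g - g') ?_
  · exact (Submodule.mem_bot R).1 h0
  rintro ⟨f, hf⟩
  obtain ⟨P, _, _, _, _, _, N, _, ⟨e⟩⟩ := locDiag_of f (hsf f hf)
  set e' : P ⊗[R] A ≃ₐc[P] MonoidAlgebra P N :=
    (cancelBaseChangeBialg R (Localization.Away f) P A).symm.trans e with he'
  have h1 : ∃ n : ℕ, f ^ n • (g - g') = 0 := by
    apply exists_pow_smul_eq_zero_of_flat f (P := P)
    rw [TensorProduct.tmul_sub, sub_eq_zero]
    have hg1 : IsGroupLikeElem P ((1 : P) ⊗ₜ[R] g) :=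
      isGroupLikeElem_of_semi (isSemiComul_bcMap (R := R) (R' := P) (A := A))
        (isSemiCounit_bcMap (k := R) (S := P) (C := A)) hg
    have hg2 : IsGroupLikeElem P ((1 : P) ⊗ₜ[R] g') :=
      isGroupLikeElem_of_semi (isSemiComul_bcMap (R := R) (R' := P) (A := A))
        (isSemiCounit_bcMap (k := R) (S := P) (C := A)) hg'
    apply groupLike_unique (k := R) (P := P) (S' := P) e' (I.map (algebraMap R P))
      (nil_map _ _ hI) hg1 hg2
    apply semi_mem_smul_top I
    rw [← TensorProduct.tmul_sub]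
    exact map_mem_smul_top I (bcMap P A) hgg
  obtain ⟨n, hn⟩ := h1
  exact ⟨n, by rw [Submodule.mem_bot]; exact hn⟩

theorem span_eq_top_of_nil {P N ι : Type*} [CommRing P] [Monoid N] (J : Ideal P)
    (hJ : ∀ x ∈ J, IsNilpotent x) (γ : ι → MonoidAlgebra P N)
    (hγ : ∀ i, IsGroupLikeElem P (γ i))
    (h : ∀ b : MonoidAlgebra P N, b ∈ Submodule.span P (Set.range γ) ⊔
      J • (⊤ : Submodule P (MonoidAlgebra P N))) :
    Submodule.span P (Set.range γ) = ⊤ := by
  classical
  set G := Submodule.span P (Set.range γ) with hG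
  have hC : ∀ u ∈ G, ∀ n : N, (u.coeff n) • MonoidAlgebra.of P N n ∈ G := by
    intro u hu n
    induction hu using Submodule.span_induction with
    | mem x hx =>
      obtain ⟨i, rfl⟩ := hx
      have : ((γ i).coeff n) • MonoidAlgebra.of P N n = ((γ i).coeff n) • γ i := by
        rw [← MonoidAlgebra.coeff_inj]
        ext n'
        rw [MonoidAlgebra.coeff_smul_apply, MonoidAlgebra.coeff_smul_apply, smul_eq_mul,
          smul_eq_mul, coeff_mul_coeff (hγ i), MonoidAlgebra.of_apply, MonoidAlgebra.coeff_single,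
          Finsupp.single_apply]
        split_ifs <;> simp
      rw [this]
      exact G.smul_mem _ (Submodule.subset_span ⟨i, rfl⟩)
    | zero => simp
    | add x y _ _ hx hy =>
      rw [MonoidAlgebra.coeff_add, Finsupp.add_apply, add_smul]
      exact add_mem hx hy
    | smul c x _ hx =>
      rw [MonoidAlgebra.coeff_smul_apply, smul_eq_mul, mul_smul]
      exact G.smul_mem _ hx
  have hD : ∀ n, MonoidAlgebra.of P N n ∈ G := by
    intro n
    obtain ⟨u, hu, w, hw, huw⟩ := Submodule.mem_sup.1 (h (MonoidAlgebra.of P N n))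
    have h1 : u.coeff n + w.coeff n = 1 := by
      have := congrArg (fun z : MonoidAlgebra P N => z.coeff n) huw
      simp only [MonoidAlgebra.coeff_add, Finsupp.add_apply] at this
      rw [this, MonoidAlgebra.of_apply, MonoidAlgebra.coeff_single, Finsupp.single_eq_same]
    have h2 : IsNilpotent (w.coeff n) := hJ _ (functional_mem J (coeffL n) hw)
    have h3 : IsUnit (u.coeff n) := by
      have : u.coeff n = 1 - w.coeff n := by rw [← h1]; ring
      rw [this]
      exact h2.isUnit_one_sub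
    obtain ⟨v, hv⟩ := h3
    have h4 := G.smul_mem ((v⁻¹ : Pˣ) : P) (hC u hu n)
    rwa [← hv, smul_smul, Units.inv_mul, one_smul] at h4
  rw [eq_top_iff]
  intro b hb
  clear hb
  induction b using MonoidAlgebra.induction_on with
  | of n => exact hD n
  | add x y hx hy => exact add_mem hx hy
  | smul r x hx => exact G.smul_mem r hx

theorem coeff_one_eq_zero_of_ann_le {P N : Type u} [CommRing P] [Algebra R P] [Module.Flat R P]
    [CommGroup N] (e' : P ⊗[R] A ≃ₐc[P] MonoidAlgebra P N) (I : Ideal R)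
    (hI : ∀ x ∈ I, IsNilpotent x) {q : A} (hq : IsGroupLikeElem R q)
    (hann : ann R (q - 1) ≤ I) : (e' ((1 : P) ⊗ₜ[R] q)).coeff 1 = 0 := by
  set θ : A →ₐ[R] MonoidAlgebra P N :=
    ((e' : P ⊗[R] A ≃ₐ[P] MonoidAlgebra P N).toAlgHom.restrictScalars R).comp
      (Algebra.TensorProduct.includeRight : A →ₐ[R] P ⊗[R] A) with hθ
  have hθl : θ.toLinearMap = thetaOf e' := LinearMap.ext fun a => rfl
  have hc : IsSemiComul (R := R) (R' := P) θ.toLinearMap := by
    rw [hθl]; exact isSemiComul_thetaOf e'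
  have hu : IsSemiCounit (R := R) (R' := P) θ.toLinearMap := by
    rw [hθl]; exact isSemiCounit_thetaOf e'
  have hinj : Function.Injective (θ.toLinearMap.liftBaseChange P) := by
    have key : ∀ z : P ⊗[R] A, θ.toLinearMap.liftBaseChange P z = e' z := by
      intro z
      induction z using TensorProduct.induction_on with
      | zero => simp
      | tmul p a =>
        rw [LinearMap.liftBaseChange_tmul, hθl, thetaOf_apply, ← map_smul,
          TensorProduct.smul_tmul', smul_eq_mul, mul_one]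
      | add x y hx hy => rw [map_add, map_add, hx, hy]
    have : ⇑(θ.toLinearMap.liftBaseChange P) = ⇑e' := funext key
    rw [this]
    exact EquivLike.injective e'
  obtain ⟨h1, h2⟩ := map_ann_eq_span θ hc hu hinj hq
  have h3 : (θ q).coeff 1 ∈ Ideal.map (algebraMap R P) I := by
    apply Ideal.map_mono hann
    rw [h1]
    exact Ideal.subset_span rfl
  have h4 : IsNilpotent ((θ q).coeff 1) := nil_map _ _ hI _ h3
  have h5 := eq_of_isNilpotent_sub_of_isIdempotentElem h2 IsIdempotentElem.zero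
    (by rwa [sub_zero])
  exact h5

end aux

/-- Let R be a ring, I an ideal consisting of nilpotent elements, and H = Spec A an R-group of
multiplicative type. If the base change of H to R/I is diagonalisable, then H is diagonalisable.
(Affine group schemes over an affine base are taken in Hopf-algebra form; base change is the tensor
product.) -/
theorem result (R : Type u) [CommRing R] (A : Type u) [CommRing A] [HopfAlgebra R A] (I : Ideal R) (hI : ∀ x ∈ I, IsNilpotent x)
    (h : IsMultType R A) (h0 : IsDiag (R ⧸ I) ((R ⧸ I) ⊗[R] A)) : IsDiag R A := by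
  classical
  open Groth.Agent.Lib.Helper27.MultRigid Groth.Agent.Lib.Helper17.MultLocal
    Groth.Agent.Lib.Helper17.MultLift in
  obtain ⟨M₀, _, ⟨e₀⟩⟩ := h0
  have huniq : ∀ g g' : A, IsGroupLikeElem R g → IsGroupLikeElem R g' →
      (1 : R ⧸ I) ⊗ₜ[R] g = (1 : R ⧸ I) ⊗ₜ[R] g' → g = g' := fun g g' hg hg' hh =>
    groupLike_eq_of_congr I hI h hg hg' (mem_smul_top_of_tmul_eq I g g' hh)
  have hlift : ∀ m : M₀, ∃ g : A, IsGroupLikeElem R g ∧
      (1 : R ⧸ I) ⊗ₜ[R] g = e₀.symm (MonoidAlgebra.of (R ⧸ I) M₀ m) := by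
    intro m
    have hgl : IsGroupLikeElem (R ⧸ I) (e₀.symm (MonoidAlgebra.of (R ⧸ I) M₀ m)) :=
      (isGroupLikeElem_map_equiv e₀.symm).2 (MonoidAlgebra.isGroupLikeElem_of m)
    obtain ⟨a, ha⟩ := exists_tmul_eq I (e₀.symm (MonoidAlgebra.of (R ⧸ I) M₀ m))
    rw [← ha] at hgl
    obtain ⟨h1, h2⟩ := gli_of_tmul I hgl
    obtain ⟨g, hg, hga⟩ := exists_groupLike_lift_global I hI h a h1 h2
    exact ⟨g, hg, by rw [← ha]; exact tmul_eq_of_mem I hga⟩
  choose gh hgh1 hgh2 using hlift
  have hone : gh 1 = 1 := huniq _ _ (hgh1 1) IsGroupLikeElem.one (by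
    rw [hgh2, map_one, map_one]; rfl)
  have hmul : ∀ m m', gh (m * m') = gh m * gh m' := fun m m' =>
    huniq _ _ (hgh1 _) ((hgh1 m).mul (hgh1 m')) (by
      rw [hgh2, map_mul, map_mul, ← hgh2 m, ← hgh2 m', Algebra.TensorProduct.tmul_mul_tmul,
        mul_one])
  let γ : M₀ →* GroupLike R A :=
    { toFun := fun m => ⟨gh m, hgh1 m⟩
      map_one' := GroupLike.ext hone
      map_mul' := fun m m' => GroupLike.ext (hmul m m') }
  let Φ : MonoidAlgebra R M₀ →ₐc[R] A :=
    (MonoidAlgebra.liftGroupLikeBialgHom (R := R) (A := A)).comp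
      (MonoidAlgebra.mapDomainBialgHom R γ)
  have hΦof : ∀ m, Φ (MonoidAlgebra.of R M₀ m) = gh m := by
    intro m
    change MonoidAlgebra.liftGroupLikeBialgHom
      (MonoidAlgebra.mapDomainBialgHom R γ (MonoidAlgebra.of R M₀ m)) = gh m
    rw [MonoidAlgebra.of_apply, MonoidAlgebra.mapDomainBialgHom_single]
    simp [MonoidAlgebra.liftGroupLikeBialgHom, γ]
  have hsurjI : ∀ a : A, ∃ z : MonoidAlgebra R M₀, a - Φ z ∈ I • (⊤ : Submodule R A) := by
    have key : ∀ w : MonoidAlgebra (R ⧸ I) M₀, ∃ z : MonoidAlgebra R M₀,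
        e₀.symm w = (1 : R ⧸ I) ⊗ₜ[R] Φ z := by
      intro w
      induction w using MonoidAlgebra.induction_on with
      | of m => exact ⟨MonoidAlgebra.of R M₀ m, by rw [hΦof, hgh2]⟩
      | add x y hx hy =>
        obtain ⟨z₁, h₁⟩ := hx
        obtain ⟨z₂, h₂⟩ := hy
        exact ⟨z₁ + z₂, by rw [map_add, map_add, h₁, h₂, TensorProduct.tmul_add]⟩
      | smul r x hx =>
        obtain ⟨z, hz⟩ := hx
        obtain ⟨r, rfl⟩ := Ideal.Quotient.mk_surjective r
        refine ⟨r • z, ?_⟩
        have e1 : e₀.symm (Ideal.Quotient.mk I r • x) =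
            (Ideal.Quotient.mk I r) ⊗ₜ[R] Φ z := by
          rw [map_smul, hz, TensorProduct.smul_tmul', smul_eq_mul, mul_one]
        have e2 : (1 : R ⧸ I) ⊗ₜ[R] Φ (r • z) = (Ideal.Quotient.mk I r) ⊗ₜ[R] Φ z := by
          rw [map_smul, TensorProduct.tmul_smul, TensorProduct.smul_tmul', Algebra.smul_def,
            mul_one, Ideal.Quotient.algebraMap_eq]
        rw [e1, e2]
    intro a
    obtain ⟨z, hz⟩ := key (e₀ ((1 : R ⧸ I) ⊗ₜ[R] a))
    rw [e₀.symm_apply_apply] at hz
    exact ⟨z, mem_smul_top_of_tmul_eq I a (Φ z) hz⟩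
  have hann : ∀ μ : M₀, μ ≠ 1 → ann R (gh μ - 1) ≤ I := by
    intro μ hμ r hr
    rw [mem_ann] at hr
    have h1 : (Ideal.Quotient.mk I r) • ((MonoidAlgebra.of (R ⧸ I) M₀ μ) - 1) = 0 := by
      apply EquivLike.injective e₀.symm
      rw [map_smul, map_sub, map_one, ← hgh2, map_zero]
      have e1 : (1 : (R ⧸ I) ⊗[R] A) = (1 : R ⧸ I) ⊗ₜ[R] (1 : A) := rfl
      rw [e1, ← TensorProduct.tmul_sub, TensorProduct.smul_tmul', smul_eq_mul, mul_one]
      have e2 : (Ideal.Quotient.mk I r) ⊗ₜ[R] (gh μ - 1) =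
          (1 : R ⧸ I) ⊗ₜ[R] (r • (gh μ - 1)) := by
        rw [TensorProduct.tmul_smul, TensorProduct.smul_tmul', Algebra.smul_def, mul_one,
          Ideal.Quotient.algebraMap_eq]
      rw [e2, hr, TensorProduct.tmul_zero]
    have h2 := congrArg (fun z : MonoidAlgebra (R ⧸ I) M₀ => z.coeff μ) h1
    simp only [MonoidAlgebra.coeff_smul_apply, MonoidAlgebra.coeff_sub, Finsupp.sub_apply,
      MonoidAlgebra.coeff_zero, Finsupp.zero_apply] at h2
    rw [MonoidAlgebra.of_apply, MonoidAlgebra.coeff_single, Finsupp.single_eq_same, coeff_one_eq,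
      if_neg hμ, sub_zero, smul_eq_mul, mul_one] at h2
    exact Ideal.Quotient.eq_zero_iff_mem.1 h2
  obtain ⟨s, hs, hsf⟩ := h
  have hcoeff1 : ∀ z : MonoidAlgebra R M₀, Φ z = 0 → z.coeff 1 = 0 := by
    intro z hz
    have h0 := Submodule.mem_of_span_eq_top_of_smul_pow_mem (⊥ : Submodule R R) s hs
      (z.coeff 1) ?_
    · exact (Submodule.mem_bot R).1 h0
    rintro ⟨f, hf⟩
    obtain ⟨P, _, _, _, _, _, N, _, ⟨e⟩⟩ := locDiag_of f (hsf f hf)
    set e' : P ⊗[R] A ≃ₐc[P] MonoidAlgebra P N :=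
      (cancelBaseChangeBialg R (Localization.Away f) P A).symm.trans e with he'
    haveI : Module.Flat R P := Module.Flat.trans R (Localization.Away f) P
    have key : ∀ z : MonoidAlgebra R M₀,
        (e' ((1 : P) ⊗ₜ[R] Φ z)).coeff 1 = algebraMap R P (z.coeff 1) := by
      intro z
      induction z using MonoidAlgebra.induction_on with
      | of m =>
        rw [hΦof]
        by_cases hm : m = 1
        · subst hm
          rw [hone]
          have e1 : ((1 : P) ⊗ₜ[R] (1 : A)) = (1 : P ⊗[R] A) := rfl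
          rw [e1, map_one e', coeff_one_eq, if_pos rfl, map_one (MonoidAlgebra.of R M₀),
            coeff_one_eq, if_pos rfl, map_one (algebraMap R P)]
        · rw [coeff_one_eq_zero_of_ann_le e' I hI (hgh1 m) (hann m hm), MonoidAlgebra.of_apply,
            MonoidAlgebra.coeff_single, Finsupp.single_apply, if_neg hm, map_zero]
      | add x y hx hy =>
        rw [map_add, TensorProduct.tmul_add, map_add, MonoidAlgebra.coeff_add, Finsupp.add_apply,
          hx, hy, MonoidAlgebra.coeff_add, Finsupp.add_apply, map_add]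
      | smul r x hx =>
        rw [map_smul, TensorProduct.tmul_smul, ← algebraMap_smul P r ((1 : P) ⊗ₜ[R] Φ x),
          map_smul, MonoidAlgebra.coeff_smul_apply, hx, MonoidAlgebra.coeff_smul_apply,
          smul_eq_mul, smul_eq_mul, map_mul]
    have h1 := key z
    rw [hz, TensorProduct.tmul_zero, map_zero, MonoidAlgebra.coeff_zero, Finsupp.zero_apply] at h1
    have h2 : (1 : P) ⊗ₜ[R] (z.coeff 1) = 0 := by
      have e1 : (1 : P) ⊗ₜ[R] (z.coeff 1) = (algebraMap R P (z.coeff 1)) ⊗ₜ[R] (1 : R) := by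
        rw [Algebra.algebraMap_eq_smul_one, TensorProduct.smul_tmul, smul_eq_mul, mul_one]
      rw [e1, ← h1, TensorProduct.zero_tmul]
    obtain ⟨n, hn⟩ := exists_pow_smul_eq_zero_of_flat f (P := P) (z.coeff 1) h2
    exact ⟨n, by rw [Submodule.mem_bot]; exact hn⟩
  have hinj : Function.Injective Φ := by
    rw [injective_iff_map_eq_zero]
    intro z hz
    rw [← MonoidAlgebra.coeff_inj]
    ext m₀
    have h1 : Φ (z * MonoidAlgebra.single m₀⁻¹ 1) = 0 := by rw [map_mul, hz, zero_mul]
    have h2 := hcoeff1 _ h1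
    rw [MonoidAlgebra.coeff_mul_single_apply, inv_inv, one_mul, mul_one] at h2
    rw [h2, MonoidAlgebra.coeff_zero, Finsupp.zero_apply]
  have hsurj : Function.Surjective Φ := by
    intro a
    set G : Submodule R A :=
      LinearMap.range ((Φ : MonoidAlgebra R M₀ →ₐ[R] A).toLinearMap) with hG
    have hGmem : ∀ z, Φ z ∈ G := fun z => ⟨z, rfl⟩
    have h0 := Submodule.mem_of_span_eq_top_of_smul_pow_mem G s hs a ?_
    · obtain ⟨z, hz⟩ := h0
      exact ⟨z, hz⟩
    rintro ⟨f, hf⟩
    obtain ⟨P, _, _, _, _, _, N, _, ⟨e⟩⟩ := locDiag_of f (hsf f hf)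
    set e' : P ⊗[R] A ≃ₐc[P] MonoidAlgebra P N :=
      (cancelBaseChangeBialg R (Localization.Away f) P A).symm.trans e with he'
    set J : Ideal P := I.map (algebraMap R P) with hJdef
    have hJ : ∀ x ∈ J, IsNilpotent x := nil_map (algebraMap R P) I hI
    set γP : M₀ → MonoidAlgebra P N := fun m => e' ((1 : P) ⊗ₜ[R] gh m) with hγPdef
    have hγP : ∀ m, IsGroupLikeElem P (γP m) := fun m =>
      (isGroupLikeElem_map_equiv e').2
        (isGroupLikeElem_of_semi (isSemiComul_bcMap (R := R) (R' := P) (A := A))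
          (isSemiCounit_bcMap (k := R) (S := P) (C := A)) (hgh1 m))
    set GP := Submodule.span P (Set.range γP) with hGP
    have hA1 : ∀ z : MonoidAlgebra R M₀, e' ((1 : P) ⊗ₜ[R] Φ z) ∈ GP := by
      intro z
      induction z using MonoidAlgebra.induction_on with
      | of m => rw [hΦof]; exact Submodule.subset_span ⟨m, rfl⟩
      | add x y hx hy => rw [map_add, TensorProduct.tmul_add, map_add]; exact add_mem hx hy
      | smul r x hx =>
        rw [map_smul, TensorProduct.tmul_smul, ← algebraMap_smul P r ((1 : P) ⊗ₜ[R] Φ x),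
          map_smul]
        exact GP.smul_mem _ hx
    have hA : ∀ a : A, e' ((1 : P) ⊗ₜ[R] a) ∈
        GP ⊔ J • (⊤ : Submodule P (MonoidAlgebra P N)) := by
      intro a
      obtain ⟨z, hz⟩ := hsurjI a
      have e1 : e' ((1 : P) ⊗ₜ[R] a) =
          e' ((1 : P) ⊗ₜ[R] Φ z) + e' ((1 : P) ⊗ₜ[R] (a - Φ z)) := by
        rw [← map_add, ← TensorProduct.tmul_add]
        congr 2
        abel
      rw [e1]
      refine Submodule.add_mem_sup (hA1 z) ?_
      have h3 := map_mem_smul_top I (thetaOf e') hz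
      rw [thetaOf_apply] at h3
      exact semi_mem_smul_top I h3
    have hB : ∀ b : MonoidAlgebra P N, b ∈ GP ⊔ J • (⊤ : Submodule P (MonoidAlgebra P N)) := by
      intro b
      rw [← e'.apply_symm_apply b]
      generalize e'.symm b = w
      induction w using TensorProduct.induction_on with
      | zero => rw [map_zero]; exact zero_mem _
      | tmul p a =>
        have e1 : p ⊗ₜ[R] a = p • ((1 : P) ⊗ₜ[R] a) := by
          rw [TensorProduct.smul_tmul', smul_eq_mul, mul_one]
        rw [e1, map_smul]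
        exact Submodule.smul_mem _ _ (hA a)
      | add x y hx hy => rw [map_add]; exact add_mem hx hy
    have htop := span_eq_top_of_nil J hJ γP hγP hB
    set L : MonoidAlgebra P N →ₗ[P] P ⊗[R] (A ⧸ G) :=
      (LinearMap.baseChange P G.mkQ) ∘ₗ e'.symm.toAlgEquiv.toLinearMap with hL
    have hLa : ∀ a : A, L (e' ((1 : P) ⊗ₜ[R] a)) = (1 : P) ⊗ₜ[R] G.mkQ a := by
      intro a
      change LinearMap.baseChange P G.mkQ (e'.symm (e' ((1 : P) ⊗ₜ[R] a))) = _
      rw [e'.symm_apply_apply, LinearMap.baseChange_tmul]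
    have hker : GP ≤ LinearMap.ker L := by
      rw [Submodule.span_le]
      rintro _ ⟨m, rfl⟩
      rw [SetLike.mem_coe, LinearMap.mem_ker, hLa, ← hΦof, Submodule.mkQ_apply,
        (Submodule.Quotient.mk_eq_zero G).2 (hGmem _), TensorProduct.tmul_zero]
    have h5 : (1 : P) ⊗ₜ[R] G.mkQ a = 0 := by
      rw [← hLa]
      exact hker (by rw [hGP, htop]; trivial)
    obtain ⟨n, hn⟩ := exists_pow_smul_eq_zero_of_flat f (P := P) (G.mkQ a) h5
    refine ⟨n, ?_⟩
    rw [← map_smul, Submodule.mkQ_apply, Submodule.Quotient.mk_eq_zero] at hn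
    exact hn
  exact ⟨M₀, inferInstance, ⟨(BialgEquiv.ofBijective Φ ⟨hinj, hsurj⟩).symm⟩⟩

end Groth.Agent.S2970
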