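import Groth.Statements.S19567
import Mathlib.RingTheory.Unramified.Finite
import Mathlib.RingTheory.Localization.Away.Basic
-- import your own Groth.Agent.* helpers here

set_option autoImplicit false
universe u
open Hensel

namespace Groth.Agent.S19567

section aux
variable {A : Type u} [CommRing A] (I : Ideal A)

lemma map_le_ker {A' : Type u} [CommRing A'] [Algebra A A'] (ρ : A' →ₐ[A] A ⧸ I) :
    I.map (algebraMap A A') ≤ RingHom.ker ρ.toRingHom := by
  rw [Ideal.map_le_iff_le_comap]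
  intro a ha
  rw [Ideal.mem_comap, RingHom.mem_ker]
  change ρ (algebraMap A A' a) = 0
  rw [ρ.commutes]
  exact Ideal.Quotient.eq_zero_iff_mem.mpr ha

/-- The property equivalent to bijectivity of `A/I → A'/IA'`. -/
def Good (A' : Type u) [CommRing A'] [Algebra A A'] : Prop :=
  Nonempty (A' →ₐ[A] A ⧸ I) ∧
    ∀ z : A', ∃ a : A, z - algebraMap A A' a ∈ I.map (algebraMap A A')

lemma bij_iff (A' : Type u) [CommRing A'] [Algebra A A'] :
    Function.Bijective (Ideal.quotientMap (I.map (algebraMap A A')) (algebraMap A A')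
      Ideal.le_comap_map) ↔ Good I A' := by
  constructor
  · intro h
    refine ⟨⟨?_⟩, ?_⟩
    · let e := RingEquiv.ofBijective _ h
      refine { toRingHom := (e.symm.toRingHom.comp
          (Ideal.Quotient.mk (I.map (algebraMap A A')))), commutes' := ?_ }
      intro a
      change e.symm (Ideal.Quotient.mk (I.map (algebraMap A A')) (algebraMap A A' a)) =
        Ideal.Quotient.mk I a
      rw [RingEquiv.symm_apply_eq]
      change _ = Ideal.quotientMap (I.map (algebraMap A A')) (algebraMap A A')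
        Ideal.le_comap_map (Ideal.Quotient.mk I a)
      rw [Ideal.quotientMap_mk]
    · intro z
      obtain ⟨x, hx⟩ := h.2 (Ideal.Quotient.mk _ z)
      obtain ⟨a, rfl⟩ := Ideal.Quotient.mk_surjective x
      rw [Ideal.quotientMap_mk] at hx
      exact ⟨a, Ideal.Quotient.eq.mp hx.symm⟩
  · rintro ⟨⟨ρ⟩, hs⟩
    constructor
    · rw [injective_iff_map_eq_zero]
      intro x hx
      obtain ⟨a, rfl⟩ := Ideal.Quotient.mk_surjective x
      rw [Ideal.quotientMap_mk, Ideal.Quotient.eq_zero_iff_mem] at hx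
      have := map_le_ker I ρ hx
      rw [RingHom.mem_ker] at this
      change ρ (algebraMap A A' a) = 0 at this
      rwa [ρ.commutes] at this
    · intro y
      obtain ⟨z, rfl⟩ := Ideal.Quotient.mk_surjective y
      obtain ⟨a, ha⟩ := hs z
      refine ⟨Ideal.Quotient.mk _ a, ?_⟩
      rw [Ideal.quotientMap_mk]
      exact (Ideal.Quotient.eq.mpr ha).symm

variable {I}

lemma Good.ker_le {A' : Type u} [CommRing A'] [Algebra A A'] (h : Good I A')
    (ρ : A' →ₐ[A] A ⧸ I) (z : A') (a : A) (hz : ρ z = Ideal.Quotient.mk I a) :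
    z - algebraMap A A' a ∈ I.map (algebraMap A A') := by
  obtain ⟨b, hb⟩ := h.2 z
  have h1 := map_le_ker I ρ hb
  rw [RingHom.mem_ker] at h1
  change ρ (z - algebraMap A A' b) = 0 at h1
  rw [map_sub, ρ.commutes, hz, sub_eq_zero] at h1
  have h2 : a - b ∈ I := Ideal.Quotient.eq.mp h1
  have h3 : algebraMap A A' (a - b) ∈ I.map (algebraMap A A') := Ideal.mem_map_of_mem _ h2
  have : z - algebraMap A A' a = (z - algebraMap A A' b) - algebraMap A A' (a - b) := by
    rw [map_sub]; ring
  rw [this]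
  exact Ideal.sub_mem _ hb h3

lemma Good.algHom_unique {A' : Type u} [CommRing A'] [Algebra A A'] (h : Good I A')
    (σ τ : A' →ₐ[A] A ⧸ I) : σ = τ := by
  ext z
  obtain ⟨b, hb⟩ := h.2 z
  have h1 := map_le_ker I σ hb
  have h2 := map_le_ker I τ hb
  rw [RingHom.mem_ker] at h1 h2
  change σ (z - algebraMap A A' b) = 0 at h1
  change τ (z - algebraMap A A' b) = 0 at h2
  rw [map_sub, sub_eq_zero, σ.commutes] at h1
  rw [map_sub, sub_eq_zero, τ.commutes] at h2
  rw [h1, h2]

open TensorProduct in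
lemma Good.tensor {A₁ A₂ : Type u} [CommRing A₁] [Algebra A A₁] [CommRing A₂] [Algebra A A₂]
    (h₁ : Good I A₁) (h₂ : Good I A₂) : Good I (A₁ ⊗[A] A₂) := by
  obtain ⟨⟨ρ₁⟩, hs₁⟩ := h₁
  obtain ⟨⟨ρ₂⟩, hs₂⟩ := h₂
  refine ⟨⟨Algebra.TensorProduct.lift ρ₁ ρ₂ (fun _ _ => Commute.all _ _)⟩, ?_⟩
  have hL : ∀ x ∈ I.map (algebraMap A A₁), ∀ b : A₂,
      x ⊗ₜ[A] b ∈ I.map (algebraMap A (A₁ ⊗[A] A₂)) := by
    intro x hx b
    have : (Algebra.TensorProduct.includeLeft : A₁ →ₐ[A] A₁ ⊗[A] A₂).toRingHom x ∈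
        (I.map (algebraMap A A₁)).map
          (Algebra.TensorProduct.includeLeft : A₁ →ₐ[A] A₁ ⊗[A] A₂).toRingHom :=
      Ideal.mem_map_of_mem _ hx
    rw [Ideal.map_map] at this
    have hc : (Algebra.TensorProduct.includeLeft : A₁ →ₐ[A] A₁ ⊗[A] A₂).toRingHom.comp
        (algebraMap A A₁) = algebraMap A (A₁ ⊗[A] A₂) :=
      (Algebra.TensorProduct.includeLeft : A₁ →ₐ[A] A₁ ⊗[A] A₂).comp_algebraMap
    rw [hc] at this
    have h2 := Ideal.mul_mem_right ((1 : A₁) ⊗ₜ[A] b) _ this
    simpa using h2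
  have hR : ∀ y ∈ I.map (algebraMap A A₂), ∀ a : A₁,
      a ⊗ₜ[A] y ∈ I.map (algebraMap A (A₁ ⊗[A] A₂)) := by
    intro y hy a
    have : (Algebra.TensorProduct.includeRight : A₂ →ₐ[A] A₁ ⊗[A] A₂).toRingHom y ∈
        (I.map (algebraMap A A₂)).map
          (Algebra.TensorProduct.includeRight : A₂ →ₐ[A] A₁ ⊗[A] A₂).toRingHom :=
      Ideal.mem_map_of_mem _ hy
    rw [Ideal.map_map] at this
    have hc : (Algebra.TensorProduct.includeRight : A₂ →ₐ[A] A₁ ⊗[A] A₂).toRingHom.comp
        (algebraMap A A₂) = algebraMap A (A₁ ⊗[A] A₂) :=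
      (Algebra.TensorProduct.includeRight : A₂ →ₐ[A] A₁ ⊗[A] A₂).comp_algebraMap
    rw [hc] at this
    have h2 := Ideal.mul_mem_left _ (a ⊗ₜ[A] (1 : A₂)) this
    simpa using h2
  intro z
  induction z using TensorProduct.induction_on with
  | zero => exact ⟨0, by simp⟩
  | tmul a b =>
    obtain ⟨α, hα⟩ := hs₁ a
    obtain ⟨β, hβ⟩ := hs₂ b
    refine ⟨α * β, ?_⟩
    have e : a ⊗ₜ[A] b - algebraMap A (A₁ ⊗[A] A₂) (α * β) =
        (a - algebraMap A A₁ α) ⊗ₜ[A] b + (algebraMap A A₁ α) ⊗ₜ[A] (b - algebraMap A A₂ β) := by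
      rw [TensorProduct.sub_tmul, TensorProduct.tmul_sub, Algebra.TensorProduct.algebraMap_apply,
        map_mul]
      have : (algebraMap A A₁ α) ⊗ₜ[A] (algebraMap A A₂ β) =
          (algebraMap A A₁ α * algebraMap A A₁ β) ⊗ₜ[A] (1 : A₂) := by
        rw [Algebra.algebraMap_eq_smul_one β, TensorProduct.tmul_smul, TensorProduct.smul_tmul',
          Algebra.smul_def, mul_comm]
      rw [this]
      abel
    rw [e]
    exact Ideal.add_mem _ (hL _ hα _) (hR _ hβ _)
  | add x y hx hy =>
    obtain ⟨a, ha⟩ := hx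
    obtain ⟨b, hb⟩ := hy
    refine ⟨a + b, ?_⟩
    have : x + y - algebraMap A (A₁ ⊗[A] A₂) (a + b) =
        (x - algebraMap A (A₁ ⊗[A] A₂) a) + (y - algebraMap A (A₁ ⊗[A] A₂) b) := by
      rw [map_add]; abel
    rw [this]
    exact Ideal.add_mem _ ha hb

lemma Good.away {A₂ : Type u} [CommRing A₂] [Algebra A A₂] (h₂ : Good I A₂)
    (ρ₂ : A₂ →ₐ[A] A ⧸ I) (e : A₂) (he : ρ₂ e = 1) : Good I (Localization.Away e) := by
  have hu : IsUnit (ρ₂ e) := by rw [he]; exact isUnit_one
  refine ⟨⟨IsLocalization.Away.liftAlgHom (S := Localization.Away e) e (f := ρ₂) hu⟩, ?_⟩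
  -- `e - 1 ∈ I A₂`
  have he1 : e - algebraMap A A₂ 1 ∈ I.map (algebraMap A A₂) :=
    h₂.ker_le ρ₂ e 1 (by rw [he, map_one])
  rw [map_one] at he1
  have hmap : ∀ x ∈ I.map (algebraMap A A₂),
      algebraMap A₂ (Localization.Away e) x ∈ I.map (algebraMap A (Localization.Away e)) := by
    intro x hx
    have := Ideal.mem_map_of_mem (algebraMap A₂ (Localization.Away e)) hx
    rwa [Ideal.map_map, ← IsScalarTower.algebraMap_eq] at this
  have hen : ∀ n : ℕ, e ^ n - 1 ∈ I.map (algebraMap A A₂) := by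
    intro n
    induction n with
    | zero => simp
    | succ n ih =>
      have : e ^ (n + 1) - 1 = e ^ n * (e - 1) + (e ^ n - 1) := by ring
      rw [this]
      exact Ideal.add_mem _ (Ideal.mul_mem_left _ _ he1) ih
  intro z
  obtain ⟨n, b, hz⟩ := IsLocalization.Away.surj e z
  obtain ⟨β, hβ⟩ := h₂.2 b
  refine ⟨β, ?_⟩
  have e1 : z - algebraMap A (Localization.Away e) β =
      algebraMap A₂ (Localization.Away e) (b - algebraMap A A₂ β) -
        z * algebraMap A₂ (Localization.Away e) (e ^ n - 1) := by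
    rw [map_sub, map_sub, map_one, map_pow, ← hz, ← IsScalarTower.algebraMap_apply]
    ring
  rw [e1]
  exact Ideal.sub_mem _ (hmap _ hβ) (Ideal.mul_mem_left _ _ (hmap _ (hen n)))

end aux

/-- Let A be a ring and I an ideal of A, and consider étale A-algebras A' for which the induced map A/I
→ A'/IA' is bijective. (1) For any two such algebras A₁ and A₂ there is a third such algebra A₃
admitting A-algebra maps from both. (2) For any two A-algebra maps f, g : A₁ → A₂ between such
algebras there are such an algebra A₃ and an A-algebra map h : A₂ → A₃ with h ∘ f = h ∘ g. (All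
algebras are taken in the universe of A. Since A itself is such an algebra, (1) and (2) say that the
category of these algebras and A-algebra maps is filtered.) -/
theorem result (A : Type u) [CommRing A] (I : Ideal A) :
    (∀ (A₁ A₂ : Type u) [CommRing A₁] [Algebra A A₁] [Algebra.Etale A A₁] [CommRing A₂] [Algebra A A₂]
        [Algebra.Etale A A₂],
        Function.Bijective (Ideal.quotientMap (I.map (algebraMap A A₁)) (algebraMap A A₁) Ideal.le_comap_map) →
        Function.Bijective (Ideal.quotientMap (I.map (algebraMap A A₂)) (algebraMap A A₂) Ideal.le_comap_map) →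
          ∃ (A₃ : Type u) (_ : CommRing A₃) (_ : Algebra A A₃) (_ : Algebra.Etale A A₃),
            Function.Bijective (Ideal.quotientMap (I.map (algebraMap A A₃)) (algebraMap A A₃) Ideal.le_comap_map) ∧
              Nonempty (A₁ →ₐ[A] A₃) ∧ Nonempty (A₂ →ₐ[A] A₃)) ∧
    (∀ (A₁ A₂ : Type u) [CommRing A₁] [Algebra A A₁] [Algebra.Etale A A₁] [CommRing A₂] [Algebra A A₂]
        [Algebra.Etale A A₂],
        Function.Bijective (Ideal.quotientMap (I.map (algebraMap A A₁)) (algebraMap A A₁) Ideal.le_comap_map) →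
        Function.Bijective (Ideal.quotientMap (I.map (algebraMap A A₂)) (algebraMap A A₂) Ideal.le_comap_map) →
          ∀ (f g : A₁ →ₐ[A] A₂),
            ∃ (A₃ : Type u) (_ : CommRing A₃) (_ : Algebra A A₃) (_ : Algebra.Etale A A₃),
              Function.Bijective (Ideal.quotientMap (I.map (algebraMap A A₃)) (algebraMap A A₃) Ideal.le_comap_map) ∧
                ∃ h : A₂ →ₐ[A] A₃, h.comp f = h.comp g) := by
  open TensorProduct in
  constructor
  · intro A₁ A₂ _ _ _ _ _ _ h₁ h₂
    rw [bij_iff] at h₁ h₂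
    have : Algebra.Etale A (A₁ ⊗[A] A₂) := Algebra.Etale.comp A A₁ (A₁ ⊗[A] A₂)
    refine ⟨A₁ ⊗[A] A₂, inferInstance, inferInstance, this, ?_, ⟨Algebra.TensorProduct.includeLeft⟩,
      ⟨Algebra.TensorProduct.includeRight⟩⟩
    rw [bij_iff]
    exact h₁.tensor h₂
  · intro A₁ A₂ _ _ _ _ _ _ h₁ h₂ f g
    rw [bij_iff] at h₁ h₂
    obtain ⟨t, ht₁, ht₂⟩ := (Algebra.FormallyUnramified.iff_exists_tensorProduct
      (R := A) (S := A₁)).mp inferInstance
    let H : A₁ ⊗[A] A₁ →ₐ[A] A₂ := Algebra.TensorProduct.lift f g (fun _ _ => Commute.all _ _)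
    let e : A₂ := H t
    have he : ∀ s : A₁, (g s - f s) * e = 0 := by
      intro s
      have := congrArg H (ht₁ s)
      simpa [H, e] using this
    obtain ⟨ρ₂⟩ := h₂.1
    have hfg : ρ₂.comp f = ρ₂.comp g := h₁.algHom_unique _ _
    have hgH : ρ₂.comp H = (ρ₂.comp f).comp (Algebra.TensorProduct.lmul' A) := by
      apply Algebra.TensorProduct.ext'
      intro a b
      have h1 : ρ₂ (g b) = ρ₂ (f b) := (congrArg (fun φ : A₁ →ₐ[A] A ⧸ I => φ b) hfg).symm
      simp [H, h1]
    have hge : ρ₂ e = 1 := by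
      have := congrArg (fun φ : A₁ ⊗[A] A₁ →ₐ[A] A ⧸ I => φ t) hgH
      simpa [e, ht₂] using this
    refine ⟨Localization.Away e, inferInstance, inferInstance, inferInstance, ?_,
      IsScalarTower.toAlgHom A A₂ (Localization.Away e), ?_⟩
    · rw [bij_iff]
      exact h₂.away ρ₂ e hge
    · ext s
      change algebraMap A₂ (Localization.Away e) (f s) = algebraMap A₂ (Localization.Away e) (g s)
      have hu : IsUnit (algebraMap A₂ (Localization.Away e) e) :=
        IsLocalization.Away.algebraMap_isUnit e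
      have := congrArg (algebraMap A₂ (Localization.Away e)) (he s)
      rw [map_mul, map_zero, map_sub] at this
      have h0 := (hu.mul_left_eq_zero).mp this
      exact (sub_eq_zero.mp h0).symm

end Groth.Agent.S19567
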