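import Groth.Statements.S2041
import Groth.Agent.Lib.Helper90.EtaleNbhdIntIdem
-- import your own Groth.Agent.* helpers here

set_option autoImplicit false
universe u
open CAlg

namespace Groth.Agent.S2041

open TensorProduct in
/-- Let `I ⊆ A` be an ideal, `A → B` integral and `ē` an idempotent of `B/IB`. Then there is an étale
`A`-algebra `A'` with `A/I → A'/IA'` bijective and an idempotent of `A' ⊗ B` whose class modulo `I`
agrees with that of any lift of `ē`. -/
theorem result {A B : Type u} [CommRing A] [CommRing B] [Algebra A B]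
    [Algebra.IsIntegral A B] (I : Ideal A) (e : B ⧸ I.map (algebraMap A B)) (he : IsIdempotentElem e) :
    ∃ (A' : Type u) (_ : CommRing A') (_ : Algebra A A'), Algebra.Etale A A' ∧
      Function.Bijective (algebraMap (A ⧸ I) (A' ⧸ I.map (algebraMap A A'))) ∧
      ∃ e' : A' ⊗[A] B, IsIdempotentElem e' ∧
        ∀ b : B, Ideal.Quotient.mk (I.map (algebraMap A B)) b = e →
          e' - 1 ⊗ₜ b ∈ I.map (algebraMap A (A' ⊗[A] B)) := by
  classical
  obtain ⟨b₀, hb₀⟩ := Ideal.Quotient.mk_surjective e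
  have hb : b₀ * b₀ - b₀ ∈ I.map (algebraMap A B) := by
    rw [← Ideal.Quotient.eq_zero_iff_mem, map_sub, map_mul, hb₀, he.eq, sub_self]
  obtain ⟨d, f, hf, hfb, hfmap⟩ :=
    Groth.Agent.Lib.Helper37.exists_monic_aeval_eq_zero_of_sq_sub_mem I b₀ hb
  have hX1 : (Polynomial.X - 1 : Polynomial (A ⧸ I)).Monic := by
    have := Polynomial.monic_X_sub_C (1 : A ⧸ I)
    rwa [Polynomial.C_1] at this
  have hcop : IsCoprime ((Polynomial.X : Polynomial (A ⧸ I)) ^ (d + 1))
      ((Polynomial.X - 1) ^ (d + 1)) := by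
    apply IsCoprime.pow
    exact ⟨1, -1, by ring⟩
  obtain ⟨A', _, _, hA', hbij, g', h', hg'm, hh'm, hcop', hfgh, hg', hh'⟩ :=
    Groth.Agent.Lib.Helper90.EtaleNbhd.exists_etale_lift_coprime_monic_factorization I f hf _ _
      (Polynomial.monic_X_pow _) (hX1.pow _) hcop hfmap
  refine ⟨A', inferInstance, inferInstance, hA', hbij, ?_⟩
  set c : A' ⊗[A] B := 1 ⊗ₜ b₀ with hc
  have hFc : Polynomial.aeval c (g' * h') = 0 := by
    rw [← hfgh, Polynomial.aeval_map_algebraMap]
    have : c = (Algebra.TensorProduct.includeRight : B →ₐ[A] A' ⊗[A] B) b₀ := rfl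
    rw [this, Polynomial.aeval_algHom_apply, hfb, map_zero]
  have hJ : (I.map (algebraMap A A')).map (algebraMap A' (A' ⊗[A] B)) =
      I.map (algebraMap A (A' ⊗[A] B)) := by
    rw [Ideal.map_map, ← IsScalarTower.algebraMap_eq]
  have hincl : ∀ z ∈ I.map (algebraMap A B),
      (1 : A') ⊗ₜ[A] z ∈ I.map (algebraMap A (A' ⊗[A] B)) := by
    intro z hz
    have h1 : (I.map (algebraMap A B)).map
        (Algebra.TensorProduct.includeRight : B →ₐ[A] A' ⊗[A] B).toRingHom =
        I.map (algebraMap A (A' ⊗[A] B)) := by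
      rw [Ideal.map_map]
      congr 1
      exact (Algebra.TensorProduct.includeRight : B →ₐ[A] A' ⊗[A] B).comp_algebraMap
    rw [← h1]
    exact Ideal.mem_map_of_mem _ hz
  have hg'' : g'.map (Ideal.Quotient.mk (I.map (algebraMap A A'))) = Polynomial.X ^ (d + 1) := by
    rw [hg', Polynomial.map_pow, Polynomial.map_X]
  have hh'' : h'.map (Ideal.Quotient.mk (I.map (algebraMap A A'))) =
      (Polynomial.X - 1) ^ (d + 1) := by
    rw [hh', Polynomial.map_pow, Polynomial.map_sub, Polynomial.map_X, Polynomial.map_one]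
  have hcc : c * c - c ∈ (I.map (algebraMap A A')).map (algebraMap A' (A' ⊗[A] B)) := by
    rw [hJ]
    have : c * c - c = (1 : A') ⊗ₜ[A] (b₀ * b₀ - b₀) := by
      rw [hc, TensorProduct.tmul_sub, Algebra.TensorProduct.tmul_mul_tmul, mul_one]
    rw [this]
    exact hincl _ hb
  obtain ⟨x, hx, hxc⟩ :=
    Groth.Agent.Lib.Helper90.EtaleNbhd.exists_idempotent_of_coprime_factorization
      (I.map (algebraMap A A')) c d g' h' hFc hcop' hg'' hh'' hcc
  rw [hJ] at hxc
  refine ⟨x, hx, fun b hbe => ?_⟩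
  have hbb : b - b₀ ∈ I.map (algebraMap A B) := by
    rw [← Ideal.Quotient.eq_zero_iff_mem, map_sub, hbe, hb₀, sub_self]
  have : x - 1 ⊗ₜ[A] b = (x - c) - (1 : A') ⊗ₜ[A] (b - b₀) := by
    rw [hc, TensorProduct.tmul_sub]; ring
  rw [this]
  exact Ideal.sub_mem _ hxc (hincl _ hbb)

end Groth.Agent.S2041
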