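import Groth.Statements.S0532
import Groth.Agent.Lib.Helper90.QFNbhdHens
import Groth.Agent.Lib.Helper90.PairHzTower
import Groth.Agent.Lib.Helper90.EtLiftQuot
-- import your own Groth.Agent.* helpers here

set_option autoImplicit false
universe u
open Hensel

namespace Groth.Agent.S0532

/-- If `A` is Henselian at `I`, every finite étale `A/I`-algebra is the base change of a finite étale
`A`-algebra. -/
theorem result (A : Type u) [CommRing A] (I : Ideal A) [HenselianRing A I]
    (C : Type u) [CommRing C] [Algebra (A ⧸ I) C] [Module.Finite (A ⧸ I) C] [Algebra.Etale (A ⧸ I) C] :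
    ∃ (B : Type u) (_ : CommRing B) (_ : Algebra A B), Module.Finite A B ∧ Algebra.Etale A B ∧
      Nonempty (TensorProduct A (A ⧸ I) B ≃ₐ[A ⧸ I] C) := by
  classical
  obtain ⟨R, _, _, hRet, ⟨e₀⟩⟩ :=
    Groth.Agent.Lib.Helper90.EtLiftQuot.exists_etale_lift_of_surjective (A₀ := A) (A := A ⧸ I)
      (C := C) Ideal.Quotient.mk_surjective
  let e₁ := Algebra.TensorProduct.quotIdealMapEquivQuotTensor R I
  have hfinR' : Module.Finite (A ⧸ I) (R ⧸ I.map (algebraMap A R)) :=
    Module.Finite.equiv (e₁.trans e₀).symm.toLinearEquiv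
  have hfinR : Module.Finite A (R ⧸ I.map (algebraMap A R)) := Module.Finite.trans (A ⧸ I) _
  have : Algebra.FiniteType A R := inferInstance
  obtain ⟨B, _, _, _, _, hEt, hFin, hQB⟩ :=
    Groth.Agent.Lib.Helper90.QFNbhd.exists_finite_good_of_henselian I (R := R) hfinR
  obtain ⟨e₂⟩ := Groth.Agent.Lib.Helper90.PairHz.nonempty_algEquiv_quotient_of_quotBij
    (A := A) (R := R) (B := B) I hQB
  let e₃ := Algebra.TensorProduct.quotIdealMapEquivQuotTensor B I
  exact ⟨B, inferInstance, inferInstance, hFin, Algebra.Etale.comp A R B,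
    ⟨e₃.symm.trans (e₂.symm.trans (e₁.trans e₀))⟩⟩

end Groth.Agent.S0532
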