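import Groth.Statements.S13136
import Mathlib
-- import your own Groth.Agent.* helpers here

set_option autoImplicit false
universe u v
open FrobAlg

namespace Groth.Agent.S13136


open TensorProduct in
theorem flat_iff_of_sq_zero {W : Type*} [CommRing W] (π : W) (hπ2 : π * π = 0)
    (hunit : ∀ x : W, IsUnit x ∨ ∃ y, x = π * y)
    (hann : ∀ x : W, x * π = 0 → ∃ y, x = π * y)
    (M : Type*) [AddCommGroup M] [Module W M] :
    Module.Flat W M ↔ ∀ m : M, π • m = 0 → ∃ m' : M, m = π • m' := by
  constructor
  · intro hflat m hm
    have hrel : ∑ i : Fin 1, (fun _ => π : Fin 1 → W) i • (fun _ => m : Fin 1 → M) i = 0 := by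
      simpa using hm
    obtain ⟨k, a, y, h1, h2⟩ := Module.Flat.isTrivialRelation_of_sum_smul_eq_zero hrel
    have h2' : ∀ j, a 0 j * π = 0 := by
      intro j
      have := h2 j
      simp only [Finset.univ_unique, Fin.default_eq_zero, Finset.sum_singleton] at this
      rw [mul_comm]; exact this
    choose b hb using fun j => hann (a 0 j) (h2' j)
    refine ⟨∑ j, b j • y j, ?_⟩
    rw [show m = _ from h1 0, Finset.smul_sum]
    refine Finset.sum_congr rfl fun j _ => ?_
    rw [hb j, mul_smul]
  · intro hcond
    -- classification of ideals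
    have hideal : ∀ I : Ideal W, I = ⊥ ∨ I = ⊤ ∨ I = Ideal.span {π} := by
      intro I
      by_cases hI : I = ⊥
      · exact Or.inl hI
      by_cases hu : ∃ x ∈ I, IsUnit x
      · obtain ⟨x, hx, hxu⟩ := hu
        exact Or.inr (Or.inl (Ideal.eq_top_of_isUnit_mem _ hx hxu))
      · push_neg at hu
        refine Or.inr (Or.inr (le_antisymm ?_ ?_))
        · intro x hx
          rcases hunit x with h | ⟨y, rfl⟩
          · exact absurd h (hu x hx)
          · exact Ideal.mul_mem_right _ _ (Ideal.subset_span rfl)
        · obtain ⟨x, hx, hx0⟩ := Submodule.exists_mem_ne_zero_of_ne_bot hI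
          rcases hunit x with h | ⟨y, rfl⟩
          · exact absurd h (hu x hx)
          · rcases hunit y with hy | ⟨z, rfl⟩
            · rw [Ideal.span_singleton_le_iff_mem]
              obtain ⟨y', hy'⟩ := hy.exists_right_inv
              have : π = π * y * y' := by rw [mul_assoc, hy', mul_one]
              rw [this]
              exact Ideal.mul_mem_right _ _ hx
            · exact absurd (by rw [← mul_assoc, hπ2, zero_mul]) hx0
    rw [Module.Flat.iff_rTensor_injective']
    intro I
    rcases hideal I with rfl | rfl | rfl
    · intro a b _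
      have : Subsingleton ((⊥ : Ideal W) ⊗[W] M) := by
        refine ⟨fun a b => ?_⟩
        have h0 : ∀ z : (⊥ : Ideal W) ⊗[W] M, z = 0 := by
          intro z
          induction z using TensorProduct.induction_on with
          | zero => rfl
          | tmul x y =>
            have : x = 0 := Subsingleton.elim _ _
            rw [this, TensorProduct.zero_tmul]
          | add x y hx hy => rw [hx, hy, add_zero]
        rw [h0 a, h0 b]
      exact Subsingleton.elim _ _
    · have : Function.Injective (LinearMap.rTensor M (Submodule.topEquiv (R := W) (M := W)).toLinearMap) :=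
        (LinearEquiv.rTensor M (Submodule.topEquiv (R := W) (M := W))).injective
      exact this
    · rw [injective_iff_map_eq_zero]
      intro z hz
      -- z = ⟨π, _⟩ ⊗ m
      have hπmem : π ∈ Ideal.span ({π} : Set W) := Ideal.subset_span rfl
      have hform : ∀ z : (Ideal.span ({π} : Set W)) ⊗[W] M,
          ∃ m : M, z = (⟨π, hπmem⟩ : Ideal.span ({π} : Set W)) ⊗ₜ[W] m := by
        intro z
        induction z using TensorProduct.induction_on with
        | zero => exact ⟨0, by rw [TensorProduct.tmul_zero]⟩
        | tmul x y =>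
          obtain ⟨x, hx⟩ := x
          obtain ⟨c, rfl⟩ := Ideal.mem_span_singleton'.mp hx
          refine ⟨c • y, ?_⟩
          rw [← TensorProduct.smul_tmul]
          congr 1
        | add x y hx hy =>
          obtain ⟨m1, rfl⟩ := hx
          obtain ⟨m2, rfl⟩ := hy
          exact ⟨m1 + m2, by rw [TensorProduct.tmul_add]⟩
      obtain ⟨m, rfl⟩ := hform z
      have h3 : π • m = 0 := by
        have := congrArg (TensorProduct.lid W M) hz
        simpa using this
      obtain ⟨m', rfl⟩ := hcond m h3
      rw [← TensorProduct.smul_tmul]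
      have : π • (⟨π, hπmem⟩ : Ideal.span ({π} : Set W)) = 0 := by
        apply Subtype.ext
        simp [hπ2]
      rw [this, TensorProduct.zero_tmul]

section witt
variable (p : ℕ) [Fact p.Prime] (k : Type u) [Field k] [CharP k p] [PerfectRing k p]

theorem w2_p_sq : ((p : ℕ) : TruncatedWittVector p 2 k) * ((p : ℕ) : TruncatedWittVector p 2 k) = 0 := by
  have h : ((p : ℕ) : TruncatedWittVector p 2 k) = WittVector.truncate 2 ((p : ℕ) : WittVector p k) := by
    rw [map_natCast]
  rw [h, ← map_mul, ← sq]
  apply TruncatedWittVector.ext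
  intro i
  rw [WittVector.coeff_truncate, TruncatedWittVector.coeff_zero]
  apply WittVector.coeff_p_pow_eq_zero
  have := i.2
  omega

theorem w2_p_ne_zero : ((p : ℕ) : TruncatedWittVector p 2 k) ≠ 0 := by
  have h : ((p : ℕ) : TruncatedWittVector p 2 k) = WittVector.truncate 2 ((p : ℕ) : WittVector p k) := by
    rw [map_natCast]
  rw [h]
  intro h0
  have := congrArg (fun x => TruncatedWittVector.coeff (1 : Fin 2) x) h0
  simp only [WittVector.coeff_truncate, TruncatedWittVector.coeff_zero] at this
  rw [show ((1 : Fin 2) : ℕ) = 1 from rfl, WittVector.coeff_p_one] at this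
  exact one_ne_zero this

theorem w2_unit (x : TruncatedWittVector p 2 k) (hx : x.coeff 0 ≠ 0) : IsUnit x := by
  obtain ⟨X, rfl⟩ := WittVector.truncate_surjective p 2 k x
  rw [WittVector.coeff_truncate] at hx
  exact (WittVector.isUnit_of_coeff_zero_ne_zero X hx).map (WittVector.truncate 2)

theorem w2_mul_p (x : TruncatedWittVector p 2 k) (hx : x.coeff 0 = 0) :
    ∃ y, x = ((p : ℕ) : TruncatedWittVector p 2 k) * y := by
  obtain ⟨d, hd⟩ := surjective_frobenius k p (x.coeff 1)
  refine ⟨WittVector.truncate 2 (WittVector.teichmuller p d), ?_⟩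
  have h : ((p : ℕ) : TruncatedWittVector p 2 k) = WittVector.truncate 2 ((p : ℕ) : WittVector p k) := by
    rw [map_natCast]
  rw [h, ← map_mul, mul_comm]
  apply TruncatedWittVector.ext
  intro i
  rw [WittVector.coeff_truncate]
  fin_cases i
  · change x.coeff 0 = (WittVector.teichmuller p d * (p : WittVector p k)).coeff 0
    rw [hx]
    exact (WittVector.mul_charP_coeff_zero _).symm
  · change x.coeff 1 = (WittVector.teichmuller p d * (p : WittVector p k)).coeff (0 + 1)
    rw [WittVector.mul_charP_coeff_succ, WittVector.teichmuller_coeff_zero, ← hd, frobenius_def]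

end witt

/-- For a perfect field k of characteristic p, a module M over the Witt vectors W₂(k) of length two is
flat if and only if every element of M annihilated by p lies in pM, i.e. the map M/pM → pM, m ↦ pm,
is injective. -/
theorem result
    (p : ℕ) [Fact p.Prime] (k : Type u) [Field k] [CharP k p] [PerfectRing k p]
    (M : Type v) [AddCommGroup M] [Module (FrobAlg.W2 p k) M] :
    Module.Flat (FrobAlg.W2 p k) M ↔
      ∀ m : M, (p : FrobAlg.W2 p k) • m = 0 → ∃ m' : M, m = (p : FrobAlg.W2 p k) • m' := by
  apply flat_iff_of_sq_zero (W := TruncatedWittVector p 2 k) ((p : ℕ) : TruncatedWittVector p 2 k)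
    (w2_p_sq p k)
  · intro x
    by_cases hx : x.coeff 0 = 0
    · exact Or.inr (w2_mul_p p k x hx)
    · exact Or.inl (w2_unit p k x hx)
  · intro x hx
    apply w2_mul_p p k x
    by_contra h0
    have hu := w2_unit p k x h0
    exact w2_p_ne_zero p k (hu.mul_right_eq_zero.mp hx)

end Groth.Agent.S13136
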