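import Groth.Statements.S11268
-- import your own Groth.Agent.* helpers here

set_option autoImplicit false
open W4bk4grassmannian

namespace Groth.Agent.S11268

theorem val_le_of_strictMono {d n : ℕ} (a : Fin d → Fin n) (ha : StrictMono a) :
    ∀ (k : ℕ) (hk : k < d), k ≤ (a ⟨k, hk⟩).val := by
  intro k
  induction k with
  | zero => intro _; exact Nat.zero_le _
  | succ k ih =>
    intro hk
    have h1 := ih (Nat.lt_of_succ_lt hk)
    have h2 : a ⟨k, Nat.lt_of_succ_lt hk⟩ < a ⟨k + 1, hk⟩ := ha (by simp [Fin.lt_def])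
    have h3 : (a ⟨k, Nat.lt_of_succ_lt hk⟩).val < (a ⟨k + 1, hk⟩).val := h2
    omega

open W4bk4grassmannian in
/-- Let τ < w in I(d,n), the strictly increasing maps Fin d → Fin n ordered entrywise. Then there is a
Schubert divisor φ of w, i.e. φ < w with Σ_t (φ_t - t) + 1 = Σ_t (w_t - t), such that τ ≤ φ: every
proper Schubert subvariety of X(w) lies in a Schubert divisor of X(w). -/
theorem result (d n : ℕ) (τ w : Idx d n) (h : τ < w) :
    ∃ φ ∈ divisors w, τ ≤ φ := by
  classical
  have hle : ∀ t, τ.1 t ≤ w.1 t := fun t => h.le t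
  have hex : ∃ t, τ.1 t < w.1 t := by
    by_contra hcon
    push Not at hcon
    exact h.not_ge (fun t => hcon t)
  -- minimal position where they differ
  let S : Finset (Fin d) := Finset.univ.filter (fun t => τ.1 t < w.1 t)
  have hS : S.Nonempty := by
    obtain ⟨t, ht⟩ := hex
    exact ⟨t, by simp [S, ht]⟩
  set t₀ := S.min' hS with ht₀
  have ht₀S : τ.1 t₀ < w.1 t₀ := by
    have := Finset.min'_mem S hS
    simpa [S] using this
  have hmin : ∀ s, s < t₀ → τ.1 s = w.1 s := by
    intro s hs
    by_contra hne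
    have hlt : τ.1 s < w.1 s := lt_of_le_of_ne (hle s) hne
    have hsS : s ∈ S := by simp [S, hlt]
    exact absurd (Finset.min'_le S s hsS) (not_le.mpr hs)
  have hτt₀ : (τ.1 t₀).val < (w.1 t₀).val := ht₀S
  have hτge : t₀.val ≤ (τ.1 t₀).val := val_le_of_strictMono τ.1 τ.2 t₀.val t₀.isLt
  -- the divisor
  let f : Fin d → Fin n := fun s =>
    if s = t₀ then ⟨(w.1 t₀).val - 1, by have := (w.1 t₀).isLt; omega⟩ else w.1 s
  have hf₀ : (f t₀).val = (w.1 t₀).val - 1 := by simp [f]
  have hfne : ∀ s, s ≠ t₀ → f s = w.1 s := by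
    intro s hs
    simp [f, hs]
  have hfmono : StrictMono f := by
    intro a b hab
    by_cases ha : a = t₀
    · have hb : b ≠ t₀ := by
        intro hb
        rw [ha, hb] at hab
        exact lt_irrefl _ hab
      rw [hfne b hb, Fin.lt_def, ha, hf₀]
      have h1 : (w.1 t₀).val < (w.1 b).val := w.2 (ha ▸ hab)
      omega
    · by_cases hb : b = t₀
      · rw [hfne a ha, Fin.lt_def, hb, hf₀]
        have hat : a < t₀ := hb ▸ hab
        have h1 : τ.1 a = w.1 a := hmin a hat
        have h2 : (τ.1 a).val < (τ.1 t₀).val := τ.2 hat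
        rw [← h1]
        omega
      · rw [hfne a ha, hfne b hb]
        exact w.2 hab
  refine ⟨⟨f, hfmono⟩, ⟨?_, ?_⟩, ?_⟩
  · -- φ < w
    refine lt_of_le_of_ne ?_ ?_
    · intro s
      by_cases hs : s = t₀
      · show f s ≤ w.1 s
        rw [hs, Fin.le_def, hf₀]
        omega
      · show f s ≤ w.1 s
        rw [hfne s hs]
    · intro heq
      have : f t₀ = w.1 t₀ := congrFun (congrArg Subtype.val heq) t₀
      have := congrArg Fin.val this
      rw [hf₀] at this
      omega
  · -- codeg
    show codeg (⟨f, hfmono⟩ : Idx d n) + 1 = codeg w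
    unfold codeg
    rw [← Finset.add_sum_erase _ _ (Finset.mem_univ t₀), ← Finset.add_sum_erase _ _ (Finset.mem_univ t₀)]
    have hrest : ∑ x ∈ Finset.univ.erase t₀, ((f x).val - x.val) =
        ∑ x ∈ Finset.univ.erase t₀, ((w.1 x).val - x.val) := by
      refine Finset.sum_congr rfl fun x hx => ?_
      rw [hfne x (Finset.ne_of_mem_erase hx)]
    show ((f t₀).val - t₀.val) + ∑ x ∈ Finset.univ.erase t₀, ((f x).val - x.val) + 1 = _
    rw [hrest, hf₀]
    omega
  · intro s
    by_cases hs : s = t₀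
    · show τ.1 s ≤ f s
      rw [hs, Fin.le_def, hf₀]
      omega
    · show τ.1 s ≤ f s
      rw [hfne s hs]
      exact hle s

end Groth.Agent.S11268
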