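import Groth.Statements.S6891
import Groth.Agent.Lib.Helper45.FittingIndep
-- import your own Groth.Agent.* helpers here

set_option autoImplicit false
universe u
open Fitt

namespace Groth.Agent.S6891

open Groth.Agent.Lib.Helper45 Groth.Agent.Lib.Helper45.Fitting

/-- determinant trick: if all rows of `a` are relations among `x`, then `det a` kills every `x j`. -/
lemma det_smul_eq_zero {R : Type u} [CommRing R] {M : Type*} [AddCommGroup M] [Module R M] {n : ℕ}
    (x : Fin n → M) (a : Matrix (Fin n) (Fin n) R) (ha : ∀ i, ∑ l, a i l • x l = 0) (j : Fin n) :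
    a.det • x j = 0 := by
  classical
  have h1 : a.det • x j = ∑ l, (a.det • (1 : Matrix (Fin n) (Fin n) R)) j l • x l := by
    simp [Matrix.smul_apply, Matrix.one_apply, ite_smul]
  rw [h1, ← Matrix.adjugate_mul]
  simp only [Matrix.mul_apply, Finset.sum_smul, mul_smul]
  rw [Finset.sum_comm]
  apply Finset.sum_eq_zero
  intro i _
  rw [← Finset.smul_sum, ha i, smul_zero]

lemma fitt_zero_le_annihilator {R : Type u} [CommRing R] (M : Type*) [AddCommGroup M] [Module R M] :
    Fitt.ideal R M 0 ≤ Module.annihilator R M := by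
  rw [Fitt.ideal, Ideal.span_le]
  rintro d ⟨n, x, a, hx, ha, rfl⟩
  rw [SetLike.mem_coe, Module.mem_annihilator]
  intro m
  have hm : m ∈ Submodule.span R (Set.range x) := by rw [hx]; exact Submodule.mem_top
  induction hm using Submodule.span_induction with
  | mem m hm =>
    obtain ⟨j, rfl⟩ := hm
    exact det_smul_eq_zero x a (fun i => ha i (by simp)) j
  | zero => simp
  | add u v _ _ hu hv => rw [smul_add, hu, hv, add_zero]
  | smul r u _ hu => rw [smul_comm, hu, smul_zero]

lemma pow_mem_fitt_zero {R : Type u} [CommRing R] {M : Type*} [AddCommGroup M] [Module R M] {n : ℕ}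
    (x : Fin n → M) (hx : Submodule.span R (Set.range x) = ⊤) (r : R) (hr : r ∈ Module.annihilator R M) :
    r ^ n ∈ Fitt.ideal R M 0 := by
  classical
  refine Ideal.subset_span ⟨n, x, r • (1 : Matrix (Fin n) (Fin n) R), hx, ?_, ?_⟩
  · intro i _
    simp only [Matrix.smul_apply, Matrix.one_apply, smul_eq_mul, mul_ite, mul_one, mul_zero, ite_smul,
      zero_smul, Finset.sum_ite_eq, Finset.mem_univ, if_true]
    exact Module.mem_annihilator.mp hr _
  · simp


/-- Let `M` be a finite `R`-module. Then `Fit_0(M) ⊆ Ann_R(M)`, the closed set `V(Fit_0(M))` equals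
`Supp(M)`, and for an ideal `I` one has `Fit_0(R/I) = I`. -/
theorem result {R : Type u} [CommRing R] (M : Type u) [AddCommGroup M]
    [Module R M] [Module.Finite R M] (I : Ideal R) :
    Fitt.ideal R M 0 ≤ Module.annihilator R M ∧
    PrimeSpectrum.zeroLocus (Fitt.ideal R M 0 : Set R) = Module.support R M ∧
    Fitt.ideal R (R ⧸ I) 0 = I := by
  refine ⟨fitt_zero_le_annihilator M, ?_, ?_⟩
  · rw [Module.support_eq_zeroLocus]
    apply Set.Subset.antisymm
    · intro p hp
      obtain ⟨n, x, hx⟩ := Module.Finite.exists_fin (R := R) (M := M)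
      rw [PrimeSpectrum.mem_zeroLocus] at hp ⊢
      intro r hr
      have h1 : r ^ n ∈ p.asIdeal := hp (pow_mem_fitt_zero x hx r hr)
      exact p.isPrime.mem_of_pow_mem n h1
    · exact PrimeSpectrum.zeroLocus_anti_mono (fitt_zero_le_annihilator M)
  · have hx : Submodule.span R (Set.range (fun _ : Fin 1 => (1 : R ⧸ I))) = ⊤ := by
      rw [Set.range_const]
      rw [eq_top_iff]
      intro m _
      obtain ⟨r, rfl⟩ := Ideal.Quotient.mk_surjective m
      rw [Submodule.mem_span_singleton]
      exact ⟨r, by simp [Algebra.smul_def]⟩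
    rw [fitt_eq_Min _ hx 0]
    apply le_antisymm
    · rw [Fitting.Min, Ideal.span_le]
      rintro d ⟨z, e, hz, rfl⟩
      have h1 := (mem_Rel _ _).mp (hz 0)
      simp only [Finset.univ_unique, Fin.default_eq_zero, Fin.isValue, Finset.sum_singleton] at h1
      have h2 : z 0 0 ∈ I := by
        rw [← Ideal.Quotient.eq_zero_iff_mem]
        rw [← h1, Algebra.smul_def, mul_one]
        rfl
      have h3 : minor z e = z 0 0 := by
        rw [minor, Matrix.det_fin_one]
        simp only [Matrix.of_apply]
        congr 1
        exact Subsingleton.elim _ _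
      rw [SetLike.mem_coe, h3]
      exact h2
    · intro r hr
      have : r = minor (n := 1) (j := 1) (fun _ _ => r) id := by
        rw [minor, Matrix.det_fin_one]; rfl
      rw [this]
      apply minor_mem_Min
      intro b
      change _ ∈ Fitting.Rel R _
      rw [mem_Rel]
      simp only [Finset.univ_unique, Finset.sum_singleton]
      rw [Algebra.smul_def, mul_one]
      exact Ideal.Quotient.eq_zero_iff_mem.mpr hr

end Groth.Agent.S6891
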