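import Groth.Statements.S10836
import Mathlib
import Groth.Agent.Lib.Helper45.SemilocalBasis

set_option autoImplicit false
universe u
open Coh
open Groth.Agent.Lib.Helper45 Groth.Agent.Lib.Helper45.Fitting Groth.Agent.Lib.Helper45.Semilocal

namespace Groth.Agent.S10836

/-- Let A be a commutative ring, M a finitely generated projective A-module whose rank at every prime is
r, and Z a finite set of prime ideals of A. Then there is an element s of A outside every prime of Z
such that the localized module M_s has a basis of r elements over A_s. (The published statement is
for a finite locally free module of constant rank r on a scheme and a finite set of points inside an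
affine open Spec A, and produces a basic open D(s) containing the points on which the module is free
of rank r; its argument begins by replacing the scheme with Spec A, and this row states that case.) -/
theorem result (A : Type u) [CommRing A]
    (M : Type u) [AddCommGroup M] [Module A M] [Module.Finite A M] [Module.Projective A M] (r : ℕ)
    (hr : ∀ p : PrimeSpectrum A, Module.rankAtStalk M p = r)
    (Z : Set (PrimeSpectrum A)) (hZ : Z.Finite) :
    ∃ s : A, (∀ p ∈ Z, s ∉ p.asIdeal) ∧
      Nonempty (Module.Basis (Fin r) (Localization.Away s) (LocalizedModule (Submonoid.powers s) M)) := by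
  classical
  have hfitt : ∀ p : PrimeSpectrum A, ¬ Fitt.ideal A M r ≤ p.asIdeal := by
    intro p
    rw [← fibreDim_le_iff, fibreDim_eq_rankAtStalk, hr p]
  obtain ⟨g, hg⟩ := exists_spansFibre_finset (R := A) (M := M) r hZ.toFinset (fun p _ => hfitt p)
  obtain ⟨t, htP, ht⟩ := exists_smul_mem_span_of_finset g hZ.toFinset hg
  refine ⟨t, fun p hp => htP p (hZ.mem_toFinset.mpr hp), ?_⟩
  have hspan := span_localizedModule_eq_top (Submonoid.powers t) g t (Submonoid.mem_powers t) ht
  have hrank : ∀ q : PrimeSpectrum (Localization.Away t),
      Module.rankAtStalk (LocalizedModule (Submonoid.powers t) M) q = r := by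
    intro q
    rw [Module.rankAtStalk_isBaseChange (LocalizedModule.isBaseChange (Submonoid.powers t) M), hr]
  have hli := linearIndependent_of_span_of_rankAtStalk r hrank _ hspan
  exact ⟨Module.Basis.mk hli hspan.ge⟩

end Groth.Agent.S10836
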