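import Groth.Statements.S6895
import Mathlib
import Groth.Agent.Lib.Helper45.FittingLocal

set_option autoImplicit false
universe u
open Fitt

namespace Groth.Agent.S6895

open Groth.Agent.Lib.Helper45 Groth.Agent.Lib.Helper45.Fitting


/-- (1) ⇔ (3): let `M` be a finite `R`-module and `r ≥ 0`. Then `M` is finite locally free of rank `r`
(every prime has a basic open neighbourhood `D(f)` with `M_f` free of rank `r` over `R_f`) if and
only if `Fit_k(M) = 0` for `k < r` and `Fit_k(M) = R` for `k ≥ r`. -/
theorem result {R : Type u} [CommRing R] (M : Type u) [AddCommGroup M] [Module R M]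
    [Module.Finite R M] (r : ℕ) :
    (∀ (p : Ideal R) [p.IsPrime], ∃ f : R, f ∉ p ∧
      Module.Free (Localization.Away f) (LocalizedModule (Submonoid.powers f) M) ∧
        Module.finrank (Localization.Away f) (LocalizedModule (Submonoid.powers f) M) = r) ↔
    ((∀ k, k < r → Fitt.ideal R M k = ⊥) ∧ (∀ k, r ≤ k → Fitt.ideal R M k = ⊤)) := by
  constructor
  · intro h
    have key : ∀ (p : Ideal R) [p.IsPrime], ∃ f : R, f ∉ p ∧ ∀ k,
        (k < r → (Fitt.ideal R M k).map (algebraMap R (Localization.Away f)) = ⊥) ∧
        (r ≤ k → (Fitt.ideal R M k).map (algebraMap R (Localization.Away f)) = ⊤) := by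
      intro p _
      obtain ⟨f, hf, hfree, hrank⟩ := h p
      refine ⟨f, hf, fun k => ?_⟩
      rw [← fitt_localizedModule]
      have hnt : Nontrivial (Localization.Away f) := by
        by_contra hnt
        rw [not_nontrivial_iff_subsingleton] at hnt
        have h0 : algebraMap R (Localization.Away f) 1 = 0 := Subsingleton.elim _ _
        obtain ⟨⟨_, t, rfl⟩, ht⟩ := (IsLocalization.map_eq_zero_iff (Submonoid.powers f) (Localization.Away f) 1).mp h0
        simp only [mul_one] at ht
        exact hf (Ideal.IsPrime.mem_of_pow_mem inferInstance t (ht ▸ p.zero_mem))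
      let b := Module.finBasisOfFinrankEq (Localization.Away f) (LocalizedModule (Submonoid.powers f) M) hrank
      exact fitt_of_basis b k
    constructor
    · intro k hk
      apply ideal_eq_bot_of_away
      intro p _
      obtain ⟨f, hf, hk'⟩ := key p
      exact ⟨f, hf, (hk' k).1 hk⟩
    · intro k hk
      apply ideal_eq_top_of_away
      intro p _
      obtain ⟨f, hf, hk'⟩ := key p
      exact ⟨f, hf, (hk' k).2 hk⟩
  · rintro ⟨h1, h2⟩ p _
    obtain ⟨n, x, hx⟩ := Module.Finite.exists_fin (R := R) (M := M)
    have hr : ¬ Fitt.ideal R M r ≤ p := by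
      rw [h2 r le_rfl]
      intro hle
      exact (Ideal.IsPrime.ne_top inferInstance) (top_le_iff.mp hle)
    obtain ⟨z, e, hz, hd⟩ := exists_minor_notMem x hx r p hr
    refine ⟨minor z e, hd, ?_⟩
    set f := minor z e with hfdef
    have hnt : Nontrivial (Localization.Away f) := by
      by_contra hnt
      rw [not_nontrivial_iff_subsingleton] at hnt
      have h0 : algebraMap R (Localization.Away f) 1 = 0 := Subsingleton.elim _ _
      obtain ⟨⟨_, t, rfl⟩, ht⟩ := (IsLocalization.map_eq_zero_iff (Submonoid.powers f) (Localization.Away f) 1).mp h0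
      simp only [mul_one] at ht
      exact hd (Ideal.IsPrime.mem_of_pow_mem inferInstance t (ht ▸ p.zero_mem))
    obtain ⟨g, hg⟩ := exists_span_of_minor_unit (A := Localization.Away f) r x z hz e
      (LocalizedModule.mkLinearMap (Submonoid.powers f) M)
      (by rw [Set.range_comp]
          exact span_eq_top_of_isLocalizedModule (Localization.Away f) (Submonoid.powers f) _ hx)
      (IsLocalization.map_units (Localization.Away f) (⟨f, Submonoid.mem_powers _⟩ : Submonoid.powers f))
    have hli : LinearIndependent (Localization.Away f) g := by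
      rcases Nat.eq_zero_or_pos r with hr0 | hr0
      · subst hr0
        exact linearIndependent_empty_type
      · obtain ⟨r', rfl⟩ : ∃ r', r = r' + 1 := ⟨r - 1, by omega⟩
        apply linearIndependent_of_fitt_eq_bot g hg
        rw [fitt_localizedModule, h1 r' (by omega), Ideal.map_bot]
    let b := Module.Basis.mk hli hg.ge
    exact ⟨Module.Free.of_basis b, by rw [Module.finrank_eq_card_basis b]; simp⟩

end Groth.Agent.S6895
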