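import Groth.Statements.S17662
-- import your own Groth.Agent.* helpers here
import Mathlib.LinearAlgebra.ExteriorPower.Basis
import Mathlib.LinearAlgebra.Matrix.NonsingularInverse

set_option autoImplicit false
universe u
open CIDisc

namespace Groth.Agent.S17662

open Module in
/-- Cauchy–Binet, via the basis of the exterior power. -/
lemma cauchyBinet {R : Type u} [CommRing R] {e r : ℕ} (A : Matrix (Fin e) (Fin r) R)
    (B : Matrix (Fin r) (Fin e) R) [Fintype (Set.powersetCard (Fin r) e)] :
    (A * B).det = ∑ S : Set.powersetCard (Fin r) e,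
      (A.submatrix id (S.1.orderEmbOfFin S.2)).det * (B.submatrix (S.1.orderEmbOfFin S.2) id).det := by
  classical
  let b : Basis (Fin r) R (Fin r → R) := Pi.basisFun R (Fin r)
  let v : Fin e → (Fin r → R) := fun i => A i
  let f : Fin e → Module.Dual R (Fin r → R) := fun j => ∑ l, B l j • LinearMap.proj l
  have h1 : exteriorPower.pairingDual R (Fin r → R) e (exteriorPower.ιMulti R e f)
      (exteriorPower.ιMulti R e v) = (A * B).det := by
    rw [exteriorPower.pairingDual_ιMulti_ιMulti]
    congr 1
    ext i j
    simp [f, v, Matrix.mul_apply, mul_comm]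
  rw [← h1]
  conv_lhs => rw [← (b.exteriorPower e).sum_repr (exteriorPower.ιMulti R e v)]
  rw [map_sum]
  refine Finset.sum_congr rfl fun S _ => ?_
  rw [map_smul, smul_eq_mul, exteriorPower.basis_repr_apply, exteriorPower.ιMultiDual_apply_ιMulti,
    exteriorPower.basis_apply, exteriorPower.ιMulti_family, exteriorPower.pairingDual_ιMulti_ιMulti]
  have e1 : (Matrix.of fun i j => (b.coord ((Set.powersetCard.ofFinEmbEquiv.symm S) j)) (v i)) =
      A.submatrix id (S.1.orderEmbOfFin S.2) := by
    ext i j
    simp [b, v, Set.powersetCard.ofFinEmbEquiv_symm_apply]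
  have e2 : (Matrix.of fun i j => (f j) ((⇑b ∘ ⇑(Set.powersetCard.ofFinEmbEquiv.symm S)) i)) =
      B.submatrix (S.1.orderEmbOfFin S.2) id := by
    ext i j
    simp [b, f, Set.powersetCard.ofFinEmbEquiv_symm_apply, Pi.single_apply]
  rw [e1, e2]

/-- Let R be a commutative ring, M an r × n matrix over R and e ≥ 0; for each e-element set L of row
indices let A_L be an e × r matrix over R, and form the square matrix, indexed by the e-element sets
of row indices, whose (L, L') entry is the e × e minor of A_L on the columns L'. If the determinant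
of that square matrix is a unit, then the sum over L of the ideals generated by the e × e minors of
the products A_L · M is the ideal generated by all e × e minors of M. (In the source R is the
coordinate ring of an affine scheme X of codimension e cut out by f_1, …, f_r in affine n-space, M
is the image of the Jacobian matrix of the f_j, the A_L have entries in the ground field and cut out
complete intersections Z_L = V(A_L · f), so that the two sides are Σ_L Jac(Z_L) and Jac(X); the
source states the equality for general A_L and establishes it under the present invertibility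
condition, which it shows to be generic.) -/
theorem result {R : Type u} [CommRing R] (e r n : ℕ)
    (M : Matrix (Fin r) (Fin n) R)
    (A : {s : Finset (Fin r) // s.card = e} → Matrix (Fin e) (Fin r) R)
    (hA : IsUnit (Matrix.det (Matrix.of fun i j : {s : Finset (Fin r) // s.card = e} =>
      ((A i).submatrix id (j.1.orderEmbOfFin j.2)).det))) :
    (⨆ i, Ideal.span (Set.range fun t : {s : Finset (Fin n) // s.card = e} =>
        ((A i * M).submatrix id (t.1.orderEmbOfFin t.2)).det)) =
      Ideal.span (Set.range fun p : {s : Finset (Fin r) // s.card = e} × {s : Finset (Fin n) // s.card = e} =>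
        (M.submatrix (p.1.1.orderEmbOfFin p.1.2) (p.2.1.orderEmbOfFin p.2.2)).det) := by
  classical
  set Bm : Matrix {s : Finset (Fin r) // s.card = e} {s : Finset (Fin r) // s.card = e} R :=
    Matrix.of fun i j : {s : Finset (Fin r) // s.card = e} =>
      ((A i).submatrix id (j.1.orderEmbOfFin j.2)).det with hBm
  have key : ∀ (i : {s : Finset (Fin r) // s.card = e}) (t : {s : Finset (Fin n) // s.card = e}),
      ((A i * M).submatrix id (t.1.orderEmbOfFin t.2)).det =
        ∑ L : {s : Finset (Fin r) // s.card = e}, Bm i L *
          (M.submatrix (L.1.orderEmbOfFin L.2) (t.1.orderEmbOfFin t.2)).det := by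
    intro i t
    have h1 : (A i * M).submatrix id (t.1.orderEmbOfFin t.2) =
        A i * M.submatrix id (t.1.orderEmbOfFin t.2) := by
      ext a b
      simp [Matrix.mul_apply]
    rw [h1, @cauchyBinet R _ e r (A i) (M.submatrix id (t.1.orderEmbOfFin t.2))
      (Subtype.fintype fun s : Finset (Fin r) => s.card = e)]
    simp only [hBm, Matrix.of_apply]
    have hsub : ∀ L : {s : Finset (Fin r) // s.card = e},
        (M.submatrix id (t.1.orderEmbOfFin t.2)).submatrix (L.1.orderEmbOfFin L.2) id =
          M.submatrix (L.1.orderEmbOfFin L.2) (t.1.orderEmbOfFin t.2) := fun L => rfl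
    simp only [← hsub]
    exact Finset.sum_congr rfl (fun _ _ => rfl)
  apply le_antisymm
  · refine iSup_le fun i => Ideal.span_le.mpr ?_
    rintro _ ⟨t, rfl⟩
    simp only
    rw [key]
    exact Submodule.sum_mem _ fun L _ => Ideal.mul_mem_left _ _ (Ideal.subset_span ⟨(L, t), rfl⟩)
  · refine Ideal.span_le.mpr ?_
    rintro _ ⟨⟨L, t⟩, rfl⟩
    simp only
    set w : {s : Finset (Fin r) // s.card = e} → R := fun L' =>
      (M.submatrix (L'.1.orderEmbOfFin L'.2) (t.1.orderEmbOfFin t.2)).det with hw
    have h2 : Bm⁻¹.mulVec (Bm.mulVec w) = w := by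
      rw [Matrix.mulVec_mulVec, Matrix.nonsing_inv_mul _ hA, Matrix.one_mulVec]
    have h3 : w L = ∑ i, Bm⁻¹ L i * (Bm.mulVec w) i := by
      conv_lhs => rw [← h2]
      rfl
    change w L ∈ _
    rw [h3]
    refine Submodule.sum_mem _ fun i _ => Ideal.mul_mem_left _ _ ?_
    have h4 : (Bm.mulVec w) i = ((A i * M).submatrix id (t.1.orderEmbOfFin t.2)).det := by
      rw [key]; rfl
    rw [h4]
    exact (le_iSup (fun i => Ideal.span (Set.range fun t : {s : Finset (Fin n) // s.card = e} =>
        ((A i * M).submatrix id (t.1.orderEmbOfFin t.2)).det)) i) (Ideal.subset_span ⟨t, rfl⟩)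

end Groth.Agent.S17662
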