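import Groth.Statements.S6284
import Mathlib.RingTheory.LocalRing.Module
import Mathlib.RingTheory.Flat.FaithfullyFlat.Basic
import Mathlib.RingTheory.LocalRing.ResidueField.Ideal
-- import your own Groth.Agent.* helpers here

set_option autoImplicit false
universe u
open scoped TensorProduct
open CAlg

namespace Groth.Agent.S6284

/-- Let R → R' be a ring map and M a finite R-module. Then the support of R' ⊗_R M is the inverse image
of the support of M under Spec(R') → Spec(R). -/
theorem result {R R' : Type u} [CommRing R] [CommRing R'] [Algebra R R'] (M : Type u) [AddCommGroup M] [Module R M] [Module.Finite R M] : Module.support R' (R' ⊗[R] M) = PrimeSpectrum.comap (algebraMap R R') ⁻¹' Module.support R M := by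
  ext p'
  rw [Set.mem_preimage, Module.mem_support_iff_nontrivial_residueField_tensorProduct,
    Module.mem_support_iff_nontrivial_residueField_tensorProduct]
  set p : PrimeSpectrum R := PrimeSpectrum.comap (algebraMap R R') p' with hp
  let K := p.asIdeal.ResidueField
  let K' := p'.asIdeal.ResidueField
  let φ : K →+* K' := Ideal.ResidueField.map p.asIdeal p'.asIdeal (algebraMap R R') rfl
  let _ : Algebra K K' := φ.toAlgebra
  have : IsScalarTower R K K' := by
    refine IsScalarTower.of_algebraMap_eq' ?_
    ext r
    have h := Ideal.ResidueField.map_algebraMap p.asIdeal p'.asIdeal (algebraMap R R') rfl r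
    rw [RingHom.comp_apply]
    change algebraMap R K' r = φ (algebraMap R K r)
    rw [h, ← IsScalarTower.algebraMap_apply]
  let e1 := TensorProduct.AlgebraTensorModule.cancelBaseChange R R' K' K' M
  let e2 := TensorProduct.AlgebraTensorModule.cancelBaseChange R K K' K' M
  rw [e1.nontrivial_congr, ← e2.nontrivial_congr]
  exact Module.FaithfullyFlat.nontrivial_tensorProduct_iff_right K K'

end Groth.Agent.S6284
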