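import Groth.Statements.S6913
import Mathlib.LinearAlgebra.Dimension.Finite
import Mathlib.LinearAlgebra.Dimension.Free
import Mathlib.RingTheory.Localization.Module
import Mathlib.RingTheory.LocalProperties.Projective
import Mathlib.LinearAlgebra.LinearIndependent.Lemmas

set_option autoImplicit false
universe u
open CAlg

namespace Groth.Agent.S6913

theorem exists_torsion_coker (R : Type u) [CommRing R] [IsDomain R] (M : Type u) [AddCommGroup M]
    [Module R M] [Module.Finite R M] :
    ∃ g : (Fin (Module.finrank R M) → R) →ₗ[R] M, Function.Injective g ∧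
      ∃ c : R, c ≠ 0 ∧ ∀ x : M, c • x ∈ LinearMap.range g := by
  obtain ⟨v, hv⟩ := exists_linearIndependent_of_le_finrank (R := R) (M := M)
    (le_refl (Module.finrank R M))
  refine ⟨Fintype.linearCombination R v, hv.fintypeLinearCombination_injective, ?_⟩
  have htors : ∀ x : M, ∃ c : R, c ≠ 0 ∧ c • x ∈ LinearMap.range (Fintype.linearCombination R v) := by
    intro x
    have hnot : ¬ LinearIndependent R (Fin.cons x v : Fin (Module.finrank R M + 1) → M) := by
      intro h
      have h1 := h.cardinal_lift_le_rank
      rw [← Module.finrank_eq_rank R M] at h1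
      simp only [Cardinal.mk_fintype, Fintype.card_fin, Cardinal.lift_natCast] at h1
      have h2 : Module.finrank R M + 1 ≤ Module.finrank R M := by exact_mod_cast h1
      omega
    rw [Fintype.not_linearIndependent_iff] at hnot
    obtain ⟨c, hc, i, hi⟩ := hnot
    rw [Fin.sum_univ_succ] at hc
    simp only [Fin.cons_zero, Fin.cons_succ] at hc
    have hc0 : c 0 ≠ 0 := by
      intro h0
      rw [h0, zero_smul, zero_add] at hc
      have h3 := Fintype.linearIndependent_iff.mp hv (fun j => c j.succ) hc
      refine hi ?_
      refine Fin.cases h0 (fun j => h3 j) i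
    refine ⟨c 0, hc0, fun j => -c j.succ, ?_⟩
    rw [Fintype.linearCombination_apply]
    simp only [neg_smul, Finset.sum_neg_distrib]
    exact (eq_neg_of_add_eq_zero_left hc).symm
  choose cx hcx hcx' using htors
  obtain ⟨s, hs⟩ := (Module.Finite.fg_top : (⊤ : Submodule R M).FG)
  refine ⟨∏ m ∈ s, cx m, Finset.prod_ne_zero_iff.mpr fun m _ => hcx m, ?_⟩
  have hle : (⊤ : Submodule R M) ≤ (LinearMap.range (Fintype.linearCombination R v)).comap
      ((∏ m ∈ s, cx m) • (LinearMap.id : M →ₗ[R] M)) := by
    rw [← hs, Submodule.span_le]
    intro m hm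
    rw [SetLike.mem_coe, Submodule.mem_comap, LinearMap.smul_apply, LinearMap.id_apply]
    classical
    rw [← Finset.mul_prod_erase s cx hm, mul_comm, mul_smul]
    exact Submodule.smul_mem _ _ (hcx' m)
  intro x
  have := hle (Submodule.mem_top : x ∈ ⊤)
  rwa [Submodule.mem_comap, LinearMap.smul_apply, LinearMap.id_apply] at this

/-- Let `R` be a domain and `M` a finite `R`-module, of (finite) rank `r`. Then: some linear map `M →
R^r` has torsion kernel and torsion cokernel; some nonzero `f ∈ R` makes `M_f` free of rank `r` over
`R_f`; and some injective linear map `R^r → M` has torsion cokernel. -/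
theorem result (R : Type u) [CommRing R] [IsDomain R] (M : Type u) [AddCommGroup M]
    [Module R M] [Module.Finite R M] :
    (∃ h : M →ₗ[R] (Fin (Module.finrank R M) → R),
      (∀ x : M, h x = 0 → ∃ c : R, c ≠ 0 ∧ c • x = 0) ∧
      (∀ y : Fin (Module.finrank R M) → R, ∃ c : R, c ≠ 0 ∧ c • y ∈ LinearMap.range h)) ∧
    (∃ f : R, f ≠ 0 ∧ Module.Free (Localization.Away f) (LocalizedModule (Submonoid.powers f) M) ∧
      Module.finrank (Localization.Away f) (LocalizedModule (Submonoid.powers f) M) = Module.finrank R M) ∧
    (∃ g : (Fin (Module.finrank R M) → R) →ₗ[R] M, Function.Injective g ∧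
      ∀ x : M, ∃ c : R, c ≠ 0 ∧ c • x ∈ LinearMap.range g) := by
  obtain ⟨g, hg, c, hc, hcx⟩ := exists_torsion_coker R M
  refine ⟨?_, ?_, ⟨g, hg, fun x => ⟨c, hc, hcx x⟩⟩⟩
  · let e := LinearEquiv.ofInjective g hg
    let k : M →ₗ[R] LinearMap.range g :=
      (c • (LinearMap.id : M →ₗ[R] M)).codRestrict (LinearMap.range g) (fun x => by
        simpa using hcx x)
    refine ⟨e.symm.toLinearMap ∘ₗ k, ?_, ?_⟩
    · intro x hx
      refine ⟨c, hc, ?_⟩
      have h1 : k x = 0 := by
        have := hx
        simpa using this
      have h2 := congrArg Subtype.val h1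
      simpa [k] using h2
    · intro y
      refine ⟨c, hc, g y, ?_⟩
      have h1 : k (g y) = c • e y := by
        apply Subtype.ext
        simp [k, e]
      simp only [LinearMap.coe_comp, LinearEquiv.coe_coe, Function.comp_apply]
      rw [h1, map_smul, LinearEquiv.symm_apply_apply]
  · refine ⟨c, hc, ?_⟩
    let S := Submonoid.powers c
    have hinjR : Function.Injective (algebraMap R (Localization S)) :=
      IsLocalization.injective _ (powers_le_nonZeroDivisors_of_noZeroDivisors hc)
    have : Nontrivial (Localization S) := hinjR.nontrivial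
    have hbij : Function.Bijective (LocalizedModule.map S g) := by
      refine ⟨LocalizedModule.map_injective S g hg, ?_⟩
      intro z
      induction z using LocalizedModule.induction_on with
      | h x s =>
        obtain ⟨y, hy⟩ := hcx x
        refine ⟨LocalizedModule.mk y (⟨c, Submonoid.mem_powers c⟩ * s), ?_⟩
        rw [LocalizedModule.map_mk, hy]
        exact LocalizedModule.mk_cancel_common_left (⟨c, Submonoid.mem_powers c⟩ : S) s x
    let E : LocalizedModule S (Fin (Module.finrank R M) → R) ≃ₗ[Localization S]
        LocalizedModule S M := LinearEquiv.ofBijective (LocalizedModule.map S g) hbij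
    have hfree : Module.Free (Localization S) (LocalizedModule S (Fin (Module.finrank R M) → R)) :=
      Module.free_of_isLocalizedModule S (LocalizedModule.mkLinearMap S _)
    have hrk : Module.finrank (Localization S) (LocalizedModule S (Fin (Module.finrank R M) → R)) =
        Module.finrank R M := by
      rw [Module.finrank_of_isLocalizedModule_of_free (Localization S) S
        (LocalizedModule.mkLinearMap S (Fin (Module.finrank R M) → R))]
      simp
    exact ⟨Module.Free.of_equiv E, by rw [← E.finrank_eq, hrk]⟩

end Groth.Agent.S6913
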