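import Groth.Statements.S11449
import Groth.Agent.Lib.Helper29.HilbertBurch2

set_option autoImplicit false
universe u
open DefT

namespace Groth.Agent.S11449

/-- Let A be a regular local ring and I an ideal such that A/I is a Cohen–Macaulay local ring whose
Krull dimension is dim A − 2. Then for some r there is an (r+1) × r matrix φ with entries in A such
that, writing f_i for (−1)^i times the determinant of φ with its i-th row removed (i = 0, …, r), the
elements f_0, …, f_r generate I, no family of fewer than r + 1 elements generates I, multiplication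
by φ is an injective map A^r → A^{r+1}, and the image of that map is exactly the kernel of the map
A^{r+1} → A sending v to Σ_i v_i f_i; together with A → A/I this is a free resolution 0 → A^r →
A^{r+1} → A → A/I → 0. -/
theorem result
    (A : Type u) [CommRing A] [IsRegularLocalRing A] (I : Ideal A)
    [LocCoh.IsCohenMacaulayLocalRing (A ⧸ I)]
    (hcodim : ringKrullDim (A ⧸ I) + 2 = ringKrullDim A) :
    ∃ (r : ℕ) (φ : Matrix (Fin (r + 1)) (Fin r) A),
      Ideal.span (Set.range (fun i : Fin (r + 1) => (-1 : A) ^ (i : ℕ) * (φ.submatrix i.succAbove id).det)) = I ∧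
      I.spanFinrank = r + 1 ∧
      Function.Injective φ.mulVecLin ∧
      LinearMap.range φ.mulVecLin =
        LinearMap.ker (Fintype.linearCombination A (fun i : Fin (r + 1) => (-1 : A) ^ (i : ℕ) * (φ.submatrix i.succAbove id).det)) := by
  classical
  have hnt : Nontrivial (A ⧸ I) := inferInstance
  have hI : I ≠ ⊤ := by
    intro h
    have : Subsingleton (A ⧸ I) := Ideal.Quotient.subsingleton_iff.mpr h
    exact not_subsingleton (A ⧸ I) this
  have hCMA : LocCoh.IsCohenMacaulayLocalRing A :=
    LocCoh.IsCohenMacaulayLocalRing.mk (Groth.Agent.S5671.isCM_of_regular A)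
  have hdim := Groth.Agent.Lib.Helper29.CodepthOpen.ringKrullDim_eq_quotient_add_height A I hI
  have hht : (2 : ℕ∞) ≤ I.height := by
    obtain ⟨q, hq⟩ : ∃ q : ℕ, ringKrullDim (A ⧸ I) = q := by
      have h1 : ringKrullDim (A ⧸ I) ≠ ⊤ := Groth.Agent.Lib.Helper29.DimTheory.ringKrullDim_ne_top _
      have h2 : ringKrullDim (A ⧸ I) ≠ ⊥ := ringKrullDim_ne_bot
      induction hk : ringKrullDim (A ⧸ I) with
      | bot => exact absurd hk h2
      | coe a =>
        induction a using ENat.recTopCoe with
        | top => exact absurd hk h1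
        | coe m => exact ⟨m, rfl⟩
    rw [← hcodim, hq] at hdim
    have h3 : (((q + 2 : ℕ) : ℕ∞) : WithBot ℕ∞) = (((q : ℕ∞) + I.height : ℕ∞) : WithBot ℕ∞) := by
      push_cast
      exact hdim
    have h4 : ((q : ℕ∞) + 2) = (q : ℕ∞) + I.height := by
      have := WithBot.coe_injective h3
      rw [← this]
      push_cast
      rfl
    have h5 : (2 : ℕ∞) = I.height :=
      (ENat.add_right_injective_of_ne_top (ENat.natCast_ne_top q)) h4
    rw [← h5]
  obtain ⟨s, hcard, hspan⟩ :=
    Submodule.FG.exists_span_finset_card_eq_spanFinrank (I.fg_of_isNoetherianRing)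
  let g : Fin s.card → A := fun i => (s.equivFin.symm i : A)
  have hrange : Set.range g = (s : Set A) := by
    ext x
    constructor
    · rintro ⟨i, rfl⟩
      exact (s.equivFin.symm i).2
    · intro hx
      exact ⟨s.equivFin ⟨x, hx⟩, by simp [g]⟩
  have hg : Ideal.span (Set.range g) = I := by
    rw [hrange]
    exact hspan
  have hπ : LinearMap.range (Fintype.linearCombination A g) = I := by
    rw [Fintype.range_linearCombination]
    exact hg
  have hpd := Groth.Agent.Lib.Helper29.HilbertBurch.hasProjectiveDimensionLT_three_of_isCM A I hcodim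
  have hproj := Groth.Agent.Lib.Helper29.HilbertBurch.projective_ker_of_pd A I
    (Fintype.linearCombination A g) hπ hpd
  have hfree : Module.Free A (LinearMap.ker (Fintype.linearCombination A g)) :=
    Module.free_of_flat_of_isLocalRing
  let b := Module.finBasis A (LinearMap.ker (Fintype.linearCombination A g))
  let ψ : (Fin (Module.finrank A (LinearMap.ker (Fintype.linearCombination A g))) → A) →ₗ[A]
      (Fin s.card → A) :=
    (LinearMap.ker (Fintype.linearCombination A g)).subtype ∘ₗ b.equivFun.symm.toLinearMap
  have hmul : ∀ w, (LinearMap.toMatrix' ψ).mulVec w = ψ w := fun w => by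
    rw [← Matrix.toLin'_apply, Matrix.toLin'_toMatrix']
  have hΨ' : ∀ w, (LinearMap.toMatrix' ψ).mulVec w = 0 → w = 0 := by
    intro w hw
    rw [hmul] at hw
    have h1 : b.equivFun.symm w = 0 := by
      apply Subtype.ext
      exact hw
    exact (LinearEquiv.map_eq_zero_iff _).mp h1
  have hlc : ∀ v : Fin s.card → A, Fintype.linearCombination A g v = ∑ i, v i * g i := fun v => by
    rw [Fintype.linearCombination_apply]
    rfl
  have hex' : ∀ v : Fin s.card → A, ∑ i, v i * g i = 0 →
      ∃ w, (LinearMap.toMatrix' ψ).mulVec w = v := by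
    intro v hv
    have hvk : v ∈ LinearMap.ker (Fintype.linearCombination A g) := by
      rw [LinearMap.mem_ker, hlc, hv]
    refine ⟨b.equivFun ⟨v, hvk⟩, ?_⟩
    rw [hmul]
    change ((b.equivFun.symm (b.equivFun ⟨v, hvk⟩) : LinearMap.ker (Fintype.linearCombination A g)) :
      Fin s.card → A) = v
    rw [LinearEquiv.symm_apply_apply]
  have hcx' : ∀ w, ∑ i, (LinearMap.toMatrix' ψ).mulVec w i * g i = 0 := by
    intro w
    rw [hmul, ← hlc]
    exact (b.equivFun.symm w).2
  obtain ⟨r, φ, h1, h2, h3, h4⟩ :=
    Groth.Agent.Lib.Helper29.HilbertBurch.exists_minors_presentation (LinearMap.toMatrix' ψ) g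
      hΨ' hex' hcx' (by rw [hg]; exact hht) (by rw [hg]; exact hI)
  exact ⟨r, φ, by rw [h1, hg], by rw [← hcard, h2], h3, h4⟩

end Groth.Agent.S11449
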