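import Groth.Statements.S11311
import Groth.Agent.Lib.Helper62.SmoothReg5
import Mathlib.RingTheory.Smooth.Kaehler
import Mathlib.RingTheory.EssentialFiniteness
import Mathlib.RingTheory.Kaehler.Basic

set_option autoImplicit false
universe u
open CAlg

namespace Groth.Agent.S11311

open IsLocalRing TensorProduct KaehlerDifferential Function

section helpers

variable {B : Type u} [CommRing B] [IsLocalRing B] [IsNoetherianRing B]

lemma spanFinrank_le_of_injective (I : Ideal B) (hI : I = maximalIdeal B) (V : Type*)
    [AddCommGroup V] [Module B V] [Module (ResidueField B) V] [IsScalarTower B (ResidueField B) V]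
    [Module.Finite (ResidueField B) V] (f : I.Cotangent →ₗ[B] V) (hf : Injective f) :
    (maximalIdeal B).spanFinrank ≤ Module.finrank (ResidueField B) V := by
  subst hI
  rw [spanFinrank_maximalIdeal_eq_finrank_cotangentSpace]
  exact LinearMap.finrank_le_finrank_of_injective
    (f := LinearMap.extendScalarsOfSurjective residue_surjective f) hf

lemma spanFinrank_eq_of_bijective (I : Ideal B) (hI : I = maximalIdeal B) (V : Type*)
    [AddCommGroup V] [Module B V] [Module (ResidueField B) V] [IsScalarTower B (ResidueField B) V]
    (f : I.Cotangent →ₗ[B] V) (hf : Bijective f) :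
    (maximalIdeal B).spanFinrank = Module.finrank (ResidueField B) V := by
  subst hI
  rw [spanFinrank_maximalIdeal_eq_finrank_cotangentSpace]
  exact (LinearEquiv.ofBijective (LinearMap.extendScalarsOfSurjective residue_surjective f :
    CotangentSpace B →ₗ[ResidueField B] V) hf).finrank_eq

end helpers

section main

variable (k B : Type u) [Field k] [CommRing B] [Algebra k B] [IsLocalRing B]

/-- if the residue field of `B` is `k`, then `𝔪/𝔪² → κ ⊗ Ω_{B/k}` is bijective. -/
lemma bijective_kerCotangentToTensor
    (hres : Function.Bijective (algebraMap k (IsLocalRing.ResidueField B))) :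
    Bijective (kerCotangentToTensor k B (ResidueField B)) := by
  have hs : Surjective (algebraMap B (ResidueField B)) := residue_surjective
  constructor
  · let e : k ≃ₐ[k] ResidueField B := AlgEquiv.ofBijective (Algebra.ofId k _) hres
    let g : ResidueField B →ₐ[k] B ⧸ (RingHom.ker (algebraMap B (ResidueField B)) ^ 2) :=
      (Algebra.ofId k _).comp e.symm.toAlgHom
    have hg : (IsScalarTower.toAlgHom k B (ResidueField B)).kerSquareLift.comp g =
        AlgHom.id k (ResidueField B) := by
      apply AlgHom.ext
      intro x
      obtain ⟨c, rfl⟩ := e.surjective x
      simp [g, e]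
    obtain ⟨l, hl⟩ := (retractionKerCotangentToTensorEquivSection (R := k) hs).symm ⟨g, hg⟩
    exact Function.LeftInverse.injective (g := l) fun x => DFunLike.congr_fun hl x
  · intro y
    have h1 := exact_kerCotangentToTensor_mapBaseChange k B (ResidueField B) hs
    have : Subsingleton Ω[ResidueField B⁄k] :=
      KaehlerDifferential.subsingleton_of_surjective k _ hres.surjective
    exact (h1 y).mp (Subsingleton.elim _ _)

end main

/-- Let k be a field and B a local ring containing k whose residue field is k (the composite k → B → B/m
is bijective), and which is a localization of a finitely generated k-algebra (essentially of finite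
type over k); let d = dim B. If the module of differentials Ω_{B/k} is free of rank d then B is a
regular local ring. Conversely, if k is perfect and B is a regular local ring, then Ω_{B/k} is free
of rank d. (The published statement assumes k perfect as one of its hypotheses and asserts the
equivalence; its proof of the first implication does not use perfectness, so that hypothesis is
placed on the converse only.) -/
theorem result (k B : Type u) [Field k] [CommRing B] [Algebra k B]
    [IsLocalRing B] [Algebra.EssFiniteType k B]
    (hres : Function.Bijective (algebraMap k (IsLocalRing.ResidueField B)))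
    (d : ℕ) (hd : ringKrullDim B = (d : WithBot ℕ∞)) :
    ((Module.Free B (KaehlerDifferential k B) ∧ Module.finrank B (KaehlerDifferential k B) = d) →
        IsRegularLocalRing B) ∧
      (PerfectField k → IsRegularLocalRing B →
        Module.Free B (KaehlerDifferential k B) ∧ Module.finrank B (KaehlerDifferential k B) = d) := by
  haveI : IsNoetherianRing B := Algebra.EssFiniteType.isNoetherianRing k B
  have hI : RingHom.ker (algebraMap B (IsLocalRing.ResidueField B)) = maximalIdeal B :=
    IsLocalRing.ker_residue
  have hbij := bijective_kerCotangentToTensor k B hres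
  constructor
  · rintro ⟨hfree, hrank⟩
    apply IsRegularLocalRing.of_spanFinrank_maximalIdeal_le
    rw [hd]
    have h1 := spanFinrank_le_of_injective _ hI (ResidueField B ⊗[B] Ω[B⁄k])
      (kerCotangentToTensor k B (ResidueField B)) hbij.injective
    rw [Module.finrank_baseChange, hrank] at h1
    exact_mod_cast h1
  · intro hperf hreg
    let q : Ideal (Algebra.EssFiniteType.subalgebra k B) :=
      (maximalIdeal B).comap (algebraMap (Algebra.EssFiniteType.subalgebra k B) B)
    haveI : q.IsPrime := Ideal.comap_isPrime _ _
    have hM : Algebra.EssFiniteType.submonoid k B = q.primeCompl := by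
      ext x
      change IsUnit (algebraMap _ B x) ↔ ¬ (algebraMap _ B x ∈ maximalIdeal B)
      rw [IsLocalRing.mem_maximalIdeal, mem_nonunits_iff, not_not]
    haveI : IsLocalization q.primeCompl B := hM ▸ Algebra.EssFiniteType.isLocalization k B
    let e : Localization.AtPrime q ≃ₐ[Algebra.EssFiniteType.subalgebra k B] B :=
      IsLocalization.algEquiv q.primeCompl _ _
    haveI : IsRegularLocalRing (Localization.AtPrime q) :=
      IsRegularLocalRing.of_ringEquiv e.symm.toRingEquiv
    have hsm : Algebra.FormallySmooth k (Localization.AtPrime q) :=
      (Groth.Agent.Lib.Helper62.SmoothReg.isSmoothAt_iff_isRegularLocalRing_of_perfectField k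
        (Algebra.EssFiniteType.subalgebra k B) q).mpr inferInstance
    haveI : Algebra.FormallySmooth k B := Algebra.FormallySmooth.of_equiv (e.restrictScalars k)
    haveI : Module.Free B Ω[B⁄k] := Module.free_of_flat_of_isLocalRing
    refine ⟨inferInstance, ?_⟩
    have h1 := spanFinrank_eq_of_bijective _ hI (ResidueField B ⊗[B] Ω[B⁄k])
      (kerCotangentToTensor k B (ResidueField B)) hbij
    rw [Module.finrank_baseChange] at h1
    have h2 : ((maximalIdeal B).spanFinrank : WithBot ℕ∞) = ringKrullDim B :=
      IsRegularLocalRing.spanFinrank_maximalIdeal
    rw [hd, h1] at h2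
    exact_mod_cast h2

end Groth.Agent.S11311
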