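import Groth.Statements.S9885
-- import your own Groth.Agent.* helpers here
import Mathlib
import Groth.Agent.Lib.Helper40.AlgSpBasic

set_option autoImplicit false
universe u
open CategoryTheory CategoryTheory.Limits AlgebraicGeometry
open AlgSp

namespace Groth.Agent.S9885

/-- Let `a : F ⟶ G` be a map of fppf sheaves of sets over `S` which is representable by schemes, flat,
locally of finite presentation and surjective (in the representable sense). Then `a` is surjective
as a map of sheaves (locally surjective). -/
theorem result (S : Scheme.{u}) (F G : AlgSp.Sp S) (a : F ⟶ G)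
    (h₁ : AlgSp.RepWith @Flat a) (h₂ : AlgSp.RepWith @LocallyOfFinitePresentation a)
    (h₃ : AlgSp.RepWith @Surjective a) : Sheaf.IsLocallySurjective a := by
  refine ⟨fun {U} s => ?_⟩
  have hr : AlgSp.Representable a := h₁.rep
  let x : (AlgSp.yon S).obj U ⟶ G := (AlgSp.J S).uliftYonedaEquiv.symm s
  have hx : (AlgSp.J S).uliftYonedaEquiv x = s := Equiv.apply_symm_apply _ _
  refine Groth.Agent.Lib.Helper40.AlgSpBasic.mem_J_of_mem _ (hr.snd x) ?_
    (h₁.property_snd x) (h₂.property_snd x) (h₃.property_snd x)
  refine ⟨(AlgSp.J S).uliftYonedaEquiv (hr.fst x), ?_⟩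
  have e1 := GrothendieckTopology.uliftYonedaEquiv_comp (AlgSp.J S) (hr.fst x) a
  have e2 := GrothendieckTopology.uliftYonedaEquiv_naturality (AlgSp.J S) x (hr.snd x)
  rw [hx] at e2
  rw [hr.w x] at e1
  exact e1.symm.trans e2.symm

end Groth.Agent.S9885
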