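import Groth.Statements.S9938
import Groth.Agent.Lib.Helper78.AlgSpFieldPt
import Groth.Agent.Lib.Helper52.Points

set_option autoImplicit false
universe u
open CategoryTheory CategoryTheory.Limits AlgebraicGeometry
open AlgSp

namespace Groth.Agent.S9938

open Groth.Agent.Lib.Helper52 Groth.Agent.Lib.Helper78.AlgSpFieldPt
  Groth.Agent.Lib.Helper78.AlgSpFibre

/-- injectivity on field-valued points implies universal injectivity (any sheaves). -/
theorem univInj_of_fieldInj {S : Scheme.{u}} {F G : Sp S} (f : F ⟶ G)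
    (h : ∀ (K : Type u) [Field K] (str : Spec (CommRingCat.of K) ⟶ S),
        Function.Injective (fun a : (AlgSp.yon S).obj (Over.mk str) ⟶ F => a ≫ f)) :
    AlgSp.IsUnivInjectiveMor f := by
  intro Z Z' _ g fst snd sq p₁ p₂ hp
  induction p₁ using Points.ind with
  | h a₁ =>
  induction p₂ using Points.ind with
  | h a₂ =>
  rw [Points.map_mk, Points.map_mk] at hp
  obtain ⟨Ω, _, w, α, β, hαβ⟩ := (rel_iff_toHom _ _).1 (Points.mk_eq_mk_iff.1 hp)
  rw [FieldPt.toHom_map, FieldPt.toHom_map] at hαβ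
  refine Points.sound ((rel_iff_toHom _ _).2 ⟨Ω, inferInstance, w, α, β, ?_⟩)
  have hsnd : ((AlgSp.yon S).map α ≫ a₁.toHom) ≫ snd = ((AlgSp.yon S).map β ≫ a₂.toHom) ≫ snd :=
    (Category.assoc _ _ _).trans (hαβ.trans (Category.assoc _ _ _).symm)
  apply sq.hom_ext _ hsnd
  apply h Ω w
  change (((AlgSp.yon S).map α ≫ a₁.toHom) ≫ fst) ≫ f = (((AlgSp.yon S).map β ≫ a₂.toHom) ≫ fst) ≫ f
  rw [Category.assoc, Category.assoc, sq.w, ← Category.assoc, ← Category.assoc, hsnd,
    Category.assoc, Category.assoc, Category.assoc, Category.assoc, sq.w]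

/-- universal injectivity implies that the diagonal is surjective (target of the base change is
the source `F`, which must be an algebraic space). -/
theorem diagSurj_of_univInj {S : Scheme.{u}} {F G : Sp S} (hF : IsAlgSpace F) (f : F ⟶ G)
    (h : AlgSp.IsUnivInjectiveMor f) : AlgSp.IsSurjectiveMor (pullback.diagonal f) := by
  intro z
  have hinj : Function.Injective (Points.map (pullback.snd f f)) :=
    h hF f (pullback.fst f f) (pullback.snd f f) (IsPullback.of_hasPullback f f)
  refine ⟨Points.map (pullback.snd f f) z, hinj ?_⟩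
  rw [← Points.map_comp, pullback.diagonal_snd, Points.map_id]

/-- surjectivity of the diagonal implies injectivity on field valued points. -/
theorem fieldInj_of_diagSurj {S : Scheme.{u}} {F G : Sp S} (hF : RepAll F) (f : F ⟶ G)
    (h : AlgSp.IsSurjectiveMor (pullback.diagonal f))
    (K : Type u) [Field K] (str : Spec (CommRingCat.of K) ⟶ S) :
    Function.Injective (fun a : (AlgSp.yon S).obj (Over.mk str) ⟶ F => a ≫ f) := by
  intro a b hab
  change a ≫ f = b ≫ f at hab
  let c : (AlgSp.yon S).obj (Over.mk str) ⟶ pullback f f := pullback.lift a b hab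
  obtain ⟨x, hx⟩ := h (Points.mk (fieldPtOfHom str c))
  induction x using Points.ind with
  | h ξ =>
  rw [Points.map_mk] at hx
  obtain ⟨Ω, _, w, α, β, hαβ⟩ := (rel_iff_toHom _ _).1 (Points.mk_eq_mk_iff.1 hx)
  rw [FieldPt.toHom_map, fieldPtOfHom_toHom] at hαβ
  let α' : Over.mk w ⟶ ξ.pt := α
  let β' : Over.mk w ⟶ Over.mk str := β
  let Δ : F ⟶ pullback f f := pullback.diagonal f
  have hαβ' : ((AlgSp.yon S).map α' ≫ ξ.toHom) ≫ Δ = (AlgSp.yon S).map β' ≫ c :=
    (Category.assoc _ _ _).trans hαβ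
  have hc1 : c ≫ pullback.fst f f = a := pullback.lift_fst _ _ _
  have hc2 : c ≫ pullback.snd f f = b := pullback.lift_snd _ _ _
  have hd1 : Δ ≫ pullback.fst f f = 𝟙 _ := pullback.diagonal_fst f
  have hd2 : Δ ≫ pullback.snd f f = 𝟙 _ := pullback.diagonal_snd f
  have h1 : (AlgSp.yon S).map α' ≫ ξ.toHom = (AlgSp.yon S).map β' ≫ a := by
    calc (AlgSp.yon S).map α' ≫ ξ.toHom
        = ((AlgSp.yon S).map α' ≫ ξ.toHom) ≫ Δ ≫ pullback.fst f f := by
          rw [hd1, Category.comp_id]
      _ = ((AlgSp.yon S).map β' ≫ c) ≫ pullback.fst f f := by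
          rw [← Category.assoc, hαβ']
      _ = (AlgSp.yon S).map β' ≫ a := by rw [Category.assoc, hc1]
  have h2 : (AlgSp.yon S).map α' ≫ ξ.toHom = (AlgSp.yon S).map β' ≫ b := by
    calc (AlgSp.yon S).map α' ≫ ξ.toHom
        = ((AlgSp.yon S).map α' ≫ ξ.toHom) ≫ Δ ≫ pullback.snd f f := by
          rw [hd2, Category.comp_id]
      _ = ((AlgSp.yon S).map β' ≫ c) ≫ pullback.snd f f := by
          rw [← Category.assoc, hαβ']
      _ = (AlgSp.yon S).map β' ≫ b := by rw [Category.assoc, hc2]
  exact eq_of_yon_map_comp_eq hF β' a b (h1.symm.trans h2)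

/-- For a morphism of algebraic spaces, injectivity on field-valued points, universal injectivity, and
surjectivity of the diagonal are equivalent. -/
theorem result {S : Scheme.{u}} {X Y : AlgSp.Space S} (f : X ⟶ Y) :
    ((∀ (K : Type u) [Field K] (str : Spec (CommRingCat.of K) ⟶ S),
        Function.Injective (fun a : (AlgSp.yon S).obj (Over.mk str) ⟶ X.obj => a ≫ f.hom)) ↔ AlgSp.IsUnivInjectiveMor f.hom) ∧
    (AlgSp.IsUnivInjectiveMor f.hom ↔ AlgSp.IsSurjectiveMor (pullback.diagonal f.hom)) := by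
  have hX : RepAll X.obj := repAll_of_isAlgSpace X.property
  refine ⟨⟨fun h => univInj_of_fieldInj f.hom h, fun h K _ str =>
    fieldInj_of_diagSurj hX f.hom (diagSurj_of_univInj X.property f.hom h) K str⟩,
    ⟨fun h => diagSurj_of_univInj X.property f.hom h, fun h =>
      univInj_of_fieldInj f.hom (fun K _ str => fieldInj_of_diagSurj hX f.hom h K str)⟩⟩

end Groth.Agent.S9938
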