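import Groth.Statements.S1392
import Mathlib
import Groth.Agent.Lib.Helper31.FibCritA
import Groth.Agent.Lib.Helper35.PullbackChart
import Groth.Agent.Lib.Helper35.StalkChart
import Groth.Agent.Lib.QCoh.Helper74_FlatOverBaseChange

set_option autoImplicit false
universe u
open FlatMor

namespace Groth.Agent.S1392
open AlgebraicGeometry CategoryTheory Limits
open AlgebraicGeometry CategoryTheory Limits

/-- Flatness at a point is stable under base change: in a cartesian square `X' = X ×_S S'`, if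
`g : S' ⟶ S` is flat at `f' x'` then `g' : X' ⟶ X` is flat at `x'`. -/
theorem flat_stalkMap_of_isPullback {X S X' S' : Scheme.{u}} {f : X ⟶ S} {f' : X' ⟶ S'} {g' : X' ⟶ X}
    {g : S' ⟶ S} (hc : IsPullback g' f' f g) (x' : X') (hg : (g.stalkMap (f' x')).hom.Flat) :
    (g'.stalkMap x').hom.Flat := by
  have hxy : f (g' x') = g (f' x') := by
    simp only [← Scheme.Hom.comp_apply, hc.w]
  obtain ⟨_, ⟨W, hW, rfl⟩, hsW, -⟩ :=
    S.isBasis_affineOpens.exists_subset_of_mem_open (Set.mem_univ (f (g' x'))) isOpen_univ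
  obtain ⟨_, ⟨V, hV, rfl⟩, hxV, hVW⟩ :=
    X.isBasis_affineOpens.exists_subset_of_mem_open hsW (W.2.preimage f.continuous)
  have hs'W : g (f' x') ∈ W := hxy ▸ hsW
  obtain ⟨_, ⟨W', hW', rfl⟩, hs'W', hW'W⟩ :=
    S'.isBasis_affineOpens.exists_subset_of_mem_open hs'W (W.2.preimage g.continuous)
  let V' : X'.Opens := g' ⁻¹ᵁ V ⊓ f' ⁻¹ᵁ W'
  have hV' : IsAffineOpen V' :=
    Groth.Agent.Lib.Helper35.isAffineOpen_pullback_chart hc hW'W hVW rfl hW hW' hV
  have hpush := Groth.Agent.Lib.Helper35.isPushout_appLE_of_isAffineOpen hc (UT := W') hW'W hVW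
    (UY := V') rfl hW hW' hV
  have hx'V' : x' ∈ V' := ⟨hxV, hs'W'⟩
  have hV'V : V' ≤ g' ⁻¹ᵁ V := inf_le_left
  have hV'W' : V' ≤ f' ⁻¹ᵁ W' := inf_le_right
  let a : Γ(S, W) →+* Γ(X, V) := (f.appLE W V hVW).hom
  let b : Γ(S, W) →+* Γ(S', W') := (g.appLE W W' hW'W).hom
  let c : Γ(X, V) →+* Γ(X', V') := (g'.appLE V V' hV'V).hom
  let d : Γ(S', W') →+* Γ(X', V') := (f'.appLE W' V' hV'W').hom
  have hw : c.comp a = d.comp b := congrArg CommRingCat.Hom.hom hpush.w
  letI : Algebra Γ(S, W) Γ(X, V) := a.toAlgebra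
  letI : Algebra Γ(S, W) Γ(S', W') := b.toAlgebra
  letI : Algebra Γ(X, V) Γ(X', V') := c.toAlgebra
  letI : Algebra Γ(S', W') Γ(X', V') := d.toAlgebra
  letI : Algebra Γ(S, W) Γ(X', V') := (d.comp b).toAlgebra
  haveI : IsScalarTower Γ(S, W) Γ(S', W') Γ(X', V') := IsScalarTower.of_algebraMap_eq' rfl
  haveI : IsScalarTower Γ(S, W) Γ(X, V) Γ(X', V') := IsScalarTower.of_algebraMap_eq' hw.symm
  haveI hP : Algebra.IsPushout Γ(S, W) Γ(X, V) Γ(S', W') Γ(X', V') :=
    (CommRingCat.isPushout_iff_isPushout.mp hpush.flip).symm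
  let r' := (hV'.primeIdealOf ⟨x', hx'V'⟩).asIdeal
  let p' := (hW'.primeIdealOf ⟨f' x', hs'W'⟩).asIdeal
  have hp' : p' = r'.comap (algebraMap Γ(S', W') Γ(X', V')) :=
    congr($(IsAffineOpen.comap_primeIdealOf_appLE W' hW' V' hV' hV'W' hx'V').1).symm
  haveI h1 : Module.Flat Γ(S, W) (Localization.AtPrime p') :=
    (Groth.Agent.Lib.Helper35.flat_stalkMap_iff W hW W' hW' hW'W hs'W').mp hg
  have h2 : Module.Flat Γ(X, V) (Localization.AtPrime r') :=
    Groth.Agent.Lib.Helper31.FibCrit.flat_atPrime_of_isPushout Γ(S, W) Γ(X, V) Γ(S', W') Γ(X', V')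
      r' p' hp'
  exact (Groth.Agent.Lib.Helper35.flat_stalkMap_iff V hV V' hV' hV'V hx'V').mpr h2


open AlgebraicGeometry CategoryTheory Limits in
/-- In a cartesian square X' = S' ×_S X with projections g' : X' → X and f' : X' → S', let F be a
quasi-coherent O_X-module; whenever g : S' → S is flat at f' x' and the pullback of F to X' is
S'-flat at x', F itself is S-flat at g' x'. -/
theorem result {X S X' S' : Scheme.{u}} (f : X ⟶ S) (f' : X' ⟶ S') (g' : X' ⟶ X) (g : S' ⟶ S) (hc : IsPullback g' f' f g)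
    (F : X.Modules) (hF : Coh.IsQCoh F) (x' : X') (hg : (g.stalkMap (f' x')).hom.Flat)
    (h : FlatMod.IsFlatOverAt f' ((Scheme.Modules.pullback g').obj F) x') :
    FlatMod.IsFlatOverAt f F (g' x') := by
  haveI : F.IsQuasicoherent := hF
  have hg' := flat_stalkMap_of_isPullback hc x' hg
  have h1 := Groth.Agent.Lib.QCoh.isFlatOverAt_comp_of_flat_stalkMap f' g
    ((Scheme.Modules.pullback g').obj F) x' hg h
  have h2 : FlatMod.IsFlatOverAt (g' ≫ f) ((Scheme.Modules.pullback g').obj F) x' := by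
    rw [hc.w]; exact h1
  exact (Groth.Agent.Lib.QCoh.isFlatOverAt_pullback_iff_of_flat_stalkMap g' f F x' hg').mpr h2

end Groth.Agent.S1392
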