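import Groth.Statements.S4656
import Mathlib.RingTheory.Flat.FaithfullyFlat.Algebra

set_option autoImplicit false
open CategoryTheory AlgebraicGeometry
universe u
open FDesc

namespace Groth.Agent.S4656

open TensorProduct in
/-- If `T` is faithfully flat over `S` and flat over `R`, then `S` is flat over `R`. -/
lemma flat_of_faithfullyFlat_of_flat (R S T : Type u) [CommRing R] [CommRing S] [CommRing T]
    [Algebra R S] [Algebra S T] [Algebra R T] [IsScalarTower R S T]
    [Module.FaithfullyFlat S T] [Module.Flat R T] : Module.Flat R S := by
  rw [Module.Flat.iff_lTensor_preserves_injective_linearMap]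
  intro N P _ _ _ _ f hf
  have hfl : Function.Injective (f.lTensor T) :=
    Module.Flat.lTensor_preserves_injective_linearMap f hf
  let g : S ⊗[R] N →ₗ[S] S ⊗[R] P := AlgebraTensorModule.map LinearMap.id f
  have hg : ∀ x, g x = f.lTensor S x := by
    intro x
    induction x using TensorProduct.induction_on with
    | zero => simp
    | tmul s n => simp [g]
    | add x y hx hy => simp [hx, hy]
  suffices h : Function.Injective g by
    intro x y hxy
    exact h (by rw [hg, hg, hxy])
  rw [← Module.FaithfullyFlat.lTensor_injective_iff_injective S T]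
  have key : ∀ x, AlgebraTensorModule.cancelBaseChange R S S T P (g.lTensor T x) =
      f.lTensor T (AlgebraTensorModule.cancelBaseChange R S S T N x) := by
    intro x
    induction x using TensorProduct.induction_on with
    | zero => simp
    | tmul t y =>
      induction y using TensorProduct.induction_on with
      | zero => simp
      | tmul s n => simp [g]
      | add y z hy hz => simp only [TensorProduct.tmul_add, map_add, hy, hz]
    | add x y hx hy => simp only [map_add, hx, hy]
  intro x y hxy
  have := congrArg (AlgebraTensorModule.cancelBaseChange R S S T P) hxy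
  rw [key, key] at this
  exact (AlgebraTensorModule.cancelBaseChange R S S T N).injective (hfl this)


/-- Let f : X → Y and g : Y → Z be morphisms of schemes and x a point of X at which f is flat (the local
ring of X at x is flat over that of Y at f(x)). Then the composite g ∘ f is flat at x if and only if
g is flat at f(x). -/
theorem result {X Y Z : Scheme.{u}} (f : X ⟶ Y) (g : Y ⟶ Z) (x : X)
    (hf : (f.stalkMap x).hom.Flat) :
    ((f ≫ g).stalkMap x).hom.Flat ↔ (g.stalkMap (f x)).hom.Flat := by
  have hcomp : ((f ≫ g).stalkMap x).hom =
      (f.stalkMap x).hom.comp (g.stalkMap (f x)).hom := by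
    rw [Scheme.Hom.stalkMap_comp]; rfl
  rw [hcomp]
  constructor
  · intro h
    letI : Algebra (Z.presheaf.stalk (g (f x))) (Y.presheaf.stalk (f x)) :=
      (g.stalkMap (f x)).hom.toAlgebra
    letI : Algebra (Y.presheaf.stalk (f x)) (X.presheaf.stalk x) := (f.stalkMap x).hom.toAlgebra
    letI : Algebra (Z.presheaf.stalk (g (f x))) (X.presheaf.stalk x) :=
      ((f.stalkMap x).hom.comp (g.stalkMap (f x)).hom).toAlgebra
    haveI : IsScalarTower (Z.presheaf.stalk (g (f x))) (Y.presheaf.stalk (f x))
        (X.presheaf.stalk x) := IsScalarTower.of_algebraMap_eq fun _ ↦ rfl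
    haveI : Module.Flat (Y.presheaf.stalk (f x)) (X.presheaf.stalk x) := hf
    haveI : Module.Flat (Z.presheaf.stalk (g (f x))) (X.presheaf.stalk x) := h
    haveI : IsLocalHom (algebraMap (Y.presheaf.stalk (f x)) (X.presheaf.stalk x)) :=
      inferInstanceAs (IsLocalHom (f.stalkMap x).hom)
    have : Module.FaithfullyFlat (Y.presheaf.stalk (f x)) (X.presheaf.stalk x) :=
      Module.FaithfullyFlat.of_flat_of_isLocalHom
    exact flat_of_faithfullyFlat_of_flat (Z.presheaf.stalk (g (f x))) (Y.presheaf.stalk (f x))
      (X.presheaf.stalk x)
  · intro h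
    exact RingHom.Flat.comp h hf

end Groth.Agent.S4656
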