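import Groth.Statements.S10526
import Groth.Agent.Lib.Helper78.AlgSpLocPFpqc
import Groth.Agent.Lib.Helper78.AlgSpLocPLoft

set_option autoImplicit false
universe u
open CategoryTheory CategoryTheory.Limits AlgebraicGeometry
open AlgSp

namespace Groth.Agent.S10526

/-- The property of morphisms of algebraic spaces over S given by f is locally of finite type (on etale
charts) is fpqc local on the base: for an fpqc covering of an algebraic space Y by algebraic spaces
Y_i, a morphism f : X ⟶ Y of algebraic spaces and cartesian squares X_i = Y_i ×_Y X, f has the
property if and only if every X_i ⟶ Y_i has it. -/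
theorem result (S : Scheme.{u}) :
    AlgSp.IsLocalOnBase (AlgSp.IsFpqcCover (S := S)) (AlgSp.LocP @LocallyOfFiniteType) := by
  exact Groth.Agent.Lib.Helper78.AlgSpLocPFpqc.isLocalOnBase_fpqc_locP
    Groth.Agent.Lib.Helper78.AlgSpLocPLoft.etLocalST_loft S

end Groth.Agent.S10526
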