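import Groth.Statements.S10535
import Groth.Agent.Lib.Helper30.AlgSpFpqc2
-- import your own Groth.Agent.* helpers here

set_option autoImplicit false
universe u
open CategoryTheory CategoryTheory.Limits AlgebraicGeometry
open AlgSp

namespace Groth.Agent.S10535

open Groth.Agent.Lib.Helper30

set_option backward.isDefEq.respectTransparency false


/-- The property of morphisms of algebraic spaces over S given by f is separated (diagonal representable
and a closed immersion) is fpqc local on the base: for an fpqc covering of an algebraic space Y by
algebraic spaces Y_i, a morphism f : X ⟶ Y of algebraic spaces and cartesian squares X_i = Y_i ×_Y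
X, f has the property if and only if every X_i ⟶ Y_i has it. -/
theorem result (S : Scheme.{u}) :
    AlgSp.IsLocalOnBase (AlgSp.IsFpqcCover (S := S)) AlgSp.IsSeparatedMor := by
  intro ι Y Yi g hY hYi hcov X f hX Xi p q hXi sq
  constructor
  · intro hf i
    exact diagonal_of_isPullback (AlgSp.RepWith @IsClosedImmersion) (sq i) hf
  · intro hp
    exact repWith_diagonal_of_fpqc_cover @IsClosedImmersion Yi g hcov f
      (representable_diagonal hX.diag f) Xi p q sq hp

end Groth.Agent.S10535
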