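import Groth.Statements.S10271
import Groth.Agent.Lib.Helper30.AlgSpAffCover
import Groth.Agent.Lib.Helper78.AlgSpLocP3
import Groth.Agent.Lib.Helper78.AlgSpLocP4
import Groth.Agent.Lib.Helper78.AlgSpFibre
import Groth.Agent.S10536
-- import your own Groth.Agent.* helpers here

set_option autoImplicit false
universe u
open CategoryTheory CategoryTheory.Limits AlgebraicGeometry
open AlgSp

namespace Groth.Agent.S10271

open Groth.Agent.Lib.Helper30 Groth.Agent.Lib.Helper52

set_option backward.isDefEq.respectTransparency false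

/-- A morphism of algebraic spaces is finite if and only if it is affine and proper. -/
theorem result {S : Scheme.{u}} {X Y : AlgSp.Space S} (f : X ⟶ Y) :
    AlgSp.IsFiniteMor f.hom ↔ (AlgSp.IsAffineMor f.hom ∧ AlgSp.IsProperMor f.hom) := by
  constructor
  · intro hf
    refine ⟨fun Z hZ g => ?_, ?_⟩
    · obtain ⟨W, i, fst, sq, hW, hi⟩ := hf hZ g
      exact ⟨W, i, fst, sq, hW⟩
    · obtain ⟨ι, V, g, hV, hge, hcov⟩ := exists_affine_etale_cover Y.property
      choose W k fst sq hW hfin using fun i => hf (hV i) (g i)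
      refine ((Groth.Agent.S10536.result S) _ g Y.property (fun i => AlgSp.IsAlgSpace.yon_obj _) hcov
        f.hom X.property (fun i => (AlgSp.yon S).obj (W i)) (fun i => (AlgSp.yon S).map (k i)) fst
        (fun i => AlgSp.IsAlgSpace.yon_obj _) sq).2 fun i => ?_
      have : IsFinite (k i).left := hfin i
      exact isProperMor_yon_map (k i)
  · rintro ⟨hA, hs, ⟨hl, hq⟩, hU⟩ Z hZ g
    obtain ⟨W, i, fst, sq, hW⟩ := hA hZ g
    have h1 : UniversallyClosed i.left := universallyClosed_of_isUnivClosedMor hU g fst i sq
    have h2 : IsAffineHom i.left := by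
      have : IsAffine Z.left := hZ
      have : IsAffine W.left := hW
      infer_instance
    have h3 : IsIntegralHom i.left := IsIntegralHom.iff_universallyClosed_and_isAffineHom.mpr ⟨h1, h2⟩
    have h4 : LocP @LocallyOfFiniteType ((yon S).map i) :=
      Groth.Agent.Lib.Helper78.AlgSpLocP.locP_of_isPullback
        Groth.Agent.Lib.Helper78.AlgSpLocPLoft.etLocalST_loft sq
        (Groth.Agent.Lib.Helper78.AlgSpFibre.repAll_of_isAlgSpace Y.property)
        X.property.atlas Y.property.atlas hl
    have h5 : LocallyOfFiniteType i.left := AlgSp.locP_yon_map h4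
    exact ⟨W, i, fst, sq, hW, (IsFinite.iff_isIntegralHom_and_locallyOfFiniteType _).mpr ⟨h3, h5⟩⟩

end Groth.Agent.S10271
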