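import Groth.Statements.S10540
import Groth.Agent.Lib.Helper30.AlgSpFiniteProper
import Groth.Agent.Lib.Helper78.AlgSpLqfDesc
import Groth.Agent.Lib.Helper78.AlgSpMisc
import Groth.Agent.S10536
import Groth.Agent.S10271
import Groth.Agent.S10267
-- import your own Groth.Agent.* helpers here

set_option autoImplicit false
universe u
open CategoryTheory CategoryTheory.Limits AlgebraicGeometry
open AlgSp

namespace Groth.Agent.S10540


/-- The property of morphisms of algebraic spaces over S given by f is finite (every base change to an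
affine scheme is an affine scheme finite over it) is fpqc local on the base: for an fpqc covering of
an algebraic space Y by algebraic spaces Y_i, a morphism f : X ⟶ Y of algebraic spaces and cartesian
squares X_i = Y_i ×_Y X, f has the property if and only if every X_i ⟶ Y_i has it. -/
theorem result (S : Scheme.{u}) :
    AlgSp.IsLocalOnBase (AlgSp.IsFpqcCover (S := S)) AlgSp.IsFiniteMor := by
  have key : ∀ {X Y : AlgSp.Sp S} (hX : AlgSp.IsAlgSpace X) (hY : AlgSp.IsAlgSpace Y) (f : X ⟶ Y),
      AlgSp.IsFiniteMor f ↔ (AlgSp.IsProperMor f ∧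
        AlgSp.LocP (@LocallyQuasiFinite ⊓ @LocallyOfFiniteType) f) := by
    intro X Y hX hY f
    let X' : AlgSp.Space S := ⟨X, hX⟩
    let Y' : AlgSp.Space S := ⟨Y, hY⟩
    let f' : X' ⟶ Y' := ObjectProperty.homMk f
    constructor
    · intro h
      refine ⟨((Groth.Agent.S10271.result f').1 h).2, ?_⟩
      have hrep : AlgSp.RepWith @IsFinite f := (Groth.Agent.S10267.result f').2.1 h
      have hrep' : AlgSp.RepWith (@LocallyQuasiFinite ⊓ @LocallyOfFiniteType) f := by
        refine ⟨hrep.1, fun _ _ g fst snd sq => ?_⟩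
        have : IsFinite snd.left := hrep.2 g fst snd sq
        exact ⟨(inferInstance : LocallyQuasiFinite snd.left),
          (inferInstance : LocallyOfFiniteType snd.left)⟩
      exact Groth.Agent.Lib.Helper78.AlgSpMisc.locP_of_repWith
        Groth.Agent.Lib.Helper78.AlgSpLocPLqf.etLocalST_lqf _ hY.atlas hrep'
    · rintro ⟨hp, hq⟩
      exact Groth.Agent.Lib.Helper30.ZMT.isFiniteMor_of_isProperMor_of_lqf hX hY f hp hq
  have hand := Groth.Agent.Lib.Helper78.AlgSpLqfDesc.isLocalOnBase_and
    (Groth.Agent.S10536.result S) (Groth.Agent.Lib.Helper78.AlgSpLqfDesc.isLocalOnBase_fpqc_lqf S)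
  intro ι Y Yi g hY hYi hcov X f hX Xi p q hXi sq
  rw [key hX hY f]
  have := hand Yi g hY hYi hcov f hX Xi p q hXi sq
  refine Iff.trans this ?_
  exact forall_congr' fun i => (key (hXi i) (hYi i) (p i)).symm

end Groth.Agent.S10540
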