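import Groth.Statements.S9687
import Groth.Agent.Lib.Helper73.SchemeDimDict
import Groth.Agent.S9682
import Mathlib.AlgebraicGeometry.Noetherian
import Mathlib.AlgebraicGeometry.Morphisms.FiniteType

set_option autoImplicit false
universe u
open CategoryTheory CategoryTheory.Limits AlgebraicGeometry
open Mor

namespace Groth.Agent.S9687

open Groth.Agent.Lib.Helper73.SchemeDim Groth.Agent.Lib.Helper73.DimFormula

/-- Let S be locally Noetherian, f : X ⟶ S locally of finite type and x a point of X with image s. Let n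
be the transcendence degree of κ(x) over κ(s) and let E bound the transcendence degree of κ(ξ) over
κ(f ξ) for every generic point ξ of an irreducible component of X passing through x. Then dim
O_{X,x} + n ≤ dim O_{S,s} + E. (The published statement takes E to be the maximum of these
transcendence degrees; the statement with any upper bound E is equivalent.) -/
theorem result {X S : Scheme.{u}} [IsLocallyNoetherian S]
    (f : X ⟶ S) [LocallyOfFiniteType f] (x : X) (n E : ℕ)
    (hn : letI := (f.residueFieldMap x).hom.toAlgebra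
      Algebra.trdeg (S.residueField (f.base x)) (X.residueField x) = n)
    (hE : ∀ ξ : X, closure {ξ} ∈ irreducibleComponents ↥X → ξ ⤳ x →
      letI := (f.residueFieldMap ξ).hom.toAlgebra
      Algebra.trdeg (S.residueField (f.base ξ)) (X.residueField ξ) ≤ E) :
    ringKrullDim (X.presheaf.stalk x) + n ≤ ringKrullDim (S.presheaf.stalk (f.base x)) + E := by
  -- choose affine opens
  obtain ⟨_, ⟨V, hV : IsAffineOpen V, rfl⟩, hfxV, -⟩ :=
    (S.isBasis_affineOpens).exists_subset_of_mem_open (Set.mem_univ (f.base x)) isOpen_univ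
  obtain ⟨_, ⟨U, hU : IsAffineOpen U, rfl⟩, hxU, hUV⟩ :=
    (X.isBasis_affineOpens).exists_subset_of_mem_open (show x ∈ (f ⁻¹ᵁ V : Set X) from hfxV)
      (f ⁻¹ᵁ V).isOpen
  have e : U ≤ f ⁻¹ᵁ V := hUV
  letI : Algebra Γ(S, V) Γ(X, U) := (f.appLE V U e).hom.toAlgebra
  have halg : algebraMap Γ(S, V) Γ(X, U) = (f.appLE V U e).hom := rfl
  haveI : IsNoetherianRing Γ(S, V) := IsLocallyNoetherian.component_noetherian ⟨V, hV⟩
  haveI : Algebra.FiniteType Γ(S, V) Γ(X, U) := f.finiteType_appLE hV hU e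
  set q := (hU.primeIdealOf ⟨x, hxU⟩).asIdeal with hq
  set p := (hV.primeIdealOf ⟨f x, e hxU⟩).asIdeal with hp
  haveI hlo : q.LiesOver p := liesOver_primeIdealOf f x hV hU e hxU halg
  have h1 := trdeg_residueFieldMap_eq f x hV hU e hxU halg
  have hn' : Algebra.trdeg (Γ(S, V) ⧸ p) (Γ(X, U) ⧸ q) = n := by
    rw [← h1]; exact hn
  have key := height_add_le_of_forall_minimalPrimes q p n E hn' ?_
  · rw [ringKrullDim_stalk_eq_height hU x hxU, ringKrullDim_stalk_eq_height hV (f x) (e hxU)]
    exact_mod_cast key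
  · intro q₀ hq₀p hq₀min hq₀le
    obtain ⟨ξ, hξU, hξ⟩ := exists_primeIdealOf_eq hU ⟨q₀, hq₀p⟩
    have hξx : ξ ⤳ x := by
      rw [← primeIdealOf_le_iff_specializes hU x ξ hxU hξU, hξ]
      exact hq₀le
    have hξgen : closure {ξ} ∈ irreducibleComponents ↥X := by
      rw [Groth.Agent.S9682.closure_singleton_mem_irreducibleComponents_iff]
      intro x' hx'
      have hx'U : x' ∈ U := hx'.mem_open U.isOpen hξU
      have h2 : hU.primeIdealOf ⟨x', hx'U⟩ ≤ hU.primeIdealOf ⟨ξ, hξU⟩ :=
        (primeIdealOf_le_iff_specializes hU ξ x' hξU hx'U).mpr hx'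
      rw [hξ] at h2
      have h3 : (hU.primeIdealOf ⟨x', hx'U⟩).asIdeal = q₀ := by
        refine le_antisymm h2 ?_
        exact hq₀min.2 ⟨(hU.primeIdealOf ⟨x', hx'U⟩).2, bot_le⟩ h2
      have h4 : hU.primeIdealOf ⟨x', hx'U⟩ = hU.primeIdealOf ⟨ξ, hξU⟩ := by
        rw [hξ]; exact PrimeSpectrum.ext h3
      have := congrArg hU.fromSpec h4
      rw [hU.fromSpec_primeIdealOf, hU.fromSpec_primeIdealOf] at this
      exact this
    have h5 := hE ξ hξgen hξx
    haveI hlo' : (hU.primeIdealOf ⟨ξ, hξU⟩).asIdeal.LiesOver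
        (hV.primeIdealOf ⟨f ξ, e hξU⟩).asIdeal := liesOver_primeIdealOf f ξ hV hU e hξU halg
    have h6 := trdeg_residueFieldMap_eq f ξ hV hU e hξU halg
    rw [h6] at h5
    -- transport along q₀ = primeIdealOf ξ
    have hq₀ : (hU.primeIdealOf ⟨ξ, hξU⟩).asIdeal = q₀ := congrArg PrimeSpectrum.asIdeal hξ
    have hp₀ : (hV.primeIdealOf ⟨f ξ, e hξU⟩).asIdeal = q₀.under Γ(S, V) := by
      rw [← hq₀]; exact hlo'.over
    rw [trdeg_quotient_congr hq₀ hp₀] at h5
    exact h5

end Groth.Agent.S9687
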