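import Groth.Statements.S9758
import Groth.Agent.Lib.Helper9.LciMor2
import Groth.Agent.Lib.Helper8.SyntLCI
-- import your own Groth.Agent.* helpers here

set_option autoImplicit false
universe u
open FlatMor

namespace Groth.Agent.S9758

open AlgebraicGeometry CategoryTheory Limits in
/-- A morphism of schemes f : X ⟶ S is flat and a local complete intersection morphism (Koszul at every
point) if and only if it is syntomic. -/
theorem result {X S : Scheme.{u}} (f : X ⟶ S) :
    (Flat f ∧ ∀ x : X, Synt.IsKoszulAt f x) ↔ Synt.IsSyntomicMor f := by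
  constructor
  · rintro ⟨hflat, hK⟩ x
    obtain ⟨V, hV, hxV, -⟩ := exists_isAffineOpen_mem_and_subset (x := f x) (U := ⊤) trivial
    obtain ⟨U, e, hxU, hL⟩ :=
      Groth.Agent.Lib.Helper9.LciMor2.exists_affine_isLCI_of_isKoszulAt f x (hK x) ⟨V, hV⟩ hxV
    refine ⟨U, ⟨V, hV⟩, e, hxU, ?_⟩
    letI := (f.appLE V U.1 e).hom.toAlgebra
    have hfl : Module.Flat Γ(S, V) Γ(X, U.1) := Flat.flat_appLE f hV U.2 e
    exact (Groth.Agent.Lib.Helper8.SyntLCI.isSyntomic_iff _ _).mpr ⟨hfl, hL⟩
  · intro h
    constructor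
    · have hQ : RingHom.StableUnderCompositionWithLocalizationAwaySource RingHom.Flat := by
        intro R S T _ _ _ _ r _ f hf
        refine RingHom.Flat.comp ?_ hf
        rw [RingHom.flat_algebraMap_iff]
        exact IsLocalization.flat S (Submonoid.powers r)
      rw [HasRingHomProperty.iff_exists_appLE (P := @Flat) hQ]
      intro x
      obtain ⟨U, V, e, hxU, hsyn⟩ := h x
      letI := (f.appLE V.1 U.1 e).hom.toAlgebra
      exact ⟨V, U, hxU, e, ((Groth.Agent.Lib.Helper8.SyntLCI.isSyntomic_iff _ _).mp hsyn).1⟩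
    · intro x
      obtain ⟨U, V, e, hxU, hsyn⟩ := h x
      letI := (f.appLE V.1 U.1 e).hom.toAlgebra
      exact Groth.Agent.Lib.Helper9.LciMor2.isKoszulAt_of_affine_isLCI f x U V e hxU
        ((Groth.Agent.Lib.Helper8.SyntLCI.isSyntomic_iff _ _).mp hsyn).2

end Groth.Agent.S9758
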