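import Groth.Statements.S8658
import Mathlib
import Groth.Agent.Lib.Helper91.RegBC3

set_option autoImplicit false
universe u
open CategoryTheory CategoryTheory.Limits AlgebraicGeometry
open Synt

namespace Groth.Agent.S8658

/-- Let f : X ⟶ Y be a local complete intersection morphism in the factorisation sense (around each
point of X, f is locally of finite type and factors as a Koszul-regular immersion followed by a
smooth morphism), and let g : Y' ⟶ Y be flat. Then for any cartesian square, the base change f' : X'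
⟶ Y' is a local complete intersection morphism in the same sense. -/
theorem result {X Y X' Y' : Scheme.{u}} (f : X ⟶ Y) (g : Y' ⟶ Y) [Flat g]
    (f' : X' ⟶ Y') (g' : X' ⟶ X) (hsq : IsPullback g' f' f g)
    (hf : ∀ x : X, Synt.IsKoszulAt f x) : ∀ x' : X', Synt.IsKoszulAt f' x' := by
  intro x'
  obtain ⟨U, P, i, π, hxU, hlft, hi, hπ, hcomm⟩ := hf (g' x')
  haveI := hπ
  haveI := hlft
  have hw : ((g' ∣_ U) ≫ i) ≫ π = ((g' ⁻¹ᵁ U).ι ≫ f') ≫ g := by
    rw [Category.assoc, hcomm, morphismRestrict_ι_assoc, Category.assoc, hsq.w]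
  have Hbig : IsPullback (g' ∣_ U) ((g' ⁻¹ᵁ U).ι ≫ f') (U.ι ≫ f) g :=
    (isPullback_morphismRestrict g' U).paste_vert hsq
  have hlift_snd : pullback.lift ((g' ∣_ U) ≫ i) ((g' ⁻¹ᵁ U).ι ≫ f') hw ≫ pullback.snd π g =
      (g' ⁻¹ᵁ U).ι ≫ f' := pullback.lift_snd _ _ _
  have hlift_fst : pullback.lift ((g' ∣_ U) ≫ i) ((g' ⁻¹ᵁ U).ι ≫ f') hw ≫ pullback.fst π g =
      (g' ∣_ U) ≫ i := pullback.lift_fst _ _ _
  have Hbig' : IsPullback (g' ∣_ U)
      (pullback.lift ((g' ∣_ U) ≫ i) ((g' ⁻¹ᵁ U).ι ≫ f') hw ≫ pullback.snd π g) (i ≫ π) g := by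
    rw [hlift_snd, hcomm]
    exact Hbig
  have Htop : IsPullback (g' ∣_ U) (pullback.lift ((g' ∣_ U) ≫ i) ((g' ⁻¹ᵁ U).ι ≫ f') hw) i
      (pullback.fst π g) :=
    IsPullback.of_bot Hbig' hlift_fst.symm (IsPullback.of_hasPullback π g)
  refine ⟨g' ⁻¹ᵁ U, pullback π g, pullback.lift ((g' ∣_ U) ≫ i) ((g' ⁻¹ᵁ U).ι ≫ f') hw,
    pullback.snd π g, hxU, ?_, ?_, inferInstance, hlift_snd⟩
  · exact MorphismProperty.of_isPullback (P := @LocallyOfFiniteType) Hbig hlft
  · exact Groth.Agent.Lib.Helper91.RegBC.isRegularImmersion_of_isPullback_of_flat Htop .koszul hi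

end Groth.Agent.S8658
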