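import Groth.Statements.S1492
import Groth.Agent.Lib.Helper9.LCIDescent
-- import your own Groth.Agent.* helpers here

set_option autoImplicit false
universe u
attribute [local instance] HasDerivedCategory.standard
open FlatMor

namespace Groth.Agent.S1492

open AlgebraicGeometry CategoryTheory Limits in
/-- Let S' → S be flat, surjective and quasi-compact and f' : X' → S' the base change of f : X → S. If
f' is a local complete intersection morphism (affine-locally: local complete intersection ring maps)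
then so is f. -/
theorem result {X S X' S' : Scheme.{u}} (f : X ⟶ S) (f' : X' ⟶ S') (g' : X' ⟶ X) (g : S' ⟶ S)
    [Flat g] [Surjective g] [QuasiCompact g] (hc : IsPullback g' f' f g)
    (hf' : (∀ (U : X'.Opens) (V : S'.Opens) (hU : IsAffineOpen U) (hV : IsAffineOpen V) (hUV : U ≤ f' ⁻¹ᵁ V),
        letI := (f'.appLE V U hUV).hom.toAlgebra
        LCI.IsLCI Γ(S', V) Γ(X', U))) :
    (∀ (U : X.Opens) (V : S.Opens) (hU : IsAffineOpen U) (hV : IsAffineOpen V) (hUV : U ≤ f ⁻¹ᵁ V),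
        letI := (f.appLE V U hUV).hom.toAlgebra
        LCI.IsLCI Γ(S, V) Γ(X, U)) := by
  intro U V hU hV hUV
  classical
  -- a finite affine cover of the preimage of `V`
  have hcpt : IsCompact (X := S') (g ⁻¹ᵁ V : S'.Opens) :=
    QuasiCompact.isCompact_preimage (f := g) _ V.2 hV.isCompact
  obtain ⟨s, hs, hsV⟩ := isCompact_iff_finite_and_eq_biUnion_affineOpens.mp hcpt
  haveI : Finite ↥s := hs
  obtain ⟨n, ⟨e⟩⟩ := Finite.exists_equiv_fin ↥s
  let V' : Fin n → S'.Opens := fun j => ((e.symm j).1 : S'.Opens)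
  have hV'aff : ∀ j, IsAffineOpen (V' j) := fun j => (e.symm j).1.2
  have hV'le : ∀ j, V' j ≤ g ⁻¹ᵁ V := fun j => by
    rw [hsV]
    exact le_iSup₂_of_le (e.symm j).1 (e.symm j).2 le_rfl
  have hcover : ∀ x : S', x ∈ g ⁻¹ᵁ V → ∃ j, x ∈ V' j := by
    intro x hx
    rw [hsV] at hx
    simp only [TopologicalSpace.Opens.mem_iSup] at hx
    obtain ⟨W, hW, hxW⟩ := hx
    refine ⟨e ⟨W, hW⟩, ?_⟩
    simp only [V', Equiv.symm_apply_apply]
    exact hxW
  let W : Fin n → X'.Opens := fun j => g' ⁻¹ᵁ U ⊓ f' ⁻¹ᵁ V' j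
  have hWiso : ∀ j, IsIso (AlgebraicGeometry.pushoutSection hc (hV'le j) hUV (rfl : W j = _)) :=
    fun j => isIso_pushoutSection_of_isAffineOpen hc (hV'le j) hUV rfl hV (hV'aff j) hU
  have hWaff : ∀ j, IsAffineOpen (W j) := fun j => by
    haveI : IsAffine _ := hV
    haveI : IsAffine _ := hV'aff j
    haveI : IsAffine _ := hU
    exact .of_isIso (Scheme.Hom.isPullback_resLE hc (hV'le j) hUV
      (rfl : W j = _)).isoPullback.hom
  have hWU : ∀ j, W j ≤ g' ⁻¹ᵁ U := fun j => inf_le_left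
  have hWV' : ∀ j, W j ≤ f' ⁻¹ᵁ V' j := fun j => inf_le_right
  refine Groth.Agent.Lib.Helper9.LCIDescent.isLCI_descent_family' (f.appLE V U hUV)
    (fun j => Γ(S', V' j)) (fun j => Γ(X', W j)) (fun j => g.appLE V (V' j) (hV'le j))
    (fun j => g'.appLE U (W j) (hWU j)) (fun j => f'.appLE (V' j) (W j) (hWV' j)) ?_ ?_ ?_ ?_
  · intro j
    exact ((isIso_pushoutSection_iff hc (hV'le j) hUV rfl).mp (hWiso j)).flip
  · intro j
    exact HasRingHomProperty.appLE (P := @Flat) g inferInstance ⟨V, hV⟩ ⟨V' j, hV'aff j⟩ (hV'le j)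
  · intro 𝔭
    obtain ⟨x', hx'⟩ := g.surjective ((hV.isoSpec.inv 𝔭 : V).1)
    have hx'V : x' ∈ g ⁻¹ᵁ V := by
      change g x' ∈ V
      rw [hx']
      exact (hV.isoSpec.inv 𝔭 : V).2
    obtain ⟨j, hj⟩ := hcover x' hx'V
    refine ⟨j, (hV'aff j).primeIdealOf ⟨x', hj⟩, ?_⟩
    rw [IsAffineOpen.comap_primeIdealOf_appLE V hV (V' j) (hV'aff j) (hV'le j) hj]
    have : (⟨g x', hV'le j hj⟩ : V) = hV.isoSpec.inv 𝔭 := Subtype.ext hx'
    rw [this]
    change hV.isoSpec.hom (hV.isoSpec.inv 𝔭) = 𝔭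
    have h2 := Scheme.Hom.comp_apply hV.isoSpec.inv hV.isoSpec.hom 𝔭
    rw [Iso.inv_hom_id] at h2
    exact h2.symm
  · intro j
    exact hf' (W j) (V' j) (hWaff j) (hV'aff j) (hWV' j)

end Groth.Agent.S1492
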