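import Groth.Statements.S8662
import Groth.Agent.Lib.Helper9.LciMor3
import Groth.Agent.S1492
-- import your own Groth.Agent.* helpers here

set_option autoImplicit false
universe u
open CategoryTheory CategoryTheory.Limits AlgebraicGeometry
open Synt

namespace Groth.Agent.S8662

/-- Let f : X ⟶ Y be a morphism, g : Y' ⟶ Y flat, surjective and quasi-compact, and f' : X' ⟶ Y' the
base change of f along g (a cartesian square). If f' is a local complete intersection morphism in
the factorisation sense (around each point, locally of finite type and factoring as a Koszul-regular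
immersion followed by a smooth morphism), then so is f. -/
theorem result {X Y X' Y' : Scheme.{u}} (f : X ⟶ Y) (g : Y' ⟶ Y) [Flat g] [Surjective g] [QuasiCompact g]
    (f' : X' ⟶ Y') (g' : X' ⟶ X) (hsq : IsPullback g' f' f g)
    (hf' : ∀ x' : X', Synt.IsKoszulAt f' x') : ∀ x : X, Synt.IsKoszulAt f x := by
  intro x
  have h1 := Groth.Agent.Lib.Helper9.LciMor3.isLCI_appLE_of_isKoszulAt f' hf'
  have h2 := Groth.Agent.S1492.result f f' g' g hsq h1
  obtain ⟨V, hV, hxV, -⟩ := exists_isAffineOpen_mem_and_subset (x := f x) (U := ⊤) trivial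
  obtain ⟨U, hU, hxU, hUV⟩ := exists_isAffineOpen_mem_and_subset (x := x) (U := f ⁻¹ᵁ V) hxV
  exact Groth.Agent.Lib.Helper9.LciMor2.isKoszulAt_of_affine_isLCI f x ⟨U, hU⟩ ⟨V, hV⟩ hUV hxU
    (h2 U V hU hV hUV)

end Groth.Agent.S8662
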