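import Groth.Statements.S9429
import Groth.Agent.Lib.Helper62.DimSmooth
import Mathlib.RingTheory.Smooth.StandardSmoothCotangent
import Mathlib.RingTheory.Smooth.StandardSmoothOfFree

set_option autoImplicit false
set_option linter.style.haveILetI false
universe u
open Synt

namespace Groth.Agent.S9429

/-- A smooth algebra over a field k is a local complete intersection over k (finite type, and locally on
Spec S by principal opens a global complete intersection). -/
theorem result (k : Type u) [Field k] (S : Type u) [CommRing S] [Algebra k S]
    [Algebra.Smooth k S] : Synt.IsLCIOver k S := by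
  classical
  haveI : Algebra.FinitePresentation k S := inferInstance
  refine ⟨inferInstance, fun p => ?_⟩
  haveI : Algebra.FormallyEtale S (Localization.AtPrime p.asIdeal) :=
    .of_isLocalization p.asIdeal.primeCompl
  haveI : Algebra.IsSmoothAt k p.asIdeal :=
    Algebra.FormallySmooth.comp k S (Localization.AtPrime p.asIdeal)
  obtain ⟨g, hg, hss⟩ := Algebra.IsSmoothAt.exists_notMem_isStandardSmooth k p.asIdeal
  refine ⟨g, hg, ?_⟩
  by_cases hsub : Subsingleton (Localization.Away g)
  · exact Or.inl hsub
  right
  haveI : Nontrivial (Localization.Away g) := not_subsingleton_iff_nontrivial.mp hsub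
  obtain ⟨ι, σ, hσ, hι, ⟨P⟩⟩ := hss.out
  haveI := hσ
  haveI := hι
  let P' : Algebra.SubmersivePresentation k (Localization.Away g) (Fin (Nat.card ι))
      (Fin (Nat.card σ)) := P.reindex (Finite.equivFin ι).symm (Finite.equivFin σ).symm
  have hle : Nat.card σ ≤ Nat.card ι := by
    have := Fintype.card_le_of_injective P'.map P'.map_inj
    simpa using this
  refine ⟨Nat.card ι, Nat.card σ, hle, MvPolynomial.aeval P'.val, P'.relation,
    P'.aeval_val_surjective, ?_, ?_⟩
  · rw [P'.span_range_relation_eq_ker, P'.ker_eq_ker_aeval_val]
    rfl
  · haveI : Algebra.IsStandardSmooth k (Localization.Away g) := hss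
    haveI : Algebra.FiniteType k (Localization.Away g) := inferInstance
    apply Groth.Agent.Lib.Helper62.DimSmooth.ringKrullDim_eq_of_smooth_of_free k
      (Localization.Away g)
    apply Module.finrank_eq_of_rank_eq
    rw [P'.rank_kaehlerDifferential]
    simp [Algebra.Presentation.dimension]

end Groth.Agent.S9429
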