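import Groth.Statements.S2144
import Groth.Agent.Lib.Helper54.FFDescent

set_option autoImplicit false
universe u
open CAlg

namespace Groth.Agent.S2144

open TensorProduct in
attribute [local instance] Algebra.TensorProduct.rightAlgebra in
/-- The main argument: descend `B` to a finite type `ℤ`-algebra, find a finitely generated
subalgebra `T` of `A` over which the model is flat, enlarge it so that the (open) image of the
spectrum of the model contains the image of `Spec A`, and base change to `R ⊗ T''`. -/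
theorem main {R A B : Type u} [CommRing R] [CommRing A] [CommRing B] [Algebra R A]
    [Algebra A B] [Algebra.FinitePresentation A B] [Module.FaithfullyFlat A B] :
    ∃ (A₀ B₀ : Type u) (_ : CommRing A₀) (_ : CommRing B₀) (_ : Algebra R A₀) (_ : Algebra A₀ A) (_ : IsScalarTower R A₀ A)
      (_ : Algebra A₀ B₀), Algebra.FinitePresentation R A₀ ∧ Algebra.FinitePresentation A₀ B₀ ∧ Module.FaithfullyFlat A₀ B₀ ∧
      Nonempty (B ≃ₐ[A] A ⊗[A₀] B₀) := by
  classical
  obtain ⟨Z₀, i1, i2, S₀, i3, i4, N₀, i5, i6, i7, i8, θ, Θ, hft, -, hfp, hfin, hθ, hΘ⟩ :=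
    Groth.Agent.Lib.Helper54.FlatPkg.exists_descent A B B ∅ Set.finite_empty
  haveI : IsNoetherianRing Z₀ := Algebra.FiniteType.isNoetherianRing ℤ Z₀
  haveI : Algebra.FiniteType Z₀ S₀ := inferInstance
  have hone : ∀ a : A, θ ((1 : S₀) ⊗ₜ a) = algebraMap A B a := fun a => by
    rw [← hθ, Algebra.TensorProduct.right_algebraMap_apply]
  -- flatness of the model over `A`
  have hflatA : Module.Flat A ((S₀ ⊗[Z₀] A) ⊗[S₀] S₀) := by
    let θA : S₀ ⊗[Z₀] A ≃ₗ[A] B :=
      { θ.toAddEquiv with
        map_smul' := fun a x => by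
          show θ (a • x) = a • θ x
          rw [Algebra.smul_def, Algebra.smul_def, map_mul, hθ] }
    haveI : Module.Flat A (S₀ ⊗[Z₀] A) := Module.Flat.of_linearEquiv θA
    exact Module.Flat.of_linearEquiv (Groth.Agent.Lib.Helper54.FFDescent.ridA Z₀ S₀ A)
  obtain ⟨T, hTfg, hT⟩ := Groth.Agent.Lib.Helper54.FlatStage7.exists_fg_flat Z₀ S₀ S₀ A hflatA
  have hTflat' := hT T le_rfl
  haveI : Module.Flat T (S₀ ⊗[Z₀] T) :=
    Module.Flat.of_linearEquiv (Groth.Agent.Lib.Helper54.FFDescent.ridA Z₀ S₀ T).symm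
  haveI : Algebra.FiniteType Z₀ T := (Subalgebra.fg_iff_finiteType T).1 hTfg
  haveI : IsNoetherianRing T := Algebra.FiniteType.isNoetherianRing Z₀ T
  haveI : Algebra.FiniteType T (S₀ ⊗[Z₀] T) :=
    Groth.Agent.Lib.Helper54.FlatOpenB.finiteType_right Z₀ S₀ T
  haveI : Algebra.FinitePresentation T (S₀ ⊗[Z₀] T) :=
    Algebra.FinitePresentation.of_finiteType.1 inferInstance
  -- the image of the spectrum of the model is open
  have hopen : IsOpen (Set.range (PrimeSpectrum.comap (algebraMap T (S₀ ⊗[Z₀] T)))) :=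
    (PrimeSpectrum.isOpenMap_comap_of_hasGoingDown_of_finitePresentation).isOpen_range
  have htop : Ideal.map (algebraMap T A) (PrimeSpectrum.vanishingIdeal
      (Set.range (PrimeSpectrum.comap (algebraMap T (S₀ ⊗[Z₀] T))))ᶜ) = ⊤ := by
    refine Groth.Agent.Lib.Helper54.FFDescent.map_vanishingIdeal_eq_top
      (θ.toRingHom.comp (Groth.Agent.Lib.Helper54.FlatStage4.SM S₀ T.val).toRingHom) ?_
      PrimeSpectrum.comap_surjective_of_faithfullyFlat hopen
    intro t
    show θ (Groth.Agent.Lib.Helper54.FlatStage4.SM S₀ T.val (algebraMap T (S₀ ⊗[Z₀] T) t)) = _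
    rw [Algebra.TensorProduct.right_algebraMap_apply, Algebra.TensorProduct.map_tmul, map_one,
      hone]
    rfl
  obtain ⟨T'', hle, hT''fg, htop''⟩ :=
    Groth.Agent.Lib.Helper54.FFDescent.exists_fg_ideal_map_eq_top T hTfg _ htop
  letI : Algebra T T'' := (Subalgebra.inclusion hle).toRingHom.toAlgebra
  haveI : IsScalarTower T T'' A := IsScalarTower.of_algebraMap_eq (fun _ => rfl)
  have hrange : ∀ P : PrimeSpectrum T'', PrimeSpectrum.comap (algebraMap T T'') P ∈
      Set.range (PrimeSpectrum.comap (algebraMap T (S₀ ⊗[Z₀] T))) := by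
    intro P
    by_contra hnot
    have h1 : PrimeSpectrum.vanishingIdeal
        (Set.range (PrimeSpectrum.comap (algebraMap T (S₀ ⊗[Z₀] T))))ᶜ ≤
        (PrimeSpectrum.comap (algebraMap T T'') P).asIdeal :=
      fun x hx => (PrimeSpectrum.mem_vanishingIdeal _ _).1 hx _ hnot
    have h2 : Ideal.map (Subalgebra.inclusion hle) (PrimeSpectrum.vanishingIdeal
        (Set.range (PrimeSpectrum.comap (algebraMap T (S₀ ⊗[Z₀] T))))ᶜ) ≤ P.asIdeal :=
      Ideal.map_le_iff_le_comap.2 h1
    rw [htop''] at h2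
    exact P.isPrime.ne_top (top_le_iff.1 h2)
  haveI : Algebra.FiniteType Z₀ T'' := (Subalgebra.fg_iff_finiteType T'').1 hT''fg
  haveI : Algebra.FiniteType ℤ T'' := Algebra.FiniteType.trans hft inferInstance
  haveI : Algebra.FinitePresentation ℤ T'' := Algebra.FinitePresentation.of_finiteType.1 inferInstance
  obtain ⟨e⟩ := Groth.Agent.Lib.Helper54.FFDescent.exists_algEquiv_stage Z₀ S₀ θ hθ T
  exact Groth.Agent.Lib.Helper54.FFDescent.assemble T T'' (S₀ ⊗[Z₀] T) e hrange

open TensorProduct in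
/-- Let `R → A → B` be ring maps with `A → B` faithfully flat and of finite presentation. Then there are
an `R`-algebra `A₀` of finite presentation mapping to `A` and a faithfully flat finitely presented
`A₀`-algebra `B₀` with `B ≅ A ⊗_{A₀} B₀` as `A`-algebras. -/
theorem result {R A B : Type u} [CommRing R] [CommRing A] [CommRing B] [Algebra R A]
    [Algebra A B] [Algebra.FinitePresentation A B] [Module.FaithfullyFlat A B] :
    ∃ (A₀ B₀ : Type u) (_ : CommRing A₀) (_ : CommRing B₀) (_ : Algebra R A₀) (_ : Algebra A₀ A) (_ : IsScalarTower R A₀ A)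
      (_ : Algebra A₀ B₀), Algebra.FinitePresentation R A₀ ∧ Algebra.FinitePresentation A₀ B₀ ∧ Module.FaithfullyFlat A₀ B₀ ∧
      Nonempty (B ≃ₐ[A] A ⊗[A₀] B₀) := by
  exact main

end Groth.Agent.S2144
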