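import Groth.Statements.S17593
import Groth.Agent.S0387

set_option autoImplicit false
universe u
open Hensel

namespace Groth.Agent.S17593

theorem flat_atPrime_iff {A R : Type u} [CommRing A] [CommRing R] [Algebra A R] (q : Ideal R) [q.IsPrime] :
    Module.Flat A (LocalizedModule q.primeCompl R) ↔ Module.Flat A (Localization.AtPrime q) := by
  let e : LocalizedModule q.primeCompl R ≃ₗ[R] Localization.AtPrime q :=
    IsLocalizedModule.iso q.primeCompl (Algebra.linearMap R (Localization.AtPrime q))
  exact ⟨fun _ => Module.Flat.of_linearEquiv (e.restrictScalars A).symm,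
    fun _ => Module.Flat.of_linearEquiv (e.restrictScalars A)⟩


/-- Suppose (A, I) is a Henselian pair, and R is an A-algebra of finite presentation for which A → R is
flat at each prime of R that contains IR. Then there is an étale R-algebra R' such that R/IR →
R'/IR' is bijective and A → R' is flat. -/
theorem result (A : Type u) [CommRing A] (I : Ideal A) [HenselianRing A I]
    (R : Type u) [CommRing R] [Algebra A R] [Algebra.FinitePresentation A R]
    (h : ∀ (p : Ideal R) [p.IsPrime], I.map (algebraMap A R) ≤ p → Module.Flat A (Localization.AtPrime p))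
    : ∃ (R' : Type u) (_ : CommRing R') (_ : Algebra R R') (_ : Algebra A R') (_ : IsScalarTower A R R'),
      Algebra.Etale R R' ∧
      Function.Bijective (Ideal.quotientMap ((I.map (algebraMap A R)).map (algebraMap R R'))
        (algebraMap R R') Ideal.le_comap_map) ∧ Module.Flat A R' := by
  classical
  set IR := I.map (algebraMap A R) with hIR
  have hopen : IsOpen {q : PrimeSpectrum R | Module.Flat A (LocalizedModule q.asIdeal.primeCompl R)} :=
    Groth.Agent.S0387.result (R := A) (S := R) (M := R)
  set U := {q : PrimeSpectrum R | Module.Flat A (LocalizedModule q.asIdeal.primeCompl R)} with hU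
  have hclosed : IsClosed Uᶜ := hopen.isClosed_compl
  obtain ⟨J, hJ⟩ := (PrimeSpectrum.isClosed_iff_zeroLocus_ideal _).mp hclosed
  have hdisj : PrimeSpectrum.zeroLocus ((IR ⊔ J : Ideal R) : Set R) = ∅ := by
    rw [Set.eq_empty_iff_forall_notMem]
    intro q hq
    rw [PrimeSpectrum.mem_zeroLocus, SetLike.coe_subset_coe] at hq
    have h1 : IR ≤ q.asIdeal := le_sup_left.trans hq
    have h2 : q ∈ PrimeSpectrum.zeroLocus (J : Set R) := by
      rw [PrimeSpectrum.mem_zeroLocus, SetLike.coe_subset_coe]
      exact le_sup_right.trans hq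
    rw [← hJ] at h2
    exact h2 ((flat_atPrime_iff q.asIdeal).mpr (h q.asIdeal h1))
  have htop : IR ⊔ J = ⊤ := (PrimeSpectrum.zeroLocus_empty_iff_eq_top).mp hdisj
  obtain ⟨i, hi, g, hg, hig⟩ := Submodule.mem_sup.mp (htop ▸ Submodule.mem_top : (1 : R) ∈ IR ⊔ J)
  have hg1 : g - 1 ∈ IR := by
    have : g - 1 = -i := by rw [← hig]; ring
    rw [this]; exact IR.neg_mem hi
  have hgn : ∀ n : ℕ, g ^ n - 1 ∈ IR := by
    intro n
    induction n with
    | zero => simp
    | succ n ih =>
      have : g ^ (n + 1) - 1 = g ^ n * (g - 1) + (g ^ n - 1) := by ring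
      rw [this]
      exact IR.add_mem (IR.mul_mem_left _ hg1) ih
  refine ⟨Localization.Away g, inferInstance, inferInstance, inferInstance, inferInstance,
    inferInstance, ⟨?_, ?_⟩, ?_⟩
  · -- injective
    rw [injective_iff_map_eq_zero]
    intro x hx
    obtain ⟨x, rfl⟩ := Ideal.Quotient.mk_surjective x
    rw [Ideal.quotientMap_mk, Ideal.Quotient.eq_zero_iff_mem,
      IsLocalization.mem_map_algebraMap_iff (Submonoid.powers g)] at hx
    obtain ⟨⟨⟨y, hy⟩, ⟨_, n, rfl⟩⟩, hxy⟩ := hx
    rw [← map_mul, IsLocalization.eq_iff_exists (Submonoid.powers g)] at hxy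
    obtain ⟨⟨_, k, rfl⟩, hk⟩ := hxy
    simp only at hk
    rw [Ideal.Quotient.eq_zero_iff_mem]
    have h3 : g ^ (k + n) * x ∈ IR := by
      have : g ^ (k + n) * x = g ^ k * (x * g ^ n) := by rw [pow_add]; ring
      rw [this, hk]
      exact IR.mul_mem_left _ hy
    have : x = g ^ (k + n) * x - (g ^ (k + n) - 1) * x := by ring
    rw [this]
    exact IR.sub_mem h3 (IR.mul_mem_right _ (hgn _))
  · -- surjective
    intro z
    obtain ⟨z, rfl⟩ := Ideal.Quotient.mk_surjective z
    obtain ⟨x, ⟨_, n, rfl⟩, rfl⟩ := IsLocalization.exists_mk'_eq (Submonoid.powers g) z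
    refine ⟨Ideal.Quotient.mk _ x, ?_⟩
    rw [Ideal.quotientMap_mk, Ideal.Quotient.eq,
      IsLocalization.mem_map_algebraMap_iff (Submonoid.powers g)]
    refine ⟨⟨⟨(g ^ n - 1) * x, IR.mul_mem_right _ (hgn n)⟩, ⟨g ^ n, n, rfl⟩⟩, ?_⟩
    simp only
    rw [sub_mul, IsLocalization.mk'_spec, ← map_mul, ← map_sub]
    congr 1
    ring
  · -- flat
    refine Module.flat_of_isLocalized_maximal (R := A) (Localization.Away g) (Localization.Away g)
      (fun P _ => Localization.AtPrime P)
      (fun P _ => Algebra.linearMap (Localization.Away g) (Localization.AtPrime P)) ?_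
    intro P hP
    set p := P.comap (algebraMap R (Localization.Away g)) with hp
    have hgp : g ∉ p := by
      intro hgp
      rw [hp, Ideal.mem_comap] at hgp
      exact hP.ne_top (Ideal.eq_top_of_isUnit_mem _ hgp (IsLocalization.Away.algebraMap_isUnit g))
    have hpU : (⟨p, inferInstance⟩ : PrimeSpectrum R) ∈ U := by
      by_contra hcon
      have : (⟨p, inferInstance⟩ : PrimeSpectrum R) ∈ Uᶜ := hcon
      rw [hJ, PrimeSpectrum.mem_zeroLocus, SetLike.coe_subset_coe] at this
      exact hgp (this hg)
    have hflat : Module.Flat A (Localization.AtPrime p) := (flat_atPrime_iff p).mp hpU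
    let e : Localization.AtPrime p ≃ₐ[R] Localization.AtPrime P :=
      IsLocalization.localizationLocalizationAtPrimeIsoLocalization (Submonoid.powers g) P
    exact Module.Flat.of_linearEquiv ((e.toLinearEquiv.restrictScalars A).symm)

end Groth.Agent.S17593
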