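import Groth.Statements.S0404
import Mathlib
import Groth.Agent.Lib.Helper21.FlatFibreDim
import Groth.Agent.Lib.Helper21.ValTrdegSch
import Groth.Agent.Lib.Helper21.OpenGeneralizing
-- import your own Groth.Agent.* helpers here

set_option autoImplicit false
universe u
open FlatMor

namespace Groth.Agent.S0404
open Groth.Agent.Lib.Helper21 Groth.Agent.Lib.Helper21.FieldDim Groth.Agent.Lib.Helper21.FlatFibreDim Groth.Agent.Lib.Helper21.ValTrdeg Groth.Agent.Lib.Helper21.OpenGeneralizing CategoryTheory.Limits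

open AlgebraicGeometry CategoryTheory Limits in
/-- For a flat morphism of finite presentation (here: flat, quasi-compact, quasi-separated and locally
of finite presentation) the dimension of the fibre is a lower semicontinuous function on the target. -/
theorem result {X S : Scheme.{u}} (f : X ⟶ S) [Flat f] [LocallyOfFinitePresentation f] [QuasiCompact f] [QuasiSeparated f] (c : WithBot ℕ∞) :
    IsOpen {s : S | c < topologicalKrullDim (f.fiber s)} := by
  rw [isOpen_iff_forall_mem_open]
  intro s₀ hs₀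
  have h1 : ¬ topologicalKrullDim (f.fiber s₀) ≤ c := not_le.mpr hs₀
  rw [dim_fiber_le_iff] at h1
  push Not at h1
  obtain ⟨x₁, hx₁, hx₁c⟩ := h1
  obtain ⟨x, hxsp, hxf, hxmax⟩ := exists_maximal_in_fibre f x₁
  have hx₁x : tdR f x₁ ≤ tdR f x := tdR_le_of_specializes f hxsp hxf
  obtain ⟨Ω, hxΩ, hΩ⟩ := exists_open_lift f x hxmax
  refine ⟨f '' (Ω : Set X), ?_, f.isOpenMap _ Ω.isOpen, ⟨x, hxΩ, hxf.trans hx₁⟩⟩
  rintro _ ⟨z, hz, rfl⟩
  obtain ⟨x'', -, hx''f, hx''d⟩ := hΩ z hz
  show c < topologicalKrullDim (f.fiber (f z))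
  have h2 := tdR_le_dim_fiber f x''
  rw [hx''f] at h2
  refine lt_of_lt_of_le ?_ h2
  refine lt_of_lt_of_le hx₁c ?_
  exact_mod_cast hx₁x.trans hx''d

end Groth.Agent.S0404
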