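import Groth.Statements.S4594
-- import your own Groth.Agent.* helpers here
import Mathlib.RingTheory.Smooth.Basic
import Mathlib.LinearAlgebra.TensorProduct.Quotient

set_option autoImplicit false
universe u
open TensorProduct KaehlerDifferential
open EGA41

namespace Groth.Agent.S4594

/-- `1 ⊗ m = 0` in `C ⊗[A] M` for a quotient `C` of `A` forces `m ∈ J • ⊤`. -/
theorem mem_smul_top_of_tmul_eq_zero {A C : Type u} [CommRing A] [CommRing C] [Algebra A C]
    (hsurj : Function.Surjective (algebraMap A C)) {M : Type u} [AddCommGroup M] [Module A M]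
    (m : M) (h : (1 : C) ⊗ₜ[A] m = 0) :
    m ∈ (RingHom.ker (algebraMap A C)) • (⊤ : Submodule A M) := by
  have hsurj' : Function.Surjective (Algebra.ofId A C) := hsurj
  let e : (A ⧸ RingHom.ker (Algebra.ofId A C)) ≃ₐ[A] C :=
    Ideal.quotientKerAlgEquivOfSurjective hsurj'
  let φ : C ⊗[A] M ≃ₗ[A] M ⧸ (RingHom.ker (Algebra.ofId A C) • (⊤ : Submodule A M)) :=
    (TensorProduct.congr e.symm.toLinearEquiv (LinearEquiv.refl A M)) ≪≫ₗ
      TensorProduct.quotTensorEquivQuotSMul M _
  have h1 : φ ((1 : C) ⊗ₜ[A] m) = Submodule.Quotient.mk m := by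
    simp only [φ, LinearEquiv.trans_apply, TensorProduct.congr_tmul, LinearEquiv.refl_apply]
    have : e.symm.toLinearEquiv (1 : C) = Ideal.Quotient.mk _ (1 : A) := by
      change e.symm 1 = 1
      exact map_one _
    rw [this, TensorProduct.quotTensorEquivQuotSMul_mk_tmul, one_smul]
  rw [h, map_zero] at h1
  exact (Submodule.Quotient.mk_eq_zero _).mp h1.symm


/-- Let Λ be a ring, A → C a surjection of Λ-algebras with kernel J, C of characteristic p > 0, and π
the class of p·1 in J/J². If C is formally smooth over Λ/pΛ for the discrete topologies, then 0 →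
(J/J²)/Cπ → Ω_{A/Λ} ⊗_A C → Ω_{C/Λ} → 0 is exact: the kernel of the conormal map J/J² → Ω_{A/Λ} ⊗_A
C is the span of π, and the base-change map to Ω_{C/Λ} is surjective with kernel the image of J/J². -/
theorem result {Λ A C : Type u} [CommRing Λ] [CommRing A]
    [CommRing C] [Algebra Λ A] [Algebra A C] [Algebra Λ C] [IsScalarTower Λ A C]
    (hsurj : Function.Surjective (algebraMap A C)) (p : ℕ) [Fact p.Prime] [CharP C p]
    [Algebra (Λ ⧸ Ideal.span {(p : Λ)}) C] [IsScalarTower Λ (Λ ⧸ Ideal.span {(p : Λ)}) C]
    [Algebra.FormallySmooth (Λ ⧸ Ideal.span {(p : Λ)}) C]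
    (hp : (p : A) ∈ RingHom.ker (algebraMap A C)) :
    LinearMap.ker (kerCotangentToTensor Λ A C) =
        Submodule.span A {(RingHom.ker (algebraMap A C)).toCotangent ⟨(p : A), hp⟩} ∧
      LinearMap.range (kerCotangentToTensor Λ A C) = (LinearMap.ker (mapBaseChange Λ A C)).restrictScalars A ∧
      Function.Surjective (mapBaseChange Λ A C) := by
  have hpp : p.Prime := Fact.out
  refine ⟨?_, KaehlerDifferential.range_kerCotangentToTensor Λ A C hsurj,
    mapBaseChange_surjective Λ A C hsurj⟩
  set J := RingHom.ker (algebraMap A C) with hJ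
  apply le_antisymm
  · -- the hard inclusion
    intro xbar hx
    obtain ⟨⟨x, hxJ⟩, rfl⟩ := Ideal.toCotangent_surjective J xbar
    rw [LinearMap.mem_ker, kerCotangentToTensor_toCotangent] at hx
    have hx' := mem_smul_top_of_tmul_eq_zero hsurj _ hx
    -- the ring E
    let K : Ideal A := J ^ 2 ⊔ Ideal.span {(p : A)}
    have hKJ : K ≤ J := sup_le (Ideal.pow_le_self two_ne_zero)
      ((Ideal.span_singleton_le_iff_mem _).mpr hp)
    let algE : Algebra (Λ ⧸ Ideal.span {(p : Λ)}) (A ⧸ K) :=
      (Ideal.Quotient.lift (Ideal.span {(p : Λ)}) ((Ideal.Quotient.mk K).comp (algebraMap Λ A))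
        (by
          intro l hl
          obtain ⟨c, rfl⟩ := Ideal.mem_span_singleton'.mp hl
          rw [RingHom.comp_apply, map_mul, map_natCast, map_mul,
            Ideal.Quotient.eq_zero_iff_mem.mpr (show (p : A) ∈ K from
              Ideal.mem_sup_right (Ideal.mem_span_singleton_self _)), mul_zero])).toAlgebra
    have tower : IsScalarTower Λ (Λ ⧸ Ideal.span {(p : Λ)}) (A ⧸ K) :=
      IsScalarTower.of_algebraMap_eq (fun l => rfl)
    let g : A ⧸ K →ₐ[Λ ⧸ Ideal.span {(p : Λ)}] C :=
      { Ideal.Quotient.lift K (algebraMap A C) (fun a ha => hKJ ha) with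
        commutes' := by
          intro r
          obtain ⟨l, rfl⟩ := Ideal.Quotient.mk_surjective r
          change algebraMap A C (algebraMap Λ A l) = _
          rw [← IsScalarTower.algebraMap_apply, IsScalarTower.algebraMap_apply Λ
            (Λ ⧸ Ideal.span {(p : Λ)}) C]
          rfl }
    have hg_mk : ∀ a, g (Ideal.Quotient.mk K a) = algebraMap A C a := fun a => rfl
    have hg : Function.Surjective g := fun c => by
      obtain ⟨a, rfl⟩ := hsurj c
      exact ⟨Ideal.Quotient.mk K a, rfl⟩
    have hkerg : ∀ e ∈ RingHom.ker g, ∃ j ∈ J, e = Ideal.Quotient.mk K j := by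
      intro e he
      obtain ⟨a, rfl⟩ := Ideal.Quotient.mk_surjective e
      exact ⟨a, he, rfl⟩
    have hker_sq : ∀ e ∈ RingHom.ker g, ∀ e' ∈ RingHom.ker g, e * e' = 0 := by
      intro e he e' he'
      obtain ⟨j, hj, rfl⟩ := hkerg e he
      obtain ⟨j', hj', rfl⟩ := hkerg e' he'
      rw [← map_mul, Ideal.Quotient.eq_zero_iff_mem]
      refine Ideal.mem_sup_left ?_
      rw [pow_two]
      exact Ideal.mul_mem_mul hj hj'
    have hnil : IsNilpotent (RingHom.ker g) := by
      refine ⟨2, ?_⟩
      rw [Ideal.zero_eq_bot, eq_bot_iff, pow_two, Ideal.mul_le]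
      intro e he e' he'
      rw [hker_sq e he e' he']
      exact Ideal.zero_mem _
    let s : C →ₐ[Λ ⧸ Ideal.span {(p : Λ)}] A ⧸ K :=
      Algebra.FormallySmooth.liftOfSurjective (AlgHom.id _ C) g hg hnil
    have hs : ∀ c, g (s c) = c := fun c =>
      Algebra.FormallySmooth.liftOfSurjective_apply (AlgHom.id _ C) g hg hnil c
    -- the derivation
    have hD_mem : ∀ a, Ideal.Quotient.mk K a - s (algebraMap A C a) ∈ RingHom.ker g := by
      intro a
      rw [RingHom.mem_ker, map_sub, hs, hg_mk, sub_self]
    let D' : Derivation Λ A (A ⧸ K) :=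
      { toFun := fun a => Ideal.Quotient.mk K a - s (algebraMap A C a)
        map_add' := by intro a b; simp only [map_add]; ring
        map_smul' := by
          intro l a
          simp only [RingHom.id_apply]
          rw [Algebra.smul_def, map_mul, map_mul, map_mul, ← IsScalarTower.algebraMap_apply Λ A C,
            IsScalarTower.algebraMap_apply Λ (Λ ⧸ Ideal.span {(p : Λ)}) C, s.commutes,
            Algebra.smul_def, ← IsScalarTower.algebraMap_apply,
            IsScalarTower.algebraMap_apply Λ A (A ⧸ K)]
          rw [show algebraMap A (A ⧸ K) = Ideal.Quotient.mk K from rfl]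
          ring
        map_one_eq_zero' := by
          change Ideal.Quotient.mk K 1 - s (algebraMap A C 1) = 0
          rw [map_one, map_one, map_one, sub_self]
        leibniz' := by
          intro a b
          change Ideal.Quotient.mk K (a * b) - s (algebraMap A C (a * b)) =
            a • (Ideal.Quotient.mk K b - s (algebraMap A C b)) +
              b • (Ideal.Quotient.mk K a - s (algebraMap A C a))
          have h1 := hker_sq _ (hD_mem a) _ (hD_mem b)
          rw [Algebra.smul_def, Algebra.smul_def,
            show algebraMap A (A ⧸ K) = Ideal.Quotient.mk K from rfl, map_mul, map_mul, map_mul]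
          linear_combination (-1 : A ⧸ K) * h1 }
    have hD'_apply : ∀ a, D' a = Ideal.Quotient.mk K a - s (algebraMap A C a) := fun a => rfl
    -- `liftKaehlerDifferential` kills `J • ⊤`
    have hkill : ∀ ω ∈ J • (⊤ : Submodule A (Ω[A⁄Λ])), D'.liftKaehlerDifferential ω = 0 := by
      intro ω hω
      have hrange : ∀ ω : Ω[A⁄Λ], D'.liftKaehlerDifferential ω ∈ RingHom.ker g := by
        intro ω
        have hω : ω ∈ Submodule.span A (Set.range (KaehlerDifferential.D Λ A)) := by
          rw [KaehlerDifferential.span_range_derivation]; trivial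
        induction hω using Submodule.span_induction with
        | mem ω hω =>
          obtain ⟨a, rfl⟩ := hω
          rw [Derivation.liftKaehlerDifferential_comp_D]
          exact hD_mem a
        | zero => rw [map_zero]; exact Ideal.zero_mem _
        | add a b _ _ ha hb => rw [map_add]; exact Ideal.add_mem _ ha hb
        | smul a ω _ hω =>
          rw [map_smul, Algebra.smul_def]
          exact Ideal.mul_mem_left _ _ hω
      refine Submodule.smul_induction_on hω ?_ ?_
      · intro j hj ω _
        rw [map_smul, Algebra.smul_def]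
        refine hker_sq _ ?_ _ (hrange ω)
        rw [RingHom.mem_ker]
        exact hj
      · intro a b ha hb
        rw [map_add, ha, hb, add_zero]
    have h2 := hkill _ hx'
    rw [Derivation.liftKaehlerDifferential_comp_D, hD'_apply,
      show algebraMap A C x = 0 from hxJ, map_zero, sub_zero, Ideal.Quotient.eq_zero_iff_mem] at h2
    -- conclude
    obtain ⟨y, hy, z, hz, hyz⟩ := Submodule.mem_sup.mp h2
    obtain ⟨a, rfl⟩ := Ideal.mem_span_singleton'.mp hz
    have h3 : (J.toCotangent ⟨x, hxJ⟩) =
        a • J.toCotangent ⟨(p : A), hp⟩ := by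
      rw [← map_smul, ← sub_eq_zero, ← map_sub, Ideal.toCotangent_eq_zero]
      change x - a * (p : A) ∈ J ^ 2
      have hyz' : y + a * (p : A) = x := hyz
      rw [← hyz']
      simpa using hy
    rw [h3]
    exact Submodule.smul_mem _ _ (Submodule.subset_span rfl)
  · rw [Submodule.span_le, Set.singleton_subset_iff]
    change _ ∈ LinearMap.ker _
    rw [LinearMap.mem_ker, kerCotangentToTensor_toCotangent]
    change (1 : C) ⊗ₜ[A] KaehlerDifferential.D Λ A ((p : ℕ) : A) = 0
    rw [Derivation.map_natCast, TensorProduct.tmul_zero]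

end Groth.Agent.S4594
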