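import Groth.Statements.S16234
import Mathlib
-- import your own Groth.Agent.* helpers here

set_option autoImplicit false
universe u v
open CAlg

namespace Groth.Agent.S16234


theorem supp_quot {A : Type u} [CommRing A] (I : Ideal A) :
    Module.support A (A ⧸ I) = PrimeSpectrum.zeroLocus (I : Set A) := by
  rw [Module.support_eq_zeroLocus, Ideal.annihilator_quotient]

theorem maximal_of_finiteLength {A : Type u} [CommRing A] {M : Type v} [AddCommGroup M] [Module A M]
    (h : IsFiniteLength A M) : ∀ p ∈ Module.support A M, p.asIdeal.IsMaximal := by
  induction h with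
  | of_subsingleton =>
    intro p hp
    rw [Module.support_eq_empty] at hp
    exact absurd hp (Set.notMem_empty p)
  | @of_simple_quotient M _ _ N hsimple hN ih =>
    intro p hp
    have hex : Function.Exact N.subtype N.mkQ := by
      rw [LinearMap.exact_iff, Submodule.ker_mkQ, Submodule.range_subtype]
    rw [Module.support_of_exact hex N.injective_subtype N.mkQ_surjective] at hp
    rcases hp with hp | hp
    · exact ih p hp
    · obtain ⟨I, hI, ⟨e⟩⟩ := isSimpleModule_iff_quot_maximal.mp hsimple
      rw [e.support_eq, supp_quot] at hp
      have hle : I ≤ p.asIdeal := hp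
      have := hI.eq_of_le p.2.ne_top hle
      rw [← this]; exact hI

theorem finiteLength_of_maximal (A : Type u) [CommRing A] [IsNoetherianRing A]
    (M : Type v) [AddCommGroup M] [Module A M] (hfin : Module.Finite A M) :
    (∀ p ∈ Module.support A M, p.asIdeal.IsMaximal) → IsFiniteLength A M := by
  induction hfin using IsNoetherianRing.induction_on_isQuotientEquivQuotientPrime A with
  | subsingleton N => intro _; exact IsFiniteLength.of_subsingleton
  | quotient N p e =>
    intro h
    have hp : p ∈ Module.support A N := by
      rw [e.support_eq, supp_quot]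
      exact le_refl p.asIdeal
    have hmax := h p hp
    have : IsSimpleModule A (A ⧸ p.asIdeal) := by
      rw [isSimpleModule_iff_quot_maximal]
      exact ⟨p.asIdeal, hmax, ⟨LinearEquiv.refl _ _⟩⟩
    have hfl : IsFiniteLength A (A ⧸ p.asIdeal) := by
      rw [isFiniteLength_iff_isNoetherian_isArtinian]
      exact ⟨inferInstance, inferInstance⟩
    exact e.symm.isFiniteLength hfl
  | exact N₁ N₂ N₃ f g hf hg hex ih₁ ih₃ =>
    intro h
    rw [Module.support_of_exact hex hf hg] at h
    have h₁ := ih₁ (fun p hp => h p (Or.inl hp))
    have h₃ := ih₃ (fun p hp => h p (Or.inr hp))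
    rw [isFiniteLength_iff_isNoetherian_isArtinian] at h₁ h₃ ⊢
    obtain ⟨_, _⟩ := h₁
    obtain ⟨_, _⟩ := h₃
    refine ⟨inferInstance, isArtinian_of_range_eq_ker f g ?_⟩
    exact (LinearMap.exact_iff.mp hex).symm

/-- For a finitely generated module M over a Noetherian commutative ring A, every prime ideal in the
support of M is a maximal ideal if and only if M has finite length. -/
theorem result (A : Type u) [CommRing A] [IsNoetherianRing A]
    (M : Type v) [AddCommGroup M] [Module A M] [Module.Finite A M] :
    (∀ p ∈ Module.support A M, p.asIdeal.IsMaximal) ↔ IsFiniteLength A M := by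
  constructor
  · exact finiteLength_of_maximal A M inferInstance
  · exact maximal_of_finiteLength

end Groth.Agent.S16234
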