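import Groth.Statements.S3532
-- import your own Groth.Agent.* helpers here

set_option autoImplicit false
universe u
open HomAlg3

namespace Groth.Agent.S3532

open CategoryTheory Opposite

section aux

variable (F : ℕᵒᵖ ⥤ AddCommGrpCat.{u})

/-- transition map -/
def tr {k q : ℕ} (h : q ≤ k) : F.obj (op k) →+ F.obj (op q) := (F.map (homOfLE h).op).hom

lemma tr_tr {k l q : ℕ} (h1 : q ≤ l) (h2 : l ≤ k) (x : F.obj (op k)) :
    tr F h1 (tr F h2 x) = tr F (h1.trans h2) x := by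
  unfold tr
  have : F.map (homOfLE (h1.trans h2)).op = F.map (homOfLE h2).op ≫ F.map (homOfLE h1).op := by
    rw [← F.map_comp]
    congr 1
  rw [this]
  rfl

lemma R_anti {k l q : ℕ} (h1 : q ≤ l) (h2 : l ≤ k) :
    (tr F (h1.trans h2)).range ≤ (tr F h1).range := by
  rintro x ⟨y, rfl⟩
  exact ⟨tr F h2 y, tr_tr F h1 h2 y⟩

/-- concrete Mittag-Leffler -/
def CML : Prop := ∀ q : ℕ, ∃ k₀ : ℕ, ∃ h₀ : q ≤ k₀, ∀ (k : ℕ) (hk : k₀ ≤ k),
  (tr F (h₀.trans hk)).range = (tr F h₀).range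

lemma ml_iff_cml : (F ⋙ forget AddCommGrpCat).IsMittagLeffler ↔ CML F := by
  constructor
  · intro h q
    obtain ⟨i, f, hf⟩ := h (op q)
    have h₀ : q ≤ i.unop := leOfHom f.unop
    refine ⟨i.unop, h₀, fun k hk => le_antisymm (R_anti F h₀ hk) ?_⟩
    intro x hx
    have hf' := hf (k := op k) (homOfLE (h₀.trans hk)).op
    have hfeq : f = (homOfLE h₀).op := Subsingleton.elim _ _
    subst hfeq
    have : x ∈ Set.range ((F ⋙ forget AddCommGrpCat).map (homOfLE h₀).op) := by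
      obtain ⟨y, rfl⟩ := hx
      exact ⟨y, rfl⟩
    obtain ⟨z, hz⟩ := hf' this
    exact ⟨z, hz⟩
  · intro h j
    obtain ⟨k₀, h₀, hk₀⟩ := h j.unop
    refine ⟨op k₀, (homOfLE h₀).op, ?_⟩
    intro k g
    have hqk : j.unop ≤ k.unop := leOfHom g.unop
    have hg : g = (homOfLE hqk).op := Subsingleton.elim _ _
    subst hg
    rintro x ⟨y, rfl⟩
    have hx : (tr F h₀ y) ∈ (tr F h₀).range := ⟨y, rfl⟩
    rcases le_total k₀ k.unop with hk | hk
    · rw [← hk₀ k.unop hk] at hx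
      obtain ⟨z, hz⟩ := hx
      exact ⟨z, hz⟩
    · have := R_anti F hqk hk hx
      obtain ⟨z, hz⟩ := this
      exact ⟨z, hz⟩

lemma cml_of_graded
    (h0 : ∃ k₀ : ℕ, ∀ (k : ℕ) (hk : k₀ ≤ k),
      (tr F (Nat.zero_le k)).range = (tr F (Nat.zero_le k₀)).range)
    (hp : ∀ p : ℕ, ∃ k₀ : ℕ, ∃ h₀ : p + 1 ≤ k₀, ∀ (k : ℕ) (hk : k₀ ≤ k),
      (tr F (h₀.trans hk)).range ⊓ (tr F (Nat.le_succ p)).ker =
        (tr F h₀).range ⊓ (tr F (Nat.le_succ p)).ker) : CML F := by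
  intro q
  induction q with
  | zero =>
    obtain ⟨k₀, hk₀⟩ := h0
    exact ⟨k₀, Nat.zero_le _, fun k hk => hk₀ k hk⟩
  | succ p ih =>
    obtain ⟨k₁, h₁, hk₁⟩ := ih
    obtain ⟨k₂, h₂, hk₂⟩ := hp p
    have hk₀p : p + 1 ≤ max k₁ k₂ := h₂.trans (le_max_right _ _)
    refine ⟨max k₁ k₂, hk₀p, fun k hk => le_antisymm (R_anti F hk₀p hk) ?_⟩
    rintro x ⟨x', rfl⟩
    -- t x ∈ R k₀ p = R k p
    have hpk₀ : p ≤ max k₁ k₂ := (Nat.le_succ p).trans hk₀p
    have e1 : (tr F (h₁.trans ((le_max_left k₁ k₂).trans hk))).range = (tr F h₁).range :=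
      hk₁ k ((le_max_left k₁ k₂).trans hk)
    have e2 : (tr F (h₁.trans (le_max_left k₁ k₂))).range = (tr F h₁).range :=
      hk₁ _ (le_max_left k₁ k₂)
    have htx : tr F (Nat.le_succ p) (tr F hk₀p x') ∈ (tr F (h₁.trans (le_max_left k₁ k₂))).range :=
      ⟨x', (tr_tr F _ _ x').symm⟩
    rw [e2, ← e1] at htx
    obtain ⟨y', hy'⟩ := htx
    -- y = tr (k → p+1) y'
    have hpk : p + 1 ≤ k := hk₀p.trans hk
    set y := tr F hpk y' with hy
    have hty : tr F (Nat.le_succ p) y = tr F (Nat.le_succ p) (tr F hk₀p x') := by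
      rw [hy, tr_tr]
      exact hy'
    have hyk : y ∈ (tr F hpk).range := ⟨y', rfl⟩
    have hyk₀ : y ∈ (tr F hk₀p).range := R_anti F hk₀p hk hyk
    have hdiff : tr F hk₀p x' - y ∈ (tr F hk₀p).range ⊓ (tr F (Nat.le_succ p)).ker := by
      rw [AddSubgroup.mem_inf]
      refine ⟨sub_mem ⟨x', rfl⟩ hyk₀, ?_⟩
      rw [AddMonoidHom.mem_ker, map_sub, hty, sub_self]
    have e3 := hk₂ _ (le_max_right k₁ k₂)
    have e4 := hk₂ k ((le_max_right k₁ k₂).trans hk)
    rw [e3, ← e4] at hdiff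
    have := add_mem (AddSubgroup.mem_inf.mp hdiff).1 hyk
    simpa using this

end aux

open CategoryTheory in
/-- Category of abelian groups, system indexed by the natural numbers: Let (A_k)_{k ≥ 0} be an inverse
system of abelian groups. For p ≤ k write Im_k(A_p) for the image of A_k → A_p, and K_p for the
kernel of A_p → A_{p-1} (K_0 = A_0). Then (A_k) satisfies the Mittag-Leffler condition (for each p
the subgroups Im_k(A_p) are eventually constant in k) if and only if for each p the subgroups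
Im_k(A_p) ∩ K_p are eventually constant in k. -/
theorem result (F : ℕᵒᵖ ⥤ AddCommGrpCat.{u}) :
    (F ⋙ forget AddCommGrpCat).IsMittagLeffler ↔
      ((∃ k₀ : ℕ, ∀ (k : ℕ) (hk : k₀ ≤ k),
          (F.map (homOfLE (Nat.zero_le k)).op).hom.range = (F.map (homOfLE (Nat.zero_le k₀)).op).hom.range) ∧
        ∀ p : ℕ, ∃ k₀ : ℕ, ∃ h₀ : p + 1 ≤ k₀, ∀ (k : ℕ) (hk : k₀ ≤ k),
          (F.map (homOfLE (h₀.trans hk)).op).hom.range ⊓ (F.map (homOfLE (Nat.le_succ p)).op).hom.ker =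
            (F.map (homOfLE h₀).op).hom.range ⊓ (F.map (homOfLE (Nat.le_succ p)).op).hom.ker) := by
  rw [ml_iff_cml]
  constructor
  · intro h
    constructor
    · obtain ⟨k₀, h₀, hk₀⟩ := h 0
      exact ⟨k₀, fun k hk => hk₀ k hk⟩
    · intro p
      obtain ⟨k₀, h₀, hk₀⟩ := h (p + 1)
      refine ⟨k₀, h₀, fun k hk => ?_⟩
      have := hk₀ k hk
      unfold tr at this
      rw [this]
  · rintro ⟨h0, hp⟩
    exact cml_of_graded F h0 hp

end Groth.Agent.S3532
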