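import Groth.Statements.S8352
import Mathlib
-- import your own Groth.Agent.* helpers here

set_option autoImplicit false
universe u
open CategoryTheory CategoryTheory.Limits Opposite
open HomAlg3

namespace Groth.Agent.S8352


section helpers

variable (G : ℕᵒᵖ ⥤ Type u)

/-- all parallel morphisms of ℕᵒᵖ agree -/
theorem map_eq {a b : ℕᵒᵖ} (f g : a ⟶ b) : G.map f = G.map g := by
  have : f = g := Subsingleton.elim _ _
  rw [this]

theorem map_eq_apply {a b : ℕᵒᵖ} (f g : a ⟶ b) (x : G.obj a) : G.map f x = G.map g x := by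
  rw [map_eq G f g]

theorem exists_section_of_mem_eventualRange (hG : G.IsMittagLeffler) (p : ℕ) (y : G.obj (op p))
    (hy : y ∈ G.eventualRange (op p)) :
    ∃ s : G.sections, s.1 (op p) = y := by
  classical
  -- the step function
  have step : ∀ (n : ℕ) (z : {z : G.obj (op (p + n)) // z ∈ G.eventualRange (op (p + n))}),
      ∃ w : {w : G.obj (op (p + (n + 1))) // w ∈ G.eventualRange (op (p + (n + 1)))},
        G.map (homOfLE (Nat.le_succ (p + n))).op w.1 = z.1 := by
    intro n z
    obtain ⟨w, hw, hwz⟩ := hG.subset_image_eventualRange G (homOfLE (Nat.le_succ (p + n))).op z.2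
    exact ⟨⟨w, hw⟩, hwz⟩
  choose next hnext using step
  let seq : ∀ n : ℕ, {z : G.obj (op (p + n)) // z ∈ G.eventualRange (op (p + n))} :=
    fun n ↦ Nat.rec (motive := fun n ↦ {z : G.obj (op (p + n)) // z ∈ G.eventualRange (op (p + n))})
      ⟨y, hy⟩ (fun n z ↦ next n z) n
  have seq_succ : ∀ n, seq (n + 1) = next n (seq n) := fun n ↦ rfl
  have seq_zero : (seq 0).1 = y := rfl
  -- chain
  have chain : ∀ n m (h : n ≤ m), G.map (homOfLE (Nat.add_le_add_left h p)).op (seq m).1 = (seq n).1 := by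
    intro n m h
    induction m, h using Nat.le_induction with
    | base =>
      have : (homOfLE (Nat.add_le_add_left (le_refl n) p)).op = 𝟙 (op (p + n)) :=
        Subsingleton.elim _ _
      rw [this, G.map_id]; rfl
    | succ m hnm ih =>
      have e : G.map (homOfLE (Nat.add_le_add_left (Nat.le_succ_of_le hnm) p)).op =
          G.map ((homOfLE (Nat.le_succ (p + m))).op ≫ (homOfLE (Nat.add_le_add_left hnm p)).op) :=
        map_eq G _ _
      rw [e, Functor.map_comp_apply, seq_succ, hnext, ih]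
  -- the section
  let s : ∀ j : ℕᵒᵖ, G.obj j := fun j ↦ G.map (homOfLE (Nat.le_add_left j.unop p)).op (seq j.unop).1
  refine ⟨⟨s, ?_⟩, ?_⟩
  · intro j j' f
    have hle : j'.unop ≤ j.unop := leOfHom f.unop
    have h1 := chain j'.unop j.unop hle
    show G.map f (G.map (homOfLE (Nat.le_add_left j.unop p)).op (seq j.unop).1) =
      G.map (homOfLE (Nat.le_add_left j'.unop p)).op (seq j'.unop).1
    rw [← h1, ← Functor.map_comp_apply, ← Functor.map_comp_apply]
    exact map_eq_apply G _ _ _
  · show G.map (homOfLE (Nat.le_add_left p p)).op (seq p).1 = y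
    have h1 := chain 0 p (Nat.zero_le p)
    rw [seq_zero] at h1
    rw [← h1]


/-- elements of the eventual range lift to the limit -/
theorem key (F : ℕᵒᵖ ⥤ AddCommGrpCat.{u})
    (hF : (F ⋙ forget AddCommGrpCat).IsMittagLeffler) (p : ℕ) (y : F.obj (op p))
    (hy : ∀ (k : ℕ) (h : p ≤ k), y ∈ (F.map (homOfLE h).op).hom.range) :
    y ∈ (limit.π F (op p)).hom.range := by
  have hy' : (y : (F ⋙ forget AddCommGrpCat).obj (op p)) ∈
      (F ⋙ forget AddCommGrpCat).eventualRange (op p) := by
    rw [Functor.mem_eventualRange_iff]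
    intro i f
    obtain ⟨z, hz⟩ := hy i.unop (leOfHom f.unop)
    refine ⟨z, ?_⟩
    have : f = (homOfLE (leOfHom f.unop)).op := Subsingleton.elim _ _
    rw [this]
    exact hz
  obtain ⟨s, hs⟩ := exists_section_of_mem_eventualRange (F ⋙ forget AddCommGrpCat) hF p y hy'
  let t := isLimitOfPreserves (forget AddCommGrpCat) (limit.isLimit F)
  refine ⟨(Types.isLimitEquivSections t).symm s, ?_⟩
  have := Types.isLimitEquivSections_symm_apply t s (op p)
  rw [hs] at this
  exact this

end helpers

/-- Category of abelian groups, system indexed by the natural numbers: Let (A_k) be an inverse system of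
abelian groups satisfying the Mittag-Leffler condition, A = lim A_k with projections π_p : A ⟶ A_p.
Filter A and each A_k by the kernels of the maps to A_{p-1} (with A_{-1} = 0); the graded piece
gr^p(A) is identified with Im(π_p) ∩ Ker(A_p ⟶ A_{p-1}) and gr^p(A_k), k ≥ p, with Im(A_k ⟶ A_p) ∩
Ker(A_p ⟶ A_{p-1}), a decreasing family of subgroups of A_p. The statement gr^p(A) ≅ lim_k gr^p(A_k)
then reads: Im(π_0) = ⋂_k Im(A_k ⟶ A_0), and for every p, Im(π_{p+1}) ∩ Ker(A_{p+1} ⟶ A_p) = ⋂_{k ≥
p+1} (Im(A_k ⟶ A_{p+1}) ∩ Ker(A_{p+1} ⟶ A_p)). -/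
theorem result (F : ℕᵒᵖ ⥤ AddCommGrpCat.{u})
    (hF : (F ⋙ forget AddCommGrpCat).IsMittagLeffler) :
    (limit.π F (op 0)).hom.range = ⨅ k : ℕ, (F.map (homOfLE (Nat.zero_le k)).op).hom.range ∧
      ∀ p : ℕ, (limit.π F (op (p + 1))).hom.range ⊓ (F.map (homOfLE (Nat.le_succ p)).op).hom.ker =
        ⨅ (k : ℕ) (hk : p + 1 ≤ k),
          (F.map (homOfLE hk).op).hom.range ⊓ (F.map (homOfLE (Nat.le_succ p)).op).hom.ker := by
  constructor
  · ext y
    rw [AddSubgroup.mem_iInf]
    constructor
    · rintro ⟨x, rfl⟩ k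
      refine ⟨(limit.π F (op k)).hom x, ?_⟩
      rw [← limit.w F (homOfLE (Nat.zero_le k)).op]
      rfl
    · intro h
      apply key F hF 0 y
      intro k hk
      exact h k
  · intro p
    ext y
    simp only [AddSubgroup.mem_inf, AddSubgroup.mem_iInf]
    constructor
    · rintro ⟨⟨x, rfl⟩, hker⟩ k hk
      refine ⟨⟨(limit.π F (op k)).hom x, ?_⟩, hker⟩
      rw [← limit.w F (homOfLE hk).op]
      rfl
    · intro h
      refine ⟨?_, (h (p + 1) le_rfl).2⟩
      apply key F hF (p + 1) y
      intro k hk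
      exact (h k hk).1

end Groth.Agent.S8352
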