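import Groth.Statements.S12785
import Groth.Agent.Lib.Helper80.FibCat15

set_option backward.isDefEq.respectTransparency false

set_option autoImplicit false
open CategoryTheory CategoryTheory.Limits
universe v u
open FibCat

namespace Groth.Agent.S12785

/-- The composite of two representable 1-morphisms `f : 𝒳 ⟶ 𝒴`, `g : 𝒴 ⟶ 𝒵` of categories over `C` is a
representable 1-morphism. (The published statement is for categories fibred in groupoids over
schemes over a base; this row is stated for categories over any base category.) -/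
theorem result {C : Type u} [Category.{v} C] {𝒳 𝒴 𝒵 : BasedCategory.{v, max u v} C}
    (f : 𝒳 ⥤ᵇ 𝒴) (g : 𝒴 ⥤ᵇ 𝒵) (hf : FibCat.IsRepresentable1 f) (hg : FibCat.IsRepresentable1 g) :
    FibCat.IsRepresentable1 (BasedFunctor.comp f g) := by
  intro U G
  obtain ⟨V, K, hK⟩ := hg U G
  obtain ⟨K', hK', -, -⟩ := Groth.Agent.Lib.Helper80.IsEquivOver.symm hK
  have h1 := hf V (BasedFunctor.comp K' (FibCat.fpSnd G g))
  have h2 := (Groth.Agent.Lib.Helper80.isRepresentable_iff_of_isEquivOver _
    (Groth.Agent.Lib.Helper80.fpMapLeft_isEquivOver (FibCat.fpSnd G g) f K'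
      (BasedFunctor.comp K' (FibCat.fpSnd G g)) (BasedNatIso.id _) hK')).mp h1
  exact Groth.Agent.Lib.Helper80.isRepresentable_of_isEquivOver _
    (Groth.Agent.Lib.Helper80.fpPasteRight_isEquivOver G g f) h2

end Groth.Agent.S12785
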