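import Groth.Statements.S13598
import Mathlib.Algebra.Polynomial.Lifts
import Mathlib.RingTheory.LocalRing.RingHom.Basic
import Mathlib.RingTheory.Ideal.Quotient.Operations
import Mathlib.RingTheory.Ideal.Over

set_option autoImplicit false
universe u
open Hensel

namespace Groth.Agent.S13598


open Polynomial in
/-- A quotient of a henselian local ring which is a local ring is henselian. -/
theorem henselianLocalRing_quotient {S : Type u} [CommRing S] [HenselianLocalRing S] (K : Ideal S)
    [IsLocalRing (S ⧸ K)] : HenselianLocalRing (S ⧸ K) where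
  is_henselian := by
    intro f hf a₀ h₁ h₂
    have hsurj : Function.Surjective (Ideal.Quotient.mk K) := Ideal.Quotient.mk_surjective
    have hloc : IsLocalHom (Ideal.Quotient.mk K) := IsLocalHom.of_surjective _ hsurj
    have hlifts : f ∈ Polynomial.lifts (Ideal.Quotient.mk K) := by
      rw [Polynomial.lifts_iff_coeff_lifts]
      intro n
      exact hsurj _
    obtain ⟨F, hF, -, hFm⟩ := Polynomial.lifts_and_natDegree_eq_and_monic hlifts hf
    obtain ⟨b₀, rfl⟩ := hsurj a₀
    have e1 : Ideal.Quotient.mk K (F.eval b₀) = f.eval (Ideal.Quotient.mk K b₀) := by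
      rw [← hF, Polynomial.eval_map_apply]
    have e2 : Ideal.Quotient.mk K (F.derivative.eval b₀) =
        f.derivative.eval (Ideal.Quotient.mk K b₀) := by
      rw [← hF, Polynomial.derivative_map, Polynomial.eval_map_apply]
    have h₁' : F.eval b₀ ∈ IsLocalRing.maximalIdeal S := by
      rw [IsLocalRing.mem_maximalIdeal, mem_nonunits_iff]
      intro hu
      have : IsUnit (f.eval (Ideal.Quotient.mk K b₀)) := e1 ▸ hu.map (Ideal.Quotient.mk K)
      exact (IsLocalRing.mem_maximalIdeal _).1 h₁ this
    have h₂' : IsUnit (F.derivative.eval b₀) := by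
      apply hloc.map_nonunit
      rw [e2]
      exact h₂
    obtain ⟨b, hb, hbb⟩ := HenselianLocalRing.is_henselian F hFm b₀ h₁' h₂'
    refine ⟨Ideal.Quotient.mk K b, ?_, ?_⟩
    · rw [Polynomial.IsRoot.def, ← hF, Polynomial.eval_map_apply, hb, map_zero]
    · rw [← map_sub, IsLocalRing.mem_maximalIdeal, mem_nonunits_iff]
      intro hu
      have := hloc.map_nonunit _ hu
      exact (IsLocalRing.mem_maximalIdeal _).1 hbb this

/-- For a local ring A, a henselization A ⟶ S of A (S a henselian local ring, the structure map local,
and initial among local homomorphisms from A to henselian local rings) and an ideal I of A inside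
the maximal ideal, the quotient S/IS with its induced algebra structure over A/I is a henselization
of A/I. (The local-ring and local-homomorphism instances on the quotients hold automatically; they
are taken as hypotheses only so that the conclusion can be stated.) -/
theorem result {A S : Type u} [CommRing A] [IsLocalRing A] [CommRing S]
    [IsLocalRing S] [Algebra A S] [IsLocalHom (algebraMap A S)] [Hensel.IsHenselization A S]
    (I : Ideal A) (hI : I ≤ IsLocalRing.maximalIdeal A)
    [IsLocalRing (A ⧸ I)] [IsLocalRing (S ⧸ I.map (algebraMap A S))]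
    [IsLocalHom (algebraMap (A ⧸ I) (S ⧸ I.map (algebraMap A S)))] :
    Hensel.IsHenselization (A ⧸ I) (S ⧸ I.map (algebraMap A S)) := by
  have hS : HenselianLocalRing S := Hensel.IsHenselization.henselian (R := A)
  refine ⟨henselianLocalRing_quotient _, ?_⟩
  intro T _ _ f hf
  have hmkloc : IsLocalHom (Ideal.Quotient.mk I) :=
    IsLocalHom.of_surjective _ Ideal.Quotient.mk_surjective
  have hloc : IsLocalHom (f.comp (Ideal.Quotient.mk I)) := RingHom.isLocalHom_comp _ _
  obtain ⟨g, hg, hguniq⟩ := Hensel.IsHenselization.universal (R := A) (S := S) T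
    (f.comp (Ideal.Quotient.mk I)) hloc
  have hgI : ∀ a ∈ I.map (algebraMap A S), g a = 0 := by
    have hle : I.map (algebraMap A S) ≤ RingHom.ker g := by
      rw [Ideal.map_le_iff_le_comap]
      intro i hi
      rw [Ideal.mem_comap, RingHom.mem_ker]
      have h1 := RingHom.congr_fun hg i
      rw [RingHom.comp_apply] at h1
      rw [h1, RingHom.comp_apply, Ideal.Quotient.eq_zero_iff_mem.2 hi, map_zero]
    exact fun a ha => hle ha
  refine ⟨Ideal.Quotient.lift _ g hgI, ?_, ?_⟩
  · apply Ideal.Quotient.ringHom_ext
    ext a
    have h1 := RingHom.congr_fun hg a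
    rw [RingHom.comp_apply, RingHom.comp_apply] at h1
    rw [RingHom.comp_apply, RingHom.comp_apply, Ideal.Quotient.algebraMap_quotient_map_quotient,
      Ideal.Quotient.lift_mk, h1]
    rfl
  · intro g' hg'
    apply Ideal.Quotient.ringHom_ext
    have h2 : g'.comp (Ideal.Quotient.mk (I.map (algebraMap A S))) = g := by
      apply hguniq
      ext a
      have h1 := RingHom.congr_fun hg' (Ideal.Quotient.mk I a)
      rw [RingHom.comp_apply, Ideal.Quotient.algebraMap_quotient_map_quotient] at h1
      rw [RingHom.comp_apply, RingHom.comp_apply, h1, RingHom.comp_apply]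
    rw [h2]
    ext a
    rw [RingHom.comp_apply, Ideal.Quotient.lift_mk]

end Groth.Agent.S13598
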