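import Groth.Statements.S0736
import Groth.Agent.Lib.Helper4.FilteredFlat
import Groth.Agent.Lib.Helper4.IndColim

set_option autoImplicit false
open CategoryTheory CategoryTheory.Limits AlgebraicGeometry Opposite Topology
universe u
open ProEtW

namespace Groth.Agent.S0736

/-- An ind-etale ring map A -> B is weakly etale (A -> B and B (x)_A B -> B flat), in Mathlib's sense
Algebra.WeaklyEtale. -/
theorem result (A B : Type u) [CommRing A] [CommRing B] [Algebra A B]
    (h : EtPBC.IsIndEtale A B) : Algebra.WeaklyEtale A B := by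
  obtain ⟨J, hJ, hJf, D, c, hc, hEt, ⟨e⟩⟩ := h
  let instD : ∀ j, Algebra A (D.obj j).right := fun j => (D.obj j).hom.hom.toAlgebra
  let instC : Algebra A c.pt.right := c.pt.hom.hom.toAlgebra
  let eR : c.pt.right ≃+* B := ((Under.forget _).mapIso e).commRingCatIsoToRingEquiv
  let eA : c.pt.right ≃ₐ[A] B := AlgEquiv.ofRingEquiv (f := eR) (by
    intro a
    have hw := Under.w e.hom
    have := congrArg (fun φ => φ.hom a) hw
    exact this)
  have hW : ∀ j, Algebra.WeaklyEtale A (D.obj j).right := fun j => by
    have := hEt j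
    infer_instance
  refine Groth.Agent.Lib.Helper4.weaklyEtale_of_filtered (fun j => (D.obj j).right)
    (fun g => CommRingCat.toAlgHom (D.map g))
    (fun j => eA.toAlgHom.comp (CommRingCat.toAlgHom (c.ι.app j))) ?_ ?_ ?_
  · intro j k g
    ext y
    have := congrArg (fun φ => φ.right.hom y) (c.w g)
    exact congrArg eA this
  · intro b
    obtain ⟨j, y, hy⟩ := Groth.Agent.Lib.Helper4.colim_jointly_surjective hc (eA.symm b)
    refine ⟨j, y, ?_⟩
    change eA ((c.ι.app j).right y) = b
    rw [hy]
    exact eA.apply_symm_apply b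
  · intro j y y' hyy
    have h2 : (c.ι.app j).right y = (c.ι.app j).right y' := eA.injective hyy
    obtain ⟨k, g, hk⟩ := Groth.Agent.Lib.Helper4.colim_eq_imp hc j y y' h2
    exact ⟨k, g, hk⟩

end Groth.Agent.S0736
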