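import Groth.Statements.S19448
import Mathlib.RingTheory.Filtration
import Mathlib.GroupTheory.OrderOfElement
-- import your own Groth.Agent.* helpers here

set_option autoImplicit false
universe u
open CAlg
namespace Groth.Agent.S19448

section
variable {k : Type u} [Field k] {A : Type u} [CommRing A]
    [Algebra k A] [IsLocalRing A]
    {G : Type u} [Group G] [MulSemiringAction G A] [SMulCommClass G k A]

open IsLocalRing

theorem smul_algebraMap' (g : G) (c : k) : g • (algebraMap k A c) = algebraMap k A c := by
  rw [Algebra.algebraMap_eq_smul_one, smul_comm, smul_one]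

/-- Step 2: `g • a - a ∈ M ^ 2` for every `a`. -/
theorem step2
    (hres : Function.Surjective (algebraMap k (IsLocalRing.ResidueField A)))
    (g : G)
    (hg : ∀ a ∈ maximalIdeal A, g • a - a ∈ maximalIdeal A ^ 2) (a : A) :
    g • a - a ∈ maximalIdeal A ^ 2 := by
  obtain ⟨c, hc⟩ := hres (residue A a)
  have hm : a - algebraMap k A c ∈ maximalIdeal A := by
    rw [← IsLocalRing.residue_eq_zero_iff, map_sub, ← hc]
    rw [IsScalarTower.algebraMap_apply k A (ResidueField A)]
    simp [IsLocalRing.ResidueField.algebraMap_eq]
  have := hg _ hm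
  rw [smul_sub, smul_algebraMap'] at this
  convert this using 1
  ring

theorem smul_mem_max
    (hres : Function.Surjective (algebraMap k (IsLocalRing.ResidueField A)))
    (g : G)
    (hg : ∀ a ∈ maximalIdeal A, g • a - a ∈ maximalIdeal A ^ 2) (a : A)
    (ha : a ∈ maximalIdeal A) : g • a ∈ maximalIdeal A := by
  have h1 := hg a ha
  have h2 : g • a - a ∈ maximalIdeal A := Ideal.pow_le_self (by norm_num) h1
  have := Ideal.add_mem _ h2 ha
  simpa using this

/-- Step 3: `g • a - a ∈ M ^ (i+1)` for `a ∈ M ^ i`. -/
theorem step3
    (hres : Function.Surjective (algebraMap k (IsLocalRing.ResidueField A)))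
    (g : G)
    (hg : ∀ a ∈ maximalIdeal A, g • a - a ∈ maximalIdeal A ^ 2) (i : ℕ) :
    ∀ a ∈ maximalIdeal A ^ i, g • a - a ∈ maximalIdeal A ^ (i + 1) := by
  induction i with
  | zero =>
    intro a _
    exact Ideal.pow_le_pow_right (by norm_num) (step2 hres g hg a)
  | succ i ih =>
    intro a ha
    rw [pow_succ] at ha
    refine Submodule.mul_induction_on ha ?_ ?_
    · intro x hx y hy
      have e : g • (x * y) - x * y = (g • x - x) * (g • y) + x * (g • y - y) := by
        rw [smul_mul']; ring
      rw [e]
      refine Ideal.add_mem _ ?_ ?_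
      · rw [pow_succ]
        exact Ideal.mul_mem_mul (ih x hx) (smul_mem_max hres g hg y hy)
      · have : i + 1 + 1 = i + 2 := rfl
        rw [this, pow_add]
        exact Ideal.mul_mem_mul hx (hg y hy)
    · intro x y hx hy
      have e : g • (x + y) - (x + y) = (g • x - x) + (g • y - y) := by
        rw [smul_add]; ring
      rw [e]
      exact Ideal.add_mem _ hx hy

theorem step4_aux
    (hres : Function.Surjective (algebraMap k (IsLocalRing.ResidueField A)))
    (g : G)
    (hg : ∀ a ∈ maximalIdeal A, g • a - a ∈ maximalIdeal A ^ 2) (j : ℕ)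
    (hj : ∀ a : A, g • a - a ∈ maximalIdeal A ^ j) (a : A) (i : ℕ) :
    (g ^ i) • a - a - i • (g • a - a) ∈ maximalIdeal A ^ (j + 1) := by
  induction i with
  | zero => simp
  | succ i ih =>
    set b := (g ^ i) • a with hb
    have hba : b - a ∈ maximalIdeal A ^ j := by
      have h1 : b - a - i • (g • a - a) ∈ maximalIdeal A ^ j :=
        Ideal.pow_le_pow_right (Nat.le_succ j) ih
      have h2 : i • (g • a - a) ∈ maximalIdeal A ^ j := by
        rw [nsmul_eq_mul]
        exact Ideal.mul_mem_left _ _ (hj a)
      have := Ideal.add_mem _ h1 h2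
      simpa using this
    have h3 := step3 hres g hg j (b - a) hba
    have e : (g ^ (i + 1)) • a - a - (i + 1) • (g • a - a)
        = (g • (b - a) - (b - a)) + (b - a - i • (g • a - a)) := by
      rw [pow_succ', mul_smul, ← hb, smul_sub g, succ_nsmul]
      ring
    rw [e]
    exact Ideal.add_mem _ h3 ih

end

/-- Let k be a field, A a Noetherian local k-algebra with maximal ideal M and residue field k, and G a
finite group with |G| ≠ 0 in k acting on A by k-algebra automorphisms. An element of G which acts
trivially on M/M^2 acts trivially on A; in other words the stabilizer acts faithfully on the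
cotangent space whenever it acts faithfully on the local ring. -/
theorem result (k : Type u) [Field k] (A : Type u) [CommRing A]
    [Algebra k A] [IsLocalRing A] [IsNoetherianRing A]
    (hres : Function.Surjective (algebraMap k (IsLocalRing.ResidueField A)))
    (G : Type u) [Group G] [Finite G] [MulSemiringAction G A] [SMulCommClass G k A]
    (hG : (Nat.card G : k) ≠ 0) (g : G)
    (hg : ∀ a ∈ IsLocalRing.maximalIdeal A, g • a - a ∈ IsLocalRing.maximalIdeal A ^ 2) (a : A) :
    g • a = a := by
  have key : ∀ j : ℕ, ∀ a : A, g • a - a ∈ IsLocalRing.maximalIdeal A ^ j := by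
    intro j
    induction j with
    | zero => intro a; simp
    | succ j ih =>
      intro a
      have h := step4_aux hres g hg j ih a (Nat.card G)
      rw [pow_card_eq_one', one_smul, sub_self, zero_sub, neg_mem_iff] at h
      have h2 : ((Nat.card G : k)⁻¹) • ((Nat.card G) • (g • a - a)) = g • a - a := by
        rw [← Nat.cast_smul_eq_nsmul k, smul_smul, inv_mul_cancel₀ hG, one_smul]
      rw [← h2, Algebra.smul_def]
      exact Ideal.mul_mem_left _ _ h
  have h0 : g • a - a ∈ (⨅ i, IsLocalRing.maximalIdeal A ^ i : Ideal A) := by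
    rw [Ideal.mem_iInf]
    exact fun i => key i a
  rw [Ideal.iInf_pow_eq_bot_of_isLocalRing _ Ideal.IsPrime.ne_top'] at h0
  exact sub_eq_zero.1 h0

end Groth.Agent.S19448
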