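import Groth.Statements.S2187
import Mathlib
import Groth.Agent.Lib.Helper33.EulerChar
import Groth.Agent.Lib.Helper79.CosetAvoidance

set_option autoImplicit false
universe u
open CategoryTheory
open LCI

namespace Groth.Agent.S2187

/-- the core: existence of a nonzerodivisor in a given class of `I/I²`. -/
theorem exists_nzd_in_class {R : Type u} [CommRing R] [IsNoetherianRing R] [IsLocalRing R]
    (I : Ideal R) (hI0 : I ≠ ⊥) (n : ℕ) (hpd : HasProjectiveDimensionLT (ModuleCat.of R I) n)
    (x₀ : I) : ∃ (x : R) (hx : x ∈ I), x ∈ nonZeroDivisors R ∧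
      I.toCotangent ⟨x, hx⟩ = I.toCotangent x₀ := by
  classical
  have hfin := associatedPrimes.finite R R
  rcases Groth.Agent.Lib.Helper79.exists_add_notMem_or_exists_le hfin.toFinset
    (fun p hp => ((hfin.mem_toFinset).1 hp).isPrime) (I ^ 2) (x₀ : R) with
    ⟨z, hzI, hz⟩ | ⟨p, hp, _, hIp⟩
  · have hzI' : z ∈ I := Ideal.pow_le_self (by norm_num) hzI
    refine ⟨(x₀ : R) + z, I.add_mem x₀.2 hzI', ?_, ?_⟩
    · by_contra hnz
      have hmem : (x₀ : R) + z ∈ (nonZeroDivisors R : Set R)ᶜ := hnz
      rw [← biUnion_associatedPrimes_eq_compl_nonZeroDivisors] at hmem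
      simp only [Set.mem_iUnion] at hmem
      obtain ⟨p, hp, hxp⟩ := hmem
      exact hz p ((hfin.mem_toFinset).2 hp) hxp
    · rw [Ideal.toCotangent_eq]
      simpa using hzI
  · exfalso
    have hp' := (hfin.mem_toFinset).1 hp
    have hprime : p.IsPrime := hp'.isPrime
    exact Groth.Agent.Lib.Helper33.EulerChar.not_le_of_mem_ass R I hI0 n hpd p hp'
      (hprime.le_of_pow_le hIp)

/-- Let R be a Noetherian local ring and I an ideal of finite projective dimension as an R-module. If F
is a direct summand of the conormal module I/I^2 which is isomorphic to R/I, then there is a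
nonzerodivisor x in I whose class in I/I^2 generates F. -/
theorem result {R : Type u} [CommRing R]
    [IsNoetherianRing R] [IsLocalRing R] (I : Ideal R) (n : ℕ)
    (hpd : HasProjectiveDimensionLT (ModuleCat.of R I) n)
    (F G : Submodule (R ⧸ I) I.Cotangent) (hFG : IsCompl F G) (e : F ≃ₗ[R ⧸ I] (R ⧸ I)) :
    ∃ (x : R) (hx : x ∈ I), x ∈ nonZeroDivisors R ∧
      Submodule.span (R ⧸ I) {I.toCotangent ⟨x, hx⟩} = F := by
  classical
  by_cases hItop : I = ⊤
  · have hsub : Subsingleton (R ⧸ I) := by
      rw [hItop]; infer_instance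
    have hsubC : Subsingleton I.Cotangent := Module.subsingleton (R ⧸ I) _
    refine ⟨1, hItop ▸ Submodule.mem_top, one_mem _, ?_⟩
    exact Subsingleton.elim _ _
  · have hnt : Nontrivial (R ⧸ I) := Ideal.Quotient.nontrivial_iff.mpr hItop
    have hI0 : I ≠ ⊥ := by
      intro h0
      have hsubI : Subsingleton I := by
        rw [h0]; infer_instance
      have hsubC : Subsingleton I.Cotangent :=
        Function.Surjective.subsingleton I.toCotangent_surjective
      have hsubF : Subsingleton F := inferInstance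
      have : Subsingleton (R ⧸ I) := e.symm.toEquiv.subsingleton
      exact not_subsingleton (R ⧸ I) this
    obtain ⟨x₀, hx₀⟩ := I.toCotangent_surjective ((e.symm 1 : F) : I.Cotangent)
    obtain ⟨x, hx, hnzd, hcl⟩ := exists_nzd_in_class I hI0 n hpd x₀
    refine ⟨x, hx, hnzd, ?_⟩
    rw [hcl, hx₀]
    apply le_antisymm
    · rw [Submodule.span_singleton_le_iff_mem]
      exact (e.symm 1).2
    · intro y hy
      rw [Submodule.mem_span_singleton]
      refine ⟨e ⟨y, hy⟩, ?_⟩
      have h1 : e.symm (e ⟨y, hy⟩) = e ⟨y, hy⟩ • e.symm 1 := by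
        rw [← map_smul, smul_eq_mul, mul_one]
      rw [e.symm_apply_apply] at h1
      have h2 := congrArg (Subtype.val) h1
      simpa using h2.symm

end Groth.Agent.S2187
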