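import Groth.Statements.S1032
import Mathlib.CategoryTheory.Adjunction.Whiskering
import Mathlib.CategoryTheory.Adjunction.Comma
import Mathlib.Algebra.Homology.DerivedCategory.KInjective
-- import your own Groth.Agent.* helpers here

set_option autoImplicit false
universe w v v' u u'
open CategoryTheory CategoryTheory.Limits
open CohDer

namespace Groth.Agent.S1032

section aux

variable {A : Type u} [Category.{v} A] [Abelian A] [HasDerivedCategory.{w} A]
  (hKinj : ∀ K : CochainComplex A ℤ, ∃ (I : CochainComplex A ℤ) (f : K ⟶ I), I.IsKInjective ∧ QuasiIso f)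

include hKinj in
lemma exists_kinj (X : DerivedCategory A) :
    ∃ (I : CochainComplex A ℤ), I.IsKInjective ∧
      Nonempty (DerivedCategory.Qh.obj ((HomotopyCategory.quotient A (ComplexShape.up ℤ)).obj I) ≅ X) := by
  obtain ⟨I, f, hI, hf⟩ := hKinj (DerivedCategory.Q.objPreimage X)
  refine ⟨I, hI, ⟨(DerivedCategory.quotientCompQhIso A).app I ≪≫
    (asIso (DerivedCategory.Q.map f)).symm ≪≫ DerivedCategory.Q.objObjPreimageIso X⟩⟩

/-- the chosen K-injective complex representing an object of the derived category -/
noncomputable def rObj (X : DerivedCategory A) : CochainComplex A ℤ := (exists_kinj hKinj X).choose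

instance (X : DerivedCategory A) : (rObj hKinj X).IsKInjective := (exists_kinj hKinj X).choose_spec.1

noncomputable def rIso (X : DerivedCategory A) :
    DerivedCategory.Qh.obj ((HomotopyCategory.quotient A (ComplexShape.up ℤ)).obj (rObj hKinj X)) ≅ X :=
  (exists_kinj hKinj X).choose_spec.2.some

noncomputable def rEquiv (Y : HomotopyCategory A (ComplexShape.up ℤ)) (X : DerivedCategory A) :
    (DerivedCategory.Qh.obj Y ⟶ X) ≃
      (Y ⟶ (HomotopyCategory.quotient A (ComplexShape.up ℤ)).obj (rObj hKinj X)) :=
  ((Equiv.ofBijective _ (CochainComplex.IsKInjective.Qh_map_bijective Y (rObj hKinj X))).trans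
    (Iso.homCongr (Iso.refl _) (rIso hKinj X))).symm

lemma rEquiv_symm_apply (Y : HomotopyCategory A (ComplexShape.up ℤ)) (X : DerivedCategory A)
    (g : Y ⟶ (HomotopyCategory.quotient A (ComplexShape.up ℤ)).obj (rObj hKinj X)) :
    (rEquiv hKinj Y X).symm g = DerivedCategory.Qh.map g ≫ (rIso hKinj X).hom := by
  simp [rEquiv]

noncomputable def rAdj : (DerivedCategory.Qh : HomotopyCategory A (ComplexShape.up ℤ) ⥤ _) ⊣
    Adjunction.rightAdjointOfEquiv (rEquiv hKinj) (by
      intro Y' Y X f g
      apply (rEquiv hKinj Y' X).symm.injective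
      rw [Equiv.symm_apply_apply, rEquiv_symm_apply, Functor.map_comp, Category.assoc,
        ← rEquiv_symm_apply, Equiv.symm_apply_apply]) :=
  Adjunction.adjunctionOfEquivRight _ _

end aux

/-- Let A be an abelian category in which every cochain complex admits a quasi-isomorphism to a
K-injective complex, and let F be an exact functor from the homotopy category K(A) to a
pretriangulated category. Then F has a right derived functor RF with respect to quasi-isomorphisms
(defined on D(A)), and the canonical map F(I) ⟶ RF(I) is an isomorphism for every K-injective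
complex I. -/
theorem result {A : Type u} [Category.{v} A] [Abelian A] [HasDerivedCategory.{w} A]
    (hKinj : ∀ K : CochainComplex A ℤ, ∃ (I : CochainComplex A ℤ) (f : K ⟶ I), I.IsKInjective ∧ QuasiIso f)
    {D' : Type u'} [Category.{v'} D'] [Preadditive D'] [Limits.HasZeroObject D'] [HasShift D' ℤ]
    [∀ n : ℤ, (shiftFunctor D' n).Additive] [Pretriangulated D']
    [IsTriangulated D']
    (F : HomotopyCategory A (ComplexShape.up ℤ) ⥤ D') [F.CommShift ℤ] [F.IsTriangulated] :
    F.HasRightDerivedFunctor (HomotopyCategory.quasiIso A (ComplexShape.up ℤ)) ∧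
    ∀ [F.HasRightDerivedFunctor (HomotopyCategory.quasiIso A (ComplexShape.up ℤ))] (I : CochainComplex A ℤ), I.IsKInjective →
      IsIso ((F.totalRightDerivedUnit DerivedCategory.Qh (HomotopyCategory.quasiIso A (ComplexShape.up ℤ))).app
        ((HomotopyCategory.quotient A (ComplexShape.up ℤ)).obj I)) := by
  let adj := rAdj hKinj
  let ρ := Adjunction.rightAdjointOfEquiv (rEquiv hKinj) (by
      intro Y' Y X f g
      apply (rEquiv hKinj Y' X).symm.injective
      rw [Equiv.symm_apply_apply, rEquiv_symm_apply, Functor.map_comp, Category.assoc,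
        ← rEquiv_symm_apply, Equiv.symm_apply_apply])
  let α : F ⟶ DerivedCategory.Qh ⋙ ρ ⋙ F := ((adj.whiskerLeft D').unit.app F)
  have hα : (ρ ⋙ F).IsRightDerivedFunctor α (HomotopyCategory.quasiIso A (ComplexShape.up ℤ)) :=
    ⟨⟨⟨mkInitialOfLeftAdjoint _ (adj.whiskerLeft D') F⟩⟩⟩
  have h1 : F.HasRightDerivedFunctor (HomotopyCategory.quasiIso A (ComplexShape.up ℤ)) :=
    Functor.HasRightDerivedFunctor.mk' (ρ ⋙ F) α
  refine ⟨h1, ?_⟩
  intro _ I hI
  let W := HomotopyCategory.quasiIso A (ComplexShape.up ℤ)
  let Y := (HomotopyCategory.quotient A (ComplexShape.up ℤ)).obj I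
  -- the unit of the adjunction at a K-injective object is an isomorphism
  have hη : IsIso (adj.unit.app Y) := by
    have h2 : DerivedCategory.Qh.map (adj.unit.app Y) ≫ (rIso hKinj (DerivedCategory.Qh.obj Y)).hom = 𝟙 _ := by
      rw [← rEquiv_symm_apply]
      have : adj.unit.app Y = rEquiv hKinj Y (DerivedCategory.Qh.obj Y) (𝟙 _) := by
        dsimp only [adj, rAdj]
        exact Adjunction.adjunctionOfEquivRight_unit_app _ _ _
      rw [this]
      exact Equiv.symm_apply_apply _ _
    have h3 : IsIso (DerivedCategory.Qh.map (adj.unit.app Y)) := by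
      have : DerivedCategory.Qh.map (adj.unit.app Y) = (rIso hKinj (DerivedCategory.Qh.obj Y)).inv := by
        rw [← cancel_mono (rIso hKinj (DerivedCategory.Qh.obj Y)).hom, h2, Iso.inv_hom_id]
      rw [this]
      infer_instance
    obtain ⟨g, hg⟩ := (CochainComplex.IsKInjective.Qh_map_bijective
      ((HomotopyCategory.quotient A (ComplexShape.up ℤ)).obj (rObj hKinj (DerivedCategory.Qh.obj Y))) I).surjective
        (inv (DerivedCategory.Qh.map (adj.unit.app Y)))
    refine ⟨g, (CochainComplex.IsKInjective.Qh_map_bijective _ I).injective ?_,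
      (CochainComplex.IsKInjective.Qh_map_bijective _ (rObj hKinj (DerivedCategory.Qh.obj Y))).injective ?_⟩
    · rw [CategoryTheory.Functor.map_comp, hg, CategoryTheory.Functor.map_id]
      exact IsIso.hom_inv_id _
    · rw [CategoryTheory.Functor.map_comp, hg, CategoryTheory.Functor.map_id]
      exact IsIso.inv_hom_id _
  have hαY : IsIso (α.app Y) := by
    have : α.app Y = F.map (adj.unit.app Y) := by
      simp [α]
    rw [this]
    infer_instance
  have key := Functor.rightDerivedNatTrans_app (ρ ⋙ F) (F.totalRightDerived DerivedCategory.Qh W) α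
    (F.totalRightDerivedUnit DerivedCategory.Qh W) W (𝟙 F) Y
  rw [NatTrans.id_app, Category.id_comp] at key
  have hiso : IsIso (Functor.rightDerivedNatTrans (ρ ⋙ F) (F.totalRightDerived DerivedCategory.Qh W) α
    (F.totalRightDerivedUnit DerivedCategory.Qh W) W (𝟙 F)) :=
    (Functor.rightDerivedUnique (ρ ⋙ F) (F.totalRightDerived DerivedCategory.Qh W) α
      (F.totalRightDerivedUnit DerivedCategory.Qh W) W).isIso_hom
  change IsIso ((F.totalRightDerivedUnit DerivedCategory.Qh W).app Y)
  rw [← key]
  infer_instance

end Groth.Agent.S1032
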