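import Groth.Statements.S0864
import Mathlib.CategoryTheory.Sites.Adjunction
-- import your own Groth.Agent.* helpers here

set_option autoImplicit false
universe u
open CategoryTheory
open CohSite

namespace Groth.Agent.S0864

/-- Transport of subsingleton-ness of Ext groups along an isomorphism in the first variable. -/
theorem subsingleton_ext_of_iso {A : Type*} [Category A] [Abelian A] [HasExt A]
    {X X' Y : A} (e : X ≅ X') (n : ℕ) (h : Subsingleton (Abelian.Ext X Y n)) :
    Subsingleton (Abelian.Ext X' Y n) := by
  refine ⟨fun a b => ?_⟩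
  have key : ∀ c : Abelian.Ext X' Y n,
      (Abelian.Ext.mk₀ e.inv).comp ((Abelian.Ext.mk₀ e.hom).comp c (zero_add n)) (zero_add n) = c := by
    intro c
    rw [← Abelian.Ext.comp_assoc (Abelian.Ext.mk₀ e.inv) (Abelian.Ext.mk₀ e.hom) c
      (a₁₂ := 0) (a₂₃ := n) (a := n) (by simp) (by simp) (by simp)]
    rw [Abelian.Ext.mk₀_comp_mk₀, e.inv_hom_id, Abelian.Ext.mk₀_id_comp]
  rw [← key a, ← key b]
  congr 1
  exact Subsingleton.elim _ _

/-- A totally acyclic abelian sheaf F on a site satisfies H^p(U, F) = 0 for every object U and every p >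
0. -/
theorem result {C : Type u} [SmallCategory C] {J : GrothendieckTopology C}
    (F : Sheaf J AddCommGrpCat.{u}) (hF : CohCx.IsTotallyAcyclic F) (U : C) (p : ℕ) :
    Subsingleton (CohSite.HU F (p + 1) U) := by
  have h := hF ((presheafToSheaf J (Type u)).obj (yoneda.obj U)) p
  have : J.PreservesSheafification AddCommGrpCat.free.{u} :=
    Sheaf.preservesSheafification_of_adjunction J AddCommGrpCat.adj
  have e := (presheafToSheafCompComposeAndSheafifyIso J AddCommGrpCat.free.{u}).app (yoneda.obj U)
  exact subsingleton_ext_of_iso e (p + 1) h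

end Groth.Agent.S0864
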