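import Groth.Statements.S0865
import Groth.Agent.Lib.Cohomology.helper5_SiteH
import Groth.Agent.Lib.Cohomology.Helper3_Acyclic
import Groth.Agent.S0864
-- import your own Groth.Agent.* helpers here

set_option autoImplicit false
universe u
open CategoryTheory
open CohSite

namespace Groth.Agent.S0865

open CategoryTheory.Limits Groth.Agent.Lib.Cohomology in
theorem aux {C D : Type u} [SmallCategory C] [SmallCategory D]
    (J : GrothendieckTopology C) (K : GrothendieckTopology D) (u : D ⥤ C) [u.IsContinuous K J]
    (F : Sheaf J AddCommGrpCat.{u}) (hF : CohCx.IsTotallyAcyclic F) (p : ℕ) :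
    IsZero ((CohSite.Rpush J K u (p + 1)).obj F) := by
  have : PreservesFiniteLimits (CohSite.push J K u) := by
    have : PreservesLimitsOfSize.{0, 0} (CohSite.push J K u) :=
      (Adjunction.ofIsRightAdjoint (CohSite.push J K u)).rightAdjoint_preservesLimits
    exact PreservesLimitsOfSize.preservesFiniteLimits _
  refine isZero_rightDerived_succ_of_class (CohSite.push J K u)
    (fun G => CohCx.IsTotallyAcyclic G) ?_ ?_ ?_ F hF p
  · intro I hI A q
    exact subsingleton_of_forall_eq 0 fun e => Abelian.Ext.eq_zero_of_injective e
  · intro S hS h1 h2 A q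
    refine subsingleton_of_forall_eq 0 fun x₃ => ?_
    have := h1 A (q + 1)
    have := h2 A q
    obtain ⟨x₂, hx₂⟩ := Abelian.Ext.covariant_sequence_exact₃ _ hS x₃ (n₁ := q + 1 + 1) rfl
      (Subsingleton.elim _ _)
    rw [← hx₂, Subsingleton.elim x₂ 0, Abelian.Ext.zero_comp]
  · intro S hS h1
    have h := SiteH.push_shortExact hS K u (fun U =>
      SiteH.sections_surjective_of_H1 hS U (Groth.Agent.S0864.result S.X₁ h1 U 0))
    exact h.epi_g

open CategoryTheory.Limits in
/-- Part (4) (for a morphism of topoi coming from a continuous functor of sites u : D -> C): if F is a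
totally acyclic abelian sheaf on C then R^p u_* F = 0 for all p > 0, where u_* F is the sheaf V ↦
F(u(V)) and R^p u_* its right derived functors. -/
theorem result {C D : Type u} [SmallCategory C] [SmallCategory D]
    (J : GrothendieckTopology C) (K : GrothendieckTopology D) (u : D ⥤ C) [u.IsContinuous K J]
    (F : Sheaf J AddCommGrpCat.{u}) (hF : CohCx.IsTotallyAcyclic F) (p : ℕ) :
    IsZero ((CohSite.Rpush J K u (p + 1)).obj F) := by
  exact aux J K u F hF p

end Groth.Agent.S0865
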