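import Groth.Statements.S6166
import Groth.Agent.Lib.Helper19.CechPush
import Groth.Agent.Lib.Cohomology.helper5_ExtShift
import Groth.Agent.S0864
import Groth.Prelude.Def_FreeSh

set_option autoImplicit false
universe u
open CategoryTheory
open CohSite

namespace Groth.Agent.S6166

section Helpers

open Abelian Opposite CategoryTheory.Limits Groth.Agent.Lib.Cohomology.ExtShift

variable {C D : Type u} [SmallCategory C] [SmallCategory D]
  (J : GrothendieckTopology C) (K : GrothendieckTopology D) (u : D ⥤ C) [u.IsContinuous K J]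

lemma homEquivSect_comp (U : C) {F G : Sheaf J AddCommGrpCat.{u}}
    (φ : CohCx.freeSheaf J U ⟶ F) (g : F ⟶ G) :
    CohFree.homEquivSect J U G (φ ≫ g) = (g.hom.app (op U)).hom (CohFree.homEquivSect J U F φ) := rfl

/-- `F(uV) = (u_*F)(V)`. -/
noncomputable def bridge (V : D) (F : Sheaf J AddCommGrpCat.{u}) :
    F.obj.obj (op (u.obj V)) ≃+ ((CohSite.push J K u).obj F).obj.obj (op V) := AddEquiv.refl _

lemma bridge_naturality (V : D) {F G : Sheaf J AddCommGrpCat.{u}} (g : F ⟶ G)
    (s : F.obj.obj (op (u.obj V))) :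
    bridge J K u V G ((g.hom.app (op (u.obj V))).hom s) =
      (((CohSite.push J K u).map g).hom.app (op V)).hom (bridge J K u V F s) := rfl

/-- `Hom(ℤ_{uV}, F) ≃ F(uV) = (u_*F)(V) ≃ Hom(ℤ_V, u_*F)`. -/
noncomputable def eHom (V : D) (F : Sheaf J AddCommGrpCat.{u}) :
    (CohCx.freeSheaf J (u.obj V) ⟶ F) ≃+ (CohCx.freeSheaf K V ⟶ (CohSite.push J K u).obj F) :=
  (CohFree.homEquivSect J (u.obj V) F).trans
    ((bridge J K u V F).trans (CohFree.homEquivSect K V ((CohSite.push J K u).obj F)).symm)

lemma eHom_naturality (V : D) {F G : Sheaf J AddCommGrpCat.{u}}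
    (φ : CohCx.freeSheaf J (u.obj V) ⟶ F) (g : F ⟶ G) :
    eHom J K u V G (φ ≫ g) = eHom J K u V F φ ≫ (CohSite.push J K u).map g := by
  apply (CohFree.homEquivSect K V ((CohSite.push J K u).obj G)).injective
  simp only [eHom, AddEquiv.trans_apply, AddEquiv.apply_symm_apply]
  rw [homEquivSect_comp K V, AddEquiv.apply_symm_apply, homEquivSect_comp J (u.obj V),
    bridge_naturality]

/-- sections lift along an epi with `H^1`-acyclic kernel. -/
lemma sections_surjective_of_H1 {S : ShortComplex (Sheaf J AddCommGrpCat.{u})} (hS : S.ShortExact)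
    (U : C) (h : Subsingleton (CohSite.HU S.X₁ 1 U)) :
    Function.Surjective (S.g.hom.app (op U)) := by
  intro s
  have h0 : homδ hS (CohCx.freeSheaf J U) (CohFree.ofSect J U S.X₃ s) = 0 :=
    Subsingleton.elim (α := CohSite.HU S.X₁ 1 U) _ _
  obtain ⟨ψ, hψ⟩ := (homδ_eq_zero_iff hS _ _).1 h0
  refine ⟨CohFree.evalGen J U S.X₂ ψ, ?_⟩
  have : CohFree.evalGen J U S.X₃ (ψ ≫ S.g) = s := by rw [hψ, CohFree.evalGen_ofSect]
  exact this

instance : (CohSite.push J K u).IsRightAdjoint :=
  (u.sheafAdjunctionContinuous AddCommGrpCat.{u} K J).isRightAdjoint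

lemma push_shortExact {S : ShortComplex (Sheaf J AddCommGrpCat.{u})} (hS : S.ShortExact)
    (h : ∀ U : C, Function.Surjective (S.g.hom.app (op U))) :
    (S.map (CohSite.push J K u)).ShortExact := by
  have hmono : Mono ((CohSite.push J K u).map S.f) := by
    have := hS.mono_f
    infer_instance
  have hepi : Epi ((CohSite.push J K u).map S.g) := by
    rw [← Sheaf.isLocallySurjective_iff_epi']
    exact Presheaf.isLocallySurjective_of_surjective K _ (fun V => h (u.obj V.unop))
  exact ShortComplex.ShortExact.mk' (hS.exact.map_of_mono_of_preservesKernel _ hS.mono_f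
    inferInstance) hmono hepi

end Helpers

open CategoryTheory.Limits in
/-- Let u : D -> C be a continuous functor between small sites with exact pullback on sheaves of sets (a
morphism of topoi), and take the topologically generating families to be all objects of C, resp. of
D, so that the inverse image of the second lies in the first. For an abelian sheaf F on C: if H^q(U,
F) = 0 for all objects U of C and all q > 0, then H^q(V, u_* F) = 0 for all objects V of D and all q
> 0, where u_* F = F o u. -/
theorem result {C D : Type u} [SmallCategory C] [SmallCategory D]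
    (J : GrothendieckTopology C) (K : GrothendieckTopology D) (u : D ⥤ C) [u.IsContinuous K J]
    [PreservesFiniteLimits (u.sheafPullback (Type u) K J)] (F : Sheaf J AddCommGrpCat.{u})
    (hF : ∀ (U : C) (q : ℕ), Subsingleton (CohSite.HU F (q + 1) U)) (V : D) (q : ℕ) :
    Subsingleton (CohSite.HU ((CohSite.push J K u).obj F) (q + 1) V) := by
  classical
  -- the class of objectwise-acyclic sheaves
  let P : Sheaf J AddCommGrpCat.{u} → Prop :=
    fun G => ∀ (U : C) (q : ℕ), Subsingleton (CohSite.HU G (q + 1) U)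
  have hR : ∀ (I : Sheaf J AddCommGrpCat.{u}) [Injective I] (n : ℕ)
      (x : Abelian.Ext.{u} (CohCx.freeSheaf K V) ((CohSite.push J K u).obj I) (n + 1)), x = 0 := by
    intro I _ n x
    have h1 : Groth.Agent.Lib.Helper19.CechAcyclic.CechAcyc I :=
      fun _ _ f hf q =>
        @Groth.Agent.Lib.Helper19.CechAcyclic.homExactAt_of_injective _ _ _ I _ _ _ f hf q
    have h2 := Groth.Agent.Lib.Helper19.CechPush.cechAcyc_push J K u I h1
    have h3 := Groth.Agent.Lib.Helper19.CechAcyclic.isTotallyAcyclic_of_cechAcyc _ h2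
    have h4 := Groth.Agent.S0864.result _ h3 V n
    exact Subsingleton.elim (α := CohSite.HU ((CohSite.push J K u).obj I) (n + 1) V) x 0
  have hP : ∀ G : Sheaf J AddCommGrpCat.{u}, P G →
      ((Groth.Agent.Lib.Cohomology.ExtShift.injSES G).map (CohSite.push J K u)).ShortExact ∧
        P (Groth.Agent.Lib.Cohomology.ExtShift.injSES G).X₃ := by
    intro G hG
    have hS := Groth.Agent.Lib.Cohomology.ExtShift.injSES_shortExact G
    refine ⟨push_shortExact J K u hS (fun U => sections_surjective_of_H1 J hS U (hG U 0)), ?_⟩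
    intro U q
    have hinj := Groth.Agent.Lib.Cohomology.ExtShift.extδ_injective hS (CohCx.freeSheaf J U) q
      (fun x => Abelian.Ext.eq_zero_of_injective x)
    have : Subsingleton (Abelian.Ext.{u} (CohCx.freeSheaf J U)
        (Groth.Agent.Lib.Cohomology.ExtShift.injSES G).X₁ (q + 1 + 1)) := hG U (q + 1)
    exact hinj.subsingleton
  obtain ⟨e⟩ := Groth.Agent.Lib.Cohomology.ExtShift.extAddEquiv_of_class.{u, u}
    (CohSite.push J K u) (CohCx.freeSheaf J (u.obj V)) (CohCx.freeSheaf K V)
    (eHom J K u V) (fun φ g => eHom_naturality J K u V φ g) hR P hP (q + 1) F hF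
  have : Subsingleton (Abelian.Ext.{u} (CohCx.freeSheaf J (u.obj V)) F (q + 1)) := hF (u.obj V) q
  exact e.symm.injective.subsingleton

end Groth.Agent.S6166
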