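import Groth.Statements.S6030
import Groth.Agent.Lib.Helper34.ModLocCoh
import Groth.Agent.Lib.QCoh.Helper43_PushQcqs
import Groth.Agent.Lib.QCoh.Helper50_Products
import Groth.Agent.Lib.QCoh.Local
import Groth.Agent.S0030

set_option autoImplicit false
universe u
open CategoryTheory CategoryTheory.Limits TopologicalSpace AlgebraicGeometry
open LocCohZ

namespace Groth.Agent.S6030

/-- Let Y be a scheme, j : U → Y a quasi-compact open immersion with closed complement Z, and M a
quasi-coherent O_Y-module. Then the local cohomology sheaves ℋ^q_Z(M) (right derived functors of Γ_Z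
on O_Y-modules) are quasi-coherent for every q. -/
theorem result {U Y : Scheme.{u}} (j : U ⟶ Y) [IsOpenImmersion j] [QuasiCompact j]
    [HasInjectiveResolutions Y.Modules] (M : Y.Modules) (hM : Coh.IsQCoh M) (q : ℕ) :
    Coh.IsQCoh ((LocCohZ.HZshM j q).obj M) := by
  open Groth.Agent.Lib.Helper34.ModLocCoh Groth.Agent.Lib.QCoh in
  have : M.IsQuasicoherent := hM
  have : HasInjectiveResolutions U.Modules := inferInstance
  have hres : ((Scheme.Modules.restrictFunctor j).obj M).IsQuasicoherent :=
    isQuasicoherent_restrict j M
  have hpush : ((Scheme.Modules.pushforward j).obj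
      ((Scheme.Modules.restrictFunctor j).obj M)).IsQuasicoherent :=
    isQuasicoherent_pushforward_of_qcqs j _
  match q with
  | 0 =>
    obtain ⟨e⟩ := nonempty_ker_iso j M
    exact isQuasicoherent_of_iso e.symm (isQuasicoherent_kernel (M := M)
      (N := (Scheme.Modules.pushforward j).obj ((Scheme.Modules.restrictFunctor j).obj M))
      ((Scheme.Modules.restrictAdjunction j).unit.app M))
  | 1 =>
    obtain ⟨e⟩ := nonempty_coker_iso j M
    exact isQuasicoherent_of_iso e (isQuasicoherent_cokernel (M := M)
      (N := (Scheme.Modules.pushforward j).obj ((Scheme.Modules.restrictFunctor j).obj M))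
      ((Scheme.Modules.restrictAdjunction j).unit.app M))
  | (i + 2) =>
    obtain ⟨e⟩ := nonempty_HZshM_succ_iso j (i + 1) (by omega)
    have : Coh.IsQCoh ((Scheme.Modules.restrictFunctor j).obj M) := hres
    exact isQuasicoherent_of_iso (e.app M).symm
      (Groth.Agent.S0030.result j ((Scheme.Modules.restrictFunctor j).obj M) (i + 1))

end Groth.Agent.S6030
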