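import Groth.Statements.S6508
import Groth.Agent.Lib.Helper99.RestrKInj
import Groth.Agent.Lib.Helper99.KInjDerPre
import Groth.Agent.Lib.QCoh.Helper50_Pushforward

set_option autoImplicit false
universe u
open CategoryTheory
attribute [local instance] HasDerivedCategory.standard
open DCoh

namespace Groth.Agent.S6508

open AlgebraicGeometry CategoryTheory.Limits in
/-- Let f : X → Y be a morphism of schemes, V ⊆ Y open, U = f⁻¹(V) and g : U → V the induced morphism.
Then (Rf_* E)|_V ≅ Rg_*(E|_U) naturally in E ∈ D(O_X); asserted here as the existence of an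
isomorphism between the two composite functors D(O_X) → D(O_V), the derived functors being assumed
to exist. (The published statement is for ringed spaces; this row is for schemes.) -/
theorem result {X Y : Scheme.{u}} (f : X ⟶ Y) (V : Y.Opens)
    [DCoh.HasRpush f] [DCoh.HasRpush (f ∣_ V)]
    [PreservesFiniteLimits (Scheme.Modules.restrictFunctor V.ι)]
    [PreservesFiniteLimits (Scheme.Modules.restrictFunctor (f ⁻¹ᵁ V).ι)] :
    Nonempty (DCoh.Rpush f ⋙ DCoh.restrictD V.ι ≅ DCoh.restrictD (f ⁻¹ᵁ V).ι ⋙ DCoh.Rpush (f ∣_ V)) := by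
  open Groth.Agent.Lib.Helper99.KInj Groth.Agent.Lib.Helper99.RestrKInj in
  classical
  -- the left side is a right derived functor of `pushKh f ⋙ restrictD V.ι`
  have hL := isRightDerivedFunctor_comp_K (DCoh.pushKh f) (DCoh.Rpush f)
    ((DCoh.pushKh f).totalRightDerivedUnit DerivedCategory.Qh
      (HomotopyCategory.quasiIso X.Modules (ComplexShape.up ℤ))) (DCoh.restrictD V.ι)
  -- the right side is a right derived functor of `K(restrict) ⋙ pushKh (f ∣_ V)`
  have hR := isRightDerivedFunctor_precomp (Scheme.Modules.restrictFunctor (f ⁻¹ᵁ V).ι)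
    (DCoh.pushKh (f ∣_ V)) (DCoh.Rpush (f ∣_ V))
    ((DCoh.pushKh (f ∣_ V)).totalRightDerivedUnit DerivedCategory.Qh
      (HomotopyCategory.quasiIso (f ⁻¹ᵁ V : Scheme.{u}).Modules (ComplexShape.up ℤ)))
    (fun I _ => isKInjective_restrict (f ⁻¹ᵁ V) I)
  -- the two functors on homotopy categories are isomorphic
  let e : DCoh.pushKh f ⋙ DCoh.restrictD V.ι ≅
      (Scheme.Modules.restrictFunctor (f ⁻¹ᵁ V).ι).mapHomotopyCategory (ComplexShape.up ℤ) ⋙
        DCoh.pushKh (f ∣_ V) :=
    Functor.associator _ _ _ ≪≫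
      Functor.isoWhiskerLeft _ (Scheme.Modules.restrictFunctor V.ι).mapDerivedCategoryFactorsh ≪≫
      (Functor.associator _ _ _).symm ≪≫
      Functor.isoWhiskerRight
        (Functor.mapHomotopyCategoryCompIso
            (Groth.Agent.Lib.QCoh.pushforwardRestrictIso f V) (ComplexShape.up ℤ) ≪≫
          (Functor.mapHomotopyCategoryCompIso (Iso.refl _) (ComplexShape.up ℤ)).symm)
        DerivedCategory.Qh ≪≫
      Functor.associator _ _ _
  exact ⟨Functor.rightDerivedNatIso (DCoh.Rpush f ⋙ DCoh.restrictD V.ι)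
    (DCoh.restrictD (f ⁻¹ᵁ V).ι ⋙ DCoh.Rpush (f ∣_ V))
    (Functor.whiskerRight ((DCoh.pushKh f).totalRightDerivedUnit DerivedCategory.Qh
      (HomotopyCategory.quasiIso X.Modules (ComplexShape.up ℤ))) (DCoh.restrictD V.ι) ≫
        (Functor.associator _ _ _).hom)
    (precompUnit (Scheme.Modules.restrictFunctor (f ⁻¹ᵁ V).ι)
      (DCoh.pushKh (f ∣_ V)) (DCoh.Rpush (f ∣_ V))
      ((DCoh.pushKh (f ∣_ V)).totalRightDerivedUnit DerivedCategory.Qh
        (HomotopyCategory.quasiIso (f ⁻¹ᵁ V : Scheme.{u}).Modules (ComplexShape.up ℤ))))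
    (HomotopyCategory.quasiIso X.Modules (ComplexShape.up ℤ)) e⟩

end Groth.Agent.S6508
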