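import Groth.Statements.S2165
import Groth.Agent.Lib.Helper33.CompletionLocal
import Groth.Agent.Lib.Helper9.AdicComplEquiv
import Groth.Agent.Lib.Helper64.CRingQuot

set_option autoImplicit false
universe u
open LCI

namespace Groth.Agent.S2165

open IsLocalRing in
lemma exists_sub_mem_pow {A : Type*} [CommRing A] (I : Ideal A) (fg : I.FG) (n : ℕ)
    (b : AdicCompletion I A) :
    ∃ a : A, b - algebraMap A (AdicCompletion I A) a ∈
      (I.map (algebraMap A (AdicCompletion I A))) ^ n := by
  obtain ⟨a, ha⟩ := Ideal.Quotient.mk_surjective (AdicCompletion.evalₐ I n b)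
  refine ⟨a, ?_⟩
  have h0 : AdicCompletion.evalₐ I n (b - algebraMap A (AdicCompletion I A) a) = 0 := by
    rw [map_sub, AlgHom.commutes, ← ha]
    exact sub_self _
  have h1 : AdicCompletion.eval I A n (b - algebraMap A (AdicCompletion I A) a) = 0 := by
    have hle : I ^ n ≤ I ^ n • ⊤ := by simp
    rw [← AdicCompletion.factor_evalₐ_eq_eval _ _ hle, h0, map_zero]
  have h2 : b - algebraMap A (AdicCompletion I A) a ∈
      (I ^ n • ⊤ : Submodule A (AdicCompletion I A)) := by
    rw [AdicCompletion.pow_smul_top_eq_ker_eval fg]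
    exact h1
  rw [Ideal.smul_top_eq_map, Submodule.restrictScalars_mem, Ideal.map_pow] at h2
  exact h2

open IsLocalRing in
theorem isCI_quotient (A : Type u) [CommRing A] [IsRegularLocalRing A] (rs : List A)
    (hmem : ∀ r ∈ rs, r ∈ maximalIdeal A) (hreg : RingTheory.Sequence.IsWeaklyRegular A rs)
    (J : Ideal A) (hJ : J = Ideal.ofList rs) [IsLocalRing (A ⧸ J)] :
    Pi1.IsCompleteIntersection (A ⧸ J) := by
  let B := AdicCompletion (maximalIdeal A) A
  haveI : IsNoetherianRing B :=
    Groth.Agent.Lib.Helper63.CompletionNoeth.isNoetherianRing_adicCompletion A (maximalIdeal A)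
  haveI : IsRegularLocalRing B :=
    Groth.Agent.Lib.Helper33.isRegularLocalRing_of_flat_of_map_maximalIdeal A B
      (AdicCompletion.maximalIdeal_eq_map).symm
  have hmB : maximalIdeal B = (maximalIdeal A).map (algebraMap A B) :=
    AdicCompletion.maximalIdeal_eq_map
  have hmem' : ∀ r ∈ rs.map (algebraMap A B), r ∈ maximalIdeal B := by
    intro r hr
    obtain ⟨a, ha, rfl⟩ := List.mem_map.mp hr
    rw [hmB]
    exact Ideal.mem_map_of_mem _ (hmem a ha)
  have hreg' : RingTheory.Sequence.IsRegular B (rs.map (algebraMap A B)) :=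
    RingTheory.Sequence.IsRegular.of_isWeaklyRegular_of_mem_maximalIdeal (L := B) hmem'
      hreg.of_flat
  refine ⟨B, inferInstance, inferInstance, rs.map (algebraMap A B), hmem', hreg', ?_⟩
  set J' : Ideal B := Ideal.span {r | r ∈ rs.map (algebraMap A B)} with hJ'
  have hJ'map : J' = J.map (algebraMap A B) := by
    rw [hJ, Ideal.map_ofList]
  have hJ'le : J' ≤ maximalIdeal B := Ideal.span_le.mpr hmem'
  have hJ'top : J' ≠ ⊤ := fun h => (maximalIdeal.isMaximal B).ne_top (top_le_iff.mp (h ▸ hJ'le))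
  have hJle : J ≤ maximalIdeal A := by
    rw [hJ]
    exact Ideal.span_le.mpr hmem
  have hJtop : J ≠ ⊤ := fun h => (maximalIdeal.isMaximal A).ne_top (top_le_iff.mp (h ▸ hJle))
  haveI := Groth.Agent.Lib.Helper64.isLocalRing_quotient J' hJ'top
  haveI : IsAdicComplete (maximalIdeal (B ⧸ J')) (B ⧸ J') :=
    Groth.Agent.Lib.Helper64.isAdicComplete_quotient J' hJ'top
  have hmQ : maximalIdeal (A ⧸ J) = (maximalIdeal A).map (Ideal.Quotient.mk J) :=
    Groth.Agent.Lib.Helper64.maximalIdeal_quotient J hJtop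
  have hmQ' : maximalIdeal (B ⧸ J') = (maximalIdeal B).map (Ideal.Quotient.mk J') :=
    Groth.Agent.Lib.Helper64.maximalIdeal_quotient J' hJ'top
  let Φ : (A ⧸ J) →ₐ[A] (B ⧸ J') := Ideal.quotientMapₐ J' (Algebra.ofId A B)
    (by rw [hJ'map]; exact Ideal.le_comap_map)
  have hΦmk : ∀ a : A, Φ (Ideal.Quotient.mk J a) = Ideal.Quotient.mk J' (algebraMap A B a) :=
    fun a => rfl
  haveI : Module.FaithfullyFlat A B := Module.FaithfullyFlat.of_flat_of_isLocalHom
  have hΦ : maximalIdeal (A ⧸ J) ≤ (maximalIdeal (B ⧸ J')).comap Φ := by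
    rw [hmQ, Ideal.map_le_iff_le_comap]
    intro a ha
    rw [Ideal.mem_comap, Ideal.mem_comap, hΦmk, hmQ']
    apply Ideal.mem_map_of_mem
    rw [hmB]
    exact Ideal.mem_map_of_mem _ ha
  have hinj : ∀ n a, Φ a ∈ maximalIdeal (B ⧸ J') ^ n → a ∈ maximalIdeal (A ⧸ J) ^ n := by
    intro n a ha
    obtain ⟨a, rfl⟩ := Ideal.Quotient.mk_surjective a
    rw [hΦmk, hmQ', ← Ideal.map_pow, Ideal.mem_quotient_iff_mem_sup, hmB, ← Ideal.map_pow,
      hJ'map, ← Ideal.map_sup] at ha
    have h2 : a ∈ (maximalIdeal A ^ n ⊔ J) := by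
      rw [← Ideal.comap_map_eq_self_of_faithfullyFlat (B := B) (maximalIdeal A ^ n ⊔ J)]
      exact ha
    rw [hmQ, ← Ideal.map_pow, Ideal.mem_quotient_iff_mem_sup]
    exact h2
  have hsurj : ∀ n (b : B ⧸ J'), ∃ a, b - Φ a ∈ maximalIdeal (B ⧸ J') ^ n := by
    intro n b
    obtain ⟨b, rfl⟩ := Ideal.Quotient.mk_surjective b
    obtain ⟨a, ha⟩ := exists_sub_mem_pow (maximalIdeal A) (maximalIdeal A).fg_of_isNoetherianRing n b
    refine ⟨Ideal.Quotient.mk J a, ?_⟩
    rw [hΦmk, ← map_sub, hmQ', ← Ideal.map_pow, hmB]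
    exact Ideal.mem_map_of_mem _ ha
  obtain ⟨e⟩ := Groth.Agent.Lib.Helper9.AdicComplEquiv.exists_algEquiv (maximalIdeal (A ⧸ J))
    (maximalIdeal (B ⧸ J')) Φ hΦ hinj hsurj
  exact ⟨e.toRingEquiv.trans
    (AdicCompletion.ofAlgEquiv (maximalIdeal (B ⧸ J'))).symm.toRingEquiv⟩

/-- Let R be a regular ring, p a prime ideal of R and f_1, ..., f_r a regular sequence of R contained in
p. Then the local ring R_p/(f_1, ..., f_r) is a complete intersection: its completion is a regular
local ring modulo a regular sequence. The instance hypothesis that the quotient is local always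
holds. -/
theorem result {R : Type u} [CommRing R] [IsRegularRing R]
    (p : Ideal R) [p.IsPrime] (rs : List R) (hmem : ∀ r ∈ rs, r ∈ p)
    (hreg : RingTheory.Sequence.IsRegular R rs)
    [IsLocalRing (Localization.AtPrime p ⧸
      Ideal.map (algebraMap R (Localization.AtPrime p)) (Ideal.ofList rs))] :
    Pi1.IsCompleteIntersection (Localization.AtPrime p ⧸
      Ideal.map (algebraMap R (Localization.AtPrime p)) (Ideal.ofList rs)) := by
  haveI : IsRegularLocalRing (Localization.AtPrime p) :=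
    IsRegularRing.isRegularLocalRing_localization p
  refine isCI_quotient (Localization.AtPrime p) (rs.map (algebraMap R (Localization.AtPrime p)))
    ?_ (hreg.1.of_flat) _ (Ideal.map_ofList _ _)
  intro r hr
  obtain ⟨a, ha, rfl⟩ := List.mem_map.mp hr
  rw [IsLocalization.AtPrime.to_map_mem_maximal_iff (Localization.AtPrime p) p]
  exact hmem a ha

end Groth.Agent.S2165
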