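import Groth.Statements.S2941
import Mathlib
import Groth.Agent.Lib.Helper65.KH2
import Groth.Agent.S15797
import Groth.Agent.S5671

set_option autoImplicit false
universe u
open CInt

namespace Groth.Agent.S2941

open IsLocalRing Groth.Agent.Lib.Helper15.Koszul Groth.Agent.Lib.Helper65.KH1

/-- a regular system of parameters, as a family with vanishing first Koszul homology -/
theorem exists_regular_family (B : Type u) [CommRing B] [IsRegularLocalRing B] (d : ℕ)
    (hd : ringKrullDim B = d) :
    ∃ x : Fin d → B, Ideal.span (Set.range x) = maximalIdeal B ∧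
      LinearMap.ker (relMap x B) ≤ Submodule.span B (trivSet x B) := by
  classical
  have hμ : (maximalIdeal B).spanFinrank = d := by
    have h := IsRegularLocalRing.spanFinrank_maximalIdeal (R := B)
    rw [hd] at h
    exact_mod_cast h
  obtain ⟨s, hcard, hspan⟩ := Submodule.FG.exists_span_finset_card_eq_spanFinrank
    (maximalIdeal B).fg_of_isNoetherianRing
  let e : s ≃ Fin d := s.equivFinOfCardEq (hcard.trans hμ)
  obtain ⟨x, hxdef⟩ : ∃ x : Fin d → B, x = fun i => ((e.symm i : s) : B) := ⟨_, rfl⟩
  have hrange : Set.range x = (s : Set B) := by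
    ext y
    rw [hxdef]
    constructor
    · rintro ⟨i, rfl⟩
      exact (e.symm i).2
    · intro hy
      exact ⟨e ⟨y, hy⟩, by simp⟩
  have hx : Ideal.span (Set.range x) = maximalIdeal B := by rw [hrange]; exact hspan
  refine ⟨x, hx, ?_⟩
  have hreg : RingTheory.Sequence.IsWeaklyRegular B (List.ofFn x) := by
    apply Groth.Agent.S15797.isWeaklyRegular_of_sop B (Groth.Agent.S5671.isCM_of_regular B) d hd
      (List.ofFn x) (List.length_ofFn)
    · intro y hy
      rw [List.mem_ofFn] at hy
      obtain ⟨i, rfl⟩ := hy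
      rw [← hx]
      exact Ideal.subset_span ⟨i, rfl⟩
    · rw [ofList_ofFn, hx]
      exact Ideal.le_radical
  exact (koszulH1Zero_iff x B).1 (koszulH1Zero_of_isWeaklyRegular x hreg)

theorem map_maximalIdeal {B A : Type u} [CommRing B] [CommRing A] [IsLocalRing B] [IsLocalRing A]
    (f : B →+* A) (hf : Function.Surjective f) :
    (maximalIdeal B).map f = maximalIdeal A := by
  have hloc : IsLocalHom f := IsLocalHom.of_surjective f hf
  have : (maximalIdeal A).comap f = maximalIdeal B := by
    ext y
    simp only [Ideal.mem_comap, mem_maximalIdeal, mem_nonunits_iff]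
    exact not_congr (isUnit_map_iff f y)
  rw [← this, Ideal.map_comap_of_surjective f hf]

/-- the invariant `dim B - μ(ker)` in terms of the Koszul homology of the quotient -/
theorem key (A : Type u) [CommRing A] [IsLocalRing A] (B : Type u) [CommRing B]
    [IsRegularLocalRing B] (f : B →+* A) (hf : Function.Surjective f) (d : ℕ)
    (hd : ringKrullDim B = d) :
    ∃ φ : (Fin d → A) →ₗ[A] A, LinearMap.range φ = maximalIdeal A ∧
      kh φ = ((RingHom.ker f).spanFinrank : ℕ∞) := by
  obtain ⟨x, hx, hH1⟩ := exists_regular_family B d hd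
  refine ⟨relMap (fun i => f (x i)) A, ?_, kh_eq_spanFinrank f hf x hx hH1 (RingHom.ker_ne_top f)⟩
  rw [range_relMap, ← map_maximalIdeal f hf, ← hx, Ideal.map_span]
  congr 1
  ext y
  constructor
  · rintro ⟨i, rfl⟩
    exact ⟨x i, ⟨i, rfl⟩, rfl⟩
  · rintro ⟨_, ⟨i, rfl⟩, rfl⟩
    exact ⟨i, rfl⟩

/-- Let A be a Noetherian local ring and let f : B → A and f' : B' → A be surjective ring homomorphisms
from regular local rings, with kernels I and I'. If q, q' are the minimal numbers of generators of
I, I' then dim B − q = dim B' − q'. -/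
theorem result (A : Type u) [CommRing A] [IsLocalRing A] [IsNoetherianRing A] (B B' : Type u) [CommRing B] [CommRing B'] [IsRegularLocalRing B] [IsRegularLocalRing B'] (f : B →+* A) (hf : Function.Surjective f) (f' : B' →+* A) (hf' : Function.Surjective f') (d d' : ℕ) (hd : ringKrullDim B = d) (hd' : ringKrullDim B' = d') : (d : ℤ) - ((RingHom.ker f).spanFinrank : ℤ) = (d' : ℤ) - ((RingHom.ker f').spanFinrank : ℤ) := by
  obtain ⟨φ, hφ, h1⟩ := key A B f hf d hd
  obtain ⟨ψ, hψ, h2⟩ := key A B' f' hf' d' hd'
  have h := kh_add_card_eq φ ψ (maximalIdeal A) hφ hψ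
  rw [h1, h2, Fintype.card_fin, Fintype.card_fin] at h
  have h' : (RingHom.ker f).spanFinrank + d' = (RingHom.ker f').spanFinrank + d := by
    exact_mod_cast h
  omega

end Groth.Agent.S2941
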