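import Groth.Statements.S2169
import Mathlib
import Groth.Agent.S2941
import Groth.Agent.Lib.Helper65.CIPres

set_option autoImplicit false
universe u
open LCI

namespace Groth.Agent.S2169

open IsLocalRing RingTheory.Sequence Groth.Agent.Lib.Helper65.CIPres

theorem exists_nat_dim (A : Type u) [CommRing A] [IsLocalRing A] [IsNoetherianRing A] :
    ∃ a : ℕ, ringKrullDim A = (a : WithBot ℕ∞) := by
  have hlt : ringKrullDim A < ⊤ := ringKrullDim_lt_top
  have hb : ringKrullDim A ≠ ⊥ := by
    intro h
    have := ringKrullDim_nonneg_of_nontrivial (R := A)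
    rw [h] at this
    exact absurd this (by simp)
  obtain ⟨x, hx⟩ := WithBot.ne_bot_iff_exists.1 hb
  rw [← hx] at hlt
  have hx' : x ≠ ⊤ := by
    intro h
    rw [h] at hlt
    exact lt_irrefl _ hlt
  exact ⟨x.toNat, by rw [← hx, ← ENat.coe_toNat hx']; rfl⟩

/-- the numerical criterion transfers between two regular presentations -/
theorem isCI_of_isCI (A : Type u) [CommRing A] [IsLocalRing A] [IsNoetherianRing A]
    (R B : Type u) [CommRing R] [CommRing B] [IsRegularLocalRing R] [IsRegularLocalRing B]
    (f : R →+* A) (hf : Function.Surjective f) (g : B →+* A) (hg : Function.Surjective g)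
    (h : IsCI B (RingHom.ker g)) : IsCI R (RingHom.ker f) := by
  obtain ⟨d, hd⟩ := exists_nat_dim R
  obtain ⟨d', hd'⟩ := exists_nat_dim B
  obtain ⟨a, ha⟩ := exists_nat_dim A
  have key := Groth.Agent.S2941.result A R B f hf g hg d d' hd hd'
  unfold IsCI at h ⊢
  have e1 : ringKrullDim (R ⧸ RingHom.ker f) = a := by
    rw [ringKrullDim_eq_of_ringEquiv (RingHom.quotientKerEquivOfSurjective hf), ha]
  have e2 : ringKrullDim (B ⧸ RingHom.ker g) = a := by
    rw [ringKrullDim_eq_of_ringEquiv (RingHom.quotientKerEquivOfSurjective hg), ha]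
  rw [e1, hd]
  rw [e2, hd'] at h
  have h' : (RingHom.ker g).spanFinrank + a ≤ d' := by exact_mod_cast h
  have : (RingHom.ker f).spanFinrank + a ≤ d := by omega
  exact_mod_cast this

/-- a complete intersection (in the completion sense) gives a regular presentation of the completion with
complete intersection kernel -/
theorem exists_pres_of_isCompleteIntersection (A : Type u) [CommRing A] [IsLocalRing A]
    (h : Pi1.IsCompleteIntersection A) :
    ∃ (B : Type u) (_ : CommRing B) (_ : IsRegularLocalRing B)
      (g : B →+* AdicCompletion (maximalIdeal A) A), Function.Surjective g ∧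
        IsCI B (RingHom.ker g) := by
  obtain ⟨B, iB, iReg, rs, hmem, hreg, ⟨e⟩⟩ := h
  have hker : RingHom.ker (e.symm.toRingHom.comp (Ideal.Quotient.mk (Ideal.span {r | r ∈ rs}))) =
      Ideal.ofList rs := by
    ext y
    rw [RingHom.mem_ker]
    show e.symm (Ideal.Quotient.mk _ y) = 0 ↔ _
    rw [map_eq_zero_iff _ e.symm.injective, Ideal.Quotient.eq_zero_iff_mem]
  refine ⟨B, iB, iReg, e.symm.toRingHom.comp (Ideal.Quotient.mk (Ideal.span {r | r ∈ rs})),
    e.symm.surjective.comp Ideal.Quotient.mk_surjective, ?_⟩
  rw [hker]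
  haveI := isCM_of_isRegularLocalRing B
  have hne : Ideal.ofList rs ≠ ⊤ := by
    intro htop
    have : Ideal.ofList rs ≤ maximalIdeal B := Ideal.span_le.2 (fun r hr => hmem r hr)
    rw [htop] at this
    exact (maximalIdeal.isMaximal B).ne_top (eq_top_iff.2 this)
  exact (isCI_iff B _ hne).2 ⟨rs, hreg, rfl⟩

/-- Let A be a complete Noetherian local ring whose completion is a regular local ring modulo a regular
sequence. Then for every surjection R -> A from a regular local ring R, the kernel is generated by a
regular sequence of R. -/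
theorem result {A R : Type u} [CommRing A] [CommRing R]
    [IsNoetherianRing A] [IsLocalRing A] [IsAdicComplete (IsLocalRing.maximalIdeal A) A]
    [IsRegularLocalRing R] (f : R →+* A) (hf : Function.Surjective f)
    (hA : Pi1.IsCompleteIntersection A) :
    ∃ rs : List R, Ideal.ofList rs = RingHom.ker f ∧ RingTheory.Sequence.IsRegular R rs := by
  obtain ⟨B, _, _, g, hg, hCI⟩ := exists_pres_of_isCompleteIntersection A hA
  let a : A ≃+* AdicCompletion (maximalIdeal A) A :=
    (AdicCompletion.ofAlgEquiv (maximalIdeal A)).toRingEquiv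
  have hker : RingHom.ker (a.symm.toRingHom.comp g) = RingHom.ker g := by
    ext y
    rw [RingHom.mem_ker, RingHom.mem_ker]
    show a.symm (g y) = 0 ↔ _
    rw [map_eq_zero_iff _ a.symm.injective]
  have h1 : IsCI R (RingHom.ker f) :=
    isCI_of_isCI A R B f hf (a.symm.toRingHom.comp g) (a.symm.surjective.comp hg)
      (by rw [hker]; exact hCI)
  haveI := isCM_of_isRegularLocalRing R
  obtain ⟨rs, hreg, hrs⟩ := (isCI_iff R _ (RingHom.ker_ne_top f)).1 h1
  exact ⟨rs, hrs, hreg⟩

end Groth.Agent.S2169
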