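import Groth.Statements.S2166
import Mathlib
import Groth.Agent.S2165
import Groth.Agent.S2169
import Groth.Agent.Lib.Helper65.SpanMap
import Groth.Agent.Lib.Helper29.FormalEquidim

set_option autoImplicit false
universe u
open LCI

namespace Groth.Agent.S2166

open IsLocalRing RingTheory.Sequence Groth.Agent.Lib.Helper65.CIPres Groth.Agent.Lib.Helper83

/-- R already a regular local ring: for a regular local ring R and a proper ideal I, the local ring R/I
is a complete intersection (its completion is a regular local ring modulo a regular sequence) if and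
only if I itself is generated by a regular sequence of R. -/
theorem result {R : Type u} [CommRing R] [IsRegularLocalRing R]
    (I : Ideal R) (hI : I ≠ ⊤) [IsLocalRing (R ⧸ I)] :
    Pi1.IsCompleteIntersection (R ⧸ I) ↔
      ∃ rs : List R, Ideal.ofList rs = I ∧ RingTheory.Sequence.IsRegular R rs := by
  constructor
  · intro h
    have hm : maximalIdeal R ≠ ⊤ := Ideal.IsPrime.ne_top inferInstance
    have hm' : maximalIdeal (R ⧸ I) ≠ ⊤ := Ideal.IsPrime.ne_top inferInstance
    haveI : IsLocalRing (AdicCompletion (maximalIdeal R) R) :=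
      isLocalRing_adicCompletion _ (maximalIdeal R).fg_of_isNoetherianRing hm
    haveI : IsNoetherianRing (AdicCompletion (maximalIdeal R) R) :=
      isNoetherianRing_adicCompletion _
    haveI : IsRegularLocalRing (AdicCompletion (maximalIdeal R) R) :=
      (isRegularLocalRing_adicCompletion_iff _ hm).1 inferInstance
    haveI : IsLocalRing (AdicCompletion (maximalIdeal (R ⧸ I)) (R ⧸ I)) :=
      isLocalRing_adicCompletion _ (maximalIdeal (R ⧸ I)).fg_of_isNoetherianRing hm'
    haveI : IsNoetherianRing (AdicCompletion (maximalIdeal (R ⧸ I)) (R ⧸ I)) :=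
      isNoetherianRing_adicCompletion _
    have hmap := maximalIdeal_adicCompletion_eq_map (maximalIdeal R)
      (maximalIdeal R).fg_of_isNoetherianRing hm
    obtain ⟨B', iB', iReg', g, hg, hCI⟩ :=
      Groth.Agent.S2169.exists_pres_of_isCompleteIntersection (R ⧸ I) h
    obtain ⟨e⟩ := Groth.Agent.Lib.Helper29.FormalEquidim.nonempty_quotientCompletionEquiv R I
    let f : AdicCompletion (maximalIdeal R) R →+*
        AdicCompletion (maximalIdeal (R ⧸ I)) (R ⧸ I) :=
      e.toRingHom.comp (Ideal.Quotient.mk _)
    have hf : Function.Surjective f := e.surjective.comp Ideal.Quotient.mk_surjective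
    have hker : RingHom.ker f = I.map (algebraMap R (AdicCompletion (maximalIdeal R) R)) := by
      ext y
      rw [RingHom.mem_ker]
      show e (Ideal.Quotient.mk _ y) = 0 ↔ _
      rw [map_eq_zero_iff _ e.injective, Ideal.Quotient.eq_zero_iff_mem]
    have h1 := Groth.Agent.S2169.isCI_of_isCI (AdicCompletion (maximalIdeal (R ⧸ I)) (R ⧸ I))
      (AdicCompletion (maximalIdeal R) R) B' f hf g hg hCI
    rw [hker] at h1
    have h2 : IsCI R I := by
      unfold IsCI at h1 ⊢
      rw [Groth.Agent.Lib.Helper65.SpanMap.spanFinrank_map_eq hmap I,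
        Groth.Agent.Lib.Helper29.FormalEquidim.ringKrullDim_quotient_map_eq R I,
        ringKrullDim_adicCompletion_eq _ hm] at h1
      exact h1
    haveI := isCM_of_isRegularLocalRing R
    obtain ⟨rs, hreg, hrs⟩ := (isCI_iff R I hI).1 h2
    exact ⟨rs, hrs, hreg⟩
  · rintro ⟨rs, hrs, hreg⟩
    have hmem : ∀ r ∈ rs, r ∈ maximalIdeal R := fun r hr =>
      IsLocalRing.le_maximalIdeal hI (hrs ▸ Ideal.subset_span hr)
    exact Groth.Agent.S2165.isCI_quotient R rs hmem hreg.toIsWeaklyRegular I hrs.symm

end Groth.Agent.S2166
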