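import Groth.Statements.S9501
-- import your own Groth.Agent.* helpers here
import Mathlib

set_option autoImplicit false
universe u
open SchMor

namespace Groth.Agent.S9501

open CategoryTheory CategoryTheory.Limits AlgebraicGeometry


/-- a morphism from the spectrum of a field kills the maximal ideal on stalks -/
lemma stalkMap_eq_zero_of_field {S : Scheme.{u}} {K : Type u} [Field K]
    (q : Spec (.of K) ⟶ S) (z : Spec (.of K))
    (a : S.presheaf.stalk (q z))
    (ha : a ∈ IsLocalRing.maximalIdeal (S.presheaf.stalk (q z))) :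
    (q.stalkMap z).hom a = 0 := by
  obtain rfl : z = IsLocalRing.closedPoint K := Subsingleton.elim _ _
  have h1 : (Scheme.stalkClosedPointTo q).hom a = 0 := by
    by_contra h
    have h2 : IsUnit ((Scheme.stalkClosedPointTo q).hom a) := Ne.isUnit h
    have h3 := (isUnit_map_iff (Scheme.stalkClosedPointTo q).hom a).mp h2
    exact ha h3
  have h4 : (stalkClosedPointIso (.of K)).hom.hom ((q.stalkMap _).hom a) = 0 := h1
  have h5 := congrArg (stalkClosedPointIso (.of K)).inv.hom h4
  simpa using h5

/-- if a morphism factors through the spectrum of a field, it kills the maximal ideal on stalks -/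
lemma stalkMap_eq_zero_of_factor {W S : Scheme.{u}} {K : Type u} [Field K]
    (h : W ⟶ S) (p : W ⟶ Spec (.of K)) (q : Spec (.of K) ⟶ S) (e : h = p ≫ q) (w : W)
    (a : S.presheaf.stalk (h w))
    (ha : a ∈ IsLocalRing.maximalIdeal (S.presheaf.stalk (h w))) :
    (h.stalkMap w).hom a = 0 := by
  subst e
  have e2 : (p ≫ q).stalkMap w = q.stalkMap (p w) ≫ p.stalkMap w := Scheme.Hom.stalkMap_comp ..
  have := stalkMap_eq_zero_of_field q (p w) a ha
  rw [e2]
  change (p.stalkMap w).hom ((q.stalkMap (p w)).hom a) = 0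
  rw [this, map_zero]

/-- key comparison lemma -/
lemma ker_le_of_lift {F X : Scheme.{u}} (ι : F ⟶ X) (Q : CommRingCat.{u}) [IsLocalRing Q]
    (g : Spec Q ⟶ F) (y : F) (hgc : g (IsLocalRing.closedPoint Q) = y)
    (π : X.presheaf.stalk (ι y) ⟶ Q) [IsLocalHom π.hom]
    (hg : g ≫ ι = Spec.map π ≫ X.fromSpecStalk (ι y)) :
    RingHom.ker (ι.stalkMap y).hom ≤ RingHom.ker π.hom := by
  subst hgc
  have key : Scheme.stalkClosedPointTo (g ≫ ι) = π := by
    have aux : ∀ (h : Spec Q ⟶ X) (e : h = Spec.map π ≫ X.fromSpecStalk (ι (g (IsLocalRing.closedPoint Q))))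
        (U : X.Opens) (hU : h (IsLocalRing.closedPoint Q) ∈ U),
        X.presheaf.germ U _ hU ≫ Scheme.stalkClosedPointTo h =
          X.presheaf.germ U (ι (g (IsLocalRing.closedPoint Q))) (by subst e; simpa using hU) ≫ π := by
      intro h e U hU
      subst e
      exact Scheme.germ_stalkClosedPointTo_Spec_fromSpecStalk π U hU
    refine TopCat.Presheaf.stalk_hom_ext _ fun U hxU ↦ ?_
    exact aux (g ≫ ι) hg U hxU
  rw [Scheme.stalkClosedPointTo_comp] at key
  intro b hb
  rw [RingHom.mem_ker] at hb ⊢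
  rw [← key]
  change (Scheme.stalkClosedPointTo g).hom ((ι.stalkMap _).hom b) = 0
  rw [hb, map_zero]

lemma map_maximalIdeal_le {X S : Scheme.{u}} (f : X ⟶ S) (x : X) :
    Ideal.map (f.stalkMap x).hom (IsLocalRing.maximalIdeal (S.presheaf.stalk (f x))) ≤
      IsLocalRing.maximalIdeal (X.presheaf.stalk x) :=
  IsLocalRing.map_maximalIdeal_le (f.stalkMap x).hom

lemma exists_lift {X S : Scheme.{u}} (f : X ⟶ S) (x : X) (s : S) (hx : f x = s)
    (I : Ideal (X.presheaf.stalk x))
    (hI : I = Ideal.map (f.stalkMap x).hom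
      (IsLocalRing.maximalIdeal (S.presheaf.stalk (f x)))) :
    ∃ g : Spec (.of (X.presheaf.stalk x ⧸ I)) ⟶ f.fiber s,
      g ≫ f.fiberι s =
        Spec.map (CommRingCat.ofHom (Ideal.Quotient.mk I)) ≫ X.fromSpecStalk x := by
  subst hx
  let π : X.presheaf.stalk x ⟶ .of (X.presheaf.stalk x ⧸ I) :=
    CommRingCat.ofHom (Ideal.Quotient.mk I)
  let l : S.residueField (f x) ⟶ .of (X.presheaf.stalk x ⧸ I) :=
    CommRingCat.ofHom (Ideal.Quotient.lift _ ((Ideal.Quotient.mk I).comp (f.stalkMap x).hom) (by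
      intro a ha
      rw [RingHom.comp_apply, Ideal.Quotient.eq_zero_iff_mem, hI]
      exact Ideal.mem_map_of_mem _ ha))
  have hl : S.residue (f x) ≫ l = f.stalkMap x ≫ π := by
    ext a
    rfl
  refine ⟨pullback.lift (Spec.map π ≫ X.fromSpecStalk x) (Spec.map l) ?_,
    pullback.lift_fst _ _ _⟩
  rw [Category.assoc, ← Scheme.SpecMap_stalkMap_fromSpecStalk, ← Spec.map_comp_assoc, ← hl,
    Scheme.fromSpecResidueField, Spec.map_comp_assoc]

open AlgebraicGeometry in
open CategoryTheory in
/-- Let f : X → S be a morphism of schemes, s a point of S and y a point of the fibre X_s = X ×_S Spec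
κ(s), mapping to the point x of X (so that f(x) = s). Then the homomorphism of local rings O_{X,x} →
O_{X_s,y} induced by the projection X_s → X is surjective, with kernel the ideal generated by the
image of the maximal ideal of O_{S,f(x)}; in other words O_{X_s,y} is identified with O_{X,x}/m_s
O_{X,x} = O_{X,x} ⊗_{O_{S,s}} κ(s). -/
theorem result
    {X S : Scheme.{u}} (f : X ⟶ S) (s : S) (y : ↥(f.fiber s)) :
    Function.Surjective ((f.fiberι s).stalkMap y).hom ∧
      RingHom.ker ((f.fiberι s).stalkMap y).hom =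
        Ideal.map (f.stalkMap ((f.fiberι s).base y)).hom
          (IsLocalRing.maximalIdeal (S.presheaf.stalk (f.base ((f.fiberι s).base y)))) := by
  have hx : f (f.fiberι s y) = s := by
    have : f.fiberι s y ∈ Set.range (f.fiberι s) := ⟨y, rfl⟩
    rw [f.range_fiberι s] at this
    exact this
  refine ⟨(f.fiberι s).stalkMap_surjective y, le_antisymm ?_ ?_⟩
  · obtain ⟨I, hI⟩ : ∃ I, I = Ideal.map (f.stalkMap ((f.fiberι s) y)).hom
      (IsLocalRing.maximalIdeal (S.presheaf.stalk (f ((f.fiberι s) y)))) := ⟨_, rfl⟩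
    have hIle : I ≤ IsLocalRing.maximalIdeal _ := hI ▸ map_maximalIdeal_le f (f.fiberι s y)
    have hne : I ≠ ⊤ := fun h =>
      (IsLocalRing.maximalIdeal.isMaximal _).ne_top (top_le_iff.mp (h ▸ hIle))
    haveI : Nontrivial (X.presheaf.stalk (f.fiberι s y) ⧸ I) :=
      Ideal.Quotient.nontrivial_iff.mpr hne
    haveI : IsLocalRing (CommRingCat.of (X.presheaf.stalk (f.fiberι s y) ⧸ I)) :=
      IsLocalRing.of_surjective' (Ideal.Quotient.mk I) Ideal.Quotient.mk_surjective
    haveI : IsLocalHom (CommRingCat.ofHom (Ideal.Quotient.mk I)).hom :=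
      IsLocalHom.of_surjective (Ideal.Quotient.mk I) Ideal.Quotient.mk_surjective
    obtain ⟨g, hg⟩ := exists_lift f (f.fiberι s y) s hx I hI
    have hgc : g (IsLocalRing.closedPoint _) = y := by
      apply (f.fiberι s).isEmbedding.injective
      have := congrArg (fun h : Spec _ ⟶ X => h (IsLocalRing.closedPoint _)) hg
      simp only [Scheme.Hom.comp_apply] at this
      rw [this]
      erw [Spec_closedPoint, Scheme.fromSpecStalk_closedPoint]
    have := ker_le_of_lift (f.fiberι s) _ g y hgc (CommRingCat.ofHom (Ideal.Quotient.mk I)) hg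
    rw [← hI]
    refine this.trans (le_of_eq ?_)
    exact Ideal.mk_ker
  · rw [Ideal.map_le_iff_le_comap]
    intro a ha
    rw [Ideal.mem_comap, RingHom.mem_ker]
    have := stalkMap_eq_zero_of_factor (f.fiberι s ≫ f) (f.fiberToSpecResidueField s)
      (S.fromSpecResidueField s) (f.fiber_fac s) y a ha
    rw [Scheme.Hom.stalkMap_comp] at this
    exact this

end Groth.Agent.S9501
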