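import Groth.Statements.S9169
import Groth.Agent.Lib.Helper35.SyntLocal5
import Groth.Agent.S9145
import Groth.Agent.Lib.Helper62.GCIField7

set_option autoImplicit false
universe u
open Synt

namespace Groth.Agent.S9169

section Helpers

open TensorProduct Groth.Agent.Lib.Helper35.SyntLocal

theorem setup (R S : Type u) [CommRing R] [CommRing S] [Algebra R S]
    (p : Ideal R) [p.IsPrime] (q : Ideal S) [q.IsPrime]
    (Q : Ideal (p.Fiber S)) [Q.IsPrime]
    (hQ : Q.comap (Algebra.TensorProduct.includeRight.toRingHom) = q) (g : S) (hg : g ∉ q) :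
    ∃ (QB : Ideal (p.Fiber (Localization.Away g))) (_ : QB.IsPrime)
      (qB : Ideal (Localization.Away g)) (_ : qB.IsPrime),
      QB.comap (Algebra.TensorProduct.includeRight :
        Localization.Away g →ₐ[R] p.Fiber (Localization.Away g)).toRingHom = qB ∧
      qB.comap (algebraMap S (Localization.Away g)) = q ∧
      Nonempty (Localization.AtPrime q ≃ₐ[R] Localization.AtPrime qB) ∧
      Nonempty (Localization.AtPrime Q ≃ₐ[p.ResidueField] Localization.AtPrime QB) := by
  have hgQ : (1 : p.ResidueField) ⊗ₜ[R] g ∉ Q := by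
    intro h
    apply hg
    rw [← hQ]
    exact h
  obtain ⟨QB, hQBp, hQBc, hQe⟩ := fibre_away p g Q hgQ
  have := hQBp
  haveI hqBp : (QB.comap (Algebra.TensorProduct.includeRight :
      Localization.Away g →ₐ[R] p.Fiber (Localization.Away g)).toRingHom).IsPrime :=
    Ideal.comap_isPrime _ _
  have hqBc : (QB.comap (Algebra.TensorProduct.includeRight :
      Localization.Away g →ₐ[R] p.Fiber (Localization.Away g)).toRingHom).comap
      (algebraMap S (Localization.Away g)) = q := by
    have h1 := comap_fibMap_includeRight p (IsScalarTower.toAlgHom R S (Localization.Away g)) QB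
    rw [hQBc, hQ] at h1
    exact h1.symm
  exact ⟨QB, hQBp, _, hqBp, rfl, hqBc, nonempty_atPrimeEquiv_away (R := R) g _ q hqBc, hQe⟩

theorem relGCI_of_local (R S : Type u) [CommRing R] [CommRing S] [Algebra R S]
    (p : Ideal R) [p.IsPrime] (q : Ideal S) [q.IsPrime]
    (Q : Ideal (p.Fiber S)) [Q.IsPrime]
    (hQ : Q.comap (Algebra.TensorProduct.includeRight.toRingHom) = q) (g : S) (hg : g ∉ q)
    (hfp : Algebra.FinitePresentation R (Localization.Away g))
    (hflat : Module.Flat R (Localization.AtPrime q))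
    (hCI : Synt.IsCIOver p.ResidueField (Localization.AtPrime Q)) :
    ∃ g' : S, g' ∉ q ∧ ∃ (n c : ℕ) (F : Fin c → MvPolynomial (Fin n) R), Synt.IsRelGCI R n c F ∧
      Nonempty (Localization.Away g' ≃ₐ[R] Synt.RelGCIRing R n c F) := by
  obtain ⟨QB, hQBp, qB, hqBp, hqB, hqBc, ⟨eq⟩, ⟨eQ⟩⟩ := setup R S p q Q hQ g hg
  have := hQBp
  haveI := hqBp
  have hflat' : Module.Flat R (Localization.AtPrime qB) :=
    Module.Flat.of_linearEquiv eq.symm.toLinearEquiv
  have hCI' : Synt.IsCIOver p.ResidueField (Localization.AtPrime QB) :=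
    Groth.Agent.Lib.Helper65.CIPres.IsCIOver.of_algEquiv p.ResidueField eQ hCI
  obtain ⟨b, hb, n, c, F, hGCI, ⟨e1⟩⟩ := core p QB qB hqB hflat' hCI'
  obtain ⟨s, hs, ⟨e2⟩⟩ := nonempty_away_mul (R := R) g b
  have hsq : s ∉ q := by
    have := hs qB hb
    rwa [hqBc] at this
  refine ⟨g * s, ?_, n, c, F, hGCI, ⟨e2.trans e1⟩⟩
  intro h
  exact (Ideal.IsPrime.mem_or_mem inferInstance h).elim hg hsq

theorem local_of_syntomic (R S : Type u) [CommRing R] [CommRing S] [Algebra R S]
    (p : Ideal R) [p.IsPrime] (q : Ideal S) [q.IsPrime]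
    (Q : Ideal (p.Fiber S)) [Q.IsPrime]
    (hQ : Q.comap (Algebra.TensorProduct.includeRight.toRingHom) = q) (g : S) (hg : g ∉ q)
    (hsyn : Synt.IsSyntomic R (Localization.Away g)) :
    Algebra.FinitePresentation R (Localization.Away g) ∧
      Module.Flat R (Localization.AtPrime q) ∧
      Synt.IsCIOver p.ResidueField (Localization.AtPrime Q) := by
  obtain ⟨hfl, hfp, hfib⟩ := hsyn
  obtain ⟨QB, hQBp, qB, hqBp, hqB, hqBc, ⟨eq⟩, ⟨eQ⟩⟩ := setup R S p q Q hQ g hg
  have := hQBp
  haveI := hqBp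
  refine ⟨hfp, ?_, ?_⟩
  · haveI : Module.Flat R (Localization.AtPrime qB) :=
      Module.Flat.trans R (Localization.Away g) (Localization.AtPrime qB)
    exact Module.Flat.of_linearEquiv eq.toLinearEquiv
  · have hL := hfib ⟨p, inferInstance⟩
    haveI : Algebra.FiniteType p.ResidueField (p.Fiber (Localization.Away g)) := hL.1
    have h1 := (Groth.Agent.S9145.result p.ResidueField (p.Fiber (Localization.Away g))).1.1 hL
      ⟨QB, hQBp⟩
    exact Groth.Agent.Lib.Helper65.CIPres.IsCIOver.of_algEquiv p.ResidueField eQ.symm h1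

end Helpers

open TensorProduct in
/-- Let R → S be a ring map and q a prime of S lying over p; write Q for the prime of the fibre ring
κ(p) ⊗ S that pulls back to q. Equivalent: (1) some basic open neighbourhood S_g of q is syntomic
over R; (2) some S_g is isomorphic over R to a relative global complete intersection; (3) some S_g
is of finite presentation over R, the local ring S_q is flat over R (equivalently over R_p), and the
fibre local ring (κ(p) ⊗ S)_Q is a complete intersection over κ(p). Stated as (1) ↔ (2) and (1) ↔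
(3). -/
theorem result (R S : Type u) [CommRing R] [CommRing S] [Algebra R S]
    (p : Ideal R) [p.IsPrime] (q : Ideal S) [q.IsPrime] [q.LiesOver p]
    (Q : Ideal (p.Fiber S)) [Q.IsPrime]
    (hQ : Q.comap (Algebra.TensorProduct.includeRight.toRingHom) = q) :
    ((∃ g : S, g ∉ q ∧ Synt.IsSyntomic R (Localization.Away g)) ↔
        ∃ g : S, g ∉ q ∧ ∃ (n c : ℕ) (F : Fin c → MvPolynomial (Fin n) R), Synt.IsRelGCI R n c F ∧
          Nonempty (Localization.Away g ≃ₐ[R] Synt.RelGCIRing R n c F)) ∧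
      ((∃ g : S, g ∉ q ∧ Synt.IsSyntomic R (Localization.Away g)) ↔
        ∃ g : S, g ∉ q ∧ Algebra.FinitePresentation R (Localization.Away g) ∧
          Module.Flat R (Localization.AtPrime q) ∧
          Synt.IsCIOver p.ResidueField (Localization.AtPrime Q)) := by
  refine ⟨⟨?_, ?_⟩, ⟨?_, ?_⟩⟩
  · rintro ⟨g, hg, hsyn⟩
    obtain ⟨hfp, hflat, hCI⟩ := local_of_syntomic R S p q Q hQ g hg hsyn
    exact relGCI_of_local R S p q Q hQ g hg hfp hflat hCI
  · rintro ⟨g, hg, n, c, F, hGCI, ⟨e⟩⟩
    exact ⟨g, hg, Groth.Agent.Lib.Helper62.GCIField.isSyntomic_of_algEquiv e.symm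
      (Groth.Agent.Lib.Helper35.RelGCI.isSyntomic R n c F hGCI)⟩
  · rintro ⟨g, hg, hsyn⟩
    exact ⟨g, hg, local_of_syntomic R S p q Q hQ g hg hsyn⟩
  · rintro ⟨g, hg, hfp, hflat, hCI⟩
    obtain ⟨g', hg', n, c, F, hGCI, ⟨e⟩⟩ := relGCI_of_local R S p q Q hQ g hg hfp hflat hCI
    exact ⟨g', hg', Groth.Agent.Lib.Helper62.GCIField.isSyntomic_of_algEquiv e.symm
      (Groth.Agent.Lib.Helper35.RelGCI.isSyntomic R n c F hGCI)⟩

end Groth.Agent.S9169
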