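import Groth.Statements.S9862
import Mathlib
import Groth.Agent.Lib.Helper33.SyntCM
import Groth.Agent.Lib.Helper33.CMLocusFT
import Groth.Agent.Lib.Helper33.FibreBC10

set_option maxHeartbeats 1600000
set_option backward.isDefEq.respectTransparency.types false

set_option autoImplicit false
open CategoryTheory CategoryTheory.Limits AlgebraicGeometry Opposite
universe u
open Desc

namespace Groth.Agent.S9862


open CategoryTheory CategoryTheory.Limits AlgebraicGeometry in
theorem flat_of_isSyntomicMor {X S : Scheme.{u}} (f : X ⟶ S) (h : Synt.IsSyntomicMor f) :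
    Flat f := by
  rw [HasRingHomProperty.iff_exists_appLE (P := @Flat)
    (RingHom.Flat.stableUnderComposition.stableUnderCompositionWithLocalizationAway
      RingHom.Flat.holdsForLocalizationAway).left]
  intro x
  obtain ⟨U, V, e, hxU, hs⟩ := h x
  exact ⟨V, U, hxU, e, hs.1⟩

open CategoryTheory CategoryTheory.Limits AlgebraicGeometry in
theorem lfp_of_isSyntomicMor {X S : Scheme.{u}} (f : X ⟶ S) (h : Synt.IsSyntomicMor f) :
    LocallyOfFinitePresentation f := by
  rw [HasRingHomProperty.iff_exists_appLE (P := @LocallyOfFinitePresentation)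
    (RingHom.finitePresentation_stableUnderComposition.stableUnderCompositionWithLocalizationAway
      RingHom.finitePresentation_holdsForLocalizationAway).left]
  intro x
  obtain ⟨U, V, e, hxU, hs⟩ := h x
  exact ⟨V, U, hxU, e, hs.2.1⟩

open CategoryTheory CategoryTheory.Limits AlgebraicGeometry in
theorem forward {X S : Scheme.{u}} (f : X ⟶ S) (h : Synt.IsSyntomicMor f)
    [IsLocallyNoetherian S]
    (hS : ∀ s : S, LocCoh.IsCohenMacaulayLocalRing (S.presheaf.stalk s)) :
    IsLocallyNoetherian X ∧ ∀ x : X, LocCoh.IsCohenMacaulayLocalRing (X.presheaf.stalk x) := by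
  haveI := lfp_of_isSyntomicMor f h
  haveI : LocallyOfFiniteType f := inferInstance
  refine ⟨LocallyOfFiniteType.isLocallyNoetherian f, fun x => ?_⟩
  obtain ⟨U, V, e, hxU, hs⟩ := h x
  letI := (f.appLE V.1 U.1 e).hom.toAlgebra
  haveI : IsNoetherianRing Γ(S, V.1) := IsLocallyNoetherian.component_noetherian V
  have hx : x ∈ Set.range U.2.fromSpec.base := by rw [U.2.range_fromSpec]; exact hxU
  obtain ⟨r, rfl⟩ := hx
  obtain ⟨e'⟩ := Groth.Agent.Lib.Helper33.CMLocusFT.nonempty_stalk_equiv U.2 r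
  refine (Groth.Agent.Lib.Helper33.CMComp.cm_ringEquiv_iff e').2 ?_
  haveI := r.isPrime
  refine Groth.Agent.Lib.Helper33.SyntCM.cm_of_isSyntomic ?_ hs r.asIdeal
  intro p _
  obtain ⟨e''⟩ := Groth.Agent.Lib.Helper33.CMLocusFT.nonempty_stalk_equiv V.2 ⟨p, inferInstance⟩
  exact (Groth.Agent.Lib.Helper33.CMComp.cm_ringEquiv_iff e'').1 (hS _)

open CategoryTheory CategoryTheory.Limits AlgebraicGeometry in
theorem backward {ι : Type u} {S : Scheme.{u}} {X : ι → Scheme.{u}} (f : ∀ i, X i ⟶ S)
    (hsurj : ∀ s : S, ∃ i, s ∈ Set.range (f i).base) (hsyn : ∀ i, Synt.IsSyntomicMor (f i))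
    (hX : ∀ i, IsLocallyNoetherian (X i) ∧
      ∀ x : X i, LocCoh.IsCohenMacaulayLocalRing ((X i).presheaf.stalk x)) :
    IsLocallyNoetherian S ∧ ∀ s : S, LocCoh.IsCohenMacaulayLocalRing (S.presheaf.stalk s) := by
  haveI : ∀ i, Flat (f i) := fun i => flat_of_isSyntomicMor (f i) (hsyn i)
  haveI : ∀ i, LocallyOfFinitePresentation (f i) := fun i => lfp_of_isSyntomicMor (f i) (hsyn i)
  haveI : ∀ i, IsLocallyNoetherian (X i) := fun i => (hX i).1
  haveI hN : IsLocallyNoetherian S := by
    haveI : Flat (Sigma.desc f) := IsZariskiLocalAtSource.sigmaDesc (fun i => inferInstance)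
    haveI : UniversallyOpen (Sigma.desc f) :=
      IsZariskiLocalAtSource.sigmaDesc (fun i => inferInstance)
    haveI : Surjective (Sigma.desc f) := Surjective.sigmaDesc_of_union_range_eq_univ (by
      ext s
      simp only [Set.mem_iUnion, Set.mem_univ, iff_true]
      exact hsurj s)
    haveI : IsLocallyNoetherian (∐ X) :=
      (isLocallyNoetherian_iff_openCover (sigmaOpenCover X)).2 (fun i => (hX i).1)
    exact Groth.Agent.Lib.Helper33.FibreBC.isLocallyNoetherian_of_flat_surjective_universallyOpen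
      (Sigma.desc f)
  refine ⟨hN, fun s => ?_⟩
  obtain ⟨i, x, rfl⟩ := hsurj s
  obtain ⟨U, V, e, hxU, hs⟩ := hsyn i x
  letI := ((f i).appLE V.1 U.1 e).hom.toAlgebra
  haveI : IsNoetherianRing Γ(S, V.1) := IsLocallyNoetherian.component_noetherian V
  haveI : IsNoetherianRing Γ(X i, U.1) := IsLocallyNoetherian.component_noetherian U
  haveI : Module.Flat Γ(S, V.1) Γ(X i, U.1) := hs.1
  have hx : x ∈ Set.range U.2.fromSpec.base := by rw [U.2.range_fromSpec]; exact hxU
  obtain ⟨r, rfl⟩ := hx
  have hpt : (f i).base (U.2.fromSpec.base r) =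
      V.2.fromSpec.base (PrimeSpectrum.comap ((f i).appLE V.1 U.1 e).hom r) := by
    have h1 := IsAffineOpen.SpecMap_appLE_fromSpec (f i) V.2 U.2 e
    have h2 := congrArg (fun g => g.base r) h1
    exact h2.symm
  rw [hpt]
  obtain ⟨e'⟩ := Groth.Agent.Lib.Helper33.CMLocusFT.nonempty_stalk_equiv U.2 r
  obtain ⟨e''⟩ := Groth.Agent.Lib.Helper33.CMLocusFT.nonempty_stalk_equiv V.2
    (PrimeSpectrum.comap ((f i).appLE V.1 U.1 e).hom r)
  refine (Groth.Agent.Lib.Helper33.CMComp.cm_ringEquiv_iff e'').2 ?_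
  haveI := r.isPrime
  exact Groth.Agent.Lib.Helper33.SyntCM.cm_of_flat_of_cm r.asIdeal _ rfl
    ((Groth.Agent.Lib.Helper33.CMComp.cm_ringEquiv_iff e').1 ((hX i).2 _))

/-- Being Cohen-Macaulay is local in the syntomic topology: for a jointly surjective family of syntomic
morphisms f i : X i ⟶ S, the scheme S is locally Noetherian with Cohen-Macaulay local rings if and
only if every X i is. -/
theorem result {ι : Type u} {S : Scheme.{u}} {X : ι → Scheme.{u}} (f : ∀ i, X i ⟶ S)
    (hsurj : ∀ s : S, ∃ i, s ∈ Set.range (f i).base) (hsyn : ∀ i, Synt.IsSyntomicMor (f i)) :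
    (IsLocallyNoetherian S ∧ ∀ s : S, LocCoh.IsCohenMacaulayLocalRing (S.presheaf.stalk s)) ↔
      ∀ i, IsLocallyNoetherian (X i) ∧ ∀ x : X i, LocCoh.IsCohenMacaulayLocalRing ((X i).presheaf.stalk x) := by
  constructor
  · rintro ⟨hN, hS⟩ i
    exact forward (f i) (hsyn i) hS
  · intro hX
    exact backward f hsurj hsyn hX

end Groth.Agent.S9862
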