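import Groth.Statements.S9363
import Mathlib
import Groth.Agent.Lib.Helper9.LciMor3
import Groth.Agent.Lib.Helper8.SyntLCI
import Groth.Agent.S9862

set_option autoImplicit false
open CategoryTheory CategoryTheory.Limits AlgebraicGeometry Opposite
universe u

namespace Groth.Agent.S9363

open Groth.Agent.Lib.Helper9 Groth.Agent.Lib.Helper8

open AlgebraicGeometry CategoryTheory in
/-- syntomic morphisms induce syntomic ring maps on ALL affine pairs -/
theorem isSyntomic_appLE {X S : Scheme.{u}} (f : X ⟶ S) (h : Synt.IsSyntomicMor f)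
    (U : X.affineOpens) (V : S.affineOpens) (e : U.1 ≤ f ⁻¹ᵁ V.1) :
    letI := (f.appLE V.1 U.1 e).hom.toAlgebra
    Synt.IsSyntomic Γ(S, V.1) Γ(X, U.1) := by
  have hflat : Flat f := Groth.Agent.S9862.flat_of_isSyntomicMor f h
  have hK : ∀ x, Synt.IsKoszulAt f x := by
    intro x
    obtain ⟨U', V', e', hx, hs⟩ := h x
    letI := (f.appLE V'.1 U'.1 e').hom.toAlgebra
    exact LciMor2.isKoszulAt_of_affine_isLCI f x U' V' e' hx
      ((SyntLCI.isSyntomic_iff _ _).1 hs).2
  letI := (f.appLE V.1 U.1 e).hom.toAlgebra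
  rw [SyntLCI.isSyntomic_iff]
  refine ⟨?_, LciMor3.isLCI_appLE_of_isKoszulAt f hK U.1 V.1 U.2 V.2 e⟩
  exact HasRingHomProperty.appLE (P := @Flat) f hflat V U e

open AlgebraicGeometry CategoryTheory in
/-- f : X → S is syntomic if and only if, for every affine open V of S and every affine open U of X
mapped into V, the induced map O_S(V) → O_X(U) makes O_X(U) a syntomic algebra over O_S(V). -/
theorem result {X S : Scheme.{u}} (f : X ⟶ S) :
    Synt.IsSyntomicMor f ↔
      ∀ (U : X.affineOpens) (V : S.affineOpens) (e : U.1 ≤ f ⁻¹ᵁ V.1),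
        letI := (f.appLE V.1 U.1 e).hom.toAlgebra
        Synt.IsSyntomic Γ(S, V.1) Γ(X, U.1) := by
  constructor
  · intro h U V e
    exact isSyntomic_appLE f h U V e
  · intro h x
    obtain ⟨_, ⟨V, hV : IsAffineOpen V, rfl⟩, hfxV, -⟩ :=
      S.isBasis_affineOpens.exists_subset_of_mem_open (Set.mem_univ (f.base x)) isOpen_univ
    obtain ⟨_, ⟨U, hU : IsAffineOpen U, rfl⟩, hxU, hUV⟩ :=
      X.isBasis_affineOpens.exists_subset_of_mem_open (show x ∈ (f ⁻¹ᵁ V : Set X) from hfxV)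
        (f ⁻¹ᵁ V).isOpen
    exact ⟨⟨U, hU⟩, ⟨V, hV⟩, hUV, hxU, h ⟨U, hU⟩ ⟨V, hV⟩ hUV⟩

end Groth.Agent.S9363
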