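import Groth.Statements.S3825
import Mathlib
import Groth.Agent.Lib.Helper77.QuasiRegCot

set_option autoImplicit false
universe u
open QReg16

namespace Groth.Agent.S3825

/-- a) iff c) (affine local form): let A be a local ring and I a proper ideal generated by some
quasi-regular sequence. For a finite family (f_i) of elements of I, the following are equivalent:
(a) (f_i) is a quasi-regular sequence generating I; (c) the classes of the f_i form a basis of the
A/I-module I/I² (equivalently, b): (f_i) is a minimal system of generators of I). -/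
theorem result {A : Type u} [CommRing A] [IsLocalRing A]
    (I : Ideal A) (hI : I ≤ IsLocalRing.maximalIdeal A)
    (hq : ∃ (r : ℕ) (g : Fin r → A), CAlgX.IsQuasiRegular g ∧ Ideal.span (Set.range g) = I)
    {m : ℕ} (f : Fin m → I) :
    (CAlgX.IsQuasiRegular (fun i => (f i : A)) ∧ Ideal.span (Set.range fun i => (f i : A)) = I) ↔
      (LinearIndependent (A ⧸ I) (fun i => I.toCotangent (f i)) ∧
        Submodule.span (A ⧸ I) (Set.range fun i => I.toCotangent (f i)) = ⊤) := by
  classical
  constructor
  · rintro ⟨hq', hs⟩
    exact Groth.Agent.Lib.Helper77.QuasiReg.cotangent_basis_of_isQuasiRegular I f hq' hs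
  · rintro ⟨hli, hsp⟩
    obtain ⟨r, g, hg, hgI⟩ := hq
    let g' : Fin r → I := fun i => ⟨g i, hgI ▸ Ideal.subset_span ⟨i, rfl⟩⟩
    have hg' := Groth.Agent.Lib.Helper77.QuasiReg.cotangent_basis_of_isQuasiRegular I g' hg hgI
    have hne : I ≠ ⊤ := by
      rintro rfl
      exact (IsLocalRing.maximalIdeal.isMaximal A).ne_top (top_le_iff.1 hI)
    have : Nontrivial (A ⧸ I) := Ideal.Quotient.nontrivial_iff.2 hne
    have hmr : r = m := by
      let b1 := Module.Basis.mk hli (by rw [hsp])
      let b2 := Module.Basis.mk hg'.1 (by rw [hg'.2])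
      have e := b2.indexEquiv b1
      have := Fintype.card_congr e
      simpa using this
    subst hmr
    have hfg : I.FG := ⟨Finset.univ.image g, by
      rw [Finset.coe_image, Finset.coe_univ, Set.image_univ]; exact hgI⟩
    have hs := Groth.Agent.Lib.Helper77.QuasiReg.span_eq_of_cotangent_span I
      (hI.trans (IsLocalRing.jacobson_eq_maximalIdeal ⊥ bot_ne_top).ge) hfg f hsp
    exact ⟨Groth.Agent.Lib.Helper77.QuasiReg.isQuasiRegular_of_span_eq g _ hg (hs.trans hgI.symm), hs⟩

end Groth.Agent.S3825
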