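import Groth.Statements.S7059
-- import your own Groth.Agent.* helpers here
import Mathlib
import Groth.Agent.Lib.Helper36.DerivedKrull

set_option autoImplicit false
universe u
attribute [local instance] HasDerivedCategory.standard
open DRing

namespace Groth.Agent.S7059

open Groth.Agent.Lib.Helper36.DC

/-- Let A be a Noetherian commutative ring, I an ideal and M an A-module which, placed in degree 0 of
D(A), is derived complete with respect to I. If M/IM is a finite module, then M is I-adically
complete, and M (identified with its I-adic completion) is a finite module over the I-adic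
completion of A. -/
theorem result {A : Type u} [CommRing A]
    [IsNoetherianRing A] (I : Ideal A) (M : Type u) [AddCommGroup M] [Module A M]
    (hc : DRing.IsDerivedComplete I (Dual.inD A M))
    (hf : Module.Finite A (M ⧸ I • (⊤ : Submodule A M))) :
    IsAdicComplete I M ∧ Module.Finite (AdicCompletion I A) (AdicCompletion I M) := by
  classical
  obtain ⟨s, hs⟩ : ∃ s : Finset A, Ideal.span (s : Set A) = I := IsNoetherian.noetherian I
  subst hs
  have hM : ∀ f ∈ Ideal.span (s : Set A), SeqComplete f M := (isDerivedComplete_iff _).mp hc
  have hMs : ∀ f ∈ s, SeqComplete f M := fun f hf => hM f (Ideal.subset_span hf)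
  have hbot := iInf_pow_smul_eq_bot_of_seqComplete s M hMs hf
  have hH : IsHausdorff (Ideal.span (s : Set A)) M := by
    rw [isHausdorff_iff]
    intro x hx
    have : x ∈ (⨅ n : ℕ, Ideal.span (s : Set A) ^ n • ⊤ : Submodule A M) := by
      rw [Submodule.mem_iInf]
      intro n
      exact SModEq.zero.mp (hx n)
    rw [hbot] at this
    exact (Submodule.mem_bot A).mp this
  have hP : IsPrecomplete (Ideal.span (s : Set A)) M := isPrecomplete_of_seqComplete s hMs
  refine ⟨{ toIsHausdorff := hH, toIsPrecomplete := hP }, ?_⟩
  set I := Ideal.span (s : Set A) with hI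
  obtain ⟨n, p, hp⟩ := Module.Finite.exists_fin' A (M ⧸ (I • ⊤ : Submodule A M))
  obtain ⟨ψ, hψ⟩ := Module.projective_lifting_property (I • ⊤ : Submodule A M).mkQ p
    (Submodule.mkQ_surjective _)
  have hsurj : Function.Surjective (AdicCompletion.map I ψ) :=
    AdicCompletion.map_surjective_of_mkQ_comp_surjective (by rw [hψ]; exact hp)
  have h1 : Module.Finite (AdicCompletion I A) (AdicCompletion I (Fin n → A)) :=
    Module.Finite.of_surjective (AdicCompletion.ofTensorProduct I (Fin n → A))
      (AdicCompletion.ofTensorProduct_bijective_of_pi_of_fintype I (Fin n)).surjective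
  exact Module.Finite.of_surjective (AdicCompletion.map I ψ) hsurj

end Groth.Agent.S7059
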