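import Groth.Statements.S6292
import Mathlib.RingTheory.SimpleModule.Basic
import Mathlib.RingTheory.Finiteness.Ideal
import Mathlib.RingTheory.Ideal.Operations
-- import your own Groth.Agent.* helpers here

set_option autoImplicit false
universe u
open CAlg

namespace Groth.Agent.S6292

lemma semisimple_of_killed {R : Type u} [CommRing R] (m : Ideal R) [m.IsMaximal]
    (N : Type u) [AddCommGroup N] [Module R N] (h : ∀ a ∈ m, ∀ x : N, a • x = 0) :
    IsSemisimpleModule R N := by
  classical
  let φ : N → (R ⧸ m) →ₗ[R] N := fun x =>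
    Submodule.liftQ m (LinearMap.toSpanSingleton R N x) (by
      intro a ha
      simp only [LinearMap.mem_ker, LinearMap.toSpanSingleton_apply]
      exact h a ha x)
  let Φ : (N →₀ (R ⧸ m)) →ₗ[R] N := Finsupp.lsum R φ
  have hΦ : Function.Surjective Φ := fun x => ⟨Finsupp.single x 1, by
    simp only [Φ, φ, Finsupp.lsum_single]
    have : (1 : R ⧸ m) = Submodule.Quotient.mk (1 : R) := rfl
    rw [this, Submodule.liftQ_apply, LinearMap.toSpanSingleton_apply, one_smul]⟩
  have hs : IsSimpleModule R (R ⧸ m) :=
    isSimpleModule_iff_quot_maximal.mpr ⟨m, inferInstance, ⟨LinearEquiv.refl _ _⟩⟩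
  exact IsSemisimpleModule.of_surjective Φ hΦ

lemma main {R : Type u} [CommRing R] (m : Ideal R) [m.IsMaximal] (hm : m.FG) :
    ∀ (n : ℕ) (M : Type u) [AddCommGroup M] [Module R M] [Module.Finite R M],
      m ^ n • (⊤ : Submodule R M) = ⊥ → IsFiniteLength R M := by
  intro n
  induction n with
  | zero =>
    intro M _ _ _ h
    rw [pow_zero, Ideal.one_eq_top, Submodule.top_smul] at h
    have : Subsingleton M := by
      refine ⟨fun a b => ?_⟩
      have ha : a ∈ (⊥ : Submodule R M) := h ▸ Submodule.mem_top
      have hb : b ∈ (⊥ : Submodule R M) := h ▸ Submodule.mem_top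
      rw [Submodule.mem_bot] at ha hb
      rw [ha, hb]
    exact IsFiniteLength.of_subsingleton
  | succ n ih =>
    intro M _ _ _ h
    let N : Submodule R M := m ^ n • (⊤ : Submodule R M)
    have hNfg : N.FG := Submodule.FG.smul (Ideal.FG.pow hm) Module.Finite.fg_top
    have : Module.Finite R N := Module.Finite.iff_fg.mpr hNfg
    have hkill : ∀ a ∈ m, ∀ x : N, a • x = 0 := by
      intro a ha x
      apply Subtype.ext
      have : a • (x : M) ∈ m ^ (n + 1) • (⊤ : Submodule R M) := by
        rw [pow_succ', mul_smul]
        exact Submodule.smul_mem_smul ha x.2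
      rw [h, Submodule.mem_bot] at this
      simpa using this
    have hss : IsSemisimpleModule R N := semisimple_of_killed m N hkill
    have hN : IsFiniteLength R N := (IsSemisimpleModule.finite_tfae.out 0 3).mp ‹Module.Finite R N›
    have hQ : IsFiniteLength R (M ⧸ N) := by
      apply ih
      have : (⊤ : Submodule R (M ⧸ N)) = (⊤ : Submodule R M).map N.mkQ := by
        rw [Submodule.map_top, Submodule.range_mkQ]
      rw [this, ← Submodule.map_smul'']
      exact Submodule.mkQ_map_self N
    rw [isFiniteLength_iff_isNoetherian_isArtinian] at hN hQ ⊢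
    exact ⟨(isNoetherian_iff_submodule_quotient N).mpr ⟨hN.1, hQ.1⟩,
      (isArtinian_iff_submodule_quotient N).mpr ⟨hN.2, hQ.2⟩⟩

/-- Let R be a ring and m ⊆ R a finitely generated maximal ideal (for instance R Noetherian). If M is a
finite R-module with mⁿM = 0 for some n, then M has finite length. -/
theorem result {R : Type u} [CommRing R] (m : Ideal R) [m.IsMaximal] (hm : m.FG) (M : Type u) [AddCommGroup M] [Module R M] [Module.Finite R M] (n : ℕ) (hn : m ^ n • (⊤ : Submodule R M) = ⊥) : IsFiniteLength R M := by
  exact main m hm n M hn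

end Groth.Agent.S6292
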