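import Groth.Statements.S1713
-- import your own Groth.Agent.* helpers here
import Mathlib
import Groth.Agent.Lib.Helper36.LD.Main
import Groth.Agent.S0299

set_option autoImplicit false
universe u
open CategoryTheory
attribute [local instance] HasDerivedCategory.standard
open Dual

namespace Groth.Agent.S1713

/-- the annihilator of the `E`-dual of a module equals the annihilator of the module, when `E` is an
injective hull of the residue field of a local ring (`X` in any universe) -/
theorem annihilator_dual {A : Type u} [CommRing A] [IsLocalRing A] (E : Type u) [AddCommGroup E]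
    [Module A E] (f : IsLocalRing.ResidueField A →ₗ[A] E) (hf : InjHull.IsInjectiveHull f)
    (X : Type (u + 1)) [AddCommGroup X] [Module A X] :
    Module.annihilator A (X →ₗ[A] E) = Module.annihilator A X := by
  have hEinj : Module.Injective A E := hf.isInjective
  apply le_antisymm
  · intro a ha
    rw [Module.mem_annihilator] at ha ⊢
    intro x₀
    by_contra hy
    set y : X := a • x₀ with hydef
    -- a nonzero element of `E` killed by the maximal ideal
    let f' : (A ⧸ IsLocalRing.maximalIdeal A) →ₗ[A] E := f
    have hf' : Function.Injective f' := hf.injective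
    let e₀ : E := f' 1
    have he₀ : e₀ ≠ 0 := by
      intro h
      have h1 : f' 1 = f' 0 := h.trans (map_zero f').symm
      exact one_ne_zero (hf' h1)
    have hke₀ : ∀ b ∈ IsLocalRing.maximalIdeal A, b • e₀ = 0 := by
      intro b hb
      show b • f' 1 = 0
      rw [← map_smul]
      have : b • (1 : A ⧸ IsLocalRing.maximalIdeal A) = 0 :=
        Groth.Agent.Lib.Helper36.Matlis.kill_quot (IsLocalRing.maximalIdeal A) b hb 1
      rw [this, map_zero]
    let σ : A →ₗ[A] X := LinearMap.toSpanSingleton A X y
    have hker : LinearMap.ker σ ≤ LinearMap.ker (LinearMap.toSpanSingleton A E e₀) := by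
      intro b hb
      rw [LinearMap.mem_ker, LinearMap.toSpanSingleton_apply] at hb ⊢
      apply hke₀
      rw [IsLocalRing.mem_maximalIdeal]
      intro hu
      obtain ⟨u, rfl⟩ := hu
      apply hy
      have : (↑u⁻¹ : A) • ((u : A) • y) = 0 := by rw [hb, smul_zero]
      rwa [smul_smul, Units.inv_mul, one_smul] at this
    let g0 : LinearMap.range σ →ₗ[A] E :=
      ((LinearMap.ker σ).liftQ (LinearMap.toSpanSingleton A E e₀) hker) ∘ₗ
        (LinearMap.quotKerEquivRange σ).symm.toLinearMap
    obtain ⟨ψ, hψ⟩ := Module.Injective.extension_property A E (LinearMap.range σ) X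
      (LinearMap.range σ).subtype (Submodule.injective_subtype _) g0
    have hσ1 : σ 1 = y := by
      show (1 : A) • y = y
      rw [one_smul]
    have h1 : ψ y = g0 ⟨σ 1, LinearMap.mem_range_self σ 1⟩ := by
      have := LinearMap.congr_fun hψ ⟨σ 1, LinearMap.mem_range_self σ 1⟩
      rw [← this]
      show ψ y = ψ (σ 1)
      rw [hσ1]
    have h2 : (LinearMap.quotKerEquivRange σ).symm ⟨σ 1, LinearMap.mem_range_self σ 1⟩ =
        (LinearMap.ker σ).mkQ 1 := by
      rw [LinearEquiv.symm_apply_eq]
      rfl
    have h3 : g0 ⟨σ 1, LinearMap.mem_range_self σ 1⟩ = e₀ := by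
      show ((LinearMap.ker σ).liftQ (LinearMap.toSpanSingleton A E e₀) hker)
        ((LinearMap.quotKerEquivRange σ).symm ⟨σ 1, LinearMap.mem_range_self σ 1⟩) = e₀
      rw [h2]
      show (1 : A) • e₀ = e₀
      rw [one_smul]
    have h4 : (a • ψ) x₀ = 0 := by rw [ha ψ, LinearMap.zero_apply]
    rw [LinearMap.smul_apply, ← map_smul, ← hydef, h1, h3] at h4
    exact he₀ h4
  · intro a ha
    rw [Module.mem_annihilator] at ha ⊢
    intro ψ
    refine LinearMap.ext fun x => ?_
    rw [LinearMap.smul_apply, ← map_smul, ha x, map_zero, LinearMap.zero_apply]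

/-- Let A be a Noetherian local ring with maximal ideal m and a normalized dualizing complex ω, and M a
finite A-module. For every i ≥ 0 the annihilator of the A-module of maps M → ω[-i] in D(A) equals
the annihilator of the local cohomology module H^i_m(M). -/
theorem result (A : Type u) [CommRing A] [IsLocalRing A] [IsNoetherianRing A] (ω : Dual.D A) (hω : Dual.IsDualizing A ω) (hn : Dual.IsNormalized A ω) (M : Type u) [AddCommGroup M] [Module A M] [Module.Finite A M] (i : ℕ) : Module.annihilator A (Dual.inD A M ⟶ ω⟦(-(i : ℤ))⟧) = Module.annihilator A (LocCoh.H (IsLocalRing.maximalIdeal A) i M) := by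
  obtain ⟨E, _, _, f, hf⟩ := Groth.Agent.S0299.result A (IsLocalRing.ResidueField A)
  obtain ⟨e⟩ := Groth.Agent.Lib.Helper36.LD.nonempty_localDuality ω hω hn E f hf M i
  rw [e.annihilator_eq, annihilator_dual E f hf]

end Groth.Agent.S1713
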