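import Groth.Statements.S0571
-- import your own Groth.Agent.* helpers here
import Groth.Agent.Lib.Helper88.Japanese7

set_option autoImplicit false
universe u
open CAlg

namespace Groth.Agent.S0571

/-- A Noetherian domain `R` is N-1 exactly when (a) `R_f` is integrally closed for some nonzero `f`, and
(b) the localization of `R` at every maximal ideal is N-1. -/
theorem result (R : Type u) [CommRing R] [IsDomain R]
    [IsNoetherianRing R] :
    CAlg.IsN1 R ↔ ((∃ f : R, f ≠ 0 ∧ IsIntegrallyClosed (Localization.Away f)) ∧
      ∀ (m : Ideal R) [m.IsMaximal], CAlg.IsN1 (Localization.AtPrime m)) := by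
  classical
  open Groth.Agent.Lib.Helper88 in
  constructor
  · intro h
    refine ⟨?_, fun m _ => isN1_of_isLocalization R m.primeCompl _ h⟩
    -- a common denominator for generators of the integral closure
    have hfin : Module.Finite R (integralClosure R (FractionRing R)) := h
    have hfg : (Subalgebra.toSubmodule (integralClosure R (FractionRing R))).FG :=
      (Submodule.fg_top _).mp ((Module.finite_def).mp hfin)
    obtain ⟨T, hT⟩ := hfg
    obtain ⟨b, hb⟩ := IsLocalization.exist_integer_multiples_of_finset (nonZeroDivisors R) T
    have hb0 : (b : R) ≠ 0 := nonZeroDivisors.ne_zero b.2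
    refine ⟨b, hb0, ?_⟩
    set f : R := (b : R) with hfdef
    haveI : IsDomain (Localization.Away f) :=
      IsLocalization.isDomain_localization (powers_le_nonZeroDivisors_of_noZeroDivisors hb0)
    letI : Algebra (Localization.Away f) (FractionRing R) :=
      (awayLift R (FractionRing R) f (Localization.Away f)).toAlgebra
    haveI : IsScalarTower R (Localization.Away f) (FractionRing R) :=
      IsScalarTower.of_algebraMap_eq
        (fun x => (awayLift_algebraMap R (FractionRing R) f (Localization.Away f) x).symm)
    haveI : IsFractionRing (Localization.Away f) (FractionRing R) :=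
      IsFractionRing.isFractionRing_of_isDomain_of_isLocalization (Submonoid.powers f)
        (Localization.Away f) (FractionRing R)
    rw [isIntegrallyClosed_iff (FractionRing R)]
    intro x hx
    obtain ⟨s, hs⟩ := IsIntegral.exists_multiple_integral_of_isLocalization
      (Submonoid.powers f) x hx
    have hspan : ∀ z ∈ Submodule.span R (T : Set (FractionRing R)),
        ∃ r : R, algebraMap R (FractionRing R) r = f • z := by
      intro z hz
      induction hz using Submodule.span_induction with
      | mem z hz =>
        obtain ⟨r, hr⟩ := hb z hz
        exact ⟨r, hr⟩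
      | zero => exact ⟨0, by simp⟩
      | add a c _ _ iha ihc =>
        obtain ⟨r1, h1⟩ := iha
        obtain ⟨r2, h2⟩ := ihc
        exact ⟨r1 + r2, by rw [map_add, h1, h2, smul_add]⟩
      | smul a z _ ih =>
        obtain ⟨r, hr⟩ := ih
        exact ⟨a * r, by rw [map_mul, hr, ← Algebra.smul_def, smul_comm]⟩
    have hsx : (s : R) • x ∈ Submodule.span R (T : Set (FractionRing R)) := by
      rw [hT]; exact hs
    obtain ⟨r, hr⟩ := hspan _ hsx
    have hfs : f * (s : R) ∈ Submonoid.powers f := Submonoid.mul_mem _ (Submonoid.mem_powers f) s.2
    refine ⟨IsLocalization.mk' (Localization.Away f) r ⟨f * s, hfs⟩, ?_⟩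
    have hunit : algebraMap R (FractionRing R) (f * (s : R)) ≠ 0 := by
      rw [Ne, map_eq_zero_iff _ (IsFractionRing.injective R (FractionRing R))]
      exact mul_ne_zero hb0 (nonZeroDivisors.ne_zero
        (powers_le_nonZeroDivisors_of_noZeroDivisors hb0 s.2))
    have h1 : algebraMap (Localization.Away f) (FractionRing R)
        (IsLocalization.mk' (Localization.Away f) r ⟨f * s, hfs⟩) *
        algebraMap R (FractionRing R) (f * (s : R)) = algebraMap R (FractionRing R) r := by
      rw [IsScalarTower.algebraMap_apply R (Localization.Away f) (FractionRing R) (f * (s : R)),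
        ← map_mul, IsScalarTower.algebraMap_apply R (Localization.Away f) (FractionRing R) r]
      congr 1
      exact IsLocalization.mk'_spec (Localization.Away f) r ⟨f * s, hfs⟩
    have h2 : x * algebraMap R (FractionRing R) (f * (s : R)) = algebraMap R (FractionRing R) r := by
      rw [hr, smul_smul, Algebra.smul_def, mul_comm]
    exact mul_right_cancel₀ hunit (h1.trans h2.symm)
  · rintro ⟨⟨f, hf0, hfc⟩, hloc⟩
    haveI : IsDomain (Localization.Away f) :=
      IsLocalization.isDomain_localization (powers_le_nonZeroDivisors_of_noZeroDivisors hf0)
    change Module.Finite R (integralClosure R (FractionRing R))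
    apply finite_integralClosure_of_away_of_local f hf0
    · intro y hy
      exact exists_pow_smul_eq_of_isIntegrallyClosed_away R (FractionRing R) f
        (Localization.Away f) y hy
    · intro m hm
      haveI := hm
      have h1 : IsN1' (Localization.AtPrime m) := (isN1_iff _).mp (hloc m)
      obtain ⟨T, hT1, hT2⟩ := exists_finset_of_isN1'_isLocalization R (FractionRing R)
        m.primeCompl (Localization.AtPrime m) h1
      exact ⟨T, hT1, hT2⟩

end Groth.Agent.S0571
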