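import Groth.Statements.S12125
-- import your own Groth.Agent.* helpers here
import Groth.Agent.Lib.Helper88.Japanese10
import Groth.Agent.S0571
import Groth.Agent.S4562

set_option autoImplicit false
universe u
open EGA4

namespace Groth.Agent.S12125

/-- Let A be a Noetherian ring. Then every quotient of A by a prime ideal is N-2 (i.e. A is a Nagata
ring) if and only if (1) for every maximal ideal m of A every quotient of A_m by a prime ideal is
N-2, and (2) for every prime p of A, writing B = A/p with fraction field K, for every finite purely
inseparable field extension K' of K and every sub-B-algebra B' of K' which is a finite B-module and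
has K' as its fraction field, there is a nonzero element f of B' such that B'_f is an integrally
closed domain. -/
theorem result (A : Type u) [CommRing A] [IsNoetherianRing A] :
    CAlg.IsNagata A ↔
      ((∀ (m : Ideal A) [m.IsMaximal] (P : Ideal (Localization.AtPrime m)) [P.IsPrime],
          CAlg.IsN2 (Localization.AtPrime m ⧸ P)) ∧
        ∀ (p : Ideal A) [p.IsPrime] (K' : Type u) [Field K'] [Algebra (A ⧸ p) K']
          [Algebra (FractionRing (A ⧸ p)) K'] [IsScalarTower (A ⧸ p) (FractionRing (A ⧸ p)) K']
          [FiniteDimensional (FractionRing (A ⧸ p)) K'] [IsPurelyInseparable (FractionRing (A ⧸ p)) K']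
          (B' : Subalgebra (A ⧸ p) K'), Module.Finite (A ⧸ p) B' → IsFractionRing B' K' →
            ∃ f : B', f ≠ 0 ∧ IsIntegrallyClosed (Localization.Away f)) := by
  classical
  open Groth.Agent.Lib.Helper88 in
  constructor
  · intro hA
    constructor
    · intro m hm P hP
      exact (isNagata_of_isLocalization A m.primeCompl (Localization.AtPrime m) hA).2 P
    · intro p hp K' _ _ _ _ _ _ B' hfin hfr
      have hB : CAlg.IsN2 (A ⧸ p) := hA.2 p
      have hinjK : Function.Injective (algebraMap (A ⧸ p) K') := by
        rw [IsScalarTower.algebraMap_eq (A ⧸ p) (FractionRing (A ⧸ p)) K']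
        exact (algebraMap (FractionRing (A ⧸ p)) K').injective.comp
          (IsFractionRing.injective (A ⧸ p) (FractionRing (A ⧸ p)))
      have hinj : Function.Injective (algebraMap (A ⧸ p) B') := by
        intro a b hab
        apply hinjK
        have := congrArg (B'.val) hab
        simpa using this
      haveI : Module.Finite (A ⧸ p) B' := hfin
      have hB'2 : CAlg.IsN2 B' := isN2_of_finite_extension (A ⧸ p) B' hinj hB
      have hB'1 : CAlg.IsN1 B' := isN1_of_isN2 hB'2
      haveI : IsNoetherianRing B' := IsNoetherianRing.of_finite (A ⧸ p) B'
      exact ((Groth.Agent.S0571.result B').mp hB'1).1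
  · rintro ⟨h1, h2⟩
    refine ⟨inferInstance, ?_⟩
    intro p hp
    apply Groth.Agent.S4562.result (A ⧸ p)
    intro K' _ _ _ _ hfinK hpi
    haveI := hfinK
    haveI := hpi
    have hinjK : Function.Injective (algebraMap (A ⧸ p) K') := by
      rw [IsScalarTower.algebraMap_eq (A ⧸ p) (FractionRing (A ⧸ p)) K']
      exact (algebraMap (FractionRing (A ⧸ p)) K').injective.comp
        (IsFractionRing.injective (A ⧸ p) (FractionRing (A ⧸ p)))
    apply finite_integralClosure_of_forall_subalgebra' (A ⧸ p) (FractionRing (A ⧸ p)) K'
    intro B' hB'fin hB'fr
    haveI := hB'fin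
    haveI := hB'fr
    haveI : IsNoetherianRing B' := IsNoetherianRing.of_finite (A ⧸ p) B'
    haveI : Algebra.IsIntegral (A ⧸ p) B' := Algebra.IsIntegral.of_finite (A ⧸ p) B'
    have hN1 : CAlg.IsN1 B' := by
      refine (Groth.Agent.S0571.result B').mpr ⟨h2 p K' B' hB'fin hB'fr, ?_⟩
      intro n hn
      -- the maximal ideal of `A` below `n`
      let mbar : Ideal (A ⧸ p) := n.comap (algebraMap (A ⧸ p) B')
      haveI hmbar : mbar.IsMaximal := Ideal.isMaximal_comap_of_isIntegral_of_isMaximal n
      let m : Ideal A := mbar.comap (Ideal.Quotient.mk p)
      haveI hm : m.IsMaximal := Ideal.comap_isMaximal_of_surjective _ Ideal.Quotient.mk_surjective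
      have hpm : p ≤ m := by
        intro a ha
        change Ideal.Quotient.mk p a ∈ mbar
        rw [Ideal.Quotient.eq_zero_iff_mem.mpr ha]
        exact mbar.zero_mem
      have hdisj : Disjoint (m.primeCompl : Set A) (p : Set A) := by
        rw [Set.disjoint_left]
        intro a ha hap
        exact ha (hpm hap)
      haveI hP : (p.map (algebraMap A (Localization.AtPrime m))).IsPrime :=
        IsLocalization.isPrime_of_isPrime_disjoint m.primeCompl _ p hp hdisj
      have hC : CAlg.IsN2 (Localization.AtPrime m ⧸ p.map (algebraMap A (Localization.AtPrime m))) :=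
        h1 m (p.map (algebraMap A (Localization.AtPrime m)))
      -- elements of `M` are nonzero in `K'`
      have hMne : ∀ t : Algebra.algebraMapSubmonoid (A ⧸ p) m.primeCompl,
          (t : A ⧸ p) ∉ mbar := by
        rintro ⟨_, a, ha, rfl⟩ hmem
        exact ha hmem
      have hunitK : ∀ t : Algebra.algebraMapSubmonoid (A ⧸ p) m.primeCompl,
          IsUnit (algebraMap (A ⧸ p) (FractionRing (A ⧸ p)) t) := by
        intro t
        apply IsUnit.mk0
        rw [Ne, map_eq_zero_iff _ (IsFractionRing.injective (A ⧸ p) (FractionRing (A ⧸ p)))]
        intro h0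
        apply hMne t
        rw [h0]
        exact mbar.zero_mem
      letI algCK : Algebra (Localization.AtPrime m ⧸ p.map (algebraMap A (Localization.AtPrime m)))
          (FractionRing (A ⧸ p)) :=
        (IsLocalization.lift (M := Algebra.algebraMapSubmonoid (A ⧸ p) m.primeCompl)
          (S := Localization.AtPrime m ⧸ p.map (algebraMap A (Localization.AtPrime m)))
          hunitK).toAlgebra
      haveI : IsScalarTower (A ⧸ p)
          (Localization.AtPrime m ⧸ p.map (algebraMap A (Localization.AtPrime m)))
          (FractionRing (A ⧸ p)) :=
        IsScalarTower.of_algebraMap_eq (fun x => (IsLocalization.lift_eq hunitK x).symm)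
      haveI : IsFractionRing
          (Localization.AtPrime m ⧸ p.map (algebraMap A (Localization.AtPrime m)))
          (FractionRing (A ⧸ p)) :=
        IsFractionRing.isFractionRing_of_isDomain_of_isLocalization
          (Algebra.algebraMapSubmonoid (A ⧸ p) m.primeCompl) _ _
      letI algCK' : Algebra
          (Localization.AtPrime m ⧸ p.map (algebraMap A (Localization.AtPrime m))) K' :=
        ((algebraMap (FractionRing (A ⧸ p)) K').comp
          (algebraMap (Localization.AtPrime m ⧸ p.map (algebraMap A (Localization.AtPrime m)))
            (FractionRing (A ⧸ p)))).toAlgebra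
      haveI : IsScalarTower
          (Localization.AtPrime m ⧸ p.map (algebraMap A (Localization.AtPrime m)))
          (FractionRing (A ⧸ p)) K' := IsScalarTower.of_algebraMap_eq (fun _ => rfl)
      haveI : IsScalarTower (A ⧸ p)
          (Localization.AtPrime m ⧸ p.map (algebraMap A (Localization.AtPrime m))) K' :=
        IsScalarTower.of_algebraMap_eq (fun x => by
          change algebraMap (A ⧸ p) K' x = algebraMap (FractionRing (A ⧸ p)) K'
            (algebraMap _ (FractionRing (A ⧸ p)) (algebraMap (A ⧸ p) _ x))
          rw [← IsScalarTower.algebraMap_apply (A ⧸ p) _ (FractionRing (A ⧸ p)),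
            ← IsScalarTower.algebraMap_apply (A ⧸ p) (FractionRing (A ⧸ p)) K'])
      have hfinC : Module.Finite
          (Localization.AtPrime m ⧸ p.map (algebraMap A (Localization.AtPrime m)))
          (integralClosure
            (Localization.AtPrime m ⧸ p.map (algebraMap A (Localization.AtPrime m))) K') :=
        (isN2_iff _).mp hC (FractionRing (A ⧸ p)) K' inferInstance
      -- the algebra structure `B'_n → K'`
      have hunitn : ∀ s : n.primeCompl, IsUnit (algebraMap B' K' s) := by
        intro s
        apply IsUnit.mk0
        rw [Ne, map_eq_zero_iff _ (IsFractionRing.injective B' K')]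
        intro h0
        apply s.2
        rw [h0]
        exact n.zero_mem
      letI algnK : Algebra (Localization.AtPrime n) K' :=
        (IsLocalization.lift (M := n.primeCompl) (S := Localization.AtPrime n) hunitn).toAlgebra
      haveI : IsScalarTower B' (Localization.AtPrime n) K' :=
        IsScalarTower.of_algebraMap_eq (fun x => (IsLocalization.lift_eq hunitn x).symm)
      haveI : IsFractionRing (Localization.AtPrime n) K' :=
        IsFractionRing.isFractionRing_of_isDomain_of_isLocalization n.primeCompl _ _
      have hfinn : Module.Finite (Localization.AtPrime n)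
          (integralClosure (Localization.AtPrime n) K') :=
        finite_integralClosure_of_localization_tower (B := A ⧸ p) (T := B') (L := K')
          (Algebra.algebraMapSubmonoid (A ⧸ p) m.primeCompl)
          (Localization.AtPrime m ⧸ p.map (algebraMap A (Localization.AtPrime m)))
          n.primeCompl (Localization.AtPrime n)
          (by
            intro t ht hmem
            exact hMne ⟨t, ht⟩ hmem)
          hfinC
      exact isN1_of_finite_integralClosure (Localization.AtPrime n) K' hfinn
    exact (isN1_iff B').mp hN1 K'

end Groth.Agent.S12125
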