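import Groth.Statements.S9460
import Groth.Agent.Lib.Helper37.Hz29

set_option autoImplicit false
universe u
open Hensel

namespace Groth.Agent.S9460

open TensorProduct in
/-- Let R → S be a ring map, q a prime of S over p, and R^{sh}, S^{sh} strict henselizations of R_p and
S_q, S^{sh} carrying a compatible R^{sh}-algebra structure (a map R^{sh} → S^{sh} over R; these
correspond to the embeddings of separable closures in the published statement). Let φ : R^{sh} ⊗_R S
→ S^{sh} be the induced map and Q the preimage under φ of the maximal ideal (a prime over the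
maximal ideal of R^{sh} and over q). Then S^{sh} is a strict henselization of (R^{sh} ⊗_R S)_Q:
every strict henselization E of that local ring admits a ring isomorphism E ≅ S^{sh} compatible with
the two maps from R^{sh} ⊗_R S. -/
theorem result (R : Type u) [CommRing R]
    (S : Type u) [CommRing S] [Algebra R S] (p : Ideal R) [p.IsPrime] (q : Ideal S) [q.IsPrime]
    [q.LiesOver p]
    (Rh : Type u) [CommRing Rh] [IsLocalRing Rh] [Algebra (Localization.AtPrime p) Rh]
    [IsLocalHom (algebraMap (Localization.AtPrime p) Rh)]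
    [Hensel.IsStrictHenselization (Localization.AtPrime p) Rh] [Algebra R Rh]
    [IsScalarTower R (Localization.AtPrime p) Rh]
    (Sh : Type u) [CommRing Sh] [IsLocalRing Sh] [Algebra (Localization.AtPrime q) Sh]
    [IsLocalHom (algebraMap (Localization.AtPrime q) Sh)]
    [Hensel.IsStrictHenselization (Localization.AtPrime q) Sh] [Algebra S Sh]
    [IsScalarTower S (Localization.AtPrime q) Sh] [Algebra R Sh] [IsScalarTower R S Sh]
    [Algebra Rh Sh] [IsScalarTower R Rh Sh]
    (E : Type u) [CommRing E] [IsLocalRing E]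
    [Algebra (Localization.AtPrime (Ideal.comap (Algebra.TensorProduct.lift (IsScalarTower.toAlgHom R Rh Sh) (IsScalarTower.toAlgHom R S Sh)
          (fun _ _ => Commute.all _ _)) (IsLocalRing.maximalIdeal Sh))) E]
    [IsLocalHom (algebraMap (Localization.AtPrime
      (Ideal.comap (Algebra.TensorProduct.lift (IsScalarTower.toAlgHom R Rh Sh) (IsScalarTower.toAlgHom R S Sh)
          (fun _ _ => Commute.all _ _)) (IsLocalRing.maximalIdeal Sh))) E)]
    [Hensel.IsStrictHenselization (Localization.AtPrime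
      (Ideal.comap (Algebra.TensorProduct.lift (IsScalarTower.toAlgHom R Rh Sh) (IsScalarTower.toAlgHom R S Sh)
          (fun _ _ => Commute.all _ _)) (IsLocalRing.maximalIdeal Sh))) E] :
    ∃ e : E ≃+* Sh, ∀ d : Rh ⊗[R] S,
      e (algebraMap (Localization.AtPrime
        (Ideal.comap (Algebra.TensorProduct.lift (IsScalarTower.toAlgHom R Rh Sh) (IsScalarTower.toAlgHom R S Sh)
          (fun _ _ => Commute.all _ _)) (IsLocalRing.maximalIdeal Sh))) E
        (algebraMap (Rh ⊗[R] S) _ d)) = (Algebra.TensorProduct.lift (IsScalarTower.toAlgHom R Rh Sh) (IsScalarTower.toAlgHom R S Sh)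
          (fun _ _ => Commute.all _ _)) d := by
  classical
  have hRh := Groth.Agent.Lib.Helper37.Hz.map_maximalIdeal_of_isStrictHenselization
    (Localization.AtPrime p) Rh
  letI algD : Algebra (Groth.Agent.Lib.Helper37.Hz.TensLoc.D R S Rh Sh) Sh :=
    (Groth.Agent.Lib.Helper37.Hz.TensLoc.toSh R S Rh Sh).toAlgebra
  letI algP : Algebra (Localization.AtPrime q) (Groth.Agent.Lib.Helper37.Hz.TensLoc.D R S Rh Sh) :=
    (Groth.Agent.Lib.Helper37.Hz.TensLoc.fromSq R S q Rh Sh).toAlgebra
  haveI : IsScalarTower (Localization.AtPrime q) (Groth.Agent.Lib.Helper37.Hz.TensLoc.D R S Rh Sh) Sh :=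
    IsScalarTower.of_algebraMap_eq'
      (Groth.Agent.Lib.Helper37.Hz.TensLoc.toSh_comp_fromSq R S q Rh Sh).symm
  haveI : IsLocalHom (algebraMap (Groth.Agent.Lib.Helper37.Hz.TensLoc.D R S Rh Sh) Sh) :=
    Groth.Agent.Lib.Helper37.Hz.TensLoc.isLocalHom_toSh R S Rh Sh
  haveI : IsLocalHom (algebraMap (Localization.AtPrime q)
      (Groth.Agent.Lib.Helper37.Hz.TensLoc.D R S Rh Sh)) :=
    Groth.Agent.Lib.Helper37.Hz.TensLoc.isLocalHom_fromSq R S q Rh Sh
  haveI hfromRh : IsLocalHom (Groth.Agent.Lib.Helper37.Hz.TensLoc.fromRh R S Rh Sh) :=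
    Groth.Agent.Lib.Helper37.Hz.TensLoc.isLocalHom_fromRh R S p q Rh Sh hRh
  have hD : Hensel.IsStrictHenselization (Groth.Agent.Lib.Helper37.Hz.TensLoc.D R S Rh Sh) Sh := by
    refine Groth.Agent.Lib.Helper37.Hz.isStrictHenselization_of_tower (Localization.AtPrime q)
      (Groth.Agent.Lib.Helper37.Hz.TensLoc.D R S Rh Sh) Sh (fun T _ _ f hf τ hτ g hg hg2 => ?_)
    refine Groth.Agent.Lib.Helper37.Hz.TensLoc.comp_toSh_eq R S q Rh Sh f g hg ?_
    haveI : IsLocalHom (f.comp (Groth.Agent.Lib.Helper37.Hz.TensLoc.fromRh R S Rh Sh)) :=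
      RingHom.isLocalHom_comp _ _
    haveI hloc : IsLocalHom ((f.comp (Groth.Agent.Lib.Helper37.Hz.TensLoc.fromRh R S Rh Sh)).comp
        (algebraMap (Localization.AtPrime p) Rh)) := RingHom.isLocalHom_comp _ _
    obtain ⟨k, -, hk⟩ := (inferInstance :
      Hensel.IsStrictHenselization (Localization.AtPrime p) Rh).universal T
      ((f.comp (Groth.Agent.Lib.Helper37.Hz.TensLoc.fromRh R S Rh Sh)).comp (algebraMap (Localization.AtPrime p) Rh))
      (IsLocalRing.ResidueField.map (f.comp (Groth.Agent.Lib.Helper37.Hz.TensLoc.fromRh R S Rh Sh)))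
      (IsLocalRing.ResidueField.map_comp _ _).symm
    have hA : ∀ x : Rh, IsLocalRing.residue T ((g.comp (algebraMap Rh Sh)) x) =
        IsLocalRing.ResidueField.map (f.comp (Groth.Agent.Lib.Helper37.Hz.TensLoc.fromRh R S Rh Sh))
          (IsLocalRing.residue Rh x) := by
      intro x
      rw [RingHom.comp_apply, hg2, IsLocalRing.ResidueField.map_residue, RingHom.comp_apply,
        ← IsLocalRing.ResidueField.map_residue f, ← hτ, RingHom.comp_apply,
        IsLocalRing.ResidueField.map_residue]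
      congr 2
      exact (RingHom.congr_fun (Groth.Agent.Lib.Helper37.Hz.TensLoc.toSh_comp_fromRh R S Rh Sh) x).symm
    have hB : ∀ x : Rh, IsLocalRing.residue T ((f.comp (Groth.Agent.Lib.Helper37.Hz.TensLoc.fromRh R S Rh Sh)) x) =
        IsLocalRing.ResidueField.map (f.comp (Groth.Agent.Lib.Helper37.Hz.TensLoc.fromRh R S Rh Sh))
          (IsLocalRing.residue Rh x) := by
      intro x
      rw [IsLocalRing.ResidueField.map_residue]
    rw [hk (g.comp (algebraMap Rh Sh))
      ⟨Groth.Agent.Lib.Helper37.Hz.TensLoc.comp_algebraMap_eq R S p q Rh Sh f g hg, hA⟩,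
      hk (f.comp (Groth.Agent.Lib.Helper37.Hz.TensLoc.fromRh R S Rh Sh)) ⟨rfl, hB⟩]
  obtain ⟨e1⟩ := Groth.Agent.Lib.Helper37.Hz.nonempty_algEquiv_SHens
    (Groth.Agent.Lib.Helper37.Hz.TensLoc.D R S Rh Sh) E
  obtain ⟨e2⟩ := Groth.Agent.Lib.Helper37.Hz.nonempty_algEquiv_SHens
    (Groth.Agent.Lib.Helper37.Hz.TensLoc.D R S Rh Sh) Sh
  refine ⟨(e1.trans e2.symm).toRingEquiv, fun d => ?_⟩
  have h1 : (e1.trans e2.symm) (algebraMap (Groth.Agent.Lib.Helper37.Hz.TensLoc.D R S Rh Sh) E
      (algebraMap (Rh ⊗[R] S) _ d)) =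
      algebraMap (Groth.Agent.Lib.Helper37.Hz.TensLoc.D R S Rh Sh) Sh
        (algebraMap (Rh ⊗[R] S) _ d) := (e1.trans e2.symm).commutes _
  exact h1.trans (Groth.Agent.Lib.Helper37.Hz.TensLoc.toSh_algebraMap R S Rh Sh d)

end Groth.Agent.S9460
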