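import Groth.Statements.S3557
import Groth.Agent.Lib.Helper18.ProjBasic
import Mathlib.RingTheory.GradedAlgebra.Radical

set_option autoImplicit false
universe u
open CategoryTheory CategoryTheory.Limits AlgebraicGeometry
open EGA2

namespace Groth.Agent.S3557

/-- Let S be a graded ring which is essentially reduced (S_+ contains no nonzero nilpotent). Then Proj S
is an integral scheme if and only if S is essentially integral, i.e. S_+ is nonzero and the product
of two nonzero elements of S_+ is nonzero. -/
theorem result {R A : Type u} [CommRing R] [CommRing A] [Algebra R A] (𝒜 : ℕ → Submodule R A) [GradedAlgebra 𝒜]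
    (hred : ∀ f ∈ (HomogeneousIdeal.irrelevant 𝒜).toIdeal, IsNilpotent f → f = 0) :
    AlgebraicGeometry.IsIntegral (Proj 𝒜) ↔
      ((∃ f ∈ (HomogeneousIdeal.irrelevant 𝒜).toIdeal, f ≠ 0) ∧
        ∀ f ∈ (HomogeneousIdeal.irrelevant 𝒜).toIdeal, ∀ g ∈ (HomogeneousIdeal.irrelevant 𝒜).toIdeal,
          f * g = 0 → f = 0 ∨ g = 0) := by
  have hRed : AlgebraicGeometry.IsReduced (Proj 𝒜) :=
    Groth.Agent.Lib.Helper18.ProjBasic.proj_isReduced_of_essentially_reduced 𝒜 hred
  -- elements of `S₊` vanishing on all of `Proj` are zero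
  have key : ∀ f ∈ (HomogeneousIdeal.irrelevant 𝒜).toIdeal,
      (f ∈ (ProjectiveSpectrum.vanishingIdeal (Set.univ : Set (ProjectiveSpectrum 𝒜))).toIdeal ↔
        f = 0) := by
    intro f hf
    constructor
    · intro hfI
      apply hred f hf
      have hbot : (⊥ : Ideal A).IsHomogeneous 𝒜 := Ideal.IsHomogeneous.bot 𝒜
      have : f ∈ (⊥ : Ideal A).radical := by
        rw [hbot.radical_eq, Ideal.mem_sInf]
        rintro P ⟨hPh, _, hPp⟩
        by_cases hirr : HomogeneousIdeal.irrelevant 𝒜 ≤ ⟨P, hPh⟩
        · exact hirr hf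
        · exact (ProjectiveSpectrum.mem_vanishingIdeal _ f).mp hfI
            (⟨⟨P, hPh⟩, hPp, hirr⟩ : ProjectiveSpectrum 𝒜) (Set.mem_univ _)
      exact this
    · rintro rfl
      exact Ideal.zero_mem _
  rw [isIntegral_iff_irreducibleSpace_and_isReduced]
  simp only [hRed, and_true]
  rw [irreducibleSpace_def]
  have h1 := Groth.Agent.Lib.Helper18.ProjBasic.isIrreducible_iff_relevant_prime 𝒜
    (Set.univ : Set (ProjectiveSpectrum 𝒜))
  refine Iff.trans h1 ?_
  constructor
  · rintro ⟨hne, hprime⟩
    constructor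
    · by_contra hcon
      push Not at hcon
      apply hne
      intro f hf
      rw [key f hf]
      exact hcon f hf
    · intro f hf g hg hfg
      have := hprime f hf g hg (by rw [hfg]; exact Ideal.zero_mem _)
      rwa [key f hf, key g hg] at this
  · rintro ⟨⟨f, hf, hf0⟩, hprime⟩
    constructor
    · intro hle
      exact hf0 ((key f hf).mp (hle hf))
    · intro f hf g hg hfg
      rw [key f hf, key g hg]
      apply hprime f hf g hg
      exact (key (f * g) (Ideal.mul_mem_left _ _ hg)).mp hfg

end Groth.Agent.S3557
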