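import Groth.Statements.S7436
import Groth.Agent.Lib.Helper38.BddFibComp
import Groth.Agent.S7437
open CategoryTheory.Limits

set_option autoImplicit false
universe u
open CategoryTheory AlgebraicGeometry
open BddFib

namespace Groth.Agent.S7436

/-- When every fibre of `f : X → Y` has degree at most `n` and every fibre of `g : Y → Z` has degree at
most `m`, every fibre of `g ∘ f` has degree at most `n m`. -/
theorem result {X Y Z : Scheme.{u}} (f : X ⟶ Y) (g : Y ⟶ Z) (n m : ℕ) (hf : BddFib.FibreDegLE f n)
    (hg : BddFib.FibreDegLE g m) : BddFib.FibreDegLE (f ≫ g) (n * m) := by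
  rw [Groth.Agent.Lib.Helper38.fibreDegLE_iff_forall_field_points]
  intro k _ z P fst snd h
  let q : P ⟶ pullback g z := pullback.lift (fst ≫ f) snd (by rw [Category.assoc]; exact h.w)
  have hq1 : q ≫ pullback.fst g z = fst ≫ f := pullback.lift_fst _ _ _
  have hq2 : q ≫ pullback.snd g z = snd := pullback.lift_snd _ _ _
  have htop : IsPullback fst q f (pullback.fst g z) := by
    refine IsPullback.of_bot ?_ hq1.symm (IsPullback.of_hasPullback g z)
    rw [hq2]
    exact h
  have hqdeg : BddFib.FibreDegLE q n :=
    Groth.Agent.S7437.result f (pullback.fst g z) q fst htop n hf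
  have hpdeg : BddFib.FiniteOfDegLE (CommRingCat.of k) (pullback.snd g z) m :=
    (Groth.Agent.Lib.Helper38.fibreDegLE_iff_forall_field_points g m).mp hg k z _ _ _
      (IsPullback.of_hasPullback g z)
  have := Groth.Agent.Lib.Helper38.finiteOfDegLE_comp q (pullback.snd g z) hpdeg hqdeg
  rwa [hq2] at this

end Groth.Agent.S7436
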