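import Groth.Statements.S10829
import Groth.Agent.S19926

set_option autoImplicit false
universe u
open AlgebraicGeometry
open Variety

namespace Groth.Agent.S10829

/-- For a field k and a natural number n, projective n-space over k (Proj of the polynomial ring in n +
1 variables graded by degree) has Krull dimension n as a topological space. (The published statement
also gives affine n-space dimension n; that half is the Krull dimension of a polynomial ring and is
not restated here.) -/
theorem result (k : Type u) [Field k] (n : ℕ) :
    topologicalKrullDim ↥(CohB1.ProjSpace n k) = (n : WithBot ℕ∞) := by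
  have h1 := Groth.Agent.S19926.result k n (⊥ : Ideal (MvPolynomial (Fin (n + 1)) k))
    (Ideal.IsHomogeneous.bot _) (by
      intro hle
      have hx : (MvPolynomial.X 0 : MvPolynomial (Fin (n + 1)) k) ∈
          (HomogeneousIdeal.irrelevant (CohB1.polyGrading n k)).toIdeal := by
        have hX : (MvPolynomial.X 0 : MvPolynomial (Fin (n + 1)) k) ∈ CohB1.polyGrading n k 1 :=
          (MvPolynomial.mem_homogeneousSubmodule _ _).mpr (MvPolynomial.isHomogeneous_X k 0)
        exact HomogeneousIdeal.mem_irrelevant_of_mem (CohB1.polyGrading n k) one_pos hX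
      have := hle hx
      rw [Ideal.mem_bot] at this
      exact MvPolynomial.X_ne_zero 0 this)
  have h2 : ringKrullDim (MvPolynomial (Fin (n + 1)) k ⧸ (⊥ : Ideal (MvPolynomial (Fin (n + 1)) k))) =
      ((n + 1 : ℕ) : WithBot ℕ∞) := by
    rw [ringKrullDim_eq_of_ringEquiv (RingEquiv.quotientBot _)]
    rw [MvPolynomial.ringKrullDim_of_isNoetherianRing, ringKrullDim_eq_zero_of_field]
    simp
  rw [h2, ProjectiveSpectrum.zeroLocus_bot] at h1
  have h3 : topologicalKrullDim ↥(Set.univ : Set (ProjectiveSpectrum (CohB1.polyGrading n k))) =
      topologicalKrullDim (ProjectiveSpectrum (CohB1.polyGrading n k)) :=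
    IsHomeomorph.topologicalKrullDim_eq _ (Homeomorph.Set.univ _).isHomeomorph
  rw [h3] at h1
  have h4 : ((n + 1 : ℕ) : WithBot ℕ∞) = (n : WithBot ℕ∞) + 1 := by push_cast; rfl
  rw [h4] at h1
  exact (Groth.Agent.Lib.Helper14.PD1.add_one_cancel h1).symm

end Groth.Agent.S10829
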