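import Groth.Statements.S4717
import Mathlib
import Groth.Agent.Lib.Helper82.TopDimClosed
import Groth.Agent.Lib.QCoh.Helper18_IntegralSpec
-- import your own Groth.Agent.* helpers here

set_option autoImplicit false
universe u
open EGA4

namespace Groth.Agent.S4717

open AlgebraicGeometry CategoryTheory in
/-- Let f : X → Y be a finite morphism of locally Noetherian schemes. Then dim X equals the dimension of
the image f(X); in particular if f is surjective then dim X = dim Y. -/
theorem result {X Y : Scheme.{u}} (f : X ⟶ Y) [IsLocallyNoetherian X] [IsLocallyNoetherian Y]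
    [IsFinite f] :
    topologicalKrullDim X = topologicalKrullDim (Set.range f.base) ∧
      (Function.Surjective f.base → topologicalKrullDim X = topologicalKrullDim Y) := by
  have hcl : IsClosedMap f.base := f.isClosedMap
  have hfib : ∀ x x' : X, x ⤳ x' → f.base x = f.base x' → x = x' := fun x x' h he =>
    (Groth.Agent.Lib.QCoh.eq_of_specializes_of_isIntegralHom f h he.symm).symm
  refine ⟨?_, fun hs => Groth.Agent.Lib.Helper82.TopDimClosed.dim_eq_of_closed_incomparable f.base f.base.hom.continuous hcl hs hfib⟩
  have hrange : IsClosed (Set.range f.base) := hcl.isClosed_range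
  have : QuasiSober ↥(Set.range f.base) := hrange.isClosedEmbedding_subtypeVal.quasiSober
  refine Groth.Agent.Lib.Helper82.TopDimClosed.dim_eq_of_closed_incomparable (Set.rangeFactorization f.base)
    (f.base.hom.continuous.subtype_mk _) ?_ Set.rangeFactorization_surjective ?_
  · intro C hC
    have : Set.rangeFactorization f.base '' C = Subtype.val ⁻¹' (f.base '' C) := by
      ext ⟨y, hy⟩
      constructor
      · rintro ⟨c, hc, hce⟩
        exact ⟨c, hc, congrArg Subtype.val hce⟩
      · rintro ⟨c, hc, hce⟩
        exact ⟨c, hc, Subtype.ext hce⟩
    rw [this]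
    exact (hcl C hC).preimage continuous_subtype_val
  · intro x x' h he
    exact hfib x x' h (congrArg Subtype.val he)

end Groth.Agent.S4717
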