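import Groth.Statements.S3586
import Mathlib
import Groth.Agent.Lib.Proj.Helper66_Glue
-- import your own Groth.Agent.* helpers here

set_option autoImplicit false
universe u
open CategoryTheory AlgebraicGeometry Opposite TopologicalSpace
open EGA2

namespace Groth.Agent.S3586

/-- Let S be a graded ring, M a graded S-module, f homogeneous of degree d > 0 and n an integer. Then
every section of the sheaf M(n)~ over D_+(f) is given on all of D_+(f) by one fraction m/f^k with m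
homogeneous of degree kd + n. (This is the surjectivity half of the identification of the sections
of M(n)~ over D_+(f) with M(n)_(f).) -/
theorem result {R A : Type u} [CommRing R] [CommRing A] [Algebra R A] (𝒜 : ℕ → Submodule R A) [GradedAlgebra 𝒜]
    {M : Type u} [AddCommGroup M] [Module R M] [Module A M] [IsScalarTower R A M] (ℳ : ℕ → Submodule R M) [DirectSum.Decomposition ℳ] [SetLike.GradedSMul 𝒜 ℳ] (n : ℤ) {d : ℕ} (hd : 0 < d) {f : A} (hf : f ∈ 𝒜 d)
    (s : GrTilde.sect 𝒜 ℳ n (op (ProjectiveSpectrum.basicOpen 𝒜 f))) :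
    ∃ (k i : ℕ) (m : ℳ i), (i : ℤ) = k * d + n ∧
      ∀ x : ProjectiveSpectrum.basicOpen 𝒜 f,
        ((s.1 x : GrTilde.tildeAt 𝒜 ℳ n x.1) : GrTilde.LocMod 𝒜 (M := M) x.1) =
          (LocalizedModule.mk m.1 ⟨f ^ k, fun h => (ProjectiveSpectrum.mem_basicOpen 𝒜 f x.1).mp x.2
            (x.1.isPrime.mem_of_pow_mem k h)⟩ : GrTilde.LocMod 𝒜 (M := M) x.1) := by
  classical
  -- local data: a homogeneous `h` of positive degree with `x ∈ D₊(h) ⊆ D₊(f)` and `s = m / h` on `D₊(h)`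
  have hloc : ∀ x : ProjectiveSpectrum.basicOpen 𝒜 f, ∃ (e : ℕ) (h : A) (i : ℕ) (m : M), 0 < e ∧
      h ∈ 𝒜 e ∧ m ∈ ℳ i ∧ (i : ℤ) = e + n ∧ h ∉ x.1.asHomogeneousIdeal ∧
      ∀ (y : ProjectiveSpectrum 𝒜) (hy : h ∉ y.asHomogeneousIdeal),
        ∃ hyf : y ∈ ProjectiveSpectrum.basicOpen 𝒜 f,
          ((s.1 ⟨y, hyf⟩ : GrTilde.tildeAt 𝒜 ℳ n y) : GrTilde.LocMod 𝒜 (M := M) y) =
            LocalizedModule.mk m ⟨h, hy⟩ := by
    intro x
    obtain ⟨V, hxV, iV, i', j', ⟨m', hm'⟩, ⟨s', hs'⟩, s'_nin, hdeg, hw⟩ := s.2 x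
    obtain ⟨e', he'pos, h', hh', hxh', hle⟩ :=
      Groth.Agent.Lib.Helper18.ProjBasic.exists_pos_homogeneous_basicOpen_le 𝒜 x.1 V hxV
    have hxh'' : h' ∉ x.1.asHomogeneousIdeal := hxh'
    have hxs' : s' ∉ x.1.asHomogeneousIdeal := s'_nin ⟨x.1, hxV⟩
    rcases hdeg with hdeg | hdeg
    · refine ⟨e' + j', h' * s', e' + i', h' • m', by omega, SetLike.mul_mem_graded hh' hs',
        SetLike.GradedSMul.smul_mem hh' hm', by push_cast; omega,
        fun hh => (x.1.isPrime.mem_or_mem hh).elim hxh'' hxs', ?_⟩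
      intro y hy
      have hyh' : h' ∉ y.asHomogeneousIdeal := fun hh => hy (Ideal.mul_mem_right _ _ hh)
      have hyV : y ∈ V := hle hyh'
      refine ⟨iV.le hyV, ?_⟩
      have h1 := hw ⟨y, hyV⟩
      refine h1.trans ?_
      rw [LocalizedModule.mk_eq]
      refine ⟨1, ?_⟩
      simp only [one_smul, Submonoid.smul_def, mul_smul]
      rw [smul_comm]
    · refine ⟨(n.natAbs + 1) * (e' + j'), (h' * s') ^ (n.natAbs + 1),
        (((n.natAbs + 1) * (e' + j') : ℕ) + n).toNat, 0, by positivity, ?_, zero_mem _, ?_,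
        fun hh => (x.1.isPrime.mem_or_mem (x.1.isPrime.mem_of_pow_mem _ hh)).elim hxh'' hxs', ?_⟩
      · have := SetLike.pow_mem_graded (n.natAbs + 1) (SetLike.mul_mem_graded hh' hs')
        simpa [smul_eq_mul] using this
      · rw [Int.toNat_of_nonneg]
        have h1 : n.natAbs + 1 ≤ (n.natAbs + 1) * (e' + j') :=
          Nat.le_mul_of_pos_right _ (by omega)
        generalize (n.natAbs + 1) * (e' + j') = X at h1 ⊢
        omega
      · intro y hy
        have hyh' : h' ∉ y.asHomogeneousIdeal := fun hh =>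
          hy (Ideal.pow_mem_of_mem _ (Ideal.mul_mem_right _ _ hh) _ (by omega))
        have hyV : y ∈ V := hle hyh'
        refine ⟨iV.le hyV, ?_⟩
        have h1 := hw ⟨y, hyV⟩
        refine h1.trans ?_
        change LocalizedModule.mk m' _ = _
        have hm0 : m' = 0 := hdeg
        rw [hm0, LocalizedModule.zero_mk, LocalizedModule.zero_mk]
  choose e h i m hpos hhe hmi hdeg hx hrep using hloc
  have hcpt : IsCompact (ProjectiveSpectrum.basicOpen 𝒜 f : Set (ProjectiveSpectrum 𝒜)) :=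
    (Proj.isAffineOpen_basicOpen 𝒜 f hf hd).isCompact
  obtain ⟨t, ht⟩ := hcpt.elim_nhds_subcover'
    (fun x hx => (ProjectiveSpectrum.basicOpen 𝒜 (h ⟨x, hx⟩) : Set (ProjectiveSpectrum 𝒜)))
    (fun x hxf => (ProjectiveSpectrum.basicOpen 𝒜 (h ⟨x, hxf⟩)).isOpen.mem_nhds (hx ⟨x, hxf⟩))
  obtain ⟨K, I, mf, hmf, hI, hglue⟩ := Groth.Agent.Lib.Proj.Glue.exists_glue 𝒜 ℳ (T := ↥t) n hd hf
    (fun x => h x.1) (fun x => e x.1) (fun x => hhe x.1) (fun x => hpos x.1)
    (fun x => m x.1) (fun x => i x.1) (fun x => hmi x.1) (fun x => hdeg x.1)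
    (fun z hz => by
      have hz' : z ∈ (ProjectiveSpectrum.basicOpen 𝒜 f : Set (ProjectiveSpectrum 𝒜)) := hz
      obtain ⟨x, hxt, hzx⟩ := Set.mem_iUnion₂.mp (ht hz')
      exact ⟨⟨x, hxt⟩, hzx⟩)
    (fun x y z hzx hzy => by
      obtain ⟨hzf, h1⟩ := hrep x.1 z hzx
      obtain ⟨_, h2⟩ := hrep y.1 z hzy
      have h3 := h1.symm.trans h2
      rw [LocalizedModule.mk_eq] at h3
      obtain ⟨u, hu⟩ := h3
      refine ⟨u.1, u.2, ?_⟩
      rw [smul_sub, sub_eq_zero]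
      simpa [Submonoid.smul_def] using hu)
  refine ⟨K, I, ⟨mf, hmf⟩, hI, fun z => ?_⟩
  obtain ⟨x, hxt, hzx⟩ := Set.mem_iUnion₂.mp (ht z.2)
  obtain ⟨hzf, h1⟩ := hrep x z.1 hzx
  refine h1.trans ?_
  rw [LocalizedModule.mk_eq]
  obtain ⟨N, hN⟩ := hglue ⟨x, hxt⟩
  refine ⟨⟨h x ^ N, fun hh => hzx (z.1.isPrime.mem_of_pow_mem _ hh)⟩, ?_⟩
  simp only [Submonoid.smul_def]
  rw [smul_sub, sub_eq_zero] at hN
  exact hN.symm

end Groth.Agent.S3586
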