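import Groth.Statements.S3562
import Mathlib
import Groth.Agent.Lib.Helper18.GrTildeBasic
-- import your own Groth.Agent.* helpers here

set_option autoImplicit false
universe u
open CategoryTheory CategoryTheory.Limits AlgebraicGeometry
open EGA2

namespace Groth.Agent.S3562

open DirectSum in
/-- Components of `a • z` for homogeneous `z` of degree `k` (ℕ-graded). -/
theorem decompose_smul_of_mem {R A : Type u} [CommRing R] [CommRing A] [Algebra R A] (𝒜 : ℕ → Submodule R A)
    [GradedAlgebra 𝒜] {M : Type u} [AddCommGroup M] [Module R M] [Module A M] [IsScalarTower R A M]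
    (ℳ : ℕ → Submodule R M) [DirectSum.Decomposition ℳ] [SetLike.GradedSMul 𝒜 ℳ]
    {k : ℕ} {z : M} (hz : z ∈ ℳ k) (a : A) (D : ℕ) (hkD : k ≤ D) :
    (decompose ℳ (a • z) D : M) = (decompose 𝒜 a (D - k) : A) • z := by
  classical
  induction a using DirectSum.Decomposition.inductionOn 𝒜 with
  | zero => simp
  | @homogeneous h a =>
    obtain ⟨a, ha⟩ := a
    have haz : a • z ∈ ℳ (h + k) := SetLike.GradedSMul.smul_mem ha hz
    by_cases hh : h = D - k
    · subst hh
      have e : D - k + k = D := by omega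
      rw [decompose_of_mem_same _ ha]
      have := decompose_of_mem_same ℳ haz
      rw [e] at this
      exact this
    · have : h + k ≠ D := by omega
      rw [decompose_of_mem_ne _ ha hh, decompose_of_mem_ne _ haz this, zero_smul]
  | add a a' ha ha' =>
    simp only [add_smul, decompose_add, DirectSum.add_apply, Submodule.coe_add, ha, ha']

/-- Let S be a graded ring whose irrelevant ideal S_+ is finitely generated and generated by the
degree-one elements, and M a graded S-module satisfying (TF) (some tail of M generates a finitely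
generated submodule). Then M~ = 0 on Proj S if and only if M satisfies (TN): M_k = 0 for all
sufficiently large k. (The published statement assumes only that S_+ is finitely generated; the
statement then fails when S_+ has no system of degree-one generators, e.g. S = k[t] with t of degree
2 and M = S shifted into odd degrees, whose M~ vanishes although no M_k does. Stated here with S_+
generated by degree-one elements, where the published proof applies.) -/
theorem result {R A : Type u} [CommRing R] [CommRing A] [Algebra R A] (𝒜 : ℕ → Submodule R A) [GradedAlgebra 𝒜]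
    (hfg : (HomogeneousIdeal.irrelevant 𝒜).toIdeal.FG)
    (hgen : (HomogeneousIdeal.irrelevant 𝒜).toIdeal = Ideal.span (𝒜 1 : Set A))
    {M : Type u} [AddCommGroup M] [Module R M] [Module A M] [IsScalarTower R A M] (ℳ : ℕ → Submodule R M) [DirectSum.Decomposition ℳ] [SetLike.GradedSMul 𝒜 ℳ]
    (hTF : ∃ n : ℕ, (Submodule.span A (⋃ k ∈ Set.Ici n, (ℳ k : Set M))).FG) :
    IsZero (GrTilde.tilde 𝒜 ℳ 0) ↔ ∃ n : ℕ, ∀ k : ℕ, n ≤ k → ℳ k = ⊥ := by
  classical
  constructor
  · -- M~ = 0 ⇒ (TN)
    intro hZ
    obtain ⟨n₁, hN⟩ := hTF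
    rw [Submodule.fg_span_iff_fg_span_finset_subset] at hN
    obtain ⟨Z, hZsub, hZspan⟩ := hN
    -- degrees of the generators
    have hZdeg : ∀ z ∈ Z, ∃ k, z ∈ ℳ k := by
      intro z hz
      obtain ⟨k, _, hk⟩ := Set.mem_iUnion₂.mp (hZsub hz)
      exact ⟨k, hk⟩
    choose! dg hdg using hZdeg
    -- annihilators
    have hann : ∀ z : M, ∃ E : ℕ, (HomogeneousIdeal.irrelevant 𝒜).toIdeal ^ E ≤
        (Submodule.span A {z}).annihilator := by
      intro z
      refine Ideal.exists_pow_le_of_le_radical_of_fg ?_ hfg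
      rw [hgen, Ideal.span_le]
      intro t ht
      obtain ⟨k, hk⟩ := Groth.Agent.Lib.Helper18.GrTildeBasic.exists_pow_smul_eq_zero_of_isZero' 𝒜 ℳ
        hgen hZ z 1 t Nat.one_pos ht
      exact ⟨k, (Submodule.mem_annihilator_span_singleton _ _).mpr hk⟩
    choose Ez hEz using hann
    obtain ⟨E, hE⟩ : ∃ E : ℕ, ∀ z ∈ Z, Ez z ≤ E := ⟨Z.sup Ez, fun z hz => Finset.le_sup hz⟩
    obtain ⟨B, hB⟩ : ∃ B : ℕ, ∀ z ∈ Z, dg z ≤ B := ⟨Z.sup dg, fun z hz => Finset.le_sup hz⟩
    have hpiece : ∀ e, E + 1 ≤ e → ∀ a ∈ 𝒜 e, ∀ z ∈ Z, a • z = 0 := by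
      intro e he a ha z hz
      have h1 := Groth.Agent.Lib.Helper18.ProjBasic.graded_piece_le_irrelevant_pow 𝒜 (𝒜 1 : Set A) 1
        (fun t ht => ⟨1, Nat.one_pos, le_rfl, ht⟩) hgen E e (by omega) a ha
      have h2 : a ∈ (HomogeneousIdeal.irrelevant 𝒜).toIdeal ^ (Ez z) :=
        Ideal.pow_le_pow_right (by have := hE z hz; omega) h1
      exact (Submodule.mem_annihilator_span_singleton _ _).mp (hEz z h2)
    refine ⟨n₁ + B + E + 1, fun D hD => ?_⟩
    rw [eq_bot_iff]
    intro m hm
    have hmN : m ∈ Submodule.span A (Z : Set M) := by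
      rw [← hZspan]
      exact Submodule.subset_span (Set.mem_iUnion₂.mpr ⟨D, by simp only [Set.mem_Ici]; omega, hm⟩)
    obtain ⟨c, -, hc⟩ := Submodule.mem_span_finset.mp hmN
    have h1 : (DirectSum.decompose ℳ m D : M) = m := DirectSum.decompose_of_mem_same ℳ hm
    rw [Submodule.mem_bot, ← h1, ← hc, DirectSum.decompose_sum, DFinsupp.finsetSum_apply,
      AddSubmonoidClass.coe_finsetSum]
    refine Finset.sum_eq_zero fun z hz => ?_
    have hzD : dg z ≤ D := by have := hB z hz; omega
    rw [decompose_smul_of_mem 𝒜 ℳ (hdg z hz) (c z) D hzD]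
    exact hpiece (D - dg z) (by have := hB z hz; omega) _ (Subtype.prop _) z hz
  · -- (TN) ⇒ M~ = 0
    rintro ⟨n, hn⟩
    apply Groth.Agent.Lib.Helper18.GrTildeBasic.isZero_tilde_of_subsingleton 𝒜 ℳ 0
    intro x
    have hloc := Groth.Agent.Lib.Helper18.GrTildeBasic.subsingleton_locMod_of_locally_nilpotent 𝒜
      (M := M) (fun z d f hd hf => by
        refine ⟨n, ?_⟩
        rw [← DirectSum.sum_support_decompose ℳ z, Finset.smul_sum]
        refine Finset.sum_eq_zero fun i _ => ?_
        have h1 : f ^ n ∈ 𝒜 (n * d) := by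
          have := SetLike.pow_mem_graded n hf
          simpa [smul_eq_mul] using this
        have h2 := SetLike.GradedSMul.smul_mem (A := 𝒜) (B := ℳ) h1
          (Subtype.prop (DirectSum.decompose ℳ z i))
        have h3 : n ≤ n * d + i := by nlinarith
        rw [vadd_eq_add, hn _ h3, Submodule.mem_bot] at h2
        exact h2) x
    exact ⟨fun a b => Subtype.ext (hloc.elim _ _)⟩

end Groth.Agent.S3562
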