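import Groth.Statements.S3563
import Groth.Agent.Lib.Helper18.ProjBasic
import Mathlib.AlgebraicGeometry.Morphisms.ClosedImmersion

set_option autoImplicit false
universe u
open CategoryTheory CategoryTheory.Limits AlgebraicGeometry
open EGA2

namespace Groth.Agent.S3563

/-- Let φ : S → S' be a surjective homomorphism of graded rings (graded algebras over a base ring R).
Then the induced morphism Proj S' → Proj S is defined everywhere and is a closed immersion. The
hypothesis that the irrelevant ideal of S' is contained in the extension of the irrelevant ideal of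
S, needed to define the morphism on all of Proj S', is carried explicitly; it follows from
surjectivity. This is the case of a surjective φ; the published statement is more general. -/
theorem result {R A : Type u} [CommRing R] [CommRing A] [Algebra R A] (𝒜 : ℕ → Submodule R A) [GradedAlgebra 𝒜]
    {B : Type u} [CommRing B] [Algebra R B] (ℬ : ℕ → Submodule R B) [GradedAlgebra ℬ]
    (φ : 𝒜 →+*ᵍ ℬ) (hsurj : Function.Surjective φ)
    (hφ : HomogeneousIdeal.irrelevant ℬ ≤ (HomogeneousIdeal.irrelevant 𝒜).map φ) :
    IsClosedImmersion (Proj.map φ hφ) := by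
  apply IsZariskiLocalAtTarget.of_openCover (P := @IsClosedImmersion)
    (Proj.affineOpenCover 𝒜).openCover
  intro s
  obtain ⟨⟨i, hpos⟩, ⟨f, hs'⟩⟩ := s
  have hs : f ∈ 𝒜 i := hs'
  have hpb := Groth.Agent.Lib.Helper18.ProjBasic.isPullback_awayι_map 𝒜 ℬ φ hφ hpos f hs
  have hci : IsClosedImmersion
      (Spec.map (CommRingCat.ofHom (HomogeneousLocalization.Away.map φ f))) :=
    IsClosedImmersion.spec_of_surjective _
      (Groth.Agent.Lib.Helper18.ProjBasic.away_map_surjective 𝒜 ℬ φ hsurj _ hs)
  have heq : hpb.flip.isoPullback.hom ≫ pullback.snd (Proj.map φ hφ) (Proj.awayι 𝒜 f hs hpos) =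
      Spec.map (CommRingCat.ofHom (HomogeneousLocalization.Away.map φ f)) :=
    hpb.flip.isoPullback_hom_snd
  have key : IsClosedImmersion (pullback.snd (Proj.map φ hφ) (Proj.awayι 𝒜 f hs hpos)) := by
    rw [← MorphismProperty.cancel_left_of_respectsIso @IsClosedImmersion
      hpb.flip.isoPullback.hom, heq]
    exact hci
  exact key

end Groth.Agent.S3563
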