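import Groth.Statements.S8263
-- import your own Groth.Agent.* helpers here

set_option autoImplicit false
universe u
open CategoryTheory CategoryTheory.Limits AlgebraicGeometry Opposite TopologicalSpace
open scoped HomogeneousIdeal
open EGA2

namespace Groth.Agent.S8263


section projlemmas

variable {A B : Type u} [CommRing A] [CommRing B] {σ τ : Type u}
  [SetLike σ A] [AddSubgroupClass σ A] [SetLike τ B] [AddSubgroupClass τ B]
  {𝒜 : ℕ → σ} {ℬ : ℕ → τ} [GradedRing 𝒜] [GradedRing ℬ]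

/-- `A_(s) → B_(f s)` is surjective when `f` is. -/
lemma awayMap_surjective (f : 𝒜 →+*ᵍ ℬ) (hsurj : Function.Surjective f) {i : ℕ} (s : A)
    (hs : s ∈ 𝒜 i) : Function.Surjective (HomogeneousLocalization.Away.map f s) := by
  classical
  intro z
  obtain ⟨n, b, hb, rfl⟩ := HomogeneousLocalization.Away.mk_surjective ℬ (Graded.map_mem f hs) z
  obtain ⟨a, rfl⟩ := hsurj b
  refine ⟨HomogeneousLocalization.Away.mk 𝒜 hs n (DirectSum.decompose 𝒜 a (n • i) : A)
    (DirectSum.decompose 𝒜 a (n • i)).2, ?_⟩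
  rw [HomogeneousLocalization.Away.map_mk]
  congr 1
  rw [GradedRingHom.map_directSumDecompose, DirectSum.decompose_of_mem_same ℬ hb]

set_option backward.isDefEq.respectTransparency.types false in
/-- `Proj.map` of a surjective graded homomorphism is a closed immersion. -/
lemma proj_map_isClosedImmersion (f : 𝒜 →+*ᵍ ℬ)
    (hf : (HomogeneousIdeal.irrelevant ℬ) ≤ (HomogeneousIdeal.irrelevant 𝒜).map f)
    (hsurj : Function.Surjective f) : IsClosedImmersion (Proj.map f hf) := by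
  rw [IsZariskiLocalAtTarget.iff_of_openCover (P := @IsClosedImmersion)
    (Proj.affineOpenCover 𝒜).openCover]
  intro i
  have hpb := IsOpenImmersion.isPullback
    (Spec.map (CommRingCat.ofHom (HomogeneousLocalization.Away.map f (i.2 : A))))
    (Proj.awayι ℬ (f (i.2 : A)) (Graded.map_mem f i.2.2) i.1.2)
    (Proj.awayι 𝒜 (i.2 : A) i.2.2 i.1.2) (Proj.map f hf)
    (Proj.awayι_comp_map f hf i.1.2 (i.2 : A) i.2.2)
    (by rw [Proj.opensRange_awayι, Proj.opensRange_awayι]; rfl)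
  have hci : IsClosedImmersion
      (Spec.map (CommRingCat.ofHom (HomogeneousLocalization.Away.map f (i.2 : A)))) :=
    IsClosedImmersion.spec_of_surjective _ (awayMap_surjective f hsurj _ i.2.2)
  change IsClosedImmersion (pullback.snd (Proj.map f hf)
    (Proj.awayι 𝒜 (i.2 : A) i.2.2 i.1.2))
  have h2 : hpb.flip.isoPullback.hom ≫ pullback.snd (Proj.map f hf)
      (Proj.awayι 𝒜 (i.2 : A) i.2.2 i.1.2) =
      Spec.map (CommRingCat.ofHom (HomogeneousLocalization.Away.map f (i.2 : A))) :=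
    hpb.flip.isoPullback_hom_snd
  rw [← MorphismProperty.cancel_left_of_respectsIso @IsClosedImmersion hpb.flip.isoPullback.hom,
    h2]
  exact hci

/-- compatibility of `Away.map` with the maps from degree zero. -/
lemma awayMap_fromZero {R : Type u} [CommRing R] (f : 𝒜 →+*ᵍ ℬ) (sA : R →+* 𝒜 0)
    (sB : R →+* ℬ 0) (hs : ∀ r, f (sA r : A) = (sB r : B)) (x : A) (r : R) :
    HomogeneousLocalization.Away.map f x
        (HomogeneousLocalization.fromZeroRingHom 𝒜 (Submonoid.powers x) (sA r)) =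
      HomogeneousLocalization.fromZeroRingHom ℬ (Submonoid.powers (f x)) (sB r) := by
  apply HomogeneousLocalization.val_injective
  change Localization.mk (f (sA r : A)) ⟨f 1, _⟩ = Localization.mk (sB r : B) ⟨1, _⟩
  rw [Localization.mk_eq_mk_iff, Localization.r_iff_exists]
  refine ⟨1, ?_⟩
  simp only [OneMemClass.coe_one, one_mul, hs r, map_one]

set_option backward.isDefEq.respectTransparency.types false in
/-- `Proj.map` is compatible with the structure morphisms to the base. -/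
lemma proj_map_toSpecZero {R : Type u} [CommRing R] (f : 𝒜 →+*ᵍ ℬ)
    (hf : (HomogeneousIdeal.irrelevant ℬ) ≤ (HomogeneousIdeal.irrelevant 𝒜).map f)
    (sA : R →+* 𝒜 0) (sB : R →+* ℬ 0) (hs : ∀ r, f (sA r : A) = (sB r : B)) :
    Proj.map f hf ≫ Proj.toSpecZero 𝒜 ≫ Spec.map (CommRingCat.ofHom sA) =
      Proj.toSpecZero ℬ ≫ Spec.map (CommRingCat.ofHom sB) := by
  refine (Proj.mapAffineOpenCover f hf).openCover.hom_ext _ _ ?_
  intro (i : Σ i : ℕ+, 𝒜 i)
  change Proj.awayι ℬ (f (i.2 : A)) (Graded.map_mem f i.2.2) i.1.pos ≫ _ =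
    Proj.awayι ℬ (f (i.2 : A)) (Graded.map_mem f i.2.2) i.1.pos ≫ _
  rw [Proj.awayι_comp_map_assoc f hf i.1.pos (i.2 : A) i.2.2, Proj.awayι_toSpecZero_assoc,
    Proj.awayι_toSpecZero_assoc, ← Spec.map_comp, ← Spec.map_comp, ← Spec.map_comp]
  congr 1
  ext r
  exact congrArg HomogeneousLocalization.val (awayMap_fromZero f sA sB hs (i.2 : A) r)

end projlemmas

/-- Let φ : 𝒜 → ℬ be a graded homomorphism of quasi-coherent positively graded O_Y-algebras that is
surjective over every affine open of Y, and let h : Proj(ℬ) → Proj(𝒜) be the morphism it induces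
(chartwise the morphism of Proj's induced by φ(U)). Then h is a closed immersion. (The published
statement allows φ to be only eventually surjective in high degrees; this row is the surjective
case, to which the general one reduces.) -/
theorem result {Y PA PB : Scheme.{u}} {𝒜 ℬ : RelProj.QCGrAlg Y}
    (φ : 𝒜.toQCAlg ⟶ ℬ.toQCAlg) (hφ : RelProj.IsGradedHom φ)
    (hsurj : ∀ (U : Y.Opens) (hU : IsAffineOpen U), Function.Surjective (φ.hom.app (op U)).hom)
    (hirr : ∀ (U : Y.Opens) (hU : IsAffineOpen U),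
      (ℬ.deg U hU)₊ ≤ ((𝒜.deg U hU)₊).map (RelProj.gradedHomAt φ hφ U hU))
    (pA : PA ⟶ Y) (pB : PB ⟶ Y)
    (chartA : ∀ (U : Y.Opens) (hU : IsAffineOpen U), (((pA ⁻¹ᵁ U : PA.Opens) : Scheme.{u}) ≅ Proj (𝒜.deg U hU)))
    (chartB : ∀ (U : Y.Opens) (hU : IsAffineOpen U), (((pB ⁻¹ᵁ U : PB.Opens) : Scheme.{u}) ≅ Proj (ℬ.deg U hU)))
    (hA : RelProj.IsRelProj 𝒜 pA chartA) (hB : RelProj.IsRelProj ℬ pB chartB)
    (h : PB ⟶ PA) (hh : RelProj.IsRelProjMap φ hφ hirr chartA chartB h) : IsClosedImmersion h := by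
  classical
  have hstr : ∀ (U : Y.Opens) (hU : IsAffineOpen U) (r : Γ(Y, U)),
      (RelProj.gradedHomAt φ hφ U hU) (((𝒜.strZero U hU).hom r : 𝒜.presheaf.obj (op U))) =
        ((ℬ.strZero U hU).hom r : ℬ.presheaf.obj (op U)) := by
    intro U hU r
    have h0 := NatTrans.congr_app φ.comm (op U)
    rw [NatTrans.comp_app] at h0
    change (φ.hom.app (op U)).hom ((𝒜.str.app (op U)).hom r) = (ℬ.str.app (op U)).hom r
    rw [← h0]
    rfl
  have hcomp : h ≫ pA = pB := by
    refine Scheme.hom_ext_of_forall _ _ (fun x => ?_)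
    obtain ⟨U, hU, hxU, -⟩ := TopologicalSpace.Opens.isBasis_iff_nbhd.mp Y.isBasis_affineOpens
      (show pB x ∈ (⊤ : Y.Opens) from trivial)
    have hU' : IsAffineOpen U := hU
    refine ⟨pB ⁻¹ᵁ U, hxU, ?_⟩
    rw [← Category.assoc, hh U hU', ← hB.chart_over U hU']
    simp only [Category.assoc]
    rw [← hA.chart_over U hU', Iso.inv_hom_id_assoc]
    have h1 := proj_map_toSpecZero (RelProj.gradedHomAt φ hφ U hU') (hirr U hU')
      (𝒜.strZero U hU').hom (ℬ.strZero U hU').hom (hstr U hU')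
    have h2 : Proj.map (RelProj.gradedHomAt φ hφ U hU') (hirr U hU') ≫
        Proj.toSpecZero (𝒜.deg U hU') ≫ Spec.map (𝒜.strZero U hU') =
        Proj.toSpecZero (ℬ.deg U hU') ≫ Spec.map (ℬ.strZero U hU') := h1
    rw [reassoc_of% h2]
  have hcov : (⨆ i : Y.affineOpens, pA ⁻¹ᵁ (i : Y.Opens)) = ⊤ := by
    rw [← Scheme.Hom.preimage_iSup, iSup_affineOpens_eq_top]
    rfl
  refine IsZariskiLocalAtTarget.of_iSup_eq_top (P := @IsClosedImmersion)
    (fun i : Y.affineOpens => pA ⁻¹ᵁ (i : Y.Opens)) hcov (fun i => ?_)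
  have hi : IsAffineOpen (i : Y.Opens) := i.2
  have hW : h ⁻¹ᵁ (pA ⁻¹ᵁ (i : Y.Opens)) = pB ⁻¹ᵁ (i : Y.Opens) := by
    rw [← Scheme.Hom.comp_preimage, hcomp]
  have heq : h ∣_ (pA ⁻¹ᵁ (i : Y.Opens)) = (PB.isoOfEq hW).hom ≫ (chartB i.1 hi).hom ≫
      Proj.map (RelProj.gradedHomAt φ hφ i.1 hi) (hirr i.1 hi) ≫ (chartA i.1 hi).inv := by
    rw [← cancel_mono (pA ⁻¹ᵁ (i : Y.Opens)).ι, morphismRestrict_ι]
    simp only [Category.assoc]
    rw [← hh i.1 hi, Scheme.isoOfEq_hom_ι_assoc]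
  have hci := proj_map_isClosedImmersion (RelProj.gradedHomAt φ hφ i.1 hi) (hirr i.1 hi)
    (hsurj i.1 hi)
  change IsClosedImmersion (h ∣_ (pA ⁻¹ᵁ (i : Y.Opens)))
  rw [heq]
  infer_instance

end Groth.Agent.S8263
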