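import Groth.Statements.S10908
import Mathlib
import Groth.Agent.Lib.Proj.Helper66_Sections
-- import your own Groth.Agent.* helpers here

set_option autoImplicit false
universe u
open ProjDeg
open CategoryTheory

namespace Groth.Agent.S10908

open DirectSum in
/-- In a graded domain, if `c` is homogeneous nonzero of degree `k` and `c * b` is homogeneous of degree `k + m`,
then `b` is homogeneous of degree `m`. -/
theorem mem_of_mul_mem {R A : Type u} [CommRing R] [CommRing A] [IsDomain A] [Algebra R A]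
    (𝒜 : ℕ → Submodule R A) [GradedAlgebra 𝒜] {k m : ℕ} {c b : A} (hc : c ∈ 𝒜 k) (hc0 : c ≠ 0)
    (hcb : c * b ∈ 𝒜 (k + m)) : b ∈ 𝒜 m := by
  classical
  have h1 : ∀ j, j ≠ m → (decompose 𝒜 b j : A) = 0 := by
    intro j hj
    have h2 : (decompose 𝒜 (c * b) (k + j) : A) = c * decompose 𝒜 b j :=
      coe_decompose_mul_add_of_left_mem 𝒜 hc
    have h3 : (decompose 𝒜 (c * b) (k + j) : A) = 0 := by
      rw [decompose_of_mem_ne 𝒜 hcb (by omega : k + m ≠ k + j)]
    rw [h3] at h2
    exact (mul_eq_zero.mp h2.symm).resolve_left hc0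
  have h4 : b = (decompose 𝒜 b m : A) := by
    conv_lhs => rw [← sum_support_decompose 𝒜 b]
    by_cases hm : m ∈ (decompose 𝒜 b).support
    · rw [Finset.sum_eq_single m (fun j _ hj => h1 j hj) (fun h => absurd hm h)]
    · rw [DFinsupp.notMem_support_iff] at hm
      rw [hm, ZeroMemClass.coe_zero]
      exact Finset.sum_eq_zero fun j _ => by
        by_cases hj : j = m
        · rw [hj, hm, ZeroMemClass.coe_zero]
        · exact h1 j hj
  rw [h4]
  exact Subtype.prop _

/-- every point of `Proj` misses some element of degree one when the ring is generated in degree one -/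
theorem exists_deg_one_notMem {R A : Type u} [CommRing R] [CommRing A] [Algebra R A]
    (𝒜 : ℕ → Submodule R A) [GradedAlgebra 𝒜] (hgen : ∀ i : ℕ, 𝒜 1 * 𝒜 i = 𝒜 (i + 1))
    (x : ProjectiveSpectrum 𝒜) : ∃ t ∈ 𝒜 1, t ∉ x.asHomogeneousIdeal := by
  classical
  by_contra hcon
  push Not at hcon
  have hall : ∀ i, ∀ y ∈ 𝒜 (i + 1), y ∈ x.asHomogeneousIdeal.toIdeal := by
    intro i
    induction i with
    | zero => intro y hy; exact hcon y hy
    | succ i ih =>
      intro y hy
      rw [← hgen (i + 1)] at hy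
      refine Submodule.mul_induction_on hy ?_ ?_
      · intro t ht z _
        exact Ideal.mul_mem_right _ _ (hcon t ht)
      · intro a b ha hb
        exact add_mem ha hb
  apply x.not_irrelevant_le
  intro y hy
  change y ∈ x.asHomogeneousIdeal.toIdeal
  rw [← DirectSum.sum_support_decompose 𝒜 y]
  refine Ideal.sum_mem _ fun i _ => ?_
  rcases Nat.eq_zero_or_pos i with hi | hi
  · subst hi
    have h0 : (DirectSum.decompose 𝒜 y 0 : A) = 0 := by
      have := (HomogeneousIdeal.mem_irrelevant_iff 𝒜 y).mp hy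
      simpa [GradedRing.proj_apply] using this
    rw [h0]
    exact Ideal.zero_mem _
  · obtain ⟨i', rfl⟩ : ∃ i', i = i' + 1 := ⟨i - 1, by omega⟩
    exact hall i' _ (Subtype.prop _)

theorem isLocalization_of_eq {A : Type u} [CommRing A] (M N : Submonoid A) (h : M = N) :
    IsLocalization N (Localization M) := by
  subst h
  infer_instance

/-- graded pieces lie in powers of the ideal generated by degree one -/
theorem piece_le_pow {R A : Type u} [CommRing R] [CommRing A] [Algebra R A]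
    (𝒜 : ℕ → Submodule R A) [GradedAlgebra 𝒜] (hgen : ∀ i : ℕ, 𝒜 1 * 𝒜 i = 𝒜 (i + 1)) (N : ℕ) :
    ∀ y ∈ 𝒜 N, y ∈ (Ideal.span (𝒜 1 : Set A)) ^ N := by
  induction N with
  | zero => intro y _; simp
  | succ i ih =>
    intro y hy
    rw [← hgen i] at hy
    refine Submodule.mul_induction_on hy ?_ ?_
    · intro t ht z hz
      rw [pow_succ']
      exact Ideal.mul_mem_mul (Ideal.subset_span ht) (ih z hz)
    · intro a b ha hb
      exact add_mem ha hb

/-- Let S be a Noetherian graded integral domain, graded by the natural numbers as an algebra over a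
ring R, generated by its degree-one part over S_0 (S_1 S_i = S_{i+1}) with S_1 ≠ 0, and integrally
closed in its field of fractions (so that X = Proj S is projectively normal). Then for every d ≥ 0
the canonical map from S_d to the global sections of the twisting sheaf O_X(d), sending a to the
section a/1, is bijective. (The underlying lemma: every global section of O_X(d) is an element of
the homogeneous fraction ring integral over S.) (The published corollary takes the degree-zero part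
to be a finitely generated algebra over a field; this row assumes only that the ring is Noetherian,
which is all the argument uses.) -/
theorem result {R A : Type u} [CommRing R] [CommRing A] [IsDomain A]
    [IsNoetherianRing A] [Algebra R A] (𝒜 : ℕ → Submodule R A) [GradedAlgebra 𝒜]
    (hgen : ∀ i : ℕ, 𝒜 1 * 𝒜 i = 𝒜 (i + 1)) (h1 : 𝒜 1 ≠ ⊥) (hint : IsIntegrallyClosed A) (d : ℕ) :
    Function.Bijective (fun a : ↥(𝒜 d) => Twist.globalOf 𝒜 a) := by
  classical
  have hdeg1 := exists_deg_one_notMem 𝒜 hgen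
  obtain ⟨t₀, ht₀, ht₀0⟩ := Submodule.exists_mem_ne_zero_of_ne_bot h1
  -- the generic point
  have hbot : ¬ HomogeneousIdeal.irrelevant 𝒜 ≤ (⊥ : HomogeneousIdeal 𝒜) := by
    intro hle
    have h2 : t₀ ∈ (⊥ : HomogeneousIdeal 𝒜) :=
      hle (HomogeneousIdeal.mem_irrelevant_of_mem 𝒜 Nat.one_pos ht₀)
    have h3 : t₀ ∈ (⊥ : HomogeneousIdeal 𝒜).toIdeal := h2
    rw [HomogeneousIdeal.toIdeal_bot, Ideal.mem_bot] at h3
    exact ht₀0 h3
  obtain ⟨x₀, hx₀⟩ : ∃ x₀ : ProjectiveSpectrum 𝒜, ∀ a : A, a ∈ x₀.asHomogeneousIdeal ↔ a = 0 := by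
    refine ⟨⟨⊥, by rw [HomogeneousIdeal.toIdeal_bot]; exact Ideal.isPrime_bot, hbot⟩, fun a => ?_⟩
    change a ∈ (⊥ : HomogeneousIdeal 𝒜).toIdeal ↔ _
    rw [HomogeneousIdeal.toIdeal_bot, Ideal.mem_bot]
  have hinj : ∀ (x : ProjectiveSpectrum 𝒜), Function.Injective (algebraMap A (Twist.Loc 𝒜 x)) := by
    intro x
    apply IsLocalization.injective (Twist.Loc 𝒜 x) (M := x.asHomogeneousIdeal.toIdeal.primeCompl)
    intro a ha
    exact mem_nonZeroDivisors_of_ne_zero fun h0 => ha (h0 ▸ Ideal.zero_mem _)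
  refine ⟨?_, ?_⟩
  · -- injective
    intro a b hab
    have h2 := congrArg (fun s : Twist.sectN (𝒜 := 𝒜) (d : ℤ) (Opposite.op ⊤) =>
      ((s.1 ⟨x₀, trivial⟩ : Twist.twistAt 𝒜 (d : ℤ) x₀) : Twist.Loc 𝒜 x₀)) hab
    change (Localization.mk a.1 _ : Twist.Loc 𝒜 x₀) = Localization.mk b.1 _ at h2
    rw [Groth.Agent.Lib.Proj.Sections.mk_eq_mk_iff'] at h2
    obtain ⟨u, hu, h3⟩ := h2
    have hu0 : u ≠ 0 := fun h0 => hu ((hx₀ u).mpr h0)
    have h4 := (mul_eq_zero.mp h3).resolve_left hu0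
    simp only [one_mul, sub_eq_zero] at h4
    exact Subtype.ext h4
  · -- surjective
    intro s
    -- local fractions on `D₊(t)`, `t ∈ 𝒜 1`
    have hfr : ∀ t ∈ 𝒜 1, ∃ (k : ℕ) (a : A), a ∈ 𝒜 (k + d) ∧
        ∀ (x : ProjectiveSpectrum 𝒜) (hx : t ∉ x.asHomogeneousIdeal),
          ((s.1 ⟨x, trivial⟩ : Twist.twistAt 𝒜 (d : ℤ) x) : Twist.Loc 𝒜 x) =
            (Localization.mk a ⟨t ^ k, fun h => hx (x.isPrime.mem_of_pow_mem k h)⟩ :
              Twist.Loc 𝒜 x) := by
      intro t ht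
      obtain ⟨k, i, a, hi, hs⟩ := Groth.Agent.Lib.Proj.Sections.exists_frac 𝒜 (d : ℤ) Nat.one_pos ht
        (Twist.resN (d : ℤ) (homOfLE (le_top : ProjectiveSpectrum.basicOpen 𝒜 t ≤ ⊤)).op s)
      have hi' : i = k + d := by push_cast at hi; omega
      subst hi'
      exact ⟨k, a.1, a.2, fun x hx => hs ⟨x, hx⟩⟩
    choose kk aa haa hss using hfr
    set σ : Twist.Loc 𝒜 x₀ := ((s.1 ⟨x₀, trivial⟩ : Twist.twistAt 𝒜 (d : ℤ) x₀) : Twist.Loc 𝒜 x₀)
      with hσ
    have hσt : ∀ (t : A) (ht : t ∈ 𝒜 1), t ≠ 0 →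
        algebraMap A (Twist.Loc 𝒜 x₀) (t ^ kk t ht) * σ = algebraMap A _ (aa t ht) := by
      intro t ht ht0
      have h2 := hss t ht x₀ (fun h => ht0 ((hx₀ t).mp h))
      rw [hσ, h2, Localization.mk_eq_mk'_apply]
      exact IsLocalization.mk'_spec' _ (aa t ht) ⟨t ^ kk t ht, _⟩
    -- the conductor ideal
    let cond : Ideal A :=
      { carrier := {y | algebraMap A (Twist.Loc 𝒜 x₀) y * σ ∈ (algebraMap A (Twist.Loc 𝒜 x₀)).range}
        add_mem' := by
          rintro y z ⟨b, hb⟩ ⟨c, hc⟩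
          exact ⟨b + c, by rw [map_add, map_add, add_mul, hb, hc]⟩
        zero_mem' := ⟨0, by simp⟩
        smul_mem' := by
          rintro r y ⟨b, hb⟩
          exact ⟨r * b, by rw [smul_eq_mul, map_mul, map_mul, mul_assoc, hb]⟩ }
    have hrad : Ideal.span (𝒜 1 : Set A) ≤ cond.radical := by
      rw [Ideal.span_le]
      intro t ht
      by_cases ht0 : t = 0
      · exact ⟨1, by rw [ht0, pow_one]; exact cond.zero_mem⟩
      · exact ⟨kk t ht, ⟨aa t ht, (hσt t ht ht0).symm⟩⟩
    obtain ⟨N0, hN0⟩ := Ideal.exists_pow_le_of_le_radical_of_fg hrad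
      ((isNoetherianRing_iff_ideal_fg A).mp inferInstance _)
    have hcond : ∀ y ∈ cond, ∃ b : A, algebraMap A (Twist.Loc 𝒜 x₀) b =
        algebraMap A (Twist.Loc 𝒜 x₀) y * σ := fun y hy => hy
    clear_value cond
    clear_value σ
    -- key lemma
    have hkey : ∀ N, N0 ≤ N → ∀ y ∈ 𝒜 N, ∃ b ∈ 𝒜 (N + d),
        algebraMap A (Twist.Loc 𝒜 x₀) y * σ = algebraMap A _ b := by
      intro N hN y hy
      have h2 : y ∈ cond := hN0 (Ideal.pow_le_pow_right hN (piece_le_pow 𝒜 hgen N y hy))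
      obtain ⟨b, hb⟩ := hcond y h2
      refine ⟨b, ?_, hb.symm⟩
      have h3 : t₀ ^ kk t₀ ht₀ * b = y * aa t₀ ht₀ := by
        apply hinj x₀
        rw [map_mul, map_mul, hb, ← hσt t₀ ht₀ ht₀0]
        ring
      have h4 : t₀ ^ kk t₀ ht₀ ∈ 𝒜 (kk t₀ ht₀) := by
        have := SetLike.pow_mem_graded (kk t₀ ht₀) ht₀
        simpa [smul_eq_mul] using this
      refine mem_of_mul_mem 𝒜 h4 (pow_ne_zero _ ht₀0) ?_
      rw [h3]
      have h5 := SetLike.mul_mem_graded hy (haa t₀ ht₀)
      have e : N + (kk t₀ ht₀ + d) = kk t₀ ht₀ + (N + d) := by omega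
      rw [e] at h5
      exact h5
    have hkey2 : ∀ j N, N0 ≤ N → ∀ y ∈ 𝒜 N, ∃ b : A,
        algebraMap A (Twist.Loc 𝒜 x₀) y * σ ^ j = algebraMap A _ b := by
      intro j
      induction j with
      | zero => intro N _ y _; exact ⟨y, by simp⟩
      | succ j ih =>
        intro N hN y hy
        obtain ⟨b, hb, hb2⟩ := hkey N hN y hy
        obtain ⟨c, hc⟩ := ih (N + d) (by omega) b hb
        exact ⟨c, by rw [pow_succ', ← mul_assoc, hb2, hc]⟩
    -- almost integral
    have hfrac : IsFractionRing A (Twist.Loc 𝒜 x₀) := by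
      have h2 : x₀.asHomogeneousIdeal.toIdeal.primeCompl = nonZeroDivisors A := by
        ext a
        rw [mem_nonZeroDivisors_iff_ne_zero]
        exact not_congr (hx₀ a)
      exact isLocalization_of_eq _ _ h2
    have halm : IsAlmostIntegral A σ := by
      have h4 : t₀ ^ N0 ∈ 𝒜 N0 := by
        have := SetLike.pow_mem_graded N0 ht₀
        simpa [smul_eq_mul] using this
      refine ⟨t₀ ^ N0, mem_nonZeroDivisors_of_ne_zero (pow_ne_zero _ ht₀0), fun j => ?_⟩
      obtain ⟨b, hb⟩ := hkey2 j N0 le_rfl _ h4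
      exact ⟨b, by rw [Algebra.smul_def, hb]⟩
    haveI := hfrac
    have hdom : IsDomain (Twist.Loc 𝒜 x₀) := IsFractionRing.isDomain A (K := Twist.Loc 𝒜 x₀)
    have hfaith : FaithfulSMul A (Twist.Loc 𝒜 x₀) :=
      (faithfulSMul_iff_algebraMap_injective A _).mpr (hinj x₀)
    have hintg : IsIntegral A σ := halm.isIntegral
    obtain ⟨a, ha⟩ := IsIntegrallyClosed.isIntegral_iff.mp hintg
    -- relation with the local fractions
    have hrel : ∀ (t : A) (ht : t ∈ 𝒜 1), t ≠ 0 → t ^ kk t ht * a = aa t ht := by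
      intro t ht ht0
      apply hinj x₀
      rw [map_mul, ha, hσt t ht ht0]
    have had : a ∈ 𝒜 d := by
      have h4 : t₀ ^ kk t₀ ht₀ ∈ 𝒜 (kk t₀ ht₀) := by
        have := SetLike.pow_mem_graded (kk t₀ ht₀) ht₀
        simpa [smul_eq_mul] using this
      refine mem_of_mul_mem 𝒜 h4 (pow_ne_zero _ ht₀0) ?_
      rw [hrel t₀ ht₀ ht₀0]
      exact haa t₀ ht₀
    have hpt : ∀ (x : ProjectiveSpectrum 𝒜),
        (Localization.mk a (1 : x.asHomogeneousIdeal.toIdeal.primeCompl) : Twist.Loc 𝒜 x) =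
        ((s.1 ⟨x, trivial⟩ : Twist.twistAt 𝒜 (d : ℤ) x) : Twist.Loc 𝒜 x) := by
      intro x
      have h9 := hdeg1 x
      let t := h9.choose
      have ht : t ∈ 𝒜 1 := h9.choose_spec.1
      have htx : t ∉ x.asHomogeneousIdeal := h9.choose_spec.2
      have ht0 : t ≠ 0 := fun h0 => htx (h0 ▸ Ideal.zero_mem _)
      have h2 := hss t ht x htx
      refine Eq.trans ?_ h2.symm
      rw [Groth.Agent.Lib.Proj.Sections.mk_eq_mk_iff']
      refine ⟨1, fun hh => x.isPrime.ne_top ((Ideal.eq_top_iff_one _).mpr hh), ?_⟩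
      simp only [one_mul, OneMemClass.coe_one]
      rw [hrel t ht ht0, sub_self]
    refine ⟨⟨a, had⟩, ?_⟩
    exact Subtype.ext (funext fun x => Subtype.ext (hpt x.1))

end Groth.Agent.S10908
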