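import Groth.Statements.S3398
import Groth.Agent.Lib.Helper17.ProC

set_option autoImplicit false
open CategoryTheory AlgebraicGeometry
universe u
open EGA41

namespace Groth.Agent.S3398

/-- Let f : X' ⟶ X be a quasi-compact morphism of schemes and E' a pro-constructible subset of X'. Then
f(E') is pro-constructible in X; in particular f(X') is pro-constructible. -/
theorem result {X' X : Scheme.{u}} (f : X' ⟶ X) [QuasiCompact f]
    (E' : Set X') (hE' : ProCons.IsProConstructible E') :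
    ProCons.IsProConstructible (f.base '' E') := by
  intro y
  have hb : ∀ {U : TopologicalSpace.Opens ↥X} {x : ↥X}, x ∈ U →
      ∃ U' ∈ X.affineOpens, x ∈ U' ∧ U' ≤ U :=
    TopologicalSpace.Opens.isBasis_iff_nbhd.mp X.isBasis_affineOpens
  have hb' : ∀ {U : TopologicalSpace.Opens ↥X'} {x : ↥X'}, x ∈ U →
      ∃ U' ∈ X'.affineOpens, x ∈ U' ∧ U' ≤ U :=
    TopologicalSpace.Opens.isBasis_iff_nbhd.mp X'.isBasis_affineOpens
  obtain ⟨W, hW, hyW, -⟩ := @hb ⊤ y trivial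
  have hWaff : IsAffineOpen W := hW
  refine ⟨(W : Set X), W.2, hyW, ?_⟩
  suffices h : Groth.Agent.Lib.Helper17.IsProC (Subtype.val ⁻¹' (f.base '' E') : Set ↥W) by
    obtain ⟨𝒞, h𝒞, h⟩ := h
    exact ⟨𝒞, fun T hT => (h𝒞 T hT).isLocallyConstructible, h⟩
  have hcomp : IsCompact (f ⁻¹ᵁ W : Set X') := f.isCompact_preimage hWaff.isCompact
  have key : ∀ x : X', x ∈ (f ⁻¹ᵁ W : Set X') →
      ∃ U : X'.Opens, IsAffineOpen U ∧ x ∈ U ∧ U ≤ f ⁻¹ᵁ W := by
    intro x hx
    obtain ⟨U, hU, hxU, hUle⟩ := @hb' (f ⁻¹ᵁ W) x hx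
    exact ⟨U, hU, hxU, hUle⟩
  choose U hUaff hxU hUle using key
  obtain ⟨t, ht⟩ := hcomp.elim_nhds_subcover' (fun x hx => (U x hx : Set X'))
    (fun x hx => (U x hx).2.mem_nhds (hxU x hx))
  haveI : QuasiSeparatedSpace ↥(W.toScheme) :=
    (isQuasiSeparated_iff_quasiSeparatedSpace _ W.2).mp hWaff.isQuasiSeparated
  let Z : ↥(f ⁻¹ᵁ W : Set X') → Set ↥W := fun x =>
    (f.resLE W (U x.1 x.2) (hUle x.1 x.2)).base '' (Subtype.val ⁻¹' E' : Set ↥(U x.1 x.2))
  have hZ : ∀ x, Groth.Agent.Lib.Helper17.IsProC (Z x) := by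
    intro x
    have hUa := hUaff x.1 x.2
    haveI : QuasiSeparatedSpace ↥(U x.1 x.2) :=
      (isQuasiSeparated_iff_quasiSeparatedSpace _ (U x.1 x.2).2).mp hUa.isQuasiSeparated
    haveI : IsAffine (U x.1 x.2).toScheme := hUa
    haveI : CompactSpace ↥((U x.1 x.2).toScheme) := inferInstance
    haveI : QuasiSeparatedSpace ↥((U x.1 x.2).toScheme) :=
      (isQuasiSeparated_iff_quasiSeparatedSpace _ (U x.1 x.2).2).mp hUa.isQuasiSeparated
    haveI : PrespectralSpace ↥((U x.1 x.2).toScheme) := inferInstance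
    haveI : QuasiSober ↥((U x.1 x.2).toScheme) := inferInstance
    have h2 := Groth.Agent.Lib.Helper17.isProC_preimage_val_of_isProConstructible X' hE'
      (U x.1 x.2 : Set X') (U x.1 x.2).2
    exact Groth.Agent.Lib.Helper17.IsProC.image (T' := ↥((U x.1 x.2).toScheme)) (T := ↥(W.toScheme))
      (f.resLE W (U x.1 x.2) (hUle x.1 x.2)).base
      (fun C hC => Scheme.Hom.isConstructible_preimage _ hC) h2
  have hg : ∀ (a : ↥(f ⁻¹ᵁ W : Set X')) (z : ↥((U a.1 a.2).toScheme)),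
      ((f.resLE W (U a.1 a.2) (hUle a.1 a.2)).base z).1 = f.base z.1 :=
    fun a z => Scheme.Hom.coe_resLE_apply f (hUle a.1 a.2) z
  have hunion : (Subtype.val ⁻¹' (f.base '' E') : Set ↥W) = ⋃ x ∈ t, Z x := by
    ext ⟨z, hz⟩
    simp only [Set.mem_preimage, Set.mem_image, Set.mem_iUnion, Z]
    constructor
    · rintro ⟨x', hx'E, hx'z⟩
      have hx'W : x' ∈ (f ⁻¹ᵁ W : Set X') := by
        change f.base x' ∈ W
        rw [hx'z]; exact hz
      obtain ⟨a, hat, hx'a⟩ := Set.mem_iUnion₂.mp (ht hx'W)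
      refine ⟨a, hat, (⟨x', hx'a⟩ : ↥((U a.1 a.2).toScheme)), hx'E, ?_⟩
      apply Subtype.ext
      exact (hg a ⟨x', hx'a⟩).trans hx'z
    · rintro ⟨a, hat, c, hcE, hcz⟩
      refine ⟨c.1, hcE, ?_⟩
      rw [← hg a c]
      exact congrArg Subtype.val hcz
  rw [hunion]
  exact Groth.Agent.Lib.Helper17.IsProC.biUnion_finset t Z fun x _ => hZ x

end Groth.Agent.S3398
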