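import Groth.Statements.S10867
import Groth.Agent.S10860
import Groth.Agent.Lib.Helper38.ClosedImmCrit

set_option autoImplicit false
universe u
open Mor

namespace Groth.Agent.S10867

open CategoryTheory AlgebraicGeometry in
/-- In the case of an algebraically closed base field k and K = k: let X, Y be k-schemes of finite type
and f : X → Y a proper k-morphism which is injective on closed points and such that for every closed
point x of X the ideal generated by the image of the maximal ideal of the local ring at f(x),
together with the square of the maximal ideal at x, is the whole maximal ideal at x (the cotangent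
map is surjective, i.e. the tangent map at x is injective). Then f is a closed immersion. (The
published statement allows any field k and tests points and tangent spaces with values in an
algebraically closed extension K of k; this row is the case K = k.) -/
theorem result (k : Type u) [Field k] [IsAlgClosed k]
    {X Y : Scheme.{u}} (f : X ⟶ Y) (q : Y ⟶ Spec (CommRingCat.of k)) [LocallyOfFiniteType q] [QuasiCompact q]
    [LocallyOfFiniteType (f ≫ q)] [IsProper f]
    (hinj : Set.InjOn f.base {x : X | IsClosed ({x} : Set X)})
    (hT : ∀ x : X, IsClosed ({x} : Set X) →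
      Ideal.map (f.stalkMap x).hom (IsLocalRing.maximalIdeal (Y.presheaf.stalk (f.base x))) ⊔
        IsLocalRing.maximalIdeal (X.presheaf.stalk x) ^ 2 = IsLocalRing.maximalIdeal (X.presheaf.stalk x)) :
    IsClosedImmersion f := by
  have hJY : JacobsonSpace Y := LocallyOfFiniteType.jacobsonSpace q
  have hJX : JacobsonSpace X := LocallyOfFiniteType.jacobsonSpace (f ≫ q)
  have hcY : CompactSpace Y := QuasiCompact.compactSpace_of_compactSpace q
  -- fibres over closed points
  have hfib : ∀ y : Y, IsClosed ({y} : Set Y) → ∀ x : X, f x = y →
      IsClosed ({x} : Set X) ∧ ∀ x' : X, f x' = y → x' = x := by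
    intro y hy
    have hZ : IsClosed (f ⁻¹' {y}) := hy.preimage f.continuous
    have := Groth.Agent.Lib.Helper38.eq_of_mem_closed_of_closedPoints_subsingleton (f ⁻¹' {y}) hZ (by
      intro x₁ h₁ x₂ h₂ c₁ c₂
      exact hinj c₁ c₂ (h₁.trans h₂.symm))
    intro x hx
    exact this x hx
  -- finiteness
  obtain ⟨V, hV, hVfin⟩ := Groth.Agent.S10860.result f
  have hVtop : V = ⊤ := Groth.Agent.Lib.Helper38.opens_eq_top_of_closedPoints_mem V (by
    intro y hy
    show y ∈ (V : Set Y)
    rw [hV]
    show (f ⁻¹' {y}).Finite
    by_cases hne : (f ⁻¹' {y}).Nonempty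
    · obtain ⟨x, hx⟩ := hne
      refine (Set.finite_singleton x).subset ?_
      intro x' hx'
      exact (hfib y hy x hx).2 x' hx'
    · rw [Set.not_nonempty_iff_eq_empty] at hne
      rw [hne]
      exact Set.finite_empty)
  have hfin : IsFinite f := by
    refine IsZariskiLocalAtTarget.of_forall_exists_morphismRestrict (P := @IsFinite)
      fun y => ⟨V, ?_, hVfin⟩
    rw [hVtop]
    trivial
  -- closed immersion locus
  let G : Y.Opens := ⨆ W : {W : Y.Opens // IsClosedImmersion (f ∣_ W)}, W.1
  have hG : IsClosedImmersion (f ∣_ G) :=
    Groth.Agent.Lib.Helper38.morphismRestrict_iSup (P := @IsClosedImmersion) f _ (fun W => W.2)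
  have hGtop : G = ⊤ := Groth.Agent.Lib.Helper38.opens_eq_top_of_closedPoints_mem G (by
    intro y hy
    have hci := Groth.Agent.Lib.Helper38.isClosedImmersion_snd_of_closedPoint k f q y hy (hfib y hy) hT
    have hz : Set.range (Y.fromSpecResidueField y) ⊆ V := by
      rw [hVtop]
      exact fun _ _ => trivial
    obtain ⟨W, hzW, hW⟩ := Groth.Agent.Lib.Helper38.exists_opens_isClosedImmersion_of_isPullback
      (K := Y.residueField y) f V hVfin (Y.fromSpecResidueField y) hz (IsPullback.of_hasPullback f _)
    have hWG : W ≤ G :=
      le_iSup (fun W : {W : Y.Opens // IsClosedImmersion (f ∣_ W)} => W.1) ⟨W, hW⟩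
    obtain ⟨t₀⟩ : Nonempty (Spec (Y.residueField y)) := inferInstance
    have hmem := hzW ⟨t₀, rfl⟩
    rw [Scheme.fromSpecResidueField_apply] at hmem
    exact hWG hmem)
  refine IsZariskiLocalAtTarget.of_forall_exists_morphismRestrict (P := @IsClosedImmersion)
    fun y => ⟨G, ?_, hG⟩
  rw [hGtop]
  trivial


end Groth.Agent.S10867
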