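import Groth.Statements.S7616
import Groth.Agent.S9675
import Groth.Agent.S0566

set_option autoImplicit false
set_option linter.style.haveILetI false
universe u
open CategoryTheory CategoryTheory.Limits AlgebraicGeometry
open Variety

namespace Groth.Agent.S7616

theorem isNagata_field (k : Type u) [Field k] : CAlg.IsNagata k := by
  refine ⟨inferInstance, ?_⟩
  intro p hp L _ _ _ _ hfd
  have hunits : ∀ x ∈ nonZeroDivisors (k ⧸ p), IsUnit x := by
    intro x hx
    obtain ⟨y, rfl⟩ := Ideal.Quotient.mk_surjective x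
    have hy : y ≠ 0 := by
      rintro rfl
      have h0 : (0 : k ⧸ p) ∈ nonZeroDivisors (k ⧸ p) := by simpa using hx
      have hnt : Nontrivial (k ⧸ p) := Ideal.Quotient.nontrivial_iff.mpr hp.ne_top
      exact zero_notMem_nonZeroDivisors h0
    exact (IsUnit.mk0 y hy).map (Ideal.Quotient.mk p)
  have e := IsLocalization.atUnits (k ⧸ p) (nonZeroDivisors (k ⧸ p))
    (S := FractionRing (k ⧸ p)) hunits
  haveI h1 : Module.Finite (k ⧸ p) (FractionRing (k ⧸ p)) :=
    Module.Finite.equiv e.toLinearEquiv
  haveI h2 : Module.Finite (FractionRing (k ⧸ p)) L := hfd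
  haveI h3 : Module.Finite (k ⧸ p) L := Module.Finite.trans (FractionRing (k ⧸ p)) L
  haveI h4 : IsNoetherian (k ⧸ p) L := isNoetherian_of_isNoetherianRing_of_finite (k ⧸ p) L
  exact Module.Finite.of_injective (integralClosure (k ⧸ p) L).val.toLinearMap
    Subtype.val_injective

/-- Let f : Y → X be a quasi-compact morphism of schemes locally of finite type over a field k, with Y
reduced; f is automatically quasi-separated. Then the normalization of X in Y is finite over X. -/
theorem result (k : Type u) [Field k] (X : Scheme.{u}) [X.Over (Spec (CommRingCat.of k))] [LocallyOfFiniteType (X ↘ (Spec (CommRingCat.of k)))]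
    (Y : Scheme.{u}) [Y.Over (Spec (CommRingCat.of k))] [LocallyOfFiniteType (Y ↘ (Spec (CommRingCat.of k)))] [IsReduced Y]
    (f : Y ⟶ X) [f.IsOver (Spec (CommRingCat.of k))] [QuasiCompact f] [QuasiSeparated f] :
    IsFinite f.fromNormalization := by
  haveI hf : LocallyOfFiniteType f := by
    have h1 : f ≫ (X ↘ Spec (CommRingCat.of k)) = Y ↘ Spec (CommRingCat.of k) :=
      CategoryTheory.comp_over f _
    have h2 : LocallyOfFiniteType (f ≫ (X ↘ Spec (CommRingCat.of k))) := by
      rw [h1]; infer_instance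
    exact locallyOfFiniteType_of_comp f (X ↘ Spec (CommRingCat.of k))
  apply Groth.Agent.S9675.result f
  intro U
  -- Γ(X, U) is a finite type k-algebra
  let g : X ⟶ Spec (CommRingCat.of k) := X ↘ Spec (CommRingCat.of k)
  have hle : U.1 ≤ g ⁻¹ᵁ ⊤ := le_top
  have hft : (g.appLE ⊤ U.1 hle).hom.FiniteType :=
    LocallyOfFiniteType.finiteType_appLE (f := g) (isAffineOpen_top _) U.2 hle
  let φ : k →+* Γ(X, U.1) :=
    (g.appLE ⊤ U.1 hle).hom.comp (Scheme.ΓSpecIso (CommRingCat.of k)).inv.hom
  have hφ : φ.FiniteType := by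
    apply RingHom.FiniteType.comp hft
    exact RingHom.FiniteType.of_surjective _
      (Scheme.ΓSpecIso (CommRingCat.of k)).commRingCatIsoToRingEquiv.symm.surjective
  letI : Algebra k Γ(X, U.1) := φ.toAlgebra
  haveI : Algebra.FiniteType k Γ(X, U.1) := hφ
  exact Groth.Agent.S0566.result k (isNagata_field k) Γ(X, U.1)

end Groth.Agent.S7616
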