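import Groth.Statements.S7652
import Mathlib.RingTheory.DiscreteValuationRing.TFAE
import Mathlib.RingTheory.Ideal.MinimalPrime.Noetherian
import Mathlib.RingTheory.Ideal.MinimalPrime.Localization
import Mathlib.RingTheory.IntegralClosure.IntegrallyClosed
import Mathlib.RingTheory.HopkinsLevitzki
import Mathlib.RingTheory.Length
import Mathlib.Tactic
import Mathlib.Algebra.Group.Pi.Units
-- import your own Groth.Agent.* helpers here

set_option autoImplicit false
universe u
open CategoryTheory CategoryTheory.Limits AlgebraicGeometry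
open Variety

namespace Groth.Agent.S7652

section Helpers


section setup
variable (A : Type u) [CommRing A]

abbrev MinP := {p : Ideal A // p ∈ minimalPrimes A}

instance (i : MinP A) : i.1.IsPrime := i.2.1.1

abbrev Bq (i : MinP A) := A ⧸ i.1
abbrev Kq (i : MinP A) := FractionRing (Bq A i)
abbrev PiK := ∀ i : MinP A, Kq A i

noncomputable example (i : MinP A) : Algebra A (Kq A i) := inferInstance
noncomputable example (i : MinP A) : IsScalarTower A (Bq A i) (Kq A i) := inferInstance
noncomputable example : Algebra A (PiK A) := inferInstance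

variable {A}
theorem algebraMap_PiK_apply (a : A) (i : MinP A) :
    algebraMap A (PiK A) a i = algebraMap (Bq A i) (Kq A i) (Ideal.Quotient.mk i.1 a) := by
  rfl

theorem algebraMap_PiK_apply_eq_zero_iff (a : A) (i : MinP A) :
    algebraMap A (PiK A) a i = 0 ↔ a ∈ i.1 := by
  rw [algebraMap_PiK_apply, map_eq_zero_iff _ (IsFractionRing.injective (Bq A i) (Kq A i)),
    Ideal.Quotient.eq_zero_iff_mem]

end setup

section stage1
variable {A : Type u} [CommRing A]

theorem nzd_of_not_mem_minimal [IsReduced A] (x : A) (hx : ∀ p ∈ minimalPrimes A, x ∉ p) :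
    x ∈ nonZeroDivisors A := by
  rw [mem_nonZeroDivisors_iff_right]
  intro y hy
  have : y ∈ nilradical A := by
    rw [nilradical, ← Ideal.sInf_minimalPrimes, Ideal.mem_sInf]
    intro p hp
    have hp' : p.IsPrime := hp.1.1
    have : y * x ∈ p := by rw [hy]; exact zero_mem _
    rcases hp'.mem_or_mem this with h | h
    · exact h
    · exact absurd h (hx p hp)
  rw [nilradical_eq_zero] at this
  exact this

theorem injective_algebraMap_PiK [IsReduced A] : Function.Injective (algebraMap A (PiK A)) := by
  rw [injective_iff_map_eq_zero]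
  intro a ha
  have : a ∈ nilradical A := by
    rw [nilradical, ← Ideal.sInf_minimalPrimes, Ideal.mem_sInf]
    intro p hp
    have := congrFun ha ⟨p, hp⟩
    exact (algebraMap_PiK_apply_eq_zero_iff a ⟨p, hp⟩).mp this
  rw [nilradical_eq_zero] at this
  exact this

variable [IsNoetherianRing A]

instance : Finite (MinP A) := (minimalPrimes.finite_of_isNoetherianRing A).to_subtype

open scoped Classical in
/-- separating elements -/
theorem exists_sep (i : MinP A) : ∃ e : A, e ∉ i.1 ∧ ∀ j : MinP A, j ≠ i → e ∈ j.1 := by
  have : Fintype (MinP A) := Fintype.ofFinite _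
  by_contra hcon
  push Not at hcon
  have hle : (Finset.univ.erase i).inf (fun j : MinP A => j.1) ≤ i.1 := by
    intro e he
    by_contra hne
    obtain ⟨j, hji, hj⟩ := hcon e hne
    apply hj
    rw [Submodule.mem_finsetInf] at he
    exact he j (Finset.mem_erase.mpr ⟨hji, Finset.mem_univ _⟩)
  obtain ⟨j, hj, hji⟩ := (Ideal.IsPrime.inf_le' (s := Finset.univ.erase i) (f := fun j : MinP A => j.1)
    (inferInstance : i.1.IsPrime)).mp hle
  rw [Finset.mem_erase] at hj
  apply hj.1
  apply Subtype.ext
  exact le_antisymm hji (i.2.2 j.2.1 hji)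

end stage1

section stage1b
variable {A : Type u} [CommRing A] [IsReduced A] [IsNoetherianRing A]

open scoped Classical in
theorem isFractionRing_PiK : IsFractionRing A (PiK A) := by
  have : Fintype (MinP A) := Fintype.ofFinite _
  refine ⟨?_, ?_, ?_⟩
  · rintro ⟨x, hx⟩
    rw [Pi.isUnit_iff]
    intro i
    apply IsUnit.mk0
    intro h0
    have := (algebraMap_PiK_apply_eq_zero_iff x i).mp h0
    exact Set.disjoint_left.mp (Ideal.disjoint_nonZeroDivisors_of_mem_minimalPrimes i.2) this hx
  · intro z
    choose e he1 he2 using (exists_sep (A := A))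
    -- write each component as a fraction
    have hz : ∀ i, ∃ (x s : A), s ∉ i.1 ∧ z i * algebraMap A (PiK A) s i = algebraMap A (PiK A) x i := by
      intro i
      obtain ⟨⟨x, s⟩, hxs⟩ := IsLocalization.surj (nonZeroDivisors (Bq A i)) (z i)
      obtain ⟨x', rfl⟩ := Ideal.Quotient.mk_surjective x
      obtain ⟨s', hs'⟩ := Ideal.Quotient.mk_surjective s.1
      refine ⟨x', s', ?_, ?_⟩
      · intro hmem
        have : s.1 = 0 := by rw [← hs']; exact Ideal.Quotient.eq_zero_iff_mem.mpr hmem
        exact nonZeroDivisors.ne_zero s.2 this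
      · rw [algebraMap_PiK_apply, algebraMap_PiK_apply, hs']
        exact hxs
    choose x s hs hxs using hz
    have hsum : ∀ (f : MinP A → A) (i : MinP A), algebraMap A (PiK A) (∑ j, e j * f j) i =
        algebraMap A (PiK A) (e i) i * algebraMap A (PiK A) (f i) i := by
      intro f i
      rw [map_sum, Finset.sum_apply, Finset.sum_eq_single i]
      · rw [map_mul]; rfl
      · intro j _ hji
        rw [map_mul, Pi.mul_apply, (algebraMap_PiK_apply_eq_zero_iff (e j) i).mpr (he2 j i hji.symm), zero_mul]
      · intro h; exact absurd (Finset.mem_univ i) h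
    have hS : (∑ j, e j * s j) ∈ nonZeroDivisors A := by
      apply nzd_of_not_mem_minimal
      intro p hp hmem
      obtain ⟨i, rfl⟩ : ∃ i : MinP A, i.1 = p := ⟨⟨p, hp⟩, rfl⟩
      have h1 := (algebraMap_PiK_apply_eq_zero_iff _ i).mpr hmem
      rw [hsum] at h1
      rcases mul_eq_zero.mp h1 with h | h
      · exact he1 i ((algebraMap_PiK_apply_eq_zero_iff _ _).mp h)
      · exact hs i ((algebraMap_PiK_apply_eq_zero_iff _ _).mp h)
    refine ⟨⟨∑ j, e j * x j, ⟨∑ j, e j * s j, hS⟩⟩, ?_⟩
    funext i
    rw [Pi.mul_apply]
    show z i * algebraMap A (PiK A) (∑ j, e j * s j) i = algebraMap A (PiK A) (∑ j, e j * x j) i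
    rw [hsum, hsum, ← hxs i]
    ring
  · intro a b hab
    exact ⟨1, by rw [injective_algebraMap_PiK hab]⟩

end stage1b

section stage2
variable {A : Type u} [CommRing A] [IsNoetherianRing A]

open scoped Classical in
theorem isIntegral_PiK_iff (y : PiK A) : IsIntegral A y ↔ ∀ i, IsIntegral (Bq A i) (y i) := by
  have : Fintype (MinP A) := Fintype.ofFinite _
  constructor
  · intro h i
    have h1 : IsIntegral A (y i) := h.map (Pi.evalAlgHom A (fun i => Kq A i) i)
    exact h1.tower_top
  · intro h
    have h1 : ∀ i, IsIntegral A (y i) := by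
      intro i
      have : Algebra.IsIntegral A (Bq A i) :=
        Algebra.isIntegral_of_surjective Ideal.Quotient.mk_surjective
      exact isIntegral_trans _ (h i)
    choose P hPm hP using h1
    refine ⟨∏ i, P i, Polynomial.monic_prod_of_monic _ _ (fun i _ => hPm i), ?_⟩
    rw [← Polynomial.aeval_def]
    funext j
    have h2 := Polynomial.aeval_algHom_apply (Pi.evalAlgHom A (fun i => Kq A i) j) y (∏ i, P i)
    rw [Pi.evalAlgHom_apply, Pi.evalAlgHom_apply] at h2
    rw [← h2, map_prod, Pi.zero_apply]
    apply Finset.prod_eq_zero (Finset.mem_univ j)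
    rw [Polynomial.aeval_def]
    exact hP j

end stage2

section stage3
variable {A : Type u} [CommRing A] [IsNoetherianRing A]

noncomputable example (i : MinP A) : Module A (integralClosure (Bq A i) (Kq A i)) := inferInstance
noncomputable example (i : MinP A) : IsScalarTower A (Bq A i) (integralClosure (Bq A i) (Kq A i)) := inferInstance

/-- the map from the product of integral closures -/
noncomputable def phiPi : (∀ i : MinP A, integralClosure (Bq A i) (Kq A i)) →ₗ[A] PiK A :=
  LinearMap.pi (fun i => ((integralClosure (Bq A i) (Kq A i)).val.toLinearMap.restrictScalars A) ∘ₗ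
    LinearMap.proj i)

theorem phiPi_apply (y : ∀ i : MinP A, integralClosure (Bq A i) (Kq A i)) (i : MinP A) :
    phiPi y i = (y i : Kq A i) := rfl

theorem range_phiPi : LinearMap.range (phiPi (A := A)) = Subalgebra.toSubmodule (integralClosure A (PiK A)) := by
  ext y
  constructor
  · rintro ⟨z, rfl⟩
    show IsIntegral A (phiPi z)
    rw [isIntegral_PiK_iff]
    intro i
    rw [phiPi_apply]
    exact (z i).2
  · intro hy
    have hy' : IsIntegral A y := hy
    rw [isIntegral_PiK_iff] at hy'
    exact ⟨fun i => ⟨y i, hy' i⟩, rfl⟩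

theorem finite_integralClosure_PiK
    (hfin : ∀ i : MinP A, Module.Finite (Bq A i) (integralClosure (Bq A i) (Kq A i))) :
    Module.Finite A (integralClosure A (PiK A)) := by
  have h1 : ∀ i : MinP A, Module.Finite A (integralClosure (Bq A i) (Kq A i)) := by
    intro i
    have := hfin i
    exact Module.Finite.trans (Bq A i) _
  have h2 : Module.Finite A (∀ i : MinP A, integralClosure (Bq A i) (Kq A i)) := Module.Finite.pi
  have h3 : (Subalgebra.toSubmodule (integralClosure A (PiK A))).FG := by
    rw [← range_phiPi, LinearMap.range_eq_map]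
    exact (Module.Finite.fg_top).map _
  exact Module.Finite.iff_fg.mpr h3

end stage3

section stage4
variable (A : Type u) [CommRing A] [IsReduced A] [IsNoetherianRing A]

/-- the total fraction ring as a product of fields -/
noncomputable def eQ : FractionRing A ≃ₐ[A] PiK A :=
  haveI := isFractionRing_PiK (A := A)
  IsLocalization.algEquiv (nonZeroDivisors A) (FractionRing A) (PiK A)

noncomputable def eInt : integralClosure A (FractionRing A) ≃ₐ[A] integralClosure A (PiK A) :=
  (eQ A).mapIntegralClosure

theorem nagata_fin (hN : CAlg.IsNagata A) (i : MinP A) :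
    Module.Finite (Bq A i) (integralClosure (Bq A i) (Kq A i)) :=
  hN.2 i.1 (Kq A i) inferInstance

theorem finite_A' (hN : CAlg.IsNagata A) : Module.Finite A (integralClosure A (FractionRing A)) := by
  have := finite_integralClosure_PiK (A := A) (nagata_fin A hN)
  exact Module.Finite.equiv (eInt A).symm.toLinearEquiv

end stage4

section lemmaG
variable {R : Type*} [CommRing R] {ι : Type*} {D : ι → Type*} [∀ i, CommRing (D i)]
  [∀ i, IsDomain (D i)] [∀ i, IsIntegrallyClosed (D i)]
  (π : ∀ i, R →+* D i) (hsurj : ∀ i, Function.Surjective (π i))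
  (hinj : ∀ x : R, (∀ i, π i x = 0) → x = 0)
  (ε : ι → R) (hε1 : ∀ i, π i (ε i) = 1) (hε0 : ∀ i j, i ≠ j → π j (ε i) = 0)

include hsurj hinj hε1 hε0 in
theorem lemmaG [Finite ι] (P : Ideal R) [P.IsPrime] :
    IsDomain (Localization.AtPrime P) ∧ IsIntegrallyClosed (Localization.AtPrime P) := by
  classical
  have : Fintype ι := Fintype.ofFinite _
  -- sum of idempotents is one
  have hsum : ∑ i, ε i = 1 := by
    rw [← sub_eq_zero]
    apply hinj
    intro j
    rw [map_sub, map_sum, map_one, Finset.sum_eq_single j]
    · rw [hε1 j, sub_self]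
    · intro i _ hij
      rw [hε0 i j hij]
    · intro h; exact absurd (Finset.mem_univ j) h
  -- some ε i ∉ P
  obtain ⟨i, hi⟩ : ∃ i, ε i ∉ P := by
    by_contra hcon
    push Not at hcon
    have : (1 : R) ∈ P := by
      rw [← hsum]
      exact Ideal.sum_mem _ (fun i _ => hcon i)
    exact (inferInstance : P.IsPrime).ne_top ((Ideal.eq_top_iff_one P).mpr this)
  -- kernel of π i is in P
  have hεmul : ∀ x : R, π i x = 0 → ε i * x = 0 := by
    intro x hx
    apply hinj
    intro j
    rw [map_mul]
    by_cases hij : i = j
    · subst hij; rw [hx, mul_zero]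
    · rw [hε0 i j hij, zero_mul]
  have hker : ∀ x : R, π i x = 0 → x ∈ P := by
    intro x hx
    have h0 : ε i * x ∈ P := by rw [hεmul x hx]; exact zero_mem _
    rcases (inferInstance : P.IsPrime).mem_or_mem h0 with h | h
    · exact absurd h hi
    · exact h
  -- image prime
  let Pi : Ideal (D i) := P.map (π i)
  have hcomap : Pi.comap (π i) = P := by
    apply le_antisymm
    · intro x hx
      have hx' : π i x ∈ P.map (π i) := hx
      rw [Ideal.mem_map_iff_of_surjective _ (hsurj i)] at hx'
      obtain ⟨y, hy, hxy⟩ := hx'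
      have : x - y ∈ P := hker _ (by rw [map_sub, hxy, sub_self])
      have := P.add_mem this hy
      simpa using this
    · exact Ideal.le_comap_map
  have hPi : Pi.IsPrime := by
    apply Ideal.map_isPrime_of_surjective (hsurj i)
    intro x hx
    exact hker x hx
  let T := Localization.AtPrime Pi
  let _ : Algebra R T := ((algebraMap (D i) T).comp (π i)).toAlgebra
  have halg : ∀ x : R, algebraMap R T x = algebraMap (D i) T (π i x) := fun x => rfl
  have hmem : ∀ x : R, x ∈ P ↔ π i x ∈ Pi := by
    intro x
    rw [← hcomap]; rfl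
  have hloc : IsLocalization.AtPrime T P := by
    refine ⟨?_, ?_, ?_⟩
    · rintro ⟨s, hs⟩
      rw [halg]
      exact IsLocalization.map_units T (⟨π i s, fun h => hs ((hmem s).mpr h)⟩ : Pi.primeCompl)
    · intro t
      obtain ⟨⟨d, u⟩, hdu⟩ := IsLocalization.surj Pi.primeCompl t
      obtain ⟨a, rfl⟩ := hsurj i d
      obtain ⟨s, hs⟩ := hsurj i u.1
      have hsP : s ∈ P.primeCompl := fun h => u.2 (by rw [← hs]; exact (hmem s).mp h)
      refine ⟨⟨a, ⟨s, hsP⟩⟩, ?_⟩
      rw [halg, halg]
      simp only [hs]
      exact hdu
    · intro a b hab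
      rw [halg, halg] at hab
      obtain ⟨u, hu⟩ := IsLocalization.exists_of_eq (M := Pi.primeCompl) hab
      obtain ⟨s, hs⟩ := hsurj i u.1
      have hsP : s ∉ P := fun h => u.2 (by rw [← hs]; exact (hmem s).mp h)
      have h0 : π i (s * (a - b)) = 0 := by
        rw [map_mul, map_sub, hs, mul_sub, hu, sub_self]
      have h1 := hεmul _ h0
      refine ⟨⟨ε i * s, ?_⟩, ?_⟩
      · intro h
        rcases (inferInstance : P.IsPrime).mem_or_mem h with h | h
        · exact hi h
        · exact hsP h
      · show ε i * s * a = ε i * s * b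
        rw [← sub_eq_zero, ← mul_sub, mul_assoc]
        exact h1
  have hle : Pi.primeCompl ≤ nonZeroDivisors (D i) := by
    intro x hx
    apply mem_nonZeroDivisors_of_ne_zero
    intro h0
    apply hx
    rw [h0]; exact zero_mem _
  have hT_ic : IsIntegrallyClosed T := isIntegrallyClosed_of_isLocalization T Pi.primeCompl hle
  have hT_dom : IsDomain T := IsLocalization.isDomain_of_le_nonZeroDivisors T hle
  let e : Localization.AtPrime P ≃ₐ[R] T := IsLocalization.algEquiv P.primeCompl _ _
  exact ⟨e.toRingEquiv.toMulEquiv.isDomain, IsIntegrallyClosed.of_equiv e.symm.toRingEquiv⟩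

end lemmaG

section stage5
variable (A : Type u) [CommRing A] [IsReduced A] [IsNoetherianRing A]

noncomputable example (i : MinP A) : IsDomain (integralClosure (Bq A i) (Kq A i)) := inferInstance
instance instIC (i : MinP A) : IsIntegrallyClosed (integralClosure (Bq A i) (Kq A i)) :=
  integralClosure.isIntegrallyClosedOfFiniteExtension (Kq A i)

/-- projection from the integral closure in the product to the i-th integral closure -/
noncomputable def piProj (i : MinP A) : integralClosure A (PiK A) →+* integralClosure (Bq A i) (Kq A i) :=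
  RingHom.codRestrict ((Pi.evalRingHom (fun i => Kq A i) i).comp (integralClosure A (PiK A)).val.toRingHom)
    (integralClosure (Bq A i) (Kq A i))
    (fun y => (isIntegral_PiK_iff y.1).mp y.2 i)

theorem piProj_coe (i : MinP A) (y : integralClosure A (PiK A)) : ((piProj A i y : integralClosure (Bq A i) (Kq A i)) : Kq A i) = y.1 i := rfl

open scoped Classical in
theorem piProj_surj (i : MinP A) : Function.Surjective (piProj A i) := by
  intro d
  have hint : IsIntegral A (Pi.single i (d : Kq A i) : PiK A) := by
    rw [isIntegral_PiK_iff]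
    intro j
    by_cases hij : j = i
    · subst hij; rw [Pi.single_eq_same]; exact d.2
    · rw [Pi.single_eq_of_ne hij]; exact isIntegral_zero
  refine ⟨⟨_, hint⟩, ?_⟩
  apply Subtype.ext
  rw [piProj_coe]
  simp

theorem piProj_inj (y : integralClosure A (PiK A)) (h : ∀ i, piProj A i y = 0) : y = 0 := by
  apply Subtype.ext
  funext i
  have := congrArg Subtype.val (h i)
  rw [piProj_coe] at this
  exact this

open scoped Classical in
theorem exists_eps (i : MinP A) : ∃ ε : integralClosure A (PiK A), piProj A i ε = 1 ∧ ∀ j, i ≠ j → piProj A j ε = 0 := by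
  have hint : IsIntegral A (Pi.single i (1 : Kq A i) : PiK A) := by
    rw [isIntegral_PiK_iff]
    intro j
    by_cases hij : j = i
    · subst hij; rw [Pi.single_eq_same]; exact isIntegral_one
    · rw [Pi.single_eq_of_ne hij]; exact isIntegral_zero
  refine ⟨⟨_, hint⟩, ?_, ?_⟩
  · apply Subtype.ext
    rw [piProj_coe]
    simp
  · intro j hij
    apply Subtype.ext
    rw [piProj_coe]
    simp [Pi.single_eq_of_ne (Ne.symm hij)]

theorem normal_localizations (P : Ideal (integralClosure A (FractionRing A))) [P.IsPrime] :
    IsDomain (Localization.AtPrime P) ∧ IsIntegrallyClosed (Localization.AtPrime P) := by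
  choose ε hε1 hε0 using exists_eps A
  refine lemmaG (fun i => (piProj A i).comp (eInt A).toAlgHom.toRingHom) ?_ ?_
    (fun i => (eInt A).symm (ε i)) ?_ ?_ P
  · intro i
    exact (piProj_surj A i).comp (eInt A).surjective
  · intro x hx
    have := piProj_inj A (eInt A x) hx
    exact (eInt A).injective (by rw [this, map_zero])
  · intro i
    show piProj A i (eInt A ((eInt A).symm (ε i))) = 1
    rw [AlgEquiv.apply_symm_apply]; exact hε1 i
  · intro i j hij
    show piProj A j (eInt A ((eInt A).symm (ε i))) = 0
    rw [AlgEquiv.apply_symm_apply]; exact hε0 i j hij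

end stage5

section stage6
variable (A : Type u) [CommRing A]

theorem prime_cases' [IsLocalRing A] (hdim : ringKrullDim A = 1) (Q : Ideal A) (hQ : Q.IsPrime) :
    Q ∈ minimalPrimes A ∨ Q = IsLocalRing.maximalIdeal A := by
  have hdim1 : Ring.KrullDimLE 1 A := Ring.krullDimLE_iff.2 (by rw [hdim]; rfl)
  rcases Ring.krullDimLE_one_iff.1 hdim1 Q hQ with h | h
  · exact Or.inl h
  · exact Or.inr (IsLocalRing.eq_maximalIdeal h)

theorem length_quot_nzd_lt_top [IsLocalRing A] [IsNoetherianRing A] (hdim : ringKrullDim A = 1)
    (c : A) (hc : c ∈ nonZeroDivisors A) : Module.length A (A ⧸ Ideal.span {c}) ≠ ⊤ := by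
  have hdim0 : Ring.KrullDimLE 0 (A ⧸ Ideal.span {c}) := by
    rw [Ring.krullDimLE_zero_iff]
    intro J hJ
    have hcomap : (J.comap (Ideal.Quotient.mk (Ideal.span {c}))).IsPrime := Ideal.comap_isPrime _ J
    have hcmem : c ∈ J.comap (Ideal.Quotient.mk (Ideal.span {c})) := by
      rw [Ideal.mem_comap]
      have : Ideal.Quotient.mk (Ideal.span {c}) c = 0 :=
        Ideal.Quotient.eq_zero_iff_mem.mpr (Ideal.mem_span_singleton_self c)
      rw [this]; exact zero_mem _
    rcases prime_cases' A hdim _ hcomap with h | h
    · exfalso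
      exact Set.disjoint_left.mp (Ideal.disjoint_nonZeroDivisors_of_mem_minimalPrimes h) hcmem hc
    · have hmax : (J.comap (Ideal.Quotient.mk (Ideal.span {c}))).IsMaximal := by
        rw [h]; infer_instance
      have := Ideal.IsMaximal.map_of_surjective_of_ker_le (f := Ideal.Quotient.mk (Ideal.span {c}))
        Ideal.Quotient.mk_surjective (m := J.comap (Ideal.Quotient.mk (Ideal.span {c})))
        (by
          intro x hx
          rw [Ideal.mem_comap, (RingHom.mem_ker).mp hx]; exact zero_mem _)
      rwa [Ideal.map_comap_of_surjective _ Ideal.Quotient.mk_surjective] at this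
  have hart : IsArtinianRing (A ⧸ Ideal.span {c}) := isArtinianRing_iff_krullDimLE_zero.mpr hdim0
  have : IsArtinian A (A ⧸ Ideal.span {c}) :=
    isArtinian_of_surjective_algebraMap (R := A ⧸ Ideal.span {c}) (S := A) Ideal.Quotient.mk_surjective
  exact Module.length_ne_top

end stage6

section stage6b
variable (A : Type u) [CommRing A]

local notation "Q" => FractionRing A
local notation "A'" => integralClosure A (FractionRing A)

theorem exists_conductor [Module.Finite A A'] :
    ∃ c ∈ nonZeroDivisors A, ∀ y : A', ∃ a : A, algebraMap A Q a = c • (y : Q) := by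
  obtain ⟨s, hs⟩ := (Module.Finite.fg_top : (⊤ : Submodule A A').FG)
  classical
  obtain ⟨b, hb⟩ := IsLocalization.exist_integer_multiples_of_finset (nonZeroDivisors A)
    (s.image (fun y : A' => (y : Q)))
  refine ⟨b.1, b.2, ?_⟩
  intro y
  have hy : y ∈ Submodule.span A (s : Set A') := by rw [hs]; trivial
  induction hy using Submodule.span_induction with
  | mem x hx =>
    obtain ⟨a, ha⟩ := hb (x : Q) (Finset.mem_image_of_mem _ hx)
    exact ⟨a, ha⟩
  | zero => exact ⟨0, by simp⟩
  | add x y _ _ hx hy =>
    obtain ⟨a, ha⟩ := hx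
    obtain ⟨a', ha'⟩ := hy
    refine ⟨a + a', ?_⟩
    rw [map_add, ha, ha']
    simp [smul_add]
  | smul r x _ hx =>
    obtain ⟨a, ha⟩ := hx
    refine ⟨r * a, ?_⟩
    rw [map_mul, ha]
    show algebraMap A Q r * (b.1 • (x : Q)) = b.1 • (r • (x : Q))
    rw [Algebra.smul_def, Algebra.smul_def, Algebra.smul_def]
    ring

theorem delta_lt_top [IsLocalRing A] [IsNoetherianRing A] (hdim : ringKrullDim A = 1)
    [Module.Finite A A'] : Curv2.deltaInv A < ⊤ := by
  obtain ⟨c, hc, hcA⟩ := exists_conductor A
  have hinjQ : Function.Injective (algebraMap A Q) := IsLocalization.injective _ (le_refl _)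
  choose g hg using hcA
  -- g : A' → A with algebraMap (g y) = c • y
  have hg_add : ∀ x y, g (x + y) = g x + g y := by
    intro x y
    apply hinjQ
    rw [map_add, hg, hg, hg]
    simp [smul_add]
  have hg_smul : ∀ (r : A) x, g (r • x) = r * g x := by
    intro r x
    apply hinjQ
    rw [map_mul, hg, hg]
    show c • (r • (x : Q)) = algebraMap A Q r * (c • (x : Q))
    rw [Algebra.smul_def, Algebra.smul_def, Algebra.smul_def]
    ring
  let ψ : A' →ₗ[A] A ⧸ Ideal.span {c} :=
    { toFun := fun y => Ideal.Quotient.mk _ (g y)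
      map_add' := fun x y => by rw [hg_add, map_add]
      map_smul' := fun r x => by rw [hg_smul, map_mul]; rfl }
  have hker : LinearMap.range (Algebra.linearMap A A') ≤ LinearMap.ker ψ := by
    rintro _ ⟨a, rfl⟩
    rw [LinearMap.mem_ker]
    show Ideal.Quotient.mk _ (g (algebraMap A A' a)) = 0
    rw [Ideal.Quotient.eq_zero_iff_mem, Ideal.mem_span_singleton]
    refine ⟨a, ?_⟩
    apply hinjQ
    rw [hg, map_mul, Algebra.smul_def]
    rfl
  have hinj : Function.Injective ((LinearMap.range (Algebra.linearMap A A')).liftQ ψ hker) := by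
    rw [← LinearMap.ker_eq_bot, Submodule.ker_liftQ_eq_bot']
    apply le_antisymm hker
    intro y hy
    rw [LinearMap.mem_ker] at hy
    have hy' : Ideal.Quotient.mk (Ideal.span {c}) (g y) = 0 := hy
    rw [Ideal.Quotient.eq_zero_iff_mem, Ideal.mem_span_singleton] at hy'
    obtain ⟨a, ha⟩ := hy'
    refine ⟨a, ?_⟩
    apply Subtype.ext
    show algebraMap A Q a = (y : Q)
    have hunit : IsUnit (algebraMap A Q c) := IsLocalization.map_units Q ⟨c, hc⟩
    apply hunit.mul_left_cancel
    rw [← map_mul, ← ha, hg, Algebra.smul_def]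
  have hle := Module.length_le_of_injective _ hinj
  unfold Curv2.deltaInv
  exact lt_of_le_of_lt hle (lt_top_iff_ne_top.mpr (length_quot_nzd_lt_top A hdim c hc))

end stage6b

theorem final52 (A : Type u) [CommRing A] [IsLocalRing A]
    [IsReduced A] (hN : CAlg.IsNagata A) (hdim : ringKrullDim A = 1) :
    Module.Finite A (integralClosure A (FractionRing A)) ∧
      (∀ p : PrimeSpectrum (integralClosure A (FractionRing A)),
        IsDomain (Localization.AtPrime p.asIdeal) ∧ IsIntegrallyClosed (Localization.AtPrime p.asIdeal)) ∧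
      Curv2.deltaInv A < ⊤ := by
  have : IsNoetherianRing A := hN.1
  have hfin := finite_A' A hN
  refine ⟨hfin, ?_, ?_⟩
  · intro p
    exact normal_localizations A p.asIdeal
  · exact delta_lt_top A hdim

end Helpers

/-- For a reduced local Nagata ring (A, m) of Krull dimension one, write A' for the integral closure of
A in its total fraction ring. Then A' is a finite A-module, every localization of A' at a prime is
an integrally closed domain, and the quotient A'/A is an A-module of finite length. (The published
statement also says that A' is Nagata, which follows from the finiteness of A' over A; this row does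
not restate it.) -/
theorem result (A : Type u) [CommRing A] [IsLocalRing A]
    [IsReduced A] (hN : CAlg.IsNagata A) (hdim : ringKrullDim A = 1) :
    Module.Finite A (integralClosure A (FractionRing A)) ∧
      (∀ p : PrimeSpectrum (integralClosure A (FractionRing A)),
        IsDomain (Localization.AtPrime p.asIdeal) ∧ IsIntegrallyClosed (Localization.AtPrime p.asIdeal)) ∧
      Curv2.deltaInv A < ⊤ := by
  exact final52 A hN hdim

end Groth.Agent.S7652
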