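import Groth.Statements.S12463
import Groth.Agent.S7652
import Groth.Agent.Lib.Helper39.Wedge
import Groth.Agent.Lib.Helper39.Branch
import Groth.Agent.Lib.Helper39.CurveVal
import Groth.Agent.Lib.Helper11.IntegralDim
-- import your own Groth.Agent.* helpers here

set_option autoImplicit false
universe u
open Variety

namespace Groth.Agent.S12463

section Helpers

set_option autoImplicit false
open Variety

namespace T12463

open IsLocalRing Groth.Agent.Lib.Helper39

theorem ringHom_eq_of_sepClosed {κ K Ω : Type*} [Field κ] [IsSepClosed κ] [CommRing K]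
    (hK : IsField K) [Field Ω]
    (φ : κ →+* K) (halg : ∀ y : K, φ.IsIntegralElem y) (σ₁ σ₂ : K →+* Ω)
    (h : σ₁.comp φ = σ₂.comp φ) : σ₁ = σ₂ := by
  let _ : Field K := hK.toField
  let _ : Algebra κ K := φ.toAlgebra
  have : Algebra.IsAlgebraic κ K := ⟨fun y => IsIntegral.isAlgebraic (halg y)⟩
  have hpi : IsPurelyInseparable κ K := inferInstance
  exact IsPurelyInseparable.injective_comp_algebraMap κ K Ω h

theorem emb_subsingleton (A : Type u) [CommRing A] [IsLocalRing A]
    [IsSepClosed (ResidueField A)] (m' : MaximalSpectrum (CAlg2.normRed A)) :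
    Subsingleton (Brnch.Emb A m') := by
  constructor
  rintro ⟨σ₁, h₁⟩ ⟨σ₂, h₂⟩
  apply Subtype.ext
  show σ₁ = σ₂
  have hK : IsField (CAlg2.normRed A ⧸ m'.asIdeal) :=
    (Ideal.Quotient.maximal_ideal_iff_isField_quotient _).mp m'.isMaximal
  have hval : ∀ (σ : CAlg2.normRed A ⧸ m'.asIdeal →+* AlgebraicClosure (ResidueField A)),
      σ.comp (Brnch.toResidue A m') = Brnch.toClosure A →
      ∀ a : A, σ (Brnch.toResidue A m' a) = Brnch.toClosure A a := by
    intro σ h a
    exact congrArg (fun ψ : A →+* AlgebraicClosure (ResidueField A) => ψ a) h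
  have hinj : Function.Injective σ₁ := by
    let _ : Field (CAlg2.normRed A ⧸ m'.asIdeal) := hK.toField
    exact σ₁.injective
  have hker : ∀ a ∈ maximalIdeal A, Brnch.toResidue A m' a = 0 := by
    intro a ha
    apply hinj
    rw [map_zero, hval σ₁ h₁]
    unfold Brnch.toClosure
    rw [RingHom.comp_apply, (residue_eq_zero_iff a).mpr ha, map_zero]
  let φ : ResidueField A →+* (CAlg2.normRed A ⧸ m'.asIdeal) :=
    Ideal.Quotient.lift (maximalIdeal A) (Brnch.toResidue A m') hker
  have hφ : ∀ a : A, φ (residue A a) = Brnch.toResidue A m' a := fun a => rfl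
  -- red A → κ
  have hnil : ∀ a ∈ nilradical A, residue A a = 0 := by
    intro a ha
    have : IsNilpotent (residue A a) := IsNilpotent.map ha _
    exact this.eq_zero
  let ρ : CAlg2.red A →+* ResidueField A := Ideal.Quotient.lift (nilradical A) (residue A) hnil
  have hρ : φ.comp ρ = (Ideal.Quotient.mk m'.asIdeal).comp
      (algebraMap (CAlg2.red A) (CAlg2.normRed A)) := by
    apply RingHom.ext
    intro z
    obtain ⟨a, rfl⟩ := Ideal.Quotient.mk_surjective z
    rfl
  have halg : ∀ y : CAlg2.normRed A ⧸ m'.asIdeal, φ.IsIntegralElem y := by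
    intro y
    obtain ⟨x, rfl⟩ := Ideal.Quotient.mk_surjective y
    obtain ⟨p, hp, hpx⟩ := Algebra.IsIntegral.isIntegral (R := CAlg2.red A) x
    refine ⟨p.map ρ, hp.map ρ, ?_⟩
    rw [Polynomial.eval₂_map, hρ, ← Polynomial.hom_eval₂, hpx, map_zero]
  refine ringHom_eq_of_sepClosed (K := CAlg2.normRed A ⧸ m'.asIdeal) hK φ halg σ₁ σ₂ ?_
  apply RingHom.ext
  intro z
  obtain ⟨a, rfl⟩ := residue_surjective z
  show σ₁ (φ (residue A a)) = σ₂ (φ (residue A a))
  rw [hφ, hval σ₁ h₁, hval σ₂ h₂]

theorem numGeom_le_card (A : Type u) [CommRing A] [IsLocalRing A]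
    [IsSepClosed (ResidueField A)] [IsReduced A] [IsNoetherianRing A] :
    Brnch.numGeomBranches A ≤
      ENat.card (MaximalSpectrum (integralClosure A (FractionRing A))) := by
  classical
  unfold Brnch.numGeomBranches
  split_ifs with hfin
  swap
  · exact absurd (minimalPrimes.finite_of_isNoetherianRing A) hfin
  have h1 : ENat.card (Σ m' : MaximalSpectrum (CAlg2.normRed A), Brnch.Emb A m') ≤
      ENat.card (MaximalSpectrum (CAlg2.normRed A)) := by
    apply ENat.card_le_card_of_injective (f := Sigma.fst)
    rintro ⟨m1, σ1⟩ ⟨m2, σ2⟩ h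
    obtain rfl : m1 = m2 := h
    have := emb_subsingleton A m1
    rw [Subsingleton.elim σ1 σ2]
  refine h1.trans ?_
  have hbot : nilradical A = ⊥ := nilradical_eq_bot_iff.mpr inferInstance
  let e0 : A ≃+* CAlg2.red A :=
    (RingEquiv.quotientBot A).symm.trans (Ideal.quotEquivOfEq hbot.symm)
  obtain ⟨ψ, hψs, -⟩ := Branch.exists_surjective_integralClosure_map e0
  apply ENat.card_le_card_of_injective
    (f := fun m' : MaximalSpectrum (CAlg2.normRed A) =>
      (⟨m'.asIdeal.comap ψ, Ideal.comap_isMaximal_of_surjective ψ hψs (H := m'.isMaximal)⟩ :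
        MaximalSpectrum (integralClosure A (FractionRing A))))
  intro m1 m2 h
  apply MaximalSpectrum.ext
  have := congrArg MaximalSpectrum.asIdeal h
  exact Ideal.comap_injective_of_surjective ψ hψs this

section DVR
variable (A : Type u) [CommRing A] [IsLocalRing A] [IsReduced A] [IsNoetherianRing A]

theorem exists_nzd_mem_maximalIdeal (hdim : ringKrullDim A = 1) :
    ∃ a ∈ maximalIdeal A, a ∈ nonZeroDivisors A := by
  classical
  by_contra hcon
  have hfin := minimalPrimes.finite_of_isNoetherianRing A
  have hsub : ((maximalIdeal A : Ideal A) : Set A) ⊆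
      ⋃ p ∈ ((hfin.toFinset : Finset (Ideal A)) : Set (Ideal A)), (p : Set A) := by
    intro a ha
    by_contra hnot
    apply hcon
    refine ⟨a, ha, Groth.Agent.S7652.nzd_of_not_mem_minimal a ?_⟩
    intro p hp hap
    apply hnot
    simp only [Set.mem_iUnion]
    exact ⟨p, by simpa using hp, hap⟩
  rw [Ideal.subset_union_prime (R := A) (f := fun p : Ideal A => p) ⊥ ⊥] at hsub
  swap
  · intro p hp _ _
    exact ((Set.Finite.mem_toFinset hfin).mp hp).1.1
  obtain ⟨p, hp, hle⟩ := hsub
  have hp' : p ∈ minimalPrimes A := (Set.Finite.mem_toFinset hfin).mp hp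
  have hpeq : p = maximalIdeal A :=
    ((maximalIdeal.isMaximal A).eq_of_le hp'.1.1.ne_top hle).symm
  have h0 : Ring.KrullDimLE 0 A := by
    rw [Ring.krullDimLE_zero_iff]
    intro q hq
    have hqle : q ≤ p := hpeq ▸ le_maximalIdeal hq.ne_top
    have : q = p := le_antisymm hqle (hp'.2 ⟨hq, bot_le⟩ hqle)
    rw [this, hpeq]
    infer_instance
  have := Ring.krullDimLE_iff.mp h0
  rw [hdim] at this
  exact absurd this (by decide)

theorem comap_maximal (m' : MaximalSpectrum (integralClosure A (FractionRing A))) :
    m'.asIdeal.comap (algebraMap A (integralClosure A (FractionRing A))) = maximalIdeal A := by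
  have := m'.isMaximal
  have h := Ideal.isMaximal_comap_of_isIntegral_of_isMaximal (R := A) m'.asIdeal
  exact IsLocalRing.eq_maximalIdeal h

theorem dvr_localization (hN : CAlg.IsNagata A) (hdim : ringKrullDim A = 1)
    (m' : MaximalSpectrum (integralClosure A (FractionRing A))) :
    ∃ _ : IsDomain (Localization.AtPrime m'.asIdeal),
      IsDiscreteValuationRing (Localization.AtPrime m'.asIdeal) := by
  obtain ⟨hfin, hloc, -⟩ := Groth.Agent.S7652.result A hN hdim
  obtain ⟨hdom, hic⟩ := hloc ⟨m'.asIdeal, m'.isMaximal.isPrime⟩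
  refine ⟨hdom, ?_⟩
  have hNoeth' : IsNoetherianRing (integralClosure A (FractionRing A)) :=
    IsNoetherianRing.of_finite A _
  have hNoethLoc : IsNoetherianRing (Localization.AtPrime m'.asIdeal) :=
    IsLocalization.isNoetherianRing m'.asIdeal.primeCompl _ hNoeth'
  have hle : ringKrullDim (Localization.AtPrime m'.asIdeal) ≤ 1 := by
    have hmp : m'.asIdeal.IsPrime := m'.isMaximal.isPrime
    rw [IsLocalization.AtPrime.ringKrullDim_eq_height m'.asIdeal
      (Localization.AtPrime m'.asIdeal), ← hdim]
    exact Ideal.height_le_ringKrullDim_of_isPrime.trans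
      Groth.Agent.Lib.Helper11.IntegralDim.ringKrullDim_le_of_isIntegral
  have hnf : ¬ IsField (Localization.AtPrime m'.asIdeal) := by
    intro hf
    obtain ⟨a, ham, hnzd⟩ := exists_nzd_mem_maximalIdeal A hdim
    have hmp : m'.asIdeal.IsPrime := m'.isMaximal.isPrime
    have hb : algebraMap A (integralClosure A (FractionRing A)) a ∈ m'.asIdeal := by
      rw [← Ideal.mem_comap, comap_maximal A m']; exact ham
    have hc : algebraMap (integralClosure A (FractionRing A)) (Localization.AtPrime m'.asIdeal)
        (algebraMap A (integralClosure A (FractionRing A)) a) ∈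
        maximalIdeal (Localization.AtPrime m'.asIdeal) :=
      (IsLocalization.AtPrime.to_map_mem_maximal_iff _ m'.asIdeal _).mpr hb
    rw [IsLocalRing.isField_iff_maximalIdeal_eq.mp hf, Ideal.mem_bot,
      IsLocalization.map_eq_zero_iff m'.asIdeal.primeCompl] at hc
    obtain ⟨⟨s, hs⟩, hsb⟩ := hc
    have hs0 : s = 0 := by
      apply Subtype.ext
      have h1 : (s : FractionRing A) * algebraMap A (FractionRing A) a = 0 := by
        have := congrArg (Subtype.val) hsb
        simpa using this
      have hu : IsUnit (algebraMap A (FractionRing A) a) :=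
        IsLocalization.map_units (FractionRing A) (⟨a, hnzd⟩ : nonZeroDivisors A)
      exact (hu.mul_left_eq_zero).mp h1
    apply hs
    rw [hs0]
    exact zero_mem _
  have hdimLoc : ringKrullDim (Localization.AtPrime m'.asIdeal) = 1 := by
    have : ¬ ringKrullDim (Localization.AtPrime m'.asIdeal) ≤ 0 := fun h ↦ by
      have : Ring.KrullDimLE 0 (Localization.AtPrime m'.asIdeal) := Ring.krullDimLE_iff.mpr h
      exact hnf Ring.KrullDimLE.isField_of_isDomain
    exact le_antisymm hle (Order.succ_le_of_lt (lt_of_not_ge this))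
  exact CurveVal.isDiscreteValuationRing_of_dim_one _ hdimLoc

end DVR

theorem main12463 (A : Type u) [CommRing A] [HenselianLocalRing A]
    [IsSepClosed (IsLocalRing.ResidueField A)] [IsReduced A] (hN : CAlg.IsNagata A) (hdim : ringKrullDim A = 1)
    (heq : Curv2.deltaInv A + 1 = Brnch.numGeomBranches A) :
    (∀ m' : MaximalSpectrum ↥(integralClosure A (FractionRing A)),
        (∃ _ : IsDomain (Localization.AtPrime m'.asIdeal), IsDiscreteValuationRing (Localization.AtPrime m'.asIdeal)) ∧
        Function.Surjective (⇑(IsLocalRing.residue (Localization.AtPrime m'.asIdeal)) ∘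
          ⇑(algebraMap ↥(integralClosure A (FractionRing A)) (Localization.AtPrime m'.asIdeal)) ∘
          ⇑(algebraMap A ↥(integralClosure A (FractionRing A))))) ∧
    ∀ a' : ↥(integralClosure A (FractionRing A)),
      (∃ a : A, ∀ m' : MaximalSpectrum ↥(integralClosure A (FractionRing A)),
          a' - algebraMap A _ a ∈ m'.asIdeal) →
      a' ∈ (algebraMap A ↥(integralClosure A (FractionRing A))).range := by
  have hNoeth : IsNoetherianRing A := hN.1
  obtain ⟨hfin, hloc, hδ⟩ := Groth.Agent.S7652.result A hN hdim
  have hge : Module.length A (↥(integralClosure A (FractionRing A)) ⧸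
      LinearMap.range (Algebra.linearMap A ↥(integralClosure A (FractionRing A)))) + 1 ≤
      ENat.card (MaximalSpectrum ↥(integralClosure A (FractionRing A))) := by
    have := numGeom_le_card A
    rw [← heq] at this
    exact this
  have hW := Wedge.wedge_main (A := A) (N := integralClosure A (FractionRing A))
    (ne_of_lt hδ) (comap_maximal A) hge
  refine ⟨fun m' => ⟨dvr_localization A hN hdim m', ?_⟩, hW.2⟩
  intro y
  have := m'.isMaximal
  let e := IsLocalization.AtPrime.equivQuotMaximalIdeal m'.asIdeal
    (Localization.AtPrime m'.asIdeal)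
  obtain ⟨a, ha⟩ := hW.1 m' (e.symm y)
  refine ⟨a, ?_⟩
  have h1 : e (Ideal.Quotient.mk m'.asIdeal
      (algebraMap A (integralClosure A (FractionRing A)) a)) = y := by
    rw [RingHom.comp_apply] at ha
    rw [ha]
    exact e.apply_symm_apply y
  rw [← h1]
  rfl

end T12463

end Helpers

/-- Let (A, m) be a strictly henselian reduced Nagata local ring of dimension one with δ-invariant equal
to the number of geometric branches minus one, and A' the integral closure of A in its total ring of
fractions. Then A is a wedge of discrete valuation rings: for every maximal ideal m' of A' the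
localization A'_{m'} is a discrete valuation ring whose residue field is the image of A, and A
consists exactly of the elements of A' congruent to an element of A modulo every maximal ideal of A'
(the displayed inclusion; the reverse inclusion is trivial). (The inequality δ ≥ branches − 1 of the
published statement holds for every reduced Nagata local ring of dimension one and is not restated.) -/
theorem result (A : Type u) [CommRing A] [HenselianLocalRing A]
    [IsSepClosed (IsLocalRing.ResidueField A)] [IsReduced A] (hN : CAlg.IsNagata A) (hdim : ringKrullDim A = 1)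
    (heq : Curv2.deltaInv A + 1 = Brnch.numGeomBranches A) :
    (∀ m' : MaximalSpectrum ↥(integralClosure A (FractionRing A)),
        (∃ _ : IsDomain (Localization.AtPrime m'.asIdeal), IsDiscreteValuationRing (Localization.AtPrime m'.asIdeal)) ∧
        Function.Surjective (⇑(IsLocalRing.residue (Localization.AtPrime m'.asIdeal)) ∘
          ⇑(algebraMap ↥(integralClosure A (FractionRing A)) (Localization.AtPrime m'.asIdeal)) ∘
          ⇑(algebraMap A ↥(integralClosure A (FractionRing A))))) ∧
    ∀ a' : ↥(integralClosure A (FractionRing A)),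
      (∃ a : A, ∀ m' : MaximalSpectrum ↥(integralClosure A (FractionRing A)),
          a' - algebraMap A _ a ∈ m'.asIdeal) →
      a' ∈ (algebraMap A ↥(integralClosure A (FractionRing A))).range := by
  exact T12463.main12463 A hN hdim heq

end Groth.Agent.S12463
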