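import Groth.Statements.S7654
import Groth.Agent.S7652
import Groth.Agent.S12463
import Groth.Agent.Lib.Helper39.DeltaBC.Main
import Groth.Agent.Lib.Helper39.DeltaBC.Red
import Groth.Agent.Lib.Helper37.Hz20
import Groth.Agent.Lib.Helper63.CompletionNoeth
-- import your own Groth.Agent.* helpers here

set_option autoImplicit false
universe u
open CategoryTheory CategoryTheory.Limits AlgebraicGeometry
open Variety

namespace Groth.Agent.S7654

section Helpers

set_option autoImplicit false
open Variety

namespace T7654

open IsLocalRing TensorProduct Groth.Agent.Lib.Helper39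

/-- the canonical map from the normalization of `A` to the total fraction ring of a flat
`A`-algebra `B`. -/
noncomputable def psi (A B : Type u) [CommRing A] [CommRing B] [Algebra A B] [Module.Flat A B] :
    integralClosure A (FractionRing A) →ₐ[A] FractionRing B :=
  have h : nonZeroDivisors A ≤ (nonZeroDivisors B).comap (algebraMap A B) := by
    intro a ha
    rw [Submonoid.mem_comap, mem_nonZeroDivisors_iff_right]
    intro z hz
    have h1 : IsSMulRegular B a := Module.Flat.isSMulRegular_of_nonZeroDivisors ha
    apply h1.right_eq_zero_of_smul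
    rw [Algebra.smul_def, mul_comm]
    exact hz
  ({ toRingHom := IsLocalization.map (FractionRing B) (algebraMap A B) h
     commutes' := fun a => by
      show IsLocalization.map (FractionRing B) (algebraMap A B) h (algebraMap A _ a) = _
      rw [IsLocalization.map_eq, ← IsScalarTower.algebraMap_apply] } :
      FractionRing A →ₐ[A] FractionRing B).comp
    (integralClosure A (FractionRing A)).val

theorem deltaInv_eq_of_flat (A B : Type u) [CommRing A] [CommRing B] [IsLocalRing A]
    [IsLocalRing B] [Algebra A B] [Module.Flat A B] [IsNoetherianRing B] [IsReduced A]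
    (hN : CAlg.IsNagata A) (hdim : ringKrullDim A = 1)
    (hm : (maximalIdeal A).map (algebraMap A B) = maximalIdeal B)
    (hred : ∀ (m' : Ideal (integralClosure A (FractionRing A))) [m'.IsMaximal],
      IsReduced (B ⊗[A] (integralClosure A (FractionRing A) ⧸ m'))) :
    Curv2.deltaInv B = Curv2.deltaInv A := by
  have hNoeth : IsNoetherianRing A := hN.1
  obtain ⟨hfin, hloc, hδ⟩ := Groth.Agent.S7652.result A hN hdim
  have hdvr : ∀ (m' : Ideal (integralClosure A (FractionRing A))) [m'.IsMaximal],
      ∃ _ : IsDomain (Localization.AtPrime m'),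
        IsDiscreteValuationRing (Localization.AtPrime m') := by
    intro m' hm'
    exact Groth.Agent.S12463.T12463.dvr_localization A hN hdim ⟨m', hm'⟩
  obtain ⟨c, hcnzd, hc⟩ := Groth.Agent.S7652.exists_conductor A
  have hcunit : IsUnit (algebraMap A (FractionRing A) c) :=
    IsLocalization.map_units (FractionRing A) (⟨c, hcnzd⟩ : nonZeroDivisors A)
  have hcreg : IsSMulRegular (integralClosure A (FractionRing A)) c := by
    apply IsSMulRegular.of_right_eq_zero_of_smul
    intro y hy
    apply Subtype.ext
    have h1 : algebraMap A (FractionRing A) c * (y : FractionRing A) = 0 := by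
      have := congrArg Subtype.val hy
      rw [← Algebra.smul_def]
      exact this
    exact (hcunit.mul_right_eq_zero).mp h1
  have hc' : ∀ y : integralClosure A (FractionRing A),
      ∃ a : A, algebraMap A (integralClosure A (FractionRing A)) a = c • y := by
    intro y
    obtain ⟨a, ha⟩ := hc y
    exact ⟨a, Subtype.ext ha⟩
  have hfl : IsFiniteLength A (integralClosure A (FractionRing A) ⧸
      LinearMap.range (Algebra.linearMap A (integralClosure A (FractionRing A)))) :=
    Module.length_ne_top_iff.mp (ne_of_lt hδ)
  exact DeltaBC.length_integralClosure_quot_eq hm hdvr hred c hcreg hc' hfl (FractionRing B)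
    (psi A B)

theorem isReduced_of_residue (A B : Type u) [CommRing A] [CommRing B] [IsLocalRing A]
    [IsLocalRing B] [Algebra A B]
    (hm : (maximalIdeal A).map (algebraMap A B) = maximalIdeal B)
    (hres : ∀ x : B, ∃ r : A, x - algebraMap A B r ∈ maximalIdeal B)
    (m' : Ideal (integralClosure A (FractionRing A))) [hm' : m'.IsMaximal] :
    IsReduced (B ⊗[A] (integralClosure A (FractionRing A) ⧸ m')) := by
  apply DeltaBC.isReduced_tensor_of_residue_surjective
    ((Ideal.Quotient.maximal_ideal_iff_isField_quotient _).mp hm') hm hres
  intro a ha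
  have hcomap : m'.comap (algebraMap A (integralClosure A (FractionRing A))) = maximalIdeal A :=
    IsLocalRing.eq_maximalIdeal (Ideal.isMaximal_comap_of_isIntegral_of_isMaximal (R := A) m')
  rw [IsScalarTower.algebraMap_apply A (integralClosure A (FractionRing A)),
    Ideal.Quotient.algebraMap_eq, Ideal.Quotient.eq_zero_iff_mem, ← Ideal.mem_comap, hcomap]
  exact ha

theorem main7654 (A : Type u) [CommRing A] [IsLocalRing A]
    [IsReduced A] (hN : CAlg.IsNagata A) (hdim : ringKrullDim A = 1) :
    (∀ (B : Type u) [CommRing B] [IsLocalRing B] [Algebra A B] [IsLocalHom (algebraMap A B)],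
        Hensel.IsHenselization A B → Curv2.deltaInv B = Curv2.deltaInv A) ∧
      (∀ (B : Type u) [CommRing B] [IsLocalRing B] [Algebra A B] [IsLocalHom (algebraMap A B)],
        Hensel.IsStrictHenselization A B → Curv2.deltaInv B = Curv2.deltaInv A) ∧
      Curv2.deltaInv (Curv2.cpl A) = Curv2.deltaInv A := by
  have hNoeth : IsNoetherianRing A := hN.1
  refine ⟨?_, ?_, ?_⟩
  · intro B _ _ _ _ hB
    have hff := Groth.Agent.Lib.Helper37.Hz.faithfullyFlat_of_isHenselization A B
    have hflat : Module.Flat A B := inferInstance
    have hNB : IsNoetherianRing B :=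
      (Groth.Agent.Lib.Helper37.Hz.isNoetherianRing_iff_of_isHenselization A B).mp hNoeth
    have hm := Groth.Agent.Lib.Helper37.Hz.map_maximalIdeal_of_isHenselization A B
    exact deltaInv_eq_of_flat A B hN hdim hm (fun m' _ => isReduced_of_residue A B hm
      (Groth.Agent.Lib.Helper37.Hz.exists_sub_mem_maximalIdeal_of_isHenselization A B) m')
  · intro B _ _ _ _ hB
    have hff := Groth.Agent.Lib.Helper37.Hz.faithfullyFlat_of_isStrictHenselization A B
    have hflat : Module.Flat A B := inferInstance
    have hNB : IsNoetherianRing B :=
      (Groth.Agent.Lib.Helper37.Hz.isNoetherianRing_iff_of_isStrictHenselization A B).mp hNoeth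
    have hm := Groth.Agent.Lib.Helper37.Hz.map_maximalIdeal_of_isStrictHenselization A B
    have hsep : Algebra.IsSeparable (ResidueField A) (ResidueField B) := hB.isSepClosure.separable
    refine deltaInv_eq_of_flat A B hN hdim hm (fun m' hm' => ?_)
    apply DeltaBC.isReduced_tensor_of_residue_separable
      ((Ideal.Quotient.maximal_ideal_iff_isField_quotient _).mp hm') hm hsep
    intro a ha
    have hcomap : m'.comap (algebraMap A (integralClosure A (FractionRing A))) = maximalIdeal A :=
      IsLocalRing.eq_maximalIdeal (Ideal.isMaximal_comap_of_isIntegral_of_isMaximal (R := A) m')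
    rw [IsScalarTower.algebraMap_apply A (integralClosure A (FractionRing A)),
      Ideal.Quotient.algebraMap_eq, Ideal.Quotient.eq_zero_iff_mem, ← Ideal.mem_comap, hcomap]
    exact ha
  · have hNB : IsNoetherianRing (Curv2.cpl A) :=
      Groth.Agent.Lib.Helper63.CompletionNoeth.isNoetherianRing_adicCompletion A _
    have hm : (maximalIdeal A).map (algebraMap A (Curv2.cpl A)) = maximalIdeal (Curv2.cpl A) :=
      AdicCompletion.maximalIdeal_eq_map.symm
    have hres : ∀ x : Curv2.cpl A, ∃ r : A, x - algebraMap A (Curv2.cpl A) r ∈
        maximalIdeal (Curv2.cpl A) := by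
      intro x
      obtain ⟨z, hz⟩ := (AdicCompletion.residueField_map_bijective A).2 (residue _ x)
      obtain ⟨r, rfl⟩ := residue_surjective z
      refine ⟨r, ?_⟩
      rw [ResidueField.map_residue] at hz
      rw [← residue_eq_zero_iff, map_sub, hz, sub_self]
    exact deltaInv_eq_of_flat A (Curv2.cpl A) hN hdim hm
      (fun m' _ => isReduced_of_residue A (Curv2.cpl A) hm hres m')

end T7654

end Helpers

/-- For a reduced local Nagata ring A of Krull dimension one, the δ-invariant does not change on passing
to a henselization of A, to a strict henselization of A, or to the completion of A. -/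
theorem result (A : Type u) [CommRing A] [IsLocalRing A]
    [IsReduced A] (hN : CAlg.IsNagata A) (hdim : ringKrullDim A = 1) :
    (∀ (B : Type u) [CommRing B] [IsLocalRing B] [Algebra A B] [IsLocalHom (algebraMap A B)],
        Hensel.IsHenselization A B → Curv2.deltaInv B = Curv2.deltaInv A) ∧
      (∀ (B : Type u) [CommRing B] [IsLocalRing B] [Algebra A B] [IsLocalHom (algebraMap A B)],
        Hensel.IsStrictHenselization A B → Curv2.deltaInv B = Curv2.deltaInv A) ∧
      Curv2.deltaInv (Curv2.cpl A) = Curv2.deltaInv A := by
  exact T7654.main7654 A hN hdim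

end Groth.Agent.S7654
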