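import Groth.Statements.S10915
import Mathlib

set_option autoImplicit false
set_option linter.style.haveILetI false
universe u
open ProjDeg

namespace Groth.Agent.S10915

open MvPolynomial

section general

variable {ι A σ : Type*} [CommRing A] [AddCommMonoid ι] [LinearOrder ι]
  [IsOrderedCancelAddMonoid ι] [SetLike σ A]
  [AddSubmonoidClass σ A] (𝒜 : ι → σ) [GradedRing 𝒜]

/-- minimal primes of a homogeneous ideal are homogeneous -/
lemma isHomogeneous_of_mem_minimalPrimes {J P : Ideal A} (hJ : J.IsHomogeneous 𝒜)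
    (hP : P ∈ J.minimalPrimes) : P.IsHomogeneous 𝒜 := by
  have hc := hP.1.1.homogeneousCore (𝒜 := 𝒜)
  have h1 : J ≤ (P.homogeneousCore 𝒜).toIdeal := by
    rw [← hJ.toIdeal_homogeneousCore_eq_self]
    exact Ideal.homogeneousCore_mono 𝒜 hP.1.2
  have h2 := hP.2 ⟨hc, h1⟩ (Ideal.toIdeal_homogeneousCore_le 𝒜 P)
  have : (P.homogeneousCore 𝒜).toIdeal = P :=
    le_antisymm (Ideal.toIdeal_homogeneousCore_le 𝒜 P) h2
  rw [← this]; exact (P.homogeneousCore 𝒜).isHomogeneous

end general

variable {k : Type u} [Field k] {n : ℕ}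

lemma mem_irr_iff (f : MvPolynomial (Fin (n + 1)) k) :
    f ∈ idealOfVars (Fin (n + 1)) k ↔ constantCoeff f = 0 := by
  have := mem_pow_idealOfVars_iff' (σ := Fin (n + 1)) (R := k) 1 f
  rw [pow_one] at this
  rw [this]
  constructor
  · intro h
    exact h 0 (by simp)
  · intro h x hx
    have : x = 0 := by
      ext i
      have := Finsupp.le_degree i x
      simp at this ⊢
      omega
    subst this
    exact h

lemma irr_eq_ker : idealOfVars (Fin (n + 1)) k = RingHom.ker (constantCoeff (σ := Fin (n + 1)) (R := k)) := by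
  ext f
  rw [mem_irr_iff, RingHom.mem_ker]

lemma irr_isMaximal : (idealOfVars (Fin (n + 1)) k).IsMaximal := by
  rw [irr_eq_ker]
  exact RingHom.ker_isMaximal_of_surjective _ (fun c => ⟨C c, by simp⟩)

lemma le_irr_of_isHomogeneous {J : Ideal (MvPolynomial (Fin (n + 1)) k)}
    (hJ : J.IsHomogeneous (CohB1.polyGrading n k)) (hne : J ≠ ⊤) :
    J ≤ idealOfVars (Fin (n + 1)) k := by
  intro f hf
  rw [mem_irr_iff]
  by_contra hc
  apply hne
  have h0 := hJ 0 hf
  classical
  have : (DirectSum.decompose (CohB1.polyGrading n k) f 0 : MvPolynomial (Fin (n + 1)) k)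
      = C (constantCoeff f) := by
    have := decomposition.decompose'_apply f 0
    rw [homogeneousComponent_zero] at this
    exact this
  rw [this] at h0
  rw [Ideal.eq_top_iff_one]
  have : (1 : MvPolynomial (Fin (n + 1)) k) = C (constantCoeff f)⁻¹ * C (constantCoeff f) := by
    rw [← C_mul, inv_mul_cancel₀ hc, C_1]
  rw [this]
  exact J.mul_mem_left _ h0


/-- if every minimal prime of `J` is the irrelevant ideal then it lies in the radical -/
lemma irr_le_radical_of_minimalPrimes {J : Ideal (MvPolynomial (Fin (n + 1)) k)}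
    (h : ∀ P ∈ J.minimalPrimes, P = idealOfVars (Fin (n + 1)) k) :
    idealOfVars (Fin (n + 1)) k ≤ J.radical := by
  rw [← Ideal.sInf_minimalPrimes]
  exact le_sInf (fun P hP => (h P hP).ge)

lemma minimalPrime_le_irr {J P : Ideal (MvPolynomial (Fin (n + 1)) k)}
    (hJ : J.IsHomogeneous (CohB1.polyGrading n k)) (hP : P ∈ J.minimalPrimes) :
    P ≤ idealOfVars (Fin (n + 1)) k :=
  le_irr_of_isHomogeneous (isHomogeneous_of_mem_minimalPrimes _ hJ hP) hP.1.1.ne_top

lemma irr_le_radical_of_dim_zero {J : Ideal (MvPolynomial (Fin (n + 1)) k)}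
    (hJ : J.IsHomogeneous (CohB1.polyGrading n k)) (hle : J ≤ idealOfVars (Fin (n + 1)) k)
    (hdim : ringKrullDim (MvPolynomial (Fin (n + 1)) k ⧸ J) ≤ ((0 : ℕ) : WithBot ℕ∞)) :
    idealOfVars (Fin (n + 1)) k ≤ J.radical := by
  apply irr_le_radical_of_minimalPrimes
  intro P hP
  have hPle := minimalPrime_le_irr hJ hP
  rw [ringKrullDim_quotient, Nat.cast_zero, Order.krullDim_nonpos_iff_forall_isMax] at hdim
  haveI := hP.1.1
  haveI : (idealOfVars (Fin (n + 1)) k).IsPrime := irr_isMaximal.isPrime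
  let a : PrimeSpectrum.zeroLocus (R := MvPolynomial (Fin (n + 1)) k) J := ⟨⟨P, hP.1.1⟩, hP.1.2⟩
  let b : PrimeSpectrum.zeroLocus (R := MvPolynomial (Fin (n + 1)) k) J :=
    ⟨⟨idealOfVars (Fin (n + 1)) k, inferInstance⟩, hle⟩
  have hab : a ≤ b := hPle
  have hba : b ≤ a := hdim a hab
  exact le_antisymm hPle hba

/-- the linear form with coefficient vector `c` -/
noncomputable def lin (c : Fin (n + 1) → k) : MvPolynomial (Fin (n + 1)) k :=
  Fintype.linearCombination k (X : Fin (n + 1) → MvPolynomial (Fin (n + 1)) k) c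

lemma lin_isHomogeneous (c : Fin (n + 1) → k) : (lin c).IsHomogeneous 1 := by
  rw [lin, Fintype.linearCombination_apply, ← mem_homogeneousSubmodule]
  refine Submodule.sum_mem _ (fun i _ => Submodule.smul_mem _ _ ?_)
  rw [mem_homogeneousSubmodule]
  exact isHomogeneous_X k i

lemma lin_mem_irr (c : Fin (n + 1) → k) : lin c ∈ idealOfVars (Fin (n + 1)) k := by
  rw [mem_irr_iff, lin, Fintype.linearCombination_apply, map_sum]
  refine Finset.sum_eq_zero (fun i _ => ?_)
  rw [smul_eq_C_mul, map_mul]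
  simp

lemma exists_lin_notMem [Infinite k] (T : Finset (Ideal (MvPolynomial (Fin (n + 1)) k)))
    (hT : ∀ P ∈ T, ∃ i, (X i : MvPolynomial (Fin (n + 1)) k) ∉ P) :
    ∃ c : Fin (n + 1) → k, ∀ P ∈ T, lin c ∉ P := by
  classical
  let W : Ideal (MvPolynomial (Fin (n + 1)) k) → Subspace k (Fin (n + 1) → k) := fun P =>
    (P.restrictScalars k).comap
      (Fintype.linearCombination k (X : Fin (n + 1) → MvPolynomial (Fin (n + 1)) k))
  have hs : ⊤ ∉ T.image W := by
    intro h
    obtain ⟨P, hP, hW⟩ := Finset.mem_image.mp h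
    obtain ⟨i, hi⟩ := hT P hP
    apply hi
    have : Pi.single i (1 : k) ∈ W P := by rw [hW]; trivial
    simpa [W] using this
  have := Subspace.biUnion_ne_univ_of_top_notMem hs
  obtain ⟨c, hc⟩ := (Set.ne_univ_iff_exists_notMem _).mp this
  refine ⟨c, fun P hP hmem => hc ?_⟩
  simp only [Set.mem_iUnion]
  exact ⟨W P, Finset.mem_image_of_mem _ hP, hmem⟩


/-- the dimension drops after adding an element avoiding all minimal primes -/
lemma dim_drop {J : Ideal (MvPolynomial (Fin (n + 1)) k)} {d : ℕ}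
    (hdim : ringKrullDim (MvPolynomial (Fin (n + 1)) k ⧸ J) ≤ ((d + 1 : ℕ) : WithBot ℕ∞))
    (h₀ : MvPolynomial (Fin (n + 1)) k) (hh : ∀ P ∈ J.minimalPrimes, h₀ ∉ P) :
    ringKrullDim (MvPolynomial (Fin (n + 1)) k ⧸ (J ⊔ Ideal.span {h₀})) ≤ ((d : ℕ) : WithBot ℕ∞) := by
  rw [ringKrullDim_quotient] at hdim ⊢
  refine iSup_le fun l => ?_
  have hl : J ≤ l.head.1.asIdeal := fun a ha => l.head.2 (Ideal.mem_sup_left ha)
  obtain ⟨p, hp, hp'⟩ := Ideal.exists_minimalPrimes_le hl
  let f : PrimeSpectrum.zeroLocus (R := MvPolynomial (Fin (n + 1)) k) ↑(J ⊔ Ideal.span {h₀}) →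
      PrimeSpectrum.zeroLocus (R := MvPolynomial (Fin (n + 1)) k) ↑J :=
    fun x => ⟨x.1, fun a ha => x.2 (Ideal.mem_sup_left ha)⟩
  have hf : StrictMono f := fun _ _ h => h
  let p' : PrimeSpectrum.zeroLocus (R := MvPolynomial (Fin (n + 1)) k) ↑J :=
    ⟨⟨p, hp.1.1⟩, hp.1.2⟩
  have hmem : h₀ ∈ l.head.1.asIdeal :=
    l.head.2 (Ideal.mem_sup_right (Ideal.mem_span_singleton_self h₀))
  have hlt : p' < (l.map f hf).head := by
    refine lt_of_le_of_ne hp' (fun h => hh p hp ?_)
    have : p = l.head.1.asIdeal := by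
      have := congrArg (fun x => x.1.asIdeal) h
      simpa [p', f] using this
    rw [this]; exact hmem
  have := Order.LTSeries.length_le_krullDim ((l.map f hf).cons p' hlt)
  have h2 := this.trans hdim
  simp only [RelSeries.cons_length, LTSeries.map_length] at h2
  have h3 : l.length + 1 ≤ d + 1 := by exact_mod_cast h2
  exact_mod_cast Nat.le_of_succ_le_succ h3


theorem claim [Infinite k] (d : ℕ) : ∀ (J : Ideal (MvPolynomial (Fin (n + 1)) k)),
    J.IsHomogeneous (CohB1.polyGrading n k) → J ≤ idealOfVars (Fin (n + 1)) k →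
    ringKrullDim (MvPolynomial (Fin (n + 1)) k ⧸ J) ≤ ((d : ℕ) : WithBot ℕ∞) →
    ∃ h : Fin d → MvPolynomial (Fin (n + 1)) k, (∀ i, (h i).IsHomogeneous 1) ∧
      idealOfVars (Fin (n + 1)) k ≤ (J ⊔ Ideal.span (Set.range h)).radical := by
  induction d with
  | zero =>
    intro J hJ hle hdim
    refine ⟨Fin.elim0, fun i => i.elim0, ?_⟩
    have : Set.range (Fin.elim0 : Fin 0 → MvPolynomial (Fin (n + 1)) k) = ∅ := Set.range_eq_empty _
    rw [this, Ideal.span_empty, sup_bot_eq]
    exact irr_le_radical_of_dim_zero hJ hle hdim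
  | succ d ih =>
    intro J hJ hle hdim
    by_cases hm : idealOfVars (Fin (n + 1)) k ∈ J.minimalPrimes
    · refine ⟨fun _ => 0, fun _ => isHomogeneous_zero _ _ _, ?_⟩
      have h1 : idealOfVars (Fin (n + 1)) k ≤ J.radical := by
        apply irr_le_radical_of_minimalPrimes
        intro P hP
        have hPle := minimalPrime_le_irr hJ hP
        exact le_antisymm hPle (hm.2 hP.1 hPle)
      exact h1.trans (Ideal.radical_mono le_sup_left)
    · classical
      have hfin := Ideal.finite_minimalPrimes_of_isNoetherianRing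
        (MvPolynomial (Fin (n + 1)) k) J
      have hT : ∀ P ∈ hfin.toFinset, ∃ i, (X i : MvPolynomial (Fin (n + 1)) k) ∉ P := by
        intro P hP
        rw [Set.Finite.mem_toFinset] at hP
        by_contra hc
        rw [not_exists] at hc
        simp only [not_not] at hc
        have h1 : idealOfVars (Fin (n + 1)) k ≤ P := by
          rw [Ideal.span_le]
          rintro _ ⟨i, rfl⟩
          exact hc i
        have := irr_isMaximal.eq_of_le hP.1.1.ne_top h1
        exact hm (this ▸ hP)
      obtain ⟨c, hc⟩ := exists_lin_notMem hfin.toFinset hT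
      have hc' : ∀ P ∈ J.minimalPrimes, lin c ∉ P := fun P hP =>
        hc P (hfin.mem_toFinset.mpr hP)
      have hdrop := dim_drop hdim (lin c) hc'
      have hJ' : (J ⊔ Ideal.span {lin c}).IsHomogeneous (CohB1.polyGrading n k) := by
        refine hJ.sup (Ideal.homogeneous_span _ _ ?_)
        intro x hx
        rw [Set.mem_singleton_iff] at hx
        subst hx
        exact ⟨1, (mem_homogeneousSubmodule _ _).mpr (lin_isHomogeneous c)⟩
      have hle' : J ⊔ Ideal.span {lin c} ≤ idealOfVars (Fin (n + 1)) k := by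
        refine sup_le hle ?_
        rw [Ideal.span_le, Set.singleton_subset_iff]
        exact lin_mem_irr c
      obtain ⟨h', hh', hrad⟩ := ih _ hJ' hle' hdrop
      refine ⟨Fin.cons (lin c) h', ?_, ?_⟩
      · intro i
        refine Fin.cases ?_ (fun j => ?_) i
        · simpa using lin_isHomogeneous c
        · simpa using hh' j
      · rw [Fin.range_cons, Ideal.span_insert, ← sup_assoc]
        exact hrad

/-- Let k be an algebraically closed field, R = k[X_0, …, X_n] graded by degree, and I a homogeneous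
prime ideal with dim R/I = r + 1, so that X = V_+(I) ⊆ P^n_k is a projective variety of dimension r.
Then there are r + 1 linear forms h_1, …, h_{r+1} (homogeneous of degree 1) whose common zero set in
P^n_k does not meet X, i.e. the ideal I + (h_1, …, h_{r+1}) contains some power of the irrelevant
ideal (X_0, …, X_n). (The published statement says that a generic linear subspace of dimension n − r
− 1 misses X; this row asserts only that one such subspace, cut out by r + 1 linear forms, exists.) -/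
theorem result (k : Type u) [Field k] [IsAlgClosed k]
    (n r : ℕ) (I : Ideal (MvPolynomial (Fin (n + 1)) k)) (hIh : I.IsHomogeneous (CohB1.polyGrading n k)) [I.IsPrime]
    (hdim : ringKrullDim (MvPolynomial (Fin (n + 1)) k ⧸ I) = (r : WithBot ℕ∞) + 1) :
    ∃ h : Fin (r + 1) → MvPolynomial (Fin (n + 1)) k, (∀ i, (h i).IsHomogeneous 1) ∧
      ∃ N : ℕ, (Ideal.span (Set.range (MvPolynomial.X : Fin (n + 1) → MvPolynomial (Fin (n + 1)) k))) ^ N ≤
        I ⊔ Ideal.span (Set.range h) := by
  have hne : I ≠ ⊤ := Ideal.IsPrime.ne_top ‹_›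
  have hle := le_irr_of_isHomogeneous hIh hne
  have hd : ringKrullDim (MvPolynomial (Fin (n + 1)) k ⧸ I) ≤ ((r + 1 : ℕ) : WithBot ℕ∞) := by
    rw [hdim]; push_cast; exact le_rfl
  obtain ⟨h, hh, hrad⟩ := claim (r + 1) I hIh hle hd
  exact ⟨h, hh, Ideal.exists_pow_le_of_le_radical_of_fg hrad (idealOfVars_fg _ _)⟩

end Groth.Agent.S10915
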