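import Groth.Statements.S9412
import Mathlib

set_option autoImplicit false
universe u
open EGA4

namespace Groth.Agent.S9412

open scoped TensorProduct

/-- a localization of a normal ring is normal -/
theorem isNormalRing_of_isLocalization {C : Type u} [CommRing C] (T : Submonoid C) (D : Type u) [CommRing D]
    [Algebra C D] [IsLocalization T D] (h : EGA4.IsNormalRing C) : EGA4.IsNormalRing D := by
  intro q hq
  have hloc : IsLocalization.AtPrime (Localization.AtPrime q) (q.comap (algebraMap C D)) :=
    IsLocalization.isLocalization_isLocalization_atPrime_isLocalization T (Localization.AtPrime q) q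
  obtain ⟨hdom, hic⟩ := h (q.comap (algebraMap C D))
  let e : Localization.AtPrime (q.comap (algebraMap C D)) ≃ₐ[C] Localization.AtPrime q :=
    IsLocalization.algEquiv (q.comap (algebraMap C D)).primeCompl _ _
  exact ⟨e.toRingEquiv.symm.toMulEquiv.isDomain _, IsIntegrallyClosed.of_equiv e.toRingEquiv⟩

end Groth.Agent.S9412

namespace Groth.Agent.S9412

open scoped TensorProduct

/-- A localization of a geometrically normal algebra over a field k is geometrically normal over k. -/
theorem result (k : Type u) [Field k] (A : Type u) [CommRing A]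
    [Algebra k A] (M : Submonoid A) (B : Type u) [CommRing B] [Algebra A B] [IsLocalization M B]
    [Algebra k B] [IsScalarTower k A B] (h : EGA4.IsGeomNormal k A) :
    EGA4.IsGeomNormal k B := by
  intro k' _ _ hfin
  have hC := h k' hfin
  let g : (k' ⊗[k] A) →ₐ[k'] (k' ⊗[k] B) :=
    Algebra.TensorProduct.map (AlgHom.id k' k') (IsScalarTower.toAlgHom k A B)
  letI : Algebra (k' ⊗[k] A) (k' ⊗[k] B) := g.toRingHom.toAlgebra
  haveI : IsScalarTower k' (k' ⊗[k] A) (k' ⊗[k] B) := IsScalarTower.of_algebraMap_eq' (by
    ext x
    change _ = g (algebraMap k' _ x)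
    rw [AlgHom.commutes])
  have H : (algebraMap (k' ⊗[k] A) (k' ⊗[k] B)).comp Algebra.TensorProduct.includeRight.toRingHom =
      Algebra.TensorProduct.includeRight.toRingHom.comp (algebraMap A B) := by
    ext a
    change g ((1 : k') ⊗ₜ[k] a) = (1 : k') ⊗ₜ[k] (algebraMap A B a)
    simp [g]
  have hloc := IsLocalization.tensorProduct_tensorProduct_right k k' M B H
  exact isNormalRing_of_isLocalization
    (M.map (Algebra.TensorProduct.includeRight (R := k) (A := k'))) (k' ⊗[k] B) hC

end Groth.Agent.S9412
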