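import Groth.Statements.S1967
import Groth.Agent.Lib.Helper10.WENormal
-- import your own Groth.Agent.* helpers here

set_option autoImplicit false
universe u
open TensorProduct
open EtAlg

namespace Groth.Agent.S1967

/-- If A is an integrally closed domain with fraction field K and B is weakly etale over A, then every
element of B ⊗_A K that is integral over B (via b ↦ b ⊗ 1) already comes from B. -/
theorem result (A : Type u) [CommRing A] [IsDomain A] [IsIntegrallyClosed A]
    (K : Type u) [Field K] [Algebra A K] [IsFractionRing A K] (B : Type u) [CommRing B] [Algebra A B]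
    [Algebra.WeaklyEtale A B] :
    IsIntegrallyClosedIn B (B ⊗[A] K) := by
  rw [isIntegrallyClosedIn_iff]
  refine ⟨?_, ?_⟩
  · -- injectivity of `b ↦ b ⊗ 1`
    have h1 : Function.Injective ((Algebra.linearMap A K).lTensor B) :=
      Module.Flat.lTensor_preserves_injective_linearMap (M := B) (Algebra.linearMap A K)
        (IsFractionRing.injective A K)
    have h2 : Function.Injective (TensorProduct.rid A B).symm := (TensorProduct.rid A B).symm.injective
    have h3 : (algebraMap B (B ⊗[A] K) : B → B ⊗[A] K) =
        ((Algebra.linearMap A K).lTensor B) ∘ (TensorProduct.rid A B).symm := by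
      funext b
      simp [Algebra.TensorProduct.algebraMap_apply]
    rw [h3]
    exact h1.comp h2
  · intro x hx
    obtain ⟨b, hb⟩ := Groth.Agent.Lib.Helper10.WE.exists_eq_tmul_one_of_isIntegral A K B x hx
    exact ⟨b, by rw [hb, Algebra.TensorProduct.algebraMap_apply]; rfl⟩

end Groth.Agent.S1967
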