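import Groth.Statements.S0708
import Groth.Agent.Lib.Helper4.EtaleLift

set_option autoImplicit false
open CategoryTheory CategoryTheory.Limits AlgebraicGeometry Opposite Topology
universe u
open ProEtW

namespace Groth.Agent.S0708

open Groth.Agent.Lib.Helper4.EtaleLift

/-- Let A be a ring all of whose faithfully flat etale algebras have retractions, I an ideal with zero
set Z, and B a localization of A at a multiplicative subset such that the image of Spec B → Spec A
is precisely the set of points of Spec A specializing to some point of Z. Then every faithfully flat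
etale B-algebra has a retraction. -/
theorem result (A B : Type u) [CommRing A] [CommRing B]
    [Algebra A B] (S : Submonoid A) [IsLocalization S B] (I : Ideal A)
    (hB : Set.range (PrimeSpectrum.comap (algebraMap A B)) =
      {x | ∃ z : PrimeSpectrum A, z ∈ PrimeSpectrum.zeroLocus (R := A) I ∧ x ⤳ z})
    (hA : ProEtW.HasEtaleRetractions A) : ProEtW.HasEtaleRetractions B := by
  intro C _ _ hff het
  let _ : Algebra A C := ((algebraMap B C).comp (algebraMap A B)).toAlgebra
  have : IsScalarTower A B C := IsScalarTower.of_algebraMap_eq (fun _ => rfl)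
  obtain ⟨C₀, _, _, hCet, ⟨ψ⟩, hdesc⟩ :=
    exists_etale_descent (A₀ := A) (A := B) (C := C)
      (fun ι _ p => hlift_of_isLocalization S ι p)
  have hI : PrimeSpectrum.zeroLocus (I : Set A) ⊆
      Set.range (PrimeSpectrum.comap (algebraMap A C₀)) := by
    intro p hp
    have hpB : p ∈ Set.range (PrimeSpectrum.comap (algebraMap A B)) := by
      rw [hB]; exact ⟨p, hp, specializes_rfl⟩
    obtain ⟨pb, hpb⟩ := hpB
    obtain ⟨q, hq⟩ := PrimeSpectrum.comap_surjective_of_faithfullyFlat (A := B) (B := C) pb
    refine ⟨PrimeSpectrum.comap ψ.toRingHom q, ?_⟩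
    rw [← PrimeSpectrum.comap_comp_apply, ← hpb, ← hq, ← PrimeSpectrum.comap_comp_apply]
    congr 1
    ext a
    simp [IsScalarTower.algebraMap_apply A B C]
  obtain ⟨f, hf, hff'⟩ := exists_faithfullyFlat_prod_away A C₀ I hI
  have het' : Algebra.Etale A (C₀ × Localization.Away f) := etale_prod A C₀ (Localization.Away f)
  obtain ⟨ρ⟩ := hA (C₀ × Localization.Away f) hff' het'
  have hrad : algebraMap A B f ∈ Ideal.jacobson (⊥ : Ideal B) := by
    rw [Ideal.jacobson, Ideal.mem_sInf]
    rintro n ⟨-, hn⟩
    have hnp : n.IsPrime := hn.isPrime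
    let x : PrimeSpectrum B := ⟨n, hnp⟩
    have hx : PrimeSpectrum.comap (algebraMap A B) x ∈
        {x | ∃ z : PrimeSpectrum A, z ∈ PrimeSpectrum.zeroLocus (R := A) I ∧ x ⤳ z} := by
      rw [← hB]; exact ⟨x, rfl⟩
    obtain ⟨z, hzI, hxz⟩ := hx
    have hzB : z ∈ Set.range (PrimeSpectrum.comap (algebraMap A B)) := by
      rw [hB]; exact ⟨z, hzI, specializes_rfl⟩
    obtain ⟨x', rfl⟩ := hzB
    have hle : (PrimeSpectrum.comap (algebraMap A B) x).asIdeal ≤
        (PrimeSpectrum.comap (algebraMap A B) x').asIdeal :=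
      (PrimeSpectrum.le_iff_specializes _ _).mpr hxz
    have hnn' : n ≤ x'.asIdeal := by
      have h1 := Ideal.map_mono (f := algebraMap A B) hle
      rw [PrimeSpectrum.comap_asIdeal, PrimeSpectrum.comap_asIdeal,
        IsLocalization.map_under S B, IsLocalization.map_under S B] at h1
      exact h1
    have heq : n = x'.asIdeal := hn.eq_of_le x'.isPrime.ne_top hnn'
    have : f ∈ (PrimeSpectrum.comap (algebraMap A B) x').asIdeal := hzI hf
    rw [PrimeSpectrum.comap_asIdeal, Ideal.mem_comap, ← heq] at this
    exact this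
  obtain ⟨r'⟩ := exists_algHom_of_prod_away (A := A) (E := C₀) (T := B) f hrad
    ((Algebra.ofId A B).comp ρ)
  exact hdesc B r'

end Groth.Agent.S0708
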