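import Groth.Statements.S0675
import Groth.Agent.Lib.Helper4.EtaleLift
import Groth.Agent.S0708

set_option autoImplicit false
open CategoryTheory CategoryTheory.Limits AlgebraicGeometry Opposite Topology
universe u
open ProEtW

namespace Groth.Agent.S0675

open Groth.Agent.Lib.Helper4.EtaleLift Polynomial IsLocalRing

theorem exists_retraction_of_local {R : Type u} [CommRing R] [IsLocalRing R]
    (h : ProEtW.HasEtaleRetractions R) (E : Type u) [CommRing E] [Algebra R E] [Algebra.Etale R E]
    (hE : closedPoint R ∈ Set.range (PrimeSpectrum.comap (algebraMap R E))) :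
    Nonempty (E →ₐ[R] R) := by
  have hU := isOpen_range_comap R E
  have : Module.FaithfullyFlat R E := by
    apply Module.FaithfullyFlat.of_comap_surjective
    intro p
    exact (specializes_closedPoint p).mem_open hU hE
  exact h E this inferInstance

theorem closedPoint_mem_range {R : Type u} [CommRing R] [IsLocalRing R] (E : Type u) [CommRing E]
    [Algebra R E] {K : Type*} [Field K] [Algebra R K]
    (hK : ∀ x ∈ maximalIdeal R, algebraMap R K x = 0) (φ : E →ₐ[R] K) :
    closedPoint R ∈ Set.range (PrimeSpectrum.comap (algebraMap R E)) := by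
  refine ⟨⟨RingHom.ker φ.toRingHom, RingHom.ker_isPrime _⟩, ?_⟩
  apply PrimeSpectrum.ext
  symm
  apply (IsLocalRing.maximalIdeal.isMaximal R).eq_of_le
  · exact (PrimeSpectrum.comap (algebraMap R E) ⟨RingHom.ker φ.toRingHom, RingHom.ker_isPrime _⟩).isPrime.ne_top
  · intro x hx
    change φ (algebraMap R E x) = 0
    rw [AlgHom.commutes]
    exact hK x hx

theorem henselian_of_local {R : Type u} [CommRing R] [IsLocalRing R]
    (h : ProEtW.HasEtaleRetractions R) : HenselianLocalRing R := by
  refine { is_henselian := ?_ }
  intro f hf a₀ h₁ h₂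
  set G := f /ₘ (X - C a₀) with hG
  have hfG : f = (X - C a₀) * G + C (f.eval a₀) := by
    have := modByMonic_add_div f (X - C a₀)
    rw [modByMonic_X_sub_C_eq_C_eval] at this
    rw [hG]
    conv_lhs => rw [← this]
    ring
  have hGa : G.eval a₀ = f.derivative.eval a₀ := by
    have h1 := congrArg (fun q => (derivative q).eval a₀) hfG
    simp only [derivative_add, derivative_mul, derivative_sub, derivative_X, derivative_C,
      sub_zero, one_mul, add_zero, eval_add, eval_mul, eval_sub, eval_X, eval_C, sub_self,
      zero_mul] at h1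
    exact h1.symm
  let P : StandardEtalePair R := ⟨f, hf, derivative f * G, ⟨G, 0, 1, by ring⟩⟩
  have hmap : P.HasMap (residue R a₀) := by
    have haeval : ∀ q : R[X], aeval (residue R a₀) q = residue R (q.eval a₀) := by
      intro q
      change aeval (algebraMap R (ResidueField R) a₀) q = algebraMap R (ResidueField R) (q.eval a₀)
      rw [aeval_algebraMap_apply, coe_aeval_eq_eval]
    refine ⟨?_, ?_⟩
    · change aeval _ f = 0
      rw [haeval]
      exact (residue_eq_zero_iff _).mpr h₁
    · change IsUnit (aeval _ (derivative f * G))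
      rw [haeval, eval_mul, hGa]
      exact (h₂.mul h₂).map _
  have hE := closedPoint_mem_range P.Ring (K := ResidueField R)
    (fun x hx => (residue_eq_zero_iff x).mpr hx) (P.lift _ hmap)
  obtain ⟨τ⟩ := exists_retraction_of_local h P.Ring hE
  have hX := P.hasMap_X.map τ
  set a := τ P.X with ha
  have hX1 : f.eval a = 0 := by
    have := hX.1
    change aeval a f = 0 at this
    rwa [coe_aeval_eq_eval] at this
  have hX2 : IsUnit (G.eval a) := by
    have := hX.2
    change IsUnit (aeval a (derivative f * G)) at this
    rw [coe_aeval_eq_eval, eval_mul] at this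
    exact isUnit_of_mul_isUnit_right this
  refine ⟨a, hX1, ?_⟩
  have h3 : (a - a₀) * G.eval a = - f.eval a₀ := by
    have := congrArg (fun q => q.eval a) hfG
    simp only [eval_add, eval_mul, eval_sub, eval_X, eval_C] at this
    rw [hX1] at this
    linear_combination -this
  have h4 : (a - a₀) * G.eval a ∈ maximalIdeal R := by
    rw [h3]; exact neg_mem h₁
  rcases (Ideal.IsPrime.mem_or_mem inferInstance h4) with h5 | h5
  · exact h5
  · exact absurd hX2 ((mem_maximalIdeal _).mp h5)

theorem sepClosed_of_local {R : Type u} [CommRing R] [IsLocalRing R]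
    (h : ProEtW.HasEtaleRetractions R) : IsSepClosed (ResidueField R) := by
  apply IsSepClosed.of_exists_root
  intro p hpm hpi hps
  have hlift : p ∈ lifts (residue R) := by
    rw [mem_lifts]
    exact Polynomial.map_surjective _ (residue_surjective) p
  obtain ⟨f, hfp, -, hfm⟩ := lifts_and_natDegree_eq_and_monic hlift hpm
  let P : StandardEtalePair R := ⟨f, hfm, derivative f, ⟨1, 0, 1, by ring⟩⟩
  have : Fact (Irreducible p) := ⟨hpi⟩
  have haeval : ∀ q : R[X], aeval (AdjoinRoot.root p) q = AdjoinRoot.mk p (q.map (residue R)) := by
    intro q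
    rw [← aeval_map_algebraMap (ResidueField R), AdjoinRoot.aeval_eq]
    rfl
  have hmap : P.HasMap (AdjoinRoot.root p) := by
    refine ⟨?_, ?_⟩
    · change aeval _ f = 0
      rw [haeval, hfp, AdjoinRoot.mk_self]
    · change IsUnit (aeval _ (derivative f))
      rw [haeval, ← derivative_map, hfp]
      obtain ⟨a, b, hab⟩ := hps
      have : AdjoinRoot.mk p b * AdjoinRoot.mk p (derivative p) = 1 := by
        rw [← map_mul, ← map_one (AdjoinRoot.mk p), ← hab, map_add, map_mul _ a p,
          AdjoinRoot.mk_self, mul_zero, zero_add]
      exact IsUnit.of_mul_eq_one _ (by rw [mul_comm]; exact this)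
  have hE := closedPoint_mem_range P.Ring (K := AdjoinRoot p)
    (fun x hx => by
      rw [IsScalarTower.algebraMap_apply R (ResidueField R) (AdjoinRoot p)]
      have : algebraMap R (ResidueField R) x = 0 := (residue_eq_zero_iff x).mpr hx
      rw [this, map_zero]) (P.lift _ hmap)
  obtain ⟨τ⟩ := exists_retraction_of_local h P.Ring hE
  have hX := (P.hasMap_X.map τ).1
  change aeval (τ P.X) f = 0 at hX
  rw [coe_aeval_eq_eval] at hX
  refine ⟨residue R (τ P.X), ?_⟩
  rw [← hfp, Polynomial.eval_map, Polynomial.eval₂_hom, hX, map_zero]


/-- If every faithfully flat etale A-algebra has an A-algebra retraction, then for every maximal ideal m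
of A the localization A_m is a strictly henselian local ring (henselian with separably closed
residue field). -/
theorem result (A : Type u) [CommRing A]
    (h : ProEtW.HasEtaleRetractions A) (m : Ideal A) [m.IsMaximal] :
    EtCoh.IsStrictlyHenselianLocalRing (Localization.AtPrime m) := by
  have hB : Set.range (PrimeSpectrum.comap (algebraMap A (Localization.AtPrime m))) =
      {x | ∃ z : PrimeSpectrum A, z ∈ PrimeSpectrum.zeroLocus (R := A) m ∧ x ⤳ z} := by
    rw [PrimeSpectrum.localization_comap_range (Localization.AtPrime m) m.primeCompl]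
    ext x
    simp only [Set.mem_ofPred_eq]
    constructor
    · intro hx
      have hle : x.asIdeal ≤ m := by
        intro a ha
        by_contra ham
        exact Set.disjoint_left.mp hx (show a ∈ (m.primeCompl : Set A) from ham) ha
      refine ⟨⟨m, inferInstance⟩, ?_, ?_⟩
      · exact fun a ha => ha
      · exact (PrimeSpectrum.le_iff_specializes _ _).mp hle
    · rintro ⟨z, hz, hxz⟩
      have hmz : m = z.asIdeal :=
        (inferInstance : m.IsMaximal).eq_of_le z.isPrime.ne_top hz
      have hle : x.asIdeal ≤ z.asIdeal := (PrimeSpectrum.le_iff_specializes _ _).mpr hxz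
      rw [Set.disjoint_left]
      intro a ha hax
      exact ha (hmz ▸ hle hax)
  have hR : ProEtW.HasEtaleRetractions (Localization.AtPrime m) :=
    Groth.Agent.S0708.result A (Localization.AtPrime m) m.primeCompl m hB h
  exact ⟨henselian_of_local hR, sepClosed_of_local hR⟩

end Groth.Agent.S0675
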