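import Groth.Statements.S0678
import Groth.Agent.Lib.Helper4.LocSecStone
import Groth.Agent.Lib.Helper4.LocSecUniv
import Groth.Agent.Lib.Helper4.LocSecCompare
import Groth.Agent.Lib.Helper4.IndZariskiLocal
import Groth.Agent.Lib.Helper4.SpectralPi0

set_option autoImplicit false
open CategoryTheory CategoryTheory.Limits AlgebraicGeometry Opposite Topology
universe u
open ProEtW

namespace Groth.Agent.S0678

open Groth.Agent.Lib.Helper4 Groth.Agent.Lib.Helper4.LocSec

section Forward

variable {A : Type u} [CommRing A] (hret : ProEtW.HasIndZariskiRetractions A)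

include hret

theorem forward : ProEtW.IsWLocal (PrimeSpectrum A) ∧
    ExtremallyDisconnected (_root_.ConnectedComponents (PrimeSpectrum A)) := by
  obtain ⟨r⟩ := hret (BS A) (BS_faithfullyFlat A) (BS_isIndZariski A)
  have hp := isConsContinuous_pS A
  have hΛ := clopenBasis_ΛS A
  have hS := isOpenFamily_primeFamily hp
  have hBw := BS_isWLocal A
  haveI : T2Space (ΛS A) := inferInstance
  -- the section and the projection on spectra
  let i : PrimeSpectrum A → PrimeSpectrum (BS A) := PrimeSpectrum.comap r.toRingHom
  have hi : Continuous i := PrimeSpectrum.continuous_comap _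
  let π : PrimeSpectrum (BS A) → PrimeSpectrum A := PrimeSpectrum.comap (algebraMap A (BS A))
  have hπ : Continuous π := PrimeSpectrum.continuous_comap _
  have hπi : ∀ x, π (i x) = x := by
    intro x
    refine PrimeSpectrum.ext (Ideal.ext fun a => ?_)
    change r (algebraMap A (BS A) a) ∈ x.asIdeal ↔ a ∈ x.asIdeal
    rw [AlgHom.commutes]
    rfl
  let l : PrimeSpectrum A → ΛS A := fun x => pt hS hΛ (i x)
  have hl : Continuous l := (continuous_pt hS hΛ).comp hi
  have hle : ∀ x, x ≤ pS A (l x) := by
    intro x
    have h1 : i x ≤ cl (pS A) (l x) := le_cl hp hΛ (i x)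
    have h2 : π (i x) ≤ π (cl (pS A) (l x)) := Ideal.comap_mono h1
    rw [hπi] at h2
    have h3 : π (cl (pS A) (l x)) = pS A (l x) := comap_algebraMap_cl (p := pS A) (l x)
    rwa [h3] at h2
  have hlspec : ∀ x x', x ⤳ x' → l x = l x' := fun x x' h => (h.map hl).eq
  -- the closed specialization of `x` is `pS (l x)`
  have hmax : ∀ x (m : PrimeSpectrum A), m.asIdeal.IsMaximal → x ≤ m → m = pS A (l x) := by
    intro x m hm hxm
    have h1 : l x = l m := hlspec x m ((PrimeSpectrum.le_iff_specializes _ _).1 hxm)
    have h2 : m ≤ pS A (l x) := h1 ▸ hle m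
    exact PrimeSpectrum.ext (hm.eq_of_le (pS A (l x)).2.ne_top h2)
  have hexmax : ∀ x : PrimeSpectrum A, ∃ m : PrimeSpectrum A, m.asIdeal.IsMaximal ∧ x ≤ m := by
    intro x
    obtain ⟨M, hM, hxM⟩ := Ideal.exists_le_maximal x.asIdeal x.2.ne_top
    exact ⟨⟨M, hM.isPrime⟩, hM, hxM⟩
  have hrsurj : Function.Surjective r := fun a => ⟨algebraMap A (BS A) a, r.commutes a⟩
  have hclosed : {x : PrimeSpectrum A | IsClosed ({x} : Set (PrimeSpectrum A))} =
      i ⁻¹' {Q | IsClosed ({Q} : Set (PrimeSpectrum (BS A)))} := by
    ext x
    simp only [Set.mem_ofPred_eq, Set.mem_preimage]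
    rw [PrimeSpectrum.isClosed_singleton_iff_isMaximal, PrimeSpectrum.isClosed_singleton_iff_isMaximal]
    constructor
    · intro hx
      haveI := hx
      exact Ideal.comap_isMaximal_of_surjective r hrsurj
    · intro hix
      have h1 := eq_cl_of_isMaximal hp hΛ (i x) hix
      have h2 : x = pS A (l x) := by
        have h := congrArg π h1
        rw [hπi] at h
        exact h.trans (comap_algebraMap_cl (p := pS A) (l x))
      obtain ⟨m, hm, hxm⟩ := hexmax x
      have h3 := hmax x m hm hxm
      rw [← h2] at h3
      rw [← h3]; exact hm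
  refine ⟨⟨inferInstance, ?_, fun x => ?_⟩, ?_⟩
  · rw [hclosed]
    exact hBw.2.1.preimage hi
  · obtain ⟨m, hm, hxm⟩ := hexmax x
    refine ⟨m, ⟨(PrimeSpectrum.isClosed_singleton_iff_isMaximal _).2 hm,
      (PrimeSpectrum.le_iff_specializes _ _).1 hxm⟩, ?_⟩
    rintro m' ⟨hm', hxm'⟩
    rw [PrimeSpectrum.isClosed_singleton_iff_isMaximal] at hm'
    rw [hmax x m hm hxm, hmax x m' hm' ((PrimeSpectrum.le_iff_specializes _ _).2 hxm')]
  · -- `π₀ (Spec A)` is a retract of an extremally disconnected space
    haveI : T2Space (_root_.ConnectedComponents (PrimeSpectrum A)) :=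
      SpectralPi0.t2Space_connectedComponents
    haveI : T2Space (_root_.ConnectedComponents (PrimeSpectrum (BS A))) :=
      SpectralPi0.t2Space_connectedComponents
    haveI := BS_extremallyDisconnected A
    have hproj : CompactT2.Projective (_root_.ConnectedComponents (PrimeSpectrum A)) := by
      intro Y' Z' _ _ _ _ _ _ f g hf hg hgs
      obtain ⟨h', hh'c, hh'⟩ := (CompactT2.ExtremallyDisconnected.projective
        (A := _root_.ConnectedComponents (PrimeSpectrum (BS A))))
        (hf.comp hπ.connectedComponentsMap_continuous) hg hgs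
      refine ⟨h' ∘ hi.connectedComponentsMap, hh'c.comp hi.connectedComponentsMap_continuous, ?_⟩
      funext c
      obtain ⟨x, rfl⟩ := ConnectedComponents.surjective_coe c
      have := congrFun hh' (hi.connectedComponentsMap (ConnectedComponents.mk x))
      simp only [Function.comp_apply] at this ⊢
      rw [this, Continuous.connectedComponentsMap_mk, Continuous.connectedComponentsMap_mk, hπi]
    exact hproj.extremallyDisconnected

end Forward

section Backward

variable {A : Type u} [CommRing A] (hw : ProEtW.IsWLocal (PrimeSpectrum A))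
  (hed : ExtremallyDisconnected (_root_.ConnectedComponents (PrimeSpectrum A)))

include hw hed

theorem backward (B : Type u) [CommRing B] [Algebra A B] (hff : Module.FaithfullyFlat A B)
    (hiz : EtPBC.IsIndZariski A B) : Nonempty (B →ₐ[A] A) := by
  have hprof := isProfinite_JB hw
  haveI : CompactSpace (VI (JB A)) := hprof.1
  haveI : T2Space (VI (JB A)) := hprof.2.1
  haveI : TotallyDisconnectedSpace (VI (JB A)) := hprof.2.2
  haveI : T2Space (_root_.ConnectedComponents (PrimeSpectrum A)) :=
    SpectralPi0.t2Space_connectedComponents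
  -- the closed points are homeomorphic to `π₀`
  let f₀ : VI (JB A) → _root_.ConnectedComponents (PrimeSpectrum A) := fun z =>
    ConnectedComponents.mk z.1
  have hf₀ : Continuous f₀ := ConnectedComponents.continuous_coe.comp continuous_subtype_val
  have hf₀bij : Function.Bijective f₀ := by
    constructor
    · intro z z' h
      exact Subtype.ext (WLocal.eq_of_mk_eq hw (isClosed_of_mem_zeroLocus_JB hw z.1 z.2)
        (isClosed_of_mem_zeroLocus_JB hw z'.1 z'.2) h)
    · intro c
      obtain ⟨y, rfl⟩ := ConnectedComponents.surjective_coe c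
      obtain ⟨x, hx, -, hxy⟩ := WLocal.exists_closed_mk_eq hw y
      exact ⟨⟨x, by rw [zeroLocus_JB hw]; exact hx⟩, hxy⟩
  let e₀ : VI (JB A) ≃ₜ _root_.ConnectedComponents (PrimeSpectrum A) :=
    Continuous.homeoOfEquivCompactToT2 (f := Equiv.ofBijective f₀ hf₀bij) hf₀
  haveI : ExtremallyDisconnected (VI (JB A)) := extremallyDisconnected_of_homeo e₀.symm
  -- the space of points of `Spec B` over closed points, with the constructible topology
  let Yset : Set (Cons B) := {y | PrimeSpectrum.comap (algebraMap A B) (Cons.toSpec y) ∈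
    PrimeSpectrum.zeroLocus (R := A) (JB A)}
  have hYclosed : IsClosed Yset :=
    ((PrimeSpectrum.isClosed_zeroLocus _).preimage
      (PrimeSpectrum.continuous_comap (algebraMap A B))).preimage continuous_toSpec
  haveI : CompactSpace Yset := isCompact_iff_compactSpace.1 hYclosed.isCompact
  let g : Yset → VI (JB A) := fun y => ⟨PrimeSpectrum.comap (algebraMap A B) (Cons.toSpec y.1), y.2⟩
  have hg : Continuous g :=
    (((PrimeSpectrum.continuous_comap (algebraMap A B)).comp continuous_toSpec).comp
      continuous_subtype_val).subtype_mk _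
  have hgsurj : Function.Surjective g := by
    intro z
    obtain ⟨y, hy⟩ := PrimeSpectrum.comap_surjective_of_faithfullyFlat (A := A) (B := B) z.1
    have hyY : (y : Cons B) ∈ Yset := by
      show PrimeSpectrum.comap (algebraMap A B) y ∈ PrimeSpectrum.zeroLocus (R := A) (JB A)
      rw [hy]; exact z.2
    exact ⟨⟨y, hyY⟩, Subtype.ext hy⟩
  obtain ⟨σ, hσc, hσ⟩ := (CompactT2.ExtremallyDisconnected.projective (A := VI (JB A)))
    (continuous_id (X := VI (JB A))) hg hgsurj
  let pB : VI (JB A) → PrimeSpectrum B := fun z => Cons.toSpec (σ z).1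
  have hpB : IsConsContinuous pB := fun b =>
    ((isConsContinuous_toSpec b).preimage continuous_subtype_val).preimage hσc
  have hcontr : pContr (A := A) pB = pI (JB A) := by
    funext z
    have := congrFun hσ z
    exact congrArg Subtype.val this
  have hloc : ∀ z, Function.Bijective (Localization.localRingHom
      ((pB z).asIdeal.comap (algebraMap A B)) (pB z).asIdeal (algebraMap A B) rfl) := fun z =>
    identifiesLocalRings_of_isIndZariski hiz (pB z)
  have hΘ := ΘC_bijective (A := A) pB hpB hloc
  have hιA : Function.Bijective (algebraMap A (LS (primeFamily (pContr (A := A) pB)))) := by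
    rw [hcontr]
    exact algebraMap_BI_bijective hw
  let eA := RingEquiv.ofBijective _ hιA
  let eΘ := RingEquiv.ofBijective _ hΘ
  refine ⟨{ toRingHom := eA.symm.toRingHom.comp (eΘ.symm.toRingHom.comp
      (algebraMap B (LS (primeFamily pB))))
            commutes' := fun a => ?_ }⟩
  change eA.symm (eΘ.symm (algebraMap B (LS (primeFamily pB)) (algebraMap A B a))) = a
  rw [RingEquiv.symm_apply_eq, RingEquiv.symm_apply_eq]
  exact (ΘC_algebraMap pB a).symm

end Backward

/-- For a ring A, every faithfully flat ind-Zariski A-algebra (filtered colimit of local isomorphisms)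
has an A-algebra retraction if and only if Spec A is w-local and the space of connected components
of Spec A is extremally disconnected. -/
theorem result (A : Type u) [CommRing A] :
    ProEtW.HasIndZariskiRetractions A ↔
      (ProEtW.IsWLocal (PrimeSpectrum A) ∧
        ExtremallyDisconnected (_root_.ConnectedComponents (PrimeSpectrum A))) := by
  exact ⟨fun h => forward h, fun ⟨hw, hed⟩ B _ _ hff hiz => backward hw hed B hff hiz⟩

end Groth.Agent.S0678
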