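import Groth.Statements.S0677
import Groth.Agent.S0678
import Groth.Agent.S0675
import Groth.Agent.S0736
import Groth.Agent.Lib.Helper4.OlivierApply
import Groth.Agent.Lib.Helper4.WLocalSquare
import Groth.Agent.Lib.Helper4.LocSecStone
import Groth.Agent.Lib.Helper4.LocSecUniv
import Groth.Agent.Lib.Helper4.LocSecCompare
import Groth.Agent.Lib.Helper4.IndZariskiLocal
import Groth.Agent.Lib.Helper4.SpectralPi0

set_option autoImplicit false
open CategoryTheory CategoryTheory.Limits AlgebraicGeometry Opposite Topology
universe u
open ProEtW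

namespace Groth.Agent.S0677

set_option linter.style.haveILetI false
open Groth.Agent.Lib.Helper4 Groth.Agent.Lib.Helper4.LocSec

section Backward

variable {A : Type u} [CommRing A] (hw : ProEtW.IsWLocal (PrimeSpectrum A))
  (hed : ExtremallyDisconnected (_root_.ConnectedComponents (PrimeSpectrum A)))
  (hc : ∀ (m : Ideal A) [m.IsMaximal],
    EtCoh.IsStrictlyHenselianLocalRing (Localization.AtPrime m))

include hw hed hc

theorem backward (B : Type u) [CommRing B] [Algebra A B] (hff : Module.FaithfullyFlat A B)
    (hwe : Algebra.WeaklyEtale A B) : Nonempty (B →ₐ[A] A) := by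
  have hprof := isProfinite_JB hw
  haveI : CompactSpace (VI (JB A)) := hprof.1
  haveI : T2Space (VI (JB A)) := hprof.2.1
  haveI : TotallyDisconnectedSpace (VI (JB A)) := hprof.2.2
  haveI : T2Space (_root_.ConnectedComponents (PrimeSpectrum A)) :=
    SpectralPi0.t2Space_connectedComponents
  -- the closed points are homeomorphic to `π₀`
  let f₀ : VI (JB A) → _root_.ConnectedComponents (PrimeSpectrum A) := fun z =>
    ConnectedComponents.mk z.1
  have hf₀ : Continuous f₀ := ConnectedComponents.continuous_coe.comp continuous_subtype_val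
  have hf₀bij : Function.Bijective f₀ := by
    constructor
    · intro z z' h
      exact Subtype.ext (WLocal.eq_of_mk_eq hw (isClosed_of_mem_zeroLocus_JB hw z.1 z.2)
        (isClosed_of_mem_zeroLocus_JB hw z'.1 z'.2) h)
    · intro c
      obtain ⟨y, rfl⟩ := ConnectedComponents.surjective_coe c
      obtain ⟨x, hx, -, hxy⟩ := WLocal.exists_closed_mk_eq hw y
      exact ⟨⟨x, by rw [zeroLocus_JB hw]; exact hx⟩, hxy⟩
  let e₀ : VI (JB A) ≃ₜ _root_.ConnectedComponents (PrimeSpectrum A) :=
    Continuous.homeoOfEquivCompactToT2 (f := Equiv.ofBijective f₀ hf₀bij) hf₀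
  haveI : ExtremallyDisconnected (VI (JB A)) := extremallyDisconnected_of_homeo e₀.symm
  -- the space of points of `Spec B` over closed points, with the constructible topology
  let Yset : Set (Cons B) := {y | PrimeSpectrum.comap (algebraMap A B) (Cons.toSpec y) ∈
    PrimeSpectrum.zeroLocus (R := A) (JB A)}
  have hYclosed : IsClosed Yset :=
    ((PrimeSpectrum.isClosed_zeroLocus _).preimage
      (PrimeSpectrum.continuous_comap (algebraMap A B))).preimage continuous_toSpec
  haveI : CompactSpace Yset := isCompact_iff_compactSpace.1 hYclosed.isCompact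
  let g : Yset → VI (JB A) := fun y => ⟨PrimeSpectrum.comap (algebraMap A B) (Cons.toSpec y.1), y.2⟩
  have hg : Continuous g :=
    (((PrimeSpectrum.continuous_comap (algebraMap A B)).comp continuous_toSpec).comp
      continuous_subtype_val).subtype_mk _
  have hgsurj : Function.Surjective g := by
    intro z
    obtain ⟨y, hy⟩ := PrimeSpectrum.comap_surjective_of_faithfullyFlat (A := A) (B := B) z.1
    have hyY : (y : Cons B) ∈ Yset := by
      show PrimeSpectrum.comap (algebraMap A B) y ∈ PrimeSpectrum.zeroLocus (R := A) (JB A)
      rw [hy]; exact z.2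
    exact ⟨⟨y, hyY⟩, Subtype.ext hy⟩
  obtain ⟨σ, hσc, hσ⟩ := (CompactT2.ExtremallyDisconnected.projective (A := VI (JB A)))
    (continuous_id (X := VI (JB A))) hg hgsurj
  let pB : VI (JB A) → PrimeSpectrum B := fun z => Cons.toSpec (σ z).1
  have hpB : IsConsContinuous pB := fun b =>
    ((isConsContinuous_toSpec b).preimage continuous_subtype_val).preimage hσc
  have hcontr : pContr (A := A) pB = pI (JB A) := by
    funext z
    have := congrFun hσ z
    exact congrArg Subtype.val this
  have hloc : ∀ z, Function.Bijective (Localization.localRingHom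
      ((pB z).asIdeal.comap (algebraMap A B)) (pB z).asIdeal (algebraMap A B) rfl) := fun z => by
    have hz : (pB z).asIdeal.comap (algebraMap A B) = (z.1).asIdeal :=
      congrArg PrimeSpectrum.asIdeal (congrFun hcontr z)
    have hzmax : (z.1).asIdeal.IsMaximal :=
      (PrimeSpectrum.isClosed_singleton_iff_isMaximal _).1
        (isClosed_of_mem_zeroLocus_JB hw z.1 z.2)
    haveI hmax : ((pB z).asIdeal.comap (algebraMap A B)).IsMaximal := by rw [hz]; exact hzmax
    exact Groth.Agent.Lib.Helper4.OlivierApply.bijective_localRingHom_of_weaklyEtale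
      (pB z).asIdeal ((pB z).asIdeal.comap (algebraMap A B)) rfl
      (hc ((pB z).asIdeal.comap (algebraMap A B)))
  have hΘ := ΘC_bijective (A := A) pB hpB hloc
  have hιA : Function.Bijective (algebraMap A (LS (primeFamily (pContr (A := A) pB)))) := by
    rw [hcontr]
    exact algebraMap_BI_bijective hw
  let eA := RingEquiv.ofBijective _ hιA
  let eΘ := RingEquiv.ofBijective _ hΘ
  refine ⟨{ toRingHom := eA.symm.toRingHom.comp (eΘ.symm.toRingHom.comp
      (algebraMap B (LS (primeFamily pB))))
            commutes' := fun a => ?_ }⟩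
  change eA.symm (eΘ.symm (algebraMap B (LS (primeFamily pB)) (algebraMap A B a))) = a
  rw [RingEquiv.symm_apply_eq, RingEquiv.symm_apply_eq]
  exact (ΘC_algebraMap pB a).symm

end Backward

theorem forward {A : Type u} [CommRing A] (h : EtPBC.IsWContractible A) :
    ProEtW.IsWLocal (PrimeSpectrum A) ∧
      ExtremallyDisconnected (_root_.ConnectedComponents (PrimeSpectrum A)) ∧
      ∀ (m : Ideal A) [m.IsMaximal], EtCoh.IsStrictlyHenselianLocalRing (Localization.AtPrime m) := by
  have hiz : ProEtW.HasIndZariskiRetractions A := by
    intro B _ _ hff hB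
    exact h B hff (Groth.Agent.S0736.result A B (AlgRes.isIndEtale_of_isIndZariski hB))
  have het : ProEtW.HasEtaleRetractions A := by
    intro B _ _ hff hB
    exact h B hff inferInstance
  obtain ⟨h1, h2⟩ := (Groth.Agent.S0678.result A).1 hiz
  exact ⟨h1, h2, fun m _ => Groth.Agent.S0675.result A het m⟩


/-- A ring A is w-contractible (every faithfully flat weakly etale A-algebra has a retraction) if and
only if (a) Spec A is w-local, (b) the space of connected components of Spec A is extremally
disconnected, and (c) A_m is strictly henselian for every maximal ideal m. -/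
theorem result (A : Type u) [CommRing A] :
    EtPBC.IsWContractible A ↔
      (ProEtW.IsWLocal (PrimeSpectrum A) ∧
        ExtremallyDisconnected (_root_.ConnectedComponents (PrimeSpectrum A)) ∧
        ∀ (m : Ideal A) [m.IsMaximal], EtCoh.IsStrictlyHenselianLocalRing (Localization.AtPrime m)) := by
  refine ⟨forward, ?_⟩
  rintro ⟨hw, hed, hc⟩ B _ _ hff hwe
  exact backward hw hed hc B hff hwe

end Groth.Agent.S0677
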