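import Groth.Statements.S0737
import Groth.Agent.Lib.Helper4.LocSecAlgRes

set_option autoImplicit false
open CategoryTheory CategoryTheory.Limits AlgebraicGeometry Opposite Topology
universe u
open ProEtW

namespace Groth.Agent.S0737

open Groth.Agent.Lib.Helper4.LocSec

/-- Let Spec A be w-local with radical ideal I cutting out its closed points, and A -> B inducing
algebraic residue field extensions. Then (1) every point of V(IB) is closed in Spec B, and (2) there
is an ind-Zariski B-algebra C with B/IB -> C/IC bijective, Spec C w-local, Spec C -> Spec A w-local,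
and closed points of Spec C exactly the points over closed points of Spec A. -/
theorem result (A B : Type u) [CommRing A]
    [CommRing B] [Algebra A B] (hA : ProEtW.IsWLocal (PrimeSpectrum A)) (I : Ideal A) (hI : I.IsRadical)
    (hI0 : PrimeSpectrum.zeroLocus (R := A) I = ProEtW.closedPoints (PrimeSpectrum A))
    (h : ProEtW.AlgebraicResidueExtensions A B) :
    PrimeSpectrum.zeroLocus (R := B) (I.map (algebraMap A B)) ⊆ ProEtW.closedPoints (PrimeSpectrum B) ∧
    ∃ (C : Type u) (_ : CommRing C) (_ : Algebra B C) (_ : Algebra A C) (_ : IsScalarTower A B C),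
      EtPBC.IsIndZariski B C ∧
      Function.Bijective (Ideal.quotientMap ((I.map (algebraMap A B)).map (algebraMap B C))
        (algebraMap B C) Ideal.le_comap_map) ∧
      ProEtW.IsWLocal (PrimeSpectrum C) ∧
      ProEtW.IsWLocalMap (PrimeSpectrum.comap (algebraMap A C)) ∧
      ProEtW.closedPoints (PrimeSpectrum C) =
        PrimeSpectrum.comap (algebraMap A C) ⁻¹' ProEtW.closedPoints (PrimeSpectrum A) := by
  -- points of `V(IB)` are closed
  have h1 : ∀ q : PrimeSpectrum B, q ∈ PrimeSpectrum.zeroLocus (R := B) (I.map (algebraMap A B)) →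
      IsClosed ({q} : Set (PrimeSpectrum B)) := by
    intro q hq
    refine isClosed_singleton_of_algebraicResidueExtensions h q ?_
    have : PrimeSpectrum.comap (algebraMap A B) q ∈ PrimeSpectrum.zeroLocus (R := A) I := by
      rw [PrimeSpectrum.mem_zeroLocus, SetLike.coe_subset_coe] at hq ⊢
      exact Ideal.map_le_iff_le_comap.1 hq
    rw [hI0] at this
    exact this
  refine ⟨h1, ?_⟩
  have hprof : ProEtW.IsProfinite (PrimeSpectrum.zeroLocus (R := B) (I.map (algebraMap A B))) :=
    isProfinite_of_subset_closedPoints _ (PrimeSpectrum.isClosed_zeroLocus _) h1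
  letI : Algebra A (BI (I.map (algebraMap A B))) :=
    ((algebraMap B (BI (I.map (algebraMap A B)))).comp (algebraMap A B)).toAlgebra
  have htower : IsScalarTower A B (BI (I.map (algebraMap A B))) :=
    IsScalarTower.of_algebraMap_eq fun _ => rfl
  have hcomap : ∀ Q : PrimeSpectrum (BI (I.map (algebraMap A B))),
      (Q ∈ PrimeSpectrum.zeroLocus
        (((I.map (algebraMap A B)).map (algebraMap B (BI (I.map (algebraMap A B)))) : Ideal _) :
          Set (BI (I.map (algebraMap A B)))) ↔
        PrimeSpectrum.comap (algebraMap A (BI (I.map (algebraMap A B)))) Q ∈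
          PrimeSpectrum.zeroLocus (R := A) I) := by
    intro Q
    rw [PrimeSpectrum.mem_zeroLocus, PrimeSpectrum.mem_zeroLocus, SetLike.coe_subset_coe,
      SetLike.coe_subset_coe, Ideal.map_le_iff_le_comap, Ideal.map_le_iff_le_comap]
    rfl
  have hclosed := BI_closedPoints hprof
  refine ⟨BI (I.map (algebraMap A B)), inferInstance, inferInstance, inferInstance, htower,
    BI_isIndZariski hprof, BI_quotientMap_bijective hprof, BI_isWLocal hprof, ⟨?_, ?_⟩, ?_⟩
  · exact isSpectralMap_comap _
  · intro Q hQ
    have hQ' : Q ∈ ProEtW.closedPoints (PrimeSpectrum (BI (I.map (algebraMap A B)))) := hQ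
    rw [hclosed, hcomap, hI0] at hQ'
    exact hQ'
  · ext Q
    rw [hclosed, hcomap, hI0]
    rfl

end Groth.Agent.S0737
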