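import Groth.Statements.S0692
import Groth.Agent.Lib.Helper4.WLocalSquare
import Groth.Agent.Lib.Helper4.LocSecUniv
import Groth.Agent.Lib.Helper4.IndZariskiLocal
import Groth.Agent.Lib.Helper89.PrimeTensor
import Groth.Agent.S0737
import Groth.Agent.S0693
import Groth.Agent.S0675
import Groth.Agent.S0733
import Groth.Agent.S0734
import Groth.Agent.S0736

set_option autoImplicit false
open CategoryTheory CategoryTheory.Limits AlgebraicGeometry Opposite Topology
universe u
open ProEtW

namespace Groth.Agent.S0692

open Groth.Agent.Lib.Helper4.LocSec Groth.Agent.Lib.Helper4.AlgRes TensorProduct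

set_option linter.style.haveILetI false

/-- over a ring with w-local spectrum there is an ind-étale algebra with w-local spectrum, whose
closed points are the points over closed points and surject onto the closed points of the base, and
whose local rings at maximal ideals are strictly henselian -/
theorem step1 (A' : Type u) [CommRing A'] (hA' : ProEtW.IsWLocal (PrimeSpectrum A')) :
    ∃ (C : Type u) (_ : CommRing C) (_ : Algebra A' C),
      EtPBC.IsIndEtale A' C ∧ ProEtW.IsWLocal (PrimeSpectrum C) ∧
      ProEtW.closedPoints (PrimeSpectrum C) =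
        PrimeSpectrum.comap (algebraMap A' C) ⁻¹' ProEtW.closedPoints (PrimeSpectrum A') ∧
      (∀ m ∈ ProEtW.closedPoints (PrimeSpectrum A'),
        ∃ P : PrimeSpectrum C, PrimeSpectrum.comap (algebraMap A' C) P = m) ∧
      ∀ (m : Ideal C) [m.IsMaximal],
        EtCoh.IsStrictlyHenselianLocalRing (Localization.AtPrime m) := by
  obtain ⟨A'', _, _, hff, hie, hret⟩ := Groth.Agent.S0693.result A'
  have hare : ProEtW.AlgebraicResidueExtensions A' A'' :=
    algebraicResidueExtensions_of_isIndEtale hie
  have hI0 : PrimeSpectrum.zeroLocus (R := A') (JB A') = ProEtW.closedPoints (PrimeSpectrum A') :=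
    zeroLocus_JB hA'
  have hIrad : (JB A').IsRadical := PrimeSpectrum.isRadical_vanishingIdeal _
  obtain ⟨hV, C, _, _, _, _, hCiz, hCbij, hCwl, hCmap, hCcl⟩ :=
    Groth.Agent.S0737.result A' A'' hA' (JB A') hIrad hI0 hare
  have hcomp : ∀ P : PrimeSpectrum C, PrimeSpectrum.comap (algebraMap A' A'')
      (PrimeSpectrum.comap (algebraMap A'' C) P) = PrimeSpectrum.comap (algebraMap A' C) P := by
    intro P
    ext x
    simp only [PrimeSpectrum.comap_asIdeal, Ideal.mem_comap]
    rw [← IsScalarTower.algebraMap_apply A' A'' C]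
  refine ⟨C, inferInstance, inferInstance, ?_, hCwl, hCcl, ?_, ?_⟩
  · exact Groth.Agent.S0734.result A' A'' C hie (isIndEtale_of_isIndZariski hCiz)
  · intro m hm
    obtain ⟨n, hn⟩ := PrimeSpectrum.comap_surjective_of_faithfullyFlat (A := A') (B := A'') m
    have hnJ : (JB A').map (algebraMap A' A'') ≤ n.asIdeal := by
      rw [Ideal.map_le_iff_le_comap]
      have h1 : m ∈ PrimeSpectrum.zeroLocus (R := A') (JB A') := by rw [hI0]; exact hm
      rw [← hn] at h1
      exact h1
    obtain ⟨P, hP⟩ := exists_prime_of_quotientMap_bijective _ hCbij n hnJ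
    exact ⟨P, by rw [← hcomp, hP, hn]⟩
  · intro m _
    let Pm : PrimeSpectrum C := ⟨m, inferInstance⟩
    have hPm : Pm ∈ ProEtW.closedPoints (PrimeSpectrum C) :=
      (PrimeSpectrum.isClosed_singleton_iff_isMaximal _).2 ‹m.IsMaximal›
    rw [hCcl] at hPm
    have hn : PrimeSpectrum.comap (algebraMap A'' C) Pm ∈
        PrimeSpectrum.zeroLocus (R := A'') ((JB A').map (algebraMap A' A'')) := by
      have h1 : PrimeSpectrum.comap (algebraMap A' C) Pm ∈
          PrimeSpectrum.zeroLocus (R := A') (JB A') := by rw [hI0]; exact hPm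
      rw [← hcomp] at h1
      rw [PrimeSpectrum.mem_zeroLocus, SetLike.coe_subset_coe, Ideal.map_le_iff_le_comap]
      exact h1
    have hnmax : (Pm.asIdeal.comap (algebraMap A'' C)).IsMaximal :=
      (PrimeSpectrum.isClosed_singleton_iff_isMaximal _).1 (hV hn)
    have hbij := identifiesLocalRings_of_isIndZariski hCiz Pm
    have hsh := Groth.Agent.S0675.result A'' hret (Pm.asIdeal.comap (algebraMap A'' C))
    exact isStrictlyHenselianLocalRing_of_ringEquiv (RingEquiv.ofBijective _ hbij) hsh

/-- Let A -> B induce algebraic residue field extensions. Then one can find faithfully flat ind-etale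
extensions C of A and D of B, with D a C-algebra compatibly, such that: Spec C and Spec D are
w-local; Spec D -> Spec C is w-local; the closed points of Spec D are exactly the points over closed
points of Spec C; the closed points of Spec C map onto Spec A and those of Spec D onto Spec B; and
C_m is strictly henselian for every maximal ideal m of C. -/
theorem result (A B : Type u) [CommRing A] [CommRing B] [Algebra A B]
    (h : ProEtW.AlgebraicResidueExtensions A B) :
    ∃ (C D : Type u) (_ : CommRing C) (_ : CommRing D) (_ : Algebra A C) (_ : Algebra B D)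
      (_ : Algebra C D) (_ : Algebra A D) (_ : IsScalarTower A C D) (_ : IsScalarTower A B D),
      Module.FaithfullyFlat A C ∧ EtPBC.IsIndEtale A C ∧ Module.FaithfullyFlat B D ∧
      EtPBC.IsIndEtale B D ∧ ProEtW.IsWLocal (PrimeSpectrum C) ∧ ProEtW.IsWLocal (PrimeSpectrum D) ∧
      ProEtW.IsWLocalMap (PrimeSpectrum.comap (algebraMap C D)) ∧
      ProEtW.closedPoints (PrimeSpectrum D) =
        PrimeSpectrum.comap (algebraMap C D) ⁻¹' ProEtW.closedPoints (PrimeSpectrum C) ∧
      PrimeSpectrum.comap (algebraMap A C) '' ProEtW.closedPoints (PrimeSpectrum C) = Set.univ ∧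
      PrimeSpectrum.comap (algebraMap B D) '' ProEtW.closedPoints (PrimeSpectrum D) = Set.univ ∧
      ∀ (m : Ideal C) [m.IsMaximal], EtCoh.IsStrictlyHenselianLocalRing (Localization.AtPrime m) := by
  have hA'wl : ProEtW.IsWLocal (PrimeSpectrum (Aw A)) := Aw_isWLocal
  obtain ⟨C, _, _, hCie, hCwl, hCcl, hCsurj, hCsh⟩ := step1 (Aw A) hA'wl
  letI : Algebra A C := ((algebraMap (Aw A) C).comp (algebraMap A (Aw A))).toAlgebra
  haveI : IsScalarTower A (Aw A) C := IsScalarTower.of_algebraMap_eq' rfl
  have hACie : EtPBC.IsIndEtale A C :=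
    Groth.Agent.S0734.result A (Aw A) C (isIndEtale_of_isIndZariski Aw_isIndZariski) hCie
  haveI : Module.Flat A C := (Groth.Agent.S0736.result A C hACie).flat
  have h6 : PrimeSpectrum.comap (algebraMap A C) '' ProEtW.closedPoints (PrimeSpectrum C) =
      Set.univ := by
    rw [Set.eq_univ_iff_forall]
    intro p
    obtain ⟨m, hm, hmp⟩ := Aw_bijOn.surjOn (Set.mem_univ p)
    obtain ⟨P, hP⟩ := hCsurj m hm
    refine ⟨P, ?_, ?_⟩
    · rw [hCcl]
      change PrimeSpectrum.comap (algebraMap (Aw A) C) P ∈
        ProEtW.closedPoints (PrimeSpectrum (Aw A))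
      rw [hP]
      exact hm
    · rw [← hmp, ← hP]
      ext x
      simp only [PrimeSpectrum.comap_asIdeal, Ideal.mem_comap]
      rw [← IsScalarTower.algebraMap_apply A (Aw A) C]
  have hACff : Module.FaithfullyFlat A C := by
    refine Module.FaithfullyFlat.of_comap_surjective fun p => ?_
    have hp : p ∈ Set.univ := trivial
    rw [← h6] at hp
    obtain ⟨P, -, hP⟩ := hp
    exact ⟨P, hP⟩
  letI : Algebra C (B ⊗[A] C) := Algebra.TensorProduct.rightAlgebra
  have hareC : ProEtW.AlgebraicResidueExtensions C (B ⊗[A] C) :=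
    algebraicResidueExtensions_baseChange C h
  have hJ0 : PrimeSpectrum.zeroLocus (R := C) (JB C) = ProEtW.closedPoints (PrimeSpectrum C) :=
    zeroLocus_JB hCwl
  obtain ⟨-, D, _, _, _, _, hDiz, hDbij, hDwl, hDmap, hDcl⟩ :=
    Groth.Agent.S0737.result C (B ⊗[A] C) hCwl (JB C) (PrimeSpectrum.isRadical_vanishingIdeal _)
      hJ0 hareC
  letI : Algebra B D := ((algebraMap (B ⊗[A] C) D).comp (algebraMap B (B ⊗[A] C))).toAlgebra
  haveI : IsScalarTower B (B ⊗[A] C) D := IsScalarTower.of_algebraMap_eq' rfl
  letI : Algebra A D := ((algebraMap C D).comp (algebraMap A C)).toAlgebra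
  haveI : IsScalarTower A C D := IsScalarTower.of_algebraMap_eq' rfl
  haveI : IsScalarTower A B D := IsScalarTower.of_algebraMap_eq fun a => by
    change algebraMap C D (algebraMap A C a) =
      algebraMap (B ⊗[A] C) D (algebraMap B (B ⊗[A] C) (algebraMap A B a))
    rw [IsScalarTower.algebraMap_apply C (B ⊗[A] C) D,
      ← IsScalarTower.algebraMap_apply A C (B ⊗[A] C),
      ← IsScalarTower.algebraMap_apply A B (B ⊗[A] C)]
  have hBDie : EtPBC.IsIndEtale B D :=
    Groth.Agent.S0734.result B (B ⊗[A] C) D (Groth.Agent.S0733.result A C B hACie)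
      (isIndEtale_of_isIndZariski hDiz)
  haveI : Module.Flat B D := (Groth.Agent.S0736.result B D hBDie).flat
  have h7 : PrimeSpectrum.comap (algebraMap B D) '' ProEtW.closedPoints (PrimeSpectrum D) =
      Set.univ := by
    rw [Set.eq_univ_iff_forall]
    intro q
    have hp : PrimeSpectrum.comap (algebraMap A B) q ∈ Set.univ := trivial
    rw [← h6] at hp
    obtain ⟨P, hPcl, hP⟩ := hp
    obtain ⟨r, hr1, hr2⟩ :=
      Groth.Agent.Lib.Helper89.PrimeTensor.exists_prime_tensor (R := A) q P hP.symm
    have hr2' : PrimeSpectrum.comap (algebraMap C (B ⊗[A] C)) r = P := hr2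
    have hr1' : PrimeSpectrum.comap (algebraMap B (B ⊗[A] C)) r = q := by
      rw [← hr1]
      ext x
      simp only [PrimeSpectrum.comap_asIdeal, Ideal.mem_comap]
      rfl
    have hrJ : (JB C).map (algebraMap C (B ⊗[A] C)) ≤ r.asIdeal := by
      rw [Ideal.map_le_iff_le_comap]
      have h1 : P ∈ PrimeSpectrum.zeroLocus (R := C) (JB C) := by rw [hJ0]; exact hPcl
      rw [← hr2'] at h1
      exact h1
    obtain ⟨Q, hQ⟩ := exists_prime_of_quotientMap_bijective _ hDbij r hrJ
    refine ⟨Q, ?_, ?_⟩
    · rw [hDcl]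
      have h2 : PrimeSpectrum.comap (algebraMap C D) Q = P := by
        rw [← hr2', ← hQ]
        ext x
        simp only [PrimeSpectrum.comap_asIdeal, Ideal.mem_comap]
        rw [← IsScalarTower.algebraMap_apply C (B ⊗[A] C) D]
      change PrimeSpectrum.comap (algebraMap C D) Q ∈ ProEtW.closedPoints (PrimeSpectrum C)
      rw [h2]
      exact hPcl
    · rw [← hr1', ← hQ]
      ext x
      simp only [PrimeSpectrum.comap_asIdeal, Ideal.mem_comap]
      rw [← IsScalarTower.algebraMap_apply B (B ⊗[A] C) D]
  have hBDff : Module.FaithfullyFlat B D := by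
    refine Module.FaithfullyFlat.of_comap_surjective fun q => ?_
    have hq : q ∈ Set.univ := trivial
    rw [← h7] at hq
    obtain ⟨Q, -, hQ⟩ := hq
    exact ⟨Q, hQ⟩
  exact ⟨C, D, inferInstance, inferInstance, inferInstance, inferInstance, inferInstance,
    inferInstance, inferInstance, inferInstance, hACff, hACie, hBDff, hBDie, hCwl, hDwl, hDmap,
    hDcl, h6, h7, fun m _ => hCsh m⟩

end Groth.Agent.S0692
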