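import Groth.Statements.S0177
import Groth.Agent.S0677
import Groth.Agent.S0692
import Groth.Agent.S0734
import Groth.Agent.Lib.Helper4.LocSecContr
import Groth.Agent.Lib.Helper4.WLocalSquare
import Groth.Agent.Lib.Helper4.IndEtaleComp

set_option autoImplicit false
universe u
open CategoryTheory CategoryTheory.Limits AlgebraicGeometry Opposite
open EtPBC

namespace Groth.Agent.S0177

set_option linter.style.haveILetI false

/-- For every ring A there is a faithfully flat ind-etale A-algebra D which is w-contractible, i.e.
every faithfully flat weakly etale D-algebra has a D-algebra retraction. -/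
theorem result (A : Type u) [CommRing A] :
    ∃ (D : Type u) (_ : CommRing D) (_ : Algebra A D),
      Module.FaithfullyFlat A D ∧ EtPBC.IsIndEtale A D ∧ EtPBC.IsWContractible D := by
  have hres : ProEtW.AlgebraicResidueExtensions A A :=
    Groth.Agent.Lib.Helper4.AlgRes.algebraicResidueExtensions_of_isIndEtale
      (Groth.Agent.Lib.Helper4.isIndEtale_of_etale A A)
  obtain ⟨C, D₀, _, _, _, _, _, _, _, _, hffC, hieC, -, -, hwC, -, -, -, -, -, hshC⟩ :=
    Groth.Agent.S0692.result A A hres
  obtain ⟨D, _, _, hffD, hizD, hwD, hedD, hshD⟩ :=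
    Groth.Agent.Lib.Helper4.LocSec.exists_cover_of_wLocal hwC hshC
  letI : Algebra A D := ((algebraMap C D).comp (algebraMap A C)).toAlgebra
  haveI : IsScalarTower A C D := IsScalarTower.of_algebraMap_eq (fun _ => rfl)
  refine ⟨D, inferInstance, inferInstance, Module.FaithfullyFlat.trans A C D,
    Groth.Agent.S0734.result A C D hieC
      (Groth.Agent.Lib.Helper4.AlgRes.isIndEtale_of_isIndZariski hizD),
    (Groth.Agent.S0677.result D).2 ⟨hwD, hedD, hshD⟩⟩

end Groth.Agent.S0177
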