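import Groth.Statements.S0679
import Groth.Agent.S0677
import Groth.Agent.Lib.Helper4.FinWContr
import Groth.Agent.Lib.Helper4.FinHensel

set_option autoImplicit false
open CategoryTheory CategoryTheory.Limits AlgebraicGeometry Opposite Topology
universe u
open ProEtW

namespace Groth.Agent.S0679

/-- If A → B is a finite ring map of finite presentation and A is w-contractible, then B is
w-contractible. -/
theorem result (A B : Type u) [CommRing A] [CommRing B]
    [Algebra A B] [Module.Finite A B] [Algebra.FinitePresentation A B]
    (h : EtPBC.IsWContractible A) : EtPBC.IsWContractible B := by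
  obtain ⟨hwA, hedA, hshA⟩ := (Groth.Agent.S0677.result A).1 h
  have hhA : ∀ (m : Ideal A) [m.IsMaximal], HenselianLocalRing (Localization.AtPrime m) :=
    fun m _ => (hshA m).1
  have hsc : ∀ (m : Ideal A) [m.IsMaximal], IsSepClosed m.ResidueField := by
    intro m _
    obtain ⟨h1, h2⟩ := hshA m
    exact h2
  have hwB : ProEtW.IsWLocal (PrimeSpectrum B) :=
    Groth.Agent.Lib.Helper4.FinWContr.isWLocal_of_finite hwA hhA
  refine (Groth.Agent.S0677.result B).2 ⟨hwB, ?_, ?_⟩
  · exact Groth.Agent.Lib.Helper4.FinWContr.extremallyDisconnected_pi0_of_finite A B hwA hedA hsc hwB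
  · intro n hn
    have : Algebra.IsIntegral A B := Algebra.IsIntegral.of_finite A B
    have hm : (n.comap (algebraMap A B)).IsMaximal :=
      Ideal.isMaximal_comap_of_isIntegral_of_isMaximal (R := A) n
    exact Groth.Agent.Lib.Helper4.FinHensel.isStrictlyHenselian_localization
      (n.comap (algebraMap A B)) (hshA _) n rfl

end Groth.Agent.S0679
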