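import Groth.Statements.S0082
import Groth.Agent.S0079
import Groth.Agent.S0080

set_option autoImplicit false
open CategoryTheory CategoryTheory.Limits AlgebraicGeometry Opposite
universe u
open EtBase

namespace Groth.Agent.S0082

/-- If the base change of a morphism of schemes along a quasi-compact, flat, surjective morphism is
affine, then the morphism itself is affine. (Stated for a single quasi-compact flat surjective base
change; together with Zariski-locality on the target this is fpqc descent for affineness.) -/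
theorem result :
    MorphismProperty.DescendsAlong @IsAffineHom (@Surjective ⊓ @Flat ⊓ @QuasiCompact : MorphismProperty Scheme.{u}) := by
  have i79 := Groth.Agent.S0079.result.{u}
  have i80 := Groth.Agent.S0080.result.{u}
  refine IsZariskiLocalAtTarget.descendsAlong_inf_quasiCompact _ _ ?_ ?_
  · rw [inf_comm]
    exact inf_le_inf le_rfl (IsLocalIso.le_of_isZariskiLocalAtSource _)
  intro R S Y φ g hφ hfst
  have hsurj : Surjective (Spec.map φ) := hφ.1
  have hflat : Flat (Spec.map φ) := hφ.2
  have : IsAffineHom (pullback.fst (Spec.map φ) g) := hfst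
  have hP : IsAffine (pullback (Spec.map φ) g) :=
    isAffine_of_isAffineHom (pullback.fst (Spec.map φ) g)
  have hqc : QuasiCompact g :=
    MorphismProperty.of_pullback_fst_of_descendsAlong (P := @QuasiCompact)
      (Q := @Surjective ⊓ @Flat ⊓ @QuasiCompact) (f := Spec.map φ) ⟨hφ, inferInstance⟩ inferInstance
  have hqs : QuasiSeparated g :=
    MorphismProperty.of_pullback_fst_of_descendsAlong (P := @QuasiSeparated)
      (Q := @Surjective ⊓ @Flat ⊓ @QuasiCompact) (f := Spec.map φ) ⟨hφ, inferInstance⟩ inferInstance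
  have : CompactSpace Y := (quasiCompact_iff_compactSpace g).mp hqc
  have : QuasiSeparatedSpace Y := (quasiSeparated_iff_quasiSeparatedSpace g).mp hqs
  have H : IsPullback (pullback.snd (Spec.map φ) g) (pullback.fst (Spec.map φ) g) g (Spec.map φ) :=
    (IsPullback.of_hasPullback _ _).flip
  have hiso := isIso_pushoutSection_of_isQuasiSeparated_of_flat_right H (US := ⊤) (UT := ⊤)
    (UX := ⊤) (UY := ⊤) le_top le_top (by simp) (isAffineOpen_top _) (isAffineOpen_top _)
    isCompact_univ isQuasiSeparated_univ
  rw [isIso_pushoutSection_iff] at hiso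
  have e : ∀ {X Y : Scheme.{u}} (f : X ⟶ Y) (h : (⊤ : X.Opens) ≤ f ⁻¹ᵁ ⊤),
      f.appLE ⊤ ⊤ h = f.appTop := fun f h => f.appLE_eq_app (U := ⊤)
  simp only [e] at hiso
  have hSpec := isPullback_SpecMap_of_isPushout _ _ _ _ hiso
  have hbot : IsPullback (Spec.map φ) (Spec S).toSpecΓ (Spec R).toSpecΓ
      (Spec.map (Spec.map φ).appTop) :=
    IsPullback.of_vert_isIso ⟨(Scheme.toSpecΓ_naturality (Spec.map φ))⟩
  have houter := H.paste_vert hbot
  rw [Scheme.toSpecΓ_naturality, Scheme.toSpecΓ_naturality] at houter
  have htop := IsPullback.of_bot houter (Scheme.toSpecΓ_naturality _) hSpec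
  have hd : (@Surjective ⊓ @Flat ⊓ @QuasiCompact : MorphismProperty Scheme.{u})
      (Spec.map (Spec.map φ).appTop) :=
    ((@Surjective ⊓ @Flat ⊓ @QuasiCompact : MorphismProperty Scheme.{u}).arrow_mk_iso_iff
      (arrowIsoSpecΓOfIsAffine (Spec.map φ))).mp ⟨hφ, inferInstance⟩
  have ha : (@Surjective ⊓ @Flat ⊓ @QuasiCompact : MorphismProperty Scheme.{u})
      (Spec.map (pullback.snd (Spec.map φ) g).appTop) :=
    MorphismProperty.of_isPullback hSpec.flip hd
  have hisoY : IsIso Y.toSpecΓ :=
    MorphismProperty.of_isPullback_of_descendsAlong (P := MorphismProperty.isomorphisms Scheme.{u})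
      (Q := @Surjective ⊓ @Flat ⊓ @QuasiCompact) htop.flip ha
      (inferInstanceAs (IsIso (pullback (Spec.map φ) g).toSpecΓ))
  have : IsAffine Y := ⟨hisoY⟩
  infer_instance

end Groth.Agent.S0082
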