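import Groth.Statements.S14632
import Groth.Agent.Lib.Helper73.QcSections
import Mathlib.AlgebraicGeometry.Morphisms.UniversallyOpen
import Mathlib.AlgebraicGeometry.Morphisms.QuasiSeparated
-- import your own Groth.Agent.* helpers here

set_option autoImplicit false
open CategoryTheory CategoryTheory.Limits AlgebraicGeometry Opposite
universe u
open EtBase

namespace Groth.Agent.S14632

open Groth.Agent.Lib.Helper73

/-- Unfolding the small étale topology. -/
theorem mem_smallEtaleTopology_iff {X : Scheme.{u}} (W : X.Etale) (S : Sieve W) :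
    S ∈ X.smallEtaleTopology W ↔
      ∀ x : ↥(W.left), ∃ (Y : X.Etale) (f : Y ⟶ W) (y : ↥(Y.left)), S f ∧ f.left.base y = x := by
  change S ∈ X.smallGrothendieckTopology (P := @Etale) W ↔ _
  rw [Scheme.smallGrothendieckTopology_eq_toGrothendieck_smallPretopology _ le_rfl]
  refine (Scheme.mem_toGrothendieck_smallPretopology (P := @Etale) (Q := @Etale) W S).trans ?_
  constructor
  · intro h x
    obtain ⟨Y, f, y, h1, -, h3⟩ := h x
    exact ⟨Y, f, y, h1, h3⟩
  · intro h x
    obtain ⟨Y, f, y, h1, h3⟩ := h x
    exact ⟨Y, f, y, h1, inferInstance, h3⟩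

/-- Every covering sieve of a quasi-compact object of the small étale site contains a finite
covering family of affine objects. -/
theorem exists_finite_affine_subcover {X : Scheme.{u}} (W : X.Etale) [CompactSpace ↥(W.left)]
    (S : Sieve W) (hS : S ∈ X.smallEtaleTopology W) :
    ∃ (n : ℕ) (V : Fin n → X.Etale) (g : ∀ k, V k ⟶ W), (∀ k, S (g k)) ∧
      Sieve.ofArrows V g ∈ X.smallEtaleTopology W ∧ ∀ k, IsAffine (V k).left := by
  rw [mem_smallEtaleTopology_iff] at hS
  choose Y f y hSf hy using hS
  -- affine open neighbourhoods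
  have hA : ∀ x : ↥(W.left), ∃ A : (Y x).left.Opens, IsAffineOpen A ∧ y x ∈ A := fun x => by
    obtain ⟨_, ⟨A, hA, rfl⟩, hxA, -⟩ := ((Y x).left.isBasis_affineOpens).exists_subset_of_mem_open
      (Set.mem_univ (y x)) isOpen_univ
    exact ⟨A, hA, hxA⟩
  choose A hA hyA using hA
  let V' : ↥(W.left) → X.Etale := fun x => Scheme.Etale.mk ((A x).ι ≫ (Y x).hom)
  let a : ∀ x, V' x ⟶ Y x := fun x => MorphismProperty.Over.homMk (A x).ι rfl trivial
  let g' : ∀ x, V' x ⟶ W := fun x => a x ≫ f x
  have hopen : ∀ x, IsOpen (Set.range (g' x).left.base) := fun x =>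
    ((g' x).left.isOpenMap).isOpen_range
  have hmem : ∀ x, x ∈ Set.range (g' x).left.base := fun x => by
    refine ⟨⟨y x, hyA x⟩, ?_⟩
    exact hy x
  obtain ⟨t, ht⟩ := isCompact_univ.elim_finite_subcover _ hopen
    (fun x _ => Set.mem_iUnion.mpr ⟨x, hmem x⟩)
  let e := t.equivFin
  refine ⟨t.card, fun k => V' (e.symm k).1, fun k => g' (e.symm k).1,
    fun k => S.downward_closed (hSf _) _, ?_, fun k => hA _⟩
  rw [Scheme.ofArrows_mem_smallEtaleTopology_iff]
  apply Set.eq_univ_of_univ_subset
  intro x hx
  have := ht hx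
  simp only [Set.mem_iUnion] at this
  obtain ⟨x', hx't, hx'⟩ := this
  obtain ⟨k, hk⟩ : ∃ k, e.symm k = ⟨x', hx't⟩ := ⟨e ⟨x', hx't⟩, e.symm_apply_apply _⟩
  refine Set.mem_iUnion.mpr ⟨k, ?_⟩
  rw [hk]
  exact hx'

theorem hasFiniteSubcovers_of_compactSpace {X : Scheme.{u}} (W : X.Etale) [CompactSpace ↥(W.left)] :
    HasFiniteSubcovers X.smallEtaleTopology W := fun S hS => by
  obtain ⟨n, V, g, h1, h2, -⟩ := exists_finite_affine_subcover W S hS
  exact ⟨n, V, g, h1, h2⟩

/-- Fibre products of affine objects over an object with quasi-separated underlying scheme are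
quasi-compact. -/
theorem compactSpace_pullback_left {X : Scheme.{u}} {U A B : X.Etale} (f : A ⟶ U) (g : B ⟶ U)
    [QuasiSeparatedSpace ↥(U.left)] [IsAffine A.left] [IsAffine B.left] :
    CompactSpace ↥((pullback f g).left) := by
  let F := Scheme.Etale.forget X ⋙ Over.forget X
  let e : (pullback f g).left ≅ pullback f.left g.left := PreservesPullback.iso F f g
  have h1 : QuasiCompact f.left := quasiCompact_of_compactSpace _
  have h2 : CompactSpace ↥(pullback f.left g.left) :=
    QuasiCompact.compactSpace_of_compactSpace (pullback.snd f.left g.left)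
  exact e.hom.homeomorph.symm.compactSpace

/-- Take a quasi-compact quasi-separated scheme X and an étale X-scheme U which is quasi-compact and
quasi-separated, i.e. of finite presentation, over X. Then for every small filtered category I the
functor taking a sheaf of sets on the small étale site of X to its sections over U preserves
colimits of shape I: sections over U of a filtered colimit of sheaves are the colimit of the
sections. (Sheaves are valued in types one universe above the schemes, as elsewhere in this
library.) -/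
theorem result (X : Scheme.{u}) [CompactSpace ↥X]
    [QuasiSeparatedSpace ↥X] (U : X.Etale) [QuasiCompact U.hom] [QuasiSeparated U.hom]
    (I : Type (u + 1)) [SmallCategory I] [IsFiltered I] :
    PreservesColimitsOfShape I
      (sheafToPresheaf X.smallEtaleTopology (Type (u + 1)) ⋙ (evaluation X.Etaleᵒᵖ (Type (u + 1))).obj (op U)) := by
  have hc : CompactSpace ↥(U.left) :=
    @QuasiCompact.compactSpace_of_compactSpace U.left X U.hom inferInstance ‹CompactSpace ↥X›
  have hq : QuasiSeparatedSpace ↥(U.left) :=
    @quasiSeparatedSpace_of_quasiSeparated U.left X U.hom ‹QuasiSeparatedSpace ↥X› inferInstance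
  apply preservesColimitsOfShape_sections_of_hasFiniteSubcoversQS
  intro S hS
  obtain ⟨n, V, g, h1, h2, h3⟩ := exists_finite_affine_subcover U S hS
  refine ⟨n, V, g, h1, h2, fun k l => ?_⟩
  have := h3 k
  have := h3 l
  have := compactSpace_pullback_left (g k) (g l)
  exact hasFiniteSubcovers_of_compactSpace _

end Groth.Agent.S14632
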