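import Groth.Statements.S6177
import Mathlib.CategoryTheory.Sites.CartesianClosed
import Mathlib.CategoryTheory.Monoidal.Closed.FunctorToTypes
import Mathlib.CategoryTheory.Monoidal.Closed.Types
-- import your own Groth.Agent.* helpers here

set_option autoImplicit false
universe u
open CategoryTheory
open SGA4

namespace Groth.Agent.S6177

section general

open CategoryTheory.Limits

variable {E : Type*} [Category E] [HasFiniteProducts E] [HasPushouts E]

theorem fst_eq_snd_of_mono (U : E) (hU : Mono (terminal.from U)) {T : E} (f g : T ⟶ U) : f = g := by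
  rw [← cancel_mono (terminal.from U)]
  exact Subsingleton.elim _ _

theorem core (U Y : E) (hU : Mono (terminal.from U))
    [PreservesColimitsOfShape WalkingSpan (prod.functor.obj U)] :
    IsIso (prod.fst : U ⨯ pushout (prod.fst : U ⨯ Y ⟶ U) (prod.snd : U ⨯ Y ⟶ Y) ⟶ U) := by
  have key : (prod.snd : U ⨯ pushout (prod.fst : U ⨯ Y ⟶ U) (prod.snd : U ⨯ Y ⟶ Y) ⟶ _) =
      prod.fst ≫ pushout.inl _ _ := by
    have hcolim := isColimitOfHasPushoutOfPreservesColimit (prod.functor.obj U)
      (prod.fst : U ⨯ Y ⟶ U) (prod.snd : U ⨯ Y ⟶ Y)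
    have hinl : prod.map (𝟙 U) (pushout.inl (prod.fst : U ⨯ Y ⟶ U) (prod.snd : U ⨯ Y ⟶ Y)) ≫
        prod.snd =
        prod.map (𝟙 U) (pushout.inl (prod.fst : U ⨯ Y ⟶ U) (prod.snd : U ⨯ Y ⟶ Y)) ≫
          prod.fst ≫ pushout.inl _ _ := by
      rw [prod.map_snd, prod.map_fst_assoc, Category.id_comp]
      congr 1
      exact fst_eq_snd_of_mono U hU _ _
    have hinr : prod.map (𝟙 U) (pushout.inr (prod.fst : U ⨯ Y ⟶ U) (prod.snd : U ⨯ Y ⟶ Y)) ≫
        prod.snd =
        prod.map (𝟙 U) (pushout.inr (prod.fst : U ⨯ Y ⟶ U) (prod.snd : U ⨯ Y ⟶ Y)) ≫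
          prod.fst ≫ pushout.inl _ _ := by
      rw [prod.map_snd, prod.map_fst_assoc, Category.id_comp]
      exact pushout.condition.symm
    exact PushoutCocone.IsColimit.hom_ext hcolim hinl hinr
  refine ⟨prod.lift (𝟙 U) (pushout.inl _ _), ?_, prod.lift_fst _ _⟩
  apply Limits.prod.hom_ext
  · rw [Category.assoc, prod.lift_fst, Category.comp_id, Category.id_comp]
  · rw [Category.assoc, prod.lift_snd, Category.id_comp]
    exact key.symm

theorem closedCompl_of_iso (U : E) {X X' : E} (e : X ≅ X')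
    (h : IsIso (prod.fst : U ⨯ X' ⟶ U)) : IsIso (prod.fst : U ⨯ X ⟶ U) := by
  have : (prod.fst : U ⨯ X ⟶ U) = prod.map (𝟙 U) e.hom ≫ prod.fst := by
    rw [prod.map_fst, Category.comp_id]
  rw [this]
  infer_instance

theorem main (U X : E) (hU : Mono (terminal.from U))
    [PreservesColimitsOfShape WalkingSpan (prod.functor.obj U)] :
    (SGA4.closedCompl U X ↔ IsIso (pushout.inr (prod.fst : U ⨯ X ⟶ U) (prod.snd : U ⨯ X ⟶ X))) ∧
    ((∃ Y : E, Nonempty (X ≅ pushout (prod.fst : U ⨯ Y ⟶ U) (prod.snd : U ⨯ Y ⟶ Y))) →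
      SGA4.closedCompl U X) := by
  refine ⟨⟨?_, ?_⟩, ?_⟩
  · intro h
    have : IsIso (prod.fst : U ⨯ X ⟶ U) := h
    infer_instance
  · intro h
    exact closedCompl_of_iso U (asIso (pushout.inr (prod.fst : U ⨯ X ⟶ U) (prod.snd : U ⨯ X ⟶ X)))
      (core U X hU)
  · rintro ⟨Y, ⟨e⟩⟩
    exact closedCompl_of_iso U e (core U Y hU)

end general

open CategoryTheory.Limits in
/-- Topos of sheaves of sets on a small site; U an open, i.e. a subobject of the final object; X_CU the
pushout of U <- U x X -> X along the two projections: (ii) <=> (iii): the canonical map X -> X_CU is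
an isomorphism if and only if the projection U x X -> U is an isomorphism (X belongs to the closed
complement of U); and (i) => (iii): if X is isomorphic to Y_CU for some Y then X belongs to the
closed complement of U ((iii) => (i) with Y = X is then immediate from (ii)). -/
theorem result {C : Type u} [SmallCategory C] (J : GrothendieckTopology C)
    (U : Sheaf J (Type u)) (hU : SGA4.IsOpen U) (X : Sheaf J (Type u)) :
    (SGA4.closedCompl U X ↔ IsIso (pushout.inr (prod.fst : U ⨯ X ⟶ U) (prod.snd : U ⨯ X ⟶ X))) ∧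
    ((∃ Y : Sheaf J (Type u), Nonempty (X ≅ pushout (prod.fst : U ⨯ Y ⟶ U) (prod.snd : U ⨯ Y ⟶ Y))) →
      SGA4.closedCompl U X) := by
  have adj0 : MonoidalCategory.tensorLeft U ⊣ ihom U := ihom.adjunction U
  have iso : MonoidalCategory.tensorLeft U ≅ prod.functor.obj U := by
    exact CartesianMonoidalCategory.tensorLeftIsoProd U
  have adj : prod.functor.obj U ⊣ ihom U := adj0.ofNatIsoLeft iso
  have : PreservesColimitsOfShape WalkingSpan (prod.functor.obj U) :=
    adj.leftAdjoint_preservesColimits.preservesColimitsOfShape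
  exact main U X hU

end Groth.Agent.S6177
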