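import Groth.Statements.S19631
import Mathlib.CategoryTheory.Functor.KanExtension.Pointwise

set_option autoImplicit false
universe u
open Hyper

namespace Groth.Agent.S19631

section CechCosk
universe v' u'
open CategoryTheory CategoryTheory.Limits Opposite SimplexCategory Simplicial
open CategoryTheory.Functor


variable {C : Type u'} [Category.{v'} C] [HasFiniteProducts C] (X : C) (n : ℕ)

/-- the object of the comma category attached to a vertex -/
abbrev vtx (Δ : SimplexCategoryᵒᵖ) (i : Fin (Δ.unop.len + 1)) :
    StructuredArrow Δ (Truncated.inclusion n).op :=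
  StructuredArrow.mk (Y := op (⟨⦋0⦌, by simp⟩ : SimplexCategory.Truncated n))
    (SimplexCategory.const ⦋0⦌ Δ.unop i).op

/-- projections of the Čech nerve -/
noncomputable def pr (a : SimplexCategoryᵒᵖ) (l : Fin (a.unop.len + 1)) :
    (cechNerveTerminalFrom X).obj a ⟶ X :=
  Limits.Pi.π (fun _ : Fin (a.unop.len + 1) => X) l

lemma hom_ext' {W : C} (a : SimplexCategoryᵒᵖ) (f g : W ⟶ (cechNerveTerminalFrom X).obj a)
    (h : ∀ l, f ≫ pr X a l = g ≫ pr X a l) : f = g :=
  Limits.Pi.hom_ext _ _ h

noncomputable def lft {W : C} (a : SimplexCategoryᵒᵖ) (f : Fin (a.unop.len + 1) → (W ⟶ X)) :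
    W ⟶ (cechNerveTerminalFrom X).obj a :=
  Limits.Pi.lift f

lemma lft_pr {W : C} (a : SimplexCategoryᵒᵖ) (f : Fin (a.unop.len + 1) → (W ⟶ X)) (l) :
    lft X a f ≫ pr X a l = f l :=
  Limits.Pi.lift_π _ _

lemma map_pr {a b : SimplexCategoryᵒᵖ} (f : a ⟶ b) (l : Fin (b.unop.len + 1)) :
    (cechNerveTerminalFrom X).map f ≫ pr X b l = pr X a (f.unop.toOrderHom l) := by
  simp [cechNerveTerminalFrom, pr]

set_option backward.isDefEq.respectTransparency false in
noncomputable def isLimitAt (Δ : SimplexCategoryᵒᵖ) :
    (SimplicialObject.Truncated.rightExtensionInclusion (cechNerveTerminalFrom X) n).IsPointwiseRightKanExtensionAt Δ where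
  lift s := lft X Δ (fun i => s.π.app (vtx n Δ i) ≫ pr X (op ⦋0⦌) 0)
  fac s j := by
    have hl : j.right.unop.obj.len ≤ n := j.right.unop.property
    apply hom_ext' X (op j.right.unop.obj)
    intro l
    let α : j ⟶ vtx n Δ (j.hom.unop.toOrderHom l) :=
      StructuredArrow.homMk (Truncated.Hom.tr (SimplexCategory.const ⦋0⦌ j.right.unop.obj l) (by simp) hl).op
        (by
          apply Quiver.Hom.unop_inj
          ext x
          rfl)
    have hw := s.w α
    have e1 : ((SimplicialObject.Truncated.rightExtensionInclusion (cechNerveTerminalFrom X) n).coneAt Δ).π.app j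
        = (cechNerveTerminalFrom X).map j.hom := by
      exact Category.comp_id _
    rw [e1, Category.assoc]
    erw [map_pr]
    rw [lft_pr, ← hw, Category.assoc]
    congr 1
    exact (map_pr X (SimplexCategory.const ⦋0⦌ j.right.unop.obj l).op 0)
  uniq s m hm := by
    apply hom_ext' X Δ
    intro i
    rw [lft_pr, ← hm (vtx n Δ i)]
    have e1 : ((SimplicialObject.Truncated.rightExtensionInclusion (cechNerveTerminalFrom X) n).coneAt Δ).π.app (vtx n Δ i)
        = (cechNerveTerminalFrom X).map (SimplexCategory.const ⦋0⦌ Δ.unop i).op := by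
      exact Category.comp_id _
    rw [e1, Category.assoc]
    congr 1
    exact (map_pr X (SimplexCategory.const ⦋0⦌ Δ.unop i).op 0).symm

theorem isCoskeletal : SimplicialObject.IsCoskeletal (cechNerveTerminalFrom X) n where
  isRightKanExtension :=
    RightExtension.IsPointwiseRightKanExtension.isRightKanExtension
      (E := SimplicialObject.Truncated.rightExtensionInclusion (cechNerveTerminalFrom X) n)
      (fun Δ => isLimitAt X n Δ)


end CechCosk

open CategoryTheory CategoryTheory.Limits AlgebraicGeometry in
/-- Let f : X → Y be a morphism of schemes and X_• = cosk_0^Y(X) its Čech nerve, the simplicial scheme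
over Y with X_p = X ×_Y ⋯ ×_Y X (p + 1 factors), face maps the projections forgetting one factor and
degeneracies induced by diagonals. Then X_•, as a simplicial object of the category of schemes over
Y, is n-coskeletal for every n, i.e. the adjunction morphisms X_• → cosk_n sk_n X_• (coskeleta
relative to Y) are isomorphisms. In the source this is phrased as: for a class S of covering maps of
varieties containing the identities, X_• → Y is an S-hypercover whenever X → Y lies in S, the
adjunction maps X_p → (cosk_{p-1} sk_{p-1} X_•)_p being isomorphisms for p ≥ 1 and X_0 → Y being f.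
(Stated for arbitrary schemes; the source has varieties over a field.) -/
theorem result (X Y : Scheme.{u}) (f : X ⟶ Y) (n : ℕ) :
    SimplicialObject.IsCoskeletal (cechNerveTerminalFrom (Over.mk f)) n := by
  exact isCoskeletal (Over.mk f) n

end Groth.Agent.S19631
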