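import Groth.Statements.S8685
import Groth.Agent.Lib.Helper44.SymmPoly

set_option autoImplicit false
universe u
open LambdaRing

namespace Groth.Agent.S8685


section Aux

open MvPolynomial Finset Groth.Agent.Lib.Helper44.SymmPoly

theorem compGen_isSymmetric (N i j : ℕ) : (LambdaRing.compGen N i j).IsSymmetric := by
  intro e
  unfold LambdaRing.compGen
  have h1 := map_multiset_esymm (rename e : MvPolynomial (Fin N) ℤ →ₐ[ℤ] MvPolynomial (Fin N) ℤ).toRingHom
    (((Finset.univ : Finset (Fin N)).powersetCard i).val.map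
      fun s => (∏ a ∈ s, X a : MvPolynomial (Fin N) ℤ)) j
  have h2 : (rename e : MvPolynomial (Fin N) ℤ →ₐ[ℤ] MvPolynomial (Fin N) ℤ).toRingHom
      ((((Finset.univ : Finset (Fin N)).powersetCard i).val.map
        fun s => (∏ a ∈ s, X a : MvPolynomial (Fin N) ℤ)).esymm j) =
      rename e ((((Finset.univ : Finset (Fin N)).powersetCard i).val.map
        fun s => (∏ a ∈ s, X a : MvPolynomial (Fin N) ℤ)).esymm j) := rfl
  rw [← h2, h1, Multiset.map_map]
  congr 1
  have h3 : ∀ s : Finset (Fin N),
      ((rename e : MvPolynomial (Fin N) ℤ →ₐ[ℤ] MvPolynomial (Fin N) ℤ).toRingHom ∘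
        fun s => (∏ a ∈ s, X a : MvPolynomial (Fin N) ℤ)) s =
      ((fun s' : Finset (Fin N) => (∏ b ∈ s', X b : MvPolynomial (Fin N) ℤ)) ∘
        (Finset.mapEmbedding e.toEmbedding).toEmbedding) s := by
    intro s
    simp only [Function.comp_apply]
    show rename e (∏ a ∈ s, X a) = _
    rw [map_prod]
    simp only [rename_X]
    show _ = ∏ b ∈ s.map e.toEmbedding, X b
    rw [Finset.prod_map]
    rfl
  rw [Multiset.map_congr rfl (fun s _ => h3 s), ← Multiset.map_map, ← Finset.map_val,
    ← Finset.powersetCard_map, Finset.map_univ_equiv]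

theorem compGen_isHomogeneous (N i j : ℕ) : (LambdaRing.compGen N i j).IsHomogeneous (i * j) := by
  unfold LambdaRing.compGen
  rw [Finset.esymm_map_val]
  refine IsHomogeneous.sum _ _ _ fun T hT => ?_
  rw [Finset.mem_powersetCard] at hT
  have h1 := IsHomogeneous.prod T (fun s => (∏ a ∈ s, X a : MvPolynomial (Fin N) ℤ)) (fun _ => i)
    (fun s hs => by
      have h2 := IsHomogeneous.prod s (fun a => (X a : MvPolynomial (Fin N) ℤ)) (fun _ => 1)
        (fun a _ => isHomogeneous_X ℤ a)
      have hc : ∑ _a ∈ s, 1 = i := by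
        rw [Finset.sum_const, smul_eq_mul, mul_one]
        exact (Finset.mem_powersetCard.1 (hT.1 hs)).2
      rwa [hc] at h2)
  have hc : ∑ _s ∈ T, i = i * j := by
    rw [Finset.sum_const, smul_eq_mul, hT.2, mul_comm]
  rwa [hc] at h1

end Aux

/-- For all i, j there is a polynomial Q ∈ ℤ[X_1, …, X_{ij}] such that substituting the k-th elementary
symmetric function of ij variables T for X_k yields the j-th elementary symmetric function of the
products of the T_a over the i-element subsets of the variables, and Q is isobaric of weight ij, the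
variable X_k having weight k. -/
theorem result (i j : ℕ) :
    ∃ Q : MvPolynomial (Fin (i * j)) ℤ, LambdaRing.IsCompPoly i j Q := by
  obtain ⟨Q₀, hQ₀⟩ := MvPolynomial.esymmAlgHom_surjective ℤ (σ := Fin (i * j)) (n := i * j)
    (by simp) ⟨LambdaRing.compGen (i * j) i j, compGen_isSymmetric _ _ _⟩
  have h0 : MvPolynomial.aeval (fun k : Fin (i * j) => MvPolynomial.esymm (Fin (i * j)) ℤ ((k : ℕ) + 1)) Q₀ =
      LambdaRing.compGen (i * j) i j := by
    rw [← MvPolynomial.esymmAlgHom_apply, hQ₀]
  refine ⟨MvPolynomial.weightedHomogeneousComponent (fun k : Fin (i * j) => (k : ℕ) + 1) (i * j) Q₀,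
    ?_, MvPolynomial.weightedHomogeneousComponent_isWeightedHomogeneous _ _⟩
  rw [Groth.Agent.Lib.Helper44.SymmPoly.aeval_weightedHomogeneousComponent _ _
    (fun k => Groth.Agent.Lib.Helper44.SymmPoly.esymm_isHomogeneous _ _ _), h0,
    MvPolynomial.homogeneousComponent_of_mem (compGen_isHomogeneous _ _ _), if_pos rfl]

end Groth.Agent.S8685
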