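import Groth.Statements.S8690
import Groth.Agent.Lib.Helper44.GammaFilMain
import Groth.Agent.Lib.Helper44.GammaTransferM
import Groth.Agent.Lib.Helper44.GammaLeading

set_option autoImplicit false
universe u v
open LambdaRing

namespace Groth.Agent.S8690

section Aux

open MvPolynomial Groth.Agent.Lib.Helper44.GammaUniv Groth.Agent.Lib.Helper44.GammaWeights
  Groth.Agent.Lib.Helper44.GammaFilMain Groth.Agent.Lib.Helper44.LambdaShift
  Groth.Agent.Lib.Helper44.LambdaTerm Groth.Agent.Lib.Helper44.GammaTransferM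
  Groth.Agent.Lib.Helper44.GammaLeading Groth.Agent.Lib.Helper44.GammaScalar

/-- the term `∏_{s < r} γ^{e s}(x_s)` -/
def wterm (e : ℕ → ℕ) (r : ℕ) : Tm := Tm.prod (fun s => Tm.gam (e s) (Tm.var s)) r

theorem eval_wterm {B : Type*} [CommRing B] [LambdaRing.LambdaOps B] (n : B) (x : ℕ → B)
    (e : ℕ → ℕ) (r : ℕ) :
    (wterm e r).eval n x = ∏ s ∈ Finset.range r, LambdaRing.gamma (e s) (x s) := by
  unfold wterm
  rw [Groth.Agent.Lib.Helper44.LambdaTerm.eval_prod]
  refine Finset.prod_congr rfl fun s _ => ?_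
  rw [eval_gam]
  rfl

theorem list_prod_eq {α M : Type*} [CommMonoid M] (f : α → M) (d : α) (l : List α) :
    (l.map f).prod = ∏ s ∈ Finset.range l.length, f (l.getD s d) := by
  induction l with
  | nil => simp
  | cons p l ih =>
    rw [List.map_cons, List.prod_cons, List.length_cons, Finset.prod_range_succ', ih, mul_comm]
    congr 1

theorem list_sum_eq {α : Type*} (f : α → ℕ) (d : α) (l : List α) :
    (l.map f).sum = ∑ s ∈ Finset.range l.length, f (l.getD s d) := by
  induction l with
  | nil => simp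
  | cons p l ih =>
    rw [List.map_cons, List.sum_cons, List.length_cons, Finset.sum_range_succ', ih, add_comm]
    congr 1

theorem isMulFil_pow (σ : Type) : IsMulFil (fun k => idealOfVars σ ℤ ^ k) where
  zero := by
    show idealOfVars σ ℤ ^ 0 = ⊤
    rw [pow_zero, Ideal.one_eq_top]
  anti := fun a b hab => Ideal.pow_le_pow_right hab
  mul := fun a b x y hx hy => by
    show x * y ∈ idealOfVars σ ℤ ^ (a + b)
    rw [pow_add]
    exact Ideal.mul_mem_mul hx hy

attribute [local instance] shiftOps in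
theorem wterm_univ_mem (N : ℕ) (e : ℕ → ℕ) (r : ℕ) :
    (wterm e r).eval (nu 0 N) (xu 0 N) ∈ idealOfVars (Sg 0 N) ℤ ^ (∑ s ∈ Finset.range r, e s) := by
  rw [eval_wterm]
  exact (isMulFil_pow (Sg 0 N)).prod_mem _ _ _ fun s _ =>
    gamma_mem_pow (Sg 0 N) _ (constantCoeff_xu 0 N s) (e s)

variable {K : Type u} [CommRing K] {A : Type v} [CommRing A] [LambdaRing.LambdaOps A]
  (ε : A →+* K)

theorem gamma_add_split (m : ℕ) (hm : 1 ≤ m) (z1 z2 : A) :
    LambdaRing.gamma m (z1 + z2) = LambdaRing.gamma m z1 + LambdaRing.gamma m z2 +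
      ∑ i ∈ Finset.range (m - 1), LambdaRing.gamma (i + 1) z1 * LambdaRing.gamma (m - (i + 1)) z2 := by
  obtain ⟨m', rfl⟩ : ∃ m', m = m' + 1 := ⟨m - 1, by omega⟩
  rw [Groth.Agent.Lib.Helper17.Lam.gamma_add, Finset.sum_range_succ, Finset.sum_range_succ',
    Nat.sub_self, Nat.sub_zero, gamma_zero_left, gamma_zero_left, mul_one, one_mul,
    Nat.add_sub_cancel]
  ring

attribute [local instance] shiftOps in

/-- the key consequences of the verification principle for products of `γ`'s -/
theorem gen_facts (hA : LambdaRing.IsSpecial A) (m : ℕ) (hm : 1 ≤ m) (l : List (ℕ × A))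
    (hl : ∀ p ∈ l, ε p.2 = 0) (hsum : m ≤ (l.map Prod.fst).sum) :
    (∀ i, 1 ≤ i → LambdaRing.gamma i (l.map fun p => LambdaRing.gamma p.1 p.2).prod ∈
        LambdaRing.gammaFil ε m) ∧
      LambdaRing.gamma m (l.map fun p => LambdaRing.gamma p.1 p.2).prod -
        ((-1 : ℤ) ^ (m - 1) * ((m - 1).factorial : ℤ)) •
          (l.map fun p => LambdaRing.gamma p.1 p.2).prod ∈ LambdaRing.gammaFil ε (m + 1) := by
  classical
  let e : ℕ → ℕ := fun s => (l.getD s ((0 : ℕ), (0 : A))).1
  let x : ℕ → A := fun s => (l.getD s ((0 : ℕ), (0 : A))).2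
  have hF := isMulFil_gammaFil ε
  have hx0 : ∀ s, ε (x s) = 0 := by
    intro s
    by_cases hs : s < l.length
    · have h1 : l.getD s ((0 : ℕ), (0 : A)) ∈ l := by
        rw [List.getD_eq_getElem _ _ hs]
        exact List.getElem_mem hs
      exact hl _ h1
    · have h1 : l.getD s ((0 : ℕ), (0 : A)) = ((0 : ℕ), (0 : A)) :=
        List.getD_eq_default _ _ (by omega)
      show ε (l.getD s ((0 : ℕ), (0 : A))).2 = 0
      rw [h1, map_zero]
  have hw : (l.map fun p => LambdaRing.gamma p.1 p.2).prod =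
      (wterm e l.length).eval (0 : A) x := by
    rw [eval_wterm, list_prod_eq (fun p : ℕ × A => LambdaRing.gamma p.1 p.2) ((0 : ℕ), (0 : A)) l]
  have hsum' : m ≤ ∑ s ∈ Finset.range l.length, e s := by
    rw [← list_sum_eq Prod.fst ((0 : ℕ), (0 : A)) l]
    exact hsum
  have hn0 : ∀ k, 0 < k → LambdaRing.gamma k (0 : A) = 0 := fun k hk => gamma_zero_right k hk
  have hnW : ∀ a, LambdaRing.gamma a (0 : A) ∈ LambdaRing.gammaFil ε a :=
    fun a => gamma_mem_gammaFil ε 0 (map_zero _) a
  have hxW : ∀ g a, LambdaRing.gamma a (x g) ∈ LambdaRing.gammaFil ε a :=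
    fun g a => gamma_mem_gammaFil ε (x g) (hx0 g) a
  have huniv : ∀ N, (wterm e l.length).eval (nu 0 N) (xu 0 N) ∈ idealOfVars (Sg 0 N) ℤ ^ m :=
    fun N => (Ideal.pow_le_pow_right hsum') (wterm_univ_mem N e l.length)
  refine ⟨fun i hi => ?_, ?_⟩
  · rw [hw, grep_spec hA]
    refine verify 0 _ m (fun N => ?_) hF 0 x hn0 hnW hxW
    rw [← @grep_spec _ _ (shiftOps (Sg 0 N)) (isSpecial (Sg 0 N))]
    exact @gamma_mem (Sg 0 N) m hm _ (huniv N) i hi
  · have h1 : LambdaRing.gamma m ((wterm e l.length).eval (0 : A) x) -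
        ((-1 : ℤ) ^ (m - 1) * ((m - 1).factorial : ℤ)) • (wterm e l.length).eval (0 : A) x =
        θl (0 : A) x ((wterm e l.length).grep m -
          ((-1 : ℤ) ^ (m - 1) * ((m - 1).factorial : ℤ)) • (wterm e l.length).rep 1) := by
      rw [map_sub, map_zsmul, ← grep_spec hA, ← rep_spec hA, LambdaRing.LambdaOps.lam_one]
    rw [hw, h1]
    refine verify 0 _ (m + 1) (fun N => ?_) hF 0 x hn0 hnW hxW
    rw [map_sub, map_zsmul, ← @grep_spec _ _ (shiftOps (Sg 0 N)) (isSpecial (Sg 0 N)),
      ← @rep_spec _ _ (shiftOps (Sg 0 N)) (isSpecial (Sg 0 N)),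
      @LambdaRing.LambdaOps.lam_one _ _ (shiftOps (Sg 0 N))]
    exact @gamma_sub_mem (Sg 0 N) m hm _ (huniv N)

/-- the auxiliary filtration: `⊤` in degree `0`, `J` in positive degrees -/
def Wm (J : Ideal A) (k : ℕ) : Ideal A := if k = 0 then ⊤ else J

theorem isMulFil_Wm (J : Ideal A) : IsMulFil (Wm J) where
  zero := by
    unfold Wm
    rw [if_pos rfl]
  anti := fun a b hab => by
    unfold Wm
    by_cases ha : a = 0
    · rw [if_pos ha]
      exact le_top
    · rw [if_neg ha, if_neg (by omega)]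
  mul := fun a b x y hx hy => by
    unfold Wm at *
    by_cases ha : a = 0
    · by_cases hb : b = 0
      · rw [if_pos (by omega)]
        trivial
      · rw [if_neg (by omega)]
        rw [if_neg hb] at hy
        exact Ideal.mul_mem_left _ _ hy
    · rw [if_neg (by omega)]
      rw [if_neg ha] at hx
      exact Ideal.mul_mem_right _ _ hx

omit [LambdaRing.LambdaOps A] in
/-- coefficients of powers `≥ 2` of a series with coefficients in `J1` lie in `J2 ⊇ J1 * J1` -/
theorem coeff_pow_mem (J1 J2 : Ideal A) (h12 : J1 * J1 ≤ J2) (h21 : J2 ≤ J1) (s : PowerSeries A)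
    (hs : ∀ a, PowerSeries.coeff a s ∈ J1) (k : ℕ) (hk : 2 ≤ k) (n : ℕ) :
    PowerSeries.coeff n (s ^ k) ∈ J2 := by
  induction k, hk using Nat.le_induction generalizing n with
  | base =>
    rw [pow_two, PowerSeries.coeff_mul]
    exact Ideal.sum_mem _ fun p _ => h12 (Ideal.mul_mem_mul (hs _) (hs _))
  | succ k _ ih =>
    rw [pow_succ, PowerSeries.coeff_mul]
    exact Ideal.sum_mem _ fun p _ => Ideal.mul_mem_right _ _ (ih _)

end Aux

/-- Let K be a binomial ring carrying its binomial λ-structure, and A a λ-ring in the strict sense which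
is an augmented K-λ-algebra with augmentation ε : A → K. Let Fil^m A denote the γ-filtration of A
with respect to ε (the ideal generated by the products γ^{i_1}(x_1) ⋯ γ^{i_r}(x_r) with i_1 + ⋯ +
i_r ≥ m and every ε(x_s) = 0). Then for every m ≥ 1 and every z ∈ Fil^m A, γ^m(z) ≡ (−1)^{m−1}
(m−1)! · z modulo Fil^{m+1} A; equivalently the m-th Chern class of z in Gr^m A is the class of
(−1)^{m−1} (m−1)! z. The hypotheses hP and hQ, that the universal polynomials exist for all indices,
are true statements carried so that the identities of A can be used at every index. -/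
theorem result
    (K : Type u) [CommRing K] [LambdaRing.LambdaOps K] [BinomialRing K] (hKb : LambdaRing.IsBinomial K)
    (hK : LambdaRing.IsSpecial K)
    (A : Type v) [CommRing A] [LambdaRing.LambdaOps A] [Algebra K A] (hA : LambdaRing.IsSpecial A)
    (hP : ∀ n : ℕ, ∃ P : MvPolynomial (Fin n ⊕ Fin n) ℤ, LambdaRing.IsMulPoly n P)
    (hQ : ∀ i j : ℕ, ∃ Q : MvPolynomial (Fin (i * j)) ℤ, LambdaRing.IsCompPoly i j Q)
    (ε : A →ₐ[K] K) (hε : LambdaRing.IsAugLambdaAlg K A ε)
    (m : ℕ) (hm : 1 ≤ m) (z : A) (hz : z ∈ LambdaRing.gammaFil (ε : A →+* K) m) :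
    LambdaRing.gamma m z - (-1 : A) ^ (m - 1) * ((m - 1).factorial : A) * z ∈
      LambdaRing.gammaFil (ε : A →+* K) (m + 1) := by
  open Groth.Agent.Lib.Helper44.GammaUniv Groth.Agent.Lib.Helper44.GammaWeights
    Groth.Agent.Lib.Helper44.GammaFilMain Groth.Agent.Lib.Helper44.LambdaShift
    Groth.Agent.Lib.Helper44.GammaScalar in
  classical
  have hF := isMulFil_gammaFil (ε : A →+* K)
  -- decomposition of a multiple of a generator
  have hdecomp : ∀ (a : A) (l : List (ℕ × A)),
      a * (l.map fun p => LambdaRing.gamma p.1 p.2).prod =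
        algebraMap K A (ε a) * (l.map fun p => LambdaRing.gamma p.1 p.2).prod +
          (((1, a - algebraMap K A (ε a)) :: l).map fun p => LambdaRing.gamma p.1 p.2).prod := by
    intro a l
    rw [List.map_cons, List.prod_cons, gamma_one_left]
    ring
  have hε0 : ∀ a : A, (ε : A →+* K) (a - algebraMap K A (ε a)) = 0 := by
    intro a
    show ε (a - algebraMap K A (ε a)) = 0
    rw [map_sub, AlgHom.commutes, Algebra.algebraMap_self_apply, sub_self]
  -- (P1): the γ^i preserve Fil^m
  have hP1 : ∀ m : ℕ, 1 ≤ m → ∀ u ∈ LambdaRing.gammaFil (ε : A →+* K) m, ∀ i : ℕ, 1 ≤ i →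
      LambdaRing.gamma i u ∈ LambdaRing.gammaFil (ε : A →+* K) m := by
    intro m hm u hu i hi
    have hW := isMulFil_Wm (LambdaRing.gammaFil (ε : A →+* K) m)
    have hgenT : ∀ l : List (ℕ × A), (∀ p ∈ l, (ε : A →+* K) p.2 = 0) →
        m ≤ (l.map Prod.fst).sum →
        (l.map fun p => LambdaRing.gamma p.1 p.2).prod ∈
          T (Wm (LambdaRing.gammaFil (ε : A →+* K) m)) hW := by
      intro l hl hsum j
      rcases Nat.eq_zero_or_pos j with h0 | h0
      · subst h0
        rw [gamma_zero_left]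
        exact hW.one_mem
      · unfold Wm
        rw [if_neg (by omega)]
        exact (gen_facts (ε : A →+* K) hA m hm l hl hsum).1 j h0
    have hQ : ∀ a : A, a * u ∈ T (Wm (LambdaRing.gammaFil (ε : A →+* K) m)) hW := by
      refine Submodule.span_induction (p := fun u _ => ∀ a : A, a * u ∈
        T (Wm (LambdaRing.gammaFil (ε : A →+* K) m)) hW) ?_ ?_ ?_ ?_ hu
      · rintro _ ⟨l, hl, hn, rfl⟩ a
        rw [hdecomp a l]
        refine add_mem (T_smul hW hKb hA hε.isLambdaAlg _ (hgenT l hl hn)) (hgenT _ ?_ ?_)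
        · intro p hp
          rcases List.mem_cons.1 hp with h | h
          · rw [h]
            exact hε0 a
          · exact hl p h
        · rw [List.map_cons, List.sum_cons]
          omega
      · intro a
        rw [mul_zero]
        exact zero_mem _
      · intro y y' _ _ hy hy' a
        rw [mul_add]
        exact add_mem (hy a) (hy' a)
      · intro b y _ hy a
        rw [smul_eq_mul, ← mul_assoc]
        exact hy (a * b)
    have h1 := hQ 1 i
    rw [one_mul] at h1
    unfold Wm at h1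
    rwa [if_neg (by omega)] at h1
  -- the set of elements satisfying the congruence
  let α : ℤ := (-1 : ℤ) ^ (m - 1) * ((m - 1).factorial : ℤ)
  let Z : Set A := {z | z ∈ LambdaRing.gammaFil (ε : A →+* K) m ∧
    LambdaRing.gamma m z - α • z ∈ LambdaRing.gammaFil (ε : A →+* K) (m + 1)}
  have hmm : LambdaRing.gammaFil (ε : A →+* K) m * LambdaRing.gammaFil (ε : A →+* K) m ≤
      LambdaRing.gammaFil (ε : A →+* K) (m + 1) := by
    rw [Ideal.mul_le]
    intro y hy y' hy'
    exact hF.anti _ _ (by omega) (hF.mul _ _ _ _ hy hy')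
  have hZadd : ∀ z1 z2 : A, z1 ∈ Z → z2 ∈ Z → z1 + z2 ∈ Z := by
    rintro z1 z2 ⟨h1, h1'⟩ ⟨h2, h2'⟩
    refine ⟨add_mem h1 h2, ?_⟩
    rw [gamma_add_split m hm]
    have h3 : ∑ i ∈ Finset.range (m - 1), LambdaRing.gamma (i + 1) z1 * LambdaRing.gamma (m - (i + 1)) z2 ∈
        LambdaRing.gammaFil (ε : A →+* K) (m + 1) := by
      refine Ideal.sum_mem _ fun i hi => ?_
      have hi' := Finset.mem_range.1 hi
      exact hmm (Ideal.mul_mem_mul (hP1 m hm z1 h1 (i + 1) (by omega))
        (hP1 m hm z2 h2 (m - (i + 1)) (by omega)))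
    have h5 : LambdaRing.gamma m z1 + LambdaRing.gamma m z2 +
        ∑ i ∈ Finset.range (m - 1), LambdaRing.gamma (i + 1) z1 * LambdaRing.gamma (m - (i + 1)) z2 -
        α • (z1 + z2) =
        ∑ i ∈ Finset.range (m - 1), LambdaRing.gamma (i + 1) z1 * LambdaRing.gamma (m - (i + 1)) z2 +
        ((LambdaRing.gamma m z1 - α • z1) + (LambdaRing.gamma m z2 - α • z2)) := by
      rw [smul_add]
      ring
    rw [h5]
    exact add_mem h3 (add_mem h1' h2')
  have hZsmul : ∀ (c : K) (z : A), z ∈ Z → algebraMap K A c * z ∈ Z := by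
    rintro c z ⟨h1, h1'⟩
    refine ⟨Ideal.mul_mem_left _ _ h1, ?_⟩
    have hs : ∀ a, PowerSeries.coeff a (gser z - 1) ∈ LambdaRing.gammaFil (ε : A →+* K) m := by
      intro a
      rw [map_sub, coeff_gser, PowerSeries.coeff_one]
      split_ifs with h
      · rw [h, gamma_zero_left, sub_self]
        exact zero_mem _
      · rw [sub_zero]
        exact hP1 m hm z h1 a (by omega)
    have h2 : LambdaRing.gamma m (algebraMap K A c * z) - algebraMap K A c * LambdaRing.gamma m z ∈
        LambdaRing.gammaFil (ε : A →+* K) (m + 1) := by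
      rw [gamma_smul hKb hA hε.isLambdaAlg c z m]
      unfold binomSum
      have h1mem : 1 ∈ Finset.range (m + 1) := Finset.mem_range.2 (by omega)
      rw [← Finset.add_sum_erase _ _ h1mem]
      have h3 : (if (1 : ℕ) = 0 then 1 else algebraMap K A (Ring.choose c (1 - 1 + 1))) *
          PowerSeries.coeff m ((gser z - 1) ^ 1) = algebraMap K A c * LambdaRing.gamma m z := by
        rw [if_neg one_ne_zero, pow_one, map_sub, coeff_gser, PowerSeries.coeff_one,
          if_neg (by omega), sub_zero]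
        simp
      rw [h3, add_sub_cancel_left]
      refine Ideal.sum_mem _ fun k hk => ?_
      have hk1 : k ≠ 1 := (Finset.mem_erase.1 hk).1
      rcases Nat.eq_zero_or_pos k with h0 | h0
      · subst h0
        rw [pow_zero, PowerSeries.coeff_one, if_neg (show ¬ m = 0 by omega), mul_zero]
        exact zero_mem _
      · refine Ideal.mul_mem_left _ _ ?_
        exact coeff_pow_mem _ _ hmm (hF.anti _ _ (by omega)) _ hs k (by omega) m
    have h4 : LambdaRing.gamma m (algebraMap K A c * z) - α • (algebraMap K A c * z) =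
        (LambdaRing.gamma m (algebraMap K A c * z) - algebraMap K A c * LambdaRing.gamma m z) +
          algebraMap K A c * (LambdaRing.gamma m z - α • z) := by
      rw [mul_sub, mul_smul_comm]
      ring
    rw [h4]
    exact add_mem h2 (Ideal.mul_mem_left _ _ h1')
  have hgenZ : ∀ l : List (ℕ × A), (∀ p ∈ l, (ε : A →+* K) p.2 = 0) →
      m ≤ (l.map Prod.fst).sum → (l.map fun p => LambdaRing.gamma p.1 p.2).prod ∈ Z := by
    intro l hl hsum
    exact ⟨Ideal.subset_span ⟨l, hl, hsum, rfl⟩,
      (gen_facts (ε : A →+* K) hA m hm l hl hsum).2⟩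
  have hQ : ∀ a : A, a * z ∈ Z := by
    refine Submodule.span_induction (p := fun u _ => ∀ a : A, a * u ∈ Z) ?_ ?_ ?_ ?_ hz
    · rintro _ ⟨l, hl, hn, rfl⟩ a
      rw [hdecomp a l]
      refine hZadd _ _ (hZsmul _ _ (hgenZ l hl hn)) (hgenZ _ ?_ ?_)
      · intro p hp
        rcases List.mem_cons.1 hp with h | h
        · rw [h]
          exact hε0 a
        · exact hl p h
      · rw [List.map_cons, List.sum_cons]
        omega
    · intro a
      rw [mul_zero]
      refine ⟨zero_mem _, ?_⟩
      rw [gamma_zero_right m hm, smul_zero, sub_zero]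
      exact zero_mem _
    · intro y y' _ _ hy hy' a
      rw [mul_add]
      exact hZadd _ _ (hy a) (hy' a)
    · intro b y _ hy a
      rw [smul_eq_mul, ← mul_assoc]
      exact hy (a * b)
  have h1 := (hQ 1).2
  rw [one_mul] at h1
  have h2 : (-1 : A) ^ (m - 1) * ((m - 1).factorial : A) * z =
      ((-1 : ℤ) ^ (m - 1) * ((m - 1).factorial : ℤ)) • z := by
    rw [zsmul_eq_mul]
    push_cast
    ring
  rw [h2]
  exact h1

end Groth.Agent.S8690
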