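import Groth.Statements.S8651
import Groth.Agent.S8649

set_option autoImplicit false
universe u
open Finset
open LambdaRing

namespace Groth.Agent.S8651

/-- recursion for elementary symmetric sums -/
theorem esymm_insert {A : Type u} [CommRing A] {ι : Type} [DecidableEq ι] (u : ι → A)
    (a : ι) (s : Finset ι) (ha : a ∉ s) (m : ℕ) :
    ∑ t ∈ (insert a s).powersetCard (m + 1), ∏ i ∈ t, u i =
      ∑ t ∈ s.powersetCard (m + 1), ∏ i ∈ t, u i + u a * ∑ t ∈ s.powersetCard m, ∏ i ∈ t, u i := by
  rw [Finset.powersetCard_succ_insert ha, Finset.sum_union, Finset.sum_image, Finset.mul_sum]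
  · congr 1
    apply Finset.sum_congr rfl
    intro t ht
    rw [Finset.mem_powersetCard] at ht
    rw [Finset.prod_insert (fun h => ha (ht.1 h))]
  · intro t ht t' ht' h
    rw [Finset.mem_coe, Finset.mem_powersetCard] at ht ht'
    have h1 : a ∉ t := fun h => ha (ht.1 h)
    have h2 : a ∉ t' := fun h => ha (ht'.1 h)
    rw [← Finset.erase_insert h1, ← Finset.erase_insert h2, h]
  · rw [Finset.disjoint_left]
    intro t ht ht'
    rw [Finset.mem_powersetCard] at ht
    rw [Finset.mem_image] at ht'
    obtain ⟨t', _, rfl⟩ := ht'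
    exact ha (ht.1 (Finset.mem_insert_self a t'))

/-- the gamma operations and adding a line-like element minus one -/
theorem gamma_add_line_sub_one {A : Type u} [CommRing A] [LambdaRing.LambdaOps A]
    (h1 : ∀ k : ℕ, 2 ≤ k → LambdaRing.LambdaOps.lam k (1 : A) = 0) (y : A)
    (hy : ∀ j : ℕ, 2 ≤ j → LambdaRing.LambdaOps.lam j y = 0) (m : ℕ) (z : A) :
    LambdaRing.gamma (m + 1) (z + y - 1) =
      LambdaRing.gamma (m + 1) z + (y - 1) * LambdaRing.gamma m z := by
  rw [Groth.Agent.S8649.result A h1, Groth.Agent.S8649.result A h1, Groth.Agent.S8649.result A h1]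
  cases m with
  | zero =>
    simp only [zero_add, LambdaRing.LambdaOps.lam_one, LambdaRing.LambdaOps.lam_zero]
    push_cast
    ring
  | succ m =>
    have e1 : z + y - 1 + ((m + 1 + 1 : ℕ) : A) - 1 = (z + (m : A)) + y := by push_cast; ring
    have e2 : z + ((m + 1 + 1 : ℕ) : A) - 1 = (z + (m : A)) + 1 := by push_cast; ring
    have e3 : z + ((m + 1 : ℕ) : A) - 1 = z + (m : A) := by push_cast; ring
    rw [e1, e2, e3, Groth.Agent.S8649.lam_add_line y hy, Groth.Agent.S8649.lam_add_line 1 h1]
    ring

/-- the statement over an arbitrary finite set of indices -/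
theorem gamma_finset {A : Type u} [CommRing A] [LambdaRing.LambdaOps A]
    (h1 : ∀ k : ℕ, 2 ≤ k → LambdaRing.LambdaOps.lam k (1 : A) = 0) {ι : Type} [DecidableEq ι]
    (y : ι → A) (s : Finset ι)
    (hy : ∀ i ∈ s, ∀ j : ℕ, 2 ≤ j → LambdaRing.LambdaOps.lam j (y i) = 0) :
    ∀ k : ℕ, LambdaRing.gamma k (∑ i ∈ s, y i - (s.card : A)) =
      ∑ t ∈ s.powersetCard k, ∏ i ∈ t, (y i - 1) := by
  induction s using Finset.induction_on with
  | empty =>
    intro k
    cases k with
    | zero => simp [LambdaRing.gamma]
    | succ k =>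
      rw [Finset.powersetCard_eq_empty.2 (by simp), Finset.sum_empty]
      unfold LambdaRing.gamma
      rw [if_neg (Nat.succ_ne_zero k)]
      apply Finset.sum_eq_zero
      intro j _
      by_cases hj0 : j = 0
      · simp [hj0]
      · rw [if_neg hj0]
        have hl0 : ∀ j : ℕ, j ≠ 0 → LambdaRing.LambdaOps.lam j (0 : A) = 0 := by
          intro j
          induction j using Nat.strong_induction_on with
          | _ j ih =>
            intro hj
            have h := LambdaRing.LambdaOps.lam_add j (0 : A) 0
            rw [Finset.sum_range_succ, Nat.sub_self, LambdaRing.LambdaOps.lam_zero, mul_one] at h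
            obtain ⟨j', rfl⟩ : ∃ j', j = j' + 1 := ⟨j - 1, by omega⟩
            rw [Finset.sum_range_succ'] at h
            have hz : ∑ i ∈ range j', LambdaRing.LambdaOps.lam (i + 1) (0 : A) *
                LambdaRing.LambdaOps.lam (j' + 1 - (i + 1)) 0 = 0 := by
              apply Finset.sum_eq_zero
              intro i hi
              rw [Finset.mem_range] at hi
              rw [ih (i + 1) (by omega) (by omega), zero_mul]
            rw [hz, zero_add, LambdaRing.LambdaOps.lam_zero, one_mul] at h
            simpa using h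
        simp [hl0 j hj0]
  | insert a s ha ih =>
    intro k
    have ih' := ih (fun i hi => hy i (Finset.mem_insert_of_mem hi))
    cases k with
    | zero => simp [LambdaRing.gamma]
    | succ m =>
      rw [esymm_insert _ a s ha, ← ih' (m + 1), ← ih' m, Finset.sum_insert ha,
        Finset.card_insert_of_notMem ha]
      have e : y a + ∑ i ∈ s, y i - ((s.card + 1 : ℕ) : A) =
          (∑ i ∈ s, y i - (s.card : A)) + y a - 1 := by push_cast; ring
      rw [e, gamma_add_line_sub_one h1 (y a) (hy a (Finset.mem_insert_self a s))]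

/-- Let A be a pre-λ-ring (λ^0 = 1, λ^1 = id, additive formula) in which λ^k(1) = 0 for all k ≥ 2, and
let y_1, …, y_n ∈ A satisfy λ^j(y_i) = 0 for every j ≥ 2; put x = Σ_i y_i. Then for every k the
element γ^k(x − n) (γ-operations: the coefficients of λ_{t/(1−t)}) equals the k-th elementary
symmetric function of y_1 − 1, …, y_n − 1, namely the sum over the k-element subsets s of the index
set of Π_{i ∈ s} (y_i − 1); in particular γ^k(x − n) = 0 for k > n. (The published statement is for
a λ-ring; its proof uses only additivity and λ_t(1) = 1 + t, the hypotheses taken here.) -/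
theorem result (A : Type u) [CommRing A] [LambdaRing.LambdaOps A]
    (h1 : ∀ k : ℕ, 2 ≤ k → LambdaRing.LambdaOps.lam k (1 : A) = 0) (n : ℕ) (y : Fin n → A)
    (hy : ∀ (i : Fin n) (j : ℕ), 2 ≤ j → LambdaRing.LambdaOps.lam j (y i) = 0) (k : ℕ) :
    LambdaRing.gamma k (∑ i : Fin n, y i - (n : A)) =
      ∑ s ∈ (univ : Finset (Fin n)).powersetCard k, ∏ i ∈ s, (y i - 1) := by
  classical
  have h := gamma_finset h1 y (univ : Finset (Fin n)) (fun i _ => hy i) k
  simpa using h

end Groth.Agent.S8651
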