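import Groth.Statements.S15574
import Mathlib
import Groth.Agent.Lib.Helper78.RInvLocal

set_option autoImplicit false
universe u v
open RInv

namespace Groth.Agent.S15574

/-- Let `R` be a commutative ring with an involution `lam` whose fixed ring `S` is local, and suppose
`R` is a quadratic etale `S`-algebra. Then some `r` in `R` has `r - lam r` invertible. -/
theorem result (S : Type u) (R : Type v) [CommRing S] [CommRing R]
    [Algebra S R] (lam : R ≃+* R) (hlam : Function.Involutive lam) (hS : RInv.IsFixedRing S R lam)
    [IsLocalRing S] (hq : RInv.IsQuadEtale S R) : ∃ r : R, IsUnit (r - lam r) := by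
  classical
  obtain ⟨hfin, hproj, hunr, hrank⟩ := hq
  have hnt : Nontrivial R := Groth.Agent.Lib.Helper78.RInvLocal.nontrivial_of_isFixedRing hS
  -- the twisted derivation `δ = id - lam`
  set I : Ideal R := Ideal.span (Set.range fun r : R => r - lam r) with hI
  have hδI : ∀ r : R, r - lam r ∈ I := fun r => Ideal.subset_span ⟨r, rfl⟩
  have hfixS : ∀ s : S, lam (algebraMap S R s) = algebraMap S R s :=
    Groth.Agent.Lib.Helper78.RInvBasic.fixed_algebraMap hS
  -- `I` is finitely generated
  have hIfg : I.FG := by
    obtain ⟨T, hT⟩ := (Module.Finite.fg_top : (⊤ : Submodule S R).FG)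
    refine ⟨T.image (fun r => r - lam r), ?_⟩
    apply le_antisymm
    · apply Ideal.span_mono
      rw [Finset.coe_image]
      exact Set.image_subset_range _ _
    · rw [hI, Ideal.span_le]
      rintro _ ⟨r, rfl⟩
      have hr : r ∈ Submodule.span S (T : Set R) := by rw [hT]; exact Submodule.mem_top
      rw [SetLike.mem_coe]
      have key : ∀ r ∈ Submodule.span S (T : Set R),
          r - lam r ∈ Ideal.span ((T.image (fun r => r - lam r) : Finset R) : Set R) := by
        intro r hr
        induction hr using Submodule.span_induction with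
        | mem x hx => exact Ideal.subset_span (by rw [Finset.coe_image]; exact ⟨x, hx, rfl⟩)
        | zero => simp
        | add x y _ _ hx hy =>
          have : x + y - lam (x + y) = (x - lam x) + (y - lam y) := by rw [map_add]; ring
          rw [this]; exact Ideal.add_mem _ hx hy
        | smul c x _ hx =>
          have : c • x - lam (c • x) = algebraMap S R c * (x - lam x) := by
            rw [Algebra.smul_def, map_mul, hfixS]; ring
          rw [this]; exact Ideal.mul_mem_left _ _ hx
      exact key r hr
  -- the derivation `R → I ⧸ I • I`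
  have hII : ∀ r : R, r - lam r ∈ I * I := by
    -- Ω = 0, so every derivation vanishes
    let N := (I • (⊤ : Submodule R I))
    let D : Derivation S R (I ⧸ N) :=
      { toFun := fun r => N.mkQ ⟨r - lam r, hδI r⟩
        map_add' := fun x y => by
          rw [← map_add]; congr 1; ext; simp only [Submodule.coe_add, map_add]; ring
        map_smul' := fun c x => by
          rw [RingHom.id_apply, ← LinearMap.map_smul_of_tower]
          congr 1; ext
          simp only [Submodule.coe_smul_of_tower]
          rw [Algebra.smul_def, map_mul, hfixS, Algebra.smul_def]; ring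
        map_one_eq_zero' := by
          have : (⟨(1 : R) - lam 1, hδI 1⟩ : I) = 0 := by
            apply Subtype.ext
            change (1 : R) - lam 1 = 0
            rw [map_one, sub_self]
          change N.mkQ ⟨(1 : R) - lam 1, hδI 1⟩ = 0
          rw [this, map_zero]
        leibniz' := fun a b => by
          change N.mkQ ⟨a * b - lam (a * b), _⟩ =
            a • N.mkQ ⟨b - lam b, _⟩ + b • N.mkQ ⟨a - lam a, _⟩
          rw [← map_smul, ← map_smul, ← map_add, ← sub_eq_zero, ← map_sub, Submodule.mkQ_apply,
            Submodule.Quotient.mk_eq_zero]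
          -- difference is `-(b - lam b) • (a - lam a)`
          have hmem : (b - lam b) • (⟨a - lam a, hδI a⟩ : I) ∈ N :=
            Submodule.smul_mem_smul (hδI b) Submodule.mem_top
          have heq : (⟨a * b - lam (a * b), hδI (a * b)⟩ : I) -
              (a • (⟨b - lam b, hδI b⟩ : I) + b • (⟨a - lam a, hδI a⟩ : I)) =
              -((b - lam b) • (⟨a - lam a, hδI a⟩ : I)) := by
            ext
            simp only [Submodule.coe_sub, Submodule.coe_add, Submodule.coe_smul, smul_eq_mul,
              Submodule.coe_neg, map_mul]
            ring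
          rw [heq]
          exact Submodule.neg_mem _ hmem }
    have hD0 : D = 0 := by
      have hsub : Subsingleton (Ω[R⁄S]) := hunr.1
      have hl : D.liftKaehlerDifferential = 0 :=
        LinearMap.ext fun x => by rw [Subsingleton.elim x 0, map_zero, map_zero]
      ext r
      rw [← D.liftKaehlerDifferential_comp_D r, hl]; rfl
    intro r
    have h1 : D r = 0 := by rw [hD0]; rfl
    have h2 : (⟨r - lam r, hδI r⟩ : I) ∈ N := by
      rw [← Submodule.Quotient.mk_eq_zero]; exact h1
    -- transport to `I * I`
    have h3 : (N.map I.subtype) = I * I := by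
      change (I • (⊤ : Submodule R I)).map (Submodule.subtype I) = I * I
      rw [Submodule.map_smul'', Submodule.map_top, Submodule.range_subtype]; rfl
    rw [← h3]
    exact ⟨_, h2, rfl⟩
  have hidem : IsIdempotentElem I := by
    apply le_antisymm
    · exact Ideal.mul_le_right
    · rw [hI, Ideal.span_le]
      rintro _ ⟨r, rfl⟩
      exact hII r
  obtain ⟨e, he, hIe⟩ := (Ideal.isIdempotentElem_iff_of_fg I hIfg).mp hidem
  -- `lam e = e`
  have hlamI : ∀ x ∈ I, lam x ∈ I := by
    intro x hx
    rw [hI] at hx
    induction hx using Submodule.span_induction with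
    | mem x hx =>
      obtain ⟨r, rfl⟩ := hx
      have : lam (r - lam r) = lam r - lam (lam r) := map_sub _ _ _
      rw [this]; exact hδI _
    | zero => simp
    | add x y _ _ hx hy => rw [map_add]; exact Ideal.add_mem _ hx hy
    | smul c x _ hx => rw [smul_eq_mul, map_mul]; exact Ideal.mul_mem_left _ _ hx
  have heI : e ∈ I := by rw [hIe]; exact Ideal.mem_span_singleton_self e
  have hlame : lam e = e := by
    -- both `e` and `lam e` are idempotent generators of `I`
    have h1 : lam e ∈ I := hlamI e heI
    rw [hIe, Ideal.mem_span_singleton'] at h1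
    obtain ⟨a, ha⟩ := h1
    have h2 : lam e * e = lam e := by rw [← ha, mul_assoc, he.eq]
    have h3 : e = lam (lam e) := (hlam e).symm
    have h4 : lam (lam e * e) = lam (lam e) := congrArg lam h2
    rw [map_mul, hlam e] at h4
    rw [← h2, mul_comm]; exact h4
  obtain ⟨s, hs⟩ := Groth.Agent.Lib.Helper78.RInvBasic.exists_of_fixed hS hlame
  have hsid : IsIdempotentElem s := by
    apply hS.1
    rw [map_mul, hs]; exact he.eq
  have hs01 : s = 0 ∨ s = 1 := by
    have hmul : s * (1 - s) = 0 := by rw [mul_sub, mul_one, hsid.eq, sub_self]
    rcases IsLocalRing.isUnit_or_isUnit_one_sub_self s with hu | hu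
    · right
      have := hu.mul_right_eq_zero.mp hmul
      exact (sub_eq_zero.mp this).symm
    · left
      exact hu.mul_left_eq_zero.mp hmul
  rcases hs01 with h0 | h1
  · -- `I = ⊥`: `lam = id`, so `R = S` has rank one
    exfalso
    have hI0 : I = ⊥ := by
      rw [hIe, ← hs, h0, map_zero]; exact Ideal.span_singleton_eq_bot.mpr rfl
    have hlamid : ∀ r : R, lam r = r := by
      intro r
      have := hδI r
      rw [hI0, Ideal.mem_bot, sub_eq_zero] at this
      exact this.symm
    have hsurj : Function.Surjective (algebraMap S R) := fun r => (hS.2 r).mp (hlamid r)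
    let eq : S ≃ₗ[S] R := LinearEquiv.ofBijective (Algebra.linearMap S R) ⟨hS.1, hsurj⟩
    have h2 := hrank (IsLocalRing.closedPoint S)
    rw [Module.rankAtStalk_eq_of_equiv (R := S) (M := R) (N := S) eq.symm] at h2
    simp at h2
  · -- `I = ⊤`
    have hItop : I = ⊤ := by
      rw [hIe, ← hs, h1, map_one]; exact Ideal.span_singleton_one
    by_contra hno
    have hno' : ∀ r : R, ¬ IsUnit (r - lam r) := by simpa [not_exists] using hno
    have hjac : I ≤ Ring.jacobson R := by
      rw [hI, Ideal.span_le]
      rintro _ ⟨r, rfl⟩
      have hanti : lam (r - lam r) = -(r - lam r) := by rw [map_sub, hlam r]; ring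
      rcases Groth.Agent.Lib.Helper78.RInvLocal.isUnit_or_mem_jacobson_of_anti hlam hS hanti with h | h
      · exact absurd h (hno' r)
      · exact h
    rw [hItop, top_le_iff] at hjac
    obtain ⟨M, hM⟩ := Ideal.exists_maximal R
    have : (1 : R) ∈ M := by
      have h1 : (1 : R) ∈ Ring.jacobson R := by rw [hjac]; exact Submodule.mem_top
      rw [Ring.jacobson_eq_sInf_isMaximal, Ideal.mem_sInf] at h1
      exact h1 hM
    exact hM.ne_top ((Ideal.eq_top_iff_one _).mpr this)

end Groth.Agent.S15574
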