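import Groth.Statements.S15586
import Mathlib

set_option autoImplicit false
universe u v w
open scoped TensorProduct
open RInv

namespace Groth.Agent.S15586

/-- Let `R` be a commutative ring with an involution `lam` and fixed ring `S`, and let `S'` be a
commutative `S`-algebra. If `S'` is flat over `S`, or if `2` is invertible in `S`, then `S'` is the
fixed ring of the base-changed involution `id ⊗ lam` of `S' ⊗_S R`: the structure map `S' → S' ⊗_S
R` is injective with image the fixed elements. (In general the fixed ring does not commute with base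
change.) -/
theorem result (S : Type u) (R : Type v) (S' : Type w)
    [CommRing S] [CommRing R] [Algebra S R] [CommRing S'] [Algebra S S']
    (lam : R ≃ₐ[S] R) (hlam : Function.Involutive lam)
    (hS : RInv.IsFixedRing S R lam.toRingEquiv)
    (h : Module.Flat S S' ∨ IsUnit (2 : S)) :
    RInv.IsFixedRing S' (S' ⊗[S] R)
      (Algebra.TensorProduct.congr (AlgEquiv.refl : S' ≃ₐ[S] S') lam).toRingEquiv := by
  classical
  obtain ⟨hinj, hfix⟩ := hS
  -- the S-linear maps
  let ι : S →ₗ[S] R := Algebra.linearMap S R
  let δ : R →ₗ[S] R := lam.toLinearMap - LinearMap.id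
  have hιinj : Function.Injective ι := hinj
  have hex : Function.Exact ι δ := by
    intro r
    constructor
    · intro hr
      have h1 : lam r = r := by
        have : lam r - r = 0 := hr
        exact sub_eq_zero.mp this
      exact (hfix r).mp h1
    · rintro ⟨s, rfl⟩
      have h1 : lam (algebraMap S R s) = algebraMap S R s := (hfix _).mpr ⟨s, rfl⟩
      change lam (algebraMap S R s) - algebraMap S R s = 0
      rw [h1, sub_self]
  set Λ := (Algebra.TensorProduct.congr (AlgEquiv.refl : S' ≃ₐ[S] S') lam) with hΛdef
  have hΛ : ∀ x : S' ⊗[S] R, Λ x = (lam.toLinearMap.lTensor S') x := by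
    intro x
    induction x using TensorProduct.induction_on with
    | zero => simp
    | add a b ha hb => rw [map_add, map_add, ha, hb]
    | tmul a b => simp [hΛdef]
  have hδ : ∀ x : S' ⊗[S] R, (δ.lTensor S') x = Λ x - x := by
    intro x
    rw [hΛ]
    simp only [δ, LinearMap.lTensor_sub, LinearMap.sub_apply, LinearMap.lTensor_id, LinearMap.id_apply]
  have halg : ∀ s' : S', algebraMap S' (S' ⊗[S] R) s' = (ι.lTensor S') (s' ⊗ₜ[S] (1 : S)) := by
    intro s'
    simp [ι, Algebra.TensorProduct.algebraMap_apply]
  have hrange : ∀ x : S' ⊗[S] R, x ∈ Set.range (algebraMap S' (S' ⊗[S] R)) ↔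
      x ∈ LinearMap.range (ι.lTensor S') := by
    intro x
    constructor
    · rintro ⟨s', rfl⟩
      exact ⟨_, (halg s').symm⟩
    · rintro ⟨y, rfl⟩
      refine ⟨TensorProduct.rid S S' y, ?_⟩
      induction y using TensorProduct.induction_on with
      | zero => simp
      | add a b ha hb => rw [map_add, map_add, map_add, ha, hb]
      | tmul a c =>
        rw [TensorProduct.rid_tmul, LinearMap.lTensor_tmul, Algebra.TensorProduct.algebraMap_apply]
        simp only [ι, Algebra.linearMap_apply, Algebra.algebraMap_self, RingHom.id_apply]
        rw [Algebra.algebraMap_eq_smul_one c, TensorProduct.tmul_smul, TensorProduct.smul_tmul']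
  -- it suffices to show injectivity and exactness after tensoring
  suffices hmain : Function.Injective (ι.lTensor S') ∧ Function.Exact (ι.lTensor S') (δ.lTensor S') by
    obtain ⟨hi, he⟩ := hmain
    refine ⟨?_, fun x => ?_⟩
    · intro a b hab
      rw [halg, halg] at hab
      have := hi hab
      have h2 := congrArg (TensorProduct.rid S S') this
      simpa using h2
    · change Λ x = x ↔ _
      rw [hrange]
      constructor
      · intro hx
        exact LinearMap.mem_range.mpr ((he x).mp (by rw [hδ, hx, sub_self]))
      · intro hx
        have := (he x).mpr (LinearMap.mem_range.mp hx)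
        rw [hδ] at this
        exact sub_eq_zero.mp this
  rcases h with hflat | h2
  · exact ⟨Module.Flat.lTensor_preserves_injective_linearMap ι hιinj,
      Module.Flat.lTensor_exact S' hex⟩
  · -- retraction of ι
    obtain ⟨u, hu⟩ := h2
    let half : S := ↑u⁻¹
    have hhalf : half * 2 = 1 := by rw [← hu]; exact Units.inv_mul u
    let avg : R →ₗ[S] R := half • (LinearMap.id + lam.toLinearMap)
    have havg_fixed : ∀ r, avg r ∈ LinearMap.range ι := by
      intro r
      have : lam (avg r) = avg r := by
        simp only [avg, LinearMap.smul_apply, LinearMap.add_apply, LinearMap.id_apply,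
          AlgEquiv.toLinearMap_apply, map_smul, map_add, hlam r]
        rw [add_comm]
      exact (hfix _).mp this
    let e := LinearEquiv.ofInjective ι hιinj
    let ρ : R →ₗ[S] S := e.symm.toLinearMap ∘ₗ (LinearMap.codRestrict (LinearMap.range ι) avg havg_fixed)
    have hιρ : ∀ r, ι (ρ r) = avg r := by
      intro r
      have := LinearEquiv.apply_symm_apply e (LinearMap.codRestrict (LinearMap.range ι) avg havg_fixed r)
      exact congrArg Subtype.val this
    have hρι : ρ ∘ₗ ι = LinearMap.id := by
      ext
      apply hιinj
      rw [LinearMap.comp_apply, hιρ]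
      simp only [avg, LinearMap.smul_apply, LinearMap.add_apply, LinearMap.id_apply,
        AlgEquiv.toLinearMap_apply, LinearMap.id_coe, id_eq]
      have h1 : lam (ι 1) = ι 1 := (hfix _).mpr ⟨1, rfl⟩
      rw [h1, ← two_smul S (ι 1), smul_smul, hhalf, one_smul]
    have hi : Function.Injective (ι.lTensor S') := by
      have h1 : (ρ.lTensor S') ∘ₗ (ι.lTensor S') = LinearMap.id := by
        rw [← LinearMap.lTensor_comp, hρι, LinearMap.lTensor_id]
      exact Function.LeftInverse.injective (g := ρ.lTensor S') (fun y => LinearMap.congr_fun h1 y)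
    refine ⟨hi, fun x => ⟨fun hx => ?_, ?_⟩⟩
    · -- x fixed ⇒ x = avg x
      have hx' : (lam.toLinearMap.lTensor S') x = x := by
        have := hδ x
        rw [hx, hΛ] at this
        exact (sub_eq_zero.mp this.symm)
      have h1 : (avg.lTensor S') x = x := by
        simp only [avg, LinearMap.lTensor_smul, LinearMap.lTensor_add, LinearMap.lTensor_id,
          LinearMap.smul_apply, LinearMap.add_apply, LinearMap.id_apply, hx']
        rw [← two_smul S x, smul_smul, hhalf, one_smul]
      have h2 : avg = ι ∘ₗ ρ := by
        ext r; exact (hιρ r).symm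
      refine ⟨(ρ.lTensor S') x, ?_⟩
      rw [← LinearMap.comp_apply, ← LinearMap.lTensor_comp, ← h2, h1]
    · rintro ⟨y, rfl⟩
      rw [← LinearMap.comp_apply, ← LinearMap.lTensor_comp, hex.linearMap_comp_eq_zero,
        LinearMap.lTensor_zero, LinearMap.zero_apply]

end Groth.Agent.S15586
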