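import Groth.Statements.S13576
-- import your own Groth.Agent.* helpers here

set_option autoImplicit false
universe u
open CategoryTheory CategoryTheory.Limits MonoidalCategory
attribute [local instance] HasDerivedCategory.standard
open DTen

namespace Groth.Agent.S13576

variable {A : Type u} [CommRing A]

/-- The symmetry of complexes is an involution. -/
theorem braidCx_braidCx (K L : DRing.Cx A) :
    (braidCx K L).hom ≫ (braidCx L K).hom = 𝟙 (K ⊗ L) := by
  refine HomologicalComplex.hom_ext _ _ (fun n => HomologicalComplex.mapBifunctor.hom_ext (fun p q h => ?_))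
  have h' : p + q = n := h
  have h'' : q + p = n := by omega
  rw [HomologicalComplex.comp_f]
  erw [ι_braidCx_hom_assoc K L p q n h']
  simp only [Linear.units_smul_comp, Category.assoc]
  erw [ι_braidCx_hom L K q p n h'']
  simp only [Linear.comp_units_smul, smul_smul]
  rw [mul_comm q p, Int.units_mul_self, one_smul]
  erw [SymmetricCategory.symmetry_assoc]
  erw [Category.comp_id]

/-- The double symmetry as an endomorphism of the derived tensor product. -/
noncomputable def symmSq (A : Type u) [CommRing A] [DTen.HasLTen A] : LTen₂ A ⟶ LTen₂ A where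
  app X := (DTen.symm A).app (X.2, X.1) ≫ (DTen.symm A).app X
  naturality X Y f := by
    have h1 := (DTen.symm A).naturality (X := (X.2, X.1)) (Y := (Y.2, Y.1)) (Prod.mkHom f.2 f.1)
    have h2 := (DTen.symm A).naturality f
    have hf : Prod.mkHom f.1 f.2 = f := rfl
    dsimp at h1 h2 ⊢
    rw [hf] at h1
    rw [← Category.assoc, h1, Category.assoc, h2, Category.assoc]

theorem symmSq_eq_id (A : Type u) [CommRing A] [DTen.HasLTen A] : symmSq A = 𝟙 (LTen₂ A) := by
  apply (LTen₂ A).leftDerived_ext (ε A) (qis₂ A)
  ext ⟨K, L⟩
  dsimp [symmSq]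
  rw [Category.assoc]
  erw [symm_fac A K L, ← Category.assoc, symm_fac A L K, Category.assoc, ← Functor.map_comp,
    braidCx_braidCx, CategoryTheory.Functor.map_id, Category.comp_id, Category.id_comp]

theorem symm_symm (A : Type u) [CommRing A] [DTen.HasLTen A] (K L : Dual.D A) :
    (DTen.symm A).app (L, K) ≫ (DTen.symm A).app (K, L) = 𝟙 _ := by
  have := congrArg (fun t => t.app (K, L)) (symmSq_eq_id A)
  exact this

/-- For a commutative ring `A` and objects `K`, `L` of `D(A)`, the canonical symmetry morphism `L ⊗^L K
⟶ K ⊗^L L` of the derived tensor product, the one compatible with the swap of complexes carrying the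
sign `(-1)^{pq}` on `K^p ⊗ L^q`, is an isomorphism. -/
theorem result (A : Type u) [CommRing A] [DTen.HasLTen A] (K L : Dual.D A) :
    IsIso ((DTen.symm A).app (K, L)) :=
  ⟨(DTen.symm A).app (L, K), symm_symm A L K, symm_symm A K L⟩

end Groth.Agent.S13576
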