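import Groth.Statements.S6946
import Groth.Agent.Lib.Helper12.TorBridge

set_option autoImplicit false
universe u
open CategoryTheory CategoryTheory.Limits
attribute [local instance] HasDerivedCategory.standard
open DRing

namespace Groth.Agent.S6946

open Groth.Agent.Lib.Helper12

lemma hasTorDimLE_iff (R : Type u) [CommRing R] (M : Type u) [AddCommGroup M] [Module R M] (d : ℕ) :
    DRing.HasTorDimLE R d M ↔
      ∀ (N : ModuleCat.{u} R) (p : ℕ), d < p → IsZero (TorM p (ModuleCat.of R M) N) := by
  constructor
  · intro h N p hp
    have := h N p hp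
    exact ModuleCat.isZero_of_subsingleton _
  · intro h N _ _ p hp
    exact ModuleCat.subsingleton_of_isZero (h (ModuleCat.of R N) p hp)

/-- With the definition of tor dimension: let R be a commutative ring, M an R-module and d a natural
number. Then Tor_p^R(M, N) = 0 for every R-module N and every p > d if and only if M[0] is
isomorphic in D(R) to a complex of flat modules vanishing outside [-d, 0] (a flat resolution of M of
length d). In particular M has tor dimension 0 (Tor_p^R(M, N) = 0 for every N and every p > 0) if
and only if M is flat. -/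
theorem result (R : Type u) [CommRing R] (M : Type u)
    [AddCommGroup M] [Module R M] (d : ℕ) :
    (DRing.HasTorDimLE R d M ↔ DRing.HasTorAmplitudeIn R (-(d : ℤ)) 0 (Dual.inD R M)) ∧
      (DRing.HasTorDimLE R 0 M ↔ Module.Flat R M) := by
  refine ⟨?_, ?_⟩
  · rw [hasTorDimLE_iff]
    exact ⟨fun h => hasTorAmplitudeIn_of_isZero_TorM (ModuleCat.of R M) d h,
      fun h N p hp => isZero_TorM_of_hasTorAmplitudeIn (ModuleCat.of R M) d h N p hp⟩
  · rw [hasTorDimLE_iff]
    constructor
    · intro h
      exact flat_of_isZero_TorM_one (ModuleCat.of R M) (fun N => h N 1 (by omega))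
    · intro h N p hp
      obtain ⟨n, rfl⟩ : ∃ n, p = n + 1 := ⟨p - 1, by omega⟩
      have : Module.Flat R (ModuleCat.of R M) := h
      exact isZero_TorM_succ_of_flat (ModuleCat.of R M) N n

end Groth.Agent.S6946
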