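import Groth.Statements.S6940
import Groth.Agent.Lib.Helper12.DRingRestrict
-- import your own Groth.Agent.* helpers here

set_option autoImplicit false
universe u
open CategoryTheory CategoryTheory.Limits
attribute [local instance] HasDerivedCategory.standard
open DRing

namespace Groth.Agent.S6940

open Groth.Agent.Lib.Helper12

/-- `B` restricted along `algebraMap A B` is `B` as an `A`-module -/
noncomputable def resScSelfEquiv (A B : Type u) [CommRing A] [CommRing B] [Algebra A B] :
    ((resSc (algebraMap A B)).obj (ModuleCat.of B B)) ≃ₗ[A] B where
  toFun := fun x => x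
  invFun := fun x => x
  map_add' := fun _ _ => rfl
  map_smul' := fun a x => by
    refine (ModuleCat.restrictScalars.smul_def (algebraMap A B) a x).trans ?_
    exact (Algebra.smul_def a (show B from x)).symm
  left_inv := fun _ => rfl
  right_inv := fun _ => rfl

/-- `B` restricted along `algebraMap A B` is `B` as an `A`-module -/
noncomputable def resScSelfIso (A B : Type u) [CommRing A] [CommRing B] [Algebra A B] :
    (resSc (algebraMap A B)).obj (ModuleCat.of B B) ≅ ModuleCat.of A B :=
  (resScSelfEquiv A B).toModuleIso

lemma resPC_of {A B : Type u} [CommRing A] [CommRing B] [Algebra A B]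
    (hB : DRing.IsPseudoCoherentModule' A B) : ResPC (algebraMap A B) := by
  intro m
  exact isPseudoCoherent_of_iso' (inDMapIso (resScSelfIso A B)).symm
    (isPseudoCoherent_of_isPseudoCoherent' hB m)

/-- Let A → B be a homomorphism of commutative rings making B a pseudo-coherent A-module; let K be an
object of D(B) and m an integer. Then m-pseudo-coherence of K over B is equivalent to
m-pseudo-coherence over A of K with its scalars restricted to A, and likewise pseudo-coherence of K
over B is equivalent to pseudo-coherence over A of its restriction. -/
theorem result {A B : Type u} [CommRing A]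
    [CommRing B] [Algebra A B] (hB : DRing.IsPseudoCoherentModule' A B) (K : Dual.D B) (m : ℤ) :
    (DRing.IsPseudoCoherent B m K ↔ DRing.IsPseudoCoherent A m ((DRing.restrictD (algebraMap A B)).obj K)) ∧
      (DRing.IsPseudoCoherent' B K ↔ DRing.IsPseudoCoherent' A ((DRing.restrictD (algebraMap A B)).obj K)) := by
  exact ⟨isPseudoCoherent_restrictD_iff (resPC_of hB) m K,
    isPseudoCoherent'_restrictD_iff (resPC_of hB) K⟩

end Groth.Agent.S6940
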