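import Groth.Statements.S9456
import Groth.Agent.Lib.Helper54.FlatPkg2

set_option autoImplicit false
universe u
open CAlg

namespace Groth.Agent.S9456

open TensorProduct in
attribute [local instance] Algebra.TensorProduct.rightAlgebra in
/-- The main argument: descend to a finite type `ℤ`-algebra, apply the global Noetherian
approximation of flatness, and package the result. -/
theorem main (R : Type u) [CommRing R]
    (S : Type u) [CommRing S] [Algebra R S] [Algebra.FinitePresentation R S] (M : Type u)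
    [AddCommGroup M] [Module S M] [Module R M] [IsScalarTower R S M]
    [Module.FinitePresentation S M] [Module.Flat R M] :
    ∃ (R₀ : Type u) (_ : CommRing R₀) (_ : Algebra R₀ R) (S₀ : Type u) (_ : CommRing S₀)
      (_ : Algebra R₀ S₀) (_ : Algebra S₀ S) (_ : Algebra R₀ S) (_ : IsScalarTower R₀ R S)
      (_ : IsScalarTower R₀ S₀ S) (M₀ : Type u) (_ : AddCommGroup M₀) (_ : Module S₀ M₀)
      (_ : Module R₀ M₀) (_ : IsScalarTower R₀ S₀ M₀) (_ : Module S₀ M) (_ : IsScalarTower S₀ S M)
      (f : M₀ →ₗ[S₀] M),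
      Algebra.FiniteType ℤ R₀ ∧ Algebra.FiniteType R₀ S₀ ∧ Module.Finite S₀ M₀ ∧ Module.Flat R₀ M₀ ∧
        Algebra.IsPushout R₀ R S₀ S ∧ IsBaseChange S f := by
  classical
  obtain ⟨R₀, i1, i2, S₀, i3, i4, M₀, i5, i6, i7, i8, θ, Θ, hft, -, hfp, hfin, hθ, hΘ⟩ :=
    Groth.Agent.Lib.Helper54.FlatPkg.exists_descent R S M ∅ Set.finite_empty
  haveI : IsNoetherianRing R₀ := Algebra.FiniteType.isNoetherianRing ℤ R₀
  haveI : Algebra.FiniteType R₀ S₀ := inferInstance
  have hflat : Module.Flat R ((S₀ ⊗[R₀] R) ⊗[S₀] M₀) :=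
    Groth.Agent.Lib.Helper54.FlatPkg.flat_of_semilinear R₀ S₀ M₀ θ hθ Θ hΘ
  obtain ⟨T, hTfg, hT⟩ := Groth.Agent.Lib.Helper54.FlatStage7.exists_fg_flat R₀ S₀ M₀ R hflat
  have hTflat := hT T le_rfl
  haveI : Algebra.FiniteType R₀ T := (Subalgebra.fg_iff_finiteType T).1 hTfg
  have hTfin : Algebra.FiniteType ℤ T := Algebra.FiniteType.trans hft inferInstance
  exact Groth.Agent.Lib.Helper54.FlatPkg2.package R₀ S₀ M₀ θ hθ Θ hΘ T hTfin hTflat

/-- Let R → S be of finite presentation and M a finitely presented S-module which is flat over R. Then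
the triple descends to a finite type ℤ-algebra: there are R₀ of finite type over ℤ with R₀ → R, a
finite type R₀-algebra S₀ with a compatible map S₀ → S making S the base change R ⊗_{R₀} S₀, and a
finite S₀-module M₀ flat over R₀ with an S₀-linear map M₀ → M making M the base change S ⊗_{S₀} M₀. -/
theorem result (R : Type u) [CommRing R]
    (S : Type u) [CommRing S] [Algebra R S] [Algebra.FinitePresentation R S] (M : Type u)
    [AddCommGroup M] [Module S M] [Module R M] [IsScalarTower R S M]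
    [Module.FinitePresentation S M] [Module.Flat R M] :
    ∃ (R₀ : Type u) (_ : CommRing R₀) (_ : Algebra R₀ R) (S₀ : Type u) (_ : CommRing S₀)
      (_ : Algebra R₀ S₀) (_ : Algebra S₀ S) (_ : Algebra R₀ S) (_ : IsScalarTower R₀ R S)
      (_ : IsScalarTower R₀ S₀ S) (M₀ : Type u) (_ : AddCommGroup M₀) (_ : Module S₀ M₀)
      (_ : Module R₀ M₀) (_ : IsScalarTower R₀ S₀ M₀) (_ : Module S₀ M) (_ : IsScalarTower S₀ S M)
      (f : M₀ →ₗ[S₀] M),
      Algebra.FiniteType ℤ R₀ ∧ Algebra.FiniteType R₀ S₀ ∧ Module.Finite S₀ M₀ ∧ Module.Flat R₀ M₀ ∧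
        Algebra.IsPushout R₀ R S₀ S ∧ IsBaseChange S f := by
  exact main R S M

end Groth.Agent.S9456
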