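import Groth.Statements.S13563
import Groth.Agent.Lib.Helper46.TrivBCCmp
import Groth.Agent.Lib.Helper46.SqTauIso

set_option autoImplicit false
universe u
open CategoryTheory
attribute [local instance] HasDerivedCategory.standard
open DRing

namespace Groth.Agent.S13563

open CategoryTheory.Limits Groth.Agent.Lib.Helper46.BaseCmpTorIndep Groth.Agent.Lib.Helper46.TrivBCCmp
  Groth.Agent.Lib.Helper46.SqTauIso Groth.Agent.Lib.Helper46.DTenKProj
  Groth.Agent.Lib.Helper46.DTenAssoc Groth.Agent.Lib.Helper94.KFlatRing

theorem hT_of_htor (R A R' : Type u) [CommRing R] [CommRing A] [CommRing R']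
    [Algebra R A] [Algebra R R']
    (htor : ∀ p : ℕ, 1 ≤ p → Subsingleton (DRing.Tor R p A R')) (n : ℤ) (p : ℕ) :
    IsZero (((Tor (ModuleCat.{u} R) (p + 1)).obj (MA (algebraMap R A))).obj
      ((U (algebraMap R R')).X n)) := by
  by_cases hn : n = 0
  · subst hn
    let i₁ : A ≃ₗ[R] (MA (algebraMap R A)) :=
      { toFun := fun x => x
        invFun := fun x => x
        map_add' := fun _ _ => rfl
        map_smul' := fun r x => (Algebra.smul_def r (show A from x))
        left_inv := fun _ => rfl
        right_inv := fun _ => rfl }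
    let X₂ : ModuleCat.{u} R :=
      (ModuleCat.restrictScalars (algebraMap R R')).obj (ModuleCat.of R' R')
    let i₂ : R' ≃ₗ[R] X₂ :=
      { toFun := fun x => x
        invFun := fun x => x
        map_add' := fun _ _ => rfl
        map_smul' := fun r x => (Algebra.smul_def r (show R' from x))
        left_inv := fun _ => rfl
        right_inv := fun _ => rfl }
    let e₁ : ModuleCat.of R A ≅ MA (algebraMap R A) := i₁.toModuleIso
    let e₂ : ModuleCat.of R R' ≅ X₂ := i₂.toModuleIso
    let e₃ : X₂ ≅ (U (algebraMap R R')).X 0 :=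
      (ModuleCat.restrictScalars (algebraMap R R')).mapIso
        (HomologicalComplex.singleObjXSelf (ComplexShape.up ℤ) (0 : ℤ) (ModuleCat.of R' R')).symm
    haveI := htor (p + 1) (by omega)
    have h0 : IsZero (((Tor (ModuleCat.{u} R) (p + 1)).obj (ModuleCat.of R A)).obj
        (ModuleCat.of R R')) := ModuleCat.isZero_of_subsingleton _
    have h1 : IsZero (((Tor (ModuleCat.{u} R) (p + 1)).obj (MA (algebraMap R A))).obj
        (ModuleCat.of R R')) :=
      h0.of_iso (((Tor (ModuleCat.{u} R) (p + 1)).mapIso e₁).app (ModuleCat.of R R')).symm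
    exact h1.of_iso (((Tor (ModuleCat.{u} R) (p + 1)).obj (MA (algebraMap R A))).mapIso
      (e₂ ≪≫ e₃)).symm
  · have hz := isZero_U_X (algebraMap R R') n hn
    haveI : Projective ((U (algebraMap R R')).X n) := hz.projective
    exact isZero_Tor_succ_of_projective _ _ _ p


/-- Let R → A and R → R' be ring maps and A' = A ⊗_R R' (a cocartesian square of commutative rings),
with A and R' tor independent over R (Tor_p^R(A, R') = 0 for p ≥ 1). The derived base-change
functors − ⊗^L_R R' and − ⊗^L_A A' are given together with adjunctions making them left adjoint to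
restriction of scalars. Then for every K in D(A) the comparison map (K|_R) ⊗^L_R R' → (K ⊗^L_A
A')|_{R'} is an isomorphism. (Both hypotheses are needed: for a square that is not cocartesian tor
independence alone does not suffice.) -/
theorem result (R A R' A' : Type u) [CommRing R] [CommRing A] [CommRing R'] [CommRing A']
    [Algebra R A] [Algebra R R'] [Algebra A A'] [Algebra R' A'] [Algebra R A'] [IsScalarTower R A A'] [IsScalarTower R R' A']
    [Algebra.IsPushout R A R' A']
    (htor : ∀ p : ℕ, 1 ≤ p → Subsingleton (DRing.Tor R p A R'))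
    [DRing.HasLBaseChange (algebraMap R R')] [DRing.HasLBaseChange (algebraMap A A')]
    (adjρ : DRing.LBaseChange (algebraMap R R') ⊣ DRing.restrictD (algebraMap R R'))
    (adjα : DRing.LBaseChange (algebraMap A A') ⊣ DRing.restrictD (algebraMap A A'))
    (h : (algebraMap A A').comp (algebraMap R A) = (algebraMap R' A').comp (algebraMap R R'))
    (K : Dual.D A) : IsIso (TrivBC.cmp adjρ adjα h K) := by
  haveI : DTen.HasLBase (algebraMap R R') := ⟨adjρ.isRightAdjoint⟩
  haveI : DTen.HasLBase (algebraMap A A') := ⟨adjα.isRightAdjoint⟩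
  show IsIso (gcmp adjρ adjα h K)
  rw [isIso_gcmp_iff adjρ adjα (DTen.baseAdj (algebraMap R R')) (DTen.baseAdj (algebraMap A A')) h K]
  obtain ⟨P, hP, ⟨e⟩⟩ := exists_kproj_iso K
  haveI := hP
  refine isIso_gcmp_of_iso _ _ h e ?_
  have hKF : KF A P := (kf_iff A P).2 (isKFlat₂_of_isKProjective A P)
  have hT := hT_of_htor R A R' htor
  have key := gcmp_baseCmp (φ := algebraMap R A) (ρ := algebraMap R R') (α := algebraMap A A')
    (φ' := algebraMap R' A') h P
  haveI i1 : IsIso ((DTen.baseCmp (algebraMap A A')).app P) :=
    isIso_baseCmp_of_isKProjective (algebraMap A A') P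
  haveI i2 : IsIso ((DTen.baseCmp (algebraMap R R')).app ((DTen.resCx (algebraMap R A)).obj P)) :=
    isIso_baseCmp_res (algebraMap R A) (algebraMap R R') hT P hKF
  haveI i3 : IsIso ((DTen.sqτ (algebraMap R A) (algebraMap R R') (algebraMap R' A')
      (algebraMap A A') h).app P) := isIso_sqτ_app R A R' A' h P
  have hR : IsIso ((DTen.LBase (algebraMap R R')).map ((DTen.resFactors (algebraMap R A)).hom.app P) ≫
        (DTen.baseCmp (algebraMap R R')).app ((DTen.resCx (algebraMap R A)).obj P) ≫
        DerivedCategory.Q.map ((DTen.sqτ (algebraMap R A) (algebraMap R R') (algebraMap R' A')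
          (algebraMap A A') h).app P) ≫
        (DTen.resFactors (algebraMap R' A')).inv.app ((DTen.extCx (algebraMap A A')).obj P)) := by
    infer_instance
  rw [← key] at hR
  exact IsIso.of_isIso_comp_right _
    ((DRing.restrictD (algebraMap R' A')).map ((DTen.baseCmp (algebraMap A A')).app P))

end Groth.Agent.S13563
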