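import Groth.Statements.S2137
import Mathlib
import Groth.Agent.Lib.Helper12.DerivedBaseChange
import Groth.Agent.Lib.Helper12.FlatConn
import Groth.Agent.Lib.Helper12.DRingPCRep
import Groth.Agent.Lib.Helper12.DRingPCAbove
import Groth.Agent.Lib.Helper12.FlatExtendScalars

set_option autoImplicit false
universe u
open CategoryTheory
attribute [local instance] HasDerivedCategory.standard
open CAlg

namespace Groth.Agent.S2137

open Groth.Agent.Lib.Helper12 DRing CategoryTheory.Limits

/-- Let `A → B` be a ring map and `K` an `m`-pseudo-coherent object of `D(A)`. Then `K ⊗^L_A B` is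
`m`-pseudo-coherent in `D(B)`. (Stated assuming the total left derived functor of base change exists
on `D(A)`, a fact not available as a library result here.) -/
theorem result {A B : Type u} [CommRing A] [CommRing B] (φ : A →+* B) [DRing.HasLBaseChange φ]
    (K : Dual.D A) (m : ℤ) (hK : DRing.IsPseudoCoherent A m K) :
    DRing.IsPseudoCoherent B m ((DRing.LBaseChange φ).obj K) := by
  obtain ⟨E, a, b, α, hE, hff, hα'⟩ := hK
  have hα : IsConn m α := hα'
  obtain ⟨b₀, hb₀⟩ := exists_bound_of_isPseudoCoherent (m := m) ⟨E, a, b, α, hE, hff, hα'⟩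
  obtain ⟨P, hPb, hPproj, ⟨e⟩⟩ := exists_projective_rep K b₀ hb₀
  let _ : Algebra A B := φ.toAlgebra
  have hEproj : ∀ i, Module.Projective A (E.X i) := fun i => finiteFree_projective _ (hff i)
  have : E.IsKProjective :=
    isKProjective_of_vanishesAbove E b (vanishesAbove_of_vanishesOutside hE) hEproj
  have : P.IsKProjective := isKProjective_of_vanishesAbove P b₀ hPb hPproj
  obtain ⟨f, hf⟩ := exists_map_of_isKProjective E P (α ≫ e.inv)
  have hfc : IsConn m (DerivedCategory.Q.map f) := by
    rw [hf]
    exact hα.comp (IsConn.of_isIso _) le_rfl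
  have key := isConn_extendScalars_map φ f m b b₀ (vanishesAbove_of_vanishesOutside hE) hPb
    (fun i => Module.Flat.of_projective) (fun i => Module.Flat.of_projective) hfc
  refine ⟨bcCx φ E, a, b, (LBaseChangeIso φ E).inv ≫ (DRing.LBaseChange φ).map α, ?_, ?_, ?_⟩
  · intro i hi
    exact extSc_isZero (A := A) (B := B) _ (hE i hi)
  · intro i
    have := (hff i).1
    have := (hff i).2
    exact extSc_finite_free (A := A) (B := B) (E.X i)
  · have h1 : ((LBaseChangeIso φ E).inv ≫ (DRing.LBaseChange φ).map α) ≫
        ((DRing.LBaseChange φ).map e.inv ≫ (LBaseChangeIso φ P).hom) =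
        DerivedCategory.Q.map (bcCxMap φ f) := by
      rw [Category.assoc, ← Category.assoc ((DRing.LBaseChange φ).map α), ← Functor.map_comp, ← hf,
        LBaseChangeIso_hom_naturality, Iso.inv_hom_id_assoc]
    have h2 : IsConn m (((LBaseChangeIso φ E).inv ≫ (DRing.LBaseChange φ).map α) ≫
        ((DRing.LBaseChange φ).map e.inv ≫ (LBaseChangeIso φ P).hom)) := by
      rw [h1]; exact key
    exact IsConn.of_comp_isIso _ _ h2

end Groth.Agent.S2137
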