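import Groth.Statements.S14262
-- import your own Groth.Agent.* helpers here
import Mathlib.RingTheory.Flat.EquationalCriterion

set_option autoImplicit false
universe u
open FrobAlg

namespace Groth.Agent.S14262

/-- Let p be a prime, A a perfect ring of characteristic p and f ∈ A. The radical of the principal ideal
(f) — equivalently the ideal generated by all p^n-th roots of f, n ≥ 0 — is a flat A-module. -/
theorem result (p : ℕ) [Fact p.Prime] (A : Type u) [CommRing A]
    [CharP A p] [PerfectRing A p] (f : A) :
    Module.Flat A ((Ideal.span {f}).radical) := by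
  classical
  have hp : p.Prime := Fact.out
  refine Module.Flat.of_forall_isTrivialRelation ?_
  intro l a x hax
  -- each x i is in the radical
  -- choose a uniform exponent n with (x i)^(p^n) ∈ span {f}
  have hx : ∀ i, ∃ n : ℕ, ((x i : A)) ^ p ^ n ∈ Ideal.span {f} := by
    intro i
    obtain ⟨m, hm⟩ := (x i).2
    refine ⟨m, ?_⟩
    have hle : m ≤ p ^ m := (Nat.lt_pow_self hp.one_lt).le
    rw [← Nat.sub_add_cancel hle, pow_add]
    exact Ideal.mul_mem_left _ _ hm
  choose n hn using hx
  let N := Finset.univ.sup n
  have hN : ∀ i, ((x i : A)) ^ p ^ N ∈ Ideal.span {f} := by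
    intro i
    have hle : n i ≤ N := Finset.le_sup (f := n) (Finset.mem_univ i)
    have : p ^ N = p ^ (N - n i) * p ^ n i := by rw [← pow_add, Nat.sub_add_cancel hle]
    rw [this, mul_comm, pow_mul]
    exact Ideal.pow_mem_of_mem _ (hn i) _ (pow_pos hp.pos _)
  -- write (x i)^(p^N) = c i * f
  have hc : ∀ i, ∃ c : A, ((x i : A)) ^ p ^ N = c * f := fun i =>
    Ideal.mem_span_singleton'.mp (hN i) |>.imp fun c hc => hc.symm
  choose c hc using hc
  -- roots
  let r : A → A := fun y => (iterateFrobeniusEquiv A p (N + 1)).symm y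
  have hr : ∀ y, (r y) ^ p ^ (N + 1) = y := fun y => by
    have := (iterateFrobeniusEquiv A p (N + 1)).apply_symm_apply y
    rwa [iterateFrobeniusEquiv_apply, iterateFrobenius_def] at this
  let s : A → A := fun y => (iterateFrobeniusEquiv A p N).symm y
  have hs : ∀ y, (s y) ^ p ^ N = y := fun y => by
    have := (iterateFrobeniusEquiv A p N).apply_symm_apply y
    rwa [iterateFrobeniusEquiv_apply, iterateFrobenius_def] at this
  have hinj : ∀ (k : ℕ) (y z : A), y ^ p ^ k = z ^ p ^ k → y = z := by
    intro k y z h
    have := (iterateFrobeniusEquiv A p k).injective (a₁ := y) (a₂ := z)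
    apply this
    simpa [iterateFrobeniusEquiv_apply, iterateFrobenius_def] using h
  set g := r f with hg
  -- x i = (s (c i)) * g^p
  have hxi : ∀ i, (x i : A) = s (c i) * g ^ p := by
    intro i
    apply hinj N
    rw [mul_pow, hs, hc i, ← pow_mul, ← pow_succ', hr]
  have hgmem : g ∈ (Ideal.span {f}).radical := by
    refine ⟨p ^ (N + 1), ?_⟩
    rw [hr]
    exact Ideal.subset_span rfl
  -- the relation: g^p * ∑ a i * s (c i) = 0
  have hrel : g ^ p * ∑ i, a i * s (c i) = 0 := by
    have := congrArg (Submodule.subtype _) hax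
    simp only [map_sum, map_smul, Submodule.subtype_apply, smul_eq_mul, map_zero] at this
    rw [Finset.mul_sum]
    rw [← this]
    refine Finset.sum_congr rfl fun i _ => ?_
    rw [hxi i]; ring
  -- hence g * ∑ = 0 by reducedness
  have hrel' : g * ∑ i, a i * s (c i) = 0 := by
    have : (g * ∑ i, a i * s (c i)) ^ p = 0 := by
      rw [mul_pow]
      have hp1 : p = (p - 1) + 1 := (Nat.sub_add_cancel hp.one_le).symm
      conv_lhs => rw [hp1, pow_succ (∑ i, a i * s (c i)) (p - 1), ← hp1]
      rw [← mul_assoc, mul_comm (g ^ p), mul_assoc, hrel, mul_zero]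
    apply injective_frobenius A p
    rw [frobenius_def, this, map_zero]
  refine ⟨1, fun i _ => s (c i) * g ^ (p - 1), fun _ => ⟨g, hgmem⟩, ?_, ?_⟩
  · intro i
    ext
    simp only [Finset.univ_unique, Fin.default_eq_zero, Fin.isValue, Finset.sum_const,
      Finset.card_singleton, one_smul, Submodule.coe_smul, smul_eq_mul]
    rw [hxi i, mul_assoc, ← pow_succ, Nat.sub_add_cancel hp.one_le]
  · intro j
    have hp2 : p - 1 = (p - 2) + 1 := by have := hp.two_le; omega
    calc ∑ i, a i * (s (c i) * g ^ (p - 1))
        = g ^ (p - 2) * (g * ∑ i, a i * s (c i)) := by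
          rw [Finset.mul_sum, Finset.mul_sum]
          refine Finset.sum_congr rfl fun i _ => ?_
          rw [hp2, pow_succ]; ring
      _ = 0 := by rw [hrel', mul_zero]

end Groth.Agent.S14262
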