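import Groth.Statements.S6935
import Groth.Agent.Lib.Helper12.DRingPCModule
import Groth.Agent.S2068
-- import your own Groth.Agent.* helpers here

set_option autoImplicit false
universe u
open CategoryTheory CategoryTheory.Limits
attribute [local instance] HasDerivedCategory.standard
open DRing

namespace Groth.Agent.S6935

open Groth.Agent.Lib.Helper12 Groth.Agent.S2068

/-- Let R be a commutative ring and M an R-module, viewed as the complex M[0] in D(R). Then M[0] is
0-pseudo-coherent exactly when M is finitely generated over R, and M[0] is (-1)-pseudo-coherent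
exactly when M admits a finite presentation over R. -/
theorem result (R : Type u) [CommRing R]
    (M : Type u) [AddCommGroup M] [Module R M] :
    (DRing.IsPseudoCoherentModule R 0 M ↔ Module.Finite R M) ∧
      (DRing.IsPseudoCoherentModule R (-1) M ↔ Module.FinitePresentation R M) := by
  have hz : ∀ (m : ℤ) (i : ℤ), m < i → 0 ≤ m → Limits.IsZero ((HF R i).obj (Dual.inD R M)) :=
    fun m i hi hm => isZero_HF_single 0 _ i (by omega)
  have e : (HF R 0).obj (Dual.inD R M) ≅ ModuleCat.of R M := HFSingleIso 0 _
  refine ⟨⟨fun h => ?_, fun h => ?_⟩, ⟨fun h => ?_, fun h => ?_⟩⟩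
  · have h1 := part_a (Dual.inD R M) 0 h (fun i hi => hz 0 i hi le_rfl)
    exact Module.Finite.equiv e.toLinearEquiv
  · have : Module.Finite R (ModuleCat.of R M) := h
    exact isPseudoCoherent_inD_of_finite (ModuleCat.of R M)
  · have h1 := part_b (Dual.inD R M) (-1) h (fun i hi => isZero_HF_single 0 _ i (by omega))
    have h2 : Module.FinitePresentation R ((HF R 0).obj (Dual.inD R M)) := h1
    exact Module.FinitePresentation.of_equiv e.toLinearEquiv
  · have : Module.FinitePresentation R (ModuleCat.of R M) := h
    exact isPseudoCoherent_inD_of_finitePresentation (ModuleCat.of R M)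

end Groth.Agent.S6935
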