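import Groth.Statements.S0791
import Groth.Agent.Lib.Helper4.ProperOver

set_option autoImplicit false
universe u
open Coherent

namespace Groth.Agent.S0791

open CategoryTheory AlgebraicGeometry in
/-- Let f : X → S be locally of finite type. A finite union of closed subsets of X that are proper over
S is again proper over S. -/
theorem result {X S : Scheme.{u}} (f : X ⟶ S) [LocallyOfFiniteType f]
    (ι : Type) [Finite ι] (Z : ι → Set X) (hZ : ∀ i, ClSub.IsProperOver f (Z i)) :
    ClSub.IsProperOver f (Set.iUnion Z) := by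
  have hcl : ∀ i, IsClosed (Z i) := fun i => (hZ i).1
  have hW : IsClosed (Set.iUnion Z) := isClosed_iUnion_of_finite hcl
  refine ⟨hW, ?_⟩
  set I := Scheme.IdealSheafData.vanishingIdeal ⟨Set.iUnion Z, hW⟩ with hI
  set J : ι → X.IdealSheafData := fun i =>
    Scheme.IdealSheafData.vanishingIdeal ⟨Z i, hcl i⟩ with hJ
  have hle : ∀ i, I ≤ J i := fun i =>
    Scheme.IdealSheafData.vanishingIdeal_antimono
      (show (⟨Z i, hcl i⟩ : TopologicalSpace.Closeds X) ≤ ⟨Set.iUnion Z, hW⟩ from
        Set.subset_iUnion Z i)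
  refine Groth.Agent.Lib.Helper4.isProper_of_jointly_surjective
    (fun i => Scheme.IdealSheafData.inclusion (hle i)) (I.subschemeι ≫ f) ?_
    (fun i => inferInstance) ?_
  · intro x
    have hx : I.subschemeι x ∈ Set.iUnion Z := by
      rw [← Groth.Agent.Lib.Helper4.range_vanishingIdeal_subschemeι _ hW]
      exact ⟨x, rfl⟩
    obtain ⟨i, hi⟩ := Set.mem_iUnion.mp hx
    rw [← Groth.Agent.Lib.Helper4.range_vanishingIdeal_subschemeι _ (hcl i)] at hi
    obtain ⟨z, hz⟩ := hi
    refine ⟨i, z, I.subschemeι.isClosedEmbedding.injective ?_⟩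
    rw [← hz, ← Scheme.Hom.comp_apply, Scheme.IdealSheafData.inclusion_subschemeι]
  · intro i
    rw [← Category.assoc, Scheme.IdealSheafData.inclusion_subschemeι]
    exact (hZ i).2

end Groth.Agent.S0791
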