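import Groth.Statements.S0788
import Groth.Agent.Lib.Helper4.ProperOver2

set_option autoImplicit false
universe u
open Coherent

namespace Groth.Agent.S0788

open CategoryTheory AlgebraicGeometry in
/-- Let X and Y be schemes locally of finite type over S, with Y separated over S, and f : X → Y a
morphism over S. If Z ⊆ X is closed and proper over S (reduced induced structure), its image f(Z) is
again closed in Y and proper over S. -/
theorem result {X Y S : Scheme.{u}} (p : X ⟶ S) (q : Y ⟶ S)
    [LocallyOfFiniteType p] [LocallyOfFiniteType q] [IsSeparated q] (f : X ⟶ Y) (w : f ≫ q = p)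
    (Z : Set X) (hZ : ClSub.IsProperOver p Z) : ClSub.IsProperOver q (⇑f '' Z) := by
  obtain ⟨hcl, hp⟩ := hZ
  set I := Scheme.IdealSheafData.vanishingIdeal ⟨Z, hcl⟩ with hI
  have hprop : IsProper ((I.subschemeι ≫ f) ≫ q) := by
    rw [Category.assoc, w]; exact hp
  have : IsProper (I.subschemeι ≫ f) := IsProper.of_comp (I.subschemeι ≫ f) q
  have hr : Set.range (I.subschemeι ≫ f) = ⇑f '' Z := by
    rw [Scheme.Hom.comp_base, TopCat.coe_comp, Set.range_comp]
    congr 1
    exact Groth.Agent.Lib.Helper4.range_vanishingIdeal_subschemeι Z hcl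
  rw [← hr]
  exact Groth.Agent.Lib.Helper4.isProperOver_range_of_universallyClosed q (I.subschemeι ≫ f)

end Groth.Agent.S0788
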