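import Groth.Statements.S9285
import Mathlib.RingTheory.Finiteness.Basic
import Mathlib.RingTheory.Ideal.Span
-- import your own Groth.Agent.* helpers here

set_option autoImplicit false
universe u
open CAlg

namespace Groth.Agent.S9285

/-- A ring R has the property that every proper finitely generated ideal has a nonzero annihilator if
and only if every injective linear map R → R^n admits a retraction. -/
theorem result (R : Type u) [CommRing R] :
    (∀ I : Ideal R, I.FG → I ≠ ⊤ → I.annihilator ≠ ⊥) ↔
      ∀ (n : ℕ) (u : R →ₗ[R] (Fin n → R)), Function.Injective u →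
        ∃ v : (Fin n → R) →ₗ[R] R, v.comp u = LinearMap.id := by
  constructor
  · intro hP n u hu
    -- the ideal generated by the coordinates of `u 1`
    set a : Fin n → R := u 1 with ha
    have hann : (Ideal.span (Set.range a)).annihilator = ⊥ := by
      rw [eq_bot_iff]
      intro r hr
      rw [Submodule.mem_annihilator_span] at hr
      rw [Ideal.mem_bot]
      apply hu
      rw [map_zero]
      have : u r = r • u 1 := by rw [← map_smul, smul_eq_mul, mul_one]
      rw [this]
      funext i
      simpa using hr ⟨a i, Set.mem_range_self i⟩
    have htop : Ideal.span (Set.range a) = ⊤ := by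
      by_contra hne
      exact hP _ (Submodule.fg_span (Set.finite_range a)) hne hann
    have h1 : (1 : R) ∈ Ideal.span (Set.range a) := by rw [htop]; trivial
    rw [Ideal.mem_span_range_iff_exists_fun] at h1
    obtain ⟨c, hc⟩ := h1
    refine ⟨∑ i, c i • LinearMap.proj i, ?_⟩
    apply LinearMap.ext_ring
    simp only [LinearMap.comp_apply, LinearMap.sum_apply, LinearMap.smul_apply, LinearMap.proj_apply,
      LinearMap.id_apply, smul_eq_mul]
    exact hc
  · intro h I hI hne hann
    obtain ⟨s, rfl⟩ := hI
    classical
    -- enumerate the generators
    let n := s.card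
    let e : Fin n ≃ s := s.equivFin.symm
    let a : Fin n → R := fun i => (e i : R)
    have hrange : Set.range a = (s : Set R) := by
      ext x
      constructor
      · rintro ⟨i, rfl⟩; exact (e i).2
      · intro hx; exact ⟨e.symm ⟨x, hx⟩, by simp [a]⟩
    let u : R →ₗ[R] (Fin n → R) := LinearMap.toSpanSingleton R (Fin n → R) a
    have hu : Function.Injective u := by
      rw [injective_iff_map_eq_zero]
      intro r hr
      have : r ∈ (Ideal.span (s : Set R)).annihilator := by
        rw [Submodule.mem_annihilator_span]
        rintro ⟨x, hx⟩
        rw [← hrange] at hx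
        obtain ⟨i, rfl⟩ := hx
        have := congrFun hr i
        simpa [u, LinearMap.toSpanSingleton_apply] using this
      rwa [hann, Ideal.mem_bot] at this
    obtain ⟨v, hv⟩ := h n u hu
    apply hne
    rw [Ideal.eq_top_iff_one]
    have h1 : v (u 1) = 1 := by
      have := LinearMap.congr_fun hv 1
      simpa using this
    have h2 : u 1 = ∑ i, a i • (Pi.single i (1 : R) : Fin n → R) := by
      funext j
      simp [u, LinearMap.toSpanSingleton_apply, Finset.sum_apply, Pi.single_apply]
    rw [h2, map_sum] at h1
    rw [← h1]
    refine Submodule.sum_mem _ (fun i _ => ?_)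
    rw [map_smul, smul_eq_mul]
    refine Ideal.mul_mem_right _ _ (Ideal.subset_span ?_)
    exact (e i).2

end Groth.Agent.S9285
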