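import Groth.Statements.S0124
import Groth.Agent.Lib.Helper47.EtQc2
import Groth.Agent.Lib.Helper47.TorsColim
-- import your own Groth.Agent.* helpers here

set_option autoImplicit false
universe u
open CategoryTheory CategoryTheory.Limits AlgebraicGeometry Opposite
open EtPBC

namespace Groth.Agent.S0124

open Groth.Agent.Lib.Helper47

/-- a torsion sheaf is locally torsion in the sense of sieves -/
lemma locally_torsion {X : Scheme.{u}} (F : EtCoh.Ab X) (hF : EtCoh.IsTorsion F) (U : X.Etale)
    (s : F.obj.obj (op U)) : ∃ R ∈ X.smallEtaleTopology U, ∀ ⦃V : X.Etale⦄ (f : V ⟶ U), R f →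
      IsOfFinAddOrder (F.obj.map f.op s) := by
  choose V g hg hs using hF U s
  refine ⟨Sieve.ofArrows V g, ?_, ?_⟩
  · rw [Scheme.ofArrows_mem_smallEtaleTopology_iff]
    ext x
    simp only [Set.mem_iUnion, Set.mem_univ, iff_true]
    obtain ⟨v, hv⟩ := hg x
    exact ⟨x, v, hv⟩
  · rintro W f ⟨Z, a, _, ⟨x⟩, rfl⟩
    rw [op_comp, F.obj.map_comp]
    exact (F.obj.map a.op).hom.isOfFinAddOrder (hs x)



/-- Part (1): if X is quasi-compact and quasi-separated and F is a torsion abelian sheaf on X_et, then
H^n(X_et, F) is a torsion abelian group for every n. -/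
theorem result (X : Scheme.{u}) [CompactSpace X] [QuasiSeparatedSpace X]
    (F : EtCoh.Ab X) (hF : EtCoh.IsTorsion F) (n : ℕ) :
    IsAddTorsion (EtCoh.H X F n) := by
  let e : ULift.{u + 1} ℕ ≌ ℕ := OrderIso.equivalence ULift.orderIso
  have : IsFiltered (ULift.{u + 1} ℕ) := IsFiltered.of_equivalence e.symm
  have : HasColimitsOfShape ℕ (EtCoh.Ab X) := hasColimitsOfShape_of_equivalence e
  have : HasExactColimitsOfShape ℕ (EtCoh.Ab X) := HasExactColimitsOfShape.of_domain_equivalence _ e
  have h := EtQc.preservesColimitsOfShape_HF_nat X n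
  unfold EtCoh.HF at h
  exact TorsColim.isAddTorsion_H F (locally_torsion F hF) n

end Groth.Agent.S0124
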