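import Groth.Statements.S9799
import Mathlib.AlgebraicGeometry.Stalk
import Mathlib.AlgebraicGeometry.Noetherian
-- import your own Groth.Agent.* helpers here

set_option autoImplicit false
universe u
open CategoryTheory AlgebraicGeometry TopologicalSpace
open Props

namespace Groth.Agent.S9799

theorem eq_closure_generic (X : Scheme.{u}) {x : X} (hdom : IsDomain (X.presheaf.stalk x))
    {Z : Set X} (hZ : Z ∈ irreducibleComponents X) (hx : x ∈ Z) :
    Z = closure {X.fromSpecStalk x (⟨⊥, Ideal.isPrime_bot⟩ : PrimeSpectrum (X.presheaf.stalk x))} := by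
  have hZc : IsClosed Z := isClosed_of_mem_irreducibleComponents Z hZ
  obtain ⟨η, hη⟩ := QuasiSober.sober hZ.1 hZc
  have hηx : η ⤳ x := by
    rw [specializes_iff_mem_closure, hη.def]
    exact hx
  have hmem : η ∈ Set.range (X.fromSpecStalk x) := by
    rw [Scheme.range_fromSpecStalk]
    exact hηx
  obtain ⟨p, rfl⟩ := hmem
  set z : PrimeSpectrum (X.presheaf.stalk x) := ⟨⊥, Ideal.isPrime_bot⟩ with hz
  have h0p : z ⤳ (show PrimeSpectrum (X.presheaf.stalk x) from p) := by
    rw [← PrimeSpectrum.le_iff_specializes]
    change (⊥ : Ideal _) ≤ _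
    exact bot_le
  have hs : X.fromSpecStalk x z ⤳ X.fromSpecStalk x p :=
    Specializes.map (f := X.fromSpecStalk x) h0p (X.fromSpecStalk x).continuous
  have hsub : Z ⊆ closure {X.fromSpecStalk x z} := by
    rw [← hη.def]
    exact closure_minimal (Set.singleton_subset_iff.mpr (specializes_iff_mem_closure.mp hs))
      isClosed_closure
  exact (hZ.eq_of_subset isIrreducible_singleton.closure hsub)


/-- Let X be a normal scheme (all local rings are integrally closed domains) such that every
quasi-compact open subset has finitely many irreducible components. Then the irreducible components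
of X are open and pairwise disjoint; hence X is the disjoint union of its irreducible components,
each an open subscheme which is normal and integral. -/
theorem result (X : Scheme.{u})
    (hfin : ∀ U : X.Opens, IsCompact (U : Set X) → (irreducibleComponents ↥U).Finite)
    (hN : Pi1.IsNormalScheme X) :
    (∀ Z ∈ irreducibleComponents X, IsOpen Z) ∧
      ∀ Z ∈ irreducibleComponents X, ∀ Z' ∈ irreducibleComponents X, Z ≠ Z' → Disjoint Z Z' := by
  have hdisj : ∀ Z ∈ irreducibleComponents X, ∀ Z' ∈ irreducibleComponents X, ∀ x, x ∈ Z → x ∈ Z' →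
      Z = Z' := by
    intro Z hZ Z' hZ' x hx hx'
    rw [eq_closure_generic X (hN x).1 hZ hx, eq_closure_generic X (hN x).1 hZ' hx']
  refine ⟨?_, ?_⟩
  · intro Z hZ
    rw [isOpen_iff_forall_mem_open]
    intro x hx
    obtain ⟨_, ⟨U, hU, rfl⟩, hxU, -⟩ :=
      X.isBasis_affineOpens.exists_subset_of_mem_open (Set.mem_univ x) isOpen_univ
    have hU' : IsAffineOpen U := hU
    have hfinU := hfin U hU'.isCompact
    -- the components of U not meeting Z
    let S : Set (Set {y : X // y ∈ U}) := {W | W ∈ irreducibleComponents U ∧ Disjoint (Subtype.val '' W) Z}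
    have hSfin : S.Finite := hfinU.subset (fun W hW => hW.1)
    have hSclosed : IsClosed (⋃₀ S) := by
      rw [Set.sUnion_eq_biUnion]
      apply hSfin.isClosed_biUnion
      intro W hW
      exact isClosed_of_mem_irreducibleComponents W hW.1
    have hcompl : (⋃₀ S)ᶜ = (Subtype.val ⁻¹' Z : Set {y : X // y ∈ U}) := by
      ext y
      simp only [Set.mem_compl_iff, Set.mem_sUnion, not_exists, not_and]
      constructor
      · intro hy
        by_contra hyZ
        -- y in some component W of U
        have hW := irreducibleComponent_mem_irreducibleComponents y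
        have hyW : y ∈ irreducibleComponent y := mem_irreducibleComponent
        apply hy (irreducibleComponent y) ?_ hyW
        refine ⟨hW, ?_⟩
        rw [Set.disjoint_left]
        rintro _ ⟨w, hwW, rfl⟩ hwZ
        -- closure of image of W is irreducible in X, in a component Z''
        have hirr : IsIrreducible (Subtype.val '' (irreducibleComponent y) : Set X) :=
          hW.1.image _ continuous_subtype_val.continuousOn
        obtain ⟨Z'', hZ'', hsub⟩ :=
          exists_mem_irreducibleComponents_subset_of_isIrreducible _ hirr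
        have : Z = Z'' := hdisj Z hZ Z'' hZ'' w hwZ (hsub ⟨w, hwW, rfl⟩)
        apply hyZ
        rw [this]
        exact hsub ⟨y, hyW, rfl⟩
      · intro hyZ W hW hyW
        exact Set.disjoint_left.mp hW.2 ⟨y, hyW, rfl⟩ hyZ
    have hopenU : IsOpen (Subtype.val ⁻¹' Z : Set {y : X // y ∈ U}) := by
      rw [← hcompl]
      exact hSclosed.isOpen_compl
    refine ⟨Subtype.val '' (Subtype.val ⁻¹' Z : Set {y : X // y ∈ U}), ?_, hopenU.trans U.2, ⟨⟨x, hxU⟩, hx, rfl⟩⟩
    rintro _ ⟨y, hy, rfl⟩
    exact hy
  · intro Z hZ Z' hZ' hne
    rw [Set.disjoint_left]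
    intro x hx hx'
    exact hne (hdisj Z hZ Z' hZ' x hx hx')

end Groth.Agent.S9799
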