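import Groth.Statements.S9649
import Mathlib
import Groth.Agent.S2535
import Groth.Agent.S2536
import Groth.Agent.S4628
import Groth.Agent.Lib.Helper25.SepSmooth
-- import your own Groth.Agent.* helpers here

set_option autoImplicit false
universe u
open CAlg

namespace Groth.Agent.S9649

section Aux
open TensorProduct

theorem exists_clear {k : Type u} [Field k] (Ω : Type u) [Field Ω] [Algebra k Ω]
    (A : Type u) [CommRing A] [IsDomain A] [Algebra k A] (z : Ω ⊗[k] FractionRing A) :
    ∃ d : A, d ≠ 0 ∧ ∃ w : Ω ⊗[k] A,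
      ((1 : Ω) ⊗ₜ[k] algebraMap A (FractionRing A) d) * z =
        Algebra.TensorProduct.map (AlgHom.id k Ω)
          (IsScalarTower.toAlgHom k A (FractionRing A)) w := by
  induction z using TensorProduct.induction_on with
  | zero => exact ⟨1, one_ne_zero, 0, by simp⟩
  | tmul ω q =>
    obtain ⟨a, d, rfl⟩ := IsLocalization.exists_mk'_eq (nonZeroDivisors A) q
    refine ⟨d, nonZeroDivisors.coe_ne_zero d, ω ⊗ₜ a, ?_⟩
    rw [Algebra.TensorProduct.tmul_mul_tmul, one_mul, Algebra.TensorProduct.map_tmul,
      AlgHom.coe_id, id_eq, IsScalarTower.coe_toAlgHom', mul_comm, IsLocalization.mk'_spec]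
  | add z1 z2 h1 h2 =>
    obtain ⟨d1, hd1, w1, e1⟩ := h1
    obtain ⟨d2, hd2, w2, e2⟩ := h2
    refine ⟨d1 * d2, mul_ne_zero hd1 hd2, (1 ⊗ₜ d2) * w1 + (1 ⊗ₜ d1) * w2, ?_⟩
    have hm : ∀ a b : FractionRing A, (1 : Ω) ⊗ₜ[k] (a * b) = (1 ⊗ₜ a) * (1 ⊗ₜ b) := by
      intro a b
      rw [Algebra.TensorProduct.tmul_mul_tmul, one_mul]
    have hΨ : ∀ (d : A) (w : Ω ⊗[k] A),
        Algebra.TensorProduct.map (AlgHom.id k Ω) (IsScalarTower.toAlgHom k A (FractionRing A))
          (((1 : Ω) ⊗ₜ[k] d) * w) = ((1 : Ω) ⊗ₜ[k] algebraMap A (FractionRing A) d) *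
          Algebra.TensorProduct.map (AlgHom.id k Ω)
            (IsScalarTower.toAlgHom k A (FractionRing A)) w := by
      intro d w
      rw [map_mul, Algebra.TensorProduct.map_tmul, map_one, IsScalarTower.coe_toAlgHom']
    rw [map_add, hΨ, hΨ, ← e1, ← e2, map_mul, hm]
    ring

theorem isReduced_tensor_fractionRing {k : Type u} [Field k] (Ω : Type u) [Field Ω] [Algebra k Ω]
    (A : Type u) [CommRing A] [IsDomain A] [Algebra k A] [IsReduced (Ω ⊗[k] A)] :
    IsReduced (Ω ⊗[k] FractionRing A) := by
  refine ⟨fun z hz => ?_⟩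
  obtain ⟨d, hd, w, hw⟩ := exists_clear Ω A z
  have hinj : Function.Injective (Algebra.TensorProduct.map (AlgHom.id k Ω)
      (IsScalarTower.toAlgHom k A (FractionRing A))) :=
    Module.Flat.lTensor_preserves_injective_linearMap (M := Ω)
      (IsScalarTower.toAlgHom k A (FractionRing A)).toLinearMap
      (IsFractionRing.injective A (FractionRing A))
  have hwn : IsNilpotent w := by
    obtain ⟨n, hn⟩ := hz
    refine ⟨n, hinj ?_⟩
    rw [map_pow, ← hw, mul_pow, hn, mul_zero, map_zero]
  have hw0 : w = 0 := hwn.eq_zero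
  rw [hw0, map_zero] at hw
  have hu : ((1 : Ω) ⊗ₜ[k] (algebraMap A (FractionRing A) d)⁻¹) *
      ((1 : Ω) ⊗ₜ[k] algebraMap A (FractionRing A) d) = 1 := by
    rw [Algebra.TensorProduct.tmul_mul_tmul, one_mul, inv_mul_cancel₀,
      Algebra.TensorProduct.one_def]
    exact (map_ne_zero_iff _ (IsFractionRing.injective A (FractionRing A))).mpr hd
  calc z = (((1 : Ω) ⊗ₜ[k] (algebraMap A (FractionRing A) d)⁻¹) *
        ((1 : Ω) ⊗ₜ[k] algebraMap A (FractionRing A) d)) * z := by rw [hu, one_mul]
    _ = ((1 : Ω) ⊗ₜ[k] (algebraMap A (FractionRing A) d)⁻¹) *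
        (((1 : Ω) ⊗ₜ[k] algebraMap A (FractionRing A) d) * z) := mul_assoc _ _ _
    _ = 0 := by rw [hw, mul_zero]

theorem geomRed_adjoin {k K : Type u} [Field k] [Field K] [Algebra k K] {ι : Type u} (x : ι → K)
    (hx : AlgebraicIndependent k x) :
    Algebra.IsGeometricallyReduced k (IntermediateField.adjoin k (Set.range x)) := by
  haveI : IsReduced (AlgebraicClosure k ⊗[k] MvPolynomial ι k) :=
    isReduced_of_injective
      (MvPolynomial.algebraTensorAlgEquiv (σ := ι) k (AlgebraicClosure k)).toAlgHom
      (AlgEquiv.injective _)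
  haveI : Algebra.IsGeometricallyReduced k (FractionRing (MvPolynomial ι k)) := by
    rw [Algebra.isGeometricallyReduced_field_iff]
    exact isReduced_tensor_fractionRing (AlgebraicClosure k) (MvPolynomial ι k)
  exact Algebra.IsGeometricallyReduced.of_injective hx.aevalEquivField.symm.toAlgHom
    (AlgEquiv.injective _)

theorem geomRed_trans {k F K : Type u} [Field k] [Field F] [Field K] [Algebra k F] [Algebra F K]
    [Algebra k K] [IsScalarTower k F K] [Algebra.IsGeometricallyReduced k F]
    [Algebra.IsSeparable F K] : Algebra.IsGeometricallyReduced k K := by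
  haveI hKF : Algebra.IsGeometricallyReduced F K := by
    rw [Algebra.isGeometricallyReduced_field_iff]
    exact Groth.Agent.S2535.isReduced_tensorProduct_of_isSeparable F (AlgebraicClosure F) K
  haveI := Groth.Agent.S2536.geometricallyReduced_Spec F K
  haveI h1 : IsReduced (AlgebraicClosure k ⊗[k] F) :=
    (Algebra.isGeometricallyReduced_field_iff _ _).mp inferInstance
  haveI h2 : IsReduced (F ⊗[k] AlgebraicClosure k) :=
    isReduced_of_injective (Algebra.TensorProduct.comm k _ _).toAlgHom (AlgEquiv.injective _)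
  haveI h3 : IsReduced (K ⊗[F] (F ⊗[k] AlgebraicClosure k)) :=
    Groth.Agent.S4628.isReduced_tensorProduct_of_geometricallyReduced K _
  haveI h4 : IsReduced (K ⊗[k] AlgebraicClosure k) :=
    isReduced_of_injective (Algebra.TensorProduct.cancelBaseChange k F F K
      (AlgebraicClosure k)).symm.toAlgHom (AlgEquiv.injective _)
  rw [Algebra.isGeometricallyReduced_field_iff]
  exact isReduced_of_injective (Algebra.TensorProduct.comm k (AlgebraicClosure k) K).toAlgHom
    (AlgEquiv.injective _)

theorem geomRed_of_sepGen {k K : Type u} [Field k] [Field K] [Algebra k K] {ι : Type u}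
    (x : ι → K) (hx : AlgebraicIndependent k x)
    [hsep : Algebra.IsSeparable (IntermediateField.adjoin k (Set.range x)) K] :
    Algebra.IsGeometricallyReduced k K := by
  haveI := geomRed_adjoin x hx
  exact geomRed_trans (F := IntermediateField.adjoin k (Set.range x))

end Aux

/-- A separably generated field extension is separable. Precisely: let K/k be a field extension
admitting a transcendence basis x over whose generated subfield k(x) the field K is separable
algebraic; then every finitely generated subextension K' of K/k also admits such a transcendence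
basis. -/
theorem result {k K : Type u} [Field k] [Field K] [Algebra k K]
    (h : ∃ (ι : Type u) (x : ι → K), IsTranscendenceBasis k x ∧ Algebra.IsSeparable (IntermediateField.adjoin k (Set.range x)) K)
    (K' : IntermediateField k K) (hK' : ∃ s : Finset K, IntermediateField.adjoin k (s : Set K) = K') :
    ∃ (ι : Type u) (x : ι → K'), IsTranscendenceBasis k x ∧ Algebra.IsSeparable (IntermediateField.adjoin k (Set.range x)) K' := by
  obtain ⟨ι, x, hx, hsep⟩ := h
  haveI hK : Algebra.IsGeometricallyReduced k K := geomRed_of_sepGen x hx.1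
  haveI : Algebra.EssFiniteType k K' := IntermediateField.essFiniteType_iff.mpr hK'
  haveI : Algebra.IsGeometricallyReduced k K' :=
    Algebra.IsGeometricallyReduced.of_injective K'.val Subtype.val_injective
  have key : ∃ t : Finset K', IsTranscendenceBasis k ((↑) : t → K') ∧
      Algebra.IsSeparable (IntermediateField.adjoin k (t : Set K')) K' := by
    obtain h0 | ⟨p, hp, hpk⟩ := CharP.exists' k
    · exact exists_isTranscendenceBasis_and_isSeparable_of_perfectField k K'
    · haveI : ExpChar k p := .prime hp.out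
      exact exists_isTranscendenceBasis_and_isSeparable_of_linearIndepOn_pow_of_essFiniteType
        (k := k) (K := K') p hp.out
        (fun s hs => Groth.Agent.Lib.Helper25.linearIndepOn_pow_of_isGeometricallyReduced
          k K' p s hs)
  obtain ⟨t, ht, htsep⟩ := key
  refine ⟨t, ((↑) : t → K'), ht, ?_⟩
  convert! htsep <;> simp

end Groth.Agent.S9649
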