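import Groth.Statements.S0348
import Mathlib
import Groth.Agent.Lib.Helper62.GrpComp

set_option autoImplicit false
set_option linter.style.haveILetI false
universe u v
open CategoryTheory MonoidalCategory CartesianMonoidalCategory MonObj GrpObj AlgebraicGeometry
open GrpSch

namespace Groth.Agent.S0348
open CategoryTheory MonoidalCategory CartesianMonoidalCategory MonObj GrpObj AlgebraicGeometry

theorem main (K : Type u) [Field K] (G : Over (Spec (CommRingCat.of K))) [GrpObj G]
    [ConnectedSpace G.left] : IrreducibleSpace G.left := by
  have h := (Groth.Agent.Lib.Helper62.GrpComp.main G).1
  rw [PreconnectedSpace.connectedComponent_eq_univ] at h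
  exact (irreducibleSpace_def _).2 h


/-- A connected group scheme over a field is irreducible. -/
theorem result (K : Type u) [Field K] (G : Over (Spec (CommRingCat.of K))) [GrpObj G] [ConnectedSpace G.left] : IrreducibleSpace G.left := by
  exact main K G

end Groth.Agent.S0348
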