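import Groth.Statements.S7517
import Mathlib
import Groth.Agent.Lib.Helper62.GrpComp
import Groth.Agent.Lib.Helper70.EtaleBirational
import Groth.Agent.Lib.Helper21.IrrCompImage

set_option autoImplicit false
set_option linter.style.haveILetI false
universe u
open CategoryTheory MonoidalCategory CartesianMonoidalCategory MonObj GrpObj AlgebraicGeometry
open GrpSch

namespace Groth.Agent.S7517
open CategoryTheory MonoidalCategory CartesianMonoidalCategory MonObj GrpObj AlgebraicGeometry Limits
open TopologicalSpace
open Groth.Agent.S0350

/-- the residue field extension at a rational point is trivial -/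
theorem bijective_residueFieldMap_of_section {X S : Scheme.{u}} (f : X ⟶ S) (e : S ⟶ X)
    (he : e ≫ f = 𝟙 S) (s : S) (y : X) (hy : y = e s) :
    Function.Bijective (f.residueFieldMap y).hom := by
  subst hy
  have hiso : IsIso (e ≫ f) := he ▸ inferInstance
  have h1 : (e ≫ f).residueFieldMap s = f.residueFieldMap (e s) ≫ e.residueFieldMap s :=
    Scheme.residueFieldMap_comp e f s
  have h2 : Function.Bijective ((e ≫ f).residueFieldMap s).hom :=
    (ConcreteCategory.isIso_iff_bijective _).mp inferInstance
  rw [h1] at h2
  have hinj : Function.Injective (e.residueFieldMap s).hom := RingHom.injective _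
  refine ⟨RingHom.injective _, fun b => ?_⟩
  obtain ⟨a, ha⟩ := h2.2 ((e.residueFieldMap s).hom b)
  exact ⟨a, hinj ha⟩

theorem main (k : Type u) [Field k] (G : Over (Spec (CommRingCat.of k))) [GrpObj G]
    (Z : Scheme.{u}) (incl : Z ⟶ G.left) [IsClosedImmersion incl] [IrreducibleSpace Z]
    (hZ : Set.range ⇑incl ∈ irreducibleComponents ↥G.left)
    (he : η[G].left (IsLocalRing.closedPoint k) ∈ Set.range ⇑incl) :
    GeometricallyIrreducible (incl ≫ G.hom) := by
  let K := AlgebraicClosure k
  let g : Spec (CommRingCat.of K) ⟶ Spec (CommRingCat.of k) :=
    Spec.map (CommRingCat.ofHom (algebraMap k K))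
  let i1 : GrpObj (Over.mk G.hom) := ‹GrpObj G›
  let i2 : GrpObj (Over.mk (pullback.snd G.hom g)) := Over.grpObjMkPullbackSnd
  let H : Over (Spec (CommRingCat.of K)) := Over.mk (pullback.snd G.hom g)
  let π : H.left ⟶ G.left := pullback.fst G.hom g
  have hunit : (η[H]).left ≫ π = g ≫ η[G].left := by
    show (η[Over.mk (pullback.snd G.hom g)]).left ≫ pullback.fst G.hom g = g ≫ η[G].left
    simp only [Over.grpObjMkPullbackSnd_one]
    simp
    rw [pullback.lift_fst]
    have hc := pullback.condition (f := 𝟙 (Spec (CommRingCat.of k))) (g := g)
    rw [Category.comp_id] at hc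
    rw [hc, Category.assoc]
  set e' := η[H].left (IsLocalRing.closedPoint K) with he'
  set e₀ := η[G].left (IsLocalRing.closedPoint k) with he₀
  have hgpt : g (IsLocalRing.closedPoint K) = IsLocalRing.closedPoint k := Subsingleton.elim _ _
  have hπe : π e' = η[G].left (g (IsLocalRing.closedPoint K)) := by
    have := congr(($hunit) (IsLocalRing.closedPoint K))
    rwa [Scheme.Hom.comp_apply, Scheme.Hom.comp_apply] at this
  have hπe₀ : π e' = e₀ := by rw [hπe, hgpt]
  have hb : Function.Bijective (G.hom.residueFieldMap (π e')).hom :=
    bijective_residueFieldMap_of_section G.hom η[G].left (Over.w η[G]) _ _ hπe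
  have hUG : UniqueComp e₀ := uniqueComp_all G e₀
  have hUH : ∀ x : H.left, UniqueComp x := fun x => uniqueComp_all H x
  -- key: the preimage of Z is the unit component upstairs
  have hpre : π ⁻¹' Set.range incl = irreducibleComponent e' := by
    apply Set.Subset.antisymm
    · intro x' hx'
      have hC' := irreducibleComponent_mem_irreducibleComponents x'
      have himg : π '' irreducibleComponent x' ∈ irreducibleComponents G.left :=
        Groth.Agent.Lib.Helper21.image_mem_irreducibleComponents_of_isAlgebraic G.hom K _ hC'
      have heq : π '' irreducibleComponent x' = Set.range incl :=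
        uniqueComp_all G (π x') _ himg _ hZ ⟨x', mem_irreducibleComponent, rfl⟩ hx'
      have : e₀ ∈ π '' irreducibleComponent x' := heq ▸ he
      obtain ⟨c', hc', hπc'⟩ := this
      have hce : c' = e' :=
        Groth.Agent.Lib.Helper70.EtaleBirational.eq_of_fst_eq_of_snd_eq c' e'
          (hπc'.trans hπe₀.symm) (Subsingleton.elim _ _) hb
      rw [hce] at hc'
      have := hUH e' _ hC' _ (irreducibleComponent_mem_irreducibleComponents e') hc'
        mem_irreducibleComponent
      rw [← this]; exact mem_irreducibleComponent
    · intro z hz
      have hirr : IsIrreducible (π '' irreducibleComponent e') :=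
        isIrreducible_irreducibleComponent.image _ (Scheme.Hom.continuous π).continuousOn
      obtain ⟨W, hW, hsub⟩ := exists_mem_irreducibleComponents_subset_of_isIrreducible _ hirr
      have heW : e₀ ∈ W := hsub ⟨e', mem_irreducibleComponent, hπe₀⟩
      have := hUG W hW _ hZ heW he
      rw [← this]
      exact hsub ⟨z, hz, rfl⟩
  have hT : IrreducibleSpace ↥(pullback incl π) :=
    irreducibleSpace_of_isInducing (pullback.snd incl π).isEmbedding.isInducing
      (by rw [Scheme.Pullback.range_snd, hpre]; exact isIrreducible_irreducibleComponent)
  have hirr : IrreducibleSpace ↥(pullback (incl ≫ G.hom) g) :=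
    irreducibleSpace_of_surjective
      (Scheme.Hom.continuous (pullbackRightPullbackFstIso G.hom g incl).hom)
      (Scheme.homeoOfIso (pullbackRightPullbackFstIso G.hom g incl)).surjective
  exact Groth.Agent.Lib.Helper21.geometricallyIrreducible_of_irreducibleSpace_isAlgClosed
    (incl ≫ G.hom) K


/-- Let G be a group scheme over a field k and Z the irreducible component of G passing through the
identity e (there is exactly one). Then Z is geometrically irreducible over k: for any closed
immersion incl : Z -> G from an irreducible scheme whose image is an irreducible component of G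
containing e, the composite Z -> G -> Spec k is geometrically irreducible. (Parts (1) and (2) of the
source are not stated here.) -/
theorem result (K : Type u) [Field K] (G : Over (Spec (CommRingCat.of K))) [GrpObj G] (Z : Scheme.{u}) (incl : Z ⟶ G.left) [IsClosedImmersion incl] [IrreducibleSpace Z] (hZ : Set.range ⇑incl ∈ irreducibleComponents ↥G.left) (he : η[G].left (IsLocalRing.closedPoint K) ∈ Set.range ⇑incl) : GeometricallyIrreducible (incl ≫ G.hom) := by
  exact main K G Z incl hZ he

end Groth.Agent.S7517
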