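import Groth.Statements.S4629
import Groth.Agent.S4628

set_option autoImplicit false
open CategoryTheory AlgebraicGeometry
universe u
open FBase

namespace Groth.Agent.S4629

open CategoryTheory.Limits in
/-- If X and Y are schemes over a field k which are both geometrically reduced over k, then X ×_k Y is
geometrically reduced over k. -/
theorem result {k : Type u} [Field k] {X Y : Scheme.{u}}
    (f : X ⟶ Spec (CommRingCat.of k)) (g : Y ⟶ Spec (CommRingCat.of k)) [GeometricallyReduced f]
    [GeometricallyReduced g] : GeometricallyReduced (pullback.fst f g ≫ f) := by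
  refine ⟨geometrically_iff_of_isClosedUnderIsomorphisms.mpr fun K _ y ↦ ?_⟩
  have h1 : AlgebraicGeometry.IsReduced (pullback g y) :=
    GeometricallyReduced.geometrically_isReduced _ _ _ (.of_hasPullback _ _)
  have h2 : AlgebraicGeometry.IsReduced (pullback f (pullback.fst g y ≫ g)) :=
    Groth.Agent.S4628.result f (pullback.fst g y ≫ g)
  let e : pullback (pullback.fst f g ≫ f) y ≅ pullback f (pullback.fst g y ≫ g) :=
    pullback.congrHom pullback.condition rfl ≪≫
      (pullbackRightPullbackFstIso g y (pullback.snd f g)).symm ≪≫
      pullbackLeftPullbackSndIso f g (pullback.fst g y)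
  exact isReduced_of_isOpenImmersion e.hom

end Groth.Agent.S4629
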