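import Groth.Statements.S9830
import Mathlib.AlgebraicGeometry.ValuativeCriterion
-- import your own Groth.Agent.* helpers here

set_option autoImplicit false
universe u
open CategoryTheory AlgebraicGeometry TopologicalSpace
open Props

namespace Groth.Agent.S9830

open Limits in
theorem isDominant_spec_map_of_injective (R K : Type u) [CommRing R] [CommRing K] [Algebra R K]
    (h : Function.Injective (algebraMap R K)) :
    IsDominant (Spec.map (CommRingCat.ofHom (algebraMap R K))) := by
  constructor
  change DenseRange (PrimeSpectrum.comap (algebraMap R K))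
  rw [PrimeSpectrum.denseRange_comap_iff_ker_le_nilRadical,
    (RingHom.injective_iff_ker_eq_bot _).mp h]
  exact bot_le

/-- every morphism from the spectrum of a domain to a T1 scheme is constant -/
theorem const_of_t1 (R : Type u) [CommRing R] [IsDomain R] (X : Scheme.{u}) [T1Space X]
    (l : Spec (.of R) ⟶ X) (s : Spec (.of R)) :
    l s = l (⟨⊥, Ideal.isPrime_bot⟩ : PrimeSpectrum R) := by
  have hs : (⟨⊥, Ideal.isPrime_bot⟩ : PrimeSpectrum R) ⤳ (s : PrimeSpectrum R) :=
    (PrimeSpectrum.le_iff_specializes (⟨⊥, Ideal.isPrime_bot⟩ : PrimeSpectrum R) s).mp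
      (bot_le (a := (s : PrimeSpectrum R).asIdeal))
  exact (Specializes.eq (hs.map l.continuous)).symm

/-- A scheme whose underlying space is Hausdorff is separated. (The published statement assumes X of
dimension zero; a Hausdorff scheme always has dimension at most zero, so this row omits that
hypothesis.) -/
theorem result (X : Scheme.{u}) [T2Space X] : X.IsSeparated := by
  constructor
  have hqs : QuasiSeparated (Limits.terminal.from X) := by
    rw [quasiSeparated_iff_quasiSeparatedSpace]
    infer_instance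
  apply IsSeparated.of_valuativeCriterion
  intro S
  constructor
  rintro ⟨l₁, hl₁, hl₁'⟩ ⟨l₂, hl₂, hl₂'⟩
  apply CommSq.LiftStruct.ext
  dsimp only at *
  -- the generic point
  let η : PrimeSpectrum S.R := ⟨⊥, Ideal.isPrime_bot⟩
  obtain ⟨_, ⟨U, hU, rfl⟩, hxU, -⟩ :=
    X.isBasis_affineOpens.exists_subset_of_mem_open (Set.mem_univ (l₁ η)) isOpen_univ
  have hdom : IsDominant (Spec.map (CommRingCat.ofHom (algebraMap S.R S.K))) :=
    isDominant_spec_map_of_injective S.R S.K (FaithfulSMul.algebraMap_injective S.R S.K)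
  have hη : l₂ η = l₁ η := by
    -- η is the image of the unique point of Spec K
    obtain ⟨pt⟩ : Nonempty (Spec (.of S.K)) := inferInstance
    have hpt : (Spec.map (CommRingCat.ofHom (algebraMap S.R S.K))) pt = η := by
      apply PrimeSpectrum.ext
      change Ideal.comap (algebraMap S.R S.K) _ = ⊥
      have hbot : (pt : PrimeSpectrum S.K).asIdeal = ⊥ :=
        ((Ideal.eq_bot_or_top _).resolve_right (pt : PrimeSpectrum S.K).isPrime.ne_top)
      rw [hbot, ← RingHom.ker_eq_comap_bot,
        (RingHom.injective_iff_ker_eq_bot _).mp (FaithfulSMul.algebraMap_injective S.R S.K)]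
    rw [← hpt, ← Scheme.Hom.comp_apply, ← Scheme.Hom.comp_apply, hl₁, hl₂]
  have h1 : Set.range l₁ ⊆ Set.range (Scheme.Opens.ι U) := by
    rintro _ ⟨s, rfl⟩
    rw [const_of_t1 S.R X l₁ s, Scheme.Opens.range_ι]
    exact hxU
  have h2 : Set.range l₂ ⊆ Set.range (Scheme.Opens.ι U) := by
    rintro _ ⟨s, rfl⟩
    rw [const_of_t1 S.R X l₂ s, Scheme.Opens.range_ι]
    change l₂ η ∈ _
    rw [hη]
    exact hxU
  have haff : IsAffine (Scheme.Opens.toScheme U) := hU
  have key : IsOpenImmersion.lift (Scheme.Opens.ι U) l₁ h1 = IsOpenImmersion.lift (Scheme.Opens.ι U) l₂ h2 := by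
    apply ext_of_isDominant (Spec.map (CommRingCat.ofHom (algebraMap S.R S.K)))
    rw [← cancel_mono (Scheme.Opens.ι U), Category.assoc, Category.assoc, IsOpenImmersion.lift_fac,
      IsOpenImmersion.lift_fac, hl₁, hl₂]
  rw [← IsOpenImmersion.lift_fac (Scheme.Opens.ι U) l₁ h1, ← IsOpenImmersion.lift_fac (Scheme.Opens.ι U) l₂ h2, key]

end Groth.Agent.S9830
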