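import Groth.Statements.S9209
import Groth.Agent.Lib.Helper25.ValCenter
import Groth.Agent.Lib.Helper39.ClosureSpecializes
import Groth.Agent.S9205

set_option autoImplicit false
universe u
open CategoryTheory CategoryTheory.Limits AlgebraicGeometry
open Lim

namespace Groth.Agent.S9209

section Helpers

set_option linter.style.haveILetI false

open Groth.Agent.Lib.Helper25.ValCenter

/-- Existence part of the valuative criterion for discrete valuation rings whose generic point
factors through `h : U ⟶ X`. -/
def DVRExistThrough {X S U : Scheme.{u}} (h : U ⟶ X) (f : X ⟶ S) : Prop :=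
  ∀ (A : Type u) [CommRing A] [IsDomain A] [IsDiscreteValuationRing A]
    (u : Spec (CommRingCat.of (FractionRing A)) ⟶ U) (y : Spec (CommRingCat.of A) ⟶ S),
    u ≫ h ≫ f = Spec.map (CommRingCat.ofHom (algebraMap A (FractionRing A))) ≫ y →
      ∃ l : Spec (CommRingCat.of A) ⟶ X, l ≫ f = y ∧
        Spec.map (CommRingCat.ofHom (algebraMap A (FractionRing A))) ≫ l = u ≫ h

theorem DVRExistThrough.baseChange {X S U XT T : Scheme.{u}} {h : U ⟶ X} {f : X ⟶ S}
    (H : DVRExistThrough h f) {q : XT ⟶ X} {fT : XT ⟶ T} {p : T ⟶ S} (sq : IsPullback q fT f p) :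
    DVRExistThrough (pullback.snd h q) fT := by
  intro A _ _ _ u y huy
  obtain ⟨l₀, hl₀f, hl₀u⟩ := H A (u ≫ pullback.fst h q) (y ≫ p) (by
    rw [Category.assoc, pullback.condition_assoc, sq.w, ← Category.assoc, ← Category.assoc,
      Category.assoc u, huy, Category.assoc])
  refine ⟨sq.lift l₀ y hl₀f, sq.lift_snd _ _ _, ?_⟩
  apply sq.hom_ext
  · rw [Category.assoc, sq.lift_fst, hl₀u, Category.assoc, Category.assoc, pullback.condition]
  · rw [Category.assoc, sq.lift_snd, Category.assoc, huy]

theorem DVRExistThrough.dvrLiftAt {X S U : Scheme.{u}} {h : U ⟶ X} {f : X ⟶ S}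
    (H : DVRExistThrough h f) (u₀ : U) : DVRLiftAt h f u₀ := by
  intro A hA y hy
  let e : FractionRing A ≃ₐ[A] U.residueField u₀ := FractionRing.algEquiv A (U.residueField u₀)
  have he : (algebraMap A (FractionRing A)) =
      (e.symm : U.residueField u₀ →+* FractionRing A).comp A.subtype := by
    ext a
    exact (e.symm.commutes a).symm
  have he' : A.subtype = (e : FractionRing A →+* U.residueField u₀).comp
      (algebraMap A (FractionRing A)) := by
    ext a
    exact (e.commutes a).symm
  have hfac : Spec.map (CommRingCat.ofHom (algebraMap A (FractionRing A))) =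
      Spec.map (CommRingCat.ofHom (e.symm : U.residueField u₀ →+* FractionRing A)) ≫
        Spec.map (CommRingCat.ofHom A.subtype) := by
    rw [← Spec.map_comp, ← CommRingCat.ofHom_comp, ← he]
  have hfac' : Spec.map (CommRingCat.ofHom A.subtype) =
      Spec.map (CommRingCat.ofHom (e : FractionRing A →+* U.residueField u₀)) ≫
        Spec.map (CommRingCat.ofHom (algebraMap A (FractionRing A))) := by
    rw [← Spec.map_comp, ← CommRingCat.ofHom_comp, ← he']
  have hid : Spec.map (CommRingCat.ofHom (e : FractionRing A →+* U.residueField u₀)) ≫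
      Spec.map (CommRingCat.ofHom (e.symm : U.residueField u₀ →+* FractionRing A)) = 𝟙 _ := by
    rw [← Spec.map_comp, ← CommRingCat.ofHom_comp]
    have : (e : FractionRing A →+* U.residueField u₀).comp
        (e.symm : U.residueField u₀ →+* FractionRing A) = RingHom.id _ := by
      ext a
      exact e.apply_symm_apply a
    rw [this]
    exact Spec.map_id _
  let u : Spec (CommRingCat.of (FractionRing A)) ⟶ U :=
    Spec.map (CommRingCat.ofHom (e.symm : U.residueField u₀ →+* FractionRing A)) ≫
      U.fromSpecResidueField u₀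
  obtain ⟨l, hlf, hlu⟩ := H A u y (by
    rw [hfac, Category.assoc, Category.assoc, hy])
  refine ⟨l, hlf, ?_⟩
  rw [hfac', Category.assoc, hlu, ← Category.assoc, ← Category.assoc, hid, Category.id_comp]

theorem isClosedMap_of_dvrExistThrough {X S U : Scheme.{u}} [IsLocallyNoetherian S] (f : X ⟶ S)
    [IsSeparated f] [LocallyOfFiniteType f] [QuasiCompact f] (h : U ⟶ X) [LocallyOfFiniteType h]
    [QuasiCompact h] (hd : DenseRange h.base) (H : DVRExistThrough h f) : IsClosedMap f := by
  rw [isClosedMap_iff_specializingMap]
  intro x₁ s hsp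
  obtain ⟨u₀, hu₀⟩ := Groth.Agent.Lib.Helper39.KA.exists_specializes_of_mem_closure_range h x₁
    (by rw [hd.closure_range]; trivial)
  exact exists_specializes_of_dvrLiftAt f h u₀ (H.dvrLiftAt u₀) x₁ hu₀ s hsp

theorem isOpenMap_fst_affineSpace {X S : Scheme.{u}} (n : Type u) (f : X ⟶ S) :
    IsOpenMap (pullback.fst f (𝔸(n; S) ↘ S)) := by
  let e := (AffineSpace.isPullback_map (n := n) f).flip.isoPullback
  have he : pullback.fst f (𝔸(n; S) ↘ S) = e.inv ≫ (𝔸(n; X) ↘ X) := by
    rw [Iso.eq_inv_comp]
    exact (AffineSpace.isPullback_map (n := n) f).flip.isoPullback_hom_fst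
  rw [he, Scheme.Hom.comp_base, TopCat.coe_comp]
  exact IsOpenMap.comp (AffineSpace.isOpenMap_over X) e.inv.homeomorph.isOpenMap

theorem main9209 {X S U : Scheme.{u}} [IsLocallyNoetherian S] (f : X ⟶ S)
    [IsSeparated f] [LocallyOfFiniteType f] [QuasiCompact f] (h : U ⟶ X) [LocallyOfFiniteType h]
    [QuasiCompact h] (hd : DenseRange h.base) (H : DVRExistThrough h f) : IsProper f := by
  have huc : UniversallyClosed f := by
    rw [(Groth.Agent.S9205.result f).2]
    intro n
    let T : Scheme.{u} := 𝔸(ULift.{u} (Fin n); S)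
    let p : T ⟶ S := 𝔸(ULift.{u} (Fin n); S) ↘ S
    have : IsLocallyNoetherian T := LocallyOfFiniteType.isLocallyNoetherian p
    have hq : IsOpenMap (pullback.fst f p) := isOpenMap_fst_affineSpace _ f
    have hd' : DenseRange (pullback.snd h (pullback.fst f p)).base := by
      rw [DenseRange, Scheme.Pullback.range_snd]
      exact hd.preimage hq
    exact isClosedMap_of_dvrExistThrough (pullback.snd f p) (pullback.snd h (pullback.fst f p)) hd'
      (H.baseChange (IsPullback.of_hasPullback f p))
  exact { }

end Helpers

/-- Let S be a locally Noetherian scheme, f : X → S a separated morphism of finite type and h : U → X a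
morphism of finite type whose image is dense in X. Suppose that for every discrete valuation ring A
with fraction field K and every commutative square formed by a morphism Spec K → U → X and a
morphism Spec A → S, there is a morphism Spec A → X making the resulting diagram commute. Then f is
proper. -/
theorem result {X S U : Scheme.{u}} [IsLocallyNoetherian S] (f : X ⟶ S)
    [IsSeparated f] [LocallyOfFiniteType f] [QuasiCompact f] (h : U ⟶ X) [LocallyOfFiniteType h] [QuasiCompact h]
    (hd : DenseRange h.base)
    (H : ∀ (A : Type u) [CommRing A] [IsDomain A] [IsDiscreteValuationRing A]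
      (u : Spec (CommRingCat.of (FractionRing A)) ⟶ U) (y : Spec (CommRingCat.of A) ⟶ S),
      u ≫ h ≫ f = Spec.map (CommRingCat.ofHom (algebraMap A (FractionRing A))) ≫ y →
        ∃ l : Spec (CommRingCat.of A) ⟶ X, l ≫ f = y ∧ Spec.map (CommRingCat.ofHom (algebraMap A (FractionRing A))) ≫ l = u ≫ h) :
    IsProper f := by
  exact main9209 f h hd H

end Groth.Agent.S9209
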