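import Groth.Statements.S9213
import Groth.Agent.S4450
import Groth.Agent.Lib.Helper39.UCFT
-- import your own Groth.Agent.* helpers here

set_option autoImplicit false
universe u
open CategoryTheory CategoryTheory.Limits AlgebraicGeometry
open Lim

namespace Groth.Agent.S9213

section Helpers

set_option autoImplicit false
open CategoryTheory CategoryTheory.Limits AlgebraicGeometry

/-- The existence part of the valuative criterion, for discrete valuation rings only. -/
def DVRExist {X S : Scheme.{u}} (f : X ⟶ S) : Prop :=
  ∀ (A : Type u) [CommRing A] [IsDomain A] [IsDiscreteValuationRing A]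
    (x : Spec (CommRingCat.of (FractionRing A)) ⟶ X) (y : Spec (CommRingCat.of A) ⟶ S),
    x ≫ f = Spec.map (CommRingCat.ofHom (algebraMap A (FractionRing A))) ≫ y →
    ∃ l : Spec (CommRingCat.of A) ⟶ X, l ≫ f = y ∧
      Spec.map (CommRingCat.ofHom (algebraMap A (FractionRing A))) ≫ l = x

theorem DVRExist.snd {X S T : Scheme.{u}} {f : X ⟶ S} (hf : DVRExist f) (g : T ⟶ S) :
    DVRExist (pullback.snd f g) := by
  intro A _ _ _ x y hxy
  obtain ⟨l₀, hl₀f, hl₀x⟩ := hf A (x ≫ pullback.fst f g) (y ≫ g) (by
    rw [Category.assoc, pullback.condition, ← Category.assoc, hxy, Category.assoc])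
  refine ⟨pullback.lift l₀ y hl₀f, pullback.lift_snd _ _ _, ?_⟩
  apply pullback.hom_ext
  · rw [Category.assoc, pullback.lift_fst, hl₀x]
  · rw [Category.assoc, pullback.lift_snd, hxy]

theorem DVRExist.isClosedMap {X T : Scheme.{u}} [IsLocallyNoetherian T] {p : X ⟶ T}
    [LocallyOfFiniteType p] [QuasiCompact p] (hp : DVRExist p) : IsClosedMap p := by
  rw [isClosedMap_iff_specializingMap]
  intro x t' hsp
  by_cases hz : t' = p x
  · exact ⟨x, specializes_rfl, hz.symm⟩
  obtain ⟨A, h, hdvr, hcl, hgen⟩ := Groth.Agent.S4450.result p x t' hsp hz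
  let e : FractionRing A ≃ₐ[A] X.residueField x := FractionRing.algEquiv A (X.residueField x)
  have he : (algebraMap A (FractionRing A)) =
      (e.symm : X.residueField x →+* FractionRing A).comp A.subtype := by
    ext a
    exact (e.symm.commutes a).symm
  have hfac : Spec.map (CommRingCat.ofHom (algebraMap A (FractionRing A))) =
      Spec.map (CommRingCat.ofHom (e.symm : X.residueField x →+* FractionRing A)) ≫
        Spec.map (CommRingCat.ofHom A.subtype) := by
    rw [← Spec.map_comp, ← CommRingCat.ofHom_comp, ← he]
  let x₀ : Spec (CommRingCat.of (FractionRing A)) ⟶ X :=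
    Spec.map (CommRingCat.ofHom (e.symm : X.residueField x →+* FractionRing A)) ≫
      X.fromSpecResidueField x
  obtain ⟨l, hlp, hlx⟩ := hp A x₀ h (by
    rw [hfac, Category.assoc, Category.assoc, hgen])
  refine ⟨l (IsLocalRing.closedPoint A), ?_, ?_⟩
  · let η : Spec (CommRingCat.of A) :=
      Spec.map (CommRingCat.ofHom (algebraMap A (FractionRing A)))
        (IsLocalRing.closedPoint (FractionRing A))
    have h1 : l η = x := by
      have h2 := congr(($hlx).base (IsLocalRing.closedPoint (FractionRing A)))
      exact h2.trans (Scheme.fromSpecResidueField_apply x _)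
    have h3 := (IsLocalRing.specializes_closedPoint η).map l.continuous
    rw [h1] at h3
    exact h3
  · rw [← hcl, ← hlp]
    rfl

theorem main9213 {X S : Scheme.{u}} [IsLocallyNoetherian S] (f : X ⟶ S)
    [LocallyOfFiniteType f] [QuasiCompact f] :
    UniversallyClosed f ↔ ∀ (A : Type u) [CommRing A] [IsDomain A] [IsDiscreteValuationRing A]
      (x : Spec (CommRingCat.of (FractionRing A)) ⟶ X) (y : Spec (CommRingCat.of A) ⟶ S),
      x ≫ f = Spec.map (CommRingCat.ofHom (algebraMap A (FractionRing A))) ≫ y → ∃ l : Spec (CommRingCat.of A) ⟶ X, l ≫ f = y ∧ Spec.map (CommRingCat.ofHom (algebraMap A (FractionRing A))) ≫ l = x := by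
  constructor
  · intro huc A _ _ _ x y hxy
    have hex : ValuativeCriterion.Existence f := by
      have := UniversallyClosed.eq_valuativeCriterion
      have h2 : (ValuativeCriterion.Existence ⊓ @QuasiCompact) f := this ▸ huc
      exact h2.1
    let Sq : ValuativeCommSq f := ⟨A, FractionRing A, x, y, ⟨hxy⟩⟩
    obtain ⟨⟨l⟩⟩ := hex Sq
    exact ⟨l.l, l.fac_right, l.fac_left⟩
  · intro H
    have hD : DVRExist f := H
    apply Groth.Agent.Lib.Helper39.UCFT.universallyClosed_of_closed_finiteType
    intro T g hg
    have : IsLocallyNoetherian T := LocallyOfFiniteType.isLocallyNoetherian g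
    exact (hD.snd g).isClosedMap

end Helpers

/-- Let S be a locally Noetherian scheme and f : X → S a morphism of finite type. Then f is universally
closed if and only if for every discrete valuation ring A with fraction field K and every
commutative square formed by morphisms Spec K → X and Spec A → S there is some morphism Spec A → X
making the diagram commute (the existence part of the valuative criterion, tested on discrete
valuation rings only). -/
theorem result {X S : Scheme.{u}} [IsLocallyNoetherian S] (f : X ⟶ S)
    [LocallyOfFiniteType f] [QuasiCompact f] :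
    UniversallyClosed f ↔ ∀ (A : Type u) [CommRing A] [IsDomain A] [IsDiscreteValuationRing A]
      (x : Spec (CommRingCat.of (FractionRing A)) ⟶ X) (y : Spec (CommRingCat.of A) ⟶ S),
      x ≫ f = Spec.map (CommRingCat.ofHom (algebraMap A (FractionRing A))) ≫ y → ∃ l : Spec (CommRingCat.of A) ⟶ X, l ≫ f = y ∧ Spec.map (CommRingCat.ofHom (algebraMap A (FractionRing A))) ≫ l = x := by
  exact main9213 f

end Groth.Agent.S9213
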