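import Groth.Statements.S4667
import Mathlib
-- import your own Groth.Agent.* helpers here

set_option autoImplicit false
open CategoryTheory AlgebraicGeometry
universe u
open FDesc

namespace Groth.Agent.S4667

open CategoryTheory.Limits in
lemma isSchemeTheoreticallyDominant_toImage {X Y : Scheme.{u}} (f : X ⟶ Y) [QuasiCompact f] :
    IsSchemeTheoreticallyDominant f.toImage := by
  rw [isSchemeTheoreticallyDominant_iff]
  have haff : ∀ U : Y.affineOpens, IsAffineOpen (f.imageι ⁻¹ᵁ U.1) := fun U =>
    U.2.preimage f.imageι
  refine Scheme.IdealSheafData.ext_of_iSup_eq_top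
    (fun U : Y.affineOpens ↦ (⟨f.imageι ⁻¹ᵁ U.1, haff U⟩ : f.image.affineOpens)) ?_ ?_
  · have h1 := Y.isBasis_affineOpens.isOpenCover
    change ⨆ U : Y.affineOpens, f.imageι ⁻¹ᵁ U.1 = ⊤
    rw [← Scheme.Hom.preimage_iSup]
    erw [h1]
    rfl
  · intro U
    rw [Scheme.Hom.ker_apply]
    simp only [Scheme.IdealSheafData.ideal_bot, Pi.bot_apply]
    exact (RingHom.injective_iff_ker_eq_bot _).mp (f.toImage_app_injective U)

open CategoryTheory.Limits in
/-- Let f : X → Y be a quasi-compact morphism of schemes and g : Y' → Y a flat morphism, and let f' : X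
×_Y Y' → Y' be the base change of f. Then the scheme-theoretic image of f' is the inverse image
under g of the scheme-theoretic image of f: the quasi-coherent ideal sheaf cutting out the former is
the pull-back along g of the one cutting out the latter. (One published statement is phrased for a
quasi-compact and quasi-separated S-morphism f and a flat base change S′ → S, which reduces to this
case; quasi-compactness of f suffices.) -/
theorem result {X Y Y' : Scheme.{u}} (f : X ⟶ Y) (g : Y' ⟶ Y)
    [QuasiCompact f] [Flat g] :
    (pullback.snd f g).ker = f.ker.comap g := by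
  haveI := isSchemeTheoreticallyDominant_toImage f
  have big : IsPullback (pullback.fst f g) (pullback.snd f g) (f.toImage ≫ f.imageι) g := by
    rw [f.toImage_imageι]
    exact IsPullback.of_hasPullback f g
  have tsq : IsPullback (pullback.snd g f.imageι) (pullback.fst g f.imageι) f.imageι g :=
    (IsPullback.of_hasPullback g f.imageι).flip
  have sq := IsPullback.of_bot' big tsq
  set m := tsq.lift (pullback.fst f g ≫ f.toImage) (pullback.snd f g)
    (by rw [Category.assoc, big.w]) with hm
  have hm2 : m ≫ pullback.fst g f.imageι = pullback.snd f g := tsq.lift_snd _ _ _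
  haveI : Flat (pullback.snd g f.imageι) := MorphismProperty.pullback_snd (P := @Flat) _ _ ‹_›
  haveI : IsSchemeTheoreticallyDominant m := IsSchemeTheoreticallyDominant.of_isPullback sq
  rw [← hm2, Scheme.Hom.ker_comp, Scheme.Hom.ker_eq_bot m, Scheme.IdealSheafData.map_bot]
  rfl

end Groth.Agent.S4667
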