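import Groth.Statements.S9800
import Mathlib.AlgebraicGeometry.Properties
import Mathlib.AlgebraicGeometry.Noetherian
import Mathlib.RingTheory.RegularLocalRing.Defs
import Mathlib.Topology.KrullDimension
-- import your own Groth.Agent.* helpers here

set_option autoImplicit false
universe u
open CategoryTheory AlgebraicGeometry TopologicalSpace
open Props

namespace Groth.Agent.S9800

theorem ringKrullDim_stalk_le (X : Scheme.{u}) (x : X) :
    ringKrullDim (X.presheaf.stalk x) ≤ topologicalKrullDim X := by
  rw [ringKrullDim_stalk_eq_coheight]
  let _ := specializationOrder X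
  have h1 : ((Order.coheight x : ℕ∞) : WithBot ℕ∞) ≤ Order.krullDim X := Order.coheight_le_krullDim x
  have h2 : Order.krullDim X = topologicalKrullDim X :=
    (Order.krullDim_eq_of_orderIso (irreducibleSetEquivPoints (α := X))).symm
  rw [← h2]
  exact h1


/-- A locally Noetherian normal scheme of dimension at most one is regular, that is, all of its local
rings are regular local rings. -/
theorem result (X : Scheme.{u})
    [IsLocallyNoetherian X] (hN : Pi1.IsNormalScheme X) (hd : topologicalKrullDim X ≤ 1) (x : X) :
    IsRegularLocalRing (X.presheaf.stalk x) := by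
  obtain ⟨hdom, hic⟩ := hN x
  have hdim : ringKrullDim (X.presheaf.stalk x) ≤ 1 := (ringKrullDim_stalk_le X x).trans hd
  have hk : Ring.KrullDimLE 1 (X.presheaf.stalk x) := Ring.krullDimLE_iff.mpr (by simpa using hdim)
  have hd1 : Ring.DimensionLEOne (X.presheaf.stalk x) :=
    ⟨fun {p} hp hpp => Ring.krullDimLE_one_iff_of_noZeroDivisors.mp hk p hp hpp⟩
  have hded : IsDedekindDomain (X.presheaf.stalk x) :=
    { toIsDomain := hdom
      toIsNoetherian := inferInstance
      toDimensionLEOne := hd1
      toIsIntegralClosure := hic }
  exact IsRegularLocalRing.of_isRegularRing_of_isLocalRing _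

end Groth.Agent.S9800
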