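import Groth.Statements.S9686
import Groth.Agent.Lib.Helper73.SchemeDim2
import Groth.Agent.S9687
import Groth.Agent.S9800

set_option autoImplicit false
universe u
open CategoryTheory CategoryTheory.Limits AlgebraicGeometry
open Mor

namespace Groth.Agent.S9686

/-- Let Y be locally Noetherian and f : X ⟶ Y locally of finite type. If E bounds the transcendence
degree of κ(ξ) over κ(f ξ) for every generic point ξ of an irreducible component of X, then dim X ≤
dim Y + E. (The published bound is the supremum of these transcendence degrees; the statement with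
any upper bound E is equivalent.) -/
theorem result {X Y : Scheme.{u}} [IsLocallyNoetherian Y]
    (f : X ⟶ Y) [LocallyOfFiniteType f] (E : ℕ)
    (hE : ∀ ξ : X, closure {ξ} ∈ irreducibleComponents ↥X →
      letI := (f.residueFieldMap ξ).hom.toAlgebra
      Algebra.trdeg (Y.residueField (f.base ξ)) (X.residueField ξ) ≤ E) :
    topologicalKrullDim ↥X ≤ topologicalKrullDim ↥Y + E := by
  apply Groth.Agent.Lib.Helper73.SchemeDim.topologicalKrullDim_le_of_forall_stalk
  intro x
  obtain ⟨n, hn⟩ := Groth.Agent.Lib.Helper73.SchemeDim.exists_trdeg_residueField_eq_nat f x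
  have h1 := Groth.Agent.S9687.result f x n E hn (fun ξ hξ _ => hE ξ hξ)
  have h2 := Groth.Agent.S9800.ringKrullDim_stalk_le Y (f.base x)
  calc ringKrullDim (X.presheaf.stalk x) ≤ ringKrullDim (X.presheaf.stalk x) + n := by
        exact le_add_of_nonneg_right (by exact_mod_cast (Nat.zero_le n))
    _ ≤ ringKrullDim (Y.presheaf.stalk (f.base x)) + E := h1
    _ ≤ topologicalKrullDim ↥Y + E := by gcongr

end Groth.Agent.S9686
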