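import Groth.Statements.S9360
-- import your own Groth.Agent.* helpers here

set_option autoImplicit false
universe u
open SchDense

namespace Groth.Agent.S9360

open AlgebraicGeometry CategoryTheory


/-- nilradical ≤ ker for reduced source. -/
lemma nilradical_le_ker {X Y : Scheme.{u}} (f : X ⟶ Y) [IsReduced X] :
    Y.nilradical ≤ f.ker := by
  rw [Scheme.Hom.ker, Scheme.IdealSheafData.le_ofIdeals_iff]
  intro V s hs
  have hs' : s ∈ (⊥ : Ideal Γ(Y, V.1)).radical := hs
  obtain ⟨n, hn⟩ := hs'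
  rw [RingHom.mem_ker]
  have hn0 : s ^ n = 0 := by simpa using hn
  have : IsNilpotent ((f.app V.1).hom s) := ⟨n, by rw [← map_pow, hn0, map_zero]⟩
  exact this.eq_zero

lemma isReduced_of_nilradical_eq_bot {X : Scheme.{u}} (h : X.nilradical = ⊥) : IsReduced X := by
  refine ⟨fun W => ⟨fun s hs => ?_⟩⟩
  refine X.IsSheaf.section_ext fun x hx ↦ ?_
  obtain ⟨_, ⟨V, hV, rfl⟩, hxV, hVW : V ≤ W⟩ :=
    X.isBasis_affineOpens.exists_subset_of_mem_open hx W.isOpen
  refine ⟨V, hVW, hxV, ?_⟩
  rw [map_zero]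
  have h1 : (X.presheaf.map (homOfLE hVW).op).hom s ∈ (X.nilradical).ideal ⟨V, hV⟩ := by
    obtain ⟨n, hn⟩ := hs
    change _ ∈ (⊥ : Ideal Γ(X, V)).radical
    exact ⟨n, by rw [← map_pow, hn, map_zero]; exact Ideal.zero_mem _⟩
  rw [h] at h1
  simpa using h1



lemma vanishingIdeal_le_ker {X Y : Scheme.{u}} (f : X ⟶ Y) [IsReduced X]
    (Z : TopologicalSpace.Closeds Y) (hZ : Set.range f ⊆ Z) :
    Scheme.IdealSheafData.vanishingIdeal Z ≤ f.ker := by
  rw [Scheme.Hom.ker, Scheme.IdealSheafData.le_ofIdeals_iff]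
  intro V s hs
  rw [Scheme.IdealSheafData.vanishingIdeal_ideal, PrimeSpectrum.mem_vanishingIdeal] at hs
  rw [RingHom.mem_ker]
  apply eq_zero_of_basicOpen_eq_bot
  rw [← Scheme.preimage_basicOpen]
  ext x
  simp only [TopologicalSpace.Opens.coe_bot, Set.mem_empty_iff_false, iff_false]
  intro hx
  have hx' : f x ∈ Y.basicOpen s := hx
  have hxV : f x ∈ V.1 := Y.basicOpen_le s hx'
  obtain ⟨p, hp⟩ : ∃ p, V.2.fromSpec p = f x := by
    have : f x ∈ Set.range V.2.fromSpec := by rw [V.2.range_fromSpec]; exact hxV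
    exact this
  have h1 := hs p (by show V.2.fromSpec p ∈ (Z : Set Y); rw [hp]; exact hZ ⟨x, rfl⟩)
  have h2 : p ∈ V.2.fromSpec ⁻¹ᵁ Y.basicOpen s := by
    show V.2.fromSpec p ∈ Y.basicOpen s
    rw [hp]; exact hx'
  rw [V.2.fromSpec_preimage_basicOpen] at h2
  exact h2 h1

lemma denseRange_of_ker_eq_bot {X Y : Scheme.{u}} (f : X ⟶ Y) [IsReduced X]
    (h : f.ker = ⊥) : DenseRange f := by
  have h1 := vanishingIdeal_le_ker f ⟨closure (Set.range f), isClosed_closure⟩ subset_closure
  rw [h, le_bot_iff] at h1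
  have h2 := congrArg (fun I => (Scheme.IdealSheafData.support I : Set Y)) h1
  simp only [Scheme.IdealSheafData.coe_support_vanishingIdeal, Scheme.IdealSheafData.support_bot,
    TopologicalSpace.Closeds.coe_top] at h2
  rw [DenseRange, dense_iff_closure_eq]
  exact h2


open AlgebraicGeometry CategoryTheory in
/-- Let U ⊆ X be a reduced open subscheme. Then the scheme-theoretic closure of U in X is X if and only
if U is scheme-theoretically dense in X (for every open W the scheme-theoretic closure of U ∩ W in W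
is W); and in that case X is reduced. -/
theorem result (X : Scheme.{u}) (U : X.Opens) [IsReduced (↑U : Scheme.{u})] :
    (IsSchemeTheoreticallyDominant U.ι ↔
        ∀ W : X.Opens, IsSchemeTheoreticallyDominant (X.homOfLE (inf_le_right : U ⊓ W ≤ W))) ∧
      (IsSchemeTheoreticallyDominant U.ι → IsReduced X) := by
  have hred : IsSchemeTheoreticallyDominant U.ι → IsReduced X := by
    intro h
    apply isReduced_of_nilradical_eq_bot
    have := nilradical_le_ker U.ι
    rw [h.ker_eq_bot, le_bot_iff] at this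
    exact this
  refine ⟨⟨fun h W => ?_, fun h => ?_⟩, hred⟩
  · have hX : IsReduced X := hred h
    have hd : DenseRange U.ι := denseRange_of_ker_eq_bot U.ι h.ker_eq_bot
    have hUd : Dense (U : Set X) := by
      have := hd
      rw [DenseRange, Scheme.Opens.range_ι] at this
      exact this
    have : IsDominant (X.homOfLE (inf_le_right : U ⊓ W ≤ W)) := by
      rw [isDominant_iff, DenseRange, W.ι.isOpenEmbedding.isInducing.dense_iff]
      intro x
      rw [← Set.range_comp]
      have h1 : (W.ι : ↥W → X) ∘ (X.homOfLE (inf_le_right : U ⊓ W ≤ W)) = (U ⊓ W).ι := by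
        rw [← X.homOfLE_ι (inf_le_right : U ⊓ W ≤ W)]
        rfl
      rw [h1, Scheme.Opens.range_ι]
      have h2 := hUd.open_subset_closure_inter W.isOpen
      have hx : W.ι x ∈ (W : Set X) := by
        have : W.ι x ∈ Set.range W.ι := ⟨x, rfl⟩
        rwa [Scheme.Opens.range_ι] at this
      have := h2 hx
      rwa [Set.inter_comm] at this
    exact IsSchemeTheoreticallyDominant.of_isDominant _
  · have e : U = U ⊓ ⊤ := by simp
    have h1 : U.ι = (X.isoOfEq e).hom ≫ X.homOfLE (inf_le_right : U ⊓ ⊤ ≤ ⊤) ≫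
        (⊤ : X.Opens).ι := by
      simp
    have := h ⊤
    rw [h1]
    have i1 : IsIso (⊤ : X.Opens).ι := ⟨X.topIso.inv, X.ι_toIso_inv, X.toIso_inv_ι⟩
    have i2 : IsSchemeTheoreticallyDominant
        (X.homOfLE (inf_le_right : U ⊓ ⊤ ≤ ⊤) ≫ (⊤ : X.Opens).ι) := inferInstance
    infer_instance


end Groth.Agent.S9360
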