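import Groth.Statements.S10198
import Groth.Agent.Lib.Helper51.AlgSpZLQS

set_option autoImplicit false
universe u
open CategoryTheory CategoryTheory.Limits AlgebraicGeometry Topology TopologicalSpace
open AlgSp

namespace Groth.Agent.S10198

open Groth.Agent.Lib.Helper51 in
theorem fwd {S : Scheme.{u}} (X : AlgSp.Space S)
    (h : ∃ (ι : Type u) (Xi : ι → AlgSp.Space S) (j : ∀ i, Xi i ⟶ X),
        AlgSp.IsZarCover (fun i => (Xi i).obj) (fun i => (j i).hom) ∧
          ∀ i, AlgSp.IsQuasiSeparatedSp (Xi i).obj) :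
    ∃ (ι : Type u) (Xi : ι → AlgSp.Space S) (j : ∀ i, Xi i ⟶ X),
        AlgSp.IsZarCover (fun i => (Xi i).obj) (fun i => (j i).hom) ∧
          ∀ i, ∃ (U : Over S) (p : (AlgSp.yon S).obj U ⟶ (Xi i).obj), IsAffine U.left ∧
            AlgSp.RepWith @QuasiCompact p ∧ AlgSp.RepWith @Etale p ∧
              AlgSp.RepWith @Surjective p := by
  obtain ⟨ι, Y, j, hcov, hqs⟩ := h
  choose ι' X' j' halg hzar hchart using fun k => exists_isZarCover_affine_charts (Y k).property
  refine ⟨Σ k, ι' k, fun ki => ⟨X' ki.1 ki.2, halg ki.1 ki.2⟩,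
    fun ki => ObjectProperty.homMk (j' ki.1 ki.2 ≫ (j ki.1).hom), ⟨?_, ?_⟩, ?_⟩
  · rintro ⟨k, i⟩
    exact (AlgSp.RepWith @IsOpenImmersion).comp_mem _ _ ((hzar k).1 i) (hcov.1 k)
  · intro x
    obtain ⟨k, y, rfl⟩ := hcov.2 x
    obtain ⟨i, z, rfl⟩ := (hzar k).2 y
    exact ⟨⟨k, i⟩, z, AlgSp.Points.map_comp _ _ z⟩
  · rintro ⟨k, i⟩
    obtain ⟨U, p, hU, hpe, hps, W, hW, hUW⟩ := hchart k i
    have hmono : Mono (j' k i) :=
      mono_of_repWith_isImmersion
        ⟨((hzar k).1 i).1, fun a b g fst snd sq => by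
          have : IsOpenImmersion snd.left := ((hzar k).1 i).2 g fst snd sq
          exact (inferInstance : IsImmersion snd.left)⟩
    have hqs' : AlgSp.IsQuasiSeparatedSp (X' k i) := isQuasiSeparatedSp_of_mono (j' k i) (hqs k)
    exact ⟨U, p, hU, repWith_quasiCompact_of_affine_chart (halg k i) hqs' p hps W hW hUW, hpe,
      hps⟩

/-- (1) if and only if (3): for an algebraic space X over a scheme S, X is Zariski locally
quasi-separated over S (it has a Zariski covering by open subspaces whose diagonals over S are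
quasi-compact) if and only if X has a Zariski covering by open subspaces each of which admits a
quasi-compact, etale, surjective map from an affine scheme. Since the second condition does not
mention S, being Zariski locally quasi-separated does not depend on the base. -/
theorem result {S : Scheme.{u}} (X : AlgSp.Space S) :
    (∃ (ι : Type u) (Xi : ι → AlgSp.Space S) (j : ∀ i, Xi i ⟶ X),
        AlgSp.IsZarCover (fun i => (Xi i).obj) (fun i => (j i).hom) ∧ ∀ i, AlgSp.IsQuasiSeparatedSp (Xi i).obj) ↔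
      (∃ (ι : Type u) (Xi : ι → AlgSp.Space S) (j : ∀ i, Xi i ⟶ X),
        AlgSp.IsZarCover (fun i => (Xi i).obj) (fun i => (j i).hom) ∧
          ∀ i, ∃ (U : Over S) (p : (AlgSp.yon S).obj U ⟶ (Xi i).obj), IsAffine U.left ∧
            AlgSp.RepWith @QuasiCompact p ∧ AlgSp.RepWith @Etale p ∧ AlgSp.RepWith @Surjective p) := by
  constructor
  · exact fwd X
  · rintro ⟨ι, Xi, j, hcov, hch⟩
    refine ⟨ι, Xi, j, hcov, fun i => ?_⟩
    obtain ⟨U, p, hU, hpq, hpe, hps⟩ := hch i
    obtain ⟨R, s, t, hR⟩ := Groth.Agent.Lib.Helper51.exists_isPullback_of_representable hpe.1 p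
    have ht : QuasiCompact t.left := hpq.2 p _ t hR
    have hR' : IsPullback ((AlgSp.yon S).map t) ((AlgSp.yon S).map s) p p := hR.flip
    have haux : QuasiCompact (prod.lift t s).left := by
      have h1 : (prod.lift t s).left ≫ (prod.fst : U ⨯ U ⟶ U).left = t.left := by
        rw [← Over.comp_left, prod.lift_fst]
      have : QuasiCompact ((prod.lift t s).left ≫ (prod.fst : U ⨯ U ⟶ U).left) := by
        rw [h1]; infer_instance
      exact QuasiCompact.of_comp _ (prod.fst : U ⨯ U ⟶ U).left
    exact Groth.Agent.Lib.Helper51.repWith_diag_of_chart @QuasiCompact (Xi i).property.diag p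
      hpe hps s t hR' haux

end Groth.Agent.S10198
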