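import Groth.Statements.S5705
import Groth.Agent.Lib.Helper98.SkolemLocal

set_option autoImplicit false
universe u v
open TensorProduct
open Dix

namespace Groth.Agent.S5705

/-- Over a local base, where the Zariski-local conclusion becomes global. Let R be a local ring and A an
Azumaya algebra over R. Then every R-algebra automorphism u of A is inner, u(x) = a x a⁻¹ for some
unit a of A, and the unit a is determined up to multiplication by a unit of R. -/
theorem result (R : Type u) [CommRing R] [IsLocalRing R] (A : Type v) [Ring A] [Algebra R A] [IsAzumaya R A] (u : A ≃ₐ[R] A) : (∃ a : Aˣ, ∀ x : A, u x = (a : A) * x * (a⁻¹ : Aˣ)) ∧ (∀ a a' : Aˣ, (∀ x : A, u x = (a : A) * x * (a⁻¹ : Aˣ)) → (∀ x : A, u x = (a' : A) * x * (a'⁻¹ : Aˣ)) → ∃ c : Rˣ, (a' : A) = algebraMap R A (c : R) * (a : A)) := by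
  refine ⟨Groth.Agent.Lib.Helper98.SkolemLocal.exists_unit_conj u, ?_⟩
  intro a a' ha ha'
  have hz : ∀ x : A, ((a⁻¹ * a' : Aˣ) : A) * x = x * ((a⁻¹ * a' : Aˣ) : A) := by
    intro x
    have h := (ha x).symm.trans (ha' x)
    have h2 : ((a⁻¹ : Aˣ) : A) * ((a : A) * x * ((a⁻¹ : Aˣ) : A)) * (a' : A)
        = ((a⁻¹ : Aˣ) : A) * ((a' : A) * x * ((a'⁻¹ : Aˣ) : A)) * (a' : A) := by rw [h]
    simp only [mul_assoc, Units.inv_mul_cancel_left, Units.inv_mul, mul_one] at h2
    rw [Units.val_mul, h2, mul_assoc]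
  have hz' : ∀ x : A, ((a'⁻¹ * a : Aˣ) : A) * x = x * ((a'⁻¹ * a : Aˣ) : A) := by
    intro x
    have h := (ha' x).symm.trans (ha x)
    have h2 : ((a'⁻¹ : Aˣ) : A) * ((a' : A) * x * ((a'⁻¹ : Aˣ) : A)) * (a : A)
        = ((a'⁻¹ : Aˣ) : A) * ((a : A) * x * ((a⁻¹ : Aˣ) : A)) * (a : A) := by rw [h]
    simp only [mul_assoc, Units.inv_mul_cancel_left, Units.inv_mul, mul_one] at h2
    rw [Units.val_mul, h2, mul_assoc]
  obtain ⟨r, hr⟩ := Groth.Agent.Lib.Helper98.SkolemLocal.mem_range_of_central (R := R) _ hz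
  obtain ⟨r', hr'⟩ := Groth.Agent.Lib.Helper98.SkolemLocal.mem_range_of_central (R := R) _ hz'
  have hinj : Function.Injective (algebraMap R A) := FaithfulSMul.algebraMap_injective R A
  have h1 : r * r' = 1 := by
    apply hinj
    rw [map_mul, map_one, ← hr, ← hr', ← Units.val_mul]
    simp
  have h2 : r' * r = 1 := by rw [mul_comm]; exact h1
  refine ⟨⟨r, r', h1, h2⟩, ?_⟩
  change (a' : A) = algebraMap R A r * a
  calc (a' : A) = (a : A) * ((a⁻¹ * a' : Aˣ) : A) := by
        rw [Units.val_mul, ← mul_assoc, Units.mul_inv, one_mul]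
    _ = algebraMap R A r * a := by rw [hr, Algebra.commutes]

end Groth.Agent.S5705
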