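import Groth.Statements.S16598
import Groth.Agent.Lib.Helper98.LGRing

set_option autoImplicit false
universe u v
open LGRing

namespace Groth.Agent.S16598

/-- Let R be an LG-ring and M a faithfully projective R-module (finitely generated projective and
faithful). Then M contains a unimodular element: there are m ∈ M and a linear form f on M with f(m)
= 1 (so R·m is a free direct summand of M of rank one). -/
theorem result {R : Type u} [CommRing R] (hR : LGRing.IsLGRing R)
    (M : Type v) [AddCommGroup M] [Module R M] [Module.Finite R M] [Module.Projective R M] [FaithfulSMul R M] :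
    ∃ (m : M) (f : Module.Dual R M), f m = 1 := by
  classical
  obtain ⟨a, πM, iM, -, -, hM⟩ := Module.Finite.exists_comp_eq_id_of_projective R M
  have hM' : ∀ x, πM (iM x) = x := fun x => congrArg (fun φ : M →ₗ[R] M => φ x) hM
  let E := LinearMap.toMatrix' (iM ∘ₗ πM)
  let G : MvPolynomial (Fin a ⊕ Fin a) R :=
    ∑ i, MvPolynomial.X (Sum.inr i) * ∑ j, MvPolynomial.C (E i j) * MvPolynomial.X (Sum.inl j)
  have hG : ∀ s : Fin a ⊕ Fin a → R, MvPolynomial.eval s G =
      ∑ i, s (Sum.inr i) * (iM (πM (fun j => s (Sum.inl j)))) i := by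
    intro s
    simp only [G, map_sum, map_mul, MvPolynomial.eval_X, MvPolynomial.eval_C]
    refine Finset.sum_congr rfl fun i _ => ?_
    congr 1
    have := congrFun (LinearMap.toMatrix'_mulVec (iM ∘ₗ πM) (fun j => s (Sum.inl j))) i
    simpa [Matrix.mulVec, dotProduct, E] using this
  obtain ⟨s, hs⟩ := Groth.Agent.Lib.Helper98.LG.exists_isUnit_eval hR G (by
    intro m hm
    -- some coordinate of some element is not in m
    have hex : ∃ (w : M) (j : Fin a), (iM w) j ∉ m := by
      by_contra hcon
      push Not at hcon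
      have htop : (⊤ : Submodule R M) ≤ m • ⊤ := by
        intro w _
        have hw : w = ∑ j, (iM w) j • πM (Pi.single j 1) := by
          conv_lhs => rw [← hM' w, ← (Pi.basisFun R (Fin a)).sum_repr (iM w)]
          simp [map_sum]
        rw [hw]
        exact Submodule.sum_mem _ fun j _ =>
          Submodule.smul_mem_smul (hcon w j) Submodule.mem_top
      obtain ⟨r, hr1, hr2⟩ := Submodule.exists_sub_one_mem_and_smul_eq_zero_of_fg_of_le_smul m
        (⊤ : Submodule R M) Module.Finite.fg_top htop
      have hr0 : r = 0 := by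
        apply FaithfulSMul.eq_of_smul_eq_smul (α := M)
        intro x; rw [hr2 x Submodule.mem_top, zero_smul]
      rw [hr0, zero_sub, neg_mem_iff] at hr1
      exact hm.ne_top ((Ideal.eq_top_iff_one m).mpr hr1)
    obtain ⟨w, j, hwj⟩ := hex
    refine ⟨Sum.elim (iM w) (Pi.single j 1), ?_⟩
    rw [hG]
    simp only [Sum.elim_inr, Sum.elim_inl]
    have : (fun j => iM w j) = iM w := rfl
    rw [this, hM']
    simpa [Pi.single_apply] using hwj)
  rw [hG] at hs
  obtain ⟨u, hu⟩ := hs
  refine ⟨πM (fun j => s (Sum.inl j)),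
    (↑u⁻¹ : R) • ((∑ i, s (Sum.inr i) • LinearMap.proj i) ∘ₗ iM), ?_⟩
  simp only [LinearMap.smul_apply, LinearMap.comp_apply, LinearMap.sum_apply, LinearMap.proj_apply,
    smul_eq_mul]
  rw [← hu]
  exact u.inv_mul

end Groth.Agent.S16598
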