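import Groth.Statements.S17357
import Mathlib
import Groth.Agent.Lib.Helper98.AzuTwist

set_option autoImplicit false
set_option linter.style.haveILetI false
universe u v w
open scoped TensorProduct
open AzInv

namespace Groth.Agent.S17357

open Groth.Agent.Lib.Helper98.AzuTwist Polynomial

section
variable {S : Type u} {R : Type v} [CommRing S] [CommRing R] [Algebra S R]
  (lam : R ≃ₐ[S] R) (hlam : ∀ r, lam (lam r) = r) (hfix : RInv.IsFixedRing S R lam.toRingEquiv)

include hlam hfix in
lemma exists_norm (t : R) : ∃ f : S, algebraMap S R f = t * lam t := by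
  have : lam.toRingEquiv (t * lam t) = t * lam t := by
    show lam (t * lam t) = _
    rw [map_mul, hlam, mul_comm]
  obtain ⟨f, hf⟩ := (hfix.2 _).mp this
  exact ⟨f, hf⟩

include hlam hfix in
lemma isIntegral : Algebra.IsIntegral S R := by
  constructor
  intro r
  have h1 : lam.toRingEquiv (r + lam r) = r + lam r := by
    show lam (r + lam r) = _
    rw [map_add, hlam, add_comm]
  obtain ⟨s1, hs1⟩ := (hfix.2 _).mp h1
  obtain ⟨s2, hs2⟩ := exists_norm lam hlam hfix r
  refine ⟨X ^ 2 + (C (-s1) * X + C s2), monic_X_pow_add (degree_linear_le.trans_lt (by norm_num)), ?_⟩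
  rw [C_neg]
  simp only [eval₂_add, eval₂_pow, eval₂_X, eval₂_mul, eval₂_C, eval₂_neg, hs1, hs2]
  ring

variable {A : Type w} [Ring A] [Algebra R A] [IsAzumaya R A]

omit [Algebra S R] in
/-- properties of a twist pair -/
lemma pair_props (ψ : A ≃ₐ[R] A) {u w : A} (hu : ∀ a, ψ a * u = u * a) (hw : ∀ a, a * w = w * ψ a) :
    ∃ t t' : R, algebraMap R A t = w * u ∧ algebraMap R A t' = u * w ∧ t' * t = t * t := by
  have hinj : Function.Injective (algebraMap R A) := FaithfulSMul.algebraMap_injective R A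
  have hc : ∀ a, (w * u) * a = a * (w * u) := by
    intro a
    rw [mul_assoc, ← hu a, ← mul_assoc, ← hw a, mul_assoc]
  have hd : ∀ b, (u * w) * b = b * (u * w) := by
    intro b
    obtain ⟨a, rfl⟩ := ψ.surjective b
    rw [mul_assoc, ← hw a, ← mul_assoc, ← hu a, mul_assoc]
  obtain ⟨t, ht⟩ := exists_algebraMap_eq_of_central (R := R) (w * u) hc
  obtain ⟨t', ht'⟩ := exists_algebraMap_eq_of_central (R := R) (u * w) hd
  refine ⟨t, t', ht, ht', ?_⟩
  apply hinj
  rw [map_mul, map_mul, ht, ht']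
  rw [← mul_assoc, hd w]
  simp only [mul_assoc]


omit [Algebra S R] [IsAzumaya R A] in
lemma twist_smul_u (ψ : A ≃ₐ[R] A) {u₁ u₂ : A} (e₁ e₂ : R) (h1 : ∀ a, ψ a * u₁ = u₁ * a)
    (h2 : ∀ a, ψ a * u₂ = u₂ * a) : ∀ a, ψ a * (e₁ • u₁ + e₂ • u₂) = (e₁ • u₁ + e₂ • u₂) * a := by
  intro a
  rw [mul_add, add_mul, mul_smul_comm, mul_smul_comm, smul_mul_assoc, smul_mul_assoc, h1, h2]

omit [Algebra S R] [IsAzumaya R A] in
lemma twist_smul_w (ψ : A ≃ₐ[R] A) {w₁ w₂ : A} (e₁ e₂ : R) (h1 : ∀ a, a * w₁ = w₁ * ψ a)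
    (h2 : ∀ a, a * w₂ = w₂ * ψ a) : ∀ a, a * (e₁ • w₁ + e₂ • w₂) = (e₁ • w₁ + e₂ • w₂) * ψ a := by
  intro a
  rw [mul_add, add_mul, mul_smul_comm, mul_smul_comm, smul_mul_assoc, smul_mul_assoc, h1, h2]

omit [Algebra S R] in
/-- a twist pair whose product avoids two given primes -/
lemma exists_pair_avoiding (ψ : A ≃ₐ[R] A) (q₁ q₂ : Ideal R) [q₁.IsPrime] [q₂.IsPrime] :
    ∃ (u w : A) (t : R), (∀ a, ψ a * u = u * a) ∧ (∀ a, a * w = w * ψ a) ∧
      algebraMap R A t = w * u ∧ t ∉ q₁ ∧ t ∉ q₂ := by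
  classical
  have hinj : Function.Injective (algebraMap R A) := FaithfulSMul.algebraMap_injective R A
  obtain ⟨K, _, u, w, hu, hw, hsum⟩ := exists_twist_pairs ψ
  choose r r' hr hr' hrr using fun j k => pair_props ψ (hu k) (hw j)
  -- r j k = w j * u k
  have hr1 : ∑ k, r k k = 1 := by
    apply hinj
    rw [map_sum, map_one, ← hsum]
    exact Finset.sum_congr rfl fun k _ => hr k k
  have hex : ∀ q : Ideal R, q.IsPrime → ∃ k, r k k ∉ q := by
    intro q hq
    by_contra hcon
    rw [not_exists] at hcon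
    simp only [not_not] at hcon
    have : (1 : R) ∈ q := hr1 ▸ q.sum_mem fun k _ => hcon k
    exact (Ideal.ne_top_iff_one q).mp hq.ne_top this
  obtain ⟨k₁, hk₁⟩ := hex q₁ inferInstance
  obtain ⟨k₂, hk₂⟩ := hex q₂ inferInstance
  by_cases h12 : r k₁ k₁ ∉ q₂
  · exact ⟨u k₁, w k₁, r k₁ k₁, hu k₁, hw k₁, hr k₁ k₁, hk₁, h12⟩
  by_cases h21 : r k₂ k₂ ∉ q₁
  · exact ⟨u k₂, w k₂, r k₂ k₂, hu k₂, hw k₂, hr k₂ k₂, h21, hk₂⟩
  rw [not_not] at h12 h21
  set e₁ := r k₁ k₁ with he₁
  set e₂ := r k₂ k₂ with he₂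
  have hU := twist_smul_u ψ e₁ e₂ (hu k₁) (hu k₂)
  have hW := twist_smul_w ψ e₁ e₂ (hw k₁) (hw k₂)
  obtain ⟨t, t', ht, -, -⟩ := pair_props ψ hU hW
  have htval : t = e₁ * e₁ * e₁ + e₁ * e₂ * r k₁ k₂ + e₂ * e₁ * r k₂ k₁ + e₂ * e₂ * e₂ := by
    apply hinj
    rw [ht]
    have hexp : (e₁ • w k₁ + e₂ • w k₂) * (e₁ • u k₁ + e₂ • u k₂) =
        (e₁ * e₁) • (w k₁ * u k₁) + (e₁ * e₂) • (w k₁ * u k₂) + (e₂ * e₁) • (w k₂ * u k₁)
          + (e₂ * e₂) • (w k₂ * u k₂) := by
      simp only [add_mul, mul_add, smul_mul_smul_comm]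
      abel
    rw [hexp, ← hr k₁ k₁, ← hr k₁ k₂, ← hr k₂ k₁, ← hr k₂ k₂]
    simp only [Algebra.smul_def, ← map_mul, ← map_add]
    rfl
  refine ⟨_, _, t, hU, hW, ht, ?_, ?_⟩
  · intro hmem
    rw [htval] at hmem
    have h2 : e₁ * e₂ * r k₁ k₂ + e₂ * e₁ * r k₂ k₁ + e₂ * e₂ * e₂ ∈ q₁ := by
      refine q₁.add_mem (q₁.add_mem ?_ ?_) ?_
      · exact q₁.mul_mem_right _ (q₁.mul_mem_left _ h21)
      · exact q₁.mul_mem_right _ (q₁.mul_mem_right _ h21)
      · exact q₁.mul_mem_left _ h21
    have h3 : e₁ * e₁ * e₁ ∈ q₁ := by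
      have := q₁.sub_mem hmem h2
      convert this using 1
      ring
    rcases (Ideal.IsPrime.mem_or_mem inferInstance h3) with h | h
    · rcases (Ideal.IsPrime.mem_or_mem inferInstance h) with h | h <;> exact hk₁ h
    · exact hk₁ h
  · intro hmem
    rw [htval] at hmem
    have h2 : e₁ * e₁ * e₁ + e₁ * e₂ * r k₁ k₂ + e₂ * e₁ * r k₂ k₁ ∈ q₂ := by
      refine q₂.add_mem (q₂.add_mem ?_ ?_) ?_
      · exact q₂.mul_mem_left _ h12
      · exact q₂.mul_mem_right _ (q₂.mul_mem_right _ h12)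
      · exact q₂.mul_mem_right _ (q₂.mul_mem_left _ h12)
    have h3 : e₂ * e₂ * e₂ ∈ q₂ := by
      have := q₂.sub_mem hmem h2
      convert this using 1
      ring
    rcases (Ideal.IsPrime.mem_or_mem inferInstance h3) with h | h
    · rcases (Ideal.IsPrime.mem_or_mem inferInstance h) with h | h <;> exact hk₂ h
    · exact hk₂ h


include hlam hfix in
theorem exists_local_data (ψ : A ≃ₐ[R] A) (p : Ideal S) [p.IsPrime] :
    ∃ (u w : A) (T : R) (f : S), f ∉ p ∧ (∀ a, ψ a * u = u * a) ∧ (∀ a, a * w = w * ψ a) ∧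
      w * u = algebraMap R A T ∧ u * w = algebraMap R A T ∧ algebraMap S R f = T * lam T := by
  have hinj : Function.Injective (algebraMap R A) := FaithfulSMul.algebraMap_injective R A
  haveI := isIntegral lam hlam hfix
  obtain ⟨q₁, -, hq₁, hq₁p⟩ := Ideal.exists_ideal_over_prime_of_isIntegral p (⊥ : Ideal R) (by
    rw [Ideal.comap_bot_of_injective _ hfix.1]; exact bot_le)
  haveI := hq₁
  let q₂ : Ideal R := q₁.comap (lam : R →+* R)
  haveI : q₂.IsPrime := Ideal.comap_isPrime _ _
  obtain ⟨u, w, t, hu, hw, ht, ht1, ht2⟩ := exists_pair_avoiding ψ q₁ q₂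
  obtain ⟨t0, t', ht0, ht', htt⟩ := pair_props ψ hu hw
  have h0 : t0 = t := hinj (ht0.trans ht.symm)
  subst h0
  obtain ⟨f, hf⟩ := exists_norm lam hlam hfix (t0 * t0)
  refine ⟨u, t0 • w, t0 * t0, f, ?_, hu, ?_, ?_, ?_, hf⟩
  · intro hfp
    have h1 : algebraMap S R f ∈ q₁ := by
      rw [← hq₁p] at hfp
      exact hfp
    rw [hf, map_mul] at h1
    have hl : lam t0 ∉ q₁ := ht2
    rcases hq₁.mem_or_mem h1 with h | h
    · rcases hq₁.mem_or_mem h with h | h <;> exact ht1 h
    · rcases hq₁.mem_or_mem h with h | h <;> exact hl h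
  · intro a
    rw [mul_smul_comm, smul_mul_assoc, hw a]
  · rw [smul_mul_assoc, ← ht0, map_mul, Algebra.smul_def]
  · rw [mul_smul_comm, ← ht', Algebra.smul_def, ← map_mul, mul_comm, htt]


variable [Algebra S A] [IsScalarTower S R A]

omit [IsAzumaya R A] in
theorem exists_unit_away (ψ : A ≃ₐ[R] A) {u w : A} {T : R} {f : S}
    (hu : ∀ a, ψ a * u = u * a)
    (hwu : w * u = algebraMap R A T) (huw : u * w = algebraMap R A T)
    (hf : algebraMap S R f = T * lam T) :
    ∃ U : (Localization.Away f ⊗[S] A)ˣ, ∀ x : Localization.Away f ⊗[S] A,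
      Algebra.TensorProduct.congr
        (AlgEquiv.refl : Localization.Away f ≃ₐ[Localization.Away f] Localization.Away f)
        (ψ.restrictScalars S) x = ↑U * x * ↑U⁻¹ := by
  set g : Localization.Away f := IsLocalization.Away.invSelf f with hg
  have hfg : algebraMap S (Localization.Away f) f * g = 1 := IsLocalization.Away.mul_invSelf f
  have hTT : algebraMap R A (lam T * T) = algebraMap S A f := by
    rw [IsScalarTower.algebraMap_apply S R A f, hf, mul_comm]
  have key : ∀ (s : Localization.Away f) (a : A),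
      (s * g) ⊗ₜ[S] (algebraMap R A (lam T * T) * a) = s ⊗ₜ[S] a := by
    intro s a
    rw [hTT, ← Algebra.smul_def, TensorProduct.tmul_smul, TensorProduct.smul_tmul',
      Algebra.smul_def, mul_comm s g, ← mul_assoc, hfg, one_mul]
  have hVU : (g ⊗ₜ[S] (lam T • w) : Localization.Away f ⊗[S] A) *
      ((1 : Localization.Away f) ⊗ₜ[S] u) = 1 := by
    rw [Algebra.TensorProduct.tmul_mul_tmul, mul_one, smul_mul_assoc, hwu, Algebra.smul_def,
      ← map_mul]
    have := key 1 1
    rw [one_mul, mul_one] at this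
    exact this
  have hUV : ((1 : Localization.Away f) ⊗ₜ[S] u : Localization.Away f ⊗[S] A) *
      (g ⊗ₜ[S] (lam T • w)) = 1 := by
    rw [Algebra.TensorProduct.tmul_mul_tmul, one_mul, mul_smul_comm, huw, Algebra.smul_def,
      ← map_mul]
    have := key 1 1
    rw [one_mul, mul_one] at this
    exact this
  refine ⟨⟨(1 : Localization.Away f) ⊗ₜ[S] u, g ⊗ₜ[S] (lam T • w), hUV, hVU⟩, fun x => ?_⟩
  show _ = ((1 : Localization.Away f) ⊗ₜ[S] u) * x * (g ⊗ₜ[S] (lam T • w))
  induction x using TensorProduct.induction_on with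
  | zero => simp
  | tmul s a =>
    rw [Algebra.TensorProduct.congr_apply, Algebra.TensorProduct.map_tmul,
      Algebra.TensorProduct.tmul_mul_tmul, Algebra.TensorProduct.tmul_mul_tmul, one_mul]
    have h1 : u * a * (lam T • w) = algebraMap R A (lam T * T) * ψ a := by
      rw [mul_smul_comm, ← hu a, mul_assoc, huw, ← Algebra.commutes, ← Algebra.smul_def,
        ← Algebra.smul_def, smul_smul]
    rw [h1, key]
    rfl
  | add a₁ a₂ h₁ h₂ => rw [map_add, h₁, h₂, mul_add, add_mul]

end

section glue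

variable {S : Type u} [CommRing S] {ι : Type u} [Fintype ι] [DecidableEq ι]
  (B : ι → Type u) [∀ i, CommRing (B i)] [∀ i, Algebra S (B i)]
  (A : Type w) [Ring A] [Algebra S A]

/-- tensor product commutes with finite products on the left (algebra version) -/
noncomputable def piLeftAlg : (∀ i, B i) ⊗[S] A ≃ₐ[S] ∀ i, B i ⊗[S] A :=
  (Algebra.TensorProduct.comm S (∀ i, B i) A).trans
    ((Algebra.TensorProduct.piRight S S A B).trans
      (AlgEquiv.piCongrRight fun i => Algebra.TensorProduct.comm S A (B i)))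

lemma piLeftAlg_tmul (b : ∀ i, B i) (a : A) (i : ι) :
    piLeftAlg B A (b ⊗ₜ[S] a) i = b i ⊗ₜ[S] a := by
  simp [piLeftAlg]

omit [DecidableEq ι] in
lemma flat_pi [∀ i, Module.Flat S (B i)] : Module.Flat S (∀ i, B i) :=
  Module.Flat.of_linearEquiv (DirectSum.linearEquivFunOnFintype S ι B).symm


omit [DecidableEq ι] in
lemma faithfullyFlat_pi_away (f : ι → S) (hspan : Ideal.span (Set.range f) = ⊤) :
    Module.FaithfullyFlat S (∀ i, Localization.Away (f i)) := by
  classical
  haveI : Module.Flat S (∀ i, Localization.Away (f i)) :=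
    flat_pi (fun i => Localization.Away (f i))
  apply Module.FaithfullyFlat.of_comap_surjective
  intro p
  obtain ⟨i, hi⟩ : ∃ i, f i ∉ p.asIdeal := by
    by_contra hcon
    rw [not_exists] at hcon
    simp only [not_not] at hcon
    have : Ideal.span (Set.range f) ≤ p.asIdeal := by
      rw [Ideal.span_le]
      rintro _ ⟨i, rfl⟩
      exact hcon i
    rw [hspan] at this
    exact p.2.ne_top (top_le_iff.mp this)
  have hdisj : Disjoint (Submonoid.powers (f i) : Set S) (p.asIdeal : Set S) :=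
    (Ideal.disjoint_powers_iff_notMem _ p.2.isRadical).mpr hi
  have hP : (Ideal.map (algebraMap S (Localization.Away (f i))) p.asIdeal).IsPrime :=
    IsLocalization.isPrime_of_isPrime_disjoint (Submonoid.powers (f i)) _ p.asIdeal p.2 hdisj
  have hcomap : (Ideal.map (algebraMap S (Localization.Away (f i))) p.asIdeal).comap
      (algebraMap S (Localization.Away (f i))) = p.asIdeal :=
    IsLocalization.under_map_of_isPrime_disjoint (Submonoid.powers (f i)) _ p.2 hdisj
  refine ⟨⟨(Ideal.map (algebraMap S (Localization.Away (f i))) p.asIdeal).comap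
    (Pi.evalRingHom (fun i => Localization.Away (f i)) i), Ideal.comap_isPrime _ _⟩, ?_⟩
  ext1
  show Ideal.comap _ (Ideal.comap _ _) = _
  rw [Ideal.comap_comap]
  exact hcomap

end glue

/-- Let `R` be a commutative ring with an involution `lam` whose fixed ring is exactly `S`, let `A` be
an Azumaya `R`-algebra of degree `n ≥ 1` and `ψ` an `R`-algebra automorphism of `A`. Then `ψ`
becomes an inner automorphism after base change along an etale covering of `S` (and not merely of
`R`): there are an etale faithfully flat `S`-algebra `S'` and a unit `u` of `S' ⊗_S A` such that `id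
⊗ ψ` is `x ↦ u x u⁻¹`. (The source states this for a good quotient of schemes by an involution; the
row is the affine case `Spec R → Spec S`.) -/
theorem result (S : Type u) (R : Type v) [CommRing S] [CommRing R] [Algebra S R]
    (lam : R ≃ₐ[S] R) (hlam : ∀ r, lam (lam r) = r) (hfix : RInv.IsFixedRing S R lam.toRingEquiv)
    (A : Type w) [Ring A] [Algebra S A] [Algebra R A] [IsScalarTower S R A]
    (n : ℕ) (hn : 0 < n) (hA : AzInv.IsAzumayaDeg R A n) (ψ : A ≃ₐ[R] A) :
    ∃ (S' : Type u) (_ : CommRing S') (_ : Algebra S S') (_ : Algebra.Etale S S')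
      (_ : Module.FaithfullyFlat S S') (u : (S' ⊗[S] A)ˣ),
      ∀ x : S' ⊗[S] A,
        Algebra.TensorProduct.congr (AlgEquiv.refl : S' ≃ₐ[S'] S') (ψ.restrictScalars S) x =
          ↑u * x * ↑u⁻¹ := by
  obtain ⟨hAz, -⟩ := hA
  haveI := hAz
  classical
  -- the set of good `f`
  let G : Set S := {f | ∃ U : (Localization.Away f ⊗[S] A)ˣ, ∀ x : Localization.Away f ⊗[S] A,
      Algebra.TensorProduct.congr
        (AlgEquiv.refl : Localization.Away f ≃ₐ[Localization.Away f] Localization.Away f)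
        (ψ.restrictScalars S) x = ↑U * x * ↑U⁻¹}
  have hG : Ideal.span G = ⊤ := by
    by_contra hne
    obtain ⟨m, hm, hle⟩ := Ideal.exists_le_maximal _ hne
    haveI := hm.isPrime
    obtain ⟨u, w, T, f, hfp, hu, hw, hwu, huw, hf⟩ := exists_local_data lam hlam hfix ψ m
    exact hfp (hle (Ideal.subset_span (exists_unit_away lam ψ hu hwu huw hf)))
  obtain ⟨s', hs', hspan⟩ := (Ideal.span_eq_top_iff_finite G).mp hG
  let f : (↥s') → S := fun i => i.1
  have hspan' : Ideal.span (Set.range f) = ⊤ := by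
    have : Set.range f = (s' : Set S) := by
      ext x
      simp [f]
    rw [this, hspan]
  have hff := faithfullyFlat_pi_away f hspan'
  choose U hU using fun i : ↥s' => hs' i.2
  let e := piLeftAlg (S := S) (fun i : ↥s' => Localization.Away (f i)) A
  have hnat : ∀ (x : (∀ i : ↥s', Localization.Away (f i)) ⊗[S] A) (i : ↥s'),
      e (Algebra.TensorProduct.congr
        (AlgEquiv.refl : (∀ i : ↥s', Localization.Away (f i)) ≃ₐ[(∀ i : ↥s', Localization.Away (f i))] _)
        (ψ.restrictScalars S) x) i =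
      Algebra.TensorProduct.congr
        (AlgEquiv.refl : Localization.Away (f i) ≃ₐ[Localization.Away (f i)] Localization.Away (f i))
        (ψ.restrictScalars S) (e x i) := by
    intro x i
    induction x using TensorProduct.induction_on with
    | zero => simp
    | tmul b a =>
      rw [Algebra.TensorProduct.congr_apply, Algebra.TensorProduct.map_tmul]
      simp only [e]
      rw [piLeftAlg_tmul, piLeftAlg_tmul, Algebra.TensorProduct.congr_apply,
        Algebra.TensorProduct.map_tmul]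
      rfl
    | add a₁ a₂ h₁ h₂ => simp only [map_add, Pi.add_apply, h₁, h₂]
  refine ⟨∀ i : ↥s', Localization.Away (f i), inferInstance, inferInstance, inferInstance, hff,
    ⟨e.symm (fun i => (U i : Localization.Away (f i) ⊗[S] A)),
     e.symm (fun i => ((U i)⁻¹ : (Localization.Away (f i) ⊗[S] A)ˣ)), ?_, ?_⟩, ?_⟩
  · rw [← map_mul]
    have : (fun i => (U i : Localization.Away (f i) ⊗[S] A)) *
        (fun i => (((U i)⁻¹ : (Localization.Away (f i) ⊗[S] A)ˣ) : Localization.Away (f i) ⊗[S] A)) = 1 := by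
      ext i
      simp
    rw [this, map_one]
  · rw [← map_mul]
    have : (fun i => (((U i)⁻¹ : (Localization.Away (f i) ⊗[S] A)ˣ) : Localization.Away (f i) ⊗[S] A)) *
        (fun i => (U i : Localization.Away (f i) ⊗[S] A)) = 1 := by
      ext i
      simp
    rw [this, map_one]
  · intro x
    apply e.injective
    ext i
    rw [hnat x i, hU i]
    simp only [map_mul, AlgEquiv.apply_symm_apply, Pi.mul_apply, Units.inv_mk, Units.val_mk]

end Groth.Agent.S17357
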