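import Groth.Statements.S0201
import Mathlib
import Groth.Agent.Lib.Helper22.CSASplit
-- import your own Groth.Agent.* helpers here

set_option autoImplicit false
universe u v w
open scoped TensorProduct
open Curves

namespace Groth.Agent.S0201

/-- Every finite central simple algebra over k is split by a finite Galois extension of k. -/
theorem result (k : Type u) [Field k] (A : Type v) [Ring A] [Algebra k A]
    [Algebra.IsCentral k A] [IsSimpleRing A] [FiniteDimensional k A] :
    ∃ (k' : Type u) (_ : Field k') (_ : Algebra k k'), FiniteDimensional k k' ∧
      IsGalois k k' ∧ Curves.Splits k A k' := by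
  obtain ⟨S, hS, h⟩ := Groth.Agent.Lib.Helper22.CSASplit.exists_finite_splits k A
    (SeparableClosure k)
    (Groth.Agent.Lib.Helper22.CSASplit.splits_of_isSepClosed k A (SeparableClosure k))
  haveI : Finite S := hS
  haveI : FiniteDimensional k (IntermediateField.adjoin k S) :=
    IntermediateField.finiteDimensional_adjoin (fun x _ => (Algebra.IsIntegral.isIntegral x))
  let F : IntermediateField k (SeparableClosure k) :=
    IntermediateField.normalClosure k (IntermediateField.adjoin k S) (SeparableClosure k)
  have hle : IntermediateField.adjoin k S ≤ F := IntermediateField.le_normalClosure _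
  refine ⟨F, inferInstance, inferInstance, ?_, ?_,
    h F ((IntermediateField.subset_adjoin k S).trans hle)⟩
  · exact normalClosure.is_finiteDimensional k _ _
  · haveI : Algebra.IsSeparable k F :=
      Algebra.isSeparable_tower_bot_of_isSeparable k _ (SeparableClosure k)
    haveI : Normal k F := normalClosure.normal k _ _
    exact ⟨⟩

end Groth.Agent.S0201
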