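import Groth.Statements.S5713
import Mathlib
import Groth.Agent.Lib.Helper52.RegularCSA
import Groth.Agent.Lib.Helper59.CSA

set_option linter.style.haveILetI false

set_option autoImplicit false
universe u v
open TensorProduct
open Dix

namespace Groth.Agent.S5713

open Groth.Agent.Lib.Helper52.RegularCSA Groth.Agent.Lib.Helper59.TPow

section Aux

variable {R : Type u} [CommRing R] (k : Type u) [Field k] [Algebra R k]
  {A : Type u} [Ring A] [Algebra R A]

/-- base change of the "powers" map is the "powers" map of `1 ⊗ ξ`. -/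
theorem lTensor_linearCombination_pow (ξ : A) (r : ℕ) (c : Fin r → k) :
    (Fintype.linearCombination R (fun i : Fin r => ξ ^ (i : ℕ))).lTensor k
      ((TensorProduct.piScalarRight R k k (Fin r)).symm c) =
    Fintype.linearCombination k (fun i : Fin r => ((1 : k) ⊗ₜ[R] ξ : k ⊗[R] A) ^ (i : ℕ)) c := by
  classical
  have h : ((Fintype.linearCombination R (fun i : Fin r => ξ ^ (i : ℕ))).baseChange k) ∘ₗ
      (TensorProduct.piScalarRight R k k (Fin r)).symm.toLinearMap =
      Fintype.linearCombination k (fun i : Fin r => ((1 : k) ⊗ₜ[R] ξ : k ⊗[R] A) ^ (i : ℕ)) := by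
    apply LinearMap.pi_ext
    intro i x
    rw [LinearMap.comp_apply, LinearEquiv.coe_coe, TensorProduct.piScalarRight_symm_single,
      LinearMap.baseChange_tmul, Fintype.linearCombination_apply_single,
      Fintype.linearCombination_apply_single, one_smul, Algebra.TensorProduct.tmul_pow, one_pow,
      TensorProduct.smul_tmul', smul_eq_mul, mul_one]
  exact LinearMap.congr_fun h c

/-- base change of the commutator with `ξ`. -/
theorem lTensor_commutator (ξ : A) (z : k ⊗[R] A) :
    (LinearMap.mulLeft R ξ - LinearMap.mulRight R ξ).lTensor k z =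
      ((1 : k) ⊗ₜ[R] ξ) * z - z * ((1 : k) ⊗ₜ[R] ξ) := by
  induction z using TensorProduct.induction_on with
  | zero => simp
  | add a b ha hb => rw [map_add, ha, hb, mul_add, add_mul]; abel
  | tmul c a =>
    rw [LinearMap.lTensor_tmul, LinearMap.sub_apply, LinearMap.mulLeft_apply,
      LinearMap.mulRight_apply, TensorProduct.tmul_sub, Algebra.TensorProduct.tmul_mul_tmul,
      Algebra.TensorProduct.tmul_mul_tmul, one_mul, mul_one]

end Aux

/-- Over a local base. Let R be a local ring with residue field k, A an Azumaya algebra over R of rank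
r², and ξ ∈ A an element whose image ξ̄ = 1 ⊗ ξ in k ⊗_R A is regular, i.e. generates a commutative
subalgebra k[ξ̄] which is étale over k (all elements separable) of dimension r. Then the powers 1,
ξ, …, ξ^{r-1} are linearly independent over R and ξ^r lies in their R-linear span; thus R[ξ] is a
free R-module of rank r closed under multiplication, and ξ is a regular section over all of Spec R. -/
theorem result (R : Type u) [CommRing R] [IsLocalRing R] (A : Type u) [Ring A] [Algebra R A] [IsAzumaya R A] (r : ℕ) (hA : Module.finrank R A = r ^ 2) (ξ : A) (hsep : Algebra.IsSeparable (IsLocalRing.ResidueField R) (Algebra.adjoin (IsLocalRing.ResidueField R) ({(1 : IsLocalRing.ResidueField R) ⊗ₜ[R] ξ} : Set (IsLocalRing.ResidueField R ⊗[R] A)))) (hrk : Module.finrank (IsLocalRing.ResidueField R) (Algebra.adjoin (IsLocalRing.ResidueField R) ({(1 : IsLocalRing.ResidueField R) ⊗ₜ[R] ξ} : Set (IsLocalRing.ResidueField R ⊗[R] A))) = r) : LinearIndependent R (fun i : Fin r => ξ ^ (i : ℕ)) ∧ ξ ^ r ∈ Submodule.span R (Set.range (fun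 i : Fin r => ξ ^ (i : ℕ))) := by
  classical
  haveI : Module.Free R A := Module.free_of_flat_of_isLocalRing
  haveI : IsAzumaya (IsLocalRing.ResidueField R) (IsLocalRing.ResidueField R ⊗[R] A) :=
    Groth.Agent.Lib.Helper46.Azumaya.isAzumaya_baseChange R (IsLocalRing.ResidueField R) A
  have hCSA : IsCSA (IsLocalRing.ResidueField R) (IsLocalRing.ResidueField R ⊗[R] A) :=
    ⟨Groth.Agent.Lib.Helper59.CSA.isCentral_of_isAzumaya (K := IsLocalRing.ResidueField R),
      Groth.Agent.Lib.Helper59.CSA.isSimpleRing_of_isAzumaya (K := IsLocalRing.ResidueField R),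
      Groth.Agent.Lib.Helper59.CSA.finiteDimensional_of_isAzumaya
        (K := IsLocalRing.ResidueField R)⟩
  haveI := hCSA.fd
  have hfr : Module.finrank (IsLocalRing.ResidueField R) (IsLocalRing.ResidueField R ⊗[R] A) =
      r ^ 2 := by rw [Module.finrank_baseChange, hA]
  have hcent := centralizer_eq_adjoin hCSA hfr _ hsep hrk
  have hint : IsIntegral (IsLocalRing.ResidueField R)
      ((1 : IsLocalRing.ResidueField R) ⊗ₜ[R] ξ : IsLocalRing.ResidueField R ⊗[R] A) :=
    IsIntegral.of_finite _ _
  have hli := linearIndependent_pow_of_finrank hint hrk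
  have hspan := span_pow_eq_adjoin_of_finrank hint hrk
  obtain ⟨l₁, hl₁⟩ : ∃ l₁ : (Fin r → R) →ₗ[R] A,
    l₁ = Fintype.linearCombination R (fun i : Fin r => ξ ^ (i : ℕ)) := ⟨_, rfl⟩
  -- `k ⊗ l₁` is injective
  have h1 : Function.Injective (l₁.lTensor (IsLocalRing.ResidueField R)) := by
    have hinj : Function.Injective (Fintype.linearCombination (IsLocalRing.ResidueField R)
        (fun i : Fin r => ((1 : IsLocalRing.ResidueField R) ⊗ₜ[R] ξ :
          IsLocalRing.ResidueField R ⊗[R] A) ^ (i : ℕ))) :=
      linearIndependent_iff_injective_fintypeLinearCombination.mp hli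
    intro z w hzw
    obtain ⟨c, rfl⟩ := (TensorProduct.piScalarRight R (IsLocalRing.ResidueField R)
      (IsLocalRing.ResidueField R) (Fin r)).symm.surjective z
    obtain ⟨d, rfl⟩ := (TensorProduct.piScalarRight R (IsLocalRing.ResidueField R)
      (IsLocalRing.ResidueField R) (Fin r)).symm.surjective w
    rw [hl₁, lTensor_linearCombination_pow, lTensor_linearCombination_pow] at hzw
    rw [hinj hzw]
  obtain ⟨s, hs⟩ := (IsLocalRing.split_injective_iff_lTensor_residueField_injective l₁).mpr h1
  have hs' : ∀ c, s (l₁ c) = c := fun c => LinearMap.congr_fun hs c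
  refine ⟨?_, ?_⟩
  · rw [linearIndependent_iff_injective_fintypeLinearCombination, ← hl₁]
    exact Function.LeftInverse.injective hs'
  -- the map `Θ`
  obtain ⟨Θ, hΘ⟩ : ∃ Θ : A →ₗ[R] A × (Fin r → R),
    Θ = (LinearMap.mulLeft R ξ - LinearMap.mulRight R ξ).prod s := ⟨_, rfl⟩
  have h2 : Function.Injective (Θ.lTensor (IsLocalRing.ResidueField R)) := by
    rw [← LinearMap.ker_eq_bot, LinearMap.ker_eq_bot']
    intro z hz
    have hfst : (LinearMap.mulLeft R ξ - LinearMap.mulRight R ξ).lTensor
        (IsLocalRing.ResidueField R) z = 0 := by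
      have : (LinearMap.mulLeft R ξ - LinearMap.mulRight R ξ) =
          (LinearMap.fst R A (Fin r → R)) ∘ₗ Θ := by rw [hΘ, LinearMap.fst_prod]
      rw [this, LinearMap.lTensor_comp, LinearMap.comp_apply, hz, map_zero]
    have hsnd : s.lTensor (IsLocalRing.ResidueField R) z = 0 := by
      have : s = (LinearMap.snd R A (Fin r → R)) ∘ₗ Θ := by rw [hΘ, LinearMap.snd_prod]
      rw [this, LinearMap.lTensor_comp, LinearMap.comp_apply, hz, map_zero]
    rw [lTensor_commutator, sub_eq_zero] at hfst
    have hzmem : z ∈ Subalgebra.centralizer (IsLocalRing.ResidueField R)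
        ({(1 : IsLocalRing.ResidueField R) ⊗ₜ[R] ξ} : Set (IsLocalRing.ResidueField R ⊗[R] A)) := by
      rw [Subalgebra.mem_centralizer_iff]
      intro y hy
      rw [Set.mem_singleton_iff.mp hy, hfst]
    rw [hcent, ← Subalgebra.mem_toSubmodule, ← hspan, ← Fintype.range_linearCombination] at hzmem
    obtain ⟨c, rfl⟩ := hzmem
    rw [← lTensor_linearCombination_pow, ← hl₁] at hsnd ⊢
    rw [← LinearMap.comp_apply, ← LinearMap.lTensor_comp, hs, LinearMap.lTensor_id,
      LinearMap.id_apply] at hsnd
    rw [hsnd, map_zero]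
  obtain ⟨Θ', hΘ'⟩ := (IsLocalRing.split_injective_iff_lTensor_residueField_injective Θ).mpr h2
  have hΘinj : Function.Injective Θ :=
    Function.LeftInverse.injective (fun a => LinearMap.congr_fun hΘ' a)
  have hcomm : ∀ c : Fin r → R, ξ * l₁ c = l₁ c * ξ := by
    intro c
    rw [hl₁, Fintype.linearCombination_apply]
    refine (Commute.sum_right _ _ _ fun i _ => ?_).eq
    exact ((Commute.refl ξ).pow_right _).smul_right _
  have hkey : ξ ^ r - l₁ (s (ξ ^ r)) = 0 := by
    apply hΘinj
    rw [map_zero, hΘ, LinearMap.prod_apply]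
    apply Prod.ext
    · show (LinearMap.mulLeft R ξ - LinearMap.mulRight R ξ) (ξ ^ r - l₁ (s (ξ ^ r))) = 0
      rw [LinearMap.sub_apply, LinearMap.mulLeft_apply, LinearMap.mulRight_apply, mul_sub, sub_mul,
        hcomm, ← pow_succ', ← pow_succ, sub_self]
    · show s (ξ ^ r - l₁ (s (ξ ^ r))) = 0
      rw [map_sub, hs', sub_self]
  rw [← Fintype.range_linearCombination, ← hl₁]
  exact ⟨s (ξ ^ r), (sub_eq_zero.mp hkey).symm⟩

end Groth.Agent.S5713
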