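import Groth.Statements.S5720
import Mathlib
import Groth.Agent.Lib.Helper52.SplitMid
import Groth.Agent.Lib.Helper52.SplitChain
import Groth.Agent.Lib.Helper52.SplitFree
import Groth.Agent.Lib.Helper35.EtaleMonogenic

set_option linter.style.haveILetI false

set_option autoImplicit false
universe u v
open TensorProduct
open Dix

namespace Groth.Agent.S5720

open Groth.Agent.Lib.Helper52.SplitLocal Groth.Agent.Lib.Helper52.SplitMid
  Groth.Agent.Lib.Helper52.SplitChain Groth.Agent.Lib.Helper52.SplitFree

theorem tmul_algebraMap_swap {T T' E : Type*} [CommRing T] [CommRing T'] [CommRing E]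
    [Algebra T T'] [Algebra T E] (t : T) :
    ((1 : T') ⊗ₜ[T] (algebraMap T E t) : T' ⊗[T] E) = (algebraMap T T' t) ⊗ₜ[T] (1 : E) := by
  calc ((1 : T') ⊗ₜ[T] (algebraMap T E t) : T' ⊗[T] E)
      = (1 : T') ⊗ₜ[T] (t • (1 : E)) := by rw [Algebra.algebraMap_eq_smul_one]
    _ = (t • (1 : T')) ⊗ₜ[T] (1 : E) := (TensorProduct.smul_tmul t 1 1).symm
    _ = (algebraMap T T' t) ⊗ₜ[T] (1 : E) := by rw [← Algebra.algebraMap_eq_smul_one]

theorem final2 (R : Type u) [CommRing R] (A : Type u) [Ring A] [Algebra R A]
    (T T' E : Type u) [CommRing T] [CommRing T'] [CommRing E] [Algebra R T] [Algebra R T']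
    [Algebra T T'] [IsScalarTower R T T'] [Algebra R E] [Algebra T E] [IsScalarTower R T E]
    [Module.Finite T E] [Algebra.Etale T E] [Module.FaithfullyFlat T E]
    (M : Type u) [AddCommGroup M] [Module E M] [Module.Finite E M] [Module.Projective E M]
    (Φ : (E ⊗[R] A) ≃ₐ[E] Module.End E M) (r : ℕ) (g₂ : T)
    (hbasis : ∀ (E' : Type u) [CommRing E'] [Algebra E E'],
      IsUnit (algebraMap E E' (algebraMap T E g₂)) →
        Nonempty (Module.Basis (Fin r) E' (E' ⊗[E] M)))
    (hunit : IsUnit (algebraMap T T' g₂)) :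
    IsScalarTower R T' (T' ⊗[T] E) ∧
      Module.Finite T' (T' ⊗[T] E) ∧ Algebra.Etale T' (T' ⊗[T] E) ∧
      Module.FaithfullyFlat T' (T' ⊗[T] E) ∧
      Nonempty (((T' ⊗[T] E) ⊗[R] A) ≃ₐ[T' ⊗[T] E] Matrix (Fin r) (Fin r) (T' ⊗[T] E)) := by
  classical
  letI : Algebra E (T' ⊗[T] E) := Algebra.TensorProduct.rightAlgebra
  refine ⟨inferInstance, inferInstance, inferInstance, inferInstance, ?_⟩
  haveI : IsScalarTower R E (T' ⊗[T] E) := IsScalarTower.of_algebraMap_eq (fun x => by
    rw [Algebra.TensorProduct.right_algebraMap_apply, Algebra.TensorProduct.algebraMap_apply,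
      IsScalarTower.algebraMap_apply R T T', IsScalarTower.algebraMap_apply R T E,
      tmul_algebraMap_swap])
  have hu : IsUnit (algebraMap E (T' ⊗[T] E) (algebraMap T E g₂)) := by
    have : algebraMap E (T' ⊗[T] E) (algebraMap T E g₂) =
        algebraMap T' (T' ⊗[T] E) (algebraMap T T' g₂) := by
      rw [Algebra.TensorProduct.right_algebraMap_apply, Algebra.TensorProduct.algebraMap_apply,
        tmul_algebraMap_swap]
      rfl
    rw [this]
    exact hunit.map _
  obtain ⟨b⟩ := hbasis (T' ⊗[T] E) hu
  exact nonempty_matrix_equiv R A E M Φ (T' ⊗[T] E) b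

open Polynomial in
theorem nontrivial_away {R : Type u} [CommRing R] (p : Ideal R) [p.IsPrime] {g : R} (hg : g ∉ p) :
    Nontrivial (Localization.Away g) := by
  have hdisj : Disjoint (Submonoid.powers g : Set R) (p : Set R) :=
    (Ideal.disjoint_powers_iff_notMem _ (Ideal.IsPrime.isRadical inferInstance)).mpr hg
  have hp' : (p.map (algebraMap R (Localization.Away g))).IsPrime :=
    IsLocalization.isPrime_of_isPrime_disjoint (Submonoid.powers g) (Localization.Away g) p
      inferInstance hdisj
  refine ⟨⟨0, 1, fun h => hp'.ne_top ?_⟩⟩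
  rw [Ideal.eq_top_iff_one, ← h]
  exact Ideal.zero_mem _

open Polynomial in
theorem final (R : Type u) [CommRing R] (A : Type u) [Ring A] [Algebra R A] [IsAzumaya R A]
    (p : Ideal R) [p.IsPrime] (g : R) (hg : g ∉ p) (P : (Localization.Away g)[X]) (hPm : P.Monic)
    (hPsep : P.Separable) (r : ℕ) (hr : r ≠ 0) (hPdeg : P.natDegree = r)
    (M : Type u) [AddCommGroup M] [Module (AdjoinRoot P) M] [Module.Finite (AdjoinRoot P) M]
    [Module.Projective (AdjoinRoot P) M]
    (hrank : ∀ q : PrimeSpectrum (AdjoinRoot P), Module.rankAtStalk M q = r)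
    (Φ : (AdjoinRoot P ⊗[R] A) ≃ₐ[AdjoinRoot P] Module.End (AdjoinRoot P) M) :
    ∃ f : R, f ∉ p ∧ ∃ (R' : Type u) (_ : CommRing R') (_ : Algebra R R')
      (_ : Algebra (Localization.Away f) R') (_ : IsScalarTower R (Localization.Away f) R'),
      Module.Finite (Localization.Away f) R' ∧ Algebra.Etale (Localization.Away f) R' ∧
      Module.FaithfullyFlat (Localization.Away f) R' ∧ ∃ r : ℕ, 1 ≤ r ∧
      Nonempty ((R' ⊗[R] A) ≃ₐ[R'] Matrix (Fin r) (Fin r) R') := by
  classical
  haveI : Nontrivial (Localization.Away g) := nontrivial_away p hg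
  haveI : Module.Free (Localization.Away g) (AdjoinRoot P) := hPm.free_adjoinRoot
  haveI : Module.Finite (Localization.Away g) (AdjoinRoot P) := hPm.finite_adjoinRoot
  haveI : Algebra.Etale (Localization.Away g) (AdjoinRoot P) :=
    Groth.Agent.Lib.Helper35.EtaleMonogenic.etale_quotient_of_separable P hPm hPsep
  haveI : Nontrivial (AdjoinRoot P) := by
    apply Module.nontrivial_of_finrank_pos (R := Localization.Away g)
    rw [(AdjoinRoot.powerBasis' hPm).finrank, AdjoinRoot.powerBasis'_dim, hPdeg]
    exact Nat.pos_of_ne_zero hr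
  have hdisj : Disjoint (Submonoid.powers g : Set R) (p : Set R) :=
    (Ideal.disjoint_powers_iff_notMem _ (Ideal.IsPrime.isRadical inferInstance)).mpr hg
  haveI hp' : (p.map (algebraMap R (Localization.Away g))).IsPrime :=
    IsLocalization.isPrime_of_isPrime_disjoint (Submonoid.powers g) (Localization.Away g) p
      inferInstance hdisj
  obtain ⟨g₂, hg₂, hbasis⟩ :=
    exists_basis_away (p.map (algebraMap R (Localization.Away g))) (AdjoinRoot P) M r hrank
  obtain ⟨⟨g₀, m⟩, hg₀⟩ := IsLocalization.surj (Submonoid.powers g) g₂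
  simp only at hg₀
  have hmu : IsUnit (algebraMap R (Localization.Away g) (m : R)) :=
    IsLocalization.map_units (Localization.Away g) m
  have hg₀p : g₀ ∉ p := by
    intro h
    have h1 : algebraMap R (Localization.Away g) g₀ ∈ p.map (algebraMap R (Localization.Away g)) :=
      Ideal.mem_map_of_mem _ h
    rw [← hg₀] at h1
    rcases hp'.mem_or_mem h1 with h2 | h2
    · exact hg₂ h2
    · exact hp'.ne_top (Ideal.eq_top_of_isUnit_mem _ h2 hmu)
  have hf : g * g₀ ∉ p := fun h => (Ideal.IsPrime.mem_or_mem inferInstance h).elim hg hg₀p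
  refine ⟨g * g₀, hf, ?_⟩
  -- the second localization
  have hfu : IsUnit (algebraMap R (Localization.Away (g * g₀)) (g * g₀)) :=
    IsLocalization.Away.algebraMap_isUnit (g * g₀)
  rw [map_mul] at hfu
  have hgu' : IsUnit (algebraMap R (Localization.Away (g * g₀)) g) := isUnit_of_mul_isUnit_left hfu
  have hg₀u : IsUnit (algebraMap R (Localization.Away (g * g₀)) g₀) :=
    isUnit_of_mul_isUnit_right hfu
  letI : Algebra (Localization.Away g) (Localization.Away (g * g₀)) :=
    (IsLocalization.Away.lift g hgu').toAlgebra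
  haveI : IsScalarTower R (Localization.Away g) (Localization.Away (g * g₀)) :=
    IsScalarTower.of_algebraMap_eq (fun x => by
      show algebraMap R (Localization.Away (g * g₀)) x =
        (IsLocalization.Away.lift g hgu') (algebraMap R (Localization.Away g) x)
      rw [IsLocalization.Away.lift_eq])
  have hunit : IsUnit (algebraMap (Localization.Away g) (Localization.Away (g * g₀)) g₂) := by
    have h1 := congrArg (algebraMap (Localization.Away g) (Localization.Away (g * g₀))) hg₀
    rw [map_mul, ← IsScalarTower.algebraMap_apply, ← IsScalarTower.algebraMap_apply] at h1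
    rw [← h1] at hg₀u
    exact isUnit_of_mul_isUnit_left hg₀u
  obtain ⟨h1, h2, h3, h4, h5⟩ := final2 R A (Localization.Away g) (Localization.Away (g * g₀))
    (AdjoinRoot P) M Φ r g₂ hbasis hunit
  exact ⟨Localization.Away (g * g₀) ⊗[Localization.Away g] AdjoinRoot P, inferInstance,
    inferInstance, inferInstance, h1, h2, h3, h4, r, Nat.pos_of_ne_zero hr, h5⟩

/-- (ii) ⇒ (iii), over an affine base X = Spec R. Let A be an Azumaya algebra over the commutative ring
R and p a prime ideal of R. Then there exist f ∈ R with f ∉ p, a finite étale and faithfully flat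
R_f-algebra R' (a finite étale surjective cover of the neighbourhood D(f) of p) and an integer r ≥ 1
such that R' ⊗_R A is isomorphic as an R'-algebra to the matrix algebra M_r(R'). (Existence of the
isomorphism only.) -/
theorem result (R : Type u) [CommRing R] (A : Type u) [Ring A] [Algebra R A] [IsAzumaya R A] (p : Ideal R) [p.IsPrime] : ∃ f : R, f ∉ p ∧ ∃ (R' : Type u) (_ : CommRing R') (_ : Algebra R R') (_ : Algebra (Localization.Away f) R') (_ : IsScalarTower R (Localization.Away f) R'), Module.Finite (Localization.Away f) R' ∧ Algebra.Etale (Localization.Away f) R' ∧ Module.FaithfullyFlat (Localization.Away f) R' ∧ ∃ r : ℕ, 1 ≤ r ∧ Nonempty ((R' ⊗[R] A) ≃ₐ[R'] Matrix (Fin r) (Fin r) R') := by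
  classical
  obtain ⟨D⟩ := exists_data R A p
  obtain ⟨g, hgdef⟩ : ∃ g : R, g = D.s * D.d * D.d' * D.g := ⟨_, rfl⟩
  have hg : g ∉ p := by
    rw [hgdef]
    intro h
    rcases (Ideal.IsPrime.mem_or_mem inferInstance h) with h | h
    · rcases (Ideal.IsPrime.mem_or_mem inferInstance h) with h | h
      · rcases (Ideal.IsPrime.mem_or_mem inferInstance h) with h | h
        · exact D.hs h
        · exact D.hd h
      · exact D.hd' h
    · exact D.hg h
  haveI : Nontrivial (Localization.Away g) := nontrivial_away p hg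
  have hgu : IsUnit (algebraMap R (Localization.Away g) (D.s * D.d * D.d' * D.g)) := by
    rw [← hgdef]
    exact IsLocalization.Away.algebraMap_isUnit g
  have hall : IsUnit (algebraMap R (Localization.Away g) D.s) ∧
      IsUnit (algebraMap R (Localization.Away g) D.d) ∧
      IsUnit (algebraMap R (Localization.Away g) D.d') ∧
      IsUnit (algebraMap R (Localization.Away g) D.g) := by
    rw [map_mul, map_mul, map_mul] at hgu
    have h1 := isUnit_of_mul_isUnit_left hgu
    have h2 := isUnit_of_mul_isUnit_right hgu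
    have h3 := isUnit_of_mul_isUnit_left h1
    have h4 := isUnit_of_mul_isUnit_right h1
    exact ⟨isUnit_of_mul_isUnit_left h3, isUnit_of_mul_isUnit_right h3, h4, h2⟩
  obtain ⟨hsu, hdu, hd'u, hgT⟩ := hall
  obtain ⟨sT, hsT⟩ := hsu.exists_left_inv
  obtain ⟨dT, hdT⟩ := hdu.exists_left_inv
  obtain ⟨d'T, hd'T⟩ := hd'u.exists_left_inv
  obtain ⟨M, _, _, hMfin, hMproj, hrank, ⟨Φ⟩⟩ :=
    exists_module D (Localization.Away g) hsT hdT hd'T hgT
  exact final R A p g hg (monicPoly D (Localization.Away g) sT) (monicPoly_monic D sT)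
    (monicPoly_separable D hsT hdT) D.r D.hr (monicPoly_natDegree D sT) M hrank Φ

end Groth.Agent.S5720
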