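import Groth.Statements.S17362
import Mathlib


set_option autoImplicit false
universe u v w
open scoped TensorProduct
open AzInv

namespace Groth.Agent.S17362

set_option linter.style.haveILetI false

section Helpers

variable {R : Type v} [CommRing R] {A : Type w} [Ring A] [Algebra R A] {lam : R → R}

/-- the span of the images of the `ε`-symmetric elements in the fibre at `q`. -/
noncomputable def spanEps (t : AzInv.LamInv R A lam) (q : Ideal R) [q.IsPrime] (ε : A → A) :
    Submodule q.ResidueField (q.ResidueField ⊗[R] A) :=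
  Submodule.span q.ResidueField
    (Set.range fun a : {a : A // t a = ε a} => (1 : q.ResidueField) ⊗ₜ[R] (a : A))

/-- the induced involution on the fibre at a ramified prime. -/
noncomputable def tq (t : AzInv.LamInv R A lam) (q : Ideal R) [q.IsPrime]
    (hq : ∀ r : R, lam r - r ∈ q) :
    q.ResidueField ⊗[R] A →ₗ[q.ResidueField] q.ResidueField ⊗[R] A :=
  TensorProduct.AlgebraTensorModule.lift
    { toFun := fun c =>
        { toFun := fun a => c ⊗ₜ[R] t a
          map_add' := fun a b => by rw [t.map_add, TensorProduct.tmul_add]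
          map_smul' := fun r a => by
            have h0 : algebraMap R q.ResidueField (lam r - r) = 0 :=
              (Ideal.algebraMap_residueField_eq_zero).mpr (hq r)
            have h1 : algebraMap R q.ResidueField (lam r) = algebraMap R q.ResidueField r := by
              rwa [map_sub, sub_eq_zero] at h0
            rw [t.map_smul, RingHom.id_apply, TensorProduct.tmul_smul, TensorProduct.smul_tmul',
              TensorProduct.smul_tmul', Algebra.smul_def, Algebra.smul_def, h1] }
      map_add' := fun c d => by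
        ext a
        simp [TensorProduct.add_tmul]
      map_smul' := fun c d => by
        ext a
        simp [TensorProduct.smul_tmul'] }

lemma tq_tmul (t : AzInv.LamInv R A lam) (q : Ideal R) [q.IsPrime]
    (hq : ∀ r : R, lam r - r ∈ q) (c : q.ResidueField) (a : A) :
    tq t q hq (c ⊗ₜ[R] a) = c ⊗ₜ[R] t a := by
  simp [tq]

lemma tq_eq_of_mem_pos (t : AzInv.LamInv R A lam) (q : Ideal R) [q.IsPrime]
    (hq : ∀ r : R, lam r - r ∈ q) {x : q.ResidueField ⊗[R] A}
    (hx : x ∈ spanEps t q (fun a => a)) : tq t q hq x = x := by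
  refine Submodule.span_induction ?_ ?_ ?_ ?_ hx
  · rintro _ ⟨⟨a, ha⟩, rfl⟩
    simp only [tq_tmul]
    rw [ha]
  · simp
  · intro x y _ _ hx hy
    rw [map_add, hx, hy]
  · intro c x _ hx
    rw [map_smul, hx]

lemma tq_eq_of_mem_neg (t : AzInv.LamInv R A lam) (q : Ideal R) [q.IsPrime]
    (hq : ∀ r : R, lam r - r ∈ q) {x : q.ResidueField ⊗[R] A}
    (hx : x ∈ spanEps t q (fun a => -a)) : tq t q hq x = -x := by
  refine Submodule.span_induction ?_ ?_ ?_ ?_ hx
  · rintro _ ⟨⟨a, ha⟩, rfl⟩
    simp only [tq_tmul]
    rw [ha, TensorProduct.tmul_neg]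
  · simp
  · intro x y _ _ hx hy
    rw [map_add, hx, hy, neg_add]
  · intro c x _ hx
    rw [map_smul, hx, smul_neg]

lemma inf_eq_bot (t : AzInv.LamInv R A lam) (q : Ideal R) [q.IsPrime]
    (hq : ∀ r : R, lam r - r ∈ q) (c₂ : R) (hc₂ : c₂ * 2 = 1) :
    spanEps t q (fun a => a) ⊓ spanEps t q (fun a => -a) = ⊥ := by
  rw [eq_bot_iff]
  rintro x ⟨h1, h2⟩
  have e1 := tq_eq_of_mem_pos t q hq h1
  have e2 := tq_eq_of_mem_neg t q hq h2
  have h3 : x = -x := e1.symm.trans e2
  have h4 : (2 : R) • x = 0 := by
    rw [two_smul]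
    nth_rewrite 1 [h3]
    exact neg_add_cancel x
  have h5 : x = 0 := by
    have := congrArg (fun y => c₂ • y) h4
    simpa [smul_smul, hc₂] using this
  simpa using h5

lemma sup_eq_top (t : AzInv.LamInv R A lam) (q : Ideal R) [q.IsPrime]
    (c₂ : R) (hc₂ : c₂ * 2 = 1) (hlc : lam c₂ = c₂) :
    spanEps t q (fun a => a) ⊔ spanEps t q (fun a => -a) = ⊤ := by
  rw [eq_top_iff]
  rintro x -
  induction x using TensorProduct.induction_on with
  | zero => exact Submodule.zero_mem _
  | add x y hx hy => exact Submodule.add_mem _ hx hy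
  | tmul c a =>
    have hp : t (c₂ • (a + t a)) = c₂ • (a + t a) := by
      rw [t.map_smul, hlc, t.map_add, t.invol, add_comm]
    have hm : t (c₂ • (a - t a)) = -(c₂ • (a - t a)) := by
      rw [t.map_smul, hlc, t.map_sub, t.invol, ← smul_neg, neg_sub]
    have ha : a = c₂ • (a + t a) + c₂ • (a - t a) := by
      rw [← smul_add, add_add_sub_cancel, ← two_smul R a, smul_smul, hc₂, one_smul]
    have hc : c ⊗ₜ[R] a = c • ((1 : q.ResidueField) ⊗ₜ[R] (c₂ • (a + t a))) +
        c • ((1 : q.ResidueField) ⊗ₜ[R] (c₂ • (a - t a))) := by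
      rw [TensorProduct.smul_tmul', TensorProduct.smul_tmul', smul_eq_mul, mul_one,
        ← TensorProduct.tmul_add, ← ha]
    rw [hc]
    refine Submodule.add_mem _ (Submodule.mem_sup_left ?_) (Submodule.mem_sup_right ?_)
    · exact Submodule.smul_mem _ _ (Submodule.subset_span ⟨⟨_, hp⟩, rfl⟩)
    · exact Submodule.smul_mem _ _ (Submodule.subset_span ⟨⟨_, hm⟩, rfl⟩)

lemma finrank_add [Module.Finite R A] (t : AzInv.LamInv R A lam) (q : Ideal R) [q.IsPrime]
    (hq : ∀ r : R, lam r - r ∈ q) (c₂ : R) (hc₂ : c₂ * 2 = 1) (hlc : lam c₂ = c₂) :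
    Module.finrank q.ResidueField (spanEps t q (fun a => a)) +
      Module.finrank q.ResidueField (spanEps t q (fun a => -a)) =
      Module.finrank q.ResidueField (q.ResidueField ⊗[R] A) := by
  have h := Submodule.finrank_sup_add_finrank_inf_eq (spanEps t q (fun a => a))
    (spanEps t q (fun a => -a))
  rw [sup_eq_top t q c₂ hc₂ hlc, inf_eq_bot t q hq c₂ hc₂, finrank_top, finrank_bot, add_zero] at h
  exact h.symm

/-- images of an `R`-span lie in the residue-field span of the images. -/
lemma one_tmul_mem_span (q : Ideal R) [q.IsPrime] {ι : Type*} (g : ι → A) {x : A}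
    (hx : x ∈ Submodule.span R (Set.range g)) :
    (1 : q.ResidueField) ⊗ₜ[R] x ∈
      Submodule.span q.ResidueField (Set.range fun i => (1 : q.ResidueField) ⊗ₜ[R] g i) := by
  refine Submodule.span_induction ?_ ?_ ?_ ?_ hx
  · rintro _ ⟨i, rfl⟩
    exact Submodule.subset_span ⟨i, rfl⟩
  · rw [TensorProduct.tmul_zero]; exact Submodule.zero_mem _
  · intro x y _ _ hx hy
    rw [TensorProduct.tmul_add]; exact Submodule.add_mem _ hx hy
  · intro r x _ hx
    rw [TensorProduct.tmul_smul]
    have : r • ((1 : q.ResidueField) ⊗ₜ[R] x) =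
        algebraMap R q.ResidueField r • ((1 : q.ResidueField) ⊗ₜ[R] x) := by
      rw [algebraMap_smul]
    rw [this]
    exact Submodule.smul_mem _ _ hx

/-- spreading out a spanning family. -/
lemma exists_spread [Module.Finite R A] (q : Ideal R) [q.IsPrime] {ι : Type*} (g : ι → A)
    (hg : Submodule.span q.ResidueField (Set.range fun i => (1 : q.ResidueField) ⊗ₜ[R] g i) = ⊤) :
    ∃ f : R, f ∉ q ∧ ∀ a : A, f • a ∈ Submodule.span R (Set.range g) := by
  set G := Submodule.span R (Set.range g) with hG
  have hsub : Subsingleton (q.ResidueField ⊗[R] (A ⧸ G)) := by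
    let πk := (G.mkQ).baseChange q.ResidueField
    have hker : ∀ x : q.ResidueField ⊗[R] A, πk x = 0 := by
      intro x
      have hx : x ∈ Submodule.span q.ResidueField
          (Set.range fun i => (1 : q.ResidueField) ⊗ₜ[R] g i) := by rw [hg]; trivial
      refine Submodule.span_induction ?_ ?_ ?_ ?_ hx
      · rintro _ ⟨i, rfl⟩
        have : G.mkQ (g i) = 0 := by
          rw [Submodule.mkQ_apply, Submodule.Quotient.mk_eq_zero]
          exact Submodule.subset_span ⟨i, rfl⟩
        simp [πk, this]
      · simp
      · intro x y _ _ hx hy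
        rw [map_add, hx, hy, add_zero]
      · intro c x _ hx
        rw [map_smul, hx, smul_zero]
    refine ⟨fun y z => ?_⟩
    have hz : ∀ y : q.ResidueField ⊗[R] (A ⧸ G), y = 0 := by
      intro y
      induction y using TensorProduct.induction_on with
      | zero => rfl
      | add x y hx hy => rw [hx, hy, add_zero]
      | tmul c b =>
        obtain ⟨a, rfl⟩ := G.mkQ_surjective b
        have := hker (c ⊗ₜ[R] a)
        simpa [πk] using this
    rw [hz y, hz z]
  have hns : (⟨q, inferInstance⟩ : PrimeSpectrum R) ∉ Module.support R (A ⧸ G) := by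
    rw [Module.mem_support_iff_nontrivial_residueField_tensorProduct]
    exact not_nontrivial_iff_subsingleton.mpr hsub
  rw [Module.support_eq_zeroLocus, PrimeSpectrum.mem_zeroLocus] at hns
  obtain ⟨f, hf, hfq⟩ := Set.not_subset.mp hns
  refine ⟨f, hfq, fun a => ?_⟩
  have := Module.mem_annihilator.mp hf (G.mkQ a)
  rw [← map_smul, Submodule.mkQ_apply, Submodule.Quotient.mk_eq_zero] at this
  exact this

/-- the images of `g` span the fibre at any prime where `f` is invertible. -/
lemma span_top_of_spread (q' : Ideal R) [q'.IsPrime] {ι : Type*} (g : ι → A) (f : R) (hf : f ∉ q')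
    (hfa : ∀ a : A, f • a ∈ Submodule.span R (Set.range g)) :
    Submodule.span q'.ResidueField (Set.range fun i => (1 : q'.ResidueField) ⊗ₜ[R] g i) = ⊤ := by
  rw [eq_top_iff]
  rintro x -
  have hfu : algebraMap R q'.ResidueField f ≠ 0 := by
    rw [Ne, Ideal.algebraMap_residueField_eq_zero]; exact hf
  induction x using TensorProduct.induction_on with
  | zero => exact Submodule.zero_mem _
  | add x y hx hy => exact Submodule.add_mem _ hx hy
  | tmul c a =>
    have h1 := one_tmul_mem_span q' g (hfa a)
    have h2 : c ⊗ₜ[R] a = (c * (algebraMap R q'.ResidueField f)⁻¹) •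
        ((1 : q'.ResidueField) ⊗ₜ[R] (f • a)) := by
      rw [TensorProduct.tmul_smul, ← algebraMap_smul q'.ResidueField f, smul_smul, mul_assoc,
        inv_mul_cancel₀ hfu, mul_one, TensorProduct.smul_tmul', smul_eq_mul, mul_one]
    rw [h2]
    exact Submodule.smul_mem _ _ h1

end Helpers



/-- Let `R` be a commutative ring with an involution `lam` whose fixed ring is exactly `S`, with `2` a
unit in `S`, and let `(A, t)` be an Azumaya `R`-algebra of degree `n ≥ 1` with a `lam`-involution.
For a prime `q` of `R` in the ramification locus (`lam` is the identity modulo `q`) call `t`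
orthogonal at `q` when the images of the `t`-symmetric elements of `A` span a subspace of `k(q) ⊗_R
A` of dimension `n (n + 1) / 2` over `k(q)` (the induced involution of the central simple algebra
`k(q) ⊗_R A` is then orthogonal, and symplectic otherwise). Then this orthogonal/symplectic sign is
locally constant on the ramification locus: every such `q` has a basic open neighbourhood `D(f)`
such that at every prime of the ramification locus inside `D(f)` the sign is the same as at `q`.
(The source states this for a good quotient of schemes by an involution with `2` invertible, as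
local constancy of a sign function on the ramification locus; the row is the affine case with the
sign spelled out by dimensions of symmetric elements.) -/
theorem result (S : Type u) (R : Type v) [CommRing S] [CommRing R] [Algebra S R]
    (lam : R ≃ₐ[S] R) (hlam : ∀ r, lam (lam r) = r) (hfix : RInv.IsFixedRing S R lam.toRingEquiv)
    (h2 : IsUnit (2 : S))
    (A : Type w) [Ring A] [Algebra S A] [Algebra R A] [IsScalarTower S R A]
    (n : ℕ) (hn : 0 < n) (hA : AzInv.IsAzumayaDeg R A n) (t : AzInv.LamInv R A lam)
    (q : PrimeSpectrum R) (hq : ∀ r : R, lam r - r ∈ q.asIdeal) :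
    ∃ f : R, f ∉ q.asIdeal ∧ ∀ q' : PrimeSpectrum R, (∀ r : R, lam r - r ∈ q'.asIdeal) → f ∉ q'.asIdeal →
      (Module.finrank q'.asIdeal.ResidueField
          (Submodule.span q'.asIdeal.ResidueField
            (Set.range fun a : {a : A // t a = a} => (1 : q'.asIdeal.ResidueField) ⊗ₜ[R] (a : A))) = Nat.choose (n + 1) 2 ↔
        Module.finrank q.asIdeal.ResidueField
            (Submodule.span q.asIdeal.ResidueField
              (Set.range fun a : {a : A // t a = a} => (1 : q.asIdeal.ResidueField) ⊗ₜ[R] (a : A))) = Nat.choose (n + 1) 2) := by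
  classical
  obtain ⟨hAz, hrank⟩ := hA
  haveI : IsAzumaya R A := hAz
  haveI : Module.Finite R A := inferInstance
  -- the half
  obtain ⟨h, hh⟩ := h2.exists_left_inv
  set c₂ : R := algebraMap S R h with hc₂def
  have hc₂ : c₂ * 2 = 1 := by
    rw [hc₂def, ← map_ofNat (algebraMap S R) 2, ← map_mul, hh, map_one]
  have hlc : lam c₂ = c₂ := by rw [hc₂def]; exact lam.commutes h
  -- ranks
  have hfr : ∀ p : PrimeSpectrum R,
      Module.finrank p.asIdeal.ResidueField (p.asIdeal.ResidueField ⊗[R] A) = n ^ 2 := by
    intro p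
    rw [← hrank p, Module.rankAtStalk_eq]
  -- names for the spans
  set P : ∀ p : PrimeSpectrum R, Submodule p.asIdeal.ResidueField (p.asIdeal.ResidueField ⊗[R] A) :=
    fun p => spanEps t p.asIdeal (fun a => a) with hP
  set N : ∀ p : PrimeSpectrum R, Submodule p.asIdeal.ResidueField (p.asIdeal.ResidueField ⊗[R] A) :=
    fun p => spanEps t p.asIdeal (fun a => -a) with hN
  have hsum : ∀ p : PrimeSpectrum R, (∀ r : R, lam r - r ∈ p.asIdeal) →
      Module.finrank p.asIdeal.ResidueField (P p) + Module.finrank p.asIdeal.ResidueField (N p) = n ^ 2 := by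
    intro p hp
    rw [← hfr p]
    exact finrank_add t p.asIdeal hp c₂ hc₂ hlc
  -- bases at q
  obtain ⟨fP, hfP, hfPs, hfPl⟩ := Submodule.exists_fun_fin_finrank_span_eq q.asIdeal.ResidueField
    (Set.range fun a : {a : A // t a = (fun a => a) a} => (1 : q.asIdeal.ResidueField) ⊗ₜ[R] (a : A))
  obtain ⟨fN, hfN, hfNs, hfNl⟩ := Submodule.exists_fun_fin_finrank_span_eq q.asIdeal.ResidueField
    (Set.range fun a : {a : A // t a = (fun a => -a) a} => (1 : q.asIdeal.ResidueField) ⊗ₜ[R] (a : A))
  choose aP haP using hfP
  choose aN haN using hfN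
  set s := Module.finrank q.asIdeal.ResidueField (P q) with hs
  set s' := Module.finrank q.asIdeal.ResidueField (N q) with hs'
  let g : Fin s ⊕ Fin s' → A := Sum.elim (fun i => (aP i : A)) (fun j => (aN j : A))
  have hgspan : Submodule.span q.asIdeal.ResidueField
      (Set.range fun i => (1 : q.asIdeal.ResidueField) ⊗ₜ[R] g i) = ⊤ := by
    have hrange : (Set.range fun i => (1 : q.asIdeal.ResidueField) ⊗ₜ[R] g i) =
        Set.range fP ∪ Set.range fN := by
      ext x
      simp only [Set.mem_range, Set.mem_union, Sum.exists, g, Sum.elim_inl, Sum.elim_inr]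
      constructor
      · rintro (⟨i, rfl⟩ | ⟨j, rfl⟩)
        · exact Or.inl ⟨i, (haP i).symm⟩
        · exact Or.inr ⟨j, (haN j).symm⟩
      · rintro (⟨i, rfl⟩ | ⟨j, rfl⟩)
        · exact Or.inl ⟨i, haP i⟩
        · exact Or.inr ⟨j, haN j⟩
    rw [hrange, Submodule.span_union, hfPs, hfNs]
    exact sup_eq_top t q.asIdeal c₂ hc₂ hlc
  obtain ⟨f, hfq, hfa⟩ := exists_spread q.asIdeal g hgspan
  refine ⟨f, hfq, fun q' hq' hfq' => ?_⟩
  have hspan' := span_top_of_spread q'.asIdeal g f hfq' hfa
  have hcard : Fintype.card (Fin s ⊕ Fin s') =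
      Module.finrank q'.asIdeal.ResidueField (q'.asIdeal.ResidueField ⊗[R] A) := by
    rw [hfr q', Fintype.card_sum, Fintype.card_fin, Fintype.card_fin, ← hsum q hq]
  have hli : LinearIndependent q'.asIdeal.ResidueField
      (fun i => (1 : q'.asIdeal.ResidueField) ⊗ₜ[R] g i) :=
    linearIndependent_of_top_le_span_of_card_eq_finrank hspan'.ge hcard
  have hliP : LinearIndependent q'.asIdeal.ResidueField
      (fun i : Fin s => (1 : q'.asIdeal.ResidueField) ⊗ₜ[R] (aP i : A)) :=
    hli.comp Sum.inl Sum.inl_injective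
  have hliN : LinearIndependent q'.asIdeal.ResidueField
      (fun j : Fin s' => (1 : q'.asIdeal.ResidueField) ⊗ₜ[R] (aN j : A)) :=
    hli.comp Sum.inr Sum.inr_injective
  have hleP : s ≤ Module.finrank q'.asIdeal.ResidueField (P q') := by
    have h1 := finrank_span_eq_card hliP
    rw [Fintype.card_fin] at h1
    rw [← h1]
    apply Submodule.finrank_mono
    rw [Submodule.span_le]
    rintro _ ⟨i, rfl⟩
    exact Submodule.subset_span ⟨aP i, rfl⟩
  have hleN : s' ≤ Module.finrank q'.asIdeal.ResidueField (N q') := by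
    have h1 := finrank_span_eq_card hliN
    rw [Fintype.card_fin] at h1
    rw [← h1]
    apply Submodule.finrank_mono
    rw [Submodule.span_le]
    rintro _ ⟨j, rfl⟩
    exact Submodule.subset_span ⟨aN j, rfl⟩
  have h1 := hsum q hq
  have h2' := hsum q' hq'
  have heq : Module.finrank q'.asIdeal.ResidueField (P q') = s := by omega
  change Module.finrank q'.asIdeal.ResidueField (P q') = _ ↔
    Module.finrank q.asIdeal.ResidueField (P q) = _
  rw [heq]


end Groth.Agent.S17362
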