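import Groth.Statements.S15583
import Groth.Agent.Lib.Helper86.Herm3

set_option autoImplicit false
set_option linter.style.haveILetI false
universe u v
open RInv

namespace Groth.Agent.S15583

open Groth.Agent.Lib.Helper86.Herm

/-- elements of the maximal ideal of the fixed ring lie in every maximal ideal of `A` -/
theorem algebraMap_mem_maximal (B : Type u) (A : Type v) [CommRing B] [CommRing A]
    [Algebra B A] (lam : A ≃+* A) (hlam : Function.Involutive lam)
    (hB : RInv.IsFixedRing B A lam) [IsLocalRing B] (M : Ideal A) [hM : M.IsMaximal] (r : B)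
    (hr : r ∈ IsLocalRing.maximalIdeal B) : algebraMap B A r ∈ M := by
  by_contra hnot
  obtain ⟨c, m, hm, hcm⟩ := hM.exists_inv hnot
  have hfix : ∀ x : A, lam x = x → ∃ b : B, algebraMap B A b = x := fun x hx => (hB.2 x).1 hx
  have hr' : lam (algebraMap B A r) = algebraMap B A r := (hB.2 _).2 ⟨r, rfl⟩
  obtain ⟨s, hs⟩ := hfix (c + lam c) (by rw [map_add, hlam c, add_comm])
  obtain ⟨p, hp⟩ := hfix (c * lam c) (by rw [map_mul, hlam c, mul_comm])
  have hN : m * lam m = algebraMap B A (1 - r * (s - p * r)) := by
    have hm' : m = 1 - c * algebraMap B A r := by linear_combination hcm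
    rw [hm']
    simp only [map_sub, map_mul, map_one, hr', hs, hp]
    ring
  have hunit : IsUnit (1 - r * (s - p * r)) :=
    IsLocalRing.isUnit_one_sub_self_of_mem_nonunits _
      ((IsLocalRing.mem_maximalIdeal _).1 (Ideal.mul_mem_right _ _ hr))
  have hu2 : IsUnit (m * lam m) := by
    rw [hN]
    exact hunit.map _
  exact hM.ne_top (Ideal.eq_top_of_isUnit_mem _ (M.mul_mem_right _ hm) hu2)

/-- a (skew-)fixed element outside one maximal ideal is a unit -/
theorem isUnit_of_notMem (B : Type u) (A : Type v) [CommRing B] [CommRing A]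
    [Algebra B A] (lam : A ≃+* A) (hlam : Function.Involutive lam)
    (hB : RInv.IsFixedRing B A lam) [IsLocalRing B] (M : Ideal A) [hM : M.IsMaximal] (z : A)
    (hz : lam z = z ∨ lam z = -z) (hzM : z ∉ M) : IsUnit z := by
  obtain ⟨b, hb⟩ := (hB.2 (z * lam z)).1 (by rw [map_mul, hlam z, mul_comm])
  by_cases hbu : IsUnit b
  · have : IsUnit (z * lam z) := by
      rw [← hb]
      exact hbu.map _
    exact isUnit_of_mul_isUnit_left this
  · exfalso
    have hbm : b ∈ IsLocalRing.maximalIdeal B := (IsLocalRing.mem_maximalIdeal b).2 hbu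
    have h1 := algebraMap_mem_maximal B A lam hlam hB M b hbm
    rw [hb] at h1
    rcases hM.isPrime.mem_or_mem h1 with h | h
    · exact hzM h
    · rcases hz with hz | hz <;> rw [hz] at h
      · exact hzM h
      · exact hzM (by simpa using h)


/-- Let `A` be a commutative ring with an involution `lam` whose fixed ring `B` is local, let `ε = ±1`,
and let `h` be an invertible `n × n` matrix over `A` that is `(ε, lam)`-hermitian: `h` equals `ε`
times the transpose of `lam` applied entrywise to `h`. If `lam` is not the identity modulo the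
Jacobson radical of `A`, or `ε ≠ -1` modulo that radical, or `n` is odd, then `h` is congruent to a
diagonal matrix: there is an invertible `v` with `(lam v)ᵀ h v` diagonal. -/
theorem result (B : Type u) (A : Type v) [CommRing B] [CommRing A]
    [Algebra B A] (lam : A ≃+* A) (hlam : Function.Involutive lam) (hB : RInv.IsFixedRing B A lam)
    [IsLocalRing B] (n : ℕ) (ε : A) (hε : ε = 1 ∨ ε = -1) (h : Matrix (Fin n) (Fin n) A)
    (hh : IsUnit h) (herm : ε • (h.map lam).transpose = h)
    (hcase : (∃ a : A, lam a - a ∉ Ring.jacobson A) ∨ ε + 1 ∉ Ring.jacobson A ∨ Odd n) :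
    ∃ v : Matrix (Fin n) (Fin n) A, IsUnit v ∧
      ∃ d : Fin n → A, (v.map lam).transpose * h * v = Matrix.diagonal d := by
  haveI : Nontrivial A := hB.1.nontrivial
  have hφ : ∀ a, (lam : A →+* A) ((lam : A →+* A) a) = a := fun a => hlam a
  have hε2 : ε * ε = 1 := by rcases hε with rfl | rfl <;> simp
  have hherm : Herm (lam : A →+* A) ε h := herm
  suffices hmain : ∃ M : Ideal A, M.IsMaximal ∧
      ((∀ c, lam c ∉ M → ∃ t, t * c + ε * lam t * lam c ∉ M) ∨
        ((∀ a, lam a - a ∈ M) ∧ ε + 1 ∈ M ∧ Odd (Fintype.card (Fin n)))) by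
    obtain ⟨M, hM, hc⟩ := hmain
    haveI := hM
    have HU : ∀ z, (lam : A →+* A) z = ε * z → z ∉ M → IsUnit z := by
      intro z hz hzM
      refine isUnit_of_notMem B A lam hlam hB M z ?_ hzM
      rcases hε with rfl | rfl
      · left
        simpa using hz
      · right
        simpa using hz
    obtain ⟨v, hv, d, hvd⟩ := diagble_main (lam : A →+* A) hφ ε hε2 M HU h hh hherm hc
    exact ⟨v, hv, d, hvd⟩
  have hjac : ∀ x : A, x ∉ Ring.jacobson A → ∃ M : Ideal A, M.IsMaximal ∧ x ∉ M := by
    intro x hx
    by_contra hcon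
    push Not at hcon
    apply hx
    rw [← Ideal.jacobson_bot]
    exact Ideal.mem_sInf.2 (fun J hJ => hcon J hJ.2)
  have hjac' : ∀ x ∈ Ring.jacobson A, ∀ M : Ideal A, M.IsMaximal → x ∈ M := by
    intro x hx M hM
    rw [← Ideal.jacobson_bot] at hx
    exact Ideal.mem_sInf.1 hx ⟨bot_le, hM⟩
  by_cases ha : ∃ a : A, lam a - a ∉ Ring.jacobson A
  · obtain ⟨a, ha⟩ := ha
    obtain ⟨M, hM, haM⟩ := hjac _ ha
    refine ⟨M, hM, Or.inl ?_⟩
    intro c hc
    by_contra hcon
    push Not at hcon
    have h1 := hcon 1
    have h2 := hcon a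
    have h3 : ε * ((lam a - a) * lam c) ∈ M := by
      have e : ε * ((lam a - a) * lam c) =
          (a * c + ε * lam a * lam c) - a * (1 * c + ε * lam 1 * lam c) := by
        rw [map_one]
        ring
      rw [e]
      exact M.sub_mem h2 (M.mul_mem_left _ h1)
    rcases hM.isPrime.mem_or_mem h3 with h | h
    · have : (1 : A) ∈ M := by
        rw [← hε2]
        exact M.mul_mem_left _ h
      exact hM.ne_top ((Ideal.eq_top_iff_one M).2 this)
    · rcases hM.isPrime.mem_or_mem h with h | h
      · exact haM h
      · exact hc h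
  · push Not at ha
    by_cases hb : ε + 1 ∉ Ring.jacobson A
    · obtain ⟨M, hM, hbM⟩ := hjac _ hb
      refine ⟨M, hM, Or.inl ?_⟩
      intro c hc
      refine ⟨1, ?_⟩
      intro hmem
      have h4 : (ε + 1) * lam c ∈ M := by
        have e : (ε + 1) * lam c = (1 * c + ε * lam 1 * lam c) + (lam c - c) := by
          rw [map_one]
          ring
        rw [e]
        exact M.add_mem hmem (hjac' _ (ha c) M hM)
      rcases hM.isPrime.mem_or_mem h4 with h | h
      · exact hbM h
      · exact hc h
    · rw [not_not] at hb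
      have hodd : Odd n := by
        rcases hcase with ⟨a, h⟩ | h | h
        · exact absurd (ha a) h
        · exact absurd hb h
        · exact h
      obtain ⟨M, hM⟩ := Ideal.exists_maximal A
      exact ⟨M, hM, Or.inr ⟨fun a => hjac' _ (ha a) M hM, hjac' _ hb M hM, by simpa using hodd⟩⟩

end Groth.Agent.S15583
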