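import Groth.Statements.S13607
import Groth.Agent.Lib.Helper44.ARSysBasic

set_option autoImplicit false
open CategoryTheory CategoryTheory.Limits Opposite
universe w v u
open ARSys

namespace Groth.Agent.S13607


section Aux

variable {C : Type u} [Category.{v} C] [Abelian C] {A : Type w} [CommRing A] [Linear A C]

theorem homKilledBy_of_target {I : Ideal A} {Z Y : C} (hY : ARSys.KilledBy I Y) (φ : Z ⟶ Y) :
    ARSys.HomKilledBy I φ := by
  intro a ha
  have h1 := hY a ha
  calc a • φ = φ ≫ (a • 𝟙 Y) := by rw [Linear.comp_smul, Category.comp_id]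
    _ = 0 := by rw [h1, comp_zero]

theorem killedBy_mono {I J : Ideal A} (h : I ≤ J) {Y : C} (hY : ARSys.KilledBy J Y) :
    ARSys.KilledBy I Y := fun a ha => hY a (h ha)

omit [Abelian C] in
theorem shift_tr (X : ARSys.PS C) (r : ℕ) {n m : ℕ} (h : n ≤ m) :
    ARSys.tr ((ARSys.shift C r).obj X) h = ARSys.tr X (Nat.add_le_add_right h r) := by
  show X.map _ = X.map _
  congr 1

end Aux

/-- In an abelian category linear over a commutative ring A with an ideal J, let X be a J-adic
projective system indexed by the natural numbers and Y a projective system whose n-th term is killed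
by J^(n+1) for every n. Then for every r, every morphism from the translate X[r] to Y factors
uniquely through the canonical translation map X[r] ⟶ X: there is exactly one morphism g : X ⟶ Y
whose n-th component, precomposed with the transition map X_(n+r) ⟶ X_n, is the n-th component of
the given morphism. In particular morphisms X ⟶ Y up to translation are the same as morphisms X ⟶ Y.
(The published statement is for systems of finitely generated modules over a Noetherian ring, and
for systems of sheaves of modules on the small etale site; this row states it in any linear abelian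
category, which is all the argument uses.) -/
theorem result {C : Type u} [Category.{v} C] [Abelian C] {A : Type w} [CommRing A] [Linear A C]
    (J : Ideal A) (X Y : ARSys.PS C) (hX : ARSys.IsAdic J X) (hY : ARSys.TermKilled J Y) (r : ℕ)
    (f : (ARSys.shift C r).obj X ⟶ Y) :
    ∃! g : X ⟶ Y, ∀ n : ℕ, f.app (op n) = ARSys.shiftMap X r n ≫ g.app (op n) := by
  obtain ⟨hXk, hXq⟩ := hX
  let F : ∀ n, X.obj (op (n + r)) ⟶ Y.obj (op n) := fun n => f.app (op n)
  have hFnat : ∀ (n m : ℕ) (h : n ≤ m),
      ARSys.tr X (Nat.add_le_add_right h r) ≫ F n = F m ≫ ARSys.tr Y h := by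
    intro n m h
    have := Groth.Agent.Lib.Helper44.tr_naturality f h
    rw [shift_tr] at this
    exact this
  have hcomp : ∀ n, ∃! g : X.obj (op n) ⟶ Y.obj (op n), ARSys.shiftMap X r n ≫ g = F n :=
    fun n => (hXq n (n + r) (Nat.le_add_right n r)).2 _ (F n)
      (homKilledBy_of_target (hY n) _)
  let g : ∀ n, X.obj (op n) ⟶ Y.obj (op n) := fun n => (hcomp n).choose
  have hg : ∀ n, ARSys.tr X (Nat.le_add_right n r) ≫ g n = F n := fun n => (hcomp n).choose_spec.1
  have huniq : ∀ n (g' : X.obj (op n) ⟶ Y.obj (op n)),
      ARSys.shiftMap X r n ≫ g' = F n → g' = g n :=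
    fun n g' h => (hcomp n).choose_spec.2 g' h
  have hnat : ∀ (n m : ℕ) (h : n ≤ m), ARSys.tr X h ≫ g n = g m ≫ ARSys.tr Y h := by
    intro n m h
    have hkill : ARSys.HomKilledBy (J ^ (m + 1))
        (ARSys.tr X (Nat.le_add_right m r) ≫ ARSys.tr X h ≫ g n) :=
      homKilledBy_of_target
        (killedBy_mono (Ideal.pow_le_pow_right (Nat.succ_le_succ h)) (hY n)) _
    obtain ⟨ψ, -, hψ⟩ := (hXq m (m + r) (Nat.le_add_right m r)).2 _ _ hkill
    have h1 : ARSys.tr X h ≫ g n = ψ := hψ _ rfl
    have h2 : g m ≫ ARSys.tr Y h = ψ := by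
      apply hψ
      show ARSys.tr X (Nat.le_add_right m r) ≫ g m ≫ ARSys.tr Y h =
        ARSys.tr X (Nat.le_add_right m r) ≫ ARSys.tr X h ≫ g n
      rw [← Category.assoc, hg m, ← hFnat n m h, ← hg n,
        Groth.Agent.Lib.Helper44.tr_comp_assoc, Groth.Agent.Lib.Helper44.tr_comp_assoc]
    rw [h1, h2]
  let G : X ⟶ Y :=
    { app := fun k => g k.unop
      naturality := by
        intro k l φ
        have h : l.unop ≤ k.unop := leOfHom φ.unop
        have hφ : φ = (homOfLE h).op := Quiver.Hom.unop_inj (Subsingleton.elim _ _)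
        rw [hφ]
        exact hnat _ _ h }
  refine ⟨G, fun n => (hg n).symm, ?_⟩
  intro G' hG'
  ext k
  obtain ⟨n⟩ := k
  exact huniq n _ (hG' n).symm

end Groth.Agent.S13607
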