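import Groth.Statements.S10294
import Groth.Agent.Lib.Helper30.AlgSpAffTested3
import Groth.Agent.Lib.Helper30.AlgSpLoc
import Groth.Agent.Lib.Helper78.AlgSpMisc
import Groth.Agent.Lib.Helper78.AlgSpLocPFlat
import Groth.Agent.Lib.Helper78.AlgSpLocPLofp
import Mathlib.AlgebraicGeometry.Noetherian
-- import your own Groth.Agent.* helpers here

set_option autoImplicit false
universe u
open CategoryTheory CategoryTheory.Limits AlgebraicGeometry
open AlgSp

namespace Groth.Agent.S10294

open Groth.Agent.Lib.Helper30 Groth.Agent.Lib.Helper78.AlgSpLocP Groth.Agent.Lib.Helper78.AlgSpMisc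
  Groth.Agent.Lib.Helper78.AlgSpLocPFlat Groth.Agent.Lib.Helper78.AlgSpLocPLofp

set_option backward.isDefEq.respectTransparency false
set_option maxHeartbeats 400000

theorem finLocFree_iff {S : Scheme.{u}} {X Y : AlgSp.Sp S} (hX : AlgSp.IsAlgSpace X)
    (hY : AlgSp.IsAlgSpace Y) (f : X ⟶ Y) :
    AlgSp.IsFinLocFreeMor f ↔
      (AlgSp.IsFiniteMor f ∧ AlgSp.LocP @Flat f ∧ AlgSp.LocP @LocallyOfFinitePresentation f) := by
  constructor
  · intro h
    have h1 : AlgSp.RepWith @IsFinite f := ⟨h.1, fun U V g fst snd sq => (h.2 g fst snd sq).1⟩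
    have h2 : AlgSp.RepWith @Flat f := ⟨h.1, fun U V g fst snd sq => (h.2 g fst snd sq).2.1⟩
    have h3 : AlgSp.RepWith @LocallyOfFinitePresentation f :=
      ⟨h.1, fun U V g fst snd sq => (h.2 g fst snd sq).2.2⟩
    refine ⟨affTested_of_repWith @IsFinite (fun i hi => ?_) h1,
      locP_of_repWith @Flat @Flat (fun k i hk hi => ?_) h2,
      locP_of_repWith @LocallyOfFinitePresentation @LocallyOfFinitePresentation
        (fun k i hk hi => ?_) h3⟩
    · have : IsFinite i := hi
      infer_instance
    · have : Etale k := hk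
      have : Flat i := hi
      infer_instance
    · have : Etale k := hk
      have : LocallyOfFinitePresentation i := hi
      infer_instance
  · rintro ⟨hfin, hflat, hlofp⟩
    have hrep : AlgSp.RepWith @IsFinite f := repWith_of_affTested @IsFinite hfin
    have h2 : AlgSp.RepWith @Flat f := repWith_of_locP etLocalST_flat f hrep.1 hX.atlas hY hflat
    have h3 : AlgSp.RepWith @LocallyOfFinitePresentation f :=
      repWith_of_locP etLocalST_lofp f hrep.1 hX.atlas hY hlofp
    exact ⟨hrep.1, fun U V g fst snd sq => ⟨hrep.2 g fst snd sq, h2.2 g fst snd sq, h3.2 g fst snd sq⟩⟩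

theorem locP_lofp_of_finite_of_locNoeth {S : Scheme.{u}} {X Y : AlgSp.Sp S}
    (f : X ⟶ Y) (hY : AlgSp.IsLocNoethSp Y) (hfin : AlgSp.IsFiniteMor f) :
    AlgSp.LocP @LocallyOfFinitePresentation f := by
  obtain ⟨V, b, hbe, hbs, hV⟩ := hY
  have hrep : AlgSp.RepWith @IsFinite f := repWith_of_affTested @IsFinite hfin
  have sq := hrep.1.isPullback b
  have ha : AlgSp.RepWith @Etale (hrep.1.fst b) := MorphismProperty.of_isPullback sq.flip hbe
  have has : AlgSp.RepWith @Surjective (hrep.1.fst b) := MorphismProperty.of_isPullback sq.flip hbs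
  have hfinW : IsFinite (hrep.1.snd b).left := hrep.2 b _ _ sq
  have : IsLocallyNoetherian V.left := hV
  refine locP_of_chart etLocalST_lofp f (hrep.1.fst b) b (hrep.1.snd b) ha has hbe sq.w ?_
  show LocallyOfFinitePresentation (hrep.1.snd b).left
  infer_instance

/-- Finite locally free is the same as finite, flat and locally of finite presentation; over a locally
Noetherian target it is the same as finite and flat. -/
theorem result {S : Scheme.{u}} {X Y : AlgSp.Space S} (f : X ⟶ Y) :
    (AlgSp.IsFinLocFreeMor f.hom ↔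
      (AlgSp.IsFiniteMor f.hom ∧ AlgSp.LocP @Flat f.hom ∧ AlgSp.LocP @LocallyOfFinitePresentation f.hom)) ∧
    (AlgSp.IsLocNoethSp Y.obj →
      (AlgSp.IsFinLocFreeMor f.hom ↔ (AlgSp.IsFiniteMor f.hom ∧ AlgSp.LocP @Flat f.hom))) := by
  refine ⟨finLocFree_iff X.property Y.property f.hom, fun hY => ?_⟩
  rw [finLocFree_iff X.property Y.property f.hom]
  constructor
  · rintro ⟨h1, h2, -⟩
    exact ⟨h1, h2⟩
  · rintro ⟨h1, h2⟩
    exact ⟨h1, h2, locP_lofp_of_finite_of_locNoeth f.hom hY h1⟩

end Groth.Agent.S10294
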