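import Groth.Statements.S10524
import Groth.Agent.S9938

set_option autoImplicit false
universe u
open CategoryTheory CategoryTheory.Limits AlgebraicGeometry
open AlgSp

namespace Groth.Agent.S10524

open Groth.Agent.Lib.Helper52 Groth.Agent.Lib.Helper78.AlgSpFieldPt
  Groth.Agent.Lib.Helper78.AlgSpFibre

/-- `UnivSp Q` is stable under base change. -/
theorem univSp_of_isPullback {S : Scheme.{u}} (Q : MorphismProperty (Sp S)) {X Y X' Y' : Sp S}
    {f : X ⟶ Y} {g : Y' ⟶ Y} {p : X' ⟶ Y'} {q : X' ⟶ X} (sq : IsPullback q p f g)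
    (hf : UnivSp Q f) : UnivSp Q p := by
  intro Z Z' hZ g' fst snd sq'
  exact hf hZ (g' ≫ g) (fst ≫ q) snd (sq'.paste_horiz sq)

/-- The property of morphisms of algebraic spaces over S given by f is universally injective (every base
change along a morphism from an algebraic space is injective on points) is fpqc local on the base:
for an fpqc covering of an algebraic space Y by algebraic spaces Y_i, a morphism f : X ⟶ Y of
algebraic spaces and cartesian squares X_i = Y_i ×_Y X, f has the property if and only if every X_i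
⟶ Y_i has it. -/
theorem result (S : Scheme.{u}) :
    AlgSp.IsLocalOnBase (AlgSp.IsFpqcCover (S := S)) AlgSp.IsUnivInjectiveMor := by
  intro ι Y Yi g hY hYi hcov X f hX Xi p q hXi sq
  constructor
  · intro hf i
    exact univSp_of_isPullback _ (sq i) hf
  · intro hp
    apply Groth.Agent.S9938.univInj_of_fieldInj
    intro K _ str a b hab
    change a ≫ f = b ≫ f at hab
    obtain ⟨m, W, c, hW, hc, hsurj, hl⟩ := hcov.2 (Over.mk str) (inferInstanceAs (IsAffine (Spec _)))
      (a ≫ f)
    obtain ⟨j, w, hw⟩ := hsurj (IsLocalRing.closedPoint K)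
    obtain ⟨i, l, hl⟩ := hl j
    -- the residue field at `w`
    let strΩ : Spec (CommRingCat.of ((W j).left.residueField w)) ⟶ S :=
      (W j).left.fromSpecResidueField w ≫ (W j).hom
    let ρ : Over.mk strΩ ⟶ W j := Over.homMk ((W j).left.fromSpecResidueField w) rfl
    let α : Over.mk strΩ ⟶ Over.mk str := ρ ≫ c j
    -- the two lifts to `Xi i`
    have ha : ((AlgSp.yon S).map α ≫ a) ≫ f = ((AlgSp.yon S).map ρ ≫ l) ≫ g i := by
      rw [Category.assoc, Category.assoc, hl, Functor.map_comp, Category.assoc]
    have hb : ((AlgSp.yon S).map α ≫ b) ≫ f = ((AlgSp.yon S).map ρ ≫ l) ≫ g i := by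
      rw [Category.assoc, ← hab, ← Category.assoc]; exact ha
    have hinj := Groth.Agent.S9938.fieldInj_of_diagSurj (repAll_of_isAlgSpace (hXi i)) (p i)
      (Groth.Agent.S9938.diagSurj_of_univInj (hXi i) (p i) (hp i)) _ strΩ
    have h1 : (sq i).lift _ _ ha = (sq i).lift _ _ hb := by
      apply hinj
      change (sq i).lift _ _ ha ≫ p i = (sq i).lift _ _ hb ≫ p i
      rw [(sq i).lift_snd, (sq i).lift_snd]
    have h2 : (AlgSp.yon S).map α ≫ a = (AlgSp.yon S).map α ≫ b := by
      have := congrArg (· ≫ q i) h1
      simpa only [(sq i).lift_fst] using this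
    exact eq_of_yon_map_comp_eq (repAll_of_isAlgSpace hX) α a b h2

end Groth.Agent.S10524
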