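import Groth.Statements.S10544
import Groth.Agent.Lib.Helper30.AlgSpLoc
import Groth.Agent.Lib.Helper78.AlgSpLocPFpqc
import Groth.Agent.Lib.Helper51.AlgSpEtaleMor
-- import your own Groth.Agent.* helpers here

set_option autoImplicit false
universe u
open CategoryTheory CategoryTheory.Limits AlgebraicGeometry
open AlgSp

namespace Groth.Agent.S10544

open Groth.Agent.Lib.Helper30 Groth.Agent.Lib.Helper51 Groth.Agent.Lib.Helper52

set_option backward.isDefEq.respectTransparency false


/-- The property of morphisms of algebraic spaces over S given by f is etale (composition with every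
representable etale map from a scheme is representable etale) is fpqc local on the base: for an fpqc
covering of an algebraic space Y by algebraic spaces Y_i, a morphism f : X ⟶ Y of algebraic spaces
and cartesian squares X_i = Y_i ×_Y X, f has the property if and only if every X_i ⟶ Y_i has it. -/
theorem result (S : Scheme.{u}) :
    AlgSp.IsLocalOnBase (AlgSp.IsFpqcCover (S := S)) AlgSp.IsEtaleMor := by
  intro ι Y Yi g hY hYi hcov X f hX Xi p q hXi sq
  constructor
  · intro hf i
    exact isEtaleMor_of_isPullback hX hY (hYi i) (sq i).flip hf
  · intro hp
    refine isEtaleMor_of_locP hY ?_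
    refine Groth.Agent.Lib.Helper78.AlgSpLocPFpqc.locP_of_fpqc_cover_base
      Groth.Agent.Lib.Helper51.etLocalST_etale Yi g hX hY hYi hcov f Xi p q hXi sq
      fun i => ?_
    exact (isEtaleMor_iff_locP (hYi i)).1 (hp i)

end Groth.Agent.S10544
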