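import Groth.Statements.S10531
import Groth.Agent.Lib.Helper30.AlgSpOpenImm
import Groth.Agent.S10544
import Groth.Agent.S10524
-- import your own Groth.Agent.* helpers here

set_option autoImplicit false
universe u
open CategoryTheory CategoryTheory.Limits AlgebraicGeometry
open AlgSp

namespace Groth.Agent.S10531

open Groth.Agent.Lib.Helper30 Groth.Agent.Lib.Helper51 Groth.Agent.Lib.Helper52

set_option backward.isDefEq.respectTransparency false

theorem isEtaleMor_of_repWith_isOpenImmersion {S : Scheme.{u}} {X Y : AlgSp.Sp S} {f : X ⟶ Y}
    (hf : AlgSp.RepWith @IsOpenImmersion f) : AlgSp.IsEtaleMor f := by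
  have he : AlgSp.RepWith @Etale f := by
    refine MorphismProperty.relative_monotone ?_ _ hf
    intro A B k hk
    have : IsOpenImmersion k.left := hk
    show Etale k.left
    infer_instance
  intro U φ hφ
  exact (AlgSp.RepWith @Etale).comp_mem _ _ hφ he

theorem isUnivInjectiveMor_of_mono {S : Scheme.{u}} {X Y : AlgSp.Sp S} (f : X ⟶ Y) [Mono f] :
    AlgSp.IsUnivInjectiveMor f := by
  intro Z Z' hZ g fst snd sq
  have : Mono snd := sq.mono_snd_of_mono
  exact injective_map_of_mono snd


/-- The property of morphisms of algebraic spaces over S given by f is an open immersion (representable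
by open immersions of schemes) is fpqc local on the base: for an fpqc covering of an algebraic space
Y by algebraic spaces Y_i, a morphism f : X ⟶ Y of algebraic spaces and cartesian squares X_i = Y_i
×_Y X, f has the property if and only if every X_i ⟶ Y_i has it. -/
theorem result (S : Scheme.{u}) :
    AlgSp.IsLocalOnBase (AlgSp.IsFpqcCover (S := S)) (AlgSp.RepWith @IsOpenImmersion) := by
  intro ι Y Yi g hY hYi hcov X f hX Xi p q hXi sq
  constructor
  · intro hf i
    exact MorphismProperty.of_isPullback (sq i) hf
  · intro hp
    have h1 : AlgSp.IsEtaleMor f :=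
      (Groth.Agent.S10544.result S Yi g hY hYi hcov f hX Xi p q hXi sq).2
        fun i => isEtaleMor_of_repWith_isOpenImmersion (hp i)
    have h2 : AlgSp.IsUnivInjectiveMor f :=
      (Groth.Agent.S10524.result S Yi g hY hYi hcov f hX Xi p q hXi sq).2 fun i => by
        have : Mono (p i) :=
          mono_of_repWith (fun g (_ : IsOpenImmersion g) => inferInstance) (hp i)
        exact isUnivInjectiveMor_of_mono (p i)
    have hm : Mono f := mono_of_isEtaleMor_of_isUnivInjectiveMor hX hY f h1 h2
    exact repWith_isOpenImmersion_of_isEtaleMor_mono hX hY f h1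

end Groth.Agent.S10531
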