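import Groth.Statements.S10546
import Groth.Agent.Lib.Helper30.AlgSpFpqc2
-- import your own Groth.Agent.* helpers here

set_option autoImplicit false
universe u
open CategoryTheory CategoryTheory.Limits AlgebraicGeometry
open AlgSp

namespace Groth.Agent.S10546

open Groth.Agent.Lib.Helper30 Groth.Agent.Lib.Helper51 Groth.Agent.Lib.Helper52

set_option backward.isDefEq.respectTransparency false

/-- An isomorphism of sheaves is representable with property `P`, for `P` containing the isomorphisms. -/
theorem repWith_of_isIso {S : Scheme.{u}} (P : MorphismProperty Scheme.{u}) [P.ContainsIdentities]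
    [P.RespectsIso] {A B : AlgSp.Sp S} (d : A ⟶ B) [IsIso d] : AlgSp.RepWith P d := by
  refine ⟨Functor.relativelyRepresentable.of_isIso _ d, ?_⟩
  intro U V g fst snd sq
  have h1 : IsIso ((AlgSp.yon S).map snd) := sq.isIso_snd_of_isIso
  have h2 : IsIso snd := isIso_of_fully_faithful (AlgSp.yon S) snd
  have h3 : IsIso snd.left := inferInstanceAs (IsIso ((Over.forget S).map snd))
  exact MorphismProperty.of_isIso P snd.left

/-- If the relative diagonal of `f` is representable by isomorphisms then `f` is a monomorphism. -/
theorem mono_of_repWith_isomorphisms_diagonal {S : Scheme.{u}} {X Y : AlgSp.Sp S} (f : X ⟶ Y)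
    (h : AlgSp.RepWith (MorphismProperty.isomorphisms Scheme.{u}) (pullback.diagonal f)) :
    Mono f := by
  have he : AlgSp.RepWith @Etale (pullback.diagonal f) := by
    refine MorphismProperty.relative_monotone ?_ _ h
    intro A B k hk
    have : IsIso k.left := hk
    show Etale k.left
    infer_instance
  have hs : AlgSp.RepWith @Surjective (pullback.diagonal f) := by
    refine MorphismProperty.relative_monotone ?_ _ h
    intro A B k hk
    have : IsIso k.left := hk
    show Surjective k.left
    infer_instance
  have hepi : Epi (pullback.diagonal f) := epi_of_repWith_etale_surjective _ he hs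
  have heq : pullback.fst f f = pullback.snd f f := by
    rw [← cancel_epi (pullback.diagonal f)]
    simp
  refine ⟨fun {G} u v huv => ?_⟩
  have h1 : pullback.lift u v huv ≫ pullback.fst f f = u := pullback.lift_fst _ _ _
  have h2 : pullback.lift u v huv ≫ pullback.snd f f = v := pullback.lift_snd _ _ _
  exact h1.symm.trans ((congrArg (pullback.lift u v huv ≫ ·) heq).trans h2)


/-- The property of morphisms of algebraic spaces over S given by f is a monomorphism (of fppf sheaves,
equivalently of algebraic spaces) is fpqc local on the base: for an fpqc covering of an algebraic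
space Y by algebraic spaces Y_i, a morphism f : X ⟶ Y of algebraic spaces and cartesian squares X_i
= Y_i ×_Y X, f has the property if and only if every X_i ⟶ Y_i has it. -/
theorem result (S : Scheme.{u}) :
    AlgSp.IsLocalOnBase (AlgSp.IsFpqcCover (S := S)) (MorphismProperty.monomorphisms (AlgSp.Sp S)) := by
  intro ι Y Yi g hY hYi hcov X f hX Xi p q hXi sq
  constructor
  · intro hf i
    have : Mono f := hf
    exact (MorphismProperty.monomorphisms.iff _).2 (sq i).mono_snd_of_mono
  · intro hp
    refine (MorphismProperty.monomorphisms.iff _).2 (mono_of_repWith_isomorphisms_diagonal f ?_)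
    refine repWith_diagonal_of_fpqc_cover (MorphismProperty.isomorphisms Scheme.{u}) Yi g hcov f
      (representable_diagonal hX.diag f) Xi p q sq fun i => ?_
    have : Mono (p i) := hp i
    exact repWith_of_isIso _ _

end Groth.Agent.S10546
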