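import Groth.Statements.S10532
import Groth.Agent.S10531
import Groth.Agent.S10546
-- import your own Groth.Agent.* helpers here

set_option autoImplicit false
universe u
open CategoryTheory CategoryTheory.Limits AlgebraicGeometry
open AlgSp

namespace Groth.Agent.S10532

open Groth.Agent.Lib.Helper30 Groth.Agent.Lib.Helper51 Groth.Agent.Lib.Helper52

set_option backward.isDefEq.respectTransparency false

/-- Surjectivity on points descends along fpqc coverings of the base. -/
theorem surjective_of_fpqc_cover {S : Scheme.{u}} {ι : Type u} {Y : AlgSp.Sp S}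
    (Yi : ι → AlgSp.Sp S) (g : ∀ i, Yi i ⟶ Y) (hcov : AlgSp.IsFpqcCover Yi g)
    {X : AlgSp.Sp S} (f : X ⟶ Y) (Xi : ι → AlgSp.Sp S) (p : ∀ i, Xi i ⟶ Yi i)
    (q : ∀ i, Xi i ⟶ X) (sq : ∀ i, IsPullback (q i) (p i) f (g i))
    (H : ∀ i, ∀ ⦃W : AlgSp.Sp S⦄ (l : W ⟶ Yi i), Function.Surjective
      (Points.map (pullback.snd (p i) l))) :
    Function.Surjective (Points.map f) := by
  refine surjective_of_jointlyQuot (jointlyQuot_fpqc Yi g hcov (𝟙 Y))
    (P := fun j => pullback f j.1.2) (a := fun j => pullback.fst f j.1.2)
    (b := fun j => pullback.snd f j.1.2) (fun j => IsPullback.of_hasPullback f j.1.2) ?_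
  rintro ⟨⟨W, w⟩, hW, i, l, hl⟩
  change Function.Surjective (Points.map (pullback.snd f w))
  change l ≫ g i = w ≫ 𝟙 Y at hl
  obtain ⟨k, _, sqk⟩ := isPullback_lift_cover (sq i) (IsPullback.id_horiz f) hl
    (IsPullback.of_hasPullback f w)
  -- `pullback.snd f w` is a base change of `p i` along `l`
  let e := sqk.isoPullback
  have he : e.hom ≫ pullback.snd (p i) l = pullback.snd f w := sqk.isoPullback_hom_snd
  rw [← he]
  have : Points.map (e.hom ≫ pullback.snd (p i) l) =
      Points.map (pullback.snd (p i) l) ∘ Points.map e.hom :=
    funext (Points.map_comp _ _)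
  rw [this]
  refine (H i l).comp ?_
  intro y
  refine ⟨Points.map e.inv y, ?_⟩
  rw [← Points.map_comp, e.inv_hom_id, Points.map_id]


/-- The property of morphisms of algebraic spaces over S given by f is an isomorphism is fpqc local on
the base: for an fpqc covering of an algebraic space Y by algebraic spaces Y_i, a morphism f : X ⟶ Y
of algebraic spaces and cartesian squares X_i = Y_i ×_Y X, f has the property if and only if every
X_i ⟶ Y_i has it. -/
theorem result (S : Scheme.{u}) :
    AlgSp.IsLocalOnBase (AlgSp.IsFpqcCover (S := S)) (MorphismProperty.isomorphisms (AlgSp.Sp S)) := by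
  intro ι Y Yi g hY hYi hcov X f hX Xi p q hXi sq
  constructor
  · intro hf i
    have : IsIso f := hf
    exact (MorphismProperty.isomorphisms.iff _).2 (sq i).isIso_snd_of_isIso
  · intro hp
    have hoi : AlgSp.RepWith @IsOpenImmersion f :=
      (Groth.Agent.S10531.result S Yi g hY hYi hcov f hX Xi p q hXi sq).2 fun i => by
        have : IsIso (p i) := hp i
        exact Groth.Agent.S10546.repWith_of_isIso _ _
    have hm : Mono f := mono_of_repWith (fun g (_ : IsOpenImmersion g) => inferInstance) hoi
    have he : AlgSp.RepWith @Etale f := by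
      refine MorphismProperty.relative_monotone ?_ _ hoi
      intro A B k hk
      have : IsOpenImmersion k.left := hk
      show Etale k.left
      infer_instance
    have hsurj : Function.Surjective (Points.map f) := by
      refine surjective_of_fpqc_cover Yi g hcov f Xi p q sq ?_
      intro i W l y
      have : IsIso (p i) := hp i
      have hiso : IsIso (pullback.snd (p i) l) := inferInstance
      refine ⟨Points.map (inv (pullback.snd (p i) l)) y, ?_⟩
      rw [← Points.map_comp, IsIso.inv_hom_id, Points.map_id]
    have hs : AlgSp.RepWith @Surjective f := repWith_surjective_of_surjective_map hoi.1 hsurj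
    have hepi : Epi f := epi_of_repWith_etale_surjective _ he hs
    exact (MorphismProperty.isomorphisms.iff _).2 (isIso_of_mono_of_epi f)

end Groth.Agent.S10532
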