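import Groth.Statements.S10596
import Groth.Agent.Lib.Helper31.AlgSpDeformInst

set_option autoImplicit false
universe u
open CategoryTheory CategoryTheory.Limits AlgebraicGeometry
open AlgSp

namespace Groth.Agent.S10596

open Groth.Agent.Lib.Helper31.AlgSpFlatAt Groth.Agent.Lib.Helper78.AlgSpLocP
open Groth.Agent.Lib.Helper7

open Groth.Agent.Lib.Helper78 in

/-- Let iB : B ⟶ B' be a finite order thickening of algebraic spaces over S (a thickening such that for
one n the (n+1)-st power of the ideal vanishes on every affine etale scheme chart), f' : X' ⟶ Y' a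
morphism of algebraic spaces over B' (via g' : Y' ⟶ B') with X' flat over B', and f : X ⟶ Y, g : Y ⟶
B its base change to B (both squares to iB cartesian, iX ≫ f' = f ≫ iY). Then f is locally of finite
type of relative dimension d, resp. flat, resp. locally of finite type, locally quasi-finite,
locally of finite presentation, smooth, unramified, etale, if and only if f' is (etale-local sense;
locally quasi-finite and unramified include locally of finite type). -/
theorem result {S : Scheme.{u}} {X X' Y Y' B B' : AlgSp.Space S} (iX : X ⟶ X') (iY : Y ⟶ Y') (iB : B ⟶ B')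
    (f : X ⟶ Y) (f' : X' ⟶ Y') (g : Y ⟶ B) (g' : Y' ⟶ B')
    (hcX : IsPullback iX.hom (f ≫ g).hom (f' ≫ g').hom iB.hom) (hcY : IsPullback iY.hom g.hom g'.hom iB.hom)
    (w : iX ≫ f' = f ≫ iY)
    (hB : AlgSp.IsFinThickMor iB.hom) (hflat : AlgSp.LocP @Flat (f' ≫ g').hom) (d : ℕ) :
    ((AlgSp.LocP @LocallyOfFiniteType f.hom ∧
        ∀ x, AlgSp.HasAtMor (fun _ _ h u => FlatMor.fibreDimAt h u = (d : WithBot ℕ∞)) f.hom x) ↔
      (AlgSp.LocP @LocallyOfFiniteType f'.hom ∧
        ∀ x', AlgSp.HasAtMor (fun _ _ h u => FlatMor.fibreDimAt h u = (d : WithBot ℕ∞)) f'.hom x')) ∧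
    (AlgSp.LocP @Flat f.hom ↔ AlgSp.LocP @Flat f'.hom) ∧
    (AlgSp.LocP @LocallyOfFiniteType f.hom ↔ AlgSp.LocP @LocallyOfFiniteType f'.hom) ∧
    (AlgSp.LocP (@LocallyQuasiFinite ⊓ @LocallyOfFiniteType) f.hom ↔
      AlgSp.LocP (@LocallyQuasiFinite ⊓ @LocallyOfFiniteType) f'.hom) ∧
    (AlgSp.LocP @LocallyOfFinitePresentation f.hom ↔ AlgSp.LocP @LocallyOfFinitePresentation f'.hom) ∧
    (AlgSp.LocP @Smooth f.hom ↔ AlgSp.LocP @Smooth f'.hom) ∧
    (AlgSp.LocP (@LocallyOfFiniteType ⊓ @FormallyUnramified) f.hom ↔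
      AlgSp.LocP (@LocallyOfFiniteType ⊓ @FormallyUnramified) f'.hom) ∧
    (AlgSp.IsEtaleMor f.hom ↔ AlgSp.IsEtaleMor f'.hom) := by
  have w' : iX.hom ≫ f'.hom = f.hom ≫ iY.hom := congrArg (fun φ => φ.hom) w
  have key : ∀ {P : MorphismProperty Scheme.{u}} (hP : EtLocalST P)
      [IsZariskiLocalAtSource P] [P.IsStableUnderBaseChange] (hlift : DeformLift P),
      LocP P f.hom ↔ LocP P f'.hom := fun hP _ _ hlift =>
    locP_iff_of_finThick hP hlift iX.hom iY.hom iB.hom f.hom f'.hom g.hom g'.hom X'.property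
      Y'.property B'.property hcX hcY w' hB hflat
  refine ⟨?_, key AlgSpLocPFlat.etLocalST_flat deformLift_flat,
    key AlgSpLocPLoft.etLocalST_loft deformLift_lft,
    key AlgSpLocPLqf.etLocalST_lqf deformLift_lqf,
    key AlgSpLocPLofp.etLocalST_lofp deformLift_lfp,
    key AlgSpLocPSmooth.etLocalST_smooth deformLift_smooth,
    key (AlgSpLocPUnram.etLocalST_inf AlgSpLocPLoft.etLocalST_loft AlgSpLocPUnram.etLocalST_fu)
      deformLift_unram, ?_⟩
  · have h3 := key AlgSpLocPLoft.etLocalST_loft deformLift_lft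
    have sqX : IsPullback iX.hom f.hom f'.hom iY.hom := IsPullback.of_bot hcX w' hcY
    obtain ⟨n, hBt, -⟩ := hB
    have hiY : IsThickMor iY.hom :=
      MorphismProperty.of_isPullback (P := RepWith (S := S) thick) hcY.flip hBt
    have hiX : IsThickMor iX.hom :=
      MorphismProperty.of_isPullback (P := RepWith (S := S) thick) hcX.flip hBt
    constructor
    · rintro ⟨h1, h2⟩
      exact ⟨h3.1 h1, (hasAtMor_fibreDim_iff_of_thick_cartesian X'.property Y'.property iX.hom
        iY.hom f.hom f'.hom hiX hiY sqX (h3.1 h1) d).1 h2⟩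
    · rintro ⟨h1, h2⟩
      exact ⟨h3.2 h1, (hasAtMor_fibreDim_iff_of_thick_cartesian X'.property Y'.property iX.hom
        iY.hom f.hom f'.hom hiX hiY sqX h1 d).2 h2⟩
  · have hY : IsAlgSpace Y.obj := Y.property
    rw [AlgSpMisc.isEtaleMor_iff_locP Y.property, AlgSpMisc.isEtaleMor_iff_locP Y'.property]
    exact key AlgSpLocPSmooth.etLocalST_etale deformLift_etale

end Groth.Agent.S10596
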