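import Groth.Statements.S1545
import Mathlib
import Groth.Agent.Lib.Helper62.CommonPoint
import Groth.Agent.S1541
import Groth.Agent.S1543

set_option autoImplicit false
set_option linter.style.haveILetI false
universe u
open CategoryTheory CategoryTheory.Limits AlgebraicGeometry
open Variety

namespace Groth.Agent.S1545

open TensorProduct IsLocalRing Groth.Agent.Lib.Helper62

/-- base change of a geometrically reduced algebra is geometrically reduced. -/
theorem isGeometricallyReduced_baseChange (k : Type u) [Field k] (A : Type u) [CommRing A]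
    [Algebra k A] [Algebra.IsGeometricallyReduced k A] (k' : Type u) [Field k'] [Algebra k k'] :
    Algebra.IsGeometricallyReduced k' (k' ⊗[k] A) := by
  rw [Algebra.isGeometricallyReduced_field_iff]
  haveI : IsScalarTower k k' (AlgebraicClosure k') := inferInstance
  haveI := Groth.Agent.S2536.isReduced_tensorProduct_field k A (AlgebraicClosure k')
  let e := Algebra.TensorProduct.cancelBaseChange k k' k' (AlgebraicClosure k') A
  exact isReduced_of_injective e.toRingHom e.injective

/-- descent: geometric reducedness of `X_{k'}` at `x'` implies that of `X` at the image. -/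
theorem descent (k : Type u) [Field k] (X : Scheme.{u}) [X.Over (Spec (CommRingCat.of k))]
    (k' : Type u) [Field k'] [Algebra k k'] (x' : Curv2.bc k X k')
    (h : @Curv2.IsGeomReducedAt k' _ (Curv2.bc k X k') ⟨Curv2.bcSnd k X k'⟩ x') :
    Curv2.IsGeomReducedAt k X (Curv2.bcFst k X k' x') := by
  intro K _ _ y hy
  obtain ⟨L, _, _, z, -, hz, θ, hθflat, hθloc⟩ :=
    CommonPoint.exists_common_point k X k' K x' y hy
  haveI hred : IsReduced ((BCStalk.bc (Curv2.bcSnd k X k') L).presheaf.stalk z) :=
    h L z hz
  letI := θ.toAlgebra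
  haveI : IsLocalHom (algebraMap ((Curv2.bc k X K).presheaf.stalk y)
      ((BCStalk.bc (Curv2.bcSnd k X k') L).presheaf.stalk z)) := hθloc
  haveI : Module.Flat ((Curv2.bc k X K).presheaf.stalk y)
      ((BCStalk.bc (Curv2.bcSnd k X k') L).presheaf.stalk z) := hθflat
  haveI : Module.FaithfullyFlat ((Curv2.bc k X K).presheaf.stalk y)
      ((BCStalk.bc (Curv2.bcSnd k X k') L).presheaf.stalk z) :=
    Module.FaithfullyFlat.of_flat_of_isLocalHom
  exact isReduced_of_injective θ (FaithfulSMul.algebraMap_injective _ _)

/-- ascent. -/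
theorem ascent (k : Type u) [Field k] (X : Scheme.{u}) [X.Over (Spec (CommRingCat.of k))]
    (k' : Type u) [Field k'] [Algebra k k'] (x' : Curv2.bc k X k')
    (h : Curv2.IsGeomReducedAt k X (Curv2.bcFst k X k' x')) :
    @Curv2.IsGeomReducedAt k' _ (Curv2.bc k X k') ⟨Curv2.bcSnd k X k'⟩ x' := by
  letI := Curv2.stalkAlgebra k X (Curv2.bcFst k X k' x')
  haveI hO : Algebra.IsGeometricallyReduced k (X.presheaf.stalk (Curv2.bcFst k X k' x')) :=
    Groth.Agent.S1541.forward k X _ h
  letI ovr : (Curv2.bc k X k').Over (Spec (CommRingCat.of k')) := ⟨Curv2.bcSnd k X k'⟩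
  letI algS : Algebra k' ((Curv2.bc k X k').presheaf.stalk x') :=
    Curv2.stalkAlgebra k' (Curv2.bc k X k') x'
  obtain ⟨M', hM'prime, hM', ⟨e'⟩⟩ := BCStalk.exists_prime_of_point_algEquiv
    (X ↘ Spec (CommRingCat.of k)) k' x' _ rfl rfl rfl
  haveI := isGeometricallyReduced_baseChange k (X.presheaf.stalk (Curv2.bcFst k X k' x')) k'
  haveI : Algebra.IsGeometricallyReduced k' (Localization.AtPrime M') :=
    Groth.Agent.S1543.geomReduced_localization k'
      (k' ⊗[k] X.presheaf.stalk (Curv2.bcFst k X k' x')) M' (Localization.AtPrime M')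
  haveI : Algebra.IsGeometricallyReduced k' ((Curv2.bc k X k').presheaf.stalk x') :=
    Algebra.IsGeometricallyReduced.of_injective e'.toAlgHom e'.injective
  exact Groth.Agent.S1541.backward k' (Curv2.bc k X k') x'

theorem main (k : Type u) [Field k] (X : Scheme.{u}) [X.Over (Spec (CommRingCat.of k))]
    (k' : Type u) [Field k'] [Algebra k k']
    (x : X) (x' : Curv2.bc k X k') (hx : Curv2.bcFst k X k' x' = x) :
    Curv2.IsGeomReducedAt k X x ↔
      @Curv2.IsGeomReducedAt k' _ (Curv2.bc k X k') ⟨Curv2.bcSnd k X k'⟩ x' := by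
  subst hx
  exact ⟨ascent k X k' x', descent k X k' x'⟩


/-- For a field extension k' of k, a point x of X and a point x' of X_{k'} over x, X is geometrically
reduced at x if and only if X_{k'} is geometrically reduced at x' (over k'). -/
theorem result (k : Type u) [Field k] (X : Scheme.{u}) [X.Over (Spec (CommRingCat.of k))] (k' : Type u) [Field k'] [Algebra k k']
    (x : X) (x' : Curv2.bc k X k') (hx : Curv2.bcFst k X k' x' = x) :
    Curv2.IsGeomReducedAt k X x ↔
      @Curv2.IsGeomReducedAt k' _ (Curv2.bc k X k') ⟨Curv2.bcSnd k X k'⟩ x' := by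
  exact main k X k' x x' hx

end Groth.Agent.S1545
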