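import Groth.Statements.S10483
import Groth.Agent.Lib.Helper30.AlgSpLqfField
import Groth.Agent.Lib.Helper78.AlgSpLocP2
-- import your own Groth.Agent.* helpers here

set_option autoImplicit false
universe u
open CategoryTheory CategoryTheory.Limits AlgebraicGeometry Topology TopologicalSpace
open AlgSp

namespace Groth.Agent.S10483


/-- (1) ⇔ (5): let k be a field and X an algebraic space over k. Then X is locally quasi-finite over k
if and only if X decomposes as a disjoint union of spectra of finite-dimensional Artinian local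
k-algebras: X is a scheme every point of which has an affine open neighbourhood with Artinian local
coordinate ring, finite over k. -/
theorem result (k : Type u) [Field k] (X : AlgSp.Space (Spec (CommRingCat.of k))) (p : X.obj ⟶ (AlgSp.yon (Spec (CommRingCat.of k))).obj (Over.mk (𝟙 _))) :
    AlgSp.LocP (@LocallyQuasiFinite ⊓ @LocallyOfFiniteType : MorphismProperty Scheme.{u}) p ↔
      ∃ (U : Over (Spec (CommRingCat.of k))) (_ : (AlgSp.yon (Spec (CommRingCat.of k))).obj U ≅ X.obj), ∀ u : ↥U.left, ∃ V : U.left.Opens,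
        u ∈ V ∧ IsAffineOpen V ∧ IsArtinianRing ↥Γ(U.left, V) ∧ IsLocalRing ↥Γ(U.left, V) ∧
          IsFinite (V.ι ≫ U.hom) := by
  have hX := X.property
  have hE := Groth.Agent.Lib.Helper78.AlgSpLocPLqf.etLocalST_lqf.{u}
  haveI hArt : IsLocallyArtinian (Over.mk (𝟙 (Spec (CommRingCat.of k)))).left :=
    inferInstanceAs (IsLocallyArtinian (Spec (CommRingCat.of k)))
  constructor
  · intro hqf
    obtain ⟨U, ⟨e⟩⟩ := Groth.Agent.Lib.Helper30.LqfField.exists_iso_yon_of_lqf_field hX k (𝟙 _) p hqf
    refine ⟨U, e, ?_⟩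
    obtain ⟨g, hg⟩ := (AlgSp.yon (Spec (CommRingCat.of k))).map_surjective (e.hom ≫ p)
    have hge : AlgSp.RepWith @Etale e.hom :=
      MorphismProperty.of_isIso (AlgSp.RepWith (S := Spec (CommRingCat.of k)) @Etale) e.hom
    have hgP := hqf e.hom (𝟙 _) g hge (AlgSp.repWith_id _ _) (by rw [Category.comp_id, hg])
    have hgl : g.left = U.hom := by
      have := Over.w g
      simpa using this
    rw [hgl] at hgP
    haveI : LocallyQuasiFinite U.hom := hgP.1
    haveI : LocallyOfFiniteType U.hom := hgP.2
    haveI : IsLocallyArtinian U.left := IsLocallyArtinian.of_locallyQuasiFinite U.hom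
    intro u
    have hV := Groth.Agent.Lib.Helper30.LqfField.isAffineOpen_singleton_of_discrete u
    obtain ⟨V, hVdef⟩ : ∃ V : U.left.Opens, V = ⟨{u}, isOpen_discrete _⟩ := ⟨_, rfl⟩
    rw [← hVdef] at hV
    have huV : u ∈ V := by rw [hVdef]; rfl
    have hsub : ∀ x ∈ V, x = u := by rw [hVdef]; exact fun x hx => hx
    refine ⟨V, huV, hV,
      IsLocallyArtinian.isArtinianRing_presheaf_obj ⟨_, hV⟩,
      Groth.Agent.Lib.Helper30.LqfField.isLocalRing_of_singleton_affineOpen hV u huV hsub, ?_⟩
    haveI : CompactSpace ↥(V.toScheme) := isCompact_iff_compactSpace.1 hV.isCompact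
    haveI : QuasiCompact (V.ι ≫ U.hom) := quasiCompact_of_compactSpace _
    exact IsFinite.of_locallyQuasiFinite _
  · rintro ⟨U, e, hloc⟩
    obtain ⟨g, hg⟩ := (AlgSp.yon (Spec (CommRingCat.of k))).map_surjective (e.hom ≫ p)
    have hgl : g.left = U.hom := by
      have := Over.w g
      simpa using this
    choose V hV1 hV2 hV3 hV4 hV5 using hloc
    have hsup : iSup V = ⊤ := by
      rw [eq_top_iff]
      intro x _
      exact TopologicalSpace.Opens.mem_iSup.2 ⟨x, hV1 x⟩
    have h1 : LocallyQuasiFinite U.hom :=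
      IsZariskiLocalAtSource.of_iSup_eq_top (P := @LocallyQuasiFinite) V hsup
        (fun u => by have := hV5 u; infer_instance)
    have h2 : LocallyOfFiniteType U.hom :=
      IsZariskiLocalAtSource.of_iSup_eq_top (P := @LocallyOfFiniteType) V hsup
        (fun u => by have := hV5 u; infer_instance)
    have hgloc : AlgSp.LocP (@LocallyQuasiFinite ⊓ @LocallyOfFiniteType)
        ((AlgSp.yon (Spec (CommRingCat.of k))).map g) :=
      (Groth.Agent.Lib.Helper78.AlgSpLocP.locP_yon_map_iff hE g).2 (hgl ▸ ⟨h1, h2⟩)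
    intro A B a b h ha hb comm
    have hei : AlgSp.RepWith @Etale e.inv :=
      MorphismProperty.of_isIso (AlgSp.RepWith (S := Spec (CommRingCat.of k)) @Etale) e.inv
    refine hgloc (a ≫ e.inv) b h
      ((AlgSp.RepWith (S := Spec (CommRingCat.of k)) @Etale).comp_mem _ _ ha hei) hb ?_
    rw [hg, Category.assoc, e.inv_hom_id_assoc, comm]

end Groth.Agent.S10483
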