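import Groth.Statements.S10618
-- import your own Groth.Agent.* helpers here

set_option autoImplicit false
universe u
open CategoryTheory CategoryTheory.Limits AlgebraicGeometry
open AlgSp

namespace Groth.Agent.S10618

variable {S : Scheme.{u}} {F G H : AlgSp.Sp S}

/-- the square for `a ≫ b` obtained from a square for `a` by composing the bottom arrow with `b` -/
noncomputable def sqAB (a : F ⟶ G) (b : G ⟶ H) (sq : AlgSp.InfSq a) : AlgSp.InfSq (a ≫ b) where
  A := sq.A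
  I := sq.I
  sq_zero := sq.sq_zero
  str := sq.str
  top := sq.top
  bot := sq.bot ≫ b
  comm := by rw [← Category.assoc, sq.comm, Category.assoc]

/-- the square for `b` with top `sq.top ≫ a` and bottom `sq.bot ≫ b` -/
noncomputable def sqB (a : F ⟶ G) (b : G ⟶ H) (sq : AlgSp.InfSq a) : AlgSp.InfSq b where
  A := sq.A
  I := sq.I
  sq_zero := sq.sq_zero
  str := sq.str
  top := sq.top ≫ a
  bot := sq.bot ≫ b
  comm := by rw [sq.comm, Category.assoc]

theorem unram_of_comp (a : F ⟶ G) (b : G ⟶ H)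
    (h : AlgSp.IsFormallyUnramifiedMor (a ≫ b)) : AlgSp.IsFormallyUnramifiedMor a := by
  intro sq l l' h1 h2 h3 h4
  have hAB : ∀ m m' : (AlgSp.yon S).obj sq.ptT' ⟶ F,
      (AlgSp.yon S).map sq.j ≫ m = sq.top → m ≫ a ≫ b = sq.bot ≫ b →
      (AlgSp.yon S).map sq.j ≫ m' = sq.top → m' ≫ a ≫ b = sq.bot ≫ b → m = m' := h (sqAB a b sq)
  refine hAB l l' h1 ?_ h3 ?_
  · rw [← Category.assoc, h2]
  · rw [← Category.assoc, h4]

theorem smooth_of_comp (a : F ⟶ G) (b : G ⟶ H) (hb : AlgSp.IsFormallyUnramifiedMor b)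
    (h : AlgSp.IsFormallySmoothMor (a ≫ b)) : AlgSp.IsFormallySmoothMor a := by
  intro sq
  obtain ⟨l, h1, h2⟩ : ∃ l : (AlgSp.yon S).obj sq.ptT' ⟶ F,
      (AlgSp.yon S).map sq.j ≫ l = sq.top ∧ l ≫ a ≫ b = sq.bot ≫ b := h (sqAB a b sq)
  have hB : ∀ m m' : (AlgSp.yon S).obj sq.ptT' ⟶ G,
      (AlgSp.yon S).map sq.j ≫ m = sq.top ≫ a → m ≫ b = sq.bot ≫ b →
      (AlgSp.yon S).map sq.j ≫ m' = sq.top ≫ a → m' ≫ b = sq.bot ≫ b → m = m' := hb (sqB a b sq)
  refine ⟨l, h1, ?_⟩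
  refine hB (l ≫ a) sq.bot ?_ ?_ ?_ rfl
  · rw [← Category.assoc, h1]
  · rw [Category.assoc, h2]
  · exact sq.comm.symm

/-- Let a : F ⟶ G and b : G ⟶ H be morphisms of fppf sheaves on (Sch/S) with b formally unramified. If a
≫ b is formally unramified, resp. formally etale, resp. formally smooth, then so is a. (The
published statement is for transformations of arbitrary presheaves of sets on (Sch/S)_fppf; this row
takes fppf sheaves, the case of algebraic spaces.) -/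
theorem result {S : Scheme.{u}} {F G H : AlgSp.Sp S} (a : F ⟶ G) (b : G ⟶ H)
    (hb : AlgSp.IsFormallyUnramifiedMor b) :
    (AlgSp.IsFormallyUnramifiedMor (a ≫ b) → AlgSp.IsFormallyUnramifiedMor a) ∧
    (AlgSp.IsFormallyEtaleMor (a ≫ b) → AlgSp.IsFormallyEtaleMor a) ∧
    (AlgSp.IsFormallySmoothMor (a ≫ b) → AlgSp.IsFormallySmoothMor a) := by
  refine ⟨unram_of_comp a b, ?_, smooth_of_comp a b hb⟩
  intro h sq
  have hs : AlgSp.IsFormallySmoothMor (a ≫ b) := fun sq => (h sq).exists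
  have hu : AlgSp.IsFormallyUnramifiedMor (a ≫ b) := fun sq l l' h1 h2 h3 h4 =>
    (h sq).unique ⟨h1, h2⟩ ⟨h3, h4⟩
  obtain ⟨l, h1, h2⟩ := smooth_of_comp a b hb hs sq
  exact ⟨l, ⟨h1, h2⟩, fun l' h' => unram_of_comp a b hu sq l' l h'.1 h'.2 h1 h2⟩

end Groth.Agent.S10618
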