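import Groth.Statements.S10619
-- import your own Groth.Agent.* helpers here

set_option autoImplicit false
universe u
open CategoryTheory CategoryTheory.Limits AlgebraicGeometry
open AlgSp

namespace Groth.Agent.S10619

variable {S : Scheme.{u}} {F G H : AlgSp.Sp S}

/-- the square for `b` obtained from a square for `a ≫ b` by composing the top arrow with `a` -/
noncomputable def sqB (a : F ⟶ G) (b : G ⟶ H) (sq : AlgSp.InfSq (a ≫ b)) : AlgSp.InfSq b where
  A := sq.A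
  I := sq.I
  sq_zero := sq.sq_zero
  str := sq.str
  top := sq.top ≫ a
  bot := sq.bot
  comm := by rw [Category.assoc]; exact sq.comm

/-- the square for `a` with a given bottom arrow `l'` -/
noncomputable def sqA (a : F ⟶ G) (b : G ⟶ H) (sq : AlgSp.InfSq (a ≫ b))
    (l' : (AlgSp.yon S).obj sq.ptT' ⟶ G) (h : (AlgSp.yon S).map sq.j ≫ l' = sq.top ≫ a) :
    AlgSp.InfSq a where
  A := sq.A
  I := sq.I
  sq_zero := sq.sq_zero
  str := sq.str
  top := sq.top
  bot := l'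
  comm := h.symm

theorem smooth_comp (a : F ⟶ G) (b : G ⟶ H)
    (ha : AlgSp.IsFormallySmoothMor a) (hb : AlgSp.IsFormallySmoothMor b) :
    AlgSp.IsFormallySmoothMor (a ≫ b) := by
  intro sq
  obtain ⟨l', h1, h2⟩ : ∃ l' : (AlgSp.yon S).obj sq.ptT' ⟶ G,
      (AlgSp.yon S).map sq.j ≫ l' = sq.top ≫ a ∧ l' ≫ b = sq.bot := hb (sqB a b sq)
  obtain ⟨l, h3, h4⟩ : ∃ l : (AlgSp.yon S).obj sq.ptT' ⟶ F,
      (AlgSp.yon S).map sq.j ≫ l = sq.top ∧ l ≫ a = l' := ha (sqA a b sq l' h1)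
  refine ⟨l, h3, ?_⟩
  rw [← Category.assoc, h4, h2]

theorem unram_comp (a : F ⟶ G) (b : G ⟶ H)
    (ha : AlgSp.IsFormallyUnramifiedMor a) (hb : AlgSp.IsFormallyUnramifiedMor b) :
    AlgSp.IsFormallyUnramifiedMor (a ≫ b) := by
  intro sq l l' h1 h2 h3 h4
  have hB : ∀ m m' : (AlgSp.yon S).obj sq.ptT' ⟶ G,
      (AlgSp.yon S).map sq.j ≫ m = sq.top ≫ a → m ≫ b = sq.bot →
      (AlgSp.yon S).map sq.j ≫ m' = sq.top ≫ a → m' ≫ b = sq.bot → m = m' := hb (sqB a b sq)
  have e : l ≫ a = l' ≫ a := by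
    refine hB (l ≫ a) (l' ≫ a) ?_ ?_ ?_ ?_
    · rw [← Category.assoc, h1]
    · rw [Category.assoc]; exact h2
    · rw [← Category.assoc, h3]
    · rw [Category.assoc]; exact h4
  have hc : (AlgSp.yon S).map sq.j ≫ (l ≫ a) = sq.top ≫ a := by
    rw [← Category.assoc, h1]
  have hA : ∀ m m' : (AlgSp.yon S).obj sq.ptT' ⟶ F,
      (AlgSp.yon S).map sq.j ≫ m = sq.top → m ≫ a = l ≫ a →
      (AlgSp.yon S).map sq.j ≫ m' = sq.top → m' ≫ a = l ≫ a → m = m' :=
    ha (sqA a b sq (l ≫ a) hc)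
  exact hA l l' h1 rfl h3 e.symm

/-- A composition of formally smooth, resp. formally etale, resp. formally unramified morphisms of fppf
sheaves on (Sch/S) is again formally smooth, resp. formally etale, resp. formally unramified. (The
published statement is for transformations of arbitrary presheaves of sets on (Sch/S)_fppf; this row
takes fppf sheaves, the case of algebraic spaces.) -/
theorem result {S : Scheme.{u}} {F G H : AlgSp.Sp S} (a : F ⟶ G) (b : G ⟶ H) :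
    (AlgSp.IsFormallySmoothMor a → AlgSp.IsFormallySmoothMor b → AlgSp.IsFormallySmoothMor (a ≫ b)) ∧
    (AlgSp.IsFormallyEtaleMor a → AlgSp.IsFormallyEtaleMor b → AlgSp.IsFormallyEtaleMor (a ≫ b)) ∧
    (AlgSp.IsFormallyUnramifiedMor a → AlgSp.IsFormallyUnramifiedMor b → AlgSp.IsFormallyUnramifiedMor (a ≫ b)) := by
  refine ⟨smooth_comp a b, ?_, unram_comp a b⟩
  intro ha hb sq
  have hsa : AlgSp.IsFormallySmoothMor a := fun sq => (ha sq).exists
  have hsb : AlgSp.IsFormallySmoothMor b := fun sq => (hb sq).exists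
  have hua : AlgSp.IsFormallyUnramifiedMor a := fun sq l l' h1 h2 h3 h4 =>
    (ha sq).unique ⟨h1, h2⟩ ⟨h3, h4⟩
  have hub : AlgSp.IsFormallyUnramifiedMor b := fun sq l l' h1 h2 h3 h4 =>
    (hb sq).unique ⟨h1, h2⟩ ⟨h3, h4⟩
  obtain ⟨l, h1, h2⟩ := smooth_comp a b hsa hsb sq
  exact ⟨l, ⟨h1, h2⟩, fun l' h => unram_comp a b hua hub sq l' l h.1 h.2 h1 h2⟩

end Groth.Agent.S10619
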