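import Groth.Statements.S1489
import Groth.Agent.Lib.Helper61.FEtHom
import Mathlib.AlgebraicGeometry.Morphisms.Etale

set_option autoImplicit false
universe u
open FlatMor

namespace Groth.Agent.S1489

open AlgebraicGeometry CategoryTheory Limits in
/-- A morphism f : X → S is étale if and only if it is locally of finite presentation and formally
étale, i.e. has the unique lifting property against first order thickenings of affine schemes (rings
in the same universe). -/
theorem result {X S : Scheme.{u}} (f : X ⟶ S) :
    Etale f ↔ LocallyOfFinitePresentation f ∧ MoreMor.IsFormallyEtaleHom f := by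
  constructor
  · intro hf
    refine ⟨⟨fun {V} hV {U} hU e => ?_⟩, ?_⟩
    · have h := hf.etale_appLE hV hU e
      letI := (f.appLE V U e).hom.toAlgebra
      have h' : Algebra.Etale Γ(S, V) Γ(X, U) := h
      exact h'.finitePresentation
    · apply Groth.Agent.Lib.Helper61.FEtHom.isFormallyEtaleHom_of_affine
      intro U V hU hV hUV
      have h := hf.etale_appLE hV hU hUV
      letI := (f.appLE V U hUV).hom.toAlgebra
      have h' : Algebra.Etale Γ(S, V) Γ(X, U) := h
      exact h'.formallyEtale
  · rintro ⟨hfp, hfe⟩
    refine ⟨fun {V} hV {U} hU e => ?_⟩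
    have h1 := Groth.Agent.Lib.Helper61.FEtHom.affine_of_isFormallyEtaleHom f hfe U V hU hV e
    have h2 := hfp.finitePresentation_appLE hV hU e
    letI := (f.appLE V U e).hom.toAlgebra
    have h2' : Algebra.FinitePresentation Γ(S, V) Γ(X, U) := h2
    show Algebra.Etale Γ(S, V) Γ(X, U)
    exact ⟨h1, h2'⟩

end Groth.Agent.S1489
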