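import Groth.Statements.S10621
import Groth.Agent.Lib.Helper78.AlgSpFUnram
import Groth.Agent.Lib.Helper78.AlgSpBasic

set_option autoImplicit false
universe u
open CategoryTheory CategoryTheory.Limits AlgebraicGeometry
open AlgSp

namespace Groth.Agent.S10621

/-- For a morphism f : X ⟶ Y of algebraic spaces over S, these conditions are equivalent: f is formally
unramified (lifting along square-zero thickenings of affine schemes); for every scheme U with a
representable etale U ⟶ X, every scheme V with a representable etale V ⟶ Y and every compatible U ⟶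
V, the morphism of schemes U ⟶ V is formally unramified; and this holds as soon as it holds for one
such diagram in which both charts are moreover surjective. Formal unramifiedness of a morphism of
schemes is Mathlib's FormallyUnramified (formally unramified ring maps on affine opens, no
finite-type condition), which agrees with the lifting definition used here. -/
theorem result {S : Scheme.{u}} {X Y : AlgSp.Space S} (f : X ⟶ Y) :
    (AlgSp.IsFormallyUnramifiedMor f.hom ↔ AlgSp.LocP @FormallyUnramified f.hom) ∧
    (∀ (U V : Over S) (a : (AlgSp.yon S).obj U ⟶ X.obj) (b : (AlgSp.yon S).obj V ⟶ Y.obj) (h : U ⟶ V),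
      AlgSp.RepWith @Etale a → AlgSp.RepWith @Surjective a → AlgSp.RepWith @Etale b → AlgSp.RepWith @Surjective b →
      a ≫ f.hom = (AlgSp.yon S).map h ≫ b → FormallyUnramified h.left → AlgSp.IsFormallyUnramifiedMor f.hom) := by
  open Groth.Agent.Lib.Helper78.AlgSpFEtale Groth.Agent.Lib.Helper78.AlgSpInfSq
    Groth.Agent.Lib.Helper78.AlgSpInfBridge Groth.Agent.Lib.Helper78.AlgSpFUnram in
  have one : ∀ (U V : Over S) (a : (AlgSp.yon S).obj U ⟶ X.obj) (b : (AlgSp.yon S).obj V ⟶ Y.obj) (h : U ⟶ V),
      AlgSp.RepWith @Etale a → AlgSp.RepWith @Surjective a → AlgSp.RepWith @Etale b →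
      a ≫ f.hom = (AlgSp.yon S).map h ≫ b → FormallyUnramified h.left → AlgSp.IsFormallyUnramifiedMor f.hom := by
    intro U V a b h ha has hb comm hh sq l l' h1 h2 h1' h2'
    exact lift_unique_of_chart Y.property f.hom a b h ha has hb comm sq.j
      (Groth.Agent.Lib.Helper61.ThickBC.isFirstOrderThickening_SpecMap_mk sq.I sq.sq_zero) l l'
      (h1.trans h1'.symm) (h2.trans h2'.symm)
  refine ⟨⟨fun hf => ?_, fun hL => ?_⟩, fun U V a b h ha has hb _ comm hh => one U V a b h ha has hb comm hh⟩
  · intro U V a b h ha hb comm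
    have hae : AlgSp.IsFormallyEtaleMor a :=
      isFormallyEtaleMor_of_isEtaleMor (AlgSp.IsAlgSpace.yon_obj U) X.property
        (Groth.Agent.Lib.Helper30.isEtaleMor_of_repWith_etale ha)
    have hbe : AlgSp.IsFormallyEtaleMor b :=
      isFormallyEtaleMor_of_isEtaleMor (AlgSp.IsAlgSpace.yon_obj V) Y.property
        (Groth.Agent.Lib.Helper30.isEtaleMor_of_repWith_etale hb)
    have h1 : AlgSp.IsFormallyUnramifiedMor (a ≫ f.hom) :=
      (Groth.Agent.S10619.result a f.hom).2.2 (isFormallyUnramifiedMor_of_isFormallyEtaleMor hae) hf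
    rw [comm] at h1
    have h2 : AlgSp.IsFormallyUnramifiedMor ((AlgSp.yon S).map h) :=
      (Groth.Agent.S10618.result ((AlgSp.yon S).map h) b
        (isFormallyUnramifiedMor_of_isFormallyEtaleMor hbe)).1 h1
    exact formallyUnramified_of_isFormallyUnramifiedMor_yon h h2
  · obtain ⟨U₀, a₀, ha₀, ha₀s⟩ := X.property.atlas
    obtain ⟨V, b, hb, hbs⟩ := Y.property.atlas
    obtain ⟨U, j, h, sq, hae, has⟩ :=
      Groth.Agent.Lib.Helper78.AlgSpBasic.exists_chart_diagram f.hom a₀ ha₀ b hb
    have comm : ((AlgSp.yon S).map j ≫ a₀) ≫ f.hom = (AlgSp.yon S).map h ≫ b := by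
      rw [Category.assoc]; exact sq.w.symm
    exact one U V _ b h hae (has ha₀s hbs) hb comm (hL _ b h hae hb comm)

end Groth.Agent.S10621
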