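import Groth.Statements.S10613
import Groth.Agent.Lib.Helper30.AlgSpZMT5
import Groth.Agent.S10621
import Groth.Agent.S10531
import Groth.Agent.S9938
-- import your own Groth.Agent.* helpers here

set_option autoImplicit false
universe u
open CategoryTheory CategoryTheory.Limits AlgebraicGeometry
open AlgSp

namespace Groth.Agent.S10613

set_option maxHeartbeats 800000
set_option backward.isDefEq.respectTransparency false
open Groth.Agent.Lib.Helper30.ZMT Groth.Agent.Lib.Helper51 Groth.Agent.Lib.Helper52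
open Groth.Agent.Lib.Helper51.KerAt

/-- For a morphism f : X ⟶ Y of algebraic spaces over S, these four conditions on f are equivalent: (a)
unramified plus monomorphism; (b) unramified plus universally injective; (c) a monomorphism that is
locally of finite type; (d) universally injective, locally of finite type and formally unramified
(lifting sense). In that case f is representable by schemes, separated and locally quasi-finite.
(Unramified is the etale-local condition locally of finite type and formally unramified on charts;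
monomorphisms are taken in fppf sheaves.) -/
theorem result {S : Scheme.{u}} {X Y : AlgSp.Space S} (f : X ⟶ Y) :
    ((AlgSp.LocP (@LocallyOfFiniteType ⊓ @FormallyUnramified) f.hom ∧ Mono f.hom) ↔
      (AlgSp.LocP (@LocallyOfFiniteType ⊓ @FormallyUnramified) f.hom ∧ AlgSp.IsUnivInjectiveMor f.hom)) ∧
    ((AlgSp.LocP (@LocallyOfFiniteType ⊓ @FormallyUnramified) f.hom ∧ Mono f.hom) ↔
      (AlgSp.LocP @LocallyOfFiniteType f.hom ∧ Mono f.hom)) ∧
    ((AlgSp.LocP (@LocallyOfFiniteType ⊓ @FormallyUnramified) f.hom ∧ Mono f.hom) ↔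
      (AlgSp.IsUnivInjectiveMor f.hom ∧ AlgSp.LocP @LocallyOfFiniteType f.hom ∧ AlgSp.IsFormallyUnramifiedMor f.hom)) ∧
    (AlgSp.LocP @LocallyOfFiniteType f.hom ∧ Mono f.hom →
      AlgSp.Representable f.hom ∧ AlgSp.IsSeparatedMor f.hom ∧
        AlgSp.LocP (@LocallyQuasiFinite ⊓ @LocallyOfFiniteType) f.hom) := by
  have hX := X.property
  have hY := Y.property
  have key := (Groth.Agent.S10621.result f).1
  have hsplit : AlgSp.LocP (@LocallyOfFiniteType ⊓ @FormallyUnramified) f.hom ↔
      AlgSp.LocP @LocallyOfFiniteType f.hom ∧ AlgSp.LocP @FormallyUnramified f.hom :=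
    ⟨fun h => ⟨fun U V a b k ha hb c => (h a b k ha hb c).1,
      fun U V a b k ha hb c => (h a b k ha hb c).2⟩,
      fun ⟨h1, h2⟩ U V a b k ha hb c => ⟨h1 a b k ha hb c, h2 a b k ha hb c⟩⟩
  have hMU : Mono f.hom → AlgSp.LocP @LocallyOfFiniteType f.hom →
      AlgSp.LocP (@LocallyOfFiniteType ⊓ @FormallyUnramified) f.hom :=
    fun hM hl U V a b k ha hb c => ⟨hl a b k ha hb c,
      unramified_chart_of_mono hX hY f.hom a b k ha hb c⟩
  have hM_UI : Mono f.hom → AlgSp.IsUnivInjectiveMor f.hom :=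
    fun h => Groth.Agent.S10531.isUnivInjectiveMor_of_mono f.hom
  have hUI_M : AlgSp.LocP (@LocallyOfFiniteType ⊓ @FormallyUnramified) f.hom →
      AlgSp.IsUnivInjectiveMor f.hom → Mono f.hom := by
    intro hU hinj
    have hΔ := Groth.Agent.Lib.Helper30.repWith_isOpenImmersion_diagonal_of_locP_unramified
      hX hY f.hom hU
    have he := Groth.Agent.Lib.Helper30.repWith_etale_of_repWith_isOpenImmersion hΔ
    have hs : AlgSp.RepWith @Surjective (pullback.diagonal f.hom) :=
      repWith_surjective_of_surjective_map hΔ.1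
        (Groth.Agent.S9938.diagSurj_of_univInj hX f.hom hinj)
    exact Groth.Agent.Lib.Helper30.mono_of_diagonal_etale_surjective f.hom he hs
  refine ⟨⟨fun ⟨hU, hM⟩ => ⟨hU, hM_UI hM⟩, fun ⟨hU, hI⟩ => ⟨hU, hUI_M hU hI⟩⟩,
    ⟨fun ⟨hU, hM⟩ => ⟨(hsplit.1 hU).1, hM⟩, fun ⟨hL, hM⟩ => ⟨hMU hM hL, hM⟩⟩,
    ⟨fun ⟨hU, hM⟩ => ⟨hM_UI hM, (hsplit.1 hU).1, key.2 (hsplit.1 hU).2⟩,
      fun ⟨hI, hL, hF⟩ => ⟨hsplit.2 ⟨hL, key.1 hF⟩, hUI_M (hsplit.2 ⟨hL, key.1 hF⟩) hI⟩⟩, ?_⟩
  rintro ⟨hL, hM⟩
  refine ⟨representable_of_mono_lft hX hY f.hom hL, isSeparatedMor_of_mono f.hom, ?_⟩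
  intro U V a b k ha hb c
  have h1 : LocallyOfFiniteType k.left := hL a b k ha hb c
  have h2 : FormallyUnramified k.left := unramified_chart_of_mono hX hY f.hom a b k ha hb c
  exact ⟨lqf_of_unramified k.left, h1⟩

end Groth.Agent.S10613
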