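import Groth.Statements.S5602
import Mathlib
-- import your own Groth.Agent.* helpers here

set_option autoImplicit false
universe w v u
open CategoryTheory CategoryTheory.Limits
open PCoh

namespace Groth.Agent.S5602

section helpers
variable {C : Type u} [Category.{v} C] [Abelian C]

/-- the augmented ℕ-indexed complex `0 → Z^n → E^n → E^{n+1} → ⋯` -/
noncomputable def augK (E : CochainComplex C ℤ) (n : ℤ) : CochainComplex C ℕ :=
  CochainComplex.augment (E.restriction (ComplexShape.embeddingUpIntGE n))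
    (E.iCycles n ≫ (E.XIsoOfEq (show n = n + ((0 : ℕ) : ℤ) by simp)).hom)
    (by
      change (E.iCycles n ≫ (E.XIsoOfEq _).hom) ≫ E.d (n + ((0 : ℕ) : ℤ)) (n + ((1 : ℕ) : ℤ)) = 0
      rw [Category.assoc, HomologicalComplex.XIsoOfEq_hom_comp_d, HomologicalComplex.iCycles_d])

theorem augK_exactAt_zero (E : CochainComplex C ℤ) (n : ℤ) : (augK E n).ExactAt 0 := by
  rw [HomologicalComplex.exactAt_iff' _ 0 0 1 (by simp) (by simp)]
  rw [ShortComplex.exact_iff_mono _ ((augK E n).shape 0 0 (by simp))]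
  change Mono ((augK E n).d 0 1)
  simp only [augK, CochainComplex.augment_d_zero_one]
  change @Mono C _ (E.cycles n) (E.X (n + ((0 : ℕ) : ℤ)))
    (E.iCycles n ≫ (E.XIsoOfEq (show n = n + ((0 : ℕ) : ℤ) by simp)).hom)
  infer_instance

theorem augK_exactAt_one (E : CochainComplex C ℤ) (n : ℤ) : (augK E n).ExactAt 1 := by
  rw [HomologicalComplex.exactAt_iff' _ 0 1 2 (by simp) (by simp)]
  let S₁ : ShortComplex C := ShortComplex.mk (E.iCycles n) (E.d n (n + ((1 : ℕ) : ℤ)))
    (E.iCycles_d n _)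
  have hS₁ : S₁.Exact :=
    ShortComplex.exact_of_f_is_kernel _ (E.cyclesIsKernel n (n + ((1 : ℕ) : ℤ)) (by simp))
  let e₂ : E.X n ≅ E.X (n + ((0 : ℕ) : ℤ)) := E.XIsoOfEq (show n = n + ((0 : ℕ) : ℤ) by simp)
  refine ShortComplex.exact_of_iso (S₁ := S₁) (S₂ := (augK E n).sc' 0 1 2)
    (ShortComplex.isoMk (Iso.refl _) e₂ (Iso.refl _) ?_ ?_) hS₁
  · change (𝟙 _) ≫ (E.iCycles n ≫ (E.XIsoOfEq _).hom) = E.iCycles n ≫ e₂.hom
    rw [Category.id_comp]
  · change (E.XIsoOfEq _).hom ≫ E.d (n + ((0 : ℕ) : ℤ)) (n + ((1 : ℕ) : ℤ)) =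
      E.d n (n + ((1 : ℕ) : ℤ)) ≫ 𝟙 _
    rw [HomologicalComplex.XIsoOfEq_hom_comp_d, Category.comp_id]

theorem augK_exactAt_succ_succ (E : CochainComplex C ℤ) (n : ℤ) (i : ℕ)
    (h : E.ExactAt (n + ((i + 1 : ℕ) : ℤ))) : (augK E n).ExactAt (i + 2) := by
  rw [HomologicalComplex.exactAt_iff' _ (i + 1) (i + 2) (i + 3) (by simp) (by simp)]
  rw [HomologicalComplex.exactAt_iff' _ (n + ((i : ℕ) : ℤ)) (n + ((i + 1 : ℕ) : ℤ))
    (n + ((i + 2 : ℕ) : ℤ)) (by simp; omega) (by simp; omega)] at h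
  exact h

end helpers

/-- Let C be an abelian category and C₀ a class of objects, closed under isomorphisms and quasi-stable
under kernels of epimorphisms. If E is strictly n-pseudo-coherent (bounded above, terms in C₀ from
degree n on) and H^i(E) = 0 for i > n, then H^n(E) is of C₀-finite type. -/
theorem result {C : Type u} [Category.{v} C] [Abelian C]
    (P : ObjectProperty C) [P.IsClosedUnderIsomorphisms] (hqs : PCoh.IsQuasiStableUnderKernels P)
    (n : ℤ) (E : CochainComplex C ℤ) (hE : PCoh.IsStrictPC P n E)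
    (hac : ∀ i : ℤ, n < i → IsZero (E.homology i)) :
    PCoh.IsOfFiniteType P (E.homology n) := by
  obtain ⟨⟨b, hb⟩, hP⟩ := hE
  have hK : PCoh.IsOfFiniteType P ((augK E n).X 0) := by
    apply hqs (augK E n)
    · intro i
      match i with
      | 0 => exact augK_exactAt_zero E n
      | 1 => exact augK_exactAt_one E n
      | (i + 2) =>
        apply augK_exactAt_succ_succ
        rw [HomologicalComplex.exactAt_iff_isZero_homology]
        exact hac _ (by push_cast; omega)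
    · refine ⟨(b - n).toNat + 1, fun i hi => ?_⟩
      obtain ⟨j, rfl⟩ : ∃ j, i = j + 1 := ⟨i - 1, by omega⟩
      exact hb (n + (j : ℤ)) (by omega)
    · intro i hi
      obtain ⟨j, rfl⟩ : ∃ j, i = j + 1 := ⟨i - 1, by omega⟩
      exact hP (n + (j : ℤ)) (by omega)
  obtain ⟨E₀, π, hE₀, hπ⟩ := hK
  have hπ' : Epi (E.homologyπ n) := inferInstance
  refine ⟨E₀, (show E₀ ⟶ E.cycles n from π) ≫ E.homologyπ n, hE₀, ?_⟩
  have hπ'' : Epi (show E₀ ⟶ E.cycles n from π) := hπ
  exact epi_comp _ _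

end Groth.Agent.S5602
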