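import Groth.Statements.S10614
import Groth.Agent.Lib.Helper30.AlgSpZMT5
import Groth.Agent.Lib.Helper30.AlgSpProper
import Groth.Agent.Lib.Helper78.AlgSpMisc
import Groth.Agent.S10613
import Groth.Agent.S9922
-- import your own Groth.Agent.* helpers here

set_option autoImplicit false
universe u
open CategoryTheory CategoryTheory.Limits AlgebraicGeometry
open AlgSp

namespace Groth.Agent.S10614

set_option maxHeartbeats 800000
set_option backward.isDefEq.respectTransparency false
open Groth.Agent.Lib.Helper30.ZMT Groth.Agent.Lib.Helper51 Groth.Agent.Lib.Helper52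
open Groth.Agent.Lib.Helper51.KerAt Groth.Agent.Lib.Helper78.AlgSpBasic Groth.Agent.Lib.Helper78.AlgSpFibre

/-- For a morphism f : X ⟶ Y of algebraic spaces over S, being a closed immersion (representable by
closed immersions) is equivalent to each of: (a) universally closed plus unramified plus
monomorphism; (b) universally closed plus unramified plus universally injective; (c) a universally
closed monomorphism that is locally of finite type; (d) universally closed, universally injective,
locally of finite type and formally unramified (lifting sense). (Unramified is the etale-local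
condition locally of finite type and formally unramified on charts; monomorphisms are taken in fppf
sheaves.) -/
theorem result {S : Scheme.{u}} {X Y : AlgSp.Space S} (f : X ⟶ Y) :
    (AlgSp.RepWith @IsClosedImmersion f.hom ↔
      (AlgSp.IsUnivClosedMor f.hom ∧ AlgSp.LocP (@LocallyOfFiniteType ⊓ @FormallyUnramified) f.hom ∧ Mono f.hom)) ∧
    (AlgSp.RepWith @IsClosedImmersion f.hom ↔
      (AlgSp.IsUnivClosedMor f.hom ∧ AlgSp.LocP (@LocallyOfFiniteType ⊓ @FormallyUnramified) f.hom ∧ AlgSp.IsUnivInjectiveMor f.hom)) ∧
    (AlgSp.RepWith @IsClosedImmersion f.hom ↔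
      (AlgSp.IsUnivClosedMor f.hom ∧ AlgSp.LocP @LocallyOfFiniteType f.hom ∧ Mono f.hom)) ∧
    (AlgSp.RepWith @IsClosedImmersion f.hom ↔
      (AlgSp.IsUnivClosedMor f.hom ∧ AlgSp.IsUnivInjectiveMor f.hom ∧ AlgSp.LocP @LocallyOfFiniteType f.hom ∧
        AlgSp.IsFormallyUnramifiedMor f.hom)) := by
  have hX := X.property
  have hY := Y.property
  have e613 := Groth.Agent.S10613.result f
  have main : AlgSp.RepWith @IsClosedImmersion f.hom ↔
      (AlgSp.IsUnivClosedMor f.hom ∧ AlgSp.LocP @LocallyOfFiniteType f.hom ∧ Mono f.hom) := by
    constructor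
    · intro hCI
      refine ⟨Groth.Agent.Lib.Helper30.isUnivClosedMor_of_repWith_isClosedImmersion hCI, ?_, ?_⟩
      · have hl : AlgSp.RepWith @LocallyOfFiniteType f.hom := by
          refine MorphismProperty.relative_monotone ?_ _ hCI
          intro A B k hk
          have : IsClosedImmersion k.left := hk
          show LocallyOfFiniteType k.left
          infer_instance
        exact Groth.Agent.Lib.Helper78.AlgSpMisc.locP_of_repWith
          Groth.Agent.Lib.Helper78.AlgSpLocPLoft.etLocalST_loft f.hom hY.atlas hl
      · exact mono_of_repWith (P := @IsClosedImmersion)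
          (fun g (_ : IsClosedImmersion g) => inferInstance) hCI
    · rintro ⟨huc, hL, hM⟩
      have hrep := representable_of_mono_lft hX hY f.hom hL
      have hUC : AlgSp.RepWith @UniversallyClosed f.hom := (Groth.Agent.S9922.result f hrep).2 huc
      refine ⟨hrep, ?_⟩
      intro T V g fst snd sq
      have h1 : UniversallyClosed snd.left := hUC.2 g fst snd sq
      have h2 : LocallyOfFiniteType snd.left :=
        AlgSp.locP_yon_map (Groth.Agent.Lib.Helper78.AlgSpLocP.locP_of_isPullback
          Groth.Agent.Lib.Helper78.AlgSpLocPLoft.etLocalST_loft sq (repAll_of_isAlgSpace hY)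
          hX.atlas hY.atlas hL)
      have h3 : Mono ((AlgSp.yon S).map snd) := sq.mono_snd_of_mono
      have h4 : Mono snd := (AlgSp.yon S).mono_of_mono_map h3
      have h5 : Mono snd.left := inferInstance
      have h6 : IsProper snd.left := { }
      exact (IsClosedImmersion.iff_isProper_and_mono _).2 ⟨h6, h5⟩
  refine ⟨main.trans ?_, main.trans ?_, main, main.trans ?_⟩
  · exact and_congr_right fun _ => e613.2.1.symm
  · exact and_congr_right fun _ => e613.2.1.symm.trans e613.1
  · exact and_congr_right fun _ => e613.2.1.symm.trans e613.2.2.1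

end Groth.Agent.S10614
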