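import Groth.Statements.S10649
import Groth.Agent.Lib.Helper30.AlgSpFibreDiscrete
import Groth.Agent.Lib.Helper30.AlgSpFiniteProper
import Groth.Agent.Lib.Helper30.AlgSpUCqc
import Groth.Agent.S10271
import Groth.Agent.S10267
-- import your own Groth.Agent.* helpers here

set_option autoImplicit false
universe u
open CategoryTheory CategoryTheory.Limits AlgebraicGeometry
open AlgSp

namespace Groth.Agent.S10649


/-- The following conditions on a morphism f : X ⟶ Y of algebraic spaces over S are equivalent: (1)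
finiteness of f; (2) f is locally quasi-finite as well as proper (locally quasi-finite and locally
of finite type etale locally); (3) f is proper and for every field k and every k-point Spec k ⟶ Y
the fibre X_k (any pullback of f along it in fppf sheaves) has discrete space of points; (4) f is
universally closed, separated and locally of finite type, and every such fibre X_k has discrete
space of points. -/
theorem result {S : Scheme.{u}} {X Y : AlgSp.Space S} (f : X ⟶ Y) :
    [AlgSp.IsFiniteMor f.hom,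
      AlgSp.IsProperMor f.hom ∧ AlgSp.LocP (@LocallyQuasiFinite ⊓ @LocallyOfFiniteType) f.hom,
      AlgSp.IsProperMor f.hom ∧
        ∀ (k : AlgSp.FieldPt Y.obj) (Xk : AlgSp.Sp S) (fst : Xk ⟶ X.obj) (snd : Xk ⟶ (AlgSp.yon S).obj k.pt),
          IsPullback fst snd f.hom k.toHom → DiscreteTopology (AlgSp.Points Xk),
      AlgSp.IsUnivClosedMor f.hom ∧ AlgSp.IsSeparatedMor f.hom ∧ AlgSp.LocP @LocallyOfFiniteType f.hom ∧
        ∀ (k : AlgSp.FieldPt Y.obj) (Xk : AlgSp.Sp S) (fst : Xk ⟶ X.obj) (snd : Xk ⟶ (AlgSp.yon S).obj k.pt),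
          IsPullback fst snd f.hom k.toHom → DiscreteTopology (AlgSp.Points Xk)].TFAE := by
  -- translation between the two forms of the fibre condition
  have hfib : (∀ (k : AlgSp.FieldPt Y.obj) (Xk : AlgSp.Sp S) (fst : Xk ⟶ X.obj)
        (snd : Xk ⟶ (AlgSp.yon S).obj k.pt),
        IsPullback fst snd f.hom k.toHom → DiscreteTopology (AlgSp.Points Xk)) ↔
      (∀ (k : Type u) [Field k] (str : Spec (CommRingCat.of k) ⟶ S)
        (y : (AlgSp.yon S).obj (Over.mk str) ⟶ Y.obj) (P : AlgSp.Sp S) (fst : P ⟶ X.obj)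
        (snd : P ⟶ (AlgSp.yon S).obj (Over.mk str)),
        IsPullback fst snd f.hom y → DiscreteTopology (AlgSp.Points P)) := by
    constructor
    · intro H k _ str y P fst snd sq
      have := H ⟨k, str, (AlgSp.J S).uliftYonedaEquiv y⟩ P fst snd
      refine this ?_
      have e : (AlgSp.FieldPt.toHom ⟨k, str, (AlgSp.J S).uliftYonedaEquiv y⟩ :
          (AlgSp.yon S).obj (Over.mk str) ⟶ Y.obj) = y :=
        Equiv.symm_apply_apply _ _
      rw [e]; exact sq
    · intro H k Xk fst snd sq
      exact H k.K k.str k.toHom Xk fst snd sq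
  have h12 : AlgSp.IsFiniteMor f.hom →
      AlgSp.IsProperMor f.hom ∧ AlgSp.LocP (@LocallyQuasiFinite ⊓ @LocallyOfFiniteType) f.hom := by
    intro h
    refine ⟨((Groth.Agent.S10271.result f).1 h).2, ?_⟩
    have hrep : AlgSp.RepWith @IsFinite f.hom := (Groth.Agent.S10267.result f).2.1 h
    have hrep' : AlgSp.RepWith (@LocallyQuasiFinite ⊓ @LocallyOfFiniteType) f.hom := by
      refine ⟨hrep.1, fun _ _ g fst snd sq => ?_⟩
      have : IsFinite snd.left := hrep.2 g fst snd sq
      exact ⟨(inferInstance : LocallyQuasiFinite snd.left),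
        (inferInstance : LocallyOfFiniteType snd.left)⟩
    exact Groth.Agent.Lib.Helper78.AlgSpMisc.locP_of_repWith
      Groth.Agent.Lib.Helper78.AlgSpLocPLqf.etLocalST_lqf _ Y.property.atlas hrep'
  tfae_have 1 → 2 := h12
  tfae_have 2 → 1 := fun ⟨hp, hq⟩ =>
    Groth.Agent.Lib.Helper30.ZMT.isFiniteMor_of_isProperMor_of_lqf X.property Y.property f.hom hp hq
  tfae_have 2 → 3 := fun ⟨hp, hq⟩ => ⟨hp, hfib.2 fun k _ str y P fst snd sq =>
    Groth.Agent.Lib.Helper30.FibDisc.discreteTopology_fibre_of_lqf X.property Y.property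
      f.hom hq k str y P fst snd sq⟩
  tfae_have 3 → 4 := fun ⟨⟨hs, ⟨hl, _⟩, hu⟩, hd⟩ => ⟨hu, hs, hl, hd⟩
  tfae_have 4 → 2 := fun ⟨hu, hs, hl, hd⟩ =>
    ⟨⟨hs, ⟨hl, Groth.Agent.Lib.Helper30.isQuasiCompactMor_of_isUnivClosedMor X.property Y.property
      f.hom hu⟩, hu⟩,
      Groth.Agent.Lib.Helper30.FibDisc.lqf_of_discrete_fibres X.property Y.property f.hom hl
        (hfib.1 hd)⟩
  tfae_finish

end Groth.Agent.S10649
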