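import Groth.Statements.S9934
import Groth.Agent.Lib.Helper52.Points

set_option autoImplicit false
universe u
open CategoryTheory CategoryTheory.Limits AlgebraicGeometry
open AlgSp

namespace Groth.Agent.S9934

/-- An immersion of algebraic spaces is a closed immersion exactly when its image on points is closed. -/
theorem result {S : Scheme.{u}} {Z X : AlgSp.Space S} (i : Z ⟶ X)
    (hi : AlgSp.RepWith @IsImmersion i.hom) :
    AlgSp.RepWith @IsClosedImmersion i.hom ↔ IsClosed (Set.range (AlgSp.Points.map i.hom)) := by
  constructor
  · intro h
    rw [← isOpen_compl_iff, AlgSp.Points.isOpen_iff]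
    intro T g
    have sq := h.rep.isPullback g
    have e : AlgSp.Points.ofPt g ⁻¹' (Set.range (AlgSp.Points.map i.hom))ᶜ =
        (Set.range (h.rep.snd g).left)ᶜ := by
      ext t
      simp only [Set.mem_preimage, Set.mem_compl_iff]
      rw [Groth.Agent.Lib.Helper52.ofPt_mem_range_map_iff sq t]
    rw [e, isOpen_compl_iff]
    have hc : IsClosedImmersion (h.rep.snd g).left := h.property_snd g
    exact (h.rep.snd g).left.isClosedEmbedding.isClosed_range
  · intro h
    refine ⟨hi.rep, ?_⟩
    intro U V g fst snd sq
    show IsClosedImmersion snd.left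
    have him : IsImmersion snd.left := hi.property g fst snd sq
    refine IsClosedImmersion.of_isPreimmersion snd.left ?_
    have e : Set.range snd.left = AlgSp.Points.ofPt g ⁻¹' (Set.range (AlgSp.Points.map i.hom)) := by
      ext t
      simp only [Set.mem_preimage]
      rw [Groth.Agent.Lib.Helper52.ofPt_mem_range_map_iff sq t]
    rw [e]
    exact h.preimage (AlgSp.Points.continuous_ofPt g)

end Groth.Agent.S9934
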