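import Groth.Statements.S1191
import Mathlib
-- import your own Groth.Agent.* helpers here

set_option autoImplicit false
universe u
open FlatMor

namespace Groth.Agent.S1191

open TensorProduct in
lemma le_fiberIdeal_of_forall {R S : Type u} [CommRing R] [CommRing S] [Algebra R S]
    (p : Ideal R) [p.IsPrime] (q : Ideal S) (r : Ideal (p.Fiber S))
    (h : ∀ s : S, (1 : p.ResidueField) ⊗ₜ[R] s ∈ r → s ∈ q) : r ≤ FlatCA.fiberIdeal p q := by
  intro x hx
  obtain ⟨a, ha, s, e⟩ := Ideal.Fiber.exists_smul_eq_one_tmul p x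
  have h1 : (1 : p.ResidueField) ⊗ₜ[R] s ∈ r := by
    rw [← e]; exact Submodule.smul_of_tower_mem r a hx
  have h2 : (1 : p.ResidueField) ⊗ₜ[R] s ∈ FlatCA.fiberIdeal p q :=
    Ideal.mem_map_of_mem _ (h s h1)
  rw [← e] at h2
  have hu : algebraMap R p.ResidueField a ≠ 0 := by
    rwa [Ne, Ideal.algebraMap_residueField_eq_zero]
  have hx' : x = ((algebraMap R p.ResidueField a)⁻¹ ⊗ₜ[R] (1 : S)) * (a • x) := by
    rw [Algebra.smul_def, ← mul_assoc, Algebra.TensorProduct.algebraMap_apply,
      Algebra.TensorProduct.tmul_mul_tmul, inv_mul_cancel₀ hu, mul_one,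
      ← Algebra.TensorProduct.one_def, one_mul]
  rw [hx']
  exact Ideal.mul_mem_left _ _ h2

open TensorProduct in
/-- For a finitely presented algebra S over R, a finitely presented S-module N and a prime q of S over
p, some element of S outside q maps into every associated prime of the fibre module of N over p that
is not contained in the extension of q to the fibre ring. -/
theorem result {R S : Type u} [CommRing R] [CommRing S] [Algebra R S] [Algebra.FinitePresentation R S]
    (N : Type u) [AddCommGroup N] [Module S N] [Module R N] [IsScalarTower R S N] [Module.FinitePresentation S N]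
    (p : Ideal R) [p.IsPrime] (q : Ideal S) [q.IsPrime] [q.LiesOver p] :
    ∃ g : S, g ∉ q ∧ ∀ r ∈ associatedPrimes (p.Fiber S) (FlatCA.fiberMod p S N),
      ¬ r ≤ FlatCA.fiberIdeal p q → (1 : p.ResidueField) ⊗ₜ[R] g ∈ r := by
  classical
  letI : Algebra S (p.Fiber S) := Algebra.TensorProduct.rightAlgebra
  haveI : IsNoetherianRing (p.Fiber S) :=
    Algebra.FiniteType.isNoetherianRing p.ResidueField (p.Fiber S)
  haveI : Module.Finite (p.Fiber S) (FlatCA.fiberMod p S N) :=
    inferInstanceAs (Module.Finite (p.Fiber S) (TensorProduct S (p.Fiber S) N))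
  have hfin := associatedPrimes.finite (p.Fiber S) (FlatCA.fiberMod p S N)
  have key : ∀ r : Ideal (p.Fiber S), ¬ r ≤ FlatCA.fiberIdeal p q →
      ∃ g : S, g ∉ q ∧ TensorProduct.tmul R (1 : p.ResidueField) g ∈ r := by
    intro r hr
    by_contra hcon
    push Not at hcon
    exact hr (le_fiberIdeal_of_forall p q r
      (fun s hs => by_contra fun hsq => hcon s hsq hs))
  choose! gfun hg using key
  refine ⟨∏ r ∈ hfin.toFinset.filter (fun r => ¬ r ≤ FlatCA.fiberIdeal p q), gfun r, ?_, ?_⟩
  · intro hmem
    obtain ⟨r, hrT, hrq⟩ := Ideal.IsPrime.prod_mem_iff.1 hmem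
    exact (hg r (Finset.mem_filter.1 hrT).2).1 hrq
  · intro r hr hnle
    have hrT : r ∈ hfin.toFinset.filter (fun r => ¬ r ≤ FlatCA.fiberIdeal p q) :=
      Finset.mem_filter.2 ⟨hfin.mem_toFinset.2 hr, hnle⟩
    have h1 := (hg r hnle).2
    show (Algebra.TensorProduct.includeRight (R := R) (A := p.ResidueField) (B := S))
      (∏ r' ∈ hfin.toFinset.filter (fun r => ¬ r ≤ FlatCA.fiberIdeal p q), gfun r') ∈ r
    rw [map_prod]
    exact Ideal.mem_of_dvd r (Finset.dvd_prod_of_mem
      (fun r' => (Algebra.TensorProduct.includeRight (R := R) (A := p.ResidueField) (B := S))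
        (gfun r')) hrT) h1

end Groth.Agent.S1191
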