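import Groth.Statements.S2069
import Mathlib

set_option autoImplicit false
universe u
open CAlg

namespace Groth.Agent.S2069

open TensorProduct

section aux

variable {R S : Type u} [CommRing R] [CommRing S] [Algebra R S]
variable {N : Type u} [AddCommGroup N] [Module S N] [Module R N] [IsScalarTower R S N]

/-- `n ↦ n ⊗ 1`, as an `S`-linear map `N → N ⊗ R/p`. -/
noncomputable def toQ (p : Ideal R) : N →ₗ[S] N ⊗[R] (R ⧸ p) where
  toFun n := n ⊗ₜ[R] (1 : R ⧸ p)
  map_add' a b := TensorProduct.add_tmul a b 1
  map_smul' s n := (TensorProduct.smul_tmul' s n (1 : R ⧸ p)).symm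

lemma toQ_apply (p : Ideal R) (n : N) : toQ (S := S) p n = n ⊗ₜ[R] (1 : R ⧸ p) := rfl

lemma toQ_surjective (p : Ideal R) : Function.Surjective (toQ (S := S) (N := N) p) := by
  intro t
  induction t using TensorProduct.induction_on with
  | zero => exact ⟨0, map_zero _⟩
  | tmul n r =>
    obtain ⟨r, rfl⟩ := Ideal.Quotient.mk_surjective r
    refine ⟨r • n, ?_⟩
    rw [toQ_apply, TensorProduct.smul_tmul]
    congr 1
    rw [← Ideal.Quotient.algebraMap_eq, Algebra.algebraMap_eq_smul_one]
  | add x y hx hy =>
    obtain ⟨a, rfl⟩ := hx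
    obtain ⟨b, rfl⟩ := hy
    exact ⟨a + b, map_add _ _ _⟩

/-- elements of `p` kill `N ⊗ R/p` -/
lemma smul_tensorQuot_eq_zero (p : Ideal R) (a : R) (ha : a ∈ p) (t : N ⊗[R] (R ⧸ p)) :
    a • t = 0 := by
  induction t using TensorProduct.induction_on with
  | zero => simp
  | tmul n r =>
    obtain ⟨r, rfl⟩ := Ideal.Quotient.mk_surjective r
    rw [← TensorProduct.tmul_smul]
    have : a • (Ideal.Quotient.mk p r) = 0 := by
      rw [← Ideal.Quotient.mk_eq_mk, ← Submodule.Quotient.mk_smul, Submodule.Quotient.mk_eq_zero]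
      exact p.mul_mem_right r ha
    rw [this, TensorProduct.tmul_zero]
  | add x y hx hy => rw [smul_add, hx, hy, add_zero]

/-- elements of `pS` kill `N ⊗ R/p` -/
lemma map_smul_tensorQuot_eq_zero (p : Ideal R) (s : S) (hs : s ∈ p.map (algebraMap R S))
    (t : N ⊗[R] (R ⧸ p)) : s • t = 0 := by
  induction hs using Submodule.span_induction with
  | mem x hx =>
    obtain ⟨a, ha, rfl⟩ := hx
    rw [algebraMap_smul]
    exact smul_tensorQuot_eq_zero p a ha t
  | zero => simp
  | add x y _ _ hx hy => rw [add_smul, hx, hy, add_zero]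
  | smul c x _ hx => rw [smul_eq_mul, mul_smul, hx, smul_zero]

lemma ker_toQ (p : Ideal R) :
    LinearMap.ker (toQ (S := S) (N := N) p) = p.map (algebraMap R S) • (⊤ : Submodule S N) := by
  apply le_antisymm
  · intro n hn
    rw [LinearMap.mem_ker, toQ_apply] at hn
    have h1 : (Submodule.Quotient.mk n : N ⧸ (p • ⊤ : Submodule R N)) = 0 := by
      have := congrArg (TensorProduct.tensorQuotEquivQuotSMul N p) hn
      rw [map_zero, ← map_one (Ideal.Quotient.mk p),
        TensorProduct.tensorQuotEquivQuotSMul_tmul_mk, one_smul] at this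
      exact this
    rw [Submodule.Quotient.mk_eq_zero] at h1
    have h2 : (p • ⊤ : Submodule R N) ≤
        (p.map (algebraMap R S) • (⊤ : Submodule S N)).restrictScalars R := by
      rw [Submodule.smul_le]
      intro a ha m _
      rw [Submodule.restrictScalars_mem, ← algebraMap_smul S a m]
      exact Submodule.smul_mem_smul (Ideal.mem_map_of_mem _ ha) trivial
    exact h2 h1
  · rw [Submodule.smul_le]
    intro s hs n _
    rw [LinearMap.mem_ker, map_smul]
    exact map_smul_tensorQuot_eq_zero p s hs _

/-- `N/pSN ≃ N ⊗ R/p`, `S`-linearly. -/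
noncomputable def quotEquiv (p : Ideal R) :
    (N ⧸ p.map (algebraMap R S) • (⊤ : Submodule S N)) ≃ₗ[S] N ⊗[R] (R ⧸ p) :=
  (Submodule.quotEquivOfEq _ _ (ker_toQ p).symm).trans
    ((toQ (S := S) (N := N) p).quotKerEquivOfSurjective (toQ_surjective p))

lemma assPrimes_quot_eq (p : Ideal R) :
    associatedPrimes S (N ⧸ p.map (algebraMap R S) • (⊤ : Submodule S N)) =
      associatedPrimes S (N ⊗[R] (R ⧸ p)) :=
  LinearEquiv.AssociatedPrimes.eq (quotEquiv p)

variable [Module.Flat R N]

lemma lT_injective {P Q : Type u} [AddCommGroup P] [Module R P] [AddCommGroup Q] [Module R Q]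
    (f : P →ₗ[R] Q) (hf : Function.Injective f) :
    Function.Injective (TensorProduct.AlgebraTensorModule.lTensor S N f) := by
  rw [TensorProduct.AlgebraTensorModule.coe_lTensor]
  exact Module.Flat.lTensor_preserves_injective_linearMap f hf

/-- An associated prime of `N ⊗ R/p'` contracts to `p'`. -/
lemma comap_eq_of_mem (p' : Ideal R) [p'.IsPrime] (q : Ideal S)
    (hq : q ∈ associatedPrimes S (N ⊗[R] (R ⧸ p'))) : q.comap (algebraMap R S) = p' := by
  obtain ⟨hqp, t, ht⟩ := hq
  apply le_antisymm
  · intro a ha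
    rw [Ideal.mem_comap, ht] at ha
    obtain ⟨k, hk⟩ := ha
    rw [Submodule.mem_colon_singleton, Submodule.mem_bot, ← map_pow, algebraMap_smul] at hk
    by_contra hap
    -- multiplication by `a ^ k` is injective on `R/p'`, hence on `N ⊗ R/p'`
    have hapk : a ^ k ∉ p' := fun h => hap (Ideal.IsPrime.mem_of_pow_mem ‹_› k h)
    let f : (R ⧸ p') →ₗ[R] (R ⧸ p') := (a ^ k) • LinearMap.id
    have hf : Function.Injective f := by
      rw [injective_iff_map_eq_zero]
      intro x hx
      obtain ⟨r, rfl⟩ := Ideal.Quotient.mk_surjective x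
      have hx' : Ideal.Quotient.mk p' (a ^ k * r) = 0 := by
        have h1 : f (Ideal.Quotient.mk p' r) = (a ^ k) • (Ideal.Quotient.mk p' r) := rfl
        rw [h1, Algebra.smul_def, Ideal.Quotient.algebraMap_eq, ← map_mul] at hx
        exact hx
      rw [Ideal.Quotient.eq_zero_iff_mem] at hx' ⊢
      exact (Ideal.IsPrime.mem_or_mem ‹_› hx').resolve_left hapk
    have hf' := Module.Flat.lTensor_preserves_injective_linearMap (M := N) f hf
    have h0 : f.lTensor N t = 0 := by
      simp only [f, LinearMap.lTensor_smul, LinearMap.lTensor_id, LinearMap.smul_apply,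
        LinearMap.id_coe, id_eq]
      exact hk
    have ht0 : t = 0 := hf' (by rw [h0, map_zero])
    apply hqp.ne_top
    rw [ht, ht0, Ideal.radical_eq_top, Ideal.eq_top_iff_one, Submodule.mem_colon_singleton]
    simp
  · intro a ha
    rw [Ideal.mem_comap, ht]
    apply Ideal.le_radical
    rw [Submodule.mem_colon_singleton, Submodule.mem_bot, algebraMap_smul]
    exact smul_tensorQuot_eq_zero p' a ha t

/-- Filtration argument: for a finite module `L`, an associated prime `q` of `N ⊗ L` is associated to
`N ⊗ R/(q ∩ R)`. -/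
lemma mem_of_finite [IsNoetherianRing R] (q : Ideal S) (L : Type u) [AddCommGroup L] [Module R L]
    [Module.Finite R L] :
    q ∈ associatedPrimes S (N ⊗[R] L) →
      q ∈ associatedPrimes S (N ⊗[R] (R ⧸ q.comap (algebraMap R S))) := by
  induction ‹Module.Finite R L› using
    IsNoetherianRing.induction_on_isQuotientEquivQuotientPrime R with
  | subsingleton L =>
    intro h
    have : Subsingleton (N ⊗[R] L) := by
      refine ⟨fun x y => ?_⟩
      have h0 : ∀ t : N ⊗[R] L, t = 0 := by
        intro t
        induction t using TensorProduct.induction_on with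
        | zero => rfl
        | tmul n l => rw [Subsingleton.elim l 0, TensorProduct.tmul_zero]
        | add x y hx hy => rw [hx, hy, add_zero]
      rw [h0 x, h0 y]
    rw [associatedPrimes.eq_empty_of_subsingleton] at h
    exact absurd h (Set.notMem_empty _)
  | quotient L p' e =>
    intro h
    have e' : (N ⊗[R] L) ≃ₗ[S] (N ⊗[R] (R ⧸ p'.asIdeal)) :=
      TensorProduct.AlgebraTensorModule.congr (LinearEquiv.refl S N) e
    rw [LinearEquiv.AssociatedPrimes.eq e'] at h
    have := comap_eq_of_mem p'.asIdeal q h
    rw [this]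
    exact h
  | exact L₁ L₂ L₃ f g hf hg hfg ih₁ ih₃ =>
    intro h
    have hex : Function.Exact (TensorProduct.AlgebraTensorModule.lTensor S N f)
        (TensorProduct.AlgebraTensorModule.lTensor S N g) := by
      rw [TensorProduct.AlgebraTensorModule.coe_lTensor,
        TensorProduct.AlgebraTensorModule.coe_lTensor]
      exact lTensor_exact N hfg hg
    rcases associatedPrimes.subset_union_of_exact (lT_injective f hf) hex h with h1 | h3
    · exact ih₁ h1
    · exact ih₃ h3

variable {M : Type u} [AddCommGroup M] [Module R M]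

/-- The contraction of an associated prime of `N ⊗ M` is an associated prime of `M`. -/
lemma comap_mem [IsNoetherianRing R] (q : Ideal S) (hq : q ∈ associatedPrimes S (N ⊗[R] M)) :
    q.comap (algebraMap R S) ∈ associatedPrimes R M := by
  classical
  obtain ⟨hqp, z, hz⟩ := hq
  -- the annihilator of `z` in `R`
  obtain ⟨J, hJ⟩ : ∃ J : Ideal R, J =
      ((⊥ : Submodule S (N ⊗[R] M)).colon {z}).comap (algebraMap R S) := ⟨_, rfl⟩
  have hJmem : ∀ r : R, r ∈ J ↔ r • z = 0 := by
    intro r
    rw [hJ, Ideal.mem_comap, Submodule.mem_colon_singleton, Submodule.mem_bot, algebraMap_smul]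
  have hrad : q.comap (algebraMap R S) = J.radical := by
    rw [hz, Ideal.comap_radical, hJ]
  obtain ⟨s, hs⟩ : ∃ s : Finset R, Ideal.span (s : Set R) = J :=
    (IsNoetherian.noetherian J)
  -- `M' = (0 :_M J)`
  let g : M →ₗ[R] (s → M) := LinearMap.pi (fun i => LinearMap.lsmul R M (i : R))
  have hgz : g.lTensor N z = 0 := by
    apply (TensorProduct.piRight R R N (fun _ : s => M)).injective
    rw [map_zero]
    have key : ∀ w : N ⊗[R] M, (TensorProduct.piRight R R N (fun _ : s => M)) (g.lTensor N w) =
        fun i : s => (i : R) • w := by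
      intro w
      induction w using TensorProduct.induction_on with
      | zero => funext i; simp
      | tmul n m =>
        funext i
        simp [g, TensorProduct.tmul_smul]
      | add x y hx hy =>
        rw [map_add, map_add, hx, hy]
        funext i
        simp
    rw [key]
    funext i
    have : (i : R) ∈ J := hs ▸ Ideal.subset_span i.2
    exact (hJmem _).1 this
  have hex := Module.Flat.lTensor_exact N (LinearMap.exact_subtype_ker_map g)
  obtain ⟨z₁, hz₁⟩ := (hex z).1 hgz
  -- some element of `M' = ker g` is only killed by elements of `q ∩ R`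
  have hexists : ∃ m ∈ LinearMap.ker g, ∀ r : R, r • m = 0 → r ∈ q.comap (algebraMap R S) := by
    by_contra hcon
    push Not at hcon
    have hkill : ∀ w : N ⊗[R] (LinearMap.ker g), ∃ r : R, r ∉ q.comap (algebraMap R S) ∧ r • w = 0 := by
      intro w
      induction w using TensorProduct.induction_on with
      | zero => exact ⟨1, (Ideal.ne_top_iff_one _).1 (Ideal.IsPrime.ne_top inferInstance), by simp⟩
      | tmul n m =>
        obtain ⟨r, hr0, hr⟩ := hcon m.1 m.2
        refine ⟨r, hr, ?_⟩
        rw [← TensorProduct.tmul_smul]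
        have : r • m = 0 := Subtype.ext hr0
        rw [this, TensorProduct.tmul_zero]
      | add x y hx hy =>
        obtain ⟨r₁, h₁, h₁'⟩ := hx
        obtain ⟨r₂, h₂, h₂'⟩ := hy
        refine ⟨r₁ * r₂, fun h => ?_, ?_⟩
        · exact (Ideal.IsPrime.mem_or_mem inferInstance h).elim h₁ h₂
        · have e1 : (r₁ * r₂) • x = 0 := by rw [mul_comm, mul_smul, h₁', smul_zero]
          have e2 : (r₁ * r₂) • y = 0 := by rw [mul_smul, h₂', smul_zero]
          rw [smul_add, e1, e2, add_zero]
    obtain ⟨r, hr, hr0⟩ := hkill z₁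
    apply hr
    rw [hrad]
    apply Ideal.le_radical
    rw [hJmem, ← hz₁, ← map_smul, hr0, map_zero]
  obtain ⟨m, hm, hmr⟩ := hexists
  refine ⟨inferInstance, m, ?_⟩
  apply le_antisymm
  · rw [hrad]
    apply Ideal.radical_mono
    rw [← hs, Ideal.span_le]
    intro i hi
    rw [SetLike.mem_coe, Submodule.mem_colon_singleton, Submodule.mem_bot]
    have := congrFun (LinearMap.mem_ker.1 hm) ⟨i, hi⟩
    simpa [g] using this
  · intro r hr
    obtain ⟨k, hk⟩ := hr
    rw [Submodule.mem_colon_singleton, Submodule.mem_bot] at hk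
    exact Ideal.IsPrime.mem_of_pow_mem inferInstance k (hmr _ hk)

end aux

open TensorProduct in
/-- Let `R → S` be a ring map, `M` an `R`-module and `N` an `S`-module flat over `R`. Then a prime of
`S` is associated to `N ⊗_R M` if and only if it is associated to `N/𝔭N` for some prime `𝔭` of `R`
associated to `M`. -/
theorem result {R S M N : Type u} [CommRing R] [IsNoetherianRing R] [CommRing S]
    [Algebra R S] [AddCommGroup M] [Module R M] [AddCommGroup N] [Module S N] [Module R N]
    [IsScalarTower R S N] [Module.Flat R N] :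
    associatedPrimes S (N ⊗[R] M) =
      ⋃ p ∈ associatedPrimes R M, associatedPrimes S (N ⧸ p.map (algebraMap R S) • (⊤ : Submodule S N)) := by
  ext q
  simp only [Set.mem_iUnion, exists_prop]
  constructor
  · intro hq
    refine ⟨q.comap (algebraMap R S), comap_mem q hq, ?_⟩
    rw [assPrimes_quot_eq]
    obtain ⟨hqp, z, hz⟩ := hq
    obtain ⟨M₃, hfin, hM₃⟩ := TensorProduct.exists_finite_submodule_right_of_setFinite
      ({z} : Set (N ⊗[R] M)) (Set.finite_singleton z)
    obtain ⟨z₃, hz₃⟩ := hM₃ (Set.mem_singleton z)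
    have hinj := lT_injective (S := S) (N := N) M₃.subtype (Submodule.injective_subtype _)
    have hz₃' : TensorProduct.AlgebraTensorModule.lTensor S N M₃.subtype z₃ = z := hz₃
    apply mem_of_finite q M₃
    refine ⟨hqp, z₃, ?_⟩
    rw [hz]
    congr 1
    ext s
    rw [Submodule.mem_colon_singleton, Submodule.mem_colon_singleton, Submodule.mem_bot,
      Submodule.mem_bot, ← hz₃', ← map_smul]
    exact ⟨fun h => hinj (by rw [h, map_zero]), fun h => by rw [h, map_zero]⟩
  · rintro ⟨p, hp, hq⟩
    rw [assPrimes_quot_eq] at hq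
    obtain ⟨hpp, g, hg⟩ := (isAssociatedPrime_iff_exists_injective_linearMap p M).1 hp
    exact associatedPrimes.subset_of_injective (lT_injective (S := S) (N := N) g hg) hq

end Groth.Agent.S2069
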