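import Groth.Statements.S2106
import Groth.Agent.Lib.Helper54.FibMod6
import Groth.Agent.Lib.Helper54.FibMod7
import Groth.Agent.Lib.Helper54.FibMod8
import Groth.Agent.Lib.Helper54.EssLoc1
import Groth.Agent.S0387

set_option maxHeartbeats 1000000
set_option linter.style.haveILetI false

set_option autoImplicit false
universe u
open CAlg

namespace Groth.Agent.S2106

open Groth.Agent.Lib.Helper54

theorem le_primeCompl' {S₀ S : Type*} [CommRing S₀] [CommRing S] [IsLocalRing S] [Algebra S₀ S]
    (W : Submonoid S₀) [IsLocalization W S] (r₀ : Ideal S₀) [r₀.IsPrime]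
    (h : r₀ = (IsLocalRing.maximalIdeal S).comap (algebraMap S₀ S)) : W ≤ r₀.primeCompl := by
  subst h; exact FibMod7.le_primeCompl W

theorem isLocalization_atPrime' {S₀ S : Type*} [CommRing S₀] [CommRing S] [IsLocalRing S]
    [Algebra S₀ S] (W : Submonoid S₀) [IsLocalization W S] (r₀ : Ideal S₀) [r₀.IsPrime]
    (h : r₀ = (IsLocalRing.maximalIdeal S).comap (algebraMap S₀ S)) :
    IsLocalization.AtPrime S r₀ := by
  subst h; exact EssLoc1.isLocalization_atPrime W

theorem aux {R S₀ S'₀ S S' M M₀ : Type u} [CommRing R] [CommRing S₀] [CommRing S'₀]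
    [CommRing S] [CommRing S']
    [IsLocalRing R] [IsLocalRing S] [IsLocalRing S'] [Algebra R S] [Algebra S S'] [Algebra R S']
    [IsScalarTower R S S'] [IsLocalHom (algebraMap R S)] [IsLocalHom (algebraMap S S')]
    [Algebra R S₀] [Algebra S₀ S] [IsScalarTower R S₀ S] [Algebra.FinitePresentation R S₀]
    [Algebra R S'₀] [Algebra S'₀ S'] [IsScalarTower R S'₀ S'] [Algebra.FinitePresentation R S'₀]
    (W : Submonoid S₀) [IsLocalization W S] (W' : Submonoid S'₀) [IsLocalization W' S']
    [AddCommGroup M] [Module S' M] [Module S M] [Module R M] [IsScalarTower S S' M]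
    [IsScalarTower R S' M] [IsScalarTower R S M] [Nontrivial M] [Module.Flat R M]
    [Module S'₀ M] [IsScalarTower S'₀ S' M]
    [AddCommGroup M₀] [Module S'₀ M₀] [Module.FinitePresentation S'₀ M₀] [Module R M₀]
    [IsScalarTower R S'₀ M₀]
    (f₀ : M₀ →ₗ[S'₀] M) [IsLocalizedModule W' f₀]
    (hfib : Module.Flat (S ⧸ (IsLocalRing.maximalIdeal R).map (algebraMap R S))
      (M ⧸ (IsLocalRing.maximalIdeal R).map (algebraMap R S) • (⊤ : Submodule S M))) :
    Module.Flat R S ∧ Module.Flat S M := by
  classical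
  -- the prime `r₀` of `S'₀`
  obtain ⟨r₀, hr₀def⟩ : ∃ r₀ : Ideal S'₀,
      r₀ = (IsLocalRing.maximalIdeal S').comap (algebraMap S'₀ S') := ⟨_, rfl⟩
  haveI hr₀ : r₀.IsPrime := by rw [hr₀def]; infer_instance
  have hW'le : W' ≤ r₀.primeCompl := le_primeCompl' W' r₀ hr₀def
  haveI hf₀r : IsLocalizedModule r₀.primeCompl f₀ :=
    IsLocalizedModule.of_exists_mul_mem W' r₀.primeCompl hW'le
      (fun x => FibMod7.exists_mul_mem W' x.1 (by rw [← hr₀def]; exact x.2)) f₀
  haveI tRS'₀M : IsScalarTower R S'₀ M := by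
    refine ⟨fun a s m => ?_⟩
    rw [← algebraMap_smul S' (a • s) m, ← algebraMap_smul S' s m, Algebra.smul_def, map_mul,
      ← IsScalarTower.algebraMap_apply, mul_smul, algebraMap_smul]
  -- flatness at `r₀`
  have hflat_r₀ : Module.Flat R (LocalizedModule r₀.primeCompl M₀) := by
    let e : LocalizedModule r₀.primeCompl M₀ ≃ₗ[S'₀] M := IsLocalizedModule.iso r₀.primeCompl f₀
    exact Module.Flat.of_linearEquiv (e.restrictScalars R)
  -- openness of the flat locus
  have hopen := Groth.Agent.S0387.result (R := R) (S := S'₀) (M := M₀)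
  have hmem : (⟨r₀, hr₀⟩ : PrimeSpectrum S'₀) ∈
      {q : PrimeSpectrum S'₀ | Module.Flat R (LocalizedModule q.asIdeal.primeCompl M₀)} :=
    hflat_r₀
  obtain ⟨_, ⟨w₀, rfl⟩, hw₀r, hw₀sub⟩ :=
    PrimeSpectrum.isTopologicalBasis_basic_opens.exists_subset_of_mem_open hmem hopen
  have hw₀r' : w₀ ∉ r₀ := hw₀r
  -- spreading out the algebra map
  haveI hatS'₀ : IsLocalization.AtPrime S' r₀ := isLocalization_atPrime' W' r₀ hr₀def
  let φ : S₀ →ₐ[R] S' := (IsScalarTower.toAlgHom R S S').comp (IsScalarTower.toAlgHom R S₀ S)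
  have hφ : ∀ x, φ x = algebraMap S S' (algebraMap S₀ S x) := fun x => rfl
  obtain ⟨w, hwr₀, hdvd, hu, g', hg'⟩ :=
    FibMod6.exists_away_lift (S' := S') r₀.primeCompl φ w₀ hw₀r'
  -- the finitely presented model `C` of `S'`
  let C := Localization.Away w
  letI aCS' : Algebra C S' := (IsLocalization.Away.lift (S := C) w hu).toAlgebra
  letI aS₀C : Algebra S₀ C := g'.toRingHom.toAlgebra
  haveI tRS₀C : IsScalarTower R S₀ C :=
    IsScalarTower.of_algebraMap_eq (fun a => (g'.commutes a).symm)
  haveI tS'₀CS' : IsScalarTower S'₀ C S' :=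
    IsScalarTower.of_algebraMap_eq (fun a => (IsLocalization.Away.lift_eq w hu a).symm)
  have hcompat : ∀ b : S₀, algebraMap C S' (algebraMap S₀ C b) =
      algebraMap S S' (algebraMap S₀ S b) := fun b => hg' b
  haveI fpC : Algebra.FinitePresentation R C := inferInstance
  -- the model of the module over `C`
  let M_C := LocalizedModule (Submonoid.powers w) M₀
  haveI fpM_C : Module.FinitePresentation C M_C := inferInstance
  haveI tRS'₀M_C : IsScalarTower R S'₀ M_C := inferInstance
  haveI tS'₀CM_C : IsScalarTower S'₀ C M_C := inferInstance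
  haveI tRCM_C : IsScalarTower R C M_C := by
    refine ⟨fun a c m => ?_⟩
    rw [Algebra.smul_def, IsScalarTower.algebraMap_apply R S'₀ C, mul_smul, algebraMap_smul,
      algebraMap_smul]
  haveI flatM_C : Module.Flat R M_C := by
    apply FibMod7.flat_away (A := R) (C := S'₀) M₀ w
    intro q hq
    apply hw₀sub
    show w₀ ∉ q.asIdeal
    intro h
    exact hq (Ideal.mem_of_dvd _ hdvd h)
  -- the prime `r` of `C`
  have hle : Submonoid.powers w ≤ r₀.primeCompl := Submonoid.powers_le.2 hwr₀
  haveI locC : IsLocalization (Algebra.algebraMapSubmonoid C r₀.primeCompl) S' :=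
    IsLocalization.isLocalization_of_submonoid_le C S' (Submonoid.powers w) r₀.primeCompl hle
  obtain ⟨r, hrdef⟩ : ∃ r : Ideal C,
      r = (IsLocalRing.maximalIdeal S').comap (algebraMap C S') := ⟨_, rfl⟩
  haveI hr : r.IsPrime := by rw [hrdef]; infer_instance
  haveI hatS' : IsLocalization.AtPrime S' r :=
    isLocalization_atPrime' (Algebra.algebraMapSubmonoid C r₀.primeCompl) r hrdef
  -- the module structure of `M` over `C`
  letI mCM : Module C M := Module.compHom M (algebraMap C S')
  have hCM : ∀ (c : C) (m : M), c • m = algebraMap C S' c • m := fun c m => rfl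
  haveI tCS'M : IsScalarTower C S' M := by
    refine ⟨fun c s m => ?_⟩
    rw [hCM, Algebra.smul_def, mul_smul]
  haveI tS'₀CM : IsScalarTower S'₀ C M := by
    refine ⟨fun a c m => ?_⟩
    rw [hCM, hCM, Algebra.smul_def, map_mul, ← IsScalarTower.algebraMap_apply S'₀ C S', mul_smul,
      algebraMap_smul]
  -- the localization map
  let f₁ : M_C →ₗ[S'₀] M := IsLocalizedModule.liftOfLE (Submonoid.powers w) r₀.primeCompl hle
    (LocalizedModule.mkLinearMap (Submonoid.powers w) M₀) f₀
  haveI hf₁ : IsLocalizedModule r₀.primeCompl f₁ := inferInstance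
  let f_C : M_C →ₗ[C] M := f₁.extendScalarsOfIsLocalization (Submonoid.powers w) C
  haveI hf_C₀ : IsLocalizedModule r₀.primeCompl (f_C.restrictScalars S'₀) := hf₁
  haveI hf_C₁ : IsLocalizedModule (Algebra.algebraMapSubmonoid C r₀.primeCompl) f_C :=
    IsLocalizedModule.of_restrictScalars r₀.primeCompl f_C
  haveI hf_C : IsLocalizedModule r.primeCompl f_C :=
    IsLocalizedModule.of_exists_mul_mem (Algebra.algebraMapSubmonoid C r₀.primeCompl) r.primeCompl
      (le_primeCompl' _ r hrdef)
      (fun x => FibMod7.exists_mul_mem (Algebra.algebraMapSubmonoid C r₀.primeCompl) x.1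
        (by rw [← hrdef]; exact x.2)) f_C
  -- the prime `q` of `S₀`
  obtain ⟨q, hqdef⟩ : ∃ q : Ideal S₀,
      q = (IsLocalRing.maximalIdeal S).comap (algebraMap S₀ S) := ⟨_, rfl⟩
  haveI hqp : q.IsPrime := by rw [hqdef]; infer_instance
  haveI hatS : IsLocalization.AtPrime S q := isLocalization_atPrime' W q hqdef
  have hq : r.under S₀ = q := by
    ext x
    rw [Ideal.under_def, Ideal.mem_comap, hrdef, hqdef, Ideal.mem_comap, Ideal.mem_comap, hcompat,
      ← Ideal.mem_comap (f := algebraMap S S'), IsLocalRing.maximalIdeal_comap]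
  have hRCS' : ∀ a : R, algebraMap C S' (algebraMap R C a) = algebraMap S S' (algebraMap R S a) := by
    intro a
    rw [IsScalarTower.algebraMap_apply R S'₀ C, ← IsScalarTower.algebraMap_apply S'₀ C S',
      ← IsScalarTower.algebraMap_apply R S'₀ S', IsScalarTower.algebraMap_apply R S S']
  have hp : IsLocalRing.maximalIdeal R = r.under R := by
    ext x
    rw [Ideal.under_def, Ideal.mem_comap, hrdef, Ideal.mem_comap, hRCS',
      ← Ideal.mem_comap (f := algebraMap S S'), IsLocalRing.maximalIdeal_comap,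
      ← Ideal.mem_comap (f := algebraMap R S), IsLocalRing.maximalIdeal_comap]
  exact FibMod8.core_local hcompat q r hq M_C M f_C (IsLocalRing.maximalIdeal R) hp hfib


/-- Let `R → S → S'` be local homomorphisms of local rings with `S` and `S'` essentially of finite
presentation over `R`, and `M` a nonzero finitely presented `S'`-module which is flat over `R` and
such that `M/𝔪_R M` is flat over `S/𝔪_R S`. Then `S` is flat over `R` and `M` is flat over `S`. -/
theorem result {R S S' M : Type u} [CommRing R] [CommRing S] [CommRing S']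
    [IsLocalRing R] [IsLocalRing S] [IsLocalRing S'] [Algebra R S] [Algebra S S'] [Algebra R S'] [IsScalarTower R S S']
    [IsLocalHom (algebraMap R S)] [IsLocalHom (algebraMap S S')]
    (hS : CAlgX.IsEssFinitePresentation R S) (hS' : CAlgX.IsEssFinitePresentation R S')
    [AddCommGroup M] [Module S' M] [Module S M] [Module R M] [IsScalarTower S S' M] [IsScalarTower R S' M]
    [IsScalarTower R S M] [Module.FinitePresentation S' M] [Nontrivial M] [Module.Flat R M]
    (hfib : Module.Flat (S ⧸ (IsLocalRing.maximalIdeal R).map (algebraMap R S))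
      (M ⧸ (IsLocalRing.maximalIdeal R).map (algebraMap R S) • (⊤ : Submodule S M))) :
    Module.Flat R S ∧ Module.Flat S M := by
  classical
  obtain ⟨S₀, _, _, _, _, W, _, _⟩ := hS
  obtain ⟨S'₀, _, _, _, _, W', _, _⟩ := hS'
  letI mS'₀M : Module S'₀ M := Module.compHom M (algebraMap S'₀ S')
  haveI tS'₀S'M : IsScalarTower S'₀ S' M := by
    refine ⟨fun a s m => ?_⟩
    show (a • s) • m = algebraMap S'₀ S' a • (s • m)
    rw [Algebra.smul_def, mul_smul]
  obtain ⟨M₀, _, _, _, f₀, hf₀⟩ := EssLoc1.exists_fp_model (S₀ := S'₀) (S := S') W' M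
  letI mRM₀ : Module R M₀ := Module.compHom M₀ (algebraMap R S'₀)
  haveI tRS'₀M₀ : IsScalarTower R S'₀ M₀ := by
    refine ⟨fun a s m => ?_⟩
    show (a • s) • m = algebraMap R S'₀ a • (s • m)
    rw [Algebra.smul_def, mul_smul]
  exact aux (R := R) (S := S) (S' := S') (M := M) W W' f₀ hfib

end Groth.Agent.S2106
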