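import Groth.Statements.S16455
import Mathlib.Algebra.DirectSum.Module
import Mathlib.RingTheory.Ideal.Operations

set_option autoImplicit false
universe u
open EGA4

namespace Groth.Agent.S16455

open DirectSum

section
variable (A : Type u) [CommRing A] (I : Ideal A) (M : Type u) [AddCommGroup M] [Module A M]

/-- The pieces `IⁿM / I·IⁿM` of the associated graded module as written in `IsNormallyFlat`. -/
abbrev Q (n : ℕ) : Type u :=
  (↥(I ^ n • (⊤ : Submodule A M)) ⧸ (I • (⊤ : Submodule A ↥(I ^ n • (⊤ : Submodule A M)))))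

instance (n : ℕ) : IsScalarTower A (A ⧸ I) (Q A I M n) :=
  Module.IsTorsionBySet.isScalarTower (Module.isTorsionBySet_quotient_ideal_smul _ I)

/-- The identification of `IⁿM` with the `n`-th step of the `I`-adic filtration. -/
noncomputable def cast (n : ℕ) : ↥(I ^ n • (⊤ : Submodule A M)) ≃ₗ[A]
    ↥((Rees.powFilt I M).N n) :=
  LinearEquiv.ofEq _ _ rfl

theorem coe_cast (n : ℕ) (x : ↥(I ^ n • (⊤ : Submodule A M))) :
    ((cast A I M n x : ↥((Rees.powFilt I M).N n)) : M) = (x : M) := rfl

/-- The map `Nₙ → gr(M)`, `x ↦` class of `x` in degree `n`. -/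
noncomputable def α' (n : ℕ) : ↥((Rees.powFilt I M).N n) →ₗ[A]
    AssocGr.GrMod (Rees.powFilt I M) where
  toFun x := (AssocGr.inDegM (Rees.powFilt I M) n x : AssocGr.GrMod (Rees.powFilt I M))
  map_add' x y := by rw [map_add]; rfl
  map_smul' a x := AssocGr.coe_inDegM_smul (Rees.powFilt I M) n a x

/-- The map `IⁿM → gr(M)`, `x ↦` class of `x` in degree `n`. -/
noncomputable def α (n : ℕ) : ↥(I ^ n • (⊤ : Submodule A M)) →ₗ[A]
    AssocGr.GrMod (Rees.powFilt I M) :=
  α' A I M n ∘ₗ (cast A I M n).toLinearMap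

theorem α_apply (n : ℕ) (x : ↥(I ^ n • (⊤ : Submodule A M))) :
    α A I M n x = (AssocGr.inDegM (Rees.powFilt I M) n (cast A I M n x) :
      AssocGr.GrMod (Rees.powFilt I M)) :=
  rfl

theorem α_eq_zero_iff (n : ℕ) (x : ↥(I ^ n • (⊤ : Submodule A M))) :
    α A I M n x = 0 ↔ x ∈ (I • (⊤ : Submodule A ↥(I ^ n • (⊤ : Submodule A M)))) := by
  rw [α_apply, ZeroMemClass.coe_eq_zero, AssocGr.inDegM_eq_zero_iff, Submodule.mem_smul_top_iff,
    coe_cast]
  change (x : M) ∈ I ^ (n + 1) • (⊤ : Submodule A M) ↔ _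
  rw [pow_succ', mul_smul]

/-- The induced map on `IⁿM / I·IⁿM`. -/
noncomputable def ψ (n : ℕ) : Q A I M n →ₗ[A] AssocGr.GrMod (Rees.powFilt I M) :=
  Submodule.liftQ _ (α A I M n) (fun x hx => LinearMap.mem_ker.mpr ((α_eq_zero_iff A I M n x).mpr hx))

theorem ψ_mk (n : ℕ) (x : ↥(I ^ n • (⊤ : Submodule A M))) :
    ψ A I M n (Submodule.Quotient.mk x) = α A I M n x := rfl

/-- The comparison map from the direct sum of the pieces. -/
noncomputable def Ψ : (⨁ n, Q A I M n) →ₗ[A] AssocGr.GrMod (Rees.powFilt I M) :=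
  DirectSum.toModule A ℕ _ (ψ A I M)

theorem Ψ_surjective : Function.Surjective (Ψ A I M) := by
  intro z
  obtain ⟨y, rfl⟩ := AssocGr.mkGM_surjective (Rees.powFilt I M) z
  rw [← AssocGr.sum_termM (Rees.powFilt I M) y, map_sum]
  have : ∀ n, AssocGr.mkGM (Rees.powFilt I M) (AssocGr.termM (Rees.powFilt I M) y n) ∈
      LinearMap.range (Ψ A I M) := by
    intro n
    refine ⟨DirectSum.lof A ℕ (Q A I M) n (Submodule.Quotient.mk
      ((cast A I M n).symm ⟨AssocGr.ReesM.coeff (Rees.powFilt I M) y n,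
        AssocGr.ReesM.coeff_mem (Rees.powFilt I M) y n⟩)), ?_⟩
    rw [Ψ, DirectSum.toModule_lof, ψ_mk, α_apply, LinearEquiv.apply_symm_apply]
    rfl
  exact (LinearMap.range (Ψ A I M)).sum_mem fun n _ => this n

theorem Ψ_injective : Function.Injective (Ψ A I M) := by
  rw [injective_iff_map_eq_zero]
  intro x hx
  classical
  have hlift : ∀ n, ∃ xt : ↥(I ^ n • (⊤ : Submodule A M)), Submodule.Quotient.mk xt = x n :=
    fun n => Submodule.Quotient.mk_surjective _ (x n)
  choose xt hxt using hlift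
  have hsum : x = ∑ n ∈ x.support, DirectSum.lof A ℕ (Q A I M) n (x n) :=
    (DirectSum.sum_support_of x).symm
  have h1 : Ψ A I M x = AssocGr.mkGM (Rees.powFilt I M)
      (∑ n ∈ x.support, AssocGr.monomM (Rees.powFilt I M) n (cast A I M n (xt n))) := by
    conv_lhs => rw [hsum]
    rw [map_sum, map_sum]
    refine Finset.sum_congr rfl fun n _ => ?_
    rw [Ψ, DirectSum.toModule_lof, ← hxt n, ψ_mk]
    rfl
  rw [h1, AssocGr.mkGM_eq_zero_iff, AssocGr.mem_succMod_iff] at hx
  ext m
  rw [DirectSum.zero_apply]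
  by_cases hm : m ∈ x.support
  · have h2 := hx m
    rw [← AssocGr.ReesM.coeffHom_apply, map_sum] at h2
    simp only [AssocGr.ReesM.coeffHom_apply, AssocGr.ReesM.coeff_monomM] at h2
    rw [Finset.sum_ite_eq' x.support m, if_pos hm] at h2
    rw [← hxt m, Submodule.Quotient.mk_eq_zero, Submodule.mem_smul_top_iff]
    rw [coe_cast] at h2
    change (xt m : M) ∈ I ^ (m + 1) • (⊤ : Submodule A M) at h2
    rwa [pow_succ', mul_smul] at h2
  · exact DFinsupp.notMem_support_iff.mp hm

/-- The comparison isomorphism, linear over `A ⧸ I`. -/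
noncomputable def equiv : (⨁ n, Q A I M n) ≃ₗ[A ⧸ I] AssocGr.GrMod (Rees.powFilt I M) :=
  LinearEquiv.extendScalarsOfSurjective Ideal.Quotient.mk_surjective
    (LinearEquiv.ofBijective (Ψ A I M) ⟨Ψ_injective A I M, Ψ_surjective A I M⟩)

end

/-- For a commutative ring A, an ideal I of A and an A-module M, the following are equivalent: every
quotient IⁿM/Iⁿ⁺¹M (n ≥ 0) is a flat A/I-module; the associated graded module gr_I(M) = ⊕ₙ
IⁿM/Iⁿ⁺¹M, as one module over A/I, is flat. Either condition says that M is normally flat along I.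
(The source defines normal flatness for a coherent module on a locally Noetherian scheme through the
second condition and notes it amounts to the first; the equivalence holds for every ring and
module.) -/
theorem result (A : Type u) [CommRing A] (I : Ideal A) (M : Type u)
    [AddCommGroup M] [Module A M] :
    EGA4.IsNormallyFlat I M ↔ Module.Flat (A ⧸ I) (AssocGr.GrMod (Rees.powFilt I M)) := by
  have h1 : EGA4.IsNormallyFlat I M ↔ ∀ n, Module.Flat (A ⧸ I) (Q A I M n) := Iff.rfl
  rw [h1, ← Module.Flat.directSum_iff]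
  exact ⟨fun h => Module.Flat.of_linearEquiv (equiv A I M).symm,
    fun h => Module.Flat.of_linearEquiv (equiv A I M)⟩

end Groth.Agent.S16455
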