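import Groth.Statements.S19695
import Groth.Agent.Lib.QCoh.Helper74_LocFreeBasis

set_option autoImplicit false
universe u
open CategoryTheory CategoryTheory.Limits AlgebraicGeometry Opposite
open FinCov

namespace Groth.Agent.S19695

/-- Let X be a scheme, A a quasi-coherent O_X-algebra which is locally free of rank d as an O_X-module,
and τ : A → O_X its trace (the O_X-linear map which over every affine open where A is finite free is
the trace of the regular representation). Then the structure map O_X → A followed by τ equals
multiplication by d on O_X. -/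
theorem result {X : Scheme.{u}} (A : RelSpec.QCAlg X) (d : ℕ)
    (hA : FlatMod.IsFinLocFreeOfRank d A.toModule)
    (τ : A.toModule ⟶ Coh.structureModule X) (hτ : FinCov.IsTrace A τ) :
    FinCov.strMod A ≫ τ = d • 𝟙 (Coh.structureModule X) := by
  apply Groth.Agent.Lib.QCoh.hom_ext_of_locally
  intro V x hx
  obtain ⟨U, hU, hxU, hUV, ⟨b⟩⟩ :=
    Groth.Agent.Lib.QCoh.exists_affine_basis_of_isFinLocFreeOfRank hA hx
  refine ⟨U, hxU, hUV, ?_⟩
  ext s
  rw [Groth.Agent.Lib.QCoh.nsmul_app_apply]
  let _ : Algebra Γ(X, U) (A.presheaf.obj (op U)) := (A.str.app (op U)).hom.toAlgebra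
  let b' : Module.Basis (Fin d) Γ(X, U) (A.presheaf.obj (op U)) := b
  have hfree : Module.Free Γ(X, U) (A.presheaf.obj (op U)) := Module.Free.of_basis b'
  have hfin : Module.Finite Γ(X, U) (A.presheaf.obj (op U)) := Module.Finite.of_basis b'
  have h1 := hτ U hU hfree hfin ((A.str.app (op U)).hom s)
  have h2 := Algebra.trace_algebraMap_of_basis b' s
  rw [Fintype.card_fin] at h2
  change (τ.val.app (op U)).hom ((A.str.app (op U)).hom s) = d • s
  rw [h1]
  exact h2

end Groth.Agent.S19695
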