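import Groth.Statements.S12596
-- import your own Groth.Agent.* helpers here

set_option autoImplicit false
open FunFld

namespace Groth.Agent.S12596

section aux
variable {k K : Type*} [Field k] [Field K] [Algebra k K]

theorem tau_lin {n : ℕ} (τ : K →ₐ[k] K) (A : Matrix (Fin (n + 1)) (Fin (n + 1)) k)
    (φ φ' : Fin (n + 1) → K) (hφ' : ∀ i, φ' i = ∑ j, A i j • φ j) (i : Fin (n + 1)) :
    τ (φ' i) = ∑ j, algebraMap k K (A i j) * τ (φ j) := by
  rw [hφ', map_sum]
  refine Finset.sum_congr rfl (fun j _ => ?_)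
  rw [map_smul, Algebra.smul_def]

theorem hasse_lin {n : ℕ} (H : K →ₐ[k] PowerSeries K) (m : ℕ)
    (A : Matrix (Fin (n + 1)) (Fin (n + 1)) k)
    (φ φ' : Fin (n + 1) → K) (hφ' : ∀ i, φ' i = ∑ j, A i j • φ j) (i : Fin (n + 1)) :
    LocRes.hasseD H m (φ' i) = ∑ j, algebraMap k K (A i j) * LocRes.hasseD H m (φ j) := by
  simp only [LocRes.hasseD_apply]
  rw [hφ', map_sum, map_sum]
  refine Finset.sum_congr rfl (fun j _ => ?_)
  rw [map_smul, PowerSeries.coeff_smul, Algebra.smul_def]

theorem hcol_lin {n : ℕ} (τ : K →ₐ[k] K) (H : K →ₐ[k] PowerSeries K)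
    (A : Matrix (Fin (n + 1)) (Fin (n + 1)) k)
    (φ φ' : Fin (n + 1) → K) (hφ' : ∀ i, φ' i = ∑ j, A i j • φ j) (c : ℕ) :
    FunFld.hcol τ H φ' c = (A.map (algebraMap k K)).mulVec (FunFld.hcol τ H φ c) := by
  funext i
  cases c with
  | zero =>
    simp only [FunFld.hcol, Matrix.mulVec, dotProduct, Matrix.map_apply]
    exact tau_lin τ A φ φ' hφ' i
  | succ m =>
    simp only [FunFld.hcol, Matrix.mulVec, dotProduct, Matrix.map_apply]
    exact hasse_lin H m A φ φ' hφ' i

theorem isJump_of_inj {M : Type*} [AddCommGroup M] [Module K M] (L : M →ₗ[K] M)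
    (hL : Function.Injective L) (c : ℕ → M) (j : ℕ) :
    FunFld.IsJump K (fun m => L (c m)) j ↔ FunFld.IsJump K c j := by
  unfold FunFld.IsJump
  have : (fun m => L (c m)) '' Set.Iio j = L '' (c '' Set.Iio j) := by
    rw [Set.image_image]
  rw [this, ← Submodule.map_span]
  constructor
  · intro h hc
    exact h (Submodule.mem_map_of_mem hc)
  · intro h hc
    obtain ⟨y, hy, hy'⟩ := Submodule.mem_map.mp hc
    exact h (hL hy' ▸ hy)

end aux

/-- Over an algebraically closed constant field, replacing a projective map `φ` by `Aφ` for an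
invertible matrix `A` over `k` does not change the `τ`-order sequence, and multiplies every
generalized Wronskian determinant `det [τ(φ) | D^(I₁) φ | ⋯ | D^(Iₙ) φ]` (Hasse derivatives taken
with `H`) by `det A`. -/
theorem result
    (k K : Type*) [Field k] [IsAlgClosed k] [Field K] [Algebra k K]
    (hK : FunFld.IsFunctionField k K) {n : ℕ} (φ : Fin (n + 1) → K) (hφ : LinearIndependent k φ)
    (τ : K →ₐ[k] K) (s : K) (H : K →ₐ[k] PowerSeries K) (hH : LocRes.IsHasseFamily s H)
    (A : Matrix (Fin (n + 1)) (Fin (n + 1)) k) (hA : A.det ≠ 0)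
    (φ' : Fin (n + 1) → K) (hφ' : ∀ i, φ' i = ∑ j, A i j • φ j) :
    (∀ J : Fin n → ℕ, FunFld.IsOrders K (FunFld.hcol τ H φ') J ↔ FunFld.IsOrders K (FunFld.hcol τ H φ) J) ∧
    ∀ I : Fin n → ℕ, (FunFld.wrMat τ H φ' I).det = algebraMap k K A.det * (FunFld.wrMat τ H φ I).det := by
  set M : Matrix (Fin (n + 1)) (Fin (n + 1)) K := A.map (algebraMap k K) with hM
  have hdetM : M.det = algebraMap k K A.det := by
    rw [hM]
    exact ((algebraMap k K).map_det A).symm
  have hunit : IsUnit M := by
    rw [Matrix.isUnit_iff_isUnit_det, hdetM]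
    exact (IsUnit.mk0 _ hA).map _
  have hinj : Function.Injective (Matrix.mulVecLin M) := by
    have := Matrix.mulVec_injective_iff_isUnit.mpr hunit
    intro x y hxy
    exact this hxy
  constructor
  · intro J
    have hcol : FunFld.hcol τ H φ' = fun m => Matrix.mulVecLin M (FunFld.hcol τ H φ m) := by
      funext c
      rw [hcol_lin τ H A φ φ' hφ' c]
      rfl
    unfold FunFld.IsOrders
    rw [hcol]
    simp only [isJump_of_inj (Matrix.mulVecLin M) hinj]
  · intro I
    have hmul : FunFld.wrMat τ H φ' I = M * FunFld.wrMat τ H φ I := by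
      ext i c
      rw [Matrix.mul_apply]
      refine Fin.cases ?_ (fun l => ?_) c
      · simp only [FunFld.wrMat, Matrix.of_apply, Fin.cases_zero, hM, Matrix.map_apply]
        exact tau_lin τ A φ φ' hφ' i
      · simp only [FunFld.wrMat, Matrix.of_apply, Fin.cases_succ, hM, Matrix.map_apply]
        exact hasse_lin H (I l) A φ φ' hφ' i
    rw [hmul, Matrix.det_mul, hdetM]

end Groth.Agent.S12596
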