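import Groth.Statements.S12597
import Mathlib
import Groth.Agent.Lib.Helper47.ColTri
-- import your own Groth.Agent.* helpers here

set_option autoImplicit false
open FunFld

namespace Groth.Agent.S12597


open Groth.Agent.Lib.Helper47.ColTri in
theorem wrMat_col {k K : Type*} [Field k] [Field K] [Algebra k K] {n : ℕ}
    (τ : K →ₐ[k] K) (H : K →ₐ[k] PowerSeries K) (φ : Fin (n + 1) → K) (J : Fin n → ℕ)
    (q : Fin (n + 1)) :
    (fun i => FunFld.wrMat τ H φ J i q) = FunFld.hcol τ H φ (idx J q) := by
  induction q using Fin.cases with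
  | zero => rfl
  | succ l => rfl

/-- the multipliers -/
noncomputable def mult {k K : Type*} [Field k] [Field K] [Algebra k K] (τ : K →ₐ[k] K) (y : K) :
    ℕ → K
  | 0 => τ y
  | _ + 1 => y

theorem tri {k K : Type*} [Field k] [Field K] [Algebra k K] {ι : Type*}
    (τ : K →ₐ[k] K) (s : K) (H : K →ₐ[k] PowerSeries K) (hH : LocRes.IsHasseFamily s H)
    (φ : ι → K) (y : K) (j : ℕ) :
    FunFld.hcol τ H (y • φ) j - mult τ y j • FunFld.hcol τ H φ j ∈
      Submodule.span K (FunFld.hcol τ H φ '' Set.Iio j) := by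
  cases j with
  | zero =>
    have : FunFld.hcol τ H (y • φ) 0 - mult τ y 0 • FunFld.hcol τ H φ 0 = 0 := by
      ext i
      simp [FunFld.hcol, mult]
    rw [this]
    exact Submodule.zero_mem _
  | succ j =>
    have h1 : FunFld.hcol τ H (y • φ) (j + 1) - mult τ y (j + 1) • FunFld.hcol τ H φ (j + 1) =
        ∑ m ∈ Finset.range j, PowerSeries.coeff (m + 1) (H y) •
          FunFld.hcol τ H φ (j - (m + 1) + 1) := by
      ext i
      simp only [FunFld.hcol, mult, Pi.sub_apply, Pi.smul_apply, smul_eq_mul, Finset.sum_apply,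
        LocRes.hasseD_apply, map_mul, PowerSeries.coeff_mul]
      rw [Finset.Nat.sum_antidiagonal_eq_sum_range_succ
        (fun a b => PowerSeries.coeff a (H y) * PowerSeries.coeff b (H (φ i))) j,
        Finset.sum_range_succ']
      have h0 : PowerSeries.coeff 0 (H y) = y := by
        rw [PowerSeries.coeff_zero_eq_constantCoeff_apply]
        exact hH.2 y
      rw [h0]
      simp
    rw [h1]
    refine Submodule.sum_mem _ (fun m hm => Submodule.smul_mem _ _ (Submodule.subset_span ?_))
    refine ⟨j - (m + 1) + 1, ?_, rfl⟩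
    simp only [Finset.mem_range] at hm
    simp only [Set.mem_Iio]
    omega


/-- Over an algebraically closed constant field, multiplying a projective map `φ = (φ₀, …, φₙ)` by a
nonzero function `y` does not change its `τ`-order sequence `J`, and multiplies the Wronskian `det
[τ(φ) | D^(j₁) φ | ⋯ | D^(jₙ) φ]` taken at that sequence by `τ(y) yⁿ`. -/
theorem result
    (k K : Type*) [Field k] [IsAlgClosed k] [Field K] [Algebra k K]
    (hK : FunFld.IsFunctionField k K) {n : ℕ} (φ : Fin (n + 1) → K) (hφ : LinearIndependent k φ)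
    (τ : K →ₐ[k] K) (s : K) (H : K →ₐ[k] PowerSeries K) (hH : LocRes.IsHasseFamily s H) (y : K) (hy : y ≠ 0) :
    (∀ J : Fin n → ℕ, FunFld.IsOrders K (FunFld.hcol τ H (y • φ)) J ↔ FunFld.IsOrders K (FunFld.hcol τ H φ) J) ∧
    ∀ J : Fin n → ℕ, FunFld.IsOrders K (FunFld.hcol τ H φ) J →
      (FunFld.wrMat τ H (y • φ) J).det = τ y * y ^ n * (FunFld.wrMat τ H φ J).det := by
  have hτy : τ y ≠ 0 := by
    intro h0
    apply hy
    exact τ.toRingHom.injective (by simpa using h0)
  have ha : ∀ j, mult τ y j ≠ 0 := by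
    intro j
    cases j with
    | zero => exact hτy
    | succ j => exact hy
  have htri := tri τ s H hH φ y
  refine ⟨fun J => Groth.Agent.Lib.Helper47.ColTri.isOrders_iff _ _ _ ha htri J, ?_⟩
  intro J hJ
  have hdet := Groth.Agent.Lib.Helper47.ColTri.det_tri (FunFld.wrMat τ H φ J)
    (FunFld.wrMat τ H (y • φ) J) (fun q => mult τ y (Groth.Agent.Lib.Helper47.ColTri.idx J q)) ?_
  · rw [hdet, Fin.prod_univ_succ]
    congr 1
    simp [mult]
  · intro q
    rw [wrMat_col, wrMat_col]
    have h1 := htri (Groth.Agent.Lib.Helper47.ColTri.idx J q)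
    rw [Groth.Agent.Lib.Helper47.ColTri.span_jumps _ J hJ] at h1
    have hset : {q' | Groth.Agent.Lib.Helper47.ColTri.idx J q' <
        Groth.Agent.Lib.Helper47.ColTri.idx J q} = {q' | q' < q} := by
      ext q'
      simp only [Set.mem_ofPred_eq]
      exact (Groth.Agent.Lib.Helper47.ColTri.idx_strictMono J hJ.1).lt_iff_lt
    rw [hset] at h1
    have hfun : (fun q' => fun i => FunFld.wrMat τ H φ J i q') =
        fun q' => FunFld.hcol τ H φ (Groth.Agent.Lib.Helper47.ColTri.idx J q') := by
      funext q'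
      exact wrMat_col τ H φ J q'
    rw [hfun]
    exact h1

end Groth.Agent.S12597
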