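import Groth.Statements.S4385
import Groth.Agent.Lib.Helper56.RelAmpleC

set_option autoImplicit false
universe u
open CategoryTheory CategoryTheory.Limits AlgebraicGeometry
open EGA2

namespace Groth.Agent.S4385

open Groth.Agent.Lib.Helper56.RelAmple Groth.Agent.Lib.Ample Scheme.Modules in
/-- Let f : X → Y and f' : X' → Y be quasi-compact morphisms, X'' = X ⨿ X' their disjoint union with f''
: X'' → Y the morphism restricting to f and f', and L'' an O_{X''}-module whose inverse images L on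
X and L' on X' (along the two coprojections) are invertible. Then L'' is ample relative to f'' if
and only if L is ample relative to f and L' is ample relative to f'. -/
theorem result {X X' Y : Scheme.{u}} (f : X ⟶ Y) (f' : X' ⟶ Y) [QuasiCompact f] [QuasiCompact f']
    (L'' : (X ⨿ X').Modules)
    (hL : PicF.IsInvertible ((Scheme.Modules.pullback (coprod.inl : X ⟶ X ⨿ X')).obj L''))
    (hL' : PicF.IsInvertible ((Scheme.Modules.pullback (coprod.inr : X' ⟶ X ⨿ X')).obj L'')) :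
    RelAmple.IsRelAmple (coprod.desc f f') L'' ↔
      RelAmple.IsRelAmple f ((Scheme.Modules.pullback (coprod.inl : X ⟶ X ⨿ X')).obj L'') ∧
        RelAmple.IsRelAmple f' ((Scheme.Modules.pullback (coprod.inr : X' ⟶ X ⨿ X')).obj L'') := by
  have hcover : ∀ p : ↥(X ⨿ X' : Scheme.{u}),
      (∃ x, (coprod.inl : X ⟶ X ⨿ X') x = p) ∨ (∃ x', (coprod.inr : X' ⟶ X ⨿ X') x' = p) := by
    intro p
    have h1 := (isCompl_range_inl_inr X X').codisjoint
    have h2 : p ∈ Set.range (coprod.inl : X ⟶ X ⨿ X') ⊔ Set.range (coprod.inr : X' ⟶ X ⨿ X') := by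
      rw [codisjoint_iff.mp h1]; trivial
    exact h2
  have hdl : ∀ x : X, (coprod.desc f f') ((coprod.inl : X ⟶ X ⨿ X') x) = f x := fun x => by
    rw [← Scheme.Hom.comp_apply, coprod.inl_desc]
  have hdr : ∀ x : X', (coprod.desc f f') ((coprod.inr : X' ⟶ X ⨿ X') x) = f' x := fun x => by
    rw [← Scheme.Hom.comp_apply, coprod.inr_desc]
  have hpreS : ∀ U : Set Y, (coprod.desc f f') ⁻¹' U =
      (coprod.inl : X ⟶ X ⨿ X') '' (f ⁻¹' U) ∪ (coprod.inr : X' ⟶ X ⨿ X') '' (f' ⁻¹' U) := by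
    intro U
    ext p
    constructor
    · intro hp
      rcases hcover p with ⟨x, rfl⟩ | ⟨x, rfl⟩
      · left; exact ⟨x, by rw [Set.mem_preimage, ← hdl]; exact hp, rfl⟩
      · right; exact ⟨x, by rw [Set.mem_preimage, ← hdr]; exact hp, rfl⟩
    · rintro (⟨x, hx, rfl⟩ | ⟨x, hx, rfl⟩)
      · rw [Set.mem_preimage, hdl]; exact hx
      · rw [Set.mem_preimage, hdr]; exact hx
  have hpre : ∀ V : Y.Opens, (coprod.desc f f') ⁻¹ᵁ V =
      (coprod.inl : X ⟶ X ⨿ X') ''ᵁ (f ⁻¹ᵁ V) ⊔ (coprod.inr : X' ⟶ X ⨿ X') ''ᵁ (f' ⁻¹ᵁ V) := by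
    intro V
    apply TopologicalSpace.Opens.ext
    rw [TopologicalSpace.Opens.coe_sup]
    exact hpreS V
  have hdisj : ∀ (A : X.Opens) (B : X'.Opens),
      (coprod.inl : X ⟶ X ⨿ X') ''ᵁ A ⊓ (coprod.inr : X' ⟶ X ⨿ X') ''ᵁ B = ⊥ := by
    intro A B
    apply TopologicalSpace.Opens.ext
    ext p
    constructor
    · rintro ⟨⟨x, -, hx⟩, ⟨y, -, hy⟩⟩
      exact (AlgebraicGeometry.inl_ne_inr X X' x y (hx.trans hy.symm)).elim
    · intro h; exact h.elim
  have hqc : QuasiCompact (coprod.desc f f') := by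
    constructor
    intro U hUo hUc
    rw [hpreS U]
    exact ((QuasiCompact.isCompact_preimage (f := f) U hUo hUc).image
        (coprod.inl : X ⟶ X ⨿ X').continuous).union
      ((QuasiCompact.isCompact_preimage (f := f') U hUo hUc).image
        (coprod.inr : X' ⟶ X ⨿ X').continuous)
  constructor
  · rintro ⟨-, h⟩
    refine ⟨⟨inferInstance, fun V => ?_⟩, ⟨inferInstance, fun V => ?_⟩⟩
    · have h1 : CohB1.IsAmple (L''.restrict ((coprod.inl : X ⟶ X ⨿ X') ''ᵁ (f ⁻¹ᵁ V.1)).ι) := by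
        refine isAmple_restrict_of_le ?_ ?_ (h V)
        · rw [hpre V.1]; exact le_sup_left
        · exact (f.isCompact_preimage V.2.isCompact).image (coprod.inl : X ⟶ X ⨿ X').continuous
      have h2 := (isAmple_restrict_restrict_iff' (coprod.inl : X ⟶ X ⨿ X') (f ⁻¹ᵁ V.1)).2 h1
      exact isAmple_of_iso ((restrictFunctor (f ⁻¹ᵁ V.1).ι).mapIso
        ((restrictFunctorIsoPullback (coprod.inl : X ⟶ X ⨿ X')).app L'')) h2
    · have h1 : CohB1.IsAmple (L''.restrict ((coprod.inr : X' ⟶ X ⨿ X') ''ᵁ (f' ⁻¹ᵁ V.1)).ι) := by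
        refine isAmple_restrict_of_le ?_ ?_ (h V)
        · rw [hpre V.1]; exact le_sup_right
        · exact (f'.isCompact_preimage V.2.isCompact).image (coprod.inr : X' ⟶ X ⨿ X').continuous
      have h2 := (isAmple_restrict_restrict_iff' (coprod.inr : X' ⟶ X ⨿ X') (f' ⁻¹ᵁ V.1)).2 h1
      exact isAmple_of_iso ((restrictFunctor (f' ⁻¹ᵁ V.1).ι).mapIso
        ((restrictFunctorIsoPullback (coprod.inr : X' ⟶ X ⨿ X')).app L'')) h2
  · rintro ⟨⟨-, h1⟩, ⟨-, h2⟩⟩
    refine ⟨hqc, fun V => ?_⟩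
    have hA : CohB1.IsAmple (L''.restrict ((coprod.inl : X ⟶ X ⨿ X') ''ᵁ (f ⁻¹ᵁ V.1)).ι) :=
      (isAmple_restrict_restrict_iff' (coprod.inl : X ⟶ X ⨿ X') (f ⁻¹ᵁ V.1)).1
        (isAmple_of_iso ((restrictFunctor (f ⁻¹ᵁ V.1).ι).mapIso
          ((restrictFunctorIsoPullback (coprod.inl : X ⟶ X ⨿ X')).app L'')).symm (h1 V))
    have hB : CohB1.IsAmple (L''.restrict ((coprod.inr : X' ⟶ X ⨿ X') ''ᵁ (f' ⁻¹ᵁ V.1)).ι) :=
      (isAmple_restrict_restrict_iff' (coprod.inr : X' ⟶ X ⨿ X') (f' ⁻¹ᵁ V.1)).1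
        (isAmple_of_iso ((restrictFunctor (f' ⁻¹ᵁ V.1).ι).mapIso
          ((restrictFunctorIsoPullback (coprod.inr : X' ⟶ X ⨿ X')).app L'')).symm (h2 V))
    exact isAmple_restrict_congr (hpre V.1).symm
      (isAmple_restrict_sup _ _ (hdisj _ _) hA hB)

end Groth.Agent.S4385
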