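import Groth.Statements.S7468
import Groth.Agent.Lib.Helper38.HTopV

set_option autoImplicit false
universe w u
open HTop

namespace Groth.Agent.S7468

open CategoryTheory CategoryTheory.Limits AlgebraicGeometry in
/-- If T is affine and a finite family is obtained by restricting one proper surjective morphism U -> T
to the pieces of a finite affine open cover of U, then the family is a standard V covering. -/
theorem result {T : Scheme.{u}} (E : PreZeroHypercover.{w} T) (hE : HTop.IsStandardPh E) : HTop.IsStandardV E := by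
  obtain ⟨U, f, ι, hprop, hsurj, hopen, hcomp, hcov⟩ := hE.exists_proper
  refine ⟨hE.isAffine, hE.finite_index, hE.isAffine_obj, ?_⟩
  intro V _ _ g
  obtain ⟨u', hu'⟩ := hsurj.surj (g (⊥ : PrimeSpectrum V))
  obtain ⟨p', hp'1, hp'2⟩ := Scheme.Pullback.exists_preimage_pullback (f := g) (g := f)
    (⊥ : PrimeSpectrum V) u' hu'.symm
  have hspec : SpecializingMap (pullback.fst g f) := (pullback.fst g f).isClosedMap.specializingMap
  have hsp : pullback.fst g f p' ⤳ IsLocalRing.closedPoint V := by
    rw [hp'1]
    exact IsLocalRing.specializes_closedPoint _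
  obtain ⟨p, hp1, hp2⟩ := hspec hsp
  obtain ⟨W, hWd, hWv, φ, hφ, k, hk, hk2⟩ :=
    Groth.Agent.Lib.Helper38.HTopV.exists_extVal_lift (pullback.fst g f) hp1 hp'1 hp2
  obtain ⟨j, hj⟩ := hcov (pullback.snd g f p)
  haveI := hopen j
  have hr : Set.range (k ≫ pullback.snd g f) ⊆ Set.range (ι j) := by
    rintro _ ⟨y, rfl⟩
    have h1 : y ⤳ IsLocalRing.closedPoint W := IsLocalRing.specializes_closedPoint y
    have h2 := h1.map (k ≫ pullback.snd g f).continuous
    refine (ι j).isOpenEmbedding.isOpen_range.stableUnderGeneralization h2 ?_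
    rw [Scheme.Hom.comp_apply, hk2]
    exact hj
  refine ⟨W, hWd, hWv, φ, hφ, j, IsOpenImmersion.lift (ι j) (k ≫ pullback.snd g f) hr, ?_⟩
  rw [← hcomp j, ← Category.assoc, IsOpenImmersion.lift_fac, Category.assoc, ← pullback.condition,
    ← Category.assoc, hk]


end Groth.Agent.S7468
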