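import Groth.Statements.S19330
import Groth.Agent.Lib.Helper56.ModPairDense
-- import your own Groth.Agent.* helpers here

set_option autoImplicit false
universe u
open CategoryTheory CategoryTheory.Limits AlgebraicGeometry TopologicalSpace
open ModPair

namespace Groth.Agent.S19330

/-- Every point of a scheme with an effective Cartier divisor is a specialization of a point in
the complement (interior) of the divisor. -/
theorem exists_specializes_of_isEffCartierIdeal {S : Scheme.{u}} (I : S.IdealSheafData)
    (hI : BlowUp.IsEffCartierIdeal I) (s : S) :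
    ∃ u : S, u ∈ ModPair.interior I ∧ u ⤳ s := by
  obtain ⟨W, hsW, t, ht, hIW⟩ := hI s
  let p := W.2.primeIdealOf ⟨s, hsW⟩
  obtain ⟨q, hq, hqp⟩ := Ideal.exists_minimalPrimes_le (I := (⊥ : Ideal Γ(S, W.1)))
    (J := p.asIdeal) bot_le
  have hqprime : q.IsPrime := hq.1.1
  have htq : t ∉ q := fun h =>
    Set.disjoint_left.mp (Ideal.disjoint_nonZeroDivisors_of_mem_minimalPrimes hq) h ht
  let q' : PrimeSpectrum Γ(S, W.1) := ⟨q, hqprime⟩
  refine ⟨W.2.fromSpec q', ?_, ?_⟩
  · have h1 : q' ∈ W.2.fromSpec ⁻¹ᵁ S.basicOpen t := by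
      rw [W.2.fromSpec_preimage_basicOpen]
      exact htq
    have h2 : W.2.fromSpec q' ∈ S.basicOpen t := h1
    rw [← Groth.Agent.Lib.BlowUp.CartierCompl.inf_eq_basicOpen I (interior I) rfl W t hIW] at h2
    exact h2.1
  · have h1 : q' ⤳ p := (PrimeSpectrum.le_iff_specializes q' p).mp hqp
    have h2 := h1.map W.2.fromSpec.continuous
    rwa [W.2.fromSpec_primeIdealOf] at h2

/-- Let (S, I) be a modulus pair, i.e. a scheme with the quasi-coherent ideal sheaf of an effective
Cartier divisor, with interior U, and let g_i : V_i ⟶ U be a jointly surjective family of closed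
immersions into the interior. Let V̄_i be the scheme-theoretic image of V_i ⟶ U ⟶ S. Then the closed
immersions V̄_i ⟶ S are jointly surjective, the modulus restricted to each V̄_i is again the ideal
sheaf of an effective Cartier divisor (so that V̄_i ⟶ S is a minimal morphism of modulus pairs), and
the interior of V̄_i is V_i: the canonical morphism V_i ⟶ V̄_i is an open immersion whose image is
the preimage of U. -/
theorem result {S : Scheme.{u}} (I : S.IdealSheafData)
    (hI : BlowUp.IsEffCartierIdeal I) {ι : Type u} (V : ι → Scheme.{u})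
    (g : ∀ i, V i ⟶ (ModPair.interior I : Scheme.{u})) [∀ i, IsClosedImmersion (g i)]
    (hsurj : ∀ u : (ModPair.interior I : Scheme.{u}), ∃ (i : ι) (v : V i), (g i).base v = u) :
    (∀ s : S, ∃ (i : ι) (v : (g i ≫ (ModPair.interior I).ι).image),
        (g i ≫ (ModPair.interior I).ι).imageι.base v = s) ∧
      (∀ i, BlowUp.IsEffCartierIdeal (I.comap (g i ≫ (ModPair.interior I).ι).imageι)) ∧
      ∀ i, IsOpenImmersion (g i ≫ (ModPair.interior I).ι).toImage ∧
        Set.range (g i ≫ (ModPair.interior I).ι).toImage.base =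
          (g i ≫ (ModPair.interior I).ι).imageι.base ⁻¹' (ModPair.interior I : Set S) := by
  have hW : IsAffineHom (interior I).ι :=
    Groth.Agent.Lib.BlowUp.CartierCompl.isAffineHom_ι (interior I) rfl hI
  have hqc : ∀ i, QuasiCompact (g i ≫ (ModPair.interior I).ι) := fun i => inferInstance
  refine ⟨?_, ?_, ?_⟩
  · intro s
    obtain ⟨x, hx, hxs⟩ := exists_specializes_of_isEffCartierIdeal I hI s
    obtain ⟨i, v, hv⟩ := hsurj ⟨x, hx⟩
    have h1 : s ∈ Set.range (g i ≫ (ModPair.interior I).ι).imageι := by
      rw [Scheme.IdealSheafData.range_subschemeι, Scheme.Hom.support_ker]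
      have h2 : s ∈ closure ({x} : Set S) := specializes_iff_mem_closure.mp hxs
      refine closure_mono ?_ h2
      rintro y (hy : y = x)
      rw [hy]
      refine ⟨v, ?_⟩
      rw [Scheme.Hom.comp_apply]
      have : (g i) v = ⟨x, hx⟩ := hv
      rw [this]
      rfl
    obtain ⟨v', hv'⟩ := h1
    exact ⟨i, v', hv'⟩
  · intro i
    refine Groth.Agent.Lib.Helper56.ModPairDense.isEffCartierIdeal_comap_of_app_injective I hI
      (g i ≫ (ModPair.interior I).ι).imageι (g i ≫ (ModPair.interior I).ι).toImage
      (Groth.Agent.Lib.Helper56.ModPairDense.exists_affine_toImage_app_injective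
        (g i ≫ (ModPair.interior I).ι)) ?_
    rw [Scheme.Hom.toImage_imageι]
    rintro _ ⟨x, rfl⟩
    rw [Scheme.Hom.comp_apply]
    exact ((g i) x).2
  · intro i
    refine ⟨inferInstance, ?_⟩
    apply subset_antisymm
    · rintro _ ⟨v, rfl⟩
      show (g i ≫ (ModPair.interior I).ι).imageι ((g i ≫ (ModPair.interior I).ι).toImage v) ∈
        (ModPair.interior I : Set S)
      rw [← Scheme.Hom.comp_apply, Scheme.Hom.toImage_imageι, Scheme.Hom.comp_apply]
      exact ((g i) v).2
    · intro z hz
      obtain ⟨C, hC, hCg⟩ := (ModPair.interior I).ι.isOpenEmbedding.isInducing.isClosed_iff.mp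
        (g i).isClosedEmbedding.isClosed_range
      have hz1 : (g i ≫ (ModPair.interior I).ι).imageι z ∈
          Set.range (g i ≫ (ModPair.interior I).ι).imageι := ⟨z, rfl⟩
      rw [Scheme.IdealSheafData.range_subschemeι, Scheme.Hom.support_ker] at hz1
      have hsub : closure (Set.range (g i ≫ (ModPair.interior I).ι)) ⊆ C := by
        refine closure_minimal ?_ hC
        rintro _ ⟨v, rfl⟩
        rw [Scheme.Hom.comp_apply]
        have : (g i) v ∈ (ModPair.interior I).ι ⁻¹' C := by rw [hCg]; exact ⟨v, rfl⟩
        exact this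
      have hzC := hsub hz1
      have hu : (⟨(g i ≫ (ModPair.interior I).ι).imageι z, hz⟩ : (ModPair.interior I)) ∈
          (ModPair.interior I).ι ⁻¹' C := hzC
      rw [hCg] at hu
      obtain ⟨v, hv⟩ := hu
      refine ⟨v, ?_⟩
      apply (g i ≫ (ModPair.interior I).ι).imageι.isEmbedding.injective
      show (g i ≫ (ModPair.interior I).ι).imageι ((g i ≫ (ModPair.interior I).ι).toImage v) = _
      rw [← Scheme.Hom.comp_apply, Scheme.Hom.toImage_imageι, Scheme.Hom.comp_apply, hv]
      rfl

end Groth.Agent.S19330
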