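import Groth.Statements.S8772
-- import your own Groth.Agent.* helpers here

set_option autoImplicit false
universe u
open PureExt

namespace Groth.Agent.S8772


/-- The transpose of a linear map into a character module. -/
def flipChar {R : Type u} [CommRing R] {M Q : Type u} [AddCommGroup M] [Module R M]
    [AddCommGroup Q] [Module R Q] (h : M →ₗ[R] CharacterModule Q) : Q →ₗ[R] CharacterModule M where
  toFun q :=
    { toFun := fun m => h m q
      map_zero' := by rw [map_zero]; rfl
      map_add' := fun m m' => by rw [map_add]; rfl }
  map_add' q q' := by
    ext m
    exact map_add (h m) q q'
  map_smul' r q := by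
    ext m
    show h m (r • q) = h (r • m) q
    rw [h.map_smul r m, CharacterModule.smul_apply]

/-- Every linear map `M → Q^∨` extends along the evaluation `M → M^∨∨`. -/
theorem exists_extension {R : Type u} [CommRing R] {M Q : Type u} [AddCommGroup M] [Module R M]
    [AddCommGroup Q] [Module R Q] (h : M →ₗ[R] CharacterModule Q) :
    ∃ H : CharacterModule (CharacterModule M) →ₗ[R] CharacterModule Q,
      H ∘ₗ PureExt.charEval R M = h :=
  ⟨CharacterModule.dual (flipChar h), by ext m q; rfl⟩

/-- For every `R`-module `M` the evaluation map `M → (M^∨)^∨` into the double character module is
universally injective; with the pure injectivity of character modules this gives a universally exact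
embedding of `M` into a pure injective module. (The published statement asserts only the existence
of such an embedding; this row names the map.) -/
theorem result (R : Type u) [CommRing R] (M : Type u) [AddCommGroup M]
    [Module R M] : CAlgX.UniversallyInjective R (PureExt.charEval R M) := by
  intro Q _ _
  rw [rTensor_injective_iff_lcomp_surjective]
  intro h
  obtain ⟨H, hH⟩ := exists_extension h
  exact ⟨H, hH⟩

end Groth.Agent.S8772
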