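import Groth.Statements.S2030
import Mathlib
import Groth.Agent.Lib.Helper57.S2030Aux
-- import your own Groth.Agent.* helpers here

set_option autoImplicit false
universe u
open Smoothing

namespace Groth.Agent.S2030

open TensorProduct
open Groth.Agent.Lib.Helper57.S2030Aux

section
variable {R A : Type u} [CommRing R] [CommRing A] [Algebra R A] (a : A)
  (P : MarkedPresentation R A)

include P in
theorem fp_A : Algebra.FinitePresentation R A := by
  refine Algebra.FinitePresentation.of_surjective (f := P.hom) P.surj ?_
  rw [P.ker_eq]
  exact ⟨(Set.finite_range P.rel).toFinset, by simp⟩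

include P in
theorem fp_T : Algebra.FinitePresentation R (Localization.Away a) := by
  haveI := fp_A P
  haveI : Algebra.FinitePresentation A (Localization.Away a) :=
    IsLocalization.Away.finitePresentation a
  exact Algebra.FinitePresentation.trans R A (Localization.Away a)

/-- the base-changed cotangent complex differential -/
noncomputable abbrev dT : (Localization.Away a) ⊗[A] (G P).toExtension.Cotangent →ₗ[Localization.Away a]
    (Localization.Away a) ⊗[A] (G P).toExtension.CotangentSpace :=
  (G P).toExtension.cotangentComplex.baseChange (Localization.Away a)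

theorem split (hmem : a ∈ Ideal.span (Set.range fun cols : Fin P.c → Fin P.n =>
        P.hom (jacobianMinor P.rel (Fin.castLE P.hcm) cols))) (hKT : KillsTail P a) :
    Nonempty ((Fin P.c → Localization.Away a) ≃ₗ[Localization.Away a]
      (Localization.Away a) ⊗[A] (G P).toExtension.Cotangent) ∧
    ∃ ρ, ρ ∘ₗ dT a P = LinearMap.id := by
  obtain ⟨α, hα⟩ := h_det a P hmem
  exact split_of_minors (b0 a P) (dT a P) (z a P) (span_z a P hKT) (Jmat a P) (hJ a P) α _ hα

theorem subsingleton_H1 (hinj : Function.Injective (dT a P)) :
    Subsingleton (Algebra.H1Cotangent R (Localization.Away a)) := by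
  haveI : Algebra.FormallySmooth R (G P).toExtension.Ring :=
    inferInstanceAs (Algebra.FormallySmooth R (MvPolynomial (Fin P.n) R))
  have e1 := Algebra.tensorH1CotangentOfIsLocalization R (Localization.Away a) (Submonoid.powers a)
  have e2 := (G P).toExtension.equivH1CotangentOfFormallySmooth
  have e3 : (Localization.Away a) ⊗[A] (G P).toExtension.H1Cotangent ≃ₗ[A]
      (Localization.Away a) ⊗[A] Algebra.H1Cotangent R A := LinearEquiv.lTensor _ e2
  suffices h : Subsingleton ((Localization.Away a) ⊗[A] (G P).toExtension.H1Cotangent) by
    haveI := h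
    haveI : Subsingleton ((Localization.Away a) ⊗[A] Algebra.H1Cotangent R A) :=
      e3.symm.toEquiv.subsingleton
    exact e1.symm.toEquiv.subsingleton
  have hι : Function.Injective ((G P).toExtension.h1Cotangentι.lTensor (Localization.Away a)) :=
    Module.Flat.lTensor_preserves_injective_linearMap _
      Algebra.Extension.h1Cotangentι_injective
  refine ⟨fun x x' => hι (hinj ?_)⟩
  have hz : ∀ w, dT a P ((G P).toExtension.h1Cotangentι.lTensor (Localization.Away a) w) = 0 := by
    intro w
    induction w using TensorProduct.induction_on with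
    | zero => simp
    | add x x' h1 h2 => rw [map_add, map_add, h1, h2, add_zero]
    | tmul t m =>
      rw [LinearMap.lTensor_tmul, dT, LinearMap.baseChange_tmul]
      have : (G P).toExtension.cotangentComplex ((G P).toExtension.h1Cotangentι m) = 0 := m.2
      rw [this, TensorProduct.tmul_zero]
  rw [hz, hz]

/-- the base-changed map to differentials -/
noncomputable abbrev gT : (Localization.Away a) ⊗[A] (G P).toExtension.CotangentSpace →ₗ[Localization.Away a]
    (Localization.Away a) ⊗[A] Ω[A⁄R] :=
  (G P).toExtension.toKaehler.baseChange (Localization.Away a)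

theorem exact_T : Function.Exact (dT a P) (gT a P) := by
  have h := lTensor_exact (Localization.Away a)
    (G P).toExtension.exact_cotangentComplex_toKaehler (G P).toExtension.toKaehler_surjective
  exact h

theorem surj_T : Function.Surjective (gT a P) := by
  have h := LinearMap.lTensor_surjective (Localization.Away a)
    (G P).toExtension.toKaehler_surjective
  exact h

theorem omega_equiv (e1 : (Fin P.c → Localization.Away a) ≃ₗ[Localization.Away a]
      (Localization.Away a) ⊗[A] (G P).toExtension.Cotangent)
    (ρ : (Localization.Away a) ⊗[A] (G P).toExtension.CotangentSpace →ₗ[Localization.Away a]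
      (Localization.Away a) ⊗[A] (G P).toExtension.Cotangent) (hρ : ρ ∘ₗ dT a P = LinearMap.id) :
    Nonempty ((Ω[Localization.Away a⁄R] × (Fin P.c → Localization.Away a)) ≃ₗ[Localization.Away a]
        (Fin P.n → Localization.Away a)) := by
  haveI : Algebra.FormallyEtale A (Localization.Away a) :=
    Algebra.FormallyEtale.of_isLocalization (Submonoid.powers a)
  have eΩ := KaehlerDifferential.tensorKaehlerEquivOfFormallyEtale R A (Localization.Away a)
  have es := ((exact_T a P).splitInjectiveEquiv (surj_T a P) ⟨ρ, hρ⟩).1
  exact ⟨((eΩ.symm.prodCongr e1).trans (LinearEquiv.prodComm _ _ _)).trans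
    (es.symm.trans (b0 a P).equivFun)⟩

theorem proj_of_equiv {T M : Type u} [CommRing T] [AddCommGroup M] [Module T M] {p q : ℕ}
    (e : (M × (Fin p → T)) ≃ₗ[T] (Fin q → T)) : Module.Projective T M := by
  refine Module.Projective.of_split (e.toLinearMap ∘ₗ LinearMap.inl T M (Fin p → T))
    (LinearMap.fst T M (Fin p → T) ∘ₗ e.symm.toLinearMap) ?_
  refine LinearMap.ext fun x => ?_
  simp

end

theorem result' {R A : Type u} [CommRing R] [CommRing A]
    [Algebra R A] (a : A) (ha : Smoothing.IsStrictlyStandard R A a) :
    Algebra.Smooth R (Localization.Away a) ∧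
      ∃ p q : ℕ, Nonempty ((Ω[Localization.Away a⁄R] × (Fin p → Localization.Away a)) ≃ₗ[Localization.Away a]
        (Fin q → Localization.Away a)) := by
  obtain ⟨P, hmem, hKT⟩ := ha
  obtain ⟨⟨e1⟩, ρ, hρ⟩ := split a P hmem hKT
  have hinj : Function.Injective (dT a P) := by
    intro x x' hxx
    have := congrArg ρ hxx
    have h1 : ∀ w, ρ (dT a P w) = w := fun w => LinearMap.congr_fun hρ w
    rwa [h1, h1] at this
  obtain ⟨e⟩ := omega_equiv a P e1 ρ hρ
  refine ⟨?_, P.c, P.n, ⟨e⟩⟩
  haveI : Algebra.FormallySmooth R (Localization.Away a) :=
    ⟨proj_of_equiv e, subsingleton_H1 a P hinj⟩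
  haveI := fp_T a P
  exact {}


/-- If `a` is strictly standard in the finitely presented `R`-algebra `A`, then the localization `A_a`
is smooth over `R` and its module of Kaehler differentials over `R` is stably free (free after
adding a finite free module). -/
theorem result {R A : Type u} [CommRing R] [CommRing A]
    [Algebra R A] (a : A) (ha : Smoothing.IsStrictlyStandard R A a) :
    Algebra.Smooth R (Localization.Away a) ∧
      ∃ p q : ℕ, Nonempty ((Ω[Localization.Away a⁄R] × (Fin p → Localization.Away a)) ≃ₗ[Localization.Away a]
        (Fin q → Localization.Away a)) :=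
  result' a ha

end Groth.Agent.S2030
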