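import Groth.Statements.S2027
import Mathlib
import Groth.Agent.S2030
import Groth.Agent.Lib.Helper57.S2027Constr
-- import your own Groth.Agent.* helpers here

set_option autoImplicit false
universe u
open Smoothing

namespace Groth.Agent.S2027

open MvPolynomial Groth.Agent.Lib.Helper57.S2027Core Groth.Agent.Lib.Helper57.S2027Constr

theorem exists_dat {R A : Type u} [CommRing R] [CommRing A] [Algebra R A] (π : R)
    (P : MarkedPresentation R A)
    (hmem : algebraMap R A π ∈ Ideal.span (Set.range fun cols : Fin P.c → Fin P.n =>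
        P.hom (jacobianMinor P.rel (Fin.castLE P.hcm) cols)))
    (hKT : KillsTail P (algebraMap R A π))
    (ρ : A →ₐ[R] R ⧸ Ideal.span {π ^ 4}) (pt : Fin P.n → R)
    (hpt : ∀ i, Ideal.Quotient.mk (Ideal.span {π ^ 4}) (pt i) = ρ (P.hom (X i))) :
    ∃ (e : Fin P.m → R) (d : R) (s : Matrix (Fin P.n) (Fin P.c) R),
      (∀ j, eval pt (P.rel j) = π ^ 4 * e j) ∧
      (∀ j k : Fin P.c, ∑ i, eval pt (pderiv i (P.rel (Fin.castLE P.hcm j))) * s i k =
        if j = k then (1 - π ^ 3 * d) * π else 0) ∧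
      (∀ j : Fin P.m, P.c ≤ (j : ℕ) → C π * P.rel j ∈
        Ideal.span (P.rel '' {j' : Fin P.m | (j' : ℕ) < P.c}) ⊔ Ideal.span (Set.range P.rel) ^ 2) ∧
      (∃ α : (Fin P.c → Fin P.n) → MvPolynomial (Fin P.n) R,
        C π - ∑ I : Fin P.c → Fin P.n, α I * jacobianMinor P.rel (Fin.castLE P.hcm) I ∈
          Ideal.span (Set.range P.rel)) := by
  classical
  have hρev : ∀ p : MvPolynomial (Fin P.n) R,
      ρ (P.hom p) = Ideal.Quotient.mk (Ideal.span {π ^ 4}) (eval pt p) := by
    intro p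
    have : ρ.comp P.hom = (Ideal.Quotient.mkₐ R (Ideal.span {π ^ 4})).comp (aeval pt) := by
      apply MvPolynomial.algHom_ext
      intro i
      simp only [AlgHom.comp_apply, aeval_X, Ideal.Quotient.mkₐ_eq_mk]
      exact (hpt i).symm
    have h := congrArg (fun f => f p) this
    simp only [AlgHom.comp_apply, Ideal.Quotient.mkₐ_eq_mk] at h
    rw [h]
    rfl
  have hrel0 : ∀ j, P.hom (P.rel j) = 0 := by
    intro j
    have : P.rel j ∈ RingHom.ker P.hom.toRingHom := by
      rw [P.ker_eq]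
      exact Ideal.subset_span ⟨j, rfl⟩
    exact this
  have he : ∀ j, ∃ e : R, eval pt (P.rel j) = π ^ 4 * e := by
    intro j
    have h1 : Ideal.Quotient.mk (Ideal.span {π ^ 4}) (eval pt (P.rel j)) = 0 := by
      rw [← hρev, hrel0, map_zero]
    obtain ⟨e, he⟩ := Ideal.mem_span_singleton'.1 (Ideal.Quotient.eq_zero_iff_mem.1 h1)
    exact ⟨e, by rw [← he, mul_comm]⟩
  choose e he using he
  obtain ⟨abar, habar⟩ := Ideal.mem_span_range_iff_exists_fun.1 hmem
  choose α hα using fun I => P.surj (abar I)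
  have hminor : C π - ∑ I : Fin P.c → Fin P.n, α I * jacobianMinor P.rel (Fin.castLE P.hcm) I ∈
      Ideal.span (Set.range P.rel) := by
    rw [← P.ker_eq]
    change P.hom _ = 0
    rw [map_sub, map_sum, sub_eq_zero]
    have hC : P.hom (C π) = algebraMap R A π := P.hom.commutes π
    rw [hC, ← habar]
    refine Finset.sum_congr rfl fun I _ => ?_
    rw [map_mul, hα]
  let J : Matrix (Fin P.c) (Fin P.n) R := Matrix.of fun j i =>
    eval pt (pderiv i (P.rel (Fin.castLE P.hcm j)))
  have hJdet : ∀ I : Fin P.c → Fin P.n,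
      eval pt (jacobianMinor P.rel (Fin.castLE P.hcm) I) = (J.submatrix id I).det := by
    intro I
    rw [jacobianMinor, RingHom.map_det]
    congr 1
  have hsum : ∃ d : R, ∑ I : Fin P.c → Fin P.n, eval pt (α I) * (J.submatrix id I).det =
      (1 - π ^ 3 * d) * π := by
    have h1 : Ideal.Quotient.mk (Ideal.span {π ^ 4})
        (eval pt (C π - ∑ I : Fin P.c → Fin P.n, α I * jacobianMinor P.rel (Fin.castLE P.hcm) I)) = 0 := by
      rw [← hρev]
      have : P.hom (C π - ∑ I : Fin P.c → Fin P.n, α I * jacobianMinor P.rel (Fin.castLE P.hcm) I) = 0 := by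
        have h2 := hminor
        rw [← P.ker_eq] at h2
        exact h2
      rw [this, map_zero]
    obtain ⟨d, hd⟩ := Ideal.mem_span_singleton'.1 (Ideal.Quotient.eq_zero_iff_mem.1 h1)
    refine ⟨d, ?_⟩
    rw [map_sub, eval_C, map_sum] at hd
    simp_rw [map_mul, hJdet] at hd
    have : ∑ I : Fin P.c → Fin P.n, eval pt (α I) * (J.submatrix id I).det = π - d * π ^ 4 := by
      rw [hd]; ring
    rw [this]
    ring
  obtain ⟨d, hd⟩ := hsum
  obtain ⟨s, hs⟩ := exists_right_inv J (fun I => eval pt (α I))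
  rw [hd] at hs
  refine ⟨e, d, s, he, ?_, ?_, ⟨α, hminor⟩⟩
  · intro j k
    have h1 := congrFun (congrFun hs j) k
    rw [Matrix.mul_apply, Matrix.smul_apply, Matrix.one_apply] at h1
    simp only [J, Matrix.of_apply] at h1
    rw [h1]
    by_cases hjk : j = k
    · simp [hjk]
    · simp [hjk]
  · intro j hj
    exact hKT (C π) (P.hom.commutes π) j hj


/-- Let `R` be Noetherian, `Λ` an `R`-algebra, `π ∈ R` with the annihilators of `π` and `π²` in `Λ`
equal, and `A → Λ` an `R`-algebra map with `A` finitely presented. Suppose `π` is strictly standard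
in `A` over `R` and there is an `R`-algebra map `A → R/π⁴R` compatible with the maps to `Λ/π⁴Λ`.
Then `A → Λ` factors through a finitely presented `R`-algebra `B` such that every `r ∈ R` which
multiplies the annihilator of `π²` into the annihilator of `π` maps into the singular ideal of `B`
over `R`. -/
theorem result {R Λ A : Type u} [CommRing R] [IsNoetherianRing R] [CommRing Λ]
    [Algebra R Λ] (π : R) (hΛ : ∀ x : Λ, π ^ 2 • x = 0 → π • x = 0) [CommRing A] [Algebra R A]
    [Algebra.FinitePresentation R A] (φ : A →ₐ[R] Λ)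
    (hπ : Smoothing.IsStrictlyStandard R A (algebraMap R A π))
    (ρ : A →ₐ[R] R ⧸ Ideal.span {π ^ 4})
    (hρ : ∀ (a : A) (r : R), Ideal.Quotient.mk (Ideal.span {π ^ 4}) r = ρ a →
      algebraMap R Λ r - φ a ∈ Ideal.span {algebraMap R Λ (π ^ 4)}) :
    ∃ (B : Type u) (_ : CommRing B) (_ : Algebra R B), Algebra.FinitePresentation R B ∧
      ∃ (α : A →ₐ[R] B) (β : B →ₐ[R] Λ), β.comp α = φ ∧
        ∀ r : R, (∀ x : R, π ^ 2 * x = 0 → π * (r * x) = 0) →
          algebraMap R B r ∈ Smoothing.singularIdeal R B := by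
  obtain ⟨P, hmem, hKT⟩ := hπ
  choose pt hpt using fun i : Fin P.n => Ideal.Quotient.mk_surjective (ρ (P.hom (X i)))
  obtain ⟨e, d, s, he, hs, htail, hminor⟩ := exists_dat π P hmem hKT ρ pt hpt
  let D : Dat R := Dat.mk P.n P.m P.c P.hcm P.rel π pt e he d s hs htail hminor
  haveI hfp : Algebra.FinitePresentation R D.B := Groth.Agent.S2030.fp_A D.PB
  obtain ⟨α, hα⟩ := D.exists_alpha P.hom P.surj P.ker_eq
  have hlam : ∀ i : Fin P.n, ∃ l : Λ, φ (P.hom (X i)) = algebraMap R Λ (pt i) + π ^ 4 • l := by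
    intro i
    obtain ⟨l, hl⟩ := Ideal.mem_span_singleton'.1 (hρ (P.hom (X i)) (pt i) (hpt i))
    refine ⟨-l, ?_⟩
    rw [Algebra.smul_def, mul_neg, mul_comm, hl]
    ring
  choose lam hlam using hlam
  have hφ₀ : ∀ j, (φ.comp P.hom) (P.rel j) = 0 := by
    intro j
    have : P.rel j ∈ RingHom.ker P.hom.toRingHom := by
      rw [P.ker_eq]
      exact Ideal.subset_span ⟨j, rfl⟩
    have h0 : P.hom (P.rel j) = 0 := this
    rw [AlgHom.comp_apply, h0, map_zero]
  obtain ⟨β, hβ⟩ := D.exists_beta hΛ (φ.comp P.hom) hφ₀ lam hlam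
  refine ⟨D.B, inferInstance, inferInstance, hfp, α, β, ?_, ?_⟩
  · apply AlgHom.ext
    intro a
    obtain ⟨p, rfl⟩ := P.surj a
    rw [AlgHom.comp_apply, hα, hβ]
    rfl
  · intro r hr
    rw [singularIdeal, PrimeSpectrum.mem_vanishingIdeal]
    intro 𝔮 h𝔮
    by_contra hrq
    obtain ⟨ε, hε, hss⟩ := D.exists_ss r hr 𝔮.asIdeal hrq
    have hsm : Algebra.Smooth R (Localization.Away ε) := (Groth.Agent.S2030.result ε hss).1
    have hsub := (Algebra.basicOpen_subset_smoothLocus_iff_smooth (R := R) (A := D.B) (f := ε)).2 hsm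
    exact h𝔮 (hsub hε)

end Groth.Agent.S2027
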