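import Groth.Statements.S2028
import Mathlib
import Groth.Agent.S2027
import Groth.Agent.Lib.Helper57.SSBaseChange
-- import your own Groth.Agent.* helpers here

set_option autoImplicit false
universe u
open Smoothing

namespace Groth.Agent.S2028

open TensorProduct Groth.Agent.Lib.Helper57.S2027Core Groth.Agent.Lib.Helper57.SSBaseChange

theorem basicOpen_subset {R D : Type u} [CommRing R] [CommRing D] [Algebra R D] (r₀ : D)
    (hr₀ : r₀ ∈ singularIdeal R D) :
    (PrimeSpectrum.basicOpen r₀ : Set (PrimeSpectrum D)) ⊆ Algebra.smoothLocus R D := by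
  intro 𝔮 h𝔮
  by_contra hns
  exact h𝔮 ((PrimeSpectrum.mem_vanishingIdeal _ _).1 hr₀ 𝔮 hns)

theorem exists_pow_ann {R D : Type u} [CommRing R] [IsNoetherianRing R] [CommRing D] [Algebra R D]
    [Algebra.FinitePresentation R D] (π : R) (hR : ∀ r : R, π ^ 2 * r = 0 → π * r = 0) (r₀ : D)
    (hr₀ : r₀ ∈ singularIdeal R D) :
    ∃ N : ℕ, ∀ x : D, algebraMap R D π ^ 2 * x = 0 → algebraMap R D π * (r₀ ^ N * x) = 0 := by
  classical
  haveI : Algebra.Smooth R (Localization.Away r₀) :=
    (Algebra.basicOpen_subset_smoothLocus_iff_smooth).1 (basicOpen_subset r₀ hr₀)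
  haveI : IsNoetherianRing D := Algebra.FiniteType.isNoetherianRing R D
  have hloc : ∀ x : D, algebraMap R D π ^ 2 * x = 0 → ∃ k : ℕ, r₀ ^ k * (algebraMap R D π * x) = 0 := by
    intro x hx
    have h1 : π ^ 2 • (algebraMap D (Localization.Away r₀) x) = 0 := by
      rw [Algebra.smul_def, IsScalarTower.algebraMap_apply R D (Localization.Away r₀), ← map_mul,
        map_pow, hx, map_zero]
    have h2 := flat_ann π 1 (fun y hy => by rw [one_mul]; exact hR y hy) _ h1
    rw [one_smul, Algebra.smul_def, IsScalarTower.algebraMap_apply R D (Localization.Away r₀),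
      ← map_mul] at h2
    obtain ⟨⟨_, k, rfl⟩, hk⟩ :=
      (IsLocalization.map_eq_zero_iff (Submonoid.powers r₀) (Localization.Away r₀) _).1 h2
    exact ⟨k, hk⟩
  let K : Ideal D :=
    { carrier := {x | algebraMap R D π ^ 2 * x = 0}
      add_mem' := fun {a b} ha hb => by
        change _ * (a + b) = 0
        rw [mul_add, ha, hb, add_zero]
      zero_mem' := mul_zero _
      smul_mem' := fun c {x} hx => by
        change _ * (c * x) = 0
        rw [mul_left_comm, hx, mul_zero] }
  obtain ⟨s, hs⟩ := (IsNoetherian.noetherian K : K.FG)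
  have hsK : ∀ x ∈ s, algebraMap R D π ^ 2 * x = 0 := by
    intro x hx
    have : x ∈ K := hs ▸ Submodule.subset_span hx
    exact this
  choose! k hk using hloc
  refine ⟨s.sup k, ?_⟩
  have hall : ∀ x ∈ Submodule.span D (s : Set D),
      algebraMap R D π * (r₀ ^ s.sup k * x) = 0 := by
    intro x hxK
    induction hxK using Submodule.span_induction with
    | mem y hy =>
      have hle : k y ≤ s.sup k := Finset.le_sup hy
      have h1 := hk y (hsK y hy)
      have : r₀ ^ s.sup k = r₀ ^ (s.sup k - k y) * r₀ ^ k y := by rw [← pow_add]; congr 1; omega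
      rw [mul_left_comm, this, mul_assoc, h1, mul_zero]
    | zero => simp
    | add y z _ _ hy hz => rw [mul_add, mul_add, hy, hz, add_zero]
    | smul c y _ hy =>
      rw [smul_eq_mul, mul_left_comm (r₀ ^ s.sup k), mul_left_comm, hy, mul_zero]
  intro x hx
  exact hall x (hs ▸ (show x ∈ K from hx))


theorem smooth_comp_loc {R D B : Type u} [CommRing R] [CommRing D] [CommRing B] [Algebra R D]
    [Algebra D B] [Algebra R B] [IsScalarTower R D B] [Algebra.FinitePresentation R D]
    [Algebra.FinitePresentation D B] (r₀ : D)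
    (h1 : Algebra.Smooth R (Localization.Away r₀))
    (h2 : Algebra.Smooth D (Localization.Away (algebraMap D B r₀))) :
    Algebra.Smooth R (Localization.Away (algebraMap D B r₀)) := by
  letI algDB : Algebra (Localization.Away r₀) (Localization.Away (algebraMap D B r₀)) :=
    (Localization.awayMap (algebraMap D B) r₀).toAlgebra
  haveI t1 : IsScalarTower D (Localization.Away r₀) (Localization.Away (algebraMap D B r₀)) :=
    IsScalarTower.of_algebraMap_eq (fun x => by
      change _ = Localization.awayMap (algebraMap D B) r₀ (algebraMap D _ x)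
      rw [Localization.awayMap, IsLocalization.Away.map, IsLocalization.map_eq,
        ← IsScalarTower.algebraMap_apply])
  haveI t2 : IsScalarTower R (Localization.Away r₀) (Localization.Away (algebraMap D B r₀)) :=
    IsScalarTower.of_algebraMap_eq (fun x => by
      rw [IsScalarTower.algebraMap_apply R D (Localization.Away r₀),
        ← IsScalarTower.algebraMap_apply D (Localization.Away r₀),
        ← IsScalarTower.algebraMap_apply R D])
  haveI : Algebra.FormallySmooth (Localization.Away r₀) (Localization.Away (algebraMap D B r₀)) :=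
    Algebra.FormallySmooth.localization_base (R := D) (Rₘ := Localization.Away r₀)
      (Sₘ := Localization.Away (algebraMap D B r₀)) (Submonoid.powers r₀)
  haveI : Algebra.FinitePresentation D (Localization.Away (algebraMap D B r₀)) :=
    Algebra.Smooth.finitePresentation
  haveI : Algebra.FinitePresentation D (Localization.Away r₀) :=
    IsLocalization.Away.finitePresentation r₀
  haveI : Algebra.FiniteType D (Localization.Away r₀) := inferInstance
  haveI : Algebra.FinitePresentation (Localization.Away r₀)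
      (Localization.Away (algebraMap D B r₀)) :=
    Algebra.FinitePresentation.of_restrict_scalars_finitePresentation D _ _
  haveI : Algebra.Smooth (Localization.Away r₀) (Localization.Away (algebraMap D B r₀)) :=
    ⟨inferInstance, inferInstance⟩
  exact Algebra.Smooth.comp R (Localization.Away r₀) (Localization.Away (algebraMap D B r₀))


theorem compat {R Λ A D : Type u} [CommRing R] [CommRing Λ] [Algebra R Λ] (π : R)
    [CommRing A] [Algebra R A] [CommRing D] [Algebra R D] [Algebra D Λ] [IsScalarTower R D Λ]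
    (φ : A →ₐ[R] Λ)
    (ψ : A →ₐ[R] D ⧸ Ideal.span {algebraMap R D (π ^ 4)})
    (hψ : ∀ (a : A) (d : D), Ideal.Quotient.mk (Ideal.span {algebraMap R D (π ^ 4)}) d = ψ a →
      algebraMap D Λ d - φ a ∈ Ideal.span {algebraMap R Λ (π ^ 4)})
    (hI : Ideal.span {algebraMap R D (π ^ 4)} = Ideal.span {algebraMap R D π ^ 4})
    (a : D ⊗[R] A) (d : D)
    (h : Ideal.Quotient.mk (Ideal.span {algebraMap R D π ^ 4}) d =
      (Algebra.TensorProduct.lift (Algebra.ofId D (D ⧸ Ideal.span {algebraMap R D π ^ 4}))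
        ((Ideal.quotientEquivAlgOfEq R hI).toAlgHom.comp ψ) (fun _ _ => Commute.all _ _) :
          D ⊗[R] A →ₐ[D] D ⧸ Ideal.span {algebraMap R D π ^ 4}) a) :
    algebraMap D Λ d - (Algebra.TensorProduct.lift (Algebra.ofId D Λ) φ
      (fun _ _ => Commute.all _ _) : D ⊗[R] A →ₐ[D] Λ) a ∈
        Ideal.span {algebraMap D Λ (algebraMap R D π ^ 4)} := by
  have hmap : ∀ d ∈ Ideal.span {algebraMap R D π ^ 4},
      algebraMap D Λ d ∈ Ideal.span {algebraMap D Λ (algebraMap R D π ^ 4)} := by
    intro d hd
    obtain ⟨c, rfl⟩ := Ideal.mem_span_singleton'.1 hd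
    rw [map_mul]
    exact Ideal.mul_mem_left _ _ (Ideal.subset_span rfl)
  have hel : algebraMap D Λ (algebraMap R D π ^ 4) = algebraMap R Λ (π ^ 4) := by
    rw [← map_pow, ← IsScalarTower.algebraMap_apply]
  induction a using TensorProduct.induction_on generalizing d with
  | zero =>
    rw [map_zero] at h
    rw [map_zero, sub_zero]
    exact hmap d (Ideal.Quotient.eq_zero_iff_mem.1 h)
  | tmul d' a₀ =>
    obtain ⟨d₀, hd₀⟩ := Ideal.Quotient.mk_surjective (ψ a₀)
    rw [Algebra.TensorProduct.lift_tmul] at h ⊢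
    have h1 : (Ideal.quotientEquivAlgOfEq R hI).toAlgHom.comp ψ a₀ =
        Ideal.Quotient.mk (Ideal.span {algebraMap R D π ^ 4}) d₀ := by
      rw [AlgHom.comp_apply, ← hd₀]
      rfl
    rw [h1, Algebra.ofId_apply, Ideal.Quotient.algebraMap_eq, ← map_mul, Ideal.Quotient.eq] at h
    have h2 := hψ a₀ d₀ hd₀
    rw [← hel] at h2
    have h3 : algebraMap D Λ d - (Algebra.ofId D Λ) d' * φ a₀ =
        algebraMap D Λ (d - d' * d₀) + algebraMap D Λ d' * (algebraMap D Λ d₀ - φ a₀) := by
      rw [Algebra.ofId_apply, map_sub, map_mul]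
      ring
    rw [h3]
    exact Ideal.add_mem _ (hmap _ h) (Ideal.mul_mem_left _ _ h2)
  | add a₁ a₂ h₁ h₂ =>
    obtain ⟨d₁, hd₁⟩ := Ideal.Quotient.mk_surjective
      ((Algebra.TensorProduct.lift (Algebra.ofId D (D ⧸ Ideal.span {algebraMap R D π ^ 4}))
        ((Ideal.quotientEquivAlgOfEq R hI).toAlgHom.comp ψ) (fun _ _ => Commute.all _ _) :
          D ⊗[R] A →ₐ[D] D ⧸ Ideal.span {algebraMap R D π ^ 4}) a₁)
    obtain ⟨d₂, hd₂⟩ := Ideal.Quotient.mk_surjective
      ((Algebra.TensorProduct.lift (Algebra.ofId D (D ⧸ Ideal.span {algebraMap R D π ^ 4}))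
        ((Ideal.quotientEquivAlgOfEq R hI).toAlgHom.comp ψ) (fun _ _ => Commute.all _ _) :
          D ⊗[R] A →ₐ[D] D ⧸ Ideal.span {algebraMap R D π ^ 4}) a₂)
    rw [map_add, ← hd₁, ← hd₂, ← map_add, Ideal.Quotient.eq] at h
    rw [map_add]
    have h3 : ∀ x y : Λ, algebraMap D Λ d - (x + y) = algebraMap D Λ (d - (d₁ + d₂)) +
        ((algebraMap D Λ d₁ - x) + (algebraMap D Λ d₂ - y)) := by
      intro x y
      rw [map_sub, map_add]
      ring
    rw [h3]
    exact Ideal.add_mem _ (hmap _ h) (Ideal.add_mem _ (h₁ d₁ hd₁) (h₂ d₂ hd₂))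



/-- Let `R` be Noetherian, `Λ` an `R`-algebra and `π ∈ R` with the annihilators of `π` and `π²` equal in
`R` and in `Λ`. Let `A → Λ` and `D → Λ` be `R`-algebra maps with `A`, `D` finitely presented, `π`
strictly standard in `A` over `R`, and `A → D/π⁴D` an `R`-algebra map compatible with the maps to
`Λ/π⁴Λ`. Then there is a finitely presented `R`-algebra `B` with compatible maps `A → B`, `D → B`,
`B → Λ` such that the singular ideal of `D` over `R` extends into both the singular ideal of `B`
over `D` and the singular ideal of `B` over `R`. -/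
theorem result {R Λ A D : Type u} [CommRing R] [IsNoetherianRing R]
    [CommRing Λ] [Algebra R Λ] (π : R) (hR : ∀ r : R, π ^ 2 * r = 0 → π * r = 0)
    (hΛ : ∀ x : Λ, π ^ 2 • x = 0 → π • x = 0) [CommRing A] [Algebra R A]
    [Algebra.FinitePresentation R A] [CommRing D] [Algebra R D] [Algebra.FinitePresentation R D]
    (φ : A →ₐ[R] Λ) (δ : D →ₐ[R] Λ) (hπ : Smoothing.IsStrictlyStandard R A (algebraMap R A π))
    (ψ : A →ₐ[R] D ⧸ Ideal.span {algebraMap R D (π ^ 4)})
    (hψ : ∀ (a : A) (d : D), Ideal.Quotient.mk (Ideal.span {algebraMap R D (π ^ 4)}) d = ψ a →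
      δ d - φ a ∈ Ideal.span {algebraMap R Λ (π ^ 4)}) :
    ∃ (B : Type u) (_ : CommRing B) (_ : Algebra R B) (_ : Algebra D B) (_ : IsScalarTower R D B),
      Algebra.FinitePresentation R B ∧
      ∃ (α : A →ₐ[R] B) (β : B →ₐ[R] Λ), β.comp α = φ ∧
        β.comp (IsScalarTower.toAlgHom R D B) = δ ∧
        (Smoothing.singularIdeal R D).map (algebraMap D B) ≤ Smoothing.singularIdeal D B ∧
        (Smoothing.singularIdeal R D).map (algebraMap D B) ≤ Smoothing.singularIdeal R B := by
  haveI : IsNoetherianRing D := Algebra.FiniteType.isNoetherianRing R D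
  letI algDΛ : Algebra D Λ := δ.toRingHom.toAlgebra
  haveI towΛ : IsScalarTower R D Λ :=
    IsScalarTower.of_algebraMap_eq (fun x => (δ.commutes x).symm)
  have e1 : ∀ (k : ℕ) (x : Λ), algebraMap R D π ^ k • x = π ^ k • x := by
    intro k x
    rw [Algebra.smul_def, Algebra.smul_def, ← map_pow, ← IsScalarTower.algebraMap_apply]
  have hΛD : ∀ x : Λ, algebraMap R D π ^ 2 • x = 0 → algebraMap R D π • x = 0 := by
    intro x hx
    have h1 := hΛ x (by rw [← e1]; exact hx)
    have h2 := e1 1 x
    rw [pow_one, pow_one] at h2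
    rw [h2]
    exact h1
  have hss : IsStrictlyStandard D (D ⊗[R] A) (algebraMap D (D ⊗[R] A) (algebraMap R D π)) :=
    ss_baseChange D _ hπ _ (by
      rw [Algebra.TensorProduct.algebraMap_apply, Algebra.algebraMap_self, RingHom.id_apply,
        Algebra.algebraMap_eq_smul_one (A := D) π, Algebra.algebraMap_eq_smul_one (A := A) π,
        TensorProduct.smul_tmul])
  have hI : Ideal.span {algebraMap R D (π ^ 4)} = Ideal.span {algebraMap R D π ^ 4} := by
    rw [map_pow]
  obtain ⟨B, _, _, hfp, αD, βD, hcomp, H⟩ := Groth.Agent.S2027.result (R := D) (Λ := Λ)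
    (A := D ⊗[R] A) (algebraMap R D π) hΛD
    (Algebra.TensorProduct.lift (Algebra.ofId D Λ) φ (fun _ _ => Commute.all _ _)) hss
    (Algebra.TensorProduct.lift (Algebra.ofId D (D ⧸ Ideal.span {algebraMap R D π ^ 4}))
        ((Ideal.quotientEquivAlgOfEq R hI).toAlgHom.comp ψ) (fun _ _ => Commute.all _ _))
    (fun a d h => compat π φ ψ hψ hI a d h)
  letI algRB : Algebra R B := ((algebraMap D B).comp (algebraMap R D)).toAlgebra
  haveI towB : IsScalarTower R D B := IsScalarTower.of_algebraMap_eq' rfl
  haveI : Algebra.FinitePresentation R B := Algebra.FinitePresentation.trans R D B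
  have h3 : (singularIdeal R D).map (algebraMap D B) ≤ singularIdeal D B := by
    rw [Ideal.map_le_iff_le_comap]
    intro r₀ hr₀
    obtain ⟨N, hN⟩ := exists_pow_ann π hR r₀ hr₀
    have h4 := H (r₀ ^ N) hN
    rw [singularIdeal, PrimeSpectrum.mem_vanishingIdeal] at h4
    rw [Ideal.mem_comap, singularIdeal, PrimeSpectrum.mem_vanishingIdeal]
    intro 𝔮 h𝔮
    have h5 := h4 𝔮 h𝔮
    rw [map_pow] at h5
    exact 𝔮.isPrime.mem_of_pow_mem _ h5
  refine ⟨B, inferInstance, algRB, inferInstance, towB, inferInstance,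
    (αD.restrictScalars R).comp Algebra.TensorProduct.includeRight, βD.restrictScalars R,
    ?_, ?_, h3, ?_⟩
  · apply AlgHom.ext
    intro a
    have h6 := congrArg (fun f => f ((1 : D) ⊗ₜ[R] a)) hcomp
    simp only [AlgHom.comp_apply, Algebra.TensorProduct.lift_tmul, map_one, one_mul] at h6
    simpa using h6
  · apply AlgHom.ext
    intro d
    simp only [AlgHom.comp_apply, AlgHom.restrictScalars_apply, IsScalarTower.toAlgHom_apply]
    rw [βD.commutes]
    rfl
  · rw [Ideal.map_le_iff_le_comap]
    intro r₀ hr₀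
    have h7 : algebraMap D B r₀ ∈ singularIdeal D B := h3 (Ideal.mem_map_of_mem _ hr₀)
    rw [Ideal.mem_comap, singularIdeal, PrimeSpectrum.mem_vanishingIdeal]
    intro 𝔮 h𝔮
    by_contra hne
    have hs1 : Algebra.Smooth R (Localization.Away r₀) :=
      (Algebra.basicOpen_subset_smoothLocus_iff_smooth).1 (basicOpen_subset r₀ hr₀)
    have hs2 : Algebra.Smooth D (Localization.Away (algebraMap D B r₀)) :=
      (Algebra.basicOpen_subset_smoothLocus_iff_smooth).1 (basicOpen_subset _ h7)
    have hs3 := smooth_comp_loc (R := R) r₀ hs1 hs2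
    have hsub := (Algebra.basicOpen_subset_smoothLocus_iff_smooth (R := R) (A := B)
      (f := algebraMap D B r₀)).2 hs3
    exact h𝔮 (hsub hne)

end Groth.Agent.S2028
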