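import Groth.Statements.S2024
import Mathlib
import Groth.Agent.Lib.Helper57.S2024Lift
import Groth.Agent.Lib.Helper57.S2024LiftC
import Groth.Agent.Lib.Helper57.S2024LiftD
-- import your own Groth.Agent.* helpers here

set_option autoImplicit false
universe u
open Smoothing

namespace Groth.Agent.S2024

open MvPolynomial Groth.Agent.Lib.Helper57.S2024Lift in
theorem main {R Λ Cc : Type u} [CommRing R] [IsNoetherianRing R] [CommRing Λ]
    [Algebra R Λ] (π : R) (hR : ∀ r : R, π ^ 2 * r = 0 → π * r = 0)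
    (hΛ : ∀ x : Λ, π ^ 2 • x = 0 → π • x = 0) [CommRing Cc] [Algebra R Cc]
    [Algebra (R ⧸ Ideal.span {π ^ 2}) Cc] [IsScalarTower R (R ⧸ Ideal.span {π ^ 2}) Cc]
    (g : Cc →ₐ[R] Λ ⧸ Ideal.span {algebraMap R Λ (π ^ 2)})
    {n m : ℕ} (f : Fin m → MvPolynomial (Fin n) R) (χ : MvPolynomial (Fin n) R →ₐ[R] Cc)
    (hχ : Function.Surjective χ)
    (hker : RingHom.ker χ.toRingHom = Ideal.span (Set.range f) ⊔ Ideal.span {C (π ^ 2)})
    {D : Type u} [CommRing D] [Algebra R D] (φ : Pol R n m →ₐ[R] D)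
    (hφ : Function.Surjective φ) (hkerφ : RingHom.ker φ.toRingHom = ID f π) :
    Algebra.FinitePresentation R D ∧
      ∃ (δ : D →ₐ[R] Λ) (ψ : Cc →ₐ[R] D ⧸ Ideal.span {algebraMap R D π}),
        (∀ (c : Cc) (d : D) (l : Λ), Ideal.Quotient.mk (Ideal.span {algebraMap R D π}) d = ψ c →
          Ideal.Quotient.mk (Ideal.span {algebraMap R Λ (π ^ 2)}) l = g c →
            δ d - l ∈ Ideal.span {algebraMap R Λ π}) ∧
        (∀ (Q : Ideal D) [Q.IsPrime], algebraMap R D π ∉ Q → Algebra.IsSmoothAt R Q) ∧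
        (∀ (Q : Ideal (D ⧸ Ideal.span {algebraMap R D π})) [Q.IsPrime],
          Algebra.IsSmoothAt (R ⧸ Ideal.span {π ^ 2}) (Q.comap ψ) →
            Algebra.IsSmoothAt R (Q.comap (Ideal.Quotient.mk (Ideal.span {algebraMap R D π})))) := by
  classical
  haveI hfp : Algebra.FinitePresentation R D := fp_D φ hφ
  refine ⟨hfp, ?_⟩
  -- lifts
  choose lam hlam using fun i : Fin n => Ideal.Quotient.mk_surjective (g (χ (X i)))
  have hgχ : g.comp χ = (Ideal.Quotient.mkₐ R (Ideal.span {algebraMap R Λ (π ^ 2)})).comp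
      (aeval lam) := by
    refine MvPolynomial.algHom_ext fun i => ?_
    rw [AlgHom.comp_apply, AlgHom.comp_apply, aeval_X, ← hlam]
    rfl
  have hχf : ∀ j, χ (f j) = 0 := by
    intro j
    have : f j ∈ RingHom.ker χ.toRingHom := by
      rw [hker]
      exact Ideal.mem_sup_left (Ideal.subset_span ⟨j, rfl⟩)
    exact this
  have hmu : ∀ j, ∃ mu : Λ, aeval lam (f j) = π ^ 2 • mu := by
    intro j
    have h1 : Ideal.Quotient.mk (Ideal.span {algebraMap R Λ (π ^ 2)}) (aeval lam (f j)) = 0 := by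
      have := DFunLike.congr_fun hgχ (f j)
      rw [AlgHom.comp_apply, hχf, map_zero] at this
      exact this.symm
    rw [Ideal.Quotient.eq_zero_iff_mem, Ideal.mem_span_singleton'] at h1
    obtain ⟨mu, hmu⟩ := h1
    exact ⟨mu, by rw [← hmu, Algebra.smul_def, mul_comm]⟩
  choose mu hmu using hmu
  obtain ⟨δ, hδ⟩ := exists_delta f π φ hφ hkerφ hΛ lam mu hmu
  obtain ⟨ψ, hψ⟩ := exists_psi f π φ hkerφ χ hχ hker
  refine ⟨δ, ψ, ?_, ?_, ?_⟩
  · intro c d l hd hl
    exact compat π φ g χ hχ lam hlam δ hδ ψ hψ c d l hd hl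
  · intro Q _ hQ
    have hES := elemStd_b f π φ hφ hkerφ
    refine smoothAt_of_elemStd _ hES Q ?_
    have hCπ : φ (C π) = algebraMap R D π := φ.commutes π
    rw [map_mul, map_pow, map_neg, hCπ]
    intro hmem
    rcases Ideal.IsPrime.mem_or_mem inferInstance hmem with h | h
    · exact hQ h
    · have := Ideal.IsPrime.mem_of_pow_mem inferInstance _ h
      exact hQ ((Ideal.neg_mem_iff _).1 this)
  · intro Q _ hsm
    obtain ⟨T, hT, hq, hM⟩ := exists_chart π f χ hχ hker (Q.comap ψ) hsm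
    obtain ⟨k1, k2, hES⟩ := elemStd_c f π φ hφ hkerφ hR hT
    refine smoothAt_of_elemStd _ hES _ ?_
    intro hmem
    have e1 : Ideal.Quotient.mk (Ideal.span {algebraMap R D π})
        (φ (ι (Smoothing.jacobianMinor f T.rows T.cols) ^ k1 * ι T.q ^ k2)) =
        ψ (χ (Smoothing.jacobianMinor f T.rows T.cols)) ^ k1 * ψ (χ T.q) ^ k2 := by
      rw [hψ, hψ]
      simp only [map_mul, map_pow]
    rw [Ideal.mem_comap, e1] at hmem
    rcases Ideal.IsPrime.mem_or_mem inferInstance hmem with h | h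
    · have h' : ψ (χ (Smoothing.jacobianMinor f T.rows T.cols)) ∈ Q :=
        Ideal.IsPrime.mem_of_pow_mem inferInstance _ h
      exact hM h'
    · have h' : ψ (χ T.q) ∈ Q := Ideal.IsPrime.mem_of_pow_mem inferInstance _ h
      exact hq h'


/-- Parts (a), (b), (c) (the source also controls smoothness of the induced map on the fibres modulo
`π`, which is not restated here): let `R` be Noetherian, `Λ` an `R`-algebra and `π ∈ R` with the
annihilators of `π` and `π²` equal both in `R` and in `Λ`. Given a finitely presented algebra `C`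
over `R/π²R` with a map to `Λ/π²Λ`, there are a finitely presented `R`-algebra `D`, a map `D → Λ`
and a map `C → D/πD` compatible with the given one modulo `π`, such that `R → D` is smooth at every
prime not containing `π`, and smooth at every prime containing `π` that lies over a prime of `C` at
which `R/π²R → C` is smooth. -/
theorem result {R Λ C : Type u} [CommRing R] [IsNoetherianRing R] [CommRing Λ]
    [Algebra R Λ] (π : R) (hR : ∀ r : R, π ^ 2 * r = 0 → π * r = 0)
    (hΛ : ∀ x : Λ, π ^ 2 • x = 0 → π • x = 0) [CommRing C] [Algebra R C]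
    [Algebra (R ⧸ Ideal.span {π ^ 2}) C] [IsScalarTower R (R ⧸ Ideal.span {π ^ 2}) C]
    [Algebra.FinitePresentation (R ⧸ Ideal.span {π ^ 2}) C]
    (g : C →ₐ[R] Λ ⧸ Ideal.span {algebraMap R Λ (π ^ 2)}) :
    ∃ (D : Type u) (_ : CommRing D) (_ : Algebra R D), Algebra.FinitePresentation R D ∧
      ∃ (δ : D →ₐ[R] Λ) (ψ : C →ₐ[R] D ⧸ Ideal.span {algebraMap R D π}),
        (∀ (c : C) (d : D) (l : Λ), Ideal.Quotient.mk (Ideal.span {algebraMap R D π}) d = ψ c →
          Ideal.Quotient.mk (Ideal.span {algebraMap R Λ (π ^ 2)}) l = g c →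
            δ d - l ∈ Ideal.span {algebraMap R Λ π}) ∧
        (∀ (Q : Ideal D) [Q.IsPrime], algebraMap R D π ∉ Q → Algebra.IsSmoothAt R Q) ∧
        (∀ (Q : Ideal (D ⧸ Ideal.span {algebraMap R D π})) [Q.IsPrime],
          Algebra.IsSmoothAt (R ⧸ Ideal.span {π ^ 2}) (Q.comap ψ) →
            Algebra.IsSmoothAt R (Q.comap (Ideal.Quotient.mk (Ideal.span {algebraMap R D π})))) := by
  classical
  haveI : Algebra.FinitePresentation R (R ⧸ Ideal.span {π ^ 2}) :=
    Algebra.FinitePresentation.quotient (Submodule.fg_span_singleton _)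
  haveI : Algebra.FinitePresentation R C :=
    Algebra.FinitePresentation.trans R (R ⧸ Ideal.span {π ^ 2}) C
  obtain ⟨n, χ, hχ, hfg⟩ := Algebra.FinitePresentation.out (R := R) (A := C)
  obtain ⟨m, f, hf⟩ := Submodule.fg_iff_exists_fin_generating_family.1 hfg
  have hker : RingHom.ker χ.toRingHom =
      Ideal.span (Set.range f) ⊔ Ideal.span {MvPolynomial.C (π ^ 2)} := by
    have hf' : Ideal.span (Set.range f) = RingHom.ker χ.toRingHom := hf
    rw [hf']
    refine (sup_eq_left.2 ?_).symm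
    rw [Ideal.span_le, Set.singleton_subset_iff]
    change χ (MvPolynomial.C (π ^ 2)) = 0
    have h1 : χ (MvPolynomial.C (π ^ 2)) = algebraMap R C (π ^ 2) := χ.commutes _
    rw [h1, IsScalarTower.algebraMap_apply R (R ⧸ Ideal.span {π ^ 2}) C]
    have : algebraMap R (R ⧸ Ideal.span {π ^ 2}) (π ^ 2) = 0 :=
      Ideal.Quotient.eq_zero_iff_mem.2 (Ideal.subset_span rfl)
    rw [this, map_zero]
  obtain ⟨D, _, _, φ, hφ, hkerφ⟩ : ∃ (D : Type u) (_ : CommRing D) (_ : Algebra R D)
      (φ : Groth.Agent.Lib.Helper57.S2024Lift.Pol R n m →ₐ[R] D), Function.Surjective φ ∧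
        RingHom.ker φ.toRingHom = Groth.Agent.Lib.Helper57.S2024Lift.ID f π :=
    ⟨Groth.Agent.Lib.Helper57.S2024Lift.Pol R n m ⧸ Groth.Agent.Lib.Helper57.S2024Lift.ID f π,
      inferInstance, inferInstance, Ideal.Quotient.mkₐ R _, Ideal.Quotient.mkₐ_surjective R _, by
        change RingHom.ker (Ideal.Quotient.mk _) = _
        exact Ideal.mk_ker⟩
  obtain ⟨h1, h2⟩ := main π hR hΛ g f χ hχ hker φ hφ hkerφ
  exact ⟨D, _, _, h1, h2⟩

end Groth.Agent.S2024
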