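import Groth.Statements.S19959
import Mathlib
import Groth.Agent.S2024
import Groth.Agent.S2028
-- import your own Groth.Agent.* helpers here

set_option autoImplicit false
universe u
open Smoothing

namespace Groth.Agent.S19959

theorem lift_gen {R Λ C : Type u} [CommRing R] [IsNoetherianRing R] [CommRing Λ]
    [Algebra R Λ] (π ϖ : R) (hϖ : ϖ = π ^ 2) (hR : ∀ r : R, π ^ 2 * r = 0 → π * r = 0)
    (hΛ : ∀ x : Λ, π ^ 2 • x = 0 → π • x = 0) [CommRing C] [Algebra R C]
    [Algebra (R ⧸ Ideal.span {ϖ}) C] [IsScalarTower R (R ⧸ Ideal.span {ϖ}) C]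
    [Algebra.FinitePresentation (R ⧸ Ideal.span {ϖ}) C]
    (g : C →ₐ[R] Λ ⧸ Ideal.span {algebraMap R Λ ϖ}) :
    ∃ (D : Type u) (_ : CommRing D) (_ : Algebra R D), Algebra.FinitePresentation R D ∧
      ∃ (δ : D →ₐ[R] Λ) (ψ : C →ₐ[R] D ⧸ Ideal.span {algebraMap R D π}),
        (∀ (c : C) (d : D) (l : Λ), Ideal.Quotient.mk (Ideal.span {algebraMap R D π}) d = ψ c →
          Ideal.Quotient.mk (Ideal.span {algebraMap R Λ ϖ}) l = g c →
            δ d - l ∈ Ideal.span {algebraMap R Λ π}) ∧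
        (∀ (Q : Ideal D) [Q.IsPrime], algebraMap R D π ∉ Q → Algebra.IsSmoothAt R Q) ∧
        (∀ (Q : Ideal (D ⧸ Ideal.span {algebraMap R D π})) [Q.IsPrime],
          Algebra.IsSmoothAt (R ⧸ Ideal.span {ϖ}) (Q.comap ψ) →
            Algebra.IsSmoothAt R (Q.comap (Ideal.Quotient.mk (Ideal.span {algebraMap R D π})))) := by
  subst hϖ
  exact Groth.Agent.S2024.result π hR hΛ g

theorem smoothAt_iff {R D : Type u} [CommRing R] [CommRing D] [Algebra R D]
    [Algebra.FinitePresentation R D] (P : Ideal D) [P.IsPrime] :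
    Algebra.IsSmoothAt R P ↔ ¬ (Smoothing.singularIdeal R D ≤ P) := by
  constructor
  · intro hsm hle
    have hcl : IsClosed (Algebra.smoothLocus R D)ᶜ :=
      (Algebra.isOpen_smoothLocus (R := R) (A := D)).isClosed_compl
    have h1 : (⟨P, inferInstance⟩ : PrimeSpectrum D) ∈
        PrimeSpectrum.zeroLocus (Smoothing.singularIdeal R D : Set D) := by
      rw [PrimeSpectrum.mem_zeroLocus]
      exact hle
    rw [Smoothing.singularIdeal, PrimeSpectrum.zeroLocus_vanishingIdeal_eq_closure,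
      hcl.closure_eq] at h1
    exact h1 hsm
  · intro hle
    by_contra hns
    apply hle
    intro x hx
    exact (PrimeSpectrum.mem_vanishingIdeal _ _).1 hx ⟨P, inferInstance⟩ hns

theorem pow_ann {R : Type*} [CommRing R] (π : R) (hR : ∀ r : R, π ^ 2 * r = 0 → π * r = 0)
    (k : ℕ) : ∀ r : R, π ^ (k + 1) * r = 0 → π * r = 0 := by
  induction k with
  | zero => intro r hr; simpa using hr
  | succ k ih =>
    intro r hr
    apply ih
    have : π ^ 2 * (π ^ k * r) = 0 := by rw [← mul_assoc, ← pow_add, add_comm]; exact hr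
    have := hR _ this
    rw [pow_succ', mul_assoc]
    exact this

theorem pow_ann_smul {R Λ : Type*} [CommRing R] [CommRing Λ] [Algebra R Λ] (π : R)
    (hΛ : ∀ x : Λ, π ^ 2 • x = 0 → π • x = 0)
    (k : ℕ) : ∀ x : Λ, π ^ (k + 1) • x = 0 → π • x = 0 := by
  induction k with
  | zero => intro r hr; simpa using hr
  | succ k ih =>
    intro r hr
    apply ih
    have : π ^ 2 • (π ^ k • r) = 0 := by rw [smul_smul, ← pow_add, add_comm]; exact hr
    have := hΛ _ this
    rw [pow_succ', mul_smul]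
    exact this


/-- Let R be Noetherian, Λ an R-algebra and π ∈ R with the annihilators of π and π² equal both in R and
in Λ. Let A → Λ be an R-algebra map with A finitely presented and π strictly standard in A over R,
and let A → C → Λ/π⁸Λ be a factorization of the induced map A → Λ/π⁸Λ with C a finitely presented
R/π⁸R-algebra. Then there is a factorization A → B → Λ with B finitely presented over R such that R
→ B is smooth at every prime of B not containing π (equivalently, B being finitely presented, R_π →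
B_π is smooth) and such that the extension to Λ/π⁸Λ of the singular ideal of C over R/π⁸R (the
radical ideal of the non-smooth locus) is contained in the image in Λ/π⁸Λ of the radical of the
extension to Λ of the singular ideal of B over R. -/
theorem result {R Λ A C : Type u} [CommRing R] [IsNoetherianRing R] [CommRing Λ]
    [Algebra R Λ] (π : R) (hR : ∀ r : R, π ^ 2 * r = 0 → π * r = 0)
    (hΛ : ∀ x : Λ, π ^ 2 • x = 0 → π • x = 0) [CommRing A] [Algebra R A]
    [Algebra.FinitePresentation R A] (φ : A →ₐ[R] Λ)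
    (hπ : Smoothing.IsStrictlyStandard R A (algebraMap R A π))
    [CommRing C] [Algebra R C] [Algebra (R ⧸ Ideal.span {π ^ 8}) C] [IsScalarTower R (R ⧸ Ideal.span {π ^ 8}) C]
    [Algebra.FinitePresentation (R ⧸ Ideal.span {π ^ 8}) C]
    (γ : A →ₐ[R] C) (g : C →ₐ[R] Λ ⧸ Ideal.span {algebraMap R Λ (π ^ 8)})
    (hfac : ∀ a : A, g (γ a) = Ideal.Quotient.mk (Ideal.span {algebraMap R Λ (π ^ 8)}) (φ a)) :
    ∃ (B : Type u) (_ : CommRing B) (_ : Algebra R B), Algebra.FinitePresentation R B ∧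
      ∃ (α : A →ₐ[R] B) (β : B →ₐ[R] Λ), β.comp α = φ ∧
        (∀ (Q : Ideal B) [Q.IsPrime], algebraMap R B π ∉ Q → Algebra.IsSmoothAt R Q) ∧
        (Smoothing.singularIdeal (R ⧸ Ideal.span {π ^ 8}) C).map g ≤
          ((Smoothing.singularIdeal R B).map β).radical.map (Ideal.Quotient.mk (Ideal.span {algebraMap R Λ (π ^ 8)})) := by
  classical
  have hR4 : ∀ r : R, (π ^ 4) ^ 2 * r = 0 → π ^ 4 * r = 0 := by
    intro r hr
    have h1 : π ^ (7 + 1) * r = 0 := by rw [← hr]; ring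
    have h2 := pow_ann π hR 7 r h1
    have : π ^ 4 * r = π ^ 3 * (π * r) := by ring
    rw [this, h2, mul_zero]
  have hΛ4 : ∀ x : Λ, (π ^ 4) ^ 2 • x = 0 → π ^ 4 • x = 0 := by
    intro x hx
    have h1 : π ^ (7 + 1) • x = 0 := by rw [← hx]; congr 1; ring
    have h2 := pow_ann_smul π hΛ 7 x h1
    have : π ^ 4 • x = π ^ 3 • (π • x) := by rw [smul_smul]; congr 1; ring
    rw [this, h2, smul_zero]
  obtain ⟨D, _, _, hfpD, δ, ψ, hcompat, hb, hc⟩ :=
    lift_gen (π ^ 4) (π ^ 8) (by ring) hR4 hΛ4 g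
  haveI := hfpD
  have hψ' : ∀ (a : A) (d : D),
      Ideal.Quotient.mk (Ideal.span {algebraMap R D (π ^ 4)}) d = (ψ.comp γ) a →
      δ d - φ a ∈ Ideal.span {algebraMap R Λ (π ^ 4)} := by
    intro a d h
    exact hcompat (γ a) d (φ a) h (hfac a).symm
  obtain ⟨B, _, _, _, _, hfpB, α, β, hβα, hβδ, hH1, hH2⟩ :=
    Groth.Agent.S2028.result π hR hΛ φ δ hπ (ψ.comp γ) hψ'
  haveI := hfpB
  have hδβ : ∀ d : D, δ d = β (algebraMap D B d) := by
    intro d
    rw [← hβδ]
    rfl
  have hsmB : ∀ (Q : Ideal B) [Q.IsPrime], algebraMap R B π ∉ Q → Algebra.IsSmoothAt R Q := by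
    intro Q _ hQ
    have h1 : algebraMap R D (π ^ 4) ∉ Q.comap (algebraMap D B) := by
      intro hmem
      rw [Ideal.mem_comap, ← IsScalarTower.algebraMap_apply, map_pow] at hmem
      exact hQ (Ideal.IsPrime.mem_of_pow_mem inferInstance _ hmem)
    have h2 := hb (Q.comap (algebraMap D B)) h1
    rw [smoothAt_iff] at h2 ⊢
    intro hle
    apply h2
    intro h hh
    rw [Ideal.mem_comap]
    exact hle (hH2 (Ideal.mem_map_of_mem _ hh))
  refine ⟨B, _, _, hfpB, α, β, hβα, fun Q _ hQ => hsmB Q hQ, ?_⟩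
  have hπB : algebraMap R B π ∈ Smoothing.singularIdeal R B := by
    rw [Smoothing.singularIdeal, PrimeSpectrum.mem_vanishingIdeal]
    intro x hx
    by_contra hnot
    exact hx (hsmB x.asIdeal hnot)
  rw [Ideal.map_le_iff_le_comap]
  intro x hx
  rw [Ideal.mem_comap]
  obtain ⟨l, hl⟩ := Ideal.Quotient.mk_surjective (g x)
  rw [← hl]
  refine Ideal.mem_map_of_mem _ ?_
  rw [Ideal.radical_eq_sInf, Ideal.mem_sInf]
  rintro 𝔮 ⟨h𝔮le, h𝔮prime⟩
  haveI := h𝔮prime
  have hπ𝔮 : algebraMap R Λ π ∈ 𝔮 := by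
    have := h𝔮le (Ideal.mem_map_of_mem β hπB)
    rwa [β.commutes] at this
  have hπ4𝔮 : algebraMap R Λ (π ^ 4) ∈ 𝔮 := by
    rw [map_pow]
    exact Ideal.pow_mem_of_mem _ hπ𝔮 4 (by norm_num)
  set QD : Ideal D := 𝔮.comap δ with hQD
  have hHD : Smoothing.singularIdeal R D ≤ QD := by
    intro h hh
    rw [hQD, Ideal.mem_comap, hδβ]
    exact h𝔮le (Ideal.mem_map_of_mem β (hH2 (Ideal.mem_map_of_mem _ hh)))
  have hI : Ideal.span {algebraMap R D (π ^ 4)} ≤ QD := by
    rw [Ideal.span_le, Set.singleton_subset_iff]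
    change δ (algebraMap R D (π ^ 4)) ∈ 𝔮
    rw [δ.commutes]
    exact hπ4𝔮
  have hker : RingHom.ker (Ideal.Quotient.mk (Ideal.span {algebraMap R D (π ^ 4)})) ≤ QD := by
    rw [Ideal.mk_ker]
    exact hI
  haveI hQbp : (QD.map (Ideal.Quotient.mk (Ideal.span {algebraMap R D (π ^ 4)}))).IsPrime :=
    Ideal.map_isPrime_of_surjective Ideal.Quotient.mk_surjective hker
  set Qb := QD.map (Ideal.Quotient.mk (Ideal.span {algebraMap R D (π ^ 4)})) with hQb
  have hns : ¬ Algebra.IsSmoothAt R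
      (Qb.comap (Ideal.Quotient.mk (Ideal.span {algebraMap R D (π ^ 4)}))) := by
    rw [smoothAt_iff, not_not]
    exact hHD.trans Ideal.le_comap_map
  have hnsC : ¬ Algebra.IsSmoothAt (R ⧸ Ideal.span {π ^ 8}) (Qb.comap ψ) := fun h => hns (hc Qb h)
  have hxQ : x ∈ Qb.comap ψ := by
    rw [Smoothing.singularIdeal, PrimeSpectrum.mem_vanishingIdeal] at hx
    exact hx ⟨Qb.comap ψ, inferInstance⟩ hnsC
  rw [Ideal.mem_comap] at hxQ
  obtain ⟨d₀, hd₀⟩ := Ideal.Quotient.mk_surjective (ψ x)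
  have hd₀Q : d₀ ∈ QD := by
    rw [← hd₀, hQb, Ideal.mem_map_iff_of_surjective _ Ideal.Quotient.mk_surjective] at hxQ
    obtain ⟨d', hd', hdd⟩ := hxQ
    have : d₀ - d' ∈ QD := hI (Ideal.Quotient.eq.1 hdd.symm)
    have h2 := Ideal.add_mem _ this hd'
    rwa [sub_add_cancel] at h2
  have h1 : δ d₀ ∈ 𝔮 := hd₀Q
  have h2 := hcompat x d₀ l hd₀ hl
  have h3 : δ d₀ - l ∈ 𝔮 := by
    have hle : Ideal.span {algebraMap R Λ (π ^ 4)} ≤ 𝔮 := by
      rw [Ideal.span_le, Set.singleton_subset_iff]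
      exact hπ4𝔮
    exact hle h2
  have h4 := Ideal.sub_mem _ h1 h3
  rwa [sub_sub_cancel] at h4

end Groth.Agent.S19959
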