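import Groth.Statements.S2033
import Mathlib
import Groth.Agent.Lib.Helper57.S2033Core
import Groth.Agent.S2028
import Groth.Agent.S19959
-- import your own Groth.Agent.* helpers here

set_option autoImplicit false
universe u
open Smoothing

namespace Groth.Agent.S2033

open Groth.Agent.Lib.Helper57.S2033Core

theorem step0 {Rp B₀ Λq : Type u} [CommRing Rp] [CommRing B₀] [Algebra Rp B₀]
    [Algebra.FinitePresentation Rp B₀] [CommRing Λq] [Algebra Rp Λq] [IsLocalRing Λq]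
    (h₁ : B₀ →ₐ[Rp] Λq)
    (hns : ¬ ((singularIdeal Rp B₀).map h₁).radical ≤ IsLocalRing.maximalIdeal Λq) :
    ∃ b₀ : B₀, IsUnit (h₁ b₀) ∧ Algebra.Smooth Rp (Localization.Away b₀) := by
  have h1 : ¬ (singularIdeal Rp B₀).map h₁ ≤ IsLocalRing.maximalIdeal Λq := by
    intro hle
    apply hns
    rw [Ideal.IsPrime.radical_le_iff (IsLocalRing.maximalIdeal.isMaximal Λq).isPrime]
    exact hle
  rw [Ideal.map_le_iff_le_comap, SetLike.not_le_iff_exists] at h1
  obtain ⟨b₀, hb₀, hb₀'⟩ := h1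
  refine ⟨b₀, ?_, ?_⟩
  · rw [Ideal.mem_comap] at hb₀'
    exact (IsLocalRing.notMem_maximalIdeal).1 hb₀'
  · exact (Algebra.basicOpen_subset_smoothLocus_iff_smooth).1
      (Groth.Agent.S2028.basicOpen_subset b₀ hb₀)

set_option linter.style.haveILetI false in
open TensorProduct in
theorem main2 {R A Λ Rₚ Λq B : Type u} [CommRing R] [CommRing A] [Algebra R A]
    [Algebra.FinitePresentation R A] [CommRing Λ] [Algebra R Λ] (φ : A →ₐ[R] Λ) (𝔮 : Ideal Λ)
    [𝔮.IsPrime] [CommRing Rₚ] [Algebra R Rₚ]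
    [IsLocalization.AtPrime Rₚ (𝔮.comap (algebraMap R Λ))]
    [CommRing Λq] [Algebra Λ Λq] [IsLocalization.AtPrime Λq 𝔮]
    [CommRing B] [Algebra Rₚ B] [Algebra.FinitePresentation Rₚ B] [Algebra.FormallySmooth Rₚ B]
    (g₁ : Rₚ ⊗[R] A →ₐ[Rₚ] B) (h₁ : B →+* Λq)
    (hcomp : ∀ a : A, h₁ (g₁ (1 ⊗ₜ a)) = algebraMap Λ Λq (φ a)) :
    ∃ (C : Type u) (_ : CommRing C) (_ : Algebra R C), Algebra.FinitePresentation R C ∧
      ∃ (g : A →ₐ[R] C) (h : C →ₐ[R] Λ), h.comp g = φ ∧ Algebra.IsSmoothAt R (𝔮.comap h) := by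
  classical
  letI : Algebra A (Rₚ ⊗[R] A) := Algebra.TensorProduct.rightAlgebra
  haveI : IsLocalization (Algebra.algebraMapSubmonoid A (𝔮.comap (algebraMap R Λ)).primeCompl)
      (Rₚ ⊗[R] A) := IsLocalization.tensorRight _ (𝔮.comap (algebraMap R Λ)).primeCompl
  letI : Algebra R B := ((algebraMap Rₚ B).comp (algebraMap R Rₚ)).toAlgebra
  haveI : IsScalarTower R Rₚ B := IsScalarTower.of_algebraMap_eq (fun _ => rfl)
  letI : Algebra (Rₚ ⊗[R] A) B := g₁.toRingHom.toAlgebra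
  letI : Algebra A B :=
    ((algebraMap (Rₚ ⊗[R] A) B).comp (algebraMap A (Rₚ ⊗[R] A))).toAlgebra
  haveI : IsScalarTower A (Rₚ ⊗[R] A) B := IsScalarTower.of_algebraMap_eq (fun _ => rfl)
  haveI : IsScalarTower R A B := IsScalarTower.of_algebraMap_eq (fun r => by
    change algebraMap Rₚ B (algebraMap R Rₚ r) = g₁ ((1 : Rₚ) ⊗ₜ[R] (algebraMap R A r))
    rw [← g₁.commutes]
    congr 1
    rw [Algebra.TensorProduct.algebraMap_apply, Algebra.algebraMap_eq_smul_one r (A := A),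
      Algebra.algebraMap_self, RingHom.id_apply, Algebra.algebraMap_eq_smul_one r (A := Rₚ),
      TensorProduct.smul_tmul])
  haveI : IsScalarTower Rₚ (Rₚ ⊗[R] A) B :=
    IsScalarTower.of_algebraMap_eq (fun x => (g₁.commutes x).symm)
  haveI : Algebra.FinitePresentation (Rₚ ⊗[R] A) B :=
    Algebra.FinitePresentation.of_restrict_scalars_finitePresentation Rₚ (Rₚ ⊗[R] A) B
  haveI : Algebra.FormallySmooth R Rₚ :=
    Algebra.FormallySmooth.of_isLocalization (𝔮.comap (algebraMap R Λ)).primeCompl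
  haveI : Algebra.FormallySmooth R B := Algebra.FormallySmooth.comp R Rₚ B
  letI : Algebra A Λ := φ.toRingHom.toAlgebra
  haveI : IsScalarTower R A Λ := IsScalarTower.of_algebraMap_eq (fun r => (φ.commutes r).symm)
  letI : Algebra A Λq := ((algebraMap Λ Λq).comp (algebraMap A Λ)).toAlgebra
  haveI : IsScalarTower A Λ Λq := IsScalarTower.of_algebraMap_eq (fun _ => rfl)
  have hS : ∀ s ∈ Algebra.algebraMapSubmonoid A (𝔮.comap (algebraMap R Λ)).primeCompl,
      algebraMap A Λ s ∉ 𝔮 := by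
    rintro _ ⟨r, hr, rfl⟩
    change φ (algebraMap R A r) ∉ 𝔮
    rw [φ.commutes]
    exact hr
  let h₁A : B →ₐ[A] Λq := { h₁ with commutes' := fun a => hcomp a }
  obtain ⟨k, r, rel, h, hsm⟩ := core (R := R) (A' := Rₚ ⊗[R] A)
    (Algebra.algebraMapSubmonoid A (𝔮.comap (algebraMap R Λ)).primeCompl) 𝔮 hS h₁A
  haveI : Algebra.FinitePresentation A
      (MvPolynomial (Option (Option (Fin k))) A ⧸ Ideal.span (Set.range rel)) :=
    Algebra.FinitePresentation.quotient (Submodule.fg_span (Set.finite_range rel))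
  haveI : Algebra.FinitePresentation R
      (MvPolynomial (Option (Option (Fin k))) A ⧸ Ideal.span (Set.range rel)) :=
    Algebra.FinitePresentation.trans R A _
  refine ⟨_, inferInstance, inferInstance, inferInstance, IsScalarTower.toAlgHom R A _,
    h.restrictScalars R, ?_, ?_⟩
  · ext a
    exact h.commutes a
  · exact hsm


open TensorProduct in
/-- Let `R` be Noetherian, `A → Λ` an `R`-algebra map with `A` finitely presented, `𝔮 ⊆ Λ` a prime
minimal over the radical of the extended singular ideal of `A`, and `𝔭` its contraction to `R`. If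
the localized problem `R_𝔭 → R_𝔭 ⊗ A → Λ_𝔮` can be resolved at `𝔮Λ_𝔮`, then `A → Λ` factors through
a finitely presented `R`-algebra `C` whose singular ideal over `R` does not extend into `𝔮`. -/
theorem result {R A Λ Rₚ Λq : Type u} [CommRing R] [IsNoetherianRing R] [CommRing A]
    [Algebra R A] [Algebra.FinitePresentation R A] [CommRing Λ] [Algebra R Λ] (φ : A →ₐ[R] Λ)
    (𝔮 : Ideal Λ) [𝔮.IsPrime] (hmin : 𝔮 ∈ (Smoothing.singRad R φ).minimalPrimes)
    [CommRing Rₚ] [Algebra R Rₚ] [IsLocalization.AtPrime Rₚ (𝔮.comap (algebraMap R Λ))]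
    [CommRing Λq] [Algebra Λ Λq] [IsLocalization.AtPrime Λq 𝔮] [Algebra R Λq] [IsScalarTower R Λ Λq]
    [Algebra Rₚ Λq] [IsScalarTower R Rₚ Λq]
    (hres : Smoothing.Resolvable Rₚ
      (Algebra.TensorProduct.lift (Algebra.ofId Rₚ Λq) ((IsScalarTower.toAlgHom R Λ Λq).comp φ)
        (fun _ _ => Commute.all _ _) : Rₚ ⊗[R] A →ₐ[Rₚ] Λq) (𝔮.map (algebraMap Λ Λq))) :
    ∃ (C : Type u) (_ : CommRing C) (_ : Algebra R C), Algebra.FinitePresentation R C ∧
      ∃ (g : A →ₐ[R] C) (h : C →ₐ[R] Λ), h.comp g = φ ∧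
        ¬ (Smoothing.singularIdeal R C).map h ≤ 𝔮 := by
  classical
  obtain ⟨B₀, _, _, hfpB₀, g₁, h₁, hcomp, -, hns⟩ := hres
  haveI := hfpB₀
  haveI : IsLocalRing Λq := IsLocalization.AtPrime.isLocalRing Λq 𝔮
  have hmax : 𝔮.map (algebraMap Λ Λq) = IsLocalRing.maximalIdeal Λq :=
    IsLocalization.AtPrime.map_eq_maximalIdeal 𝔮 Λq
  rw [hmax] at hns
  obtain ⟨b₀, hb₀u, hsm⟩ := step0 h₁ hns
  haveI := hsm
  haveI : Algebra.FinitePresentation B₀ (Localization.Away b₀) :=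
    IsLocalization.Away.finitePresentation b₀
  haveI : Algebra.FinitePresentation Rₚ (Localization.Away b₀) :=
    Algebra.FinitePresentation.trans Rₚ B₀ _
  have hu : ∀ y : Submonoid.powers b₀, IsUnit (h₁ y) := by
    rintro ⟨_, n, rfl⟩
    change IsUnit (h₁ (b₀ ^ n))
    rw [map_pow]
    exact hb₀u.pow n
  let h₁' : Localization.Away b₀ →+* Λq := IsLocalization.lift (M := Submonoid.powers b₀)
    (g := (h₁ : B₀ →+* Λq)) hu
  have hh₁' : ∀ x, h₁' (algebraMap B₀ _ x) = h₁ x := fun x => IsLocalization.lift_eq _ x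
  let g₁' : Rₚ ⊗[R] A →ₐ[Rₚ] Localization.Away b₀ :=
    (IsScalarTower.toAlgHom Rₚ B₀ (Localization.Away b₀)).comp g₁
  have hcomp' : ∀ a : A, h₁' (g₁' (1 ⊗ₜ a)) = algebraMap Λ Λq (φ a) := by
    intro a
    change h₁' (algebraMap B₀ _ (g₁ (1 ⊗ₜ a))) = _
    rw [hh₁']
    have := DFunLike.congr_fun hcomp ((1 : Rₚ) ⊗ₜ[R] a)
    rw [AlgHom.comp_apply] at this
    rw [this, Algebra.TensorProduct.lift_tmul, map_one, one_mul]
    rfl
  obtain ⟨C, _, _, hfpC, g, h, hgh, hsmC⟩ := main2 φ 𝔮 g₁' h₁' hcomp'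
  haveI := hfpC
  refine ⟨C, _, _, hfpC, g, h, hgh, ?_⟩
  rw [Ideal.map_le_iff_le_comap]
  exact (Groth.Agent.S19959.smoothAt_iff (𝔮.comap h)).1 hsmC

end Groth.Agent.S2033
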