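import Groth.Statements.S2034
import Mathlib
import Groth.Agent.Lib.Helper57.S2034Core
import Groth.Agent.S2033
-- import your own Groth.Agent.* helpers here

set_option autoImplicit false
universe u
open Smoothing

namespace Groth.Agent.S2034

open Groth.Agent.Lib.Helper57.S2033Core Groth.Agent.Lib.Helper57.S2034Core MvPolynomial

theorem smooth_away_of_mem {R A : Type u} [CommRing R] [CommRing A] [Algebra R A]
    [Algebra.FinitePresentation R A] (a : A) (ha : a ∈ singularIdeal R A) :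
    Algebra.Smooth R (Localization.Away a) :=
  (Algebra.basicOpen_subset_smoothLocus_iff_smooth).1 (Groth.Agent.S2028.basicOpen_subset a ha)

set_option linter.style.haveILetI false in
theorem main {R A Λ Cr : Type u} [CommRing R] [IsNoetherianRing R] [CommRing A]
    [Algebra R A] [Algebra.FinitePresentation R A] [CommRing Λ] [Algebra R Λ] (φ : A →ₐ[R] Λ)
    (𝔮 : Ideal Λ) [𝔮.IsPrime] [CommRing Cr] [Algebra R Cr] [Algebra.FinitePresentation R Cr]
    (g : A →ₐ[R] Cr) (h : Cr →ₐ[R] Λ) (hgh : h.comp g = φ)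
    (hC : ¬ (singularIdeal R Cr).map h ≤ 𝔮)
    {r : ℕ} (a : Fin r → A) (ha : Ideal.span (Set.range a) = singularIdeal R A)
    (N : ℕ) (lam : Λ) (hlam : lam ∉ 𝔮) (hkill : ∀ ℓ, lam * φ (a ℓ) ^ N = 0) :
    Resolvable R φ 𝔮 := by
  classical
  letI : Algebra A Cr := g.toRingHom.toAlgebra
  haveI : IsScalarTower R A Cr := IsScalarTower.of_algebraMap_eq (fun x => (g.commutes x).symm)
  haveI : Algebra.FinitePresentation A Cr :=
    Algebra.FinitePresentation.of_restrict_scalars_finitePresentation R A Cr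
  letI : Algebra A Λ := φ.toRingHom.toAlgebra
  haveI : IsScalarTower R A Λ := IsScalarTower.of_algebraMap_eq (fun x => (φ.commutes x).symm)
  obtain ⟨n, πC, hπC, hfg⟩ := Algebra.FinitePresentation.out (R := A) (A := Cr)
  obtain ⟨m, f, hf⟩ := Submodule.fg_iff_exists_fin_generating_family.1 hfg
  have hker : RingHom.ker πC.toRingHom = Ideal.span (Set.range f) := hf.symm
  have hπf : ∀ j, πC (f j) = 0 := by
    intro j
    have : f j ∈ RingHom.ker πC.toRingHom := by
      rw [hker]; exact Ideal.subset_span ⟨j, rfl⟩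
    exact this
  have hhA : (h : Cr →+* Λ).comp (algebraMap A Cr) = algebraMap A Λ := by
    ext x
    exact DFunLike.congr_fun hgh x
  haveI : Algebra.FinitePresentation A (MvPolynomial (V n r m) A ⧸ JB f) := fp_BB f
  haveI : Algebra.FinitePresentation R (MvPolynomial (V n r m) A ⧸ JB f) :=
    Algebra.FinitePresentation.trans R A _
  -- the map to Λ
  let vals : V n r m → Λ :=
    Sum.elim (fun i => h (πC (X i))) (Sum.elim (fun i => φ (a i) ^ N)
      (Sum.elim (fun _ => lam) (fun _ => 0)))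
  have hevx : ∀ p : MvPolynomial (Fin n) A,
      eval₂ (algebraMap A Λ) (fun i => vals (vx i)) p = h (πC p) := by
    intro p
    have := eval₂_eq_hom πC (h : Cr →+* Λ) p
    rw [hhA] at this
    exact this
  let evP : MvPolynomial (V n r m) A →ₐ[A] Λ := aeval vals
  have hevF : ∀ j, evP (relF (r := r) f j) = 0 := by
    intro j
    change aeval vals (relF f j) = 0
    rw [aeval_def, eval_relF, hevx, hπf, map_zero, zero_sub, neg_eq_zero]
    refine Finset.sum_eq_zero fun i _ => ?_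
    change _ * (0 : Λ) = 0
    rw [mul_zero]
  have hevZ : ∀ i, evP (relZ (n := n) (m := m) i) = 0 := by
    intro i
    change aeval vals (relZ i) = 0
    rw [aeval_def, eval_relZ]
    exact hkill i
  let hB : (MvPolynomial (V n r m) A ⧸ JB f) →ₐ[A] Λ :=
    Ideal.Quotient.liftₐ (JB f) evP (by
      intro x hx
      have : JB f ≤ RingHom.ker evP.toRingHom := JB_le hevF hevZ
      exact this hx)
  have hBmk : ∀ q, hB (Ideal.Quotient.mk _ q) = aeval vals q := fun q => rfl
  refine ⟨MvPolynomial (V n r m) A ⧸ JB f, inferInstance, inferInstance, inferInstance,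
    IsScalarTower.toAlgHom R A _, hB.restrictScalars R, ?_, ?_, ?_⟩
  · ext x
    exact hB.commutes x
  · -- singRad R φ ≤ singRad R hB
    rw [singRad, singRad, Ideal.radical_le_radical_iff, ← ha, Ideal.map_span, Ideal.span_le]
    rintro _ ⟨_, ⟨ℓ, rfl⟩, rfl⟩
    have haℓ : a ℓ ∈ singularIdeal R A := by
      rw [← ha]; exact Ideal.subset_span ⟨ℓ, rfl⟩
    haveI := smooth_away_of_mem (a ℓ) haℓ
    have h1 := claim2 (R := R) (Aa := Localization.Away (a ℓ)) f (a ℓ) ℓ
    have h2 := Ideal.mem_map_of_mem (hB.restrictScalars R) h1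
    change hB (Ideal.Quotient.mk _ (C (a ℓ) * X (vy ℓ))) ∈ _ at h2
    rw [hBmk, map_mul, aeval_C, aeval_X] at h2
    change φ (a ℓ) * φ (a ℓ) ^ N ∈ _ at h2
    rw [← pow_succ'] at h2
    exact ⟨N + 1, h2⟩
  · -- not contained in 𝔮
    rw [Ideal.map_le_iff_le_comap, SetLike.not_le_iff_exists] at hC
    obtain ⟨c, hc, hcq⟩ := hC
    obtain ⟨ct, rfl⟩ := hπC c
    haveI := smooth_away_of_mem (πC ct) hc
    have h1 := claim1 (R := R) (r := r) (Cc := Localization.Away (πC ct)) f πC hπC hker ct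
    have h2 := Ideal.mem_map_of_mem (hB.restrictScalars R) h1
    change hB (Ideal.Quotient.mk _ (X vz * rename vx ct)) ∈ _ at h2
    rw [hBmk, map_mul, aeval_X, aeval_rename, aeval_def] at h2
    change lam * eval₂ _ (fun i => vals (vx i)) ct ∈ _ at h2
    rw [hevx] at h2
    intro hle
    have h3 : lam * h (πC ct) ∈ 𝔮 := hle (Ideal.le_radical h2)
    rcases Ideal.IsPrime.mem_or_mem inferInstance h3 with h4 | h4
    · exact hlam h4
    · exact hcq h4


open TensorProduct in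
/-- Let `R` be a Noetherian ring, `A` a finitely presented `R`-algebra, `R → A → Λ` ring maps and `𝔮 ⊆
Λ` a prime minimal over the radical of the extended singular ideal of `R → A`; let `𝔭` be the prime
of `R` under `𝔮` and suppose the localized problem `R_𝔭 → R_𝔭 ⊗_R A → Λ_𝔮 ⊇ 𝔮Λ_𝔮` can be resolved.
If moreover `Λ_𝔮` has Krull dimension zero, then the problem `R → A → Λ ⊇ 𝔮` itself can be resolved. -/
theorem result {R A Λ Rₚ Λq : Type u} [CommRing R] [IsNoetherianRing R] [CommRing A]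
    [Algebra R A] [Algebra.FinitePresentation R A] [CommRing Λ] [Algebra R Λ] (φ : A →ₐ[R] Λ)
    (𝔮 : Ideal Λ) [𝔮.IsPrime] (hmin : 𝔮 ∈ (Smoothing.singRad R φ).minimalPrimes)
    [CommRing Rₚ] [Algebra R Rₚ] [IsLocalization.AtPrime Rₚ (𝔮.comap (algebraMap R Λ))]
    [CommRing Λq] [Algebra Λ Λq] [IsLocalization.AtPrime Λq 𝔮] [Algebra R Λq] [IsScalarTower R Λ Λq]
    [Algebra Rₚ Λq] [IsScalarTower R Rₚ Λq] (hdim : ringKrullDim Λq = 0)
    (hres : Smoothing.Resolvable Rₚ
      (Algebra.TensorProduct.lift (Algebra.ofId Rₚ Λq) ((IsScalarTower.toAlgHom R Λ Λq).comp φ)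
        (fun _ _ => Commute.all _ _) : Rₚ ⊗[R] A →ₐ[Rₚ] Λq) (𝔮.map (algebraMap Λ Λq))) :
    Smoothing.Resolvable R φ 𝔮 := by
  classical
  obtain ⟨C, _, _, hfpC, g, h, hgh, hC⟩ := Groth.Agent.S2033.result φ 𝔮 hmin hres
  haveI := hfpC
  haveI : IsNoetherianRing A := Algebra.FiniteType.isNoetherianRing R A
  obtain ⟨r, a, ha⟩ := Submodule.fg_iff_exists_fin_generating_family.1
    (IsNoetherian.noetherian (singularIdeal R A))
  haveI : IsLocalRing Λq := IsLocalization.AtPrime.isLocalRing Λq 𝔮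
  haveI : Ring.KrullDimLE 0 Λq := by
    rw [Ring.krullDimLE_iff, hdim]
    rfl
  have hmax : 𝔮.map (algebraMap Λ Λq) = IsLocalRing.maximalIdeal Λq :=
    IsLocalization.AtPrime.map_eq_maximalIdeal 𝔮 Λq
  have hle : singRad R φ ≤ 𝔮 := hmin.1.2
  have hnil : ∀ ℓ, ∃ Nℓ : ℕ, ∃ l : 𝔮.primeCompl, (l : Λ) * φ (a ℓ) ^ Nℓ = 0 := by
    intro ℓ
    have h1 : φ (a ℓ) ∈ 𝔮 := by
      apply hle
      apply Ideal.le_radical
      apply Ideal.mem_map_of_mem
      rw [← ha]
      exact Ideal.subset_span ⟨ℓ, rfl⟩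
    have h2 : algebraMap Λ Λq (φ (a ℓ)) ∈ nilradical Λq := by
      rw [Ring.KrullDimLE.nilradical_eq_maximalIdeal, ← hmax]
      exact Ideal.mem_map_of_mem _ h1
    obtain ⟨Nℓ, hN⟩ := h2
    rw [← map_pow] at hN
    obtain ⟨l, hl⟩ := (IsLocalization.map_eq_zero_iff 𝔮.primeCompl Λq _).1 hN
    exact ⟨Nℓ, l, hl⟩
  choose Nf l hl using hnil
  refine main φ 𝔮 g h hgh hC a ha (∑ ℓ, Nf ℓ) (∏ ℓ, (l ℓ : Λ)) ?_ ?_
  · exact Submonoid.prod_mem 𝔮.primeCompl fun ℓ _ => (l ℓ).2
  · intro ℓ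
    obtain ⟨c, hc⟩ := Finset.dvd_prod_of_mem (fun ℓ => (l ℓ : Λ)) (Finset.mem_univ ℓ)
    have hle' : Nf ℓ ≤ ∑ ℓ, Nf ℓ := Finset.single_le_sum (fun _ _ => Nat.zero_le _) (Finset.mem_univ ℓ)
    obtain ⟨d, hd⟩ := Nat.exists_eq_add_of_le hle'
    rw [hc, hd, pow_add, mul_mul_mul_comm, hl, zero_mul]

end Groth.Agent.S2034
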