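import Groth.Statements.S0332
import Groth.Agent.Lib.Helper2.HLVT3
import Groth.Agent.S0333
import Groth.Agent.S0543
import Groth.Agent.S0547

set_option autoImplicit false
universe u v
open LocCoh

namespace Groth.Agent.S0332

/-- Let R be Noetherian local of dimension d with completion R^; suppose that for every minimal prime p
of R^ with dim R^/p = d the quotient of R^ by I R^ + p has Krull dimension at least 1 (i.e. some
prime containing I R^ + p is not maximal). Then local cohomology with support in I vanishes in all
degrees ≥ d for every module. -/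
theorem result (R : Type u) [CommRing R] [IsLocalRing R] [IsNoetherianRing R] (I : Ideal R) (d : ℕ) (hd : ringKrullDim R = d) (h : ∀ p ∈ minimalPrimes (AdicCompletion (IsLocalRing.maximalIdeal R) R), ringKrullDim (AdicCompletion (IsLocalRing.maximalIdeal R) R ⧸ p) = d → 1 ≤ ringKrullDim (AdicCompletion (IsLocalRing.maximalIdeal R) R ⧸ (I.map (algebraMap R (AdicCompletion (IsLocalRing.maximalIdeal R) R)) ⊔ p))) (M : Type u) [AddCommGroup M] [Module R M] (i : ℕ) (hi : d ≤ i) : Subsingleton (LocCoh.H I i M) := by
  haveI : IsNoetherianRing (AdicCompletion (IsLocalRing.maximalIdeal R) R) :=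
    Groth.Agent.S0543.result R _
  have hdS : ringKrullDim (AdicCompletion (IsLocalRing.maximalIdeal R) R) = d :=
    (Groth.Agent.S0547.result R).trans hd
  haveI hvanS := Groth.Agent.Lib.Helper2.HLVT.hlvt_complete
    (AdicCompletion (IsLocalRing.maximalIdeal R) R) d hdS
    (I.map (algebraMap R (AdicCompletion (IsLocalRing.maximalIdeal R) R))) h
  obtain ⟨φ, -⟩ := Groth.Agent.S11614.result R (AdicCompletion (IsLocalRing.maximalIdeal R) R) I
    (AdicCompletion (IsLocalRing.maximalIdeal R) R) d
  haveI h2 : Subsingleton (LocCoh.H I d (AdicCompletion (IsLocalRing.maximalIdeal R) R)) :=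
    φ.toEquiv.symm.subsingleton
  obtain ⟨ψ⟩ := Groth.Agent.Lib.Helper58.NV.tensorHyp_top R d hd I
    (AdicCompletion (IsLocalRing.maximalIdeal R) R)
  haveI h3 : Subsingleton (TensorProduct R (LocCoh.H I d R)
      (AdicCompletion (IsLocalRing.maximalIdeal R) R)) := ψ.toEquiv.symm.subsingleton
  haveI hff : Module.FaithfullyFlat R (AdicCompletion (IsLocalRing.maximalIdeal R) R) :=
    Module.FaithfullyFlat.of_flat_of_isLocalHom
  have h4 : Subsingleton (LocCoh.H I d R) :=
    Module.FaithfullyFlat.rTensor_reflects_triviality R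
      (AdicCompletion (IsLocalRing.maximalIdeal R) R) _
  have hsupp : ∀ p ∈ minimalPrimes R, ringKrullDim (R ⧸ p) = d → ∀ hp : p.IsPrime,
      (⟨p, hp⟩ : PrimeSpectrum R) ∈ Module.support R R := by
    intro p _ _ hp
    rw [Module.support_eq_zeroLocus, Module.annihilator_eq_bot.2 inferInstance]
    simp
  exact Groth.Agent.S0333.result R I d hd R hsupp h4 M i hi

end Groth.Agent.S0332
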