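import Groth.Statements.S6593
-- import your own Groth.Agent.* helpers here

set_option autoImplicit false
universe w v u
open CategoryTheory CategoryTheory.Limits
open CohDer

namespace Groth.Agent.S6593

open ZeroObject Pretriangulated

section Aux

variable {D : Type u} [Category.{v} D] [Preadditive D] [HasZeroObject D] [HasShift D ℤ]
    [∀ n : ℤ, (shiftFunctor D n).Additive] [Pretriangulated D]
variable {J : Type w} (X_ : J → D) [HasCoproduct X_]

set_option backward.defeqAttrib.useBackward true in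
set_option backward.isDefEq.respectTransparency false in
/-- maps out of the shift of a coproduct can be glued -/
theorem shift_sigma_desc {A : D} (β : ∀ j, (shiftFunctor D (1 : ℤ)).obj (X_ j) ⟶ A) :
    ∃ α : (shiftFunctor D (1 : ℤ)).obj (∐ X_) ⟶ A,
      ∀ j, (shiftFunctor D (1 : ℤ)).map (Sigma.ι X_ j) ≫ α = β j := by
  let adj := (shiftEquiv D (1 : ℤ)).toAdjunction
  refine ⟨(adj.homEquiv (∐ X_) A).symm (Sigma.desc (fun j => adj.homEquiv (X_ j) A (β j))), ?_⟩
  intro j
  have := adj.homEquiv_naturality_left_symm (Sigma.ι X_ j)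
    (Sigma.desc (fun j => adj.homEquiv (X_ j) A (β j)))
  rw [Sigma.ι_desc, Equiv.symm_apply_apply] at this
  exact this.symm

set_option backward.defeqAttrib.useBackward true in
set_option backward.isDefEq.respectTransparency false in
/-- maps out of the shift of a coproduct are determined by their components -/
theorem shift_sigma_hom_ext {A : D} (α α' : (shiftFunctor D (1 : ℤ)).obj (∐ X_) ⟶ A)
    (h : ∀ j, (shiftFunctor D (1 : ℤ)).map (Sigma.ι X_ j) ≫ α =
      (shiftFunctor D (1 : ℤ)).map (Sigma.ι X_ j) ≫ α') : α = α' := by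
  let adj := (shiftEquiv D (1 : ℤ)).toAdjunction
  apply (adj.homEquiv (∐ X_) A).injective
  apply Sigma.hom_ext
  intro j
  rw [← adj.homEquiv_naturality_left, ← adj.homEquiv_naturality_left]
  exact congrArg _ (h j)

end Aux

set_option backward.defeqAttrib.useBackward true in
set_option backward.isDefEq.respectTransparency false in

open CategoryTheory.Pretriangulated in
/-- Let D be a pretriangulated category and (X_i → Y_i → Z_i → X_i⟦1⟧)_{i ∈ I} a family of distinguished
triangles. If the direct sums ⨁ X_i, ⨁ Y_i, ⨁ Z_i exist, then ⨁ X_i → ⨁ Y_i → ⨁ Z_i → (⨁ X_i)⟦1⟧ is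
a distinguished triangle (the last map is induced by the composites Z_i → X_i⟦1⟧ → (⨁ X_i)⟦1⟧). -/
theorem result {D : Type u} [Category.{v} D] [Preadditive D] [HasZeroObject D] [HasShift D ℤ]
    [∀ n : ℤ, (shiftFunctor D n).Additive] [Pretriangulated D]
    {J : Type w} (T : J → Triangle D) (hT : ∀ j, T j ∈ distinguishedTriangles)
    [HasCoproduct (fun j => (T j).obj₁)] [HasCoproduct (fun j => (T j).obj₂)] [HasCoproduct (fun j => (T j).obj₃)] :
    Triangle.mk (Limits.Sigma.map (fun j => (T j).mor₁)) (Limits.Sigma.map (fun j => (T j).mor₂))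
      (Sigma.desc (fun j => (T j).mor₃ ≫ (shiftFunctor D (1 : ℤ)).map (Sigma.ι (fun j => (T j).obj₁) j))) ∈ distinguishedTriangles := by
  let u := Limits.Sigma.map (fun j => (T j).mor₁)
  let v := Limits.Sigma.map (fun j => (T j).mor₂)
  let w := Sigma.desc (fun j => (T j).mor₃ ≫
    (shiftFunctor D (1 : ℤ)).map (Sigma.ι (fun j => (T j).obj₁) j))
  obtain ⟨Z', v', w', hT'⟩ := distinguished_cocone_triangle u
  have hex : ∀ j, ∃ c : (T j).obj₃ ⟶ Z',
      (T j).mor₂ ≫ c = Sigma.ι (fun j => (T j).obj₂) j ≫ v' ∧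
      (T j).mor₃ ≫ (shiftFunctor D (1 : ℤ)).map (Sigma.ι (fun j => (T j).obj₁) j) = c ≫ w' :=
    fun j => complete_distinguished_triangle_morphism (T j) _ (hT j) hT'
      (Sigma.ι (fun j => (T j).obj₁) j) (Sigma.ι (fun j => (T j).obj₂) j) (by simp [u])
  choose c' hc'₂ hc'₃ using hex
  let c : (∐ fun j => (T j).obj₃) ⟶ Z' := Sigma.desc c'
  have hc₂ : v ≫ c = v' := by
    apply Sigma.hom_ext
    intro j
    simp [v, c, hc'₂]
  have hc₃ : w = c ≫ w' := by
    apply Sigma.hom_ext
    intro j
    simp [w, c, hc'₃]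
  have huv : u ≫ v = 0 := by
    apply Sigma.hom_ext
    intro j
    simp [u, v, comp_distTriang_mor_zero₁₂_assoc _ (hT j)]
  suffices IsIso c by
    refine isomorphic_distinguished _ hT' _ ?_
    exact Triangle.isoMk _ _ (Iso.refl _) (Iso.refl _) (asIso c)
      (by simp [u]) (by simpa using hc₂) (by simpa [w] using hc₃)
  refine isIso_of_coyoneda_map_bijective _ (fun A => ⟨?_, ?_⟩)
  · -- injectivity
    suffices ∀ f : Z' ⟶ A, c ≫ f = 0 → f = 0 by
      intro f₁ f₂ h
      have := this (f₁ - f₂) (by simpa [sub_eq_zero] using h)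
      simpa [sub_eq_zero] using this
    intro f hf
    have h1 : v' ≫ f = 0 := by rw [← hc₂, Category.assoc, hf, comp_zero]
    obtain ⟨g, hg⟩ := Triangle.yoneda_exact₃ _ hT' f h1
    dsimp at g hg
    have h3 : ∀ j, (T j).mor₃ ≫
        ((shiftFunctor D (1 : ℤ)).map (Sigma.ι (fun j => (T j).obj₁) j) ≫ g) = 0 := by
      intro j
      rw [← Category.assoc, hc'₃, Category.assoc, ← hg]
      have : c' j = Sigma.ι (fun j => (T j).obj₃) j ≫ c := by simp [c]
      rw [this, Category.assoc, hf, comp_zero]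
    have h4 : ∀ j, ∃ α : (shiftFunctor D (1 : ℤ)).obj (T j).obj₂ ⟶ A,
        (shiftFunctor D (1 : ℤ)).map (Sigma.ι (fun j => (T j).obj₁) j) ≫ g =
          (shiftFunctor D (1 : ℤ)).map (T j).mor₁ ≫ α := by
      intro j
      obtain ⟨g', hg'⟩ := Triangle.yoneda_exact₃ _ (rot_of_distTriang _ (hT j)) _ (h3 j)
      exact ⟨-g', by simpa using hg'⟩
    choose α' hα' using h4
    obtain ⟨α, hα⟩ := shift_sigma_desc (fun j => (T j).obj₂) α'
    have h6 : g = (shiftFunctor D (1 : ℤ)).map u ≫ α := by
      apply shift_sigma_hom_ext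
      intro j
      rw [hα' j, ← hα j, ← Category.assoc, ← Category.assoc, ← Functor.map_comp,
        ← Functor.map_comp]
      simp [u]
    rw [hg, h6, ← Category.assoc]
    have : w' ≫ (shiftFunctor D (1 : ℤ)).map u = 0 := comp_distTriang_mor_zero₃₁ _ hT'
    rw [this, zero_comp]
  · -- surjectivity
    intro a
    obtain ⟨a₁, ha₁⟩ := Triangle.yoneda_exact₂ _ hT' (v ≫ a) (by
      dsimp
      rw [← Category.assoc, huv, zero_comp])
    dsimp at a₁ ha₁
    let d := a - c ≫ a₁
    have hvd : v ≫ d = 0 := by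
      dsimp only [d]
      rw [Preadditive.comp_sub, ha₁, ← Category.assoc, hc₂, sub_self]
    have h2 : ∀ j, ∃ b : (shiftFunctor D (1 : ℤ)).obj (T j).obj₁ ⟶ A,
        Sigma.ι (fun j => (T j).obj₃) j ≫ d = (T j).mor₃ ≫ b := by
      intro j
      refine Triangle.yoneda_exact₃ _ (hT j) _ ?_
      have : (T j).mor₂ ≫ Sigma.ι (fun j => (T j).obj₃) j =
          Sigma.ι (fun j => (T j).obj₂) j ≫ v := by simp [v]
      rw [← Category.assoc, this, Category.assoc, hvd, comp_zero]
    choose b' hb' using h2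
    obtain ⟨b, hb⟩ := shift_sigma_desc (fun j => (T j).obj₁) b'
    have h4 : d = w ≫ b := by
      apply Sigma.hom_ext
      intro j
      rw [hb' j, ← hb j]
      simp [w]
    refine ⟨a₁ + w' ≫ b, ?_⟩
    dsimp only
    rw [Preadditive.comp_add, ← Category.assoc, ← hc₃, ← h4]
    dsimp only [d]
    abel

end Groth.Agent.S6593
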