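import Groth.Statements.S0985
import Groth.Agent.Lib.Helper6.SeqColim
import Mathlib.Algebra.Homology.GrothendieckAbelian
import Mathlib.Algebra.Homology.DerivedCategory.ShortExact

set_option autoImplicit false
universe w v u
open CategoryTheory CategoryTheory.Limits
open DerLim

namespace Groth.Agent.S0985

/-- Let A be an abelian category in which colimits of sequences ℕ ⥤ A exist and are exact, and let L : ℕ
⥤ CochainComplex A ℤ be a sequence of complexes. Then the image in the derived category of the
termwise colimit of L, with the canonical maps from the Lₙ, is a homotopy colimit of the images of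
the Lₙ — assuming the termwise direct sum of the Lₙ exists and is preserved by the localization
functor to D(A) (a known result, carried here as a hypothesis rather than proved), and that the
direct sum of the images exists in D(A). -/
theorem result {A : Type u} [Category.{v} A] [Abelian A] [HasDerivedCategory.{w} A]
    [HasColimitsOfShape ℕ A] [HasExactColimitsOfShape ℕ A]
    (L : ℕ ⥤ CochainComplex A ℤ) [HasCoproduct L.obj] [PreservesColimit (Discrete.functor L.obj) (DerivedCategory.Q (C := A))]
    [HasCoproduct (fun n => DerivedCategory.Q.obj (L.obj n))] :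
    DerLim.IsHocolim (fun n => DerivedCategory.Q.obj (L.obj n)) (fun n => DerivedCategory.Q.map (L.map (homOfLE (Nat.le_succ n))))
      (DerivedCategory.Q.obj (colimit L)) (fun n => DerivedCategory.Q.map (colimit.ι L n)) := by
  open CategoryTheory.Pretriangulated Groth.Agent.Lib.Helper6.SeqColim DerivedCategory in
  classical
  -- the telescope short exact sequence of complexes
  have hS := shortExact L
  have hT := triangleOfSES_distinguished hS
  let θ := sigmaComparison (Q (C := A)) L.obj
  have hθiso : IsIso θ := by dsimp only [θ]; infer_instance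
  let e : (∐ fun n => Q.obj (L.obj n)) ≅ Q.obj (∐ L.obj) := asIso θ
  have hθ : (𝟙 _ - DerLim.shiftMap (fun n => Q.obj (L.obj n))
      (fun n => Q.map (L.map (homOfLE (Nat.le_succ n))))) ≫ θ =
      θ ≫ Q.map (𝟙 (∐ L.obj) - DerLim.shiftMap L.obj (tr L)) :=
    comparison_comm' Q L.obj (tr L)
  have hθ' : Sigma.desc (fun n => Q.map (colimit.ι L n)) =
      θ ≫ Q.map (Sigma.desc (fun n => colimit.ι L n)) := by
    refine Sigma.hom_ext _ _ fun n => ?_
    rw [Sigma.ι_desc, ι_comp_sigmaComparison_assoc, ← Q.map_comp, Sigma.ι_desc]
  refine ⟨triangleOfSESδ hS ≫ (shiftFunctor _ (1 : ℤ)).map (inv θ), ?_⟩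
  refine isomorphic_distinguished _ hT _ ?_
  refine Triangle.isoMk _ _ e e (Iso.refl _) ?_ ?_ ?_
  · exact hθ
  · change Sigma.desc (fun n => Q.map (colimit.ι L n)) ≫ 𝟙 _ = θ ≫ Q.map (Sigma.desc (fun n => colimit.ι L n))
    rw [Category.comp_id, hθ']
  · change (triangleOfSESδ hS ≫ (shiftFunctor _ (1 : ℤ)).map (inv θ)) ≫ (shiftFunctor _ (1 : ℤ)).map θ =
      𝟙 _ ≫ triangleOfSESδ hS
    rw [Category.assoc, ← Functor.map_comp, IsIso.inv_hom_id, CategoryTheory.Functor.map_id,
      Category.comp_id, Category.id_comp]

end Groth.Agent.S0985
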