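import Groth.Statements.S5357
import Groth.Agent.Lib.Helper16.FixedLocus
import Groth.Agent.Lib.Helper23.GrpSeparated

set_option autoImplicit false
universe u
open CategoryTheory CategoryTheory.Limits MonoidalCategory CartesianMonoidalCategory MonObj GrpObj AlgebraicGeometry
open SGA3

namespace Groth.Agent.S5357

/-- Let G be a group scheme over a field k, X a k-scheme and u, v : X → G two morphisms of k-schemes.
Then the transporter of u into v, the subfunctor of G whose points with values in S' are the g such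
that g u(x) g⁻¹ = v(x) for every S'' → S' and every point x of X with values in S'', is represented
by a closed subscheme of G. (For u = v this says that the centralizer of u is represented by a
closed subscheme of G; that it is a subgroup scheme is not stated here.) -/
theorem result (k : Type u) [Field k] (G X : Over (Spec (CommRingCat.of k))) [GrpObj G]
    (u v : X ⟶ G) :
    ∃ (T : Over (Spec (CommRingCat.of k))) (t : T ⟶ G), IsClosedImmersion t.left ∧
      ∀ (S' : Over (Spec (CommRingCat.of k))) (g : S' ⟶ G), (∃ z : S' ⟶ T, z ≫ t = g) ↔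
        ∀ (S'' : Over (Spec (CommRingCat.of k))) (s : S'' ⟶ S') (x : S'' ⟶ X), (s ≫ g) * (x ≫ u) * (s ≫ g)⁻¹ = x ≫ v := by
  haveI : IsSeparated G.hom := Lib.Helper23.GrpSeparated.isSeparated_of_field G
  let a : X ⊗ G ⟶ G :=
    snd X G * ((fst X G ≫ v)⁻¹ * (snd X G * (fst X G ≫ u) * (snd X G)⁻¹))
  obtain ⟨Z, incl, hcl, hfix, huniv⟩ := Lib.Helper16.FixedLocus.exists_fixedLocus a
  have key : ∀ (S' : Over (Spec (CommRingCat.of k))) (g : S' ⟶ G),
      (X ◁ g) ≫ a = snd X S' ≫ g ↔
        (snd X S' ≫ g) * (fst X S' ≫ u) * (snd X S' ≫ g)⁻¹ = fst X S' ≫ v := by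
    intro S' g
    have h1 : (X ◁ g) ≫ a = (snd X S' ≫ g) * ((fst X S' ≫ v)⁻¹ *
        ((snd X S' ≫ g) * (fst X S' ≫ u) * (snd X S' ≫ g)⁻¹)) := by
      show (X ◁ g) ≫ (snd X G * ((fst X G ≫ v)⁻¹ *
        (snd X G * (fst X G ≫ u) * (snd X G)⁻¹))) = _
      simp only [MonObj.comp_mul, GrpObj.comp_inv, whiskerLeft_fst_assoc, whiskerLeft_snd]
    rw [h1]
    constructor
    · intro h
      have h2 : (fst X S' ≫ v)⁻¹ *
          ((snd X S' ≫ g) * (fst X S' ≫ u) * (snd X S' ≫ g)⁻¹) = 1 := by
        have := congrArg (fun m => (snd X S' ≫ g)⁻¹ * m) h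
        simpa using this
      exact (inv_mul_eq_one.1 h2).symm
    · intro h
      rw [h, inv_mul_cancel, _root_.mul_one]
  refine ⟨Z, incl, hcl, fun S' g => ⟨?_, ?_⟩⟩
  · rintro ⟨z, rfl⟩ S'' s x
    have h1 : (X ◁ (z ≫ incl)) ≫ a = snd X S' ≫ z ≫ incl := by
      rw [MonoidalCategory.whiskerLeft_comp, Category.assoc, hfix, whiskerLeft_snd_assoc]
    have h2 := (key S' (z ≫ incl)).1 h1
    have h3 := congrArg (fun m => lift x s ≫ m) h2
    simp only [MonObj.comp_mul, GrpObj.comp_inv, lift_fst_assoc, lift_snd_assoc] at h3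
    exact h3
  · intro h
    apply huniv S' g
    rw [key]
    exact h (X ⊗ S') (snd X S') (fst X S')

end Groth.Agent.S5357
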