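import Groth.Statements.S16535
import Mathlib
import Groth.Agent.S16536
import Groth.Agent.Lib.Helper60.WittJac
import Groth.Agent.Lib.Helper60.BCRank

set_option autoImplicit false
set_option maxHeartbeats 400000
universe u v
open Disp

namespace Groth.Agent.S16535

open Dieu Groth.Agent.Lib.Helper60

section

variable {p : ℕ} [Fact p.Prime] {R : Type u} [CommRing R]
variable {P : Type v} [AddCommGroup P] [Module (WittVector p R) P]

local notation "σ" => (WittVector.frobenius : WittVector p R →+* WittVector p R)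

/-- Every element of `I_R` is a Verschiebung. -/
theorem exists_eq_verschiebung (ξ : WittVector p R) (hξ : ξ ∈ W4c1extbt610.IV p R) :
    ∃ u, ξ = WittVector.verschiebung u := by
  unfold W4c1extbt610.IV at hξ
  induction hξ using Submodule.span_induction with
  | mem x hx => obtain ⟨u, rfl⟩ := hx; exact ⟨u, rfl⟩
  | zero => exact ⟨0, (map_zero _).symm⟩
  | add x y _ _ hx hy =>
    obtain ⟨u, rfl⟩ := hx
    obtain ⟨v, rfl⟩ := hy
    exact ⟨u + v, (map_add _ _ _).symm⟩
  | smul a x _ hx =>
    obtain ⟨u, rfl⟩ := hx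
    exact ⟨u * σ a, by rw [WittVector.verschiebung_mul_frobenius, smul_eq_mul, mul_comm]⟩

/-- Induction principle on `Q = L ⊕ I_R T`. -/
theorem Q_induction (D : W4c1extbt610.Display3n p R P) (L T : Submodule (WittVector p R) P)
    (hQ : D.Q = L ⊔ W4c1extbt610.IV p R • T) (S : Submodule (WittVector p R) D.Q)
    (hL : ∀ (l : P) (hl : l ∈ L) (hlQ : l ∈ D.Q), (⟨l, hlQ⟩ : D.Q) ∈ S)
    (hT : ∀ (u : WittVector p R) (t : P) (ht : t ∈ T)
      (hQ' : WittVector.verschiebung u • t ∈ D.Q), (⟨WittVector.verschiebung u • t, hQ'⟩ : D.Q) ∈ S)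
    (y : D.Q) : y ∈ S := by
  have hIT : W4c1extbt610.IV p R • T ≤ S.map D.Q.subtype := by
    rw [Submodule.smul_le]
    intro ξ hξ t ht
    obtain ⟨u, rfl⟩ := exists_eq_verschiebung ξ hξ
    have hmem : WittVector.verschiebung u • t ∈ D.Q := by
      rw [hQ]
      exact Submodule.mem_sup_right (Submodule.smul_mem_smul
        (W4c1extbt610.verschiebung_mem_IV p R u) ht)
    exact ⟨⟨_, hmem⟩, hT u t ht hmem, rfl⟩
  have hy : (y : P) ∈ L ⊔ W4c1extbt610.IV p R • T := by
    rw [← hQ]; exact y.2
  obtain ⟨l, hl, z, hz, hlz⟩ := Submodule.mem_sup.mp hy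
  have hlQ : l ∈ D.Q := by rw [hQ]; exact Submodule.mem_sup_left hl
  obtain ⟨z', hz'S, hz'⟩ := hIT hz
  have : y = ⟨l, hlQ⟩ + z' := by
    apply Subtype.ext
    rw [Submodule.coe_add]
    change (y : P) = l + D.Q.subtype z'
    rw [hz', hlz]
  rw [this]
  exact S.add_mem (hL l hl hlQ) hz'S

/-- The `σ`-linear map `V⁻¹|L ⊕ F|T`. -/
noncomputable def Phi (D : W4c1extbt610.Display3n p R P) (L T : Submodule (WittVector p R) P)
    (hLT : IsCompl L T) (hLQ : L ≤ D.Q) : P →ₛₗ[σ] P :=
  (D.Vinv.comp ((Submodule.inclusion hLQ).comp (L.projectionOnto T hLT))) +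
    (D.F.comp (T.subtype.comp (T.projectionOnto L hLT.symm)))

theorem Phi_apply (D : W4c1extbt610.Display3n p R P) (L T : Submodule (WittVector p R) P)
    (hLT : IsCompl L T) (hLQ : L ≤ D.Q) (x : P) :
    Phi D L T hLT hLQ x = D.Vinv (Submodule.inclusion hLQ (L.projectionOnto T hLT x)) +
      D.F (T.projectionOnto L hLT.symm x : P) := rfl

theorem Phi_L (D : W4c1extbt610.Display3n p R P) (L T : Submodule (WittVector p R) P)
    (hLT : IsCompl L T) (hLQ : L ≤ D.Q) (l : P) (hl : l ∈ L) (hlQ : l ∈ D.Q) :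
    Phi D L T hLT hLQ l = D.Vinv ⟨l, hlQ⟩ := by
  have h1 : L.projectionOnto T hLT l = ⟨l, hl⟩ := Submodule.projectionOnto_apply_of_mem_left hLT hl
  have h2 : T.projectionOnto L hLT.symm l = 0 :=
    Submodule.projectionOnto_apply_of_mem_right hLT.symm hl
  rw [Phi_apply, h1, h2, Submodule.coe_zero, map_zero, add_zero]
  rfl

theorem Phi_T (D : W4c1extbt610.Display3n p R P) (L T : Submodule (WittVector p R) P)
    (hLT : IsCompl L T) (hLQ : L ≤ D.Q) (t : P) (ht : t ∈ T) :
    Phi D L T hLT hLQ t = D.F t := by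
  have h1 : T.projectionOnto L hLT.symm t = ⟨t, ht⟩ :=
    Submodule.projectionOnto_apply_of_mem_left hLT.symm ht
  have h2 : L.projectionOnto T hLT t = 0 := Submodule.projectionOnto_apply_of_mem_right hLT ht
  rw [Phi_apply, h1, h2, map_zero, map_zero, zero_add]

/-- The `W`-linear map `pr_L + p pr_T`. -/
noncomputable def psi (L T : Submodule (WittVector p R) P) (hLT : IsCompl L T) :
    P →ₗ[WittVector p R] P :=
  L.projection T hLT + (p : WittVector p R) • T.projection L hLT.symm

theorem psi_L (L T : Submodule (WittVector p R) P) (hLT : IsCompl L T) (l : P) (hl : l ∈ L) :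
    psi L T hLT l = l := by
  have h1 : L.projectionOnto T hLT l = ⟨l, hl⟩ := Submodule.projectionOnto_apply_of_mem_left hLT hl
  have h2 : T.projectionOnto L hLT.symm l = 0 :=
    Submodule.projectionOnto_apply_of_mem_right hLT.symm hl
  rw [psi, LinearMap.add_apply, LinearMap.smul_apply, Submodule.projection_apply,
    Submodule.projection_apply, h1, h2, Submodule.coe_zero, smul_zero, add_zero]

theorem psi_T (L T : Submodule (WittVector p R) P) (hLT : IsCompl L T) (t : P) (ht : t ∈ T) :
    psi L T hLT t = (p : WittVector p R) • t := by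
  have h1 : T.projectionOnto L hLT.symm t = ⟨t, ht⟩ :=
    Submodule.projectionOnto_apply_of_mem_left hLT.symm ht
  have h2 : L.projectionOnto T hLT t = 0 := Submodule.projectionOnto_apply_of_mem_right hLT ht
  rw [psi, LinearMap.add_apply, LinearMap.smul_apply, Submodule.projection_apply,
    Submodule.projection_apply, h1, h2, Submodule.coe_zero, zero_add]

theorem Phis_surjective (D : W4c1extbt610.Display3n p R P) (L T : Submodule (WittVector p R) P)
    (hLT : IsCompl L T) (hLQ : L ≤ D.Q) (hQ : D.Q = L ⊔ W4c1extbt610.IV p R • T) :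
    Function.Surjective (BC.lift σ (Phi D L T hLT hLQ)) := by
  rw [← LinearMap.range_eq_top, eq_top_iff, ← D.span_range_Vinv, Submodule.span_le]
  rintro _ ⟨y, rfl⟩
  have : y ∈ (LinearMap.range (BC.lift σ (Phi D L T hLT hLQ))).comap D.Vinv := by
    apply Q_induction D L T hQ
    · intro l hl hlQ
      rw [Submodule.mem_comap, ← Phi_L D L T hLT hLQ l hl hlQ]
      exact ⟨BC.tmul σ 1 l, by rw [BC.lift_tmul, one_smul]⟩
    · intro u t ht hQ'
      rw [Submodule.mem_comap]
      have := D.Vinv_verschiebung_smul u t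
      rw [this, ← Phi_T D L T hLT hLQ t ht]
      exact ⟨BC.tmul σ u t, by rw [BC.lift_tmul]⟩
  exact this

theorem Phis_bijective (hp : IsNilpotent (p : R))
    (D : W4c1extbt610.Display3n p R P) (L T : Submodule (WittVector p R) P)
    (hLT : IsCompl L T) (hLQ : L ≤ D.Q) (hQ : D.Q = L ⊔ W4c1extbt610.IV p R • T) :
    Function.Bijective (BC.lift σ (Phi D L T hLT hLQ)) := by
  have := D.finite
  have := D.projective
  have : Module.Flat (WittVector p R) P := Module.Flat.of_projective
  have : Module.Finite (WittVector p R) (BC σ P) := BCRank.finite_BC σ P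
  have : Module.Flat (WittVector p R) (BC σ P) := BCRank.flat_BC σ P
  apply Module.bijective_of_surjective_of_rankAtStalk_eq (Phis_surjective D L T hLT hLQ hQ)
  intro m hm
  rw [BCRank.rankAtStalk_BC]
  congr 1
  apply PrimeSpectrum.ext
  exact WittJac.comap_frobenius_eq hp m

/-- The candidate `V^#`. -/
noncomputable def VsOf (hp : IsNilpotent (p : R))
    (D : W4c1extbt610.Display3n p R P) (L T : Submodule (WittVector p R) P)
    (hLT : IsCompl L T) (hLQ : L ≤ D.Q) (hQ : D.Q = L ⊔ W4c1extbt610.IV p R • T) :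
    P →ₗ[WittVector p R] BC σ P :=
  (BC.map σ (psi L T hLT)).comp
    (LinearEquiv.ofBijective _ (Phis_bijective hp D L T hLT hLQ hQ)).symm.toLinearMap

theorem VsOf_key (hp : IsNilpotent (p : R))
    (D : W4c1extbt610.Display3n p R P) (L T : Submodule (WittVector p R) P)
    (hLT : IsCompl L T) (hLQ : L ≤ D.Q) (hQ : D.Q = L ⊔ W4c1extbt610.IV p R • T)
    (w : WittVector p R) (x : P) :
    VsOf hp D L T hLT hLQ hQ (w • Phi D L T hLT hLQ x) = BC.tmul σ w (psi L T hLT x) := by
  have h1 : w • Phi D L T hLT hLQ x =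
      (LinearEquiv.ofBijective _ (Phis_bijective hp D L T hLT hLQ hQ)) (BC.tmul σ w x) := by
    rw [LinearEquiv.ofBijective_apply, BC.lift_tmul]
  rw [h1, VsOf, LinearMap.comp_apply, LinearEquiv.coe_coe, LinearEquiv.symm_apply_apply,
    BC.map_tmul]

theorem VsOf_Vinv (hp : IsNilpotent (p : R))
    (D : W4c1extbt610.Display3n p R P) (L T : Submodule (WittVector p R) P)
    (hLT : IsCompl L T) (hLQ : L ≤ D.Q) (hQ : D.Q = L ⊔ W4c1extbt610.IV p R • T) (y : D.Q) :
    VsOf hp D L T hLT hLQ hQ (D.Vinv y) = BC.tmul σ 1 (y : P) := by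
  have hσp : σ (p : WittVector p R) = (p : WittVector p R) := map_natCast σ p
  let S : Submodule (WittVector p R) D.Q :=
    { carrier := {y | VsOf hp D L T hLT hLQ hQ (D.Vinv y) = BC.tmul σ 1 (y : P)}
      add_mem' := by
        intro a b ha hb
        change VsOf hp D L T hLT hLQ hQ (D.Vinv (a + b)) = BC.tmul σ 1 ((a + b : D.Q) : P)
        rw [map_add, map_add, Submodule.coe_add, BC.tmul_add, ha, hb]
      zero_mem' := by
        change VsOf hp D L T hLT hLQ hQ (D.Vinv 0) = BC.tmul σ 1 ((0 : D.Q) : P)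
        rw [map_zero, map_zero, Submodule.coe_zero, BC.tmul_zero]
      smul_mem' := by
        intro a b hb
        change VsOf hp D L T hLT hLQ hQ (D.Vinv (a • b)) = BC.tmul σ 1 ((a • b : D.Q) : P)
        rw [map_smulₛₗ, map_smul, hb, Submodule.coe_smul, ← BC.tmul_apply_eq, BC.smul_tmul,
          mul_one] }
  have : y ∈ S := by
    apply Q_induction D L T hQ
    · intro l hl hlQ
      change VsOf hp D L T hLT hLQ hQ (D.Vinv ⟨l, hlQ⟩) = BC.tmul σ 1 l
      have := VsOf_key hp D L T hLT hLQ hQ 1 l
      rw [one_smul, Phi_L D L T hLT hLQ l hl hlQ, psi_L L T hLT l hl] at this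
      exact this
    · intro u t ht hQ'
      change VsOf hp D L T hLT hLQ hQ (D.Vinv ⟨WittVector.verschiebung u • t, hQ'⟩)
        = BC.tmul σ 1 (WittVector.verschiebung u • t)
      have h1 := D.Vinv_verschiebung_smul u t
      rw [h1, ← Phi_T D L T hLT hLQ t ht, VsOf_key, psi_T L T hLT t ht, ← BC.tmul_mul_apply, hσp,
        ← BC.tmul_apply_eq, WittVector.frobenius_verschiebung]
  exact this

theorem VsOf_F (hp : IsNilpotent (p : R))
    (D : W4c1extbt610.Display3n p R P) (L T : Submodule (WittVector p R) P)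
    (hLT : IsCompl L T) (hLQ : L ≤ D.Q) (hQ : D.Q = L ⊔ W4c1extbt610.IV p R • T) (x : P) :
    VsOf hp D L T hLT hLQ hQ (D.F x) = (p : WittVector p R) • BC.tmul σ 1 x := by
  have hσp : σ (p : WittVector p R) = (p : WittVector p R) := map_natCast σ p
  have hx : L.projection T hLT x + T.projection L hLT.symm x = x :=
    Submodule.projection_add_projection_eq_self hLT x
  have hl : L.projection T hLT x ∈ L := by
    rw [Submodule.projection_apply]; exact (L.projectionOnto T hLT x).2
  have ht : T.projection L hLT.symm x ∈ T := by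
    rw [Submodule.projection_apply]; exact (T.projectionOnto L hLT.symm x).2
  have hFl : VsOf hp D L T hLT hLQ hQ (D.F (L.projection T hLT x))
      = (p : WittVector p R) • BC.tmul σ 1 (L.projection T hLT x) := by
    have := Groth.Agent.S16536.F_eq_p_smul_Vinv p R P D ⟨L.projection T hLT x, hLQ hl⟩
    rw [this, map_smul, VsOf_Vinv]
  have hFt : VsOf hp D L T hLT hLQ hQ (D.F (T.projection L hLT.symm x))
      = (p : WittVector p R) • BC.tmul σ 1 (T.projection L hLT.symm x) := by
    have := VsOf_key hp D L T hLT hLQ hQ 1 (T.projection L hLT.symm x)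
    rw [one_smul, Phi_T D L T hLT hLQ _ ht, psi_T L T hLT _ ht, ← BC.tmul_mul_apply, hσp,
      one_mul] at this
    rw [this, BC.smul_tmul, mul_one]
  conv_lhs => rw [← hx]
  rw [map_add, map_add, hFl, hFt, ← smul_add, ← BC.tmul_add, hx]

end

theorem exists_VSharp (p : ℕ) [Fact p.Prime] (R : Type u) [CommRing R]
    (hp : IsNilpotent (p : R))
    (P : Type v) [AddCommGroup P] [Module (WittVector p R) P] (D : W4c1extbt610.Display3n p R P) :
    ∃ Vs : P →ₗ[WittVector p R]
      Dieu.BC (WittVector.frobenius : WittVector p R →+* WittVector p R) P,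
      Dieu.IsVSharp D Vs := by
  obtain ⟨L, T, hLT, hQ⟩ := D.exists_normal
  have hLQ : L ≤ D.Q := by rw [hQ]; exact le_sup_left
  refine ⟨VsOf hp D L T hLT hLQ hQ, ?_, ?_⟩
  · intro w x
    rw [map_smul, VsOf_F, smul_comm, BC.smul_tmul, mul_one]
  · intro w y
    rw [map_smul, VsOf_Vinv, BC.smul_tmul, mul_one]

/-- Let p be a prime and R a commutative ring in which p is nilpotent (in particular every prime number
other than p is a unit in R); write W = W(R) for the ring of p-typical Witt vectors with Frobenius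
σ, and let (P, Q, F, V⁻¹) be a 3n-display over R. Then there is exactly one W-linear map V# : P → W
⊗_{σ,W} P with V#(w·F x) = p·(w ⊗ x) for all w ∈ W, x ∈ P and V#(w·V⁻¹ y) = w ⊗ y for all w ∈ W, y ∈
Q. (The published statement is made for every ring in which the primes other than p are units. Over
the rationals the ghost map identifies W(ℚ) with ℚ^ℕ and σ with the shift; for the idempotent e =
(1,0,0,…) the module (1−e)W with Q = (1−e)W, F(x) = p·σ(x)(1−e) and V⁻¹(x) = σ(x)(1−e) is a
3n-display, and a W-linear V# would have to send 1−e to 1 ⊗ (1−e), which corresponds to 1 under W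
⊗_{σ,W} (1−e)W ≅ W, while e·(1−e) = 0 — impossible. The published proof compares ranks of P and W
⊗_{σ,W} P, which agree when σ fixes the idempotents of W(R); this holds when p is nilpotent in R,
the case of displays, which is the hypothesis taken here.) -/
theorem result (p : ℕ) [Fact p.Prime] (R : Type u) [CommRing R]
    (hR : ∀ ℓ : ℕ, ℓ.Prime → ℓ ≠ p → IsUnit (ℓ : R)) (hp : IsNilpotent (p : R))
    (P : Type v) [AddCommGroup P] [Module (WittVector p R) P] (D : W4c1extbt610.Display3n p R P) :
    ∃! Vs : P →ₗ[WittVector p R] Dieu.BC (WittVector.frobenius : WittVector p R →+* WittVector p R) P,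
      Dieu.IsVSharp D Vs := by
  have _ := hR
  obtain ⟨Vs, hVs⟩ := exists_VSharp p R hp P D
  refine ⟨Vs, hVs, ?_⟩
  intro Vs' hVs'
  apply LinearMap.ext_on_range D.span_range_Vinv
  intro y
  have h1 := hVs.app_smul_Vinv 1 y
  have h2 := hVs'.app_smul_Vinv 1 y
  rw [one_smul] at h1 h2
  rw [h1, h2]

end Groth.Agent.S16535
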