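import Groth.Statements.S16540
import Mathlib
import Groth.Agent.S16535
import Groth.Agent.Lib.Helper60.BCFunct

set_option autoImplicit false
set_option maxHeartbeats 400000
universe u v
open Disp

namespace Groth.Agent.S16540

open Dieu Groth.Agent.Lib.Helper60 Groth.Agent.Lib.Helper60.BCComp Groth.Agent.Lib.Helper60.BCFunct

section

variable {p : ℕ} [Fact p.Prime] {S R : Type u} [CommRing S] [CommRing R] (f : S →+* R)

theorem frob_comm :
    (WittVector.frobenius : WittVector p R →+* WittVector p R).comp
        (WittVector.map f : WittVector p S →+* WittVector p R) =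
      (WittVector.map f : WittVector p S →+* WittVector p R).comp
        (WittVector.frobenius : WittVector p S →+* WittVector p S) := by
  ext1 x
  exact ((WittVector.frobenius_isPoly p).map f x).symm

theorem pow_comm (n : ℕ) :
    ((WittVector.frobenius : WittVector p R →+* WittVector p R) ^ n).comp
        (WittVector.map f : WittVector p S →+* WittVector p R) =
      (WittVector.map f : WittVector p S →+* WittVector p R).comp
        ((WittVector.frobenius : WittVector p S →+* WittVector p S) ^ n) := by
  induction n with
  | zero => rfl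
  | succ n ih =>
    rw [pow_succ, pow_succ]
    exact comp_comm _ (frob_comm f) ih

theorem map_J_le :
    (W4c1extbt610.IV p S ⊔ Ideal.span {(p : WittVector p S)}).map
        (WittVector.map f : WittVector p S →+* WittVector p R) ≤
      W4c1extbt610.IV p R ⊔ Ideal.span {(p : WittVector p R)} := by
  rw [Ideal.map_sup]
  refine sup_le_sup ?_ ?_
  · rw [W4c1extbt610.IV, Ideal.map_span, Ideal.span_le]
    rintro _ ⟨_, ⟨u, rfl⟩, rfl⟩
    rw [WittVector.map_verschiebung]
    exact W4c1extbt610.verschiebung_mem_IV p R _
  · rw [Ideal.map_span, Set.image_singleton, map_natCast]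

end

/-- Let p be a prime, S a commutative ring in which p is nilpotent, f : S → R a homomorphism of
commutative rings, and (P, Q, F, V⁻¹) a display over S, that is, a 3n-display whose operator V#
satisfies the nilpotence condition. Let (P_R, Q_R, F_R, V_R⁻¹) be a 3n-display structure on P_R =
W(R) ⊗_{W(S)} P which is the base change of (P, Q, F, V⁻¹) along f (Q_R the kernel of P_R → R ⊗_S
(P/Q), F_R(w ⊗ x) = σ(w) ⊗ F x, V_R⁻¹(w ⊗ y) = σ(w) ⊗ V⁻¹ y for y ∈ Q, V_R⁻¹(V(w) ⊗ x) = w ⊗ F x).
Then (P_R, Q_R, F_R, V_R⁻¹) is a display over R. -/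
theorem result (p : ℕ) [Fact p.Prime] (S R : Type u) [CommRing S] [CommRing R]
    (hp : IsNilpotent (p : S)) (f : S →+* R)
    (P : Type v) [AddCommGroup P] [Module (WittVector p S) P] (D : W4c1extbt610.Display3n p S P)
    (hD : Dieu.IsDisplay D)
    (DR : W4c1extbt610.Display3n p R (Dieu.BC (WittVector.map f : WittVector p S →+* WittVector p R) P)) (hDR : Dieu.IsDispBaseChange f D DR) :
    Dieu.IsDisplay DR := by
  have hpR : IsNilpotent (p : R) := by
    have := hp.map f
    rwa [map_natCast] at this
  obtain ⟨Vs, hVs, hnil⟩ := hD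
  obtain ⟨Vs', hVs'⟩ := Groth.Agent.S16535.exists_VSharp p R hpR _ DR
  refine ⟨Vs', hVs', ?_⟩
  -- `Vs'` is the base change of `Vs`
  have h3 : ∀ x : P, Vs' (BC.tmul (WittVector.map f : WittVector p S →+* WittVector p R) 1 x) =
      theta (WittVector.map f : WittVector p S →+* WittVector p R)
        (WittVector.frobenius : WittVector p S →+* WittVector p S)
        (WittVector.frobenius : WittVector p R →+* WittVector p R) (frob_comm f) (Vs x) := by
    let E : Submodule (WittVector p S) P :=
      { carrier := {x | Vs' (BC.tmul (WittVector.map f : WittVector p S →+* WittVector p R) 1 x) =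
          theta (WittVector.map f : WittVector p S →+* WittVector p R)
            (WittVector.frobenius : WittVector p S →+* WittVector p S)
            (WittVector.frobenius : WittVector p R →+* WittVector p R) (frob_comm f) (Vs x)}
        add_mem' := by
          intro a b ha hb
          change Vs' (BC.tmul _ 1 (a + b)) = theta _ _ _ (frob_comm f) (Vs (a + b))
          rw [BC.tmul_add, map_add, map_add, map_add, ha, hb]
        zero_mem' := by
          change Vs' (BC.tmul _ 1 0) = theta _ _ _ (frob_comm f) (Vs 0)
          rw [BC.tmul_zero, map_zero, map_zero, map_zero]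
        smul_mem' := by
          intro a b hb
          change Vs' (BC.tmul _ 1 (a • b)) = theta _ _ _ (frob_comm f) (Vs (a • b))
          rw [← BC.tmul_apply_eq, BC.tmul_eq_smul_tmul_one, map_smul, map_smul, map_smulₛₗ, hb] }
    have hE : E = ⊤ := by
      rw [eq_top_iff, ← D.span_range_Vinv, Submodule.span_le]
      rintro _ ⟨q, rfl⟩
      change Vs' (BC.tmul _ 1 (D.Vinv q)) = theta _ _ _ (frob_comm f) (Vs (D.Vinv q))
      have hmem : BC.tmul (WittVector.map f : WittVector p S →+* WittVector p R) 1 (q : P) ∈ DR.Q := by
        rw [hDR.Q_eq, LinearMap.mem_ker, bcQuotMap_tmul, Submodule.mkQ_apply,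
          (Submodule.Quotient.mk_eq_zero D.Q).mpr q.2, BC.tmul_zero]
      have h1 := hDR.Vinv_tmul 1 q hmem
      rw [map_one] at h1
      have h2 := hVs'.app_smul_Vinv 1 ⟨_, hmem⟩
      rw [one_smul, h1] at h2
      have h4 := hVs.app_smul_Vinv 1 q
      rw [one_smul] at h4
      rw [h2, h4, theta_tmul, map_one]
    intro x
    have : x ∈ E := by rw [hE]; exact Submodule.mem_top
    exact this
  have h4 : ∀ (n : ℕ) (x : P),
      vSharpPow Vs' n (BC.tmul (WittVector.map f : WittVector p S →+* WittVector p R) 1 x) =
      theta (WittVector.map f : WittVector p S →+* WittVector p R)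
        ((WittVector.frobenius : WittVector p S →+* WittVector p S) ^ (n + 1))
        ((WittVector.frobenius : WittVector p R →+* WittVector p R) ^ (n + 1))
        (pow_comm f (n + 1)) (vSharpPow Vs n x) := by
    intro n
    induction n with
    | zero =>
      intro x
      rw [vSharpPow_zero_apply, vSharpPow_zero_apply, h3]
      exact (theta_castHom _ _ _ (frob_comm f) (pow_comm f 1) (Vs x)).symm
    | succ n ih =>
      intro x
      rw [vSharpPow_succ_eq, vSharpPow_succ_eq, h3,
        L_theta _ _ _ _ _ (frob_comm f) (pow_comm f (n + 1))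
          (vSharpPow Vs n) (vSharpPow Vs' n) ih (Vs x)]
      exact (theta_castHom _ _ _ _ (pow_comm f (n + 1 + 1)) _).symm
  obtain ⟨n, hn⟩ := hnil
  refine ⟨n, fun z => ?_⟩
  induction z using BC.induction_on (WittVector.map f : WittVector p S →+* WittVector p R) with
  | zero => rw [map_zero]; exact Submodule.zero_mem _
  | tmul b x =>
    rw [BC.tmul_eq_smul_tmul_one, map_smul, h4]
    apply Submodule.smul_mem
    exact Submodule.smul_mono_left (map_J_le f) (theta_mem _ _ _ _ _ _ (hn x))
  | add z₁ z₂ h₁ h₂ => rw [map_add]; exact Submodule.add_mem _ h₁ h₂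

end Groth.Agent.S16540
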