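import Groth.Statements.S16538
import Mathlib
import Groth.Agent.S16535
import Groth.Agent.S16540
import Groth.Agent.Lib.Helper60.BCSem

set_option autoImplicit false
set_option maxHeartbeats 400000
universe u v
open Disp

namespace Groth.Agent.S16538

open Dieu Groth.Agent.Lib.Helper60

section Witt

variable {p : ℕ} [Fact p.Prime] {R : Type u} [CommRing R]

/-- The inverse of the Verschiebung, as a plain function. -/
def vi (x : WittVector p R) : WittVector p R := x.shift 1

theorem vi_verschiebung (w : WittVector p R) : vi (WittVector.verschiebung w) = w := by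
  ext k
  rw [vi, WittVector.shift_coeff, add_comm, WittVector.verschiebung_coeff_succ]

theorem vi_add (x y : WittVector p R) (hx : x ∈ W4c1extbt610.IV p R)
    (hy : y ∈ W4c1extbt610.IV p R) : vi (x + y) = vi x + vi y := by
  obtain ⟨u, rfl⟩ := S16535.exists_eq_verschiebung x hx
  obtain ⟨v, rfl⟩ := S16535.exists_eq_verschiebung y hy
  rw [← map_add, vi_verschiebung, vi_verschiebung, vi_verschiebung]

theorem vi_mul (c x : WittVector p R) (hx : x ∈ W4c1extbt610.IV p R) :
    vi (c * x) = WittVector.frobenius c * vi x := by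
  obtain ⟨u, rfl⟩ := S16535.exists_eq_verschiebung x hx
  rw [mul_comm c, ← WittVector.verschiebung_mul_frobenius, vi_verschiebung, vi_verschiebung,
    mul_comm]

theorem vi_zero : vi (0 : WittVector p R) = 0 := by
  have := vi_verschiebung (0 : WittVector p R)
  rwa [map_zero] at this

theorem mem_IV_of_constantCoeff_eq_zero (x : WittVector p R)
    (h : WittVector.constantCoeff x = 0) : x ∈ W4c1extbt610.IV p R := by
  have hx : x = WittVector.verschiebung (x.shift 1) := by
    have := WittVector.eq_iterate_verschiebung (x := x) (n := 1) (by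
      intro i hi
      have : i = 0 := by omega
      rw [this]; exact h)
    exact this
  rw [hx]; exact W4c1extbt610.verschiebung_mem_IV p R _

theorem constantCoeff_of_mem_IV (x : WittVector p R) (hx : x ∈ W4c1extbt610.IV p R) :
    WittVector.constantCoeff x = 0 := by
  obtain ⟨u, rfl⟩ := S16535.exists_eq_verschiebung x hx
  exact WittVector.verschiebung_coeff_zero u

theorem ker_constantCoeff :
    RingHom.ker (WittVector.constantCoeff : WittVector p R →+* R) = W4c1extbt610.IV p R := by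
  ext x
  rw [RingHom.mem_ker]
  exact ⟨mem_IV_of_constantCoeff_eq_zero x, constantCoeff_of_mem_IV x⟩

/-- Extensionality for 3n-displays. -/
theorem display_ext {P : Type v} [AddCommGroup P] [Module (WittVector p R) P]
    (D1 D2 : W4c1extbt610.Display3n p R P) (hQ : D1.Q = D2.Q) (hF : ∀ x, D1.F x = D2.F x)
    (hV : ∀ (x : P) (h1 : x ∈ D1.Q) (h2 : x ∈ D2.Q), D1.Vinv ⟨x, h1⟩ = D2.Vinv ⟨x, h2⟩) :
    D1 = D2 := by
  obtain ⟨Q1, F1, V1, _, _, _, _, _, _⟩ := D1
  obtain ⟨Q2, F2, V2, _, _, _, _, _, _⟩ := D2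
  simp only at hQ hF hV
  subst hQ
  have hF' : F1 = F2 := LinearMap.ext hF
  subst hF'
  have hV' : V1 = V2 := LinearMap.ext (fun ⟨x, hx⟩ => hV x hx hx)
  subst hV'
  rfl

end Witt


section Main

variable {p : ℕ} [Fact p.Prime] {S R : Type u} [CommRing S] [CommRing R] (f : S →+* R)
variable {P : Type v} [AddCommGroup P] [Module (WittVector p S) P]

local notation "φ" => (WittVector.map f : WittVector p S →+* WittVector p R)
local notation "σS" => (WittVector.frobenius : WittVector p S →+* WittVector p S)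
local notation "σR" => (WittVector.frobenius : WittVector p R →+* WittVector p R)
local notation "ω" => (WittVector.constantCoeff : WittVector p R →+* R)
local notation "ρ" => (RingHom.comp (WittVector.constantCoeff : WittVector p R →+* R)
  (WittVector.map f : WittVector p S →+* WittVector p R))

/-- Auxiliary choices: a dual basis of `P` and a normal decomposition. -/
structure Aux (D : W4c1extbt610.Display3n p S P) where
  n : ℕ
  e : Fin n → P
  g : Fin n → (P →ₗ[WittVector p S] WittVector p S)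
  dual : ∀ x, x = ∑ i, g i x • e i
  L : Submodule (WittVector p S) P
  T : Submodule (WittVector p S) P
  hLT : IsCompl L T
  hQ : D.Q = L ⊔ W4c1extbt610.IV p S • T

theorem nonempty_aux (D : W4c1extbt610.Display3n p S P) : Nonempty (Aux D) := by
  have := D.finite
  have := D.projective
  obtain ⟨n, e, g, hd⟩ := BCSem.exists_dual (WittVector p S) P
  obtain ⟨L, T, hLT, hQ⟩ := D.exists_normal
  exact ⟨⟨n, e, g, hd, L, T, hLT, hQ⟩⟩

variable (D : W4c1extbt610.Display3n p S P) (X : Aux D)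

theorem Aux.hLQ : X.L ≤ D.Q := by rw [X.hQ]; exact le_sup_left

/-! ### projections -/

/-- projection to `L` -/
noncomputable def prL : P →ₗ[WittVector p S] P := X.L.projection X.T X.hLT

/-- projection to `T` -/
noncomputable def prT : P →ₗ[WittVector p S] P := X.T.projection X.L X.hLT.symm

theorem prL_mem (x : P) : prL D X x ∈ X.L := by
  rw [prL, Submodule.projection_apply]; exact (X.L.projectionOnto X.T X.hLT x).2

theorem prT_mem (x : P) : prT D X x ∈ X.T := by
  rw [prT, Submodule.projection_apply]; exact (X.T.projectionOnto X.L X.hLT.symm x).2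

theorem prL_add_prT (x : P) : prL D X x + prT D X x = x :=
  Submodule.projection_add_projection_eq_self X.hLT x

theorem prL_of_mem_L (l : P) (hl : l ∈ X.L) : prL D X l = l := by
  rw [prL, Submodule.projection_apply, Submodule.projectionOnto_apply_of_mem_left X.hLT hl]

theorem prT_of_mem_L (l : P) (hl : l ∈ X.L) : prT D X l = 0 := by
  rw [prT, Submodule.projection_apply, Submodule.projectionOnto_apply_of_mem_right X.hLT.symm hl,
    Submodule.coe_zero]

theorem prT_of_mem_T (t : P) (ht : t ∈ X.T) : prT D X t = t := by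
  rw [prT, Submodule.projection_apply, Submodule.projectionOnto_apply_of_mem_left X.hLT.symm ht]

theorem prL_of_mem_T (t : P) (ht : t ∈ X.T) : prL D X t = 0 := by
  rw [prL, Submodule.projection_apply, Submodule.projectionOnto_apply_of_mem_right X.hLT ht,
    Submodule.coe_zero]

/-- `prL` on `P_R` -/
noncomputable def prLR : BC φ P →ₗ[WittVector p R] BC φ P := BC.map φ (prL D X)

/-- `prT` on `P_R` -/
noncomputable def prTR : BC φ P →ₗ[WittVector p R] BC φ P := BC.map φ (prT D X)

theorem prLR_tmul (b : WittVector p R) (x : P) :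
    prLR f D X (BC.tmul φ b x) = BC.tmul φ b (prL D X x) := BC.map_tmul _ _ _ _

theorem prTR_tmul (b : WittVector p R) (x : P) :
    prTR f D X (BC.tmul φ b x) = BC.tmul φ b (prT D X x) := BC.map_tmul _ _ _ _

theorem prLR_add_prTR (z : BC φ P) : prLR f D X z + prTR f D X z = z := by
  rw [prLR, prTR, ← BCSem.map_add']
  have : prL D X + prT D X = LinearMap.id := by
    ext x; exact prL_add_prT D X x
  rw [this, BCSem.map_id]

theorem prTR_prTR (z : BC φ P) : prTR f D X (prTR f D X z) = prTR f D X z := by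
  rw [prTR, ← BCSem.map_comp]
  have : (prT D X).comp (prT D X) = prT D X := by
    ext x; exact prT_of_mem_T D X _ (prT_mem D X x)
  rw [this]

theorem prTR_prLR (z : BC φ P) : prTR f D X (prLR f D X z) = 0 := by
  rw [prTR, prLR, ← BCSem.map_comp]
  have : (prT D X).comp (prL D X) = 0 := by
    ext x; exact prT_of_mem_L D X _ (prL_mem D X x)
  rw [this, BCSem.map_zero']

theorem prLR_prTR (z : BC φ P) : prLR f D X (prTR f D X z) = 0 := by
  rw [prTR, prLR, ← BCSem.map_comp]
  have : (prL D X).comp (prT D X) = 0 := by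
    ext x; exact prL_of_mem_T D X _ (prT_mem D X x)
  rw [this, BCSem.map_zero']

theorem prLR_prLR (z : BC φ P) : prLR f D X (prLR f D X z) = prLR f D X z := by
  rw [prLR, ← BCSem.map_comp]
  have : (prL D X).comp (prL D X) = prL D X := by
    ext x; exact prL_of_mem_L D X _ (prL_mem D X x)
  rw [this]

/-! ### the kernel `Q_R` -/

theorem tmul_mem_ker (b : WittVector p R) (q : P) (hq : q ∈ D.Q) :
    bcQuotMap f D.Q (BC.tmul φ b q) = 0 := by
  rw [bcQuotMap_tmul]
  have : D.Q.mkQ q = 0 := (Submodule.Quotient.mk_eq_zero D.Q).mpr hq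
  rw [this, BC.tmul_zero]

theorem smul_mem_ker (z : BC φ P) (hz : z ∈ W4c1extbt610.IV p R • (⊤ : Submodule (WittVector p R) (BC φ P))) :
    bcQuotMap f D.Q z = 0 := by
  refine Submodule.smul_induction_on hz (fun r hr n _ => ?_) (fun x y hx hy => ?_)
  · rw [map_smulₛₗ, constantCoeff_of_mem_IV r hr, zero_smul]
  · rw [map_add, hx, hy, add_zero]

theorem prLR_mem_ker (z : BC φ P) : bcQuotMap f D.Q (prLR f D X z) = 0 := by
  induction z using BC.induction_on φ with
  | zero => rw [map_zero, map_zero]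
  | tmul b x => rw [prLR_tmul]; exact tmul_mem_ker f D b _ (X.hLQ D (prL_mem D X x))
  | add z₁ z₂ h₁ h₂ => rw [map_add, map_add, h₁, h₂, add_zero]

theorem map_mem_IV (r : WittVector p S) (hr : r ∈ W4c1extbt610.IV p S) :
    φ r ∈ W4c1extbt610.IV p R := by
  obtain ⟨u, rfl⟩ := S16535.exists_eq_verschiebung r hr
  rw [WittVector.map_verschiebung]
  exact W4c1extbt610.verschiebung_mem_IV p R _

theorem tmul_prT_eq_zero (q : P) (hq : q ∈ D.Q) :
    BC.tmul ρ 1 (prT D X q) = 0 := by
  rw [X.hQ] at hq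
  obtain ⟨l, hl, y, hy, rfl⟩ := Submodule.mem_sup.mp hq
  rw [map_add, prT_of_mem_L D X l hl, zero_add]
  refine Submodule.smul_induction_on hy (fun r hr n hn => ?_) (fun x y hx hy => ?_)
  · rw [map_smul, prT_of_mem_T D X n hn, ← BC.tmul_apply_eq]
    have : ρ r = 0 := constantCoeff_of_mem_IV _ (map_mem_IV f r hr)
    rw [this, BC.zero_tmul]
  · rw [map_add, BC.tmul_add, hx, hy, add_zero]

/-- `P/Q → R ⊗ P` induced by `prT`. -/
noncomputable def kappa : (P ⧸ D.Q) →ₛₗ[ρ] BC ρ P :=
  D.Q.liftQ ((BC.ι ρ P).comp (prT D X)) (by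
    intro q hq
    rw [LinearMap.mem_ker, LinearMap.comp_apply, BC.ι_apply]
    exact tmul_prT_eq_zero f D X q hq)

theorem kappa_mk (x : P) : kappa f D X (D.Q.mkQ x) = BC.tmul ρ 1 (prT D X x) := rfl

theorem kappa_key (z : BC φ P) :
    BC.lift ρ (kappa f D X) (bcQuotMap f D.Q z) = BC.push φ ω (prTR f D X z) := by
  induction z using BC.induction_on φ with
  | zero => rw [map_zero, map_zero, map_zero, map_zero]
  | tmul b x =>
    rw [bcQuotMap_tmul, BC.lift_tmul, kappa_mk, prTR_tmul, BC.push_tmul, BC.smul_tmul, mul_one]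
  | add z₁ z₂ h₁ h₂ => rw [map_add, map_add, map_add, map_add, h₁, h₂]

theorem prTR_mem (z : BC φ P) (hz : bcQuotMap f D.Q z = 0) :
    prTR f D X z ∈ W4c1extbt610.IV p R • (⊤ : Submodule (WittVector p R) (BC φ P)) := by
  have h1 : BC.push φ ω (prTR f D X z) = 0 := by
    rw [← kappa_key, hz, map_zero]
  have := BCSem.mem_of_push_eq_zero φ ω X.e X.g X.dual _ h1
  rwa [ker_constantCoeff] at this

theorem prTR_mem_ker (z : BC φ P) (hz : bcQuotMap f D.Q z = 0) :
    bcQuotMap f D.Q (prTR f D X z) = 0 :=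
  smul_mem_ker f D _ (prTR_mem f D X z hz)


/-! ### the operators `F_R`, `A_R`, `VF` -/

/-- `F_R` -/
noncomputable def FR : BC φ P →ₛₗ[σR] BC φ P :=
  BCSem.semBC φ σS σR (S16540.frob_comm f) D.F

theorem FR_tmul (w : WittVector p R) (x : P) :
    FR f D (BC.tmul φ w x) = BC.tmul φ (σR w) (D.F x) :=
  BCSem.semBC_tmul φ σS σR (S16540.frob_comm f) D.F w x

/-- `V⁻¹ ∘ pr_L` -/
noncomputable def A0 : P →ₛₗ[σS] P :=
  D.Vinv.comp ((Submodule.inclusion (X.hLQ D)).comp (X.L.projectionOnto X.T X.hLT))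

theorem A0_apply (x : P) : A0 D X x = D.Vinv ⟨prL D X x, X.hLQ D (prL_mem D X x)⟩ := rfl

theorem A0_of_mem_L (l : P) (hl : l ∈ X.L) (hlQ : l ∈ D.Q) : A0 D X l = D.Vinv ⟨l, hlQ⟩ := by
  rw [A0_apply]
  congr 1
  exact Subtype.ext (prL_of_mem_L D X l hl)

theorem p_smul_A0 (x : P) : (p : WittVector p S) • A0 D X x = D.F (prL D X x) := by
  rw [A0_apply, ← S16536.F_eq_p_smul_Vinv]

/-- `A_R` -/
noncomputable def AR : BC φ P →ₛₗ[σR] BC φ P :=
  BCSem.semBC φ σS σR (S16540.frob_comm f) (A0 D X)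

theorem AR_tmul (w : WittVector p R) (x : P) :
    AR f D X (BC.tmul φ w x) = BC.tmul φ (σR w) (A0 D X x) :=
  BCSem.semBC_tmul φ σS σR (S16540.frob_comm f) (A0 D X) w x

theorem p_smul_AR (z : BC φ P) :
    (p : WittVector p R) • AR f D X z = FR f D (prLR f D X z) := by
  induction z using BC.induction_on φ with
  | zero => rw [map_zero, map_zero, map_zero, smul_zero]
  | tmul b x =>
    rw [AR_tmul, prLR_tmul, FR_tmul, ← p_smul_A0, ← BC.tmul_mul_apply, BC.smul_tmul,
      map_natCast, mul_comm]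
  | add z₁ z₂ h₁ h₂ => rw [map_add, map_add, map_add, smul_add, h₁, h₂]

/-- the operator `V(w) z ↦ w F_R z`, as a plain function -/
noncomputable def VF (z : BC φ P) : BC φ P :=
  ∑ i, vi (BCSem.coord φ (X.g i) z) • FR f D (BC.tmul φ 1 (X.e i))

theorem coord_mem (g : P →ₗ[WittVector p S] WittVector p S) (z : BC φ P)
    (hz : z ∈ W4c1extbt610.IV p R • (⊤ : Submodule (WittVector p R) (BC φ P))) :
    BCSem.coord φ g z ∈ W4c1extbt610.IV p R := by
  refine Submodule.smul_induction_on hz (fun r hr n _ => ?_) (fun x y hx hy => ?_)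
  · rw [map_smul, smul_eq_mul]; exact Ideal.mul_mem_right _ _ hr
  · rw [map_add]; exact Ideal.add_mem _ hx hy

theorem VF_add (z z' : BC φ P)
    (hz : z ∈ W4c1extbt610.IV p R • (⊤ : Submodule (WittVector p R) (BC φ P)))
    (hz' : z' ∈ W4c1extbt610.IV p R • (⊤ : Submodule (WittVector p R) (BC φ P))) :
    VF f D X (z + z') = VF f D X z + VF f D X z' := by
  rw [VF, VF, VF, ← Finset.sum_add_distrib]
  refine Finset.sum_congr rfl (fun i _ => ?_)
  rw [map_add, vi_add _ _ (coord_mem f _ z hz) (coord_mem f _ z' hz'), add_smul]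

theorem VF_smul (c : WittVector p R) (z : BC φ P)
    (hz : z ∈ W4c1extbt610.IV p R • (⊤ : Submodule (WittVector p R) (BC φ P))) :
    VF f D X (c • z) = σR c • VF f D X z := by
  rw [VF, VF, Finset.smul_sum]
  refine Finset.sum_congr rfl (fun i _ => ?_)
  rw [map_smul, smul_eq_mul, vi_mul _ _ (coord_mem f _ z hz), mul_smul]

theorem VF_zero : VF f D X 0 = 0 := by
  rw [VF]
  refine Finset.sum_eq_zero (fun i _ => ?_)
  rw [map_zero, vi_zero, zero_smul]

theorem VF_verschiebung_smul (w : WittVector p R) (z : BC φ P) :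
    VF f D X (WittVector.verschiebung w • z) = w • FR f D z := by
  conv_rhs => rw [BCSem.dual_BC φ X.e X.g X.dual z]
  rw [VF, map_sum, Finset.smul_sum]
  refine Finset.sum_congr rfl (fun i _ => ?_)
  rw [map_smul, smul_eq_mul, ← WittVector.verschiebung_mul_frobenius, vi_verschiebung,
    map_smulₛₗ, mul_smul]

/-- the candidate `V_R⁻¹`, as a plain function -/
noncomputable def VR0 (z : BC φ P) : BC φ P := AR f D X z + VF f D X (prTR f D X z)

theorem VR0_add (z z' : BC φ P) (hz : bcQuotMap f D.Q z = 0) (hz' : bcQuotMap f D.Q z' = 0) :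
    VR0 f D X (z + z') = VR0 f D X z + VR0 f D X z' := by
  rw [VR0, VR0, VR0, map_add, map_add,
    VF_add f D X _ _ (prTR_mem f D X z hz) (prTR_mem f D X z' hz')]
  abel

theorem VR0_smul (c : WittVector p R) (z : BC φ P) (hz : bcQuotMap f D.Q z = 0) :
    VR0 f D X (c • z) = σR c • VR0 f D X z := by
  rw [VR0, VR0, map_smulₛₗ, map_smul, VF_smul f D X _ _ (prTR_mem f D X z hz), smul_add]

theorem VR0_verschiebung_smul (w : WittVector p R) (z : BC φ P) :
    VR0 f D X (WittVector.verschiebung w • z) = w • FR f D z := by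
  rw [VR0, map_smulₛₗ, map_smul, VF_verschiebung_smul, WittVector.frobenius_verschiebung,
    mul_smul, p_smul_AR, ← smul_add, ← map_add, prLR_add_prTR]

theorem VR0_tmul_L (b : WittVector p R) (l : P) (hl : l ∈ X.L) (hlQ : l ∈ D.Q) :
    VR0 f D X (BC.tmul φ b l) = BC.tmul φ (σR b) (D.Vinv ⟨l, hlQ⟩) := by
  rw [VR0, AR_tmul, prTR_tmul, prT_of_mem_L D X l hl, BC.tmul_zero, VF_zero, add_zero,
    A0_of_mem_L D X l hl hlQ]


theorem VR0_tmul_Q (w : WittVector p R) (y : D.Q) :
    VR0 f D X (BC.tmul φ w (y : P)) = BC.tmul φ (σR w) (D.Vinv y) := by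
  have hσ : ∀ c : WittVector p S, σR (φ c) = φ (σS c) := fun c =>
    congrArg (fun ψ : WittVector p S →+* WittVector p R => ψ c) (S16540.frob_comm f)
  let N : Submodule (WittVector p S) D.Q :=
    { carrier := {y | VR0 f D X (BC.tmul φ w (y : P)) = BC.tmul φ (σR w) (D.Vinv y)}
      add_mem' := by
        intro a b ha hb
        change VR0 f D X (BC.tmul φ w ((a + b : D.Q) : P)) = BC.tmul φ (σR w) (D.Vinv (a + b))
        rw [Submodule.coe_add, BC.tmul_add,
          VR0_add f D X _ _ (tmul_mem_ker f D w _ a.2) (tmul_mem_ker f D w _ b.2), ha, hb, map_add,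
          BC.tmul_add]
      zero_mem' := by
        change VR0 f D X (BC.tmul φ w ((0 : D.Q) : P)) = BC.tmul φ (σR w) (D.Vinv 0)
        rw [Submodule.coe_zero, BC.tmul_zero, map_zero, BC.tmul_zero, VR0, map_zero, map_zero,
          VF_zero, add_zero]
      smul_mem' := by
        intro c b hb
        change VR0 f D X (BC.tmul φ w ((c • b : D.Q) : P)) = BC.tmul φ (σR w) (D.Vinv (c • b))
        have h1 : BC.tmul φ w ((c • b : D.Q) : P) = φ c • BC.tmul φ w (b : P) := by
          rw [Submodule.coe_smul, ← BC.tmul_mul_apply, BC.smul_tmul, mul_comm]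
        rw [h1, VR0_smul f D X _ _ (tmul_mem_ker f D w _ b.2), hb, map_smulₛₗ,
          ← BC.tmul_mul_apply, BC.smul_tmul, hσ, mul_comm] }
  have : y ∈ N := by
    apply S16535.Q_induction D X.L X.T X.hQ
    · intro l hl hlQ
      exact VR0_tmul_L f D X w l hl hlQ
    · intro u t ht hQ'
      change VR0 f D X (BC.tmul φ w (WittVector.verschiebung u • t))
        = BC.tmul φ (σR w) (D.Vinv ⟨WittVector.verschiebung u • t, hQ'⟩)
      have h1 : BC.tmul φ w (WittVector.verschiebung u • t) =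
          WittVector.verschiebung (φ u * σR w) • BC.tmul φ 1 t := by
        rw [← BC.tmul_mul_apply, WittVector.map_verschiebung, BC.smul_tmul, mul_one,
          WittVector.verschiebung_mul_frobenius, mul_comm]
      have h2 := D.Vinv_verschiebung_smul u t
      rw [h1, VR0_verschiebung_smul, FR_tmul, map_one, BC.smul_tmul, mul_one, h2,
        ← BC.tmul_mul_apply, mul_comm]
  exact this

/-! ### the base change display -/

/-- `V_R⁻¹` -/
noncomputable def VinvR : ↥(LinearMap.ker (bcQuotMap f D.Q)) →ₛₗ[σR] BC φ P where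
  toFun z := VR0 f D X z.1
  map_add' z z' := VR0_add f D X _ _ (LinearMap.mem_ker.mp z.2) (LinearMap.mem_ker.mp z'.2)
  map_smul' c z := VR0_smul f D X c _ (LinearMap.mem_ker.mp z.2)

theorem VinvR_mk (z : BC φ P) (hz : z ∈ LinearMap.ker (bcQuotMap f D.Q)) :
    VinvR f D X ⟨z, hz⟩ = VR0 f D X z := rfl

theorem IV_smul_le_ker :
    W4c1extbt610.IV p R • (⊤ : Submodule (WittVector p R) (BC φ P)) ≤
      LinearMap.ker (bcQuotMap f D.Q) :=
  fun z hz => LinearMap.mem_ker.mpr (smul_mem_ker f D z hz)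

theorem isCompl_ranges :
    IsCompl (LinearMap.range (prLR f D X)) (LinearMap.range (prTR f D X)) := by
  constructor
  · rw [Submodule.disjoint_def]
    rintro z ⟨a, rfl⟩ ⟨b, hb⟩
    have h1 : prLR f D X (prLR f D X a) = 0 := by rw [← hb, prLR_prTR]
    rwa [prLR_prLR] at h1
  · rw [Submodule.codisjoint_iff_exists_add_eq]
    intro z
    exact ⟨_, _, ⟨z, rfl⟩, ⟨z, rfl⟩, prLR_add_prTR f D X z⟩

theorem ker_eq_sup :
    LinearMap.ker (bcQuotMap f D.Q) =
      LinearMap.range (prLR f D X) ⊔ W4c1extbt610.IV p R • LinearMap.range (prTR f D X) := by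
  apply le_antisymm
  · intro z hz
    rw [LinearMap.mem_ker] at hz
    rw [← prLR_add_prTR f D X z]
    refine Submodule.add_mem_sup ⟨z, rfl⟩ ?_
    rw [← prTR_prTR]
    have h := prTR_mem f D X z hz
    refine Submodule.smul_induction_on h (fun r hr n _ => ?_) (fun x y hx hy => ?_)
    · rw [map_smul]; exact Submodule.smul_mem_smul hr ⟨n, rfl⟩
    · rw [map_add]; exact Submodule.add_mem _ hx hy
  · apply sup_le
    · rintro _ ⟨z, rfl⟩
      exact LinearMap.mem_ker.mpr (prLR_mem_ker f D X z)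
    · exact le_trans (Submodule.smul_mono le_rfl le_top) (IV_smul_le_ker f D)

theorem span_range_VinvR :
    Submodule.span (WittVector p R) (Set.range (VinvR f D X)) = ⊤ := by
  rw [eq_top_iff]
  have h1 : (⊤ : Submodule (WittVector p S) P) ≤
      (Submodule.span (WittVector p R) (Set.range (VinvR f D X))).comap (BC.ι φ P) := by
    rw [← D.span_range_Vinv, Submodule.span_le]
    rintro _ ⟨y, rfl⟩
    rw [SetLike.mem_coe, Submodule.mem_comap, BC.ι_apply]
    apply Submodule.subset_span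
    refine ⟨⟨BC.tmul φ 1 (y : P), LinearMap.mem_ker.mpr (tmul_mem_ker f D 1 _ y.2)⟩, ?_⟩
    rw [VinvR_mk, VR0_tmul_Q, map_one]
  intro z _
  induction z using BC.induction_on φ with
  | zero => exact Submodule.zero_mem _
  | tmul b x =>
    rw [BC.tmul_eq_smul_tmul_one]
    exact Submodule.smul_mem _ _ (h1 (Submodule.mem_top : x ∈ ⊤))
  | add z₁ z₂ h₁ h₂ => exact Submodule.add_mem _ (h₁ Submodule.mem_top) (h₂ Submodule.mem_top)

/-- The base change display. -/
noncomputable def DR : W4c1extbt610.Display3n p R (BC φ P) where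
  Q := LinearMap.ker (bcQuotMap f D.Q)
  F := FR f D
  Vinv := VinvR f D X
  finite := by
    have := D.finite
    exact BCRank.finite_BC φ P
  projective := by
    have := D.projective
    exact BCSem.projective_BC φ
  IV_smul_le := IV_smul_le_ker f D
  exists_normal := ⟨_, _, isCompl_ranges f D X, ker_eq_sup f D X⟩
  span_range_Vinv := span_range_VinvR f D X
  Vinv_verschiebung_smul := fun w x => VR0_verschiebung_smul f D X w x

theorem DR_isBC : IsDispBaseChange f D (DR f D X) where
  Q_eq := rfl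
  F_tmul := FR_tmul f D
  Vinv_tmul := fun w y _ => VR0_tmul_Q f D X w y
  Vinv_verschiebung_tmul := fun w x _ => by
    change VR0 f D X (BC.tmul φ (WittVector.verschiebung w) x) = _
    have h1 : BC.tmul φ (WittVector.verschiebung w) x =
        WittVector.verschiebung w • BC.tmul φ 1 x := BC.tmul_eq_smul_tmul_one _ _ _
    rw [h1, VR0_verschiebung_smul, FR_tmul, map_one, BC.smul_tmul, mul_one]

/-! ### uniqueness -/

theorem F_eq (DR' : W4c1extbt610.Display3n p R (BC φ P)) (hBC : IsDispBaseChange f D DR')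
    (z : BC φ P) : DR'.F z = FR f D z := by
  induction z using BC.induction_on φ with
  | zero => rw [map_zero, map_zero]
  | tmul b x => rw [hBC.F_tmul, FR_tmul]
  | add z₁ z₂ h₁ h₂ => rw [map_add, map_add, h₁, h₂]

theorem mem_Q_iff (DR' : W4c1extbt610.Display3n p R (BC φ P)) (hBC : IsDispBaseChange f D DR')
    (z : BC φ P) : z ∈ DR'.Q ↔ bcQuotMap f D.Q z = 0 := by
  rw [hBC.Q_eq, LinearMap.mem_ker]

theorem Vinv_eq_L (DR' : W4c1extbt610.Display3n p R (BC φ P)) (hBC : IsDispBaseChange f D DR')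
    (y : BC φ P) (h : prLR f D X y ∈ DR'.Q) :
    DR'.Vinv ⟨prLR f D X y, h⟩ = VR0 f D X (prLR f D X y) := by
  induction y using BC.induction_on φ with
  | zero =>
    have h0 : (⟨prLR f D X 0, h⟩ : DR'.Q) = 0 := Subtype.ext (map_zero _)
    rw [h0, map_zero, map_zero, VR0, map_zero, map_zero, VF_zero, add_zero]
  | tmul b x =>
    have hm : BC.tmul φ b (prL D X x) ∈ DR'.Q := by
      rw [← prLR_tmul]; exact h
    have h0 : (⟨prLR f D X (BC.tmul φ b x), h⟩ : DR'.Q) = ⟨BC.tmul φ b (prL D X x), hm⟩ :=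
      Subtype.ext (prLR_tmul f D X b x)
    rw [h0, prLR_tmul]
    have := hBC.Vinv_tmul b ⟨prL D X x, X.hLQ D (prL_mem D X x)⟩ hm
    rw [this, VR0_tmul_L f D X b _ (prL_mem D X x)]
  | add z₁ z₂ h₁ h₂ =>
    have hm1 : prLR f D X z₁ ∈ DR'.Q := (mem_Q_iff f D DR' hBC _).mpr (prLR_mem_ker f D X z₁)
    have hm2 : prLR f D X z₂ ∈ DR'.Q := (mem_Q_iff f D DR' hBC _).mpr (prLR_mem_ker f D X z₂)
    have h0 : (⟨prLR f D X (z₁ + z₂), h⟩ : DR'.Q) = ⟨prLR f D X z₁, hm1⟩ + ⟨prLR f D X z₂, hm2⟩ :=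
      Subtype.ext (map_add _ _ _)
    rw [h0, map_add, h₁ hm1, h₂ hm2, map_add,
      VR0_add f D X _ _ (prLR_mem_ker f D X z₁) (prLR_mem_ker f D X z₂)]

theorem Vinv_eq_T (DR' : W4c1extbt610.Display3n p R (BC φ P)) (hBC : IsDispBaseChange f D DR')
    (y : BC φ P)
    (hy : y ∈ W4c1extbt610.IV p R • (⊤ : Submodule (WittVector p R) (BC φ P))) :
    ∀ h : y ∈ DR'.Q, DR'.Vinv ⟨y, h⟩ = VR0 f D X y := by
  refine Submodule.smul_induction_on' (p := fun y _ => ∀ h : y ∈ DR'.Q,
    DR'.Vinv ⟨y, h⟩ = VR0 f D X y) hy (fun r hr n _ => ?_) (fun x hx y hy ihx ihy => ?_)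
  · intro h
    obtain ⟨u, rfl⟩ := S16535.exists_eq_verschiebung r hr
    have := DR'.Vinv_verschiebung_smul u n
    rw [VR0_verschiebung_smul, ← F_eq f D DR' hBC, ← this]
  · intro h
    have hmx : x ∈ DR'.Q := DR'.IV_smul_le hx
    have hmy : y ∈ DR'.Q := DR'.IV_smul_le hy
    have h0 : (⟨x + y, h⟩ : DR'.Q) = ⟨x, hmx⟩ + ⟨y, hmy⟩ := Subtype.ext rfl
    rw [h0, map_add, ihx hmx, ihy hmy,
      VR0_add f D X _ _ (smul_mem_ker f D x hx) (smul_mem_ker f D y hy)]

theorem Vinv_eq (DR' : W4c1extbt610.Display3n p R (BC φ P)) (hBC : IsDispBaseChange f D DR')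
    (z : BC φ P) (h : z ∈ DR'.Q) : DR'.Vinv ⟨z, h⟩ = VR0 f D X z := by
  have hz : bcQuotMap f D.Q z = 0 := (mem_Q_iff f D DR' hBC z).mp h
  have hm1 : prLR f D X z ∈ DR'.Q := (mem_Q_iff f D DR' hBC _).mpr (prLR_mem_ker f D X z)
  have hT := prTR_mem f D X z hz
  have hm2 : prTR f D X z ∈ DR'.Q := DR'.IV_smul_le hT
  have h0 : (⟨z, h⟩ : DR'.Q) = ⟨prLR f D X z, hm1⟩ + ⟨prTR f D X z, hm2⟩ :=
    Subtype.ext (prLR_add_prTR f D X z).symm
  rw [h0, map_add, Vinv_eq_L f D X DR' hBC z hm1, Vinv_eq_T f D X DR' hBC _ hT hm2,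
    ← VR0_add f D X _ _ (prLR_mem_ker f D X z) (prTR_mem_ker f D X z hz), prLR_add_prTR]

theorem eq_DR (DR' : W4c1extbt610.Display3n p R (BC φ P)) (hBC : IsDispBaseChange f D DR') :
    DR' = DR f D X := by
  apply display_ext
  · exact hBC.Q_eq
  · exact F_eq f D DR' hBC
  · intro x h1 h2
    exact Vinv_eq f D X DR' hBC x h1

end Main

/-- Let p be a prime, S a commutative ring in which every prime number other than p is a unit, f : S → R
a homomorphism of commutative rings, and (P, Q, F, V⁻¹) a 3n-display over S; write σ for the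
Frobenius and V for the Verschiebung of the Witt rings. On the W(R)-module P_R = W(R) ⊗_{W(S)} P
there is exactly one 3n-display structure (P_R, Q_R, F_R, V_R⁻¹) over R such that Q_R is the kernel
of P_R → R ⊗_S (P/Q), F_R(w ⊗ x) = σ(w) ⊗ F x, V_R⁻¹(w ⊗ y) = σ(w) ⊗ V⁻¹ y for y ∈ Q and V_R⁻¹(V(w)
⊗ x) = w ⊗ F x for x ∈ P: the base change of the 3n-display along f is well defined. -/
theorem result (p : ℕ) [Fact p.Prime] (S R : Type u) [CommRing S] [CommRing R]
    (hS : ∀ ℓ : ℕ, ℓ.Prime → ℓ ≠ p → IsUnit (ℓ : S)) (f : S →+* R)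
    (P : Type v) [AddCommGroup P] [Module (WittVector p S) P] (D : W4c1extbt610.Display3n p S P) :
    ∃! DR : W4c1extbt610.Display3n p R (Dieu.BC (WittVector.map f : WittVector p S →+* WittVector p R) P),
      Dieu.IsDispBaseChange f D DR := by
  have _ := hS
  obtain ⟨X⟩ := nonempty_aux D
  exact ⟨DR f D X, DR_isBC f D X, fun DR' hBC => eq_DR f D X DR' hBC⟩

end Groth.Agent.S16538
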