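import Groth.Statements.S9701
-- import your own Groth.Agent.* helpers here
import Groth.Agent.Lib.Helper67.ExtendVal

set_option autoImplicit false
universe u
open CategoryTheory CategoryTheory.Limits AlgebraicGeometry
open Mor

namespace Groth.Agent.S9701

open Groth.Agent.Lib.Helper67.ExtendVal

/-- Let p : X ⟶ S and q : Y ⟶ S with q proper, let x be a point of X whose local ring is a valuation
ring, U ⊆ X an open with x in the closure of U, and f : U ⟶ Y a morphism over S. Assume that X is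
Noetherian, or else that X is reduced and has only finitely many irreducible components. Then there
are an open U' of X containing U and x and a morphism f' : U' ⟶ Y over S extending f. -/
theorem result {X Y S : Scheme.{u}} (p : X ⟶ S) (q : Y ⟶ S)
    [IsProper q] (x : X) (U : X.Opens) (f : (U : Scheme.{u}) ⟶ Y) (hf : f ≫ q = U.ι ≫ p)
    (hx : x ∈ closure (U : Set ↥X))
    (hX : (IsReduced X ∧ (irreducibleComponents ↥X).Finite) ∨ IsNoetherian X)
    (hdom : IsDomain (X.presheaf.stalk x)) (hval : @ValuationRing (X.presheaf.stalk x) _ hdom) :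
    ∃ (U' : X.Opens) (hUU' : U ≤ U'), x ∈ U' ∧
      ∃ f' : (U' : Scheme.{u}) ⟶ Y, f' ≫ q = U'.ι ≫ p ∧ X.homOfLE hUU' ≫ f' = f := by
  haveI := hdom
  haveI := hval
  obtain ⟨X₀, hxX₀, hX₀red, hfin⟩ : ∃ X₀ : X.Opens, x ∈ X₀ ∧ IsReduced (X₀ : Scheme.{u}) ∧
      (irreducibleComponents X).Finite := by
    rcases hX with ⟨hred, hfin⟩ | hN
    · exact ⟨⊤, trivial, isReduced_of_isOpenImmersion (⊤ : X.Opens).ι, hfin⟩
    · haveI := hN
      obtain ⟨X₀, h1, h2⟩ := exists_reduced_open_nhd x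
      exact ⟨X₀, h1, h2, TopologicalSpace.NoetherianSpace.finite_irreducibleComponents⟩
  obtain ⟨X₁, hxX₁, hX₁int, hX₁gen⟩ := exists_integral_open_nhd x hfin X₀ hxX₀
  have hηx : genPt x ⤳ x := genPt_specializes x
  have hηX₁ : genPt x ∈ X₁ := hηx.mem_open X₁.isOpen hxX₁
  have hηU : genPt x ∈ U := by
    obtain ⟨y, hyX₁, hyU⟩ := mem_closure_iff.mp hx X₁ X₁.isOpen hxX₁
    exact (hX₁gen y hyX₁).mem_open U.isOpen hyU
  -- the valuative square
  let K := FractionRing (X.presheaf.stalk x)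
  let ιK : Spec (.of K) ⟶ Spec (.of (X.presheaf.stalk x)) :=
    Spec.map (CommRingCat.ofHom (algebraMap (X.presheaf.stalk x) K))
  let φ : Spec (.of (X.presheaf.stalk x)) ⟶ X := X.fromSpecStalk x
  have hpt : ∀ z : Spec (.of K), φ (ιK z) = genPt x := by
    intro z
    have : ιK z = (⟨⊥, Ideal.isPrime_bot⟩ : PrimeSpectrum (X.presheaf.stalk x)) := by
      apply PrimeSpectrum.ext
      change Ideal.comap (algebraMap (X.presheaf.stalk x) K) z.asIdeal = ⊥
      have hz : z.asIdeal = ⊥ :=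
        (Ideal.eq_bot_or_top z.asIdeal).resolve_right z.isPrime.ne_top
      rw [hz]
      exact Ideal.comap_bot_of_injective _ (IsFractionRing.injective (X.presheaf.stalk x) K)
    rw [this]; rfl
  have hrange : Set.range (ιK ≫ φ) ⊆ Set.range U.ι := by
    rintro _ ⟨z, rfl⟩
    rw [Scheme.Opens.range_ι, Scheme.Hom.comp_apply, hpt]
    exact hηU
  let i₁ : Spec (.of K) ⟶ U := IsOpenImmersion.lift U.ι (ιK ≫ φ) hrange
  have hi₁ : i₁ ≫ U.ι = ιK ≫ φ := IsOpenImmersion.lift_fac _ _ _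
  have sq : CommSq (i₁ ≫ f) ιK q (φ ≫ p) :=
    ⟨by rw [Category.assoc, hf, ← Category.assoc, hi₁, Category.assoc]⟩
  have hex : ValuativeCriterion.Existence q := by
    have : UniversallyClosed q := inferInstance
    rw [UniversallyClosed.eq_valuativeCriterion] at this
    exact this.1
  let VS : ValuativeCommSq q :=
    { R := X.presheaf.stalk x, K := K, i₁ := i₁ ≫ f, i₂ := φ ≫ p, commSq := sq }
  obtain ⟨⟨w, hw1, hw2⟩⟩ := hex VS
  have hw1' : ιK ≫ w = i₁ ≫ f := hw1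
  have hw2' : w ≫ q = X.fromSpecStalk x ≫ p := hw2
  -- spread out
  haveI : X.IsGermInjectiveAt x := by
    haveI : (X₁ : Scheme.{u}).IsGermInjectiveAt ⟨x, hxX₁⟩ := inferInstance
    exact (inferInstance : X.IsGermInjectiveAt (X₁.ι ⟨x, hxX₁⟩))
  obtain ⟨W, hxW, g, hg1, hg2⟩ := spread_out_of_isGermInjective' p q
    (w : Spec (X.presheaf.stalk x) ⟶ Y) hw2'
  -- compare on `U ⊓ W'`
  set W' : X.Opens := W ⊓ X₁ with hW'
  have hxW' : x ∈ W' := ⟨hxW, hxX₁⟩
  let g' : (W' : Scheme.{u}) ⟶ Y := X.homOfLE (inf_le_left : W' ≤ W) ≫ g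
  have hg'q : g' ≫ q = W'.ι ≫ p := by
    rw [Category.assoc, hg2, ← Category.assoc, Scheme.homOfLE_ι]
  haveI : IsReduced ((U ⊓ W' : X.Opens) : Scheme.{u}) :=
    isReduced_of_isOpenImmersion
      (X.homOfLE ((inf_le_right.trans inf_le_right : U ⊓ W' ≤ X₁)))
  have hηUW : genPt x ∈ U ⊓ W' :=
    ⟨hηU, hηx.mem_open W.isOpen hxW, hηX₁⟩
  have hrange2 : Set.range (ιK ≫ φ) ⊆ Set.range (U ⊓ W').ι := by
    rintro _ ⟨z, rfl⟩
    rw [Scheme.Opens.range_ι, Scheme.Hom.comp_apply, hpt]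
    exact hηUW
  let j : Spec (.of K) ⟶ (U ⊓ W' : X.Opens) := IsOpenImmersion.lift (U ⊓ W').ι (ιK ≫ φ) hrange2
  have hj : j ≫ (U ⊓ W').ι = ιK ≫ φ := IsOpenImmersion.lift_fac _ _ _
  haveI : IsDominant j := by
    constructor
    intro y
    let z₀ : Spec (.of K) := (⟨⊥, Ideal.isPrime_bot⟩ : PrimeSpectrum K)
    have h1 : j z₀ ⤳ y := by
      rw [← (U ⊓ W').ι.isOpenEmbedding.isInducing.specializes_iff, ← Scheme.Hom.comp_apply, hj,
        Scheme.Hom.comp_apply, hpt]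
      exact hX₁gen _ y.2.2.2
    have h2 : ({j z₀} : Set ↥((U ⊓ W' : X.Opens) : Scheme.{u})) ⊆ Set.range j := by
      rintro _ rfl
      exact ⟨z₀, rfl⟩
    exact closure_mono h2 (specializes_iff_mem_closure.mp h1)
  have hjU : j ≫ X.homOfLE (inf_le_left : U ⊓ W' ≤ U) = i₁ := by
    rw [← cancel_mono U.ι, Category.assoc, Scheme.homOfLE_ι, hj, hi₁]
  have hjW : j ≫ X.homOfLE ((inf_le_right.trans inf_le_left : U ⊓ W' ≤ W)) =
      ιK ≫ W.fromSpecStalkOfMem x hxW := by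
    rw [← cancel_mono W.ι, Category.assoc, Scheme.homOfLE_ι, hj, Category.assoc,
      Scheme.Opens.fromSpecStalkOfMem_ι]
  have hagree : X.homOfLE (inf_le_left : U ⊓ W' ≤ U) ≫ f =
      X.homOfLE (inf_le_right : U ⊓ W' ≤ W') ≫ g' := by
    refine ext_of_isDominant_of_isSeparated q ?_ j ?_
    · rw [Category.assoc, Category.assoc, hf, hg'q, ← Category.assoc, ← Category.assoc,
        Scheme.homOfLE_ι, Scheme.homOfLE_ι]
    · rw [← Category.assoc, hjU, ← hw1']
      change _ = j ≫ X.homOfLE _ ≫ X.homOfLE _ ≫ g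
      rw [Scheme.homOfLE_homOfLE_assoc, ← Category.assoc, hjW, Category.assoc, ← hg1]
  obtain ⟨U', h₁, h₂, f', hf'1, hf'2, hext⟩ := exists_glue₂ U W' f g' hagree
  refine ⟨U', h₁, h₂ hxW', f', ?_, hf'1⟩
  apply hext
  · rw [← Category.assoc, hf'1, hf, ← Category.assoc, Scheme.homOfLE_ι]
  · rw [← Category.assoc, hf'2, hg'q, ← Category.assoc, Scheme.homOfLE_ι]


end Groth.Agent.S9701
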