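import Groth.Statements.S2346
import Groth.Agent.Lib.Helper61.CurveTop

set_option autoImplicit false
universe u
open CategoryTheory CategoryTheory.Limits AlgebraicGeometry
open EGA2

namespace Groth.Agent.S2346

open Groth.Agent.Lib.Helper61.CurveTop

/-- Let X and Y be irreducible algebraic curves over k (separated, of finite type, local rings at closed
points one-dimensional) and f : X → Y a k-morphism. Then f is dominant if and only if every fibre
f⁻¹(y) is a finite set. -/
theorem result (k : Type u) [Field k] (X Y : Scheme.{u}) [X.Over (Spec (CommRingCat.of k))] [Y.Over (Spec (CommRingCat.of k))]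
    [LocallyOfFiniteType (X ↘ (Spec (CommRingCat.of k)))] [QuasiCompact (X ↘ (Spec (CommRingCat.of k)))] [IsSeparated (X ↘ (Spec (CommRingCat.of k)))] [LocallyOfFiniteType (Y ↘ (Spec (CommRingCat.of k)))] [QuasiCompact (Y ↘ (Spec (CommRingCat.of k)))] [IsSeparated (Y ↘ (Spec (CommRingCat.of k)))] [IrreducibleSpace X] [IrreducibleSpace Y]
    (hX : (∀ x : X, IsClosed ({x} : Set X) → ringKrullDim (X.presheaf.stalk x) = 1)) (hY : (∀ x : Y, IsClosed ({x} : Set Y) → ringKrullDim (Y.presheaf.stalk x) = 1))
    (f : X ⟶ Y) (hf : f ≫ (Y ↘ (Spec (CommRingCat.of k))) = X ↘ (Spec (CommRingCat.of k))) :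
    IsDominant f ↔ ∀ y : Y, (f.base ⁻¹' {y}).Finite := by
  haveI : IsLocallyNoetherian X :=
    LocallyOfFiniteType.isLocallyNoetherian (X ↘ (Spec (CommRingCat.of k)))
  haveI : CompactSpace X :=
    QuasiCompact.compactSpace_of_compactSpace (X ↘ (Spec (CommRingCat.of k)))
  haveI : IsLocallyNoetherian Y :=
    LocallyOfFiniteType.isLocallyNoetherian (Y ↘ (Spec (CommRingCat.of k)))
  haveI : CompactSpace Y :=
    QuasiCompact.compactSpace_of_compactSpace (Y ↘ (Spec (CommRingCat.of k)))
  haveI : JacobsonSpace X :=
    LocallyOfFiniteType.jacobsonSpace (X ↘ (Spec (CommRingCat.of k)))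
  haveI : JacobsonSpace Y :=
    LocallyOfFiniteType.jacobsonSpace (Y ↘ (Spec (CommRingCat.of k)))
  haveI : LocallyOfFiniteType f := by
    haveI : LocallyOfFiniteType (f ≫ (Y ↘ (Spec (CommRingCat.of k)))) := by rw [hf]; infer_instance
    exact locallyOfFiniteType_of_comp f (Y ↘ (Spec (CommRingCat.of k)))
  have hsp : ∀ x : X, f.base x ∈ closure ({f.base (genericPoint X)} : Set Y) := fun x =>
    specializes_iff_mem_closure.mp ((genericPoint_specializes x).map f.continuous)
  constructor
  · intro hdom y
    have hgen : f.base (genericPoint X) = genericPoint Y := by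
      have h1 : closure ({f.base (genericPoint X)} : Set Y) = Set.univ := by
        apply Set.eq_univ_of_univ_subset
        rw [← hdom.1.closure_eq]
        refine closure_minimal ?_ isClosed_closure
        rintro _ ⟨x, rfl⟩
        exact hsp x
      have h2 : IsGenericPoint (f.base (genericPoint X)) (Set.univ : Set Y) := h1
      exact h2.eq (genericPoint_spec Y)
    by_cases hy : y = genericPoint Y
    · refine (Set.finite_singleton (genericPoint X)).subset ?_
      intro x hx
      by_contra hne
      have hxc : x ∈ closedPoints X := isClosed_singleton_of_ne hX hne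
      have := f.closePoints_subset_preimage_closedPoints hxc
      have hfx : f.base x = genericPoint Y := by rw [← hy]; exact hx
      apply not_isClosed_singleton_genericPoint hY
      rw [← hfx]
      exact this
    · have hyc : IsClosed ({y} : Set Y) := isClosed_singleton_of_ne hY hy
      refine finite_of_isClosed_of_not_mem hX _ (hyc.preimage f.continuous) ?_
      intro h
      exact hy (by rw [← hgen]; exact h.symm)
  · intro hfin
    by_cases hgen : f.base (genericPoint X) = genericPoint Y
    · constructor
      intro y
      have h1 : y ∈ closure ({f.base (genericPoint X)} : Set Y) := by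
        rw [hgen]; exact specializes_iff_mem_closure.mp (genericPoint_specializes y)
      exact closure_mono (by rintro _ rfl; exact ⟨_, rfl⟩) h1
    · exfalso
      have hyc : IsClosed ({f.base (genericPoint X)} : Set Y) := isClosed_singleton_of_ne hY hgen
      apply infinite hX
      refine (hfin (f.base (genericPoint X))).subset ?_
      intro x _
      have := hsp x
      rw [hyc.closure_eq] at this
      exact this

end Groth.Agent.S2346
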