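import Groth.Statements.S4442
import Groth.Agent.Lib.Helper73.FieldDim
import Groth.Agent.Lib.Helper73.StalkQuot
-- import your own Groth.Agent.* helpers here

set_option autoImplicit false
universe u
open CategoryTheory CategoryTheory.Limits AlgebraicGeometry
attribute [local instance] Curv2.resAlgebra
open EGA2

namespace Groth.Agent.S4442
open Groth.Agent.Lib.Helper73.FieldDim Groth.Agent.Lib.Helper73.SchemeDim Groth.Agent.Lib.Helper73.RelHt

/-- (a) ⇔ (b): let X be a scheme of finite type over a field k. The residue fields of the generic points
of the irreducible components of X all have transcendence degree one over k if and only if the local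
ring of X at every closed point has dimension one. (The published statement has a third equivalent
condition: the irreducible closed subsets of X other than the irreducible components are exactly the
closed points of X. This row states only the equivalence of the first two.) -/
theorem result (k : Type u) [Field k] (X : Scheme.{u})
    [X.Over (Spec (CommRingCat.of k))] [LocallyOfFiniteType (X ↘ (Spec (CommRingCat.of k)))]
    [QuasiCompact (X ↘ (Spec (CommRingCat.of k)))] :
    (∀ x : X, closure ({x} : Set X) ∈ irreducibleComponents (X : Type u) → Algebra.trdeg k (X.residueField x) = 1) ↔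
      ∀ x : X, IsClosed ({x} : Set X) → ringKrullDim (X.presheaf.stalk x) = 1 := by
  constructor
  · intro ha x' hx'
    have h0 := trdeg_eq_zero_of_isClosed k X x' hx'
    have key : ∀ p : Ideal (X.presheaf.stalk x'), p ∈ minimalPrimes (X.presheaf.stalk x') →
        ringKrullDim (X.presheaf.stalk x' ⧸ p) = 1 := by
      intro p hp
      haveI hpp : p.IsPrime := hp.1.1
      have hmax := fromSpecStalk_maximal_of_mem_minimalPrimes x' ⟨p, hpp⟩ hp
      set ξ := (X.fromSpecStalk x').base (⟨p, hpp⟩ : PrimeSpectrum (X.presheaf.stalk x')) with hξdef
      have hξ : closure {ξ} ∈ irreducibleComponents X :=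
        closure_singleton_mem_irreducibleComponents_of_maximal ξ hmax
      have h1 := ha ξ hξ
      rw [ringKrullDim_stalk_quotient_eq_relHt]
      have := relHt_add_trdeg_eq k X (fromSpecStalk_specializes x' ⟨p, hpp⟩) 1 0
        (by exact_mod_cast h1) (by exact_mod_cast h0)
      have h2 : relHt x' ξ = 1 := by simpa using this
      rw [h2]; rfl
    apply le_antisymm
    · rw [ringKrullDim, Order.krullDim]
      refine iSup_le fun l => ?_
      obtain ⟨p, hp, hle⟩ := exists_minimalPrimes_length_le l
      rw [key p hp] at hle
      exact hle
    · obtain ⟨p, hp⟩ := Ideal.exists_minimalPrimes_le (I := (⊥ : Ideal (X.presheaf.stalk x')))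
        (J := IsLocalRing.maximalIdeal _) bot_le
      rw [← key p hp.1]
      exact ringKrullDim_quotient_le p
  · intro hb x hx
    have hmax := maximal_of_closure_singleton_mem_irreducibleComponents x hx
    haveI : CompactSpace X := by
      have := (quasiCompact_iff_compactSpace (f := X ↘ (Spec (CommRingCat.of k)))).mp inferInstance
      exact this
    obtain ⟨x', hx'mem, hx'cl⟩ := IsClosed.exists_closed_singleton (isClosed_closure (s := ({x} : Set X)))
      ⟨x, subset_closure rfl⟩
    have hsp : x ⤳ x' := specializes_iff_mem_closure.mpr hx'mem
    have hdim := hb x' hx'cl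
    have h0 := trdeg_eq_zero_of_isClosed k X x' hx'cl
    obtain ⟨n, hn⟩ := exists_trdeg_eq_nat k X x
    have hrel := relHt_add_trdeg_eq k X hsp n 0 hn (by exact_mod_cast h0)
    obtain ⟨P, hP⟩ := exists_fromSpecStalk_eq hsp
    have hco := coheight_eq_relHt_fromSpecStalk x' P
    rw [hP] at hco
    have hle : ((Order.coheight P : ℕ∞) : WithBot ℕ∞) ≤ 1 := by
      rw [← hdim, ringKrullDim, Order.krullDim_eq_iSup_coheight]
      exact le_iSup (fun a : PrimeSpectrum (X.presheaf.stalk x') => ((Order.coheight a : ℕ∞) : WithBot ℕ∞)) P
    have hn1 : n ≤ 1 := by
      have h3 : relHt x' x ≤ 1 := by rw [← hco]; exact_mod_cast hle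
      have h4 : (n : ℕ∞) ≤ 1 := by
        rw [← hrel]; simpa using h3
      exact_mod_cast h4
    rw [hn]
    rcases Nat.eq_zero_or_pos n with h0' | hpos
    · exfalso
      subst h0'
      have hr0 : relHt x' x = 0 := by simpa using hrel
      have hxx : x = x' := by
        by_contra hne
        have hlt : x' < x := by
          rw [lt_iff_le_not_ge]
          refine ⟨hsp, fun h => hne ?_⟩
          exact hmax x' h |>.symm
        have := one_le_relHt hlt
        rw [hr0] at this
        exact absurd this (by norm_num)
      subst hxx
      haveI : Subsingleton (PrimeSpectrum (X.presheaf.stalk x)) := by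
        refine ⟨fun A B => ?_⟩
        apply (X.fromSpecStalk x).isEmbedding.injective
        rw [hmax _ (fromSpecStalk_specializes x A), hmax _ (fromSpecStalk_specializes x B)]
      have h5 : ringKrullDim (X.presheaf.stalk x) ≤ 0 := Order.krullDim_nonpos_of_subsingleton
      rw [hdim] at h5
      exact absurd h5 (by norm_num)
    · have : n = 1 := le_antisymm hn1 hpos
      rw [this]; rfl

end Groth.Agent.S4442
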