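import Groth.Statements.S4445
import Groth.Agent.Lib.Helper61.FunFieldMor

set_option autoImplicit false
universe u
open CategoryTheory CategoryTheory.Limits AlgebraicGeometry
attribute [local instance] Curv2.stalkAlgebra
open EGA2

namespace Groth.Agent.S4445

open Groth.Agent.Lib.Helper61.FunFieldMor

/-- Let X be a normal irreducible algebraic curve over a field k with field of rational functions K, and
Y an integral complete (proper over k) algebraic curve with field of rational functions L. Dominant
k-morphisms X ⟶ Y correspond bijectively to k-embeddings L → K: for every k-algebra homomorphism φ :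
L → K there is exactly one k-morphism u : X ⟶ Y mapping the generic point of X to the generic point
of Y and inducing φ on the stalks at the generic points. -/
theorem result (k : Type u) [Field k] (X Y : Scheme.{u})
    [X.Over (Spec (CommRingCat.of k))] [LocallyOfFiniteType (X ↘ (Spec (CommRingCat.of k)))]
    [QuasiCompact (X ↘ (Spec (CommRingCat.of k)))] [IsSeparated (X ↘ (Spec (CommRingCat.of k)))] [IsIntegral X]
    (hX : ∀ x : X, IsClosed ({x} : Set X) → ringKrullDim (X.presheaf.stalk x) = 1) (hnorm : Pi1.IsNormalScheme X)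
    [Y.Over (Spec (CommRingCat.of k))] [IsProper (Y ↘ (Spec (CommRingCat.of k)))] [IsIntegral Y]
    (hY : ∀ y : Y, IsClosed ({y} : Set Y) → ringKrullDim (Y.presheaf.stalk y) = 1)
    (φ : Y.functionField →ₐ[k] X.functionField) :
    ∃! u : X ⟶ Y, u ≫ (Y ↘ (Spec (CommRingCat.of k))) = X ↘ (Spec (CommRingCat.of k)) ∧
      ∃ hu : u.base (genericPoint X) = genericPoint Y,
        (Y.presheaf.stalkSpecializes (specializes_of_eq hu) ≫ u.stalkMap (genericPoint X)).hom = (φ : Y.functionField →+* X.functionField) := by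
  haveI : IsLocallyNoetherian X :=
    LocallyOfFiniteType.isLocallyNoetherian (X ↘ (Spec (CommRingCat.of k)))
  haveI : CompactSpace X :=
    QuasiCompact.compactSpace_of_compactSpace (X ↘ (Spec (CommRingCat.of k)))
  haveI : IsNoetherian X := {}
  have hfin : (irreducibleComponents ↥X).Finite :=
    TopologicalSpace.NoetherianSpace.finite_irreducibleComponents
  let ψ : Y.presheaf.stalk (genericPoint Y) ⟶ X.presheaf.stalk (genericPoint X) :=
    CommRingCat.ofHom (φ : Y.functionField →+* X.functionField)
  let t₀ : Spec (X.presheaf.stalk (genericPoint X)) ⟶ Y :=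
    Spec.map ψ ≫ Y.fromSpecStalk (genericPoint Y)
  have ht₀ : t₀ ≫ (Y ↘ (Spec (CommRingCat.of k))) =
      X.fromSpecStalk (genericPoint X) ≫ (X ↘ (Spec (CommRingCat.of k))) := by
    rw [Category.assoc, fromSpecStalk_comp_over, fromSpecStalk_comp_over, ← Spec.map_comp]
    congr 1
    ext c
    exact φ.commutes c
  obtain ⟨U, hηU, f, hf1, hf2⟩ := spread_out_of_isGermInjective'
    (X ↘ (Spec (CommRingCat.of k))) (Y ↘ (Spec (CommRingCat.of k))) t₀ ht₀
  have hU : Dense (U : Set X) := U.2.dense ⟨_, hηU⟩
  have hval : ∀ x : X, x ∉ U → ∃ hdom : IsDomain (X.presheaf.stalk x),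
      @ValuationRing (X.presheaf.stalk x) _ hdom := by
    intro x _
    haveI := (hnorm x).1
    haveI := (hnorm x).2
    refine ⟨inferInstance, ?_⟩
    refine Groth.Agent.Lib.Helper61.ValDominate.valuationRing_of_dim_le_one _ ?_
    exact Groth.Agent.Lib.Helper61.ExtendCurve.ringKrullDim_stalk_le_one
      (fun y hy => (hX y hy).le) x
  obtain ⟨u, ⟨hu1, hu2⟩, -⟩ := Groth.Agent.Lib.Helper61.ExtendCurve.existsUnique_extension
    (X ↘ (Spec (CommRingCat.of k))) (Y ↘ (Spec (CommRingCat.of k))) hfin U hU f hf2 hval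
  have key : X.fromSpecStalk (genericPoint X) ≫ u =
      Spec.map ψ ≫ Y.fromSpecStalk (genericPoint Y) := by
    rw [← U.fromSpecStalkOfMem_ι (genericPoint X) hηU, Category.assoc, hu1, ← hf1]
  refine ⟨u, ⟨hu2, ?_⟩, ?_⟩
  · obtain ⟨hu, h⟩ := stalkMap_genericPoint_eq u ψ key
    exact ⟨hu, by rw [h]; rfl⟩
  · rintro v ⟨hv1, hv, hv2⟩
    apply ext_of_fromSpecStalk_genericPoint (Y ↘ (Spec (CommRingCat.of k))) v u (hv1.trans hu2.symm)
    rw [key]
    exact fromSpecStalk_comp_eq v ψ hv (CommRingCat.hom_ext hv2)

end Groth.Agent.S4445
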