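import Groth.Statements.S13596
import Mathlib.RingTheory.Invariant.Basic

set_option autoImplicit false
universe u
open CategoryTheory AlgebraicGeometry
open SGA1

namespace Groth.Agent.S13596


theorem appLE_of_eq_id {X : Scheme.{u}} (V : X.Opens) (f : X ⟶ X) (hf : f = 𝟙 X)
    (e : V ≤ f ⁻¹ᵁ V) : f.appLE V V e = 𝟙 _ := by
  subst hf
  simp only [Scheme.Hom.appLE, Scheme.Hom.id_app, Category.id_comp]
  exact X.presheaf.map_id _

theorem appLE_of_eq_comp {X : Scheme.{u}} (V : X.Opens) (f g fg : X ⟶ X) (hfg : fg = f ≫ g)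
    (e₁ : V ≤ f ⁻¹ᵁ V) (e₂ : V ≤ g ⁻¹ᵁ V) (e : V ≤ fg ⁻¹ᵁ V) :
    fg.appLE V V e = g.appLE V V e₂ ≫ f.appLE V V e₁ := by
  subst hfg
  rw [Scheme.Hom.appLE_comp_appLE]

/-- Let a finite group G act on a scheme X and let p : X ⟶ Y be a quotient of X by G (affine,
G-invariant, and identifying the sections of O_Y over every open with the G-invariant sections of
O_X over its preimage). Then p is an integral morphism. -/
theorem result {X Y : Scheme.{u}} {G : Type u} [Group G] [Finite G]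
    (ρ : G →* Aut X) (p : X ⟶ Y) (hp : SGA1.IsQuot ρ p) :
    IsIntegralHom p := by
  refine { toIsAffineHom := hp.affine, isIntegral_app := ?_ }
  intro U hU
  let σ : G → (Γ(X, p ⁻¹ᵁ U) →+* Γ(X, p ⁻¹ᵁ U)) := fun g =>
    ((ρ g).hom.appLE (p ⁻¹ᵁ U) (p ⁻¹ᵁ U) (SGA1.preimage_le_of_inv ρ p hp.inv g U)).hom
  have hσ1 : σ 1 = RingHom.id _ := by
    have h1 : (ρ 1).hom = 𝟙 X := by rw [map_one]; rfl
    have := appLE_of_eq_id (p ⁻¹ᵁ U) (ρ 1).hom h1 (SGA1.preimage_le_of_inv ρ p hp.inv 1 U)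
    show (((ρ 1).hom.appLE (p ⁻¹ᵁ U) (p ⁻¹ᵁ U) _)).hom = _
    rw [this]
    rfl
  have hσmul : ∀ g h : G, σ (g * h) = (σ h).comp (σ g) := by
    intro g h
    have h1 : (ρ (g * h)).hom = (ρ h).hom ≫ (ρ g).hom := by rw [map_mul]; rfl
    have := appLE_of_eq_comp (p ⁻¹ᵁ U) (ρ h).hom (ρ g).hom (ρ (g * h)).hom h1
      (SGA1.preimage_le_of_inv ρ p hp.inv h U) (SGA1.preimage_le_of_inv ρ p hp.inv g U)
      (SGA1.preimage_le_of_inv ρ p hp.inv (g * h) U)
    show (((ρ (g * h)).hom.appLE (p ⁻¹ᵁ U) (p ⁻¹ᵁ U) _)).hom = _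
    rw [this]
    rfl
  let φ : G →* (Γ(X, p ⁻¹ᵁ U) →+* Γ(X, p ⁻¹ᵁ U)) :=
    { toFun := fun g => σ g⁻¹
      map_one' := by rw [inv_one, hσ1]; rfl
      map_mul' := fun g h => by rw [mul_inv_rev, hσmul]; rfl }
  let _ : MulSemiringAction G Γ(X, p ⁻¹ᵁ U) := MulSemiringAction.compHom _ φ
  let _ : Algebra Γ(Y, U) Γ(X, p ⁻¹ᵁ U) := (p.app U).hom.toAlgebra
  have hinv : Algebra.IsInvariant Γ(Y, U) Γ(X, p ⁻¹ᵁ U) G := by
    refine ⟨fun b hb => ?_⟩
    have hb' : b ∈ Set.range (p.app U).hom := by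
      rw [hp.range_iff U b]
      intro g
      have := hb g⁻¹
      have e : g⁻¹ • b = σ g b := by
        show φ g⁻¹ b = σ g b
        show σ g⁻¹⁻¹ b = σ g b
        rw [inv_inv]
      rw [e] at this
      exact this
    exact hb'
  have hint := Algebra.IsInvariant.isIntegral Γ(Y, U) Γ(X, p ⁻¹ᵁ U) G
  exact algebraMap_isIntegral_iff.2 hint

end Groth.Agent.S13596
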