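import Groth.Statements.S2908
import Groth.Agent.S13596
import Mathlib
-- import your own Groth.Agent.* helpers here

set_option autoImplicit false
open CategoryTheory CategoryTheory.Limits AlgebraicGeometry
universe u
open SGA1

namespace Groth.Agent.S2908

open Groth.Agent.S13596 in
theorem fibre_aux {X Y : Scheme.{u}} {G : Type u} [Group G] [Finite G] (ρ : G →* Aut X)
    (p : X ⟶ Y) (hp : SGA1.IsQuot ρ p) (U : Y.Opens) (hU : IsAffineOpen U) (x x' : X)
    (hx : p.base x ∈ U) (hxx' : p.base x = p.base x') : ∃ g : G, (ρ g).hom.base x = x' := by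
  have hx' : p.base x' ∈ U := hxx' ▸ hx
  have : IsAffineHom p := hp.affine
  have hW : IsAffineOpen (p ⁻¹ᵁ U) := hU.preimage p
  let σ : G → (Γ(X, p ⁻¹ᵁ U) →+* Γ(X, p ⁻¹ᵁ U)) := fun g =>
    ((ρ g).hom.appLE (p ⁻¹ᵁ U) (p ⁻¹ᵁ U) (SGA1.preimage_le_of_inv ρ p hp.inv g U)).hom
  have hσ1 : σ 1 = RingHom.id _ := by
    have h1 : (ρ 1).hom = 𝟙 X := by rw [map_one]; rfl
    have := appLE_of_eq_id (p ⁻¹ᵁ U) (ρ 1).hom h1 (SGA1.preimage_le_of_inv ρ p hp.inv 1 U)
    show (((ρ 1).hom.appLE (p ⁻¹ᵁ U) (p ⁻¹ᵁ U) _)).hom = _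
    rw [this]
    rfl
  have hσmul : ∀ g h : G, σ (g * h) = (σ h).comp (σ g) := by
    intro g h
    have h1 : (ρ (g * h)).hom = (ρ h).hom ≫ (ρ g).hom := by rw [map_mul]; rfl
    have := appLE_of_eq_comp (p ⁻¹ᵁ U) (ρ h).hom (ρ g).hom (ρ (g * h)).hom h1
      (SGA1.preimage_le_of_inv ρ p hp.inv h U) (SGA1.preimage_le_of_inv ρ p hp.inv g U)
      (SGA1.preimage_le_of_inv ρ p hp.inv (g * h) U)
    show (((ρ (g * h)).hom.appLE (p ⁻¹ᵁ U) (p ⁻¹ᵁ U) _)).hom = _
    rw [this]
    rfl
  let φ : G →* (Γ(X, p ⁻¹ᵁ U) →+* Γ(X, p ⁻¹ᵁ U)) :=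
    { toFun := fun g => σ g⁻¹
      map_one' := by rw [inv_one, hσ1]; rfl
      map_mul' := fun g h => by rw [mul_inv_rev, hσmul]; rfl }
  let _ : MulSemiringAction G Γ(X, p ⁻¹ᵁ U) := MulSemiringAction.compHom _ φ
  let _ : Algebra Γ(Y, U) Γ(X, p ⁻¹ᵁ U) := (p.app U).hom.toAlgebra
  have hsmul : ∀ (g : G) (b : Γ(X, p ⁻¹ᵁ U)), g • b = σ g⁻¹ b := fun g b => rfl
  have hinv : Algebra.IsInvariant Γ(Y, U) Γ(X, p ⁻¹ᵁ U) G := by
    refine ⟨fun b hb => ?_⟩
    have hb' : b ∈ Set.range (p.app U).hom := by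
      rw [hp.range_iff U b]
      intro g
      have := hb g⁻¹
      rw [hsmul, inv_inv] at this
      exact this
    exact hb'
  have hfix : ∀ (g : G) (a : Γ(Y, U)), σ g ((p.app U).hom a) = (p.app U).hom a := by
    intro g a
    exact (hp.range_iff U _).1 ⟨a, rfl⟩ g
  have hcomm : SMulCommClass G Γ(Y, U) Γ(X, p ⁻¹ᵁ U) := by
    refine ⟨fun g a b => ?_⟩
    rw [Algebra.smul_def, Algebra.smul_def, hsmul, hsmul, map_mul]
    congr 1
    exact hfix g⁻¹ a
  -- the primes
  let P := hW.primeIdealOf ⟨x, hx⟩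
  let P' := hW.primeIdealOf ⟨x', hx'⟩
  have hP : hW.fromSpec.base P = x := hW.fromSpec_primeIdealOf ⟨x, hx⟩
  have hP' : hW.fromSpec.base P' = x' := hW.fromSpec_primeIdealOf ⟨x', hx'⟩
  have nat_p : Spec.map (p.app U) ≫ hU.fromSpec = hW.fromSpec ≫ p := by
    have := IsAffineOpen.SpecMap_appLE_fromSpec p hU hW le_rfl
    rwa [← Scheme.Hom.app_eq_appLE] at this
  have nat_g : ∀ g : G, Spec.map (CommRingCat.ofHom (σ g)) ≫ hW.fromSpec = hW.fromSpec ≫ (ρ g).hom := by
    intro g
    exact IsAffineOpen.SpecMap_appLE_fromSpec (ρ g).hom hW hW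
      (SGA1.preimage_le_of_inv ρ p hp.inv g U)
  -- equal contractions
  have hunder : P.asIdeal.under Γ(Y, U) = P'.asIdeal.under Γ(Y, U) := by
    have h1 : (Spec.map (p.app U)).base P = (Spec.map (p.app U)).base P' := by
      have hinj : Function.Injective hU.fromSpec.base := hU.fromSpec.isOpenEmbedding.injective
      apply hinj
      have e1 : hU.fromSpec.base ((Spec.map (p.app U)).base P) = p.base (hW.fromSpec.base P) := by
        rw [← Scheme.Hom.comp_apply, nat_p, Scheme.Hom.comp_apply]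
      have e2 : hU.fromSpec.base ((Spec.map (p.app U)).base P') = p.base (hW.fromSpec.base P') := by
        rw [← Scheme.Hom.comp_apply, nat_p, Scheme.Hom.comp_apply]
      rw [e1, e2, hP, hP', hxx']
    have h2 := congrArg PrimeSpectrum.asIdeal h1
    exact h2
  obtain ⟨g, hg⟩ := Algebra.IsInvariant.exists_smul_of_under_eq Γ(Y, U) Γ(X, p ⁻¹ᵁ U) G
    P.asIdeal P'.asIdeal hunder
  refine ⟨g, ?_⟩
  have hcomap : P' = (Spec.map (CommRingCat.ofHom (σ g))).base P := by
    apply PrimeSpectrum.ext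
    show P'.asIdeal = Ideal.comap (σ g) P.asIdeal
    rw [hg]
    ext b
    rw [Ideal.mem_pointwise_smul_iff_inv_smul_mem, hsmul, inv_inv, Ideal.mem_comap]
  rw [← hP, ← hP', hcomap, ← Scheme.Hom.comp_apply, ← Scheme.Hom.comp_apply, nat_g]

/-- Let a finite group G act on a scheme X and let p : X ⟶ Y be a quotient of X by G. Then p is
surjective, two points of X have the same image exactly when they lie in one G-orbit, and the
topology of Y is the quotient topology. -/
theorem result {X Y : Scheme.{u}} {G : Type u} [Group G] [Finite G] (ρ : G →* Aut X)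
    (p : X ⟶ Y) (hp : SGA1.IsQuot ρ p) :
    Function.Surjective p.base ∧ (∀ x x' : X, p.base x = p.base x' ↔ ∃ g : G, (ρ g).hom.base x = x') ∧
      Topology.IsQuotientMap p.base := by
  have hint : IsIntegralHom p := Groth.Agent.S13596.result ρ p hp
  have : IsAffineHom p := hp.affine
  have hclosed : IsClosedMap p.base := p.isClosedMap
  have hdom : IsSchemeTheoreticallyDominant p := by
    constructor
    apply Scheme.IdealSheafData.ext
    funext U
    rw [Scheme.Hom.ker_apply, Scheme.IdealSheafData.ideal_bot, Pi.bot_apply,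
      ← RingHom.injective_iff_ker_eq_bot]
    exact hp.injective U.1
  have hsurj : Function.Surjective p.base := by
    have : IsDominant p := inferInstance
    exact (surjective_of_isDominant_of_isClosed_range p hclosed.isClosed_range).surj
  refine ⟨hsurj, ?_, ?_⟩
  · intro x x'
    constructor
    · intro h
      obtain ⟨_, ⟨U, hU : IsAffineOpen U, rfl⟩, hxU, -⟩ :=
        Y.isBasis_affineOpens.exists_subset_of_mem_open (Set.mem_univ (p.base x)) isOpen_univ
      exact fibre_aux ρ p hp U hU x x' hxU h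
    · rintro ⟨g, rfl⟩
      rw [← Scheme.Hom.comp_apply, hp.inv g]
  · exact hclosed.isQuotientMap p.base.hom.continuous hsurj

end Groth.Agent.S2908
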