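import Groth.Statements.S2925
import Groth.Agent.S2908
import Groth.Agent.Lib.Helper84.SchemeQuot2

set_option autoImplicit false
open CategoryTheory CategoryTheory.Limits AlgebraicGeometry
universe u
open SGA1

namespace Groth.Agent.S2925

/-- Let a finite group G act on a scheme X and let p : X ⟶ Y be a quotient of X by G. Then every
G-invariant morphism X ⟶ Z factors uniquely through p. -/
theorem result {X Y : Scheme.{u}} {G : Type u} [Group G] [Finite G] (ρ : G →* Aut X)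
    (p : X ⟶ Y) (hp : SGA1.IsQuot ρ p) (Z : Scheme.{u}) (h : X ⟶ Z) (hh : ∀ g : G, (ρ g).hom ≫ h = h) :
    ∃! h' : Y ⟶ Z, p ≫ h' = h := by
  classical
  have haff : IsAffineHom p := hp.affine
  obtain ⟨hsurj, horb, hquot⟩ := Groth.Agent.S2908.result ρ p hp
  have hs : Surjective p := ⟨hsurj⟩
  have hdom : IsSchemeTheoreticallyDominant p := by
    constructor
    apply Scheme.IdealSheafData.ext
    funext U
    rw [Scheme.Hom.ker_apply, Scheme.IdealSheafData.ideal_bot, Pi.bot_apply,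
      ← RingHom.injective_iff_ker_eq_bot]
    exact hp.injective U.1
  -- `h` is constant on the fibres of `p`
  have hfib : ∀ x x' : X, p.base x = p.base x' → h.base x = h.base x' := by
    intro x x' hxx
    obtain ⟨g, rfl⟩ := (horb x x').1 hxx
    rw [← Scheme.Hom.comp_apply, hh g]
  have hcover : ∀ y : Y, ∃ (U : Y.Opens) (V : Z.Opens), IsAffineOpen U ∧ IsAffineOpen V ∧ y ∈ U ∧
      p ⁻¹ᵁ U ≤ h ⁻¹ᵁ V := by
    intro y
    obtain ⟨x, rfl⟩ := hsurj y
    obtain ⟨_, ⟨V, hV : IsAffineOpen V, rfl⟩, hxV, -⟩ :=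
      Z.isBasis_affineOpens.exists_subset_of_mem_open (Set.mem_univ (h.base x)) isOpen_univ
    have hpre : p.base ⁻¹' (p.base '' ((h ⁻¹ᵁ V : X.Opens) : Set X)) = ((h ⁻¹ᵁ V : X.Opens) : Set X) := by
      ext x'
      constructor
      · rintro ⟨x'', hx'', hxx⟩
        show h.base x' ∈ V
        rw [← hfib x'' x' hxx]
        exact hx''
      · exact fun hx' => ⟨x', hx', rfl⟩
    have hopen : IsOpen (p.base '' ((h ⁻¹ᵁ V : X.Opens) : Set X)) := by
      rw [← hquot.isOpen_preimage, hpre]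
      exact (h ⁻¹ᵁ V).isOpen
    obtain ⟨_, ⟨U, hU : IsAffineOpen U, rfl⟩, hyU, hUsub⟩ :=
      Y.isBasis_affineOpens.exists_subset_of_mem_open
        (⟨x, hxV, rfl⟩ : p.base x ∈ p.base '' ((h ⁻¹ᵁ V : X.Opens) : Set X)) hopen
    refine ⟨U, V, hU, hV, hyU, ?_⟩
    intro x' hx'
    obtain ⟨x'', hx'', hxx⟩ := hUsub hx'
    show h.base x' ∈ V
    rw [← hfib x'' x' hxx]
    exact hx''
  choose U V hU hV hyU hUV using hcover
  refine Groth.Agent.Lib.Helper84.exists_unique_desc_of_cover p h U hU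
    (fun y => (hU y).preimage p) V hV (fun y => ⟨y, hyU y⟩) hUV ?_
  intro y r
  show _ ∈ Set.range (p.app (U y)).hom
  rw [hp.range_iff]
  intro g
  show (h.appLE (V y) (p ⁻¹ᵁ U y) (hUV y) ≫ (ρ g).hom.appLE (p ⁻¹ᵁ U y) (p ⁻¹ᵁ U y) _) r = _
  rw [Scheme.Hom.appLE_comp_appLE, Groth.Agent.Lib.Helper84.appLE_congr_hom (hh g)]

end Groth.Agent.S2925
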