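import Groth.Statements.S12059
import Groth.Agent.Lib.Helper69.QuotGlue
import Mathlib.AlgebraicGeometry.Morphisms.SchemeTheoreticallyDominant

set_option autoImplicit false
universe u
open CategoryTheory CategoryTheory.Limits AlgebraicGeometry
open SGA1

namespace Groth.Agent.S12059

/-- Let a finite group G act on a commutative ring A by ring automorphisms σ_g, and let B → A be
injective, G-equivariant for the trivial action on B, with image containing all G-invariants (so B
is the ring of invariants A^G). Let ρ be an action of G on Spec A by scheme automorphisms whose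
automorphisms are exactly the maps Spec(σ_g). Then Spec A ⟶ Spec B is a quotient of Spec A by G, and
the structure sheaf of Spec B is the sheaf of G-invariants of the direct image of the structure
sheaf of Spec A: the map is affine and G-invariant, and for every open U of Spec B the sections of
the structure sheaf of Spec B over U map injectively onto the G-invariant sections of the structure
sheaf of Spec A over the inverse image of U. -/
theorem result (G : Type u) [Group G] [Finite G] (A B : Type u) [CommRing A] [CommRing B]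
    [Algebra B A] [MulSemiringAction G A] [SMulCommClass G B A] [Algebra.IsInvariant B A G] [FaithfulSMul B A]
    (ρ : G →* Aut (Spec (CommRingCat.of A)))
    (hρ : Set.range (fun g : G => (ρ g).hom) =
      Set.range (fun g : G => Spec.map (CommRingCat.ofHom (MulSemiringAction.toRingHom G A g)))) :
    SGA1.IsQuot ρ (Spec.map (CommRingCat.ofHom (algebraMap B A))) := by
  classical
  -- each `ρ g` is `Spec` of some `σ_{g'}`, and conversely
  have hρ1 : ∀ g : G, ∃ g' : G, (ρ g).hom =
      Spec.map (CommRingCat.ofHom (MulSemiringAction.toRingHom G A g')) := by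
    intro g
    have : (ρ g).hom ∈ Set.range (fun g : G => (ρ g).hom) := ⟨g, rfl⟩
    rw [hρ] at this
    obtain ⟨g', hg'⟩ := this
    exact ⟨g', hg'.symm⟩
  have hρ2 : ∀ g' : G, ∃ g : G, (ρ g).hom =
      Spec.map (CommRingCat.ofHom (MulSemiringAction.toRingHom G A g')) := by
    intro g'
    have : Spec.map (CommRingCat.ofHom (MulSemiringAction.toRingHom G A g')) ∈
        Set.range (fun g : G => Spec.map (CommRingCat.ofHom (MulSemiringAction.toRingHom G A g))) :=
      ⟨g', rfl⟩
    rw [← hρ] at this
    exact this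
  have hfix : ∀ (g' : G), CommRingCat.ofHom (algebraMap B A) ≫
      CommRingCat.ofHom (MulSemiringAction.toRingHom G A g') =
      CommRingCat.ofHom (algebraMap B A) := by
    intro g'
    ext b
    show g' • (algebraMap B A b) = algebraMap B A b
    exact smul_algebraMap g' b
  have hinv : ∀ g : G, (ρ g).hom ≫ (Spec.map (CommRingCat.ofHom (algebraMap B A))) = (Spec.map (CommRingCat.ofHom (algebraMap B A))) := by
    intro g
    obtain ⟨g', hg'⟩ := hρ1 g
    rw [hg', ← Spec.map_comp, hfix]
  -- injectivity on all opens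
  have hinjB : Function.Injective (algebraMap B A) := FaithfulSMul.algebraMap_injective B A
  have htop_inj : Function.Injective (Scheme.Hom.appTop (Spec.map (CommRingCat.ofHom (algebraMap B A)))).hom := by
    have h1 : (Scheme.Hom.appTop (Spec.map (CommRingCat.ofHom (algebraMap B A)))) ≫ (Scheme.ΓSpecIso (CommRingCat.of A)).hom =
        (Scheme.ΓSpecIso (CommRingCat.of B)).hom ≫ CommRingCat.ofHom (algebraMap B A) :=
      Scheme.ΓSpecIso_naturality _
    intro a b hab
    have h2 := congrArg (fun k => k.hom a) h1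
    have h3 := congrArg (fun k => k.hom b) h1
    simp only [CommRingCat.hom_comp, RingHom.comp_apply] at h2 h3
    rw [hab] at h2
    have h4 := hinjB (h2.symm.trans h3)
    exact ((Scheme.ΓSpecIso (CommRingCat.of B)).commRingCatIsoToRingEquiv.injective h4)
  haveI : IsSchemeTheoreticallyDominant (Spec.map (CommRingCat.ofHom (algebraMap B A))) := by
    constructor
    apply Scheme.IdealSheafData.ext_of_isAffine
    rw [Scheme.Hom.ker_apply (Spec.map (CommRingCat.ofHom (algebraMap B A))) ⟨⊤, isAffineOpen_top (Spec (CommRingCat.of B))⟩]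
    simp only [Scheme.IdealSheafData.ideal_bot]
    exact (RingHom.injective_iff_ker_eq_bot _).1 htop_inj
  have hinj : ∀ U : (Spec (CommRingCat.of B)).Opens, Function.Injective (Scheme.Hom.app (Spec.map (CommRingCat.ofHom (algebraMap B A))) U).hom :=
    fun U => Scheme.Hom.app_injective (Spec.map (CommRingCat.ofHom (algebraMap B A))) U
  refine { affine := inferInstance, inv := hinv, injective := hinj, range_iff := ?_ }
  refine Groth.Agent.Lib.Helper69.QuotGlue.range_iff_of_basis ρ (Spec.map (CommRingCat.ofHom (algebraMap B A))) hinv hinj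
    (Set.range ((Spec (CommRingCat.of B)).basicOpen : Γ((Spec (CommRingCat.of B)), ⊤) → (Spec (CommRingCat.of B)).Opens)) (isBasis_basicOpen (Spec (CommRingCat.of B))) ?_
  rintro _ ⟨f, rfl⟩ s' hs'
  -- localization data
  have e : (Spec.map (CommRingCat.ofHom (algebraMap B A))) ⁻¹ᵁ ((Spec (CommRingCat.of B)).basicOpen f) = (Spec (CommRingCat.of A)).basicOpen ((Scheme.Hom.appTop (Spec.map (CommRingCat.ofHom (algebraMap B A)))).hom f) :=
    Scheme.preimage_basicOpen_top (Spec.map (CommRingCat.ofHom (algebraMap B A))) f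
  have locS := (isAffineOpen_top (Spec (CommRingCat.of A))).isLocalization_of_eq_basicOpen
    ((Scheme.Hom.appTop (Spec.map (CommRingCat.ofHom (algebraMap B A)))).hom f)
    (homOfLE le_top : (Spec.map (CommRingCat.ofHom (algebraMap B A))) ⁻¹ᵁ ((Spec (CommRingCat.of B)).basicOpen f) ⟶ ⊤) e
  let ι : Γ((Spec (CommRingCat.of A)), ⊤) →+* Γ((Spec (CommRingCat.of A)), (Spec.map (CommRingCat.ofHom (algebraMap B A))) ⁻¹ᵁ ((Spec (CommRingCat.of B)).basicOpen f)) :=
    ((Spec (CommRingCat.of A)).presheaf.map (homOfLE le_top : (Spec.map (CommRingCat.ofHom (algebraMap B A))) ⁻¹ᵁ ((Spec (CommRingCat.of B)).basicOpen f) ⟶ ⊤).op).hom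
  let ιR : Γ((Spec (CommRingCat.of B)), ⊤) →+* Γ((Spec (CommRingCat.of B)), (Spec (CommRingCat.of B)).basicOpen f) :=
    ((Spec (CommRingCat.of B)).presheaf.map (homOfLE le_top : (Spec (CommRingCat.of B)).basicOpen f ⟶ ⊤).op).hom
  refine Groth.Agent.Lib.Helper69.QuotGlue.mem_range_of_invariant_localization
    (Scheme.Hom.appTop (Spec.map (CommRingCat.ofHom (algebraMap B A)))).hom ι ιR (Scheme.Hom.app (Spec.map (CommRingCat.ofHom (algebraMap B A))) ((Spec (CommRingCat.of B)).basicOpen f)).hom ?_ f ?_ ?_ ?_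
    (fun g : G => (ρ g).hom.appTop.hom)
    (fun g : G => ((ρ g).hom.appLE ((Spec.map (CommRingCat.ofHom (algebraMap B A))) ⁻¹ᵁ ((Spec (CommRingCat.of B)).basicOpen f)) ((Spec.map (CommRingCat.ofHom (algebraMap B A))) ⁻¹ᵁ ((Spec (CommRingCat.of B)).basicOpen f))
      (SGA1.preimage_le_of_inv ρ (Spec.map (CommRingCat.ofHom (algebraMap B A))) hinv g ((Spec (CommRingCat.of B)).basicOpen f))).hom) ?_ ?_ ?_ s' hs'
  · intro r
    have := Scheme.Hom.naturality (Spec.map (CommRingCat.ofHom (algebraMap B A))) (homOfLE le_top : (Spec (CommRingCat.of B)).basicOpen f ⟶ ⊤).op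
    exact congrArg (fun k => k.hom r) this
  · intro z
    letI := ι.toAlgebra
    obtain ⟨n, a, h⟩ := IsLocalization.Away.surj ((Scheme.Hom.appTop (Spec.map (CommRingCat.ofHom (algebraMap B A)))).hom f) z
    exact ⟨a, n, h⟩
  · intro a ha
    letI := ι.toAlgebra
    have ha' : algebraMap Γ((Spec (CommRingCat.of A)), ⊤) Γ((Spec (CommRingCat.of A)), (Spec.map (CommRingCat.ofHom (algebraMap B A))) ⁻¹ᵁ ((Spec (CommRingCat.of B)).basicOpen f)) a =
        algebraMap Γ((Spec (CommRingCat.of A)), ⊤) Γ((Spec (CommRingCat.of A)), (Spec.map (CommRingCat.ofHom (algebraMap B A))) ⁻¹ᵁ ((Spec (CommRingCat.of B)).basicOpen f)) 0 := by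
      rw [map_zero]; exact ha
    obtain ⟨⟨c, n, rfl⟩, hc⟩ := IsLocalization.exists_of_eq
      (M := Submonoid.powers ((Scheme.Hom.appTop (Spec.map (CommRingCat.ofHom (algebraMap B A)))).hom f)) ha'
    exact ⟨n, by simpa using hc⟩
  · exact RingedSpace.isUnit_res_basicOpen (Spec (CommRingCat.of B)).toRingedSpace f
  · intro g a
    have h1 : (Spec (CommRingCat.of A)).presheaf.map (homOfLE le_top : (Spec.map (CommRingCat.ofHom (algebraMap B A))) ⁻¹ᵁ ((Spec (CommRingCat.of B)).basicOpen f) ⟶ ⊤).op ≫
        (ρ g).hom.appLE ((Spec.map (CommRingCat.ofHom (algebraMap B A))) ⁻¹ᵁ ((Spec (CommRingCat.of B)).basicOpen f)) ((Spec.map (CommRingCat.ofHom (algebraMap B A))) ⁻¹ᵁ ((Spec (CommRingCat.of B)).basicOpen f))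
          (SGA1.preimage_le_of_inv ρ (Spec.map (CommRingCat.ofHom (algebraMap B A))) hinv g ((Spec (CommRingCat.of B)).basicOpen f)) =
        (ρ g).hom.appTop ≫ (Spec (CommRingCat.of A)).presheaf.map (homOfLE le_top : (Spec.map (CommRingCat.ofHom (algebraMap B A))) ⁻¹ᵁ ((Spec (CommRingCat.of B)).basicOpen f) ⟶ ⊤).op := by
      have hb : (ρ g).hom.appTop = (ρ g).hom.appLE ⊤ ⊤ le_top :=
        (Scheme.Hom.appLE_eq_app (ρ g).hom (U := ⊤)).symm
      rw [hb, Scheme.Hom.map_appLE]
      exact (Scheme.Hom.appLE_map (ρ g).hom le_top _).symm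
    exact congrArg (fun k => k.hom a) h1
  · intro g r
    have h1 : (Scheme.Hom.appTop (Spec.map (CommRingCat.ofHom (algebraMap B A)))) ≫ (ρ g).hom.appTop = (Scheme.Hom.appTop (Spec.map (CommRingCat.ofHom (algebraMap B A)))) := by
      rw [← Scheme.Hom.comp_appTop, hinv g]
    exact congrArg (fun k => k.hom r) h1
  · intro a ha
    have hnat : ∀ g' : G, g' • ((Scheme.ΓSpecIso (CommRingCat.of A)).hom.hom a) =
        (Scheme.ΓSpecIso (CommRingCat.of A)).hom.hom a := by
      intro g'
      obtain ⟨g, hg⟩ := hρ2 g'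
      have h1 := Scheme.ΓSpecIso_naturality
        (CommRingCat.ofHom (MulSemiringAction.toRingHom G A g'))
      have h2 := congrArg (fun k => k.hom a) h1
      simp only [CommRingCat.hom_comp, RingHom.comp_apply] at h2
      rw [← hg, ha g] at h2
      exact h2.symm
    obtain ⟨b, hb⟩ := Algebra.IsInvariant.isInvariant (A := B) (G := G)
      ((Scheme.ΓSpecIso (CommRingCat.of A)).hom.hom a) hnat
    refine ⟨(Scheme.ΓSpecIso (CommRingCat.of B)).inv.hom b, ?_⟩
    have h1 := Scheme.ΓSpecIso_inv_naturality (CommRingCat.ofHom (algebraMap B A))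
    have h2 := congrArg (fun k => k.hom b) h1
    simp only [CommRingCat.hom_comp, RingHom.comp_apply] at h2
    rw [← h2]
    show (Scheme.ΓSpecIso (CommRingCat.of A)).inv.hom (algebraMap B A b) = a
    rw [hb]
    exact (Scheme.ΓSpecIso (CommRingCat.of A)).commRingCatIsoToRingEquiv.symm_apply_apply a

end Groth.Agent.S12059
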