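import Groth.Statements.S13606
import Mathlib.AlgebraicGeometry.Morphisms.Affine

set_option autoImplicit false
universe u
open CategoryTheory AlgebraicGeometry
open SGA1

namespace Groth.Agent.S13606


theorem appLE_congr_hom {X Y : Scheme.{u}} {f g : X ⟶ Y} (h : f = g) (U : Y.Opens) (V : X.Opens)
    (e : V ≤ f ⁻¹ᵁ U) : f.appLE U V e = g.appLE U V (h ▸ e) := by
  subst h; rfl

/-- `appLE` of a morphism between open subschemes induced by a morphism of the ambient schemes. -/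
theorem restrict_appLE {X₁ X₂ : Scheme.{u}} {U₁ : X₁.Opens} {U₂ : X₂.Opens}
    (φ' : U₁.toScheme ⟶ U₂.toScheme) (φ : X₁ ⟶ X₂) (h : φ' ≫ U₂.ι = U₁.ι ≫ φ)
    (V : U₂.toScheme.Opens) (W : U₁.toScheme.Opens) (e : W ≤ φ' ⁻¹ᵁ V)
    (e' : U₁.ι ''ᵁ W ≤ φ ⁻¹ᵁ (U₂.ι ''ᵁ V)) :
    φ'.appLE V W e = φ.appLE (U₂.ι ''ᵁ V) (U₁.ι ''ᵁ W) e' := by
  have h1 := Scheme.Hom.appLE_comp_appLE φ' U₂.ι (U₂.ι ''ᵁ V) V W
    (by rw [U₂.ι.preimage_image_eq]) e
  have h2 := Scheme.Hom.appLE_comp_appLE U₁.ι φ (U₂.ι ''ᵁ V) (U₁.ι ''ᵁ W) W e'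
    (by rw [U₁.ι.preimage_image_eq])
  rw [Scheme.Opens.ι_appLE] at h1 h2
  have e1 : X₂.presheaf.map (homOfLE (le_refl (U₂.ι ''ᵁ V))).op = 𝟙 _ := X₂.presheaf.map_id _
  have e2 : X₁.presheaf.map (homOfLE (le_refl (U₁.ι ''ᵁ W))).op = 𝟙 _ := X₁.presheaf.map_id _
  have h1' := ((Category.id_comp _).symm.trans
    (congrArg (· ≫ φ'.appLE V W e) e1.symm)).trans h1
  have h2' := ((Category.comp_id _).symm.trans
    (congrArg (φ.appLE (U₂.ι ''ᵁ V) (U₁.ι ''ᵁ W) e' ≫ ·) e2.symm)).trans h2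
  exact h1'.trans ((appLE_congr_hom h _ _ _).trans h2'.symm)


theorem aux_range {X Y : Scheme.{u}} {G : Type u} [Group G] (ρ : G →* Aut X) (p : X ⟶ Y)
    (hp : SGA1.IsQuot ρ p) (W' : Y.Opens) (V' : X.Opens) (hE : V' = p ⁻¹ᵁ W') (s : Γ(X, V'))
    (e1 : V' ≤ p ⁻¹ᵁ W') (e2 : ∀ g : G, V' ≤ (ρ g).hom ⁻¹ᵁ V') :
    s ∈ Set.range (p.appLE W' V' e1).hom ↔
      ∀ g : G, ((ρ g).hom.appLE V' V' (e2 g)).hom s = s := by
  subst hE
  have := hp.range_iff W' s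
  rw [Scheme.Hom.app_eq_appLE] at this
  exact this

theorem aux_inj {X Y : Scheme.{u}} {G : Type u} [Group G] (ρ : G →* Aut X) (p : X ⟶ Y)
    (hp : SGA1.IsQuot ρ p) (W' : Y.Opens) (V' : X.Opens) (hE : V' = p ⁻¹ᵁ W')
    (e1 : V' ≤ p ⁻¹ᵁ W') : Function.Injective (p.appLE W' V' e1).hom := by
  subst hE
  have := hp.injective W'
  rw [Scheme.Hom.app_eq_appLE] at this
  exact this

/-- Let a finite group G act on a scheme X and let p : X ⟶ Y be a quotient of X by G (affine,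
G-invariant, sections of O_Y over every open = G-invariant sections of O_X over its preimage). Then
for every open U ⊆ Y, U is the quotient of p⁻¹U by G: the restriction p⁻¹U ⟶ U of p is again a
quotient in the same sense, for the action ρU of G on the G-stable open p⁻¹U induced by ρ (pinned by
compatibility with the inclusion p⁻¹U ⟶ X). -/
theorem result {X Y : Scheme.{u}} {G : Type u} [Group G] [Finite G]
    (ρ : G →* Aut X) (p : X ⟶ Y) (hp : SGA1.IsQuot ρ p) (U : Y.Opens)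
    (ρU : G →* Aut (p ⁻¹ᵁ U).toScheme)
    (hρU : ∀ g : G, (ρU g).hom ≫ (p ⁻¹ᵁ U).ι = (p ⁻¹ᵁ U).ι ≫ (ρ g).hom) :
    SGA1.IsQuot ρU (p ∣_ U) := by
  have hinv : ∀ g : G, (ρU g).hom ≫ p ∣_ U = p ∣_ U := by
    intro g
    rw [← cancel_mono U.ι, Category.assoc, morphismRestrict_ι, ← Category.assoc, hρU g,
      Category.assoc, hp.inv g]
  have haff : IsAffineHom p := hp.affine
  have haff' : IsAffineHom (p ∣_ U) := IsZariskiLocalAtTarget.restrict haff U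
  refine { affine := haff', inv := hinv, injective := ?_, range_iff := ?_ }
  · intro W
    rw [morphismRestrict_app']
    exact aux_inj ρ p hp (U.ι ''ᵁ W) _ (image_morphismRestrict_preimage p U W) _
  · intro W s
    have he2 : ∀ g : G, (p ⁻¹ᵁ U).ι ''ᵁ ((p ∣_ U) ⁻¹ᵁ W) ≤
        (ρ g).hom ⁻¹ᵁ ((p ⁻¹ᵁ U).ι ''ᵁ ((p ∣_ U) ⁻¹ᵁ W)) := by
      intro g
      have h1 := SGA1.preimage_le_of_inv ρU (p ∣_ U) hinv g W
      rintro _ ⟨y, hy, rfl⟩
      have h2 := h1 hy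
      refine ⟨(ρU g).hom y, h2, ?_⟩
      have h3 : ((ρU g).hom ≫ (p ⁻¹ᵁ U).ι) y = ((p ⁻¹ᵁ U).ι ≫ (ρ g).hom) y := by rw [hρU g]
      exact h3
    have key := aux_range ρ p hp (U.ι ''ᵁ W) ((p ⁻¹ᵁ U).ι ''ᵁ ((p ∣_ U) ⁻¹ᵁ W))
      (image_morphismRestrict_preimage p U W) s (image_morphismRestrict_preimage p U W).le he2
    have e0 : (p ∣_ U).app W = p.appLE (U.ι ''ᵁ W) ((p ⁻¹ᵁ U).ι ''ᵁ ((p ∣_ U) ⁻¹ᵁ W))
        (image_morphismRestrict_preimage p U W).le := morphismRestrict_app' p U W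
    rw [e0]
    refine key.trans (forall_congr' fun g => ?_)
    rw [restrict_appLE (ρU g).hom (ρ g).hom (hρU g) _ _ _ (he2 g)]
    exact Iff.rfl

end Groth.Agent.S13606
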