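import Groth.Statements.S5969
import Mathlib
import Groth.Agent.Lib.Helper20.IdealComap

set_option autoImplicit false
universe u
open CategoryTheory CategoryTheory.Limits AlgebraicGeometry TopologicalSpace Opposite
open Nrm16

set_option linter.style.haveILetI false
open AlgebraicGeometry.Scheme

namespace Groth.Agent.S5969

/-- abstract symmetry lemma -/
theorem exists_sym {X P : Scheme.{u}} (Δ : X ⟶ P) [IsImmersion Δ] (s : P ⟶ P)
    (hs : s ≫ s = 𝟙 P) (hΔ : Δ ≫ s = Δ) (n : ℕ) :
    ∃ σ : (Δ.liftCoborder.ker ^ (n + 1)).subscheme ⟶ (Δ.liftCoborder.ker ^ (n + 1)).subscheme,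
      σ ≫ (Δ.liftCoborder.ker ^ (n + 1)).subschemeι ≫ Δ.coborderRange.ι =
        ((Δ.liftCoborder.ker ^ (n + 1)).subschemeι ≫ Δ.coborderRange.ι) ≫ s := by
  set R := Δ.coborderRange with hRdef
  set d := Δ.liftCoborder with hd
  -- (1) s preserves R
  have hrange : s ⁻¹' (Set.range Δ) = Set.range Δ := by
    ext z
    constructor
    · rintro ⟨x, hx⟩
      refine ⟨x, ?_⟩
      have h1 : s (s z) = z := by
        rw [← Scheme.Hom.comp_apply, hs]; rfl
      have h2 : s (Δ x) = Δ x := by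
        rw [← Scheme.Hom.comp_apply, hΔ]
      rw [← h1, ← hx, h2]
    · rintro ⟨x, rfl⟩
      refine ⟨x, ?_⟩
      rw [← Scheme.Hom.comp_apply, hΔ]
  haveI : IsIso s := ⟨s, hs, hs⟩
  have hR : ∀ z : P, z ∈ R → s z ∈ R := by
    intro z hz
    have h1 : coborder (s ⁻¹' (Set.range Δ)) = s ⁻¹' (coborder (Set.range Δ)) :=
      coborder_preimage s.isOpenEmbedding.isOpenMap s.continuous _
    rw [hrange] at h1
    have hz' : z ∈ coborder (Set.range Δ) := hz
    rw [h1] at hz'
    exact hz'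
  -- (2) s_R
  have hrg : Set.range (R.ι ≫ s) ⊆ Set.range R.ι := by
    rintro _ ⟨z, rfl⟩
    rw [Scheme.Opens.range_ι]
    exact hR _ z.2
  let sR : (R : Scheme.{u}) ⟶ R := IsOpenImmersion.lift R.ι (R.ι ≫ s) hrg
  have hsR : sR ≫ R.ι = R.ι ≫ s := IsOpenImmersion.lift_fac _ _ _
  -- (3)
  have hdsR : d ≫ sR = d := by
    rw [← cancel_mono R.ι, Category.assoc, hsR, ← Category.assoc, Δ.liftCoborder_ι, hΔ]
  -- (4)
  have hsR2 : sR ≫ sR = 𝟙 _ := by
    rw [← cancel_mono R.ι, Category.assoc, hsR, ← Category.assoc, hsR, Category.assoc, hs,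
      Category.comp_id, Category.id_comp]
  -- (5)
  have hK1 : d.ker.comap sR ≤ d.ker := by
    rw [← IdealSheafData.le_map_iff_comap_le, IdealSheafData.map_ker, hdsR]
  have hK : d.ker.comap sR = d.ker := by
    refine le_antisymm hK1 ?_
    have h2 : (d.ker.comap sR).comap sR ≤ d.ker.comap sR := IdealSheafData.comap_mono sR hK1
    rw [← IdealSheafData.comap_comp, hsR2, IdealSheafData.comap_id] at h2
    exact h2
  -- (6)
  have hKn : (d.ker ^ (n + 1)).comap sR = d.ker ^ (n + 1) := by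
    rw [Groth.Agent.Lib.Helper20.comap_pow, hK]
  -- (7)
  have hle : (d.ker ^ (n + 1)).subschemeι.ker ≤ ((d.ker ^ (n + 1)).subschemeι ≫ sR).ker := by
    rw [Scheme.Hom.ker_comp, IdealSheafData.ker_subschemeι, IdealSheafData.le_map_iff_comap_le,
      hKn]
  refine ⟨IsClosedImmersion.lift (d.ker ^ (n + 1)).subschemeι
    ((d.ker ^ (n + 1)).subschemeι ≫ sR) hle, ?_⟩
  rw [← Category.assoc, IsClosedImmersion.lift_fac, Category.assoc, hsR, Category.assoc]


theorem main {X S : Scheme.{u}} (f : X ⟶ S) (n : ℕ) :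
    ∃ σ : PrinPart.nbhd f n ⟶ PrinPart.nbhd f n,
      σ ≫ PrinPart.nbhdι f n = PrinPart.nbhdι f n ≫ (pullbackSymmetry f f).hom ∧
      σ ≫ σ = 𝟙 (PrinPart.nbhd f n) ∧
      σ ≫ PrinPart.pr1 f n = PrinPart.pr2 f n ∧ σ ≫ PrinPart.pr2 f n = PrinPart.pr1 f n ∧
      PrinPart.toNbhd f n ≫ σ = PrinPart.toNbhd f n := by
  have hs : (pullbackSymmetry f f).hom ≫ (pullbackSymmetry f f).hom = 𝟙 _ := by
    apply pullback.hom_ext <;> simp
  have hΔ : pullback.diagonal f ≫ (pullbackSymmetry f f).hom = pullback.diagonal f := by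
    apply pullback.hom_ext <;> simp
  obtain ⟨σ, hσ⟩ := exists_sym (pullback.diagonal f) (pullbackSymmetry f f).hom hs hΔ n
  have hσ' : σ ≫ PrinPart.nbhdι f n = PrinPart.nbhdι f n ≫ (pullbackSymmetry f f).hom := hσ
  haveI : Mono (PrinPart.nbhdι f n) := by
    unfold PrinPart.nbhdι PrinPart.infNbhdι
    infer_instance
  refine ⟨σ, hσ', ?_, ?_, ?_, ?_⟩
  · rw [← cancel_mono (PrinPart.nbhdι f n), Category.assoc, hσ', ← Category.assoc, hσ',
      Category.assoc, hs, Category.comp_id, Category.id_comp]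
  · rw [PrinPart.pr1, ← Category.assoc, hσ', Category.assoc, pullbackSymmetry_hom_comp_fst,
      PrinPart.pr2]
  · rw [PrinPart.pr2, ← Category.assoc, hσ', Category.assoc, pullbackSymmetry_hom_comp_snd,
      PrinPart.pr1]
  · rw [← cancel_mono (PrinPart.nbhdι f n), Category.assoc, hσ', ← Category.assoc,
      PrinPart.toNbhd_ι, hΔ]

end Groth.Agent.S5969

namespace Groth.Agent.S5969

/-- Let f : X ⟶ S be a morphism of schemes and n a natural number. On the order-n infinitesimal
thickening of the diagonal of f there is an endomorphism σ which is compatible, under the immersion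
into X ×_S X, with the symmetry exchanging the two factors; σ is an involution, it exchanges the two
projections to X (so it exchanges the two O_X-algebra structures of P^n_{X/S}) and it fixes the
diagonal section. -/
theorem result {X S : Scheme.{u}} (f : X ⟶ S) (n : ℕ) :
    ∃ σ : PrinPart.nbhd f n ⟶ PrinPart.nbhd f n,
      σ ≫ PrinPart.nbhdι f n = PrinPart.nbhdι f n ≫ (pullbackSymmetry f f).hom ∧
      σ ≫ σ = 𝟙 (PrinPart.nbhd f n) ∧
      σ ≫ PrinPart.pr1 f n = PrinPart.pr2 f n ∧ σ ≫ PrinPart.pr2 f n = PrinPart.pr1 f n ∧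
      PrinPart.toNbhd f n ≫ σ = PrinPart.toNbhd f n := by

  exact Groth.Agent.S5969.main f n

end Groth.Agent.S5969
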