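import Groth.Statements.S5979
import Mathlib

set_option autoImplicit false
universe u
open CategoryTheory CategoryTheory.Limits AlgebraicGeometry TopologicalSpace Opposite
open Nrm16

namespace Groth.Agent.S5979

lemma isIso_inclusion_of_eq {X : Scheme.{u}} {I J : X.IdealSheafData} (h : I = J) :
    IsIso (Scheme.IdealSheafData.inclusion h.le) := by
  subst h
  rw [Scheme.IdealSheafData.inclusion_id]
  infer_instance

lemma isIso_toInfNbhd_zero {X Y : Scheme.{u}} (i : Y ⟶ X) [IsClosedImmersion i] :
    IsIso (PrinPart.toInfNbhd i 0) := by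
  unfold PrinPart.toInfNbhd
  have : IsIso (Scheme.IdealSheafData.inclusion (PrinPart.ker_pow_succ_le i 0)) :=
    isIso_inclusion_of_eq (pow_one i.ker)
  infer_instance

lemma isIso_pr2_zero {X S : Scheme.{u}} (f : X ⟶ S) : IsIso (PrinPart.pr2 f 0) := by
  have h1 : IsIso (PrinPart.toNbhd f 0) := isIso_toInfNbhd_zero _
  have h2 := PrinPart.toNbhd_pr2 f 0
  have : PrinPart.pr2 f 0 = inv (PrinPart.toNbhd f 0) := by
    rw [← cancel_epi (PrinPart.toNbhd f 0), h2, IsIso.hom_inv_id]
  rw [this]
  infer_instance

/-- pushforward along an isomorphism is an equivalence -/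
noncomputable def pushforwardEquiv {X Y : Scheme.{u}} (h : X ⟶ Y) [IsIso h] :
    X.Modules ≌ Y.Modules :=
  CategoryTheory.Equivalence.mk (Scheme.Modules.pushforward h) (Scheme.Modules.pushforward (inv h))
    ((Scheme.Modules.pushforwardId X).symm ≪≫
      Scheme.Modules.pushforwardCongr (IsIso.hom_inv_id h).symm ≪≫
      (Scheme.Modules.pushforwardComp h (inv h)).symm)
    (Scheme.Modules.pushforwardComp (inv h) h ≪≫
      Scheme.Modules.pushforwardCongr (IsIso.inv_hom_id h) ≪≫
      Scheme.Modules.pushforwardId Y)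

instance {X Y : Scheme.{u}} (h : X ⟶ Y) [IsIso h] :
    (Scheme.Modules.pushforward h).IsEquivalence :=
  inferInstanceAs (pushforwardEquiv h).functor.IsEquivalence

lemma pullSect_bijective {X' X : Scheme.{u}} (h : X' ⟶ X) [IsIso h] (M : X.Modules)
    (U : X.Opens) : Function.Bijective (OmegaSh.pullSect h M U) := by
  have h1 : IsIso (Scheme.Modules.pullbackPushforwardAdjunction h).unit := inferInstance
  have h2 : IsIso ((Scheme.Modules.pullbackPushforwardAdjunction h).unit.app M) := inferInstance
  have h3 : IsIso (((Scheme.Modules.pullbackPushforwardAdjunction h).unit.app M).app U) :=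
    inferInstance
  exact ConcreteCategory.bijective_of_isIso
    (((Scheme.Modules.pullbackPushforwardAdjunction h).unit.app M).app U)

/-- Let f : X ⟶ S be a morphism of schemes and F an O_X-module. For every open U of X the canonical
operator d^0 : Γ(U, F) ⟶ Γ(U, P^0_{X/S}(F)) is bijective; so P^0_{X/S}(F) is identified with F, and
P^0_{X/S} with O_X, through d^0. -/
theorem result {X S : Scheme.{u}} (f : X ⟶ S) (F : X.Modules) (U : X.Opens) :
    Function.Bijective (PrinPart.dP f 0 F U) := by
  have hiso := isIso_pr2_zero f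
  have h1 := pullSect_bijective (PrinPart.pr2 f 0) F U
  have h2 : IsIso (homOfLE (PrinPart.preimage_pr1 f 0 U).le) :=
    ⟨homOfLE (PrinPart.preimage_pr1 f 0 U).ge, Subsingleton.elim _ _, Subsingleton.elim _ _⟩
  have h3 : IsIso (((Scheme.Modules.pullback (PrinPart.pr2 f 0)).obj F).presheaf.map
      (homOfLE (PrinPart.preimage_pr1 f 0 U).le).op) := inferInstance
  have h4 := ConcreteCategory.bijective_of_isIso
    (((Scheme.Modules.pullback (PrinPart.pr2 f 0)).obj F).presheaf.map
      (homOfLE (PrinPart.preimage_pr1 f 0 U).le).op)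
  exact h4.comp h1

end Groth.Agent.S5979
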