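import Groth.Statements.S6992
import Groth.Agent.Lib.Helper12.RelFP

set_option autoImplicit false
universe u
open CAlg

namespace Groth.Agent.S6992

/-- Let R be a commutative ring, A → B a finite homomorphism of finite type R-algebras, M a B-module,
and α : R[x_1, ..., x_n] → A, β : R[y_1, ..., y_k] → B surjective R-algebra homomorphisms. Then M is
finitely presented as an R[x_1, ..., x_n]-module through α and A → B (M is finitely presented
relative to R as an A-module) if and only if M is finitely presented as an R[y_1, ..., y_k]-module
through β (M is finitely presented relative to R as a B-module). -/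
theorem result {R A B : Type u} [CommRing R] [CommRing A] [CommRing B]
    [Algebra R A] [Algebra A B] [Algebra R B] [IsScalarTower R A B] [Algebra.FiniteType R A]
    [Algebra.FiniteType R B] [Module.Finite A B] (M : Type u) [AddCommGroup M] [Module B M] [Module A M]
    [IsScalarTower A B M] {n k : ℕ} (α : MvPolynomial (Fin n) R →ₐ[R] A) (hα : Function.Surjective α)
    (β : MvPolynomial (Fin k) R →ₐ[R] B) (hβ : Function.Surjective β) :
    @Module.FinitePresentation (MvPolynomial (Fin n) R) M _ _ (Module.compHom M α.toRingHom) ↔
      @Module.FinitePresentation (MvPolynomial (Fin k) R) M _ _ (Module.compHom M β.toRingHom) := by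
  classical
  let _ : Algebra (MvPolynomial (Fin n) R) A := α.toRingHom.toAlgebra
  let _ : Algebra (MvPolynomial (Fin n) R) B := ((algebraMap A B).comp α.toRingHom).toAlgebra
  have : IsScalarTower (MvPolynomial (Fin n) R) A B := .of_algebraMap_eq' rfl
  have : IsScalarTower R (MvPolynomial (Fin n) R) A := .of_algebraMap_eq' α.comp_algebraMap.symm
  have : IsScalarTower R (MvPolynomial (Fin n) R) B := by
    refine .of_algebraMap_eq' ?_
    ext r
    show algebraMap R B r = algebraMap A B (α (algebraMap R _ r))
    rw [α.commutes, ← IsScalarTower.algebraMap_apply]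
  have : Module.Finite (MvPolynomial (Fin n) R) A :=
    Module.Finite.of_surjective (Algebra.linearMap (MvPolynomial (Fin n) R) A) hα
  have : Module.Finite (MvPolynomial (Fin n) R) B := Module.Finite.trans A B
  obtain ⟨P₀, _, _, _, _, _, f, hf⟩ :=
    Module.Finite.exists_free_surjective (MvPolynomial (Fin n) R) B
  let _ : Algebra R P₀ :=
    ((algebraMap (MvPolynomial (Fin n) R) P₀).comp (algebraMap R (MvPolynomial (Fin n) R))).toAlgebra
  have : IsScalarTower R (MvPolynomial (Fin n) R) P₀ := .of_algebraMap_eq' rfl
  have : Algebra.FinitePresentation R P₀ :=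
    Algebra.FinitePresentation.trans R (MvPolynomial (Fin n) R) P₀
  have : Module.FinitePresentation (MvPolynomial (Fin n) R) P₀ :=
    Module.finitePresentation_of_projective _ _
  rw [← Lib.Helper12.fp_indep_gen M (f.restrictScalars R) hf β hβ]
  let _ : Module (MvPolynomial (Fin n) R) M := Module.compHom M α.toRingHom
  let _ : Module P₀ M := Module.compHom M f.toRingHom
  have : IsScalarTower (MvPolynomial (Fin n) R) P₀ M := ⟨fun p q m => by
    show f (p • q) • m = α p • (f q • m)
    rw [map_smul, Algebra.smul_def, mul_smul]
    show algebraMap A B (α p) • (f q • m) = α p • (f q • m)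
    rw [algebraMap_smul]⟩
  exact Lib.Helper12.fp_iff_of_finite_fp (P := MvPolynomial (Fin n) R) (P₀ := P₀) (M := M)

end Groth.Agent.S6992
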