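import Groth.Statements.S12286
import Groth.Agent.Lib.Helper62.CotTBasic

set_option autoImplicit false
universe u w m
open scoped TensorProduct
open DefT

namespace Groth.Agent.S12286

open Groth.Agent.Lib.Helper62.CotTBasic

/-- Let A → B be a ring homomorphism, P a presentation of B over A and M a B-module. The canonical
B-linear map from the A-derivations Der_A(B, M) = Hom_B(Ω_{B/A}, M) to T^0(B/A, M) (the kernel of
Hom_B(L₀, M) → Hom_B(L₁, M), L₀ = B ⊗_R Ω_{R/A}), sending a derivation D to b ⊗ dr ↦ b·D(r̄), is
bijective. -/
theorem result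
    (A B : Type u) [CommRing A] [CommRing B] [Algebra A B] (ι σ : Type w) (P : Algebra.Presentation A B ι σ)
    (M : Type m) [AddCommGroup M] [Module B M] [Module A M] [IsScalarTower A B M] :
    Function.Bijective (CotT.derToT0 P M) := by
  constructor
  · intro D D' h
    have h' : CotT.derLift P M D = CotT.derLift P M D' := congrArg Subtype.val h
    ext b
    obtain ⟨r, rfl⟩ := P.toExtension.algebraMap_surjective b
    have := LinearMap.congr_fun h' ((1 : B) ⊗ₜ KaehlerDifferential.D A P.toExtension.Ring r)
    rw [CotT.derLift_tmul_D, CotT.derLift_tmul_D, one_smul, one_smul] at this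
    exact this
  · rintro ⟨φ, hφ⟩
    rw [LinearMap.mem_ker, CotT.d1Star_apply] at hφ
    have h0 : φ ∘ₗ P.toExtension.cotangentComplex = 0 := by
      apply comp_toCot_injective P M
      rw [LinearMap.zero_comp, LinearMap.comp_assoc]
      exact hφ
    have hk : LinearMap.ker P.toExtension.toKaehler ≤ LinearMap.ker φ := by
      rw [LinearMap.exact_iff.mp P.toExtension.exact_cotangentComplex_toKaehler,
        LinearMap.range_le_ker_iff]
      exact h0
    let e := LinearMap.quotKerEquivOfSurjective P.toExtension.toKaehler
      P.toExtension.toKaehler_surjective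
    let ψ : Ω[B⁄A] →ₗ[B] M := (Submodule.liftQ _ φ hk) ∘ₗ e.symm.toLinearMap
    have hψ : ∀ x, ψ (P.toExtension.toKaehler x) = φ x := by
      intro x
      simp only [ψ, LinearMap.coe_comp, Function.comp_apply, LinearEquiv.coe_coe]
      have : e.symm (P.toExtension.toKaehler x) = Submodule.Quotient.mk x := by
        rw [LinearEquiv.symm_apply_eq]
        rfl
      rw [this, Submodule.liftQ_apply]
    refine ⟨ψ.compDer (KaehlerDifferential.D A B), ?_⟩
    refine Subtype.ext ((P.cotangentSpaceBasis).ext fun i => ?_)
    rw [CotT.derToT0_apply, CotT.derLift_basis]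
    change ψ (KaehlerDifferential.D A B (P.val i)) = φ _
    rw [← Algebra.Generators.toKaehler_cotangentSpaceBasis, hψ]

end Groth.Agent.S12286
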