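import Groth.Statements.S12283
import Groth.Agent.S12286
import Groth.Agent.S12289
import Groth.Agent.Lib.Helper62.CotTCompare

set_option autoImplicit false
universe u w m
open scoped TensorProduct
open DefT

namespace Groth.Agent.S12283

open Groth.Agent.Lib.Helper62.CotTCompare Groth.Agent.Lib.Helper62.ThreeTermHom

section helpers

variable {A B : Type u} [CommRing A] [CommRing B] [Algebra A B] {ι σ ι' σ' : Type w}
  (P : Algebra.Presentation A B ι σ) (P' : Algebra.Presentation A B ι' σ')
  (M : Type m) [AddCommGroup M] [Module B M]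

lemma T0_equiv : Nonempty (CotT.T0 P M ≃ₗ[B] CotT.T0 P' M) := by
  let _ : Module A M := Module.compHom M (algebraMap A B)
  have _ : IsScalarTower A B M := IsScalarTower.of_compHom A B M
  exact ⟨(LinearEquiv.ofBijective _ (Groth.Agent.S12286.result A B ι σ P M)).symm.trans
    (LinearEquiv.ofBijective _ (Groth.Agent.S12286.result A B ι' σ' P' M))⟩

/-- `T¹` as the cokernel of `Hom(L₀, M) → Hom(I/I², M)`. -/
lemma T1_equiv_GT2 :
    Nonempty (GT2 P.toExtension.cotangentComplex M ≃ₗ[B] CotT.T1 P M) := by
  obtain ⟨_, h2, h3⟩ := Groth.Agent.S12289.result A B ι σ P M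
  exact ⟨(Submodule.quotEquivOfEq _ _ h2.symm).trans
    (LinearMap.quotKerEquivOfSurjective (CotT.homToT1 P M) h3)⟩

end helpers

section ext

variable {A B : Type u} [CommRing A] [CommRing B] [Algebra A B]
  (E E' : Algebra.Extension.{w} A B) (M : Type m) [AddCommGroup M] [Module B M]

lemma ext_GT2_equiv (f : E.Hom E') (g : E'.Hom E) :
    Nonempty (GT2 E.cotangentComplex M ≃ₗ[B] GT2 E'.cotangentComplex M) := by
  have hu : E'.cotangentComplex ∘ₗ Algebra.Extension.Cotangent.map f =
      Algebra.Extension.CotangentSpace.map f ∘ₗ E.cotangentComplex := by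
    rw [Algebra.Extension.CotangentSpace.map_comp_cotangentComplex]
    rfl
  have hv : E.cotangentComplex ∘ₗ Algebra.Extension.Cotangent.map g =
      Algebra.Extension.CotangentSpace.map g ∘ₗ E'.cotangentComplex := by
    rw [Algebra.Extension.CotangentSpace.map_comp_cotangentComplex]
    rfl
  have hk : ((g.comp f).sub (Algebra.Extension.Hom.id E)) ∘ₗ E.cotangentComplex =
      Algebra.Extension.Cotangent.map g ∘ₗ Algebra.Extension.Cotangent.map f - LinearMap.id := by
    rw [← Algebra.Extension.Cotangent.map_sub_map, Algebra.Extension.Cotangent.map_comp,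
      Algebra.Extension.Cotangent.map_id]
    rfl
  have hk' : ((f.comp g).sub (Algebra.Extension.Hom.id E')) ∘ₗ E'.cotangentComplex =
      Algebra.Extension.Cotangent.map f ∘ₗ Algebra.Extension.Cotangent.map g - LinearMap.id := by
    rw [← Algebra.Extension.Cotangent.map_sub_map, Algebra.Extension.Cotangent.map_comp,
      Algebra.Extension.Cotangent.map_id]
    rfl
  exact ⟨GT2equiv M _ _ hu _ _ hv _ hk _ hk'⟩

end ext

/-- Let A → B be a ring homomorphism, M a B-module, and P, P' two presentations of B over A (a
polynomial ring over A mapping onto B together with generators of the kernel, indexing a free module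
F → I). Then for i = 0, 1, 2 the modules T^i(B/A, M) computed from the cotangent complex L₂ → L₁ →
L₀ of P and from that of P' are isomorphic B-modules. (Existence of B-linear isomorphisms only; the
published lemmas compare first two choices of F over one polynomial ring and then two polynomial
rings.) -/
theorem result
    (A B : Type u) [CommRing A] [CommRing B] [Algebra A B] (ι σ ι' σ' : Type w)
    (P : Algebra.Presentation A B ι σ) (P' : Algebra.Presentation A B ι' σ')
    (M : Type m) [AddCommGroup M] [Module B M] :
    Nonempty (CotT.T0 P M ≃ₗ[B] CotT.T0 P' M) ∧ Nonempty (CotT.T1 P M ≃ₗ[B] CotT.T1 P' M) ∧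
      Nonempty (CotT.T2 P M ≃ₗ[B] CotT.T2 P' M) := by
  refine ⟨T0_equiv P P' M, ?_, ?_⟩
  · obtain ⟨e1⟩ := T1_equiv_GT2 P M
    obtain ⟨e2⟩ := T1_equiv_GT2 P' M
    obtain ⟨e3⟩ := ext_GT2_equiv P.toExtension P'.toExtension M
      (P.defaultHom P'.toGenerators).toExtensionHom (P'.defaultHom P.toGenerators).toExtensionHom
    exact ⟨e1.symm.trans (e3.trans e2)⟩
  · obtain ⟨m, hm⟩ := exists_mor (P := P) (P' := P')
      (P.defaultHom P'.toGenerators).toExtensionHom.toRingHom
      (fun x => (P.defaultHom P'.toGenerators).toExtensionHom.algebraMap_toRingHom x)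
    obtain ⟨n, hn⟩ := exists_mor (P := P') (P' := P)
      (P'.defaultHom P.toGenerators).toExtensionHom.toRingHom
      (fun x => (P'.defaultHom P.toGenerators).toExtensionHom.algebraMap_toRingHom x)
    refine T2_equiv m n ?_ ?_ M
    · intro a
      rw [hm, hn]
      have h1 := (P.defaultHom P'.toGenerators).toExtensionHom.toRingHom_algebraMap a
      have h2 := (P'.defaultHom P.toGenerators).toExtensionHom.toRingHom_algebraMap a
      exact (congrArg _ h1).trans h2
    · intro a
      rw [hm, hn]
      have h1 := (P.defaultHom P'.toGenerators).toExtensionHom.toRingHom_algebraMap a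
      have h2 := (P'.defaultHom P.toGenerators).toExtensionHom.toRingHom_algebraMap a
      exact (congrArg _ h2).trans h1

end Groth.Agent.S12283
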