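import Groth.Statements.S12288
import Groth.Agent.S12283
import Groth.Agent.Lib.Helper62.KoszulH1

set_option autoImplicit false
universe u w m
open scoped TensorProduct
open DefT

namespace Groth.Agent.S12288

open Groth.Agent.Lib.Helper62.KoszulH1 RingTheory.Sequence

section helpers

variable {A B : Type u} [CommRing A] [CommRing B] [Algebra A B]

/-- the regular sequence inside the polynomial ring with no variables. -/
noncomputable def cs (rs : List A) : List (MvPolynomial PEmpty.{u + 1} A) := rs.map MvPolynomial.C

lemma cs_weaklyRegular (rs : List A) (h : IsWeaklyRegular A rs) :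
    IsWeaklyRegular (MvPolynomial PEmpty.{u + 1} A) (cs rs) := by
  have h1 : IsWeaklyRegular (MvPolynomial PEmpty.{u + 1} A) rs :=
    (LinearEquiv.isWeaklyRegular_congr
      (MvPolynomial.isEmptyAlgEquiv A PEmpty.{u + 1}).toLinearEquiv rs).mpr h
  exact (isWeaklyRegular_map_algebraMap_iff (MvPolynomial PEmpty.{u + 1} A)
    (MvPolynomial PEmpty.{u + 1} A) rs).mpr h1

lemma ker_aeval_eq :
    RingHom.ker (MvPolynomial.aeval (PEmpty.elim : PEmpty.{u + 1} → B) :
      MvPolynomial PEmpty.{u + 1} A →ₐ[A] B) =
    Ideal.map (MvPolynomial.C : A →+* MvPolynomial PEmpty.{u + 1} A)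
      (RingHom.ker (algebraMap A B)) := by
  ext x
  obtain ⟨a, rfl⟩ := MvPolynomial.C_surjective PEmpty.{u + 1} x
  rw [RingHom.mem_ker, Ideal.mem_map_iff_of_surjective _ (MvPolynomial.C_surjective PEmpty.{u + 1})]
  constructor
  · intro h
    refine ⟨a, ?_, rfl⟩
    rw [RingHom.mem_ker]
    rwa [MvPolynomial.aeval_C] at h
  · rintro ⟨a', ha', h⟩
    have : a' = a := MvPolynomial.C_injective _ _ h
    subst this
    rw [MvPolynomial.aeval_C]
    exact ha'

/-- the presentation of `B = A/(rs)` with no variables and the elements of `rs` as relations. -/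
noncomputable def regPres (hs : Function.Surjective (algebraMap A B)) (rs : List A)
    (hI : RingHom.ker (algebraMap A B) = Ideal.ofList rs) :
    Algebra.Presentation A B PEmpty.{u + 1} (ULift.{u} (Fin (cs rs).length)) where
  __ := Algebra.Generators.ofSurjectiveAlgebraMap hs
  relation s := (cs rs).get s.down
  span_range_relation_eq_ker := by
    rw [Algebra.Generators.ker_eq_ker_aeval_val]
    change _ = RingHom.ker (MvPolynomial.aeval (PEmpty.elim : PEmpty.{u + 1} → B) :
      MvPolynomial PEmpty.{u + 1} A →ₐ[A] B)
    rw [ker_aeval_eq, hI, Ideal.map_ofList]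
    change _ = Ideal.span {r | r ∈ cs rs}
    congr 1
    ext x
    constructor
    · rintro ⟨s, rfl⟩
      exact List.get_mem _ _
    · intro hx
      obtain ⟨i, hi⟩ := List.get_of_mem hx
      exact ⟨⟨i⟩, hi⟩

end helpers


section koszul

variable {A B : Type u} [CommRing A] [CommRing B] [Algebra A B]
  (hs : Function.Surjective (algebraMap A B)) (rs : List A)
  (hI : RingHom.ker (algebraMap A B) = Ideal.ofList rs)

/-- functions on `Fin n` to finitely supported functions on `ULift (Fin n)`. -/
noncomputable def toFs (n : ℕ) (S : Type u) [CommRing S] :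
    (Fin n → S) →ₗ[S] (ULift.{u} (Fin n) →₀ S) :=
  (Finsupp.linearEquivFunOnFinite S S (ULift.{u} (Fin n))).symm.toLinearMap ∘ₗ
    LinearMap.funLeft S S ULift.down

lemma toFs_apply (n : ℕ) (S : Type u) [CommRing S] (g : Fin n → S) (s : ULift.{u} (Fin n)) :
    toFs n S g s = g s.down := rfl

lemma toFs_single (n : ℕ) (S : Type u) [CommRing S] (j : Fin n) (v : S) :
    toFs n S (Pi.single j v) = Finsupp.single (ULift.up j) v := by
  ext s
  rw [toFs_apply]
  by_cases h : s = ULift.up j
  · subst h; simp
  · have h' : s.down ≠ j := fun h'' => h (by cases s; simp_all)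
    rw [Pi.single_eq_of_ne h', Finsupp.single_eq_of_ne h]

omit [CommRing A] [CommRing B] [Algebra A B] in
lemma key (S : Type u) [CommRing S] (L : List S) (hL : IsWeaklyRegular S L)
    (f : ULift.{u} (Fin L.length) →₀ S)
    (hf : Finsupp.linearCombination S (fun s : ULift.{u} (Fin L.length) => L.get s.down) f = 0) :
    f ∈ Submodule.span S {y | ∃ a b : ULift.{u} (Fin L.length) →₀ S,
      y = Finsupp.linearCombination S (fun s : ULift.{u} (Fin L.length) => L.get s.down) a • b -
        Finsupp.linearCombination S (fun s : ULift.{u} (Fin L.length) => L.get s.down) b • a} := by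
  let g : Fin L.length → S := fun i => f (ULift.up i)
  have hsum : ∑ i : Fin L.length, L.get i • g i = 0 := by
    rw [← hf, Finsupp.linearCombination_apply, Finsupp.sum_fintype _ _ (by simp)]
    rw [← Equiv.sum_comp Equiv.ulift.symm]
    apply Finset.sum_congr rfl
    intro i _
    simp only [smul_eq_mul]
    exact mul_comm _ _
  have hK := mem_Kz_of_sum_eq_zero hL _ hsum
  have hle : Kz L S ≤ Submodule.comap (toFs L.length S)
      (Submodule.span S {y | ∃ a b : ULift.{u} (Fin L.length) →₀ S,
      y = Finsupp.linearCombination S (fun s : ULift.{u} (Fin L.length) => L.get s.down) a • b -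
        Finsupp.linearCombination S (fun s : ULift.{u} (Fin L.length) => L.get s.down) b • a}) := by
    refine Submodule.span_le.mpr ?_
    rintro _ ⟨i, j, x, rfl⟩
    rw [SetLike.mem_coe, Submodule.mem_comap, map_sub, toFs_single, toFs_single]
    refine Submodule.subset_span ⟨Finsupp.single (ULift.up i) x, Finsupp.single (ULift.up j) 1, ?_⟩
    rw [Finsupp.linearCombination_single, Finsupp.linearCombination_single, Finsupp.smul_single,
      Finsupp.smul_single, one_smul, smul_eq_mul, smul_eq_mul, smul_eq_mul, mul_one]
    congr 2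
    · exact mul_comm _ _
  have h2 := hle hK
  rw [Submodule.mem_comap] at h2
  have h3 : toFs L.length S g = f := by
    ext s
    rw [toFs_apply]
  rwa [h3] at h2

lemma relKer_le_trivRel (hreg : IsWeaklyRegular A rs) :
    CotT.relKer (regPres hs rs hI) ≤ CotT.trivRel (regPres hs rs hI) := by
  intro f hf
  exact key (MvPolynomial PEmpty.{u + 1} A) (cs rs) (cs_weaklyRegular rs hreg) f hf

lemma subsingleton_T2_regPres (hreg : IsWeaklyRegular A rs) (M : Type u) [AddCommGroup M]
    [Module B M] : Subsingleton (CotT.T2 (regPres hs rs hI) M) := by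
  have h1 : ∀ x : B ⊗[(regPres hs rs hI).toExtension.Ring] CotT.relKer (regPres hs rs hI),
      x ∈ LinearMap.range ((CotT.trivRelKer (regPres hs rs hI)).subtype.baseChange B) := by
    intro x
    induction x using TensorProduct.induction_on with
    | zero => exact Submodule.zero_mem _
    | tmul b q =>
      have hq : q ∈ CotT.trivRelKer (regPres hs rs hI) := relKer_le_trivRel hs rs hI hreg q.2
      exact ⟨b ⊗ₜ ⟨q, hq⟩, rfl⟩
    | add x y hx hy => exact Submodule.add_mem _ hx hy
  have h2 : ∀ c : CotT.L2 (regPres hs rs hI) →ₗ[B] M, c = 0 := by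
    intro c
    refine LinearMap.ext fun x => ?_
    obtain ⟨y, rfl⟩ := Submodule.Quotient.mk_surjective _ x
    rw [(Submodule.Quotient.mk_eq_zero _).mpr (h1 y), map_zero, map_zero]
  refine ⟨fun a b => ?_⟩
  obtain ⟨x, rfl⟩ := Submodule.Quotient.mk_surjective _ a
  obtain ⟨y, rfl⟩ := Submodule.Quotient.mk_surjective _ b
  rw [h2 x, h2 y]

end koszul

/-- Let A be a local ring and A → B a surjective ring homomorphism whose kernel is generated by a
regular sequence a_1, …, a_r on A (each a_i is a non-zero-divisor on A/(a_1, …, a_{i-1}) and the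
ideal is proper). Then T^2(B/A, M) = 0 for every B-module M, the module being computed from the
choice-free presentation of B over A. -/
theorem result
    (A B : Type u) [CommRing A] [IsLocalRing A] [CommRing B] [Algebra A B]
    (hs : Function.Surjective (algebraMap A B)) (rs : List A) (hreg : RingTheory.Sequence.IsRegular A rs)
    (hI : RingHom.ker (algebraMap A B) = Ideal.ofList rs) (M : Type u) [AddCommGroup M] [Module B M] :
    Subsingleton (CotT.T2 (CotT.canon A B) M) := by
  obtain ⟨_, _, ⟨e2⟩⟩ := Groth.Agent.S12283.result A B B (CotT.CanonRels A B) PEmpty.{u + 1}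
    (ULift.{u} (Fin (cs rs).length)) (CotT.canon A B) (regPres hs rs hI) M
  have := subsingleton_T2_regPres hs rs hI hreg.toIsWeaklyRegular M
  exact e2.toEquiv.subsingleton

end Groth.Agent.S12288
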