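import Groth.Statements.S12287
import Groth.Agent.S12283

set_option autoImplicit false
universe u w m
open scoped TensorProduct
open DefT

namespace Groth.Agent.S12287

section helpers

variable {A B : Type u} [CommRing A] [CommRing B] [Algebra A B] {κ : Type u}

/-- the presentation of a polynomial algebra with no relations. -/
noncomputable def polyPres (e : MvPolynomial κ A ≃ₐ[A] B) :
    Algebra.Presentation A B κ PEmpty.{u + 1} where
  __ := Algebra.Generators.ofAlgHom e.toAlgHom e.surjective
  relation := PEmpty.elim
  span_range_relation_eq_ker := by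
    simp only [Set.range_eq_empty, Ideal.span_empty]
    symm
    rw [Algebra.Generators.ker_eq_ker_aeval_val]
    change RingHom.ker (MvPolynomial.aeval (fun i => e.toAlgHom (MvPolynomial.X i)) :
      MvPolynomial κ A →ₐ[A] B) = ⊥
    rw [← RingHom.injective_iff_ker_eq_bot]
    have h : (MvPolynomial.aeval (fun i => e.toAlgHom (MvPolynomial.X i)) :
        MvPolynomial κ A →ₐ[A] B) = e.toAlgHom := by
      apply MvPolynomial.algHom_ext
      intro i
      simp
    rw [h]
    exact e.injective

variable {ι σ : Type u} (P : Algebra.Presentation A B ι σ) [IsEmpty σ]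
  (M : Type u) [AddCommGroup M] [Module B M]

lemma subsingleton_T1 : Subsingleton (CotT.T1 P M) := by
  have h1 : ∀ x : CotT.L1 P, x = 0 := by
    intro x
    induction x using TensorProduct.induction_on with
    | zero => rfl
    | tmul b f => rw [Subsingleton.elim f 0, TensorProduct.tmul_zero]
    | add x y hx hy => rw [hx, hy, add_zero]
  have h2 : ∀ c : CotT.cocycles1 P M, c = 0 := by
    intro c
    apply Subtype.ext
    ext x
    rw [h1 x, map_zero, map_zero]
  refine ⟨fun a b => ?_⟩
  obtain ⟨x, rfl⟩ := Submodule.Quotient.mk_surjective _ a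
  obtain ⟨y, rfl⟩ := Submodule.Quotient.mk_surjective _ b
  rw [h2 x, h2 y]

lemma subsingleton_T2 : Subsingleton (CotT.T2 P M) := by
  have h0 : ∀ q : CotT.relKer P, q = 0 := by
    intro q
    apply Subtype.ext
    exact Subsingleton.elim _ _
  have h1 : ∀ x : B ⊗[P.toExtension.Ring] CotT.relKer P, x = 0 := by
    intro x
    induction x using TensorProduct.induction_on with
    | zero => rfl
    | tmul b f => rw [h0 f, TensorProduct.tmul_zero]
    | add x y hx hy => rw [hx, hy, add_zero]
  have h2 : ∀ c : CotT.L2 P →ₗ[B] M, c = 0 := by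
    intro c
    refine LinearMap.ext fun x => ?_
    obtain ⟨y, rfl⟩ := Submodule.Quotient.mk_surjective _ x
    rw [h1 y, Submodule.Quotient.mk_zero, map_zero, map_zero]
  refine ⟨fun a b => ?_⟩
  obtain ⟨x, rfl⟩ := Submodule.Quotient.mk_surjective _ a
  obtain ⟨y, rfl⟩ := Submodule.Quotient.mk_surjective _ b
  rw [h2 x, h2 y]

end helpers

/-- Let B be an A-algebra that is isomorphic over A to a polynomial ring A[x_j] in some set of
variables. Then for every B-module M the modules T^1(B/A, M) and T^2(B/A, M), computed from the
choice-free presentation of B over A (every element of B a variable, every element of the kernel a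
relation), are zero. -/
theorem result
    (A B : Type u) [CommRing A] [CommRing B] [Algebra A B] (κ : Type u) (e : MvPolynomial κ A ≃ₐ[A] B)
    (M : Type u) [AddCommGroup M] [Module B M] :
    Subsingleton (CotT.T1 (CotT.canon A B) M) ∧ Subsingleton (CotT.T2 (CotT.canon A B) M) := by
  obtain ⟨_, ⟨e1⟩, ⟨e2⟩⟩ := Groth.Agent.S12283.result A B B (CotT.CanonRels A B) κ PEmpty.{u + 1}
    (CotT.canon A B) (polyPres e) M
  have := subsingleton_T1 (polyPres e) M
  have := subsingleton_T2 (polyPres e) M
  exact ⟨e1.toEquiv.subsingleton, e2.toEquiv.subsingleton⟩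

end Groth.Agent.S12287
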