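import Groth.Statements.S6076
import Mathlib
import Groth.Agent.Lib.Helper24.LfpOfComp
import Groth.Agent.Lib.Helper24.ConsCompact

set_option autoImplicit false
set_option linter.style.haveILetI false
universe u
open CategoryTheory CategoryTheory.Limits MonoidalCategory CartesianMonoidalCategory MonObj GrpObj AlgebraicGeometry
open SGA3

namespace Groth.Agent.S6076
open TopologicalSpace Topology

variable {S : Scheme.{u}}

/-- the `n`-fold power of `X` over `S` -/
noncomputable def pw (X : Over S) : ℕ → Over S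
  | 0 => 𝟙_ (Over S)
  | n + 1 => X ⊗ pw X n

/-- the projections of the `n`-fold power -/
noncomputable def pr (X : Over S) : (n : ℕ) → Fin n → (pw X n ⟶ X)
  | 0 => fun j => Fin.elim0 j
  | n + 1 => fun j => Fin.cases (fst X (pw X n)) (fun j' => snd X (pw X n) ≫ pr X n j') j

/-- the tuple morphism -/
noncomputable def tup (X : Over S) {T : Over S} : (n : ℕ) → (Fin n → (T ⟶ X)) → (T ⟶ pw X n)
  | 0, _ => toUnit T
  | n + 1, x => lift (x 0) (tup X n (fun j => x j.succ))

lemma tup_pr (X : Over S) {T : Over S} :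
    ∀ (n : ℕ) (x : Fin n → (T ⟶ X)) (j : Fin n), tup X n x ≫ pr X n j = x j
  | 0, _, j => Fin.elim0 j
  | n + 1, x, j => by
    refine Fin.cases ?_ (fun j' => ?_) j
    · simp only [tup, pr, Fin.cases_zero]
      exact lift_fst _ _
    · simp only [tup, pr, Fin.cases_succ]
      exact (lift_snd_assoc (x 0) (tup X n fun j => x j.succ) (pr X n j')).trans
        (tup_pr X n _ j')

lemma lfp_pw (X : Over S) [LocallyOfFinitePresentation X.hom] :
    ∀ n, LocallyOfFinitePresentation (pw X n).hom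
  | 0 => by
    show LocallyOfFinitePresentation (𝟙 S)
    infer_instance
  | n + 1 => by
    haveI := lfp_pw X n
    show LocallyOfFinitePresentation (pullback.fst X.hom (pw X n).hom ≫ X.hom)
    infer_instance

/-- the word morphism -/
noncomputable def wd {X H : Over S} [GrpObj H] (f : X ⟶ H) {T : Over S} (n : ℕ)
    (x : Fin n → (T ⟶ X)) (ε : Fin n → Bool) : T ⟶ H :=
  (List.ofFn fun j : Fin n => if ε j then x j ≫ f else (x j ≫ f)⁻¹).prod

lemma comp_list_prod {H : Over S} [GrpObj H] {T T' : Over S} (t : T ⟶ T') (L : List (T' ⟶ H)) :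
    t ≫ L.prod = (L.map (fun a => t ≫ a)).prod := by
  induction L with
  | nil => simp only [List.prod_nil, List.map_nil, MonObj.comp_one]
  | cons a L ih => simp only [List.prod_cons, List.map_cons, MonObj.comp_mul, ih]

lemma wd_comp {X H : Over S} [GrpObj H] (f : X ⟶ H) {T T' : Over S} (t : T ⟶ T') (n : ℕ)
    (y : Fin n → (T' ⟶ X)) (ε : Fin n → Bool) :
    t ≫ wd f n y ε = wd f n (fun j => t ≫ y j) ε := by
  unfold wd
  rw [comp_list_prod, List.map_ofFn]
  refine congrArg List.prod (congrArg List.ofFn (funext fun j => ?_))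
  simp only [Function.comp_apply]
  split_ifs
  · rw [Category.assoc]
  · rw [GrpObj.comp_inv, Category.assoc]

theorem key (X H : Over S) [GrpObj H] [LocallyOfFinitePresentation X.hom]
    [LocallyOfFinitePresentation H.hom] (f : X ⟶ H)
    (huniv : ∀ h : H.left, ∃ (n : ℕ) (ε : Fin n → Bool) (y : (pw X n).left),
      (wd f n (pr X n) ε).left.base y = h)
    (V : H.left.Opens) (hV : IsAffineOpen V) :
    ∃ N : ℕ, ∀ h ∈ (V : Set H.left), ∃ (n : ℕ) (_ : n ≤ N) (ε : Fin n → Bool) (y : (pw X n).left),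
      (wd f n (pr X n) ε).left.base y = h := by
  haveI : IsAffine (V : Scheme.{u}) := hV
  let g : ∀ (n : ℕ) (ε : Fin n → Bool), (pw X n).left ⟶ H.left :=
    fun n ε => (wd f n (pr X n) ε).left
  have hg : ∀ n ε, LocallyOfFinitePresentation (g n ε) := by
    intro n ε
    haveI := lfp_pw X n
    haveI : LocallyOfFinitePresentation ((g n ε) ≫ H.hom) := by
      show LocallyOfFinitePresentation ((wd f n (pr X n) ε).left ≫ H.hom)
      rw [Over.w]; infer_instance
    exact Groth.Agent.Lib.Helper24.locallyOfFinitePresentation_of_comp (g n ε) H.hom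
  let Idx := Σ (n : ℕ) (ε : Fin n → Bool),
    {W : ((g n ε) ⁻¹ᵁ V).toScheme.Opens // IsAffineOpen W}
  let φ : ∀ a : Idx, (a.2.2.1 : Scheme.{u}) ⟶ (V : Scheme.{u}) :=
    fun a => a.2.2.1.ι ≫ ((g a.1 a.2.1) ∣_ V)
  let C : Idx → Set ↥(V : Scheme.{u}) := fun a => Set.range (φ a).base
  have hC : ∀ a, IsConstructible (C a) := by
    rintro ⟨n, ε, W, hW⟩
    haveI : IsAffine (W : Scheme.{u}) := hW
    haveI := hg n ε
    haveI : LocallyOfFinitePresentation (φ ⟨n, ε, W, hW⟩) := by
      show LocallyOfFinitePresentation (W.ι ≫ ((g n ε) ∣_ V))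
      infer_instance
    haveI : QuasiCompact (φ ⟨n, ε, W, hW⟩) := by
      show QuasiCompact (W.ι ≫ ((g n ε) ∣_ V))
      infer_instance
    have h := Scheme.Hom.isConstructible_image (φ ⟨n, ε, W, hW⟩) IsConstructible.univ
    rw [Set.image_univ] at h
    exact h
  have hcov : ∀ z : ↥(V : Scheme.{u}), ∃ a, z ∈ C a := by
    intro z
    obtain ⟨n, ε, y, hy⟩ := huniv z.1
    have hyV : y ∈ (g n ε) ⁻¹ᵁ V := by
      show (g n ε).base y ∈ V
      rw [show (g n ε).base y = z.1 from hy]; exact z.2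
    obtain ⟨W, hW, hyW, -⟩ := Opens.isBasis_iff_nbhd.mp
      (Scheme.isBasis_affineOpens ((g n ε) ⁻¹ᵁ V).toScheme)
      (show (⟨y, hyV⟩ : ↥((g n ε) ⁻¹ᵁ V).toScheme) ∈ (⊤ : ((g n ε) ⁻¹ᵁ V).toScheme.Opens)
        from trivial)
    refine ⟨⟨n, ε, W, hW⟩, ⟨⟨⟨y, hyV⟩, hyW⟩, ?_⟩⟩
    apply Subtype.ext
    show (((g n ε) ∣_ V) ⟨y, hyV⟩).1 = z.1
    rw [morphismRestrict_base_coe]
    exact hy
  obtain ⟨t, ht⟩ := Groth.Agent.Lib.Helper24.ConsCompact.exists_finite_subcover C hC hcov
  refine ⟨t.sup (fun a => a.1), fun h hh => ?_⟩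
  obtain ⟨a, hat, ⟨w, hw⟩⟩ := ht ⟨h, hh⟩
  refine ⟨a.1, Finset.le_sup (f := fun a : Idx => a.1) hat, a.2.1,
    ((g a.1 a.2.1) ⁻¹ᵁ V).ι.base (a.2.2.1.ι.base w), ?_⟩
  have e1 : φ a ≫ V.ι = (a.2.2.1.ι ≫ ((g a.1 a.2.1) ⁻¹ᵁ V).ι) ≫ g a.1 a.2.1 := by
    show (a.2.2.1.ι ≫ ((g a.1 a.2.1) ∣_ V)) ≫ V.ι = _
    rw [Category.assoc, morphismRestrict_ι, Category.assoc]
  have e2 := congrArg (fun ψ => ψ.base w) e1
  have e3 : V.ι.base ((φ a).base w) = h := by rw [hw]; rfl
  exact (e2.symm.trans e3 : _)

theorem main (S : Scheme.{u}) (X H : Over S) [GrpObj H]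
    [Flat X.hom] [LocallyOfFinitePresentation X.hom] [LocallyOfFinitePresentation H.hom]
    (hred : ∀ s : S, IsReduced (H.hom.fiber s)) [CompactSpace H.left] (f : X ⟶ H)
    (hsurj : ∀ h : H.left, ∃ (n : ℕ) (T : Over S) (p : T.left) (x : Fin n → (T ⟶ X)) (ε : Fin n → Bool),
      ((List.ofFn fun j : Fin n => if ε j then x j ≫ f else (x j ≫ f)⁻¹).prod : T ⟶ H).left.base p = h) :
    ∃ n : ℕ, ∀ h : H.left, ∃ (m : ℕ) (_ : m ≤ n) (T : Over S) (p : T.left) (x : Fin m → (T ⟶ X)) (ε : Fin m → Bool),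
      ((List.ofFn fun j : Fin m => if ε j then x j ≫ f else (x j ≫ f)⁻¹).prod : T ⟶ H).left.base p = h := by
  have huniv : ∀ h : H.left, ∃ (n : ℕ) (ε : Fin n → Bool) (y : (pw X n).left),
      (wd f n (pr X n) ε).left.base y = h := by
    intro h
    obtain ⟨n, T, p, x, ε, hp⟩ := hsurj h
    refine ⟨n, ε, (tup X n x).left.base p, ?_⟩
    have e : tup X n x ≫ wd f n (pr X n) ε = wd f n x ε := by
      rw [wd_comp]
      congr 1
      funext j
      exact tup_pr X n x j
    have h1 := congrArg (fun ψ : T ⟶ H => ψ.left.base p) e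
    exact (h1.trans hp : _)
  let P : Set H.left → Prop := fun s => ∃ N : ℕ, ∀ h ∈ s, ∃ (n : ℕ) (_ : n ≤ N)
    (ε : Fin n → Bool) (y : (pw X n).left), (wd f n (pr X n) ε).left.base y = h
  have hP : P Set.univ := by
    refine isCompact_univ.induction_on ?_ ?_ ?_ ?_
    · exact ⟨0, fun h hh => hh.elim⟩
    · rintro s t hst ⟨N, hN⟩
      exact ⟨N, fun h hh => hN h (hst hh)⟩
    · rintro s t ⟨N, hN⟩ ⟨M, hM⟩
      refine ⟨max N M, fun h hh => ?_⟩
      rcases hh with hh | hh
      · obtain ⟨n, hn, r⟩ := hN h hh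
        exact ⟨n, le_trans hn (le_max_left _ _), r⟩
      · obtain ⟨n, hn, r⟩ := hM h hh
        exact ⟨n, le_trans hn (le_max_right _ _), r⟩
    · intro h _
      obtain ⟨V, hV, hhV, -⟩ := Opens.isBasis_iff_nbhd.mp (Scheme.isBasis_affineOpens H.left)
        (show h ∈ (⊤ : H.left.Opens) from trivial)
      exact ⟨V, mem_nhdsWithin_of_mem_nhds (V.2.mem_nhds hhV), key X H f huniv V hV⟩
  obtain ⟨N, hN⟩ := hP
  refine ⟨N, fun h => ?_⟩
  obtain ⟨n, hn, ε, y, hy⟩ := hN h (Set.mem_univ h)
  exact ⟨n, hn, pw X n, y, pr X n, ε, hy⟩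


/-- (iii) ⟹ (iv): let S be a scheme, X an S-scheme which is flat and locally of finite presentation over
S, H an S-group scheme locally of finite presentation over S with reduced fibres and quasi-compact
underlying space, and f : X → H an S-morphism. Say that a point h of H lies under a word of length n
in f when there are an S-scheme T, a point p of T, T-valued points x_1, …, x_n of X and signs such
that the T-valued point f(x_1)^{±1} ⋯ f(x_n)^{±1} of H maps p to h. If every point of H lies under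
some word in f, then there is a natural number n such that every point of H lies under a word of
length at most n. (The published statement concludes with words of one fixed length n and an
fppf-covering word morphism; for the constant group of order two over a field and f the non-trivial
point, the points under words of length n alternate between the two points of H, so only the bound
on the length is stated here, and the covering assertion is not stated.) -/
theorem result (S : Scheme.{u}) (X H : Over S) [GrpObj H]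
    [Flat X.hom] [LocallyOfFinitePresentation X.hom] [LocallyOfFinitePresentation H.hom]
    (hred : ∀ s : S, IsReduced (H.hom.fiber s)) [CompactSpace H.left] (f : X ⟶ H)
    (hsurj : ∀ h : H.left, ∃ (n : ℕ) (T : Over S) (p : T.left) (x : Fin n → (T ⟶ X)) (ε : Fin n → Bool),
      ((List.ofFn fun j : Fin n => if ε j then x j ≫ f else (x j ≫ f)⁻¹).prod : T ⟶ H).left.base p = h) :
    ∃ n : ℕ, ∀ h : H.left, ∃ (m : ℕ) (_ : m ≤ n) (T : Over S) (p : T.left) (x : Fin m → (T ⟶ X)) (ε : Fin m → Bool),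
      ((List.ofFn fun j : Fin m => if ε j then x j ≫ f else (x j ≫ f)⁻¹).prod : T ⟶ H).left.base p = h := by
  exact main S X H hred f hsurj

end Groth.Agent.S6076
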