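import Groth.Statements.S6075
import Mathlib
import Groth.Agent.S6076

set_option autoImplicit false
set_option linter.style.haveILetI false
universe u
open CategoryTheory CategoryTheory.Limits MonoidalCategory CartesianMonoidalCategory MonObj GrpObj AlgebraicGeometry
open SGA3

namespace Groth.Agent.S6075
open Groth.Agent.S6076

lemma lft_pw {S : Scheme.{u}} (X : Over S) [LocallyOfFiniteType X.hom] :
    ∀ n, LocallyOfFiniteType (pw X n).hom
  | 0 => by
    show LocallyOfFiniteType (𝟙 S)
    infer_instance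
  | n + 1 => by
    haveI := lft_pw X n
    show LocallyOfFiniteType (pullback.fst X.hom (pw X n).hom ≫ X.hom)
    infer_instance

/-- A nonempty scheme locally of finite type over an algebraically closed field has a rational
point (same short argument as in `Groth.Agent.S9954`). -/
theorem exists_section_of_isAlgClosed {k : Type u} [Field k] [IsAlgClosed k] {W : Scheme.{u}}
    [Nonempty W] (w : W ⟶ Spec (CommRingCat.of k)) [LocallyOfFiniteType w] :
    ∃ σ : Spec (CommRingCat.of k) ⟶ W, σ ≫ w = 𝟙 _ := by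
  have : JacobsonSpace W := LocallyOfFiniteType.jacobsonSpace w
  have hne : (closedPoints W).Nonempty := by
    by_contra h
    rw [Set.not_nonempty_iff_eq_empty] at h
    have := closure_closedPoints (X := W)
    rw [h, closure_empty] at this
    exact Set.empty_ne_univ this
  obtain ⟨x, hx⟩ := hne
  exact ⟨pointOfClosedPoint w x hx, pointOfClosedPoint_comp w x hx⟩

theorem exists_lift_pt {k : Type u} [Field k] [IsAlgClosed k]
    {G Y : Over (Spec (CommRingCat.of k))} [LocallyOfFiniteType Y.hom] (φ : Y ⟶ G)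
    (g : 𝟙_ (Over (Spec (CommRingCat.of k))) ⟶ G)
    (y₀ : Y.left) (p₀ : (𝟙_ (Over (Spec (CommRingCat.of k)))).left)
    (h : φ.left.base y₀ = g.left.base p₀) :
    ∃ y : 𝟙_ (Over (Spec (CommRingCat.of k))) ⟶ Y, y ≫ φ = g := by
  haveI : LocallyOfFiniteType φ.left := by
    haveI : LocallyOfFiniteType (φ.left ≫ G.hom) := by rw [Over.w]; infer_instance
    exact locallyOfFiniteType_of_comp φ.left G.hom
  obtain ⟨z, -, -⟩ := Scheme.Pullback.exists_preimage_pullback (f := φ.left) (g := g.left) y₀ p₀ h
  haveI : Nonempty ↥(pullback φ.left g.left) := ⟨z⟩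
  let w : pullback φ.left g.left ⟶ Spec (CommRingCat.of k) := pullback.snd φ.left g.left
  haveI : LocallyOfFiniteType w := by
    show LocallyOfFiniteType (pullback.snd φ.left g.left)
    infer_instance
  obtain ⟨σ, hσ⟩ := exists_section_of_isAlgClosed w
  have hσ' : σ ≫ pullback.snd φ.left g.left = 𝟙 _ := hσ
  have hcomp : (σ ≫ pullback.fst φ.left g.left) ≫ φ.left = g.left := by
    rw [Category.assoc, pullback.condition, ← Category.assoc, hσ', Category.id_comp]
  refine ⟨Over.homMk (σ ≫ pullback.fst φ.left g.left) ?_, ?_⟩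
  · rw [← Over.w φ, ← Category.assoc, hcomp]
    exact Over.w g
  · apply Over.OverMorphism.ext
    exact hcomp

theorem main (k : Type u) [Field k] [IsAlgClosed k]
    (G X : Over (Spec (CommRingCat.of k))) [GrpObj G] [LocallyOfFiniteType G.hom]
    [LocallyOfFiniteType X.hom] [GeometricallyReduced X.hom] (f : X ⟶ G) :
    {g : 𝟙_ (Over (Spec (CommRingCat.of k))) ⟶ G | ∃ (n : ℕ) (T : Over (Spec (CommRingCat.of k))) (p : T.left) (p₀ : (𝟙_ (Over (Spec (CommRingCat.of k)))).left)
        (x : Fin n → (T ⟶ X)) (ε : Fin n → Bool), ((List.ofFn fun j : Fin n => if ε j then x j ≫ f else (x j ≫ f)⁻¹).prod : T ⟶ G).left.base p = g.left.base p₀} =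
      ((Subgroup.closure {g : 𝟙_ (Over (Spec (CommRingCat.of k))) ⟶ G | ∃ p₀ : (𝟙_ (Over (Spec (CommRingCat.of k)))).left, g.left.base p₀ ∈ Set.range f.left.base} :
        Subgroup (𝟙_ (Over (Spec (CommRingCat.of k))) ⟶ G)) : Set (𝟙_ (Over (Spec (CommRingCat.of k))) ⟶ G)) := by
  apply Set.Subset.antisymm
  · rintro g ⟨n, T, p, p₀, x, ε, hp⟩
    show g ∈ Subgroup.closure _
    have e : tup X n x ≫ wd f n (pr X n) ε = wd f n x ε := by
      rw [wd_comp]
      congr 1
      funext j
      exact tup_pr X n x j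
    have h1 : (wd f n (pr X n) ε).left.base ((tup X n x).left.base p) = g.left.base p₀ :=
      ((congrArg (fun ψ : T ⟶ G => ψ.left.base p) e).trans hp : _)
    haveI := lft_pw X n
    obtain ⟨y, hy⟩ := exists_lift_pt (wd f n (pr X n) ε) g _ p₀ h1
    rw [← hy, wd_comp]
    unfold wd
    apply Subgroup.list_prod_mem
    intro a ha
    rw [List.mem_ofFn'] at ha
    obtain ⟨j, rfl⟩ := ha
    have hb : ((y ≫ pr X n j) ≫ f) ∈ Subgroup.closure {g : 𝟙_ (Over (Spec (CommRingCat.of k))) ⟶ G | ∃ p₀ : (𝟙_ (Over (Spec (CommRingCat.of k)))).left, g.left.base p₀ ∈ Set.range f.left.base} :=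
      Subgroup.subset_closure ⟨p₀, ⟨(y ≫ pr X n j).left.base p₀, rfl⟩⟩
    show (if ε j then (y ≫ pr X n j) ≫ f else ((y ≫ pr X n j) ≫ f)⁻¹) ∈ _
    split_ifs
    · exact hb
    · exact inv_mem hb
  · intro g hg
    have hg' : g ∈ Subgroup.closure {g : 𝟙_ (Over (Spec (CommRingCat.of k))) ⟶ G | ∃ p₀ : (𝟙_ (Over (Spec (CommRingCat.of k)))).left, g.left.base p₀ ∈ Set.range f.left.base} := hg
    rw [← Subgroup.mem_toSubmonoid, Subgroup.closure_toSubmonoid] at hg'
    obtain ⟨l, hl, rfl⟩ := Submonoid.exists_list_of_mem_closure hg'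
    have hch : ∀ j : Fin l.length, ∃ (xb : 𝟙_ (Over (Spec (CommRingCat.of k))) ⟶ X) (b : Bool),
        l.get j = if b then xb ≫ f else (xb ≫ f)⁻¹ := by
      intro j
      rcases hl (l.get j) (List.get_mem l j) with hB | hB
      · obtain ⟨p₀, x₀, hx₀⟩ := hB
        obtain ⟨xb, hxb⟩ := exists_lift_pt f (l.get j) x₀ p₀ hx₀
        exact ⟨xb, true, by simp [hxb]⟩
      · rw [Set.mem_inv] at hB
        obtain ⟨p₀, x₀, hx₀⟩ := hB
        obtain ⟨xb, hxb⟩ := exists_lift_pt f (l.get j)⁻¹ x₀ p₀ hx₀
        exact ⟨xb, false, by simp [hxb]⟩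
    choose xs εs hxe using hch
    have hL : (List.ofFn fun j : Fin l.length => if εs j then xs j ≫ f else (xs j ≫ f)⁻¹) = l := by
      rw [show (fun j : Fin l.length => if εs j then xs j ≫ f else (xs j ≫ f)⁻¹) = l.get from
        funext fun j => (hxe j).symm]
      exact List.ofFn_get l
    refine ⟨l.length, 𝟙_ _, (IsLocalRing.closedPoint k : ↥(Spec (CommRingCat.of k))),
      (IsLocalRing.closedPoint k : ↥(Spec (CommRingCat.of k))), xs, εs, ?_⟩
    rw [hL]


/-- Let k be an algebraically closed field, G a group scheme locally of finite type over k, X a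
geometrically reduced k-scheme locally of finite type, and f : X → G a k-morphism. Consider the
k-points g of G whose underlying point lies under a word in f: there are a k-scheme T, a point p of
T, n ≥ 0, T-valued points x_1, …, x_n of X and signs such that the T-valued point f(x_1)^{±1} ⋯
f(x_n)^{±1} of G maps p to the point of g. These k-points form exactly the subgroup of G(k)
generated by the k-points of G whose underlying point lies in the image of f. (Words of length zero
are allowed here, so that the unit is on both sides when X is empty; for nonempty X this changes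
nothing, while the published statement, with words of positive length only, fails for empty X.) -/
theorem result (k : Type u) [Field k] [IsAlgClosed k]
    (G X : Over (Spec (CommRingCat.of k))) [GrpObj G] [LocallyOfFiniteType G.hom]
    [LocallyOfFiniteType X.hom] [GeometricallyReduced X.hom] (f : X ⟶ G) :
    {g : 𝟙_ (Over (Spec (CommRingCat.of k))) ⟶ G | ∃ (n : ℕ) (T : Over (Spec (CommRingCat.of k))) (p : T.left) (p₀ : (𝟙_ (Over (Spec (CommRingCat.of k)))).left)
        (x : Fin n → (T ⟶ X)) (ε : Fin n → Bool), ((List.ofFn fun j : Fin n => if ε j then x j ≫ f else (x j ≫ f)⁻¹).prod : T ⟶ G).left.base p = g.left.base p₀} =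
      ((Subgroup.closure {g : 𝟙_ (Over (Spec (CommRingCat.of k))) ⟶ G | ∃ p₀ : (𝟙_ (Over (Spec (CommRingCat.of k)))).left, g.left.base p₀ ∈ Set.range f.left.base} :
        Subgroup (𝟙_ (Over (Spec (CommRingCat.of k))) ⟶ G)) : Set (𝟙_ (Over (Spec (CommRingCat.of k))) ⟶ G)) := by
  exact main k G X f

end Groth.Agent.S6075
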