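import Groth.Statements.S5348
import Mathlib
import Groth.Agent.S0350
import Groth.Agent.S7517
import Groth.Agent.Lib.Helper95.ActionBasic
import Groth.Agent.Lib.Helper70.EtaleBirational
import Groth.Agent.Lib.Helper21.IrrCompImage

set_option autoImplicit false
set_option linter.style.haveILetI false
universe u
open CategoryTheory CategoryTheory.Limits MonoidalCategory CartesianMonoidalCategory MonObj GrpObj AlgebraicGeometry
open SGA3

namespace Groth.Agent.S5348
open TopologicalSpace
open Groth.Agent.S0350 Groth.Agent.Lib.Helper95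

section tr
variable {S : Scheme.{u}} {G X : Over S} [GrpObj G] (a : AlgGrp.Action G X)

/-- translation by a `T`-point of `G` on `X_T`. -/
noncomputable def tr {T : Over S} (g : T ⟶ G) : X ⊗ T ≅ X ⊗ T where
  hom := lift (psmul a (snd X T ≫ g) (fst X T)) (snd X T)
  inv := lift (psmul a (snd X T ≫ g)⁻¹ (fst X T)) (snd X T)
  hom_inv_id := by
    rw [comp_lift, comp_psmul, GrpObj.comp_inv, lift_snd_assoc, lift_fst, ← mul_psmul,
      inv_mul_cancel, one_psmul, lift_snd, lift_fst_snd]
  inv_hom_id := by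
    rw [comp_lift, comp_psmul, lift_snd_assoc, lift_fst, ← mul_psmul,
      mul_inv_cancel, one_psmul, lift_snd, lift_fst_snd]

lemma lift_tr {T : Over S} (g : T ⟶ G) (x : T ⟶ X) :
    lift x (𝟙 T) ≫ (tr a g).hom = lift (psmul a g x) (𝟙 T) := by
  rw [tr, comp_lift, comp_psmul, lift_snd_assoc, lift_fst, lift_snd, Category.id_comp]

end tr

section tower

theorem tower {X S T T' : Scheme.{u}} (f : X ⟶ S) (g : T ⟶ S) (h : T' ⟶ T) (g' : T' ⟶ S)
    (hg' : h ≫ g = g') (ρ : pullback f g' ⟶ pullback f g)
    (h1 : ρ ≫ pullback.fst f g = pullback.fst f g')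
    (h2 : ρ ≫ pullback.snd f g = pullback.snd f g' ≫ h) :
    IsPullback ρ (pullback.snd f g') (pullback.snd f g) h := by
  subst hg'
  refine IsPullback.of_right (h₁₂ := pullback.fst f g) (h₂₂ := g) (v₁₃ := f) ?_ h2
    (IsPullback.of_hasPullback f g)
  rw [h1]
  exact IsPullback.of_hasPullback f (h ≫ g)

/-- going up for generic points over an algebraically closed field. -/
theorem uniqueComp_of_isPullback {M : Type u} [Field M] [IsAlgClosed M] {W Y P : Scheme.{u}}
    [IrreducibleSpace Y]
    {f : W ⟶ Spec (CommRingCat.of M)} {hh : Y ⟶ Spec (CommRingCat.of M)} {ρ : P ⟶ W} {p : P ⟶ Y}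
    (sq : IsPullback ρ p f hh) (z : P)
    (hz : closure {ρ z} ∈ irreducibleComponents W) : UniqueComp z := by
  obtain ⟨Zs, i, hi, _⟩ := exists_subscheme (closure {ρ z}) isClosed_closure hz.1
  have : GeometricallyIrreducible (i ≫ f) := geomIrr_of_isAlgClosed _
  have hirr : IrreducibleSpace ↥(pullback (i ≫ f) hh) := inferInstance
  have sq2 : IsPullback (pullback.fst i ρ) (pullback.snd i ρ ≫ p) (i ≫ f) hh :=
    (((IsPullback.of_hasPullback i ρ).flip).paste_horiz sq.flip).flip
  have hirr2 : IrreducibleSpace ↥(pullback i ρ) :=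
    irreducibleSpace_of_surjective (Scheme.Hom.continuous sq2.isoPullback.inv)
      (Scheme.homeoOfIso sq2.isoPullback.symm).surjective
  have hpre : IsIrreducible (ρ ⁻¹' closure {ρ z}) := by
    rw [← hi, ← Scheme.Pullback.range_snd, ← Set.image_univ]
    exact (IrreducibleSpace.isIrreducible_univ _).image _
      (Scheme.Hom.continuous _).continuousOn
  have key : ∀ Z ∈ irreducibleComponents P, z ∈ Z → Z = ρ ⁻¹' closure {ρ z} := by
    intro Z hZ hzZ
    have hsub : Z ⊆ ρ ⁻¹' closure {ρ z} := by
      have h1 : IsIrreducible (closure (ρ '' Z)) :=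
        (hZ.1.image ρ (Scheme.Hom.continuous ρ).continuousOn).closure
      have h2 : closure {ρ z} ⊆ closure (ρ '' Z) :=
        closure_mono (Set.singleton_subset_iff.mpr ⟨z, hzZ, rfl⟩)
      have h3 : closure (ρ '' Z) ⊆ closure {ρ z} := hz.2 h1 h2
      intro w hw
      exact h3 (subset_closure ⟨w, hw, rfl⟩)
    exact Set.Subset.antisymm hsub (hZ.2 hpre hsub)
  intro Z hZ Z' hZ' hzZ hzZ'
  rw [key Z hZ hzZ, key Z' hZ' hzZ']

end tower

section main

theorem exists_geomPoint {Y : Scheme.{u}} (w : Y) : ∃ (N : Type u) (_ : Field N) (_ : IsAlgClosed N)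
    (c : Spec (CommRingCat.of N) ⟶ Y), ∀ p, c p = w := by
  refine ⟨AlgebraicClosure (Y.residueField w), inferInstance, inferInstance,
    Spec.map (CommRingCat.ofHom (algebraMap (Y.residueField w) _)) ≫ Y.fromSpecResidueField w, ?_⟩
  intro p
  rw [Scheme.Hom.comp_apply]
  exact Scheme.fromSpecResidueField_apply _ _

variable {k : Type u} [Field k] {G X : Over (Spec (CommRingCat.of k))} [GrpObj G]
  (a : AlgGrp.Action G X) (hΦ : Surjective (lift a.act (snd G X)).left)

include hΦ in
theorem uniqueComp_rat {M : Type u} [Field M] [IsAlgClosed M]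
    (gM : Spec (CommRingCat.of M) ⟶ Spec (CommRingCat.of k)) (y : Over.mk gM ⟶ X) :
    UniqueComp ((lift y (𝟙 (Over.mk gM))).left (IsLocalRing.closedPoint M)) := by
  haveI : Subsingleton ↥(Over.mk gM).left :=
    (inferInstance : Subsingleton (Spec (CommRingCat.of M)))
  haveI : IsIntegral (Over.mk gM).left := (inferInstance : IsIntegral (Spec (CommRingCat.of M)))
  obtain ⟨ys, hys⟩ : ∃ ys : (X ⊗ Over.mk gM).left,
    ys = (lift y (𝟙 (Over.mk gM))).left (IsLocalRing.closedPoint M) := ⟨_, rfl⟩
  rw [← hys]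
  have hZ := irreducibleComponent_mem_irreducibleComponents ys
  have hZcl : IsClosed (irreducibleComponent ys) := isClosed_irreducibleComponent
  have hζ : IsGenericPoint hZ.1.genericPoint (irreducibleComponent ys) :=
    hZ.1.isGenericPoint_genericPoint hZcl
  obtain ⟨ζ, hζdef⟩ : ∃ ζ, ζ = hZ.1.genericPoint := ⟨_, rfl⟩
  rw [← hζdef] at hζ
  obtain ⟨N, _, _, c, hc⟩ := exists_geomPoint ζ
  let TN : Over (Spec (CommRingCat.of k)) := Over.mk (c ≫ (X ⊗ Over.mk gM).hom)
  let cO : TN ⟶ X ⊗ Over.mk gM := Over.homMk c rfl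
  let ζN : TN ⟶ X := cO ≫ fst X (Over.mk gM)
  let hO : TN ⟶ Over.mk gM := cO ≫ snd X (Over.mk gM)
  let q : TN ⟶ X ⊗ X := lift ζN (hO ≫ y)
  let Φ : G ⊗ X ⟶ X ⊗ X := lift a.act (snd G X)
  have : Surjective Φ.left := hΦ
  obtain ⟨w, -⟩ := (pullback.snd Φ.left q.left).surjective (IsLocalRing.closedPoint N)
  obtain ⟨N', _, _, d, hd⟩ := exists_geomPoint w
  let TN' : Over (Spec (CommRingCat.of k)) := Over.mk (d ≫ pullback.snd Φ.left q.left ≫ TN.hom)
  let h'O : TN' ⟶ TN := Over.homMk (d ≫ pullback.snd Φ.left q.left) (by simp [TN'])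
  let rO : TN' ⟶ G ⊗ X := Over.homMk (d ≫ pullback.fst Φ.left q.left) (by
    show (d ≫ pullback.fst Φ.left q.left) ≫ (G ⊗ X).hom = d ≫ pullback.snd Φ.left q.left ≫ TN.hom
    rw [← Over.w Φ, ← Over.w q, Category.assoc, pullback.condition_assoc])
  have hr : rO ≫ Φ = h'O ≫ q := by
    apply Over.OverMorphism.ext
    show (d ≫ pullback.fst Φ.left q.left) ≫ Φ.left = (d ≫ pullback.snd Φ.left q.left) ≫ q.left
    rw [Category.assoc, Category.assoc, pullback.condition]
  let g : TN' ⟶ G := rO ≫ fst G X
  have h1 : rO ≫ a.act = h'O ≫ ζN := by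
    have := congr($hr ≫ fst X X)
    simpa [Φ, q] using this
  have h2 : rO ≫ snd G X = h'O ≫ hO ≫ y := by
    have := congr($hr ≫ snd X X)
    simpa [Φ, q] using this
  have hps : psmul a g (h'O ≫ hO ≫ y) = h'O ≫ ζN := by
    rw [← h2, ← h1, psmul, ← comp_lift, lift_fst_snd, Category.comp_id]
  let hh : TN' ⟶ Over.mk gM := h'O ≫ hO
  have hps' : psmul a g (hh ≫ y) = h'O ≫ ζN := by
    rw [← hps]; simp only [hh, Category.assoc]
  let ρO : X ⊗ TN' ⟶ X ⊗ Over.mk gM := lift (fst X TN') (snd X TN' ≫ hh)
  have sq : IsPullback ρO.left (snd X TN').left (snd X (Over.mk gM)).left hh.left :=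
    tower X.hom (Over.mk gM).hom hh.left TN'.hom (Over.w hh) ρO.left
      (by show (ρO ≫ fst X (Over.mk gM)).left = (fst X TN').left; rw [lift_fst])
      (by show (ρO ≫ snd X (Over.mk gM)).left = (snd X TN' ≫ hh).left; rw [lift_snd])
  obtain ⟨ys', hys'⟩ : ∃ ys' : (X ⊗ TN').left,
    ys' = (lift (hh ≫ y) (𝟙 TN')).left (IsLocalRing.closedPoint N') := ⟨_, rfl⟩
  obtain ⟨ζs', hζs'⟩ : ∃ ζs' : (X ⊗ TN').left,
    ζs' = (lift (h'O ≫ ζN) (𝟙 TN')).left (IsLocalRing.closedPoint N') := ⟨_, rfl⟩
  have hτ : (tr a g).hom.left ys' = ζs' := by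
    have := lift_tr a g (hh ≫ y)
    rw [hps'] at this
    rw [hys', hζs', ← this]
    rfl
  have hρζ : ρO.left ζs' = ζ := by
    have e1 : lift (h'O ≫ ζN) (𝟙 TN') ≫ ρO = h'O ≫ cO := by
      apply CartesianMonoidalCategory.hom_ext <;> simp [ρO, ζN, hO, hh]
    have := congr(($e1).left (IsLocalRing.closedPoint N'))
    rw [Over.comp_left, Over.comp_left, Scheme.Hom.comp_apply, Scheme.Hom.comp_apply] at this
    rw [hζs', this]
    exact hc _
  have hρy : ρO.left ys' = ys := by
    have e1 : lift (hh ≫ y) (𝟙 TN') ≫ ρO = hh ≫ lift y (𝟙 (Over.mk gM)) := by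
      apply CartesianMonoidalCategory.hom_ext <;> simp [ρO]
    have := congr(($e1).left (IsLocalRing.closedPoint N'))
    rw [Over.comp_left, Over.comp_left, Scheme.Hom.comp_apply, Scheme.Hom.comp_apply] at this
    rw [hys', this, hys]
    congr 1
    exact Subsingleton.elim _ _
  have hU1 : UniqueComp ζs' := by
    haveI : IrreducibleSpace TN'.left :=
      (inferInstance : IrreducibleSpace (Spec (CommRingCat.of N')))
    refine uniqueComp_of_isPullback (M := M) sq ζs' ?_
    rw [hρζ, hζ.def]
    exact hZ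
  have hU2 : UniqueComp ys' := by
    let φ : (X ⊗ TN').left ≅ (X ⊗ TN').left := (Over.forget _).mapIso (tr a g).symm
    have h := UniqueComp.of_generalizingMap (π := φ.hom) (Scheme.Hom.continuous _)
      (Scheme.homeoOfIso φ).isOpenEmbedding.generalizingMap hU1
    have e : φ.hom ζs' = ys' := by
      rw [← hτ]
      show ((tr a g).hom.left ≫ (tr a g).inv.left) ys' = ys'
      rw [← Over.comp_left, (tr a g).hom_inv_id]
      rfl
    rwa [e] at h
  have hflat : Flat ρO.left :=
    MorphismProperty.of_isPullback (P := @Flat) sq.flip (inferInstance : Flat hh.left)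
  have hU3 := UniqueComp.of_generalizingMap (π := ρO.left) (Scheme.Hom.continuous _)
    (Flat.generalizingMap _) hU2
  rwa [hρy] at hU3

include hΦ in
theorem uniqueComp_bc {K : Type u} [Field K]
    (gK : Spec (CommRingCat.of K) ⟶ Spec (CommRingCat.of k))
    (z : ↥(pullback X.hom gK)) : UniqueComp z := by
  obtain ⟨M, _, _, b, hb⟩ := exists_geomPoint z
  let gM : Spec (CommRingCat.of M) ⟶ Spec (CommRingCat.of k) := b ≫ pullback.snd X.hom gK ≫ gK
  let y : Over.mk gM ⟶ X := Over.homMk (b ≫ pullback.fst X.hom gK) (by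
    show (b ≫ pullback.fst X.hom gK) ≫ X.hom = b ≫ pullback.snd X.hom gK ≫ gK
    rw [Category.assoc, pullback.condition])
  have h0 := uniqueComp_rat a hΦ gM y
  let π : pullback X.hom gM ⟶ pullback X.hom gK :=
    pullback.lift (pullback.fst X.hom gM) (pullback.snd X.hom gM ≫ b ≫ pullback.snd X.hom gK)
      (by rw [pullback.condition]; simp [gM])
  have sq : IsPullback π (pullback.snd X.hom gM) (pullback.snd X.hom gK)
      (b ≫ pullback.snd X.hom gK) :=
    tower X.hom gK (b ≫ pullback.snd X.hom gK) gM (by simp [gM]) π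
      (pullback.lift_fst _ _ _) (pullback.lift_snd _ _ _)
  have hflat : Flat π := MorphismProperty.of_isPullback (P := @Flat) sq.flip inferInstance
  have h1 := UniqueComp.of_generalizingMap (π := π) (Scheme.Hom.continuous _)
    (Flat.generalizingMap _) h0
  have e : π ((lift y (𝟙 (Over.mk gM))).left (IsLocalRing.closedPoint M)) = z := by
    have hπ1 : π ≫ pullback.fst X.hom gK = pullback.fst X.hom gM := pullback.lift_fst _ _ _
    have hπ2 : π ≫ pullback.snd X.hom gK = pullback.snd X.hom gM ≫ b ≫ pullback.snd X.hom gK :=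
      pullback.lift_snd _ _ _
    have hy1 : (lift y (𝟙 (Over.mk gM))).left ≫ pullback.fst X.hom gM =
        b ≫ pullback.fst X.hom gK := by
      rw [Over.lift_left]; exact pullback.lift_fst _ _ _
    have hy2 : (lift y (𝟙 (Over.mk gM))).left ≫ pullback.snd X.hom gM = 𝟙 _ := by
      rw [Over.lift_left]; exact pullback.lift_snd _ _ _
    have e1 : (lift y (𝟙 (Over.mk gM))).left ≫ π = b := by
      apply pullback.hom_ext
      · rw [Category.assoc, hπ1, hy1]
      · rw [Category.assoc, hπ2, reassoc_of% hy2]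
    rw [← Scheme.Hom.comp_apply, e1]
    exact hb _
  rwa [e] at h1

include hΦ in
theorem uniqueComp_X (x₀ : X.left) : UniqueComp x₀ := by
  have h0 := uniqueComp_bc a hΦ (𝟙 (Spec (CommRingCat.of k)))
    ((inv (pullback.fst X.hom (𝟙 (Spec (CommRingCat.of k))))) x₀)
  have h1 := UniqueComp.of_generalizingMap
    (π := pullback.fst X.hom (𝟙 (Spec (CommRingCat.of k)))) (Scheme.Hom.continuous _)
    (Flat.generalizingMap _) h0
  rw [← Scheme.Hom.comp_apply, IsIso.inv_hom_id] at h1
  exact h1

include hΦ in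
theorem main_i (K : Type u) [Field K] [Algebra k K]
    (z : ↥(pullback X.hom (Spec.map (CommRingCat.ofHom (algebraMap k K))))) :
    ∃! C, C ∈ irreducibleComponents ↥(pullback X.hom (Spec.map (CommRingCat.ofHom (algebraMap k K))))
      ∧ z ∈ C := by
  refine ⟨irreducibleComponent z,
    ⟨irreducibleComponent_mem_irreducibleComponents _, mem_irreducibleComponent⟩, ?_⟩
  rintro Z ⟨hZ, hzZ⟩
  exact uniqueComp_bc a hΦ _ z Z hZ _ (irreducibleComponent_mem_irreducibleComponents _) hzZ
    mem_irreducibleComponent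

include hΦ in
theorem main_iv (x : 𝟙_ (Over (Spec (CommRingCat.of k))) ⟶ X)
    (pt : ↥(𝟙_ (Over (Spec (CommRingCat.of k)))).left) (C : Set X.left)
    (hC : C ∈ irreducibleComponents ↥X.left) (hx : x.left.base pt ∈ C)
    (K : Type u) [Field K] [Algebra k K] :
    IsIrreducible ((pullback.fst X.hom
      (Spec.map (CommRingCat.ofHom (algebraMap k K)))).base ⁻¹' C) := by
  let kbar := AlgebraicClosure k
  let g : Spec (CommRingCat.of kbar) ⟶ Spec (CommRingCat.of k) :=
    Spec.map (CommRingCat.ofHom (algebraMap k kbar))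
  let xl : Spec (CommRingCat.of k) ⟶ X.left := x.left
  have hxl : xl ≫ X.hom = 𝟙 _ := Over.w x
  let π : pullback X.hom g ⟶ X.left := pullback.fst X.hom g
  let e' : ↥(pullback X.hom g) :=
    (pullback.lift (g ≫ xl) (𝟙 _) (by rw [Category.assoc, hxl]; simp))
      (IsLocalRing.closedPoint kbar)
  have hπe : π e' = xl (g (IsLocalRing.closedPoint kbar)) := by
    show π ((pullback.lift (g ≫ xl) (𝟙 _) _) (IsLocalRing.closedPoint kbar)) = _
    rw [← Scheme.Hom.comp_apply, pullback.lift_fst, Scheme.Hom.comp_apply]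
  have hπe₀ : π e' = xl pt := by
    rw [hπe]; congr 1; exact Subsingleton.elim _ _
  have he : xl pt ∈ C := hx
  have hb : Function.Bijective (X.hom.residueFieldMap (π e')).hom :=
    Groth.Agent.S7517.bijective_residueFieldMap_of_section X.hom xl hxl _ _ hπe
  have hUG : UniqueComp (xl pt) := uniqueComp_X a hΦ _
  have hUH : ∀ x' : ↥(pullback X.hom g), UniqueComp x' := fun x' => uniqueComp_bc a hΦ g x'
  have hpre : π ⁻¹' C = irreducibleComponent e' := by
    apply Set.Subset.antisymm
    · intro x' hx'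
      have hC' := irreducibleComponent_mem_irreducibleComponents x'
      have himg : π '' irreducibleComponent x' ∈ irreducibleComponents X.left :=
        Groth.Agent.Lib.Helper21.image_mem_irreducibleComponents_of_isAlgebraic X.hom kbar _ hC'
      have heq : π '' irreducibleComponent x' = C :=
        uniqueComp_X a hΦ (π x') _ himg _ hC ⟨x', mem_irreducibleComponent, rfl⟩ hx'
      have : xl pt ∈ π '' irreducibleComponent x' := heq ▸ he
      obtain ⟨c', hc', hπc'⟩ := this
      have hce : c' = e' :=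
        Groth.Agent.Lib.Helper70.EtaleBirational.eq_of_fst_eq_of_snd_eq c' e'
          (hπc'.trans hπe₀.symm) (Subsingleton.elim _ _) hb
      rw [hce] at hc'
      have := hUH e' _ hC' _ (irreducibleComponent_mem_irreducibleComponents e') hc'
        mem_irreducibleComponent
      rw [← this]; exact mem_irreducibleComponent
    · intro z hz
      have hirr : IsIrreducible (π '' irreducibleComponent e') :=
        isIrreducible_irreducibleComponent.image _ (Scheme.Hom.continuous π).continuousOn
      obtain ⟨W, hW, hsub⟩ := exists_mem_irreducibleComponents_subset_of_isIrreducible _ hirr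
      have heW : xl pt ∈ W := hsub ⟨e', mem_irreducibleComponent, hπe₀⟩
      have := hUG W hW _ hC heW he
      rw [← this]
      exact hsub ⟨z, hz, rfl⟩
  have h0 : IsIrreducible (π ⁻¹' C) := hpre ▸ isIrreducible_irreducibleComponent
  exact Groth.Agent.Lib.Helper21.isIrreducible_preimage_of_isAlgClosed X.hom kbar C h0 K

include hΦ in
theorem main :
    (∀ (K : Type u) [Field K] [Algebra k K] (z : ↥(pullback X.hom (Spec.map (CommRingCat.ofHom (algebraMap k K))))),
      ∃! C, C ∈ irreducibleComponents ↥(pullback X.hom (Spec.map (CommRingCat.ofHom (algebraMap k K)))) ∧ z ∈ C) ∧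
    (∀ (x : 𝟙_ (Over (Spec (CommRingCat.of k))) ⟶ X) (pt : ↥(𝟙_ (Over (Spec (CommRingCat.of k)))).left) (C : Set X.left),
      C ∈ irreducibleComponents ↥X.left → x.left.base pt ∈ C →
      ∀ (K : Type u) [Field K] [Algebra k K],
        IsIrreducible ((pullback.fst X.hom (Spec.map (CommRingCat.ofHom (algebraMap k K)))).base ⁻¹' C)) :=
  ⟨fun K _ _ z => main_i a hΦ K z, fun x pt C hC hx K _ _ => main_iv a hΦ x pt C hC hx K⟩

end main


/-- Let G be a group scheme over a field k (not assumed of finite type) acting on a k-scheme X so that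
the morphism G ×_k X → X ×_k X, (g, x) ↦ (gx, x), is surjective. (i) For every field extension K of
k, every point of X ⊗_k K lies in exactly one irreducible component of X ⊗_k K. (iv) If x is a
k-rational point of X and C the irreducible component of X containing x, then for every field
extension K of k the inverse image of C in X ⊗_k K is irreducible. -/
theorem result (k : Type u) [Field k] (G X : Over (Spec (CommRingCat.of k))) [GrpObj G] (a : AlgGrp.Action G X) (hΦ : Surjective (lift a.act (snd G X)).left) :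
    (∀ (K : Type u) [Field K] [Algebra k K] (z : ↥(pullback X.hom (Spec.map (CommRingCat.ofHom (algebraMap k K))))),
      ∃! C, C ∈ irreducibleComponents ↥(pullback X.hom (Spec.map (CommRingCat.ofHom (algebraMap k K)))) ∧ z ∈ C) ∧
    (∀ (x : 𝟙_ (Over (Spec (CommRingCat.of k))) ⟶ X) (pt : ↥(𝟙_ (Over (Spec (CommRingCat.of k)))).left) (C : Set X.left),
      C ∈ irreducibleComponents ↥X.left → x.left.base pt ∈ C →
      ∀ (K : Type u) [Field K] [Algebra k K],
        IsIrreducible ((pullback.fst X.hom (Spec.map (CommRingCat.ofHom (algebraMap k K)))).base ⁻¹' C)) := by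
  exact main a hΦ

end Groth.Agent.S5348
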