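import Groth.Statements.S4196
import Groth.Agent.Lib.Helper21.AnTop

set_option autoImplicit false
open CategoryTheory AlgebraicGeometry Topology TopologicalSpace
open An

namespace Groth.Agent.S4196

/-- The direction from schemes to spaces: an open immersion f : X → Y of schemes locally of finite type
over ℂ, compatible with the structure morphisms, induces an open embedding X(ℂ) → Y(ℂ) of the
associated spaces of complex points. (The published converse concerns analytic spaces, not bare
topological spaces, and is not stated here.) -/
theorem result (X Y : Scheme.{0}) [X.Over An.SC] [LocallyOfFiniteType (X ↘ An.SC)]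
    [Y.Over An.SC] [LocallyOfFiniteType (Y ↘ An.SC)] (f : X ⟶ Y) [f.IsOver An.SC] [IsOpenImmersion f] :
    Topology.IsOpenEmbedding (An.Pts.map f) := by
  have hinj : Function.Injective (An.Pts.map f) :=
    Groth.Agent.Lib.Helper21.map_injective_of_mono f
  have hind : Topology.IsInducing (An.Pts.map f) := by
    apply Groth.Agent.Lib.Helper21.isInducing_map_of_local_lift
    intro x U s hxU
    refine ⟨f ''ᵁ U, (f.appIso U).inv s, ⟨x.pt, hxU, rfl⟩, (f.preimage_image_eq U).le, ?_⟩
    have := f.appIso_inv_app U
    have h2 := ConcreteCategory.congr_hom this s
    simp only [CommRingCat.comp_apply] at h2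
    rw [h2]
    rfl
  refine ⟨⟨hind, hinj⟩, ?_⟩
  rw [Groth.Agent.Lib.Helper21.range_map_of_injective f f.isOpenEmbedding.injective]
  exact An.Pts.isOpen_preimage_pt f.opensRange

end Groth.Agent.S4196
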