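import Groth.Statements.S4200
import Groth.Agent.Lib.Helper21.AnTop
import Mathlib.AlgebraicGeometry.Morphisms.ClosedImmersion

set_option autoImplicit false
open CategoryTheory AlgebraicGeometry Topology TopologicalSpace
open An

namespace Groth.Agent.S4200

/-- The direction from schemes to spaces: a closed immersion f : X → Y of schemes locally of finite type
over ℂ induces a closed embedding X(ℂ) → Y(ℂ). -/
theorem result (X Y : Scheme.{0}) [X.Over An.SC] [LocallyOfFiniteType (X ↘ An.SC)]
    [Y.Over An.SC] [LocallyOfFiniteType (Y ↘ An.SC)] (f : X ⟶ Y) [f.IsOver An.SC] [IsClosedImmersion f] :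
    Topology.IsClosedEmbedding (An.Pts.map f) := by
  have hinj : Function.Injective (An.Pts.map f) :=
    Groth.Agent.Lib.Helper21.map_injective_of_mono f
  have hemb : Topology.IsClosedEmbedding f.base := f.isClosedEmbedding
  have hind : Topology.IsInducing (An.Pts.map f) := by
    apply Groth.Agent.Lib.Helper21.isInducing_map_of_local_lift
    intro x U s hxU
    -- U is the preimage of an open U' of Y
    obtain ⟨U'set, hU'o, hU'eq⟩ := hemb.isInducing.isOpen_iff.1 U.2
    let U' : Y.Opens := ⟨U'set, hU'o⟩
    have hfx : f x.pt ∈ U' := by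
      have : x.pt ∈ f.base ⁻¹' U'set := by rw [hU'eq]; exact hxU
      exact this
    obtain ⟨W, hW, hxW, hWU⟩ := exists_isAffineOpen_mem_and_subset (x := f x.pt) (U := U') hfx
    have hle : f ⁻¹ᵁ W ≤ U := by
      intro z hz
      have h1 : f z ∈ U'set := hWU hz
      have h2 : z ∈ f.base ⁻¹' U'set := h1
      rw [hU'eq] at h2
      exact h2
    obtain ⟨t, ht⟩ := f.app_surjective W hW (X.presheaf.map (homOfLE hle).op s)
    exact ⟨W, t, hxW, hle, ht⟩
  refine ⟨⟨hind, hinj⟩, ?_⟩
  rw [Groth.Agent.Lib.Helper21.range_map_of_injective f hemb.injective]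
  exact hemb.isClosed_range.preimage An.Pts.continuous_pt

end Groth.Agent.S4200
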