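import Groth.Statements.S4183
import Groth.Agent.Lib.Helper63.AnAffine

set_option autoImplicit false
open CategoryTheory AlgebraicGeometry Topology TopologicalSpace
open An

namespace Groth.Agent.S4183

/-- For affine n-space over ℂ, the map sending a ℂ-point to the values of the n coordinate functions is
a homeomorphism from its space of ℂ-points, with the complex topology of this problem, onto ℂ^n with
its usual topology. -/
theorem result (n : ℕ) :
    IsHomeomorph (fun (x : An.Pts (𝔸(Fin n; An.SC))) (i : Fin n) => x.evTop (AffineSpace.coord An.SC i)) := by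
  classical
  let R : CommRingCat.{0} := CommRingCat.of ℂ
  have hiso : IsIso ((AffineSpace.SpecIso (Fin n) R).hom.appTop) := by
    have e1 : (AffineSpace.SpecIso (Fin n) R).hom.appTop ≫ (AffineSpace.SpecIso (Fin n) R).inv.appTop = 𝟙 _ := by
      rw [← Scheme.Hom.comp_appTop, Iso.inv_hom_id]
      rfl
    have e2 : (AffineSpace.SpecIso (Fin n) R).inv.appTop ≫ (AffineSpace.SpecIso (Fin n) R).hom.appTop = 𝟙 _ := by
      rw [← Scheme.Hom.comp_appTop, Iso.hom_inv_id]
      rfl
    exact ⟨_, e1, e2⟩
  have h1 := AffineSpace.SpecIso_hom_appTop (n := Fin n) R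
  have hiso2 : IsIso (CommRingCat.ofHom (MvPolynomial.eval₂Hom
      ((Scheme.ΓSpecIso R).inv ≫ (𝔸(Fin n; Spec R) ↘ Spec R).appTop).hom
      (AffineSpace.coord (Spec R)))) := by
    have h2 : CommRingCat.ofHom (MvPolynomial.eval₂Hom
      ((Scheme.ΓSpecIso R).inv ≫ (𝔸(Fin n; Spec R) ↘ Spec R).appTop).hom
      (AffineSpace.coord (Spec R))) = (Scheme.ΓSpecIso _).inv ≫
        (AffineSpace.SpecIso (Fin n) R).hom.appTop := by
      rw [h1, Iso.inv_hom_id_assoc]
    rw [h2]
    infer_instance
  have hbij : Function.Bijective (MvPolynomial.eval₂Hom (An.strHom (𝔸(Fin n; An.SC)))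
      (AffineSpace.coord An.SC)) := by
    have := (ConcreteCategory.isIso_iff_bijective _).1 hiso2
    exact this
  have hce := Groth.Agent.Lib.Helper63.AnAffine.isClosedEmbedding_of_generators
    (X := 𝔸(Fin n; An.SC)) (AffineSpace.coord An.SC) hbij.2
  rw [isHomeomorph_iff_isEmbedding_surjective]
  refine ⟨hce.isEmbedding, ?_⟩
  rw [← Set.range_eq_univ, Groth.Agent.Lib.Helper63.AnAffine.range_eq (AffineSpace.coord An.SC) hbij.2]
  rw [Set.eq_univ_iff_forall]
  intro v p hp
  have : p = 0 := by
    apply hbij.1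
    rw [map_zero]
    exact (RingHom.mem_ker).1 hp
  rw [this, map_zero]

end Groth.Agent.S4183
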