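import Groth.Statements.S12708
import Mathlib.RingTheory.SimpleModule.Basic
import Mathlib.RingTheory.FiniteLength
import Mathlib.RingTheory.LocalRing.MaximalIdeal.Basic

set_option autoImplicit false
universe u v
open CategoryTheory
open ArtFun

namespace Groth.Agent.S12708


/-- Λ-length of a simple module over a local Λ-algebra with residue field `k`. -/
lemma length_simple {Λ : Type*} {k : Type*} [CommRing Λ] [Field k] [Algebra Λ k]
    (A : Type*) [CommRing A] [Algebra Λ A] [IsLocalRing A] [Algebra A k] [IsScalarTower Λ A k]
    (hres : Function.Surjective (algebraMap A k))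
    (S : Type*) [AddCommGroup S] [Module A S] [Module Λ S] [IsScalarTower Λ A S]
    [IsSimpleModule A S] : Module.length Λ S = Module.length Λ k := by
  obtain ⟨I, hI, ⟨e⟩⟩ := isSimpleModule_iff_quot_maximal.mp (inferInstance : IsSimpleModule A S)
  have hIm : I = IsLocalRing.maximalIdeal A := IsLocalRing.eq_maximalIdeal hI
  have hker : LinearMap.ker (Algebra.linearMap A k) = I := by
    rw [hIm]
    ext a
    rw [LinearMap.mem_ker, Algebra.linearMap_apply]
    have := IsLocalRing.ker_eq_maximalIdeal (algebraMap A k) hres
    rw [← this, RingHom.mem_ker]
  let e2 : (A ⧸ LinearMap.ker (Algebra.linearMap A k)) ≃ₗ[A] k :=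
    (Algebra.linearMap A k).quotKerEquivOfSurjective hres
  let e3 : (A ⧸ I) ≃ₗ[A] (A ⧸ LinearMap.ker (Algebra.linearMap A k)) :=
    Submodule.quotEquivOfEq _ _ hker.symm
  let e4 : S ≃ₗ[A] k := e.trans (e3.trans e2)
  exact (e4.restrictScalars Λ).length_eq

/-- For Λ Noetherian with a finite map to a field k, A a local Λ-algebra whose residue field is k
(through a surjective Λ-algebra map A → k) and M an A-module, the length of M over Λ equals the
degree of k over the image of Λ times the length of M over A. The degree is written as the length of
k as a Λ-module, which is the same number; lengths are in ℕ∞. -/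
theorem result {Λ : Type u} {k : Type u} [CommRing Λ] [Field k] [Algebra Λ k]
    [IsNoetherianRing Λ] [Module.Finite Λ k]
    (A : Type u) [CommRing A] [Algebra Λ A] [IsLocalRing A] [Algebra A k] [IsScalarTower Λ A k]
    (hres : Function.Surjective (algebraMap A k))
    (M : Type v) [AddCommGroup M] [Module A M] [Module Λ M] [IsScalarTower Λ A M] :
    Module.length Λ k * Module.length A M = Module.length Λ M := by
  by_cases hfl : IsFiniteLength A M
  · -- induction on finite length
    have key : ∀ (M : Type v) [AddCommGroup M] [Module A M], IsFiniteLength A M →
        ∀ [Module Λ M] [IsScalarTower Λ A M],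
        Module.length Λ k * Module.length A M = Module.length Λ M := by
      intro M _ _ h
      induction h with
      | @of_subsingleton M _ _ _ =>
        intro _ _
        rw [Module.length_eq_zero (R := A) (M := M), Module.length_eq_zero (R := Λ) (M := M), mul_zero]
      | @of_simple_quotient M _ _ N _ hN ih =>
        intro _ _
        have h1 := ih
        have hA := Module.length_eq_add_of_exact N.subtype N.mkQ N.injective_subtype
          N.mkQ_surjective (LinearMap.exact_subtype_mkQ N)
        have hΛ := Module.length_eq_add_of_exact (N.subtype.restrictScalars Λ) (N.mkQ.restrictScalars Λ)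
          N.injective_subtype N.mkQ_surjective (LinearMap.exact_subtype_mkQ N)
        rw [hA, hΛ, Module.length_eq_one A (M ⧸ N), mul_add, mul_one, h1, length_simple A hres (M ⧸ N)]
    exact key M hfl
  · have hA : Module.length A M = ⊤ := by
      by_contra h
      exact hfl (Module.length_ne_top_iff.mp h)
    have hle : Module.length A M ≤ Module.length Λ M := by
      rw [← WithBot.coe_le_coe, Module.coe_length, Module.coe_length]
      exact Order.krullDim_le_of_strictMono _ (Submodule.restrictScalarsEmbedding Λ A M).strictMono
    have hΛ : Module.length Λ M = ⊤ := by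
      rw [hA] at hle
      exact top_le_iff.mp hle
    have hk : Module.length Λ k ≠ 0 := (Module.length_pos (R := Λ) (M := k)).ne'
    rw [hA, hΛ, ENat.mul_top hk]

end Groth.Agent.S12708
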