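import Groth.Statements.S12709
import Mathlib.RingTheory.HopkinsLevitzki
import Mathlib.RingTheory.Nakayama
import Mathlib.RingTheory.LocalRing.Quotient
import Mathlib.Tactic.TFAE

set_option autoImplicit false
universe u v
open CategoryTheory
open ArtFun ArtFun.Art

namespace Groth.Agent.S12709


/-- approximation step: if `A → B/J` is surjective with `J = map f I`, then any approximation
modulo `J^n` can be improved modulo `J^(n+1)` by a correction in `I^n`. -/
lemma approx_step {A B : Type*} [CommRing A] [CommRing B] (f : A →+* B) (I : Ideal A)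
    (hres : ∀ b : B, ∃ a : A, b - f a ∈ Ideal.map f I)
    (n : ℕ) (b : B) (a : A) (hba : b - f a ∈ (Ideal.map f I) ^ n) :
    ∃ a' ∈ I ^ n, b - f (a + a') ∈ (Ideal.map f I) ^ (n + 1) := by
  set J := Ideal.map f I with hJ
  have key : ∀ c ∈ Ideal.map f (I ^ n), ∃ a' ∈ I ^ n, c - f a' ∈ J ^ (n + 1) := by
    intro c hc
    refine Submodule.span_induction (p := fun c _ => ∃ a' ∈ I ^ n, c - f a' ∈ J ^ (n + 1))
      ?_ ?_ ?_ ?_ hc
    · rintro _ ⟨x, hx, rfl⟩
      exact ⟨x, hx, by simp⟩
    · exact ⟨0, zero_mem _, by simp⟩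
    · rintro c₁ c₂ _ _ ⟨a₁, ha₁, h₁⟩ ⟨a₂, ha₂, h₂⟩
      refine ⟨a₁ + a₂, add_mem ha₁ ha₂, ?_⟩
      have : c₁ + c₂ - f (a₁ + a₂) = (c₁ - f a₁) + (c₂ - f a₂) := by rw [map_add]; ring
      rw [this]
      exact add_mem h₁ h₂
    · rintro b' c _ ⟨a', ha', h'⟩
      obtain ⟨a0, ha0⟩ := hres b'
      refine ⟨a0 * a', Ideal.mul_mem_left _ _ ha', ?_⟩
      have hfa' : f a' ∈ J ^ n := by
        rw [hJ, ← Ideal.map_pow]
        exact Ideal.mem_map_of_mem _ ha'
      have hc : c ∈ J ^ n := by
        have : c = (c - f a') + f a' := by ring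
        rw [this]
        exact add_mem (Ideal.pow_le_pow_right (Nat.le_succ n) h') hfa'
      have : b' • c - f (a0 * a') = f a0 * (c - f a') + (b' - f a0) * c := by
        rw [smul_eq_mul, map_mul]; ring
      rw [this]
      refine add_mem (Ideal.mul_mem_left _ _ h') ?_
      rw [pow_succ']
      exact Ideal.mul_mem_mul ha0 hc
  rw [hJ, ← Ideal.map_pow] at hba
  obtain ⟨a', ha', h'⟩ := key _ hba
  refine ⟨a', ha', ?_⟩
  have : b - f (a + a') = b - f a - f a' := by rw [map_add]; ring
  rw [this]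
  exact h'

/-- Given a morphism f : A → B in the category of Artinian local Λ-algebras with residue field k, three
conditions coincide: (1) surjectivity of f; (2) f induces an onto map from the cotangent space of A
to the cotangent space of B, which in ideal-theoretic form says f(m_A)B + m_B² = m_B; (3) the
induced map on cotangent spaces relative to Λ is surjective, written as m_Λ B + f(m_A)B + m_B² = m_B
with m_Λ the kernel of Λ → k. -/
theorem result {Λ : Type u} {k : Type u} [CommRing Λ] [Field k] [Algebra Λ k]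
    [IsNoetherianRing Λ] [Module.Finite Λ k]
    {A B : ArtFun.Art Λ k} (f : A ⟶ B) :
    List.TFAE [Function.Surjective f,
      Ideal.map f.toAlgHom (IsLocalRing.maximalIdeal A) ⊔ IsLocalRing.maximalIdeal B ^ 2 = IsLocalRing.maximalIdeal B,
      Ideal.map (algebraMap Λ B) (RingHom.ker (algebraMap Λ k)) ⊔ Ideal.map f.toAlgHom (IsLocalRing.maximalIdeal A) ⊔
        IsLocalRing.maximalIdeal B ^ 2 = IsLocalRing.maximalIdeal B] := by
  classical
  have hmapA : Ideal.map f.toAlgHom (IsLocalRing.maximalIdeal A) ≤ IsLocalRing.maximalIdeal B := by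
    rw [Ideal.map_le_iff_le_comap]
    intro a ha
    rw [Ideal.mem_comap, ArtFun.Art.mem_maximalIdeal_iff]
    have := ArtFun.Art.res_app f a
    change B.res (f.toAlgHom a) = 0
    rw [this]
    exact (ArtFun.Art.mem_maximalIdeal_iff A a).mp ha
  have hΛ : Ideal.map (algebraMap Λ B) (RingHom.ker (algebraMap Λ k)) ≤
      Ideal.map f.toAlgHom (IsLocalRing.maximalIdeal A) := by
    rw [Ideal.map_le_iff_le_comap]
    intro l hl
    rw [Ideal.mem_comap]
    have h1 : algebraMap Λ B l = f.toAlgHom (algebraMap Λ A l) := (f.toAlgHom.commutes l).symm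
    rw [h1]
    apply Ideal.mem_map_of_mem
    rw [ArtFun.Art.mem_maximalIdeal_iff, AlgHom.commutes]
    exact hl
  have hsq : IsLocalRing.maximalIdeal B ^ 2 ≤ IsLocalRing.maximalIdeal B :=
    Ideal.pow_le_self two_ne_zero
  have h23 : Ideal.map (algebraMap Λ B) (RingHom.ker (algebraMap Λ k)) ⊔
      Ideal.map f.toAlgHom (IsLocalRing.maximalIdeal A) ⊔ IsLocalRing.maximalIdeal B ^ 2 =
      Ideal.map f.toAlgHom (IsLocalRing.maximalIdeal A) ⊔ IsLocalRing.maximalIdeal B ^ 2 := by
    rw [sup_eq_right.mpr hΛ]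
  tfae_have 1 → 2 := by
    intro hf
    apply le_antisymm (sup_le hmapA hsq)
    intro b hb
    obtain ⟨a, rfl⟩ := hf b
    apply Ideal.mem_sup_left
    apply Ideal.mem_map_of_mem
    rw [ArtFun.Art.mem_maximalIdeal_iff] at hb ⊢
    rw [← ArtFun.Art.res_app f a]
    exact hb
  tfae_have 2 → 3 := by
    intro h
    rw [h23, h]
  tfae_have 3 → 1 := by
    intro h
    rw [h23] at h
    -- Nakayama
    have hNoeth : IsNoetherianRing B := inferInstance
    have hmB : IsLocalRing.maximalIdeal B ≤ Ideal.map f.toAlgHom (IsLocalRing.maximalIdeal A) := by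
      apply Submodule.le_of_le_smul_of_le_jacobson_bot (I := IsLocalRing.maximalIdeal B)
        (IsNoetherian.noetherian _)
      · rw [IsLocalRing.jacobson_eq_maximalIdeal ⊥ bot_ne_top]
      · rw [smul_eq_mul, ← pow_two]
        exact h.ge
    have hJ : Ideal.map (f.toAlgHom : A →+* B) (IsLocalRing.maximalIdeal A) = IsLocalRing.maximalIdeal B :=
      le_antisymm hmapA hmB
    have hres : ∀ b : B, ∃ a : A, b - (f.toAlgHom : A →+* B) a ∈
        Ideal.map (f.toAlgHom : A →+* B) (IsLocalRing.maximalIdeal A) := by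
      intro b
      obtain ⟨a, ha⟩ := A.res_surjective (B.res b)
      refine ⟨a, ?_⟩
      rw [hJ, ArtFun.Art.mem_maximalIdeal_iff, map_sub]
      have := ArtFun.Art.res_app f a
      change B.res b - B.res (f.toAlgHom a) = 0
      rw [this, ha, sub_self]
    have happrox : ∀ n : ℕ, ∀ b : B, ∃ a : A, b - (f.toAlgHom : A →+* B) a ∈
        (Ideal.map (f.toAlgHom : A →+* B) (IsLocalRing.maximalIdeal A)) ^ n := by
      intro n
      induction n with
      | zero => intro b; exact ⟨0, by simp⟩
      | succ n ih =>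
        intro b
        obtain ⟨a, ha⟩ := ih b
        obtain ⟨a', _, h'⟩ := approx_step (f.toAlgHom : A →+* B) _ hres n b a ha
        exact ⟨a + a', h'⟩
    obtain ⟨N, hN⟩ := (isArtinianRing_iff_isNilpotent_maximalIdeal B).mp inferInstance
    intro b
    obtain ⟨a, ha⟩ := happrox N b
    rw [hJ, hN] at ha
    refine ⟨a, ?_⟩
    have : b - f.toAlgHom a = 0 := ha
    exact (sub_eq_zero.mp this).symm
  tfae_finish

end Groth.Agent.S12709
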