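import Groth.Statements.S3194
import Mathlib.Tactic
import Mathlib.Algebra.Homology.ShortComplex.ModuleCat
import Mathlib.LinearAlgebra.Dimension.Localization
import Mathlib.LinearAlgebra.Dimension.RankNullity
import Mathlib.RingTheory.PrincipalIdealDomain
-- import your own Groth.Agent.* helpers here

set_option autoImplicit false
universe u
open CategoryTheory
open SGA6

namespace Groth.Agent.S3194

section
variable (A : Type u) [CommRing A]

/-- the property -/
abbrev P : ObjectProperty (ModuleCat.{u} A) := fun M => Module.Finite A M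

variable {A}

theorem cl_eq (M : Type u) [AddCommGroup M] [Module A M] [h : Module.Finite A M] :
    KZero.clSub (P A) (ModuleCat.of A M) =
      QuotientAddGroup.mk (FreeAbelianGroup.of ⟨ModuleCat.of A M, h⟩) := by
  unfold KZero.clSub
  rw [dif_pos]

theorem rel {M N L : Type u} [AddCommGroup M] [Module A M] [AddCommGroup N] [Module A N]
    [AddCommGroup L] [Module A L] [hM : Module.Finite A M] [hN : Module.Finite A N]
    [hL : Module.Finite A L]
    (f : M →ₗ[A] N) (g : N →ₗ[A] L) (hex : Function.Exact f g) (hf : Function.Injective f)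
    (hg : Function.Surjective g) :
    KZero.clSub (P A) (ModuleCat.of A N) =
      KZero.clSub (P A) (ModuleCat.of A M) + KZero.clSub (P A) (ModuleCat.of A L) := by
  rw [cl_eq, cl_eq, cl_eq, ← QuotientAddGroup.mk_add, eq_comm, QuotientAddGroup.eq]
  have h0 : g.comp f = 0 := hex.linearMap_comp_eq_zero
  have hS : (ModuleCat.shortComplexOfCompEqZero f g h0).ShortExact :=
    ModuleCat.shortComplex_shortExact _ hex hf hg
  have : FreeAbelianGroup.of (⟨ModuleCat.of A N, hN⟩ : Subtype (P A)) -
      FreeAbelianGroup.of (⟨ModuleCat.of A M, hM⟩ : Subtype (P A)) -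
      FreeAbelianGroup.of (⟨ModuleCat.of A L, hL⟩ : Subtype (P A)) ∈ KZero.relSub (P A) :=
    AddSubgroup.subset_closure ⟨_, hM, hN, hL, hS, rfl⟩
  convert this using 1
  abel

theorem cl_zero (M : Type u) [AddCommGroup M] [Module A M] [Subsingleton M] :
    KZero.clSub (P A) (ModuleCat.of A M) = 0 := by
  have h := rel (A := A) (0 : M →ₗ[A] M) (0 : M →ₗ[A] M)
    (fun y => ⟨fun _ => ⟨0, Subsingleton.elim _ _⟩, fun _ => Subsingleton.elim _ _⟩)
    (fun x y _ => Subsingleton.elim _ _) (fun y => ⟨0, Subsingleton.elim _ _⟩)
  have h2 : KZero.clSub (P A) (ModuleCat.of A M) + 0 =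
      KZero.clSub (P A) (ModuleCat.of A M) + KZero.clSub (P A) (ModuleCat.of A M) := by
    rw [add_zero]; exact h
  exact (add_left_cancel h2).symm

theorem cl_iso {M N : Type u} [AddCommGroup M] [Module A M] [AddCommGroup N] [Module A N]
    [Module.Finite A M] [Module.Finite A N] (e : M ≃ₗ[A] N) :
    KZero.clSub (P A) (ModuleCat.of A M) = KZero.clSub (P A) (ModuleCat.of A N) := by
  have h := rel (A := A) (0 : PUnit.{u+1} →ₗ[A] M) (e : M →ₗ[A] N)
    (fun y => by
      constructor
      · intro hy
        refine ⟨0, ?_⟩
        have : y = 0 := e.injective (by simpa using hy)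
        simp [this]
      · rintro ⟨x, rfl⟩
        simp)
    (fun x y _ => Subsingleton.elim _ _) e.surjective
  rw [h, cl_zero, zero_add]

variable [IsDomain A] [IsPrincipalIdealRing A]

theorem cl_cyclic (Q : Type u) [AddCommGroup Q] [Module A Q] [Module.Finite A Q]
    (π : A →ₗ[A] Q) (hπ : Function.Surjective π) :
    ∃ k : ℤ, KZero.clSub (P A) (ModuleCat.of A Q) = k • KZero.clSub (P A) (ModuleCat.of A A) := by
  obtain ⟨a, ha⟩ : ∃ a : A, LinearMap.ker π = Ideal.span {a} :=
    ⟨_, (Submodule.IsPrincipal.span_singleton_generator (LinearMap.ker π)).symm⟩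
  by_cases h0 : a = 0
  · subst h0
    have hinj : Function.Injective π := by
      rw [← LinearMap.ker_eq_bot, ha]
      simp
    refine ⟨1, ?_⟩
    rw [one_smul]
    exact (cl_iso (LinearEquiv.ofBijective π ⟨hinj, hπ⟩)).symm
  · refine ⟨0, ?_⟩
    rw [zero_smul]
    have h := rel (A := A) (LinearMap.mulLeft A a) π
      (fun y => by
        rw [← LinearMap.mem_ker, ha, Ideal.mem_span_singleton']
        constructor
        · rintro ⟨c, rfl⟩
          exact ⟨c, by simp [mul_comm]⟩
        · rintro ⟨c, rfl⟩
          exact ⟨c, by simp [mul_comm]⟩)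
      (fun x y hxy => mul_left_cancel₀ h0 (by simpa using hxy)) hπ
    have h2 : KZero.clSub (P A) (ModuleCat.of A A) + 0 =
        KZero.clSub (P A) (ModuleCat.of A A) + KZero.clSub (P A) (ModuleCat.of A Q) := by
      rw [add_zero]; exact h
    exact (add_left_cancel h2).symm

theorem cl_gen : ∀ (n : ℕ) (M : Type u) [AddCommGroup M] [Module A M] [Module.Finite A M]
    (s : Fin n → M), Submodule.span A (Set.range s) = ⊤ →
    ∃ k : ℤ, KZero.clSub (P A) (ModuleCat.of A M) = k • KZero.clSub (P A) (ModuleCat.of A A) := by
  intro n
  induction n with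
  | zero =>
    intro M _ _ _ s hs
    have : Subsingleton M := by
      have : (⊤ : Submodule A M) = ⊥ := by
        rw [← hs]
        simp
      exact (Submodule.subsingleton_iff A).1 (subsingleton_of_bot_eq_top this.symm)
    exact ⟨0, by rw [cl_zero, zero_smul]⟩
  | succ n ih =>
    intro M _ _ _ s hs
    let N : Submodule A M := Submodule.span A (Set.range (Fin.tail s))
    have hN : Module.Finite A N := inferInstance
    have hQ : Module.Finite A (M ⧸ N) := inferInstance
    -- generators of N
    let t : Fin n → N := fun i => ⟨s i.succ, Submodule.subset_span ⟨i, rfl⟩⟩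
    have ht : Submodule.span A (Set.range t) = ⊤ := by
      apply Submodule.map_injective_of_injective N.injective_subtype
      rw [Submodule.map_span, Submodule.map_subtype_top, ← Set.range_comp]
      rfl
    obtain ⟨k₁, hk₁⟩ := ih N t ht
    -- cyclic quotient
    let π : A →ₗ[A] (M ⧸ N) := LinearMap.toSpanSingleton A (M ⧸ N) (N.mkQ (s 0))
    have hπ : Function.Surjective π := by
      rw [← LinearMap.range_eq_top]
      have : (LinearMap.range π).comap N.mkQ = ⊤ := by
        rw [eq_top_iff, ← hs, Submodule.span_le]
        rintro _ ⟨i, rfl⟩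
        refine Fin.cases ?_ (fun j => ?_) i
        · exact ⟨1, by simp [π]⟩
        · refine ⟨0, ?_⟩
          have : N.mkQ (s j.succ) = 0 := by
            rw [Submodule.mkQ_apply, Submodule.Quotient.mk_eq_zero]
            exact Submodule.subset_span ⟨j, rfl⟩
          simp [this]
      rw [eq_top_iff]
      intro y _
      obtain ⟨m, rfl⟩ := N.mkQ_surjective y
      have : m ∈ (LinearMap.range π).comap N.mkQ := by rw [this]; trivial
      exact this
    obtain ⟨k₂, hk₂⟩ := cl_cyclic (M ⧸ N) π hπ
    have h := rel (A := A) N.subtype N.mkQ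
      (fun y => by
        rw [Submodule.mkQ_apply, Submodule.Quotient.mk_eq_zero]
        simp)
      N.injective_subtype N.mkQ_surjective
    exact ⟨k₁ + k₂, by rw [h, hk₁, hk₂, add_smul]⟩

theorem cl_all (M : Type u) [AddCommGroup M] [Module A M] [Module.Finite A M] :
    ∃ k : ℤ, KZero.clSub (P A) (ModuleCat.of A M) = k • KZero.clSub (P A) (ModuleCat.of A A) := by
  obtain ⟨n, s, hs⟩ := Module.Finite.exists_fin (R := A) (M := M)
  exact cl_gen n M s hs

/-- the rank homomorphism -/
noncomputable def rho : KZero.K0sub (P A) →+ ℤ :=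
  QuotientAddGroup.lift (KZero.relSub (P A))
    (FreeAbelianGroup.lift (fun X : Subtype (P A) => (Module.finrank A X.1 : ℤ)))
    (by
      unfold KZero.relSub
      rw [AddSubgroup.closure_le]
      rintro _ ⟨S, h₁, h₂, h₃, hS, rfl⟩
      simp only [SetLike.mem_coe, AddMonoidHom.mem_ker, map_sub, FreeAbelianGroup.lift_apply_of]
      have : Module.Finite A S.X₂ := h₂
      have hinj := hS.moduleCat_injective_f
      have hsurj := hS.moduleCat_surjective_g
      have hex := (ShortComplex.ShortExact.moduleCat_exact_iff_function_exact S).1 hS.exact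
      have e1 := Submodule.finrank_quotient_add_finrank (LinearMap.ker S.g.hom)
      have e2 : Module.finrank A (S.X₂ ⧸ LinearMap.ker S.g.hom) = Module.finrank A S.X₃ :=
        LinearEquiv.finrank_eq (S.g.hom.quotKerEquivOfSurjective hsurj)
      have e3 : Module.finrank A (LinearMap.ker S.g.hom) = Module.finrank A S.X₁ := by
        have : LinearMap.ker S.g.hom = LinearMap.range S.f.hom := by
          ext y
          rw [LinearMap.mem_ker, LinearMap.mem_range]
          exact hex y
        rw [this]
        exact (LinearEquiv.finrank_eq (LinearEquiv.ofInjective S.f.hom hinj)).symm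
      rw [e2, e3] at e1
      omega)

theorem rho_cl (M : Type u) [AddCommGroup M] [Module A M] [Module.Finite A M] :
    rho (KZero.clSub (P A) (ModuleCat.of A M)) = Module.finrank A M := by
  rw [cl_eq]
  simp [rho]

end

/-- Let A be a principal ideal domain and K_•(Spec A) = K₀ of the category of finitely generated
A-modules (free abelian group on finitely generated modules modulo short exact sequences). The
homomorphism ℤ ⟶ K_•(Spec A) sending k to k·[A] is bijective. -/
theorem result (A : Type u) [CommRing A] [IsDomain A] [IsPrincipalIdealRing A] :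
    Function.Bijective (fun k : ℤ => k • KZero.clSub (fun M : ModuleCat.{u} A => Module.Finite A M) (ModuleCat.of A A)) := by
  constructor
  · intro k k' h
    have h' := congrArg rho h
    simp only [map_zsmul] at h'
    rw [rho_cl, Module.finrank_self] at h'
    simpa using h'
  · intro x
    induction x using QuotientAddGroup.induction_on with
    | H z =>
      induction z using FreeAbelianGroup.induction_on with
      | zero => exact ⟨0, by simp⟩
      | of X =>
        obtain ⟨M, hM⟩ := X
        have : Module.Finite A M := hM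
        obtain ⟨k, hk⟩ := cl_all (A := A) M
        refine ⟨k, ?_⟩
        change k • KZero.clSub (P A) (ModuleCat.of A A) = _
        rw [← hk]
        exact cl_eq (A := A) M
      | neg X hX =>
        obtain ⟨k, hk⟩ := hX
        exact ⟨-k, by simp only [neg_smul, hk, QuotientAddGroup.mk_neg]⟩
      | add X Y hX hY =>
        obtain ⟨k, hk⟩ := hX
        obtain ⟨k', hk'⟩ := hY
        exact ⟨k + k', by simp only [add_smul, hk, hk', QuotientAddGroup.mk_add]⟩

end Groth.Agent.S3194
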