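import Groth.Statements.S12707
import Groth.Prelude.Def_ArtFun3
import Mathlib.RingTheory.HopkinsLevitzki
import Mathlib.RingTheory.Nakayama
import Mathlib.RingTheory.LocalRing.Quotient

set_option autoImplicit false
universe u v
open CategoryTheory
open ArtFun ArtFun.Art

namespace Groth.Agent.S12707


open ArtFun ArtFun.Art

variable {Λ : Type u} {k : Type u} [CommRing Λ] [Field k] [Algebra Λ k]

/-- the kernel of a morphism lies in the maximal ideal -/
lemma ker_le_maximalIdeal {A B : Art Λ k} (f : B ⟶ A) :
    RingHom.ker f.toAlgHom ≤ IsLocalRing.maximalIdeal B := by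
  intro a ha
  rw [Art.mem_maximalIdeal_iff, ← Art.res_app f a]
  have : f.toAlgHom a = 0 := ha
  change A.res (f.toAlgHom a) = 0
  rw [this, map_zero]

/-- a bijective morphism of `Art` is an isomorphism -/
lemma isIso_of_bijective {A B : Art Λ k} (f : B ⟶ A) (hf : Function.Bijective f) : IsIso f := by
  let e : B ≃ₐ[Λ] A := AlgEquiv.ofBijective f.toAlgHom hf
  have he : ∀ b, e b = f b := fun b => rfl
  refine ⟨⟨⟨(e.symm : A →ₐ[Λ] B), ?_⟩, ?_, ?_⟩⟩
  · apply AlgHom.ext
    intro a
    obtain ⟨b, rfl⟩ := hf.2 a
    change B.res (e.symm (e b)) = A.res (f b)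
    rw [AlgEquiv.symm_apply_apply, Art.res_app]
  · apply Art.hom_ext
    apply AlgHom.ext
    intro b
    change e.symm (e b) = b
    exact AlgEquiv.symm_apply_apply e b
  · apply Art.hom_ext
    apply AlgHom.ext
    intro a
    change e (e.symm a) = a
    exact AlgEquiv.apply_symm_apply e a

/-- In the category of Artinian local Λ-algebras with residue field k (Λ Noetherian, Λ → k finite),
every surjective morphism is a composite of small extensions. Stated as the equivalent induction
principle: a property of morphisms that holds for isomorphisms and for small extensions and is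
stable under composition holds for every surjective morphism. -/
theorem result {Λ : Type u} {k : Type u} [CommRing Λ] [Field k] [Algebra Λ k]
    [IsNoetherianRing Λ] [Module.Finite Λ k]
    (P : ∀ ⦃A B : ArtFun.Art Λ k⦄, (B ⟶ A) → Prop)
    (hiso : ∀ ⦃A B : ArtFun.Art Λ k⦄ (e : B ⟶ A), IsIso e → P e)
    (hsmall : ∀ ⦃A B : ArtFun.Art Λ k⦄ (p : B ⟶ A), ArtFun.Art.IsSmallExt p → P p)
    (hcomp : ∀ ⦃A B C : ArtFun.Art Λ k⦄ (p : C ⟶ B) (q : B ⟶ A), P p → P q → P (p ≫ q))
    ⦃A B : ArtFun.Art Λ k⦄ (f : B ⟶ A) (hf : Function.Surjective f) : P f := by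
  classical
  set K : Ideal B := RingHom.ker f.toAlgHom with hK
  have hKm : K ≤ IsLocalRing.maximalIdeal B := ker_le_maximalIdeal f
  have hNoeth : IsNoetherianRing B := inferInstance
  -- main claim by well-founded induction on ideals (descending from K)
  have claim : ∀ J : Ideal B, ∀ hJK : J ≤ K, P (Art.quotFactor (hJK.trans hKm) f hJK) := by
    intro J
    induction J using WellFoundedGT.induction with
    | ind J IH =>
    intro hJK
    by_cases hJeq : J = K
    · -- bijective
      apply hiso
      apply isIso_of_bijective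
      constructor
      · intro x y hxy
        obtain ⟨a, rfl⟩ := Ideal.Quotient.mk_surjective x
        obtain ⟨b, rfl⟩ := Ideal.Quotient.mk_surjective y
        have h1 : f.toAlgHom a = f.toAlgHom b := hxy
        have h2 : a - b ∈ K := by
          rw [hK, RingHom.mem_ker, map_sub, h1, sub_self]
        rw [← hJeq] at h2
        exact (Ideal.Quotient.eq).mpr h2
      · intro a
        obtain ⟨b, rfl⟩ := hf a
        exact ⟨Ideal.Quotient.mk J b, rfl⟩
    · -- choose J' minimal with J < J' ≤ K
      have hJlt : J < K := lt_of_le_of_ne hJK hJeq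
      have hArt : IsArtinian B B := inferInstance
      obtain ⟨J', ⟨hJJ', hJ'K⟩, hmin⟩ :=
        (wellFounded_lt (α := Ideal B)).has_min {I : Ideal B | J < I ∧ I ≤ K} ⟨K, hJlt, le_rfl⟩
      have hJ'm : J' ≤ IsLocalRing.maximalIdeal B := hJ'K.trans hKm
      have hJm : J ≤ IsLocalRing.maximalIdeal B := hJK.trans hKm
      -- m J' ≤ J
      have hmJ' : IsLocalRing.maximalIdeal B • J' ≤ J := by
        by_contra hcon
        have h1 : J < J ⊔ IsLocalRing.maximalIdeal B • J' := by
          refine lt_of_le_of_ne le_sup_left ?_
          intro heq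
          apply hcon
          rw [heq]
          exact le_sup_right
        have h2 : J ⊔ IsLocalRing.maximalIdeal B • J' ≤ J' :=
          sup_le hJJ'.le Submodule.smul_le_right
        have h3 : J ⊔ IsLocalRing.maximalIdeal B • J' ≤ K := h2.trans hJ'K
        have h4 : ¬ (J ⊔ IsLocalRing.maximalIdeal B • J' < J') := hmin _ ⟨h1, h3⟩
        have h5 : J ⊔ IsLocalRing.maximalIdeal B • J' = J' := by
          by_contra hne
          exact h4 (lt_of_le_of_ne h2 hne)
        have h6 : J' ≤ J := by
          apply Submodule.le_of_le_smul_of_le_jacobson_bot (I := IsLocalRing.maximalIdeal B)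
            (IsNoetherian.noetherian J')
          · rw [IsLocalRing.jacobson_eq_maximalIdeal ⊥ bot_ne_top]
          · exact h5.ge
        exact absurd hJJ' (not_lt_of_ge h6)
      -- pick t ∈ J' \ J
      obtain ⟨t, htJ', htJ⟩ := SetLike.exists_of_lt hJJ'
      have hJ'eq : J' = J ⊔ Ideal.span {t} := by
        have h1 : J < J ⊔ Ideal.span {t} := by
          refine lt_of_le_of_ne le_sup_left ?_
          intro heq
          apply htJ
          rw [heq]
          exact Ideal.mem_sup_right (Ideal.subset_span rfl)
        have h2 : J ⊔ Ideal.span {t} ≤ J' :=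
          sup_le hJJ'.le ((Ideal.span_singleton_le_iff_mem _).mpr htJ')
        have h4 : ¬ (J ⊔ Ideal.span {t} < J') := hmin _ ⟨h1, h2.trans hJ'K⟩
        by_contra hne
        exact h4 (lt_of_le_of_ne h2 (Ne.symm hne))
      -- the small extension B/J → B/J'
      have hle : J ≤ RingHom.ker (Art.quotMk B J' hJ'm).toAlgHom := by
        intro x hx
        rw [RingHom.mem_ker]
        exact Ideal.Quotient.eq_zero_iff_mem.mpr (hJJ'.le hx)
      let p : Art.quot B J hJm ⟶ Art.quot B J' hJ'm := Art.quotFactor hJm (Art.quotMk B J' hJ'm) hle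
      have hpker : RingHom.ker p.toAlgHom = J'.map (Ideal.Quotient.mk J) := by
        ext x
        obtain ⟨b, rfl⟩ := Ideal.Quotient.mk_surjective x
        rw [RingHom.mem_ker]
        change Ideal.Quotient.mk J' b = 0 ↔ _
        rw [Ideal.Quotient.eq_zero_iff_mem]
        constructor
        · intro hb
          exact Ideal.mem_map_of_mem _ hb
        · intro hb
          obtain ⟨c, hc, hcb⟩ := (Ideal.mem_map_iff_of_surjective (Ideal.Quotient.mk J)
            Ideal.Quotient.mk_surjective).mp hb
          have : c - b ∈ J := (Ideal.Quotient.eq).mp hcb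
          have hb' : b = c - (c - b) := by ring
          rw [hb']
          exact J'.sub_mem hc (hJJ'.le this)
      have hsmall_p : Art.IsSmallExt p := by
        refine ⟨?_, ?_, ?_, ?_⟩
        · intro y
          obtain ⟨b, rfl⟩ := Ideal.Quotient.mk_surjective y
          exact ⟨Ideal.Quotient.mk J b, rfl⟩
        · rw [hpker]
          intro hbot
          apply htJ
          have : Ideal.Quotient.mk J t ∈ J'.map (Ideal.Quotient.mk J) := Ideal.mem_map_of_mem _ htJ'
          rw [hbot] at this
          exact Ideal.Quotient.eq_zero_iff_mem.mp (Ideal.mem_bot.mp this)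
        · rw [hpker, hJ'eq, Ideal.map_sup, Ideal.map_quotient_self, bot_sup_eq, Ideal.map_span,
            Set.image_singleton]
          exact ⟨⟨_, rfl⟩⟩
        · rw [hpker, eq_bot_iff, Ideal.mul_le]
          intro x hx y hy
          obtain ⟨a, rfl⟩ := Ideal.Quotient.mk_surjective x
          have ha : a ∈ IsLocalRing.maximalIdeal B :=
            (IsLocalRing.mem_maximalIdeal a).mpr
              (fun hu => (IsLocalRing.mem_maximalIdeal _).mp hx (hu.map (Ideal.Quotient.mk J)))
          obtain ⟨c, hc, rfl⟩ := (Ideal.mem_map_iff_of_surjective (Ideal.Quotient.mk J)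
            Ideal.Quotient.mk_surjective).mp hy
          have hac : a * c ∈ J := hmJ' (Submodule.smul_mem_smul ha hc)
          have h0 : Ideal.Quotient.mk J (a * c) = 0 := Ideal.Quotient.eq_zero_iff_mem.mpr hac
          have h1 : Ideal.Quotient.mk J a * Ideal.Quotient.mk J c = 0 := by
            rw [← map_mul, h0]
          exact Ideal.mem_bot.mpr h1
      have hPp : P p := hsmall p hsmall_p
      have hPq := IH J' hJJ' hJ'K
      have hfac : Art.quotFactor hJm f hJK = p ≫ Art.quotFactor hJ'm f hJ'K := by
        apply Art.hom_ext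
        apply AlgHom.ext
        intro x
        obtain ⟨b, rfl⟩ := Ideal.Quotient.mk_surjective x
        rfl
      rw [hfac]
      exact hcomp _ _ hPp hPq
  -- conclude with J = ⊥
  have hbot := claim ⊥ bot_le
  have hmk : P (Art.quotMk B ⊥ bot_le) := by
    apply hiso
    apply isIso_of_bijective
    constructor
    · intro x y hxy
      have : Ideal.Quotient.mk (⊥ : Ideal B) x = Ideal.Quotient.mk ⊥ y := hxy
      rw [Ideal.Quotient.eq, Ideal.mem_bot, sub_eq_zero] at this
      exact this
    · exact Art.quotMk_surjective B ⊥ bot_le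
  have := hcomp _ _ hmk hbot
  rwa [Art.quotMk_quotFactor] at this

end Groth.Agent.S12707
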