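import Groth.Statements.S12720
import Mathlib.RingTheory.AdicCompletion.RingHom

set_option autoImplicit false
universe u v
open CategoryTheory
open ArtFun

namespace Groth.Agent.S12720

/-- For functors, let F be a functor on Artinian local Λ-algebras with residue field k with F(k) a
point, and ξ a versal family of F over a complete local Noetherian R with residue field k. Then
every formal element η of F over a complete local Noetherian S with residue field k is induced from
ξ: there is a morphism g : R → S (over Λ, compatible with the augmentations) such that the family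
obtained from ξ by composing with g has formal element η. -/
theorem result {Λ : Type u} {k : Type u} [CommRing Λ] [Field k] [Algebra Λ k]
    [IsNoetherianRing Λ] [Module.Finite Λ k]
    {F : ArtFun.Art Λ k ⥤ Type v} (h0 : ArtFun.H0 F)
    (R : ArtFun.CRing Λ k) (ξ : ArtFun.Family R.carrier R.res F) (hξ : ArtFun.IsVersal ξ)
    (S : ArtFun.CRing Λ k) (η : ArtFun.FormalElt F S) :
    ∃ (g : R.carrier →ₐ[Λ] S.carrier) (hg : S.res.comp g = R.res), (ξ.along g hg).toFormalElt = η := by
  classical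
  obtain ⟨hne, hsub⟩ := h0
  haveI : IsAdicComplete (IsLocalRing.maximalIdeal S.carrier) S.carrier := S.isAdicComplete
  -- the inductive system of lifts
  let T : ℕ → Type u := fun n =>
    {ψ : ArtFun.HomSet R.carrier R.res (S.trunc n) // ξ.app (S.trunc n) ψ = η.elt n}
  have h0ex : ∃ ψ : ArtFun.HomSet R.carrier R.res (S.trunc 0), ξ.app (S.trunc 0) ψ = η.elt 0 := by
    let φ₀ : ArtFun.HomSet R.carrier R.res (ArtFun.Art.base Λ k) := ⟨R.res, AlgHom.id_comp _⟩
    have hbase : Function.Surjective (ArtFun.Art.toBase (S.trunc 0)) := (S.trunc 0).res_surjective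
    obtain ⟨ψ, -, hψ⟩ := hξ (ArtFun.Art.toBase (S.trunc 0)) hbase φ₀ (η.elt 0) (Subsingleton.elim _ _)
    exact ⟨ψ, hψ⟩
  have hstep : ∀ (n : ℕ) (ψ : T n), ∃ ψ' : ArtFun.HomSet R.carrier R.res (S.trunc (n + 1)),
      ArtFun.HomSet.map (S.truncMap n) ψ' = ψ.1 ∧ ξ.app (S.trunc (n + 1)) ψ' = η.elt (n + 1) := by
    intro n ψ
    have hsurj : Function.Surjective (S.truncMap n) := by
      intro x
      obtain ⟨s, rfl⟩ := Ideal.Quotient.mk_surjective x
      exact ⟨Ideal.Quotient.mk _ s, rfl⟩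
    exact hξ (S.truncMap n) hsurj ψ.1 (η.elt (n + 1)) (by rw [η.compat, ψ.2])
  let Ψ : ∀ n, T n := fun n => Nat.rec ⟨Classical.choose h0ex, Classical.choose_spec h0ex⟩
    (fun n ψ => ⟨Classical.choose (hstep n ψ), (Classical.choose_spec (hstep n ψ)).2⟩) n
  have hΨsucc : ∀ n, ArtFun.HomSet.map (S.truncMap n) (Ψ (n + 1)).1 = (Ψ n).1 := by
    intro n
    exact (Classical.choose_spec (hstep n (Ψ n))).1
  -- elementwise compatibility
  have hcompat1 : ∀ (n : ℕ) (r : R.carrier),
      Ideal.Quotient.factor (Ideal.pow_le_pow_right (Nat.le_succ (n + 1)))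
        ((Ψ (n + 1)).1.1 r) = (Ψ n).1.1 r := by
    intro n r
    have := congrArg (fun x : ArtFun.HomSet R.carrier R.res (S.trunc n) => x.1 r) (hΨsucc n)
    simp only [ArtFun.HomSet.map, AlgHom.comp_apply] at this
    rw [← this]
    obtain ⟨s, hs⟩ := Ideal.Quotient.mk_surjective ((Ψ (n + 1)).1.1 r)
    rw [← hs]
    rfl
  have hcompat : ∀ (m n : ℕ) (hmn : m ≤ n) (r : R.carrier),
      Ideal.Quotient.factor (Ideal.pow_le_pow_right (Nat.succ_le_succ hmn))
        ((Ψ n).1.1 r) = (Ψ m).1.1 r := by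
    intro m n hmn r
    induction n, hmn using Nat.le_induction with
    | base =>
      obtain ⟨s, hs⟩ := Ideal.Quotient.mk_surjective ((Ψ m).1.1 r)
      rw [← hs]
      rfl
    | succ n hmn ih =>
      rw [← ih, ← hcompat1 n r]
      obtain ⟨s, hs⟩ := Ideal.Quotient.mk_surjective ((Ψ (n + 1)).1.1 r)
      rw [← hs]
      rfl
  -- the compatible family of algebra maps R → S / m^n
  let f : (n : ℕ) → R.carrier →ₐ[Λ] S.carrier ⧸ (IsLocalRing.maximalIdeal S.carrier) ^ n :=
    fun n => (Ideal.Quotient.factorₐ Λ (Ideal.pow_le_pow_right (Nat.le_succ n))).comp (Ψ n).1.1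
  have hf : ∀ {m n : ℕ} (hle : m ≤ n),
      (Ideal.Quotient.factorₐ Λ (Ideal.pow_le_pow_right hle)).comp (f n) = f m := by
    intro m n hle
    apply AlgHom.ext
    intro r
    have h := hcompat m n hle r
    obtain ⟨s, hs⟩ := Ideal.Quotient.mk_surjective ((Ψ n).1.1 r)
    obtain ⟨t, ht⟩ := Ideal.Quotient.mk_surjective ((Ψ m).1.1 r)
    show (Ideal.Quotient.factorₐ Λ (Ideal.pow_le_pow_right hle))
        ((Ideal.Quotient.factorₐ Λ (Ideal.pow_le_pow_right (Nat.le_succ n))) ((Ψ n).1.1 r)) =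
      (Ideal.Quotient.factorₐ Λ (Ideal.pow_le_pow_right (Nat.le_succ m))) ((Ψ m).1.1 r)
    rw [← h, ← hs]
    rfl
  let g : R.carrier →ₐ[Λ] S.carrier :=
    IsAdicComplete.liftAlgHom (IsLocalRing.maximalIdeal S.carrier) f hf
  have hg_mk : ∀ (n : ℕ) (r : R.carrier),
      Ideal.Quotient.mk ((IsLocalRing.maximalIdeal S.carrier) ^ n) (g r) = f n r :=
    fun n r => IsAdicComplete.mk_liftAlgHom _ f hf n r
  have hg_trunc : ∀ (n : ℕ) (r : R.carrier),
      Ideal.Quotient.mk ((IsLocalRing.maximalIdeal S.carrier) ^ (n + 1)) (g r) = (Ψ n).1.1 r := by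
    intro n r
    rw [hg_mk (n + 1) r]
    simp only [f, AlgHom.comp_apply]
    exact hcompat1 n r
  have hg : S.res.comp g = R.res := by
    apply AlgHom.ext
    intro r
    have h1 : (S.trunc 0).res ((Ψ 0).1.1 r) = R.res r := AlgHom.congr_fun (Ψ 0).1.2 r
    rw [← hg_trunc 0 r] at h1
    exact h1
  refine ⟨g, hg, ?_⟩
  apply ArtFun.FormalElt.ext'
  intro n
  change ξ.app (S.trunc n) _ = η.elt n
  rw [← (Ψ n).2]
  congr 1
  apply Subtype.ext
  apply AlgHom.ext
  intro r
  exact hg_trunc n r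

end Groth.Agent.S12720
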