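import Groth.Statements.S12252
import Groth.Agent.Lib.Helper64.FormalFamily
import Groth.Agent.S12720

set_option autoImplicit false
universe u v
open CategoryTheory
open Deform

namespace Groth.Agent.S12252

open Groth.Agent.Lib.Helper64

variable {Λ : Type u} {k : Type u} [CommRing Λ] [Field k] [Algebra Λ k]

/-- a universal family is versal -/
lemma isVersal_of_isUniversal {R : ArtFun.CRing Λ k} {F : ArtFun.Art Λ k ⥤ Type v}
    (ξ : ArtFun.Family R.carrier R.res F) (hξ : ArtFun.IsUniversal ξ) : ArtFun.IsVersal ξ := by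
  intro B A μ _ φ y hy
  obtain ⟨ψ, hψ⟩ := (hξ B).2 y
  refine ⟨ψ, ?_, hψ⟩
  apply (hξ A).1
  rw [ξ.natural, hψ, hy]

/-- a universal family gives `H0` -/
lemma h0_of_isUniversal {R : ArtFun.CRing Λ k} {F : ArtFun.Art Λ k ⥤ Type v}
    (ξ : ArtFun.Family R.carrier R.res F) (hξ : ArtFun.IsUniversal ξ) : ArtFun.H0 F := by
  let φ₀ : ArtFun.HomSet R.carrier R.res (ArtFun.Art.base Λ k) := ⟨R.res, AlgHom.id_comp _⟩
  refine ⟨⟨ξ.app _ φ₀⟩, ⟨fun a b => ?_⟩⟩
  obtain ⟨φ, rfl⟩ := (hξ _).2 a
  obtain ⟨ψ, rfl⟩ := (hξ _).2 b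
  congr 1
  apply Subtype.ext
  have h1 := φ.2
  have h2 := ψ.2
  have e1 : φ.1 = R.res := (AlgHom.id_comp _).symm.trans h1
  have e2 : ψ.1 = R.res := (AlgHom.id_comp _).symm.trans h2
  rw [e1, e2]

/-- transport of a universal family along two maps agree only if the maps agree -/
lemma along_injective {R S : ArtFun.CRing Λ k} {F : ArtFun.Art Λ k ⥤ Type v}
    (ξ : ArtFun.Family R.carrier R.res F) (hξ : ArtFun.IsUniversal ξ)
    (g₁ g₂ : R.carrier →ₐ[Λ] S.carrier) (h₁ : S.res.comp g₁ = R.res) (h₂ : S.res.comp g₂ = R.res)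
    (h : ξ.along g₁ h₁ = ξ.along g₂ h₂) : g₁ = g₂ := by
  haveI : IsAdicComplete (IsLocalRing.maximalIdeal S.carrier) S.carrier := S.isAdicComplete
  apply AlgHom.ext
  intro r
  rw [← sub_eq_zero]
  apply IsHausdorff.haus (inferInstance : IsHausdorff (IsLocalRing.maximalIdeal S.carrier) S.carrier)
  intro n
  rw [SModEq.zero, smul_eq_mul, Ideal.mul_top]
  have hn : (ξ.along g₁ h₁).app _ (S.truncHom n) = (ξ.along g₂ h₂).app _ (S.truncHom n) := by
    rw [h]
  have hn' := (hξ _).1 hn
  have hn'' := AlgHom.congr_fun (congrArg Subtype.val hn') r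
  simp only [AlgHom.comp_apply] at hn''
  have h3 : Ideal.Quotient.mk (ArtFun.CRing.mpow S n) (g₁ r) =
      Ideal.Quotient.mk (ArtFun.CRing.mpow S n) (g₂ r) := hn''
  rw [Ideal.Quotient.eq] at h3
  exact Ideal.pow_le_pow_right (Nat.le_succ n) h3

/-- Let k be an algebraically closed field, Λ a complete local Noetherian k-algebra with residue field k
and F a set-valued functor on local Artinian Λ-algebras with residue field k. If (R, u) and (S, v)
both prorepresent F (complete local Noetherian Λ-algebras with residue field k carrying universal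
families), then there is a unique isomorphism of Λ-algebras R ≅ S, compatible with the augmentations
to k, along which the universal family of R is transported to that of S. -/
theorem result
    {k Λ : Type u} [Field k] [IsAlgClosed k] [CommRing Λ] [IsLocalRing Λ] [IsNoetherianRing Λ]
    [IsAdicComplete (IsLocalRing.maximalIdeal Λ) Λ] [Algebra k Λ] [Algebra Λ k] [IsScalarTower k Λ k]
    {F : ArtFun.Art Λ k ⥤ Type v} (P Q : ArtFun.ProRep F) :
    ∃! e : P.ring.carrier ≃ₐ[Λ] Q.ring.carrier,
      ∃ he : Q.ring.res.comp e.toAlgHom = P.ring.res, P.family.along e.toAlgHom he = Q.family := by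
  classical
  haveI : Module.Finite Λ k := by
    apply Module.Finite.of_surjective (Algebra.linearMap Λ k)
    intro c
    refine ⟨algebraMap k Λ c, ?_⟩
    show algebraMap Λ k (algebraMap k Λ c) = c
    rw [← IsScalarTower.algebraMap_apply]
    rfl
  have h0 : ArtFun.H0 F := h0_of_isUniversal P.family P.universal
  obtain ⟨g, hg, hgf⟩ := Groth.Agent.S12720.result h0 P.ring P.family
    (isVersal_of_isUniversal _ P.universal) Q.ring Q.family.toFormalElt
  obtain ⟨g', hg', hgf'⟩ := Groth.Agent.S12720.result h0 Q.ring Q.family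
    (isVersal_of_isUniversal _ Q.universal) P.ring P.family.toFormalElt
  have hgf1 : P.family.along g hg = Q.family := Family.toFormalElt_injective hgf
  have hgf2 : Q.family.along g' hg' = P.family := Family.toFormalElt_injective hgf'
  have hcomp1 : g'.comp g = AlgHom.id Λ P.ring.carrier := by
    apply along_injective P.family P.universal (g'.comp g) (AlgHom.id Λ _)
      (by rw [← AlgHom.comp_assoc, hg', hg]) (AlgHom.comp_id _)
    calc P.family.along (g'.comp g) _ = (P.family.along g hg).along g' hg' := rfl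
      _ = P.family := by rw [hgf1, hgf2]
      _ = P.family.along (AlgHom.id Λ _) (AlgHom.comp_id _) := rfl
  have hcomp2 : g.comp g' = AlgHom.id Λ Q.ring.carrier := by
    apply along_injective Q.family Q.universal (g.comp g') (AlgHom.id Λ _)
      (by rw [← AlgHom.comp_assoc, hg, hg']) (AlgHom.comp_id _)
    calc Q.family.along (g.comp g') _ = (Q.family.along g' hg').along g hg := rfl
      _ = Q.family := by rw [hgf2, hgf1]
      _ = Q.family.along (AlgHom.id Λ _) (AlgHom.comp_id _) := rfl
  refine ⟨AlgEquiv.ofAlgHom g g' hcomp2 hcomp1, ⟨hg, hgf1⟩, ?_⟩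
  rintro e' ⟨he', hfe'⟩
  apply AlgEquiv.ext
  intro r
  have : e'.toAlgHom = g :=
    along_injective P.family P.universal e'.toAlgHom g he' hg (by rw [hfe', hgf1])
  exact AlgHom.congr_fun this r

end Groth.Agent.S12252
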