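import Groth.Statements.S12711
-- import your own Groth.Agent.* helpers here

set_option autoImplicit false
universe u v
open CategoryTheory
open ArtFun ArtFun.Art

namespace Groth.Agent.S12711

/-- If B together with p₁ : B → A₁ and p₂ : B → A₂ is the fibre product A₁ ×_A A₂ in the category of
Artinian local Λ-algebras with residue field k, and f₂ : A₂ → A is a small extension, then the
projection p₁ : B → A₁ is a small extension. -/
theorem result {Λ : Type u} {k : Type u} [CommRing Λ] [Field k] [Algebra Λ k]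
    [IsNoetherianRing Λ] [Module.Finite Λ k]
    {B A A₁ A₂ : ArtFun.Art Λ k} {p₁ : B ⟶ A₁} {p₂ : B ⟶ A₂} {f₁ : A₁ ⟶ A} {f₂ : A₂ ⟶ A}
    (h : ArtFun.Art.IsFibreProd p₁ p₂ f₁ f₂) (hf₂ : ArtFun.Art.IsSmallExt f₂) :
    ArtFun.Art.IsSmallExt p₁ := by
  classical
  obtain ⟨hsurj, hne, hprin, hkill⟩ := hf₂
  obtain ⟨⟨t, ht⟩⟩ := hprin
  have ht_mem : t ∈ RingHom.ker f₂.toAlgHom := by
    rw [ht]; exact Submodule.mem_span_singleton_self t
  have ht0 : t ≠ 0 := by
    intro h0
    apply hne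
    rw [ht, h0]
    simp
  have hft : f₂ t = 0 := ht_mem
  -- the generator b₀
  obtain ⟨b₀, hb₀1, hb₀2⟩ := h.surj 0 t (by
    change f₁.toAlgHom 0 = f₂.toAlgHom t
    rw [map_zero]; exact hft.symm)
  have hb₀ker : b₀ ∈ RingHom.ker p₁.toAlgHom := hb₀1
  have hw : ∀ b : B, f₁ (p₁ b) = f₂ (p₂ b) := h.w_apply
  have hkill' : ∀ x ∈ IsLocalRing.maximalIdeal A₂, ∀ y ∈ RingHom.ker f₂.toAlgHom, x * y = 0 := by
    intro x hx y hy
    have : x * y ∈ IsLocalRing.maximalIdeal A₂ * RingHom.ker f₂.toAlgHom := Ideal.mul_mem_mul hx hy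
    rw [hkill] at this
    exact this
  refine ⟨?_, ?_, ?_, ?_⟩
  · intro a₁
    obtain ⟨a₂, ha₂⟩ := hsurj (f₁ a₁)
    obtain ⟨b, hb1, _⟩ := h.surj a₁ a₂ ha₂.symm
    exact ⟨b, hb1⟩
  · intro hbot
    have : b₀ ∈ (⊥ : Ideal B) := hbot ▸ hb₀ker
    rw [Ideal.mem_bot] at this
    apply ht0
    rw [← hb₀2, this]
    exact map_zero p₂.toAlgHom
  · refine ⟨⟨b₀, ?_⟩⟩
    apply le_antisymm
    · intro b hb
      have hp₁b : p₁ b = 0 := hb
      have hp₂b : p₂ b ∈ RingHom.ker f₂.toAlgHom := by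
        rw [RingHom.mem_ker]
        change f₂ (p₂ b) = 0
        rw [← hw b, hp₁b]
        exact map_zero f₁.toAlgHom
      rw [ht] at hp₂b
      obtain ⟨c, hc⟩ := Submodule.mem_span_singleton.mp hp₂b
      obtain ⟨c', hc'⟩ := B.res_surjective (A₂.res c)
      have hdiff : p₂ c' - c ∈ IsLocalRing.maximalIdeal A₂ := by
        rw [ArtFun.Art.mem_maximalIdeal_iff, map_sub]
        have := ArtFun.Art.res_app p₂ c'
        change A₂.res (p₂.toAlgHom c') - A₂.res c = 0
        rw [this, hc', sub_self]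
      have hzero : (p₂ c' - c) * t = 0 := hkill' _ hdiff t ht_mem
      have heq : b = c' * b₀ := by
        apply h.inj
        · change p₁.toAlgHom b = p₁.toAlgHom (c' * b₀)
          rw [map_mul]
          change p₁ b = p₁ c' * p₁ b₀
          rw [hp₁b, hb₀1, mul_zero]
        · change p₂.toAlgHom b = p₂.toAlgHom (c' * b₀)
          rw [map_mul]
          change p₂ b = p₂ c' * p₂ b₀
          rw [hb₀2, ← hc, smul_eq_mul]
          have : p₂ c' * t = c * t + (p₂ c' - c) * t := by ring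
          rw [this, hzero, add_zero]
      rw [heq]
      exact Submodule.mem_span_singleton.mpr ⟨c', rfl⟩
    · rw [Submodule.span_singleton_le_iff_mem]
      exact hb₀ker
  · rw [eq_bot_iff, Ideal.mul_le]
    intro x hx b hb
    have hp₁b : p₁ b = 0 := hb
    have hp₂b : p₂ b ∈ RingHom.ker f₂.toAlgHom := by
      rw [RingHom.mem_ker]
      change f₂ (p₂ b) = 0
      rw [← hw b, hp₁b]
      exact map_zero f₁.toAlgHom
    have hp₂x : p₂ x ∈ IsLocalRing.maximalIdeal A₂ := by
      rw [ArtFun.Art.mem_maximalIdeal_iff]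
      have := ArtFun.Art.res_app p₂ x
      change A₂.res (p₂.toAlgHom x) = 0
      rw [this]
      exact (ArtFun.Art.mem_maximalIdeal_iff B x).mp hx
    have : x * b = 0 := by
      apply h.inj
      · change p₁.toAlgHom (x * b) = p₁.toAlgHom 0
        rw [map_mul, map_zero]
        change p₁ x * p₁ b = 0
        rw [hp₁b, mul_zero]
      · change p₂.toAlgHom (x * b) = p₂.toAlgHom 0
        rw [map_mul, map_zero]
        exact hkill' _ hp₂x _ hp₂b
    rw [this]
    exact Ideal.zero_mem _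

end Groth.Agent.S12711
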