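import Groth.Statements.S5068
import Mathlib
import Groth.Agent.S2842
import Groth.Agent.Lib.Helper35.TransReg
import Groth.Agent.Lib.Helper35.FlatQuotNak
import Groth.Agent.Lib.Helper29.FlatRegular

set_option autoImplicit false
universe u
open CInt

namespace Groth.Agent.S5068

open IsLocalRing RingTheory.Sequence TensorProduct Groth.Agent.Lib.Helper65.CIPres

/-- Nakayama: an ideal `J` with `O/J` flat over `Λ`, generated modulo `𝔪_Λ O` by a subideal, equals it -/
theorem eq_of_le_sup {Λ O : Type*} [CommRing Λ] [IsLocalRing Λ] [CommRing O] [IsLocalRing O]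
    [Algebra Λ O] [IsLocalHom (algebraMap Λ O)] (J : Ideal O) (hJ : J.FG)
    [Module.Flat Λ (O ⧸ J)] (I₀ : Ideal O) (hI₀ : I₀ ≤ J)
    (h : J ≤ I₀ ⊔ (IsLocalRing.maximalIdeal Λ).map (algebraMap Λ O)) :
    J = I₀ := by
  refine le_antisymm ?_ hI₀
  have hmle : (IsLocalRing.maximalIdeal Λ).map (algebraMap Λ O) ≤ IsLocalRing.maximalIdeal O :=
    IsLocalRing.map_maximalIdeal_le (algebraMap Λ O)
  refine Submodule.le_of_le_smul_of_le_jacobson_bot (I := IsLocalRing.maximalIdeal O) hJ
    (IsLocalRing.maximalIdeal_le_jacobson ⊥) ?_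
  intro y hy
  obtain ⟨a, ha, z, hz, rfl⟩ := Submodule.mem_sup.1 (h hy)
  have hzJ : z ∈ J := by
    have : z = (a + z) - a := by ring
    rw [this]
    exact J.sub_mem hy (hI₀ ha)
  have hz2 := Groth.Agent.Lib.Helper35.FlatQuotNak.mem_mul_of_mem_inf
    (IsLocalRing.maximalIdeal Λ) J z hzJ hz
  refine Submodule.add_mem_sup ha ?_
  rw [smul_eq_mul]
  exact Ideal.mul_mono_left hmle hz2

theorem exists_lift_list {C D : Type*} [CommRing C] [CommRing D] (φ : C →+* D) (J : Ideal C) :
    ∀ l : List D, (∀ x ∈ l, ∃ r ∈ J, φ r = x) →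
      ∃ rs : List C, (∀ r ∈ rs, r ∈ J) ∧ rs.map φ = l := by
  intro l
  induction l with
  | nil => intro _; exact ⟨[], by simp, rfl⟩
  | cons x t ih =>
    intro h
    obtain ⟨r, hr, hrx⟩ := h x (by simp)
    obtain ⟨rs, hrs, hmap⟩ := ih (fun y hy => h y (by simp [hy]))
    refine ⟨r :: rs, ?_, by simp [hrx, hmap]⟩
    intro y hy
    rcases List.mem_cons.1 hy with rfl | hy
    · exact hr
    · exact hrs y hy

theorem result (A C B : Type u) [CommRing A] [IsLocalRing A]
    [IsNoetherianRing A] [CommRing C] [IsLocalRing C] [IsNoetherianRing C] [Algebra A C] [IsLocalHom (algebraMap A C)]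
    [Module.Flat A C] (hreg : IsRegularLocalRing (EGA4.FibRing A C))
    [CommRing B] [IsLocalRing B] [Algebra C B] [Algebra A B] [IsScalarTower A C B] [IsLocalHom (algebraMap A B)]
    (hsurj : Function.Surjective (algebraMap C B)) :
    (∃ rs : List C, Ideal.ofList rs = RingHom.ker (algebraMap C B) ∧ RegImm.IsTransRegularSeq A C rs) ↔
      (Module.Flat A B ∧ Pi1.IsCompleteIntersection (EGA4.FibRing A B)) := by
  haveI := hreg
  haveI := isCM_of_isRegularLocalRing (EGA4.FibRing A C)
  obtain ⟨J, hJ⟩ : ∃ J : Ideal C, J = RingHom.ker (algebraMap C B) := ⟨_, rfl⟩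
  rw [← hJ]
  have hJtop : J ≠ ⊤ := by
    intro h
    have : (1 : C) ∈ RingHom.ker (algebraMap C B) := by rw [← hJ, h]; exact Submodule.mem_top
    rw [RingHom.mem_ker, map_one] at this
    exact one_ne_zero this
  have hJm : J ≤ maximalIdeal C := IsLocalRing.le_maximalIdeal hJtop
  -- the A-linear identification `C/J ≃ B`
  have eB : Nonempty ((C ⧸ J) ≃ₗ[A] B) := by
    obtain ⟨e0, he0⟩ : ∃ e0 : (C ⧸ J) ≃+* B,
        ∀ c : C, e0 (Ideal.Quotient.mk J c) = algebraMap C B c :=
      ⟨(Ideal.quotEquivOfEq hJ).trans (RingHom.quotientKerEquivOfSurjective hsurj), fun c => rfl⟩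
    refine ⟨{ e0 with map_smul' := ?_ }⟩
    intro a x
    obtain ⟨c, rfl⟩ := Ideal.Quotient.mk_surjective x
    show e0 (a • Ideal.Quotient.mk J c) = a • e0 (Ideal.Quotient.mk J c)
    rw [Algebra.smul_def, Algebra.smul_def, map_mul, he0,
      IsScalarTower.algebraMap_apply A C (C ⧸ J), Ideal.Quotient.algebraMap_eq, he0,
      ← IsScalarTower.algebraMap_apply]
  obtain ⟨eB⟩ := eB
  -- the map on fibres
  have hle : EGA4.mB A C ≤ (EGA4.mB A B).comap (algebraMap C B) := by
    rw [← Ideal.map_le_iff_le_comap, EGA4.mB, Ideal.map_map,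
      ← IsScalarTower.algebraMap_eq A C B]
  obtain ⟨π, hπdef⟩ : ∃ π : EGA4.FibRing A C →+* EGA4.FibRing A B,
      π = Ideal.quotientMap (EGA4.mB A B) (algebraMap C B) hle := ⟨_, rfl⟩
  have hπ : Function.Surjective π := by
    rw [hπdef]
    exact Ideal.quotientMap_surjective hsurj
  have hπmk : ∀ c : C, π (Ideal.Quotient.mk _ c) = Ideal.Quotient.mk _ (algebraMap C B c) := by
    intro c
    rw [hπdef, Ideal.quotientMap_mk]
  have hmBB : EGA4.mB A B = (EGA4.mB A C).map (algebraMap C B) := by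
    rw [EGA4.mB, EGA4.mB, Ideal.map_map, ← IsScalarTower.algebraMap_eq A C B]
  have hker : RingHom.ker π = J.map (Ideal.Quotient.mk (EGA4.mB A C)) := by
    ext x
    obtain ⟨c, rfl⟩ := Ideal.Quotient.mk_surjective x
    rw [RingHom.mem_ker, hπmk, Ideal.Quotient.eq_zero_iff_mem, Ideal.mem_quotient_iff_mem_sup, hmBB,
      Ideal.mem_map_iff_of_surjective _ hsurj]
    constructor
    · rintro ⟨y, hy, hyc⟩
      have : c - y ∈ J := by
        rw [hJ, RingHom.mem_ker, map_sub, hyc, sub_self]
      have h2 : c = (c - y) + y := by ring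
      rw [h2]
      exact Submodule.add_mem_sup this hy
    · intro hc
      obtain ⟨j, hj, y, hy, rfl⟩ := Submodule.mem_sup.1 hc
      refine ⟨y, hy, ?_⟩
      rw [hJ, RingHom.mem_ker] at hj
      rw [map_add, hj, zero_add]
  have hkne : RingHom.ker π ≠ ⊤ := by
    intro h
    have : (1 : EGA4.FibRing A C) ∈ RingHom.ker π := h ▸ Submodule.mem_top
    rw [RingHom.mem_ker, map_one] at this
    exact one_ne_zero this
  have hCI := Groth.Agent.S2842.isCompleteIntersection_iff_isCI π hπ
  have hsmul : ∀ I : Ideal C, (I • ⊤ : Submodule C C) = I := fun I => by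
    rw [smul_eq_mul, Ideal.mul_top]
  constructor
  · rintro ⟨rs, hrs, hW, hfl⟩
    have hflB : Module.Flat A B := by
      have h1 := hfl rs.length le_rfl
      rw [List.take_length, hrs] at h1
      exact Module.Flat.of_linearEquiv eB.symm
    refine ⟨hflB, ?_⟩
    rw [hCI, isCI_iff _ _ hkne]
    have hfl' : ∀ j : ℕ, Module.Flat A (C ⧸ (Ideal.ofList (rs.take j) • ⊤ : Submodule C C)) := by
      intro j
      have h1 : Module.Flat A (C ⧸ Ideal.ofList (rs.take j)) := by
        rcases le_or_gt j rs.length with hj | hj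
        · exact hfl j hj
        · have := hfl rs.length le_rfl
          rw [List.take_length] at this
          rw [List.take_of_length_le hj.le]
          exact this
      exact Module.Flat.of_linearEquiv
        ((Submodule.quotEquivOfEq _ _ (hsmul _)).restrictScalars A)
    have h1 := Groth.Agent.Lib.Helper35.TransReg.isWeaklyRegular_tensor (A := A)
      (A ⧸ maximalIdeal A) rs C hW hfl'
    have h2 : IsWeaklyRegular (EGA4.FibRing A C) rs :=
      (LinearEquiv.isWeaklyRegular_congr
        (Algebra.TensorProduct.quotIdealMapEquivTensorQuot C (maximalIdeal A)).toLinearEquiv rs).2 h1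
    have h3 : IsWeaklyRegular (EGA4.FibRing A C)
        (rs.map (algebraMap C (EGA4.FibRing A C))) :=
      (isWeaklyRegular_map_algebraMap_iff (EGA4.FibRing A C) (EGA4.FibRing A C) rs).2 h2
    have heq : Ideal.ofList (rs.map (algebraMap C (EGA4.FibRing A C))) = RingHom.ker π := by
      rw [hker, ← hrs, Ideal.map_ofList]
      rfl
    refine ⟨rs.map (algebraMap C (EGA4.FibRing A C)), ⟨h3, ?_⟩, heq⟩
    rw [heq, smul_eq_mul, Ideal.mul_top]
    exact fun h => hkne h.symm
  · rintro ⟨hflB, hci⟩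
    rw [hCI, isCI_iff _ _ hkne] at hci
    obtain ⟨l, hl, hleq⟩ := hci
    haveI : Module.Flat A (C ⧸ J) := Module.Flat.of_linearEquiv eB
    obtain ⟨rs, hrsJ, hmap⟩ := exists_lift_list (Ideal.Quotient.mk (EGA4.mB A C)) J l (by
      intro x hx
      have hxk : x ∈ J.map (Ideal.Quotient.mk (EGA4.mB A C)) := by
        rw [← hker, ← hleq]
        exact Ideal.subset_span hx
      exact (Ideal.mem_map_iff_of_surjective _ Ideal.Quotient.mk_surjective).1 hxk)
    have hrsle : Ideal.ofList rs ≤ J := Ideal.span_le.2 (fun r hr => hrsJ r hr)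
    have hmapeq : (Ideal.ofList rs).map (Ideal.Quotient.mk (EGA4.mB A C)) =
        J.map (Ideal.Quotient.mk (EGA4.mB A C)) := by
      rw [Ideal.map_ofList, hmap, hleq, hker]
    have hJle : J ≤ Ideal.ofList rs ⊔ (maximalIdeal A).map (algebraMap A C) := by
      have h1 : J ≤ (J.map (Ideal.Quotient.mk (EGA4.mB A C))).comap
          (Ideal.Quotient.mk (EGA4.mB A C)) := Ideal.le_comap_map
      rw [← hmapeq, Ideal.comap_map_of_surjective _ Ideal.Quotient.mk_surjective,
        ← RingHom.ker_eq_comap_bot, Ideal.mk_ker] at h1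
      exact h1
    have hJeq : J = Ideal.ofList rs :=
      eq_of_le_sup (Λ := A) J J.fg_of_isNoetherianRing (Ideal.ofList rs) hrsle hJle
    refine ⟨rs, hJeq.symm, ?_⟩
    have h3 : IsWeaklyRegular (EGA4.FibRing A C)
        (rs.map (algebraMap C (EGA4.FibRing A C))) := by
      have : rs.map (algebraMap C (EGA4.FibRing A C)) = l := hmap
      rw [this]
      exact hl.toIsWeaklyRegular
    have h2 : IsWeaklyRegular (EGA4.FibRing A C) rs :=
      (isWeaklyRegular_map_algebraMap_iff (EGA4.FibRing A C) (EGA4.FibRing A C) rs).1 h3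
    have h1 : IsWeaklyRegular (C ⧸ ((maximalIdeal A).map (algebraMap A C) •
        (⊤ : Submodule C C))) rs :=
      (LinearEquiv.isWeaklyRegular_congr (Submodule.quotEquivOfEq _ _ (hsmul _)) rs).2 h2
    obtain ⟨hW, hfl⟩ :=
      Groth.Agent.Lib.Helper29.FlatRegular.isWeaklyRegular_and_flat_of_fibre A C rs C h1
    refine ⟨hW, fun j hj => ?_⟩
    haveI := hfl j hj
    exact Module.Flat.of_linearEquiv
      ((Submodule.quotEquivOfEq _ _ (hsmul _)).symm.restrictScalars A)

end Groth.Agent.S5068
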