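import Groth.Statements.S1354
import Groth.Agent.Lib.Helper35.QFSplit3

set_option autoImplicit false
universe u
open FlatMor

namespace Groth.Agent.S1354

section Helpers

open Groth.Agent.Lib.Helper35.QFSplit
open AlgebraicGeometry CategoryTheory Limits

theorem aux {X S : Scheme.{u}} (f : X ⟶ S) [LocallyOfFiniteType f] (s : S) {ι : Type} [Finite ι]
    (x : ι → ↑X) (hs : ∀ i, f (x i) = s) (hx : ∀ i, f.QuasiFiniteAt (x i)) :
    ∃ (U : Scheme.{u}) (g : U ⟶ S) (u : U), Hens2.IsEtaleNbhd g u s ∧
      ∃ (V : ι → (pullback f g).Opens) (v : ι → ↑(pullback f g)), ∀ i, v i ∈ V i ∧ IsFinite ((V i).ι ≫ pullback.snd f g) ∧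
        pullback.snd f g (v i) = u ∧ (∀ w : ↑(pullback f g), w ∈ V i → pullback.snd f g w = u → w = v i) ∧
        pullback.fst f g (v i) = x i ∧ Function.Bijective ((pullback.fst f g).residueFieldMap (v i)) := by
  obtain ⟨U, g, u, hg, hgu, hres, hgood⟩ := exists_family f s x hs hx
  have hgood' : ∀ i, ∃ V : (pullback f g).Opens, IsFinite (V.ι ≫ pullback.snd f g) ∧
    (∃ v, v ∈ V ∧ pullback.fst f g v = x i ∧ pullback.snd f g v = u) ∧
    ∀ w, w ∈ V → pullback.snd f g w = u → pullback.fst f g w = x i := hgood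
  choose V hfin hex huniq using hgood'
  choose v hvV hvx hvu using hex
  refine ⟨U, g, u, ⟨hg, hgu, hres⟩, V, v, fun i => ⟨hvV i, hfin i, hvu i, ?_, hvx i, ?_⟩⟩
  · intro w hw hwu
    refine eq_of_fst_eq_of_snd_eq w (v i) (by rw [hwu]; exact hres) ?_ ?_
    · rw [huniq i w hw hwu, hvx i]
    · rw [hwu, hvu i]
  · exact bijective_residueFieldMap_fst (v i) (by rw [hvu i]; exact hres)

end Helpers

open AlgebraicGeometry CategoryTheory Limits in
/-- Let f be locally of finite type, s a point of the target, and x_1, ..., x_n points over s at each of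
which f is quasi-finite. Then there are an elementary étale neighbourhood (U, u) of (S, s) and, for
each i, an open V_i of the base change of X to U which is finite over U, has exactly one point v_i
over u, and v_i maps to x_i inducing a bijection of residue fields. -/
theorem result {X S : Scheme.{u}} (f : X ⟶ S) [LocallyOfFiniteType f] (s : S) {ι : Type} [Finite ι]
    (x : ι → ↑X) (hs : ∀ i, f (x i) = s) (hx : ∀ i, f.QuasiFiniteAt (x i)) :
    ∃ (U : Scheme.{u}) (g : U ⟶ S) (u : U), Hens2.IsEtaleNbhd g u s ∧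
      ∃ (V : ι → (pullback f g).Opens) (v : ι → ↑(pullback f g)), ∀ i, v i ∈ V i ∧ IsFinite ((V i).ι ≫ pullback.snd f g) ∧
        pullback.snd f g (v i) = u ∧ (∀ w : ↑(pullback f g), w ∈ V i → pullback.snd f g w = u → w = v i) ∧
        pullback.fst f g (v i) = x i ∧ Function.Bijective ((pullback.fst f g).residueFieldMap (v i)) := by
  exact aux f s x hs hx

end Groth.Agent.S1354
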