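import Groth.Statements.S2121
import Mathlib
-- import your own Groth.Agent.* helpers here

set_option autoImplicit false
universe u
open CategoryTheory AlgebraicGeometry
open Mor

namespace Groth.Agent.S2121

open IsLocalRing

theorem exists_specializes_spec {B R : CommRingCat.{u}} (φ : B ⟶ R) (z : Spec B)
    (hz : z ∈ closure (Set.range (Spec.map φ))) : ∃ r : Spec R, (Spec.map φ) r ⤳ z := by
  have h1 : (z : PrimeSpectrum B) ∈ closure (Set.range (PrimeSpectrum.comap φ.hom)) := hz
  rw [PrimeSpectrum.closure_range_comap] at h1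
  have h1' : RingHom.ker φ.hom ≤ z.asIdeal := (PrimeSpectrum.mem_zeroLocus _ _).mp h1
  obtain ⟨P, hP, hPz⟩ := Ideal.exists_minimalPrimes_le h1'
  have hP' : P ∈ (Ideal.comap φ.hom ⊥).minimalPrimes := hP
  obtain ⟨Q, hQ, -, hQP⟩ := Ideal.exists_comap_eq_of_mem_minimalPrimes φ.hom P hP'
  refine ⟨⟨Q, hQ⟩, ?_⟩
  have : (Spec.map φ) ⟨Q, hQ⟩ = (⟨P, hQP ▸ inferInstance⟩ : PrimeSpectrum B) := by
    apply PrimeSpectrum.ext
    exact hQP
  rw [this]
  exact (PrimeSpectrum.le_iff_specializes _ z).mp hPz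

theorem exists_specializes_of_mem_closure_range {X Y : Scheme.{u}} (f : X ⟶ Y) [QuasiCompact f]
    (z : Y) (hz : z ∈ closure (Set.range f)) : ∃ x : X, f x ⤳ z := by
  obtain ⟨_, ⟨V, hV, rfl⟩, hzV, -⟩ :=
    Y.isBasis_affineOpens.exists_subset_of_mem_open (Set.mem_univ z) isOpen_univ
  have hc : IsCompact ((f ⁻¹ᵁ V : X.Opens) : Set X) := f.isCompact_preimage hV.isCompact
  obtain ⟨R, g, hg⟩ := isCompact_iff_exists.mp hc
  have hrange : Set.range (g ≫ f) ⊆ Set.range hV.fromSpec := by
    rintro _ ⟨r, rfl⟩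
    rw [hV.range_fromSpec]
    have : g r ∈ (f ⁻¹ᵁ V : Set X) := hg ▸ ⟨r, rfl⟩
    exact this
  let h : Spec R ⟶ Spec Γ(Y, V) := IsOpenImmersion.lift hV.fromSpec (g ≫ f) hrange
  have hh : h ≫ hV.fromSpec = g ≫ f := IsOpenImmersion.lift_fac _ _ _
  obtain ⟨z', rfl⟩ : z ∈ Set.range hV.fromSpec := by rw [hV.range_fromSpec]; exact hzV
  have hz' : z' ∈ closure (Set.range h) := by
    rw [mem_closure_iff]
    intro N hN hzN
    have hopen : IsOpen (hV.fromSpec '' N) := hV.fromSpec.isOpenEmbedding.isOpenMap N hN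
    obtain ⟨y, hy1, x, rfl⟩ := mem_closure_iff.mp hz _ hopen ⟨z', hzN, rfl⟩
    obtain ⟨n, hn, hn'⟩ := hy1
    have hx : x ∈ ((f ⁻¹ᵁ V : X.Opens) : Set X) := by
      change f x ∈ (V : Set Y)
      rw [← hn', ← hV.range_fromSpec]; exact ⟨n, rfl⟩
    rw [← hg] at hx
    obtain ⟨r, rfl⟩ := hx
    refine ⟨h r, ?_, r, rfl⟩
    have : hV.fromSpec (h r) = hV.fromSpec n := by
      rw [← Scheme.Hom.comp_apply, hh, hn']; rfl
    rw [hV.fromSpec.isOpenEmbedding.injective this]
    exact hn
  obtain ⟨φ, hφ⟩ : ∃ φ, Spec.map φ = h := ⟨Spec.preimage h, Spec.map_preimage h⟩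
  rw [← hφ] at hz'
  obtain ⟨r, hr⟩ := exists_specializes_spec φ z' hz'
  refine ⟨g r, ?_⟩
  have : f (g r) = hV.fromSpec (h r) := by
    rw [← Scheme.Hom.comp_apply, ← Scheme.Hom.comp_apply, hh]
  rw [this, ← hφ]
  exact hr.map hV.fromSpec.continuous

set_option backward.isDefEq.respectTransparency.types false in
theorem exists_valuationRing_of_specializes {X Y : Scheme.{u}} (f : X ⟶ Y) (x : X) (z : Y)
    (hspec : f x ⤳ z) :
    ∃ (A : Type u) (_ : CommRing A) (_ : IsDomain A) (_ : ValuationRing A)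
      (x : Spec (CommRingCat.of (FractionRing A)) ⟶ X) (y : Spec (CommRingCat.of A) ⟶ Y),
      x ≫ f = Spec.map (CommRingCat.ofHom (algebraMap A (FractionRing A))) ≫ y ∧
      y.base (IsLocalRing.closedPoint A) = z := by
  let φ₀ : Y.presheaf.stalk z ⟶ X.residueField x :=
    Y.presheaf.stalkSpecializes hspec ≫ f.stalkMap x ≫ X.residue x
  obtain ⟨A, hA, hA_local⟩ := exists_factor_valuationRing φ₀.hom
  let stalk_to_A : Y.presheaf.stalk z ⟶ .of A :=
    CommRingCat.ofHom (φ₀.hom.codRestrict _ hA)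
  have w : X.fromSpecResidueField x ≫ f =
      Spec.map (CommRingCat.ofHom (algebraMap A (X.residueField x))) ≫
        Spec.map stalk_to_A ≫ Y.fromSpecStalk z := by
    rw [Scheme.fromSpecResidueField, Category.assoc, ← Scheme.SpecMap_stalkMap_fromSpecStalk,
      ← Scheme.SpecMap_stalkSpecializes_fromSpecStalk hspec]
    simp_rw [← Spec.map_comp_assoc]
    rfl
  let e : FractionRing A ≃ₐ[A] X.residueField x := FractionRing.algEquiv A (X.residueField x)
  refine ⟨A, inferInstance, inferInstance, inferInstance,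
    Spec.map (CommRingCat.ofHom (e.symm : X.residueField x →+* FractionRing A)) ≫
      X.fromSpecResidueField x,
    Spec.map stalk_to_A ≫ Y.fromSpecStalk z, ?_, ?_⟩
  · rw [Category.assoc, w, ← Spec.map_comp_assoc]
    congr 2
    ext a
    simp only [CommRingCat.hom_comp, CommRingCat.hom_ofHom, RingHom.coe_comp, RingHom.coe_coe,
      Function.comp_apply]
    exact e.symm.commutes a
  · simp only [Scheme.Hom.comp_base, TopCat.coe_comp, Function.comp_apply]
    have : Spec.map stalk_to_A (closedPoint A) = closedPoint (Y.presheaf.stalk z) :=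
      comap_closedPoint (S := A) (φ₀.hom.codRestrict A.toSubring hA)
    rw [this, Y.fromSpecStalk_closedPoint]

/-- Let `f : X → Y` be quasi-compact and `z` a point in the closure of `f(X)` (the underlying set of the
scheme theoretic image). Then there are a valuation ring `A` with fraction field `K` and morphisms
`Spec K → X`, `Spec A → Y` forming a commutative square with `f` and `Spec K → Spec A`, such that
the closed point of `Spec A` maps to `z`. -/
theorem result {X Y : Scheme.{u}} (f : X ⟶ Y) [QuasiCompact f] (z : Y)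
    (hz : z ∈ closure (Set.range f.base)) :
    ∃ (A : Type u) (_ : CommRing A) (_ : IsDomain A) (_ : ValuationRing A)
      (x : Spec (CommRingCat.of (FractionRing A)) ⟶ X) (y : Spec (CommRingCat.of A) ⟶ Y),
      x ≫ f = Spec.map (CommRingCat.ofHom (algebraMap A (FractionRing A))) ≫ y ∧
      y.base (IsLocalRing.closedPoint A) = z := by
  obtain ⟨x, hx⟩ := exists_specializes_of_mem_closure_range f z hz
  exact exists_valuationRing_of_specializes f x z hx

end Groth.Agent.S2121
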