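import Groth.Statements.S17897
import Mathlib
-- import your own Groth.Agent.* helpers here

set_option autoImplicit false
universe u
open CategoryTheory AlgebraicGeometry
open ValCrit

namespace Groth.Agent.S17897

/-- Morphisms out of a local scheme are determined after precomposition with `Spec` of an
injective local homomorphism. -/
lemma eq_of_SpecMap_comp_eq {X : Scheme.{u}} {R' R : CommRingCat.{u}} [IsLocalRing R'] [IsLocalRing R]
    (ρ : R' ⟶ R) [IsLocalHom ρ.hom] (hρ : Function.Injective ρ.hom)
    (a b : Spec R' ⟶ X) (h : Spec.map ρ ≫ a = Spec.map ρ ≫ b) : a = b := by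
  have hcp : b (IsLocalRing.closedPoint R') = a (IsLocalRing.closedPoint R') := by
    have h1 := congr($h (IsLocalRing.closedPoint R))
    simp only [Scheme.Hom.comp_apply] at h1
    have h2 : (Spec.map ρ) (IsLocalRing.closedPoint R) = IsLocalRing.closedPoint R' :=
      IsLocalRing.comap_closedPoint ρ.hom
    rw [h2] at h1
    exact h1.symm
  have key : ∀ (x : X) (e : b (IsLocalRing.closedPoint R') = x),
      ∃ β : X.presheaf.stalk x ⟶ R', b = Spec.map β ≫ X.fromSpecStalk x := by
    intro x e
    subst e
    exact ⟨Scheme.stalkClosedPointTo b, (Scheme.Spec_stalkClosedPointTo_fromSpecStalk b).symm⟩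
  obtain ⟨β, hβ⟩ := key _ hcp
  have hα := (Scheme.Spec_stalkClosedPointTo_fromSpecStalk a).symm
  set α := Scheme.stalkClosedPointTo a
  rw [hα, hβ] at h ⊢
  rw [← Spec.map_comp_assoc, ← Spec.map_comp_assoc, cancel_mono] at h
  have h3 := Spec.map_injective h
  have : α = β := by
    ext t
    apply hρ
    exact congr($h3 t)
  rw [this]

/-- Let f : Y → X be a morphism of schemes (not assumed separated), R a valuation ring with fraction
field K, and i : Spec K → Y, φ : Spec R → X with i ≫ f = (Spec K → Spec R) ≫ φ. Let y be the point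
of Y hit by i and g : κ(y) → K the induced embedding, R' = g⁻¹(R) the induced valuation ring of κ(y)
and ρ : R' → R the restriction of g. Then φ factors uniquely through Spec R → Spec R': there is a
unique φ' : Spec R' → X with (Spec ρ) ≫ φ' = φ whose restriction to the generic point Spec κ(y) is
the canonical morphism Spec κ(y) → Y followed by f. (Here y and g are given as data with Spec g
followed by Spec κ(y) → Y equal to i, and ρ as data by its defining equation.) -/
theorem result {X Y : Scheme.{u}} (f : Y ⟶ X)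
    (K : Type u) [Field K] (R : ValuationSubring K)
    (i : Spec (CommRingCat.of K) ⟶ Y) (φ : Spec (CommRingCat.of ↥R) ⟶ X)
    (w : Spec.map (CommRingCat.ofHom R.subtype) ≫ φ = i ≫ f)
    (y : Y) (g : Y.residueField y ⟶ CommRingCat.of K) (hg : Spec.map g ≫ Y.fromSpecResidueField y = i)
    (ρ : ↥(R.comap g.hom) →+* ↥R)
    (hρ : ∀ x : ↥(R.comap g.hom), ((ρ x : ↥R) : K) = g.hom (x : ↑(Y.residueField y))) :
    ∃! φ' : Spec (CommRingCat.of ↥(R.comap g.hom)) ⟶ X,
      Spec.map (CommRingCat.ofHom ρ) ≫ φ' = φ ∧
      Spec.map (CommRingCat.ofHom (R.comap g.hom).subtype) ≫ φ' = Y.fromSpecResidueField y ≫ f := by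
  -- ρ is injective and local
  have hρinj : Function.Injective ρ := by
    intro a b hab
    apply Subtype.ext
    apply g.hom.injective
    rw [← hρ, ← hρ, hab]
  have hρloc : IsLocalHom ρ := by
    refine ⟨fun a ha => ?_⟩
    obtain ⟨u, hu⟩ := ha.exists_right_inv
    have h1 : g.hom (a : Y.residueField y) * (u : K) = 1 := by
      rw [← hρ]
      exact_mod_cast congr(($hu : K))
    have ha0 : (a : Y.residueField y) ≠ 0 := by
      intro h0
      rw [h0, map_zero, zero_mul] at h1
      exact zero_ne_one h1
    have h2 : g.hom ((a : Y.residueField y)⁻¹) = (u : K) := by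
      rw [map_inv₀]
      exact inv_eq_of_mul_eq_one_right h1
    have hmem : (a : Y.residueField y)⁻¹ ∈ R.comap g.hom := by
      rw [ValuationSubring.mem_comap, h2]
      exact u.2
    refine IsUnit.of_mul_eq_one ⟨_, hmem⟩ ?_
    apply Subtype.ext
    simp [mul_inv_cancel₀ ha0]
  set x₀ := φ (IsLocalRing.closedPoint R) with hx₀
  set δ := Scheme.stalkClosedPointTo φ with hδ
  have hδφ : Spec.map δ ≫ X.fromSpecStalk x₀ = φ := Scheme.Spec_stalkClosedPointTo_fromSpecStalk φ
  -- the point `f y` specializes to `x₀`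
  have hiy : ∀ p, i p = y := by
    intro p
    rw [← hg, Scheme.Hom.comp_apply, Scheme.fromSpecResidueField_apply]
  have hx : f y ⤳ x₀ := by
    have h1 := congr($w (IsLocalRing.closedPoint K))
    simp only [Scheme.Hom.comp_apply] at h1
    rw [hiy] at h1
    rw [← h1]
    exact (IsLocalRing.specializes_closedPoint _).map φ.continuous
  set γ : X.presheaf.stalk x₀ ⟶ Y.residueField y :=
    X.presheaf.stalkSpecializes hx ≫ X.residue (f y) ≫ f.residueFieldMap y with hγ
  have hγ' : Spec.map γ ≫ X.fromSpecStalk x₀ = Y.fromSpecResidueField y ≫ f := by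
    rw [hγ, Spec.map_comp, Spec.map_comp, Category.assoc, Category.assoc,
      Scheme.SpecMap_stalkSpecializes_fromSpecStalk,
      ← Scheme.Hom.SpecMap_residueFieldMap_fromSpecResidueField]
    rfl
  have hcomp : δ ≫ CommRingCat.ofHom R.subtype = γ ≫ g := by
    apply Spec.map_injective
    rw [← cancel_mono (X.fromSpecStalk x₀)]
    rw [Spec.map_comp, Category.assoc, hδφ, w, Spec.map_comp, Category.assoc, hγ', ← hg,
      Category.assoc]
  have hmem : ∀ a, γ.hom a ∈ R.comap g.hom := by
    intro a
    rw [ValuationSubring.mem_comap]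
    have := congr($hcomp a)
    simp only [CommRingCat.hom_comp, RingHom.coe_comp, Function.comp_apply,
      CommRingCat.hom_ofHom] at this
    rw [← this]
    exact (δ.hom a).2
  let γ' : X.presheaf.stalk x₀ →+* ↥(R.comap g.hom) := γ.hom.codRestrict _ hmem
  have e1 : CommRingCat.ofHom γ' ≫ CommRingCat.ofHom ρ = δ := by
    ext a
    have := congr($hcomp a)
    simp only [CommRingCat.hom_comp, RingHom.coe_comp, Function.comp_apply,
      CommRingCat.hom_ofHom] at this ⊢
    rw [hρ]
    exact this.symm
  have e2 : CommRingCat.ofHom γ' ≫ CommRingCat.ofHom (R.comap g.hom).subtype = γ := by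
    ext a
    rfl
  refine ⟨Spec.map (CommRingCat.ofHom γ') ≫ X.fromSpecStalk x₀, ⟨?_, ?_⟩, ?_⟩
  · rw [← Spec.map_comp_assoc, e1, hδφ]
  · rw [← Spec.map_comp_assoc, e2, hγ']
  · rintro φ'' ⟨h1, -⟩
    haveI : IsLocalHom (CommRingCat.ofHom ρ).hom := hρloc
    refine eq_of_SpecMap_comp_eq (CommRingCat.ofHom ρ) hρinj _ _ ?_
    rw [h1, ← Spec.map_comp_assoc, e1, hδφ]

end Groth.Agent.S17897
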