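import Groth.Statements.S6131
-- import your own Groth.Agent.* helpers here

set_option autoImplicit false
open CategoryTheory CategoryTheory.Limits
universe u
open SGA4

namespace Groth.Agent.S6131

open Opposite

variable {C : Type u} [SmallCategory C] (J : GrothendieckTopology C)

theorem pullback_bot {X Y : C} (f : Y ⟶ X) : (⊥ : Sieve X).pullback f = ⊥ := by
  ext Z g
  simp

/-- The presheaf `Y ↦ {* | the empty sieve covers Y}` (a subpresheaf of the terminal presheaf). -/
def emptyCov : Cᵒᵖ ⥤ Type u where
  obj Y := ULift.{u} (PLift ((⊥ : Sieve Y.unop) ∈ J Y.unop))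
  map {Y Z} f := ↾fun h => ⟨⟨by
    have := J.pullback_stable f.unop h.down.down
    rwa [pullback_bot] at this⟩⟩
  map_id _ := by
    ext h
    exact Subsingleton.elim _ _
  map_comp _ _ := by
    ext h
    exact Subsingleton.elim _ _

instance (Y : Cᵒᵖ) : Subsingleton ((emptyCov J).obj Y) := by
  unfold emptyCov
  infer_instance

theorem emptyCov_isSheaf : Presheaf.IsSheaf J (emptyCov J) := by
  rw [isSheaf_iff_isSheaf_of_type]
  intro Y S hS x _
  have hY : (⊥ : Sieve Y) ∈ J Y := by
    refine J.transitive hS _ ?_
    intro Z f hf
    rw [pullback_bot]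
    exact (x f hf).down.down
  refine ⟨⟨⟨hY⟩⟩, ?_, fun _ _ => Subsingleton.elim _ _⟩
  intro Z f hf
  exact Subsingleton.elim _ _


/-- For a small site `(C, J)` and an object `X` of `C`, the sheaf associated to the presheaf represented
by `X` is an initial object of the category of sheaves of sets if and only if the empty sieve covers
`X`. -/
theorem result
    {C : Type u} [SmallCategory C] (J : GrothendieckTopology C) (X : C) :
    Nonempty (IsInitial ((presheafToSheaf J (Type u)).obj (yoneda.obj X))) ↔ (⊥ : Sieve X) ∈ J X := by
  constructor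
  · rintro ⟨hI⟩
    let U : Sheaf J (Type u) := ⟨emptyCov J, emptyCov_isSheaf J⟩
    have φ : (presheafToSheaf J (Type u)).obj (yoneda.obj X) ⟶ U := hI.to U
    have ψ : yoneda.obj X ⟶ emptyCov J := ((sheafificationAdjunction J (Type u)).homEquiv _ U) φ
    exact (yonedaEquiv ψ).down.down
  · intro h
    -- every sheaf has exactly one section over `X`
    have huniq : ∀ F : Sheaf J (Type u), ∃! t : F.obj.obj (op X), True := by
      intro F
      have hF := (isSheaf_iff_isSheaf_of_type J F.obj).mp F.property
      let x : Presieve.FamilyOfElements F.obj (⊥ : Sieve X).arrows :=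
        fun Y f hf => False.elim hf
      have hx : x.Compatible := by
        intro Y₁ Y₂ Z' g₁ g₂ f₁ f₂ hf₁
        exact False.elim hf₁
      obtain ⟨t, _, ht⟩ := hF _ h x hx
      refine ⟨t, trivial, fun t' _ => ht t' ?_⟩
      intro Y f hf
      exact False.elim hf
    let e : ∀ F : Sheaf J (Type u),
        ((presheafToSheaf J (Type u)).obj (yoneda.obj X) ⟶ F) ≃ F.obj.obj (op X) :=
      fun F => ((sheafificationAdjunction J (Type u)).homEquiv _ F).trans yonedaEquiv
    refine ⟨IsInitial.ofUniqueHom (fun F => (e F).symm (huniq F).choose) fun F m => ?_⟩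
    apply (e F).injective
    exact (huniq F).unique trivial trivial

end Groth.Agent.S6131
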