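import Groth.Statements.S6139
-- import your own Groth.Agent.* helpers here

set_option autoImplicit false
open CategoryTheory CategoryTheory.Limits
universe v u
open SGA4

namespace Groth.Agent.S6139

/-- For an object `X` of a category `C`, the empty sieve on `X` is covering for the canonical topology
of `C` (the finest topology for which every representable presheaf is a sheaf) if and only if `X` is
a strict initial object: `X` is initial and every morphism with target `X` is an isomorphism. (The
source phrases the first condition as: for some topology coarser than the canonical one the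
associated sheaf of `h_X` is initial; that sheaf is initial exactly when the empty sieve covers `X`,
and coverage by the empty sieve passes to the finer canonical topology.) -/
theorem result
    {C : Type u} [Category.{v} C] (X : C) :
    (⊥ : Sieve X) ∈ Sheaf.canonicalTopology C X ↔
      (Nonempty (IsInitial X) ∧ ∀ (Y : C) (f : Y ⟶ X), IsIso f) := by
  -- an object covered by the empty sieve in the canonical topology is initial
  have key : ∀ W : C, (⊥ : Sieve W) ∈ Sheaf.canonicalTopology C W → Nonempty (IsInitial W) := by
    intro W hW
    have hsh : ∀ Z : C, ∃! t : W ⟶ Z, True := by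
      intro Z
      have h1 := Sheaf.isSheaf_yoneda_obj (C := C) Z (⊥ : Sieve W) hW
      let x : Presieve.FamilyOfElements (yoneda.obj Z) (⊥ : Sieve W).arrows :=
        fun Y f hf => False.elim hf
      have hx : x.Compatible := by
        intro Y₁ Y₂ Z' g₁ g₂ f₁ f₂ hf₁
        exact False.elim hf₁
      obtain ⟨t, _, ht⟩ := h1 x hx
      refine ⟨t, trivial, fun t' _ => ht t' ?_⟩
      intro Y f hf
      exact False.elim hf
    refine ⟨IsInitial.ofUniqueHom (fun Z => (hsh Z).choose) fun Z m => ?_⟩
    exact (hsh Z).unique trivial trivial
  constructor
  · intro h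
    obtain ⟨hX⟩ := key X h
    refine ⟨⟨hX⟩, fun Y f => ?_⟩
    have hY : (⊥ : Sieve Y) ∈ Sheaf.canonicalTopology C Y := by
      have := (Sheaf.canonicalTopology C).pullback_stable f h
      convert this using 1
      ext Z g
      simp
    obtain ⟨hY⟩ := key Y hY
    exact ⟨hX.to Y, hY.hom_ext _ _, hX.hom_ext _ _⟩
  · rintro ⟨⟨hX⟩, hiso⟩
    refine Sheaf.mem_finestTopology_of_forall_isSheafFor ?_
    rintro P ⟨Z, rfl⟩ Y f
    have := hiso Y f
    have hY : IsInitial Y := hX.ofIso (asIso f).symm
    intro x _
    refine ⟨hY.to Z, ?_, fun t' _ => hY.hom_ext _ _⟩
    intro W g hg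
    exact False.elim hg

end Groth.Agent.S6139
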