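import Groth.Statements.S6952
-- import your own Groth.Agent.* helpers here
import Mathlib
import Groth.Agent.Lib.Helper36.NilpotentTor
import Groth.Agent.Lib.Helper36.HasLeftDerived
import Groth.Agent.Lib.Helper12.FlatExtendScalars
import Groth.Agent.S6945

set_option autoImplicit false
universe u
open CategoryTheory CategoryTheory.Limits
attribute [local instance] HasDerivedCategory.standard
open DRing

namespace Groth.Agent.S6952

open Groth.Agent.Lib.Helper12 Groth.Agent.Lib.Helper36 Groth.Agent.Lib.Helper36.LT

/-- Extension of scalars along a ring homomorphism preserves flatness. -/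
theorem flat_extendScalars {R' R : Type u} [CommRing R'] [CommRing R] (φ : R' →+* R)
    (N : ModuleCat.{u} R') [Module.Flat R' N] :
    Module.Flat R ((ModuleCat.extendScalars.{u, u, u} φ).obj N) := by
  let _ : Algebra R' R := φ.toAlgebra
  exact extSc_flat (A := R') (B := R) N

/-- Exactness of `P ⊗ N` for a K-projective representative gives cohomology vanishing of
`K ⊗^L N`. -/
theorem subsingleton_HD_of_exactAt_tensorCx {A : Type u} [CommRing A] (M : ModuleCat.{u} A)
    [DRing.HasLTensor A M] (P : DRing.Cx A) [P.IsKProjective] {K : Dual.D A} (e : toD P ≅ K)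
    (i : ℤ) (h : (tensorCx M P).ExactAt i) :
    Subsingleton (Dual.HD A ((DRing.LTensor A M).obj K) i) := by
  have e' : (DRing.LTensor A M).obj K ≅ toD (tensorCx M P) :=
    (DRing.LTensor A M).mapIso e.symm ≪≫ lTensorObjIso M P
  rw [HomologicalComplex.exactAt_iff_isZero_homology] at h
  have h1 : IsZero ((HF A i).obj (toD (tensorCx M P))) :=
    h.of_iso ((DerivedCategory.homologyFunctorFactors (ModuleCat.{u} A) i).app _)
  exact ModuleCat.subsingleton_of_isZero (h1.of_iso ((HF A i).mapIso e'))

/-- Let R' → R be a surjective homomorphism of commutative rings whose kernel is a nilpotent ideal, such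
that the derived base change D(R') → D(R) exists. Let K' be an object of D(R') and a, b integers.
Then K' ⊗^L R has tor amplitude in [a, b] over R if and only if K' has tor amplitude in [a, b] over
R'. -/
theorem result {R' R : Type u} [CommRing R']
    [CommRing R] (φ : R' →+* R) (hφ : Function.Surjective φ) (hnil : IsNilpotent (RingHom.ker φ))
    [DRing.HasLBaseChange φ] (K' : Dual.D R') (a b : ℤ) :
    DRing.HasTorAmplitudeIn R a b ((DRing.LBaseChange φ).obj K') ↔ DRing.HasTorAmplitudeIn R' a b K' := by
  constructor
  · intro h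
    obtain ⟨P, f, hf, hKP, hproj⟩ := KP.exists_resolution (DerivedCategory.Q.objPreimage K')
    have hiso : IsIso (DerivedCategory.Q.map f) :=
      (DerivedCategory.isIso_Q_map_iff_quasiIso _ f).mpr hf
    have e₀ : toD P ≅ K' := asIso (DerivedCategory.Q.map f) ≪≫ DerivedCategory.Q.objObjPreimageIso K'
    have hKP' := BCKP.isKProjective_extendScalars φ P
    have e₁ : toD (((ModuleCat.extendScalars.{u, u, u} φ).mapHomologicalComplex
        (ComplexShape.up ℤ)).obj P) ≅ (DRing.LBaseChange φ).obj K' :=
      (lBaseChangeObjIso φ P).symm ≪≫ (DRing.LBaseChange φ).mapIso e₀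
    have hR := (@Groth.Agent.S6945.result R _ (fun M => LT.hasLTensor R M)
      ((DRing.LBaseChange φ).obj K') a b).mp h
    apply (@Groth.Agent.S6945.result R' _ (fun M => LT.hasLTensor R' M) K' a b).mpr
    intro N i hi
    have hex : (tensorCx N P).ExactAt i :=
      NilTor.exactAt_tensorCx_of_nilpotent φ hφ hnil P (fun n => by
        have := hproj n
        infer_instance) i
        (fun M => @exactAt_tensorCx_of_subsingleton R _ M (LT.hasLTensor R M) _ hKP' _ e₁ i
          (hR M i hi)) N
    exact @subsingleton_HD_of_exactAt_tensorCx R' _ N (LT.hasLTensor R' N) P hKP K' e₀ i hex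
  · rintro ⟨E, hE, hfl, ⟨e⟩⟩
    obtain ⟨e₁⟩ := nonempty_lBaseChangeObjIso_of_flat φ E b (fun i hi => hE i (Or.inr hi)) hfl
    refine ⟨((ModuleCat.extendScalars.{u, u, u} φ).mapHomologicalComplex
      (ComplexShape.up ℤ)).obj E, ?_, ?_, ⟨e₁.symm ≪≫ (DRing.LBaseChange φ).mapIso e⟩⟩
    · intro i hi
      exact (ModuleCat.extendScalars.{u, u, u} φ).map_isZero (hE i hi)
    · intro i
      have := hfl i
      exact flat_extendScalars φ (E.X i)

end Groth.Agent.S6952
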