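import Groth.Statements.S4749
import Groth.Agent.Lib.Helper49.GeomNormalExt
-- import your own Groth.Agent.* helpers here

set_option autoImplicit false
universe u
open EGA4

namespace Groth.Agent.S4749

open TensorProduct Groth.Agent.Lib.Helper49.NormalHom Groth.Agent.Lib.Helper49.FibreSk in
/-- Base change of a normal homomorphism, one of the two algebras being of finite type. -/
theorem fwd (A B A' : Type u) [CommRing A] [CommRing B] [CommRing A']
    [IsNoetherianRing A] [IsNoetherianRing B] [IsNoetherianRing A'] [Algebra A B] [Algebra A A']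
    (hft : Algebra.FiniteType A B ∨ Algebra.FiniteType A A') (h : EGA4.IsNormalHom A B) :
    EGA4.IsNormalHom A' (A' ⊗[A] B) := by
  obtain ⟨hflat, hfib⟩ := h
  refine ⟨inferInstance, fun Q hQ L _ _ hL => ?_⟩
  letI : Algebra A' L :=
    ((algebraMap Q.ResidueField L).comp (algebraMap A' Q.ResidueField)).toAlgebra
  haveI : IsScalarTower A' Q.ResidueField L := .of_algebraMap_eq' rfl
  letI : Algebra A L := ((algebraMap A' L).comp (algebraMap A A')).toAlgebra
  haveI : IsScalarTower A A' L := .of_algebraMap_eq' rfl
  have hkerD : RingHom.ker (algebraMap A' L) = Q := by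
    rw [IsScalarTower.algebraMap_eq A' Q.ResidueField L, ← RingHom.comap_ker,
      (RingHom.injective_iff_ker_eq_bot _).mp (algebraMap Q.ResidueField L).injective,
      ← RingHom.ker_eq_comap_bot, Ideal.ker_algebraMap_residueField]
  have hker : RingHom.ker (algebraMap A L) = Q.under A := by
    rw [IsScalarTower.algebraMap_eq A A' L, ← RingHom.comap_ker, hkerD]
  have hunits : (Q.under A).primeCompl ≤ (IsUnit.submonoid L).comap (algebraMap A L) := by
    intro x hx
    rw [Submonoid.mem_comap, IsUnit.mem_submonoid_iff, isUnit_iff_ne_zero]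
    intro h0
    exact hx (hker ▸ (RingHom.mem_ker.mpr h0))
  letI : Algebra (Q.under A).ResidueField L :=
    (Ideal.ResidueField.lift (Q.under A) (algebraMap A L) hker.ge hunits).toAlgebra
  haveI : IsScalarTower A (Q.under A).ResidueField L :=
    .of_algebraMap_eq fun x => (Ideal.ResidueField.lift_algebraMap _ _ hker.ge hunits x).symm
  obtain ⟨e⟩ := nonempty_fiber_baseChange_equiv A A' B Q (Q.under A) L
  refine isNormalRing_of_ringEquiv
    (R := L ⊗[(Q.under A).ResidueField] (Q.under A).Fiber B) e.symm ?_
  haveI hNF : IsNoetherianRing ((Q.under A).Fiber B) := isNoetherianRing_fiber (Q.under A)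
  have hft' : Algebra.FiniteType (Q.under A).ResidueField ((Q.under A).Fiber B) ∨
      Algebra.EssFiniteType (Q.under A).ResidueField L := by
    rcases hft with h | h
    · left
      unfold Ideal.Fiber
      infer_instance
    · right
      haveI : Algebra.EssFiniteType Q.ResidueField L := inferInstance
      haveI : Algebra.EssFiniteType A' L := Algebra.EssFiniteType.comp A' Q.ResidueField L
      haveI : Algebra.EssFiniteType A L := Algebra.EssFiniteType.comp A A' L
      exact Algebra.EssFiniteType.of_comp A _ L
  haveI : IsNoetherianRing ((Q.under A).Fiber B ⊗[(Q.under A).ResidueField] L) := by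
    rcases hft' with h | h
    · haveI : Algebra.FiniteType L (L ⊗[(Q.under A).ResidueField] (Q.under A).Fiber B) :=
        inferInstance
      haveI : IsNoetherianRing (L ⊗[(Q.under A).ResidueField] (Q.under A).Fiber B) :=
        Algebra.FiniteType.isNoetherianRing L
          (L ⊗[(Q.under A).ResidueField] (Q.under A).Fiber B)
      exact isNoetherianRing_of_ringEquiv _
        (Algebra.TensorProduct.comm (Q.under A).ResidueField L ((Q.under A).Fiber B)).toRingEquiv
    · haveI : Algebra.EssFiniteType ((Q.under A).Fiber B)
          ((Q.under A).Fiber B ⊗[(Q.under A).ResidueField] L) := inferInstance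
      exact Algebra.EssFiniteType.isNoetherianRing ((Q.under A).Fiber B)
        ((Q.under A).Fiber B ⊗[(Q.under A).ResidueField] L)
  have h' := Groth.Agent.Lib.Helper49.GeomNormalExt.isNormalRing_tensor (Q.under A).ResidueField
    ((Q.under A).Fiber B) L hft'
    (fun k' _ _ hfin _ => isNormalRing_of_ringEquiv
      (Algebra.TensorProduct.comm (Q.under A).ResidueField k' ((Q.under A).Fiber B)).toRingEquiv
      (hfib (Q.under A) k' hfin))
  exact isNormalRing_of_ringEquiv
    (Algebra.TensorProduct.comm (Q.under A).ResidueField ((Q.under A).Fiber B) L).toRingEquiv h'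

open TensorProduct Groth.Agent.Lib.Helper49.NormalHom in
/-- Geometric normality of the fibre over `Q ∩ A` from that of the fibre of the base change
over `Q`. -/
theorem conv_fibre (A B A' : Type u) [CommRing A] [CommRing B] [CommRing A']
    [Algebra A B] [Algebra A A'] (h : EGA4.IsNormalHom A' (A' ⊗[A] B))
    (Q : Ideal A') [Q.IsPrime] :
    EGA4.IsGeomNormal (Q.under A).ResidueField ((Q.under A).Fiber B) := by
  intro k' _ _ hfin
  haveI := hfin
  have hker : RingHom.ker (algebraMap A Q.ResidueField) = Q.under A := by
    rw [IsScalarTower.algebraMap_eq A A' Q.ResidueField, ← RingHom.comap_ker,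
      Ideal.ker_algebraMap_residueField]
  have hunits : (Q.under A).primeCompl ≤
      (IsUnit.submonoid Q.ResidueField).comap (algebraMap A Q.ResidueField) := by
    intro x hx
    rw [Submonoid.mem_comap, IsUnit.mem_submonoid_iff, isUnit_iff_ne_zero]
    intro h0
    exact hx (hker ▸ (RingHom.mem_ker.mpr h0))
  letI : Algebra (Q.under A).ResidueField Q.ResidueField :=
    (Ideal.ResidueField.lift (Q.under A) (algebraMap A Q.ResidueField) hker.ge hunits).toAlgebra
  haveI : IsScalarTower A (Q.under A).ResidueField Q.ResidueField :=
    .of_algebraMap_eq fun x => (Ideal.ResidueField.lift_algebraMap _ _ hker.ge hunits x).symm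
  obtain ⟨K', _, _, _, _, _, _, hK'⟩ :=
    Groth.Agent.Lib.Helper49.GeomNormalExt.exists_common_extension
      (Q.under A).ResidueField Q.ResidueField k'
  have h1 := h.2 Q K' hK'
  letI : Algebra A' K' :=
    ((algebraMap Q.ResidueField K').comp (algebraMap A' Q.ResidueField)).toAlgebra
  haveI : IsScalarTower A' Q.ResidueField K' := .of_algebraMap_eq' rfl
  letI : Algebra A K' := ((algebraMap A' K').comp (algebraMap A A')).toAlgebra
  haveI : IsScalarTower A A' K' := .of_algebraMap_eq' rfl
  haveI : IsScalarTower A (Q.under A).ResidueField K' := by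
    refine .of_algebraMap_eq fun a => ?_
    rw [IsScalarTower.algebraMap_apply (Q.under A).ResidueField Q.ResidueField K',
      ← IsScalarTower.algebraMap_apply A (Q.under A).ResidueField Q.ResidueField,
      IsScalarTower.algebraMap_apply A A' Q.ResidueField]
    rfl
  obtain ⟨e⟩ := nonempty_fiber_baseChange_equiv A A' B Q (Q.under A) K'
  have h2 : EGA4.IsNormalRing (K' ⊗[(Q.under A).ResidueField] (Q.under A).Fiber B) :=
    isNormalRing_of_ringEquiv e h1
  exact Groth.Agent.Lib.Helper49.GeomNormalExt.isNormalRing_tensor_of_tower
    (Q.under A).ResidueField k' K' ((Q.under A).Fiber B) h2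


open TensorProduct in
/-- Case of normal morphisms, affine form: let A → B be a homomorphism of Noetherian rings and A' a
Noetherian A-algebra, and assume that B or A' is of finite type over A. If A → B is normal then the
base change A' → A' ⊗_A B is normal; the converse holds when A' is faithfully flat over A. -/
theorem result (A B A' : Type u) [CommRing A] [CommRing B] [CommRing A']
    [IsNoetherianRing A] [IsNoetherianRing B] [IsNoetherianRing A'] [Algebra A B] [Algebra A A']
    (hft : Algebra.FiniteType A B ∨ Algebra.FiniteType A A') :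
    (EGA4.IsNormalHom A B → EGA4.IsNormalHom A' (A' ⊗[A] B)) ∧
      (Module.FaithfullyFlat A A' → EGA4.IsNormalHom A' (A' ⊗[A] B) → EGA4.IsNormalHom A B) := by
  refine ⟨fwd A B A' hft, fun hff h => ?_⟩
  haveI := hff
  haveI := h.1
  refine ⟨Module.Flat.of_flat_tensorProduct A B A', fun p hp => ?_⟩
  obtain ⟨Q, hQ, hQp⟩ := Ideal.exists_isPrime_liesOver_of_faithfullyFlat (B := A') p
  have key : ∀ (p' : Ideal A) [p'.IsPrime], p' = p →
      EGA4.IsGeomNormal p'.ResidueField (p'.Fiber B) →
      EGA4.IsGeomNormal p.ResidueField (p.Fiber B) := by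
    intro p' _ he
    subst he
    exact id
  exact key _ hQp.over.symm (conv_fibre A B A' h Q)

end Groth.Agent.S4749
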