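import Groth.Statements.S2102
import Mathlib
import Groth.Agent.Lib.Helper7.BiratIso
-- import your own Groth.Agent.* helpers here

set_option autoImplicit false
universe u
open CategoryTheory AlgebraicGeometry
open Mor

namespace Groth.Agent.S2102
open CategoryTheory AlgebraicGeometry Limits TopologicalSpace Topology Opposite


/-- pure algebra step: transport of integrality to a larger integrally closed domain -/
lemma alg_step {R S : Type u} [CommRing R] [IsDomain R] [CommRing S] [IsDomain S]
    [IsIntegrallyClosed S] (φ : R →+* S) (hφ : Function.Injective φ) (a : R) (b : nonZeroDivisors R)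
    (hx : IsIntegral R (IsLocalization.mk' (FractionRing R) a b)) :
    ∃ s : S, s * φ b = φ a := by
  have hle : nonZeroDivisors R ≤ (nonZeroDivisors S).comap φ :=
    nonZeroDivisors_le_comap_nonZeroDivisors_of_injective φ hφ
  let φK : FractionRing R →+* FractionRing S := IsLocalization.map (FractionRing S) φ hle
  have hcomm : (algebraMap S (FractionRing S)).comp φ = φK.comp (algebraMap R (FractionRing R)) := by
    ext r
    simp [φK]
  have hint : IsIntegral S (φK (IsLocalization.mk' (FractionRing R) a b)) :=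
    IsIntegral.map_of_comp_eq φ φK hcomm hx
  obtain ⟨s, hs⟩ := IsIntegrallyClosed.isIntegral_iff.mp hint
  refine ⟨s, ?_⟩
  have h2 : φK (IsLocalization.mk' (FractionRing R) a b) =
      IsLocalization.mk' (FractionRing S) (φ a) ⟨φ b, hle b.2⟩ := IsLocalization.map_mk' _ _ _
  rw [h2, IsLocalization.eq_mk'_iff_mul_eq] at hs
  apply IsFractionRing.injective S (FractionRing S)
  rw [map_mul]; exact hs


/-- The ring of global sections of an integral normal scheme is an integrally closed domain. -/
theorem result (X : Scheme.{u}) [IsIntegral X] (hX : Pi1.IsNormalScheme X) :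
    IsIntegrallyClosed (Γ(X, ⊤) : Type u) := by
  rw [isIntegrallyClosed_iff (FractionRing Γ(X, ⊤))]
  intro x hx
  obtain ⟨a, b, rfl⟩ := IsLocalization.exists_mk'_eq (nonZeroDivisors Γ(X, ⊤)) x
  -- index type: nonempty affine opens
  let ι := {V : X.affineOpens // Nonempty (V : X.Opens)}
  let U : ι → X.Opens := fun i => (i.1 : X.Opens)
  have hcover : (⊤ : X.Opens) ≤ iSup U := by
    intro y _
    obtain ⟨V, hV, hyV, -⟩ := exists_isAffineOpen_mem_and_subset (X := X) (x := y) (U := ⊤) trivial
    exact Opens.mem_iSup.mpr ⟨⟨⟨V, hV⟩, ⟨⟨y, hyV⟩⟩⟩, hyV⟩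
  have hne : ∀ i : ι, Nonempty (U i) := fun i => i.2
  have hb0 : (b : Γ(X, ⊤)) ≠ 0 := nonZeroDivisors.ne_zero b.2
  have key : ∀ i : ι, ∃ s : Γ(X, U i), s * (X.presheaf.map (homOfLE le_top : U i ⟶ ⊤).op).hom b =
      (X.presheaf.map (homOfLE le_top : U i ⟶ ⊤).op).hom a := by
    intro i
    haveI := hne i
    haveI : IsIntegrallyClosed Γ(X, U i) :=
      Groth.Agent.Lib.Helper7.BiratIso.isIntegrallyClosed_sections_of_isNormalScheme hX (U i) i.1.2
    exact alg_step (X.presheaf.map (homOfLE le_top : U i ⟶ ⊤).op).hom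
      (map_injective_of_isIntegral X _) a b hx
  choose sf hsf using key
  have hcompat : TopCat.Presheaf.IsCompatible X.sheaf.1 U sf := by
    intro i j
    haveI := hne i
    haveI := hne j
    haveI : Nonempty ((U i ⊓ U j : X.Opens)) := by
      obtain ⟨y, hy1, hy2⟩ := nonempty_preirreducible_inter (U i).isOpen (U j).isOpen
        (by obtain ⟨y⟩ := hne i; exact ⟨y.1, y.2⟩) (by obtain ⟨y⟩ := hne j; exact ⟨y.1, y.2⟩)
      exact ⟨⟨y, hy1, hy2⟩⟩
    -- cancel b
    have hbW : (X.presheaf.map (homOfLE le_top : (U i ⊓ U j : X.Opens) ⟶ ⊤).op).hom b ≠ 0 := by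
      intro h
      apply hb0
      apply map_injective_of_isIntegral X (homOfLE le_top : (U i ⊓ U j : X.Opens) ⟶ ⊤)
      rw [map_zero]; exact h
    apply mul_right_cancel₀ hbW
    have e1 : (X.presheaf.map (homOfLE le_top : (U i ⊓ U j : X.Opens) ⟶ ⊤).op).hom b =
        (X.presheaf.map (Opens.infLELeft (U i) (U j)).op).hom
          ((X.presheaf.map (homOfLE le_top : U i ⟶ ⊤).op).hom b) := by
      rw [← CommRingCat.comp_apply, ← X.presheaf.map_comp]; rfl
    have e2 : (X.presheaf.map (homOfLE le_top : (U i ⊓ U j : X.Opens) ⟶ ⊤).op).hom b =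
        (X.presheaf.map (Opens.infLERight (U i) (U j)).op).hom
          ((X.presheaf.map (homOfLE le_top : U j ⟶ ⊤).op).hom b) := by
      rw [← CommRingCat.comp_apply, ← X.presheaf.map_comp]; rfl
    have e1a : (X.presheaf.map (homOfLE le_top : (U i ⊓ U j : X.Opens) ⟶ ⊤).op).hom a =
        (X.presheaf.map (Opens.infLELeft (U i) (U j)).op).hom
          ((X.presheaf.map (homOfLE le_top : U i ⟶ ⊤).op).hom a) := by
      rw [← CommRingCat.comp_apply, ← X.presheaf.map_comp]; rfl
    have e2a : (X.presheaf.map (homOfLE le_top : (U i ⊓ U j : X.Opens) ⟶ ⊤).op).hom a =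
        (X.presheaf.map (Opens.infLERight (U i) (U j)).op).hom
          ((X.presheaf.map (homOfLE le_top : U j ⟶ ⊤).op).hom a) := by
      rw [← CommRingCat.comp_apply, ← X.presheaf.map_comp]; rfl
    change (X.presheaf.map (Opens.infLELeft (U i) (U j)).op).hom (sf i) * _ =
      (X.presheaf.map (Opens.infLERight (U i) (U j)).op).hom (sf j) * _
    conv_lhs => rw [e1, ← map_mul, hsf i, ← e1a]
    conv_rhs => rw [e2, ← map_mul, hsf j, ← e2a]
  obtain ⟨s, hs, -⟩ : ∃! s : Γ(X, ⊤), ∀ i,
      (X.presheaf.map (homOfLE le_top : U i ⟶ ⊤).op).hom s = sf i :=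
    X.sheaf.existsUnique_gluing' U ⊤ (fun i => homOfLE le_top) hcover sf hcompat
  refine ⟨s, ?_⟩
  rw [IsLocalization.eq_mk'_iff_mul_eq, ← map_mul]
  congr 1
  apply X.sheaf.eq_of_locally_eq' U ⊤ (fun i => homOfLE le_top) hcover
  intro i
  change (X.presheaf.map (homOfLE le_top : U i ⟶ ⊤).op).hom (s * b) =
    (X.presheaf.map (homOfLE le_top : U i ⟶ ⊤).op).hom a
  rw [map_mul, ← hsf i]
  congr 1
  exact hs i

end Groth.Agent.S2102
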