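import Groth.Statements.S15941
import Mathlib.RingTheory.IntegralClosure.IntegrallyClosed
import Mathlib.RingTheory.Localization.FractionRing
import Mathlib.Tactic.Ring
import Mathlib.Tactic.FieldSimp
import Mathlib.Tactic.LinearCombination

set_option autoImplicit false
universe u
open HTop

namespace Groth.Agent.S15941

/-- An integrally closed integral domain is a seminormal ring, that is, whenever x^3 = y^2 there is
exactly one element a with x = a^2 and y = a^3. (The published statement is for a normal Noetherian
scheme and reduces at once to this affine integral case; the Noetherian hypothesis plays no role.) -/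
theorem result (A : Type u) [CommRing A] [IsDomain A]
    [IsIntegrallyClosed A] : HTop.IsSeminormalRing A := by
  intro x y hxy
  have huniq : ∀ a b : A, a ^ 2 = b ^ 2 → a ^ 3 = b ^ 3 → a = b := by
    intro a b h2 h3
    by_cases ha : a = 0
    · subst ha
      have : b ^ 2 = 0 := by rw [← h2]; ring
      exact (pow_eq_zero_iff (two_ne_zero)).1 this |>.symm
    · have h : (a - b) * a ^ 2 = 0 := by
        have : b * a ^ 2 = b ^ 3 := by rw [h2]; ring
        linear_combination h3 - this
      rcases mul_eq_zero.1 h with h | h
      · exact sub_eq_zero.1 h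
      · exact absurd ((pow_eq_zero_iff (two_ne_zero)).1 h) ha
  by_cases hx : x = 0
  · subst hx
    have hy : y = 0 := by
      have : y ^ 2 = 0 := by rw [← hxy]; ring
      exact (pow_eq_zero_iff (two_ne_zero)).1 this
    subst hy
    refine ⟨0, ⟨by ring, by ring⟩, fun b hb => ?_⟩
    have : b ^ 2 = 0 := hb.1.symm
    exact (pow_eq_zero_iff (two_ne_zero)).1 this
  · -- `a = y / x` in the fraction field
    let K := FractionRing A
    have hxK : algebraMap A K x ≠ 0 := by
      simpa using hx
    set α : K := algebraMap A K y / algebraMap A K x with hα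
    have hα2 : α ^ 2 = algebraMap A K x := by
      have h := congrArg (algebraMap A K) hxy
      rw [map_pow, map_pow] at h
      rw [hα, div_pow, ← h, div_eq_iff (pow_ne_zero 2 hxK)]
      ring
    have hint : IsIntegral A α := by
      refine ⟨Polynomial.X ^ 2 - Polynomial.C x, Polynomial.monic_X_pow_sub_C x (two_ne_zero), ?_⟩
      simp [hα2]
    obtain ⟨a, ha⟩ := IsIntegrallyClosed.isIntegral_iff.1 hint
    have hinj := IsFractionRing.injective A K
    have ha2 : x = a ^ 2 := by
      apply hinj
      rw [map_pow, ha, hα2]
    have ha3 : y = a ^ 3 := by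
      apply hinj
      rw [map_pow, ha]
      have : α ^ 3 = α * α ^ 2 := by ring
      rw [this, hα2, hα, div_mul_cancel₀ _ hxK]
    refine ⟨a, ⟨ha2, ha3⟩, fun b hb => ?_⟩
    exact huniq b a (by rw [← hb.1, ha2]) (by rw [← hb.2, ha3])

end Groth.Agent.S15941
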