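import Groth.Statements.S7419
import Groth.Agent.Lib.Helper25.AWN4

set_option autoImplicit false
universe u
open CategoryTheory AlgebraicGeometry
open HTop

namespace Groth.Agent.S7419

open Groth.Agent.Lib.Helper25.AWN

/-- Being absolutely weakly normal is a local property of rings: it passes to the localizations `A_f`,
and if `f_1, …, f_n` generate the unit ideal of `A` and each `A_{f_i}` is absolutely weakly normal
then so is `A`. -/
theorem result :
    (∀ (A : Type u) [CommRing A] (f : A), HTop.IsAWNRing A → HTop.IsAWNRing (Localization.Away f)) ∧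
    ∀ (A : Type u) [CommRing A] (s : Finset A), Ideal.span (s : Set A) = ⊤ →
      (∀ f ∈ s, HTop.IsAWNRing (Localization.Away f)) → HTop.IsAWNRing A := by
  refine ⟨fun A _ f hA => isAWNRing_of_isLocalization_away f (Localization.Away f) hA, ?_⟩
  intro A _ s hs H
  have hb : Function.Bijective (φ A) := by
    apply RingHom.Bijective.ofLocalizationSpan (φ A) (s : Set A) hs
    rintro ⟨r, hr⟩
    have hW := isAWNRing_of_isRingAWN (φ A) (isRingAWN_φ A)
    have := isReduced_of_isAWNRing hW
    exact ((isUH_φ A).awayMap r).bijective_of_isAWNRing (H r hr)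
  exact isAWNRing_of_ringEquiv (RingEquiv.ofBijective (φ A) hb).symm
    (isAWNRing_of_isRingAWN (φ A) (isRingAWN_φ A))

end Groth.Agent.S7419
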