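import Groth.Statements.S7420
import Groth.Agent.Lib.Helper25.AWN6
import Groth.Agent.S7419

set_option autoImplicit false
universe u
open CategoryTheory AlgebraicGeometry
open HTop

namespace Groth.Agent.S7420

open Groth.Agent.Lib.Helper25.AWN in
theorem forall_affine_of_local (P : ∀ (R : Type u) [CommRing R], Prop)
    (hiso : ∀ (R R' : Type u) [CommRing R] [CommRing R'], (R ≃+* R') → P R → P R')
    (hloc : ∀ (R : Type u) [CommRing R] (f : R), P R → P (Localization.Away f))
    (hglue : ∀ (R : Type u) [CommRing R] (s : Finset R), Ideal.span (s : Set R) = ⊤ →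
      (∀ f ∈ s, P (Localization.Away f)) → P R)
    (X : Scheme.{u}) (h : ∀ x : X, ∃ U : X.affineOpens, x ∈ (U : X.Opens) ∧ P Γ(X, U)) :
    ∀ V : X.affineOpens, P Γ(X, V) := by
  choose U hxU hU using h
  have hcov : (⨆ x, (U x : X.Opens)) = ⊤ :=
    top_le_iff.mp fun x _ => TopologicalSpace.Opens.mem_iSup.mpr ⟨x, hxU x⟩
  intro V
  have e : ∀ (W : X.affineOpens) (f : Γ(X, W)),
      Localization.Away f ≃+* Γ(X, X.basicOpen f) := fun W f =>
    haveI := W.2.isLocalization_basicOpen f
    (IsLocalization.algEquiv (Submonoid.powers f) (Localization.Away f)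
      Γ(X, X.basicOpen f)).toRingEquiv
  refine of_affine_open_cover (P := fun V => P Γ(X, V)) U hcov V ?_ ?_ hU
  · intro W f hW
    exact hiso _ _ (e W f) (hloc _ f hW)
  · intro W s hs H
    exact hglue _ s hs fun f hf => hiso _ _ (e W f).symm (H ⟨f, hf⟩)

/-- A scheme `X` is seminormal if and only if `O_X(U)` is seminormal for every affine open `U ⊆ X`; the
same holds with 'seminormal' replaced by 'absolutely weakly normal'. -/
theorem result (X : Scheme.{u}) :
    (HTop.IsSeminormal X ↔ ∀ U : X.affineOpens, HTop.IsSeminormalRing Γ(X, U)) ∧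
    (HTop.IsAWN X ↔ ∀ U : X.affineOpens, HTop.IsAWNRing Γ(X, U)) := by
  constructor
  · constructor
    · intro h
      exact forall_affine_of_local (fun R _ => HTop.IsSeminormalRing R)
        (fun R R' _ _ e hR => Groth.Agent.Lib.Helper25.AWN.isSeminormalRing_of_ringEquiv e hR)
        (fun R _ f hR =>
          Groth.Agent.Lib.Helper25.AWN.isSeminormalRing_of_isLocalization_away f _ hR)
        (fun R _ s hs H =>
          Groth.Agent.Lib.Helper25.AWN.isSeminormalRing_of_span (s : Set R) hs (fun f hf => H f hf))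
        X h
    · intro h x
      obtain ⟨U, hU⟩ := TopologicalSpace.Opens.mem_iSup.mp
        ((iSup_affineOpens_eq_top X).ge (Set.mem_univ x))
      exact ⟨U, hU, h U⟩
  · constructor
    · intro h
      exact forall_affine_of_local (fun R _ => HTop.IsAWNRing R)
        (fun R R' _ _ e hR => Groth.Agent.Lib.Helper25.AWN.isAWNRing_of_ringEquiv e hR)
        (fun R _ f hR =>
          Groth.Agent.Lib.Helper25.AWN.isAWNRing_of_isLocalization_away f _ hR)
        (fun R _ s hs H => Groth.Agent.S7419.result.2 R s hs H)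
        X h
    · intro h x
      obtain ⟨U, hU⟩ := TopologicalSpace.Opens.mem_iSup.mp
        ((iSup_affineOpens_eq_top X).ge (Set.mem_univ x))
      exact ⟨U, hU, h U⟩

end Groth.Agent.S7420
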