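import Groth.Statements.S9752
import Groth.Agent.Lib.Helper7.BrCount4
import Groth.Agent.Lib.Helper37.Hz53

set_option autoImplicit false
universe u
open Brnch

namespace Groth.Agent.S9752

open AlgebraicGeometry CategoryTheory Limits in
open IsLocalRing in
open Groth.Agent.Lib.Helper37.Hz Groth.Agent.Lib.Helper7.BrCount in
theorem exists_nbhd (X : Scheme.{u}) (x : X) (n : ℕ)
    (hn : (n : ℕ∞) ≤ Brnch.numBranchesAt X x) :
    ∃ (U : Scheme.{u}) (g : U ⟶ X) (u : U), Hens2.IsEtaleNbhd g u x ∧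
      (n : ℕ∞) ≤ {Z : Set ↑U | Z ∈ irreducibleComponents ↑U ∧ u ∈ Z}.encard := by
  obtain ⟨_, ⟨V, hV : IsAffineOpen V, rfl⟩, hxV, -⟩ :=
    X.isBasis_affineOpens.exists_subset_of_mem_open (Set.mem_univ x) isOpen_univ
  have h1 := Branches.card_minimalPrimes_eq_numBranches (X.presheaf.stalk x)
    (Hens (X.presheaf.stalk x))
  have hn' : (n : ℕ∞) ≤ ENat.card (minimalPrimes (Hens (X.presheaf.stalk x))) := by
    rw [h1]; exact hn
  obtain ⟨E, _, _, hE, β, q, hq, hβ, hqdef, hqx, hcard⟩ :=
    exists_etale_algebra X hV x hxV (Hens (X.presheaf.stalk x))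
      (hasFactorization_H (X.presheaf.stalk x) _) n hn'
  refine ⟨Spec (CommRingCat.of E), nbhdMap X hV E, (⟨q, hq⟩ : PrimeSpectrum E),
    ⟨inferInstance, hqx, ?_⟩, hcard⟩
  apply residueFieldMap_nbhdMap_bijective
  intro a
  let _ : Algebra Γ(X, V) (X.presheaf.stalk x) := X.presheaf.algebra_section_stalk ⟨x, hxV⟩
  have hloc : IsLocalization.AtPrime (X.presheaf.stalk x) (hV.primeIdealOf ⟨x, hxV⟩).asIdeal :=
    hV.isLocalization_stalk ⟨x, hxV⟩
  have hβ' : ∀ r : Γ(X, V), β (algebraMap Γ(X, V) E r) =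
      algebraMap (X.presheaf.stalk x) (Hens (X.presheaf.stalk x))
        (algebraMap Γ(X, V) (X.presheaf.stalk x) r) := fun r => RingHom.congr_fun hβ r
  obtain ⟨y, hy⟩ := exists_sub_mem_maximalIdeal_of_isHenselization (X.presheaf.stalk x)
    (Hens (X.presheaf.stalk x)) (β a)
  obtain ⟨⟨r, s⟩, hrs⟩ := IsLocalization.surj (hV.primeIdealOf ⟨x, hxV⟩).asIdeal.primeCompl y
  have hsu : IsUnit (algebraMap Γ(X, V) (X.presheaf.stalk x) (s : Γ(X, V))) :=
    IsLocalization.map_units (X.presheaf.stalk x) s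
  refine ⟨r, s, ?_, ?_⟩
  · intro hmem
    rw [hqdef] at hmem
    have h2 : β (algebraMap Γ(X, V) E (s : Γ(X, V))) ∈ maximalIdeal (Hens (X.presheaf.stalk x)) :=
      hmem
    rw [hβ'] at h2
    exact h2 (hsu.map _)
  · rw [hqdef]
    change β (algebraMap Γ(X, V) E (s : Γ(X, V)) * a - algebraMap Γ(X, V) E r) ∈
      maximalIdeal (Hens (X.presheaf.stalk x))
    rw [map_sub, map_mul, hβ', hβ']
    have h3 : algebraMap (X.presheaf.stalk x) (Hens (X.presheaf.stalk x))
          (algebraMap Γ(X, V) (X.presheaf.stalk x) (s : Γ(X, V))) * β a -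
        algebraMap (X.presheaf.stalk x) (Hens (X.presheaf.stalk x))
          (algebraMap Γ(X, V) (X.presheaf.stalk x) r) =
        algebraMap (X.presheaf.stalk x) (Hens (X.presheaf.stalk x))
          (algebraMap Γ(X, V) (X.presheaf.stalk x) (s : Γ(X, V))) *
          (β a - algebraMap (X.presheaf.stalk x) (Hens (X.presheaf.stalk x)) y) := by
      rw [← hrs, map_mul]
      ring
    rw [h3]
    exact Ideal.mul_mem_left _ _ hy

open AlgebraicGeometry CategoryTheory Limits in
/-- For a point x of a scheme X, the branch count of X at x (in ℕ∞) is the least upper bound, taken over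
all elementary étale neighbourhoods (U, u) → (X, x) (g : U ⟶ X étale with g u = x and trivial
residue field extension), of how many irreducible components of U contain u. -/
theorem result (X : Scheme.{u}) (x : X) :
    Brnch.numBranchesAt X x = ⨆ (U : Scheme.{u}) (g : U ⟶ X) (u : U) (_ : Hens2.IsEtaleNbhd g u x),
      {Z : Set ↑U | Z ∈ irreducibleComponents ↑U ∧ u ∈ Z}.encard := by
  apply le_antisymm
  · rw [← ENat.forall_natCast_le_iff_le]
    intro n hn
    obtain ⟨U, g, u, hg, hcard⟩ := exists_nbhd X x n hn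
    refine hcard.trans ?_
    exact le_iSup_of_le U (le_iSup_of_le g (le_iSup_of_le u (le_iSup_of_le hg le_rfl)))
  · refine iSup_le fun U => iSup_le fun g => iSup_le fun u => iSup_le fun hg => ?_
    obtain ⟨hg1, hg2, hg3⟩ := hg
    subst hg2
    rw [Groth.Agent.Lib.Helper7.BrCount.encard_eq_card_minimalPrimes]
    exact Groth.Agent.Lib.Helper7.BrCount.le_numBranchesAt g u hg3

end Groth.Agent.S9752
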