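import Groth.Statements.S5863
import Mathlib.AlgebraicGeometry.Morphisms.UniversallyInjective
import Mathlib.AlgebraicGeometry.Morphisms.Flat

set_option autoImplicit false
universe u
open RadPt

namespace Groth.Agent.S5863

open CategoryTheory CategoryTheory.Limits AlgebraicGeometry

/-- Field-valued point formulation of "radicial at `y`". -/
def RadK {X Y : Scheme.{u}} (f : X ⟶ Y) (y : Y) : Prop :=
  ∀ (K : Type u) [Field K] (g₁ g₂ : Spec (.of K) ⟶ X), g₁ ≫ f = g₂ ≫ f →
    (g₁ ≫ f) (IsLocalRing.closedPoint K) = y → g₁ = g₂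

set_option backward.isDefEq.respectTransparency.types false in
set_option backward.defeqAttrib.useBackward true in
theorem radK_of_isRadicialAt {X Y : Scheme.{u}} (f : X ⟶ Y) (y : Y)
    (hrad : RadPt.IsRadicialAt f y) : RadK f y := by
  intro K _ g₁ g₂ hg hy
  have hy1 : f (g₁ (IsLocalRing.closedPoint K)) = y := by
    rw [← Scheme.Hom.comp_apply]; exact hy
  have hy2 : f (g₂ (IsLocalRing.closedPoint K)) = y := by
    rw [← Scheme.Hom.comp_apply, ← hg]; exact hy
  have hpt : g₁ (IsLocalRing.closedPoint K) = g₂ (IsLocalRing.closedPoint K) :=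
    hrad.1 _ _ hy1 hy2
  obtain ⟨e, h⟩ := Scheme.SpecToEquivOfField_eq_iff.mp congr((Y.SpecToEquivOfField K) $(hg))
  apply (X.SpecToEquivOfField K).injective
  dsimp at e h
  simp only [Scheme.descResidueField_stalkClosedPointTo_comp] at e h
  rw [← f.residueFieldMap_congr'_assoc hpt, CommRingCat.hom_ext_iff] at h
  rw [Scheme.SpecToEquivOfField_eq_iff]
  let x := g₁ (IsLocalRing.closedPoint K)
  have hfx := hrad.2 x hy1
  algebraize [(f.residueFieldMap (g₁ (IsLocalRing.closedPoint K))).hom]
  refine ⟨hpt, CommRingCat.hom_ext ?_⟩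
  exact IsPurelyInseparable.injective_comp_algebraMap
    (Y.residueField (f x)) (X.residueField x) _ h

set_option backward.isDefEq.respectTransparency.types false in
set_option backward.defeqAttrib.useBackward true in
theorem isRadicialAt_of_radK {X Y : Scheme.{u}} (f : X ⟶ Y) (y : Y)
    (hrad : RadK f y) : RadPt.IsRadicialAt f y := by
  refine ⟨fun x x' hx hx' => ?_, fun x hx => ?_⟩
  · obtain ⟨z, hz1, hz2⟩ := Scheme.Pullback.exists_preimage_pullback x x' (hx.trans hx'.symm)
    let φ := (pullback f f).fromSpecResidueField z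
    have h1 : (φ ≫ pullback.fst f f) ≫ f = (φ ≫ pullback.snd f f) ≫ f := by
      simp [pullback.condition]
    have hφ : φ (IsLocalRing.closedPoint _) = z := Scheme.fromSpecResidueField_apply _ _
    have h2 : ((φ ≫ pullback.fst f f) ≫ f) (IsLocalRing.closedPoint _) = y := by
      rw [Scheme.Hom.comp_apply, Scheme.Hom.comp_apply, hφ, hz1, hx]
    have h3 := hrad _ _ _ h1 h2
    have h4 : (φ ≫ pullback.fst f f) (IsLocalRing.closedPoint _) =
        (φ ≫ pullback.snd f f) (IsLocalRing.closedPoint _) := by rw [h3]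
    rw [Scheme.Hom.comp_apply, Scheme.Hom.comp_apply, hφ, hz1, hz2] at h4
    exact h4
  · algebraize [(f.residueFieldMap x).hom]
    rw [RingHom.IsPurelyInseparable, isPurelyInseparable_iff_subsingleton_emb, subsingleton_iff]
    intro σ₁ σ₂
    apply AlgHom.coe_ringHom_injective
    let g₁ := (X.SpecToEquivOfField _).symm ⟨_, CommRingCat.ofHom σ₁.toRingHom⟩
    let g₂ := (X.SpecToEquivOfField _).symm ⟨_, CommRingCat.ofHom σ₂.toRingHom⟩
    suffices X.SpecToEquivOfField _ g₁ = X.SpecToEquivOfField _ g₂ by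
      rw [Equiv.apply_symm_apply, Equiv.apply_symm_apply] at this
      exact congr($(this).2.hom)
    have hcomm : g₁ ≫ f = g₂ ≫ f := by
      simp only [g₁, g₂, Scheme.SpecToEquivOfField_symm_apply, AlgHom.toRingHom_eq_coe,
        Category.assoc, ← f.SpecMap_residueFieldMap_fromSpecResidueField x, ← Spec.map_comp_assoc]
      congr 2
      ext a
      simp only [CommRingCat.hom_comp, RingHom.comp_apply]
      exact (AlgHom.commutes σ₁ a).trans (AlgHom.commutes σ₂ a).symm
    have hy : (g₁ ≫ f) (IsLocalRing.closedPoint _) = y := by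
      rw [Scheme.Hom.comp_apply]
      have : g₁ (IsLocalRing.closedPoint _) = x := by
        simp [g₁, Scheme.SpecToEquivOfField_symm_apply]
      rw [this, hx]
    rw [hrad _ g₁ g₂ hcomm hy]

theorem isRadicialAt_iff_radK {X Y : Scheme.{u}} (f : X ⟶ Y) (y : Y) :
    RadPt.IsRadicialAt f y ↔ RadK f y :=
  ⟨radK_of_isRadicialAt f y, isRadicialAt_of_radK f y⟩

open CategoryTheory AlgebraicGeometry in
set_option backward.isDefEq.respectTransparency.types false in
set_option linter.style.haveILetI false in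
/-- Let f : X → Y and h : Y' → Y be morphisms of schemes, f' : X ×_Y Y' → Y' the base change of f (any
cartesian square), y' a point of Y' and y = h(y'). Then f is radicial at y if and only if f' is
radicial at y'. -/
theorem result {X Y X' Y' : Scheme.{u}} {f : X ⟶ Y} {h : Y' ⟶ Y} {f' : X' ⟶ Y'} {h' : X' ⟶ X}
    (sq : IsPullback h' f' f h) (y' : Y') :
    RadPt.IsRadicialAt f (h y') ↔ RadPt.IsRadicialAt f' y' := by
  rw [isRadicialAt_iff_radK, isRadicialAt_iff_radK]
  constructor
  · intro hrad K _ g₁ g₂ hg hy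
    apply sq.hom_ext
    · apply hrad K (g₁ ≫ h') (g₂ ≫ h')
      · rw [Category.assoc, Category.assoc, sq.w, ← Category.assoc, ← Category.assoc, hg]
      · rw [Category.assoc, sq.w, ← Category.assoc, Scheme.Hom.comp_apply, hy]
    · exact hg
  · intro hrad K _ g₁ g₂ hg hy
    obtain ⟨z, hz1, hz2⟩ := Scheme.Pullback.exists_preimage_pullback (f := g₁ ≫ f) (g := h)
      (IsLocalRing.closedPoint K) y' hy
    let L : Type u := ((pullback (g₁ ≫ f) h).residueField z : CommRingCat.{u})
    let φ : Spec (.of L) ⟶ pullback (g₁ ≫ f) h := (pullback (g₁ ≫ f) h).fromSpecResidueField z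
    have hφ : φ (IsLocalRing.closedPoint L) = z := Scheme.fromSpecResidueField_apply _ _
    let a : Spec (.of L) ⟶ Spec (.of K) := φ ≫ pullback.fst (g₁ ≫ f) h
    let b : Spec (.of L) ⟶ Y' := φ ≫ pullback.snd (g₁ ≫ f) h
    have hab : a ≫ (g₁ ≫ f) = b ≫ h := by
      simp only [a, b, Category.assoc, pullback.condition]
    have hab2 : a ≫ (g₂ ≫ f) = b ≫ h := by rw [← hg]; exact hab
    let G₁ : Spec (.of L) ⟶ X' := sq.lift (a ≫ g₁) b (by rw [Category.assoc]; exact hab)
    let G₂ : Spec (.of L) ⟶ X' := sq.lift (a ≫ g₂) b (by rw [Category.assoc]; exact hab2)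
    have hG1 : G₁ ≫ f' = b := sq.lift_snd _ _ _
    have hG2 : G₂ ≫ f' = b := sq.lift_snd _ _ _
    have hG1' : G₁ ≫ h' = a ≫ g₁ := sq.lift_fst _ _ _
    have hG2' : G₂ ≫ h' = a ≫ g₂ := sq.lift_fst _ _ _
    have hG : G₁ = G₂ := by
      apply hrad L G₁ G₂
      · rw [hG1, hG2]
      · rw [hG1, Scheme.Hom.comp_apply, hφ, hz2]
    have h1 : a ≫ g₁ = a ≫ g₂ := by rw [← hG1', ← hG2', hG]
    -- `a` is an epimorphism: a morphism of spectra of fields
    obtain ⟨ψ, hψ⟩ : ∃ ψ : CommRingCat.of K ⟶ CommRingCat.of L,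
        a = Spec.map ψ := ⟨Spec.preimage a, (Spec.map_preimage a).symm⟩
    haveI : Flat a := by
      rw [hψ, HasRingHomProperty.Spec_iff (P := @Flat)]
      letI := ψ.hom.toAlgebra
      show Module.Flat K L
      infer_instance
    haveI : Surjective a := by
      refine ⟨fun pt => ⟨IsLocalRing.closedPoint _, Subsingleton.elim _ _⟩⟩
    haveI : Epi a := Flat.epi_of_flat_of_surjective a
    exact (cancel_epi a).1 h1

end Groth.Agent.S5863
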