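import Groth.Statements.S4621
import Groth.Agent.Lib.Helper21.GeomConnComp

set_option autoImplicit false
open CategoryTheory AlgebraicGeometry
universe u
open FBase

namespace Groth.Agent.S4621

/-- Let h : Y → X be a morphism of schemes over a field k, with Y nonempty and geometrically connected
over k. Then the connected component of X containing the (connected) image h(Y) is geometrically
connected: for every extension field K of k, the inverse image in X ⊗_k K of the connected component
of h(y), for a point y of Y, is connected. -/
theorem result {k K : Type u} [Field k] [Field K] [Algebra k K]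
    {X Y : Scheme.{u}} (f : X ⟶ Spec (CommRingCat.of k)) (g : Y ⟶ Spec (CommRingCat.of k)) (h : Y ⟶ X) (w : h ≫ f = g)
    [GeometricallyConnected g] (y : Y) :
    _root_.IsConnected (⇑(FBase.bcπ f K) ⁻¹' connectedComponent (h y)) := by
  have hgc : GeometricallyConnected g := inferInstance
  let s := Spec.map (CommRingCat.ofHom (algebraMap k (AlgebraicClosure k)))
  let π := Groth.Agent.Lib.Helper21.bcπ' f (AlgebraicClosure k)
  have hpb : IsPullback (Limits.pullback.fst h π) (Limits.pullback.snd h π ≫ Limits.pullback.snd f s) g s := by
    rw [← w]
    exact (IsPullback.of_hasPullback h π).paste_vert (IsPullback.of_hasPullback f s)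
  have hconn' : ConnectedSpace ↥(Limits.pullback h π) :=
    hgc.geometrically_connectedSpace _ _ _ hpb
  have hfs : Surjective (Limits.pullback.fst h π) := inferInstance
  have hconnY : ConnectedSpace ↥Y :=
    (Limits.pullback.fst h π).surjective.connectedSpace (Limits.pullback.fst h π).continuous
  have hrange : Set.range h ⊆ connectedComponent (h y) :=
    (isPreconnected_range h.continuous).subset_connectedComponent ⟨y, rfl⟩
  have hT : _root_.IsPreconnected (Set.range (Limits.pullback.snd h π)) :=
    isPreconnected_range (Limits.pullback.snd h π).continuous
  have hTC : Set.range (Limits.pullback.snd h π) ⊆ π ⁻¹' connectedComponent (h y) := by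
    rintro _ ⟨w', rfl⟩
    apply hrange
    refine ⟨Limits.pullback.fst h π w', ?_⟩
    have := congrArg (fun φ => φ w') (Limits.pullback.condition (f := h) (g := π))
    rw [← Scheme.Hom.comp_apply, ← Scheme.Hom.comp_apply, Limits.pullback.condition]
  have hfib : π ⁻¹' {h y} ⊆ Set.range (Limits.pullback.snd h π) := by
    intro z hz
    have hz' : h y = π z := hz.symm
    obtain ⟨w', -, hw'⟩ := Scheme.Pullback.exists_preimage_pullback (f := h) (g := π) y z hz'
    exact ⟨w', hw'⟩
  exact Groth.Agent.Lib.Helper21.isConnected_preimage_of_fibre f
    isPreconnected_connectedComponent isClosed_connectedComponent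
    hT hTC mem_connectedComponent hfib K

end Groth.Agent.S4621
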