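import Groth.Statements.S14623
import Mathlib.CategoryTheory.Functor.Derived.Adjunction
import Mathlib.CategoryTheory.Functor.Derived.PointwiseLeftDerived
import Mathlib.CategoryTheory.Functor.Derived.PointwiseRightDerived
import Mathlib.CategoryTheory.Localization.Adjunction
import Mathlib.Algebra.Homology.DerivedCategory.RightDerivedFunctorPlus
-- import your own Groth.Agent.* helpers here

set_option autoImplicit false
open CategoryTheory CategoryTheory.Limits
universe w v u
open CohDer

namespace Groth.Agent.S14623

section Complexes

variable {A B : Type*} [Category A] [Category B] [Preadditive A] [Preadditive B]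
  {L : A ⥤ B} {R : B ⥤ A} (adj : L ⊣ R) [L.Additive] [R.Additive]

/-- An adjunction between additive functors induces an adjunction on bounded below cochain
complexes. -/
noncomputable def adjPlus : L.mapCochainComplexPlus ⊣ R.mapCochainComplexPlus :=
  Adjunction.mkOfUnitCounit
    { unit :=
        { app := fun K => ObjectProperty.homMk
            { f := fun i => adj.unit.app (K.obj.X i)
              comm' := fun i j _ => by
                dsimp
                exact (adj.unit.naturality (K.obj.d i j)).symm }
          naturality := fun K K' f => by
            ext i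
            dsimp
            exact adj.unit.naturality (f.hom.f i) }
      counit :=
        { app := fun K => ObjectProperty.homMk
            { f := fun i => adj.counit.app (K.obj.X i)
              comm' := fun i j _ => by
                dsimp
                exact (adj.counit.naturality (K.obj.d i j)).symm }
          naturality := fun K K' f => by
            ext i
            dsimp
            exact adj.counit.naturality (f.hom.f i) }
      left_triangle := by
        ext K i
        dsimp
        simp only [Category.id_comp]
        exact adj.left_triangle_components (K.obj.X i)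
      right_triangle := by
        ext K i
        dsimp
        simp only [Category.id_comp]
        exact adj.right_triangle_components (K.obj.X i) }

end Complexes

section Homotopy

variable {A B : Type*} [Category A] [Category B] [Abelian A] [Abelian B]
  {L : A ⥤ B} {R : B ⥤ A} (adj : L ⊣ R) [L.Additive] [R.Additive]

/-- Compatibility of the functors induced on bounded below complexes and on the bounded below
homotopy category. -/
noncomputable def quotientCompIso (F : A ⥤ B) [F.Additive] :
    F.mapCochainComplexPlus ⋙ HomotopyCategory.Plus.quotient B ≅
      HomotopyCategory.Plus.quotient A ⋙ F.mapHomotopyCategoryPlus :=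
  Iso.refl _

/-- The induced adjunction on bounded below homotopy categories. -/
noncomputable def adjK : L.mapHomotopyCategoryPlus ⊣ R.mapHomotopyCategoryPlus :=
  letI : CatCommSq L.mapCochainComplexPlus (HomotopyCategory.Plus.quotient A)
      (HomotopyCategory.Plus.quotient B) L.mapHomotopyCategoryPlus := ⟨quotientCompIso L⟩
  letI : CatCommSq R.mapCochainComplexPlus (HomotopyCategory.Plus.quotient B)
      (HomotopyCategory.Plus.quotient A) R.mapHomotopyCategoryPlus := ⟨quotientCompIso R⟩
  (adjPlus adj).localization (HomotopyCategory.Plus.quotient A)
    ((HomologicalComplex.homotopyEquivalences A (.up ℤ)).inverseImage (CochainComplex.Plus.ι A))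
    (HomotopyCategory.Plus.quotient B)
    ((HomologicalComplex.homotopyEquivalences B (.up ℤ)).inverseImage (CochainComplex.Plus.ι B))
    L.mapHomotopyCategoryPlus R.mapHomotopyCategoryPlus

/-- An exact functor preserves quasi-isomorphisms in the homotopy category. -/
theorem quasiIso_mapHomotopyCategory [PreservesFiniteLimits L] [PreservesFiniteColimits L]
    {K K' : HomotopyCategory A (.up ℤ)} (g : K ⟶ K')
    (hg : HomotopyCategory.quasiIso A (.up ℤ) g) :
    HomotopyCategory.quasiIso B (.up ℤ) ((L.mapHomotopyCategory (.up ℤ)).map g) := by
  obtain ⟨K, rfl⟩ := HomotopyCategory.quotient_obj_surjective K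
  obtain ⟨K', rfl⟩ := HomotopyCategory.quotient_obj_surjective K'
  obtain ⟨g, rfl⟩ := (HomotopyCategory.quotient _ _).map_surjective g
  rw [HomotopyCategory.quotient_map_mem_quasiIso_iff] at hg
  rw [Functor.mapHomotopyCategory_map]
  refine (HomotopyCategory.quotient_map_mem_quasiIso_iff _).mpr ?_
  rw [HomologicalComplex.mem_quasiIso_iff] at hg ⊢
  infer_instance

end Homotopy

/-- Let A and B be abelian categories with enough injectives, L : A ⥤ B an exact additive functor and R
: B ⥤ A an additive right adjoint of L. Then on bounded below derived categories the functor induced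
by L (written as its total right derived functor, L being exact) is left adjoint to the right
derived functor of R; the existence of an adjunction is asserted. -/
theorem result {A B : Type u} [Category.{v} A] [Category.{v} B]
    [Abelian A] [Abelian B] [HasDerivedCategory.{w} A] [HasDerivedCategory.{w} B]
    [EnoughInjectives A] [EnoughInjectives B] {L : A ⥤ B} {R : B ⥤ A} (adj : L ⊣ R)
    [L.Additive] [R.Additive] [PreservesFiniteLimits L] [PreservesFiniteColimits L] :
    Nonempty (L.rightDerivedFunctorPlus ⊣ R.rightDerivedFunctorPlus) := by
  have hL : (HomotopyCategory.Plus.quasiIso A).IsInvertedBy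
      (L.mapHomotopyCategoryPlus ⋙ DerivedCategory.Plus.Qh) := by
    intro K K' f hf
    apply Localization.inverts DerivedCategory.Plus.Qh (HomotopyCategory.Plus.quasiIso B)
    exact quasiIso_mapHomotopyCategory (L := L) f.hom hf
  have hiso : IsIso L.rightDerivedFunctorPlusUnit :=
    Functor.isIso_of_isRightDerivedFunctor_of_inverts _ _ hL
  let e : DerivedCategory.Plus.Qh ⋙ L.rightDerivedFunctorPlus ≅
      L.mapHomotopyCategoryPlus ⋙ DerivedCategory.Plus.Qh :=
    (asIso L.rightDerivedFunctorPlusUnit).symm
  have i1 : L.rightDerivedFunctorPlus.IsLeftDerivedFunctor e.hom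
      (HomotopyCategory.Plus.quasiIso A) :=
    Functor.isLeftDerivedFunctor_of_inverts _ _ e
  -- the composite `G' ⋙ F'` is a left derived functor
  let e' : DerivedCategory.Plus.Qh ⋙ (L.rightDerivedFunctorPlus ⋙ R.rightDerivedFunctorPlus) ≅
      (L.mapHomotopyCategoryPlus ⋙ DerivedCategory.Plus.Qh) ⋙ R.rightDerivedFunctorPlus :=
    (Functor.associator _ _ _).symm ≪≫ Functor.isoWhiskerRight e R.rightDerivedFunctorPlus
  have i3 : (L.rightDerivedFunctorPlus ⋙ R.rightDerivedFunctorPlus).IsLeftDerivedFunctor
      ((Functor.associator _ _ _).inv ≫ Functor.whiskerRight e.hom R.rightDerivedFunctorPlus)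
      (HomotopyCategory.Plus.quasiIso A) :=
    Functor.isLeftDerivedFunctor_of_inverts _ _ e'
  -- the composite `F' ⋙ G'` is a right derived functor
  have i4 : (R.rightDerivedFunctorPlus ⋙ L.rightDerivedFunctorPlus).IsRightDerivedFunctor
      (Functor.whiskerRight R.rightDerivedFunctorPlusUnit L.rightDerivedFunctorPlus ≫
        (Functor.associator _ _ _).hom)
      (HomotopyCategory.Plus.quasiIso B) := by
    refine (HomotopyCategory.Plus.localizerMorphism_derives _).isRightDerivedFunctor_of_isIso _
      (fun X₁ => ?_)
    rw [NatTrans.comp_app]
    dsimp only [Functor.whiskerRight_app, Functor.associator_hom_app]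
    have : IsIso (R.rightDerivedFunctorPlusUnit.app
        ((HomotopyCategory.Plus.localizerMorphism B).functor.obj X₁)) :=
      (HomotopyCategory.Plus.localizerMorphism_derives _).isIso_of_isRightDerivedFunctor _ _
    infer_instance
  exact ⟨(adjK adj).derived (HomotopyCategory.Plus.quasiIso A) (HomotopyCategory.Plus.quasiIso B)
    e.hom R.rightDerivedFunctorPlusUnit⟩

end Groth.Agent.S14623
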