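import Groth.Statements.S4333
import Groth.Agent.Lib.Helper1.LanFlat
import Groth.Agent.S14623
-- import your own Groth.Agent.* helpers here

set_option autoImplicit false
universe u
open CategoryTheory CategoryTheory.Limits AlgebraicGeometry Opposite
attribute [local instance] HasDerivedCategory.standard
open EtSix

namespace Groth.Agent.S4333

section Aux

attribute [local instance] CategoryTheory.Limits.reflectsLimits_of_reflectsIsomorphisms in
set_option backward.isDefEq.respectTransparency.types false in
theorem pull_exact (Λ : Type (u + 1)) [CommRing Λ] {X Y : Scheme.{u}} (f : X ⟶ Y) :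
    PreservesFiniteLimits (EtModW.pull Λ f) := by
  haveI : PreservesFilteredColimitsOfSize.{u, u + 1} (forget (ModuleCat.{u + 1} Λ)) :=
    preservesFilteredColimitsOfSize_shrink.{u + 1, u + 1, u, u + 1} _
  haveI : ∀ V : (X.Etale)ᵒᵖ, IsFiltered (CostructuredArrow (EtCoh.bc f).op V) := fun V =>
    IsFiltered.of_equivalence (structuredArrowOpEquivalence (EtCoh.bc f) (unop V))
  haveI : ∀ V : (X.Etale)ᵒᵖ, PreservesColimitsOfShape (CostructuredArrow (EtCoh.bc f).op V)
      (forget (ModuleCat.{u + 1} Λ)) := fun V =>
    PreservesFilteredColimitsOfSize.preserves_filtered_colimits _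
  haveI : PreservesFiniteLimits ((EtCoh.bc f).op.lan :
      ((Y.Etale)ᵒᵖ ⥤ ModuleCat.{u + 1} Λ) ⥤ ((X.Etale)ᵒᵖ ⥤ ModuleCat.{u + 1} Λ)) :=
    Groth.Agent.Lib.Helper1.LanFlat.lan_preservesFiniteLimits_of_flat
      (E := ModuleCat.{u + 1} Λ) (EtCoh.bc f)
  exact Functor.sheafPullbackConstruction.preservesFiniteLimits (EtCoh.bc f)
    (ModuleCat.{u + 1} Λ) Y.smallEtaleTopology X.smallEtaleTopology

end Aux

/-- Derived functors of adjoint functors are adjoint: for the inverse and direct image of sheaves of
Λ-modules along a morphism of schemes g : Y' -> Y, on bounded-below derived categories: there is an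
adjunction R⁺g^* ⊣ R⁺g_* between the bounded-below right derived functors of g^* and of g_*
(computed with injective resolutions). This is the bounded-below variant of the published statement
Lg^* ⊣ Rg_* on unbounded derived categories, with the bounded-below right derived functor of the
exact functor g^* (the functor g^* induces on D⁺) standing in for Lg^*. -/
theorem result (Λ : Type (u + 1)) [CommRing Λ] {Y Y' : Scheme.{u}} (g : Y' ⟶ Y) :
    Nonempty ((EtModW.pull Λ g).rightDerivedFunctorPlus ⊣ (EtModW.push Λ g).rightDerivedFunctorPlus) := by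
  haveI := pull_exact Λ g
  let adj : EtModW.pull Λ g ⊣ EtModW.push Λ g :=
    (EtCoh.bc g).sheafAdjunctionContinuous (ModuleCat.{u + 1} Λ) Y.smallEtaleTopology
      Y'.smallEtaleTopology
  haveI : PreservesColimitsOfSize.{0, 0} (EtModW.pull Λ g) := adj.leftAdjoint_preservesColimits
  haveI : PreservesFiniteColimits (EtModW.pull Λ g) := PreservesColimitsOfSize.preservesFiniteColimits _
  exact Groth.Agent.S14623.result adj

end Groth.Agent.S4333
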