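import Groth.Statements.S0412
import Groth.Agent.Lib.Helper35.SmoothSliceScheme
import Groth.Agent.Lib.Helper35.SepPoint

set_option autoImplicit false
universe u
open FlatMor

namespace Groth.Agent.S0412


open AlgebraicGeometry CategoryTheory Limits in
/-- A smooth morphism admits sections étale-locally on the target: every point in the image has an étale
neighbourhood over which the morphism has a section. -/
theorem result {X S : Scheme.{u}} (f : X ⟶ S) [Smooth f] (s : S) (hs : s ∈ Set.range f) :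
    ∃ (S' : Scheme.{u}) (g : S' ⟶ S) (s' : S'), Etale g ∧ g s' = s ∧ ∃ h : S' ⟶ X, h ≫ f = g := by
  obtain ⟨x₀, rfl⟩ := hs
  obtain ⟨_, ⟨U, hU, rfl⟩, hxU, -⟩ :=
    S.isBasis_affineOpens.exists_subset_of_mem_open (Set.mem_univ (f x₀)) isOpen_univ
  obtain ⟨_, ⟨V, hV, rfl⟩, hxV, hVU⟩ :=
    X.isBasis_affineOpens.exists_subset_of_mem_open hxU (U.2.preimage f.continuous)
  have hsm : RingHom.Smooth (f.appLE U V hVU).hom :=
    HasRingHomProperty.appLE (P := @Smooth) f inferInstance ⟨U, hU⟩ ⟨V, hV⟩ hVU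
  letI : Algebra Γ(S, U) Γ(X, V) := (f.appLE U V hVU).hom.toAlgebra
  haveI : Algebra.Smooth Γ(S, U) Γ(X, V) := RingHom.smooth_algebraMap.1 hsm
  let q₀ := (hV.primeIdealOf ⟨x₀, hxV⟩).asIdeal
  let p := (hU.primeIdealOf ⟨f x₀, hVU hxV⟩).asIdeal
  haveI : q₀.LiesOver p :=
    ⟨congr($(IsAffineOpen.comap_primeIdealOf_appLE U hU V hV hVU hxV).1).symm⟩
  obtain ⟨q, hq, hqp, hunr⟩ :=
    Groth.Agent.Lib.Helper35.SepPoint.exists_prime_formallyUnramified (B₀ := Γ(S, U))
      (C₀ := Γ(X, V)) p q₀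
  haveI : Algebra.FormallyUnramified Γ(S, U) (IsLocalRing.ResidueField (Localization.AtPrime q)) :=
    hunr
  obtain ⟨J₀, t, hJq, htq, hJfg, hét, P, hP, hPq⟩ :=
    Groth.Agent.Lib.Helper35.SmoothSlice.exists_slice_chart (B₀ := Γ(S, U)) (C₀ := Γ(X, V))
      (C := Localization.AtPrime q) q
  let ψ : Γ(X, V) →+* Localization.Away (Ideal.Quotient.mk J₀ t) :=
    (algebraMap (Γ(X, V) ⧸ J₀) (Localization.Away (Ideal.Quotient.mk J₀ t))).comp
      (Ideal.Quotient.mk J₀)
  refine ⟨Spec (CommRingCat.of (Localization.Away (Ideal.Quotient.mk J₀ t))),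
    Spec.map (CommRingCat.ofHom (algebraMap Γ(S, U)
        (Localization.Away (Ideal.Quotient.mk J₀ t)))) ≫ hU.fromSpec, ⟨P, hP⟩, ?_, ?_,
    Spec.map (CommRingCat.ofHom ψ) ≫ hV.fromSpec, ?_⟩
  · haveI : Etale (Spec.map (CommRingCat.ofHom (algebraMap Γ(S, U)
        (Localization.Away (Ideal.Quotient.mk J₀ t))))) := by
      rw [HasRingHomProperty.Spec_iff (P := @Etale)]
      exact RingHom.etale_algebraMap.2 hét
    infer_instance
  · have h1 : (Spec.map (CommRingCat.ofHom (algebraMap Γ(S, U)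
        (Localization.Away (Ideal.Quotient.mk J₀ t))))) ⟨P, hP⟩ =
        hU.primeIdealOf ⟨f x₀, hVU hxV⟩ := by
      apply PrimeSpectrum.ext
      show Ideal.comap (algebraMap Γ(S, U) (Localization.Away (Ideal.Quotient.mk J₀ t))) P = p
      have h2 : algebraMap Γ(S, U) (Localization.Away (Ideal.Quotient.mk J₀ t)) =
          ψ.comp (algebraMap Γ(S, U) Γ(X, V)) := rfl
      rw [h2, ← Ideal.comap_comap, hPq]
      exact (hqp.over).symm
    show hU.fromSpec ((Spec.map _) _) = f x₀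
    rw [h1]
    exact hU.fromSpec_primeIdealOf ⟨f x₀, hVU hxV⟩
  · rw [Category.assoc, ← IsAffineOpen.SpecMap_appLE_fromSpec f hU hV hVU, ← Category.assoc,
      ← Spec.map_comp]
    rfl

end Groth.Agent.S0412
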