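import Groth.Statements.S6627
import Groth.Agent.Lib.Helper70.PropA

set_option autoImplicit false
open CategoryTheory CategoryTheory.Limits AlgebraicGeometry Opposite
universe u
open EtCore

namespace Groth.Agent.S6627

/-- A separated morphism of schemes that is locally quasi-finite (locally of finite type with discrete
fibres) satisfies condition (A): for every etale U ⟶ X and every point u of U there are an etale V ⟶
Y, an open and closed subscheme W of X ×_Y V and an X-morphism W ⟶ U whose image contains u.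
(Locally of finite type is part of the meaning of locally quasi-finite here and is carried as a
separate hypothesis.) -/
theorem result {X Y : Scheme.{u}} (f : X ⟶ Y) [IsSeparated f]
    [LocallyQuasiFinite f] [LocallyOfFiniteType f] : BigSite.PropA f := by
  intro U g _ u
  -- an affine open neighbourhood of `u`
  obtain ⟨_, ⟨(U₀ : U.Opens), hU₀, rfl⟩, huU₀, -⟩ :=
    U.isBasis_affineOpens.exists_subset_of_mem_open (Set.mem_univ u) isOpen_univ
  have : IsAffine U₀.toScheme := hU₀
  let e₀ : U₀.toScheme ⟶ X := U₀.ι ≫ g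
  let u₀ : U₀.toScheme := ⟨u, huU₀⟩
  have hsep : IsSeparated (e₀ ≫ f) := inferInstance
  have : LocallyQuasiFinite e₀ :=
    Groth.Agent.Lib.Helper70.WeightingLSC.locallyQuasiFinite_of_etale e₀
  have hlqf : LocallyQuasiFinite (e₀ ≫ f) := inferInstance
  obtain ⟨V, v, v₀, hv, hvv₀, J, hJ, Vp, vp, h1, h2, h3, h4⟩ :=
    Groth.Agent.Lib.Helper70.MultiPt.hasPieces_of_locallyQuasiFinite (e₀ ≫ f) ((e₀ ≫ f) u₀)
      (fun _ : Unit => u₀) (fun _ _ _ => rfl) True (fun _ => hsep)
  obtain ⟨w, hw1, hw2⟩ := Scheme.Pullback.exists_preimage_pullback (f := e₀ ≫ f) (g := v) u₀ v₀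
    hvv₀.symm
  obtain ⟨j, rfl⟩ := h3 w () hw2 hw1
  obtain ⟨hmem, hfin, hsnd, huniq, ⟨-, hpi⟩, hfst⟩ := h1 () j
  obtain ⟨V₁, hv₀V₁, W, hWcl, hW, hW1, hW2⟩ :=
    Groth.Agent.Lib.Helper70.PropA.core f e₀ v v₀ (Vp () j) hfin (vp () j) hmem hsnd huniq hpi
  refine ⟨V₁.toScheme, V₁.ι ≫ v, inferInstance, W, hWcl, hW ≫ U₀.ι, ?_, ?_⟩
  · rw [Category.assoc]; exact hW1
  · obtain ⟨p, hp⟩ := hW2
    refine ⟨p, ?_⟩
    rw [Scheme.Hom.comp_apply, hp, hfst]
    rfl

end Groth.Agent.S6627
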