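import Groth.Statements.S0067
import Groth.Agent.Lib.Helper70.ClosedImmDense

set_option autoImplicit false
open CategoryTheory CategoryTheory.Limits AlgebraicGeometry Opposite
universe u
open EtBase

namespace Groth.Agent.S0067

/-- Part (2), first half — pushforward of abelian étale sheaves along a closed immersion is fully
faithful. -/
theorem result {Z X : Scheme.{u}} (i : Z ⟶ X) [IsClosedImmersion i] [EtCoh.BCCont i] :
    (EtCoh.push i).Full ∧ (EtCoh.push i).Faithful := by
  haveI := Groth.Agent.Lib.Helper70.ClosedImmDense.isCoverDense_bc i
  haveI := Groth.Agent.Lib.Helper70.ClosedImmDense.isLocallyFull_bc i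
  exact ⟨Functor.IsCoverDense.full_sheafPushforwardContinuous _ _ _,
    Functor.IsCoverDense.faithful_sheafPushforwardContinuous _ _ _⟩

end Groth.Agent.S0067
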