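import Groth.Statements.S17512
import Mathlib

set_option autoImplicit false
universe u
open ThetaRep

namespace Groth.Agent.S17512

open scoped commutatorElement

section helpers

variable {k : Type u} [Field k] {Γ : Type u} [Group Γ] (ι : kˣ →* Γ) (hι : Function.Injective ι)
  (hcent : ι.range = Subgroup.center Γ) (hcomm : commutator Γ ≤ ι.range)

include hcent in
lemma central {z : Γ} (hz : z ∈ ι.range) (y : Γ) : y * z = z * y := by
  rw [hcent] at hz
  exact (Subgroup.mem_center_iff.1 hz y)

include hcomm in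
lemma comm_mem (x y : Γ) : ⁅x, y⁆ ∈ ι.range :=
  hcomm (by rw [commutator_def]; exact Subgroup.commutator_mem_commutator (Subgroup.mem_top x) (Subgroup.mem_top y))

/-- the commutator pairing with values in `kˣ` -/
noncomputable def e₀ (x y : Γ) : kˣ :=
  (MonoidHom.ofInjective hι).symm ⟨⁅x, y⁆, comm_mem ι hcomm x y⟩

lemma ι_e₀ (x y : Γ) : ι (e₀ ι hι hcomm x y) = ⁅x, y⁆ := by
  have := MonoidHom.apply_ofInjective_symm hι ⟨⁅x, y⁆, comm_mem ι hcomm x y⟩
  exact this

include hcent in
lemma e₀_mul_right (x y y' : Γ) :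
    e₀ ι hι hcomm x (y * y') = e₀ ι hι hcomm x y * e₀ ι hι hcomm x y' := by
  apply hι
  rw [map_mul, ι_e₀, ι_e₀, ι_e₀]
  have h1 : ⁅x, y * y'⁆ = ⁅x, y⁆ * (y * ⁅x, y'⁆ * y⁻¹) := by
    simp only [commutatorElement_def]; group
  rw [h1, central ι hcent (comm_mem ι hcomm x y') y, mul_inv_cancel_right]

include hcent in
lemma e₀_mul_left (x x' y : Γ) :
    e₀ ι hι hcomm (x * x') y = e₀ ι hι hcomm x y * e₀ ι hι hcomm x' y := by
  apply hι
  rw [map_mul, ι_e₀, ι_e₀, ι_e₀]
  have h1 : ⁅x * x', y⁆ = (x * ⁅x', y⁆ * x⁻¹) * ⁅x, y⁆ := by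
    simp only [commutatorElement_def]; group
  rw [h1, central ι hcent (comm_mem ι hcomm x' y) x, mul_inv_cancel_right,
    central ι hcent (comm_mem ι hcomm x' y)]

lemma e₀_eq_one_iff (x y : Γ) : e₀ ι hι hcomm x y = 1 ↔ x * y = y * x := by
  rw [← hι.eq_iff, ι_e₀, map_one, commutatorElement_eq_one_iff_mul_comm]

end helpers

section pairing

variable {k : Type u} [Field k] {Γ : Type u} [Group Γ] (ι : kˣ →* Γ) (hι : Function.Injective ι)
  (hcent : ι.range = Subgroup.center Γ) (hcomm : commutator Γ ≤ ι.range) [ι.range.Normal]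

/-- `x ↦ (ȳ ↦ e(x, y))` -/
noncomputable def φ₁ (x : Γ) : Γ ⧸ ι.range →* kˣ :=
  QuotientGroup.lift ι.range
    { toFun := e₀ ι hι hcomm x
      map_one' := by rw [e₀_eq_one_iff, mul_one, one_mul]
      map_mul' := e₀_mul_right ι hι hcent hcomm x }
    (by
      intro z hz
      rw [MonoidHom.mem_ker]
      show e₀ ι hι hcomm x z = 1
      rw [e₀_eq_one_iff]
      exact central ι hcent hz x)

lemma φ₁_mk (x y : Γ) : φ₁ ι hι hcent hcomm x (QuotientGroup.mk y) = e₀ ι hι hcomm x y := rfl

/-- the commutator pairing as a homomorphism `K →* (K →* kˣ)` -/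
noncomputable def φ : Γ ⧸ ι.range →* (Γ ⧸ ι.range →* kˣ) :=
  QuotientGroup.lift ι.range
    { toFun := φ₁ ι hι hcent hcomm
      map_one' := by
        refine QuotientGroup.monoidHom_ext _ (MonoidHom.ext fun y => ?_)
        show e₀ ι hι hcomm 1 y = 1
        rw [e₀_eq_one_iff, mul_one, one_mul]
      map_mul' := by
        intro x x'
        refine QuotientGroup.monoidHom_ext _ (MonoidHom.ext fun y => ?_)
        show e₀ ι hι hcomm (x * x') y = e₀ ι hι hcomm x y * e₀ ι hι hcomm x' y
        exact e₀_mul_left ι hι hcent hcomm x x' y }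
    (by
      intro z hz
      rw [MonoidHom.mem_ker]
      refine QuotientGroup.monoidHom_ext _ (MonoidHom.ext fun y => ?_)
      show e₀ ι hι hcomm z y = 1
      rw [e₀_eq_one_iff]
      exact (central ι hcent hz y).symm)

lemma φ_mk_mk (x y : Γ) :
    φ ι hι hcent hcomm (QuotientGroup.mk x) (QuotientGroup.mk y) = e₀ ι hι hcomm x y := rfl

lemma φ_injective : Function.Injective (φ ι hι hcent hcomm) := by
  rw [injective_iff_map_eq_one]
  intro x hx
  obtain ⟨x, rfl⟩ := QuotientGroup.mk_surjective x
  rw [QuotientGroup.eq_one_iff, hcent, Subgroup.mem_center_iff]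
  intro y
  have := DFunLike.congr_fun hx (QuotientGroup.mk y)
  rw [φ_mk_mk, MonoidHom.one_apply, e₀_eq_one_iff] at this
  exact this.symm

end pairing

section counting

variable {k : Type u} [Field k] [IsAlgClosed k] {Γ : Type u} [Group Γ] (ι : kˣ →* Γ)
  (hι : Function.Injective ι)
  (hcent : ι.range = Subgroup.center Γ) (hcomm : commutator Γ ≤ ι.range) [ι.range.Normal]
  [Finite (Γ ⧸ ι.range)] (hcop : (Nat.card (Γ ⧸ ι.range)).Coprime (ringExpChar k))

/-- the commutative group structure on `K = Γ ⧸ Z` -/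
@[reducible] noncomputable def commK : CommGroup (Γ ⧸ ι.range) :=
  { (inferInstance : Group (Γ ⧸ ι.range)) with
    mul_comm := by
      rintro ⟨a⟩ ⟨b⟩
      show (QuotientGroup.mk (a * b) : Γ ⧸ ι.range) = QuotientGroup.mk (b * a)
      rw [QuotientGroup.eq]
      have : (a * b)⁻¹ * (b * a) = (⁅b⁻¹, a⁻¹⁆ : Γ) := by
        rw [commutatorElement_def]; group
      rw [this]
      exact comm_mem ι hcomm _ _ }

include hcop in
lemma neZero_card : NeZero ((Nat.card (Γ ⧸ ι.range) : ℕ) : k) := by
  constructor
  have hpos : Nat.card (Γ ⧸ ι.range) ≠ 0 := Nat.card_pos.ne'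
  have key : ∀ q : ℕ, ExpChar k q → (Nat.card (Γ ⧸ ι.range)).Coprime q →
      ((Nat.card (Γ ⧸ ι.range) : ℕ) : k) ≠ 0 := by
    intro q hq hc
    cases hq with
    | zero => exact Nat.cast_ne_zero.2 hpos
    | prime hq' =>
      rw [Ne, CharP.cast_eq_zero_iff k q]
      intro hdvd
      have h1 := Nat.Coprime.eq_one_of_dvd hc.symm hdvd
      exact hq'.one_lt.ne' h1
  exact key _ (ringExpChar.expChar k) hcop

lemma relIndex_eq_card_map (S : Subgroup Γ) (hS : ι.range ≤ S) :
    ι.range.relIndex S = Nat.card (S.map (QuotientGroup.mk' ι.range)) := by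
  have h1 := Subgroup.relIndex_mul_index hS
  have h2 : (S.map (QuotientGroup.mk' ι.range)).index = S.index :=
    Subgroup.index_map_eq S (QuotientGroup.mk'_surjective _) (by rw [QuotientGroup.ker_mk']; exact hS)
  have h3 := (S.map (QuotientGroup.mk' ι.range)).card_mul_index
  rw [h2] at h3
  have h4 : ι.range.index = Nat.card (Γ ⧸ ι.range) := rfl
  have h5 : S.index ≠ 0 := by
    intro h0
    rw [h0, mul_zero] at h1
    exact (Nat.card_pos (α := Γ ⧸ ι.range)).ne' (h4 ▸ h1.symm)
  rw [h4, ← h3] at h1
  exact Nat.eq_of_mul_eq_mul_right (Nat.pos_of_ne_zero h5) h1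

include hι hcent hcomm hcop in
lemma key_count (H : Subgroup Γ) (hH : ι.range ≤ H) :
    ι.range.relIndex (Subgroup.centralizer (H : Set Γ)) = H.index := by
  letI := commK ι hcomm
  haveI := neZero_card ι hcop
  haveI : HasEnoughRootsOfUnity k (Monoid.exponent (Γ ⧸ ι.range)) :=
    HasEnoughRootsOfUnity.of_dvd k (n := Nat.card (Γ ⧸ ι.range)) Group.exponent_dvd_nat_card
  have hZC : ι.range ≤ Subgroup.centralizer (H : Set Γ) := by
    rw [hcent]; exact Subgroup.center_le_centralizer _
  rw [relIndex_eq_card_map ι _ hZC]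
  set π := QuotientGroup.mk' ι.range with hπ
  set Hb := H.map π with hHb
  have hbij : Function.Bijective (φ ι hι hcent hcomm) := by
    rw [Nat.bijective_iff_injective_and_card]
    exact ⟨φ_injective ι hι hcent hcomm,
      (CommGroup.card_monoidHom_of_hasEnoughRootsOfUnity (Γ ⧸ ι.range) k).symm⟩
  have hmap : ((Subgroup.centralizer (H : Set Γ)).map π).map (φ ι hι hcent hcomm) =
      (MonoidHom.domRestrictHom Hb kˣ).ker := by
    ext χ
    constructor
    · rintro ⟨_, ⟨x, hx, rfl⟩, rfl⟩
      rw [MonoidHom.mem_ker]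
      ext ⟨_, ⟨h, hh, rfl⟩⟩
      show ((φ ι hι hcent hcomm (QuotientGroup.mk x)) (QuotientGroup.mk h) : k) = _
      rw [φ_mk_mk, (e₀_eq_one_iff ι hι hcomm x h).2 (hx h hh).symm]
      rfl
    · intro hχ
      obtain ⟨xb, rfl⟩ := hbij.2 χ
      obtain ⟨x, rfl⟩ := QuotientGroup.mk_surjective xb
      refine ⟨_, ⟨x, ?_, rfl⟩, rfl⟩
      intro h hh
      rw [MonoidHom.mem_ker] at hχ
      have := DFunLike.congr_fun hχ ⟨QuotientGroup.mk h, ⟨h, hh, rfl⟩⟩
      have h2 : e₀ ι hι hcomm x h = 1 := this
      exact ((e₀_eq_one_iff ι hι hcomm x h).1 h2).symm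
  have h1 : Nat.card ((Subgroup.centralizer (H : Set Γ)).map π) =
      Nat.card (((Subgroup.centralizer (H : Set Γ)).map π).map (φ ι hι hcent hcomm)) :=
    Nat.card_congr (Subgroup.equivMapOfInjective _ _ hbij.1).toEquiv
  rw [h1, hmap, CommGroup.card_domRestrictHom_ker]
  have h2 : Hb.index = H.index :=
    Subgroup.index_map_eq H (QuotientGroup.mk'_surjective _) (by rw [QuotientGroup.ker_mk']; exact hH)
  rw [← h2]
  rfl

end counting

/-- For the group of k-points of a non-degenerate theta group with constant K, let k be an algebraically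
closed field and Γ a group given with an injective homomorphism ι from kˣ onto the centre of Γ such
that K = Γ/ι(kˣ) is finite and commutative (all commutators lie in ι(kˣ)) of order prime to the
characteristic exponent of k — the group of k-points of a non-degenerate theta group 1 → G_m → G → K
→ 1 with rank(K) prime to char(k). Subgroups of K correspond to subgroups H of Γ containing ι(kˣ);
such an H is totally isotropic for the commutator pairing exactly when it is commutative, and its
orthogonal corresponds to the centralizer of H. For a subgroup H ⊇ ι(kˣ) the following are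
equivalent: (i) H is commutative and maximal among commutative subgroups of Γ; (ii) H is commutative
and [H : ι(kˣ)]² = [Γ : ι(kˣ)]; (iii) H is its own centralizer. (The published lemma is for an
arbitrary non-degenerate theta group scheme, where (iii) ⇔ (ii) ⇒ (i) always and (i) ⇒ (iii) needs k
algebraically closed; this row is the case of the group of k-points with K constant.) -/
theorem result
    (k : Type u) [Field k] [IsAlgClosed k]
    (Γ : Type u) [Group Γ] (ι : kˣ →* Γ) (hι : Function.Injective ι)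
    (hcent : ι.range = Subgroup.center Γ) (hcomm : commutator Γ ≤ ι.range)
    [Finite (Γ ⧸ ι.range)] (hcop : (Nat.card (Γ ⧸ ι.range)).Coprime (ringExpChar k))
    (H : Subgroup Γ) (hH : ι.range ≤ H) :
    List.TFAE [
      IsMulCommutative H ∧ ∀ H' : Subgroup Γ, IsMulCommutative H' → H ≤ H' → H' = H,
      IsMulCommutative H ∧ (ι.range.relIndex H) ^ 2 = ι.range.index,
      H = Subgroup.centralizer (H : Set Γ)] := by
  haveI : ι.range.Normal := by rw [hcent]; infer_instance
  have hkey := key_count ι hι hcent hcomm hcop H hH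
  have hidx := Subgroup.relIndex_mul_index hH
  have hidx_pos : ι.range.index ≠ 0 := by
    have : ι.range.index = Nat.card (Γ ⧸ ι.range) := rfl
    rw [this]; exact Nat.card_pos.ne'
  tfae_have 1 → 3 := by
    rintro ⟨hc, hmax⟩
    apply le_antisymm (Subgroup.le_centralizer_iff_isMulCommutative.2 hc)
    intro x hx
    set H' : Subgroup Γ := Subgroup.closure ((H : Set Γ) ∪ {x}) with hH'
    have hHH' : H ≤ H' := fun h hh => Subgroup.subset_closure (Or.inl hh)
    have hc' : IsMulCommutative H' := by
      rw [← Subgroup.le_centralizer_iff_isMulCommutative, hH', Subgroup.centralizer_closure,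
        Subgroup.closure_le]
      rintro a (ha | ha) b (hb | hb)
      · exact (Subgroup.le_centralizer_iff_isMulCommutative.2 hc) ha b hb
      · rw [Set.mem_singleton_iff] at hb; subst hb; exact (hx a ha).symm
      · rw [Set.mem_singleton_iff] at ha; subst ha; exact hx b hb
      · rw [Set.mem_singleton_iff] at ha hb; subst ha; subst hb; rfl
    rw [← hmax H' hc' hHH']
    exact Subgroup.subset_closure (Or.inr rfl)
  tfae_have 3 → 1 := by
    intro h3
    have hc : IsMulCommutative H := Subgroup.le_centralizer_iff_isMulCommutative.1 h3.le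
    refine ⟨hc, fun H' hc' hHH' => le_antisymm ?_ hHH'⟩
    rw [h3]
    exact (Subgroup.le_centralizer_iff_isMulCommutative.2 hc').trans (Subgroup.centralizer_le hHH')
  tfae_have 3 → 2 := by
    intro h3
    refine ⟨Subgroup.le_centralizer_iff_isMulCommutative.1 h3.le, ?_⟩
    rw [← h3] at hkey
    rw [pow_two]
    nth_rewrite 2 [hkey]
    exact hidx
  tfae_have 2 → 3 := by
    rintro ⟨hc, h2⟩
    have hle : H ≤ Subgroup.centralizer (H : Set Γ) := Subgroup.le_centralizer_iff_isMulCommutative.2 hc
    apply le_antisymm hle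
    have hrel_pos : ι.range.relIndex H ≠ 0 := by
      intro h0; rw [h0, zero_mul] at hidx; exact hidx_pos hidx.symm
    have h4 : ι.range.relIndex H = H.index := by
      rw [pow_two, ← hidx] at h2
      exact Nat.eq_of_mul_eq_mul_left (Nat.pos_of_ne_zero hrel_pos) h2
    have h5 := Subgroup.relIndex_mul_relIndex ι.range H (Subgroup.centralizer (H : Set Γ)) hH hle
    rw [hkey, h4] at h5
    have h6 : H.relIndex (Subgroup.centralizer (H : Set Γ)) = 1 := by
      have hpos : 0 < H.index := Nat.pos_of_ne_zero (h4 ▸ hrel_pos)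
      exact Nat.eq_of_mul_eq_mul_left hpos (by rw [h5, mul_one])
    exact Subgroup.relIndex_eq_one.1 h6
  tfae_finish

end Groth.Agent.S17512
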