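import Groth.Statements.S13410
-- import your own Groth.Agent.* helpers here
import Mathlib
import Groth.Agent.Lib.Helper72.BipLab

set_option autoImplicit false
universe u v
open CombGraph

namespace Groth.Agent.S13410

/-- Let `A` be an abelian group and `G` a finite connected simple graph on `V`, bipartite for a
two-colouring `c`. Consider the additive group of labellings `x : Sym2 V → A` vanishing off the edge
set and with `∑_{e ∋ v} x e = 0` at every vertex `v`. If `e₀` is an edge whose deletion leaves `G`
connected, then evaluation at `e₀` restricted to this group is surjective and split: there is an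
additive map `φ : A → (Sym2 V → A)` with values in this group and with `φ a e₀ = a` for all `a`.
(The published statement concerns finite bipartite graphs in general; this row treats simple
graphs.) -/
theorem result {V : Type u} [Fintype V]
    [DecidableEq V] (G : SimpleGraph V) [DecidableRel G.Adj] (hconn : G.Connected) (c : V → Bool)
    (hbip : ∀ v w : V, G.Adj v w → c v ≠ c w) (A : Type v) [AddCommGroup A] (e₀ : Sym2 V)
    (he₀ : e₀ ∈ G.edgeSet) (hdel : (G.deleteEdges {e₀}).Connected) :
    ∃ φ : A →+ (Sym2 V → A),
      (∀ a : A, (∀ e : Sym2 V, e ∉ G.edgeSet → φ a e = 0) ∧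
        ∀ v : V, ∑ e ∈ G.incidenceFinset v, φ a e = 0) ∧
      ∀ a : A, φ a e₀ = a := by
  classical
  induction e₀ using Sym2.ind with
  | h v₀ w₀ =>
  have hadj : G.Adj v₀ w₀ := he₀
  let p' : (G.deleteEdges {s(v₀, w₀)}).Walk w₀ v₀ := (hdel.preconnected w₀ v₀).some
  let p : G.Walk w₀ v₀ := p'.mapLe (SimpleGraph.deleteEdges_le _)
  have hedges : s(v₀, w₀) ∉ p.edges := by
    intro h
    rw [SimpleGraph.Walk.edges_mapLe_eq_edges] at h
    have := p'.edges_subset_edgeSet h
    rw [SimpleGraph.edgeSet_deleteEdges] at this
    exact this.2 rfl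
  have hodd : Odd p.length := by
    rw [← Nat.not_even_iff_odd]
    intro h
    have := (Groth.Agent.Lib.Helper72.BipLab.even_length_iff G c hbip p).1 h
    exact hbip _ _ hadj this.symm
  refine ⟨{ toFun := fun a => Groth.Agent.Lib.Helper72.BipLab.edgeLab a s(v₀, w₀) -
      Groth.Agent.Lib.Helper72.BipLab.walkLab G a p
            map_zero' := ?_
            map_add' := ?_ }, ?_, ?_⟩
  · funext e
    simp [Groth.Agent.Lib.Helper72.BipLab.walkLab_zero, Groth.Agent.Lib.Helper72.BipLab.edgeLab]
  · intro a b
    funext e
    simp only [Groth.Agent.Lib.Helper72.BipLab.walkLab_add, Pi.sub_apply, Pi.add_apply,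
      Groth.Agent.Lib.Helper72.BipLab.edgeLab]
    split_ifs <;> abel
  · intro a
    constructor
    · intro e he
      have h1 : e ≠ s(v₀, w₀) := fun h => he (h ▸ he₀)
      have h2 : e ∉ p.edges := fun h => he (p.edges_subset_edgeSet h)
      simp only [AddMonoidHom.coe_mk, ZeroHom.coe_mk, Pi.sub_apply,
        Groth.Agent.Lib.Helper72.BipLab.edgeLab, if_neg h1,
        Groth.Agent.Lib.Helper72.BipLab.walkLab_eq_zero G a p h2, sub_zero]
    · intro u
      simp only [AddMonoidHom.coe_mk, ZeroHom.coe_mk, Pi.sub_apply, Finset.sum_sub_distrib,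
        Groth.Agent.Lib.Helper72.BipLab.sum_edgeLab G a hadj u,
        Groth.Agent.Lib.Helper72.BipLab.sum_walkLab G a p u]
      rw [Even.neg_one_pow (Odd.add_one hodd), one_smul]
      abel
  · intro a
    simp only [AddMonoidHom.coe_mk, ZeroHom.coe_mk, Pi.sub_apply,
      Groth.Agent.Lib.Helper72.BipLab.edgeLab, if_true,
      Groth.Agent.Lib.Helper72.BipLab.walkLab_eq_zero G a p hedges, sub_zero]

end Groth.Agent.S13410
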