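import Groth.Statements.S18404
import Mathlib
-- import your own Groth.Agent.* helpers here

set_option autoImplicit false
universe u
open Cubic

namespace Groth.Agent.S18404

open MvPolynomial Matrix

theorem eval_form (k : ℂ) (x : Fin 3 → ℂ) :
    eval x (HesseCubic.form k) = x 0 ^ 3 + x 1 ^ 3 + x 2 ^ 3 - 3 * k * (x 0 * x 1 * x 2) := by
  simp [HesseCubic.form]

/-- The polar form `T(v, x, y)` of the Hesse cubic. -/
noncomputable def Q (k : ℂ) (v x y : Fin 3 → ℂ) : ℂ :=
  v 0 * x 0 * y 0 + v 1 * x 1 * y 1 + v 2 * x 2 * y 2 -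
    k / 2 * (v 0 * (x 1 * y 2 + x 2 * y 1) + v 1 * (x 0 * y 2 + x 2 * y 0) +
      v 2 * (x 0 * y 1 + x 1 * y 0))

theorem key_identity (k : ℂ) (v w e : Fin 3 → ℂ) :
    ((1 - k ^ 3 / 4) * (v 0 * v 1 * v 2) - k ^ 2 / 4 * (v 0 ^ 3 + v 1 ^ 3 + v 2 ^ 3)) *
      (e 0 * (v 1 * w 2 - v 2 * w 1) + e 1 * (v 2 * w 0 - v 0 * w 2) +
        e 2 * (v 0 * w 1 - v 1 * w 0)) ^ 2 =
    Q k v v v * (Q k v e e * Q k v w w - Q k v e w ^ 2) +
      Q k v v w * (2 * Q k v e v * Q k v e w - Q k v e e * Q k v v w) -
      Q k v w w * Q k v e v ^ 2 := by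
  simp only [Q]
  ring

theorem forward (k : ℂ) (hk : k ^ 3 ≠ 1) (v w : Fin 3 → ℂ)
    (hCv : eval v (HesseCubic.form k) = 0)
    (hli : LinearIndependent ℂ ![v, w])
    (hflex : ∀ t : ℂ, eval (v + t • w) (HesseCubic.form k) = t ^ 3 * eval w (HesseCubic.form k)) :
    v 0 * v 1 * v 2 = 0 := by
  rw [eval_form] at hCv
  have h1 := hflex 1
  have h2 := hflex (-1)
  simp only [eval_form, Pi.add_apply, Pi.smul_apply, smul_eq_mul] at h1 h2
  have hvv : Q k v v v = 0 := by simp only [Q]; linear_combination hCv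
  have hvw : Q k v v w = 0 := by simp only [Q]; linear_combination (1 / 6) * h1 - (1 / 6) * h2
  have hww : Q k v w w = 0 := by
    simp only [Q]; linear_combination (1 / 6) * h1 + (1 / 6) * h2 - (1 / 3) * hCv
  have hn : crossProduct v w ≠ 0 := crossProduct_ne_zero_iff_linearIndependent.mpr hli
  obtain ⟨i, hi⟩ := Function.ne_iff.mp hn
  have hD : ∃ e : Fin 3 → ℂ, (e 0 * (v 1 * w 2 - v 2 * w 1) + e 1 * (v 2 * w 0 - v 0 * w 2) +
      e 2 * (v 0 * w 1 - v 1 * w 0)) ≠ 0 := by
    refine ⟨Pi.single i 1, ?_⟩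
    rw [cross_apply] at hi
    fin_cases i <;> simpa using hi
  obtain ⟨e, he⟩ := hD
  have hid := key_identity k v w e
  rw [hvv, hvw, hww] at hid
  simp only [zero_mul, add_zero, sub_zero] at hid
  have hdet : (1 - k ^ 3 / 4) * (v 0 * v 1 * v 2) - k ^ 2 / 4 * (v 0 ^ 3 + v 1 ^ 3 + v 2 ^ 3) = 0 := by
    rcases mul_eq_zero.mp hid with h | h
    · exact h
    · exact absurd (pow_eq_zero_iff two_ne_zero |>.mp h) he
  have h3 : (1 - k ^ 3) * (v 0 * v 1 * v 2) = 0 := by
    linear_combination hdet + (k ^ 2 / 4) * hCv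
  rcases mul_eq_zero.mp h3 with h | h
  · exact absurd (sub_eq_zero.mp h).symm hk
  · exact h

theorem backward_aux (k γ c : ℂ) (hγ : γ ^ 3 = 1) (hc : c ≠ 0) :
    (∃ w : Fin 3 → ℂ, LinearIndependent ℂ ![c • ![0, 1, -γ], w] ∧
      ∀ t : ℂ, eval (c • ![0, 1, -γ] + t • w) (HesseCubic.form k) =
        t ^ 3 * eval w (HesseCubic.form k)) ∧
    (∃ w : Fin 3 → ℂ, LinearIndependent ℂ ![c • ![-γ, 0, 1], w] ∧
      ∀ t : ℂ, eval (c • ![-γ, 0, 1] + t • w) (HesseCubic.form k) =
        t ^ 3 * eval w (HesseCubic.form k)) ∧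
    (∃ w : Fin 3 → ℂ, LinearIndependent ℂ ![c • ![1, -γ, 0], w] ∧
      ∀ t : ℂ, eval (c • ![1, -γ, 0] + t • w) (HesseCubic.form k) =
        t ^ 3 * eval w (HesseCubic.form k)) := by
  refine ⟨⟨![1, -(k * γ), 0], ?_, ?_⟩, ⟨![0, 1, -(k * γ)], ?_, ?_⟩, ⟨![-(k * γ), 0, 1], ?_, ?_⟩⟩
  · rw [LinearIndependent.pair_iff]
    intro s t hst
    have e0 := congr_fun hst 0
    have e1 := congr_fun hst 1
    simp at e0 e1
    subst e0
    simp [hc] at e1
    exact ⟨e1, rfl⟩
  · intro t
    simp only [eval_form]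
    simp
    linear_combination (-c ^ 3) * hγ
  · rw [LinearIndependent.pair_iff]
    intro s t hst
    have e1 := congr_fun hst 1
    have e2 := congr_fun hst 2
    simp at e1 e2
    subst e1
    simp [hc] at e2
    exact ⟨e2, rfl⟩
  · intro t
    simp only [eval_form]
    simp
    linear_combination (-c ^ 3) * hγ
  · rw [LinearIndependent.pair_iff]
    intro s t hst
    have e2 := congr_fun hst 2
    have e0 := congr_fun hst 0
    simp at e2 e0
    subst e2
    simp [hc] at e0
    exact ⟨e0, rfl⟩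
  · intro t
    simp only [eval_form]
    simp
    linear_combination (-c ^ 3) * hγ

open MvPolynomial in
/-- Let k ∈ ℂ with k³ ≠ 1 and let h = X₀³ + X₁³ + X₂³ − 3k·X₀X₁X₂ be the Hesse cubic. For a nonzero
vector v with h(v) = 0, the corresponding point is a flex of the plane curve of h — some line
through it meets the curve there with multiplicity three, i.e. there is a vector w linearly
independent from v with h(v + t·w) = t³·h(w) for every t — exactly when v is a scalar multiple of
one of the nine vectors (0, 1, −γ), (−γ, 0, 1), (1, −γ, 0) with γ³ = 1. -/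
theorem result (k : ℂ) (hk : k ^ 3 ≠ 1) (v : Fin 3 → ℂ) (hv : v ≠ 0)
    (hCv : eval v (HesseCubic.form k) = 0) :
    (∃ w : Fin 3 → ℂ, LinearIndependent ℂ ![v, w] ∧
        ∀ t : ℂ, eval (v + t • w) (HesseCubic.form k) = t ^ 3 * eval w (HesseCubic.form k)) ↔
      ∃ γ c : ℂ, γ ^ 3 = 1 ∧ (v = c • ![0, 1, -γ] ∨ v = c • ![-γ, 0, 1] ∨ v = c • ![1, -γ, 0]) := by
  constructor
  · rintro ⟨w, hli, hflex⟩
    have hprod := forward k hk v w hCv hli hflex
    rw [eval_form] at hCv
    have hv' : v 0 ≠ 0 ∨ v 1 ≠ 0 ∨ v 2 ≠ 0 := by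
      by_contra hcon
      push Not at hcon
      apply hv
      funext i
      fin_cases i
      · exact hcon.1
      · exact hcon.2.1
      · exact hcon.2.2
    rcases mul_eq_zero.mp hprod with h01 | h2
    · rcases mul_eq_zero.mp h01 with h0 | h1
      · -- v 0 = 0
        have hsum : v 1 ^ 3 + v 2 ^ 3 = 0 := by rw [h0] at hCv; linear_combination hCv
        have h1ne : v 1 ≠ 0 := by
          intro h1
          rw [h1] at hsum
          have h2 : v 2 = 0 := by simpa using hsum
          rcases hv' with h | h | h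
          · exact h h0
          · exact h h1
          · exact h h2
        refine ⟨-(v 2 / v 1), v 1, ?_, Or.inl ?_⟩
        · field_simp
          linear_combination -hsum
        · funext i
          fin_cases i
          · simp [h0]
          · simp
          · simp; field_simp
      · -- v 1 = 0
        have hsum : v 0 ^ 3 + v 2 ^ 3 = 0 := by rw [h1] at hCv; linear_combination hCv
        have h2ne : v 2 ≠ 0 := by
          intro h2
          rw [h2] at hsum
          have h0 : v 0 = 0 := by simpa using hsum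
          rcases hv' with h | h | h
          · exact h h0
          · exact h h1
          · exact h h2
        refine ⟨-(v 0 / v 2), v 2, ?_, Or.inr (Or.inl ?_)⟩
        · field_simp
          linear_combination -hsum
        · funext i
          fin_cases i
          · simp; field_simp
          · simp [h1]
          · simp
    · -- v 2 = 0
      have hsum : v 0 ^ 3 + v 1 ^ 3 = 0 := by rw [h2] at hCv; linear_combination hCv
      have h0ne : v 0 ≠ 0 := by
        intro h0
        rw [h0] at hsum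
        have h1 : v 1 = 0 := by simpa using hsum
        rcases hv' with h | h | h
        · exact h h0
        · exact h h1
        · exact h h2
      refine ⟨-(v 1 / v 0), v 0, ?_, Or.inr (Or.inr ?_)⟩
      · field_simp
        linear_combination -hsum
      · funext i
        fin_cases i
        · simp
        · simp; field_simp
        · simp [h2]
  · rintro ⟨γ, c, hγ, hcase⟩
    have hc : c ≠ 0 := by
      rintro rfl
      apply hv
      rcases hcase with h | h | h <;> simp [h]
    obtain ⟨ha, hb, hc'⟩ := backward_aux k γ c hγ hc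
    rcases hcase with h | h | h
    · rw [h]; exact ha
    · rw [h]; exact hb
    · rw [h]; exact hc'

end Groth.Agent.S18404
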