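import Groth.Statements.S13453
import Groth.Agent.Lib.Helper68.HilbMono
-- import your own Groth.Agent.* helpers here

set_option autoImplicit false
universe u
open W4c1hilbpn

namespace Groth.Agent.S13453

open Groth.Agent.Lib.Helper68 MvPolynomial

variable {k : Type u} [Field k]

/-- The exponent of `x^a · (monomial β in y, z)`. -/
noncomputable def lift3 (a : ℕ) (β : Fin 2 →₀ ℕ) : Fin 3 →₀ ℕ :=
  Finsupp.mapDomain Fin.succ β + Finsupp.single 0 a

theorem lift3_zero (a : ℕ) (β : Fin 2 →₀ ℕ) : lift3 a β 0 = a := by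
  unfold lift3
  rw [Finsupp.add_apply, Finsupp.mapDomain_of_notMem_range, Finsupp.single_eq_same, zero_add]
  rintro ⟨i, hi⟩
  exact Fin.succ_ne_zero i hi

theorem lift3_succ (a : ℕ) (β : Fin 2 →₀ ℕ) (i : Fin 2) : lift3 a β i.succ = β i := by
  unfold lift3
  rw [Finsupp.add_apply, Finsupp.mapDomain_apply (Fin.succ_injective 2),
    Finsupp.single_eq_of_ne (Fin.succ_ne_zero i), add_zero]

theorem fin3_ext {f g : Fin 3 →₀ ℕ} (h0 : f 0 = g 0) (h : ∀ i : Fin 2, f i.succ = g i.succ) :
    f = g := by
  ext i
  refine Fin.cases h0 h i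

theorem mem_sliceX_iff {I : Ideal (MvPolynomial (Fin 3) k)} (hI : IsMonomial I) (a : ℕ)
    (f : MvPolynomial (Fin 2) k) :
    f ∈ sliceX I a ↔ ∀ β ∈ f.support, monomial (lift3 a β) (1 : k) ∈ I := by
  classical
  unfold sliceX
  rw [Ideal.mem_comap, Submodule.mem_colon_singleton, smul_eq_mul, X_pow_eq_monomial,
    IsMonomial_mul_monomial_mem_iff hI]
  simp only [AlgHom.toRingHom_eq_coe, RingHom.coe_coe]
  rw [support_rename_of_injective (Fin.succ_injective 2)]
  simp only [Finset.mem_image, forall_exists_index, and_imp, forall_apply_eq_imp_iff₂]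
  rfl

theorem monomial_mem_sliceX_iff {I : Ideal (MvPolynomial (Fin 3) k)} (hI : IsMonomial I) (a : ℕ)
    (β : Fin 2 →₀ ℕ) :
    β ∈ exps (sliceX I a) ↔ lift3 a β ∈ exps I := by
  classical
  unfold exps
  simp only [Set.mem_ofPred_eq]
  rw [mem_sliceX_iff hI, support_monomial, if_neg one_ne_zero]
  simp

open W4c1hilbpn in
/-- Let k be an infinite field, S = k[x,y,z] with variables ordered x > y > z, and I a strongly stable
ideal of finite colength; write I_i for the ideal of polynomials f in k[y,z] with x^i f in I (so I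
is the direct sum of the x^i I_i). Then each I_i is a strongly stable ideal of k[y,z] (with y > z)
and the ideal quotient (I_i : y) is contained in I_{i+1}. -/
theorem result (k : Type u) [Field k] [Infinite k]
    (I : Ideal (MvPolynomial (Fin 3) k)) (hI : IsStronglyStable I) [Module.Finite k (MvPolynomial (Fin 3) k ⧸ I)] (i : ℕ) :
    IsStronglyStable (sliceX I i) ∧
      (sliceX I i).colon {(MvPolynomial.X 0 : MvPolynomial (Fin 2) k)} ≤ sliceX I (i + 1) := by
  classical
  have hmon : IsMonomial (sliceX I i) := by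
    intro p hp β hβ
    have := (mem_sliceX_iff hI.1 i p).mp hp β hβ
    exact (monomial_mem_sliceX_iff hI.1 i β).mpr this
  refine ⟨⟨hmon, ?_⟩, ?_⟩
  · intro β hβ a b hab hb
    rw [monomial_mem_sliceX_iff hI.1] at hβ ⊢
    have h := hI.2 _ hβ a.succ b.succ (Fin.succ_lt_succ_iff.mpr hab)
      (by rw [lift3_succ]; exact hb)
    convert h using 1
    refine fin3_ext ?_ fun j => ?_
    · simp only [Finsupp.add_apply, Finsupp.tsub_apply, lift3_zero,
        Finsupp.single_eq_of_ne (Fin.succ_ne_zero _).symm]
      simp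
    · simp only [Finsupp.add_apply, Finsupp.tsub_apply, lift3_succ, Finsupp.single_apply,
        Fin.succ_inj]
  · intro f hf
    rw [Submodule.mem_colon_singleton, smul_eq_mul, mem_sliceX_iff hI.1] at hf
    rw [mem_sliceX_iff hI.1]
    intro β hβ
    have h1 := hf (β + Finsupp.single 0 1) (by
      rw [support_mul_X]
      exact Finset.mem_map.mpr ⟨β, hβ, rfl⟩)
    have h := hI.2 _ h1 (0 : Fin 3) (1 : Fin 3) (by decide) (by
      have : lift3 i (β + Finsupp.single 0 1) (Fin.succ 0) = _ := lift3_succ _ _ _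
      rw [show (1 : Fin 3) = Fin.succ 0 from rfl, this]
      simp)
    have heq : lift3 (i + 1) β =
        lift3 i (β + Finsupp.single 0 1) - Finsupp.single 1 1 + Finsupp.single 0 1 := by
      refine fin3_ext ?_ fun j => ?_
      · simp only [Finsupp.add_apply, Finsupp.tsub_apply, lift3_zero]
        simp
      · simp only [Finsupp.add_apply, Finsupp.tsub_apply, lift3_succ, Finsupp.single_apply]
        fin_cases j <;> simp
    show lift3 (i + 1) β ∈ exps I
    rw [heq]
    exact h

end Groth.Agent.S13453
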