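import Groth.Statements.S13454
import Groth.Agent.S13453
import Mathlib
-- import your own Groth.Agent.* helpers here

set_option autoImplicit false
universe u
open W4c1hilbpn

namespace Groth.Agent.S13454

section numeric

def T (m : ℕ) : ℕ := Nat.choose (m + 1) 2

theorem T_succ (m : ℕ) : T (m + 1) = T m + (m + 1) := by
  unfold T
  rw [Nat.choose_succ_succ (m + 1) 1, Nat.choose_one_right]
  ring

theorem T_mono : Monotone T := by
  intro a b hab
  unfold T
  exact Nat.choose_mono 2 (by omega)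

theorem T_lt {a b : ℕ} (hab : a < b) : T a < T b := by
  have h1 : T (a + 1) ≤ T b := T_mono hab
  have h2 := T_succ a
  omega

theorem T_le_iff {a b : ℕ} : T a ≤ T b ↔ a ≤ b := by
  constructor
  · intro h
    by_contra hlt
    have := T_lt (not_le.mp hlt)
    omega
  · exact fun h => T_mono h

theorem hockey (r : ℕ) : ∑ i ∈ Finset.range r, T (r - i) = Nat.choose (r + 2) 3 := by
  induction r with
  | zero => simp
  | succ r ih =>
    rw [Finset.sum_range_succ']
    have h1 : ∀ i ∈ Finset.range r, T (r + 1 - (i + 1)) = T (r - i) := by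
      intro i _
      rw [Nat.add_sub_add_right]
    rw [Finset.sum_congr rfl h1, ih]
    show Nat.choose (r + 2) 3 + T (r + 1 - 0) = Nat.choose (r + 1 + 2) 3
    rw [Nat.sub_zero]
    unfold T
    rw [show r + 1 + 2 = (r + 2) + 1 by ring, Nat.choose_succ_succ (r + 2) 2]
    ring

theorem back (c h : ℕ → ℕ) (r : ℕ)
    (H1 : ∀ i, c (i + 1) + h i ≤ c i) (H2 : ∀ i, c i ≤ T (h i))
    (i₀ : ℕ) (hi₀ : i₀ < r) (hc : T (r - i₀) < c i₀) :
    ∀ d, d ≤ i₀ → T (r - (i₀ - d)) < c (i₀ - d) := by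
  intro d
  induction d with
  | zero => intro _; simpa using hc
  | succ d ih =>
    intro hd
    have ih' := ih (by omega)
    obtain ⟨i, hi⟩ : ∃ i, i₀ - d = i + 1 := ⟨i₀ - d - 1, by omega⟩
    have hi' : i₀ - (d + 1) = i := by omega
    rw [hi] at ih'
    rw [hi']
    have h1 := H1 i
    have h2 := H2 i
    have h3 : r - (i + 1) < h i := by
      by_contra hcon
      have := T_mono (not_lt.mp hcon)
      omega
    have h4 : r - i = (r - (i + 1)) + 1 := by omega
    rw [h4, T_succ]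
    omega

theorem numeric1 (c h : ℕ → ℕ) (r : ℕ)
    (H1 : ∀ i, c (i + 1) + h i ≤ c i) (H2 : ∀ i, c i ≤ T (h i))
    (H3 : ∀ R, ∑ i ∈ Finset.range R, c i ≤ ∑ i ∈ Finset.range r, T (r - i))
    (j : ℕ) (hj : j ≤ r) :
    ∑ i ∈ Finset.Ico j r, c i ≤ ∑ i ∈ Finset.Ico j r, T (r - i) := by
  by_contra hcon
  have hlt := not_le.mp hcon
  obtain ⟨i₀, hi₀mem, hi₀⟩ := Finset.exists_lt_of_sum_lt hlt
  rw [Finset.mem_Ico] at hi₀mem
  have hb := back c h r H1 H2 i₀ hi₀mem.2 hi₀
  have h1 : ∑ i ∈ Finset.Ico 0 j, T (r - i) ≤ ∑ i ∈ Finset.Ico 0 j, c i := by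
    apply Finset.sum_le_sum
    intro i hi
    rw [Finset.mem_Ico] at hi
    have := hb (i₀ - i) (by omega)
    have e : i₀ - (i₀ - i) = i := by omega
    rw [e] at this
    exact this.le
  have h2 := Finset.sum_Ico_consecutive c (Nat.zero_le j) hj
  have h3 := Finset.sum_Ico_consecutive (fun i => T (r - i)) (Nat.zero_le j) hj
  have h4 := H3 r
  rw [Finset.range_eq_Ico] at h4
  omega

theorem numeric2 (c h : ℕ → ℕ) (r : ℕ)
    (H1 : ∀ i, c (i + 1) + h i ≤ c i) (H2 : ∀ i, c i ≤ T (h i))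
    (H3 : ∀ R, ∑ i ∈ Finset.range R, c i ≤ ∑ i ∈ Finset.range r, T (r - i))
    (Heq : ∀ j, j < r → ∑ i ∈ Finset.Ico j r, c i = ∑ i ∈ Finset.Ico j r, T (r - i)) :
    (∀ i, i < r → c i = T (r - i) ∧ h i = r - i) ∧ ∀ i, r ≤ i → c i = 0 := by
  have hc : ∀ i, i < r → c i = T (r - i) := by
    intro i hi
    have e1 := Heq i hi
    rw [Finset.sum_eq_sum_Ico_succ_bot hi, Finset.sum_eq_sum_Ico_succ_bot hi] at e1
    by_cases hi' : i + 1 < r
    · have e2 := Heq (i + 1) hi'
      omega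
    · have e3 : i + 1 = r := by omega
      rw [e3] at e1
      simpa using e1
  have hzero : ∀ i, r ≤ i → c i = 0 := by
    intro i hi
    have h4 := H3 (i + 1)
    have h5 : ∑ i ∈ Finset.range r, T (r - i) = ∑ i ∈ Finset.range r, c i :=
      (Finset.sum_congr rfl (fun i hi => hc i (Finset.mem_range.mp hi))).symm
    rw [h5, Finset.range_eq_Ico, Finset.range_eq_Ico,
      ← Finset.sum_Ico_consecutive c (Nat.zero_le r) (by omega : r ≤ i + 1)] at h4
    have h6 : ∑ l ∈ Finset.Ico r (i + 1), c l = 0 := by omega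
    rw [Finset.sum_eq_zero_iff] at h6
    exact h6 i (Finset.mem_Ico.mpr ⟨hi, by omega⟩)
  refine ⟨fun i hi => ⟨hc i hi, ?_⟩, hzero⟩
  have h1 := H1 i
  have h2 := H2 i
  rw [hc i hi] at h1 h2
  have h3 : r - i ≤ h i := T_le_iff.mp h2
  have h4 : r - i = (r - (i + 1)) + 1 := by omega
  by_cases hi' : i + 1 < r
  · rw [hc (i + 1) hi', h4, T_succ] at h1
    omega
  · have e3 : r - i = 1 := by omega
    have e4 : T 1 = 1 := by decide
    rw [e3, e4] at h1
    omega

end numeric

section comb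
open MvPolynomial Groth.Agent.Lib.Helper68 Groth.Agent.S13453
variable {k : Type u} [Field k]

theorem e3_0 (a b c : ℕ) : e3 a b c 0 = a := by simp [e3]
theorem e3_1 (a b c : ℕ) : e3 a b c 1 = b := by simp [e3]
theorem e3_2 (a b c : ℕ) : e3 a b c 2 = c := by simp [e3]

theorem fin3_ext' {f g : Fin 3 →₀ ℕ} (h0 : f 0 = g 0) (h1 : f 1 = g 1) (h2 : f 2 = g 2) :
    f = g := by
  apply Finsupp.ext
  intro i
  fin_cases i
  · exact h0
  · exact h1
  · exact h2

theorem e3_eta (γ : Fin 3 →₀ ℕ) : e3 (γ 0) (γ 1) (γ 2) = γ :=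
  fin3_ext' (e3_0 _ _ _) (e3_1 _ _ _) (e3_2 _ _ _)

theorem e3_inj {a b c a' b' c' : ℕ} (h : e3 a b c = e3 a' b' c') :
    a = a' ∧ b = b' ∧ c = c' := by
  refine ⟨?_, ?_, ?_⟩
  · have h0 := DFunLike.congr_fun h 0
    rwa [e3_0, e3_0] at h0
  · have h1 := DFunLike.congr_fun h 1
    rwa [e3_1, e3_1] at h1
  · have h2 := DFunLike.congr_fun h 2
    rwa [e3_2, e3_2] at h2

theorem lift3_eq (a : ℕ) (β : Fin 2 →₀ ℕ) : lift3 a β = e3 a (β 0) (β 1) := by
  apply fin3_ext'
  · rw [lift3_zero, e3_0]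
  · have h1 : lift3 a β (Fin.succ 0) = β 0 := lift3_succ a β 0
    exact h1.trans (e3_1 _ _ _).symm
  · have h1 : lift3 a β (Fin.succ 1) = β 1 := lift3_succ a β 1
    exact h1.trans (e3_2 _ _ _).symm

noncomputable def e2 (b c : ℕ) : Fin 2 →₀ ℕ := Finsupp.equivFunOnFinite.symm ![b, c]

theorem e2_0 (b c : ℕ) : e2 b c 0 = b := by simp [e2]
theorem e2_1 (b c : ℕ) : e2 b c 1 = c := by simp [e2]

theorem e2_eta (β : Fin 2 →₀ ℕ) : e2 (β 0) (β 1) = β := by
  apply Finsupp.ext
  rw [Fin.forall_fin_two]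
  exact ⟨e2_0 _ _, e2_1 _ _⟩

variable {I : Ideal (MvPolynomial (Fin 3) k)}

theorem exps_add_single {γ : Fin 3 →₀ ℕ} (hmem : γ ∈ exps I) (j : Fin 3) :
    γ + Finsupp.single j 1 ∈ exps I := by
  show monomial (γ + Finsupp.single j 1) (1 : k) ∈ I
  rw [monomial_add_single, pow_one]
  exact Ideal.mul_mem_right _ _ hmem

theorem U1 {a b c : ℕ} (h : e3 a b c ∈ exps I) : e3 a (b + 1) c ∈ exps I := by
  have h1 := exps_add_single h 1
  have e : e3 a b c + Finsupp.single 1 1 = e3 a (b + 1) c := by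
    apply fin3_ext' <;> simp [e3_0, e3_1, e3_2, Finsupp.single_apply]
  rwa [e] at h1

theorem U2 {a b c : ℕ} (h : e3 a b c ∈ exps I) : e3 a b (c + 1) ∈ exps I := by
  have h1 := exps_add_single h 2
  have e : e3 a b c + Finsupp.single 2 1 = e3 a b (c + 1) := by
    apply fin3_ext' <;> simp [e3_0, e3_1, e3_2, Finsupp.single_apply]
  rwa [e] at h1

theorem S12 (hI : IsStronglyStable I) {a b c : ℕ} (h : e3 a b (c + 1) ∈ exps I) :
    e3 a (b + 1) c ∈ exps I := by
  have h1 := hI.2 _ h 1 2 (by decide) (by rw [e3_2]; omega)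
  have e : e3 a b (c + 1) - Finsupp.single 2 1 + Finsupp.single 1 1 = e3 a (b + 1) c := by
    apply fin3_ext' <;> simp [e3_0, e3_1, e3_2, Finsupp.single_apply]
  rwa [e] at h1

theorem S01 (hI : IsStronglyStable I) {a b c : ℕ} (h : e3 a (b + 1) c ∈ exps I) :
    e3 (a + 1) b c ∈ exps I := by
  have h1 := hI.2 _ h 0 1 (by decide) (by rw [e3_1]; omega)
  have e : e3 a (b + 1) c - Finsupp.single 1 1 + Finsupp.single 0 1 = e3 (a + 1) b c := by
    apply fin3_ext' <;> simp [e3_0, e3_1, e3_2, Finsupp.single_apply]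
  rwa [e] at h1

theorem U1n {a b c : ℕ} (h : e3 a b c ∈ exps I) (d : ℕ) : e3 a (b + d) c ∈ exps I := by
  induction d with
  | zero => exact h
  | succ d ih => exact U1 ih

theorem U2n {a b c : ℕ} (h : e3 a b c ∈ exps I) (d : ℕ) : e3 a b (c + d) ∈ exps I := by
  induction d with
  | zero => exact h
  | succ d ih => exact U2 ih

theorem S12n (hI : IsStronglyStable I) {a m : ℕ} (h : e3 a 0 m ∈ exps I) :
    ∀ t, t ≤ m → e3 a t (m - t) ∈ exps I := by
  intro t
  induction t with
  | zero => intro _; exact h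
  | succ t ih =>
    intro ht
    have h1 := ih (by omega)
    have e : m - t = (m - (t + 1)) + 1 := by omega
    rw [e] at h1
    exact S12 hI h1

theorem tri_mem (hI : IsStronglyStable I) {a m b c : ℕ} (h : e3 a 0 m ∈ exps I)
    (hbc : m ≤ b + c) : e3 a b c ∈ exps I := by
  by_cases hb : b ≤ m
  · have h1 := S12n hI h b hb
    have h2 := U2n h1 (c - (m - b))
    have e : m - b + (c - (m - b)) = c := by omega
    rwa [e] at h2
  · have h1 := S12n hI h m le_rfl
    rw [Nat.sub_self] at h1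
    have h2 := U1n h1 (b - m)
    have e : m + (b - m) = b := by omega
    rw [e] at h2
    have h3 := U2n h2 c
    rwa [Nat.zero_add] at h3

def CmpSet (I : Ideal (MvPolynomial (Fin 3) k)) (a : ℕ) : Set (ℕ × ℕ) :=
  {q | e3 a q.1 q.2 ∉ exps I}

theorem compl_finite (hI : IsMonomial I) [Module.Finite k (MvPolynomial (Fin 3) k ⧸ I)] :
    {γ : Fin 3 →₀ ℕ | γ ∉ exps I}.Finite := by
  have hfin : Finite {γ : Fin 3 →₀ ℕ // γ ∉ exps I} := finite_not_mem_exps I hI
  exact (Set.finite_coe_iff (s := {γ : Fin 3 →₀ ℕ | γ ∉ exps I})).mp hfin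

theorem CmpSet_finite (hI : IsMonomial I) [Module.Finite k (MvPolynomial (Fin 3) k ⧸ I)]
    (a : ℕ) : (CmpSet I a).Finite := by
  have h0 : CmpSet I a = (fun q : ℕ × ℕ => e3 a q.1 q.2) ⁻¹' {γ | γ ∉ exps I} := rfl
  rw [h0]
  apply Set.Finite.preimage _ (compl_finite hI)
  intro q _ q' _ hqq'
  obtain ⟨-, h1, h2⟩ := e3_inj hqq'
  exact Prod.ext h1 h2

def Tri (m : ℕ) : Finset (ℕ × ℕ) := (Finset.range m).biUnion (fun s => Finset.HasAntidiagonal.antidiagonal s)

theorem mem_Tri {m : ℕ} {q : ℕ × ℕ} : q ∈ Tri m ↔ q.1 + q.2 < m := by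
  unfold Tri
  simp only [Finset.mem_biUnion, Finset.mem_range, Finset.HasAntidiagonal.mem_antidiagonal]
  constructor
  · rintro ⟨s, hs, hq⟩
    omega
  · intro h
    exact ⟨q.1 + q.2, h, rfl⟩

theorem card_Tri (m : ℕ) : (Tri m).card = T m := by
  unfold Tri
  rw [Finset.card_biUnion]
  · simp only [Finset.Nat.card_antidiagonal]
    induction m with
    | zero => simp [T]
    | succ m ih => rw [Finset.sum_range_succ, ih, T_succ]
  · intro s _ s' _ hss'
    show Disjoint (Finset.HasAntidiagonal.antidiagonal s) (Finset.HasAntidiagonal.antidiagonal s')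
    rw [Finset.disjoint_left]
    intro q hq hq'
    rw [Finset.HasAntidiagonal.mem_antidiagonal] at hq hq'
    exact hss' (hq.symm.trans hq')

/-- Standard monomial count for a monomial ideal with finitely many standard monomials. -/
theorem finrank_quot_monomial {σ : Type*} (J : Ideal (MvPolynomial σ k)) (hJ : IsMonomial J)
    [Finite {β : σ →₀ ℕ // β ∉ exps J}] :
    Module.finrank k (MvPolynomial σ k ⧸ J) = Nat.card {β : σ →₀ ℕ // β ∉ exps J} := by
  classical
  have : Fintype {β : σ →₀ ℕ // β ∉ exps J} := Fintype.ofFinite _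
  let φ : MvPolynomial σ k →ₗ[k] ({β : σ →₀ ℕ // β ∉ exps J} → k) :=
    LinearMap.pi (fun β => MvPolynomial.lcoeff k β.1)
  have hφ : ∀ f β, φ f β = coeff β.1 f := fun f β => rfl
  have hsurj : Function.Surjective φ := by
    intro g
    refine ⟨∑ β : {β : σ →₀ ℕ // β ∉ exps J}, monomial β.1 (g β), ?_⟩
    funext β'
    rw [hφ, coeff_sum]
    simp only [coeff_monomial]
    rw [Finset.sum_eq_single β']
    · simp
    · intro c _ hc
      rw [if_neg]
      intro h
      exact hc (Subtype.ext h)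
    · intro h
      exact absurd (Finset.mem_univ _) h
  have hker : LinearMap.ker φ = J.restrictScalars k := by
    ext f
    rw [LinearMap.mem_ker, Submodule.restrictScalars_mem, IsMonomial_mem_iff hJ]
    constructor
    · intro h β hβ
      by_contra hβJ
      have h1 := congrFun h ⟨β, hβJ⟩
      rw [hφ] at h1
      exact (mem_support_iff.mp hβ) h1
    · intro h
      funext β
      rw [hφ]
      by_contra hne
      exact β.2 (h β.1 (mem_support_iff.mpr hne))
  have e1 : (MvPolynomial σ k ⧸ LinearMap.ker φ) ≃ₗ[k] ({β : σ →₀ ℕ // β ∉ exps J} → k) :=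
    LinearMap.quotKerEquivOfSurjective φ hsurj
  have e2 : (MvPolynomial σ k ⧸ LinearMap.ker φ) ≃ₗ[k] (MvPolynomial σ k ⧸ J) :=
    (Submodule.quotEquivOfEq _ _ hker).trans (Submodule.Quotient.restrictScalarsEquiv k J)
  rw [← LinearEquiv.finrank_eq e2, LinearEquiv.finrank_eq e1, Module.finrank_fintype_fun_eq_card,
    Nat.card_eq_fintype_card]

end comb

open Groth.Agent.Lib.Helper68 Groth.Agent.S13453

open W4c1hilbpn in
/-- Let k be an infinite field, S = k[x,y,z] with variables ordered x > y > z and irrelevant ideal m, r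
a natural number, and I a strongly stable ideal of colength at most C(r+2, 3) = dim S/m^r; write I_i
for the ideal of polynomials f in k[y,z] with x^i f in I. Then for every j ≤ r the sum over j ≤ i <
r of dim k[y,z]/I_i is at most the sum over the same i of C(r-i+1, 2) = dim k[y,z]/(y,z)^{r-i}, and
if equality holds for every j < r then I = m^r. -/
theorem result (k : Type u) [Field k] [Infinite k] (r : ℕ)
    (I : Ideal (MvPolynomial (Fin 3) k)) (hI : IsStronglyStable I) [Module.Finite k (MvPolynomial (Fin 3) k ⧸ I)]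
    (hd : Module.finrank k (MvPolynomial (Fin 3) k ⧸ I) ≤ Nat.choose (r + 2) 3) :
    (∀ j, j ≤ r → ∑ i ∈ Finset.Ico j r, Module.finrank k (MvPolynomial (Fin 2) k ⧸ sliceX I i) ≤
        ∑ i ∈ Finset.Ico j r, Nat.choose (r - i + 1) 2) ∧
    ((∀ j, j < r → ∑ i ∈ Finset.Ico j r, Module.finrank k (MvPolynomial (Fin 2) k ⧸ sliceX I i) =
        ∑ i ∈ Finset.Ico j r, Nat.choose (r - i + 1) 2) → I = (Ideal.span (Set.range (MvPolynomial.X : Fin 3 → MvPolynomial (Fin 3) k))) ^ r) := by
  classical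
  have hmon : IsMonomial I := hI.1
  let Cmp : ℕ → Finset (ℕ × ℕ) := fun a => (CmpSet_finite hmon a).toFinset
  have hCmp : ∀ a (q : ℕ × ℕ), q ∈ Cmp a ↔ e3 a q.1 q.2 ∉ exps I := by
    intro a q
    exact Set.Finite.mem_toFinset _
  have hex : ∀ a, ∃ m, e3 a 0 m ∈ exps I := by
    intro a
    by_contra hcon
    push Not at hcon
    have hinf : (CmpSet I a).Infinite :=
      Set.infinite_of_injective_forall_mem (f := fun m : ℕ => ((0, m) : ℕ × ℕ))
        (fun m m' h => (Prod.ext_iff.mp h).2) (fun m => hcon m)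
    exact hinf (CmpSet_finite hmon a)
  let h : ℕ → ℕ := fun a => Nat.find (hex a)
  have hspec : ∀ a, e3 a 0 (h a) ∈ exps I := fun a => Nat.find_spec (hex a)
  have hmin : ∀ a m, m < h a → e3 a 0 m ∉ exps I := fun a m hm => Nat.find_min (hex a) hm
  have hsub : ∀ a, Cmp a ⊆ Tri (h a) := by
    intro a q hq
    rw [mem_Tri]
    by_contra hcon
    exact (hCmp a q).mp hq (tri_mem hI (hspec a) (not_lt.mp hcon))
  have H2 : ∀ a, (Cmp a).card ≤ T (h a) := by
    intro a
    rw [← card_Tri]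
    exact Finset.card_le_card (hsub a)
  have H1 : ∀ a, (Cmp (a + 1)).card + h a ≤ (Cmp a).card := by
    intro a
    let A : Finset (ℕ × ℕ) := (Cmp (a + 1)).image (fun q => (q.1 + 1, q.2))
    let B : Finset (ℕ × ℕ) := (Finset.range (h a)).image (fun c => ((0 : ℕ), c))
    have hA : A.card = (Cmp (a + 1)).card := by
      apply Finset.card_image_of_injective
      intro q q' hqq'
      simp only [Prod.mk.injEq, add_left_inj] at hqq'
      exact Prod.ext hqq'.1 hqq'.2
    have hB : B.card = h a := by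
      show ((Finset.range (h a)).image (fun c => ((0 : ℕ), c))).card = h a
      rw [Finset.card_image_of_injective, Finset.card_range]
      intro c c' hcc'
      exact (Prod.ext_iff.mp hcc').2
    have hdisj : Disjoint A B := by
      rw [Finset.disjoint_left]
      intro q hqA hqB
      obtain ⟨q1, _, rfl⟩ := Finset.mem_image.mp hqA
      obtain ⟨c, _, hc⟩ := Finset.mem_image.mp hqB
      have h0 := (Prod.ext_iff.mp hc).1
      simp at h0
    have hAB : A ∪ B ⊆ Cmp a := by
      intro q hq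
      rcases Finset.mem_union.mp hq with hqA | hqB
      · obtain ⟨q1, hq1, rfl⟩ := Finset.mem_image.mp hqA
        rw [hCmp]
        intro hmem
        exact (hCmp (a + 1) q1).mp hq1 (S01 hI hmem)
      · obtain ⟨c, hc, rfl⟩ := Finset.mem_image.mp hqB
        rw [hCmp]
        exact hmin a c (Finset.mem_range.mp hc)
    have h0 := Finset.card_le_card hAB
    rw [Finset.card_union_of_disjoint hdisj, hA, hB] at h0
    exact h0
  have hslice : ∀ a, Module.finrank k (MvPolynomial (Fin 2) k ⧸ sliceX I a) = (Cmp a).card := by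
    intro a
    have hmonS : IsMonomial (sliceX I a) := (Groth.Agent.S13453.result k I hI a).1.1
    have hmemS : ∀ β : Fin 2 →₀ ℕ, β ∉ exps (sliceX I a) ↔ (β 0, β 1) ∈ Cmp a := by
      intro β
      rw [hCmp, Groth.Agent.S13453.monomial_mem_sliceX_iff hmon, lift3_eq]
    let eqv : {β : Fin 2 →₀ ℕ // β ∉ exps (sliceX I a)} ≃ {q : ℕ × ℕ // q ∈ Cmp a} :=
      { toFun := fun β => ⟨(β.1 0, β.1 1), (hmemS β.1).mp β.2⟩
        invFun := fun q => ⟨e2 q.1.1 q.1.2, (hmemS _).mpr (by rw [e2_0, e2_1]; exact q.2)⟩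
        left_inv := fun β => Subtype.ext (e2_eta β.1)
        right_inv := fun q => Subtype.ext (Prod.ext (e2_0 _ _) (e2_1 _ _)) }
    have hfinS : Finite {β : Fin 2 →₀ ℕ // β ∉ exps (sliceX I a)} := Finite.of_equiv _ eqv.symm
    rw [finrank_quot_monomial (sliceX I a) hmonS, Nat.card_congr eqv, Nat.card_eq_finsetCard]
  have htotal : ∀ R, ∑ a ∈ Finset.range R, (Cmp a).card ≤ ∑ i ∈ Finset.range r, T (r - i) := by
    intro R
    rw [hockey]
    refine le_trans ?_ hd
    have hfinI : Finite {γ : Fin 3 →₀ ℕ // γ ∉ exps I} := finite_not_mem_exps I hmon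
    rw [finrank_quot_monomial I hmon]
    have hfin := compl_finite (I := I) hmon
    have e1 : Nat.card {γ : Fin 3 →₀ ℕ // γ ∉ exps I} = hfin.toFinset.card := by
      rw [← Nat.card_eq_finsetCard]
      apply Nat.card_congr
      exact Equiv.subtypeEquivRight (fun γ => by rw [Set.Finite.mem_toFinset]; rfl)
    rw [e1, ← Finset.card_sigma]
    apply Finset.card_le_card_of_injOn (fun x : (_ : ℕ) × (ℕ × ℕ) => e3 x.1 x.2.1 x.2.2)
    · intro x hx
      have hx' : x ∈ (Finset.range R).sigma Cmp := hx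
      rw [Finset.mem_sigma] at hx'
      show e3 x.1 x.2.1 x.2.2 ∈ hfin.toFinset
      rw [Set.Finite.mem_toFinset]
      exact (hCmp x.1 x.2).mp hx'.2
    · intro x _ y _ hxy
      obtain ⟨h1, h2, h3⟩ := e3_inj hxy
      exact Sigma.ext h1 (heq_of_eq (Prod.ext h2 h3))
  have Tdef : ∀ i, Nat.choose (r - i + 1) 2 = T (r - i) := fun i => rfl
  refine ⟨?_, ?_⟩
  · intro j hj
    simp only [hslice, Tdef]
    exact numeric1 (fun a => (Cmp a).card) h r H1 H2 htotal j hj
  · intro Heq
    simp only [hslice, Tdef] at Heq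
    obtain ⟨hA, hB⟩ := numeric2 (fun a => (Cmp a).card) h r H1 H2 htotal Heq
    have hCmpTri : ∀ a, a < r → Cmp a = Tri (r - a) := by
      intro a ha
      obtain ⟨h1, h2⟩ := hA a ha
      have hs := hsub a
      rw [h2] at hs
      apply Finset.eq_of_subset_of_card_le hs
      rw [card_Tri]
      exact h1.ge
    have hCmpEmpty : ∀ a, r ≤ a → Cmp a = ∅ := fun a ha => Finset.card_eq_zero.mp (hB a ha)
    have hmem : ∀ γ : Fin 3 →₀ ℕ, γ ∈ exps I ↔ r ≤ Finsupp.degree γ := by
      intro γ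
      have hdeg : Finsupp.degree γ = γ 0 + γ 1 + γ 2 := by
        rw [Finsupp.degree_eq_sum, Fin.sum_univ_three]
      have hγ : γ ∈ exps I ↔ (γ 1, γ 2) ∉ Cmp (γ 0) := by
        rw [hCmp, not_not]
        show γ ∈ exps I ↔ e3 (γ 0) (γ 1) (γ 2) ∈ exps I
        rw [e3_eta]
      rw [hγ, hdeg]
      by_cases ha : γ 0 < r
      · rw [hCmpTri _ ha, mem_Tri]
        show ¬ (γ 1 + γ 2 < r - γ 0) ↔ r ≤ γ 0 + γ 1 + γ 2
        omega
      · rw [hCmpEmpty _ (not_lt.mp ha)]
        simp only [Finset.notMem_empty, not_false_eq_true, true_iff]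
        omega
    ext f
    rw [IsMonomial_mem_iff hmon, MvPolynomial.mem_pow_idealOfVars_iff]
    constructor
    · intro hf β hβ
      exact (hmem β).mp (hf β hβ)
    · intro hf β hβ
      exact (hmem β).mpr (hf β hβ)

end Groth.Agent.S13454
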