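import Groth.Statements.S1535
import Groth.Agent.Lib.Helper62.SmoothReg7
import Mathlib.AlgebraicGeometry.Morphisms.Smooth
-- import your own Groth.Agent.* helpers here

set_option autoImplicit false
universe u
open CategoryTheory CategoryTheory.Limits AlgebraicGeometry
open Variety

namespace Groth.Agent.S1535

/-- If X is smooth over a field then every local ring of X is a regular local ring. -/
theorem result (k : Type u) [Field k] (X : Scheme.{u}) [X.Over (Spec (CommRingCat.of k))] [Smooth (X ↘ (Spec (CommRingCat.of k)))] (x : X) :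
    IsRegularLocalRing (X.presheaf.stalk x) := by
  obtain ⟨_, ⟨V, hV : IsAffineOpen V, rfl⟩, hxV, -⟩ :=
    X.isBasis_affineOpens.exists_subset_of_mem_open (Set.mem_univ x) isOpen_univ
  set f := X ↘ (Spec (CommRingCat.of k)) with hf
  have hsm : (f.appLE ⊤ V le_top).hom.Smooth :=
    Smooth.smooth_appLE f (isAffineOpen_top _) hV le_top
  let φ : k →+* Γ(X, V) :=
    (f.appLE ⊤ V le_top).hom.comp (Scheme.ΓSpecIso (CommRingCat.of k)).inv.hom
  have hφ : φ.Smooth :=
    RingHom.Smooth.respectsIso.2 _ (Scheme.ΓSpecIso (CommRingCat.of k)).symm.commRingCatIsoToRingEquiv hsm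
  letI : Algebra k Γ(X, V) := φ.toAlgebra
  haveI : Algebra.Smooth k Γ(X, V) := hφ
  haveI : Algebra.FiniteType k Γ(X, V) := inferInstance
  set q := (hV.primeIdealOf ⟨x, hxV⟩).asIdeal with hq
  haveI : Algebra.IsSmoothAt k q := by
    haveI : Algebra.FormallyEtale Γ(X, V) (Localization.AtPrime q) :=
      .of_isLocalization q.primeCompl
    exact Algebra.FormallySmooth.comp k Γ(X, V) (Localization.AtPrime q)
  have hreg := Groth.Agent.Lib.Helper62.SmoothReg.isRegularLocalRing_of_isSmoothAt k Γ(X, V) q
    inferInstance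
  letI := X.presheaf.algebra_section_stalk ⟨x, hxV⟩
  haveI := hV.isLocalization_stalk ⟨x, hxV⟩
  exact IsRegularLocalRing.of_ringEquiv
    (IsLocalization.algEquiv q.primeCompl (Localization.AtPrime q) (X.presheaf.stalk x)).toRingEquiv

end Groth.Agent.S1535
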