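import Groth.Statements.S2162
import Groth.Agent.Lib.Helper62.DimLoc8
import Mathlib.RingTheory.Localization.LocalizationLocalization

set_option autoImplicit false
set_option linter.style.haveILetI false
universe u
open CAlg

namespace Groth.Agent.S2162


open TensorProduct in
/-- a finitely generated field extension (the fraction field of a domain of finite type) is
formally smooth iff it is geometrically reduced. -/
theorem formallySmooth_fractionField_iff (k : Type u) [Field k] (C : Type u) [CommRing C]
    [IsDomain C] [Algebra k C] [Algebra.FiniteType k C] (κ : Type u) [Field κ] [Algebra C κ]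
    [IsFractionRing C κ] [Algebra k κ] [IsScalarTower k C κ] :
    Algebra.FormallySmooth k κ ↔ Algebra.IsGeometricallyReduced k κ := by
  have hmin : (⊥ : Ideal C) ∈ minimalPrimes C :=
    ⟨⟨Ideal.isPrime_bot, le_rfl⟩, fun _ _ _ => bot_le⟩
  constructor
  · intro h
    haveI : Algebra.IsSmoothAt k (⊥ : Ideal C) :=
      Algebra.FormallySmooth.of_equiv (Groth.Agent.Lib.Helper62.DimLoc.atPrimeBotEquiv k C κ).symm
    haveI := Groth.Agent.Lib.Helper62.GenRed.isGeometricallyReduced_atPrime_of_isSmoothAt k C
      (⊥ : Ideal C)
    exact Algebra.IsGeometricallyReduced.of_injective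
      (Groth.Agent.Lib.Helper62.DimLoc.atPrimeBotEquiv k C κ).symm.toAlgHom
      (Groth.Agent.Lib.Helper62.DimLoc.atPrimeBotEquiv k C κ).symm.injective
  · intro h
    haveI : Algebra.IsGeometricallyReduced k (Localization.AtPrime (⊥ : Ideal C)) :=
      Algebra.IsGeometricallyReduced.of_injective
        (Groth.Agent.Lib.Helper62.DimLoc.atPrimeBotEquiv k C κ).toAlgHom
        (Groth.Agent.Lib.Helper62.DimLoc.atPrimeBotEquiv k C κ).injective
    haveI : Algebra.IsSmoothAt k (⊥ : Ideal C) :=
      Groth.Agent.Lib.Helper62.GenRed.isSmoothAt_of_mem_minimalPrimes_of_geomReduced k C ⊥ hmin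
    exact Algebra.FormallySmooth.of_equiv (Groth.Agent.Lib.Helper62.DimLoc.atPrimeBotEquiv k C κ)

/-- Let `R → S` be an injective ring map of finite type between domains, with fraction fields `K ⊆ L`.
Then `R → S` is smooth at the zero ideal of `S` if and only if `L` is geometrically reduced over `K`
(the published statement phrases the condition as `L/K` being separable; here separability is
expressed as geometric reducedness). -/
theorem result {R S K L : Type u} [CommRing R] [IsDomain R] [CommRing S]
    [IsDomain S] [Algebra R S] [FaithfulSMul R S] [Algebra.FiniteType R S] [Field K] [Field L] [Algebra R K] [IsFractionRing R K]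
    [Algebra S L] [IsFractionRing S L] [Algebra K L] [Algebra R L] [IsScalarTower R S L] [IsScalarTower R K L] :
    Algebra.IsSmoothAt R (⊥ : Ideal S) ↔ Algebra.IsGeometricallyReduced K L := by
  classical
  letI : Algebra S (TensorProduct R K S) := Algebra.TensorProduct.rightAlgebra
  haveI hloc : IsLocalization (Algebra.algebraMapSubmonoid S (nonZeroDivisors R))
      (TensorProduct R K S) := IsLocalization.tensorRight K (nonZeroDivisors R)
  have hT : Algebra.algebraMapSubmonoid S (nonZeroDivisors R) ≤ nonZeroDivisors S :=
    map_le_nonZeroDivisors_of_injective _ (FaithfulSMul.algebraMap_injective R S) le_rfl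
  haveI : IsDomain (TensorProduct R K S) := IsLocalization.isDomain_of_le_nonZeroDivisors (TensorProduct R K S) hT
  let φ : TensorProduct R K S →ₐ[K] L :=
    Algebra.TensorProduct.lift (Algebra.ofId K L) (IsScalarTower.toAlgHom R S L)
      (fun _ _ => Commute.all _ _)
  letI : Algebra (TensorProduct R K S) L := φ.toRingHom.toAlgebra
  haveI : IsScalarTower K (TensorProduct R K S) L :=
    IsScalarTower.of_algebraMap_eq' φ.comp_algebraMap.symm
  haveI : IsScalarTower S (TensorProduct R K S) L := IsScalarTower.of_algebraMap_eq fun s => by
    change algebraMap S L s = φ ((1 : K) ⊗ₜ[R] s)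
    simp [φ]
  haveI : IsFractionRing (TensorProduct R K S) L :=
    IsFractionRing.isFractionRing_of_isDomain_of_isLocalization
      (Algebra.algebraMapSubmonoid S (nonZeroDivisors R)) (TensorProduct R K S) L
  haveI : Algebra.FiniteType K (TensorProduct R K S) := inferInstance
  rw [← formallySmooth_fractionField_iff K (TensorProduct R K S) L]
  have e : Localization.AtPrime (⊥ : Ideal S) ≃ₐ[R] L := by
    haveI : IsLocalization (⊥ : Ideal S).primeCompl L := by
      rw [Groth.Agent.Lib.Helper62.DimLoc.primeCompl_bot_eq]
      infer_instance
    exact (IsLocalization.algEquiv (⊥ : Ideal S).primeCompl _ _).restrictScalars R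
  constructor
  · intro h
    haveI : Algebra.FormallySmooth R (Localization.AtPrime (⊥ : Ideal S)) := h
    haveI : Algebra.FormallySmooth R L := Algebra.FormallySmooth.of_equiv e
    exact Algebra.FormallySmooth.localization_base (nonZeroDivisors R)
  · intro h
    haveI : Algebra.FormallySmooth R K := Algebra.FormallySmooth.of_isLocalization (nonZeroDivisors R)
    haveI : Algebra.FormallySmooth R L := Algebra.FormallySmooth.comp R K L
    exact Algebra.FormallySmooth.of_equiv e.symm

end Groth.Agent.S2162
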