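import Groth.Statements.S14080
import Groth.Agent.Lib.Helper76.PSInv
import Groth.Agent.Lib.Helper76.PSCont
import Mathlib.RingTheory.PowerSeries.Substitution
import Mathlib.RingTheory.MvPowerSeries.Inverse

set_option autoImplicit false
universe u
open ArSing

open Groth.Agent.Lib.Helper76.LT Groth.Agent.Lib.Helper76.PSInv

namespace Groth.Agent.S14080

/-- Let k be a field in which 2 is invertible and σ an involutive k-algebra automorphism of the power
series ring k[[t]], with ξ the coefficient of t in σ(t). Then ξ^2 = 1, the k-algebra endomorphism φ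
with φ(t) = (t + ξ σ(t))/2 is an automorphism, and φ⁻¹ σ φ is the automorphism t ↦ ξ t. (The
published statement is over an algebraically closed field of characteristic prime to 2; only the
invertibility of 2 is used, so any field with 2 ≠ 0 is allowed here.) -/
theorem result (k : Type u) [Field k] (h2 : (2 : k) ≠ 0)
    (σ : PowerSeries k ≃ₐ[k] PowerSeries k) (hσ : ∀ f, σ (σ f) = f) :
    (PowerSeries.coeff 1 (σ PowerSeries.X)) ^ 2 = 1 ∧
    ∃ φ : PowerSeries k ≃ₐ[k] PowerSeries k,
      φ PowerSeries.X = PowerSeries.C (2⁻¹ : k) *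
        (PowerSeries.X + PowerSeries.C (PowerSeries.coeff 1 (σ PowerSeries.X)) * σ PowerSeries.X) ∧
      ∀ f, φ.symm (σ (φ f)) = PowerSeries.rescale (PowerSeries.coeff 1 (σ PowerSeries.X)) f := by
  classical
  set s : MvPowerSeries Unit k := σ PowerSeries.X with hs
  have hs0 : MvPowerSeries.constantCoeff s = 0 := by
    by_contra h
    have hu : IsUnit s := MvPowerSeries.isUnit_iff_constantCoeff.mpr (IsUnit.mk0 _ h)
    have h1 : IsUnit (σ.symm s) := hu.map σ.symm
    rw [hs, AlgEquiv.symm_apply_apply] at h1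
    have h3 := MvPowerSeries.isUnit_iff_constantCoeff.mp h1
    rw [show (PowerSeries.X : PowerSeries k) = MvPowerSeries.X () from rfl,
      MvPowerSeries.constantCoeff_X] at h3
    exact not_isUnit_zero h3
  have hσsubst : ∀ f : MvPowerSeries Unit k, σ f = MvPowerSeries.subst (fun _ : Unit => s) f :=
    fun f => algHom_eq_subst (σ : MvPowerSeries Unit k →ₐ[k] MvPowerSeries Unit k)
      (fun _ => hs0) f
  set ξ : k := PowerSeries.coeff 1 s with hξ
  have hξ' : MvPowerSeries.coeff (Finsupp.single () 1) s = ξ := rfl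
  have hσs : σ s = MvPowerSeries.X () := hσ _
  have hξ2 : ξ ^ 2 = 1 := by
    have h1 := hσs
    rw [hσsubst] at h1
    have h2 := coeff_single_subst (b := fun _ : Unit => s) (fun _ => hs0) hs0 ()
    rw [h1] at h2
    simp only [Finset.univ_unique, Finset.sum_singleton, PUnit.default_eq_unit, hξ'] at h2
    rw [MvPowerSeries.coeff_X, if_pos rfl] at h2
    rw [pow_two]
    exact h2.symm
  refine ⟨hξ2, ?_⟩
  set p : MvPowerSeries Unit k := MvPowerSeries.C (2⁻¹ : k) *
    (MvPowerSeries.X () + MvPowerSeries.C ξ * s) with hp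
  have hp0 : ∀ _ : Unit, MvPowerSeries.constantCoeff p = 0 := fun _ => by
    rw [hp, map_mul, map_add, map_mul, hs0, MvPowerSeries.constantCoeff_X]
    simp
  have hp1 : MvPowerSeries.coeff (Finsupp.single () 1) p = 1 := by
    rw [hp, MvPowerSeries.coeff_C_mul, map_add, MvPowerSeries.coeff_C_mul, hξ',
      MvPowerSeries.coeff_X, if_pos rfl, ← pow_two, hξ2]
    rw [show (1 : k) + 1 = 2 by norm_num]
    exact inv_mul_cancel₀ h2
  have hJ : IsUnit (jac (fun _ : Unit => p)).det := by
    rw [Matrix.det_unique]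
    show IsUnit (MvPowerSeries.coeff (Finsupp.single default 1) p)
    rw [show (default : Unit) = () from rfl, hp1]
    exact isUnit_one
  let φ : MvPowerSeries Unit k ≃ₐ[k] MvPowerSeries Unit k := substEquiv hp0 hJ
  have hφ : ∀ f, φ f = MvPowerSeries.subst (fun _ : Unit => p) f := fun f => substEquiv_apply hp0 hJ f
  have hφX : φ (MvPowerSeries.X ()) = p := by
    rw [hφ, MvPowerSeries.subst_X (MvPowerSeries.hasSubst_of_constantCoeff_zero hp0)]
  have hC : ∀ (e : MvPowerSeries Unit k ≃ₐ[k] MvPowerSeries Unit k) (a : k),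
      e (MvPowerSeries.C a) = MvPowerSeries.C a := fun e a => by
    have := e.commutes a
    rwa [MvPowerSeries.algebraMap_apply, Algebra.algebraMap_self, RingHom.id_apply] at this
  have hresc : ∀ g : PowerSeries k, PowerSeries.rescaleAlgHom ξ g = PowerSeries.rescale ξ g :=
    fun g => RingHom.congr_fun (PowerSeries.coe_rescaleAlgHom ξ) g
  refine ⟨φ, hφX, fun f => ?_⟩
  rw [AlgEquiv.symm_apply_eq]
  -- two algebra maps agreeing on `X`
  let A1 : MvPowerSeries Unit k →ₐ[k] MvPowerSeries Unit k :=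
    (σ : MvPowerSeries Unit k →ₐ[k] MvPowerSeries Unit k).comp
      (φ : MvPowerSeries Unit k →ₐ[k] MvPowerSeries Unit k)
  let A2 : MvPowerSeries Unit k →ₐ[k] MvPowerSeries Unit k :=
    (φ : MvPowerSeries Unit k →ₐ[k] MvPowerSeries Unit k).comp (PowerSeries.rescaleAlgHom ξ)
  have hA1X : A1 (MvPowerSeries.X ()) =
      MvPowerSeries.C (2⁻¹ : k) * (s + MvPowerSeries.C ξ * MvPowerSeries.X ()) := by
    show σ (φ (MvPowerSeries.X ())) = _
    rw [hφX, hp, map_mul, map_add, map_mul, hC, hC, hσs]
    rfl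
  have hA2X : A2 (MvPowerSeries.X ()) =
      MvPowerSeries.C (2⁻¹ : k) * (s + MvPowerSeries.C ξ * MvPowerSeries.X ()) := by
    show φ (PowerSeries.rescaleAlgHom ξ PowerSeries.X) = _
    rw [hresc, PowerSeries.rescale_X]
    show φ (MvPowerSeries.C ξ * MvPowerSeries.X ()) = _
    rw [map_mul, hC, hφX, hp]
    have : (MvPowerSeries.C ξ : MvPowerSeries Unit k) * MvPowerSeries.C ξ = 1 := by
      rw [← map_mul, ← pow_two, hξ2, map_one]
    calc MvPowerSeries.C ξ * (MvPowerSeries.C 2⁻¹ * (MvPowerSeries.X () + MvPowerSeries.C ξ * s))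
        = MvPowerSeries.C 2⁻¹ * ((MvPowerSeries.C ξ * MvPowerSeries.C ξ) * s +
            MvPowerSeries.C ξ * MvPowerSeries.X ()) := by ring
      _ = _ := by rw [this, one_mul]
  have hcc : MvPowerSeries.constantCoeff (MvPowerSeries.C (2⁻¹ : k) *
      (s + MvPowerSeries.C ξ * MvPowerSeries.X ())) = 0 := by
    rw [map_mul, map_add, map_mul, hs0, MvPowerSeries.constantCoeff_X]
    simp
  have e1 := algHom_eq_subst A1 (fun _ => by rw [hA1X]; exact hcc) f
  have e2 := algHom_eq_subst A2 (fun _ => by rw [hA2X]; exact hcc) f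
  have e3 : A1 f = A2 f := by
    rw [e1, e2]
    congr 1
    funext u
    rw [hA1X, hA2X]
  have e4 : A2 f = φ (PowerSeries.rescale ξ f) := by
    show φ (PowerSeries.rescaleAlgHom ξ f) = _
    rw [hresc]
  exact e3.trans e4

end Groth.Agent.S14080
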