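import Groth.Statements.S0114
import Groth.Agent.S0112
import Mathlib.AlgebraicGeometry.Morphisms.UniversallyOpen
import Mathlib.AlgebraicGeometry.Morphisms.Flat
import Mathlib.AlgebraicGeometry.Morphisms.FinitePresentation

set_option autoImplicit false
open CategoryTheory CategoryTheory.Limits AlgebraicGeometry Opposite
universe u
open EtBase

namespace Groth.Agent.S0114

/-- Local finite presentation descends along an fppf cover of the source: if f is surjective, flat and
locally of finite presentation and f ≫ q is locally of finite presentation, then so is q. -/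
theorem result {X Y S : Scheme.{u}} (f : X ⟶ Y) (q : Y ⟶ S) [Surjective f] [Flat f]
    [LocallyOfFinitePresentation f] [LocallyOfFinitePresentation (f ≫ q)] :
    LocallyOfFinitePresentation q := by
  haveI : MorphismProperty.RespectsRight @LocallyOfFinitePresentation @IsOpenImmersion :=
    ⟨fun i hi f hf => by
      haveI : IsOpenImmersion i := hi
      haveI : LocallyOfFinitePresentation f := hf
      exact (inferInstance : LocallyOfFinitePresentation (f ≫ i))⟩
  rw [IsZariskiLocalAtSource.iff_exists_resLE (P := @LocallyOfFinitePresentation)]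
  intro y
  obtain ⟨x, rfl⟩ := f.surjective y
  obtain ⟨U, hU, hqU, -⟩ := TopologicalSpace.Opens.isBasis_iff_nbhd.mp S.isBasis_affineOpens
    (TopologicalSpace.Opens.mem_top (q (f x)))
  obtain ⟨V, hV, hfV, eV⟩ := TopologicalSpace.Opens.isBasis_iff_nbhd.mp Y.isBasis_affineOpens
    (show f x ∈ q ⁻¹ᵁ U from hqU)
  obtain ⟨W, hW, hxW, eW⟩ := TopologicalSpace.Opens.isBasis_iff_nbhd.mp X.isBasis_affineOpens
    (show x ∈ f ⁻¹ᵁ V from hfV)
  have hopen : IsOpen (f '' (W : Set X)) := f.isOpenMap _ W.isOpen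
  let O : Y.Opens := ⟨f '' (W : Set X), hopen⟩ ⊓ V
  have hfxO : f x ∈ O := ⟨⟨x, hxW, rfl⟩, hfV⟩
  obtain ⟨b, hbO, hfxb⟩ := hV.exists_basicOpen_le ⟨f x, hfxO⟩ hfV
  have hV' : IsAffineOpen (Y.basicOpen b) := hV.basicOpen b
  have hW' : IsAffineOpen (X.basicOpen (f.appLE V W eW b)) := hW.basicOpen _
  have hW'eq : X.basicOpen (f.appLE V W eW b) = W ⊓ f ⁻¹ᵁ (Y.basicOpen b) :=
    Scheme.basicOpen_appLE f W V eW b
  have e₁ : X.basicOpen (f.appLE V W eW b) ≤ f ⁻¹ᵁ (Y.basicOpen b) := by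
    rw [hW'eq]; exact inf_le_right
  have e₂ : Y.basicOpen b ≤ q ⁻¹ᵁ U := (Y.basicOpen_le b).trans eV
  refine ⟨U, Y.basicOpen b, hfxb, e₂, ?_⟩
  haveI : IsAffine (U : Scheme) := hU
  haveI : IsAffine (Y.basicOpen b : Scheme) := hV'
  haveI : IsAffine (X.basicOpen (f.appLE V W eW b) : Scheme) := hW'
  have hg_flat : Flat (f.resLE _ _ e₁) := IsZariskiLocalAtSource.resLE _ inferInstance
  have hg_fp : LocallyOfFinitePresentation (f.resLE _ _ e₁) :=
    IsZariskiLocalAtSource.resLE _ inferInstance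
  have hg_surj : Surjective (f.resLE _ _ e₁) := by
    refine ⟨fun v => ?_⟩
    have hv : v.1 ∈ O := hbO v.2
    obtain ⟨x', hx'W, hx'⟩ := hv.1
    have hx'W' : x' ∈ X.basicOpen (f.appLE V W eW b) := by
      rw [hW'eq]
      refine ⟨hx'W, ?_⟩
      show f x' ∈ Y.basicOpen b
      rw [hx']
      exact v.2
    refine ⟨⟨x', hx'W'⟩, ?_⟩
    apply (Y.basicOpen b).ι.isOpenEmbedding.injective
    have h1 := congrArg (fun φ => φ.base ⟨x', hx'W'⟩) (Scheme.Hom.resLE_comp_ι f e₁)
    simp only [Scheme.Hom.comp_base, TopCat.comp_app] at h1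
    rw [h1]
    exact hx'
  have hcomp : f.resLE _ _ e₁ ≫ q.resLE U _ e₂ = (f ≫ q).resLE U _
      (e₁.trans ((TopologicalSpace.Opens.map f.base).map (homOfLE e₂)).le) :=
    Scheme.Hom.resLE_comp_resLE f e₁ q e₂
  have hgh_fp : LocallyOfFinitePresentation (f.resLE _ _ e₁ ≫ q.resLE U _ e₂) := by
    rw [hcomp]
    exact IsZariskiLocalAtSource.resLE _ inferInstance
  have h1 : (f.resLE _ _ e₁).appTop.hom.FaithfullyFlat :=
    (Flat.flat_and_surjective_iff_faithfullyFlat_of_isAffine (f.resLE _ _ e₁)).mp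
      ⟨hg_flat, hg_surj⟩
  have h2 : (f.resLE _ _ e₁).appTop.hom.FinitePresentation :=
    HasRingHomProperty.appTop (P := @LocallyOfFinitePresentation) _ hg_fp
  have h3 : (f.resLE _ _ e₁ ≫ q.resLE U _ e₂).appTop.hom.FinitePresentation :=
    HasRingHomProperty.appTop (P := @LocallyOfFinitePresentation) _ hgh_fp
  rw [HasRingHomProperty.iff_of_isAffine (P := @LocallyOfFinitePresentation)]
  letI algRA : Algebra Γ((U : Scheme), ⊤) Γ((Y.basicOpen b : Scheme), ⊤) :=
    (q.resLE U _ e₂).appTop.hom.toAlgebra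
  letI algAB : Algebra Γ((Y.basicOpen b : Scheme), ⊤)
      Γ((X.basicOpen (f.appLE V W eW b) : Scheme), ⊤) :=
    (f.resLE _ _ e₁).appTop.hom.toAlgebra
  letI algRB : Algebra Γ((U : Scheme), ⊤) Γ((X.basicOpen (f.appLE V W eW b) : Scheme), ⊤) :=
    (f.resLE _ _ e₁ ≫ q.resLE U _ e₂).appTop.hom.toAlgebra
  haveI : IsScalarTower Γ((U : Scheme), ⊤) Γ((Y.basicOpen b : Scheme), ⊤)
      Γ((X.basicOpen (f.appLE V W eW b) : Scheme), ⊤) :=
    IsScalarTower.of_algebraMap_eq (fun r => by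
      show (f.resLE _ _ e₁ ≫ q.resLE U _ e₂).appTop.hom r =
        (f.resLE _ _ e₁).appTop.hom ((q.resLE U _ e₂).appTop.hom r)
      rw [Scheme.Hom.comp_appTop]
      rfl)
  haveI : Algebra.FinitePresentation Γ((U : Scheme), ⊤)
      Γ((X.basicOpen (f.appLE V W eW b) : Scheme), ⊤) := h3
  haveI : Algebra.FinitePresentation Γ((Y.basicOpen b : Scheme), ⊤)
      Γ((X.basicOpen (f.appLE V W eW b) : Scheme), ⊤) := h2
  haveI : Module.FaithfullyFlat Γ((Y.basicOpen b : Scheme), ⊤)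
      Γ((X.basicOpen (f.appLE V W eW b) : Scheme), ⊤) := h1
  exact (Groth.Agent.S0112.result (R := Γ((U : Scheme), ⊤))
    (A := Γ((Y.basicOpen b : Scheme), ⊤))
    (B := Γ((X.basicOpen (f.appLE V W eW b) : Scheme), ⊤)) :
    Algebra.FinitePresentation Γ((U : Scheme), ⊤) Γ((Y.basicOpen b : Scheme), ⊤))

end Groth.Agent.S0114
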