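import Groth.Statements.S1881
import Groth.Agent.Lib.Helper38.GrpdLib
import Mathlib

set_option autoImplicit false
universe u
open CategoryTheory CategoryTheory.Limits AlgebraicGeometry
open Grpd

namespace Groth.Agent.S1881


section NormLemma

/-- For a finite projective `A`-algebra `B` and `y ∈ B` there is a "norm" `g ∈ A` with
(1) `y ∣ algebraMap g`, and (2) if `g` lies in a prime `p` of `A` then some prime of `B` over `p`
contains `y`. -/
theorem exists_norm {A B : Type*} [CommRing A] [CommRing B] [Algebra A B]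
    [Module.Finite A B] [Module.Projective A B] (y : B) :
    ∃ g : A, (∃ z : B, y * z = algebraMap A B g) ∧
      ∀ (p : Ideal A) [p.IsPrime], g ∈ p →
        ∃ q : Ideal B, q.IsPrime ∧ q.comap (algebraMap A B) = p ∧ y ∈ q := by
  classical
  obtain ⟨n, π, l, -, -, hπl⟩ := Module.Finite.exists_comp_eq_id_of_projective A B
  have hπl' : ∀ x, π (l x) = x := fun x => LinearMap.congr_fun hπl x
  let Θ : B → ((Fin n → A) →ₗ[A] (Fin n → A)) := fun b =>
    LinearMap.id - l ∘ₗ π + l ∘ₗ LinearMap.mulLeft A b ∘ₗ π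
  have hΘ : ∀ b v, Θ b v = v - l (π v) + l (b * π v) := fun b v => rfl
  have hπΘ : ∀ b v, π (Θ b v) = b * π v := by
    intro b v
    rw [hΘ, map_add, map_sub, hπl', hπl', sub_self, zero_add]
  have hΘmul : ∀ b b', Θ b ∘ₗ Θ b' = Θ (b * b') := by
    intro b b'
    refine LinearMap.ext fun v => ?_
    rw [LinearMap.comp_apply, hΘ b (Θ b' v), hπΘ, hΘ b' v, hΘ (b * b') v, mul_assoc]
    abel
  refine ⟨LinearMap.det (Θ y), ?_, ?_⟩
  · set M := LinearMap.toMatrix' (Θ y) with hM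
    have hdet : M.det = LinearMap.det (Θ y) := LinearMap.det_toMatrix' (Θ y)
    have hadj : ∀ v, Θ y (M.adjugate.mulVec v) = M.det • v := by
      intro v
      have h1 : (M * M.adjugate).mulVec v = M.det • v := by
        rw [Matrix.mul_adjugate, Matrix.smul_mulVec, Matrix.one_mulVec]
      rw [← Matrix.mulVec_mulVec] at h1
      rw [← h1, hM, LinearMap.toMatrix'_mulVec]
    refine ⟨π (M.adjugate.mulVec (l 1)), ?_⟩
    have h2 := congrArg π (hadj (l 1))
    rw [hπΘ, map_smul, hπl', hdet] at h2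
    rw [h2, Algebra.smul_def, mul_one]
  · intro p hp hg
    have hI : (Ideal.span {y}).comap (algebraMap A B) ≤ p := by
      intro a ha
      rw [Ideal.mem_comap, Ideal.mem_span_singleton'] at ha
      obtain ⟨b, hb⟩ := ha
      by_contra hap
      have h1 : Θ y ∘ₗ Θ b = Θ (algebraMap A B a) := by rw [hΘmul, mul_comm, hb]
      let Ψ : (Fin n → A) →ₗ[A] (Fin n → A) := a • (LinearMap.id - l ∘ₗ π) + l ∘ₗ π
      have h2 : Θ (algebraMap A B a) ∘ₗ Ψ = a • LinearMap.id := by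
        refine LinearMap.ext fun v => ?_
        have hπΨ : π (Ψ v) = π v := by
          show π (a • (v - l (π v)) + l (π v)) = π v
          rw [map_add, map_smul, map_sub, hπl', sub_self, smul_zero, zero_add]
        rw [LinearMap.comp_apply, hΘ, hπΨ]
        show (a • (v - l (π v)) + l (π v)) - l (π v) + l (algebraMap A B a * π v) = a • v
        rw [← Algebra.smul_def, map_smul, smul_sub]
        abel
      have h3 : LinearMap.det (Θ y) * LinearMap.det (Θ b) * LinearMap.det Ψ =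
          a ^ Module.finrank A (Fin n → A) := by
        rw [← LinearMap.det_comp, h1, ← LinearMap.det_comp, h2, LinearMap.det_smul,
          LinearMap.det_id, mul_one]
      have h4 : a ^ Module.finrank A (Fin n → A) ∈ p := by
        rw [← h3]; exact Ideal.mul_mem_right _ _ (Ideal.mul_mem_right _ _ hg)
      exact hap (hp.mem_of_pow_mem _ h4)
    obtain ⟨q, hq1, hq2, hq3⟩ :=
      Ideal.exists_ideal_over_prime_of_isIntegral p (Ideal.span {y}) hI
    exact ⟨q, hq2, hq3, hq1 (Ideal.subset_span (Set.mem_singleton y))⟩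

/-- A finite set of primes inside an open subset of a prime spectrum lies in a principal open
contained in that open subset. -/
theorem exists_basicOpen_of_finite {R : Type*} [CommRing R] (T : Set (PrimeSpectrum R))
    (hT : T.Finite) (O : Set (PrimeSpectrum R)) (hO : IsOpen O) (hTO : T ⊆ O) :
    ∃ f : R, (∀ p ∈ T, f ∉ p.asIdeal) ∧ ∀ p : PrimeSpectrum R, f ∉ p.asIdeal → p ∈ O := by
  classical
  by_cases hne : T.Nonempty
  · obtain ⟨a, ha⟩ := hne
    set I := PrimeSpectrum.vanishingIdeal Oᶜ with hI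
    have hZ : PrimeSpectrum.zeroLocus (I : Set R) = Oᶜ := by
      rw [hI, PrimeSpectrum.zeroLocus_vanishingIdeal_eq_closure, hO.isClosed_compl.closure_eq]
    have hnot : ¬ ((I : Set R) ⊆ ⋃ p ∈ (↑hT.toFinset : Set (PrimeSpectrum R)),
        ((fun p : PrimeSpectrum R => p.asIdeal) p : Set R)) := by
      intro hsub
      obtain ⟨i, hi, hIi⟩ := (Ideal.subset_union_prime (s := hT.toFinset)
        (f := fun p : PrimeSpectrum R => p.asIdeal) a a (fun i _ _ _ => i.isPrime)).1 hsub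
      have hiT : i ∈ T := hT.mem_toFinset.1 hi
      have hiZ : i ∈ PrimeSpectrum.zeroLocus (I : Set R) := by
        rw [PrimeSpectrum.mem_zeroLocus]; exact hIi
      rw [hZ] at hiZ
      exact hiZ (hTO hiT)
    obtain ⟨f, hfI, hfn⟩ := Set.not_subset.1 hnot
    refine ⟨f, ?_, ?_⟩
    · intro p hp hfp
      apply hfn
      simp only [Set.mem_iUnion]
      exact ⟨p, Finset.mem_coe.2 (hT.mem_toFinset.2 hp), hfp⟩
    · intro p hfp
      by_contra hpO
      have hpZ : p ∈ PrimeSpectrum.zeroLocus (I : Set R) := by rw [hZ]; exact hpO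
      rw [PrimeSpectrum.mem_zeroLocus] at hpZ
      exact hfp (hpZ hfI)
  · refine ⟨0, fun p hp => absurd ⟨p, hp⟩ hne, fun p hp => absurd p.asIdeal.zero_mem hp⟩

end NormLemma

theorem mem_basicOpen_fromSpec {X : Scheme.{u}} {U : X.Opens} (hU : IsAffineOpen U) (f : Γ(X, U))
    (𝔭 : ↥(Spec Γ(X, U))) :
    hU.fromSpec 𝔭 ∈ X.basicOpen f ↔ f ∉ (show PrimeSpectrum Γ(X, U) from 𝔭).asIdeal :=
  Iff.of_eq (congrArg (fun O : (Spec Γ(X, U)).Opens => 𝔭 ∈ O) (hU.fromSpec_preimage_basicOpen f))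

section Points

variable {S : Scheme.{u}} (G : Grpd.GroupoidScheme S)

theorem pt_comp (r₁ r₂ : G.R) (h : G.s r₁ = G.t r₂) :
    ∃ r₃ : G.R, G.s r₃ = G.s r₂ ∧ G.t r₃ = G.t r₁ := by
  obtain ⟨z, hz1, hz2⟩ := Scheme.Pullback.exists_preimage_pullback (f := G.s) (g := G.t) r₁ r₂ h
  refine ⟨G.c z, ?_, ?_⟩
  · rw [← Scheme.Hom.comp_apply, Groth.Agent.Lib.Helper38.GrpdLib.c_s, Scheme.Hom.comp_apply, hz2]
  · rw [← Scheme.Hom.comp_apply, Groth.Agent.Lib.Helper38.GrpdLib.c_t, Scheme.Hom.comp_apply, hz1]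

theorem pt_inv (r : G.R) : ∃ r' : G.R, G.s r' = G.t r ∧ G.t r' = G.s r :=
  ⟨G.i r, by rw [← Scheme.Hom.comp_apply, G.i_s], by rw [← Scheme.Hom.comp_apply, G.i_t]⟩

theorem pt_id (w : G.U) : ∃ r : G.R, G.s r = w ∧ G.t r = w :=
  ⟨G.e w, by rw [← Scheme.Hom.comp_apply, G.e_s]; rfl,
    by rw [← Scheme.Hom.comp_apply, G.e_t]; rfl⟩

/-- The largest `R`-invariant subset of `D`. -/
def Sat (D : Set G.U) : Set G.U := {w | ∀ r : G.R, G.s r = w → G.t r ∈ D}

theorem sat_subset (D : Set G.U) : Sat G D ⊆ D := by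
  intro w hw
  obtain ⟨r, h1, h2⟩ := pt_id G w
  rw [← h2]; exact hw r h1

theorem sat_inv (D : Set G.U) (r : G.R) : G.s r ∈ Sat G D ↔ G.t r ∈ Sat G D := by
  constructor
  · intro h r' hr'
    obtain ⟨r₃, h1, h2⟩ := pt_comp G r' r hr'
    rw [← h2]; exact h r₃ h1
  · intro h r' hr'
    obtain ⟨ri, hi1, hi2⟩ := pt_inv G r
    obtain ⟨r₃, h1, h2⟩ := pt_comp G r' ri (hr'.trans hi2.symm)
    rw [← h2]; exact h r₃ (h1.trans hi1)

theorem isOpen_sat [IsFinite G.s] (V : G.U.Opens) : IsOpen (Sat G (V : Set G.U)) := by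
  have hcl : IsClosed (G.s '' (G.t ⁻¹' (V : Set G.U))ᶜ) :=
    G.s.isClosedMap _ ((V.isOpen.preimage G.t.continuous).isClosed_compl)
  have hEq : Sat G (V : Set G.U) = (G.s '' (G.t ⁻¹' (V : Set G.U))ᶜ)ᶜ := by
    ext w
    simp only [Sat, Set.mem_setOf_eq, Set.mem_compl_iff, Set.mem_image, Set.mem_preimage,
      not_exists, not_and]
    constructor
    · intro h r hr hrw; exact hr (h r hrw)
    · intro h r hrw; by_contra hr; exact h r hr hrw
  rw [hEq]; exact hcl.isOpen_compl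

end Points

/-- Let (U, R, s, t, c) be a groupoid scheme over S with s, t finite locally free, and u a point of U
for which some affine open of U contains t(s⁻¹{u}). Then u has an R-invariant affine open
neighbourhood W (that is, s⁻¹W = t⁻¹W). (A groupoid scheme carries U, R, s, t, c, e, i over S with
the groupoid axioms on T-points; 'finite locally free' is finite, flat and locally of finite
presentation; C ⊂ Γ(U) is the ring of functions a with s♯(a) = t♯(a) and M = Spec C.) -/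
theorem result (S : Scheme.{u}) (G : Grpd.GroupoidScheme S) [IsFinite G.s] [Flat G.s] [LocallyOfFinitePresentation G.s] [IsFinite G.t] [Flat G.t] [LocallyOfFinitePresentation G.t] (u : G.U) (V : G.U.Opens) (hV : IsAffineOpen V) (huV : ∀ r : G.R, G.s r = u → G.t r ∈ V) : ∃ W : G.U.Opens, IsAffineOpen W ∧ u ∈ W ∧ G.s ⁻¹ᵁ W = G.t ⁻¹ᵁ W := by
  classical
  set O : Set G.U := G.t '' (G.s ⁻¹' {u}) with hOdef
  have hOfin : O.Finite := (G.s.finite_preimage_singleton u).image _
  have hOV : O ⊆ Sat G (V : Set G.U) := by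
    rintro _ ⟨r₀, hr₀, rfl⟩ r hr
    obtain ⟨r₃, h1, h2⟩ := pt_comp G r r₀ hr
    rw [← h2]
    exact huV r₃ (h1.trans hr₀)
  have hW'open : IsOpen (Sat G (V : Set G.U)) := isOpen_sat G V
  have hW'V : Sat G (V : Set G.U) ⊆ V := sat_subset G _
  obtain ⟨f, hOf, hfW'⟩ : ∃ f : Γ(G.U, V), O ⊆ (G.U.basicOpen f : Set G.U) ∧
      (G.U.basicOpen f : Set G.U) ⊆ Sat G (V : Set G.U) := by
    have hinj : Function.Injective hV.fromSpec := hV.fromSpec.isOpenEmbedding.injective
    obtain ⟨f, h1, h2⟩ := exists_basicOpen_of_finite (R := Γ(G.U, V))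
      (hV.fromSpec ⁻¹' O) (hOfin.preimage hinj.injOn)
      (hV.fromSpec ⁻¹' Sat G (V : Set G.U)) (hW'open.preimage hV.fromSpec.continuous)
      (Set.preimage_mono hOV)
    refine ⟨f, ?_, ?_⟩
    · intro o ho
      have hoV : o ∈ (V : Set G.U) := hW'V (hOV ho)
      rw [← hV.range_fromSpec] at hoV
      obtain ⟨𝔭, rfl⟩ := hoV
      exact (mem_basicOpen_fromSpec hV f 𝔭).2 (h1 𝔭 ho)
    · intro x hx
      have hxV : x ∈ (V : Set G.U) := G.U.basicOpen_le f hx
      rw [← hV.range_fromSpec] at hxV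
      obtain ⟨𝔭, rfl⟩ := hxV
      exact h2 𝔭 ((mem_basicOpen_fromSpec hV f 𝔭).1 hx)
  have hDaff : IsAffineOpen (G.U.basicOpen f) := hV.basicOpen f
  have hD'aff : IsAffineOpen (G.s ⁻¹ᵁ G.U.basicOpen f) := hDaff.preimage G.s
  have hD'tV : G.s ⁻¹ᵁ G.U.basicOpen f ≤ G.t ⁻¹ᵁ V := fun r hr => hfW' hr r rfl
  letI alg : Algebra Γ(G.U, G.U.basicOpen f) Γ(G.R, G.s ⁻¹ᵁ G.U.basicOpen f) :=
    (G.s.app (G.U.basicOpen f)).hom.toAlgebra
  haveI hfinite : Module.Finite Γ(G.U, G.U.basicOpen f) Γ(G.R, G.s ⁻¹ᵁ G.U.basicOpen f) :=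
    G.s.finite_app (G.U.basicOpen f) hDaff
  haveI hflat : Module.Flat Γ(G.U, G.U.basicOpen f) Γ(G.R, G.s ⁻¹ᵁ G.U.basicOpen f) := by
    have h := G.s.flat_appLE hDaff hD'aff le_rfl
    rw [Scheme.Hom.appLE_eq_app] at h
    exact h
  haveI hfp : Algebra.FinitePresentation Γ(G.U, G.U.basicOpen f)
      Γ(G.R, G.s ⁻¹ᵁ G.U.basicOpen f) := by
    have h := G.s.finitePresentation_appLE hDaff hD'aff le_rfl
    rw [Scheme.Hom.appLE_eq_app] at h
    exact h
  haveI : Module.FinitePresentation Γ(G.U, G.U.basicOpen f) Γ(G.R, G.s ⁻¹ᵁ G.U.basicOpen f) :=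
    Module.FinitePresentation.of_finite_of_finitePresentation _ _
  haveI : Module.Projective Γ(G.U, G.U.basicOpen f) Γ(G.R, G.s ⁻¹ᵁ G.U.basicOpen f) :=
    Module.Flat.projective_of_finitePresentation
  let y : Γ(G.R, G.s ⁻¹ᵁ G.U.basicOpen f) :=
    G.R.presheaf.map (homOfLE hD'tV).op (G.t.app V f)
  have hy : G.R.basicOpen y = (G.s ⁻¹ᵁ G.U.basicOpen f) ⊓ G.t ⁻¹ᵁ G.U.basicOpen f := by
    show G.R.basicOpen (G.R.presheaf.map (homOfLE hD'tV).op (G.t.app V f)) = _
    rw [Scheme.basicOpen_res, Scheme.preimage_basicOpen G.t f]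
  obtain ⟨g, ⟨z, hz⟩, hg⟩ := exists_norm (A := Γ(G.U, G.U.basicOpen f))
    (B := Γ(G.R, G.s ⁻¹ᵁ G.U.basicOpen f)) y
  have hWsat : ∀ w : G.U, w ∈ G.U.basicOpen g ↔ w ∈ Sat G (G.U.basicOpen f : Set G.U) := by
    intro w
    constructor
    · intro hw r hr
      have h1 : r ∈ G.s ⁻¹ᵁ G.U.basicOpen g := by
        show G.s r ∈ G.U.basicOpen g
        rw [hr]; exact hw
      have h3 : G.s ⁻¹ᵁ G.U.basicOpen g ≤ G.R.basicOpen y := by
        rw [Scheme.preimage_basicOpen]
        have e : (G.s.app (G.U.basicOpen f)).hom g = y * z := hz.symm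
        show G.R.basicOpen ((G.s.app (G.U.basicOpen f)).hom g) ≤ _
        rw [e, Scheme.basicOpen_mul]
        exact inf_le_left
      have h4 := h3 h1
      rw [hy] at h4
      exact h4.2
    · intro hw
      have hwD : w ∈ G.U.basicOpen f := sat_subset G _ hw
      by_contra hwg
      let p : ↥(Spec Γ(G.U, G.U.basicOpen f)) := hDaff.primeIdealOf ⟨w, hwD⟩
      have hp : hDaff.fromSpec p = w := hDaff.fromSpec_primeIdealOf ⟨w, hwD⟩
      have hgp : g ∈ (show PrimeSpectrum Γ(G.U, G.U.basicOpen f) from p).asIdeal := by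
        by_contra hgp
        apply hwg
        rw [← hp]
        exact (mem_basicOpen_fromSpec hDaff g p).2 hgp
      obtain ⟨q, hqprime, hqp, hyq⟩ :=
        hg (show PrimeSpectrum Γ(G.U, G.U.basicOpen f) from p).asIdeal hgp
      let qq : ↥(Spec Γ(G.R, G.s ⁻¹ᵁ G.U.basicOpen f)) :=
        (⟨q, hqprime⟩ : PrimeSpectrum Γ(G.R, G.s ⁻¹ᵁ G.U.basicOpen f))
      have hnat := IsAffineOpen.SpecMap_appLE_fromSpec G.s hDaff hD'aff le_rfl
      have hcomap : (Spec.map (G.s.appLE (G.U.basicOpen f) (G.s ⁻¹ᵁ G.U.basicOpen f) le_rfl)) qq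
          = p := by
        rw [Scheme.Hom.appLE_eq_app]
        exact PrimeSpectrum.ext hqp
      have hsr : G.s (hD'aff.fromSpec qq) = w := by
        rw [← Scheme.Hom.comp_apply, ← hnat, Scheme.Hom.comp_apply, hcomap, hp]
      have hrD' : hD'aff.fromSpec qq ∈ G.s ⁻¹ᵁ G.U.basicOpen f := by
        have hr : hD'aff.fromSpec qq ∈ Set.range hD'aff.fromSpec := ⟨qq, rfl⟩
        rw [hD'aff.range_fromSpec] at hr
        exact hr
      have hry : hD'aff.fromSpec qq ∉ G.R.basicOpen y := by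
        intro hr
        exact (mem_basicOpen_fromSpec hD'aff y qq).1 hr hyq
      have htr : G.t (hD'aff.fromSpec qq) ∈ G.U.basicOpen f := hw _ hsr
      apply hry
      rw [hy]
      exact ⟨hrD', htr⟩
  refine ⟨G.U.basicOpen g, hDaff.basicOpen g, ?_, ?_⟩
  · rw [hWsat]
    intro r hr
    exact hOf ⟨r, hr, rfl⟩
  · ext r
    show G.s r ∈ G.U.basicOpen g ↔ G.t r ∈ G.U.basicOpen g
    rw [hWsat, hWsat]
    exact sat_inv G _ r

end Groth.Agent.S1881
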