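import Groth.Statements.S15427
import Groth.Agent.Lib.Helper77.GrSyzMinimal

set_option autoImplicit false
universe u
open GrSyz

namespace Groth.Agent.S15427

/-- Let k be a field, S = k[x_0, …, x_r] graded by degree, 𝔪 = (x_0, …, x_r), M a finitely generated
ℤ-graded S-module and F a graded free resolution of M by free modules of finite rank with chosen
homogeneous bases, written as matrices d_i : F_{i+1} → F_i together with the images aug b ∈ M of the
basis of F_0. Then F is a minimal complex (every matrix entry lies in 𝔪) if and only if every map of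
the resolution carries its basis to an irredundant (minimal) family of generators of its image: for
each b, aug b is not in the S-span of the remaining aug b', and for each i and each column of d_i,
that column is not in the S-span of the remaining columns. -/
theorem result (k : Type u) [Field k] (r : ℕ)
    (M : Type u) [AddCommGroup M] [Module k M] [Module (MvPolynomial (Fin (r + 1)) k) M]
    [IsScalarTower k (MvPolynomial (Fin (r + 1)) k) M] [Module.Finite (MvPolynomial (Fin (r + 1)) k) M]
    (ℳ : ℤ → Submodule k M) [DirectSum.Decomposition ℳ] [SetLike.GradedSMul (GrSyz.stdGr k (Fin (r + 1))) ℳ]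
    (F : GrSyz.FreeRes (GrSyz.stdGr k (Fin (r + 1))) ℳ) :
    F.IsMinimal (GrSyz.irrel (GrSyz.stdGr k (Fin (r + 1)))).toIdeal ↔
      ((∀ b : Fin (F.rk 0), F.aug b ∉ Submodule.span (MvPolynomial (Fin (r + 1)) k) (F.aug '' {b' | b' ≠ b})) ∧
        ∀ (i : ℕ) (b : Fin (F.rk (i + 1))),
          (fun a => F.d i a b) ∉ Submodule.span (MvPolynomial (Fin (r + 1)) k) ((fun b' a => F.d i a b') '' {b' | b' ≠ b})) := by
  open Groth.Agent.Lib.Helper77 in
  constructor
  · intro hF
    have h1 := one_notMem_irrel k (Fin (r + 1))
    refine ⟨fun b hb => ?_, fun i b hb => ?_⟩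
    · obtain ⟨c, hcb, hc⟩ := exists_relation_of_mem_span F.aug b hb
      exact freeRes_not_mem_ker_aug_of_coord_eq_one F h1 hF c b hcb (LinearMap.mem_ker.mpr hc)
    · obtain ⟨c, hcb, hc⟩ := exists_relation_of_mem_span (fun b' a => F.d i a b') b hb
      refine freeRes_not_mem_ker_of_coord_eq_one F h1 hF i c b hcb ?_
      rw [LinearMap.mem_ker, Matrix.mulVecLin_apply]
      rw [Fintype.linearCombination_apply] at hc
      funext a
      have := congrFun hc a
      simp only [Finset.sum_apply, Pi.smul_apply, smul_eq_mul, Pi.zero_apply] at this
      simp only [Matrix.mulVec, dotProduct, Pi.zero_apply]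
      rw [← this]
      exact Finset.sum_congr rfl fun x _ => mul_comm _ _
  · rintro ⟨haug, hd⟩ i a b
    by_contra hnot
    have hunit := isUnit_of_mem_stdGr_of_notMem_irrel k (Fin (r + 1)) (F.d_mem i a b) hnot
    -- the column b of d i lies in the range of d i
    have hrange : (fun a' => F.d i a' b) ∈ LinearMap.range (Matrix.mulVecLin (F.d i)) := by
      refine ⟨Pi.single b 1, ?_⟩
      rw [Matrix.mulVecLin_apply]
      funext a'
      simp [Matrix.mulVec_single]
    cases i with
    | zero =>
      rw [← F.exact_zero, LinearMap.mem_ker] at hrange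
      exact haug a (mem_span_of_relation_of_isUnit F.aug (fun a' => F.d 0 a' b) a hunit hrange)
    | succ j =>
      rw [← F.exact_succ j, LinearMap.mem_ker, Matrix.mulVecLin_apply] at hrange
      refine hd j a (mem_span_of_relation_of_isUnit (fun b' a'' => F.d j a'' b')
        (fun a' => F.d (j + 1) a' b) a hunit ?_)
      rw [Fintype.linearCombination_apply]
      funext a''
      have := congrFun hrange a''
      simp only [Matrix.mulVec, dotProduct, Pi.zero_apply] at this
      simp only [Finset.sum_apply, Pi.smul_apply, smul_eq_mul, Pi.zero_apply]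
      rw [← this]
      exact Finset.sum_congr rfl fun x _ => mul_comm _ _

end Groth.Agent.S15427
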