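import Groth.Statements.S0845
import Groth.Agent.Lib.Cohomology.Helper3_CechNat
import Groth.Agent.Lib.Proj.Helper3_ToGlobal
import Groth.Agent.Lib.Proj.Helper3_PnCoh
import Groth.Agent.Lib.Proj.Helper44_PnTop
-- import your own Groth.Agent.* helpers here

set_option autoImplicit false
universe u
open Coherent

namespace Groth.Agent.S0845

open CategoryTheory AlgebraicGeometry in
/-- Top cohomology of negative twists on projective space: for a ring R and natural numbers n, k, the
R-module H^n(P^n_R, O(-(n+1+k))) is R-linearly isomorphic to the module of homogeneous polynomials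
of degree k in n+1 variables over R. The published statement is a canonical identification of
H^n(P^n_R, O(d)), d < 0, with the degree-d part of (T_0⋯T_n)^(-1) R[1/T_0, …, 1/T_n], a free
R-module on the Laurent monomials with all exponents ≤ -1 and total degree d; only the existence of
an abstract R-linear isomorphism is asserted here. -/
theorem result (R : Type u) [CommRing R] (n k : ℕ) :
    Nonempty (Coh.HH (CohB1.ProjSpace n R) (Twist.twistProjSpace n R (-((n : ℤ) + 1 + k))) n ≃ₗ[R]
      ↥(MvPolynomial.homogeneousSubmodule (Fin (n + 1)) R k)) := by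
  classical
  obtain ⟨ψ, hψ⟩ := Groth.Agent.Lib.Proj.PnTop.exists_top_equiv n k R
  let e := Groth.Agent.Lib.Cohomology.cechHHEquiv (CohB1.ProjSpace n R)
    (Groth.Agent.Lib.Proj.PnCoh.stdCover n R) (Groth.Agent.Lib.Proj.PnCoh.iSup_stdCover n R)
    (Groth.Agent.Lib.Proj.PnCoh.isAffineOpen_iInf_stdCover n R)
    (Twist.twistProjSpace n R (-((n : ℤ) + 1 + k))) n
  refine ⟨{ (e.symm.trans ψ) with map_smul' := ?_ }⟩
  intro r y
  obtain ⟨x, rfl⟩ := e.surjective y
  have h1 := Groth.Agent.Lib.Cohomology.cechHHEquiv_smul (CohB1.ProjSpace n R)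
    (Groth.Agent.Lib.Proj.PnCoh.stdCover n R) (Groth.Agent.Lib.Proj.PnCoh.iSup_stdCover n R)
    (Groth.Agent.Lib.Proj.PnCoh.isAffineOpen_iInf_stdCover n R)
    (Twist.twistProjSpace n R (-((n : ℤ) + 1 + k))) n
    (Coh.toGlobal (CohB1.ProjSpace.toSpec n R) r) x
  have h2 := hψ r (Coh.smulAb (Twist.twistProjSpace n R (-((n : ℤ) + 1 + k)))
    (Coh.toGlobal (CohB1.ProjSpace.toSpec n R) r))
    (fun W σ x => Groth.Agent.Lib.Proj.smulAb_toGlobal_val (CohB1.polyGrading n R) _ r W σ x) x
  change ψ (e.symm (r • e x)) = r • ψ (e.symm (e x))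
  have h3 : r • e x = e (HomologicalComplex.homologyMap
      ((cechComplexFunctor (Groth.Agent.Lib.Proj.PnCoh.stdCover n R)).map
      (Coh.smulAb (Twist.twistProjSpace n R (-((n : ℤ) + 1 + k)))
        (Coh.toGlobal (CohB1.ProjSpace.toSpec n R) r)).hom) n x) := h1.symm
  rw [h3]
  refine Eq.trans (congrArg ψ (e.symm_apply_apply _)) ?_
  refine h2.trans ?_
  exact congrArg (fun z => r • ψ z) (e.symm_apply_apply x).symm

end Groth.Agent.S0845
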