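import Groth.Statements.S10620
-- import your own Groth.Agent.* helpers here

set_option autoImplicit false
universe u
open CategoryTheory CategoryTheory.Limits AlgebraicGeometry
open AlgSp

namespace Groth.Agent.S10620

variable {S : Scheme.{u}} {F G H P : AlgSp.Sp S}

/-- the square for `a` obtained from a square for the base change `a'` -/
noncomputable def sqA (a : F ⟶ G) (b : H ⟶ G) (b' : P ⟶ F) (a' : P ⟶ H)
    (hP : IsPullback b' a' a b) (sq : AlgSp.InfSq a') : AlgSp.InfSq a where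
  A := sq.A
  I := sq.I
  sq_zero := sq.sq_zero
  str := sq.str
  top := sq.top ≫ b'
  bot := sq.bot ≫ b
  comm := by rw [Category.assoc, hP.w, ← Category.assoc, sq.comm, Category.assoc]

theorem smooth_bc (a : F ⟶ G) (b : H ⟶ G) (b' : P ⟶ F) (a' : P ⟶ H)
    (hP : IsPullback b' a' a b) (h : AlgSp.IsFormallySmoothMor a) : AlgSp.IsFormallySmoothMor a' := by
  intro sq
  obtain ⟨l, h1, h2⟩ : ∃ l : (AlgSp.yon S).obj sq.ptT' ⟶ F,
      (AlgSp.yon S).map sq.j ≫ l = sq.top ≫ b' ∧ l ≫ a = sq.bot ≫ b := h (sqA a b b' a' hP sq)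
  refine ⟨hP.lift l sq.bot h2, ?_, hP.lift_snd _ _ _⟩
  apply hP.hom_ext
  · rw [Category.assoc, hP.lift_fst, h1]
  · rw [Category.assoc, hP.lift_snd]; exact sq.comm.symm

theorem unram_bc (a : F ⟶ G) (b : H ⟶ G) (b' : P ⟶ F) (a' : P ⟶ H)
    (hP : IsPullback b' a' a b) (h : AlgSp.IsFormallyUnramifiedMor a) :
    AlgSp.IsFormallyUnramifiedMor a' := by
  intro sq m m' h1 h2 h3 h4
  have hA : ∀ l l' : (AlgSp.yon S).obj sq.ptT' ⟶ F,
      (AlgSp.yon S).map sq.j ≫ l = sq.top ≫ b' → l ≫ a = sq.bot ≫ b →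
      (AlgSp.yon S).map sq.j ≫ l' = sq.top ≫ b' → l' ≫ a = sq.bot ≫ b → l = l' :=
    h (sqA a b b' a' hP sq)
  apply hP.hom_ext
  · refine hA (m ≫ b') (m' ≫ b') ?_ ?_ ?_ ?_
    · rw [← Category.assoc, h1]
    · rw [Category.assoc, hP.w, ← Category.assoc, h2]
    · rw [← Category.assoc, h3]
    · rw [Category.assoc, hP.w, ← Category.assoc, h4]
  · rw [h2, h4]

/-- Let a : F ⟶ G and b : H ⟶ G be morphisms of fppf sheaves on (Sch/S) and let a' : P ⟶ H be the base
change of a along b (any pullback square). If a is formally smooth, resp. formally etale, resp.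
formally unramified, then so is a'. (The published statement is for transformations of arbitrary
presheaves of sets on (Sch/S)_fppf; this row takes fppf sheaves, the case of algebraic spaces.) -/
theorem result {S : Scheme.{u}} {F G H P : AlgSp.Sp S} (a : F ⟶ G) (b : H ⟶ G)
    (b' : P ⟶ F) (a' : P ⟶ H) (hP : IsPullback b' a' a b) :
    (AlgSp.IsFormallySmoothMor a → AlgSp.IsFormallySmoothMor a') ∧
    (AlgSp.IsFormallyEtaleMor a → AlgSp.IsFormallyEtaleMor a') ∧
    (AlgSp.IsFormallyUnramifiedMor a → AlgSp.IsFormallyUnramifiedMor a') := by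
  refine ⟨smooth_bc a b b' a' hP, ?_, unram_bc a b b' a' hP⟩
  intro h sq
  have hs : AlgSp.IsFormallySmoothMor a := fun sq => (h sq).exists
  have hu : AlgSp.IsFormallyUnramifiedMor a := fun sq l l' h1 h2 h3 h4 =>
    (h sq).unique ⟨h1, h2⟩ ⟨h3, h4⟩
  obtain ⟨l, h1, h2⟩ := smooth_bc a b b' a' hP hs sq
  exact ⟨l, ⟨h1, h2⟩, fun l' h' => unram_bc a b b' a' hP hu sq l' l h'.1 h'.2 h1 h2⟩

end Groth.Agent.S10620
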