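import Groth.Statements.S10632
import Groth.Agent.Lib.Helper78.AlgSpFEtale
import Groth.Agent.Lib.Helper78.AlgSpThickMor

set_option autoImplicit false
universe u
open CategoryTheory CategoryTheory.Limits AlgebraicGeometry
open AlgSp

namespace Groth.Agent.S10632

/-- Let e : Z ⟶ Y be an etale morphism of algebraic spaces over S, hY : Y ⟶ X, and let (iY : Y ⟶ Y', hY'
: Y' ⟶ X) be a universal first order thickening of Y over X. Let e' : Z' ⟶ Y' be etale with iZ : Z ⟶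
Z' making Z = Y ×_{Y'} Z' a pullback square. Then (iZ, e' ≫ hY') is a universal first order
thickening of Z over X. -/
theorem result {S : Scheme.{u}} {Z Y Y' Z' X : AlgSp.Space S} (e : Z ⟶ Y)
    (he : AlgSp.IsEtaleMor e.hom) (hY : Y ⟶ X) (iY : Y ⟶ Y') (hY' : Y' ⟶ X)
    (HU : AlgSp.IsUnivFOThick hY.hom iY.hom hY'.hom) (iZ : Z ⟶ Z') (e' : Z' ⟶ Y') (he' : AlgSp.IsEtaleMor e'.hom)
    (sq : IsPullback e.hom iZ.hom iY.hom e'.hom) :
    AlgSp.IsUnivFOThick (e ≫ hY).hom iZ.hom (e' ≫ hY').hom := by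
  open Groth.Agent.Lib.Helper78.AlgSpLiftGlue in
  have hFE := Groth.Agent.Lib.Helper78.AlgSpFEtale.isFormallyEtaleMor_of_isEtaleMor
    Z'.property Y'.property he'
  have hw : e.hom ≫ iY.hom = iZ.hom ≫ e'.hom := sq.w
  refine ⟨⟨MorphismProperty.of_isPullback (P := AlgSp.IsThickMor) sq HU.1.1, ?_⟩, ?_, ?_⟩
  · intro V W b fst snd hV hb sqb
    exact HU.1.2 (b ≫ e'.hom) (fst ≫ e.hom) snd hV (he' b hb) (sqb.paste_horiz sq)
  · change iZ.hom ≫ e'.hom ≫ hY'.hom = e.hom ≫ hY.hom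
    rw [← Category.assoc, ← hw, Category.assoc, HU.2.1]
  · intro T T' hT hT' j a b hj comm
    have comm1 : j ≫ b = (a ≫ e.hom) ≫ hY.hom := by rw [comm, Category.assoc]; rfl
    obtain ⟨aY, ⟨haY1, haY2⟩, haYu⟩ := HU.2.2 hT hT' j (a ≫ e.hom) b hj comm1
    have comm2 : (a ≫ iZ.hom) ≫ e'.hom = j ≫ aY := by
      rw [haY1, Category.assoc, Category.assoc, hw]
    obtain ⟨L, ⟨hL1, hL2⟩, hLu⟩ := existsUnique_lift hT' hj hFE comm2
    refine ⟨L, ⟨hL1, ?_⟩, fun L' hL' => hLu L' ⟨hL'.1, ?_⟩⟩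
    · change L ≫ e'.hom ≫ hY'.hom = b
      rw [← Category.assoc, hL2, haY2]
    · refine haYu (L' ≫ e'.hom) ⟨?_, ?_⟩
      · rw [← Category.assoc, hL'.1, Category.assoc, Category.assoc, hw]
      · rw [Category.assoc]; exact hL'.2

end Groth.Agent.S10632
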