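import Groth.Statements.S9872
import Mathlib
import Groth.Agent.S9885
-- import your own Groth.Agent.* helpers here

set_option autoImplicit false
universe u
open CategoryTheory CategoryTheory.Limits AlgebraicGeometry
open AlgSp

namespace Groth.Agent.S9872


/-- Let `F` be an algebraic space over `S`, `p : h_U ⟶ F` representable etale and representable
surjective with `U` a scheme over `S`, and let `s, t : R ⟶ U` over `S` be such that `h_R`, with
`h_t` and `h_s`, is the fibre product `h_U ×_F h_U`. Then `s, t` is an etale equivalence relation on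
`U` over `S`, and `p` exhibits `F` as the coequalizer of `h_t, h_s : h_R ⟶ h_U` in fppf sheaves of
sets over `S`. -/
theorem result (S : Scheme.{u}) (F : AlgSp.Sp S) (hF : AlgSp.IsAlgSpace F)
    {R U : Over S} (p : (AlgSp.yon S).obj U ⟶ F) (he : AlgSp.RepWith @Etale p)
    (hs : AlgSp.RepWith @Surjective p) (s t : R ⟶ U)
    (sq : IsPullback ((AlgSp.yon S).map t) ((AlgSp.yon S).map s) p p) :
    AlgSp.IsEtaleEqvRel s t ∧ Nonempty (IsColimit (Cofork.ofπ p sq.w)) := by
  have hflat : AlgSp.RepWith @Flat p :=
    MorphismProperty.relative_monotone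
      (fun (X Y : Over S) (f : X ⟶ Y) (hf : Etale f.left) => (inferInstance : Flat f.left)) _ he
  have hlfp : AlgSp.RepWith @LocallyOfFinitePresentation p :=
    MorphismProperty.relative_monotone
      (fun (X Y : Over S) (f : X ⟶ Y) (hf : Etale f.left) =>
        (inferInstance : LocallyOfFinitePresentation f.left)) _ he
  have hls : Sheaf.IsLocallySurjective p := Groth.Agent.S9885.result S _ _ p hflat hlfp hs
  have hepi : Epi p := (Sheaf.isLocallySurjective_iff_epi p).1 hls
  have hreg : IsRegularEpi p := IsRegularEpiCategory.regularEpiOfEpi p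
  have hrel : ∀ (T : Over S) (a b : T ⟶ U),
      (∃ r : T ⟶ R, r ≫ t = a ∧ r ≫ s = b) ↔
        (AlgSp.yon S).map a ≫ p = (AlgSp.yon S).map b ≫ p := by
    intro T a b
    constructor
    · rintro ⟨r, rfl, rfl⟩
      rw [Functor.map_comp, Functor.map_comp, Category.assoc, Category.assoc, sq.w]
    · intro h
      obtain ⟨r, hr⟩ := (AlgSp.yon S).map_surjective (sq.lift _ _ h)
      refine ⟨r, (AlgSp.yon S).map_injective ?_, (AlgSp.yon S).map_injective ?_⟩
      · rw [Functor.map_comp, hr, sq.lift_fst]
      · rw [Functor.map_comp, hr, sq.lift_snd]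
  refine ⟨⟨⟨?_, ?_⟩, ?_, ?_⟩, ⟨?_⟩⟩
  · intro T r r' h1 h2
    apply (AlgSp.yon S).map_injective
    apply sq.hom_ext
    · rw [← Functor.map_comp, ← Functor.map_comp, h1]
    · rw [← Functor.map_comp, ← Functor.map_comp, h2]
  · intro T
    refine ⟨fun a => (hrel T a a).2 rfl, fun {a b} h => (hrel T b a).2 ((hrel T a b).1 h).symm,
      fun {a b c} h1 h2 => (hrel T a c).2 (((hrel T a b).1 h1).trans ((hrel T b c).1 h2))⟩
  · exact he.property p ((AlgSp.yon S).map t) s sq
  · exact he.property p ((AlgSp.yon S).map s) t sq.flip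
  · exact IsKernelPair.toCoequalizer' sq

end Groth.Agent.S9872
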