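import Groth.Statements.S10630
import Groth.Agent.Lib.Helper78.AlgSpLiftGlue4

set_option autoImplicit false
universe u
open CategoryTheory CategoryTheory.Limits AlgebraicGeometry
open AlgSp

namespace Groth.Agent.S10630

/-- (1) ⇔ (3): let h : Z ⟶ X be a morphism of algebraic spaces over S and let i : Z ⟶ Z', h' : Z' ⟶ X be
a first order thickening of Z over X (i ≫ h' = h). Then (i, h') is a universal first order
thickening of Z over X if and only if for every first order thickening j : T ⟶ T' of schemes over S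
with T' affine, every a : T ⟶ Z and b : T' ⟶ X with j ≫ b = a ≫ h, there is exactly one a' : T' ⟶ Z'
with j ≫ a' = a ≫ i and a' ≫ h' = b. -/
theorem result {S : Scheme.{u}} {Z Z' X : AlgSp.Space S} (h : Z ⟶ X) (i : Z ⟶ Z')
    (h' : Z' ⟶ X) (hi : AlgSp.IsFOThickMor i.hom) (w : i ≫ h' = h) :
    AlgSp.IsUnivFOThick h.hom i.hom h'.hom ↔
      ∀ (T T' : Over S) (j : T ⟶ T'), IsAffine T'.left → AlgSp.IsFOThickMor ((AlgSp.yon S).map j) →
        ∀ (a : (AlgSp.yon S).obj T ⟶ Z.obj) (b : (AlgSp.yon S).obj T' ⟶ X.obj),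
          (AlgSp.yon S).map j ≫ b = a ≫ h.hom →
          ∃! a' : (AlgSp.yon S).obj T' ⟶ Z'.obj, (AlgSp.yon S).map j ≫ a' = a ≫ i.hom ∧ a' ≫ h'.hom = b := by
  open Groth.Agent.Lib.Helper78.AlgSpLiftGlue in
  constructor
  · rintro ⟨-, -, huniv⟩ T T' j _ hj a b hcomm
    exact huniv (AlgSp.IsAlgSpace.yon_obj T) (AlgSp.IsAlgSpace.yon_obj T') _ a b hj hcomm
  · intro H
    refine ⟨hi, congrArg (·.hom) w, fun T T' hT hT' j a b hj hcomm => ?_⟩
    have key : ∀ ⦃W : Over S⦄, IsAffine W.left → ∀ (w : (AlgSp.yon S).obj W ⟶ T'),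
        IsSqZeroOn j w → ∃! l : (AlgSp.yon S).obj W ⟶ Z'.obj,
          IsLiftOn h'.hom j (a ≫ i.hom) b w l := by
      intro W hW w hw
      obtain ⟨W₀, fst, k, sq, hk1, hk2⟩ := hw
      have := hk1
      have hc : (AlgSp.yon S).map k ≫ w ≫ b = (fst ≫ a) ≫ h.hom := by
        rw [← Category.assoc, ← sq.w, Category.assoc, hcomm, Category.assoc]
      obtain ⟨a', ⟨h1, h2⟩, hu⟩ := H W₀ W k hW (isFOThickMor_yon_map k hk2) (fst ≫ a) (w ≫ b) hc
      refine ⟨a', (isLiftOn_iff_of_isPullback sq a').2 ⟨h2, by rw [h1, Category.assoc]⟩,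
        fun l hl => ?_⟩
      have hl' := (isLiftOn_iff_of_isPullback sq l).1 hl
      exact hu l ⟨by rw [hl'.2, Category.assoc], hl'.1⟩
    exact existsUnique_lift' hT' hj
      (fun W hW w hw l l' hl hl' => (key hW w hw).unique hl hl')
      (fun W hW w hw => (key hW w hw).exists)

end Groth.Agent.S10630
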