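import Groth.Statements.S10631
import Groth.Agent.Lib.Helper78.AlgSpLiftGlue3

set_option autoImplicit false
universe u
open CategoryTheory CategoryTheory.Limits AlgebraicGeometry
open AlgSp

namespace Groth.Agent.S10631

/-- Consider morphisms Z ⟶ Y ⟶ X of algebraic spaces over S. If (i : Z ⟶ Z', h' : Z' ⟶ Y) is, over Y, a
universal first order thickening of Z and g : Y ⟶ X is formally etale, then (i, h' ≫ g) is, over X,
a universal first order thickening of Z. -/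
theorem result {S : Scheme.{u}} {Z Z' Y X : AlgSp.Space S} (hZ : Z ⟶ Y) (g : Y ⟶ X)
    (i : Z ⟶ Z') (h' : Z' ⟶ Y) (HU : AlgSp.IsUnivFOThick hZ.hom i.hom h'.hom) (hg : AlgSp.IsFormallyEtaleMor g.hom) :
    AlgSp.IsUnivFOThick (hZ ≫ g).hom i.hom (h' ≫ g).hom := by
  obtain ⟨hi, hw, huniv⟩ := HU
  refine ⟨hi, ?_, fun T T' hT hT' j a b hj hcomm => ?_⟩
  · show i.hom ≫ h'.hom ≫ g.hom = hZ.hom ≫ g.hom
    rw [← Category.assoc, hw]
  · have hcomm' : j ≫ b = (a ≫ hZ.hom) ≫ g.hom := by rw [Category.assoc]; exact hcomm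
    obtain ⟨b', ⟨hb1, hb2⟩, hbu⟩ := Groth.Agent.Lib.Helper78.AlgSpLiftGlue.existsUnique_lift
      (a := a ≫ hZ.hom) (b := b) hT' hj hg hcomm'.symm
    obtain ⟨a', ⟨ha1, ha2⟩, hau⟩ := huniv hT hT' j a b' hj hb1
    refine ⟨a', ⟨ha1, ?_⟩, fun a'' ⟨h1, h2⟩ => ?_⟩
    · show a' ≫ h'.hom ≫ g.hom = b
      rw [← Category.assoc, ha2, hb2]
    · have h2' : (a'' ≫ h'.hom) ≫ g.hom = b := by rw [Category.assoc]; exact h2
      have e : a'' ≫ h'.hom = b' := hbu _ ⟨by rw [← Category.assoc, h1, Category.assoc, hw], h2'⟩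
      exact hau a'' ⟨h1, e⟩

end Groth.Agent.S10631
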