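import Groth.Statements.S15883
import Mathlib
-- import your own Groth.Agent.* helpers here

set_option autoImplicit false
universe u
open CategoryTheory AlgebraicGeometry Opposite
open BMCoh

namespace Groth.Agent.S15883

variable {V : ObjectProperty Scheme.{u}} [BMCoh.IsConstructible V] {R : Type u} [CommRing R]
  {A : BMCoh.Coefs R}

lemma relCodim_eq_zero {X Y : BMCoh.Obj V} (f : X ⟶ Y) :
    BMCoh.relCodim X.scheme Y.scheme = 0 := by
  simp [BMCoh.relCodim, f.dim_eq]

lemma relCodim_self (X : Scheme.{u}) : BMCoh.relCodim X X = 0 := by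
  simp [BMCoh.relCodim]

/-- push along an open-and-closed immersion followed by pull is the identity -/
lemma push_pull_self (T : BMCoh.PreTheory V R A) {Y W : BMCoh.Obj V} (iY : Y ⟶ W)
    [IsProper iY.hom] (M : A.Cat) (m n : ℤ)
    (hi : m = m + 2 * BMCoh.relCodim Y.scheme W.scheme)
    (hn : n = n + BMCoh.relCodim Y.scheme W.scheme) :
    T.push iY.hom M m n m n hi hn ≫ T.pull iY M m n = 𝟙 _ := by
  have hpb : IsPullback (𝟙 Y : Y ⟶ Y).hom (𝟙 Y.scheme) iY.hom iY.hom := by
    have : Mono iY.hom := inferInstance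
    exact (IsKernelPair.id_of_mono iY.hom)
  have hi' : m = m + 2 * BMCoh.relCodim Y.scheme Y.scheme := by simp [relCodim_self]
  have hn' : n = n + BMCoh.relCodim Y.scheme Y.scheme := by simp [relCodim_self]
  have := T.push_pull iY.hom (𝟙 Y.scheme) iY (𝟙 Y) hpb M m n m n hi hn hi' hn'
  rw [T.push_id Y M m n hi' hn'] at this
  rw [BMCoh.PreTheory.pull, this]
  simp


/-- Let T be a twisted Borel–Moore cohomology theory with coefficients in A (a full subcategory of
R-modules containing R) on a constructible class V of Noetherian schemes, and let i_X : X → W and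
i_Y : Y → W be morphisms of V — open immersions with dim X = dim W = dim Y — whose images are
complementary in W, so that W is the disjoint union of X and Y. Then for every coefficient module M
and all integers i, n the map H^i(W, M(n)) → H^i(X, M(n)) × H^i(Y, M(n)) whose components are the
restriction maps along i_X and i_Y is bijective. -/
theorem result (V : ObjectProperty Scheme.{u}) [BMCoh.IsConstructible V] (R : Type u) [CommRing R] (A : BMCoh.Coefs R) (T : BMCoh.TheoryOn V R A) {X Y W : BMCoh.Obj V} (iX : X ⟶ W) (iY : Y ⟶ W) (h : Set.range iX.hom = (Set.range iY.hom)ᶜ) (M : A.Cat) (i n : ℤ) : Function.Bijective (fun a : T.gp W M i n => ((T.pull iX M i n).hom a, (T.pull iY M i n).hom a)) := by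
  obtain ⟨k, rfl⟩ : ∃ k, i = k + 1 := ⟨i - 1, by ring⟩
  -- closed immersion
  have hclosed : IsClosed (Set.range iY.hom) := by
    rw [← isOpen_compl_iff, ← h]
    exact iX.hom.isOpenEmbedding.isOpen_range
  have hci : IsClosedImmersion iY.hom := IsClosedImmersion.of_isPreimmersion _ hclosed
  have hproper : IsProper iY.hom := inferInstance
  let D : BMCoh.Decomp W := ⟨Y, X, iY.hom, hci, iX, h⟩
  have hc : BMCoh.relCodim Y.scheme W.scheme = 0 := relCodim_eq_zero iY
  have hcD : D.codim = 0 := hc
  -- index proofs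
  have e1 : k + 1 = k + 1 + 2 * BMCoh.relCodim D.Z.scheme W.scheme := by rw [hc]; ring
  have e2 : n = n + BMCoh.relCodim D.Z.scheme W.scheme := by rw [hc]; ring
  have e3 : k + 1 + 1 = k + 1 + 1 - 2 * D.codim := by rw [hcD]; ring
  have e4 : n = n - D.codim := by rw [hcD]; ring
  have e5 : k + 1 + 1 = k + 1 + 1 + 2 * BMCoh.relCodim D.Z.scheme W.scheme := by rw [hc]; ring
  -- exactness
  have E1 := T.exact_push_pull D M k n (k + 1) n e1 e2
  have E2 := T.exact_pull_res D M (k + 1) n (k + 1 + 1) n e3 e4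
  have E3 := T.exact_res_push D M (k + 1) n (k + 1 + 1) n e3 e4 e5 e2
  -- retractions
  have R1 := push_pull_self T.toPreTheory iY M (k + 1) n e1 e2
  have R2 := push_pull_self T.toPreTheory iY M (k + 1 + 1) n e5 e2
  have r1 : ∀ c, (T.pull iY M (k + 1) n).hom ((T.push iY.hom M (k + 1) n (k + 1) n e1 e2).hom c) = c := by
    intro c
    have := congrArg (fun φ => φ.hom c) R1
    simpa using this
  have r2 : ∀ c, (T.pull iY M (k + 1 + 1) n).hom ((T.push iY.hom M (k + 1 + 1) n (k + 1 + 1) n e5 e2).hom c) = c := by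
    intro c
    have := congrArg (fun φ => φ.hom c) R2
    simpa using this
  -- res = 0
  have hres : ∀ x, (T.res D M (k + 1) n (k + 1 + 1) n e3 e4).hom x = 0 := by
    intro x
    have h0 : (T.push D.i M (k + 1 + 1) n (k + 1 + 1) n e5 e2).hom
        ((T.res D M (k + 1) n (k + 1 + 1) n e3 e4).hom x) = 0 := (E3 _).mpr ⟨x, rfl⟩
    have := r2 ((T.res D M (k + 1) n (k + 1 + 1) n e3 e4).hom x)
    rw [← this]
    change (T.pull iY M (k + 1 + 1) n).hom ((T.push D.i M (k + 1 + 1) n (k + 1 + 1) n e5 e2).hom _) = 0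
    rw [h0, map_zero]
  have hsurj : Function.Surjective (T.pull iX M (k + 1) n).hom := by
    intro x
    exact (E2 x).mp (hres x)
  constructor
  · intro a b hab
    simp only [Prod.mk.injEq] at hab
    obtain ⟨hX, hY⟩ := hab
    have h1 : (T.pull iX M (k + 1) n).hom (a - b) = 0 := by rw [map_sub, hX, sub_self]
    obtain ⟨c, hc'⟩ := (E1 (a - b)).mp h1
    have h2 : (T.pull iY M (k + 1) n).hom (a - b) = 0 := by rw [map_sub, hY, sub_self]
    have h3 : c = 0 := by
      rw [← r1 c]
      change (T.pull iY M (k + 1) n).hom ((T.push D.i M (k + 1) n (k + 1) n e1 e2).hom c) = 0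
      rw [hc', h2]
    rw [h3, map_zero] at hc'
    exact sub_eq_zero.mp hc'.symm
  · rintro ⟨x, y⟩
    obtain ⟨a₀, ha₀⟩ := hsurj x
    refine ⟨a₀ + (T.push iY.hom M (k + 1) n (k + 1) n e1 e2).hom (y - (T.pull iY M (k + 1) n).hom a₀), ?_⟩
    have h4 : (T.pull iX M (k + 1) n).hom ((T.push iY.hom M (k + 1) n (k + 1) n e1 e2).hom
        (y - (T.pull iY M (k + 1) n).hom a₀)) = 0 := (E1 _).mpr ⟨_, rfl⟩
    simp only [map_add, Prod.mk.injEq]
    refine ⟨?_, ?_⟩
    · rw [h4, add_zero, ha₀]
    · rw [r1]; abel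

end Groth.Agent.S15883
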