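import Groth.Statements.S13597
import Groth.Agent.Lib.Helper69.QuotResidue
import Groth.Agent.Lib.Helper69.QuotResidueSch

set_option autoImplicit false
universe u
open CategoryTheory AlgebraicGeometry
open SGA1

namespace Groth.Agent.S13597

open Groth.Agent.Lib.Helper69

set_option linter.style.haveILetI false

theorem appLE_of_eq_id {X : Scheme.{u}} (V : X.Opens) (f : X ⟶ X) (hf : f = 𝟙 X)
    (e : V ≤ f ⁻¹ᵁ V) : f.appLE V V e = 𝟙 _ := by
  subst hf
  simp only [Scheme.Hom.appLE, Scheme.Hom.id_app, Category.id_comp]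
  exact X.presheaf.map_id _

theorem appLE_of_eq_comp {X : Scheme.{u}} (V : X.Opens) (f g fg : X ⟶ X) (hfg : fg = f ≫ g)
    (e₁ : V ≤ f ⁻¹ᵁ V) (e₂ : V ≤ g ⁻¹ᵁ V) (e : V ≤ fg ⁻¹ᵁ V) :
    fg.appLE V V e = g.appLE V V e₂ ≫ f.appLE V V e₁ := by
  subst hfg
  rw [Scheme.Hom.appLE_comp_appLE]

/-- Let a finite group G act on a scheme X and let p : X ⟶ Y be a quotient of X by G (affine,
G-invariant, sections of O_Y = G-invariant sections of O_X). For a point x of X with image y, the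
residue field κ(x) is a normal algebraic extension of κ(y) through the map induced by p, and the
stabilizer of x in G maps onto the group of κ(y)-automorphisms of κ(x): every automorphism τ of κ(x)
over κ(y) is the map on residue fields induced by some g ∈ G with g·x = x (composed with the
identification of the residue fields at g·x and x). -/
theorem result {X Y : Scheme.{u}} {G : Type u}
    [Group G] [Finite G] (ρ : G →* Aut X) (p : X ⟶ Y) (hp : SGA1.IsQuot ρ p) (x : X) :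
    (letI := (p.residueFieldMap x).hom.toAlgebra
     Normal (Y.residueField (p.base x)) (X.residueField x)) ∧
    ∀ τ : X.residueField x ≅ X.residueField x,
      p.residueFieldMap x ≫ τ.hom = p.residueFieldMap x →
      ∃ (g : G) (e : (ρ g).hom.base x = x),
        τ.hom = (X.residueFieldCongr e).inv ≫ (ρ g).hom.residueFieldMap x := by
  haveI := hp.affine
  obtain ⟨_, ⟨U, hU, rfl⟩, hyU, -⟩ := Y.isBasis_affineOpens.exists_subset_of_mem_open
    (Set.mem_univ (p.base x)) isOpen_univ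
  have hV : IsAffineOpen (p ⁻¹ᵁ U) := hU.preimage p
  have hxV : x ∈ p ⁻¹ᵁ U := hyU
  let σ : G → (Γ(X, p ⁻¹ᵁ U) →+* Γ(X, p ⁻¹ᵁ U)) := fun g =>
    ((ρ g).hom.appLE (p ⁻¹ᵁ U) (p ⁻¹ᵁ U) (SGA1.preimage_le_of_inv ρ p hp.inv g U)).hom
  have hσ1 : σ 1 = RingHom.id _ := by
    have h1 : (ρ 1).hom = 𝟙 X := by rw [map_one]; rfl
    have := appLE_of_eq_id (p ⁻¹ᵁ U) (ρ 1).hom h1 (SGA1.preimage_le_of_inv ρ p hp.inv 1 U)
    show (((ρ 1).hom.appLE (p ⁻¹ᵁ U) (p ⁻¹ᵁ U) _)).hom = _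
    rw [this]
    rfl
  have hσmul : ∀ g h : G, σ (g * h) = (σ h).comp (σ g) := by
    intro g h
    have h1 : (ρ (g * h)).hom = (ρ h).hom ≫ (ρ g).hom := by rw [map_mul]; rfl
    have := appLE_of_eq_comp (p ⁻¹ᵁ U) (ρ h).hom (ρ g).hom (ρ (g * h)).hom h1
      (SGA1.preimage_le_of_inv ρ p hp.inv h U) (SGA1.preimage_le_of_inv ρ p hp.inv g U)
      (SGA1.preimage_le_of_inv ρ p hp.inv (g * h) U)
    show (((ρ (g * h)).hom.appLE (p ⁻¹ᵁ U) (p ⁻¹ᵁ U) _)).hom = _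
    rw [this]
    rfl
  let φ : G →* (Γ(X, p ⁻¹ᵁ U) →+* Γ(X, p ⁻¹ᵁ U)) :=
    { toFun := fun g => σ g⁻¹
      map_one' := by rw [inv_one, hσ1]; rfl
      map_mul' := fun g h => by rw [mul_inv_rev, hσmul]; rfl }
  letI act : MulSemiringAction G Γ(X, p ⁻¹ᵁ U) := MulSemiringAction.compHom _ φ
  letI algAB : Algebra Γ(Y, U) Γ(X, p ⁻¹ᵁ U) := (p.app U).hom.toAlgebra
  have hsmul : ∀ (g : G) (b : Γ(X, p ⁻¹ᵁ U)), g • b = σ g⁻¹ b := fun g b => rfl
  have hinv : Algebra.IsInvariant Γ(Y, U) Γ(X, p ⁻¹ᵁ U) G := by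
    refine ⟨fun b hb => ?_⟩
    have hb' : b ∈ Set.range (p.app U).hom := by
      rw [hp.range_iff U b]
      intro g
      have := hb g⁻¹
      rw [hsmul, inv_inv] at this
      exact this
    exact hb'
  have hfix : ∀ (g : G) (a : Γ(Y, U)), g • (algebraMap Γ(Y, U) Γ(X, p ⁻¹ᵁ U) a) =
      algebraMap Γ(Y, U) Γ(X, p ⁻¹ᵁ U) a := by
    intro g a
    have := (hp.range_iff U ((p.app U).hom a)).1 ⟨a, rfl⟩ g⁻¹
    exact this
  haveI hcc : SMulCommClass G Γ(Y, U) Γ(X, p ⁻¹ᵁ U) := by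
    refine ⟨fun g a b => ?_⟩
    rw [Algebra.smul_def, Algebra.smul_def, smul_mul', hfix]
  letI algKL : Algebra (Y.residueField (p.base x)) (X.residueField x) :=
    (p.residueFieldMap x).hom.toAlgebra
  have hcomm : (algebraMap (Y.residueField (p.base x)) (X.residueField x)).comp
      (Y.evaluation U (p.base x) hyU).hom =
      (X.evaluation (p ⁻¹ᵁ U) x hxV).hom.comp (algebraMap Γ(Y, U) Γ(X, p ⁻¹ᵁ U)) := by
    ext a
    exact Scheme.evaluation_naturality_apply p x hyU a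
  obtain ⟨hnormal, hτ⟩ := QuotResidue.core G (Y.residueField (p.base x)) (X.residueField x)
    (Y.evaluation U (p.base x) hyU).hom (X.evaluation (p ⁻¹ᵁ U) x hxV).hom hcomm
    (QuotResidueSch.exists_eval_div hU _ hyU) (QuotResidueSch.exists_eval_div hV x hxV)
  refine ⟨hnormal, fun τ hτc => ?_⟩
  let τ' : X.residueField x ≃ₐ[Y.residueField (p.base x)] X.residueField x :=
    AlgEquiv.ofRingEquiv (f := τ.commRingCatIsoToRingEquiv) (fun k => by
      have := congrArg (fun f => f.hom k) hτc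
      exact this)
  obtain ⟨g, hg1, hg2⟩ := hτ τ'
  have hle : p ⁻¹ᵁ U ≤ (ρ g⁻¹).hom ⁻¹ᵁ (p ⁻¹ᵁ U) := SGA1.preimage_le_of_inv ρ p hp.inv g⁻¹ U
  have hx' : (ρ g⁻¹).hom.base x ∈ p ⁻¹ᵁ U := hle hxV
  have happ : ∀ b : Γ(X, p ⁻¹ᵁ U),
      ((ρ g⁻¹).hom.residueFieldMap x).hom ((X.evaluation (p ⁻¹ᵁ U) _ hx').hom b) =
        (X.evaluation (p ⁻¹ᵁ U) x hxV).hom (g • b) := fun b =>
    QuotResidueSch.evaluation_appLE (ρ g⁻¹).hom (p ⁻¹ᵁ U) (p ⁻¹ᵁ U) hle x hxV b
  have e : (ρ g⁻¹).hom.base x = x := by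
    refine QuotResidueSch.eq_of_forall_evaluation hV hxV hx' (fun b => ?_)
    rw [← hg1 b, ← happ b]
    exact (map_eq_zero_iff _ ((ρ g⁻¹).hom.residueFieldMap x).hom.injective).symm
  refine ⟨g⁻¹, e, ?_⟩
  ext l
  obtain ⟨a, s, hs, rfl⟩ := QuotResidueSch.exists_eval_div hV x hxV l
  have key : ∀ b : Γ(X, p ⁻¹ᵁ U), τ.hom.hom ((X.evaluation (p ⁻¹ᵁ U) x hxV).hom b) =
      ((X.residueFieldCongr e).inv ≫ (ρ g⁻¹).hom.residueFieldMap x).hom
        ((X.evaluation (p ⁻¹ᵁ U) x hxV).hom b) := by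
    intro b
    have h1 : τ.hom.hom ((X.evaluation (p ⁻¹ᵁ U) x hxV).hom b) =
        (X.evaluation (p ⁻¹ᵁ U) x hxV).hom (g • b) := hg2 b
    rw [h1, ← happ b, Scheme.residueFieldCongr_inv, CommRingCat.hom_comp, RingHom.comp_apply]
    congr 1
    exact (QuotResidueSch.evaluation_congr e.symm (p ⁻¹ᵁ U) hxV b).symm
  rw [map_div₀, map_div₀, key a, key s]

end Groth.Agent.S13597
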