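import Groth.Statements.S13082
import Groth.Agent.S13597
import Groth.Agent.S2908
import Mathlib

set_option autoImplicit false
universe u
open CategoryTheory AlgebraicGeometry Limits
open Zeta

namespace Groth.Agent.S13082

section Helpers

/-- In a normal extension, an element fixed by all automorphisms is purely inseparable over the base. -/
theorem exists_pow_mem_of_fixed {F E : Type*} [Field F] [Field E] [Algebra F E] [Normal F E]
    (q : ℕ) [ExpChar F q] (t : E) (ht : ∀ σ : E ≃ₐ[F] E, σ t = t) :
    ∃ n : ℕ, t ^ q ^ n ∈ (algebraMap F E).range := by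
  classical
  rw [← minpoly.natSepDegree_eq_one_iff_pow_mem q]
  have hsplit := Normal.splits (F := F) (K := E) inferInstance t
  rw [Polynomial.natSepDegree_eq_of_splits _ hsplit]
  have : ((minpoly F t).aroots E).toFinset = {t} := by
    ext y
    simp only [Multiset.mem_toFinset, Finset.mem_singleton]
    rw [Polynomial.mem_aroots]
    constructor
    · rintro ⟨_, hy⟩
      obtain ⟨σ, hσ⟩ := minpoly.exists_algEquiv_of_root' (Algebra.IsAlgebraic.isAlgebraic t) hy
      rw [← hσ, ht]
    · rintro rfl
      exact ⟨minpoly.ne_zero (Normal.isIntegral inferInstance y), minpoly.aeval F y⟩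
  rw [this, Finset.card_singleton]

/-- The automorphism of `κ(x)` induced by an automorphism of `X` fixing `x`. -/
noncomputable def tauOf {X : Scheme.{u}} (σ : X ⟶ X) (x : X) (e : σ.base x = x) :
    X.residueField x ⟶ X.residueField x :=
  (X.residueFieldCongr e).inv ≫ σ.residueFieldMap x

theorem residueFieldMap_tauOf {X Y : Scheme.{u}} (f : X ⟶ Y) (σ : X ⟶ X) (hσ : σ ≫ f = f) (x : X)
    (e : σ.base x = x) : f.residueFieldMap x ≫ tauOf σ x e = f.residueFieldMap x := by
  unfold tauOf
  have h1 : f.residueFieldMap x ≫ (X.residueFieldCongr e.symm).hom =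
      (Y.residueFieldCongr (congrArg f.base e.symm)).hom ≫ f.residueFieldMap (σ.base x) :=
    Scheme.Hom.residueFieldMap_congr' (f := f) e.symm
  have h2 : f.residueFieldMap (σ.base x) ≫ σ.residueFieldMap x =
      (Y.residueFieldCongr (congrArg f.base e)).hom ≫ f.residueFieldMap x :=
    (Scheme.residueFieldMap_comp σ f x).symm.trans (Scheme.Hom.residueFieldMap_congr hσ x)
  calc f.residueFieldMap x ≫ (X.residueFieldCongr e).inv ≫ σ.residueFieldMap x
      = (f.residueFieldMap x ≫ (X.residueFieldCongr e.symm).hom) ≫ σ.residueFieldMap x :=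
        (Category.assoc _ _ _).symm
    _ = ((Y.residueFieldCongr (congrArg f.base e.symm)).hom ≫ f.residueFieldMap (σ.base x)) ≫
          σ.residueFieldMap x := by rw [h1]
    _ = (Y.residueFieldCongr (congrArg f.base e.symm)).hom ≫
          (f.residueFieldMap (σ.base x) ≫ σ.residueFieldMap x) := Category.assoc _ _ _
    _ = (Y.residueFieldCongr (congrArg f.base e.symm)).hom ≫
          ((Y.residueFieldCongr (congrArg f.base e)).hom ≫ f.residueFieldMap x) := by rw [h2]
    _ = ((Y.residueFieldCongr (congrArg f.base e.symm)).hom ≫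
          (Y.residueFieldCongr (congrArg f.base e)).hom) ≫ f.residueFieldMap x :=
        (Category.assoc _ _ _).symm
    _ = 𝟙 _ ≫ f.residueFieldMap x := by rw [Scheme.residueFieldCongr_trans_hom]; rfl
    _ = f.residueFieldMap x := Category.id_comp _

theorem tauOf_comm {W X : Scheme.{u}} (j : W ⟶ X) (σW : W ⟶ W) (σ : X ⟶ X) (h : σW ≫ j = j ≫ σ)
    (w : W) (eW : σW.base w = w) (e : σ.base (j.base w) = j.base w) :
    tauOf σ (j.base w) e ≫ j.residueFieldMap w = j.residueFieldMap w ≫ tauOf σW w eW := by
  unfold tauOf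
  have e' : j.base (σW.base w) = σ.base (j.base w) := by
    have := congrArg (fun t => t.base w) h
    simpa using this
  have h1 : j.residueFieldMap w ≫ (W.residueFieldCongr eW.symm).hom =
      (X.residueFieldCongr (congrArg j.base eW.symm)).hom ≫ j.residueFieldMap (σW.base w) :=
    Scheme.Hom.residueFieldMap_congr' (f := j) eW.symm
  have h2 : j.residueFieldMap (σW.base w) ≫ σW.residueFieldMap w =
      (X.residueFieldCongr e').hom ≫ σ.residueFieldMap (j.base w) ≫ j.residueFieldMap w :=
    ((Scheme.residueFieldMap_comp σW j w).symm.trans (Scheme.Hom.residueFieldMap_congr h w)).trans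
      (by rw [Scheme.residueFieldMap_comp]; rfl)
  symm
  calc j.residueFieldMap w ≫ (W.residueFieldCongr eW).inv ≫ σW.residueFieldMap w
      = (j.residueFieldMap w ≫ (W.residueFieldCongr eW.symm).hom) ≫ σW.residueFieldMap w :=
        (Category.assoc _ _ _).symm
    _ = ((X.residueFieldCongr (congrArg j.base eW.symm)).hom ≫ j.residueFieldMap (σW.base w)) ≫
          σW.residueFieldMap w := by rw [h1]
    _ = (X.residueFieldCongr (congrArg j.base eW.symm)).hom ≫
          (j.residueFieldMap (σW.base w) ≫ σW.residueFieldMap w) := Category.assoc _ _ _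
    _ = (X.residueFieldCongr (congrArg j.base eW.symm)).hom ≫
          ((X.residueFieldCongr e').hom ≫ σ.residueFieldMap (j.base w) ≫ j.residueFieldMap w) := by
        rw [h2]
    _ = ((X.residueFieldCongr (congrArg j.base eW.symm)).hom ≫ (X.residueFieldCongr e').hom) ≫
          σ.residueFieldMap (j.base w) ≫ j.residueFieldMap w := (Category.assoc _ _ _).symm
    _ = (X.residueFieldCongr e.symm).hom ≫ σ.residueFieldMap (j.base w) ≫ j.residueFieldMap w := by
        rw [Scheme.residueFieldCongr_trans_hom]
    _ = ((X.residueFieldCongr e).inv ≫ σ.residueFieldMap (j.base w)) ≫ j.residueFieldMap w :=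
        (Category.assoc _ _ _).symm


theorem comp_base_apply {A B C : Scheme.{u}} (f : A ⟶ B) (g : B ⟶ C) (a : A) :
    (f ≫ g).base a = g.base (f.base a) := rfl

theorem purelyInsep_aux {G : Type u} [Group G] [Finite G] {X XG W WG : Scheme.{u}}
    (ρ : G →* Aut X) (p : X ⟶ XG) (hP : SGA1.IsQuot ρ p) (j : W ⟶ X) [IsImmersion j]
    (ρW : G →* Aut W) (hρW : ∀ g, (ρW g).hom ≫ j = j ≫ (ρ g).hom) (pW : W ⟶ WG)
    (hPW : SGA1.IsQuot ρW pW) (φ : WG ⟶ XG) (hφ : pW ≫ φ = j ≫ p) (w : W) :
    (φ.residueFieldMap (pW.base w)).hom.IsPurelyInseparable := by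
  have hjinj : Function.Injective j.base := j.isEmbedding.injective
  have hequiv : ∀ (g : G) (w : W), j.base ((ρW g).hom.base w) = (ρ g).hom.base (j.base w) :=
    fun g w => congrArg (fun t => t.base w) (hρW g)
  obtain ⟨hnorm, hstab⟩ := Groth.Agent.S13597.result ρ p hP (j.base w)
  have hpt : φ.base (pW.base w) = p.base (j.base w) := congrArg (fun t => t.base w) hφ
  have hsq : φ.residueFieldMap (pW.base w) ≫ pW.residueFieldMap w =
      (XG.residueFieldCongr hpt).hom ≫ p.residueFieldMap (j.base w) ≫ j.residueFieldMap w :=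
    ((Scheme.residueFieldMap_comp pW φ w).symm.trans (Scheme.Hom.residueFieldMap_congr hφ w)).trans
      (by rw [Scheme.residueFieldMap_comp]; rfl)
  have hcsurj : Function.Surjective (j.residueFieldMap w).hom := by
    have h1 := Scheme.residue_residueFieldMap j w
    have h2 : Function.Surjective (j.stalkMap w ≫ W.residue w).hom := by
      rw [CommRingCat.hom_comp, RingHom.coe_comp]
      exact (W.residue_surjective w).comp (j.stalkMap_surjective w)
    rw [← h1, CommRingCat.hom_comp, RingHom.coe_comp] at h2
    exact Function.Surjective.of_comp h2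
  rw [RingHom.IsPurelyInseparable]
  letI := (φ.residueFieldMap (pW.base w)).hom.toAlgebra
  obtain ⟨q, hq⟩ := ExpChar.exists (XG.residueField (φ.base (pW.base w)))
  rw [isPurelyInseparable_iff_pow_mem _ q]
  intro t
  obtain ⟨t', ht'⟩ := hcsurj ((pW.residueFieldMap w).hom t)
  letI := (p.residueFieldMap (j.base w)).hom.toAlgebra
  haveI : ExpChar (XG.residueField (p.base (j.base w))) q :=
    expChar_of_injective_ringHom (XG.residueFieldCongr hpt).hom.hom.injective q
  have hfix : ∀ σ : X.residueField (j.base w) ≃ₐ[XG.residueField (p.base (j.base w))]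
      X.residueField (j.base w), σ t' = t' := by
    intro σ
    let τ : X.residueField (j.base w) ≅ X.residueField (j.base w) := σ.toRingEquiv.toCommRingCatIso
    have hτ : p.residueFieldMap (j.base w) ≫ τ.hom = p.residueFieldMap (j.base w) := by
      ext s
      exact σ.commutes s
    obtain ⟨g, e, hg⟩ := hstab τ hτ
    have eW : (ρW g).hom.base w = w := hjinj ((hequiv g w).trans e)
    have h1 := tauOf_comm j (ρW g).hom (ρ g).hom (hρW g) w eW e
    have h2 := residueFieldMap_tauOf pW (ρW g).hom (hPW.inv g) w eW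
    apply (j.residueFieldMap w).hom.injective
    have e1 : (j.residueFieldMap w).hom (σ t') =
        (tauOf (ρ g).hom (j.base w) e ≫ j.residueFieldMap w).hom t' := by
      rw [CommRingCat.hom_comp, RingHom.comp_apply]
      congr 1
      have := congrArg (fun f => f.hom t') hg
      exact this
    rw [e1, h1, CommRingCat.hom_comp, RingHom.comp_apply, ht', ← RingHom.comp_apply,
      ← CommRingCat.hom_comp, h2]
  obtain ⟨n, s, hs⟩ := exists_pow_mem_of_fixed q t' hfix
  refine ⟨n, (XG.residueFieldCongr hpt).inv.hom s, ?_⟩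
  apply (pW.residueFieldMap w).hom.injective
  have e2 : (pW.residueFieldMap w).hom ((algebraMap _ _) ((XG.residueFieldCongr hpt).inv.hom s)) =
      (φ.residueFieldMap (pW.base w) ≫ pW.residueFieldMap w).hom
        ((XG.residueFieldCongr hpt).inv.hom s) := rfl
  rw [e2, hsq, map_pow, ← ht', ← map_pow, ← hs]
  simp only [CommRingCat.hom_comp, RingHom.comp_apply]
  congr 2
  have := congrArg (fun f => f.hom s) (XG.residueFieldCongr hpt).inv_hom_id
  exact this

end Helpers

/-- Let X be a scheme of finite type over k with an action of a finite group G by algebraic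
automorphisms over k admitting a quotient π : X → X/G, and W a locally closed subscheme of X on
which G induces an action. Then the canonical morphism W/G → π(W) is radicial and surjective: the
induced morphism φ : W/G → X/G is universally injective with set-theoretic image π(W). The action on
W is pinned along the immersion j : W → X, φ by p_W ≫ φ = j ≫ π for a quotient p_W : W → W/G. -/
theorem result {k : Type u} [Field k] {G : Type u}
    [Group G] [Finite G] {X XG W WG : Scheme.{u}} (fX : X ⟶ Spec (CommRingCat.of k))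
    [LocallyOfFiniteType fX] [QuasiCompact fX] (ρ : G →* Aut X) (hρ : ∀ g, (ρ g).hom ≫ fX = fX)
    (p : X ⟶ XG) (hP : SGA1.IsQuot ρ p) (j : W ⟶ X) [IsImmersion j] (ρW : G →* Aut W)
    (hρW : ∀ g, (ρW g).hom ≫ j = j ≫ (ρ g).hom) (pW : W ⟶ WG) (hPW : SGA1.IsQuot ρW pW)
    (φ : WG ⟶ XG) (hφ : pW ≫ φ = j ≫ p) :
    UniversallyInjective φ ∧ Set.range φ.base = p.base '' Set.range j.base := by
  obtain ⟨hpWsurj, hpWfib, -⟩ := Groth.Agent.S2908.result ρW pW hPW
  obtain ⟨hpsurj, hpfib, -⟩ := Groth.Agent.S2908.result ρ p hP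
  have hjinj : Function.Injective j.base := j.isEmbedding.injective
  have hcomp : ∀ w : W, φ.base (pW.base w) = p.base (j.base w) := fun w =>
    congrArg (fun t => t.base w) hφ
  have hequiv : ∀ (g : G) (w : W), j.base ((ρW g).hom.base w) = (ρ g).hom.base (j.base w) :=
    fun g w => congrArg (fun t => t.base w) (hρW g)
  refine ⟨?_, ?_⟩
  · refine ((tfae_universallyInjective φ).out 0 2).mpr ?_
    refine ⟨?_, ?_⟩
    · intro a b hab
      obtain ⟨w1, rfl⟩ := hpWsurj a
      obtain ⟨w2, rfl⟩ := hpWsurj b
      have hab' : p.base (j.base w1) = p.base (j.base w2) := by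
        rw [← hcomp, ← hcomp]; exact hab
      obtain ⟨g, hg⟩ := (hpfib _ _).mp hab'
      rw [← hequiv] at hg
      exact (hpWfib _ _).mpr ⟨g, hjinj hg⟩
    · intro wbar
      obtain ⟨w, rfl⟩ := hpWsurj wbar
      exact purelyInsep_aux ρ p hP j ρW hρW pW hPW φ hφ w
  · ext y
    constructor
    · rintro ⟨wbar, rfl⟩
      obtain ⟨w, rfl⟩ := hpWsurj wbar
      exact ⟨j.base w, ⟨w, rfl⟩, (hcomp w).symm⟩
    · rintro ⟨_, ⟨w, rfl⟩, rfl⟩
      exact ⟨pW.base w, hcomp w⟩

end Groth.Agent.S13082
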