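import Groth.Statements.S2910
import Groth.Agent.Lib.Helper79.EtRigid
import Groth.Agent.S13082
import Groth.Agent.S13597
import Groth.Agent.S2908
import Mathlib

set_option autoImplicit false
open CategoryTheory CategoryTheory.Limits AlgebraicGeometry
universe u
open SGA1

namespace Groth.Agent.S2910

open Groth.Agent.S13082 in
/-- A morphism fixing a point `x` acts on the canonical `κ(x)`-point through `tauOf`. -/
theorem fromSpecResidueField_comp {X : Scheme.{u}} (v : X ⟶ X) (x : X) (e : v.base x = x) :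
    X.fromSpecResidueField x ≫ v = Spec.map (tauOf v x e) ≫ X.fromSpecResidueField x := by
  unfold tauOf
  rw [Spec.map_comp, Category.assoc, Scheme.residueFieldCongr_inv,
    Scheme.residueFieldCongr_fromSpecResidueField,
    Scheme.Hom.SpecMap_residueFieldMap_fromSpecResidueField]

theorem hom_mul' {X : Scheme.{u}} {G : Type u} [Group G] (ρ : G →* Aut X) (a g : G) :
    (ρ (g * a)).hom = (ρ a).hom ≫ (ρ g).hom := by
  rw [map_mul]; rfl

/-- Let a finite group G act faithfully on a connected scheme X, let p : X ⟶ Y be a quotient of X by G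
with Y locally Noetherian and p finite, and suppose p is etale. Then G acts freely on the geometric
points of X (all inertia groups are trivial), and every automorphism of X over Y is the action of
exactly one element of G. -/
theorem result {X Y : Scheme.{u}} {G : Type u} [Group G] [Finite G] (ρ : G →* Aut X)
    (p : X ⟶ Y) (hp : SGA1.IsQuot ρ p) [IsLocallyNoetherian Y] [IsFinite p] [ConnectedSpace X]
    (hfaith : Function.Injective ρ) [Etale p] :
    (∀ (K : Type u) [Field K] [IsAlgClosed K] (ξ : Spec (CommRingCat.of K) ⟶ X) (g : G), ξ ≫ (ρ g).hom = ξ → g = 1) ∧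
    ∀ u : Aut X, u.hom ≫ p = p → ∃! g : G, ρ g = u := by
  have hsep : IsSeparated p := inferInstance
  have hunr : FormallyUnramified p := inferInstance
  have hlft : LocallyOfFiniteType p := inferInstance
  obtain ⟨-, hfib, -⟩ := Groth.Agent.S2908.result ρ p hp
  refine ⟨?_, ?_⟩
  · intro K _ _ ξ g hg
    have h1 : (ρ g).hom = 𝟙 X :=
      Groth.Agent.Lib.Helper79.EtRigid.eq_of_agree_at_point (ρ g).hom (𝟙 X) p
        ((hp.inv g).trans (Category.id_comp p).symm) ξ (hg.trans (Category.comp_id ξ).symm)
    apply hfaith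
    rw [map_one]
    exact Iso.ext h1
  · intro u hu
    obtain ⟨x⟩ : Nonempty X := ConnectedSpace.toNonempty
    have hpx : p.base x = p.base (u.hom.base x) := (congrArg (fun k => k.base x) hu).symm
    obtain ⟨g, hg⟩ := (hfib x (u.hom.base x)).mp hpx
    -- `v` fixes `x`
    have hinvg : (ρ g).hom ≫ (ρ g⁻¹).hom = 𝟙 X := by
      rw [← hom_mul', inv_mul_cancel, map_one]; rfl
    have hginv : (ρ g⁻¹).hom ≫ (ρ g).hom = 𝟙 X := by
      rw [← hom_mul', mul_inv_cancel, map_one]; rfl
    have e : (u.hom ≫ (ρ g⁻¹).hom).base x = x := by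
      show (ρ g⁻¹).hom.base (u.hom.base x) = x
      rw [← hg]
      exact congrArg (fun k => k.base x) hinvg
    have hvp : (u.hom ≫ (ρ g⁻¹).hom) ≫ p = p := by
      rw [Category.assoc, hp.inv, hu]
    have hviso : IsIso (u.hom ≫ (ρ g⁻¹).hom) := by
      have : IsIso u.hom := Iso.isIso_hom u
      have : IsIso (ρ g⁻¹).hom := Iso.isIso_hom (ρ g⁻¹)
      infer_instance
    let τ : X.residueField x ≅ X.residueField x :=
      (X.residueFieldCongr e).symm ≪≫ asIso ((u.hom ≫ (ρ g⁻¹).hom).residueFieldMap x)
    have hτ : τ.hom = Groth.Agent.S13082.tauOf (u.hom ≫ (ρ g⁻¹).hom) x e := rfl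
    obtain ⟨-, hstab⟩ := Groth.Agent.S13597.result ρ p hp x
    obtain ⟨h, e', hh⟩ := hstab τ (by
      rw [hτ]
      exact Groth.Agent.S13082.residueFieldMap_tauOf p _ hvp x e)
    have hξ : X.fromSpecResidueField x ≫ (u.hom ≫ (ρ g⁻¹).hom) =
        X.fromSpecResidueField x ≫ (ρ h).hom := by
      rw [fromSpecResidueField_comp _ x e, fromSpecResidueField_comp _ x e', ← hτ, hh]
      rfl
    have hv : u.hom ≫ (ρ g⁻¹).hom = (ρ h).hom :=
      Groth.Agent.Lib.Helper79.EtRigid.eq_of_agree_at_point _ _ p
        (hvp.trans (hp.inv h).symm) (X.fromSpecResidueField x) hξ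
    have hu' : u.hom = (ρ (g * h)).hom := by
      rw [hom_mul', ← hv, Category.assoc, hginv, Category.comp_id]
    refine ⟨g * h, (Iso.ext hu').symm, ?_⟩
    intro g' hg'
    apply hfaith
    rw [hg']
    exact Iso.ext hu'

end Groth.Agent.S2910
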