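import Groth.Statements.S2189
import Mathlib
import Groth.Agent.Lib.Helper77.Vasc7

set_option autoImplicit false
universe u
open CategoryTheory
open LCI

namespace Groth.Agent.S2189

/-- Let R be a Noetherian ring and I an ideal which has finite projective dimension as an R-module and
whose conormal module I/I^2 is finite locally free (projective) over R/I. Then I is a regular ideal:
for every prime p containing I there is g outside p such that the extension of I to R_g is generated
by a regular sequence of R_g. -/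
theorem result {R : Type u} [CommRing R]
    [IsNoetherianRing R] (I : Ideal R) (n : ℕ)
    (hpd : HasProjectiveDimensionLT (ModuleCat.of R I) n)
    [Module.Projective (R ⧸ I) I.Cotangent] (p : Ideal R) [p.IsPrime] (hIp : I ≤ p) :
    ∃ g : R, g ∉ p ∧ ∃ rs : List (Localization.Away g),
      RingTheory.Sequence.IsRegular (Localization.Away g) rs ∧
        Ideal.ofList rs = I.map (algebraMap R (Localization.Away g)) := by
  classical
  open Groth.Agent.Lib.Helper77.Vasc Groth.Agent.Lib.Helper77.QuasiReg in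
  have hpd' : HasProjectiveDimensionLT (ModuleCat.of R I) (n + 1) :=
    hasProjectiveDimensionLT_of_ge _ n (n + 1) (Nat.le_succ n)
  obtain ⟨c, x, hxI, hreg, hgen⟩ := exists_regular_localization I n hpd' p hIp
  rw [isWeaklyRegular_iff_WRC p.primeCompl (Localization.AtPrime p) c x] at hreg
  obtain ⟨g₁, hg₁, hW⟩ := WRC.spread p c x hreg
  obtain ⟨g₂, hg₂, hgen₂⟩ := exists_forall_mul_mem p I (Ideal.span (Set.range x)) hgen
  have hg : g₁ * g₂ ∉ p := fun hmem =>
    (Ideal.IsPrime.mem_or_mem ‹_› hmem).elim hg₁ hg₂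
  have hspanB : Ideal.ofList (List.ofFn fun j => algebraMap R (Localization.Away (g₁ * g₂)) (x j)) =
      I.map (algebraMap R (Localization.Away (g₁ * g₂))) := by
    rw [ofList_ofFn, span_range_algebraMap_comp x]
    apply le_antisymm
    · exact Ideal.map_mono (Ideal.span_le.2 (by rintro _ ⟨j, rfl⟩; exact hxI j))
    · rw [Ideal.map_le_iff_le_comap]
      intro z hz
      rw [Ideal.mem_comap]
      refine (IsLocalization.algebraMap_mem_map_algebraMap_iff (Submonoid.powers (g₁ * g₂))
        _ _ z).2 ⟨g₁ * g₂, Submonoid.mem_powers _, ?_⟩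
      rw [mul_assoc]
      exact Ideal.mul_mem_left _ _ (hgen₂ z hz)
  refine ⟨g₁ * g₂, hg, List.ofFn fun j => algebraMap R (Localization.Away (g₁ * g₂)) (x j), ?_,
    hspanB⟩
  have hW' : WRC (Submonoid.powers (g₁ * g₂)) c x := by
    refine WRC.mono ?_ c x hW
    rintro _ ⟨k, rfl⟩
    exact ⟨g₂ ^ k, ⟨k, by simp only; rw [mul_pow, mul_comm]⟩⟩
  have h1 := (isWeaklyRegular_iff_WRC (Submonoid.powers (g₁ * g₂))
    (Localization.Away (g₁ * g₂)) c x).2 hW'
  refine ⟨h1, ?_⟩
  rw [hspanB]
  intro htop
  have h2 : (1 : Localization.Away (g₁ * g₂)) ∈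
      (I.map (algebraMap R (Localization.Away (g₁ * g₂))) • ⊤ :
        Submodule (Localization.Away (g₁ * g₂)) (Localization.Away (g₁ * g₂))) :=
    htop ▸ Submodule.mem_top
  rw [smul_eq_mul, Ideal.mul_top, ← map_one (algebraMap R (Localization.Away (g₁ * g₂)))] at h2
  obtain ⟨m, ⟨k, rfl⟩, hm⟩ := (IsLocalization.algebraMap_mem_map_algebraMap_iff
    (Submonoid.powers (g₁ * g₂)) (Localization.Away (g₁ * g₂)) I 1).1 h2
  rw [mul_one] at hm
  exact hg (Ideal.IsPrime.mem_of_pow_mem ‹_› k (hIp hm))

end Groth.Agent.S2189
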