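import Groth.Statements.S7072
import Groth.Agent.Lib.Helper8.NLPerfect

set_option autoImplicit false
set_option linter.style.haveILetI false
universe u
attribute [local instance] HasDerivedCategory.standard
open LCI

namespace Groth.Agent.S7072

/-- For a local complete intersection homomorphism of commutative rings A → B, the naive cotangent
complex NL_{B/A} is a perfect object of D(B) and has tor amplitude in [-1, 0]. -/
theorem result {A B : Type u} [CommRing A] [CommRing B] [Algebra A B]
    (h : LCI.IsLCI A B) :
    DRing.IsPerfect B (LCI.NL A B) ∧ DRing.HasTorAmplitudeIn B (-1) 0 (LCI.NL A B) := by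
  obtain ⟨_, n, f, hsurj, hI⟩ := h
  let P : Algebra.Extension.{u} A B := Algebra.Extension.ofSurjective f hsurj
  have hK : LCI.IsKoszulRegularIdeal P.ker := hI
  haveI : Module.Finite (MvPolynomial (Fin n) A) Ω[MvPolynomial (Fin n) A⁄A] := inferInstance
  haveI : Module.Free (MvPolynomial (Fin n) A) Ω[MvPolynomial (Fin n) A⁄A] := inferInstance
  letI : Algebra (MvPolynomial (Fin n) A) B := f.toAlgebra
  haveI : Module.Finite B P.CotangentSpace := by
    show Module.Finite B (TensorProduct (MvPolynomial (Fin n) A) B Ω[MvPolynomial (Fin n) A⁄A])
    infer_instance
  haveI : Module.Projective B P.CotangentSpace := by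
    show Module.Projective B (TensorProduct (MvPolynomial (Fin n) A) B Ω[MvPolynomial (Fin n) A⁄A])
    infer_instance
  let ψ : P.Hom (Algebra.Generators.self A B).toExtension :=
    Algebra.Extension.Hom.ofAlgHom
      (MvPolynomial.aeval (fun i : Fin n => (MvPolynomial.X (f (MvPolynomial.X i)) : MvPolynomial B A)))
      (by
        apply MvPolynomial.algHom_ext
        intro i
        show algebraMap (Algebra.Generators.self A B).toExtension.Ring B
            (MvPolynomial.aeval (fun i : Fin n => (MvPolynomial.X (f (MvPolynomial.X i)) :
              MvPolynomial B A)) (MvPolynomial.X i)) =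
          f (MvPolynomial.X i)
        have h1 : (MvPolynomial.aeval (fun i : Fin n => (MvPolynomial.X (f (MvPolynomial.X i)) :
            MvPolynomial B A))) (MvPolynomial.X i : MvPolynomial (Fin n) A) =
            (MvPolynomial.X (f (MvPolynomial.X i)) : MvPolynomial B A) :=
          MvPolynomial.aeval_X _ _
        have h2 : algebraMap (Algebra.Generators.self A B).toExtension.Ring B
            (MvPolynomial.X (R := A) (f (MvPolynomial.X i))) = f (MvPolynomial.X i) := by
          have := (Algebra.Generators.self A B).algebraMap_apply
            (MvPolynomial.X (R := A) (f (MvPolynomial.X i)))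
          rw [MvPolynomial.aeval_X] at this
          exact this
        exact (congrArg _ h1).trans h2)
  exact Groth.Agent.Lib.Helper8.NLPerfect.main P hK ψ

end Groth.Agent.S7072
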