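import Groth.Statements.S4848
import Groth.Agent.Lib.Helper54.FlatColim

set_option autoImplicit false
universe u
open TensorProduct
open EGA43

namespace Groth.Agent.S4848

attribute [local instance] Algebra.TensorProduct.rightAlgebra in
/-- The direct implication: descend to a finite type `ℤ`-algebra, apply the global Noetherian
approximation of flatness and factor the resulting finitely presented algebra through a stage. -/
theorem main {A₀ : Type u} [CommRing A₀]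
    {ι : Type u} [Preorder ι] (G : ι → Type u) [∀ i, CommRing (G i)] [∀ i, Algebra A₀ (G i)]
    (g : ∀ i j, i ≤ j → G i →ₐ[A₀] G j)
    (A : Type u) [CommRing A] [Algebra A₀ A] [∀ i, Algebra (G i) A] [∀ i, IsScalarTower A₀ (G i) A]
    (hcolim : FlatCA.IsDirectedColimitRing G (fun i j h => (g i j h).toRingHom) A)
    {B₀ : Type u} [CommRing B₀] [Algebra A₀ B₀] [Algebra.FinitePresentation A₀ B₀]
    (M₀ : Type u) [AddCommGroup M₀] [Module B₀ M₀] [Module A₀ M₀] [IsScalarTower A₀ B₀ M₀]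
    [Module.FinitePresentation B₀ M₀] (hA : Module.Flat A (A ⊗[A₀] M₀)) :
    ∃ i : ι, Module.Flat (G i) (G i ⊗[A₀] M₀) := by
  classical
  obtain ⟨Z₀, i1, i2, S₀, i3, i4, N₀, i5, i6, i7, i8, θ, Θ, hft, -, hfp, hfin, hθ, hΘ⟩ :=
    Groth.Agent.Lib.Helper54.FlatPkg.exists_descent A₀ B₀ M₀ ∅ Set.finite_empty
  haveI : IsNoetherianRing Z₀ := Algebra.FiniteType.isNoetherianRing ℤ Z₀
  haveI : Algebra.FiniteType Z₀ S₀ := inferInstance
  obtain ⟨ΘR⟩ := Groth.Agent.Lib.Helper54.FlatColim.linearEquiv_of_semilinear Z₀ S₀ N₀ θ hθ Θ hΘ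
  letI algZA : Algebra Z₀ A := ((algebraMap A₀ A).comp (algebraMap Z₀ A₀)).toAlgebra
  haveI : IsScalarTower Z₀ A₀ A := IsScalarTower.of_algebraMap_eq (fun _ => rfl)
  letI algZG : ∀ i, Algebra Z₀ (G i) := fun i =>
    ((algebraMap A₀ (G i)).comp (algebraMap Z₀ A₀)).toAlgebra
  haveI : ∀ i, IsScalarTower Z₀ A₀ (G i) := fun i => IsScalarTower.of_algebraMap_eq (fun _ => rfl)
  haveI : ∀ i, IsScalarTower Z₀ (G i) A := fun i => IsScalarTower.of_algebraMap_eq (fun z => by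
    show algebraMap A₀ A (algebraMap Z₀ A₀ z) =
      algebraMap (G i) A (algebraMap A₀ (G i) (algebraMap Z₀ A₀ z))
    rw [← IsScalarTower.algebraMap_apply A₀ (G i) A])
  have h1 : Module.Flat A ((S₀ ⊗[Z₀] A) ⊗[S₀] N₀) :=
    (Groth.Agent.Lib.Helper54.FlatColim.flat_baseChange_iff Z₀ A₀ S₀ N₀ M₀ ΘR A).1 hA
  obtain ⟨T, hTfg, hT⟩ := Groth.Agent.Lib.Helper54.FlatStage7.exists_fg_flat Z₀ S₀ N₀ A h1
  have hTflat := hT T le_rfl
  haveI : Algebra.FiniteType Z₀ T := (Subalgebra.fg_iff_finiteType T).1 hTfg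
  haveI : Algebra.FinitePresentation Z₀ T := Algebra.FinitePresentation.of_finiteType.1 inferInstance
  obtain ⟨i, χ, -⟩ := Groth.Agent.Lib.Helper54.FlatColim.exists_algHom_of_colimit G
    (fun i j h => (g i j h).toRingHom)
    (fun i j h z => (g i j h).commutes (algebraMap Z₀ A₀ z)) A hcolim T T.val
  refine ⟨i, ?_⟩
  have h2 : Module.Flat (G i) ((S₀ ⊗[Z₀] G i) ⊗[S₀] N₀) :=
    Groth.Agent.Lib.Helper54.FlatColim.flat_of_algHom Z₀ S₀ N₀ T (G i) χ hTflat
  exact (Groth.Agent.Lib.Helper54.FlatColim.flat_baseChange_iff Z₀ A₀ S₀ N₀ M₀ ΘR (G i)).2 h2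

/-- Let A₀ be a commutative ring, (A_i) a directed system of A₀-algebras with colimit A, B₀ a finitely
presented A₀-algebra and M₀ a finitely presented B₀-module. Then the A-module A ⊗_{A₀} M₀ is flat if
and only if, for some index i, the A_i-module A_i ⊗_{A₀} M₀ is flat. -/
theorem result {A₀ : Type u} [CommRing A₀]
    {ι : Type u} [Preorder ι] (G : ι → Type u) [∀ i, CommRing (G i)] [∀ i, Algebra A₀ (G i)]
    (g : ∀ i j, i ≤ j → G i →ₐ[A₀] G j)
    (A : Type u) [CommRing A] [Algebra A₀ A] [∀ i, Algebra (G i) A] [∀ i, IsScalarTower A₀ (G i) A]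
    (hcolim : FlatCA.IsDirectedColimitRing G (fun i j h => (g i j h).toRingHom) A)
    {B₀ : Type u} [CommRing B₀] [Algebra A₀ B₀] [Algebra.FinitePresentation A₀ B₀]
    (M₀ : Type u) [AddCommGroup M₀] [Module B₀ M₀] [Module A₀ M₀] [IsScalarTower A₀ B₀ M₀]
    [Module.FinitePresentation B₀ M₀] :
    Module.Flat A (A ⊗[A₀] M₀) ↔ ∃ i : ι, Module.Flat (G i) (G i ⊗[A₀] M₀) := by
  constructor
  · exact main G g A hcolim (B₀ := B₀) M₀
  · rintro ⟨i, hi⟩
    have h1 : Module.Flat A (A ⊗[G i] (G i ⊗[A₀] M₀)) := inferInstance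
    exact Module.Flat.of_linearEquiv
      (TensorProduct.AlgebraTensorModule.cancelBaseChange A₀ (G i) A A M₀).symm

end Groth.Agent.S4848
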