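import Groth.Statements.S7221
import Mathlib
-- import your own Groth.Agent.* helpers here

set_option autoImplicit false
universe u
open CategoryTheory CategoryTheory.Limits TensorProduct
attribute [local instance] HasDerivedCategory.standard
open FlatMor

namespace Groth.Agent.S7221

section alg
variable (R S R' S' : Type u) [CommRing R] [CommRing S] [CommRing R']
    [CommRing S'] [Algebra R S] [Algebra R' S'] [Algebra R R'] [Algebra S S'] [Algebra R S']
    [IsScalarTower R R' S'] [IsScalarTower R S S'] [Algebra.IsPushout R R' S S']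
    {ι : Type u} (G : Algebra.Generators R S ι) (G' : Algebra.Generators R' S' ι)
    (h : ∀ i, G'.val i = algebraMap S S' (G.val i))

/-- the presentation with all elements of the kernel as relations -/
noncomputable def fullPres : Algebra.Presentation R S ι G.ker where
  __ := G
  relation x := x.1
  span_range_relation_eq_ker := by
    have : Set.range (fun x : G.ker => (x.1 : G.Ring)) = (G.ker : Set G.Ring) := Subtype.range_coe
    rw [this]
    exact Ideal.span_eq _

include h in
theorem ker_eq_map :
    RingHom.ker (MvPolynomial.aeval (R := R') G'.val) =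
      Ideal.map (MvPolynomial.map (algebraMap R R'))
        (RingHom.ker (MvPolynomial.aeval (R := R) G.val)) := by
  have H := (fullPres R S G).span_range_relation_eq_ker_baseChange R'
  let e : R' ⊗[R] S ≃ₐ[R'] S' := Algebra.IsPushout.equiv R R' S S'
  have he : (MvPolynomial.aeval (R := R') G'.val) =
      (e : R' ⊗[R] S →ₐ[R'] S').comp (MvPolynomial.aeval (R := R') (Algebra.Generators.baseChange R' (fullPres R S G).toGenerators).val) := by
    apply MvPolynomial.algHom_ext
    intro i
    rw [AlgHom.comp_apply, MvPolynomial.aeval_X, MvPolynomial.aeval_X, h]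
    change _ = e (1 ⊗ₜ G.val i)
    rw [Algebra.IsPushout.equiv_tmul, map_one, one_mul]
  have hk : RingHom.ker (MvPolynomial.aeval (R := R') G'.val) =
      RingHom.ker (MvPolynomial.aeval (S₁ := R' ⊗[R] S) (Algebra.Generators.baseChange R' (fullPres R S G).toGenerators).val) := by
    ext x
    rw [RingHom.mem_ker, RingHom.mem_ker, he, AlgHom.comp_apply]
    exact (map_eq_zero_iff _ e.injective)
  rw [hk, ← H, Ideal.map, ← Algebra.Generators.ker_eq_ker_aeval_val]
  congr 1
  ext x
  constructor
  · rintro ⟨p, rfl⟩
    exact ⟨p.1, p.2, rfl⟩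
  · rintro ⟨p, hp, rfl⟩
    exact ⟨⟨p, hp⟩, rfl⟩

theorem toAlgHom_eq (p : MvPolynomial ι R) :
    (NLCx.sameVarsHom G G' h).toExtensionHom.toAlgHom p = MvPolynomial.map (algebraMap R R') p := by
  change (NLCx.sameVarsHom G G' h).toAlgHom p = _
  have : ((NLCx.sameVarsHom G G' h).toAlgHom.toRingHom : MvPolynomial ι R →+* MvPolynomial ι R') =
      MvPolynomial.map (algebraMap R R') := by
    apply MvPolynomial.ringHom_ext
    · intro r
      change (NLCx.sameVarsHom G G' h).toAlgHom (MvPolynomial.C r) = _
      rw [Algebra.Generators.Hom.toAlgHom_C, MvPolynomial.map_C]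
    · intro i
      change (NLCx.sameVarsHom G G' h).toAlgHom (MvPolynomial.X i) = _
      rw [Algebra.Generators.Hom.toAlgHom_X, MvPolynomial.map_X]; rfl
  exact congrArg (fun φ : MvPolynomial ι R →+* MvPolynomial ι R' => φ p) this

/-- degree 0: bijective -/
theorem cotangentSpace_bij :
    Function.Bijective (LinearMap.liftBaseChange S' (Algebra.Extension.CotangentSpace.map
      (NLCx.sameVarsHom G G' h).toExtensionHom)) := by
  let e := (G.cotangentSpaceBasis.baseChange S').equiv G'.cotangentSpaceBasis (Equiv.refl ι)
  have he : LinearMap.liftBaseChange S' (Algebra.Extension.CotangentSpace.map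
      (NLCx.sameVarsHom G G' h).toExtensionHom) = e.toLinearMap := by
    apply (G.cotangentSpaceBasis.baseChange S').ext
    intro i
    rw [LinearEquiv.coe_coe, Module.Basis.equiv_apply, Equiv.refl_apply,
      Module.Basis.baseChange_apply, LinearMap.liftBaseChange_tmul, one_smul,
      Algebra.Generators.cotangentSpaceBasis_apply, Algebra.Generators.cotangentSpaceBasis_apply]
    erw [Algebra.Extension.CotangentSpace.map_tmul]
    rw [map_one]
    congr 2
    change (NLCx.sameVarsHom G G' h).toAlgHom (MvPolynomial.X i) = _
    rw [Algebra.Generators.Hom.toAlgHom_X]; rfl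
  rw [he]
  exact e.bijective

theorem mem_ker'_iff (q : MvPolynomial ι R') :
    q ∈ G'.toExtension.ker ↔ q ∈ RingHom.ker (MvPolynomial.aeval (R := R') G'.val) := by
  have : (RingHom.ker (MvPolynomial.aeval (R := R') G'.val)) = G'.ker :=
    (Algebra.Generators.ker_eq_ker_aeval_val G').symm
  rw [this]; rfl

theorem mem_ker_iff (q : MvPolynomial ι R) :
    q ∈ G.toExtension.ker ↔ q ∈ RingHom.ker (MvPolynomial.aeval (R := R) G.val) := by
  have : (RingHom.ker (MvPolynomial.aeval (R := R) G.val)) = G.ker :=
    (Algebra.Generators.ker_eq_ker_aeval_val G).symm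
  rw [this]; rfl

include h in
theorem cotangent_surj_aux (q : MvPolynomial ι R')
    (hq : q ∈ Ideal.map (MvPolynomial.map (algebraMap R R'))
        (RingHom.ker (MvPolynomial.aeval (R := R) G.val))) :
    ∃ hq' : q ∈ G'.toExtension.ker, Algebra.Extension.Cotangent.mk (⟨q, hq'⟩ : G'.toExtension.ker) ∈
      LinearMap.range (LinearMap.liftBaseChange S' (Algebra.Extension.Cotangent.map
        (NLCx.sameVarsHom G G' h).toExtensionHom)) := by
  rw [Ideal.map] at hq
  induction hq using Submodule.span_induction with
  | mem x hx =>
    obtain ⟨p0, hp0, rfl⟩ := hx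
    have hp0' : p0 ∈ G.toExtension.ker := (mem_ker_iff R S G p0).mpr hp0
    have hmem' : MvPolynomial.map (algebraMap R R') p0 ∈ G'.toExtension.ker :=
      (mem_ker'_iff R' S' G' _).mpr (by
        rw [ker_eq_map R S R' S' G G' h]; exact Ideal.mem_map_of_mem _ hp0)
    have e1 := toAlgHom_eq R S R' S' G G' h p0
    refine ⟨hmem', ⟨1 ⊗ₜ Algebra.Extension.Cotangent.mk ⟨p0, hp0'⟩, ?_⟩⟩
    rw [LinearMap.liftBaseChange_tmul, one_smul, Algebra.Extension.Cotangent.map_mk]
    congr 1
    ext
    exact e1
  | zero =>
    refine ⟨Ideal.zero_mem _, ?_⟩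
    convert Submodule.zero_mem _
    exact map_zero Algebra.Extension.Cotangent.mk
  | add x y _ _ hx hy =>
    obtain ⟨hx1, hx2⟩ := hx
    obtain ⟨hy1, hy2⟩ := hy
    refine ⟨Ideal.add_mem _ hx1 hy1, ?_⟩
    convert Submodule.add_mem _ hx2 hy2 using 1
    exact map_add Algebra.Extension.Cotangent.mk (⟨x, hx1⟩ : G'.toExtension.ker) ⟨y, hy1⟩
  | smul c x _ hx =>
    obtain ⟨hx1, hx2⟩ := hx
    refine ⟨Ideal.mul_mem_left _ _ hx1, ?_⟩
    let c' : G'.toExtension.Ring := c
    convert Submodule.smul_mem _ (algebraMap G'.toExtension.Ring S' c') hx2 using 1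
    exact map_smul Algebra.Extension.Cotangent.mk c' (⟨x, hx1⟩ : G'.toExtension.ker)

include h in
theorem cotangent_surj_aux2 (q0 : MvPolynomial ι R') (hq0 : q0 ∈ G'.toExtension.ker) :
    Algebra.Extension.Cotangent.mk (⟨q0, hq0⟩ : G'.toExtension.ker) ∈
      LinearMap.range (LinearMap.liftBaseChange S' (Algebra.Extension.Cotangent.map
        (NLCx.sameVarsHom G G' h).toExtensionHom)) := by
  have hq : q0 ∈ Ideal.map (MvPolynomial.map (algebraMap R R'))
        (RingHom.ker (MvPolynomial.aeval (R := R) G.val)) := by
    rw [← ker_eq_map R S R' S' G G' h, ← mem_ker'_iff]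
    exact hq0
  obtain ⟨_, hq2⟩ := cotangent_surj_aux R S R' S' G G' h q0 hq
  exact hq2

include h in
/-- degree -1: surjective -/
theorem cotangent_surj :
    Function.Surjective (LinearMap.liftBaseChange S' (Algebra.Extension.Cotangent.map
      (NLCx.sameVarsHom G G' h).toExtensionHom)) := by
  intro y
  obtain ⟨q, rfl⟩ := Algebra.Extension.Cotangent.mk_surjective y
  exact cotangent_surj_aux2 R S R' S' G G' h q.1 q.2

include h in
theorem part1 : Function.Surjective (NLCx.bcH1Map (S' := S') (NLCx.sameVarsHom G G' h).toExtensionHom) := by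
  intro z
  obtain ⟨w, hw⟩ := cotangent_surj R S R' S' G G' h z.1
  have key : G'.toExtension.cotangentComplex ∘ₗ LinearMap.liftBaseChange S' (Algebra.Extension.Cotangent.map
        (NLCx.sameVarsHom G G' h).toExtensionHom) =
      LinearMap.liftBaseChange S' (Algebra.Extension.CotangentSpace.map
        (NLCx.sameVarsHom G G' h).toExtensionHom) ∘ₗ G.toExtension.cotangentComplex.baseChange S' := by
    ext y
    simpa using (Algebra.Extension.CotangentSpace.map_cotangentComplex
      (NLCx.sameVarsHom G G' h).toExtensionHom y).symm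
  have hw0 : (G.toExtension.cotangentComplex.baseChange S') w = 0 := by
    apply (cotangentSpace_bij R S R' S' G G' h).1
    rw [map_zero]
    have := congr($key w)
    simp only [LinearMap.coe_comp, Function.comp_apply] at this
    rw [← this, hw]
    exact z.2
  exact ⟨⟨w, hw0⟩, Subtype.ext hw⟩

end alg

section comp
variable {R S R' S' : Type u} [CommRing R] [CommRing S] [CommRing R']
    [CommRing S'] [Algebra R S] [Algebra R' S'] [Algebra R R'] [Algebra S S'] [Algebra R S']
    [IsScalarTower R R' S'] [IsScalarTower R S S']

theorem bcH1Map_comp {P : Algebra.Extension.{u} R S} {P' P'' : Algebra.Extension.{u} R' S'}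
    (f : P.Hom P') (g : P'.Hom P'') (x : NLCx.bcH1 P S') :
    NLCx.bcH1Map (S' := S') (g.comp f) x = Algebra.Extension.H1Cotangent.map g (NLCx.bcH1Map (S' := S') f x) := by
  apply Subtype.ext
  change LinearMap.liftBaseChange S' (Algebra.Extension.Cotangent.map (g.comp f)) x.1 =
    Algebra.Extension.Cotangent.map g (LinearMap.liftBaseChange S' (Algebra.Extension.Cotangent.map f) x.1)
  generalize x.1 = y
  induction y using TensorProduct.induction_on with
  | zero => simp
  | add a b ha hb => rw [map_add, map_add, map_add, ha, hb]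
  | tmul a b =>
    rw [LinearMap.liftBaseChange_tmul, LinearMap.liftBaseChange_tmul, map_smul,
      Algebra.Extension.Cotangent.map_comp]
    rfl

end comp

section part2
variable (R S R' S' : Type u) [CommRing R] [CommRing S] [CommRing R']
    [CommRing S'] [Algebra R S] [Algebra R' S'] [Algebra R R'] [Algebra S S'] [Algebra R S']
    [IsScalarTower R R' S'] [IsScalarTower R S S'] [Algebra.IsPushout R R' S S']

include R in
theorem aeval_surj : Function.Surjective
    (MvPolynomial.aeval (R := R') (fun s : S => algebraMap S S' s)) := by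
  intro s'
  have hbc : IsBaseChange R' (IsScalarTower.toAlgHom R S S').toLinearMap :=
    (inferInstance : Algebra.IsPushout R R' S S').out
  refine hbc.inductionOn s' (fun s' => ∃ a, (MvPolynomial.aeval (R := R') fun s : S => (algebraMap S S') s) a = s')
    ?_ ?_ ?_ ?_
  · exact ⟨0, map_zero _⟩
  · intro s
    exact ⟨MvPolynomial.X s, by simp⟩
  · rintro r' n ⟨p, rfl⟩
    exact ⟨r' • p, by rw [map_smul]⟩
  · rintro n₁ n₂ ⟨p₁, rfl⟩ ⟨p₂, rfl⟩
    exact ⟨p₁ + p₂, map_add _ _ _⟩

/-- the base change of the standard presentation of `S` -/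
noncomputable def G1 : Algebra.Generators R' S' S :=
  Algebra.Generators.ofSurjective (fun s : S => algebraMap S S' s) (aeval_surj R S R' S')

theorem G1_val (s : S) : (G1 R S R' S').val s = algebraMap S S' ((Algebra.Generators.self R S).val s) := rfl

theorem defaultHom_eq :
    ((Algebra.Generators.self R S).defaultHom (Algebra.Generators.self R' S')).toExtensionHom =
      (((G1 R S R' S').defaultHom (Algebra.Generators.self R' S')).toExtensionHom).comp
        (NLCx.sameVarsHom (Algebra.Generators.self R S) (G1 R S R' S') (G1_val R S R' S')).toExtensionHom := by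
  apply Algebra.Extension.Hom.ext
  apply MvPolynomial.ringHom_ext
  · intro r
    change ((Algebra.Generators.self R S).defaultHom (Algebra.Generators.self R' S')).toAlgHom (MvPolynomial.C r) =
      ((G1 R S R' S').defaultHom (Algebra.Generators.self R' S')).toAlgHom
        ((NLCx.sameVarsHom (Algebra.Generators.self R S) (G1 R S R' S') (G1_val R S R' S')).toAlgHom (MvPolynomial.C r))
    rw [Algebra.Generators.Hom.toAlgHom_C, Algebra.Generators.Hom.toAlgHom_C,
      Algebra.Generators.Hom.toAlgHom_C]
    rfl
  · intro s
    change ((Algebra.Generators.self R S).defaultHom (Algebra.Generators.self R' S')).toAlgHom (MvPolynomial.X s) =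
      ((G1 R S R' S').defaultHom (Algebra.Generators.self R' S')).toAlgHom
        ((NLCx.sameVarsHom (Algebra.Generators.self R S) (G1 R S R' S') (G1_val R S R' S')).toAlgHom (MvPolynomial.X s))
    rw [Algebra.Generators.Hom.toAlgHom_X, Algebra.Generators.Hom.toAlgHom_X]
    change _ = ((G1 R S R' S').defaultHom (Algebra.Generators.self R' S')).toAlgHom (MvPolynomial.X s)
    rw [Algebra.Generators.Hom.toAlgHom_X]
    rfl

theorem part2 : Function.Surjective (NLCx.bcH1Map (S' := S')
        ((Algebra.Generators.self R S).defaultHom (Algebra.Generators.self R' S')).toExtensionHom) := by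
  rw [defaultHom_eq R S R' S']
  intro z
  let gE := ((G1 R S R' S').defaultHom (Algebra.Generators.self R' S')).toExtensionHom
  let bE := ((Algebra.Generators.self R' S').defaultHom (G1 R S R' S')).toExtensionHom
  obtain ⟨y, hy⟩ := (Algebra.Extension.H1Cotangent.equiv gE bE).surjective z
  obtain ⟨x, hx⟩ := part1 R S R' S' (Algebra.Generators.self R S) (G1 R S R' S') (G1_val R S R' S') y
  refine ⟨x, ?_⟩
  rw [bcH1Map_comp, hx]
  exact hy

end part2

/-- Let R → S and R → R' be ring homomorphisms and let S' be an algebra over R' and over S making the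
square cocartesian, S' = S ⊗_R R'. Let G be a presentation of S over R by a polynomial algebra and
G' the presentation of S' over R' on the same set of variables, each variable mapping to the image
of the corresponding generator (the base change of G). Then the canonical map H^{-1}(NL(G) ⊗_S S') →
H^{-1}(NL(G')) is surjective. The same holds for the canonical map H^{-1}(NL_{S/R} ⊗_S S') →
H^{-1}(NL_{S'/R'}) between the complexes of the presentations on all elements. (In degree 0 the
corresponding map S' ⊗_S Ω_{S/R} → Ω_{S'/R'} is bijective; that part is not restated.) -/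
theorem result (R S R' S' : Type u) [CommRing R] [CommRing S] [CommRing R']
    [CommRing S'] [Algebra R S] [Algebra R' S'] [Algebra R R'] [Algebra S S'] [Algebra R S']
    [IsScalarTower R R' S'] [IsScalarTower R S S'] [Algebra.IsPushout R R' S S']
    {ι : Type u} (G : Algebra.Generators R S ι) (G' : Algebra.Generators R' S' ι)
    (h : ∀ i, G'.val i = algebraMap S S' (G.val i)) :
    Function.Surjective (NLCx.bcH1Map (NLCx.sameVarsHom G G' h).toExtensionHom) ∧
      Function.Surjective (NLCx.bcH1Map
        ((Algebra.Generators.self R S).defaultHom (Algebra.Generators.self R' S')).toExtensionHom) := by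
  exact ⟨part1 R S R' S' G G' h, part2 R S R' S'⟩

end Groth.Agent.S7221
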