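import Groth.Statements.S7224
import Mathlib
import Groth.Agent.S7221
-- import your own Groth.Agent.* helpers here

set_option autoImplicit false
universe u
open CategoryTheory CategoryTheory.Limits TensorProduct
attribute [local instance] HasDerivedCategory.standard
open FlatMor

namespace Groth.Agent.S7224
open Groth.Agent.S7221

section flatinj
/- General: `P → P'` flat ring map, `I` ideal of `P`. -/
variable {P P' : Type u} [CommRing P] [CommRing P'] [Algebra P P'] (J : Ideal P)

/-- `P' ⊗_P J → P'`. -/
noncomputable def psi : P' ⊗[P] J →ₗ[P'] P' :=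
  LinearMap.liftBaseChange P' ((Algebra.linearMap P P').comp J.subtype)

theorem psi_tmul (p' : P') (x : J) : psi J (p' ⊗ₜ x) = p' * algebraMap P P' x := by
  simp [psi, Algebra.smul_def]

theorem psi_injective [Module.Flat P P'] : Function.Injective (psi (P' := P') J) := by
  have h1 : Function.Injective (LinearMap.lTensor P' J.subtype) :=
    Module.Flat.lTensor_preserves_injective_linearMap (M := P') J.subtype Subtype.val_injective
  have h2 : ∀ w, psi (P' := P') J w = TensorProduct.rid P P' (LinearMap.lTensor P' J.subtype w) := by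
    intro w
    induction w using TensorProduct.induction_on with
    | zero => simp
    | add a b ha hb => simp only [map_add, ha, hb]
    | tmul p' x =>
      rw [psi_tmul, LinearMap.lTensor_tmul, TensorProduct.rid_tmul, Submodule.subtype_apply,
        Algebra.smul_def, mul_comm]
  intro a b hab
  rw [h2, h2] at hab
  exact h1 ((TensorProduct.rid P P').injective hab)

theorem map_le_range_psi : Ideal.map (algebraMap P P') J ≤
    (LinearMap.range (psi (P' := P') J) : Submodule P' P') := by
  rw [Ideal.map, Ideal.span_le]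
  rintro _ ⟨x, hx, rfl⟩
  exact ⟨1 ⊗ₜ ⟨x, hx⟩, by rw [psi_tmul, one_mul]⟩

end flatinj

section alg
variable (R S R' S' : Type u) [CommRing R] [CommRing S] [CommRing R']
    [CommRing S'] [Algebra R S] [Algebra R' S'] [Algebra R R'] [Algebra S S'] [Algebra R S']
    [IsScalarTower R R' S'] [IsScalarTower R S S'] [Algebra.IsPushout R R' S S']
    {ι : Type u} (G : Algebra.Generators R S ι) (G' : Algebra.Generators R' S' ι)
    (h : ∀ i, G'.val i = algebraMap S S' (G.val i))

attribute [local instance] MvPolynomial.algebraMvPolynomial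

theorem flat_mvPolynomial [Module.Flat R R'] : Module.Flat (MvPolynomial ι R) (MvPolynomial ι R') := by
  have hp : Algebra.IsPushout R (MvPolynomial ι R) R' (MvPolynomial ι R') := inferInstance
  exact Module.Flat.isBaseChange R (MvPolynomial ι R) R' (MvPolynomial ι R') hp.out

include h in
theorem aeval_map (p : MvPolynomial ι R) :
    MvPolynomial.aeval G'.val (MvPolynomial.map (algebraMap R R') p) =
      algebraMap S S' (MvPolynomial.aeval G.val p) := by
  induction p using MvPolynomial.induction_on with
  | C a =>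
    rw [MvPolynomial.map_C, MvPolynomial.aeval_C, MvPolynomial.aeval_C,
      ← IsScalarTower.algebraMap_apply, ← IsScalarTower.algebraMap_apply]
  | add p q hp hq => rw [map_add, map_add, map_add, map_add, hp, hq]
  | mul_X p i hp =>
    rw [map_mul, map_mul, map_mul, map_mul, hp, MvPolynomial.map_X, MvPolynomial.aeval_X,
      MvPolynomial.aeval_X, h]

/-- the kernel as an ideal of the polynomial ring (syntactically) -/
noncomputable abbrev kerI : Ideal (MvPolynomial ι R) := RingHom.ker (MvPolynomial.aeval (R := R) G.val)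

/-- `I → I/I²` -/
noncomputable def mkI (x : kerI R S G) : G.toExtension.Cotangent :=
  Algebra.Extension.Cotangent.mk (⟨x.1, (mem_ker_iff R S G x.1).mpr x.2⟩ : G.toExtension.ker)

theorem mkI_add (x y : kerI R S G) : mkI R S G (x + y) = mkI R S G x + mkI R S G y :=
  map_add Algebra.Extension.Cotangent.mk
    (⟨x.1, (mem_ker_iff R S G x.1).mpr x.2⟩ : G.toExtension.ker) ⟨y.1, (mem_ker_iff R S G y.1).mpr y.2⟩

theorem mkI_zero : mkI R S G 0 = 0 :=
  map_zero Algebra.Extension.Cotangent.mk

theorem mkI_smul (r : MvPolynomial ι R) (x : kerI R S G) :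
    mkI R S G (r • x) = (MvPolynomial.aeval G.val r) • mkI R S G x := by
  let r' : G.toExtension.Ring := r
  have h1 : mkI R S G (r • x) = r' • mkI R S G x :=
    map_smul Algebra.Extension.Cotangent.mk r'
      (⟨x.1, (mem_ker_iff R S G x.1).mpr x.2⟩ : G.toExtension.ker)
  rw [h1]
  change (algebraMap G.toExtension.Ring S r') • mkI R S G x = _
  congr 1
  change algebraMap G.Ring S r = _
  rw [Algebra.Generators.algebraMap_apply]

include h in
/-- the additive map `P' ⊗_P I → S' ⊗_S (I/I²)` -/
noncomputable def Theta :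
    MvPolynomial ι R' ⊗[MvPolynomial ι R] (kerI R S G) →+ S' ⊗[S] G.toExtension.Cotangent :=
  TensorProduct.liftAddHom
    { toFun := fun p' =>
        { toFun := fun x => (MvPolynomial.aeval G'.val p') ⊗ₜ[S] mkI R S G x
          map_zero' := by rw [mkI_zero, tmul_zero]
          map_add' := fun x y => by rw [mkI_add, tmul_add] }
      map_zero' := by ext x; simp
      map_add' := fun p q => by ext x; simp [add_tmul] }
    (by
      intro r p' x
      change (MvPolynomial.aeval G'.val (r • p')) ⊗ₜ[S] mkI R S G x =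
        (MvPolynomial.aeval G'.val p') ⊗ₜ[S] mkI R S G (r • x)
      rw [Algebra.smul_def, map_mul, MvPolynomial.algebraMap_def, aeval_map R S R' S' G G' h,
        mkI_smul, tmul_smul, smul_tmul', Algebra.smul_def, mul_comm])

theorem Theta_tmul (p' : MvPolynomial ι R') (x : kerI R S G) :
    Theta R S R' S' G G' h (p' ⊗ₜ x) = (MvPolynomial.aeval G'.val p') ⊗ₜ[S] mkI R S G x := rfl

include h in
theorem Theta_surjective : Function.Surjective (Theta R S R' S' G G' h) := by
  intro y
  induction y using TensorProduct.induction_on with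
  | zero => exact ⟨0, map_zero _⟩
  | add a b ha hb =>
    obtain ⟨a', rfl⟩ := ha
    obtain ⟨b', rfl⟩ := hb
    exact ⟨a' + b', map_add _ _ _⟩
  | tmul s' c =>
    obtain ⟨p', rfl⟩ := G'.aeval_val_surjective s'
    obtain ⟨x, rfl⟩ := Algebra.Extension.Cotangent.mk_surjective c
    exact ⟨p' ⊗ₜ ⟨x.1, (mem_ker_iff R S G x.1).mp x.2⟩, rfl⟩

theorem mk_eq_zero_iff' (p : G.toExtension.ker) :
    Algebra.Extension.Cotangent.mk p = 0 ↔
      (p.1 : MvPolynomial ι R) ∈ (RingHom.ker (MvPolynomial.aeval (R := R) G.val)) ^ 2 := by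
  rw [Algebra.Extension.Cotangent.mk_eq_zero_iff]
  have : (RingHom.ker (MvPolynomial.aeval (R := R) G.val)) = G.ker :=
    (Algebra.Generators.ker_eq_ker_aeval_val G).symm
  rw [this]
  rfl

theorem mkI_eq_zero (x : kerI R S G) (hx : x.1 ∈ (kerI R S G) ^ 2) : mkI R S G x = 0 := by
  rw [mkI, mk_eq_zero_iff']
  exact hx

include h in
/-- `L (Θ w) = [ψ w]` -/
theorem L_Theta (w : MvPolynomial ι R' ⊗[MvPolynomial ι R] (kerI R S G)) :
    ∃ hw : psi (P' := MvPolynomial ι R') (kerI R S G) w ∈ G'.toExtension.ker,
      LinearMap.liftBaseChange S' (Algebra.Extension.Cotangent.map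
        (NLCx.sameVarsHom G G' h).toExtensionHom) (Theta R S R' S' G G' h w) =
      Algebra.Extension.Cotangent.mk
        (⟨psi (P' := MvPolynomial ι R') (kerI R S G) w, hw⟩ : G'.toExtension.ker) := by
  induction w using TensorProduct.induction_on with
  | zero =>
    refine ⟨by rw [map_zero]; exact Ideal.zero_mem _, ?_⟩
    rw [map_zero, map_zero]
    symm
    rw [Algebra.Extension.Cotangent.mk_eq_zero_iff]
    change psi (P' := MvPolynomial ι R') (kerI R S G) 0 ∈ _
    rw [map_zero]
    exact Ideal.zero_mem _
  | add a b ha hb =>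
    obtain ⟨ha1, ha2⟩ := ha
    obtain ⟨hb1, hb2⟩ := hb
    refine ⟨by rw [map_add]; exact Ideal.add_mem _ ha1 hb1, ?_⟩
    rw [map_add, map_add, ha2, hb2]
    symm
    convert map_add Algebra.Extension.Cotangent.mk
      (⟨psi (P' := MvPolynomial ι R') (kerI R S G) a, ha1⟩ : G'.toExtension.ker) ⟨_, hb1⟩ using 2
    exact Subtype.ext (map_add (psi (P' := MvPolynomial ι R') (kerI R S G)) a b)
  | tmul p' x =>
    have hx' : (x.1 : MvPolynomial ι R) ∈ G.toExtension.ker := (mem_ker_iff R S G x.1).mpr x.2
    have hmem : MvPolynomial.map (algebraMap R R') x.1 ∈ G'.toExtension.ker :=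
      (mem_ker'_iff R' S' G' _).mpr (by
        rw [ker_eq_map R S R' S' G G' h]; exact Ideal.mem_map_of_mem _ x.2)
    have hmem2 : psi (P' := MvPolynomial ι R') (kerI R S G) (p' ⊗ₜ x) ∈ G'.toExtension.ker := by
      rw [psi_tmul, MvPolynomial.algebraMap_def]
      exact Ideal.mul_mem_left _ _ hmem
    refine ⟨hmem2, ?_⟩
    rw [Theta_tmul, LinearMap.liftBaseChange_tmul, mkI, Algebra.Extension.Cotangent.map_mk]
    let c' : G'.toExtension.Ring := p'
    have e1 : (MvPolynomial.aeval G'.val p') = algebraMap G'.toExtension.Ring S' c' := by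
      change _ = algebraMap G'.Ring S' p'
      rw [Algebra.Generators.algebraMap_apply]
    rw [e1]
    have key : ∀ (Y : G'.toExtension.ker), (algebraMap G'.toExtension.Ring S' c') •
        Algebra.Extension.Cotangent.mk Y = Algebra.Extension.Cotangent.mk (c' • Y) :=
      fun Y => (map_smul Algebra.Extension.Cotangent.mk c' Y).symm
    rw [key]
    congr 1
    ext
    have e3 := toAlgHom_eq R S R' S' G G' h x.1
    have e4 : psi (P' := MvPolynomial ι R') (kerI R S G) (p' ⊗ₜ x) =
        p' * MvPolynomial.map (algebraMap R R') x.1 := by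
      rw [psi_tmul, MvPolynomial.algebraMap_def]
    change c' * (NLCx.sameVarsHom G G' h).toExtensionHom.toAlgHom x.1 =
      psi (P' := MvPolynomial ι R') (kerI R S G) (p' ⊗ₜ x)
    rw [e4, ← e3]
    try rfl

/-- inclusion `P' ⊗ I² → P' ⊗ I` -/
noncomputable def jmap : MvPolynomial ι R' ⊗[MvPolynomial ι R] ↥((kerI R S G) ^ 2) →ₗ[MvPolynomial ι R]
    MvPolynomial ι R' ⊗[MvPolynomial ι R] (kerI R S G) :=
  LinearMap.lTensor (MvPolynomial ι R') (Submodule.inclusion (Ideal.pow_le_self two_ne_zero))

theorem psi_jmap (v : MvPolynomial ι R' ⊗[MvPolynomial ι R] ↥((kerI R S G) ^ 2)) :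
    psi (P' := MvPolynomial ι R') (kerI R S G) (jmap R S R' G v) =
      psi (P' := MvPolynomial ι R') ((kerI R S G) ^ 2) v := by
  induction v using TensorProduct.induction_on with
  | zero => simp
  | add a b ha hb => rw [map_add, map_add, map_add, ha, hb]
  | tmul p' x =>
    rw [jmap, LinearMap.lTensor_tmul, psi_tmul, psi_tmul]
    rfl

include h in
theorem Theta_jmap (v : MvPolynomial ι R' ⊗[MvPolynomial ι R] ↥((kerI R S G) ^ 2)) :
    Theta R S R' S' G G' h (jmap R S R' G v) = 0 := by
  induction v using TensorProduct.induction_on with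
  | zero => simp
  | add a b ha hb => rw [map_add, map_add, ha, hb, add_zero]
  | tmul p' x =>
    rw [jmap, LinearMap.lTensor_tmul, Theta_tmul, mkI_eq_zero, tmul_zero]
    exact x.2

include h in
/-- degree -1: injective under flatness -/
theorem cotangent_inj [Module.Flat R R'] :
    Function.Injective (LinearMap.liftBaseChange S' (Algebra.Extension.Cotangent.map
      (NLCx.sameVarsHom G G' h).toExtensionHom)) := by
  haveI := flat_mvPolynomial R R' (ι := ι)
  rw [injective_iff_map_eq_zero]
  intro y hy
  obtain ⟨w, rfl⟩ := Theta_surjective R S R' S' G G' h y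
  obtain ⟨hw, hw2⟩ := L_Theta R S R' S' G G' h w
  rw [hw2, mk_eq_zero_iff', ker_eq_map R S R' S' G G' h, ← Ideal.map_pow] at hy
  have hy' : psi (P' := MvPolynomial ι R') (kerI R S G) w ∈
      Ideal.map (algebraMap (MvPolynomial ι R) (MvPolynomial ι R')) ((kerI R S G) ^ 2) := hy
  obtain ⟨v, hv⟩ := map_le_range_psi (P' := MvPolynomial ι R') ((kerI R S G) ^ 2) hy'
  rw [← psi_jmap] at hv
  have := psi_injective (P' := MvPolynomial ι R') (kerI R S G) hv
  rw [← this, Theta_jmap]

end alg

theorem isIso_bcMap_of_bijective {R S R' S' : Type u} [CommRing R] [CommRing S] [CommRing R']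
    [CommRing S'] [Algebra R S] [Algebra R' S'] [Algebra R R'] [Algebra S S'] [Algebra R S']
    [IsScalarTower R R' S'] [IsScalarTower R S S']
    {P : Algebra.Extension.{u} R S} {P' : Algebra.Extension.{u} R' S'} (f : P.Hom P')
    (h1 : Function.Bijective (LinearMap.liftBaseChange S' (Algebra.Extension.Cotangent.map f)))
    (h2 : Function.Bijective (LinearMap.liftBaseChange S' (Algebra.Extension.CotangentSpace.map f))) :
    IsIso (NLCx.bcMap (S' := S') f) := by
  haveI i1 : IsIso (ModuleCat.ofHom (LinearMap.liftBaseChange S' (Algebra.Extension.Cotangent.map f))) :=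
    (ConcreteCategory.isIso_iff_bijective _).mpr h1
  haveI i2 : IsIso (ModuleCat.ofHom (LinearMap.liftBaseChange S' (Algebra.Extension.CotangentSpace.map f))) :=
    (ConcreteCategory.isIso_iff_bijective _).mpr h2
  have hcomp : ∀ i : ℤ, IsIso ((NLCx.bcMap (S' := S') f).f i) := by
    intro i
    by_cases h0 : i = -1
    · subst h0
      unfold NLCx.bcMap
      erw [HomologicalComplex.mkHomFromDouble_f₀]
      exact @IsIso.comp_isIso _ _ _ _ _ _ _ (Iso.isIso_hom _)
        (@IsIso.comp_isIso _ _ _ _ _ _ _ i1 (Iso.isIso_inv _))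
    · by_cases h1 : i = 0
      · subst h1
        unfold NLCx.bcMap
        erw [HomologicalComplex.mkHomFromDouble_f₁]
        exact @IsIso.comp_isIso _ _ _ _ _ _ _ (Iso.isIso_hom _)
          (@IsIso.comp_isIso _ _ _ _ _ _ _ i2 (Iso.isIso_inv _))
      · have hz1 : IsZero ((NLCx.bcCx P S').X i) := HomologicalComplex.isZero_double_X _ _ i h0 h1
        have hz2 : IsZero ((NLCx.cx P').X i) := HomologicalComplex.isZero_double_X _ _ i h0 h1
        exact ⟨⟨0, hz1.eq_of_src _ _, hz2.eq_of_src _ _⟩⟩
  exact HomologicalComplex.Hom.isIso_of_components _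


section generic

variable {C : Type*} [Category C] [Preadditive C] [HasZeroObject C]
  {X₀ X₁ Y₀ Y₁ : C} (f : X₀ ⟶ X₁) (f' : Y₀ ⟶ Y₁)

theorem rel01 : (ComplexShape.up ℤ).Rel (-1) 0 := by simp

/-- homotopy between maps of two-term complexes -/
noncomputable def doubleHomotopy
    (φ ψ : HomologicalComplex.double f rel01 ⟶ HomologicalComplex.double f' rel01)
    (a a' : X₀ ⟶ Y₀) (b b' : X₁ ⟶ Y₁) (s : X₁ ⟶ Y₀)
    (hφ0 : φ.f (-1) = (HomologicalComplex.doubleXIso₀ f rel01).hom ≫ a ≫
      (HomologicalComplex.doubleXIso₀ f' rel01).inv)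
    (hψ0 : ψ.f (-1) = (HomologicalComplex.doubleXIso₀ f rel01).hom ≫ a' ≫
      (HomologicalComplex.doubleXIso₀ f' rel01).inv)
    (hφ1 : φ.f 0 = (HomologicalComplex.doubleXIso₁ f rel01 (by decide)).hom ≫ b ≫
      (HomologicalComplex.doubleXIso₁ f' rel01 (by decide)).inv)
    (hψ1 : ψ.f 0 = (HomologicalComplex.doubleXIso₁ f rel01 (by decide)).hom ≫ b' ≫
      (HomologicalComplex.doubleXIso₁ f' rel01 (by decide)).inv)
    (ha : a = f ≫ s + a') (hb : b = s ≫ f' + b') : Homotopy φ ψ where
  hom i j := if h : i = 0 ∧ j = -1 then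
      eqToHom (by rw [h.1]) ≫ (HomologicalComplex.doubleXIso₁ f rel01 (by decide)).hom ≫ s ≫
        (HomologicalComplex.doubleXIso₀ f' rel01).inv ≫ eqToHom (by rw [h.2])
    else 0
  zero i j hij := by
    rw [dif_neg]
    rintro ⟨rfl, rfl⟩
    exact hij (by simp)
  comm i := by
    by_cases h0 : i = -1
    · subst h0
      rw [dNext_eq _ (show (ComplexShape.up ℤ).Rel (-1) 0 by simp),
        prevD_eq _ (show (ComplexShape.up ℤ).Rel (-2) (-1) by simp)]
      rw [dif_pos ⟨rfl, rfl⟩, dif_neg (by omega)]
      rw [hφ0, hψ0, ha, HomologicalComplex.double_d _ _ (by decide)]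
      simp
    · by_cases h1 : i = 0
      · subst h1
        rw [dNext_eq _ (show (ComplexShape.up ℤ).Rel 0 1 by simp),
          prevD_eq _ (show (ComplexShape.up ℤ).Rel (-1) 0 by simp)]
        rw [dif_neg (by omega), dif_pos ⟨rfl, rfl⟩]
        rw [hφ1, hψ1, hb, HomologicalComplex.double_d _ _ (by decide)]
        simp
      · exact (HomologicalComplex.isZero_double_X _ _ i h0 h1).eq_of_src _ _

end generic


section maplemmas

variable {R S : Type u} [CommRing R] [CommRing S] [Algebra R S]

section SameTop
variable {R' : Type u} [CommRing R'] [Algebra R' S] [Algebra R R'] [IsScalarTower R R' S]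

theorem map_f0 {P : Algebra.Extension.{u} R S} {P' : Algebra.Extension.{u} R' S} (f : P.Hom P') :
    (NLCx.map f).f (-1) =
      (HomologicalComplex.doubleXIso₀ (ModuleCat.ofHom P.cotangentComplex)
        (show (ComplexShape.up ℤ).Rel (-1) 0 by simp)).hom ≫
      ModuleCat.ofHom (Algebra.Extension.Cotangent.map f) ≫
      (HomologicalComplex.doubleXIso₀ (ModuleCat.ofHom P'.cotangentComplex)
        (show (ComplexShape.up ℤ).Rel (-1) 0 by simp)).inv := by
  unfold NLCx.map
  erw [HomologicalComplex.mkHomFromDouble_f₀]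
  rfl

theorem map_f1 {P : Algebra.Extension.{u} R S} {P' : Algebra.Extension.{u} R' S} (f : P.Hom P') :
    (NLCx.map f).f 0 =
      (HomologicalComplex.doubleXIso₁ (ModuleCat.ofHom P.cotangentComplex)
        (show (ComplexShape.up ℤ).Rel (-1) 0 by simp) (by decide)).hom ≫
      ModuleCat.ofHom (Algebra.Extension.CotangentSpace.map f) ≫
      (HomologicalComplex.doubleXIso₁ (ModuleCat.ofHom P'.cotangentComplex)
        (show (ComplexShape.up ℤ).Rel (-1) 0 by simp) (by decide)).inv := by
  unfold NLCx.map
  erw [HomologicalComplex.mkHomFromDouble_f₁]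
  rfl

end SameTop

theorem map_id (P : Algebra.Extension.{u} R S) :
    NLCx.map (Algebra.Extension.Hom.id P) = 𝟙 (NLCx.cx P) := by
  apply HomologicalComplex.from_double_hom_ext
  · rw [map_f0, Algebra.Extension.Cotangent.map_id]
    simp
    rfl
  · rw [map_f1, Algebra.Extension.CotangentSpace.map_id]
    simp
    rfl

theorem map_comp {P P' P'' : Algebra.Extension.{u} R S} (f : P.Hom P') (g : P'.Hom P'') :
    NLCx.map (g.comp f) = NLCx.map f ≫ NLCx.map g := by
  apply HomologicalComplex.from_double_hom_ext
  · rw [HomologicalComplex.comp_f, map_f0, map_f0, map_f0, Algebra.Extension.Cotangent.map_comp]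
    erw [Category.assoc, Category.assoc, Iso.inv_hom_id_assoc]
    rfl
  · rw [HomologicalComplex.comp_f, map_f1, map_f1, map_f1, Algebra.Extension.CotangentSpace.map_comp]
    erw [Category.assoc, Category.assoc, Iso.inv_hom_id_assoc]
    rfl

section BaseChange

variable {R' S' : Type u} [CommRing R'] [CommRing S'] [Algebra R' S'] [Algebra R R'] [Algebra S S']
  [Algebra R S'] [IsScalarTower R R' S'] [IsScalarTower R S S']

theorem bcMap_f0 {P : Algebra.Extension.{u} R S} {P' : Algebra.Extension.{u} R' S'} (f : P.Hom P') :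
    (NLCx.bcMap (S' := S') f).f (-1) =
      (HomologicalComplex.doubleXIso₀ (ModuleCat.ofHom (P.cotangentComplex.baseChange S'))
        (show (ComplexShape.up ℤ).Rel (-1) 0 by simp)).hom ≫
      ModuleCat.ofHom (LinearMap.liftBaseChange S' (Algebra.Extension.Cotangent.map f)) ≫
      (HomologicalComplex.doubleXIso₀ (ModuleCat.ofHom P'.cotangentComplex)
        (show (ComplexShape.up ℤ).Rel (-1) 0 by simp)).inv := by
  unfold NLCx.bcMap
  erw [HomologicalComplex.mkHomFromDouble_f₀]
  rfl

theorem bcMap_f1 {P : Algebra.Extension.{u} R S} {P' : Algebra.Extension.{u} R' S'} (f : P.Hom P') :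
    (NLCx.bcMap (S' := S') f).f 0 =
      (HomologicalComplex.doubleXIso₁ (ModuleCat.ofHom (P.cotangentComplex.baseChange S'))
        (show (ComplexShape.up ℤ).Rel (-1) 0 by simp) (by decide)).hom ≫
      ModuleCat.ofHom (LinearMap.liftBaseChange S' (Algebra.Extension.CotangentSpace.map f)) ≫
      (HomologicalComplex.doubleXIso₁ (ModuleCat.ofHom P'.cotangentComplex)
        (show (ComplexShape.up ℤ).Rel (-1) 0 by simp) (by decide)).inv := by
  unfold NLCx.bcMap
  erw [HomologicalComplex.mkHomFromDouble_f₁]
  rfl

theorem bcMap_comp {P : Algebra.Extension.{u} R S} {P' P'' : Algebra.Extension.{u} R' S'}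
    (f : P.Hom P') (g : P'.Hom P'') :
    NLCx.bcMap (S' := S') (g.comp f) = NLCx.bcMap (S' := S') f ≫ NLCx.map g := by
  apply HomologicalComplex.from_double_hom_ext
  · rw [HomologicalComplex.comp_f, bcMap_f0, bcMap_f0, map_f0, Algebra.Extension.Cotangent.map_comp]
    erw [Category.assoc, Category.assoc, Iso.inv_hom_id_assoc]
    congr 1
    refine Eq.trans ?_ (Category.assoc _ _ _)
    congr 1
    ext x
    simp
  · rw [HomologicalComplex.comp_f, bcMap_f1, bcMap_f1, map_f1, Algebra.Extension.CotangentSpace.map_comp]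
    erw [Category.assoc, Category.assoc, Iso.inv_hom_id_assoc]
    congr 1
    refine Eq.trans ?_ (Category.assoc _ _ _)
    congr 1
    ext x
    simp

end BaseChange

end maplemmas


section htpy

variable {R S : Type u} [CommRing R] [CommRing S] [Algebra R S]
variable {R' : Type u} [CommRing R'] [Algebra R' S] [Algebra R R'] [IsScalarTower R R' S]

/-- two morphisms of extensions induce homotopic maps on naive cotangent complexes -/
noncomputable def mapHomotopy {P : Algebra.Extension.{u} R S} {P' : Algebra.Extension.{u} R' S}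
    (f g : P.Hom P') : Homotopy (NLCx.map f) (NLCx.map g) :=
  doubleHomotopy (ModuleCat.ofHom P.cotangentComplex) (ModuleCat.ofHom P'.cotangentComplex)
    (NLCx.map f) (NLCx.map g)
    (ModuleCat.ofHom (Algebra.Extension.Cotangent.map f))
    (ModuleCat.ofHom (Algebra.Extension.Cotangent.map g))
    (ModuleCat.ofHom (Algebra.Extension.CotangentSpace.map f))
    (ModuleCat.ofHom (Algebra.Extension.CotangentSpace.map g))
    (ModuleCat.ofHom (f.sub g))
    (map_f0 f) (map_f0 g) (map_f1 f) (map_f1 g)
    (by
      rw [← ModuleCat.ofHom_comp, ← ModuleCat.ofHom_add]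
      congr 1
      rw [← Algebra.Extension.Cotangent.map_sub_map]
      abel)
    (by
      rw [← ModuleCat.ofHom_comp, ← ModuleCat.ofHom_add]
      congr 1
      have h := Algebra.Extension.CotangentSpace.map_sub_map f g
      have h2 : Algebra.Extension.CotangentSpace.map f =
          (P'.cotangentComplex.restrictScalars S ∘ₗ (f.sub g)) +
            Algebra.Extension.CotangentSpace.map g := by
        rw [← h]; abel
      exact h2)

end htpy


section assemble
variable (R S R' S' : Type u) [CommRing R] [CommRing S] [CommRing R']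
    [CommRing S'] [Algebra R S] [Algebra R' S'] [Algebra R R'] [Algebra S S'] [Algebra R S']
    [IsScalarTower R R' S'] [IsScalarTower R S S'] [Algebra.IsPushout R R' S S'] [Module.Flat R R']
    {ι : Type u} (G : Algebra.Generators R S ι) (G' : Algebra.Generators R' S' ι)
    (h : ∀ i, G'.val i = algebraMap S S' (G.val i))

include h in
theorem partA : IsIso (NLCx.bcMap (S' := S') (NLCx.sameVarsHom G G' h).toExtensionHom) :=
  isIso_bcMap_of_bijective _
    ⟨cotangent_inj R S R' S' G G' h, cotangent_surj R S R' S' G G' h⟩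
    (cotangentSpace_bij R S R' S' G G' h)

/-- two extensions of the same algebra with maps in both directions have homotopy equivalent
naive cotangent complexes -/
noncomputable def extHomotopyEquiv {A B : Type u} [CommRing A] [CommRing B] [Algebra A B]
    {P P' : Algebra.Extension.{u} A B} (f : P.Hom P') (g : P'.Hom P) :
    HomotopyEquiv (NLCx.cx P) (NLCx.cx P') where
  hom := NLCx.map f
  inv := NLCx.map g
  homotopyHomInvId := (Homotopy.ofEq (map_comp f g).symm).trans
    ((mapHomotopy (g.comp f) (Algebra.Extension.Hom.id P)).trans (Homotopy.ofEq (map_id P)))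
  homotopyInvHomId := (Homotopy.ofEq (map_comp g f).symm).trans
    ((mapHomotopy (f.comp g) (Algebra.Extension.Hom.id P')).trans (Homotopy.ofEq (map_id P')))

theorem partB : ∃ e : HomotopyEquiv (NLCx.bcCx (Algebra.Generators.self R S).toExtension S')
          (NLCx.cx (Algebra.Generators.self R' S').toExtension),
        e.hom = NLCx.bcMapSelf R S R' S' := by
  let fE := (NLCx.sameVarsHom (Algebra.Generators.self R S) (G1 R S R' S') (G1_val R S R' S')).toExtensionHom
  let gE := ((G1 R S R' S').defaultHom (Algebra.Generators.self R' S')).toExtensionHom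
  let bE := ((Algebra.Generators.self R' S').defaultHom (G1 R S R' S')).toExtensionHom
  haveI : IsIso (NLCx.bcMap (S' := S') fE) :=
    partA R S R' S' (Algebra.Generators.self R S) (G1 R S R' S') (G1_val R S R' S')
  refine ⟨(HomotopyEquiv.ofIso (asIso (NLCx.bcMap (S' := S') fE))).trans (extHomotopyEquiv gE bE), ?_⟩
  change NLCx.bcMap (S' := S') fE ≫ NLCx.map gE = NLCx.bcMapSelf R S R' S'
  rw [← bcMap_comp]
  unfold NLCx.bcMapSelf
  rw [defaultHom_eq R S R' S']

end assemble


/-- Let R → S be a ring homomorphism, R → R' a flat ring homomorphism, and S' an algebra over R' and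
over S making the square cocartesian, S' = S ⊗_R R'. Let G be a presentation of S over R by a
polynomial algebra and G' the presentation of S' over R' on the same set of variables (the base
change of G). Then the canonical chain map NL(G) ⊗_S S' → NL(G') is an isomorphism of complexes, and
the canonical chain map NL_{S/R} ⊗_S S' → NL_{S'/R'} between the complexes of the presentations on
all elements is a homotopy equivalence. -/
theorem result (R S R' S' : Type u) [CommRing R] [CommRing S] [CommRing R']
    [CommRing S'] [Algebra R S] [Algebra R' S'] [Algebra R R'] [Algebra S S'] [Algebra R S']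
    [IsScalarTower R R' S'] [IsScalarTower R S S'] [Algebra.IsPushout R R' S S'] [Module.Flat R R']
    {ι : Type u} (G : Algebra.Generators R S ι) (G' : Algebra.Generators R' S' ι)
    (h : ∀ i, G'.val i = algebraMap S S' (G.val i)) :
    IsIso (NLCx.bcMap (S' := S') (NLCx.sameVarsHom G G' h).toExtensionHom) ∧
      ∃ e : HomotopyEquiv (NLCx.bcCx (Algebra.Generators.self R S).toExtension S')
          (NLCx.cx (Algebra.Generators.self R' S').toExtension),
        e.hom = NLCx.bcMapSelf R S R' S' :=
  ⟨partA R S R' S' G G' h, partB R S R' S'⟩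

end Groth.Agent.S7224
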