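import Groth.Statements.S3713
import Groth.Agent.Lib.Helper35.JacobianPair
import Groth.Agent.Lib.Helper35.AffineChart

set_option autoImplicit false
universe u
open SGA1

namespace Groth.Agent.S3713

section Helpers
set_option linter.style.haveILetI false
set_option maxHeartbeats 400000
open AlgebraicGeometry CategoryTheory CategoryTheory.Limits Groth.Agent.Lib.Helper35


/-- (⇐): an étale chart to affine space forces smoothness. -/
theorem of_chart {X Y : Scheme.{u}} (f : X ⟶ Y) [LocallyOfFinitePresentation f]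
    (U : Y.Opens) (V : X.Opens) (hVU : V ≤ f ⁻¹ᵁ U) (m : ℕ)
    (v : ULift.{u} (Fin m) → Γ(V, ⊤)) (hét : Etale (AffineSpace.homOfVector (f.resLE U V hVU) v))
    (x : X) (hx : x ∈ V) : x ∈ f.smoothLocus := by
  have h1 : Smooth (f.resLE U V hVU) := by
    have : f.resLE U V hVU = AffineSpace.homOfVector (f.resLE U V hVU) v ≫ (𝔸(ULift.{u} (Fin m); ↑U) ↘ ↑U) :=
      (AffineSpace.homOfVector_over _ _).symm
    rw [this]
    have := AffineChart.smooth_over (n := ULift.{u} (Fin m)) (↑U : Scheme.{u})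
    infer_instance
  have h2 : Smooth (V.ι ≫ f) := by
    have : V.ι ≫ f = f.resLE U V hVU ≫ U.ι := (Scheme.Hom.resLE_comp_ι ..).symm
    rw [this]
    infer_instance
  have h3 := Scheme.Hom.preimage_smoothLocus_eq V.ι f
  rw [(V.ι ≫ f).smoothLocus_eq_top] at h3
  have h4 : (⟨x, hx⟩ : V) ∈ V.ι ⁻¹ᵁ f.smoothLocus := by rw [h3]; trivial
  exact h4


theorem section_apply {X Y : Scheme.{u}} (f : X ⟶ Y) (i : Y ⟶ X) (hi : i ≫ f = 𝟙 Y) (z : Y) :
    f (i z) = z := by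
  rw [← Scheme.Hom.comp_apply, hi]
  rfl

theorem appLE_of_eq_id {Y : Scheme.{u}} (g : Y ⟶ Y) (hg : g = 𝟙 Y) (U : Y.Opens) (e : U ≤ g ⁻¹ᵁ U) :
    g.appLE U U e = 𝟙 _ := by
  subst hg
  rw [Scheme.Hom.appLE]
  erw [Category.id_comp]
  exact Y.presheaf.map_id _

set_option backward.defeqAttrib.useBackward true in
set_option backward.isDefEq.respectTransparency false in
theorem mem_basicOpen_of_not_mem_primeIdealOf {Y : Scheme.{u}} {U : Y.Opens} (hU : IsAffineOpen U)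
    (y : Y) (hy : y ∈ U) (a : Γ(Y, U)) (h : a ∉ (hU.primeIdealOf ⟨y, hy⟩).asIdeal) :
    y ∈ Y.basicOpen a := by
  rwa [← PrimeSpectrum.mem_basicOpen, IsAffineOpen.primeIdealOf, ← hU.fromSpec_preimage_basicOpen,
    Scheme.Hom.mem_preimage, ← Scheme.Hom.comp_apply, IsAffineOpen.isoSpec_hom,
    IsAffineOpen.toSpecΓ_fromSpec] at h

/-- Step 2: the chart on an affine pair. -/
theorem chart_of_affine_pair {X Y : Scheme.{u}} (f : X ⟶ Y) [LocallyOfFinitePresentation f]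
    (i : Y ⟶ X) (hi : i ≫ f = 𝟙 Y) (y : Y)
    (U₂ : Y.Opens) (V₂ : X.Opens) (hU₂ : IsAffineOpen U₂) (hV₂ : IsAffineOpen V₂) (hy : y ∈ U₂)
    (hUV₂ : U₂ ≤ i ⁻¹ᵁ V₂) (hVU₂ : V₂ ≤ f ⁻¹ᵁ U₂) (hsm : V₂ ≤ f.smoothLocus) :
    ∃ (U : Y.Opens) (V : X.Opens) (_ : y ∈ U) (hUV : U ≤ i ⁻¹ᵁ V) (hVU : V ≤ f ⁻¹ᵁ U) (m : ℕ)
        (v : ULift.{u} (Fin m) → Γ(V, ⊤)),
        Etale (AffineSpace.homOfVector (f.resLE U V hVU) v) ∧
          ∀ j, (i.resLE V U hUV).appTop (v j) = 0 := by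
  have hsmooth := AffineChart.smooth_appLE_of_le_smoothLocus f hU₂ hV₂ hVU₂ hsm
  letI alg : Algebra Γ(Y, U₂) Γ(X, V₂) := (f.appLE U₂ V₂ hVU₂).hom.toAlgebra
  haveI : Algebra.Smooth Γ(Y, U₂) Γ(X, V₂) := RingHom.smooth_algebraMap.mp hsmooth
  have hs0 : ∀ a, (i.appLE V₂ U₂ hUV₂).hom ((f.appLE U₂ V₂ hVU₂).hom a) = a := by
    intro a
    rw [← CommRingCat.comp_apply, Scheme.Hom.appLE_comp_appLE, appLE_of_eq_id _ hi]
    rfl
  let s : Γ(X, V₂) →ₐ[Γ(Y, U₂)] Γ(Y, U₂) :=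
    { (i.appLE V₂ U₂ hUV₂).hom with
      commutes' := hs0 }
  have hs : ∀ b, s b = (i.appLE V₂ U₂ hUV₂).hom b := fun b => rfl
  obtain ⟨N, x, f₀, hx, hf₀, hét⟩ := JacobianPair.exists_chart_of_section Γ(Y, U₂) Γ(X, V₂) s
    (hU₂.primeIdealOf ⟨y, hy⟩).asIdeal
  set a₂ : Γ(Y, U₂) := s f₀ with ha₂
  set f' : Γ(X, V₂) := f₀ * (f.appLE U₂ V₂ hVU₂).hom a₂ with hf'
  have hyU : y ∈ Y.basicOpen a₂ := mem_basicOpen_of_not_mem_primeIdealOf hU₂ y hy a₂ hf₀
  have hVU : X.basicOpen f' ≤ f ⁻¹ᵁ (Y.basicOpen a₂) := by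
    rw [hf', Scheme.basicOpen_mul]
    refine inf_le_right.trans ?_
    have h := Scheme.basicOpen_appLE f V₂ U₂ hVU₂ a₂
    exact h.le.trans inf_le_right
  have hUV : Y.basicOpen a₂ ≤ i ⁻¹ᵁ (X.basicOpen f') := by
    intro z hz
    have hz2 : z ∈ U₂ := Y.basicOpen_le a₂ hz
    rw [hf', Scheme.basicOpen_mul]
    refine ⟨?_, ?_⟩
    · have h1 : z ∈ Y.basicOpen ((i.appLE V₂ U₂ hUV₂).hom f₀) := hz
      have h := Scheme.basicOpen_appLE i U₂ V₂ hUV₂ f₀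
      exact (h.le h1).2
    · have h := Scheme.basicOpen_appLE f V₂ U₂ hVU₂ a₂
      refine h.ge ⟨hUV₂ hz2, ?_⟩
      show f (i z) ∈ Y.basicOpen a₂
      rw [section_apply f i hi]
      exact hz
  have hV : IsAffineOpen (X.basicOpen f') := hV₂.basicOpen f'
  have hVU₂' : X.basicOpen f' ≤ f ⁻¹ᵁ U₂ := (X.basicOpen_le f').trans hVU₂
  haveI := hV₂.isLocalization_basicOpen f'
  have hét' := hét f' ⟨_, rfl⟩ Γ(X, X.basicOpen f')
  have hcomp : (algebraMap Γ(X, V₂) Γ(X, X.basicOpen f')).comp (algebraMap Γ(Y, U₂) Γ(X, V₂)) =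
      (f.appLE U₂ (X.basicOpen f') hVU₂').hom := by
    rw [RingHom.algebraMap_toAlgebra, RingHom.algebraMap_toAlgebra, ← CommRingCat.hom_comp,
      Scheme.Hom.appLE_map]
  rw [hcomp] at hét'
  have h1 := AffineChart.etale_homOfVector f U₂ hU₂ (X.basicOpen f') hV hVU₂'
    (fun j : ULift.{u} (Fin N) => algebraMap Γ(X, V₂) Γ(X, X.basicOpen f') (x j.down)) hét'
  refine ⟨Y.basicOpen a₂, X.basicOpen f', hyU, hUV, hVU, N,
    fun j => (X.basicOpen f').topIso.inv (algebraMap Γ(X, V₂) Γ(X, X.basicOpen f') (x j.down)),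
    ?_, ?_⟩
  · set v : ULift.{u} (Fin N) → Γ((X.basicOpen f' : Scheme.{u}), ⊤) :=
      fun j => (X.basicOpen f').topIso.inv
        (algebraMap Γ(X, V₂) Γ(X, X.basicOpen f') (x j.down)) with hv
    have h2 : AffineSpace.homOfVector ((X.basicOpen f').ι ≫ f) v =
        AffineSpace.homOfVector (f.resLE (Y.basicOpen a₂) (X.basicOpen f') hVU) v ≫
          AffineSpace.map (ULift.{u} (Fin N)) (Y.basicOpen a₂).ι := by
      apply AffineSpace.hom_ext
      · simp [Scheme.Hom.resLE_comp_ι]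
      · intro j
        rw [Scheme.Hom.comp_appTop, CommRingCat.comp_apply, AffineSpace.homOfVector_appTop_coord,
          AffineSpace.map_appTop_coord, AffineSpace.homOfVector_appTop_coord]
    haveI : IsOpenImmersion (AffineSpace.map (ULift.{u} (Fin N)) (Y.basicOpen a₂).ι) :=
      MorphismProperty.of_isPullback (P := @IsOpenImmersion)
        (AffineSpace.isPullback_map (n := ULift.{u} (Fin N)) (Y.basicOpen a₂).ι).flip inferInstance
    rw [h2] at h1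
    exact Etale.of_comp _ (AffineSpace.map (ULift.{u} (Fin N)) (Y.basicOpen a₂).ι)
  · intro j
    have h3 := Scheme.Hom.resLE_app_top (f := i) (U := X.basicOpen f') (V := Y.basicOpen a₂) hUV
    rw [Scheme.Hom.appTop, h3]
    show ((Y.basicOpen a₂).topIso.inv.hom ((i.appLE (X.basicOpen f') (Y.basicOpen a₂) hUV).hom
      ((X.basicOpen f').topIso.hom.hom ((X.basicOpen f').topIso.inv.hom
        (algebraMap Γ(X, V₂) Γ(X, X.basicOpen f') (x j.down)))))) = 0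
    have h4 : (X.basicOpen f').topIso.hom.hom ((X.basicOpen f').topIso.inv.hom
        (algebraMap Γ(X, V₂) Γ(X, X.basicOpen f') (x j.down))) =
        algebraMap Γ(X, V₂) Γ(X, X.basicOpen f') (x j.down) := by
      rw [← CommRingCat.comp_apply, Iso.inv_hom_id]
      rfl
    rw [h4]
    have h5 : (i.appLE (X.basicOpen f') (Y.basicOpen a₂) hUV).hom
        (algebraMap Γ(X, V₂) Γ(X, X.basicOpen f') (x j.down)) =
        (Y.presheaf.map (homOfLE (Y.basicOpen_le a₂)).op).hom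
          ((i.appLE V₂ U₂ hUV₂).hom (x j.down)) := by
      rw [RingHom.algebraMap_toAlgebra]
      rw [← RingHom.comp_apply, ← RingHom.comp_apply, ← CommRingCat.hom_comp,
        ← CommRingCat.hom_comp, Scheme.Hom.map_appLE, Scheme.Hom.appLE_map]
    rw [h5, ← hs, hx, map_zero, map_zero]

/-- Step 1: affine pair around a section. -/
theorem exists_affine_pair {X Y : Scheme.{u}} (f : X ⟶ Y) (i : Y ⟶ X) (hi : i ≫ f = 𝟙 Y) (y : Y)
    (W : X.Opens) (hW : i y ∈ W) :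
    ∃ (U : Y.Opens) (V : X.Opens), IsAffineOpen U ∧ IsAffineOpen V ∧ y ∈ U ∧ U ≤ i ⁻¹ᵁ V ∧
      V ≤ f ⁻¹ᵁ U ∧ V ≤ W := by
  obtain ⟨_, ⟨U₁, hU₁, rfl⟩, hyU₁, -⟩ :=
    Y.isBasis_affineOpens.exists_subset_of_mem_open (Set.mem_univ y) isOpen_univ
  obtain ⟨U₁, rfl⟩ : ∃ U' : Y.Opens, U' = U₁ := ⟨U₁, rfl⟩
  have hmem : i y ∈ (f ⁻¹ᵁ U₁ ⊓ W : X.Opens) := by
    refine ⟨?_, hW⟩
    show f (i y) ∈ U₁
    rw [section_apply f i hi]
    exact hyU₁
  obtain ⟨_, ⟨V₁, hV₁, rfl⟩, hyV₁, hV₁le⟩ :=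
    X.isBasis_affineOpens.exists_subset_of_mem_open hmem (f ⁻¹ᵁ U₁ ⊓ W : X.Opens).isOpen
  obtain ⟨V₁, rfl⟩ : ∃ V' : X.Opens, V' = V₁ := ⟨V₁, rfl⟩
  have hV₁le' : V₁ ≤ f ⁻¹ᵁ U₁ ⊓ W := hV₁le
  have e₁ : V₁ ≤ f ⁻¹ᵁ U₁ := hV₁le'.trans inf_le_left
  obtain ⟨a, ha1, ha2⟩ := IsAffineOpen.exists_basicOpen_le (U := U₁) hU₁ (V := i ⁻¹ᵁ V₁)
    ⟨y, hyV₁⟩ hyU₁
  refine ⟨Y.basicOpen a, X.basicOpen (f.appLE U₁ V₁ e₁ a), hU₁.basicOpen a, hV₁.basicOpen _, ha2,
    ?_, ?_, ?_⟩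
  · rw [Scheme.basicOpen_appLE]
    intro z hz
    refine ⟨ha1 hz, ?_⟩
    show f (i z) ∈ Y.basicOpen a
    rw [section_apply f i hi]
    exact hz
  · rw [Scheme.basicOpen_appLE]
    exact inf_le_right
  · rw [Scheme.basicOpen_appLE]
    exact inf_le_left.trans (hV₁le'.trans inf_le_right)


theorem aux {X Y : Scheme.{u}} [IsLocallyNoetherian Y] (f : X ⟶ Y)
    [LocallyOfFiniteType f] [LocallyOfFinitePresentation f] (i : Y ⟶ X) (hi : i ≫ f = 𝟙 Y) (y : Y) :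
    i.base y ∈ f.smoothLocus ↔
      ∃ (U : Y.Opens) (V : X.Opens) (_ : y ∈ U) (hUV : U ≤ i ⁻¹ᵁ V) (hVU : V ≤ f ⁻¹ᵁ U) (m : ℕ)
        (v : ULift.{u} (Fin m) → Γ(V, ⊤)),
        Etale (AffineSpace.homOfVector (f.resLE U V hVU) v) ∧ ∀ j, (i.resLE V U hUV).appTop (v j) = 0 := by
  constructor
  · intro h
    obtain ⟨U₂, V₂, hU₂, hV₂, hy, hUV₂, hVU₂, hsm⟩ := exists_affine_pair f i hi y f.smoothLocus h
    exact chart_of_affine_pair f i hi y U₂ V₂ hU₂ hV₂ hy hUV₂ hVU₂ hsm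
  · rintro ⟨U, V, hy, hUV, hVU, m, v, hét, -⟩
    exact of_chart f U V hVU m v hét _ (hUV hy)

end Helpers

open AlgebraicGeometry CategoryTheory CategoryTheory.Limits in
/-- Let Y be locally Noetherian, f : X -> Y locally of finite type, i a section of f and y a point of Y.
Then X is smooth over Y at i(y) (i(y) lies in the smooth locus of f) if and only if there are an
open neighbourhood U of y, an open V of X with i(U) ⊆ V ⊆ f^{-1}(U), and finitely many sections of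
O_X over V, all vanishing along i(U), which define an etale U-morphism from V to an affine space
over U (so that this etale chart carries the section to the zero section). -/
theorem result {X Y : Scheme.{u}} [IsLocallyNoetherian Y] (f : X ⟶ Y)
    [LocallyOfFiniteType f] [LocallyOfFinitePresentation f] (i : Y ⟶ X) (hi : i ≫ f = 𝟙 Y) (y : Y) :
    i.base y ∈ f.smoothLocus ↔
      ∃ (U : Y.Opens) (V : X.Opens) (_ : y ∈ U) (hUV : U ≤ i ⁻¹ᵁ V) (hVU : V ≤ f ⁻¹ᵁ U) (m : ℕ)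
        (v : ULift.{u} (Fin m) → Γ(V, ⊤)),
        Etale (AffineSpace.homOfVector (f.resLE U V hVU) v) ∧ ∀ j, (i.resLE V U hUV).appTop (v j) = 0 := by
  exact aux f i hi y

end Groth.Agent.S3713
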