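import Groth.Statements.S1676
import Groth.Agent.Lib.Helper35.SmoothPairReg
import Groth.Agent.Lib.Helper35.AffineChart
import Groth.Agent.S3713

set_option autoImplicit false
universe u
open CategoryTheory CategoryTheory.Limits AlgebraicGeometry TopologicalSpace
open SDiv

namespace Groth.Agent.S1676

section Helpers

set_option maxHeartbeats 800000
set_option linter.style.haveILetI false
open Groth.Agent.Lib.Helper35 RingTheory.Sequence

theorem aux {X S : Scheme.{u}} (f : X ⟶ S) [Smooth f] (σ : S ⟶ X)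
    (hσ : σ ≫ f = 𝟙 S) [IsClosedImmersion σ] : Mor2.IsRegularClosedImmersion σ := by
  refine ⟨inferInstance, fun z => ?_⟩
  obtain ⟨U₂, V₂, hU₂, hV₂, hz, hUV₂, hVU₂, -⟩ :=
    Groth.Agent.S3713.exists_affine_pair f σ hσ z ⊤ trivial
  have hsmooth := AffineChart.smooth_appLE_of_le_smoothLocus f hU₂ hV₂ hVU₂
    (by rw [Scheme.Hom.smoothLocus_eq_top]; exact le_top)
  letI alg : Algebra Γ(S, U₂) Γ(X, V₂) := (f.appLE U₂ V₂ hVU₂).hom.toAlgebra
  haveI : Algebra.Smooth Γ(S, U₂) Γ(X, V₂) := RingHom.smooth_algebraMap.mp hsmooth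
  letI alg2 : Algebra Γ(X, V₂) Γ(S, U₂) := (σ.appLE V₂ U₂ hUV₂).hom.toAlgebra
  have hs0 : ∀ a, (σ.appLE V₂ U₂ hUV₂).hom ((f.appLE U₂ V₂ hVU₂).hom a) = a := by
    intro a
    rw [← CommRingCat.comp_apply, Scheme.Hom.appLE_comp_appLE,
      Groth.Agent.S3713.appLE_of_eq_id _ hσ]
    rfl
  haveI : IsScalarTower Γ(S, U₂) Γ(X, V₂) Γ(S, U₂) := IsScalarTower.of_algebraMap_eq fun a =>
    (hs0 a).symm
  have hsurj : Function.Surjective (algebraMap Γ(X, V₂) Γ(S, U₂)) := fun a =>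
    ⟨(f.appLE U₂ V₂ hVU₂).hom a, hs0 a⟩
  obtain ⟨gs, f₀, hf₀, H⟩ := SmoothPairReg.exists_regular_gens Γ(S, U₂) Γ(X, V₂) Γ(S, U₂) hsurj
    (hU₂.primeIdealOf ⟨z, hz⟩).asIdeal
  have hmem : σ z ∈ X.basicOpen f₀ := by
    have h1 : z ∈ S.basicOpen ((σ.appLE V₂ U₂ hUV₂).hom f₀) :=
      Groth.Agent.S3713.mem_basicOpen_of_not_mem_primeIdealOf hU₂ z hz _ hf₀
    have h := Scheme.basicOpen_appLE σ U₂ V₂ hUV₂ f₀
    exact (h.le h1).2
  have hV : IsAffineOpen (X.basicOpen f₀) := hV₂.basicOpen f₀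
  haveI := hV₂.isLocalization_basicOpen f₀
  obtain ⟨hreg, hker⟩ := H f₀ dvd_rfl Γ(X, X.basicOpen f₀)
  -- the kernel ideal on the chart
  have hEq : σ ⁻¹ᵁ V₂ = U₂ := by
    refine le_antisymm ?_ hUV₂
    intro w hw
    have h1 : f (σ w) ∈ U₂ := hVU₂ hw
    rwa [Groth.Agent.S3713.section_apply f σ hσ] at h1
  have hiso : IsIso (S.presheaf.map (homOfLE hUV₂).op) := by
    have : homOfLE hUV₂ = eqToHom hEq.symm := Subsingleton.elim _ _
    rw [this]
    infer_instance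
  have hk1 : σ.ker.ideal ⟨V₂, hV₂⟩ = RingHom.ker (algebraMap Γ(X, V₂) Γ(S, U₂)) := by
    rw [Scheme.Hom.ker_apply]
    have h2 : algebraMap Γ(X, V₂) Γ(S, U₂) =
        (S.presheaf.map (homOfLE hUV₂).op).hom.comp (σ.app V₂).hom := by
      rw [RingHom.algebraMap_toAlgebra, Scheme.Hom.appLE, CommRingCat.hom_comp]
    rw [h2]
    exact (RingHom.ker_comp_of_injective _
      (ConcreteCategory.bijective_of_isIso (S.presheaf.map (homOfLE hUV₂).op)).1).symm
  have hk2 : σ.ker.ideal ⟨X.basicOpen f₀, hV⟩ =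
      Ideal.ofList (gs.map (algebraMap Γ(X, V₂) Γ(X, X.basicOpen f₀))) := by
    rw [← hker, ← hk1]
    exact (σ.ker.map_ideal_basicOpen ⟨V₂, hV₂⟩ f₀).symm
  refine ⟨X.basicOpen f₀, hV, hmem, gs.map (algebraMap Γ(X, V₂) Γ(X, X.basicOpen f₀)),
    ⟨hreg, ?_⟩, hk2⟩
  intro htop
  rw [smul_eq_mul, Ideal.mul_top, ← hk2] at htop
  have h1 := (Scheme.IdealSheafData.mem_support_iff_of_mem (I := σ.ker)
    (U := ⟨X.basicOpen f₀, hV⟩) hmem).1 (Scheme.Hom.range_subset_ker_support σ ⟨z, rfl⟩)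
  rw [← htop, Scheme.mem_zeroLocus_iff] at h1
  have h2 := h1 1 trivial
  rw [Scheme.basicOpen_of_isUnit _ isUnit_one] at h2
  exact h2 hmem

end Helpers

/-- For a section that is a closed immersion, e.g. when f is separated: let f : X ⟶ S be a smooth
morphism and σ : S ⟶ X a section of f which is a closed immersion. Then σ is a regular closed
immersion. -/
theorem result {X S : Scheme.{u}} (f : X ⟶ S) [Smooth f] (σ : S ⟶ X)
    (hσ : σ ≫ f = 𝟙 S) [IsClosedImmersion σ] : Mor2.IsRegularClosedImmersion σ := by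
  exact aux f σ hσ

end Groth.Agent.S1676
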