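import Groth.Statements.S10530
import Groth.Agent.Lib.Helper78.AlgSpLocP3
import Groth.Agent.Lib.Helper78.AlgSpLocPFlat
import Groth.Agent.Lib.Helper51.AlgSpCharts

set_option autoImplicit false
universe u
open CategoryTheory CategoryTheory.Limits AlgebraicGeometry
open AlgSp

namespace Groth.Agent.S10530

open Groth.Agent.Lib.Helper52 Groth.Agent.Lib.Helper51 Groth.Agent.Lib.Helper78.AlgSpLocP
  Groth.Agent.Lib.Helper78.AlgSpLocPFlat Groth.Agent.Lib.Helper78.AlgSpFibre
  Groth.Agent.Lib.Helper78.AlgSpBasic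

/-- descent of `LocP @Flat` along an fpqc covering of the target -/
theorem locP_flat_of_fpqc_cover_base {S : Scheme.{u}} {X Y : Sp S} {ι : Type u} (Yi : ι → Sp S)
    (g : ∀ i, Yi i ⟶ Y) (hX : IsAlgSpace X) (hY : IsAlgSpace Y) (hYi : ∀ i, IsAlgSpace (Yi i))
    (hcov : IsFpqcCover Yi g) (f : X ⟶ Y)
    (Xi : ι → Sp S) (p : ∀ i, Xi i ⟶ Yi i) (q : ∀ i, Xi i ⟶ X)
    (hXi : ∀ i, IsAlgSpace (Xi i)) (sq : ∀ i, IsPullback (q i) (p i) f (g i))
    (H : ∀ i, LocP @Flat (p i)) : LocP @Flat f := by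
  obtain ⟨U₀, a₀, ha₀, ha₀s⟩ := hX.atlas
  obtain ⟨V, b, hb, hbs⟩ := hY.atlas
  obtain ⟨U, j, h, sq₀, ha, has⟩ := exists_chart_diagram f a₀ ha₀ b hb
  have has := has ha₀s hbs
  obtain ⟨u₀, hu₀⟩ : ∃ u₀ : (yon S).obj U₀ ⟶ Y, u₀ = a₀ ≫ f := ⟨_, rfl⟩
  rw [← hu₀] at sq₀
  have comm : ((yon S).map j ≫ a₀) ≫ f = (yon S).map h ≫ b := by
    rw [Category.assoc, ← hu₀]; exact sq₀.w.symm
  refine locP_of_chart etLocalST_flat f _ b h ha has hb comm ?_
  rw [Flat.iff_flat_stalkMap]
  intro x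
  -- an affine neighbourhood of `h x`
  obtain ⟨V₀, hV₀, hxV₀, -⟩ := exists_isAffineOpen_mem_and_subset
    (TopologicalSpace.Opens.mem_top (h.left x))
  set ι₀ := opensOverι V V₀ with hι₀
  obtain ⟨m, W, c, hW, hc, hsurj, hl⟩ := hcov.2 (opensOver V V₀) hV₀ ((yon S).map ι₀ ≫ b)
  obtain ⟨jj, w, hw⟩ := hsurj ⟨h.left x, hxV₀⟩
  obtain ⟨i, l, hl⟩ := hl jj
  obtain ⟨cι, hcι⟩ : ∃ cι : W jj ⟶ V, cι = c jj ≫ ι₀ := ⟨_, rfl⟩
  have hcιflat : Flat cι.left := by
    rw [hcι]
    have : Flat (c jj).left := hc jj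
    have : Flat ι₀.left := inferInstanceAs (Flat V₀.ι)
    exact inferInstanceAs (Flat ((c jj).left ≫ ι₀.left))
  have hcιw : cι.left w = h.left x := by
    rw [hcι]
    change ((c jj).left ≫ ι₀.left) w = h.left x
    rw [Scheme.Hom.comp_apply, hw]
    rfl
  obtain ⟨t, ht⟩ : ∃ t : (yon S).obj (W jj) ⟶ Y, t = (yon S).map cι ≫ b := ⟨_, rfl⟩
  have hlt : l ≫ g i = t := by
    rw [ht, hcι, Functor.map_comp, Category.assoc]; exact hl
  -- `Z = Xi ×_{Yi} W`
  have sqZ : IsPullback (pullback.fst (p i) l) (pullback.snd (p i) l) (p i) l :=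
    IsPullback.of_hasPullback _ _
  have hZflat : LocP @Flat (pullback.snd (p i) l) :=
    locP_of_isPullback etLocalST_flat sqZ (repAll_of_isAlgSpace (hYi i)) (hXi i).atlas
      (hYi i).atlas (H i)
  have sqZ' : IsPullback (pullback.fst (p i) l ≫ q i) (pullback.snd (p i) l) f t := by
    rw [← hlt]; exact sqZ.paste_horiz (sq i)
  -- `U_j = U₀ ×_Y W`
  have htrep : Representable t := repAll_of_isAlgSpace hY t
  have sqj := htrep.isPullback' u₀
  set r : htrep.pullback u₀ ⟶ W jj := htrep.fst' u₀ with hr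
  set s : htrep.pullback u₀ ⟶ U₀ := htrep.snd u₀ with hs
  -- `d : U_j ⟶ Z`
  have wd : ((yon S).map s ≫ a₀) ≫ f = (yon S).map r ≫ t := by
    rw [Category.assoc, ← hu₀]; exact sqj.w.symm
  set d := sqZ'.lift _ _ wd with hd
  have hd₁ : d ≫ (pullback.fst (p i) l ≫ q i) = (yon S).map s ≫ a₀ := sqZ'.lift_fst _ _ _
  have hd₂ : d ≫ pullback.snd (p i) l = (yon S).map r := sqZ'.lift_snd _ _ _
  have sqd : IsPullback d ((yon S).map s) (pullback.fst (p i) l ≫ q i) a₀ := by
    refine IsPullback.of_right ?_ hd₁ (?_ : IsPullback (pullback.snd (p i) l)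
      (pullback.fst (p i) l ≫ q i) t f)
    · rw [hd₂, ← hu₀]; exact sqj
    · exact sqZ'.flip
  have hde : RepWith @Etale d := MorphismProperty.of_isPullback sqd.flip ha₀
  have hrflat : Flat r.left := by
    refine hZflat d (𝟙 _) r hde (repWith_id _ _) ?_
    rw [hd₂, Category.comp_id]
  -- `e : U_j ⟶ U`
  have we : (yon S).map (r ≫ cι) ≫ b = (yon S).map s ≫ u₀ := by
    rw [Functor.map_comp, Category.assoc, ← ht]; exact sqj.w
  obtain ⟨e, he⟩ := (yon S).map_surjective (sq₀.lift _ _ we)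
  have e₁ : e ≫ h = r ≫ cι := (yon S).map_injective (by
    rw [Functor.map_comp, he]; exact sq₀.lift_fst _ _ _)
  have e₂ : e ≫ j = s := (yon S).map_injective (by
    rw [Functor.map_comp, he]; exact sq₀.lift_snd _ _ _)
  have sqe : IsPullback ((yon S).map e) ((yon S).map r) ((yon S).map h) ((yon S).map cι) := by
    refine IsPullback.of_right ?_ (by rw [← Functor.map_comp, ← Functor.map_comp, e₁]) sq₀.flip
    rw [← Functor.map_comp, e₂, ← ht]
    exact sqj.flip
  have heflat : Flat e.left :=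
    ((repWith_yon_map_iff @Flat cι).2 hcιflat).property _ _ _ sqe.flip
  -- the point
  have hxe : x ∈ Set.range e.left := by
    rw [← ofPt_mem_range_map_iff sqe.flip x]
    refine ⟨Points.ofScheme (W jj) w, ?_⟩
    rw [map_yon_map_ofScheme, hcιw, Points.ofPt_eq_map_ofScheme, map_yon_map_ofScheme]
  obtain ⟨y, rfl⟩ := hxe
  have hcomp : Flat (e.left ≫ h.left) := by
    have : e.left ≫ h.left = r.left ≫ cι.left := congrArg CommaMorphism.left e₁
    rw [this]
    exact inferInstanceAs (Flat (r.left ≫ cι.left))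
  exact flat_stalkMap_of_comp e.left h.left y (Flat.stalkMap (e.left ≫ h.left) y)

/-- The property of morphisms of algebraic spaces over S given by f is flat (on etale charts) is fpqc
local on the base: for an fpqc covering of an algebraic space Y by algebraic spaces Y_i, a morphism
f : X ⟶ Y of algebraic spaces and cartesian squares X_i = Y_i ×_Y X, f has the property if and only
if every X_i ⟶ Y_i has it. -/
theorem result (S : Scheme.{u}) :
    AlgSp.IsLocalOnBase (AlgSp.IsFpqcCover (S := S)) (AlgSp.LocP @Flat) := by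
  intro ι Y Yi g hY hYi hcov X f hX Xi p q hXi sq
  constructor
  · intro hf i
    exact locP_of_isPullback etLocalST_flat (sq i) (repAll_of_isAlgSpace hY) hX.atlas hY.atlas hf
  · intro H
    exact locP_flat_of_fpqc_cover_base Yi g hX hY hYi hcov f Xi p q hXi sq H

end Groth.Agent.S10530
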