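import Groth.Statements.S10548
import Groth.Agent.Lib.Helper78.AlgSpLocP2
import Groth.Agent.Lib.Helper78.AlgSpLocPFlat
import Groth.Agent.Lib.Helper51.AlgSpCharts

set_option autoImplicit false
universe u
open CategoryTheory CategoryTheory.Limits AlgebraicGeometry
open AlgSp

namespace Groth.Agent.S10548

open Groth.Agent.Lib.Helper52 Groth.Agent.Lib.Helper51 Groth.Agent.Lib.Helper78.AlgSpLocP
  Groth.Agent.Lib.Helper78.AlgSpLocPFlat

/-- descent of `LocP @Flat` along an fpqc covering of the source -/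
theorem locP_flat_of_fpqc_cover {S : Scheme.{u}} {X Y : Sp S} {ι : Type u} (Xi : ι → Sp S)
    (g : ∀ i, Xi i ⟶ X) (hXi : ∀ i, IsAlgSpace (Xi i)) (hcov : IsFpqcCover Xi g) (f : X ⟶ Y)
    (H : ∀ i, LocP @Flat (g i ≫ f)) : LocP @Flat f := by
  intro U V a b h ha hb comm
  rw [Flat.iff_flat_stalkMap]
  intro x
  obtain ⟨U₀, hU₀, hxU₀, -⟩ := exists_isAffineOpen_mem_and_subset
    (TopologicalSpace.Opens.mem_top x)
  set ι₀ := opensOverι U U₀ with hι₀
  obtain ⟨m, W, c, hW, hc, hsurj, hl⟩ := hcov.2 (opensOver U U₀) hU₀ ((yon S).map ι₀ ≫ a)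
  obtain ⟨j, w, hw⟩ := hsurj ⟨x, hxU₀⟩
  obtain ⟨i, l, hl⟩ := hl j
  obtain ⟨T, aT, haT, haTs⟩ := (hXi i).atlas
  -- `W' = T ×_{Xi} W_j`
  have sqW := haT.rep.isPullback' l
  set p₁ : haT.rep.pullback l ⟶ T := haT.rep.fst' l with hp₁
  set p₂ : haT.rep.pullback l ⟶ W j := haT.rep.snd l with hp₂
  have hp₂s : Surjective p₂.left := haTs.property _ _ _ sqW
  obtain ⟨w', hw'⟩ := hp₂s.surj w
  -- `T' = U ×_X T`
  obtain ⟨v, hv⟩ : ∃ v : (yon S).obj T ⟶ X, v = aT ≫ g i := ⟨_, rfl⟩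
  have sqT := ha.rep.isPullback' v
  set τ₁ : ha.rep.pullback v ⟶ U := ha.rep.fst' v with hτ₁
  set τ₂ : ha.rep.pullback v ⟶ T := ha.rep.snd v with hτ₂
  have hτ₂e : Etale τ₂.left := ha.property _ _ _ sqT
  have hτ₂aT : RepWith @Etale ((yon S).map τ₂ ≫ aT) :=
    (RepWith (S := S) @Etale).comp_mem _ _ ((repWith_yon_map_iff _ _).2 hτ₂e) haT
  -- `mm : W' ⟶ T'`
  have wm : (yon S).map (p₂ ≫ c j ≫ ι₀) ≫ a = (yon S).map p₁ ≫ v := by
    calc (yon S).map (p₂ ≫ c j ≫ ι₀) ≫ a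
        = (yon S).map p₂ ≫ ((yon S).map (c j) ≫ (yon S).map ι₀ ≫ a) := by
          simp only [Functor.map_comp, Category.assoc]
      _ = (yon S).map p₂ ≫ l ≫ g i := by rw [hl]
      _ = ((yon S).map p₁ ≫ aT) ≫ g i := by rw [← Category.assoc, ← sqW.w]
      _ = (yon S).map p₁ ≫ v := by rw [hv, Category.assoc]
  obtain ⟨mm, hmm⟩ := (yon S).map_surjective (sqT.lift _ _ wm)
  have e₁ : mm ≫ τ₁ = p₂ ≫ c j ≫ ι₀ := (yon S).map_injective (by
    rw [Functor.map_comp, hmm]; exact sqT.lift_fst _ _ _)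
  -- flatness of `τ₁` and of `τ₁ ≫ h`
  have hτ₁flat : Flat τ₁.left := by
    refine hcov.1 i ((yon S).map τ₂ ≫ aT) a τ₁ hτ₂aT ha ?_
    rw [Category.assoc, ← hv]; exact sqT.w.symm
  have hcompflat : Flat (τ₁.left ≫ h.left) := by
    refine H i ((yon S).map τ₂ ≫ aT) b (τ₁ ≫ h) hτ₂aT hb ?_
    calc ((yon S).map τ₂ ≫ aT) ≫ g i ≫ f = ((yon S).map τ₂ ≫ (aT ≫ g i)) ≫ f := by
          simp only [Category.assoc]
      _ = ((yon S).map τ₂ ≫ v) ≫ f := by rw [← hv]
      _ = ((yon S).map τ₁ ≫ a) ≫ f := by rw [sqT.w]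
      _ = (yon S).map (τ₁ ≫ h) ≫ b := by
          rw [Category.assoc, comm, Functor.map_comp, Category.assoc]
  -- the point
  have hx : τ₁.left (mm.left w') = x := by
    have e₁' : mm.left ≫ τ₁.left = p₂.left ≫ (c j).left ≫ ι₀.left :=
      congrArg CommaMorphism.left e₁
    have := congrArg (fun k : (haT.rep.pullback l).left ⟶ U.left => k w') e₁'
    simp only [Scheme.Hom.comp_apply] at this
    rw [this, hw', hw]
    rfl
  have key := flat_stalkMap_of_comp τ₁.left h.left (mm.left w')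
    (Flat.stalkMap (τ₁.left ≫ h.left) (mm.left w'))
  exact hx ▸ key

/-- The property of morphisms of algebraic spaces over S given by f is flat (on etale charts) is fpqc
local on the source: for a morphism f : X ⟶ Y of algebraic spaces and a fpqc covering of X by
algebraic spaces X_i, f has the property if and only if every composite X_i ⟶ X ⟶ Y has it. -/
theorem result (S : Scheme.{u}) :
    AlgSp.IsLocalOnSource (AlgSp.IsFpqcCover (S := S)) (AlgSp.LocP @Flat) := by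
  intro ι X Xi g hX hXi hcov Y f hY
  constructor
  · intro hf i
    exact locP_comp etLocalST_flat (g i) f hX.atlas (hcov.1 i) hf
  · intro H
    exact locP_flat_of_fpqc_cover Xi g hXi hcov f H

end Groth.Agent.S10548
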