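import Groth.Statements.S10549
import Groth.Agent.Lib.Helper98.AlgSpSrcDesc
import Groth.Agent.Lib.Helper78.AlgSpLocPLofp
import Groth.Agent.S0114

set_option autoImplicit false
universe u
open CategoryTheory CategoryTheory.Limits AlgebraicGeometry
open AlgSp

namespace Groth.Agent.S10549

/-- The property of morphisms of algebraic spaces over S given by f is locally of finite presentation
(on etale charts) is fppf local on the source: for a morphism f : X ⟶ Y of algebraic spaces and a
fppf covering of X by algebraic spaces X_i, f has the property if and only if every composite X_i ⟶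
X ⟶ Y has it. -/
theorem result (S : Scheme.{u}) :
    AlgSp.IsLocalOnSource (AlgSp.IsFppfCover (S := S)) (AlgSp.LocP @LocallyOfFinitePresentation) := by
  intro ι X Xi g hX hXi hcov Y f hY
  constructor
  · intro hf i
    exact Groth.Agent.Lib.Helper78.AlgSpLocP.locP_comp
      Groth.Agent.Lib.Helper78.AlgSpLocPLofp.etLocalST_lofp (g i) f hX.atlas (hcov.1 i).2 hf
  · intro H
    refine Groth.Agent.Lib.Helper98.AlgSpSrcDesc.locP_of_cover
      (P := @LocallyOfFinitePresentation) (Q := @Flat ⊓ @LocallyOfFinitePresentation) ?_
      Xi g hXi ?_ hcov.2 f H
    · intro A B C e h he hs H'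
      have : Flat e := he.1
      have : LocallyOfFinitePresentation e := he.2
      have : Surjective e := hs
      have : LocallyOfFinitePresentation (e ≫ h) := H'
      exact Groth.Agent.S0114.result e h
    · intro i U V a b h ha hb comm
      exact ⟨(hcov.1 i).1 a b h ha hb comm, (hcov.1 i).2 a b h ha hb comm⟩

end Groth.Agent.S10549
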