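import Groth.Statements.S4091
import Groth.Agent.S0113
import Groth.Agent.S0114
import Mathlib.AlgebraicGeometry.Morphisms.UniversallyOpen
import Mathlib.AlgebraicGeometry.Morphisms.Flat
import Mathlib.AlgebraicGeometry.Morphisms.FinitePresentation
import Mathlib.AlgebraicGeometry.Morphisms.FiniteType
import Mathlib.AlgebraicGeometry.Morphisms.QuasiSeparated

set_option autoImplicit false
universe u
open CategoryTheory MonoidalCategory CartesianMonoidalCategory MonObj GrpObj AlgebraicGeometry CategoryTheory.Limits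
open GrpQ

namespace Groth.Agent.S4091

set_option backward.isDefEq.respectTransparency.types false in
/-- Local finite type descends along an fppf cover of the source (finite type analogue of S0114,
via S0113). -/
theorem lft_of_fppf_comp {X Y S : Scheme.{u}} (f : X ⟶ Y) (q : Y ⟶ S) [Surjective f] [Flat f]
    [LocallyOfFinitePresentation f] [LocallyOfFiniteType (f ≫ q)] :
    LocallyOfFiniteType q := by
  have : MorphismProperty.RespectsRight @LocallyOfFiniteType @IsOpenImmersion :=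
    ⟨fun i hi f hf => by
      have : IsOpenImmersion i := hi
      have : LocallyOfFiniteType f := hf
      exact (inferInstance : LocallyOfFiniteType (f ≫ i))⟩
  rw [IsZariskiLocalAtSource.iff_exists_resLE (P := @LocallyOfFiniteType)]
  intro y
  obtain ⟨x, rfl⟩ := f.surjective y
  obtain ⟨U, hU, hqU, -⟩ := TopologicalSpace.Opens.isBasis_iff_nbhd.mp S.isBasis_affineOpens
    (TopologicalSpace.Opens.mem_top (q (f x)))
  obtain ⟨V, hV, hfV, eV⟩ := TopologicalSpace.Opens.isBasis_iff_nbhd.mp Y.isBasis_affineOpens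
    (show f x ∈ q ⁻¹ᵁ U from hqU)
  obtain ⟨W, hW, hxW, eW⟩ := TopologicalSpace.Opens.isBasis_iff_nbhd.mp X.isBasis_affineOpens
    (show x ∈ f ⁻¹ᵁ V from hfV)
  have hopen : IsOpen (f '' (W : Set X)) := f.isOpenMap _ W.isOpen
  let O : Y.Opens := ⟨f '' (W : Set X), hopen⟩ ⊓ V
  have hfxO : f x ∈ O := ⟨⟨x, hxW, rfl⟩, hfV⟩
  obtain ⟨b, hbO, hfxb⟩ := hV.exists_basicOpen_le ⟨f x, hfxO⟩ hfV
  have hV' : IsAffineOpen (Y.basicOpen b) := hV.basicOpen b
  have hW' : IsAffineOpen (X.basicOpen (f.appLE V W eW b)) := hW.basicOpen _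
  have hW'eq : X.basicOpen (f.appLE V W eW b) = W ⊓ f ⁻¹ᵁ (Y.basicOpen b) :=
    Scheme.basicOpen_appLE f W V eW b
  have e₁ : X.basicOpen (f.appLE V W eW b) ≤ f ⁻¹ᵁ (Y.basicOpen b) := by
    rw [hW'eq]; exact inf_le_right
  have e₂ : Y.basicOpen b ≤ q ⁻¹ᵁ U := (Y.basicOpen_le b).trans eV
  refine ⟨U, Y.basicOpen b, hfxb, e₂, ?_⟩
  have : IsAffine (U : Scheme) := hU
  have : IsAffine (Y.basicOpen b : Scheme) := hV'
  have : IsAffine (X.basicOpen (f.appLE V W eW b) : Scheme) := hW'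
  have hg_flat : Flat (f.resLE _ _ e₁) := IsZariskiLocalAtSource.resLE _ inferInstance
  have hg_fp : LocallyOfFinitePresentation (f.resLE _ _ e₁) :=
    IsZariskiLocalAtSource.resLE _ inferInstance
  have hg_surj : Surjective (f.resLE _ _ e₁) := by
    refine ⟨fun v => ?_⟩
    have hv : v.1 ∈ O := hbO v.2
    obtain ⟨x', hx'W, hx'⟩ := hv.1
    have hx'W' : x' ∈ X.basicOpen (f.appLE V W eW b) := by
      rw [hW'eq]
      refine ⟨hx'W, ?_⟩
      show f x' ∈ Y.basicOpen b
      rw [hx']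
      exact v.2
    refine ⟨⟨x', hx'W'⟩, ?_⟩
    apply (Y.basicOpen b).ι.isOpenEmbedding.injective
    have h1 := congrArg (fun φ => φ.base ⟨x', hx'W'⟩) (Scheme.Hom.resLE_comp_ι f e₁)
    simp only [Scheme.Hom.comp_base, TopCat.comp_app] at h1
    rw [h1]
    exact hx'
  have hcomp : f.resLE _ _ e₁ ≫ q.resLE U _ e₂ = (f ≫ q).resLE U _
      (e₁.trans ((TopologicalSpace.Opens.map f.base).map (homOfLE e₂)).le) :=
    Scheme.Hom.resLE_comp_resLE f e₁ q e₂
  have hgh_ft : LocallyOfFiniteType (f.resLE _ _ e₁ ≫ q.resLE U _ e₂) := by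
    rw [hcomp]
    exact IsZariskiLocalAtSource.resLE _ inferInstance
  have h1 : (f.resLE _ _ e₁).appTop.hom.FaithfullyFlat :=
    (Flat.flat_and_surjective_iff_faithfullyFlat_of_isAffine (f.resLE _ _ e₁)).mp
      ⟨hg_flat, hg_surj⟩
  have h2 : (f.resLE _ _ e₁).appTop.hom.FinitePresentation :=
    HasRingHomProperty.appTop (P := @LocallyOfFinitePresentation) _ hg_fp
  have h3 : (f.resLE _ _ e₁ ≫ q.resLE U _ e₂).appTop.hom.FiniteType :=
    HasRingHomProperty.appTop (P := @LocallyOfFiniteType) _ hgh_ft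
  rw [HasRingHomProperty.iff_of_isAffine (P := @LocallyOfFiniteType)]
  let algRA : Algebra Γ((U : Scheme), ⊤) Γ((Y.basicOpen b : Scheme), ⊤) :=
    (q.resLE U _ e₂).appTop.hom.toAlgebra
  let algAB : Algebra Γ((Y.basicOpen b : Scheme), ⊤)
      Γ((X.basicOpen (f.appLE V W eW b) : Scheme), ⊤) :=
    (f.resLE _ _ e₁).appTop.hom.toAlgebra
  let algRB : Algebra Γ((U : Scheme), ⊤) Γ((X.basicOpen (f.appLE V W eW b) : Scheme), ⊤) :=
    (f.resLE _ _ e₁ ≫ q.resLE U _ e₂).appTop.hom.toAlgebra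
  have : IsScalarTower Γ((U : Scheme), ⊤) Γ((Y.basicOpen b : Scheme), ⊤)
      Γ((X.basicOpen (f.appLE V W eW b) : Scheme), ⊤) :=
    IsScalarTower.of_algebraMap_eq (fun r => by
      show (f.resLE _ _ e₁ ≫ q.resLE U _ e₂).appTop.hom r =
        (f.resLE _ _ e₁).appTop.hom ((q.resLE U _ e₂).appTop.hom r)
      rw [Scheme.Hom.comp_appTop]
      rfl)
  have : Algebra.FiniteType Γ((U : Scheme), ⊤)
      Γ((X.basicOpen (f.appLE V W eW b) : Scheme), ⊤) := h3
  have : Algebra.FinitePresentation Γ((Y.basicOpen b : Scheme), ⊤)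
      Γ((X.basicOpen (f.appLE V W eW b) : Scheme), ⊤) := h2
  have : Module.FaithfullyFlat Γ((Y.basicOpen b : Scheme), ⊤)
      Γ((X.basicOpen (f.appLE V W eW b) : Scheme), ⊤) := h1
  exact (Groth.Agent.S0113.result (R := Γ((U : Scheme), ⊤))
    (A := Γ((Y.basicOpen b : Scheme), ⊤))
    (B := Γ((X.basicOpen (f.appLE V W eW b) : Scheme), ⊤)) :
    Algebra.FiniteType Γ((U : Scheme), ⊤) Γ((Y.basicOpen b : Scheme), ⊤))

/-- Quasi-compactness descends along a surjective source cover. -/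
theorem quasiCompact_of_comp_surjective {X Y S : Scheme.{u}} (p : X ⟶ Y) (q : Y ⟶ S)
    [Surjective p] [QuasiCompact (p ≫ q)] : QuasiCompact q := by
  refine ⟨fun U hU hc => ?_⟩
  have h := QuasiCompact.isCompact_preimage (f := p ≫ q) U hU hc
  have e : q ⁻¹' U = p '' ((p ≫ q) ⁻¹' U) := by
    ext y
    constructor
    · intro hy
      obtain ⟨x, rfl⟩ := p.surjective y
      exact ⟨x, by simpa using hy, rfl⟩
    · rintro ⟨x, hx, rfl⟩
      simpa using hx
  rw [e]
  exact h.image p.continuous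

set_option backward.isDefEq.respectTransparency.types false in
/-- Quasi-separatedness descends along a surjective quasi-compact source cover. -/
theorem quasiSeparated_of_comp_surjective {X Y S : Scheme.{u}} (p : X ⟶ Y) (q : Y ⟶ S)
    [Surjective p] [QuasiCompact p] [QuasiSeparated (p ≫ q)] : QuasiSeparated q := by
  rw [IsZariskiLocalAtTarget.iff_of_iSup_eq_top (P := @QuasiSeparated) _
    (iSup_affineOpens_eq_top S)]
  intro U
  have : IsAffine (U.1 : Scheme) := U.2
  rw [HasAffineProperty.iff_of_isAffine (P := @QuasiSeparated)]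
  refine (isQuasiSeparated_iff_quasiSeparatedSpace _ (q ⁻¹ᵁ U.1).2).mp ?_
  have hX : IsQuasiSeparated (((p ≫ q) ⁻¹ᵁ U.1 : X.Opens) : Set X) :=
    Scheme.Hom.isQuasiSeparated_preimage (f := p ≫ q) U.2.isQuasiSeparated
  intro V₁ V₂ h₁ o₁ c₁ h₂ o₂ c₂
  have hc₁ : IsCompact (p ⁻¹' V₁) := QuasiCompact.isCompact_preimage (f := p) V₁ o₁ c₁
  have hc₂ : IsCompact (p ⁻¹' V₂) := QuasiCompact.isCompact_preimage (f := p) V₂ o₂ c₂
  have hs₁ : p ⁻¹' V₁ ⊆ (((p ≫ q) ⁻¹ᵁ U.1 : X.Opens) : Set X) := by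
    intro x hx
    have := h₁ hx
    simpa using this
  have hs₂ : p ⁻¹' V₂ ⊆ (((p ≫ q) ⁻¹ᵁ U.1 : X.Opens) : Set X) := by
    intro x hx
    have := h₂ hx
    simpa using this
  have hc := hX _ _ hs₁ (o₁.preimage p.continuous) hc₁ hs₂ (o₂.preimage p.continuous) hc₂
  have e : V₁ ∩ V₂ = p '' (p ⁻¹' V₁ ∩ p ⁻¹' V₂) := by
    rw [← Set.preimage_inter, Set.image_preimage_eq _ p.surjective]
  rw [e]
  exact hc.image p.continuous

/-- Let p : X → Y and q : Y → S be morphisms of schemes with p surjective, flat and of finite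
presentation. If p ≫ q is of finite type then q is of finite type; if p ≫ q is of finite
presentation then q is of finite presentation. -/
theorem result {X Y S : Scheme.{u}} (p : X ⟶ Y) (q : Y ⟶ S)
    [Surjective p] [Flat p] [LocallyOfFinitePresentation p] [QuasiCompact p] [QuasiSeparated p] :
    ((LocallyOfFiniteType (p ≫ q) ∧ QuasiCompact (p ≫ q)) → (LocallyOfFiniteType q ∧ QuasiCompact q)) ∧
    ((LocallyOfFinitePresentation (p ≫ q) ∧ QuasiCompact (p ≫ q) ∧ QuasiSeparated (p ≫ q)) →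
      (LocallyOfFinitePresentation q ∧ QuasiCompact q ∧ QuasiSeparated q)) := by
  refine ⟨fun ⟨h1, h2⟩ => ?_, fun ⟨h1, h2, h3⟩ => ?_⟩
  · exact ⟨lft_of_fppf_comp p q, quasiCompact_of_comp_surjective p q⟩
  · exact ⟨Groth.Agent.S0114.result p q, quasiCompact_of_comp_surjective p q,
      quasiSeparated_of_comp_surjective p q⟩

end Groth.Agent.S4091
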