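import Groth.Statements.S10567
import Groth.Agent.Lib.Helper78.AlgSpSmLocal
import Groth.Agent.Lib.Helper51.AlgSpPoints

set_option autoImplicit false
universe u
open CategoryTheory CategoryTheory.Limits AlgebraicGeometry
open AlgSp

namespace Groth.Agent.S10567

/-- A property P of morphisms of algebraic spaces over S that is smooth local on the source, smooth
local on the base, and stable under postcomposition with smooth morphisms (whenever g : Y ⟶ Z is
smooth and f : X ⟶ Y has P, the composite f ≫ g has P) is smooth local on source-and-target. -/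
theorem result {S : Scheme.{u}} (P : MorphismProperty (AlgSp.Sp S))
    (h1 : AlgSp.IsLocalOnSource (AlgSp.IsSmCover (S := S)) P)
    (h2 : AlgSp.IsLocalOnBase (AlgSp.IsSmCover (S := S)) P)
    (h3 : ∀ ⦃X Y Z : AlgSp.Space S⦄ (f : X ⟶ Y) (g : Y ⟶ Z), P f.hom → AlgSp.LocP @Smooth g.hom → P (f ≫ g).hom) :
    AlgSp.IsSmoothLocalST P := by
  refine ⟨?_, ?_, ?_⟩
  · intro X Y Z hX hY hZ f g hf hg
    let Yi : Option PUnit.{u + 1} → AlgSp.Sp S := fun o => Option.rec Y (fun _ => X) o
    let gi : ∀ o, Yi o ⟶ Y := fun o => Option.rec (motive := fun o => Yi o ⟶ Y) (𝟙 Y) (fun _ => f) o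
    have hYi : ∀ o, AlgSp.IsAlgSpace (Yi o) := fun o => by
      cases o with
      | none => exact hY
      | some _ => exact hX
    have hcov : AlgSp.IsSmCover Yi gi := by
      refine ⟨fun o => ?_, fun y => ⟨none, y, AlgSp.Points.map_id y⟩⟩
      cases o with
      | none => exact Groth.Agent.Lib.Helper78.AlgSpSmLocal.locP_smooth_id hY
      | some _ => exact hf
    exact ((h1 Yi gi hY hYi hcov g hZ).1 hg) (some PUnit.unit)
  · intro X Y X' Y' hX hY hX' hY' f g f' g' sq hg hf
    let Yi : Option PUnit.{u + 1} → AlgSp.Sp S := fun o => Option.rec Y (fun _ => Y') o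
    let gi : ∀ o, Yi o ⟶ Y := fun o => Option.rec (motive := fun o => Yi o ⟶ Y) (𝟙 Y) (fun _ => g) o
    let Xi : Option PUnit.{u + 1} → AlgSp.Sp S := fun o => Option.rec X (fun _ => X') o
    let pi : ∀ o, Xi o ⟶ Yi o := fun o =>
      Option.rec (motive := fun o => Xi o ⟶ Yi o) f (fun _ => f') o
    let qi : ∀ o, Xi o ⟶ X := fun o =>
      Option.rec (motive := fun o => Xi o ⟶ X) (𝟙 X) (fun _ => g') o
    have hYi : ∀ o, AlgSp.IsAlgSpace (Yi o) := fun o => by
      cases o with
      | none => exact hY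
      | some _ => exact hY'
    have hXi : ∀ o, AlgSp.IsAlgSpace (Xi o) := fun o => by
      cases o with
      | none => exact hX
      | some _ => exact hX'
    have hcov : AlgSp.IsSmCover Yi gi := by
      refine ⟨fun o => ?_, fun y => ⟨none, y, AlgSp.Points.map_id y⟩⟩
      cases o with
      | none => exact Groth.Agent.Lib.Helper78.AlgSpSmLocal.locP_smooth_id hY
      | some _ => exact hg
    have hsq : ∀ o, IsPullback (qi o) (pi o) f (gi o) := fun o => by
      cases o with
      | none =>
        have : IsPullback (𝟙 X) f f (𝟙 Y) :=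
          IsPullback.of_horiz_isIso ⟨by rw [Category.id_comp, Category.comp_id]⟩
        exact this
      | some _ => exact sq
    exact ((h2 Yi gi hY hYi hcov f hX Xi pi qi hXi hsq).1 hf) (some PUnit.unit)
  · intro X Y hX hY f
    constructor
    · intro hf x
      exact ⟨X, Y, 𝟙 X, 𝟙 Y, f, x, hX, hY,
        Groth.Agent.Lib.Helper78.AlgSpSmLocal.locP_smooth_id hX,
        Groth.Agent.Lib.Helper78.AlgSpSmLocal.locP_smooth_id hY, by simp, AlgSp.Points.map_id x, hf⟩
    · intro H
      obtain ⟨U₀, a₀, ha₀, ha₀s⟩ := hX.atlas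
      have hx := fun u₀ : U₀.left => H (AlgSp.Points.ofPt a₀ u₀)
      choose U V a b h v hU hV ha hb comm hv hPh using hx
      have hcov : AlgSp.IsSmCover U a := by
        refine ⟨ha, fun x => ?_⟩
        obtain ⟨u₀, rfl⟩ :=
          Groth.Agent.Lib.Helper51.surjective_ofPt_of_repWith_surjective a₀ ha₀s x
        exact ⟨u₀, v u₀, hv u₀⟩
      refine (h1 U a hX hU hcov f hY).2 fun i => ?_
      rw [comm i]
      exact h3 (X := ⟨U i, hU i⟩) (Y := ⟨V i, hV i⟩) (Z := ⟨Y, hY⟩) (ObjectProperty.homMk (h i))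
        (ObjectProperty.homMk (b i)) (hPh i) (hb i)

end Groth.Agent.S10567
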