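import Groth.Statements.S9937
import Groth.Agent.Lib.Helper78.AlgSpBasic

set_option autoImplicit false
universe u
open CategoryTheory CategoryTheory.Limits AlgebraicGeometry
open AlgSp

namespace Groth.Agent.S9937

/-- Closed immersions between algebraic spaces are separated morphisms. -/
theorem result {S : Scheme.{u}} {X Y : AlgSp.Space S} (f : X ⟶ Y)
    (hf : AlgSp.RepWith @IsClosedImmersion f.hom) : AlgSp.IsSeparatedMor f.hom := by
  have hle : (@IsClosedImmersion : MorphismProperty Scheme.{u}) ≤
      MorphismProperty.monomorphisms Scheme.{u} := by
    intro A B g hg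
    have : IsClosedImmersion g := hg
    exact (inferInstance : Mono g)
  have hmono : Mono f.hom := Groth.Agent.Lib.Helper78.AlgSpBasic.mono_of_repWith hle hf
  have hiso : IsIso (pullback.diagonal f.hom) := inferInstance
  exact Groth.Agent.Lib.Helper78.AlgSpBasic.repWith_of_isIso _ _

end Groth.Agent.S9937
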