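import Groth.Statements.S10277
import Groth.Agent.Lib.Helper30.AlgSpLoc
import Groth.Agent.S9936
import Groth.Agent.S9937
-- import your own Groth.Agent.* helpers here

set_option autoImplicit false
universe u
open CategoryTheory CategoryTheory.Limits AlgebraicGeometry
open AlgSp

namespace Groth.Agent.S10277

open Groth.Agent.Lib.Helper30 Groth.Agent.Lib.Helper51 Groth.Agent.Lib.Helper52

/-- A closed immersion of algebraic spaces is proper. -/
theorem result {S : Scheme.{u}} {X Y : AlgSp.Space S} (i : X ⟶ Y)
    (hi : AlgSp.RepWith @IsClosedImmersion i.hom) : AlgSp.IsProperMor i.hom := by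
  refine ⟨Groth.Agent.S9937.result i hi, ⟨?_, Groth.Agent.S9936.result i hi⟩, ?_⟩
  · refine locP_of_repWith @IsClosedImmersion @LocallyOfFiniteType ?_ hi
    intro A B C k j hk hj
    have : Etale k := hk
    have : IsClosedImmersion j := hj
    show LocallyOfFiniteType (k ≫ j)
    infer_instance
  · refine isUnivClosedMor_of_repWith (MorphismProperty.relative_monotone ?_ _ hi)
    intro A B k hk
    have : IsClosedImmersion k.left := hk
    show UniversallyClosed k.left
    infer_instance

end Groth.Agent.S10277
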