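import Groth.Statements.S9882
-- import your own Groth.Agent.* helpers here
import Groth.Agent.S9885
import Groth.Agent.Lib.Helper40.FppfLocalInst
import Groth.Agent.Lib.Helper40.AlgSpDiag

set_option autoImplicit false
universe u
open CategoryTheory CategoryTheory.Limits AlgebraicGeometry
open AlgSp

namespace Groth.Agent.S9882

/-- Let `X` be an algebraic space over `S` with diagonal `Δ : X ⟶ X × X` (representable by schemes).
Then, in the representable sense, `Δ` is locally of finite type, a monomorphism, separated, and
locally quasi-finite. (Mathlib's locally quasi-finite class has no finite-type clause; together with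
the first conjunct this is the usual notion.) -/
theorem result (S : Scheme.{u}) (X : AlgSp.Space S) :
    AlgSp.RepWith @LocallyOfFiniteType (Limits.diag X.obj) ∧
      AlgSp.RepWith (MorphismProperty.monomorphisms Scheme.{u}) (Limits.diag X.obj) ∧
      AlgSp.RepWith @IsSeparated (Limits.diag X.obj) ∧
      AlgSp.RepWith @LocallyQuasiFinite (Limits.diag X.obj) := by
  obtain ⟨A, p, hpe, hps⟩ := X.property.atlas
  have hdiag : AlgSp.Representable (Limits.diag X.obj) := X.property.diag
  have h1 : AlgSp.RepWith @Flat p :=
    MorphismProperty.relative_monotone (F := AlgSp.yon S)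
      (P := MorphismProperty.inverseImage @Etale (Over.forget S))
      (P' := MorphismProperty.inverseImage @Flat (Over.forget S))
      (fun _ _ f hf => by
        have : Etale f.left := hf
        exact (inferInstance : Flat f.left)) p hpe
  have h2 : AlgSp.RepWith @LocallyOfFinitePresentation p :=
    MorphismProperty.relative_monotone (F := AlgSp.yon S)
      (P := MorphismProperty.inverseImage @Etale (Over.forget S))
      (P' := MorphismProperty.inverseImage @LocallyOfFinitePresentation (Over.forget S))
      (fun _ _ f hf => by
        have : Etale f.left := hf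
        exact (inferInstance : LocallyOfFinitePresentation f.left)) p hpe
  have hls : Sheaf.IsLocallySurjective p := Groth.Agent.S9885.result S _ _ p h1 h2 hps
  have hr : AlgSp.Representable p := hpe.rep
  let s : hr.pullback p ⟶ A := hr.snd p
  let t : hr.pullback p ⟶ A := (AlgSp.yon S).preimage (hr.fst p)
  have sq : IsPullback ((AlgSp.yon S).map t) ((AlgSp.yon S).map s) p p := by
    rw [Functor.map_preimage]
    exact hr.isPullback p
  have hs : Etale s.left := hpe.property_snd p
  have hlft : LocallyOfFiniteType (prod.lift t s).left := by
    have e : (prod.lift t s).left ≫ (prod.snd : A ⨯ A ⟶ A).left = s.left := by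
      rw [← Over.comp_left, prod.lift_snd]
    have : LocallyOfFiniteType ((prod.lift t s).left ≫ (prod.snd : A ⨯ A ⟶ A).left) := by
      rw [e]; infer_instance
    exact locallyOfFiniteType_of_comp _ (prod.snd : A ⨯ A ⟶ A).left
  have iloc : MorphismProperty.IsLocalAtTarget (@LocallyOfFiniteType : MorphismProperty Scheme.{u})
      Scheme.fppfPrecoverage :=
    Groth.Agent.Lib.Helper40.FppfLocal.locallyOfFiniteType_isLocalAtTarget_fppf
  have Hlft : AlgSp.RepWith @LocallyOfFiniteType (Limits.diag X.obj) :=
    Groth.Agent.Lib.Helper40.AlgSpDiag.repWith_diag_of_atlas _ hdiag p t s sq hlft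
  have hmono : ∀ ⦃U V : Over S⦄ (g : (AlgSp.yon S).obj U ⟶ X.obj ⨯ X.obj)
      (fst : (AlgSp.yon S).obj V ⟶ X.obj) (snd : V ⟶ U),
      IsPullback fst ((AlgSp.yon S).map snd) (Limits.diag X.obj) g → Mono snd.left := by
    intro U V g fst snd sq'
    have d1 : Limits.diag X.obj ≫ prod.fst = 𝟙 X.obj := prod.lift_fst _ _
    have : Mono (Limits.diag X.obj) := mono_of_mono_fac d1
    have : Mono ((AlgSp.yon S).map snd) := sq'.mono_snd_of_mono
    have : Mono snd := (AlgSp.yon S).mono_of_mono_map this
    infer_instance
  refine ⟨Hlft, ⟨hdiag, fun U V g fst snd sq' => hmono g fst snd sq'⟩,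
    ⟨hdiag, fun U V g fst snd sq' => ?_⟩, ⟨hdiag, fun U V g fst snd sq' => ?_⟩⟩
  · have := hmono g fst snd sq'
    show IsSeparated snd.left
    infer_instance
  · have := hmono g fst snd sq'
    have : LocallyOfFiniteType snd.left := Hlft.property g fst snd sq'
    show LocallyQuasiFinite snd.left
    infer_instance

end Groth.Agent.S9882
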