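import Groth.Statements.S9900
import Groth.Agent.Lib.Helper30.AlgSpSep
import Groth.Agent.S9882
-- import your own Groth.Agent.* helpers here

set_option autoImplicit false
universe u
open CategoryTheory CategoryTheory.Limits AlgebraicGeometry
open AlgSp

namespace Groth.Agent.S9900

open Groth.Agent.Lib.Helper30 Groth.Agent.Lib.Helper51 Groth.Agent.Lib.Helper52

/-- The properties of the relative diagonal of a morphism of algebraic spaces. -/
theorem diagonal_props {S : Scheme.{u}} {X Y : AlgSp.Sp S} (hX : AlgSp.IsAlgSpace X) (f : X ⟶ Y) :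
    AlgSp.Representable (pullback.diagonal f) ∧
    AlgSp.RepWith @LocallyOfFiniteType (pullback.diagonal f) ∧
    AlgSp.RepWith (MorphismProperty.monomorphisms Scheme.{u}) (pullback.diagonal f) ∧
    AlgSp.RepWith @IsSeparated (pullback.diagonal f) ∧
    AlgSp.RepWith (@LocallyQuasiFinite ⊓ @LocallyOfFiniteType) (pullback.diagonal f) := by
  obtain ⟨h1, h2, h3, h4⟩ := Groth.Agent.S9882.result S ⟨X, hX⟩
  have k1 := repWith_diagonal_of_diag _ f h1
  have k2 := repWith_diagonal_of_diag _ f h2
  have k3 := repWith_diagonal_of_diag _ f h3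
  have k4 := repWith_diagonal_of_diag _ f h4
  exact ⟨k1.1, k1, k2, k3, k1.1, fun U V g fst snd sq => ⟨k4.2 g fst snd sq, k1.2 g fst snd sq⟩⟩


/-- For a morphism of algebraic spaces the relative diagonal is representable by schemes, locally of
finite type, a monomorphism, separated and locally quasi-finite (each in the representable sense). -/
theorem result {S : Scheme.{u}} {X Y : AlgSp.Space S} (f : X ⟶ Y) :
    AlgSp.Representable (pullback.diagonal f.hom) ∧
    AlgSp.RepWith @LocallyOfFiniteType (pullback.diagonal f.hom) ∧
    AlgSp.RepWith (MorphismProperty.monomorphisms Scheme.{u}) (pullback.diagonal f.hom) ∧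
    AlgSp.RepWith @IsSeparated (pullback.diagonal f.hom) ∧
    AlgSp.RepWith (@LocallyQuasiFinite ⊓ @LocallyOfFiniteType) (pullback.diagonal f.hom) := by
  exact diagonal_props X.property f.hom

end Groth.Agent.S9900
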