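import Groth.Statements.S10280
import Groth.Agent.Lib.Helper30.AlgSpSep
import Groth.Agent.S9900
import Groth.Agent.S10277
-- import your own Groth.Agent.* helpers here

set_option autoImplicit false
universe u
open CategoryTheory CategoryTheory.Limits AlgebraicGeometry
open AlgSp

namespace Groth.Agent.S10280

open Groth.Agent.Lib.Helper30 Groth.Agent.Lib.Helper51 Groth.Agent.Lib.Helper52


/-- F is separated if and only if its diagonal is universally closed, if and only if its diagonal is
proper. -/
theorem result {S : Scheme.{u}} {X Y : AlgSp.Space S} (f : X ⟶ Y) :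
    (AlgSp.IsSeparatedMor f.hom ↔ AlgSp.IsUnivClosedMor (pullback.diagonal f.hom)) ∧
    (AlgSp.IsSeparatedMor f.hom ↔ AlgSp.IsProperMor (pullback.diagonal f.hom)) := by
  have hXX : AlgSp.IsAlgSpace (pullback f.hom f.hom) :=
    isAlgSpace_of_isPullback Y.property.diag X.property X.property (IsPullback.of_hasPullback _ _)
  let XX : AlgSp.Space S := ⟨pullback f.hom f.hom, hXX⟩
  let d : X ⟶ XX := ObjectProperty.homMk (pullback.diagonal f.hom)
  have h1 : AlgSp.IsSeparatedMor f.hom → AlgSp.IsProperMor (pullback.diagonal f.hom) := by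
    intro hs
    exact Groth.Agent.S10277.result d hs
  have h2 : AlgSp.IsUnivClosedMor (pullback.diagonal f.hom) → AlgSp.IsSeparatedMor f.hom := by
    intro hc
    obtain ⟨k1, k2, k3, k4, k5⟩ := Groth.Agent.S9900.diagonal_props X.property f.hom
    refine ⟨k1, ?_⟩
    intro T V t a v sq
    show IsClosedImmersion v.left
    have hm : Mono v.left := k3.2 t a v sq
    have hlft : LocallyOfFiniteType v.left := k2.2 t a v sq
    have huc : UniversallyClosed v.left := universallyClosed_of_isUnivClosedMor hc t a v sq
    have hqc : QuasiCompact v.left := inferInstance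
    have hiso : IsIso (pullback.diagonal v.left) := inferInstance
    have hsep : IsSeparated v.left := ⟨inferInstance⟩
    have hp : IsProper v.left := {}
    exact (IsClosedImmersion.iff_isProper_and_mono v.left).2 ⟨hp, hm⟩
  exact ⟨⟨fun hs => (h1 hs).2.2, h2⟩, ⟨h1, fun hp => h2 hp.2.2⟩⟩

end Groth.Agent.S10280
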