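import Groth.Statements.S13038
import Groth.Agent.Lib.Helper80.AlgStLocQ3

set_option backward.isDefEq.respectTransparency false

set_option autoImplicit false
universe u
open CategoryTheory AlgebraicGeometry
open AlgSt

namespace Groth.Agent.S13038

/-- Suppose P, a property of morphisms between algebraic spaces, is local on source and target for the
smooth topology and is preserved by composition of algebraic spaces. Then the induced property of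
morphisms of algebraic stacks, read on one square of smooth charts, is stable under composition. -/
theorem result
    (S : Scheme.{u}) (P : MorphismProperty (AlgSp.Sp S)) (hP : AlgSp.IsSmoothLocalST P)
    (hPc : ∀ ⦃X₁ Y₁ Z₁ : AlgSp.Sp S⦄, AlgSp.IsAlgSpace X₁ → AlgSp.IsAlgSpace Y₁ → AlgSp.IsAlgSpace Z₁ →
      ∀ (a : X₁ ⟶ Y₁) (b : Y₁ ⟶ Z₁), P a → P b → P (a ≫ b))
    (𝒳 : AlgSt.Cat S) (𝒴 : AlgSt.Cat S) (𝒵 : AlgSt.Cat S)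
    (h𝒳 : AlgSt.IsAlgStack Scheme.fppfPrecoverage 𝒳)
    (h𝒴 : AlgSt.IsAlgStack Scheme.fppfPrecoverage 𝒴)
    (h𝒵 : AlgSt.IsAlgStack Scheme.fppfPrecoverage 𝒵)
    (f : 𝒳 ⥤ᵇ 𝒴) (g : 𝒴 ⥤ᵇ 𝒵) :
    AlgSt.LocQ P f → AlgSt.LocQ P g → AlgSt.LocQ P (BasedFunctor.comp f g) := by
  intro hf hg
  obtain ⟨U₀, V₀, x₀, y₀, k₀, β₀, a1, a2, a3, a4⟩ := hf
  obtain ⟨U₁, V₁, x₁, y₁, k₁, β₁, b1, b2, b3, b4⟩ := hg
  obtain ⟨U, V, W, x, y, z, h₁, h₂, α₁, α₂, ⟨hx1, hx2⟩, ⟨hy1, hy2⟩, ⟨hz1, hz2⟩, ⟨hΓ₁, -⟩, ⟨hΓ₂, -⟩, -⟩ :=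
    Groth.Agent.Lib.Helper80.exists_chart_tower h𝒳 h𝒴 h𝒵 f g
  have p1 : P ((AlgSp.yon S).map h₁) :=
    Groth.Agent.Lib.Helper80.locQ_all_charts P hP f x₀ y₀ k₀ β₀ a1 a2 a3 a4 x y h₁ α₁ hx1 hy1 hΓ₁
  have p2 : P ((AlgSp.yon S).map h₂) :=
    Groth.Agent.Lib.Helper80.locQ_all_charts P hP g x₁ y₁ k₁ β₁ b1 b2 b3 b4 y z h₂ α₂ hy1 hz1 hΓ₂
  refine ⟨U, W, x, z, h₁ ≫ h₂, Groth.Agent.Lib.Helper80.chartCompIso α₁ α₂, hx1, hx2, hz1, ?_⟩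
  rw [CategoryTheory.Functor.map_comp]
  exact hPc (AlgSp.IsAlgSpace.yon_obj U) (AlgSp.IsAlgSpace.yon_obj V) (AlgSp.IsAlgSpace.yon_obj W) _ _ p1 p2

end Groth.Agent.S13038
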