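import Groth.Statements.S9954
import Groth.Agent.Lib.Helper30.AlgSpProper
import Groth.Agent.Lib.Helper78.AlgSpLocPLoft
import Groth.Agent.Lib.Helper78.AlgSpLocP3
import Mathlib.AlgebraicGeometry.AlgClosed.Basic
-- import your own Groth.Agent.* helpers here

set_option autoImplicit false
universe u
open CategoryTheory CategoryTheory.Limits AlgebraicGeometry
open AlgSp

namespace Groth.Agent.S9954

open Groth.Agent.Lib.Helper30 Groth.Agent.Lib.Helper51 Groth.Agent.Lib.Helper52

set_option backward.isDefEq.respectTransparency false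

/-- A nonempty scheme locally of finite type over an algebraically closed field has a rational
point. -/
theorem exists_section_of_isAlgClosed {k : Type u} [Field k] [IsAlgClosed k] {W : Scheme.{u}}
    [Nonempty W] (w : W ⟶ Spec (CommRingCat.of k)) [LocallyOfFiniteType w] :
    ∃ σ : Spec (CommRingCat.of k) ⟶ W, σ ≫ w = 𝟙 _ := by
  have : JacobsonSpace W := LocallyOfFiniteType.jacobsonSpace w
  have hne : (closedPoints W).Nonempty := by
    by_contra h
    rw [Set.not_nonempty_iff_eq_empty] at h
    have := closure_closedPoints (X := W)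
    rw [h, closure_empty] at this
    exact Set.empty_ne_univ this
  obtain ⟨x, hx⟩ := hne
  exact ⟨pointOfClosedPoint w x hx, pointOfClosedPoint_comp w x hx⟩


/-- A morphism locally of finite type is surjective if and only if it is surjective on k-valued points
for every algebraically closed field k over the base. -/
theorem result {S : Scheme.{u}} {X Y : AlgSp.Space S} (f : X ⟶ Y)
    (hf : AlgSp.LocP @LocallyOfFiniteType f.hom) :
    AlgSp.IsSurjectiveMor f.hom ↔
      ∀ (k : Type u) [Field k] [IsAlgClosed k] (str : Spec (CommRingCat.of k) ⟶ S)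
        (y : (AlgSp.yon S).obj (Over.mk str) ⟶ Y.obj),
        ∃ x : (AlgSp.yon S).obj (Over.mk str) ⟶ X.obj, x ≫ f.hom = y := by
  constructor
  · intro hs k _ _ str y
    have sq := IsPullback.of_hasPullback f.hom y
    have hP : AlgSp.IsAlgSpace (pullback f.hom y) :=
      Groth.Agent.Lib.Helper30.isAlgSpace_of_isPullback Y.property.diag X.property
        (AlgSp.IsAlgSpace.yon_obj _) sq
    have hl : AlgSp.LocP @LocallyOfFiniteType (pullback.snd f.hom y) :=
      Groth.Agent.Lib.Helper78.AlgSpLocP.locP_of_isPullback
        Groth.Agent.Lib.Helper78.AlgSpLocPLoft.etLocalST_loft sq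
        (Groth.Agent.Lib.Helper78.AlgSpFibre.repAll_of_isAlgSpace Y.property)
        X.property.atlas Y.property.atlas hf
    have hsurj : Function.Surjective (Points.map (pullback.snd f.hom y)) :=
      surjective_map_snd_of_isPullback sq hs
    obtain ⟨W, c, hce, hcs⟩ := hP.atlas
    obtain ⟨w, hw⟩ := (AlgSp.yon S).map_surjective (c ≫ pullback.snd f.hom y)
    have hwl : LocallyOfFiniteType w.left :=
      hl c (𝟙 _) w hce (AlgSp.repWith_id @Etale _) (by rw [hw, Category.comp_id])
    -- `W` is nonempty
    obtain ⟨z, _⟩ := hsurj (Points.ofScheme (Over.mk str) (IsLocalRing.closedPoint k))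
    obtain ⟨w₀, _⟩ := surjective_ofPt_of_repWith_surjective c hcs z
    have hne : Nonempty ↥W.left := ⟨w₀⟩
    have hwl' : LocallyOfFiniteType (show W.left ⟶ Spec (CommRingCat.of k) from w.left) := hwl
    obtain ⟨σ, hσ⟩ := exists_section_of_isAlgClosed
      (show W.left ⟶ Spec (CommRingCat.of k) from w.left)
    have hσw : σ ≫ W.hom = str := by
      have h1 : w.left ≫ str = W.hom := Over.w w
      rw [← h1, ← Category.assoc]
      have : σ ≫ w.left = 𝟙 _ := hσ
      rw [this, Category.id_comp]
    let σ' : Over.mk str ⟶ W := Over.homMk σ hσw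
    have hσ' : σ' ≫ w = 𝟙 _ := by
      apply Over.OverMorphism.ext
      exact hσ
    refine ⟨(AlgSp.yon S).map σ' ≫ c ≫ pullback.fst f.hom y, ?_⟩
    rw [Category.assoc, Category.assoc, sq.w, ← Category.assoc c, ← hw, ← Category.assoc,
      ← Functor.map_comp, hσ', CategoryTheory.Functor.map_id, Category.id_comp]
  · intro H y
    induction y using Points.ind with
    | h p =>
      let K' := AlgebraicClosure p.K
      let ι : Spec (CommRingCat.of K') ⟶ Spec (CommRingCat.of p.K) :=
        Spec.map (CommRingCat.ofHom (algebraMap p.K K'))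
      let φ : Over.mk (ι ≫ p.str) ⟶ p.pt := Over.homMk ι rfl
      obtain ⟨x, hx⟩ := H K' (ι ≫ p.str) ((AlgSp.yon S).map φ ≫ p.toHom)
      refine ⟨Points.ofPt x (IsLocalRing.closedPoint K'), ?_⟩
      rw [Points.map_ofPt, hx, ofPt_yon_map_comp]
      exact Points.ofPt_toHom p _

end Groth.Agent.S9954
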