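import Groth.Statements.S10276
import Groth.Agent.Lib.Helper30.AlgSpProper
import Groth.Agent.Lib.Helper78.AlgSpLocPLoft
import Groth.Agent.Lib.Helper78.AlgSpLocP3
import Groth.Agent.S9901
-- import your own Groth.Agent.* helpers here

set_option autoImplicit false
universe u
open CategoryTheory CategoryTheory.Limits AlgebraicGeometry
open AlgSp

namespace Groth.Agent.S10276

open Groth.Agent.Lib.Helper30 Groth.Agent.Lib.Helper51 Groth.Agent.Lib.Helper52

set_option backward.isDefEq.respectTransparency false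

theorem diagonal_comp_mapDesc {C : Type*} [Category C] [HasPullbacks C] {X Y Z : C} (f : X ⟶ Y)
    (g : Y ⟶ Z) :
    pullback.diagonal (f ≫ g) = pullback.diagonal f ≫ pullback.mapDesc f f g := by
  apply pullback.hom_ext <;> simp [pullback.mapDesc]

/-- Separated morphisms of algebraic spaces are stable under composition. -/
theorem isSeparatedMor_comp {S : Scheme.{u}} {X Y Z : AlgSp.Space S} (f : X ⟶ Y) (g : Y ⟶ Z)
    (hf : AlgSp.IsSeparatedMor f.hom) (hg : AlgSp.IsSeparatedMor g.hom) :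
    AlgSp.IsSeparatedMor (f ≫ g).hom := by
  show AlgSp.RepWith @IsClosedImmersion (pullback.diagonal (f.hom ≫ g.hom))
  rw [diagonal_comp_mapDesc]
  exact (AlgSp.RepWith @IsClosedImmersion).comp_mem _ _ hf
    ((Groth.Agent.S9901.result f f g).2.2.2.2.2.1 hg)


/-- A composition of proper morphisms of algebraic spaces is proper. -/
theorem result {S : Scheme.{u}} {X Y Z : AlgSp.Space S} (f : X ⟶ Y) (g : Y ⟶ Z)
    (hf : AlgSp.IsProperMor f.hom) (hg : AlgSp.IsProperMor g.hom) : AlgSp.IsProperMor (f ≫ g).hom := by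
  obtain ⟨hfs, ⟨hfl, hfq⟩, hfu⟩ := hf
  obtain ⟨hgs, ⟨hgl, hgq⟩, hgu⟩ := hg
  refine ⟨isSeparatedMor_comp f g hfs hgs, ⟨?_, ?_⟩, ?_⟩
  · exact Groth.Agent.Lib.Helper78.AlgSpLocP.locP_comp
      Groth.Agent.Lib.Helper78.AlgSpLocPLoft.etLocalST_loft f.hom g.hom Y.property.atlas hfl hgl
  · exact isQuasiCompactMor_comp Y.property Z.property hfq hgq
  · exact isUnivClosedMor_comp Y.property Z.property hfu hgu

end Groth.Agent.S10276
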