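import Groth.Statements.S10553
import Groth.Agent.Lib.Helper98.AlgSpSrcDesc
import Groth.Agent.Lib.Helper78.AlgSpLocPSmooth
import Groth.Agent.S0115

set_option autoImplicit false
universe u
open CategoryTheory CategoryTheory.Limits AlgebraicGeometry
open AlgSp

namespace Groth.Agent.S10553

/-- The property of morphisms of algebraic spaces over S given by f is smooth (on etale charts) is
smooth local on the source: for a morphism f : X ⟶ Y of algebraic spaces and a smooth covering of X
by algebraic spaces X_i, f has the property if and only if every composite X_i ⟶ X ⟶ Y has it. -/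
theorem result (S : Scheme.{u}) :
    AlgSp.IsLocalOnSource (AlgSp.IsSmCover (S := S)) (AlgSp.LocP @Smooth) := by
  refine Groth.Agent.Lib.Helper98.AlgSpSrcDesc.isLocalOnSource_locP (S := S)
    (P := @Smooth) (Q := @Smooth) ?_ ?_
  · intro A B C e h he hs H
    have : Smooth e := he
    have : Surjective e := hs
    have : Smooth (e ≫ h) := H
    exact Groth.Agent.S0115.result e h
  · intro X Y Z g f hY hg hf
    exact Groth.Agent.Lib.Helper78.AlgSpLocP.locP_comp
      Groth.Agent.Lib.Helper78.AlgSpLocPSmooth.etLocalST_smooth g f hY.atlas hg hf

end Groth.Agent.S10553
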