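import Groth.Statements.S5233
import Mathlib
import Mathlib
-- import your own Groth.Agent.* helpers here

set_option autoImplicit false
open CategoryTheory CategoryTheory.Limits AlgebraicGeometry
universe u
open GrpQ

namespace Groth.Agent.S5233


lemma toImage_dominant {X Y : Scheme.{u}} (f : X ⟶ Y) [QuasiCompact f] :
    IsSchemeTheoreticallyDominant f.toImage := by
  rw [isSchemeTheoreticallyDominant_iff]
  refine Scheme.IdealSheafData.ext_of_iSup_eq_top
    (fun U : Y.affineOpens ↦ ⟨f.imageι ⁻¹ᵁ U.1, U.2.preimage f.imageι⟩) ?_ ?_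
  · rw [← Scheme.Hom.preimage_iSup, iSup_affineOpens_eq_top, Scheme.Hom.preimage_top]
  · intro U
    rw [Scheme.Hom.ker_apply]
    simp only [Scheme.IdealSheafData.ideal_bot, Pi.bot_apply]
    exact (RingHom.injective_iff_ker_eq_bot _).mp (f.toImage_app_injective U)

set_option backward.isDefEq.respectTransparency.types false in
lemma stalkMap_injective_of_flat {X Y : Scheme.{u}} (f : X ⟶ Y) [Flat f] (x : X) :
    Function.Injective (f.stalkMap x) := by
  algebraize [(f.stalkMap x).hom]
  have : Module.FaithfullyFlat (Y.presheaf.stalk (f x)) (X.presheaf.stalk x) :=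
    @Module.FaithfullyFlat.of_flat_of_isLocalHom _ _ _ _ _ _ _
      (Flat.stalkMap f x) (f.toLRSHom.prop x)
  exact ‹RingHom.FaithfullyFlat _›.injective

lemma app_injective_of_flat_surj {X Y : Scheme.{u}} (f : X ⟶ Y) [Flat f] [Surjective f]
    (U : Y.Opens) : Function.Injective (f.app U) := by
  rw [injective_iff_map_eq_zero]
  intro s hs
  refine TopCat.Presheaf.section_ext Y.sheaf U s 0 fun y hy ↦ ?_
  obtain ⟨x, rfl⟩ := f.surjective y
  have key : Y.presheaf.germ U (f x) hy s = 0 := by
    apply stalkMap_injective_of_flat f x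
    rw [Scheme.Hom.germ_stalkMap_apply, hs, map_zero, map_zero]
  rw [map_zero]
  exact key

lemma dominant_of_flat_surj {X Y : Scheme.{u}} (f : X ⟶ Y) [Flat f] [Surjective f]
    [QuasiCompact f] : IsSchemeTheoreticallyDominant f := by
  rw [isSchemeTheoreticallyDominant_iff]
  refine Scheme.IdealSheafData.ext_of_iSup_eq_top
    (fun U : Y.affineOpens ↦ U) (iSup_affineOpens_eq_top Y) ?_
  intro U
  rw [Scheme.Hom.ker_apply]
  simp only [Scheme.IdealSheafData.ideal_bot, Pi.bot_apply]
  exact (RingHom.injective_iff_ker_eq_bot _).mp (app_injective_of_flat_surj f U)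

lemma eq_of_ker_eq {X : Scheme.{u}} (Y₁ Y₂ : Subobject X) [IsClosedImmersion Y₁.arrow]
    [IsClosedImmersion Y₂.arrow] (h : Y₁.arrow.ker = Y₂.arrow.ker) : Y₁ = Y₂ :=
  le_antisymm
    (Subobject.le_of_comm (IsClosedImmersion.lift Y₂.arrow Y₁.arrow h.ge)
      (IsClosedImmersion.lift_fac _ _ _))
    (Subobject.le_of_comm (IsClosedImmersion.lift Y₁.arrow Y₂.arrow h.le)
      (IsClosedImmersion.lift_fac _ _ _))

lemma isClosedImmersion_pullback_arrow {Z X : Scheme.{u}} (f : Z ⟶ X) (Y : Subobject X)
    [IsClosedImmersion Y.arrow] : IsClosedImmersion ((Subobject.pullback f).obj Y).arrow :=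
  MorphismProperty.of_isPullback (P := @IsClosedImmersion) (Subobject.isPullback f Y) inferInstance

lemma ker_eq_ker_pullback {X X' : Scheme.{u}} (π : X ⟶ X') [Flat π] [Surjective π]
    [QuasiCompact π] (Y' : Subobject X') [IsClosedImmersion Y'.arrow] :
    Y'.arrow.ker = (((Subobject.pullback π).obj Y').arrow ≫ π).ker := by
  have h := Subobject.isPullback π Y'
  have h1 : Flat (Subobject.pullbackπ π Y') :=
    MorphismProperty.of_isPullback (P := @Flat) h.flip inferInstance
  have h2 : Surjective (Subobject.pullbackπ π Y') :=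
    MorphismProperty.of_isPullback (P := @Surjective) h.flip inferInstance
  have h3 : QuasiCompact (Subobject.pullbackπ π Y') :=
    MorphismProperty.of_isPullback (P := @QuasiCompact) h.flip inferInstance
  have := dominant_of_flat_surj (Subobject.pullbackπ π Y')
  rw [← h.w, Scheme.Hom.ker_comp, (Subobject.pullbackπ π Y').ker_eq_bot,
    Scheme.IdealSheafData.map_bot]



/-- For schemes, with (M) the faithfully flat quasi-compact morphisms and (N) the closed immersions: if
`π : X ⟶ X'` is flat, surjective and quasi-compact (so `X' = X/R` for its kernel pair `R ⇉ X`), then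
`Y' ↦ π⁻¹(Y')` is a bijection from closed subschemes of `X'` onto the closed subschemes of `X`
stable under `R`. -/
theorem result {X X' : Scheme.{u}} (π : X ⟶ X')
    [Flat π] [Surjective π] [QuasiCompact π] :
    Set.BijOn (Subobject.pullback π).obj
      {Y' : Subobject X' | IsClosedImmersion Y'.arrow}
      {Y : Subobject X | IsClosedImmersion Y.arrow ∧
        (Subobject.pullback (pullback.fst π π)).obj Y = (Subobject.pullback (pullback.snd π π)).obj Y} := by
  refine ⟨?_, ?_, ?_⟩
  · intro Y' hY'
    have : IsClosedImmersion Y'.arrow := hY'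
    refine ⟨isClosedImmersion_pullback_arrow π Y', ?_⟩
    rw [← Subobject.pullback_comp, ← Subobject.pullback_comp, pullback.condition]
  · intro Y₁ h₁ Y₂ h₂ h
    have : IsClosedImmersion Y₁.arrow := h₁
    have : IsClosedImmersion Y₂.arrow := h₂
    apply eq_of_ker_eq
    rw [ker_eq_ker_pullback π Y₁, ker_eq_ker_pullback π Y₂, h]
  · rintro Y ⟨hY, hst⟩
    have : IsClosedImmersion Y.arrow := hY
    set g := Y.arrow ≫ π with hg
    have hci : IsClosedImmersion (Subobject.mk g.imageι).arrow := by
      rw [← Subobject.underlyingIso_hom_comp_eq_mk]; infer_instance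
    refine ⟨Subobject.mk g.imageι, hci, ?_⟩
    have : IsClosedImmersion ((Subobject.pullback π).obj (Subobject.mk g.imageι)).arrow :=
      isClosedImmersion_pullback_arrow π _
    apply le_antisymm
    · set Z := (Subobject.pullback π).obj (Subobject.mk g.imageι) with hZ
      have hpb := Subobject.isPullback π (Subobject.mk g.imageι)
      let p := Subobject.pullbackπ π (Subobject.mk g.imageι)
      have hp : Flat p := MorphismProperty.of_isPullback (P := @Flat) hpb.flip inferInstance
      let g' : (Y : Scheme) ⟶ (Subobject.mk g.imageι : Scheme) :=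
        g.toImage ≫ (Subobject.underlyingIso g.imageι).inv
      have hg' : g' ≫ (Subobject.mk g.imageι).arrow = g := by simp [g']
      have : IsSchemeTheoreticallyDominant g' := by
        have := toImage_dominant g
        infer_instance
      have : QuasiCompact g' := inferInstance
      have hdom : IsSchemeTheoreticallyDominant (pullback.snd g' p) := inferInstance
      have hfac : ∃ w' : pullback g' p ⟶ (Y : Scheme),
          w' ≫ Y.arrow = pullback.snd g' p ≫ Z.arrow := by
        let r : pullback g' p ⟶ pullback π π :=
          pullback.lift (pullback.fst g' p ≫ Y.arrow) (pullback.snd g' p ≫ Z.arrow) (by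
            rw [Category.assoc, Category.assoc, ← hpb.w, ← hg]
            have e1 : pullback.fst g' p ≫ g =
                pullback.fst g' p ≫ g' ≫ (Subobject.mk g.imageι).arrow := by rw [hg']
            rw [e1, ← Category.assoc, pullback.condition, Category.assoc])
        have h1 := Subobject.isPullback (pullback.fst π π) Y
        have h2 := Subobject.isPullback (pullback.snd π π) Y
        let r1 := h1.lift (pullback.fst g' p) r (pullback.lift_fst _ _ _).symm
        have hr1 : r1 ≫ ((Subobject.pullback (pullback.fst π π)).obj Y).arrow = r :=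
          h1.lift_snd _ _ _
        refine ⟨r1 ≫ (Subobject.ofLE _ _ hst.le) ≫ Subobject.pullbackπ (pullback.snd π π) Y, ?_⟩
        rw [Category.assoc, Category.assoc, h2.w, ← Category.assoc (Subobject.ofLE _ _ _),
          Subobject.ofLE_arrow, ← Category.assoc, hr1]
        exact pullback.lift_snd _ _ _
      obtain ⟨w', hw'⟩ := hfac
      have hker : Y.arrow.ker ≤ Z.arrow.ker := by
        calc Y.arrow.ker ≤ (w' ≫ Y.arrow).ker := Scheme.Hom.le_ker_comp _ _
          _ = (pullback.snd g' p ≫ Z.arrow).ker := by rw [hw']
          _ = Z.arrow.ker := by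
            rw [Scheme.Hom.ker_comp, (pullback.snd g' p).ker_eq_bot, Scheme.IdealSheafData.map_bot]
      exact Subobject.le_of_comm (IsClosedImmersion.lift Y.arrow Z.arrow hker)
        (IsClosedImmersion.lift_fac _ _ _)
    · have hpb := Subobject.isPullback π (Subobject.mk g.imageι)
      exact Subobject.le_of_comm
        (hpb.lift (g.toImage ≫ (Subobject.underlyingIso g.imageι).inv) Y.arrow (by simp [hg]))
        (hpb.lift_snd _ _ _)

end Groth.Agent.S5233
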