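import Groth.Statements.S19547
import Mathlib

set_option autoImplicit false
universe u
open TensorProduct
open Desc

namespace Groth.Agent.S19547

/-- Let A → A' be a faithfully flat homomorphism of commutative rings, M' an A'-module and φ : M' ⊗_A A'
→ A' ⊗_A M' an isomorphism of (A' ⊗_A A')-modules for the diagonal actions (x ⊗ y)(u ⊗ z) = xu ⊗ yz
and (x ⊗ y)(z ⊗ u) = xz ⊗ yu, satisfying the cocycle condition φ_13 = φ_23 ∘ φ_12 between the three
pullbacks to A' ⊗_A A' ⊗_A A'. Here linearity over A' ⊗_A A' is stated on the generators x ⊗ 1 and 1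
⊗ y, and the cocycle condition on pure tensors u ⊗ a ⊗ b: writing φ(u ⊗ a) = Σ a_i ⊗ u_i, it says Σ
a_i ⊗ φ(u_i ⊗ b) = Σ b_j ⊗ a ⊗ u'_j where φ(u ⊗ b) = Σ b_j ⊗ u'_j. Let M = {u ∈ M' : φ(u ⊗ 1) = 1 ⊗
u}, an A-submodule of M'. Then the canonical map λ : A' ⊗_A M → M', x ⊗ u ↦ xu, is an isomorphism. -/
theorem result (A A' : Type u) [CommRing A] [CommRing A']
    [Algebra A A'] [Module.FaithfullyFlat A A'] (M' : Type u) [AddCommGroup M'] [Module A M']
    [Module A' M'] [IsScalarTower A A' M']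
    (φ : M' ⊗[A] A' →ₗ[A] A' ⊗[A] M') (hφ : Function.Bijective φ)
    (h1 : ∀ (x : A') (u : M') (z : A'),
      φ ((x • u) ⊗ₜ[A] z) = LinearMap.rTensor M' (LinearMap.mulLeft A x) (φ (u ⊗ₜ[A] z)))
    (h2 : ∀ (y : A') (u : M') (z : A'),
      φ (u ⊗ₜ[A] (y * z)) = LinearMap.lTensor A' (Algebra.lsmul A A M' y) (φ (u ⊗ₜ[A] z)))
    (hcoc : ∀ (u : M') (a b : A'),
      LinearMap.lTensor A' φ (TensorProduct.assoc A A' M' A' (LinearMap.rTensor A' φ ((u ⊗ₜ[A] a) ⊗ₜ[A] b))) =
        LinearMap.lTensor A' (TensorProduct.mk A A' M' a) (φ (u ⊗ₜ[A] b)))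
    (M : Submodule A M') (hM : ∀ u : M', u ∈ M ↔ φ (u ⊗ₜ[A] (1 : A')) = (1 : A') ⊗ₜ[A] u) :
    Function.Bijective
      ((TensorProduct.lift (Algebra.lsmul A A M').toLinearMap) ∘ₗ (LinearMap.lTensor A' M.subtype)) := by
  classical
  -- the two maps `M' → A' ⊗ M'`
  let α : M' →ₗ[A] A' ⊗[A] M' := TensorProduct.mk A A' M' 1
  let β : M' →ₗ[A] A' ⊗[A] M' := φ ∘ₗ (TensorProduct.mk A M' A').flip 1
  have hβ : ∀ u, β u = φ (u ⊗ₜ[A] (1 : A')) := fun u => rfl
  have hα : ∀ u, α u = (1 : A') ⊗ₜ[A] u := fun u => rfl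
  -- `M` is the kernel of `α - β`
  have hMker : M = LinearMap.ker (β - α) := by
    ext u
    rw [hM, LinearMap.mem_ker, LinearMap.sub_apply, sub_eq_zero, hβ, hα]
  -- `β` is injective
  have hβinj : Function.Injective β := by
    intro u v huv
    have h3 : u ⊗ₜ[A] (1 : A') = v ⊗ₜ[A] (1 : A') := hφ.1 huv
    have h4 := congrArg (TensorProduct.lift ((Algebra.lsmul A A M').toLinearMap.flip)) h3
    simpa using h4
  -- exactness after the flat base change
  have hex : Function.Exact M.subtype (β - α) := by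
    rw [LinearMap.exact_iff, Submodule.range_subtype, hMker]
  have hex' : Function.Exact (M.subtype.lTensor A') ((β - α).lTensor A') :=
    Module.Flat.lTensor_exact A' hex
  have hinj : Function.Injective (M.subtype.lTensor A') :=
    Module.Flat.lTensor_preserves_injective_linearMap _ M.injective_subtype
  set lam : A' ⊗[A] M →ₗ[A] M' :=
    (TensorProduct.lift (Algebra.lsmul A A M').toLinearMap) ∘ₗ (LinearMap.lTensor A' M.subtype)
    with hlam
  -- `β ∘ λ = i`
  have hβlam : ∀ w, β (lam w) = M.subtype.lTensor A' w := by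
    intro w
    induction w using TensorProduct.induction_on with
    | zero => simp
    | add x y hx hy => simp only [map_add, hx, hy]
    | tmul x u =>
      have hu : φ ((u : M') ⊗ₜ[A] (1 : A')) = (1 : A') ⊗ₜ[A] (u : M') := (hM u).1 u.2
      have h5 : lam (x ⊗ₜ[A] u) = x • (u : M') := by simp [hlam]
      rw [h5, hβ, h1, hu]
      simp
  -- `β u` lies in the equalizer
  have hβeq : ∀ u, (β - α).lTensor A' (β u) = 0 := by
    intro u
    have h6 := hcoc u 1 1
    rw [LinearMap.rTensor_tmul] at h6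
    have h7 : ∀ z : A' ⊗[A] M', LinearMap.lTensor A' φ
        (TensorProduct.assoc A A' M' A' (z ⊗ₜ[A] (1 : A'))) = β.lTensor A' z := by
      intro z
      induction z using TensorProduct.induction_on with
      | zero => simp
      | add x y hx hy => simp only [TensorProduct.add_tmul, map_add, hx, hy]
      | tmul a v => simp [hβ]
    rw [h7] at h6
    rw [LinearMap.lTensor_sub, LinearMap.sub_apply, sub_eq_zero, hβ]
    exact h6
  constructor
  · intro w w' hww'
    apply hinj
    rw [← hβlam, ← hβlam, hww']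
  · intro u
    obtain ⟨w, hw⟩ := (hex' (β u)).1 (hβeq u)
    refine ⟨w, hβinj ?_⟩
    rw [hβlam, hw]

end Groth.Agent.S19547
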