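import Groth.Statements.S9839
import Mathlib.AlgebraicGeometry.Sites.ConstantSheaf

set_option autoImplicit false
open CategoryTheory CategoryTheory.Limits AlgebraicGeometry Opposite
universe u
open Desc

namespace Groth.Agent.S9839

/-- Let f i : T i ⟶ T be an fpqc covering family of a scheme T (a family in the fpqc precoverage) and W
i ⊆ T i open subsets such that for all i, j the inverse images of W i and W j under the two
projections of T i ×_T T j coincide. Then there is a unique open subset W ⊆ T with (f i)⁻¹(W) = W i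
for every i. -/
theorem result {ι : Type u} {T : Scheme.{u}} {Ti : ι → Scheme.{u}}
    (f : ∀ i, Ti i ⟶ T) (hf : Presieve.ofArrows Ti f ∈ Scheme.fpqcPrecoverage T)
    (W : ∀ i, (Ti i).Opens)
    (hW : ∀ i j, (pullback.fst (f i) (f j)) ⁻¹ᵁ (W i) = (pullback.snd (f i) (f j)) ⁻¹ᵁ (W j)) :
    ∃! V : T.Opens, ∀ i, (f i) ⁻¹ᵁ V = W i := by
  have hsheaf := isSheaf_fpqcTopology_continuousMapPresheaf.{0, u} Prop
  rw [isSheaf_iff_isSheaf_of_type] at hsheaf
  have h1 : Presieve.IsSheafFor (continuousMapPresheaf.{0, u} Prop) (Presieve.ofArrows Ti f) := by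
    rw [Presieve.isSheafFor_iff_generate]
    exact hsheaf _ (Precoverage.generate_mem_toGrothendieck hf)
  rw [Presieve.isSheafFor_arrows_iff] at h1
  -- the family of characteristic functions
  let x : ∀ i, (continuousMapPresheaf.{0, u} Prop).obj (op (Ti i)) := fun i =>
    (⟨fun t => t ∈ W i, isOpen_iff_continuous_mem.mp (W i).isOpen⟩ : C(Ti i, Prop))
  have hx : Presieve.Arrows.Compatible (continuousMapPresheaf.{0, u} Prop) f x := by
    intro i j Z gi gj hg
    apply ContinuousMap.ext
    intro z
    change (gi z ∈ W i) = (gj z ∈ W j)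
    let l : Z ⟶ pullback (f i) (f j) := pullback.lift gi gj hg
    have e1 : gi z = pullback.fst (f i) (f j) (l z) := by
      rw [← Scheme.Hom.comp_apply, pullback.lift_fst]
    have e2 : gj z = pullback.snd (f i) (f j) (l z) := by
      rw [← Scheme.Hom.comp_apply, pullback.lift_snd]
    have := congrArg (fun U : (pullback (f i) (f j)).Opens => l z ∈ U) (hW i j)
    simpa [e1, e2] using this
  obtain ⟨t0, ht, htu⟩ := h1 x hx
  let t : C(T, Prop) := t0
  have ht' : ∀ i (y : Ti i), t (f i y) = (y ∈ W i) := by
    intro i y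
    exact congrArg (fun c : C(Ti i, Prop) => c y) (ht i)
  refine ⟨⟨{y | t y}, continuous_Prop.mp t.continuous⟩, ?_, ?_⟩
  · intro i
    ext y
    change t (f i y) ↔ y ∈ W i
    rw [ht' i y]
  · intro V hV
    let t' : C(T, Prop) := ⟨fun y => y ∈ V, isOpen_iff_continuous_mem.mp V.isOpen⟩
    have : t' = t := by
      change t' = t0
      apply htu
      intro i
      apply ContinuousMap.ext
      intro y
      change (f i y ∈ V) = (y ∈ W i)
      rw [← hV i]
      rfl
    ext y
    change y ∈ V ↔ t y
    rw [← this]
    rfl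

end Groth.Agent.S9839
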