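import Groth.Statements.S9347
import Mathlib
-- import your own Groth.Agent.* helpers here

set_option autoImplicit false
universe u
open Dom

namespace Groth.Agent.S9347
open CategoryTheory AlgebraicGeometry Limits TopologicalSpace Topology


def toPS {R : CommRingCat.{u}} (x : ↥(Spec R)) : PrimeSpectrum R := x
def ofPS {R : CommRingCat.{u}} (x : PrimeSpectrum R) : ↥(Spec R) := x

/-- Algebra: if `p` is a minimal prime of `A` not in the image of `Spec B → Spec A`, then some
`s ∉ p` is killed by `φ`. -/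
lemma exists_mem_ker_notMem {A B : Type u} [CommRing A] [CommRing B] (φ : A →+* B)
    (p : Ideal A) [p.IsPrime] (hmin : ∀ q : Ideal A, q.IsPrime → q ≤ p → q = p)
    (hnot : ∀ q : Ideal B, q.IsPrime → q.comap φ ≠ p) : ∃ s ∈ RingHom.ker φ, s ∉ p := by
  by_contra h
  push Not at h
  have hle : RingHom.ker φ ≤ p := fun s hs => h s hs
  have hmem : p ∈ ((⊥ : Ideal B).comap φ).minimalPrimes := by
    refine ⟨⟨inferInstance, hle⟩, ?_⟩
    rintro q ⟨hq, _⟩ hqp
    exact (hmin q hq hqp).ge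
  obtain ⟨q, hq, -, hqp⟩ := Ideal.exists_comap_eq_of_mem_minimalPrimes φ p hmem
  exact hnot q hq hqp


open AlgebraicGeometry CategoryTheory in
/-- Let f : X → S be quasi-compact and let η ∈ S be a point whose closure is an irreducible component of
S (a maximal point of S). If η is not in the image of f, then η has an open neighbourhood V with
f⁻¹(V) empty. -/
theorem result {X S : Scheme.{u}} (f : X ⟶ S) [QuasiCompact f]
    (η : ↑S) (hη : closure {η} ∈ irreducibleComponents (↑S : Type u)) (hnot : η ∉ Set.range f.base) :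
    ∃ V : S.Opens, η ∈ V ∧ f ⁻¹ᵁ V = ⊥ := by
  classical
  obtain ⟨U₀, hU, hηU, -⟩ := exists_isAffineOpen_mem_and_subset (X := S) (x := η) (U := ⊤) trivial
  obtain ⟨p, hp⟩ : ∃ p : ↥(Spec Γ(S, U₀)), hU.fromSpec.base p = η := by
    have : η ∈ Set.range hU.fromSpec := by rw [hU.range_fromSpec]; exact hηU
    exact this
  have hpmin : ∀ q : Ideal Γ(S, U₀), q.IsPrime → q ≤ (toPS p).asIdeal → q = (toPS p).asIdeal := by
    intro q hq hqp
    let q' : PrimeSpectrum Γ(S, U₀) := ⟨q, hq⟩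
    have h1 : q' ⤳ toPS p := (PrimeSpectrum.le_iff_specializes q' (toPS p)).mp hqp
    have h2 : hU.fromSpec.base (ofPS q') ⤳ η := by
      rw [← hp]
      exact h1.map hU.fromSpec.continuous
    have h3 : closure {η} ⊆ closure {hU.fromSpec.base (ofPS q')} :=
      specializes_iff_closure_subset.mp h2
    have h4 : closure {hU.fromSpec.base (ofPS q')} ⊆ closure {η} :=
      hη.le_of_ge isIrreducible_singleton.closure h3
    have h5 : η ⤳ hU.fromSpec.base (ofPS q') := specializes_iff_closure_subset.mpr h4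
    have h6 : hU.fromSpec.base (ofPS q') = η := (h2.antisymm h5).eq
    have h7 : ofPS q' = p := hU.fromSpec.isOpenEmbedding.injective (h6.trans hp.symm)
    exact congrArg (fun z => (toPS z).asIdeal) h7
  -- finite affine cover of the preimage
  have hc : IsCompact ((f ⁻¹ᵁ U₀ : X.Opens) : Set X) := f.isCompact_preimage hU.isCompact
  obtain ⟨T, hT, hTeq⟩ :=
    (isCompact_and_isOpen_iff_finite_and_eq_biUnion_affineOpens).mp ⟨hc, (f ⁻¹ᵁ U₀).isOpen⟩
  have hle : ∀ V ∈ T, (V : X.Opens) ≤ f ⁻¹ᵁ U₀ := by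
    intro V hV x hx
    have : x ∈ ⋃ i ∈ T, ((i : X.Opens) : Set X) := Set.mem_biUnion hV hx
    rw [← hTeq] at this
    exact this
  have key : ∀ V : T, ∃ s : Γ(S, U₀), s ∉ (toPS p).asIdeal ∧
      (f.appLE U₀ V.1.1 (hle V.1 V.2)).hom s = 0 := by
    intro V
    haveI : (toPS p).asIdeal.IsPrime := (toPS p).isPrime
    obtain ⟨s, hs, hsp⟩ := exists_mem_ker_notMem (f.appLE U₀ V.1.1 (hle V.1 V.2)).hom
      (toPS p).asIdeal hpmin (by
        intro q hq hqp
        apply hnot
        let q' : PrimeSpectrum Γ(X, V.1.1) := ⟨q, hq⟩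
        refine ⟨V.1.2.fromSpec.base (ofPS q'), ?_⟩
        have hsq := IsAffineOpen.SpecMap_appLE_fromSpec f hU V.1.2 (hle V.1 V.2)
        have h8 : (V.1.2.fromSpec ≫ f).base (ofPS q') =
            (Spec.map (f.appLE U₀ V.1.1 (hle V.1 V.2)) ≫ hU.fromSpec).base (ofPS q') := by
          rw [hsq]
        rw [Scheme.Hom.comp_apply, Scheme.Hom.comp_apply] at h8
        rw [h8, ← hp]
        congr 1
        apply PrimeSpectrum.ext
        exact hqp)
    exact ⟨s, hsp, hs⟩
  choose sV hsV1 hsV2 using key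
  haveI : Fintype T := hT.fintype
  let s : Γ(S, U₀) := ∏ V : T, sV V
  have hsp : s ∉ (toPS p).asIdeal := by
    intro hmem
    obtain ⟨V, -, hV⟩ := ((toPS p).isPrime.prod_mem_iff).mp hmem
    exact hsV1 V hV
  refine ⟨S.basicOpen s, ?_, ?_⟩
  · have h9 : p ∈ hU.fromSpec ⁻¹ᵁ S.basicOpen s := by
      rw [hU.fromSpec_preimage_basicOpen]
      exact hsp
    rw [← hp]
    exact h9
  · rw [eq_bot_iff]
    intro x hx
    exfalso
    have hxU : x ∈ f ⁻¹ᵁ U₀ := S.basicOpen_le s hx
    have : x ∈ ((f ⁻¹ᵁ U₀ : X.Opens) : Set X) := hxU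
    rw [hTeq] at this
    obtain ⟨V, hVT, hxV⟩ := Set.mem_iUnion₂.mp this
    -- x comes from a prime of Γ(X, V)
    obtain ⟨q, hq⟩ : ∃ q : ↥(Spec Γ(X, V.1)), V.2.fromSpec.base q = x := by
      have : x ∈ Set.range V.2.fromSpec := by rw [V.2.range_fromSpec]; exact hxV
      exact this
    have hsq := IsAffineOpen.SpecMap_appLE_fromSpec f hU V.2 (hle V hVT)
    have h8 : (V.2.fromSpec ≫ f).base q =
        (Spec.map (f.appLE U₀ V.1 (hle V hVT)) ≫ hU.fromSpec).base q := by
      rw [hsq]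
    rw [Scheme.Hom.comp_apply, Scheme.Hom.comp_apply, hq] at h8
    have h10 : (Spec.map (f.appLE U₀ V.1 (hle V hVT))).base q ∈ hU.fromSpec ⁻¹ᵁ S.basicOpen s := by
      change hU.fromSpec.base _ ∈ S.basicOpen s
      rw [← h8]; exact hx
    rw [hU.fromSpec_preimage_basicOpen] at h10
    apply h10
    change (f.appLE U₀ V.1 (hle V hVT)).hom s ∈ (toPS q).asIdeal
    have : (f.appLE U₀ V.1 (hle V hVT)).hom s = 0 := by
      have hdvd : sV ⟨V, hVT⟩ ∣ s := Finset.dvd_prod_of_mem _ (Finset.mem_univ _)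
      obtain ⟨c, hc⟩ := hdvd
      rw [hc, map_mul, hsV2 ⟨V, hVT⟩, zero_mul]
    rw [this]
    exact Ideal.zero_mem _

end Groth.Agent.S9347
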