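import Groth.Statements.S2559
import Groth.Agent.Lib.Helper73.OpenAtPoint2
import Groth.Agent.Lib.Helper73.LocalHomDim
import Groth.Agent.Lib.Helper73.StalkChains
-- import your own Groth.Agent.* helpers here

set_option autoImplicit false
open CategoryTheory AlgebraicGeometry
universe u
open EGA43

namespace Groth.Agent.S2559
open Groth.Agent.Lib.Helper73.SchemeDim Groth.Agent.Lib.Helper73.RelHt Groth.Agent.Lib.Helper73.LocalHomDim

/-- Let f : X ⟶ Y be a morphism of locally Noetherian schemes, x a point of X and y = f x. Suppose f is
open at the generic point of every irreducible component of the fibre over y passing through x. Then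
dim O_{X,x} = dim O_{Y,y} + dim O_{X_y,x}. -/
theorem result {X Y : Scheme.{u}} [IsLocallyNoetherian X] [IsLocallyNoetherian Y]
    (f : X ⟶ Y) (x : X)
    (h : ∀ z : ↥(f.fiber (f.base x)), f.asFiber x ∈ closure {z} →
      (∀ z' : ↥(f.fiber (f.base x)), z ∈ closure {z'} → z' = z) →
      EGA43.IsOpenAt f.base ((f.fiberι (f.base x)).base z)) :
    ringKrullDim (X.presheaf.stalk x) =
      ringKrullDim (Y.presheaf.stalk (f.base x)) +
        ringKrullDim ((f.fiber (f.base x)).presheaf.stalk (f.asFiber x)) := by
  have hcoX : ringKrullDim (X.presheaf.stalk x) = Order.coheight x := ringKrullDim_stalk_eq_coheight x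
  have hXfin : ringKrullDim (X.presheaf.stalk x) < ⊤ := ringKrullDim_lt_top
  have hne : Order.coheight x ≠ ⊤ := by
    intro h'
    rw [hcoX, h'] at hXfin
    exact lt_irrefl _ hXfin
  obtain ⟨a, ha⟩ := ENat.ne_top_iff_exists.mp hne
  have hcoF := ringKrullDim_stalk_eq_coheight (f.asFiber x)
  have hFle : Order.coheight (f.asFiber x) ≤ (a : ℕ∞) := by
    have := ringKrullDim_stalk_fiber_le f x a (fun c hc _ => by
      rw [ha, ← hc]; exact Order.length_le_coheight_head)
    rw [hcoF] at this
    exact_mod_cast this
  obtain ⟨m', hm'⟩ := ENat.ne_top_iff_exists.mp (ne_top_of_le_ne_top (ENat.natCast_ne_top a) hFle)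
  have hD : ringKrullDim ((f.fiber (f.base x)).presheaf.stalk (f.asFiber x)) = (m' : WithBot ℕ∞) := by
    rw [hcoF, ← hm']; rfl
  obtain ⟨c', hc'head, hc'len⟩ := Order.exists_series_of_coheight_eq_coe (f.asFiber x) hm'.symm
  have hcf : ∀ i, f.base ((fiberSeries f _ c') i) = f.base x := fun i => base_fiberι f _ _
  have hchead : (fiberSeries f _ c').head = x := by
    change f.fiberι _ c'.head = x
    rw [hc'head]
    exact f.fiberι_asFiber x
  set c := fiberSeries f _ c' with hc
  have hclen : c.length = m' := hc'len
  set z := c.last with hz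
  have hzx : z ⤳ x := by
    have : c.head ≤ c.last := LTSeries.head_le_last c
    rw [hchead] at this
    exact this
  have hfz : f.base z = f.base x := hcf _
  have hzmax : ∀ t : X, t ⤳ z → f.base t = f.base z → t = z := by
    intro t ht hft
    by_contra hne'
    have hle : z ≤ t := ht
    have hlt : c.last < t := lt_iff_le_not_ge.mpr ⟨hle, fun h' => hne' (anti X t z h' hle)⟩
    have h1 := le_ringKrullDim_stalk_fiber f x (c.snoc t hlt)
      (by rw [RelSeries.head_snoc]; exact hchead)
      (forall_snoc c t hlt (P := fun w => f.base w = f.base x) (hft.trans hfz) hcf)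
    rw [hD, RelSeries.snoc_length, hclen] at h1
    have : m' + 1 ≤ m' := by exact_mod_cast h1
    omega
  have hopen := isOpenAt_of_maximal_in_fibre f x h z hzx hfz hzmax
  apply le_antisymm
  · -- `≤`
    rw [hD]
    refine ringKrullDim_le_add_of_chains (f.stalkMap x).hom m' (fun l hl => ?_)
    obtain ⟨d, hdlen, hdhead, -, hdmem⟩ := exists_ltSeries_of_primes_stalk x l
    have hdf : ∀ i, f.base (d i) = f.base x := by
      intro i
      obtain ⟨j, hj⟩ := hdmem i
      rw [hj, base_fromSpecStalk]
      have h1 : IsLocalRing.maximalIdeal (Y.presheaf.stalk (f.base x)) ≤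
          (l j).asIdeal.comap (f.stalkMap x).hom := by
        rw [← Ideal.map_le_iff_le_comap]
        exact hl.trans (l.monotone (Fin.zero_le j) : l.head ≤ l j)
      haveI := (l j).2
      have h2 : (l j).asIdeal.comap (f.stalkMap x).hom =
          IsLocalRing.maximalIdeal (Y.presheaf.stalk (f.base x)) :=
        ((IsLocalRing.maximalIdeal.isMaximal _).eq_of_le (Ideal.comap_ne_top _ (l j).2.ne_top) h1).symm
      have h3 : PrimeSpectrum.comap (f.stalkMap x).hom (l j) =
          IsLocalRing.closedPoint (Y.presheaf.stalk (f.base x)) := PrimeSpectrum.ext h2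
      rw [h3]
      exact Scheme.fromSpecStalk_closedPoint
    have hxd : x ≤ d.head := by
      rw [hdhead]; exact fromSpecStalk_specializes x _
    by_cases hdx : d.head ≤ x
    · have hdeq : d.head = x := anti X _ _ hdx hxd
      have := le_ringKrullDim_stalk_fiber f x d hdeq hdf
      rw [hD, hdlen] at this
      exact_mod_cast this
    · have hlt : x < d.head := lt_iff_le_not_ge.mpr ⟨hxd, hdx⟩
      have := le_ringKrullDim_stalk_fiber f x (d.cons x hlt) (RelSeries.head_cons _ _ _)
        (forall_cons d x hlt (P := fun w => f.base w = f.base x) rfl hdf)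
      rw [hD, RelSeries.cons_length, hdlen] at this
      have : l.length + 1 ≤ m' := by exact_mod_cast this
      omega
  · -- `≥`
    have hdimle : ringKrullDim (Y.presheaf.stalk (f.base z)) ≤ ringKrullDim (X.presheaf.stalk z) := by
      apply le_of_forall_natCast_le
      intro n hn
      refine ringKrullDim_le_of_surjective_of_fibre (f.stalkMap z).hom ?_ ?_ n hn
      · intro P
        have hy' := fromSpecStalk_specializes (f.base z) P
        obtain ⟨ξ, hξz, hfξ⟩ := exists_specializes_of_isOpenAt f z hopen _ hy'
        obtain ⟨Q, hQ⟩ := exists_fromSpecStalk_eq hξz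
        refine ⟨Q, ?_⟩
        have : PrimeSpectrum.comap (f.stalkMap z).hom Q = P := by
          apply (Y.fromSpecStalk (f.base z)).isEmbedding.injective
          rw [← base_fromSpecStalk, hQ, hfξ]
        exact congrArg PrimeSpectrum.asIdeal this
      · intro Q hQ
        have h1 : (X.fromSpecStalk z).base Q ⤳ z := fromSpecStalk_specializes z Q
        have h2 : f.base ((X.fromSpecStalk z).base Q) = f.base z := by
          rw [base_fromSpecStalk]
          have h3 : PrimeSpectrum.comap (f.stalkMap z).hom Q =
              IsLocalRing.closedPoint (Y.presheaf.stalk (f.base z)) := PrimeSpectrum.ext hQ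
          rw [h3]
          exact Scheme.fromSpecStalk_closedPoint
        have h4 := hzmax _ h1 h2
        have h5 : (X.fromSpecStalk z).base (IsLocalRing.closedPoint (X.presheaf.stalk z)) = z :=
          Scheme.fromSpecStalk_closedPoint
        have h6 : Q = IsLocalRing.closedPoint (X.presheaf.stalk z) := by
          apply (X.fromSpecStalk z).isEmbedding.injective
          rw [h4, h5]
        exact congrArg PrimeSpectrum.asIdeal h6
    rw [ringKrullDim_stalk_eq_coheight, ringKrullDim_stalk_eq_coheight, hfz] at hdimle
    have h7 := coheight_last_add_length_le c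
    rw [hchead, hclen] at h7
    rw [hD, hcoX, ringKrullDim_stalk_eq_coheight]
    have h8 : Order.coheight (f.base x) ≤ Order.coheight z := by exact_mod_cast hdimle
    have h9 : Order.coheight (f.base x) + (m' : ℕ∞) ≤ Order.coheight x :=
      le_trans (by gcongr) h7
    exact_mod_cast h9

end Groth.Agent.S2559
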