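import Groth.Statements.S4925
import Groth.Agent.Lib.Helper78.UnivOpenAt

set_option autoImplicit false
open CategoryTheory AlgebraicGeometry
universe u v w
open EGA43

namespace Groth.Agent.S4925

/-- Let f : X ⟶ Y and g : Y ⟶ Z be morphisms of schemes and x a point of X. If f is universally open at
x and g is universally open at f x, then f ≫ g is universally open at x. -/
theorem result {X Y Z : Scheme.{u}} (f : X ⟶ Y) (g : Y ⟶ Z) (x : X)
    (hf : EGA43.IsUnivOpenAt f x) (hg : EGA43.IsUnivOpenAt g (f.base x)) :
    EGA43.IsUnivOpenAt (f ≫ g) x := by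
  intro Z' h x' hx'
  -- the left square of the pasting diagram
  let l : Limits.pullback (f ≫ g) h ⟶ Limits.pullback g h :=
    Limits.pullback.lift (Limits.pullback.fst (f ≫ g) h ≫ f) (Limits.pullback.snd (f ≫ g) h)
      (by rw [Category.assoc]; exact Limits.pullback.condition)
  have hl1 : l ≫ Limits.pullback.fst g h = Limits.pullback.fst (f ≫ g) h ≫ f :=
    Limits.pullback.lift_fst _ _ _
  have hl2 : l ≫ Limits.pullback.snd g h = Limits.pullback.snd (f ≫ g) h :=
    Limits.pullback.lift_snd _ _ _
  have outer : IsPullback (l ≫ Limits.pullback.snd g h) (Limits.pullback.fst (f ≫ g) h) h (f ≫ g) := by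
    rw [hl2]
    exact (IsPullback.of_hasPullback (f ≫ g) h).flip
  have right : IsPullback (Limits.pullback.snd g h) (Limits.pullback.fst g h) h g :=
    (IsPullback.of_hasPullback g h).flip
  have left : IsPullback l (Limits.pullback.fst (f ≫ g) h) (Limits.pullback.fst g h) f :=
    IsPullback.of_right outer hl1 right
  have h1 : EGA43.IsOpenAt l.base x' :=
    Groth.Agent.Lib.Helper78.UnivOpenAt.isOpenAt_snd_of_isPullback left.flip hf x' hx'
  have hy : (Limits.pullback.fst g h).base (l.base x') = f.base x := by
    have e : (l ≫ Limits.pullback.fst g h).base x' = (Limits.pullback.fst (f ≫ g) h ≫ f).base x' := by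
      rw [hl1]
    rw [← hx']
    exact e
  have h2 : EGA43.IsOpenAt (Limits.pullback.snd g h).base (l.base x') := hg Z' h _ hy
  have h3 := Groth.Agent.Lib.Helper78.OpenAt.IsOpenAt.comp h2 h1
  have e : (Limits.pullback.snd g h).base ∘ l.base = (Limits.pullback.snd (f ≫ g) h).base := by
    have e' : (l ≫ Limits.pullback.snd g h).base = (Limits.pullback.snd (f ≫ g) h).base := by
      rw [hl2]
    funext q
    exact congrArg (fun φ => φ q) e'
  exact Groth.Agent.Lib.Helper78.OpenAt.IsOpenAt.congr e h3

end Groth.Agent.S4925
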