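import Groth.Statements.S4926
import Groth.Agent.Lib.Helper78.UnivOpenAt

set_option autoImplicit false
open CategoryTheory AlgebraicGeometry
universe u v w
open EGA43

namespace Groth.Agent.S4926

/-- Let f : X ⟶ Y and g : Y ⟶ Z be morphisms of schemes and x a point of X. If f ≫ g is universally open
at x, then g is universally open at the point f x. -/
theorem result {X Y Z : Scheme.{u}} (f : X ⟶ Y) (g : Y ⟶ Z) (x : X)
    (h : EGA43.IsUnivOpenAt (f ≫ g) x) : EGA43.IsUnivOpenAt g (f.base x) := by
  intro Z' k y' hy'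
  let l : Limits.pullback (f ≫ g) k ⟶ Limits.pullback g k :=
    Limits.pullback.lift (Limits.pullback.fst (f ≫ g) k ≫ f) (Limits.pullback.snd (f ≫ g) k)
      (by rw [Category.assoc]; exact Limits.pullback.condition)
  have hl1 : l ≫ Limits.pullback.fst g k = Limits.pullback.fst (f ≫ g) k ≫ f :=
    Limits.pullback.lift_fst _ _ _
  have hl2 : l ≫ Limits.pullback.snd g k = Limits.pullback.snd (f ≫ g) k :=
    Limits.pullback.lift_snd _ _ _
  have outer : IsPullback (l ≫ Limits.pullback.snd g k) (Limits.pullback.fst (f ≫ g) k) k (f ≫ g) := by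
    rw [hl2]
    exact (IsPullback.of_hasPullback (f ≫ g) k).flip
  have right : IsPullback (Limits.pullback.snd g k) (Limits.pullback.fst g k) k g :=
    (IsPullback.of_hasPullback g k).flip
  have left : IsPullback l (Limits.pullback.fst (f ≫ g) k) (Limits.pullback.fst g k) f :=
    IsPullback.of_right outer hl1 right
  obtain ⟨p, hp1, hp2⟩ :=
    Groth.Agent.Lib.Helper78.UnivOpenAt.exists_preimage_of_isPullback left.flip x y' hy'.symm
  have h1 : EGA43.IsOpenAt (Limits.pullback.snd (f ≫ g) k).base p := h Z' k p hp1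
  have e : (Limits.pullback.snd (f ≫ g) k).base = (Limits.pullback.snd g k).base ∘ l.base := by
    have e' : (l ≫ Limits.pullback.snd g k).base = (Limits.pullback.snd (f ≫ g) k).base := by
      rw [hl2]
    funext q
    exact (congrArg (fun φ => φ q) e').symm
  have h2 : EGA43.IsOpenAt ((Limits.pullback.snd g k).base ∘ l.base) p :=
    Groth.Agent.Lib.Helper78.OpenAt.IsOpenAt.congr e h1
  have h3 := Groth.Agent.Lib.Helper78.OpenAt.IsOpenAt.of_comp l.continuous h2
  rw [hp2] at h3
  exact h3

end Groth.Agent.S4926
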