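import Groth.Statements.S4919
import Groth.Agent.Lib.Helper73.OpenAtPoint
import Groth.Agent.Lib.Helper73.ClosureFibreDim
-- import your own Groth.Agent.* helpers here

set_option autoImplicit false
open CategoryTheory AlgebraicGeometry
universe u v w
open EGA43

namespace Groth.Agent.S4919
open Groth.Agent.Lib.Helper73.SchemeDim Groth.Agent.Lib.Helper73.RelHt

/-- Let Y be an irreducible locally Noetherian scheme with generic point η, f : X ⟶ Y a morphism locally
of finite type, y a point of Y and Z an irreducible component of the fibre f⁻¹(y) (a maximal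
irreducible subset of f⁻¹(y), with the topology induced from X) such that f is open at the generic
point ζ of Z. Then there is an irreducible component X' of X containing Z and dominating Y such that
the local dimension of X' ∩ f⁻¹(y) at ζ equals dim Z, and dim Z = dim (X' ∩ f⁻¹(η)). (The published
statement writes the middle term as the dimension of the whole of X' ∩ f⁻¹(y); its proof yields only
the local dimension at the generic point of Z, and the global equality can fail: for the
endomorphism (a, b) ↦ (ab, b² − b) of the affine plane over a field, the fibre over the origin is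
the line b = 0 together with the isolated point (0, 1), at which the map is étale, hence open; with
Z that point, X' is the whole plane, X' ∩ f⁻¹(y) has dimension 1 and dim Z = 0. So the local form is
stated here.) -/
theorem result {X Y : Scheme.{u}} [IrreducibleSpace Y]
    [IsLocallyNoetherian Y] (f : X ⟶ Y) [LocallyOfFiniteType f] (y : Y) (Z : Set X)
    (hZy : Z ⊆ f.base ⁻¹' {y}) (hZ : IsIrreducible Z)
    (hZmax : ∀ Z' : Set X, IsIrreducible Z' → Z' ⊆ f.base ⁻¹' {y} → Z ⊆ Z' → Z' = Z)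
    (hopen : ∀ ζ ∈ Z, Z ⊆ closure {ζ} → EGA43.IsOpenAt f.base ζ) :
    ∃ X' ∈ irreducibleComponents (X : Type u), Z ⊆ X' ∧ Dense (f.base '' X') ∧
      (∀ ζ ∈ Z, Z ⊆ closure {ζ} → ∀ hζ : ζ ∈ X' ∩ f.base ⁻¹' {y},
        FlatMor.localDim ↥(X' ∩ f.base ⁻¹' {y}) ⟨ζ, hζ⟩ = topologicalKrullDim ↥Z) ∧
      topologicalKrullDim ↥Z = topologicalKrullDim ↥(X' ∩ f.base ⁻¹' {genericPoint Y}) := by
  haveI : IsLocallyNoetherian X := LocallyOfFiniteType.isLocallyNoetherian f
  -- irreducibility of sets squeezed between a set and its closure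
  have key : ∀ (S₀ S : Set X), IsIrreducible S₀ → S₀ ⊆ S → S ⊆ closure S₀ → IsIrreducible S := by
    intro S₀ S hS₀ h1 h2
    refine ⟨hS₀.nonempty.mono h1, ?_⟩
    rintro U V hU hV ⟨a, haS, haU⟩ ⟨b, hbS, hbV⟩
    obtain ⟨a', ha'U, ha'S₀⟩ := mem_closure_iff.mp (h2 haS) U hU haU
    obtain ⟨b', hb'V, hb'S₀⟩ := mem_closure_iff.mp (h2 hbS) V hV hbV
    obtain ⟨c, hcS₀, hcUV⟩ := hS₀.isPreirreducible U V hU hV ⟨a', ha'S₀, ha'U⟩ ⟨b', hb'S₀, hb'V⟩
    exact ⟨c, h1 hcS₀, hcUV⟩
  have hZne : Z.Nonempty := hZ.nonempty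
  obtain ⟨ζ, hζ⟩ := QuasiSober.sober hZ.closure isClosed_closure
  have hζcl : closure ({ζ} : Set X) = closure Z := hζ.def
  have hZsub : Z ⊆ closure {ζ} := by rw [hζcl]; exact subset_closure
  have hfζ : f.base ζ = y := by
    obtain ⟨z, hz⟩ := hZne
    have h1 : ζ ⤳ z := specializes_iff_mem_closure.mpr (hZsub hz)
    have h2 : f.base ζ ⤳ y := by
      have := h1.map f.continuous
      rwa [show f.base z = y from hZy hz] at this
    have h3 : y ⤳ f.base ζ := by
      have hζmem : ζ ∈ closure Z := by rw [← hζcl]; exact subset_closure rfl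
      have : f.base ζ ∈ closure (f.base '' Z) :=
        image_closure_subset_closure_image f.continuous ⟨ζ, hζmem, rfl⟩
      have hsub : f.base '' Z ⊆ {y} := by
        rintro _ ⟨z, hz, rfl⟩
        exact hZy hz
      exact specializes_iff_mem_closure.mpr (closure_mono hsub this)
    exact (h2.antisymm h3).eq
  subst hfζ
  have hZeq : closure ({ζ} : Set X) ∩ f.base ⁻¹' {f.base ζ} = Z := by
    apply hZmax
    · rw [hζcl]
      exact key Z _ hZ (Set.subset_inter subset_closure hZy) Set.inter_subset_left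
    · exact Set.inter_subset_right
    · exact Set.subset_inter hZsub hZy
  have hζZ : ζ ∈ Z := by
    rw [← hZeq]; exact ⟨subset_closure rfl, rfl⟩
  obtain ⟨e, he⟩ := exists_trdeg_residueField_eq_nat' f ζ
  have hopenζ := hopen ζ hζZ hZsub
  have hζmax : ∀ t : X, t ⤳ ζ → f.base t = f.base ζ → t = ζ := by
    intro t ht hft
    have hirr : IsIrreducible (closure ({t} : Set X) ∩ f.base ⁻¹' {f.base ζ}) :=
      key {t} _ isIrreducible_singleton
        (Set.singleton_subset_iff.mpr ⟨subset_closure rfl, hft⟩) Set.inter_subset_left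
    have h1 := hZmax _ hirr Set.inter_subset_right (fun z hz =>
      ⟨ht.closure_subset (hZsub hz), hZy hz⟩)
    have htZ : t ∈ Z := by
      rw [← h1]; exact ⟨subset_closure rfl, hft⟩
    have : ζ ⤳ t := specializes_iff_mem_closure.mpr (hZsub htZ)
    exact (ht.antisymm this).eq
  -- the core lemma
  have hηy : genericPoint Y ⤳ f.base ζ := genericPoint_specializes _
  obtain ⟨r, hr⟩ := ENat.ne_top_iff_exists.mp (relHt_lt_top hηy).ne
  obtain ⟨ξ₀, hξ₀ζ, hfξ₀, hξ₀F⟩ :=
    exists_specializes_fibreDimAt_of_isOpenAt f ζ e he hopenζ r _ hηy hr.symm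
  obtain ⟨ξ₁, m, hξ₁ξ₀, hξ₁f, hnξ₁, hFξ₀⟩ := exists_specializes_trdeg_eq_fibreDimAt f ξ₀
  have hem : e ≤ m := by
    rw [hFξ₀] at hξ₀F; exact_mod_cast hξ₀F
  obtain ⟨ξ, hξmax, hξξ₁⟩ := exists_maximal_specializes ξ₁
  have hfξ : f.base ξ = genericPoint Y := by
    have h1 : f.base ξ ⤳ genericPoint Y := by
      rw [← hfξ₀, ← hξ₁f]; exact hξξ₁.map f.continuous
    exact (h1.antisymm (genericPoint_specializes _)).eq
  obtain ⟨nξ, hnξ⟩ := exists_trdeg_residueField_eq_nat' f ξ
  have hmnξ : m ≤ nξ := trdeg_le_trdeg_of_specializes_of_fibre' f hξξ₁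
    (hfξ.trans (hξ₁f.trans hfξ₀).symm) nξ m hnξ hnξ₁
  have hξζ : ξ ⤳ ζ := hξξ₁.trans (hξ₁ξ₀.trans hξ₀ζ)
  have hmemζ : ζ ∈ closure ({ξ} : Set X) ∩ f.base ⁻¹' {f.base ζ} := ⟨hξζ.mem_closure, rfl⟩
  obtain ⟨-, t, k, -, htζ, htf, hnt, hL⟩ :=
    localDim_closed_inter_fibre f (closure {ξ}) isClosed_closure ζ hmemζ
  have htζeq : t = ζ := hζmax t htζ htf
  have hke : k = e := by
    have h1 : @Algebra.trdeg (Y.residueField (f.base ζ)) (X.residueField ζ) _ _
        (f.residueFieldMap ζ).hom.toAlgebra = k := by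
      rw [← trdeg_residueFieldMap_congr_pt f htζeq]; exact hnt
    have : ((k : ℕ) : Cardinal.{u}) = e := by rw [← h1, ← he]
    exact_mod_cast this
  have hlow := trdeg_le_localDim_closure_inter_fibre f hξζ nξ hnξ hmemζ
  rw [hL, hke] at hlow
  have hnξe : nξ ≤ e := by exact_mod_cast hlow
  have hnξeq : nξ = e := by omega
  have hdimZ : topologicalKrullDim ↥Z = (e : WithBot ℕ∞) := by
    rw [← hZeq]; exact topologicalKrullDim_closure_inter_fibre f ζ e he
  refine ⟨closure {ξ}, closure_singleton_mem_irreducibleComponents_of_maximal ξ hξmax, ?_, ?_, ?_, ?_⟩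
  · exact hZsub.trans hξζ.closure_subset
  · rw [dense_iff_closure_eq, closure_image_closure f.continuous, Set.image_singleton, hfξ]
    exact (genericPoint_spec Y).def
  · intro ζ' hζ'Z hZζ' hζ'
    have hζ'eq : ζ' = ζ :=
      ((specializes_iff_mem_closure.mpr (hZζ' hζZ)).antisymm
        (specializes_iff_mem_closure.mpr (hZsub hζ'Z))).eq
    subst hζ'eq
    rw [hdimZ, hL, hke]
  · rw [hdimZ, ← hfξ, topologicalKrullDim_closure_inter_fibre f ξ nξ hnξ, hnξeq]

end Groth.Agent.S4919
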