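import Groth.Statements.S3456
import Groth.Agent.Lib.Helper73.Equidim2
-- import your own Groth.Agent.* helpers here

set_option autoImplicit false
open CategoryTheory AlgebraicGeometry
universe u
open EGA43

namespace Groth.Agent.S3456
open Groth.Agent.Lib.Helper73.SchemeDim

/-- Let Y be locally Noetherian, f : X ⟶ Y locally of finite type and x a point of X; let X_j run over
the (finitely many) irreducible components of X containing x. Then f is equidimensional at x if and
only if there is a natural number e such that for every X_j: the closure Y_j of f(X_j) is an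
irreducible component of Y; for every point η of Y whose closure equals Y_j (i.e. the generic point
of Y_j), the fibre X_j ∩ f⁻¹(η) has topological Krull dimension e; and the local dimension at x of
X_j ∩ f⁻¹(f x) is e. All subsets of X carry the induced topology. -/
theorem result {X Y : Scheme.{u}} [IsLocallyNoetherian Y] (f : X ⟶ Y)
    [LocallyOfFiniteType f] (x : X) :
    EGA43.IsEquidimAt f x ↔
      ∃ e : ℕ, ∀ Xj ∈ irreducibleComponents (X : Type u), ∀ hx : x ∈ Xj,
        closure (f.base '' Xj) ∈ irreducibleComponents (Y : Type u) ∧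
        (∀ η : Y, closure ({η} : Set Y) = closure (f.base '' Xj) →
          topologicalKrullDim ↥(Xj ∩ f.base ⁻¹' {η}) = e) ∧
        FlatMor.localDim ↥(Xj ∩ f.base ⁻¹' {f.base x}) ⟨x, ⟨hx, Set.mem_singleton (f.base x)⟩⟩ = e := by
  haveI : IsLocallyNoetherian X := LocallyOfFiniteType.isLocallyNoetherian f
  rw [isEquidimAt_iff]
  -- image closure of a component
  have himg : ∀ ξ : X, closure (f.base '' closure ({ξ} : Set X)) = closure {f.base ξ} := by
    intro ξ
    rw [closure_image_closure f.continuous, Set.image_singleton]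
  constructor
  · rintro ⟨e, U, hxU, hA, hB⟩
    refine ⟨e, fun Xj hXj hx => ?_⟩
    obtain ⟨ξ, hξmax, rfl⟩ := exists_maximal_closure_eq_of_mem_irreducibleComponents hXj
    have hξx : ξ ⤳ x := specializes_iff_mem_closure.mpr hx
    have hξU : ξ ∈ U := hξx.mem_open U.isOpen hxU
    obtain ⟨hfξmax, -⟩ := hA ξ hξU hξmax
    have hξfib : ∀ z' : X, z' ⤳ ξ → f.base z' = f.base ξ → z' = ξ := fun z' h _ => hξmax z' h
    have hnξ := hB ξ hξU hξfib
    refine ⟨?_, ?_, ?_⟩
    · rw [himg]
      exact closure_singleton_mem_irreducibleComponents_of_maximal _ hfξmax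
    · intro η hη
      rw [himg] at hη
      have hηeq : η = f.base ξ := by
        have h1 : η ⤳ f.base ξ := by
          rw [specializes_iff_mem_closure, hη]; exact subset_closure rfl
        have h2 : f.base ξ ⤳ η := by
          rw [specializes_iff_mem_closure, ← hη]; exact subset_closure rfl
        exact (h1.antisymm h2).eq
      rw [hηeq]
      exact topologicalKrullDim_closure_inter_fibre f ξ e hnξ
    · obtain ⟨h1, ζ, n, hζT, hζsp, hζf, hnζ, hL⟩ :=
        localDim_closed_inter_fibre f (closure {ξ}) isClosed_closure x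
          ⟨hx, Set.mem_singleton (f.base x)⟩
      rw [hL]
      -- lower bound: Chevalley inside the closed subscheme
      have hlow : e ≤ n := by
        -- use a generization `ζ'` of `x` in `closure ξ ∩ fibre` ... via Chevalley on the subscheme
        set ι := (Scheme.IdealSheafData.vanishingIdeal
          (⟨closure {ξ}, isClosed_closure⟩ : TopologicalSpace.Closeds X)).subschemeι with hι
        have hrange : Set.range ι.base = closure {ξ} := by
          rw [hι, Scheme.IdealSheafData.range_subschemeι,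
            Scheme.IdealSheafData.coe_support_vanishingIdeal]
          rfl
        obtain ⟨w, hw⟩ := hrange.superset hx
        obtain ⟨ω, hω⟩ := hrange.superset (subset_closure (Set.mem_singleton ξ))
        have hsp : ω ⤳ w := by
          rw [← ι.isEmbedding.isInducing.specializes_iff, hω, hw]; exact hξx
        have hnω : @Algebra.trdeg (Y.residueField ((ι ≫ f).base ω)) _ _ _
            ((ι ≫ f).residueFieldMap ω).hom.toAlgebra = e := by
          rw [trdeg_residueFieldMap_comp ι f ω, trdeg_residueFieldMap_congr_pt f hω]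
          exact hnξ
        have h2 := trdeg_le_fibreDimAt' (ι ≫ f) hsp e hnω
        have hmem : ι.base w ∈ closure {ξ} ∩ f.base ⁻¹' {f.base (ι.base w)} := by
          rw [hw]; exact ⟨hx, Set.mem_singleton _⟩
        rw [fibreDimAt_comp_preimm ι f w (closure {ξ}) hrange hmem] at h2
        have h3 : FlatMor.localDim ↥(closure {ξ} ∩ f.base ⁻¹' {f.base (ι.base w)}) ⟨ι.base w, hmem⟩ =
            (n : WithBot ℕ∞) := by
          subst hw
          exact hL
        rw [h3] at h2
        exact_mod_cast h2
      -- upper bound via a maximal point of the fibre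
      have hup : n ≤ e := by
        obtain ⟨ζ₁, n₁, hζ₁sp, hζ₁f, hζ₁max, hnζ₁, -⟩ :=
          exists_maximal_in_fibre_trdeg_eq_fibreDimAt f ζ
        have hζ₁U : ζ₁ ∈ U := (hζ₁sp.trans hζsp).mem_open U.isOpen hxU
        have h4 := hB ζ₁ hζ₁U hζ₁max
        have h5 := trdeg_le_trdeg_of_specializes_of_fibre' f hζ₁sp hζ₁f e n h4 hnζ
        exact h5
      have : n = e := le_antisymm hup hlow
      rw [this]
  · rintro ⟨e, h⟩
    obtain ⟨U₀, hxU₀, hU₀⟩ := exists_open_forall_exists_specializes X x
    -- data attached to a maximal generization of `x`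
    have hcomp : ∀ ξ : X, (∀ ξ' : X, ξ' ⤳ ξ → ξ' = ξ) → ξ ⤳ x →
        (∀ η' : Y, η' ⤳ f.base ξ → η' = f.base ξ) ∧
        @Algebra.trdeg (Y.residueField (f.base ξ)) (X.residueField ξ) _ _
          (f.residueFieldMap ξ).hom.toAlgebra = e ∧
        (∀ ζ : X, ζ ∈ closure ({ξ} : Set X) → ζ ⤳ x → f.base ζ = f.base x → ∀ n : ℕ,
          @Algebra.trdeg (Y.residueField (f.base ζ)) (X.residueField ζ) _ _
            (f.residueFieldMap ζ).hom.toAlgebra = n → n ≤ e) := by
      intro ξ hξmax hξx
      have hx : x ∈ closure ({ξ} : Set X) := hξx.mem_closure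
      obtain ⟨h1, h2, h3⟩ := h (closure {ξ})
        (closure_singleton_mem_irreducibleComponents_of_maximal ξ hξmax) hx
      rw [himg] at h1
      refine ⟨maximal_of_closure_singleton_mem_irreducibleComponents _ h1, ?_, ?_⟩
      · have h4 := h2 (f.base ξ) (himg ξ).symm
        obtain ⟨nξ, hnξ⟩ := exists_trdeg_residueField_eq_nat' f ξ
        have h5 := topologicalKrullDim_closure_inter_fibre f ξ nξ hnξ
        rw [h5] at h4
        have : nξ = e := by exact_mod_cast h4
        rw [hnξ, this]
      · intro ζ hζT hζsp hζf n hn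
        obtain ⟨h6, -⟩ := localDim_closed_inter_fibre f (closure {ξ}) isClosed_closure x
          ⟨hx, Set.mem_singleton (f.base x)⟩
        have h7 := h6 ζ hζT hζsp hζf n hn
        rw [h3] at h7
        exact_mod_cast h7
    have hFx : FlatMor.fibreDimAt f x ≤ e := by
      obtain ⟨ζ₁, n₁, hζ₁sp, hζ₁f, -, hnζ₁, hF⟩ := exists_maximal_in_fibre_trdeg_eq_fibreDimAt f x
      obtain ⟨ξ, hξmax, hξζ₁⟩ := exists_maximal_specializes ζ₁
      obtain ⟨-, -, h3⟩ := hcomp ξ hξmax (hξζ₁.trans hζ₁sp)
      have := h3 ζ₁ hξζ₁.mem_closure hζ₁sp hζ₁f n₁ hnζ₁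
      rw [hF]
      exact_mod_cast this
    let V : X.Opens := ⟨{x' : X | FlatMor.fibreDimAt f x' ≤ e}, isOpen_setOf_fibreDimAt_le f e⟩
    refine ⟨e, U₀ ⊓ V, ⟨hxU₀, hFx⟩, ?_, ?_⟩
    · intro ξ hξU hξmax
      obtain ⟨ξ₀, hξ₀ξ, hξ₀x⟩ := hU₀ ξ hξU.1
      have : ξ₀ = ξ := hξmax ξ₀ hξ₀ξ
      subst this
      obtain ⟨h1, -, -⟩ := hcomp ξ₀ hξmax hξ₀x
      exact ⟨h1, hξ₀x.map f.continuous⟩
    · intro z hzU hzmax
      obtain ⟨nz, hnz⟩ := exists_trdeg_residueField_eq_nat' f z
      have hFz := fibreDimAt_eq_trdeg_of_maximal_in_fibre f z hzmax nz hnz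
      have hup : nz ≤ e := by
        have : FlatMor.fibreDimAt f z ≤ e := hzU.2
        rw [hFz] at this
        exact_mod_cast this
      obtain ⟨ξ, hξmax, hξz⟩ := exists_maximal_specializes z
      obtain ⟨ξ₀, hξ₀z, hξ₀x⟩ := hU₀ z hzU.1
      -- `ξ` need not be `ξ₀`; use a maximal generization of `ξ₀`
      obtain ⟨ξ₁, hξ₁max, hξ₁ξ₀⟩ := exists_maximal_specializes ξ₀
      obtain ⟨-, hnξ₁, -⟩ := hcomp ξ₁ hξ₁max (hξ₁ξ₀.trans hξ₀x)
      have hlow := trdeg_le_fibreDimAt' f (hξ₁ξ₀.trans hξ₀z) e hnξ₁
      rw [hFz] at hlow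
      have hlow' : e ≤ nz := by exact_mod_cast hlow
      have : nz = e := le_antisymm hup hlow'
      rw [hnz, this]

end Groth.Agent.S3456
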