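import Groth.Statements.S4943
import Groth.Agent.Lib.Helper73.Equidim2
import Groth.Agent.S3456
-- import your own Groth.Agent.* helpers here

set_option autoImplicit false
open CategoryTheory AlgebraicGeometry
universe u v w
open EGA43

namespace Groth.Agent.S4943
open Groth.Agent.Lib.Helper73.SchemeDim

/-- Let Y be an irreducible locally Noetherian scheme, f : X ⟶ Y a morphism locally of finite type which
is equidimensional at the point x, y = f x and e = dim_x(X_y). Let X' be an irreducible closed
subset of X containing x, with generic point x', and n a natural number such that codim(X', X) ≤ n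
(the codimension being dim O_{X,x'}) and dim_x(X' ∩ X_y) ≤ e − n. Then codim(X', X) = n, dim_x(X' ∩
X_y) = e − n, and the restriction of f to X' with its reduced subscheme structure is equidimensional
at x. -/
theorem result {X Y : Scheme.{u}} [IrreducibleSpace Y]
    [IsLocallyNoetherian Y] (f : X ⟶ Y) [LocallyOfFiniteType f] (x : X) (hf : EGA43.IsEquidimAt f x)
    (X' : TopologicalSpace.Closeds X) (x' : X) (hx' : closure ({x'} : Set X) = (X' : Set X)) (hx : x ∈ X') (n : ℕ)
    (hcodim : ringKrullDim (X.presheaf.stalk x') ≤ n)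
    (hdim : FlatMor.localDim ↥((X' : Set X) ∩ f.base ⁻¹' {f.base x}) ⟨x, ⟨hx, rfl⟩⟩ + n ≤ FlatMor.fibreDimAt f x) :
    ringKrullDim (X.presheaf.stalk x') = n ∧
      FlatMor.localDim ↥((X' : Set X) ∩ f.base ⁻¹' {f.base x}) ⟨x, ⟨hx, rfl⟩⟩ + n = FlatMor.fibreDimAt f x ∧
      ∀ w : ↥(Scheme.IdealSheafData.vanishingIdeal X').subscheme,
        (Scheme.IdealSheafData.vanishingIdeal X').subschemeι.base w = x →
        EGA43.IsEquidimAt ((Scheme.IdealSheafData.vanishingIdeal X').subschemeι ≫ f) w := by
  haveI : IsLocallyNoetherian X := LocallyOfFiniteType.isLocallyNoetherian f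
  obtain ⟨e, U, hxU, hA, hB⟩ := (isEquidimAt_iff f x).mp hf
  set ι := (Scheme.IdealSheafData.vanishingIdeal X').subschemeι with hι
  have hrange : Set.range ι.base = (X' : Set X) := by
    rw [hι, Scheme.IdealSheafData.range_subschemeι, Scheme.IdealSheafData.coe_support_vanishingIdeal]
  have hx'x : x' ⤳ x := by
    rw [specializes_iff_mem_closure, hx']; exact hx
  have hx'U : x' ∈ U := hx'x.mem_open U.isOpen hxU
  have hx'X' : x' ∈ (X' : Set X) := by rw [← hx']; exact subset_closure rfl
  -- the local dimension `d'`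
  obtain ⟨hL1, ζ₀, d', hζ₀T, hζ₀sp, hζ₀f, hnζ₀, hL⟩ :=
    localDim_closed_inter_fibre f (X' : Set X) X'.isClosed x ⟨hx, rfl⟩
  -- `fibreDimAt f x = e`
  have hFx : FlatMor.fibreDimAt f x = e := by
    obtain ⟨ζ₁, n₁, hζ₁sp, hζ₁f, hζ₁max, hnζ₁, hF⟩ := exists_maximal_in_fibre_trdeg_eq_fibreDimAt f x
    have h1 := hB ζ₁ (hζ₁sp.mem_open U.isOpen hxU) hζ₁max
    have : ((n₁ : ℕ) : Cardinal.{u}) = e := by rw [← hnζ₁, ← h1]
    have : n₁ = e := by exact_mod_cast this
    rw [hF, this]
  have hFx' : FlatMor.fibreDimAt f x' = e := by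
    obtain ⟨ζ₁, n₁, hζ₁sp, hζ₁f, hζ₁max, hnζ₁, hF⟩ := exists_maximal_in_fibre_trdeg_eq_fibreDimAt f x'
    have h1 := hB ζ₁ (hζ₁sp.mem_open U.isOpen hx'U) hζ₁max
    have : ((n₁ : ℕ) : Cardinal.{u}) = e := by rw [← hnζ₁, ← h1]
    have : n₁ = e := by exact_mod_cast this
    rw [hF, this]
  rw [hL, hFx] at hdim
  have hdim' : d' + n ≤ e := by exact_mod_cast hdim
  -- Step 1: `n_{x'} ≤ d'`
  obtain ⟨nx', hnx'⟩ := exists_trdeg_residueField_eq_nat' f x'
  have hstep1 : nx' ≤ d' := by
    have := hL1 x' hx'X' hx'x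
    -- x' need not be in the fibre of x; use Chevalley on the subscheme instead
    obtain ⟨w, hw⟩ := hrange.superset hx
    obtain ⟨ω, hω⟩ := hrange.superset hx'X'
    have hsp : ω ⤳ w := by
      rw [← ι.isEmbedding.isInducing.specializes_iff, hω, hw]; exact hx'x
    have hnω : @Algebra.trdeg (Y.residueField ((ι ≫ f).base ω)) _ _ _
        ((ι ≫ f).residueFieldMap ω).hom.toAlgebra = nx' := by
      rw [trdeg_residueFieldMap_comp ι f ω, trdeg_residueFieldMap_congr_pt f hω]
      exact hnx'
    have h2 := trdeg_le_fibreDimAt' (ι ≫ f) hsp nx' hnω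
    have hmem : ι.base w ∈ (X' : Set X) ∩ f.base ⁻¹' {f.base (ι.base w)} := by
      rw [hw]; exact ⟨hx, rfl⟩
    rw [fibreDimAt_comp_preimm ι f w (X' : Set X) hrange hmem] at h2
    have h3 : FlatMor.localDim ↥((X' : Set X) ∩ f.base ⁻¹' {f.base (ι.base w)}) ⟨ι.base w, hmem⟩ =
        (d' : WithBot ℕ∞) := by
      subst hw
      exact hL
    rw [h3] at h2
    exact_mod_cast h2
  -- Step 3: the fibre local ring at `x'`
  obtain ⟨m', c, hm', hclen, hchead, hcf, -⟩ := exists_ltSeries_fibre_stalk f x'
  have hFeq := fibreDimAt_eq f x' nx' hnx'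
  rw [hm', hFx'] at hFeq
  have hm'eq : e = m' + nx' := by exact_mod_cast hFeq
  -- Step 4: `m' ≤ dim O_{X,x'} ≤ n`
  have hco : ringKrullDim (X.presheaf.stalk x') = Order.coheight x' := ringKrullDim_stalk_eq_coheight x'
  have hlen : (c.length : ℕ∞) ≤ Order.coheight x' := by
    rw [← hchead]; exact Order.length_le_coheight_head
  have hcoh_le : Order.coheight x' ≤ (n : ℕ∞) := by
    rw [hco] at hcodim
    exact_mod_cast hcodim
  have hm'n : m' ≤ n := by
    rw [hclen] at hlen
    exact_mod_cast hlen.trans hcoh_le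
  have hnm' : n ≤ m' := by omega
  have hmn : m' = n := le_antisymm hm'n hnm'
  have hcoh : Order.coheight x' = (n : ℕ∞) := by
    refine le_antisymm hcoh_le ?_
    rw [← hmn, ← hclen]; exact hlen
  have hd'eq : d' + n = e := by omega
  have hnx'eq : nx' = d' := by omega
  -- Step 5: `f x' = genericPoint Y`
  have hfx' : f.base x' = genericPoint Y := by
    have hlastmax : ∀ ξ' : X, ξ' ⤳ c.last → ξ' = c.last := by
      intro ξ' hsp
      by_contra hne
      have hle : c.last ≤ ξ' := hsp
      have hlt : c.last < ξ' := lt_iff_le_not_ge.mpr ⟨hle, fun h => hne (anti X ξ' c.last h hle)⟩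
      let c2 := c.snoc ξ' hlt
      have h1 : (c2.length : ℕ∞) ≤ Order.coheight c2.head := Order.length_le_coheight_head
      have h2 : c2.head = x' := by
        rw [RelSeries.head_snoc]; exact hchead
      have h3 : c2.length = c.length + 1 := RelSeries.snoc_length _ _ _
      rw [h2, h3, hcoh, hclen, hmn] at h1
      have : n + 1 ≤ n := by exact_mod_cast h1
      omega
    have hlastx' : c.last ⤳ x' := by
      have : c.head ≤ c.last := LTSeries.head_le_last c
      rw [hchead] at this
      exact this
    have hlastU : c.last ∈ U := hlastx'.mem_open U.isOpen hx'U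
    obtain ⟨hmaxY, -⟩ := hA c.last hlastU hlastmax
    have h4 : genericPoint Y = f.base c.last := hmaxY _ (genericPoint_specializes _)
    rw [h4]
    exact (hcf _).symm
  refine ⟨?_, ?_, ?_⟩
  · rw [hco, hcoh]; rfl
  · rw [hL, hFx]
    exact_mod_cast hd'eq
  · intro w hw
    set g := ι ≫ f with hg
    obtain ⟨ω, hω⟩ := hrange.superset hx'X'
    -- `ω` is a generic point of `↥(Scheme.IdealSheafData.vanishingIdeal X').subscheme`
    have hωtop : ∀ z : ↥(Scheme.IdealSheafData.vanishingIdeal X').subscheme, ω ⤳ z := by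
      intro z
      rw [← ι.isEmbedding.isInducing.specializes_iff, hω, specializes_iff_mem_closure, hx', ← hrange]
      exact Set.mem_range_self z
    haveI : IrreducibleSpace ↥(Scheme.IdealSheafData.vanishingIdeal X').subscheme := by
      have hcl : closure ({ω} : Set ↥(Scheme.IdealSheafData.vanishingIdeal X').subscheme) = Set.univ := by
        ext z
        simp only [Set.mem_univ, iff_true]
        exact (hωtop z).mem_closure
      have hirr : IsIrreducible (Set.univ : Set ↥(Scheme.IdealSheafData.vanishingIdeal X').subscheme) := by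
        rw [← hcl]; exact isIrreducible_singleton.closure
      exact { isPreirreducible_univ := hirr.isPreirreducible, toNonempty := ⟨ω⟩ }
    have hnω : @Algebra.trdeg (Y.residueField (g.base ω)) _ _ _
        (g.residueFieldMap ω).hom.toAlgebra = d' := by
      rw [trdeg_residueFieldMap_comp ι f ω, trdeg_residueFieldMap_congr_pt f hω, ← hnx'eq]
      exact hnx'
    have hgω : g.base ω = genericPoint Y := by
      change f.base (ι.base ω) = genericPoint Y
      rw [hω]; exact hfx'
    rw [Groth.Agent.S3456.result]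
    refine ⟨d', fun Zj hZj hwZj => ?_⟩
    rw [irreducibleComponents_eq_singleton, Set.mem_singleton_iff] at hZj
    subst hZj
    have hcluniv : closure (g.base '' (Set.univ : Set ↥(Scheme.IdealSheafData.vanishingIdeal X').subscheme)) = Set.univ := by
      apply Set.eq_univ_of_univ_subset
      intro y _
      have h1 : genericPoint Y ⤳ y := genericPoint_specializes y
      have h2 : genericPoint Y ∈ g.base '' (Set.univ : Set ↥(Scheme.IdealSheafData.vanishingIdeal X').subscheme) := ⟨ω, trivial, hgω⟩
      exact closure_mono (Set.singleton_subset_iff.mpr h2) h1.mem_closure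
    refine ⟨?_, ?_, ?_⟩
    · rw [hcluniv, irreducibleComponents_eq_singleton]
      rfl
    · intro η' hη'
      rw [hcluniv] at hη'
      have hη'eq : η' = genericPoint Y := ((genericPoint_spec Y).eq hη').symm ▸ rfl
      have h5 := topologicalKrullDim_closure_inter_fibre g ω d' hnω
      have hset : closure ({ω} : Set ↥(Scheme.IdealSheafData.vanishingIdeal X').subscheme) ∩ g.base ⁻¹' {g.base ω} = Set.univ ∩ g.base ⁻¹' {η'} := by
        rw [hη'eq, hgω]
        congr 1
        ext z
        simp only [Set.mem_univ, iff_true]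
        exact (hωtop z).mem_closure
      rw [← hset]
      exact h5
    · obtain ⟨-, ζ, k, -, hζsp, hζf, hnζ, hLg⟩ :=
        localDim_closed_inter_fibre g (Set.univ : Set ↥(Scheme.IdealSheafData.vanishingIdeal X').subscheme) isClosed_univ w
          ⟨hwZj, Set.mem_singleton (g.base w)⟩
      rw [hLg]
      -- `k = fibreDimAt g w = d'`
      obtain ⟨hL1g, -⟩ := localDim_closed_inter_fibre g (Set.univ : Set ↥(Scheme.IdealSheafData.vanishingIdeal X').subscheme) isClosed_univ w
          ⟨hwZj, Set.mem_singleton (g.base w)⟩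
      have hmem : ι.base w ∈ (X' : Set X) ∩ f.base ⁻¹' {f.base (ι.base w)} := by
        rw [hw]; exact ⟨hx, rfl⟩
      have hFg := fibreDimAt_comp_preimm ι f w (X' : Set X) hrange hmem
      have h3 : FlatMor.localDim ↥((X' : Set X) ∩ f.base ⁻¹' {f.base (ι.base w)}) ⟨ι.base w, hmem⟩ =
          (d' : WithBot ℕ∞) := by
        subst hw
        exact hL
      rw [h3] at hFg
      -- upper bound `k ≤ d'`
      have h6 := trdeg_le_fibreDimAt_of_fibre' g hζsp hζf k hnζ
      rw [hFg] at h6
      have hk1 : k ≤ d' := by exact_mod_cast h6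
      -- lower bound `d' ≤ k`
      obtain ⟨ζ₂, k₂, hζ₂sp, hζ₂f, hnζ₂, hF₂⟩ := exists_specializes_trdeg_eq_fibreDimAt g w
      have h7 := hL1g ζ₂ trivial hζ₂sp hζ₂f k₂ hnζ₂
      rw [hLg] at h7
      rw [hFg] at hF₂
      have hk2 : d' ≤ k := by
        have : d' = k₂ := by exact_mod_cast hF₂
        rw [this]
        exact_mod_cast h7
      have : k = d' := le_antisymm hk1 hk2
      rw [this]

end Groth.Agent.S4943
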