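import Groth.Statements.S4933
import Mathlib
import Groth.Agent.Lib.Helper21.UnivOpenAtDim
-- import your own Groth.Agent.* helpers here

set_option autoImplicit false
open CategoryTheory AlgebraicGeometry
universe u v w
open EGA43

namespace Groth.Agent.S4933
open Groth.Agent.Lib.Helper21 Groth.Agent.Lib.Helper21.FieldDim Groth.Agent.Lib.Helper21.UnivOpenAtDim CategoryTheory.Limits

/-- Let f : X ⟶ Y be a morphism locally of finite type, x a point of X which is a maximal point of its
fibre X_y, y = f x. Consider: a) f is universally open at x; b) for every irreducible component Y₀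
of Y containing y, with generic point η, there is an irreducible component Z of X containing x and
dominating Y₀ such that dim_x(X_y) = dim_x(Z ∩ X_y) = dim(Z ∩ X_η); b') for every open neighbourhood
U of x and every generization y' of y one has dim(U ∩ X_{y'}) ≥ dim_x(X_y). Then a) implies b'), and
b') implies b). (Subsets of X carry the induced topology; dim_x(U ∩ X_y) = dim_x(X_y). The published
statement asserts moreover that b) implies b'); that implication can fail, because a generization y'
of y need not lie under any point of U ∩ Z: for the finite birational morphism from the affine plane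
onto the surface obtained from it by identifying two rational points p and q, at x = p condition b)
holds with all dimensions equal to 0, while for U the complement of a line L through q avoiding p
and y' the image of the generic point of L the set U ∩ X_{y'} is empty. So only a) ⇒ b') and b') ⇒
b) are stated here.) -/
theorem result {X Y : Scheme.{u}} (f : X ⟶ Y) [LocallyOfFiniteType f]
    (x : X) (hmax : ∀ x' : X, f.base x' = f.base x → x ∈ closure {x'} → x' = x) :
    (EGA43.IsUnivOpenAt f x → (∀ U : X.Opens, x ∈ U → ∀ y' : Y, y' ⤳ f.base x →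
        FlatMor.fibreDimAt f x ≤ topologicalKrullDim ↥((U : Set X) ∩ f.base ⁻¹' {y'}))) ∧
    ((∀ U : X.Opens, x ∈ U → ∀ y' : Y, y' ⤳ f.base x →
        FlatMor.fibreDimAt f x ≤ topologicalKrullDim ↥((U : Set X) ∩ f.base ⁻¹' {y'})) →
      (∀ Y₀ ∈ irreducibleComponents (Y : Type u), f.base x ∈ Y₀ →
        ∃ Z ∈ irreducibleComponents (X : Type u), ∃ hx : x ∈ Z, closure (f.base '' Z) = Y₀ ∧
          ∀ η : Y, closure ({η} : Set Y) = Y₀ →
            FlatMor.fibreDimAt f x = FlatMor.localDim ↥(Z ∩ f.base ⁻¹' {f.base x}) ⟨x, ⟨hx, rfl⟩⟩ ∧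
            FlatMor.localDim ↥(Z ∩ f.base ⁻¹' {f.base x}) ⟨x, ⟨hx, rfl⟩⟩ =
              topologicalKrullDim ↥(Z ∩ f.base ⁻¹' {η}))) := by
  have hmax' : ∀ x' : X, f x' = f x → x' ⤳ x → x' = x := fun x' h1 h2 =>
    hmax x' h1 (specializes_iff_mem_closure.mp h2)
  refine ⟨fun ha U hxU y' hy' => dim_le_of_isUnivOpenAt f x hmax' ha U hxU y' hy', ?_⟩
  intro hb Y₀ hY₀ hfxY₀
  have hY₀cl := isClosed_of_mem_irreducibleComponents Y₀ hY₀
  obtain ⟨η₀, hη₀⟩ : ∃ η₀ : Y, IsGenericPoint η₀ Y₀ :=
    ⟨hY₀.1.genericPoint, hY₀.1.isGenericPoint_genericPoint hY₀cl⟩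
  have hη₀max : ∀ t : Y, t ⤳ η₀ → t = η₀ := by
    intro t ht
    have := maximal_of_closure_singleton_mem_irreducibleComponents (x := η₀)
      (by rw [hη₀.def]; exact hY₀) t ht
    exact (ht.antisymm this).eq
  have hη₀x : η₀ ⤳ f x := hη₀.specializes hfxY₀
  obtain ⟨τ, hτx, hfτ, hτmax, hτd⟩ := exists_maximal_of_dim_le f x hmax' hb η₀ hη₀max hη₀x
  have hZ : closure ({τ} : Set X) ∈ irreducibleComponents X :=
    closure_singleton_mem_irreducibleComponents_of_maximal (fun z hz => by rw [hτmax z hz])
  have hxZ : x ∈ closure ({τ} : Set X) := hτx.mem_closure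
  have hfd : FlatMor.fibreDimAt f x = ((tdR f x : ℕ) : WithBot ℕ∞) := by
    apply le_antisymm
    · rw [fibreDimAt_le_iff]
      intro ξ hξ hfξ
      rw [hmax' ξ hfξ hξ]
    · exact tdR_le_fibreDimAt f x
  refine ⟨closure {τ}, hZ, hxZ, ?_, ?_⟩
  · rw [closure_image_closure f.continuous, Set.image_singleton]
    change closure {f τ} = Y₀
    rw [hfτ]; exact hη₀.def
  · intro η hη
    have hηη₀ : η = η₀ := IsGenericPoint.eq hη hη₀
    obtain ⟨-, ζ, n, -, hζx, hfζ, hζn, hloc⟩ :=
      Groth.Agent.Lib.Helper73.SchemeDim.localDim_closed_inter_fibre f (closure {τ}) isClosed_closure x ⟨hxZ, rfl⟩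
    have hζeq : ζ = x := hmax' ζ hfζ hζx
    rw [hζeq] at hζn
    have hn : n = tdR f x := by
      have h1 : trdegAt f x = (n : Cardinal) := hζn
      rw [trdegAt_eq_tdR] at h1
      exact_mod_cast h1.symm
    constructor
    · rw [hloc, hfd, hn]
    · rw [hloc, hn]
      symm
      apply le_antisymm
      · rw [dim_fibre_inter_le_iff' f η _ isClosed_closure.isLocallyClosed]
        intro p hp hfp
        have hsp : τ ⤳ p := specializes_iff_mem_closure.mpr hp
        have h1 := tdR_le_of_specializes f hsp (by rw [hfτ, hfp, hηη₀])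
        rw [hτd] at h1
        exact_mod_cast h1
      · have h1 := (dim_fibre_inter_le_iff' f η (closure ({τ} : Set X))
          isClosed_closure.isLocallyClosed _).mp le_rfl τ
          (subset_closure (Set.mem_singleton τ)) (hfτ.trans hηη₀.symm)
        rwa [hτd] at h1

end Groth.Agent.S4933
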