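import Groth.Statements.S19229
import Mathlib
-- import your own Groth.Agent.* helpers here

set_option autoImplicit false
universe u v
open SigmaLin

namespace Groth.Agent.S19229

/-- Let k be a field with a ring endomorphism σ, V a finite-dimensional k-vector space and T : V → V an
additive map with T (c • v) = σ c • T v. If some iterate of T sends v to 0 and v lies in the
k-linear span of the image of every iterate of T, then v = 0. In other words the union of the
kernels of the iterates of T and the intersection of the spans of their images meet only in 0. -/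
theorem result
    (k : Type u) [Field k] (σ : k →+* k)
    (V : Type v) [AddCommGroup V] [Module k V] [FiniteDimensional k V] (T : V →ₛₗ[σ] V) (v : V)
    (hnil : ∃ n : ℕ, (⇑T)^[n] v = 0)
    (hss : ∀ n : ℕ, v ∈ Submodule.span k (Set.range ((⇑T)^[n]))) : v = 0 := by
  classical
  obtain ⟨n, hn⟩ := hnil
  set W : ℕ → Submodule k V := fun m => Submodule.span k (Set.range ((⇑T)^[m])) with hW
  have hanti : ∀ m, W (m + 1) ≤ W m := by
    intro m
    apply Submodule.span_mono
    rintro _ ⟨y, rfl⟩
    exact ⟨T y, by rw [Function.iterate_succ_apply]⟩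
  have hT : ∀ m, ∀ x ∈ W m, T x ∈ W (m + 1) := by
    intro m x hx
    induction hx using Submodule.span_induction with
    | mem x hx =>
      obtain ⟨y, rfl⟩ := hx
      exact Submodule.subset_span ⟨y, by rw [Function.iterate_succ_apply']⟩
    | zero => simp
    | add x y _ _ hx hy => rw [map_add]; exact Submodule.add_mem _ hx hy
    | smul c x _ hx => rw [LinearMap.map_smulₛₗ]; exact Submodule.smul_mem _ _ hx
  have hantitone : Antitone W := antitone_nat_of_succ_le hanti
  obtain ⟨m₀, hm₀⟩ : ∃ m₀, ∀ m, m₀ ≤ m → W m₀ = W m := by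
    obtain ⟨m₀, h⟩ := IsArtinian.monotone_stabilizes (R := k) (M := V)
      ⟨fun m => OrderDual.toDual (W m), fun a b hab => hantitone hab⟩
    exact ⟨m₀, fun m hm => congrArg OrderDual.ofDual (h m hm)⟩
  have hW1 : W (m₀ + 1) = W m₀ := (hm₀ _ (Nat.le_succ _)).symm
  -- a basis of `W m₀`
  let b := Module.finBasis k (W m₀)
  have hTW : ∀ x ∈ W m₀, T x ∈ W m₀ := fun x hx => by
    have := hT m₀ x hx
    rwa [hW1] at this
  have hTb : ∀ i, T (b i : V) ∈ W m₀ := fun i => hTW _ (b i).2
  let w : Fin (Module.finrank k (W m₀)) → W m₀ := fun i => ⟨T (b i : V), hTb i⟩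
  -- every `T x`, `x ∈ W m₀`, is a σ-combination of the `w i`
  have hTx : ∀ x : W m₀, T (x : V) = ∑ i, σ (b.repr x i) • (w i : V) := by
    intro x
    conv_lhs => rw [← b.sum_repr x]
    simp only [Submodule.coe_sum, Submodule.coe_smul, map_sum, LinearMap.map_smulₛₗ]
    rfl
  have hspan : ⊤ ≤ Submodule.span k (Set.range w) := by
    rintro ⟨x, hx⟩ -
    have hx' : x ∈ W (m₀ + 1) := by rw [hW1]; exact hx
    -- show membership after mapping to V
    have key : ∀ y ∈ W (m₀ + 1), y ∈ Submodule.map (W m₀).subtype (Submodule.span k (Set.range w)) := by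
      intro y hy
      induction hy using Submodule.span_induction with
      | mem y hy =>
        obtain ⟨z, rfl⟩ := hy
        rw [Function.iterate_succ_apply']
        have hz : (⇑T)^[m₀] z ∈ W m₀ := Submodule.subset_span ⟨z, rfl⟩
        rw [show T ((⇑T)^[m₀] z) = T ((⟨(⇑T)^[m₀] z, hz⟩ : W m₀) : V) from rfl, hTx]
        refine Submodule.sum_mem _ fun i _ => Submodule.smul_mem _ _ ?_
        exact ⟨w i, Submodule.subset_span ⟨i, rfl⟩, rfl⟩
      | zero => exact Submodule.zero_mem _
      | add y z _ _ hy hz => exact Submodule.add_mem _ hy hz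
      | smul c y _ hy => exact Submodule.smul_mem _ _ hy
    obtain ⟨x', hx'mem, hx'eq⟩ := key x hx'
    have : x' = ⟨x, hx⟩ := Subtype.ext hx'eq
    rwa [this] at hx'mem
  have hli : LinearIndependent k w :=
    linearIndependent_of_top_le_span_of_card_eq_finrank hspan (by simp)
  -- injectivity of `T` on `W m₀`
  have hinj : ∀ x ∈ W m₀, T x = 0 → x = 0 := by
    intro x hx hTx0
    have h1 := hTx ⟨x, hx⟩
    rw [show ((⟨x, hx⟩ : W m₀) : V) = x from rfl, hTx0] at h1
    have h2 : ∑ i, σ (b.repr ⟨x, hx⟩ i) • w i = 0 := by
      apply Subtype.ext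
      simp only [Submodule.coe_sum, Submodule.coe_smul, Submodule.coe_zero]
      exact h1.symm
    have h3 := Fintype.linearIndependent_iff.mp hli _ h2
    have h4 : b.repr ⟨x, hx⟩ = 0 := by
      ext i
      have := h3 i
      simpa using (map_eq_zero σ).mp this
    have h5 : (⟨x, hx⟩ : W m₀) = 0 := by
      have := congrArg b.repr.symm h4
      simpa using this
    exact congrArg Subtype.val h5
  -- iterates stay in `W m₀`
  have hmem : ∀ j, (⇑T)^[j] v ∈ W m₀ := by
    intro j
    induction j with
    | zero => exact hss m₀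
    | succ j ih =>
      rw [Function.iterate_succ_apply']
      exact hTW _ ih
  -- descend
  have hdesc : ∀ j, (⇑T)^[j] v = 0 → v = 0 := by
    intro j
    induction j with
    | zero => intro h; simpa using h
    | succ j ih =>
      intro h
      rw [Function.iterate_succ_apply'] at h
      exact ih (hinj _ (hmem j) h)
  exact hdesc n hn

end Groth.Agent.S19229
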