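import Groth.Statements.S19230
import Mathlib
import Groth.Agent.S19229
-- import your own Groth.Agent.* helpers here

set_option autoImplicit false
universe u v
open SigmaLin

namespace Groth.Agent.S19230

/-- Let k be a field, σ a surjective ring endomorphism of k, V a finite-dimensional k-vector space and T
: V → V additive with T (c • v) = σ c • T v. Then the set of vectors killed by some iterate of T is
a k-subspace on which a single iterate of T vanishes, it is a complement of the intersection over n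
of the k-spans of the images of the n-th iterates, and T restricts to a bijection of that
intersection onto itself. -/
theorem result
    (k : Type u) [Field k] (σ : k →+* k) (hσ : Function.Surjective σ)
    (V : Type v) [AddCommGroup V] [Module k V] [FiniteDimensional k V] (T : V →ₛₗ[σ] V) :
    (∃ W : Submodule k V, (W : Set V) = {v : V | ∃ n : ℕ, (⇑T)^[n] v = 0} ∧
      (∃ N : ℕ, ∀ v ∈ W, (⇑T)^[N] v = 0) ∧
      IsCompl W (⨅ n : ℕ, Submodule.span k (Set.range ((⇑T)^[n])))) ∧
    Set.BijOn (⇑T) (⋂ n : ℕ, (Submodule.span k (Set.range ((⇑T)^[n])) : Set V))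
      (⋂ n : ℕ, (Submodule.span k (Set.range ((⇑T)^[n])) : Set V)) := by
  classical
  set W : ℕ → Submodule k V := fun m => Submodule.span k (Set.range ((⇑T)^[m])) with hW
  set I : Submodule k V := ⨅ n : ℕ, W n with hI
  -- basic facts on `W`
  have hanti : ∀ m, W (m + 1) ≤ W m := by
    intro m
    apply Submodule.span_mono
    rintro _ ⟨y, rfl⟩
    exact ⟨T y, by rw [Function.iterate_succ_apply]⟩
  have hantitone : Antitone W := antitone_nat_of_succ_le hanti
  obtain ⟨m₀, hm₀⟩ : ∃ m₀, ∀ m, m₀ ≤ m → W m₀ = W m := by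
    obtain ⟨m₀, h⟩ := IsArtinian.monotone_stabilizes (R := k) (M := V)
      ⟨fun m => OrderDual.toDual (W m), fun a b hab => hantitone hab⟩
    exact ⟨m₀, fun m hm => congrArg OrderDual.ofDual (h m hm)⟩
  have hIW : I = W m₀ := by
    apply le_antisymm (iInf_le _ _)
    refine le_iInf fun n => ?_
    rcases le_total n m₀ with h | h
    · exact hantitone h
    · exact (hm₀ n h).le
  -- with σ surjective the range of an iterate is closed under scalars
  have hsmul : ∀ (m : ℕ) (c : k) (z : V), ∃ z', c • (⇑T)^[m] z = (⇑T)^[m] z' := by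
    intro m
    induction m with
    | zero => intro c z; exact ⟨c • z, rfl⟩
    | succ m ih =>
      intro c z
      obtain ⟨c', rfl⟩ := hσ c
      obtain ⟨z'', hz''⟩ := ih c' z
      refine ⟨z'', ?_⟩
      rw [Function.iterate_succ_apply', Function.iterate_succ_apply', ← hz'', LinearMap.map_smulₛₗ]
  have hadd : ∀ (m : ℕ) (x y : V), (⇑T)^[m] (x + y) = (⇑T)^[m] x + (⇑T)^[m] y := by
    intro m
    induction m with
    | zero => intro x y; rfl
    | succ m ih => intro x y; simp only [Function.iterate_succ_apply', ih, map_add]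
  have hzero : ∀ m : ℕ, (⇑T)^[m] (0 : V) = 0 := by
    intro m
    induction m with
    | zero => rfl
    | succ m ih => rw [Function.iterate_succ_apply', ih, map_zero]
  have hsub : ∀ (m : ℕ) (x y : V), (⇑T)^[m] (x - y) = (⇑T)^[m] x - (⇑T)^[m] y := by
    intro m
    induction m with
    | zero => intro x y; rfl
    | succ m ih => intro x y; simp only [Function.iterate_succ_apply', ih, map_sub]
  have hiter_smul : ∀ (m : ℕ) (c : k) (x : V), (⇑T)^[m] x = 0 → (⇑T)^[m] (c • x) = 0 := by
    intro m
    induction m with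
    | zero => intro c x hx; simp only [Function.iterate_zero, id_eq] at hx ⊢; rw [hx, smul_zero]
    | succ m ih =>
      intro c x hx
      rw [Function.iterate_succ_apply] at hx ⊢
      rw [LinearMap.map_smulₛₗ]
      exact ih _ _ hx
  have hWrange : ∀ m, ∀ y ∈ W m, ∃ z, y = (⇑T)^[m] z := by
    intro m y hy
    induction hy using Submodule.span_induction with
    | mem y hy => obtain ⟨z, rfl⟩ := hy; exact ⟨z, rfl⟩
    | zero => exact ⟨0, (hzero m).symm⟩
    | add x y _ _ hx hy =>
      obtain ⟨a, rfl⟩ := hx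
      obtain ⟨b, rfl⟩ := hy
      exact ⟨a + b, (hadd m a b).symm⟩
    | smul c x _ hx =>
      obtain ⟨a, rfl⟩ := hx
      exact hsmul m c a
  -- T preserves I, is injective and surjective on it
  have hTW : ∀ m, ∀ x ∈ W m, T x ∈ W (m + 1) := by
    intro m x hx
    obtain ⟨z, rfl⟩ := hWrange m x hx
    exact Submodule.subset_span ⟨z, by rw [Function.iterate_succ_apply']⟩
  have hTI : ∀ x ∈ I, T x ∈ I := by
    intro x hx
    rw [hIW] at hx ⊢
    have := hTW m₀ x hx
    rwa [← hm₀ _ (Nat.le_succ _)] at this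
  have hmemI : ∀ x : V, x ∈ I ↔ ∀ n, x ∈ W n := by
    intro x; rw [hI, Submodule.mem_iInf]
  have hinjI : ∀ x ∈ I, T x = 0 → x = 0 := by
    intro x hx h0
    exact Groth.Agent.S19229.result k σ V T x ⟨1, by simpa using h0⟩ ((hmemI x).mp hx)
  have hsurjI : ∀ y ∈ I, ∃ x ∈ I, T x = y := by
    intro y hy
    have hy' : y ∈ W (m₀ + 1) := (hmemI y).mp hy _
    obtain ⟨z, rfl⟩ := hWrange _ y hy'
    refine ⟨(⇑T)^[m₀] z, ?_, by rw [Function.iterate_succ_apply']⟩
    rw [hIW]
    exact Submodule.subset_span ⟨z, rfl⟩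
  have hsurjI_iter : ∀ (M : ℕ), ∀ y ∈ I, ∃ x ∈ I, (⇑T)^[M] x = y := by
    intro M
    induction M with
    | zero => intro y hy; exact ⟨y, hy, rfl⟩
    | succ M ih =>
      intro y hy
      obtain ⟨x₁, hx₁, rfl⟩ := hsurjI y hy
      obtain ⟨x₂, hx₂, rfl⟩ := ih x₁ hx₁
      exact ⟨x₂, hx₂, by rw [Function.iterate_succ_apply']⟩
  -- kernels
  let K : ℕ → Submodule k V := fun n =>
    { carrier := {v | (⇑T)^[n] v = 0}
      add_mem' := fun {a b} ha hb => by
        simp only [Set.mem_setOf_eq] at ha hb ⊢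
        rw [hadd, ha, hb, add_zero]
      zero_mem' := hzero n
      smul_mem' := fun c x hx => hiter_smul n c x hx }
  have hKmem : ∀ n v, v ∈ K n ↔ (⇑T)^[n] v = 0 := fun n v => Iff.rfl
  have hKmono : Monotone K := by
    apply monotone_nat_of_le_succ
    intro n v hv
    rw [hKmem] at hv ⊢
    rw [Function.iterate_succ_apply', hv, map_zero]
  obtain ⟨N, hN⟩ : ∃ N, ∀ m, N ≤ m → K N = K m :=
    monotone_stabilizes_iff_noetherian.mpr inferInstance ⟨K, hKmono⟩
  refine ⟨⟨K N, ?_, ⟨N, fun v hv => hv⟩, ?_⟩, ?_⟩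
  · ext v
    constructor
    · intro hv; exact ⟨N, hv⟩
    · rintro ⟨n, hn⟩
      have h1 : v ∈ K n := hn
      have h2 : v ∈ K (max n N) := hKmono (le_max_left _ _) h1
      rw [← hN _ (le_max_right _ _)] at h2
      exact h2
  · constructor
    · rw [Submodule.disjoint_def]
      intro x hxK hxI
      exact Groth.Agent.S19229.result k σ V T x ⟨N, hxK⟩ ((hmemI x).mp hxI)
    · rw [codisjoint_iff, eq_top_iff]
      rintro v -
      set M := max N m₀ with hM
      have h1 : (⇑T)^[M] v ∈ I := by
        rw [hIW, hm₀ M (le_max_right _ _)]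
        exact Submodule.subset_span ⟨v, rfl⟩
      obtain ⟨u, hu, huv⟩ := hsurjI_iter M _ h1
      have h2 : v - u ∈ K N := by
        rw [hN M (le_max_left _ _), hKmem, hsub, huv, sub_self]
      have : v = (v - u) + u := by abel
      rw [this]
      exact Submodule.add_mem_sup h2 hu
  · have hset : (⋂ n : ℕ, (Submodule.span k (Set.range ((⇑T)^[n])) : Set V)) = (I : Set V) := by
      rw [hI, Submodule.coe_iInf]
    rw [hset]
    refine ⟨fun x hx => hTI x hx, ?_, fun y hy => ?_⟩
    · intro x hx y hy hxy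
      have h1 : x - y ∈ I := Submodule.sub_mem _ hx hy
      have h2 : T (x - y) = 0 := by rw [map_sub, hxy, sub_self]
      exact sub_eq_zero.mp (hinjI _ h1 h2)
    · obtain ⟨x, hx, rfl⟩ := hsurjI y hy
      exact ⟨x, hx, rfl⟩

end Groth.Agent.S19230
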