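import Groth.Statements.S19232
import Mathlib

set_option autoImplicit false
universe u v
open SigmaLin

namespace Groth.Agent.S19232


section Helpers

variable {k : Type u} [Field k] {σ : k →+* k}
  {V : Type v} [AddCommGroup V] [Module k V]

/-- a sequence none of whose terms lies in the span of the earlier ones is linearly independent -/
theorem li_of_not_mem (f : ℕ → V) (m : ℕ)
    (h : ∀ i < m, f i ∉ Submodule.span k (Set.range (fun j : Fin i => f j))) :
    LinearIndependent k (fun i : Fin m => f i) := by
  induction m with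
  | zero => exact linearIndependent_empty_type
  | succ m ih =>
    rw [linearIndependent_finSucc']
    refine ⟨ih fun i hi => h i (Nat.lt_succ_of_lt hi), ?_⟩
    exact h m (Nat.lt_succ_self m)

/-- the recursively defined coefficients -/
def Xc (σ : k →+* k) (x : k) (a : ℕ → k) : ℕ → k
  | 0 => σ x * a 0
  | (i + 1) => σ (Xc σ x a i) + σ x * a (i + 1)

theorem Xc_closed (x : k) (a : ℕ → k) (i : ℕ) :
    Xc σ x a i = ∑ l ∈ Finset.range (i + 1), (⇑σ)^[i - l + 1] x * (⇑σ)^[i - l] (a l) := by
  induction i with
  | zero => simp [Xc]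
  | succ i ih =>
    rw [Xc, ih, Finset.sum_range_succ _ (i + 1), map_sum]
    congr 1
    · refine Finset.sum_congr rfl fun l hl => ?_
      have hl' : l ≤ i := Nat.lt_succ_iff.mp (Finset.mem_range.mp hl)
      rw [map_mul, show i + 1 - l = (i - l) + 1 by omega]
      simp only [Function.iterate_succ_apply']
    · simp

end Helpers

/-- Let k be a field with a ring endomorphism σ, and assume that for every n and every tuple (b_0, …,
b_n) of elements of k, not all zero, the equation x = Σ_{i=0}^{n} σ^{i+1}(x) σ^{i}(b_{n-i}) has a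
nonzero solution x in k. Let V be a finite-dimensional k-vector space, T : V → V additive with T (c
• v) = σ c • T v, and e ∈ V a vector no iterate of T sends to 0. Then the k-span of the orbit e, T
e, T² e, … contains a nonzero vector v with T v = v. -/
theorem result
    (k : Type u) [Field k] (σ : k →+* k)
    (V : Type v) [AddCommGroup V] [Module k V] [FiniteDimensional k V] (T : V →ₛₗ[σ] V)
    (h2 : ∀ (n : ℕ) (b : Fin (n + 1) → k), b ≠ 0 →
      ∃ x : k, x ≠ 0 ∧ x = ∑ i : Fin (n + 1), (⇑σ)^[i.val + 1] x * (⇑σ)^[i.val] (b (Fin.rev i)))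
    (e : V) (he : ∀ m : ℕ, (⇑T)^[m] e ≠ 0) :
    ∃ v ∈ Submodule.span k (Set.range (fun m : ℕ => (⇑T)^[m] e)), v ≠ 0 ∧ T v = v := by
  classical
  set f : ℕ → V := fun m => (⇑T)^[m] e with hf
  -- some term lies in the span of the earlier ones
  have hex : ∃ m, f m ∈ Submodule.span k (Set.range (fun j : Fin m => f j)) := by
    by_contra hcon
    push Not at hcon
    have hli := li_of_not_mem (k := k) f (Module.finrank k V + 1) fun i _ => hcon i
    have := hli.fintype_card_le_finrank
    simp at this
  let m := Nat.find hex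
  have hm : f m ∈ Submodule.span k (Set.range (fun j : Fin m => f j)) := Nat.find_spec hex
  have hmin : ∀ i < m, f i ∉ Submodule.span k (Set.range (fun j : Fin i => f j)) :=
    fun i hi => Nat.find_min hex hi
  have hm0 : m ≠ 0 := by
    intro h0
    rw [h0] at hm
    have : Set.range (fun j : Fin 0 => f j) = ∅ := Set.range_eq_empty _
    rw [this, Submodule.span_empty, Submodule.mem_bot] at hm
    exact he 0 hm
  obtain ⟨n, hn⟩ := Nat.exists_eq_succ_of_ne_zero hm0
  have hli : LinearIndependent k (fun i : Fin (n + 1) => f i) := by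
    have := li_of_not_mem (k := k) f m hmin
    rw [hn] at this
    exact this
  rw [hn] at hm
  obtain ⟨a, ha⟩ := (Submodule.mem_span_range_iff_exists_fun k).mp hm
  have ha0 : a ≠ 0 := by
    intro h0
    rw [h0] at ha
    simp only [Pi.zero_apply, zero_smul, Finset.sum_const_zero] at ha
    exact he (n + 1) ha.symm
  obtain ⟨x, hx0, hx⟩ := h2 n a ha0
  -- coefficients as a function on ℕ
  let a' : ℕ → k := fun i => if h : i < n + 1 then a ⟨i, h⟩ else 0
  have ha' : ∀ i : Fin (n + 1), a' i = a i := fun i => by
    simp only [a', dif_pos i.2, Fin.eta]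
  have hsum : f (n + 1) = ∑ i ∈ Finset.range (n + 1), a' i • f i := by
    rw [← ha, Finset.sum_range (fun i => a' i • f i)]
    exact Finset.sum_congr rfl fun i _ => by rw [ha']
  let X := Xc σ x a'
  have hXn : X n = x := by
    change Xc σ x a' n = x
    rw [Xc_closed]
    conv_rhs => rw [hx]
    rw [← Finset.sum_range_reflect]
    rw [Finset.sum_range]
    refine Finset.sum_congr rfl fun i _ => ?_
    have hi : (i : ℕ) ≤ n := Nat.lt_succ_iff.mp i.2
    have e1 : n - (n + 1 - 1 - (i : ℕ)) = i := by omega
    rw [e1]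
    congr 2
    have : (n + 1 - 1 - (i : ℕ)) = ((Fin.rev i : Fin (n + 1)) : ℕ) := by
      rw [Fin.val_rev]; omega
    rw [this, ha']
  let w : V := ∑ i ∈ Finset.range (n + 1), X i • f i
  have hfs : ∀ i, T (f i) = f (i + 1) := fun i => by
    simp only [hf, Function.iterate_succ_apply']
  refine ⟨w, ?_, ?_, ?_⟩
  · exact Submodule.sum_mem _ fun i _ => Submodule.smul_mem _ _ (Submodule.subset_span ⟨i, rfl⟩)
  · intro hw0
    have h1 : ∑ i : Fin (n + 1), X i • f i = 0 := by
      rw [← Finset.sum_range (fun i => X i • f i)]; exact hw0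
    have h2' := Fintype.linearIndependent_iff.mp hli (fun i => X i) h1 (Fin.last n)
    rw [Fin.val_last, hXn] at h2'
    exact hx0 h2'
  · have hTw : T w = ∑ i ∈ Finset.range n, σ (X i) • f (i + 1) + σ x • f (n + 1) := by
      simp only [w, map_sum, LinearMap.map_smulₛₗ, hfs]
      rw [Finset.sum_range_succ, hXn]
    have hw : w = ∑ i ∈ Finset.range n, σ (X i) • f (i + 1) + σ x • f (n + 1) := by
      simp only [w]
      rw [Finset.sum_range_succ', hsum, Finset.sum_range_succ' (fun i => a' i • f i)]
      have hX0 : X 0 = σ x * a' 0 := rfl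
      have hXs : ∀ i, X (i + 1) = σ (X i) + σ x * a' (i + 1) := fun i => rfl
      simp only [hX0, hXs, add_smul, mul_smul, Finset.sum_add_distrib, smul_add, Finset.smul_sum]
      abel
    rw [hTw, ← hw]

end Groth.Agent.S19232
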