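import Groth.Statements.S19233
import Mathlib
import Groth.Agent.S19232

set_option autoImplicit false
universe u v
open SigmaLin

namespace Groth.Agent.S19233


section Helpers

variable {k : Type u} [Field k] {σ : k →+* k}
  {V : Type v} [AddCommGroup V] [Module k V] [FiniteDimensional k V]

/-- a semilinear endomorphism whose image spans is injective -/
theorem injective_of_span_range (T : V →ₛₗ[σ] V)
    (h1 : Submodule.span k (Set.range ⇑T) = ⊤) : Function.Injective T := by
  classical
  let b := Module.finBasis k V
  let w : Fin (Module.finrank k V) → V := fun i => T (b i)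
  have hTx : ∀ x : V, T x = ∑ i, σ (b.repr x i) • w i := by
    intro x
    conv_lhs => rw [← b.sum_repr x]
    simp only [map_sum, LinearMap.map_smulₛₗ]
    rfl
  have hspan : ⊤ ≤ Submodule.span k (Set.range w) := by
    rw [← h1]
    apply Submodule.span_le.mpr
    rintro _ ⟨x, rfl⟩
    rw [hTx]
    exact Submodule.sum_mem _ fun i _ => Submodule.smul_mem _ _ (Submodule.subset_span ⟨i, rfl⟩)
  have hli : LinearIndependent k w :=
    linearIndependent_of_top_le_span_of_card_eq_finrank hspan (by simp)
  rw [injective_iff_map_eq_zero]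
  intro x hx
  rw [hTx] at hx
  have h3 := Fintype.linearIndependent_iff.mp hli _ hx
  have h4 : b.repr x = 0 := by
    ext i
    have := h3 i
    rw [map_eq_zero] at this
    simpa using this
  exact b.repr.map_eq_zero_iff.mp h4

theorem iterate_ne_zero (T : V →ₛₗ[σ] V) (hinj : Function.Injective T) (e : V) (he : e ≠ 0)
    (m : ℕ) : (⇑T)^[m] e ≠ 0 := by
  induction m with
  | zero => exact he
  | succ m ih =>
    rw [Function.iterate_succ_apply']
    intro h
    exact ih (hinj (h.trans (map_zero T).symm))

end Helpers

/-- Let k be a field with a ring endomorphism σ such that (i) for every n and every tuple (b_0, …, b_n)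
in k, not all zero, the equation x = Σ_{i=0}^{n} σ^{i+1}(x) σ^{i}(b_{n-i}) has a nonzero solution x
in k, and (ii) for every c in k there is y in k with σ(y) − y + c = 0. Let V be a finite-dimensional
k-vector space and T : V → V additive with T (c • v) = σ c • T v, such that the image of T spans V
over k. Then V admits a k-basis consisting of vectors fixed by T, and the map v ↦ v − T v is
surjective. -/
theorem result
    (k : Type u) [Field k] (σ : k →+* k)
    (V : Type v) [AddCommGroup V] [Module k V] [FiniteDimensional k V] (T : V →ₛₗ[σ] V)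
    (h1 : Submodule.span k (Set.range ⇑T) = ⊤)
    (h2 : ∀ (n : ℕ) (b : Fin (n + 1) → k), b ≠ 0 →
      ∃ x : k, x ≠ 0 ∧ x = ∑ i : Fin (n + 1), (⇑σ)^[i.val + 1] x * (⇑σ)^[i.val] (b (Fin.rev i)))
    (h3 : ∀ c : k, ∃ y : k, σ y - y + c = 0) :
    (∃ b : Module.Basis (Fin (Module.finrank k V)) k V, ∀ i, T (b i) = b i) ∧
    Function.Surjective (fun v : V => v - T v) := by
  classical
  -- the span of the fixed vectors
  let Fx : Set V := {v | T v = v}
  let F : Submodule k V := Submodule.span k Fx
  -- solving `T u - u + g = 0` inside `F`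
  have hsolve : ∀ g ∈ F, ∃ u ∈ F, T u - u + g = 0 := by
    intro g hg
    obtain ⟨c, hc⟩ := (Submodule.mem_span_set'.mp hg)
    obtain ⟨f, w, hw⟩ := hc
    choose y hy using fun i => h3 (f i)
    refine ⟨∑ i, y i • (w i : V), ?_, ?_⟩
    · exact Submodule.sum_mem _ fun i _ => Submodule.smul_mem _ _ (Submodule.subset_span (w i).2)
    · rw [← hw, map_sum, ← Finset.sum_sub_distrib, ← Finset.sum_add_distrib]
      refine Finset.sum_eq_zero fun i _ => ?_
      have hwi : T (w i : V) = (w i : V) := (w i).2
      rw [LinearMap.map_smulₛₗ, hwi, ← sub_smul, ← add_smul, hy i, zero_smul]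
  have hFT : F ≤ F.comap T := by
    apply Submodule.span_le.mpr
    intro v hv
    change T v ∈ F
    rw [show T v = v from hv]
    exact Submodule.subset_span hv
  have hFtop : F = ⊤ := by
    by_contra hne
    let Tq : (V ⧸ F) →ₛₗ[σ] (V ⧸ F) := Submodule.mapQ F F T hFT
    have hTq : ∀ x : V, Tq (Submodule.Quotient.mk x) = Submodule.Quotient.mk (T x) := fun x => rfl
    have h1q : Submodule.span k (Set.range ⇑Tq) = ⊤ := by
      rw [eq_top_iff]
      rintro x -
      obtain ⟨x, rfl⟩ := Submodule.Quotient.mk_surjective F x
      have hx : x ∈ Submodule.span k (Set.range ⇑T) := by rw [h1]; trivial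
      have : Submodule.Quotient.mk (p := F) x ∈
          Submodule.map F.mkQ (Submodule.span k (Set.range ⇑T)) := ⟨x, hx, rfl⟩
      rw [Submodule.map_span] at this
      refine Submodule.span_mono ?_ this
      rintro _ ⟨_, ⟨y, rfl⟩, rfl⟩
      exact ⟨Submodule.Quotient.mk y, rfl⟩
    have hinjq := injective_of_span_range Tq h1q
    obtain ⟨e, he⟩ : ∃ e : V ⧸ F, e ≠ 0 := by
      by_contra hcon
      push Not at hcon
      apply hne
      rw [eq_top_iff]
      rintro x -
      exact (Submodule.Quotient.mk_eq_zero F).mp (hcon (Submodule.Quotient.mk x))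
    obtain ⟨vq, -, hvq0, hvq⟩ := Groth.Agent.S19232.result k σ (V ⧸ F) Tq h2 e
      (iterate_ne_zero Tq hinjq e he)
    obtain ⟨v, rfl⟩ := Submodule.Quotient.mk_surjective F vq
    rw [hTq] at hvq
    have hg : T v - v ∈ F := (Submodule.Quotient.eq F).mp hvq
    obtain ⟨u, huF, hu⟩ := hsolve (T v - v) hg
    have hfix : T (v + u) = v + u := by
      rw [map_add]
      have : T u - u + (T v - v) = 0 := hu
      have h' : T v + T u - (v + u) = 0 := by rw [← this]; abel
      exact sub_eq_zero.mp h'
    have hmem : v + u ∈ F := Submodule.subset_span hfix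
    have hvF : v ∈ F := by
      have := F.sub_mem hmem huF
      simpa using this
    exact hvq0 ((Submodule.Quotient.mk_eq_zero F).mpr hvF)
  refine ⟨?_, ?_⟩
  · obtain ⟨b, hbsub, hbspan, hbli⟩ := exists_linearIndependent k Fx
    have hbtop : ⊤ ≤ Submodule.span k (Set.range ((↑) : b → V)) := by
      rw [Subtype.range_coe, hbspan]
      exact hFtop.ge
    let B : Module.Basis b k V := Module.Basis.mk hbli hbtop
    haveI : Fintype b := FiniteDimensional.fintypeBasisIndex B
    have hcard : Fintype.card b = Module.finrank k V := (Module.finrank_eq_card_basis B).symm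
    let e : b ≃ Fin (Module.finrank k V) := Fintype.equivFinOfCardEq hcard
    refine ⟨B.reindex e, fun i => ?_⟩
    rw [Module.Basis.reindex_apply, Module.Basis.mk_apply]
    exact hbsub (e.symm i).2
  · intro g
    obtain ⟨u, -, hu⟩ := hsolve g (by rw [hFtop]; trivial)
    refine ⟨u, ?_⟩
    have : T u - u + g = 0 := hu
    have h' : g - (u - T u) = 0 := by rw [← this]; abel
    exact (sub_eq_zero.mp h').symm

end Groth.Agent.S19233
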