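import Groth.Statements.S19234
import Mathlib
import Groth.Agent.S19230
import Groth.Agent.S19233

set_option autoImplicit false
universe u v
open SigmaLin

namespace Groth.Agent.S19234

/-- Let k be a field with a surjective ring endomorphism σ such that (i) for every n and every tuple
(b_0, …, b_n) in k, not all zero, the equation x = Σ_{i=0}^{n} σ^{i+1}(x) σ^{i}(b_{n-i}) has a
nonzero solution x in k, and (ii) for every c in k there is y with σ(y) − y + c = 0. Let V be a
finite-dimensional k-vector space and T : V → V additive with T (c • v) = σ c • T v (no further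
condition on T). Then v ↦ v − T v is surjective on V, and the intersection over n of the k-spans of
the images of the iterates of T (the part of V on which T is bijective) admits a k-basis of vectors
fixed by T; in particular the fixed vectors of T span that intersection over k. -/
theorem result
    (k : Type u) [Field k] (σ : k →+* k) (hσ : Function.Surjective σ)
    (V : Type v) [AddCommGroup V] [Module k V] [FiniteDimensional k V] (T : V →ₛₗ[σ] V)
    (h2 : ∀ (n : ℕ) (b : Fin (n + 1) → k), b ≠ 0 →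
      ∃ x : k, x ≠ 0 ∧ x = ∑ i : Fin (n + 1), (⇑σ)^[i.val + 1] x * (⇑σ)^[i.val] (b (Fin.rev i)))
    (h3 : ∀ c : k, ∃ y : k, σ y - y + c = 0) :
    Function.Surjective (fun v : V => v - T v) ∧
    ∃ b : Module.Basis (Fin (Module.finrank k ↥(⨅ n : ℕ, Submodule.span k (Set.range ((⇑T)^[n]))))) k ↥(⨅ n : ℕ, Submodule.span k (Set.range ((⇑T)^[n]))),
      ∀ i, T (b i : V) = (b i : V) := by
  classical
  obtain ⟨⟨W, hWset, ⟨N, hN⟩, hcompl⟩, hbij⟩ := Groth.Agent.S19230.result k σ hσ V T
  set I : Submodule k V := ⨅ n : ℕ, Submodule.span k (Set.range ((⇑T)^[n])) with hI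
  have hIset : (I : Set V) = ⋂ n : ℕ, (Submodule.span k (Set.range ((⇑T)^[n])) : Set V) := by
    rw [hI, Submodule.coe_iInf]
  rw [← hIset] at hbij
  have hmaps : ∀ x ∈ I, T x ∈ I := fun x hx => hbij.mapsTo hx
  let TI : I →ₛₗ[σ] I := (T.domRestrict I).codRestrict I (fun x => hmaps x.1 x.2)
  have hTI : ∀ x : I, ((TI x : I) : V) = T (x : V) := fun x => rfl
  have hTIsurj : Function.Surjective TI := by
    intro y
    obtain ⟨x, hx, hxy⟩ := hbij.surjOn y.2
    exact ⟨⟨x, hx⟩, Subtype.ext hxy⟩
  have h1 : Submodule.span k (Set.range ⇑TI) = ⊤ := by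
    rw [hTIsurj.range_eq, Submodule.span_univ]
  obtain ⟨⟨b, hb⟩, hsurjI⟩ := Groth.Agent.S19233.result k σ I TI h1 h2 h3
  refine ⟨?_, b, fun i => ?_⟩
  · intro g
    -- decompose g
    have hsup : W ⊔ I = ⊤ := hcompl.sup_eq_top
    have hg : g ∈ W ⊔ I := by rw [hsup]; trivial
    obtain ⟨w, hw, z, hz, rfl⟩ := Submodule.mem_sup.mp hg
    obtain ⟨u, hu⟩ := hsurjI ⟨z, hz⟩
    have hu' : (u : V) - T (u : V) = z := by
      have := congrArg (Subtype.val) hu
      simpa [hTI] using this
    -- the nilpotent part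
    have htel : ∀ M : ℕ, (∑ m ∈ Finset.range M, (⇑T)^[m] w) -
        T (∑ m ∈ Finset.range M, (⇑T)^[m] w) = w - (⇑T)^[M] w := by
      intro M
      induction M with
      | zero => simp
      | succ M ih =>
        rw [Finset.sum_range_succ, map_add, ← Function.iterate_succ_apply' (⇑T) M w]
        have : (∑ m ∈ Finset.range M, (⇑T)^[m] w) + (⇑T)^[M] w -
            (T (∑ m ∈ Finset.range M, (⇑T)^[m] w) + (⇑T)^[M + 1] w) =
            ((∑ m ∈ Finset.range M, (⇑T)^[m] w) - T (∑ m ∈ Finset.range M, (⇑T)^[m] w)) +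
              ((⇑T)^[M] w - (⇑T)^[M + 1] w) := by abel
        rw [this, ih]
        abel
    refine ⟨(∑ m ∈ Finset.range N, (⇑T)^[m] w) + u, ?_⟩
    change (∑ m ∈ Finset.range N, (⇑T)^[m] w) + (u : V) -
      T ((∑ m ∈ Finset.range N, (⇑T)^[m] w) + (u : V)) = w + z
    rw [map_add]
    have h1' := htel N
    rw [hN w hw, sub_zero] at h1'
    have hsplit : (∑ m ∈ Finset.range N, (⇑T)^[m] w) + (u : V) -
        (T (∑ m ∈ Finset.range N, (⇑T)^[m] w) + T (u : V)) =
        ((∑ m ∈ Finset.range N, (⇑T)^[m] w) - T (∑ m ∈ Finset.range N, (⇑T)^[m] w)) +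
          ((u : V) - T (u : V)) := by abel
    rw [hsplit, h1', hu']
  · have := congrArg (Subtype.val) (hb i)
    simpa [hTI] using this

end Groth.Agent.S19234
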