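import Groth.Statements.S19235
import Mathlib
import Groth.Agent.S19234
-- import your own Groth.Agent.* helpers here

set_option autoImplicit false
universe u v
open SigmaLin

namespace Groth.Agent.S19235

/-- Let p be a prime number and R a local ring whose maximal ideal is generated by p and in which p^n =
0 for some n. Let σ be a ring endomorphism of R and σ̄ the induced endomorphism of the residue field
k = R/(p); assume σ̄ is surjective, that for every m and every tuple (b_0, …, b_m) in k, not all
zero, the equation x = Σ_{i=0}^{m} σ̄^{i+1}(x) σ̄^{i}(b_{m-i}) has a nonzero solution x in k, and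
that for every c in k there is y with σ̄(y) − y + c = 0. Let M be a finitely generated R-module and
T : M → M additive with T (r • m) = σ r • T m. Then the map m ↦ m − T m is surjective on M. -/
theorem result
    (p : ℕ) [Fact p.Prime] (R : Type u) [CommRing R] [IsLocalRing R]
    (hmax : IsLocalRing.maximalIdeal R = Ideal.span {(p : R)}) (n : ℕ) (hn : (p : R) ^ n = 0)
    (σ : R →+* R) (σbar : IsLocalRing.ResidueField R →+* IsLocalRing.ResidueField R)
    (hσbar : ∀ r : R, σbar (IsLocalRing.residue R r) = IsLocalRing.residue R (σ r))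
    (hsurj : Function.Surjective σbar)
    (h2 : ∀ (n : ℕ) (b : Fin (n + 1) → IsLocalRing.ResidueField R), b ≠ 0 →
      ∃ x : IsLocalRing.ResidueField R, x ≠ 0 ∧ x = ∑ i : Fin (n + 1), (⇑σbar)^[i.val + 1] x * (⇑σbar)^[i.val] (b (Fin.rev i)))
    (h3 : ∀ c : IsLocalRing.ResidueField R, ∃ y : IsLocalRing.ResidueField R, σbar y - y + c = 0)
    (M : Type v) [AddCommGroup M] [Module R M] [Module.Finite R M] (T : M →ₛₗ[σ] M) :
    Function.Surjective (fun m : M => m - T m) := by
  classical
  have hσp : σ (p : R) = (p : R) := map_natCast σ p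
  have hσ𝔪 : ∀ r ∈ IsLocalRing.maximalIdeal R, σ r ∈ IsLocalRing.maximalIdeal R := by
    intro r hr
    rw [hmax, Ideal.mem_span_singleton] at hr ⊢
    obtain ⟨a, rfl⟩ := hr
    rw [map_mul, hσp]
    exact Dvd.intro _ rfl
  have hTN : (IsLocalRing.maximalIdeal R • (⊤ : Submodule R M)) ≤
      (IsLocalRing.maximalIdeal R • (⊤ : Submodule R M)).comap T := by
    intro x hx
    rw [Submodule.mem_comap]
    refine Submodule.smul_induction_on hx ?_ ?_
    · intro r hr m _
      rw [map_smulₛₗ]
      exact Submodule.smul_mem_smul (hσ𝔪 r hr) trivial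
    · intro x y hx hy
      rw [map_add]; exact Submodule.add_mem _ hx hy
  letI instMod : Module (IsLocalRing.ResidueField R)
      (M ⧸ (IsLocalRing.maximalIdeal R • (⊤ : Submodule R M))) :=
    inferInstanceAs (Module (R ⧸ IsLocalRing.maximalIdeal R)
      (M ⧸ IsLocalRing.maximalIdeal R • (⊤ : Submodule R M)))
  haveI instFin : Module.Finite (IsLocalRing.ResidueField R)
      (M ⧸ (IsLocalRing.maximalIdeal R • (⊤ : Submodule R M))) :=
    inferInstanceAs (Module.Finite (R ⧸ IsLocalRing.maximalIdeal R)
      (M ⧸ IsLocalRing.maximalIdeal R • (⊤ : Submodule R M)))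
  set Tq : (M ⧸ (IsLocalRing.maximalIdeal R • (⊤ : Submodule R M))) →ₛₗ[σ] (M ⧸ (IsLocalRing.maximalIdeal R • (⊤ : Submodule R M))) := Submodule.mapQ _ _ T hTN with hTq
  have hTq_mk : ∀ m : M, Tq (Submodule.Quotient.mk m) = Submodule.Quotient.mk (T m) := fun m => rfl
  have hsmul_mk : ∀ (r : R) (m : M), (IsLocalRing.residue R r) • (Submodule.Quotient.mk m : M ⧸ (IsLocalRing.maximalIdeal R • (⊤ : Submodule R M))) =
      Submodule.Quotient.mk (r • m) := fun r m => rfl
  let Tbar : (M ⧸ (IsLocalRing.maximalIdeal R • (⊤ : Submodule R M))) →ₛₗ[σbar] (M ⧸ (IsLocalRing.maximalIdeal R • (⊤ : Submodule R M))) :=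
    { toFun := Tq
      map_add' := Tq.map_add
      map_smul' := by
        intro c x
        obtain ⟨r, rfl⟩ := IsLocalRing.residue_surjective c
        obtain ⟨m, rfl⟩ := Submodule.Quotient.mk_surjective _ x
        rw [hsmul_mk, hTq_mk, hTq_mk, map_smulₛₗ, hσbar, hsmul_mk] }
  have hTbar_mk : ∀ m : M, Tbar (Submodule.Quotient.mk m) = Submodule.Quotient.mk (T m) := fun m => rfl
  have hsurjbar := (Groth.Agent.S19234.result (IsLocalRing.ResidueField R) σbar hsurj (M ⧸ (IsLocalRing.maximalIdeal R • (⊤ : Submodule R M))) Tbar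
    h2 h3).1
  -- approximation step
  have hstep : ∀ w' : M, ∃ g' w'' : M, w' = (g' - T g') + (p : R) • w'' := by
    intro w'
    obtain ⟨gbar, hgbar⟩ := hsurjbar (Submodule.Quotient.mk w')
    obtain ⟨g', rfl⟩ := Submodule.Quotient.mk_surjective _ gbar
    have hmem : w' - (g' - T g') ∈ (IsLocalRing.maximalIdeal R • (⊤ : Submodule R M)) := by
      rw [← Submodule.Quotient.mk_eq_zero, Submodule.Quotient.mk_sub, Submodule.Quotient.mk_sub,
        sub_eq_zero]
      simp only [hTbar_mk] at hgbar
      exact hgbar.symm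
    rw [hmax, Submodule.ideal_span_singleton_smul,
      Submodule.mem_smul_pointwise_iff_exists] at hmem
    obtain ⟨w'', -, hw''⟩ := hmem
    exact ⟨g', w'', by rw [hw'']; abel⟩
  have hTpow : ∀ (j : ℕ) (g : M), T ((p : R) ^ j • g) = (p : R) ^ j • T g := by
    intro j g
    rw [map_smulₛₗ, map_pow, hσp]
  have hQ : ∀ d j : ℕ, j + d = n → ∀ w' : M, ∃ g : M, (p : R) ^ j • w' = g - T g := by
    intro d
    induction d with
    | zero =>
      intro j hj w'
      have : j = n := by omega
      rw [this, hn, zero_smul]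
      exact ⟨0, by simp⟩
    | succ d ih =>
      intro j hj w'
      obtain ⟨g', w'', hw'⟩ := hstep w'
      obtain ⟨g'', hg''⟩ := ih (j + 1) (by omega) w''
      refine ⟨(p : R) ^ j • g' + g'', ?_⟩
      rw [map_add, hTpow]
      have h1 : (p : R) ^ j • w' = (p : R) ^ j • (g' - T g') + (p : R) ^ (j + 1) • w'' := by
        conv_lhs => rw [hw']
        rw [smul_add, smul_smul, ← pow_succ]
      rw [h1, hg'', smul_sub]
      abel
  intro w
  obtain ⟨g, hg⟩ := hQ n 0 (by omega) w
  exact ⟨g, by simpa using hg.symm⟩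

end Groth.Agent.S19235
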