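import Groth.Statements.S8837
import Groth.Agent.Lib.Helper64.AdicClosed

set_option autoImplicit false
universe u
open AdicRing

namespace Groth.Agent.S8837

section Aux

variable {A : Type u} [CommRing A] (p : Ideal A) (f : A)

theorem exists_inv_mod (hf : IsUnit (Ideal.Quotient.mk p f)) : ∃ g : A, f * g - 1 ∈ p := by
  obtain ⟨u, hu⟩ := hf
  obtain ⟨g, hg⟩ := Ideal.Quotient.mk_surjective (I := p) (↑u⁻¹ : A ⧸ p)
  refine ⟨g, ?_⟩
  rw [← Ideal.Quotient.eq, map_mul, map_one, hg, ← hu, Units.mul_inv]

theorem pow_sub_one_mem {g : A} (hg : f * g - 1 ∈ p) (m : ℕ) : (f * g) ^ m - 1 ∈ p := by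
  rw [← Ideal.Quotient.eq, map_pow, map_one]
  have : Ideal.Quotient.mk p (f * g) = 1 := by
    rw [← map_one (Ideal.Quotient.mk p), Ideal.Quotient.eq]; exact hg
  rw [this, one_pow]

/-- (F2) every element of `A_f` is congruent mod `p A_f` to an element of `A`. -/
theorem exists_sub_mem_map {g : A} (hg : f * g - 1 ∈ p) (b : Localization.Away f) :
    ∃ a : A, algebraMap A (Localization.Away f) a - b ∈ p.map (algebraMap A (Localization.Away f)) := by
  obtain ⟨⟨a', s⟩, hs⟩ := IsLocalization.surj (Submonoid.powers f) b
  obtain ⟨m, hm⟩ := s.2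
  refine ⟨a' * g ^ m, ?_⟩
  have hunit : IsUnit (algebraMap A (Localization.Away f) (s : A)) :=
    IsLocalization.map_units _ s
  rw [← Ideal.mul_unit_mem_iff_mem _ hunit]
  have : (algebraMap A (Localization.Away f) (a' * g ^ m) - b) *
      algebraMap A (Localization.Away f) (s : A) =
      algebraMap A (Localization.Away f) (a' * ((f * g) ^ m - 1)) := by
    simp only at hs
    rw [sub_mul, hs, ← map_mul, ← map_sub, ← hm]
    congr 1
    ring
  rw [this]
  exact Ideal.mem_map_of_mem _ (Ideal.mul_mem_left _ _ (pow_sub_one_mem p f hg m))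

/-- (F3) contraction of `K A_f` for an ideal `K ⊇ p`. -/
theorem mem_of_algebraMap_mem_map {g : A} (hg : f * g - 1 ∈ p) (K : Ideal A) (hK : p ≤ K) (a : A)
    (ha : algebraMap A (Localization.Away f) a ∈ K.map (algebraMap A (Localization.Away f))) :
    a ∈ K := by
  rw [IsLocalization.mem_map_algebraMap_iff (Submonoid.powers f)] at ha
  obtain ⟨⟨a'', s⟩, hs⟩ := ha
  obtain ⟨m, hm⟩ := s.2
  simp only at hs
  rw [← map_mul, IsLocalization.eq_iff_exists (Submonoid.powers f)] at hs
  obtain ⟨⟨t, k, hk⟩, ht⟩ := hs
  simp only at ht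
  -- f^k * (a * f^m) = f^k * a''
  have h1 : f ^ (k + m) * a ∈ K := by
    have : f ^ (k + m) * a = t * (a * (s : A)) := by rw [← hk, ← hm]; ring
    rw [this, ht]
    exact Ideal.mul_mem_left _ _ a''.2
  have h2 : (f * g) ^ (k + m) * a ∈ K := by
    have : (f * g) ^ (k + m) * a = g ^ (k + m) * (f ^ (k + m) * a) := by ring
    rw [this]; exact Ideal.mul_mem_left _ _ h1
  have h3 : ((f * g) ^ (k + m) - 1) * a ∈ K :=
    Ideal.mul_mem_right _ _ (hK (pow_sub_one_mem p f hg (k + m)))
  have : a = (f * g) ^ (k + m) * a - ((f * g) ^ (k + m) - 1) * a := by ring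
  rw [this]
  exact Ideal.sub_mem _ h2 h3

/-- (F4) Krull intersection in `A/p`. -/
theorem mem_of_forall_mem_sup_pow [IsNoetherianRing A] [p.IsPrime] (I : Ideal A)
    (hI : I ≤ Ideal.jacobson ⊥) (a : A) (ha : ∀ n : ℕ, a ∈ p ⊔ I ^ n) : a ∈ p := by
  have hne : I.map (Ideal.Quotient.mk p) ≠ ⊤ := by
    intro htop
    obtain ⟨M, hM, hpM⟩ := Ideal.exists_le_maximal p (Ideal.IsPrime.ne_top inferInstance)
    have hIM : I ≤ M := hI.trans (by
      rw [Ideal.jacobson]; exact sInf_le ⟨bot_le, hM⟩)
    have h1 : (1 : A ⧸ p) ∈ I.map (Ideal.Quotient.mk p) := by rw [htop]; trivial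
    rw [← map_one (Ideal.Quotient.mk p),
      Ideal.mem_map_iff_of_surjective _ Ideal.Quotient.mk_surjective] at h1
    obtain ⟨y, hy, hy1⟩ := h1
    have : y - 1 ∈ p := Ideal.Quotient.eq.mp hy1
    have h1M : (1 : A) ∈ M := by
      have : (1 : A) = y - (y - 1) := by ring
      rw [this]; exact Ideal.sub_mem _ (hIM hy) (hpM ‹_›)
    exact hM.ne_top ((Ideal.eq_top_iff_one _).mpr h1M)
  have hkrull := Ideal.iInf_pow_eq_bot_of_isDomain (I.map (Ideal.Quotient.mk p)) hne
  have : Ideal.Quotient.mk p a ∈ (⨅ n : ℕ, (I.map (Ideal.Quotient.mk p)) ^ n) := by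
    rw [Ideal.mem_iInf]
    intro n
    obtain ⟨x, hx, y, hy, rfl⟩ := Submodule.mem_sup.mp (ha n)
    rw [map_add, Ideal.Quotient.eq_zero_iff_mem.mpr hx, zero_add, ← Ideal.map_pow]
    exact Ideal.mem_map_of_mem _ hy
  rw [hkrull] at this
  exact Ideal.Quotient.eq_zero_iff_mem.mp this

end Aux

/-- Let A be a Noetherian ring complete for the adic topology of an ideal I (an adic Noetherian
topological ring), p a prime ideal of A, and f ∈ A an element mapping to a unit in A/p. Let A_{f}
denote the completed principal localization, i.e. the I-adic completion of A_f = A[1/f]. Then the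
ideal p A_{f} generated by p is prime, and the canonical map A/p → A_{f}/p A_{f} is bijective (so p
A_{f} = p ⊗_A A_{f} is the completion of p_f, with quotient A/p). -/
theorem result (A : Type u) [CommRing A] [IsNoetherianRing A] (I : Ideal A) [IsAdicComplete I A] (p : Ideal A) [p.IsPrime] (f : A) (hf : IsUnit (Ideal.Quotient.mk p f)) : (p.map (algebraMap A (AdicCompletion (I.map (algebraMap A (Localization.Away f))) (Localization.Away f)))).IsPrime ∧ Function.Bijective (Ideal.quotientMap (p.map (algebraMap A (AdicCompletion (I.map (algebraMap A (Localization.Away f))) (Localization.Away f)))) (algebraMap A (AdicCompletion (I.map (algebraMap A (Localization.Away f))) (Localization.Away f))) Ideal.le_comap_map) := by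
  classical
  -- notation
  set B := Localization.Away f with hB
  set J : Ideal B := I.map (algebraMap A B) with hJ
  set pB : Ideal B := p.map (algebraMap A B) with hpB
  obtain ⟨g, hg⟩ := exists_inv_mod p f hf
  haveI : IsNoetherianRing B := IsLocalization.isNoetherianRing (Submonoid.powers f) B inferInstance
  have halg : ∀ a : A, algebraMap A (AdicCompletion J B) a = AdicCompletion.of J B (algebraMap A B a) :=
    fun a => rfl
  have hmapmap : p.map (algebraMap A (AdicCompletion J B)) =
      pB.map (algebraMap B (AdicCompletion J B)) := by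
    rw [hpB, Ideal.map_map]
    congr 1
  have hIjac : I ≤ Ideal.jacobson ⊥ := IsAdicComplete.le_jacobson_bot I
  have hJpow : ∀ n : ℕ, J ^ n = (I ^ n).map (algebraMap A B) := fun n => by
    rw [hJ, Ideal.map_pow]
  -- key contraction statement
  have hcontr : ∀ (n : ℕ) (a : A), algebraMap A B a ∈ pB ⊔ J ^ n → a ∈ p ⊔ I ^ n := by
    intro n a ha
    apply mem_of_algebraMap_mem_map p f hg (p ⊔ I ^ n) le_sup_left a
    rw [Ideal.map_sup, ← hJpow]
    exact ha
  -- bijectivity
  have hbij : Function.Bijective (Ideal.quotientMap (p.map (algebraMap A (AdicCompletion J B)))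
      (algebraMap A (AdicCompletion J B)) Ideal.le_comap_map) := by
    constructor
    · -- injective
      rw [injective_iff_map_eq_zero]
      intro x hx
      obtain ⟨a, rfl⟩ := Ideal.Quotient.mk_surjective x
      rw [Ideal.quotientMap_mk, Ideal.Quotient.eq_zero_iff_mem] at hx
      rw [Ideal.Quotient.eq_zero_iff_mem]
      apply mem_of_forall_mem_sup_pow p I hIjac a
      intro n
      apply hcontr n a
      -- evaluate at level n
      have hx' : AdicCompletion.of J B (algebraMap A B a) ∈
          pB.map (algebraMap B (AdicCompletion J B)) := by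
        rw [← hmapmap, ← halg]; exact hx
      have h1 : AdicCompletion.evalₐ J n (AdicCompletion.of J B (algebraMap A B a)) ∈
          (pB.map (algebraMap B (AdicCompletion J B))).map
            (AdicCompletion.evalₐ J n : AdicCompletion J B →+* B ⧸ J ^ n) :=
        Ideal.mem_map_of_mem _ hx'
      rw [AdicCompletion.evalₐ_of, Ideal.map_map] at h1
      have h2 : ((AdicCompletion.evalₐ J n : AdicCompletion J B →+* B ⧸ J ^ n).comp
          (algebraMap B (AdicCompletion J B))) = Ideal.Quotient.mk (J ^ n) := by
        ext b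
        exact AdicCompletion.evalₐ_of J n b
      rw [h2, Ideal.mem_map_iff_of_surjective _ Ideal.Quotient.mk_surjective] at h1
      obtain ⟨y, hy, hy1⟩ := h1
      have h3 : y - algebraMap A B a ∈ J ^ n := Ideal.Quotient.eq.mp hy1
      have : algebraMap A B a = y - (y - algebraMap A B a) := by ring
      rw [this]
      exact Ideal.sub_mem _ (Ideal.mem_sup_left hy) (Ideal.mem_sup_right h3)
    · -- surjective
      intro x
      obtain ⟨c, rfl⟩ := Ideal.Quotient.mk_surjective x
      -- representatives
      have hrep : ∀ n : ℕ, ∃ b : B, c.val n = Submodule.Quotient.mk b := fun n =>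
        (Submodule.Quotient.mk_surjective _ (c.val n)).imp fun b hb => hb.symm
      choose b hb using hrep
      have hbb : ∀ n : ℕ, b (n + 1) - b n ∈ J ^ n := by
        intro n
        have h1 := c.property (Nat.le_succ n)
        rw [hb, hb] at h1
        have h2 : (Submodule.Quotient.mk (b (n + 1)) : B ⧸ (J ^ n • ⊤ : Submodule B B)) =
            Submodule.Quotient.mk (b n) := h1
        have h3 := (Submodule.Quotient.eq _).mp h2
        simpa using h3
      choose a ha using fun n => exists_sub_mem_map p f hg (b n)
      have haa : ∀ n : ℕ, a (n + 1) - a n ∈ p ⊔ I ^ n := by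
        intro n
        apply hcontr
        have : algebraMap A B (a (n + 1) - a n) =
            (algebraMap A B (a (n + 1)) - b (n + 1)) + (b (n + 1) - b n) -
              (algebraMap A B (a n) - b n) := by
          rw [map_sub]; ring
        rw [this]
        exact Ideal.sub_mem _ (Ideal.add_mem _ (Ideal.mem_sup_left (ha (n + 1)))
          (Ideal.mem_sup_right (hbb n))) (Ideal.mem_sup_left (ha n))
      -- split a (n+1) - a n = π n + i n
      have hsplit : ∀ n : ℕ, ∃ i ∈ I ^ n, a (n + 1) - a n - i ∈ p := by
        intro n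
        obtain ⟨x, hx, y, hy, hxy⟩ := Submodule.mem_sup.mp (haa n)
        refine ⟨y, hy, ?_⟩
        rw [← hxy]; simpa using hx
      choose i hi hπ using hsplit
      let a' : ℕ → A := fun n => a 0 + ∑ j ∈ Finset.range n, i j
      have ha'p : ∀ n : ℕ, a' n - a n ∈ p := by
        intro n
        induction n with
        | zero => simp [a']
        | succ n ih =>
          have : a' (n + 1) - a (n + 1) = (a' n - a n) - (a (n + 1) - a n - i n) := by
            simp only [a', Finset.sum_range_succ]; ring
          rw [this]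
          exact Ideal.sub_mem _ ih (hπ n)
      have hcauchy : AdicCompletion.IsAdicCauchy I A a' := by
        rw [AdicCompletion.isAdicCauchy_iff]
        intro n
        rw [SModEq.sub_mem]
        have : a' n - a' (n + 1) = -(i n) := by
          simp only [a', Finset.sum_range_succ]; ring
        rw [this]
        apply neg_mem
        simpa using hi n
      obtain ⟨L, hL⟩ := IsPrecomplete.prec' (I := I) (M := A) a' hcauchy
      have hL' : ∀ n : ℕ, a' n - L ∈ I ^ n := by
        intro n
        have := (hL n)
        rw [SModEq.sub_mem] at this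
        simpa using this
      refine ⟨Ideal.Quotient.mk p L, ?_⟩
      rw [Ideal.quotientMap_mk, eq_comm, Ideal.Quotient.eq, hmapmap]
      apply Groth.Agent.Lib.Helper64.AdicClosed.mem_map_of_forall_val
      intro n
      refine ⟨(b n - algebraMap A B (a n)) + algebraMap A B (a n - a' n), ?_, ?_⟩
      · refine Ideal.add_mem _ ?_ (Ideal.mem_map_of_mem _ ?_)
        · have := ha n
          rw [← neg_sub]; exact neg_mem this
        · rw [← neg_sub]; exact neg_mem (ha'p n)
      · rw [AdicCompletion.val_sub_apply, hb, halg, AdicCompletion.of_apply, Submodule.mkQ_apply,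
          ← Submodule.Quotient.mk_sub, Submodule.Quotient.eq]
        have : b n - algebraMap A B L - (b n - algebraMap A B (a n) + algebraMap A B (a n - a' n)) =
            algebraMap A B (a' n - L) := by
          simp only [map_sub]; ring
        rw [this]
        have h4 : algebraMap A B (a' n - L) ∈ J ^ n := by
          rw [hJpow]; exact Ideal.mem_map_of_mem _ (hL' n)
        simpa using h4
  refine ⟨?_, hbij⟩
  -- primality from bijectivity
  have hdom : IsDomain (AdicCompletion J B ⧸ p.map (algebraMap A (AdicCompletion J B))) := by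
    let e := RingEquiv.ofBijective _ hbij
    exact e.symm.toMulEquiv.isDomain (A ⧸ p)
  exact (Ideal.Quotient.isDomain_iff_prime _).mp hdom

end Groth.Agent.S8837
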