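import Groth.Statements.S0530
import Groth.Agent.Lib.Helper37.HenselQuot
import Mathlib.RingTheory.Spectrum.Prime.Topology
import Mathlib.Topology.Connected.Clopen

set_option autoImplicit false
universe u
open Hensel

namespace Groth.Agent.S0530

open Polynomial Groth.Agent.Lib.Helper37

/-- Idempotents lift (to roots of `X² - X`) modulo a Henselian ideal. -/
theorem exists_idempotent_lift {B : Type u} [CommRing B] (J : Ideal B) [hJ : HenselianRing B J]
    (b₀ : B) (hb₀ : b₀ * b₀ - b₀ ∈ J) : ∃ e : B, e * e = e ∧ e - b₀ ∈ J := by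
  have hmonic : (X ^ 2 - X : B[X]).Monic := by
    nontriviality B
    apply (monic_X_pow 2).sub_of_left
    rw [degree_X_pow, degree_X]
    norm_num
  have h₁ : (X ^ 2 - X : B[X]).eval b₀ ∈ J := by
    simpa [pow_two] using hb₀
  have h₂ : IsUnit (Ideal.Quotient.mk J ((X ^ 2 - X : B[X]).derivative.eval b₀)) := by
    rw [isUnit_mk_iff]
    refine ⟨2 * b₀ - 1, ?_⟩
    have : (X ^ 2 - X : B[X]).derivative.eval b₀ * (2 * b₀ - 1) - 1 = 4 * (b₀ * b₀ - b₀) := by
      simp
      ring
    rw [this]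
    exact J.mul_mem_left _ hb₀
  obtain ⟨e, he, heJ⟩ := hJ.is_henselian _ hmonic b₀ h₁ h₂
  refine ⟨e, ?_, heJ⟩
  have := he.eq_zero
  simp only [eval_sub, eval_pow, eval_X, sub_eq_zero] at this
  rw [pow_two] at this
  exact this

/-- If `A` is Henselian at `I` and `p` is a prime ideal of `A`, then the spectrum of `A/(p + I)` is
connected. -/
theorem result (A : Type u) [CommRing A] (I : Ideal A) [HenselianRing A I]
    (p : Ideal A) [p.IsPrime] : ConnectedSpace (PrimeSpectrum (A ⧸ p ⊔ I)) := by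
  have hjac : I ≤ Ideal.jacobson ⊥ := HenselianRing.jac
  -- `A ⧸ p` is a Henselian domain
  have hB : HenselianRing (A ⧸ p) (I.map (Ideal.Quotient.mk p)) :=
    henselianRing_map_of_surjective _ Ideal.Quotient.mk_surjective I
  -- the quotient is nontrivial
  have hne : p ⊔ I ≠ ⊤ := by
    intro htop
    have h1 : (1 : A) ∈ p ⊔ I := htop ▸ Submodule.mem_top
    obtain ⟨a, ha, i, hi, hai⟩ := Submodule.mem_sup.mp h1
    have hunit : IsUnit (i * (-1) + 1) := Ideal.mem_jacobson_bot.mp (hjac hi) (-1)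
    have : i * (-1) + 1 = a := by linear_combination (-1 : A) * hai
    rw [this] at hunit
    exact (Ideal.IsPrime.ne_top ‹p.IsPrime›) (Ideal.eq_top_of_isUnit_mem _ ha hunit)
  have : Nontrivial (A ⧸ p ⊔ I) := Ideal.Quotient.nontrivial_iff.mpr hne
  -- idempotents of the quotient are trivial
  have hidem : ∀ e : A ⧸ p ⊔ I, IsIdempotentElem e → e = 0 ∨ e = 1 := by
    intro e he
    obtain ⟨a, rfl⟩ := Ideal.Quotient.mk_surjective e
    have ha : a * a - a ∈ p ⊔ I := by
      rw [← Ideal.Quotient.eq_zero_iff_mem, map_sub, map_mul, he.eq, sub_self]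
    obtain ⟨x, hx, i, hi, hxi⟩ := Submodule.mem_sup.mp ha
    have hb₀ : Ideal.Quotient.mk p a * Ideal.Quotient.mk p a - Ideal.Quotient.mk p a ∈
        I.map (Ideal.Quotient.mk p) := by
      rw [← map_mul, ← map_sub, ← hxi, map_add, Ideal.Quotient.eq_zero_iff_mem.mpr hx, zero_add]
      exact Ideal.mem_map_of_mem _ hi
    obtain ⟨e', he', he'I⟩ := exists_idempotent_lift _ _ hb₀
    obtain ⟨c, rfl⟩ := Ideal.Quotient.mk_surjective e'
    have hca : c - a ∈ p ⊔ I := by
      rw [← map_sub] at he'I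
      obtain ⟨y, hy, hyc⟩ := (Ideal.mem_map_iff_of_surjective _ Ideal.Quotient.mk_surjective).mp he'I
      have : (c - a) - y ∈ p := by
        rw [← Ideal.Quotient.eq_zero_iff_mem, map_sub, hyc, sub_self]
      have h2 : c - a = ((c - a) - y) + y := by ring
      rw [h2]
      exact Submodule.add_mem_sup this hy
    have hac : Ideal.Quotient.mk (p ⊔ I) a = Ideal.Quotient.mk (p ⊔ I) c := by
      rw [eq_comm, ← sub_eq_zero, ← map_sub, Ideal.Quotient.eq_zero_iff_mem]
      exact hca
    have h01 : Ideal.Quotient.mk p c = 0 ∨ Ideal.Quotient.mk p c = 1 := by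
      have h3 : Ideal.Quotient.mk p c * (Ideal.Quotient.mk p c - 1) = 0 := by
        rw [mul_sub, he', mul_one, sub_self]
      rcases mul_eq_zero.mp h3 with h | h
      · exact Or.inl h
      · exact Or.inr (sub_eq_zero.mp h)
    rcases h01 with h | h
    · left
      rw [hac, Ideal.Quotient.eq_zero_iff_mem]
      exact (le_sup_left : p ≤ p ⊔ I) (Ideal.Quotient.eq_zero_iff_mem.mp h)
    · right
      rw [hac, ← map_one (Ideal.Quotient.mk (p ⊔ I)), ← sub_eq_zero, ← map_sub,
        Ideal.Quotient.eq_zero_iff_mem]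
      apply (le_sup_left : p ≤ p ⊔ I)
      rw [← Ideal.Quotient.eq_zero_iff_mem, map_sub, h, map_one, sub_self]
  rw [connectedSpace_iff_clopen]
  refine ⟨inferInstance, fun s hs => ?_⟩
  obtain ⟨e, he, rfl⟩ := PrimeSpectrum.isClopen_iff.mp hs
  rcases hidem e he with h | h
  · left; rw [h]; simp
  · right; rw [h]; simp

end Groth.Agent.S0530
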