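import Groth.Statements.S8804
import Mathlib
import Groth.Agent.S0530
import Groth.Agent.Lib.Helper83.CompleteNoeth

set_option autoImplicit false
universe u
open AdicRing

namespace Groth.Agent.S8804

/-- Adic completeness only depends on the topology: if `I ≤ J` and `J ^ N ≤ I`, then `I`-adic
completeness implies `J`-adic completeness. -/
theorem isAdicComplete_of_le_of_pow_le {R : Type*} [CommRing R] (I J : Ideal R) (M : Type*)
    [AddCommGroup M] [Module R M] (hIJ : I ≤ J) (N : ℕ) (hN : J ^ N ≤ I) [IsAdicComplete I M] :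
    IsAdicComplete J M := by
  have hN' : J ^ (N + 1) ≤ I := le_trans (Ideal.pow_le_pow_right (Nat.le_succ N)) hN
  have hpow : ∀ n, (J ^ ((N + 1) * n) • ⊤ : Submodule R M) ≤ I ^ n • ⊤ := fun n => by
    rw [pow_mul]
    exact Submodule.smul_mono (Ideal.pow_right_mono hN' n) le_rfl
  have hpow' : ∀ n, (I ^ n • ⊤ : Submodule R M) ≤ J ^ n • ⊤ := fun n =>
    Submodule.smul_mono (Ideal.pow_right_mono hIJ n) le_rfl
  have hle : ∀ n, n ≤ (N + 1) * n := fun n => Nat.le_mul_of_pos_left n (Nat.succ_pos N)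
  refine { haus' := fun x hx => ?_, prec' := fun f hf => ?_ }
  · refine IsHausdorff.haus (I := I) inferInstance x fun n => ?_
    rw [SModEq.zero]
    have := hx ((N + 1) * n)
    rw [SModEq.zero] at this
    exact hpow n this
  · have hg : ∀ {m n : ℕ}, m ≤ n →
        f ((N + 1) * m) ≡ f ((N + 1) * n) [SMOD (I ^ m • ⊤ : Submodule R M)] := by
      intro m n hmn
      have := hf (Nat.mul_le_mul_left (N + 1) hmn)
      rw [SModEq.sub_mem] at this ⊢
      exact hpow m this
    obtain ⟨L, hL⟩ := IsPrecomplete.prec (I := I) inferInstance hg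
    refine ⟨L, fun n => ?_⟩
    have h1 := hf (hle n)
    have h2 := hL n
    rw [SModEq.sub_mem] at h1 h2 ⊢
    have h3 : f n - L = (f n - f ((N + 1) * n)) + (f ((N + 1) * n) - L) := by abel
    rw [h3]
    exact add_mem h1 (hpow' n h2)

/-- Krull's principal ideal theorem: no chain `P₀ < P₁ < P₂` of primes with `P₂` minimal over a
principal ideal. -/
theorem not_lt_lt_of_mem_minimalPrimes {D : Type*} [CommRing D] [IsNoetherianRing D] {x : D}
    {P₀ P₁ P₂ : Ideal D} [P₀.IsPrime] [P₁.IsPrime]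
    (h2 : P₂ ∈ (Ideal.span {x}).minimalPrimes) (h01 : P₀ < P₁) (h12 : P₁ < P₂) : False := by
  have hP₂ : P₂.IsPrime := h2.1.1
  have h := Ideal.height_le_one_of_isPrincipal_of_mem_minimalPrimes (Ideal.span {x}) P₂ h2
  have h1 := Ideal.height_add_one_le_of_lt_of_isPrime h01
  have h3 := Ideal.height_add_one_le_of_lt_of_isPrime h12
  have h4 : P₁.height + 1 ≤ 1 := le_trans h3 h
  have h5 : P₁.height = 0 := by
    have : P₁.height + 1 ≤ 0 + 1 := by simpa using h4
    have := (ENat.add_le_add_iff_right (by simp)).mp this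
    simpa using this
  rw [h5] at h1
  simp at h1

section Domain

variable {D : Type u} [CommRing D] [IsDomain D] [IsNoetherianRing D] (I' : Ideal D)

/-- In a Noetherian domain where every nonzero prime contains the nonzero ideal `I'`, every nonzero
prime is maximal. -/
theorem isMaximal_of_ne_bot (hne : I' ≠ ⊥)
    (hall : ∀ P : Ideal D, P.IsPrime → P ≠ ⊥ → I' ≤ P) (P : Ideal D) (hP : P.IsPrime)
    (hP0 : P ≠ ⊥) : P.IsMaximal := by
  classical
  by_contra hmax
  obtain ⟨m, hm, hPm⟩ := Ideal.exists_le_maximal P hP.ne_top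
  have hlt : P < m := lt_of_le_of_ne hPm (fun h => hmax (h ▸ hm))
  have hbotP : (⊥ : Ideal D) < P := bot_lt_iff_ne_bot.mpr hP0
  obtain ⟨f, hfI, hf0⟩ := Submodule.exists_mem_ne_zero_of_ne_bot hne
  have hfin : (Ideal.span {f}).minimalPrimes.Finite :=
    Ideal.finite_minimalPrimes_of_isNoetherianRing D _
  let s : Finset (Ideal D) := insert ⊥ hfin.toFinset
  have hprime : ∀ i ∈ s, i ≠ ⊥ → i ≠ ⊥ → (id i : Ideal D).IsPrime := by
    intro i hi hi0 _
    rw [Finset.mem_insert] at hi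
    rcases hi with hi | hi
    · exact absurd hi hi0
    · exact ((Set.Finite.mem_toFinset hfin).mp hi).1.1
  have hnot : ¬ ((m : Set D) ⊆ ⋃ i ∈ (↑s : Set (Ideal D)), ((id i : Ideal D) : Set D)) := by
    rw [Ideal.subset_union_prime ⊥ ⊥ hprime]
    rintro ⟨i, hi, hmi⟩
    rw [Finset.mem_insert] at hi
    rcases hi with hi | hi
    · subst hi
      exact absurd (lt_of_lt_of_le hlt hmi) (not_lt_bot)
    · have hi' := (Set.Finite.mem_toFinset hfin).mp hi
      exact not_lt_lt_of_mem_minimalPrimes hi' hbotP (lt_of_lt_of_le hlt hmi)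
  obtain ⟨g, hgm, hg⟩ := Set.not_subset.mp hnot
  have hg0 : g ≠ 0 := by
    intro h0
    apply hg
    refine Set.mem_biUnion (x := ⊥) (Finset.mem_coe.mpr (Finset.mem_insert_self _ _)) ?_
    rw [h0]; exact Ideal.zero_mem _
  have hgmin : ∀ i ∈ (Ideal.span {f}).minimalPrimes, g ∉ i := by
    intro i hi hgi
    apply hg
    exact Set.mem_biUnion (x := i) (Finset.mem_coe.mpr (Finset.mem_insert_of_mem
      ((Set.Finite.mem_toFinset hfin).mpr hi))) hgi
  have hmprime : m.IsPrime := hm.isPrime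
  obtain ⟨P₂, hP₂min, hP₂m⟩ := Ideal.exists_minimalPrimes_le (I := Ideal.span {g}) (J := m)
    (by rw [Ideal.span_singleton_le_iff_mem]; exact hgm)
  have hP₂prime : P₂.IsPrime := hP₂min.1.1
  have hgP₂ : g ∈ P₂ := hP₂min.1.2 (Ideal.subset_span rfl)
  have hP₂0 : P₂ ≠ ⊥ := fun h => hg0 (by rw [h] at hgP₂; exact hgP₂)
  have hfP₂ : f ∈ P₂ := hall P₂ hP₂prime hP₂0 hfI
  obtain ⟨P₃, hP₃min, hP₃le⟩ := Ideal.exists_minimalPrimes_le (I := Ideal.span {f}) (J := P₂)
    (by rw [Ideal.span_singleton_le_iff_mem]; exact hfP₂)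
  have hP₃prime : P₃.IsPrime := hP₃min.1.1
  have hfP₃ : f ∈ P₃ := hP₃min.1.2 (Ideal.subset_span rfl)
  have hP₃0 : (⊥ : Ideal D) < P₃ :=
    bot_lt_iff_ne_bot.mpr (fun h => hf0 (by rw [h] at hfP₃; exact hfP₃))
  have heq : P₃ = P₂ := by
    by_contra hne'
    exact not_lt_lt_of_mem_minimalPrimes hP₂min hP₃0 (lt_of_le_of_ne hP₃le hne')
  exact hgmin P₃ hP₃min (heq ▸ hgP₂)

theorem ringKrullDim_eq_one (hne : I' ≠ ⊥) (hjac : I' ≤ Ideal.jacobson ⊥)
    (hall : ∀ P : Ideal D, P.IsPrime → P ≠ ⊥ → I' ≤ P) : ringKrullDim D = 1 := by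
  have h1 : Ring.KrullDimLE 1 D := Ring.krullDimLE_one_iff_of_noZeroDivisors.mpr
    (fun P hP0 hP => isMaximal_of_ne_bot I' hne hall P hP hP0)
  have hle : ringKrullDim D ≤ 1 := by
    rw [Ring.krullDimLE_iff] at h1
    exact_mod_cast h1
  have hge : 1 ≤ ringKrullDim D := by
    rw [ringKrullDim, Order.one_le_krullDim_iff]
    obtain ⟨m, hm⟩ := Ideal.exists_maximal D
    refine ⟨⟨⊥, Ideal.bot_prime⟩, ⟨m, hm.isPrime⟩, ?_⟩
    rw [← PrimeSpectrum.asIdeal_lt_asIdeal]
    apply bot_lt_iff_ne_bot.mpr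
    intro h0
    apply hne
    rw [eq_bot_iff]
    refine le_trans hjac ?_
    have hm0 : m = ⊥ := h0
    exact le_trans (sInf_le ⟨bot_le, hm⟩) hm0.le
  exact le_antisymm hle hge

theorem eq_of_isMaximal [HenselianRing D I'] (hne : I' ≠ ⊥)
    (hall : ∀ P : Ideal D, P.IsPrime → P ≠ ⊥ → I' ≤ P) (m₁ m₂ : Ideal D)
    (h₁ : m₁.IsMaximal) (h₂ : m₂.IsMaximal) : m₁ = m₂ := by
  have hjac : I' ≤ Ideal.jacobson ⊥ := HenselianRing.jac
  have hconn : ConnectedSpace (PrimeSpectrum (D ⧸ (⊥ : Ideal D) ⊔ I')) :=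
    Groth.Agent.S0530.result D I' ⊥
  set K : Ideal D := (⊥ : Ideal D) ⊔ I' with hK
  have hKI : K = I' := bot_sup_eq _
  have hsurj : Function.Surjective (Ideal.Quotient.mk K) := Ideal.Quotient.mk_surjective
  have hdim0 : Ring.KrullDimLE 0 (D ⧸ K) := by
    refine Ring.KrullDimLE.mk₀ (fun P' hP' => ?_)
    have hQ : (P'.comap (Ideal.Quotient.mk K)).IsPrime := Ideal.comap_isPrime _ _
    have hKQ : K ≤ P'.comap (Ideal.Quotient.mk K) := by
      intro x hx
      rw [Ideal.mem_comap, Ideal.Quotient.eq_zero_iff_mem.mpr hx]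
      exact Ideal.zero_mem _
    have hQ0 : P'.comap (Ideal.Quotient.mk K) ≠ ⊥ := by
      intro h0
      apply hne
      rw [eq_bot_iff, ← h0, ← hKI]
      exact hKQ
    have hQmax := isMaximal_of_ne_bot I' hne hall _ hQ hQ0
    have hmap : (P'.comap (Ideal.Quotient.mk K)).map (Ideal.Quotient.mk K) = P' :=
      Ideal.map_comap_of_surjective _ hsurj P'
    rcases Ideal.map_eq_top_or_isMaximal_of_surjective _ hsurj hQmax with h | h
    · rw [hmap] at h
      exact absurd h hP'.ne_top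
    · rwa [hmap] at h
  have hart : IsArtinianRing (D ⧸ K) := IsNoetherianRing.isArtinianRing_of_krullDimLE_zero
  have hsub : Subsingleton (PrimeSpectrum (D ⧸ K)) := PreconnectedSpace.trivial_of_discrete
  have key : ∀ m : Ideal D, m.IsMaximal →
      ∃ x : PrimeSpectrum (D ⧸ K), x.asIdeal.comap (Ideal.Quotient.mk K) = m := by
    intro m hm
    have hKm : K ≤ m := by
      rw [hKI]
      exact le_trans hjac (sInf_le ⟨bot_le, hm⟩)
    have hcm : (m.map (Ideal.Quotient.mk K)).comap (Ideal.Quotient.mk K) = m := by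
      rw [Ideal.comap_map_of_surjective _ hsurj, ← RingHom.ker_eq_comap_bot, Ideal.mk_ker,
        sup_eq_left]
      exact hKm
    rcases Ideal.map_eq_top_or_isMaximal_of_surjective _ hsurj hm with h | h
    · exfalso
      rw [h, Ideal.comap_top] at hcm
      exact hm.ne_top hcm.symm
    · exact ⟨⟨m.map (Ideal.Quotient.mk K), h.isPrime⟩, hcm⟩
  obtain ⟨x₁, hx₁⟩ := key m₁ h₁
  obtain ⟨x₂, hx₂⟩ := key m₂ h₂
  rw [← hx₁, ← hx₂, Subsingleton.elim x₁ x₂]

theorem eq_radical_of_isMaximal [HenselianRing D I'] (hne : I' ≠ ⊥)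
    (hall : ∀ P : Ideal D, P.IsPrime → P ≠ ⊥ → I' ≤ P) (m : Ideal D) (hm : m.IsMaximal) :
    m = I'.radical := by
  have hjac : I' ≤ Ideal.jacobson ⊥ := HenselianRing.jac
  rw [Ideal.radical_eq_sInf]
  apply le_antisymm
  · refine le_sInf (fun P hP => ?_)
    have hP0 : P ≠ ⊥ := by
      intro h0
      apply hne
      rw [eq_bot_iff, ← h0]
      exact hP.1
    have hPmax := isMaximal_of_ne_bot I' hne hall P hP.2 hP0
    rw [eq_of_isMaximal I' hne hall m P hm hPmax]
  · exact sInf_le ⟨le_trans hjac (sInf_le ⟨bot_le, hm⟩), hm.isPrime⟩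

end Domain

/-- Let A be a Noetherian ring which is complete for the adic topology of an ideal I, and let q be a
prime ideal of A. The following are equivalent: (1) I ⊄ q and q is maximal among the primes not
containing I; (5) dim(A/q) = 1 and I ⊄ q; (8) A/q is a one-dimensional complete local ring whose
maximal ideal is the radical of the image of I (stated as: the Krull dimension of A/q is 1, every
maximal ideal of A/q equals the radical of I(A/q), and A/q is adically complete for that radical).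
(The other equivalent forms, for other ideals of definition or for the induced topology, are not
stated.) -/
theorem result (A : Type u) [CommRing A] [IsNoetherianRing A] (I : Ideal A) [IsAdicComplete I A] (q : PrimeSpectrum A) : List.TFAE [¬ I ≤ q.asIdeal ∧ ∀ q' : PrimeSpectrum A, q ≤ q' → ¬ I ≤ q'.asIdeal → q' = q, ringKrullDim (A ⧸ q.asIdeal) = 1 ∧ ¬ I ≤ q.asIdeal, ringKrullDim (A ⧸ q.asIdeal) = 1 ∧ (∀ m : Ideal (A ⧸ q.asIdeal), m.IsMaximal → m = (I.map (Ideal.Quotient.mk q.asIdeal)).radical) ∧ IsAdicComplete (I.map (Ideal.Quotient.mk q.asIdeal)).radical (A ⧸ q.asIdeal)] := by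
  have hq : q.asIdeal.IsPrime := q.isPrime
  have hsurj : Function.Surjective (Ideal.Quotient.mk q.asIdeal) := Ideal.Quotient.mk_surjective
  have hcompl : IsAdicComplete (I.map (Ideal.Quotient.mk q.asIdeal)) (A ⧸ q.asIdeal) :=
    Groth.Agent.Lib.Helper83.isAdicComplete_quotient_of_isNoetherianRing I q.asIdeal
  have hhens : HenselianRing (A ⧸ q.asIdeal) (I.map (Ideal.Quotient.mk q.asIdeal)) :=
    inferInstance
  have hjac : I.map (Ideal.Quotient.mk q.asIdeal) ≤ Ideal.jacobson ⊥ :=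
    IsAdicComplete.le_jacobson_bot _
  have hne_iff : I.map (Ideal.Quotient.mk q.asIdeal) ≠ ⊥ ↔ ¬ I ≤ q.asIdeal := by
    rw [Ne, Ideal.map_eq_bot_iff_le_ker, Ideal.mk_ker]
  tfae_have 1 → 3 := by
    rintro ⟨h1, h2⟩
    have hne : I.map (Ideal.Quotient.mk q.asIdeal) ≠ ⊥ := hne_iff.mpr h1
    have hall : ∀ P : Ideal (A ⧸ q.asIdeal), P.IsPrime → P ≠ ⊥ →
        I.map (Ideal.Quotient.mk q.asIdeal) ≤ P := by
      intro P hP hP0
      by_contra hIP
      have hcomap : (P.comap (Ideal.Quotient.mk q.asIdeal)).IsPrime := Ideal.comap_isPrime _ _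
      have hqle : q.asIdeal ≤ P.comap (Ideal.Quotient.mk q.asIdeal) := by
        intro x hx
        rw [Ideal.mem_comap, Ideal.Quotient.eq_zero_iff_mem.mpr hx]
        exact Ideal.zero_mem _
      have h3 := h2 ⟨P.comap (Ideal.Quotient.mk q.asIdeal), hcomap⟩
        ((PrimeSpectrum.asIdeal_le_asIdeal _ _).mp hqle)
        (fun hI => hIP (Ideal.map_le_iff_le_comap.mpr hI))
      have h4 : P.comap (Ideal.Quotient.mk q.asIdeal) = q.asIdeal :=
        congrArg PrimeSpectrum.asIdeal h3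
      apply hP0
      rw [← Ideal.map_comap_of_surjective _ hsurj P, h4, Ideal.map_quotient_self]
    refine ⟨ringKrullDim_eq_one _ hne hjac hall,
      fun m hm => eq_radical_of_isMaximal _ hne hall m hm, ?_⟩
    obtain ⟨N, hN⟩ := Ideal.exists_radical_pow_le_of_fg (I.map (Ideal.Quotient.mk q.asIdeal))
      (Ideal.fg_of_isNoetherianRing _)
    exact isAdicComplete_of_le_of_pow_le (I.map (Ideal.Quotient.mk q.asIdeal))
      (I.map (Ideal.Quotient.mk q.asIdeal)).radical _ Ideal.le_radical N hN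
  tfae_have 3 → 2 := by
    rintro ⟨hdim, hmax, -⟩
    refine ⟨hdim, fun hIq => ?_⟩
    have hI0 : I.map (Ideal.Quotient.mk q.asIdeal) = ⊥ := by
      rw [Ideal.map_eq_bot_iff_le_ker, Ideal.mk_ker]; exact hIq
    obtain ⟨m, hm⟩ := Ideal.exists_maximal (A ⧸ q.asIdeal)
    have hm0 : m = ⊥ := by
      rw [hmax m hm, hI0]; exact Ideal.radical_bot_of_noZeroDivisors
    have hfield : IsField (A ⧸ q.asIdeal) := Ring.isField_iff_maximal_bot.mpr (hm0 ▸ hm)
    have h0 : ringKrullDim (A ⧸ q.asIdeal) = 0 := ringKrullDim_eq_zero_of_isField hfield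
    rw [h0] at hdim
    exact zero_ne_one hdim
  tfae_have 2 → 1 := by
    rintro ⟨hdim, hIq⟩
    refine ⟨hIq, fun q' hqq' hIq' => ?_⟩
    by_contra hne
    have hqq'' : q.asIdeal ≤ q'.asIdeal := (PrimeSpectrum.asIdeal_le_asIdeal _ _).mpr hqq'
    have hker : RingHom.ker (Ideal.Quotient.mk q.asIdeal) ≤ q'.asIdeal := by
      rw [Ideal.mk_ker]; exact hqq''
    have hq' : q'.asIdeal.IsPrime := q'.isPrime
    have hP : (q'.asIdeal.map (Ideal.Quotient.mk q.asIdeal)).IsPrime :=
      Ideal.map_isPrime_of_surjective hsurj hker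
    have hcm : (q'.asIdeal.map (Ideal.Quotient.mk q.asIdeal)).comap
        (Ideal.Quotient.mk q.asIdeal) = q'.asIdeal := by
      rw [Ideal.comap_map_of_surjective _ hsurj, ← RingHom.ker_eq_comap_bot, sup_eq_left]
      exact hker
    have hP0 : q'.asIdeal.map (Ideal.Quotient.mk q.asIdeal) ≠ ⊥ := by
      intro h0
      rw [h0, ← RingHom.ker_eq_comap_bot, Ideal.mk_ker] at hcm
      exact hne (PrimeSpectrum.ext hcm.symm)
    have h1 : Ring.KrullDimLE 1 (A ⧸ q.asIdeal) := by
      rw [Ring.krullDimLE_iff, hdim]; rfl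
    have hPmax := Ring.krullDimLE_one_iff_of_noZeroDivisors.mp h1 _ hP0 hP
    apply hIq'
    rw [← hcm]
    apply Ideal.map_le_iff_le_comap.mp
    exact le_trans hjac (sInf_le ⟨bot_le, hPmax⟩)
  tfae_finish

end Groth.Agent.S8804
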