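import Groth.Statements.S8838
import Mathlib
import Groth.Agent.S8804
import Groth.Agent.S0544
import Groth.Agent.Lib.Helper83.UnramGeneric

set_option autoImplicit false
universe u
open AdicRing

namespace Groth.Agent.S8838

open TensorProduct in
/-- `A ⧸ (I ⊔ p)` is Artinian when `A ⧸ p` is one-dimensional and `I ⊄ p`. -/
theorem isArtinianRing_quot_sup (A : Type u) [CommRing A] [IsNoetherianRing A] (I p : Ideal A)
    [hp : p.IsPrime] (hdim : ringKrullDim (A ⧸ p) = 1) (hI : ¬ I ≤ p) :
    IsArtinianRing (A ⧸ (I ⊔ p)) := by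
  rw [isArtinianRing_iff_krullDimLE_zero, Ring.krullDimLE_zero_iff]
  intro Q hQ
  have h1 : Ring.KrullDimLE 1 (A ⧸ p) := by
    rw [Ring.krullDimLE_iff, hdim]; rfl
  set π := Ideal.Quotient.mk (I ⊔ p) with hπ
  have hπs : Function.Surjective π := Ideal.Quotient.mk_surjective
  set P : Ideal A := Q.comap π with hPdef
  have hPprime : P.IsPrime := Ideal.comap_isPrime _ _
  have hle : I ⊔ p ≤ P := by
    intro x hx
    rw [hPdef, Ideal.mem_comap, hπ, Ideal.Quotient.eq_zero_iff_mem.2 hx]
    exact Q.zero_mem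
  have hpP : p ≤ P := le_sup_right.trans hle
  have hIP : I ≤ P := le_sup_left.trans hle
  -- `P / p` is a nonzero prime of `A ⧸ p`
  have hP'prime : (P.map (Ideal.Quotient.mk p)).IsPrime :=
    Ideal.map_isPrime_of_surjective Ideal.Quotient.mk_surjective (by rwa [Ideal.mk_ker])
  have hP'ne : P.map (Ideal.Quotient.mk p) ≠ ⊥ := by
    intro h0
    rw [Ideal.map_eq_bot_iff_le_ker, Ideal.mk_ker] at h0
    exact hI (hIP.trans h0)
  have hP'max : (P.map (Ideal.Quotient.mk p)).IsMaximal :=
    Ideal.IsPrime.isMaximal_of_ne_bot hP'prime hP'ne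
  have hcm : (P.map (Ideal.Quotient.mk p)).comap (Ideal.Quotient.mk p) = P := by
    rw [Ideal.comap_map_of_surjective _ Ideal.Quotient.mk_surjective, ← RingHom.ker_eq_comap_bot,
      Ideal.mk_ker]
    exact sup_eq_left.2 hpP
  have hPmax : P.IsMaximal := by
    rw [← hcm]
    exact Ideal.comap_isMaximal_of_surjective _ Ideal.Quotient.mk_surjective
  have hQ' : Q = P.map π := by
    rw [hPdef, Ideal.map_comap_of_surjective π hπs]
  rw [hQ']
  exact Ideal.IsMaximal.map_of_surjective_of_ker_le hπs (by rw [hπ, Ideal.mk_ker]; exact hle)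

open TensorProduct in
/-- Finiteness of `B ⧸ (I B + p B)` over `A` when `B ⧸ I B` is étale over `A ⧸ I` and
`A ⧸ (I + p)` is Artinian. -/
theorem finite_quot_sup (A : Type u) [CommRing A] (I : Ideal A) (B : Type u) [CommRing B]
    [Algebra A B] [Algebra.Etale (A ⧸ I) (B ⧸ (I.map (algebraMap A B)))] (p : Ideal A)
    [IsArtinianRing (A ⧸ (I ⊔ p))] :
    Module.Finite A (B ⧸ (I.map (algebraMap A B) ⊔ p.map (algebraMap A B))) := by
  have hArt' : IsArtinianRing ((A ⧸ I) ⧸ p.map (Ideal.Quotient.mk I)) :=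
    (DoubleQuot.quotQuotEquivQuotSup I p).symm.isArtinianRing
  have hqf : Algebra.QuasiFinite (A ⧸ I) (B ⧸ I.map (algebraMap A B)) := inferInstance
  have h1 : Module.Finite ((A ⧸ I) ⧸ p.map (Ideal.Quotient.mk I))
      (((A ⧸ I) ⧸ p.map (Ideal.Quotient.mk I)) ⊗[A ⧸ I] (B ⧸ I.map (algebraMap A B))) :=
    Module.Finite.of_quasiFinite (R := (A ⧸ I) ⧸ p.map (Ideal.Quotient.mk I))
      (S := ((A ⧸ I) ⧸ p.map (Ideal.Quotient.mk I)) ⊗[A ⧸ I] (B ⧸ I.map (algebraMap A B)))
  have h2 : Module.Finite ((A ⧸ I) ⧸ p.map (Ideal.Quotient.mk I))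
      ((B ⧸ I.map (algebraMap A B)) ⧸ (p.map (Ideal.Quotient.mk I)).map
        (algebraMap (A ⧸ I) (B ⧸ I.map (algebraMap A B)))) :=
    Module.Finite.equiv (Algebra.TensorProduct.quotIdealMapEquivQuotTensor
      (B ⧸ I.map (algebraMap A B)) (p.map (Ideal.Quotient.mk I))).symm.toLinearEquiv
  have h3 : Module.Finite (A ⧸ I)
      ((B ⧸ I.map (algebraMap A B)) ⧸ (p.map (Ideal.Quotient.mk I)).map
        (algebraMap (A ⧸ I) (B ⧸ I.map (algebraMap A B)))) :=
    Module.Finite.trans ((A ⧸ I) ⧸ p.map (Ideal.Quotient.mk I)) _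
  have h4 : Module.Finite A
      ((B ⧸ I.map (algebraMap A B)) ⧸ (p.map (Ideal.Quotient.mk I)).map
        (algebraMap (A ⧸ I) (B ⧸ I.map (algebraMap A B)))) :=
    Module.Finite.trans (A ⧸ I) _
  have hideal : (p.map (Ideal.Quotient.mk I)).map
      (algebraMap (A ⧸ I) (B ⧸ I.map (algebraMap A B))) =
        (p.map (algebraMap A B)).map (Ideal.Quotient.mk (I.map (algebraMap A B))) := by
    rw [Ideal.map_map, Ideal.map_map]
    congr 1
  rw [hideal] at h4
  have h5 : Module.Finite A ((B ⧸ I.map (algebraMap A B)) ⧸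
      Ideal.map (Ideal.Quotient.mkₐ A (I.map (algebraMap A B))) (p.map (algebraMap A B))) := h4
  exact Module.Finite.equiv
    (DoubleQuot.quotQuotEquivQuotSupₐ A (I.map (algebraMap A B)) (p.map (algebraMap A B))).toLinearEquiv

/-- From finiteness of `B ⧸ (I B + p B)` to finiteness of `(B ⧸ p B) ⧸ I (B ⧸ p B)`. -/
theorem finite_quot_smul (A : Type u) [CommRing A] (I : Ideal A) (B : Type u) [CommRing B]
    [Algebra A B] (p : Ideal A)
    [h : Module.Finite A (B ⧸ (I.map (algebraMap A B) ⊔ p.map (algebraMap A B)))] :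
    Module.Finite A ((B ⧸ p.map (algebraMap A B)) ⧸
      (I • ⊤ : Submodule A (B ⧸ p.map (algebraMap A B)))) := by
  set K : Ideal B := I.map (algebraMap A B) ⊔ p.map (algebraMap A B) with hK
  let π : B →ₗ[A] ((B ⧸ p.map (algebraMap A B)) ⧸
      (I • ⊤ : Submodule A (B ⧸ p.map (algebraMap A B)))) :=
    (Submodule.mkQ _) ∘ₗ (Ideal.Quotient.mkₐ A (p.map (algebraMap A B))).toLinearMap
  have hπs : Function.Surjective π :=
    (Submodule.mkQ_surjective _).comp Ideal.Quotient.mk_surjective
  have hker : K.restrictScalars A ≤ LinearMap.ker π := by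
    intro x hx
    rw [LinearMap.mem_ker]
    change Submodule.Quotient.mk (Ideal.Quotient.mk (p.map (algebraMap A B)) x) = 0
    rw [Submodule.Quotient.mk_eq_zero, Ideal.smul_top_eq_map, Submodule.restrictScalars_mem]
    have h1 : Ideal.Quotient.mk (p.map (algebraMap A B)) x ∈
        K.map (Ideal.Quotient.mk (p.map (algebraMap A B))) := Ideal.mem_map_of_mem _ hx
    rw [hK, Ideal.map_sup, Ideal.map_quotient_self, sup_bot_eq, Ideal.map_map] at h1
    exact h1
  have h2 : Module.Finite A (B ⧸ K.restrictScalars A) :=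
    Module.Finite.equiv (Submodule.Quotient.restrictScalarsEquiv A K).symm
  refine Module.Finite.of_surjective (Submodule.liftQ (K.restrictScalars A) π hker) ?_
  rw [← LinearMap.range_eq_top, Submodule.range_liftQ, LinearMap.range_eq_top]
  exact hπs

/-- Suppose A is a Noetherian ring that is I-adically complete for an ideal I, and B is a Noetherian
A-algebra that is complete with respect to the IB-adic topology, with B/IB of finite type over A (so
A → B is an adic morphism of adic Noetherian topological rings that is topologically of finite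
type). Assume further that A → B is flat and that the induced map A/I → B/IB is étale (with I as the
chosen ideal of definition). Consider a prime q of B that is rig-closed (q does not contain IB, and
q is maximal among primes of B not containing IB), and suppose its preimage p in A is rig-closed as
well (p does not contain I, and p is maximal among primes of A not containing I). Then the extension
of p to the localization B_q equals its maximal ideal, that is, p B_q = q B_q. -/
theorem result (A : Type u) [CommRing A] [IsNoetherianRing A] (I : Ideal A) [IsAdicComplete I A] (B : Type u) [CommRing B] [Algebra A B] [IsNoetherianRing B] [IsAdicComplete (I.map (algebraMap A B)) B] (hft : Algebra.FiniteType A (B ⧸ (I.map (algebraMap A B)))) [Module.Flat A B] [Algebra.Etale (A ⧸ I) (B ⧸ (I.map (algebraMap A B)))] (q : PrimeSpectrum B) (hq : (¬ (I.map (algebraMap A B)) ≤ q.asIdeal ∧ ∀ y : PrimeSpectrum B, q ≤ y → ¬ (I.map (algebraMap A B)) ≤ y.asIdeal → y = q)) (hp : (¬ I ≤ (PrimeSpectrum.comap (algebraMap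 A B) q).asIdeal ∧ ∀ y : PrimeSpectrum A, (PrimeSpectrum.comap (algebraMap A B) q) ≤ y → ¬ I ≤ y.asIdeal → y = (PrimeSpectrum.comap (algebraMap A B) q))) : ((PrimeSpectrum.comap (algebraMap A B) q).asIdeal.map (algebraMap A B)).map (algebraMap B (Localization.AtPrime q.asIdeal)) = IsLocalRing.maximalIdeal (Localization.AtPrime q.asIdeal) := by
  classical
  set p : Ideal A := (PrimeSpectrum.comap (algebraMap A B) q).asIdeal with hpdef
  have hpcomap : p = q.asIdeal.comap (algebraMap A B) := rfl
  have hpprime : p.IsPrime := (PrimeSpectrum.comap (algebraMap A B) q).isPrime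
  have hqprime : q.asIdeal.IsPrime := q.isPrime
  have hpBq : p.map (algebraMap A B) ≤ q.asIdeal := Ideal.map_le_iff_le_comap.2 (le_of_eq hpcomap)
  -- `A ⧸ p` is one-dimensional
  have htfae := Groth.Agent.S8804.result A I (PrimeSpectrum.comap (algebraMap A B) q)
  obtain ⟨hdim, hIp⟩ := (htfae.out 0 1).1 hp
  have hArt : IsArtinianRing (A ⧸ (I ⊔ p)) := isArtinianRing_quot_sup A I p hdim hIp
  have hfin1 : Module.Finite A (B ⧸ (I.map (algebraMap A B) ⊔ p.map (algebraMap A B))) :=
    finite_quot_sup A I B p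
  -- `B ⧸ p B` is finite over `A`
  have hjacB : I.map (algebraMap A B) ≤ Ideal.jacobson ⊥ := IsAdicComplete.le_jacobson_bot _
  have hHausB : IsHausdorff (I.map (algebraMap A B)) (B ⧸ p.map (algebraMap A B)) :=
    IsHausdorff.of_le_jacobson _ _ hjacB
  have hHaus : IsHausdorff I (B ⧸ p.map (algebraMap A B)) :=
    (IsHausdorff.map_algebraMap_iff (S := B)).mp hHausB
  have hfinq := finite_quot_smul A I B p
  have hfinA : Module.Finite A (B ⧸ p.map (algebraMap A B)) :=
    Groth.Agent.S0544.result A I (B ⧸ p.map (algebraMap A B)) hfinq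
  have hfinR : Module.Finite (A ⧸ p) (B ⧸ p.map (algebraMap A B)) :=
    Module.Finite.of_restrictScalars_finite A _ _
  -- formal unramifiedness
  have hFU0 : Algebra.FormallyUnramified A (A ⧸ I) :=
    Algebra.FormallyUnramified.of_surjective (Algebra.ofId A (A ⧸ I)) Ideal.Quotient.mk_surjective
  have hFU_F : Algebra.FormallyUnramified A (B ⧸ I.map (algebraMap A B)) :=
    Algebra.FormallyUnramified.comp A (A ⧸ I) (B ⧸ I.map (algebraMap A B))
  set I' : Ideal (A ⧸ p) := I.map (Ideal.Quotient.mk p) with hI'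
  have hJ : I'.map (algebraMap (A ⧸ p) (B ⧸ p.map (algebraMap A B))) =
      (I.map (algebraMap A B)).map (Ideal.Quotient.mk (p.map (algebraMap A B))) := by
    rw [hI', Ideal.map_map, Ideal.map_map]
    congr 1
  let φ : (B ⧸ I.map (algebraMap A B)) →ₐ[A]
      ((B ⧸ p.map (algebraMap A B)) ⧸
        I'.map (algebraMap (A ⧸ p) (B ⧸ p.map (algebraMap A B)))) :=
    Ideal.Quotient.liftₐ (I.map (algebraMap A B))
      ((Ideal.Quotient.mkₐ A (I'.map (algebraMap (A ⧸ p) (B ⧸ p.map (algebraMap A B))))).comp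
        (Ideal.Quotient.mkₐ A (p.map (algebraMap A B))))
      (fun x hx => by
        change Ideal.Quotient.mk _ (Ideal.Quotient.mk (p.map (algebraMap A B)) x) = 0
        rw [Ideal.Quotient.eq_zero_iff_mem, hJ]
        exact Ideal.mem_map_of_mem _ hx)
  have hφ : Function.Surjective φ := by
    intro y
    obtain ⟨y1, rfl⟩ := Ideal.Quotient.mk_surjective y
    obtain ⟨b, rfl⟩ := Ideal.Quotient.mk_surjective y1
    exact ⟨Ideal.Quotient.mk _ b, rfl⟩
  have hFU1 : Algebra.FormallyUnramified A ((B ⧸ p.map (algebraMap A B)) ⧸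
        I'.map (algebraMap (A ⧸ p) (B ⧸ p.map (algebraMap A B)))) :=
    Algebra.FormallyUnramified.of_surjective φ hφ
  have hFU2 : Algebra.FormallyUnramified (A ⧸ p) ((B ⧸ p.map (algebraMap A B)) ⧸
        I'.map (algebraMap (A ⧸ p) (B ⧸ p.map (algebraMap A B)))) :=
    Algebra.FormallyUnramified.of_restrictScalars A (A ⧸ p) _
  have hjacJ : I'.map (algebraMap (A ⧸ p) (B ⧸ p.map (algebraMap A B))) ≤ Ideal.jacobson ⊥ := by
    rw [hJ]
    have h1 : (I.map (algebraMap A B)).map (Ideal.Quotient.mk (p.map (algebraMap A B))) ≤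
        ((p.map (algebraMap A B)).jacobson).map (Ideal.Quotient.mk (p.map (algebraMap A B))) :=
      Ideal.map_mono (hjacB.trans (Ideal.jacobson_mono bot_le))
    rw [Ideal.map_jacobson_of_surjective Ideal.Quotient.mk_surjective
      (by rw [Ideal.mk_ker]), Ideal.map_quotient_self] at h1
    exact h1
  have hFU : Algebra.FormallyUnramified (A ⧸ p) (B ⧸ p.map (algebraMap A B)) :=
    Groth.Agent.Lib.Helper83.UnramGeneric.formallyUnramified_of_quotient (A ⧸ p)
      (B ⧸ p.map (algebraMap A B)) I' hjacJ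
  -- the prime `q'` of `B ⧸ p B`
  set π := Ideal.Quotient.mk (p.map (algebraMap A B)) with hπ
  have hπs : Function.Surjective π := Ideal.Quotient.mk_surjective
  set q' : Ideal (B ⧸ p.map (algebraMap A B)) := q.asIdeal.map π with hq'
  have hq'prime : q'.IsPrime :=
    Ideal.map_isPrime_of_surjective hπs (by rw [hπ, Ideal.mk_ker]; exact hpBq)
  have hq'comap : q'.comap π = q.asIdeal := by
    rw [hq', Ideal.comap_map_of_surjective π hπs, ← RingHom.ker_eq_comap_bot, hπ, Ideal.mk_ker]
    exact sup_eq_left.2 hpBq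
  have hq'0 : q'.comap (algebraMap (A ⧸ p) (B ⧸ p.map (algebraMap A B))) = ⊥ := by
    rw [eq_bot_iff]
    intro r hr
    obtain ⟨a, rfl⟩ := Ideal.Quotient.mk_surjective r
    rw [Ideal.mem_comap] at hr
    have h1 : algebraMap A B a ∈ q'.comap π := hr
    rw [hq'comap] at h1
    have h2 : a ∈ p := h1
    rw [Ideal.mem_bot, Ideal.Quotient.eq_zero_iff_mem]
    exact h2
  -- conclude
  apply le_antisymm
  · rw [← Localization.AtPrime.map_eq_maximalIdeal]
    exact Ideal.map_mono hpBq
  · rw [← Localization.AtPrime.map_eq_maximalIdeal, Ideal.map_le_iff_le_comap]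
    intro x hx
    rw [Ideal.mem_comap]
    have hxq' : π x ∈ q' := Ideal.mem_map_of_mem π hx
    obtain ⟨u', hu', hux⟩ :=
      Groth.Agent.Lib.Helper83.UnramGeneric.exists_mul_eq_zero_of_formallyUnramified (A ⧸ p)
        (B ⧸ p.map (algebraMap A B)) q' hq'0 hxq'
    obtain ⟨u, rfl⟩ := hπs u'
    have huq : u ∉ q.asIdeal := fun h => hu' (Ideal.mem_map_of_mem π h)
    have hmem : u * x ∈ p.map (algebraMap A B) := by
      rw [← Ideal.Quotient.eq_zero_iff_mem, map_mul]
      exact hux
    have hunit : IsUnit (algebraMap B (Localization.AtPrime q.asIdeal) u) :=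
      IsLocalization.map_units (Localization.AtPrime q.asIdeal) (⟨u, huq⟩ : q.asIdeal.primeCompl)
    have h3 : algebraMap B (Localization.AtPrime q.asIdeal) (u * x) ∈
        (p.map (algebraMap A B)).map (algebraMap B (Localization.AtPrime q.asIdeal)) :=
      Ideal.mem_map_of_mem _ hmem
    rw [map_mul] at h3
    exact (Ideal.unit_mul_mem_iff_mem _ hunit).1 h3

end Groth.Agent.S8838
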