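import Groth.Statements.S0271
import Groth.Agent.Lib.Helper84.DecompEtale
import Groth.Agent.Lib.Helper84.FreeEtale2

set_option autoImplicit false
universe u
open Pi1

namespace Groth.Agent.S0271

open Groth.Agent.Lib.Helper84
open scoped Pointwise
open Polynomial in
/-- an element of the stabilizer which acts trivially modulo `q` on the invariants of a subgroup
of the inertia group lies in the inertia group -/
theorem smul_sub_mem_of_forall {Γ R : Type*} [Group Γ] [Fintype Γ] [CommRing R]
    [MulSemiringAction Γ R] (q : Ideal R) [q.IsPrime] (N : Subgroup Γ)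
    (hN : ∀ i ∈ N, ∀ x : R, i • x - x ∈ q) (d : Γ) (hdq : ∀ y : R, y ∈ q → d • y ∈ q)
    (h : ∀ a : R, (∀ i ∈ N, i • a = a) → d • a - a ∈ q) (x : R) : d • x - x ∈ q := by
  classical
  let π := Ideal.Quotient.mk q
  let F : R[X] := ∏ i : N, (X - C ((i : Γ) • x))
  have h1 : F.map π = (X - C (π x)) ^ Fintype.card N := by
    rw [Polynomial.map_prod]
    rw [Finset.prod_congr rfl (g := fun _ => X - C (π x))]
    · rw [Finset.prod_const, Finset.card_univ]
    · intro i _
      rw [Polynomial.map_sub, map_X, map_C]
      congr 2
      exact (Ideal.Quotient.eq).mpr (hN i i.2 x)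
  have h2 : (d • F).map π = (X - C (π (d • x))) ^ Fintype.card N := by
    have : d • F = ∏ i : N, (X - C (d • (i : Γ) • x)) := by
      rw [Finset.smul_prod']
      refine Finset.prod_congr rfl fun i _ => ?_
      rw [smul_sub, Polynomial.smul_X, Polynomial.smul_C]
    rw [this, Polynomial.map_prod]
    rw [Finset.prod_congr rfl (g := fun _ => X - C (π (d • x)))]
    · rw [Finset.prod_const, Finset.card_univ]
    · intro i _
      rw [Polynomial.map_sub, map_X, map_C]
      congr 2
      refine (Ideal.Quotient.eq).mpr ?_
      rw [← smul_sub]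
      exact hdq _ (hN i i.2 x)
  have hinv : ∀ i ∈ N, i • F = F := by
    intro i hi
    change i • (∏ j : N, (X - C ((j : Γ) • x))) = ∏ j : N, (X - C ((j : Γ) • x))
    rw [Finset.smul_prod']
    simp only [smul_sub, Polynomial.smul_X, Polynomial.smul_C, smul_smul]
    exact Fintype.prod_equiv (Equiv.mulLeft (⟨i, hi⟩ : N)) _ _ fun j => rfl
  have h3 : (d • F).map π = F.map π := by
    ext j
    rw [coeff_map, coeff_map, Polynomial.smul_eq_map, coeff_map]
    refine (Ideal.Quotient.eq).mpr ?_
    apply h
    intro i hi
    have := congrArg (fun p : R[X] => p.coeff j) (hinv i hi)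
    simpa [Polynomial.smul_eq_map] using this
  rw [h1, h2] at h3
  have h4 := congrArg (Polynomial.eval (π x)) h3
  rw [eval_pow, eval_pow, eval_sub, eval_sub, eval_X, eval_C, eval_C, sub_self] at h4
  have hcard : Fintype.card N ≠ 0 := Fintype.card_ne_zero
  rw [zero_pow hcard] at h4
  have h5 := pow_eq_zero_iff hcard |>.mp h4
  rw [sub_eq_zero] at h5
  exact (Ideal.Quotient.eq).mp h5.symm

/-- an element not stabilizing `q` moves some element outside `q` into `q` -/
theorem exists_smul_mem_notMem {G R : Type*} [Group G] [Finite G] [CommRing R]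
    [MulSemiringAction G R] (q : Ideal R) (g : G) (hg : g • q ≠ q) :
    ∃ x : R, g • x ∈ q ∧ x ∉ q := by
  by_contra hcon
  push Not at hcon
  -- hcon : ∀ x, g • x ∈ q → x ∈ q
  have key : ∀ (k : ℕ) (x : R), g ^ (k + 1) • x ∈ q → g • x ∈ q := by
    intro k
    induction k with
    | zero => intro x hx; simpa using hx
    | succ k ih =>
      intro x hx
      apply ih
      apply hcon
      rwa [← mul_smul, ← pow_succ']
  have H2 : ∀ x : R, x ∈ q → g • x ∈ q := by
    intro x hx
    have hpos : 0 < orderOf g := orderOf_pos g
    obtain ⟨k, hk⟩ := Nat.exists_eq_succ_of_ne_zero hpos.ne'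
    apply key k
    rw [← Nat.succ_eq_add_one, ← hk, pow_orderOf_eq_one, one_smul]
    exact hx
  apply hg
  ext y
  rw [Ideal.mem_pointwise_smul_iff_inv_smul_mem]
  constructor
  · intro h
    have := H2 _ h
    rwa [smul_inv_smul] at this
  · intro h
    apply hcon
    rwa [smul_inv_smul]

/-- an invariant of the decomposition group which separates `q` from its other conjugates -/
theorem exists_c {G R : Type*} [Group G] [Fintype G] [CommRing R] [MulSemiringAction G R]
    (q : Ideal R) [q.IsPrime] :
    ∃ c : FixedPoints.subring R ↥(MulAction.stabilizer G q),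
      ∀ g : G, g ∉ MulAction.stabilizer G q → (c : R) - g • (c : R) ∉ q := by
  classical
  have hx : ∀ g : G, g ∉ MulAction.stabilizer G q → ∃ x : R, g • x ∈ q ∧ x ∉ q := by
    intro g hg
    exact exists_smul_mem_notMem q g (fun h => hg (MulAction.mem_stabilizer_iff.mpr h))
  choose! x hx1 hx2 using hx
  let S : Finset G := Finset.univ.filter (fun g => g ∉ MulAction.stabilizer G q)
  let y : R := ∏ g ∈ S, x g
  have hy : y ∉ q := by
    intro h
    obtain ⟨g, hg, hgq⟩ := (Ideal.IsPrime.prod_mem_iff).mp h
    exact hx2 g (Finset.mem_filter.mp hg).2 hgq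
  have hgy : ∀ g : G, g ∉ MulAction.stabilizer G q → g • y ∈ q := by
    intro g hg
    change g • (∏ g' ∈ S, x g') ∈ q
    rw [Finset.smul_prod']
    exact (Ideal.IsPrime.prod_mem_iff).mpr
      ⟨g, Finset.mem_filter.mpr ⟨Finset.mem_univ _, hg⟩, hx1 g hg⟩
  have hdy : ∀ d : G, d ∈ MulAction.stabilizer G q → d • y ∉ q := by
    intro d hd h
    apply hy
    have hd' : d • q = q := MulAction.mem_stabilizer_iff.mp hd
    rw [← hd'] at h
    exact (Ideal.smul_mem_pointwise_smul_iff (a := d)).mp h
  let c : R := ∏ d : ↥(MulAction.stabilizer G q), (d : G) • y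
  have hcinv : ∀ d : ↥(MulAction.stabilizer G q), d • c = c := by
    intro d
    change d • (∏ d' : ↥(MulAction.stabilizer G q), (d' : G) • y) = _
    rw [Finset.smul_prod']
    exact Fintype.prod_equiv (Equiv.mulLeft d) _ _ fun j => by
      change (d : G) • ((j : G) • y) = ((d * j : ↥(MulAction.stabilizer G q)) : G) • y
      rw [smul_smul]; rfl
  have hcq : c ∉ q := by
    intro h
    obtain ⟨d, -, hd⟩ := (Ideal.IsPrime.prod_mem_iff).mp h
    exact hdy d d.2 hd
  have hgc : ∀ g : G, g ∉ MulAction.stabilizer G q → g • c ∈ q := by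
    intro g hg
    change g • (∏ d' : ↥(MulAction.stabilizer G q), (d' : G) • y) ∈ q
    rw [Finset.smul_prod']
    refine (Ideal.IsPrime.prod_mem_iff).mpr ⟨1, Finset.mem_univ _, ?_⟩
    rw [smul_smul]
    apply hgy
    simpa using hg
  refine ⟨⟨c, hcinv⟩, fun g hg h => hcq ?_⟩
  have := q.add_mem h (hgc g hg)
  simpa using this


section Step2

variable {G R : Type u} [Group G] [Finite G] [CommRing R] [MulSemiringAction G R]
  (q : Ideal R) [q.IsPrime]

/-- the invariants of the inertia group are étale over the invariants of the decomposition group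
near `q` -/
theorem step2 : ∃ s : FixedPoints.subring R ↥(MulAction.stabilizer G q), (s : R) ∉ q ∧
    Algebra.Etale (FixedPoints.subring R ↥(MulAction.stabilizer G q))
      (Localization.Away (algebraMap (FixedPoints.subring R ↥(MulAction.stabilizer G q))
        (FixedPoints.subalgebra (FixedPoints.subring R ↥(MulAction.stabilizer G q)) R
          ↥(q.inertia ↥(MulAction.stabilizer G q))) s)) := by
  classical
  have : Algebra.IsInvariant (FixedPoints.subring R ↥(MulAction.stabilizer G q)) R
      ↥(MulAction.stabilizer G q) := ⟨fun b hb => ⟨⟨b, hb⟩, rfl⟩⟩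
  have : FaithfulSMul (FixedPoints.subring R ↥(MulAction.stabilizer G q))
      (FixedPoints.subalgebra (FixedPoints.subring R ↥(MulAction.stabilizer G q)) R
          ↥(q.inertia ↥(MulAction.stabilizer G q))) := by
    rw [faithfulSMul_iff_algebraMap_injective]
    intro a b hab
    exact Subtype.ext (congrArg (fun z : (FixedPoints.subalgebra
      (FixedPoints.subring R ↥(MulAction.stabilizer G q)) R
        ↥(q.inertia ↥(MulAction.stabilizer G q))) => (z : R)) hab)
  let Q₂ : Ideal (FixedPoints.subalgebra (FixedPoints.subring R ↥(MulAction.stabilizer G q)) R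
          ↥(q.inertia ↥(MulAction.stabilizer G q))) :=
    q.comap (FixedPoints.subalgebra (FixedPoints.subring R ↥(MulAction.stabilizer G q)) R
          ↥(q.inertia ↥(MulAction.stabilizer G q))).val
  have : Q₂.IsPrime := Ideal.comap_isPrime _ _
  have hfree : ∀ γ : ↥(MulAction.stabilizer G q) ⧸ q.inertia ↥(MulAction.stabilizer G q),
      γ ≠ 1 → ∃ a : (FixedPoints.subalgebra (FixedPoints.subring R ↥(MulAction.stabilizer G q)) R
          ↥(q.inertia ↥(MulAction.stabilizer G q))), γ • a - a ∉ Q₂ := by
    intro γ hγ
    obtain ⟨d, rfl⟩ := QuotientGroup.mk_surjective γ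
    by_contra hcon
    push Not at hcon
    apply hγ
    rw [QuotientGroup.eq_one_iff]
    cases nonempty_fintype ↥(MulAction.stabilizer G q)
    intro x
    refine smul_sub_mem_of_forall q (q.inertia ↥(MulAction.stabilizer G q))
      (fun i hi x => hi x) d ?_ ?_ x
    · intro y hy
      have hd : (d : G) • q = q := MulAction.mem_stabilizer_iff.mp d.2
      have := (Ideal.smul_mem_pointwise_smul_iff (a := (d : G))).mpr hy
      rwa [hd] at this
    · intro a ha
      exact hcon ⟨a, fun i => ha i.1 i.2⟩
  obtain ⟨s, hs, hE⟩ := FreeEtale2.exists_etale_away_of_free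
    (A := (FixedPoints.subalgebra (FixedPoints.subring R ↥(MulAction.stabilizer G q)) R
          ↥(q.inertia ↥(MulAction.stabilizer G q))))
    (G := ↥(MulAction.stabilizer G q) ⧸ q.inertia ↥(MulAction.stabilizer G q))
    (B₀ := FixedPoints.subring R ↥(MulAction.stabilizer G q)) Q₂ hfree
  exact ⟨s, hs, hE⟩

end Step2


section Iso

variable {G R : Type u} [Group G] [CommRing R] [MulSemiringAction G R] (q : Ideal R)

/-- the invariants of the inertia group in `G` agree with the invariants of the inertia group
in the decomposition group -/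
def e₂ : FixedPoints.subring R ↥(q.inertia G) ≃+*
    (FixedPoints.subalgebra (FixedPoints.subring R ↥(MulAction.stabilizer G q)) R
      ↥(q.inertia ↥(MulAction.stabilizer G q))) where
  toFun c := ⟨c.1, fun i => c.2 ⟨i.1.1, i.2⟩⟩
  invFun a := ⟨a.1, fun i => a.2 ⟨⟨i.1, Ideal.inertia_le_stabilizer q i.2⟩, i.2⟩⟩
  left_inv _ := rfl
  right_inv _ := rfl
  map_mul' _ _ := rfl
  map_add' _ _ := rfl

theorem coe_e₂ (c : FixedPoints.subring R ↥(q.inertia G)) : ((e₂ q c : _) : R) = c := rfl

theorem coe_e₂_symm (a : (FixedPoints.subalgebra (FixedPoints.subring R ↥(MulAction.stabilizer G q)) R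
      ↥(q.inertia ↥(MulAction.stabilizer G q)))) : (((e₂ q).symm a : _) : R) = a := rfl

end Iso


open AlgebraicGeometry CategoryTheory CategoryTheory.Limits in
/-- Let a finite group G act on a ring R, let q be a prime of R with inertia subgroup I (elements acting
trivially modulo q). Then the ring of I-invariants is etale over the ring of G-invariants at the
prime below q: some principal localization of the I-invariants at an element outside that prime is
an etale algebra over the G-invariants. -/
theorem result (G R : Type u) [Group G] [Finite G] [CommRing R] [MulSemiringAction G R]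
    (q : Ideal R) [q.IsPrime] :
    ∃ g : FixedPoints.subring R (q.inertia G),
      g ∉ q.comap (FixedPoints.subring R (q.inertia G)).subtype ∧
      Algebra.Etale (FixedPoints.subring R G) (Localization.Away g) := by
  classical
  cases nonempty_fintype G
  obtain ⟨c, hc⟩ := exists_c (G := G) q
  obtain ⟨f₁, hf₁, hE₁⟩ := DecompEtale.exists_etale_away (MulAction.stabilizer G q) c q hc
  obtain ⟨s, hs, hE₂⟩ := step2 (G := G) q
  -- the element
  let x : (FixedPoints.subalgebra (FixedPoints.subring R ↥(MulAction.stabilizer G q)) R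
      ↥(q.inertia ↥(MulAction.stabilizer G q))) :=
    algebraMap _ _ f₁ * algebraMap _ _ s
  refine ⟨(e₂ q).symm x, ?_, ?_⟩
  · rw [Ideal.mem_comap]
    change (f₁ : R) * (s : R) ∉ q
    intro h
    rcases Ideal.IsPrime.mem_or_mem inferInstance h with h | h
    · exact hf₁ h
    · exact hs h
  · letI : Algebra (FixedPoints.subring R G)
        (FixedPoints.subalgebra (FixedPoints.subring R ↥(MulAction.stabilizer G q)) R
          ↥(q.inertia ↥(MulAction.stabilizer G q))) :=
      ((algebraMap (FixedPoints.subring R ↥(MulAction.stabilizer G q)) _).comp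
        (algebraMap (FixedPoints.subring R G)
          (FixedPoints.subring R ↥(MulAction.stabilizer G q)))).toAlgebra
    haveI : IsScalarTower (FixedPoints.subring R G)
        (FixedPoints.subring R ↥(MulAction.stabilizer G q))
        (FixedPoints.subalgebra (FixedPoints.subring R ↥(MulAction.stabilizer G q)) R
          ↥(q.inertia ↥(MulAction.stabilizer G q))) :=
      IsScalarTower.of_algebraMap_eq fun _ => rfl
    letI : Algebra (FixedPoints.subalgebra (FixedPoints.subring R ↥(MulAction.stabilizer G q)) R
          ↥(q.inertia ↥(MulAction.stabilizer G q))) (Localization.Away ((e₂ q).symm x)) :=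
      ((algebraMap (FixedPoints.subring R ↥(q.inertia G))
        (Localization.Away ((e₂ q).symm x))).comp (e₂ q).symm.toRingHom).toAlgebra
    haveI : IsLocalization.Away x (Localization.Away ((e₂ q).symm x)) := by
      have h := IsLocalization.isLocalization_of_base_ringEquiv
        (Submonoid.powers ((e₂ q).symm x)) (Localization.Away ((e₂ q).symm x)) (e₂ q)
      rw [Submonoid.map_powers, RingEquiv.apply_symm_apply] at h
      exact h
    haveI : IsScalarTower (FixedPoints.subring R G)
        (FixedPoints.subalgebra (FixedPoints.subring R ↥(MulAction.stabilizer G q)) R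
          ↥(q.inertia ↥(MulAction.stabilizer G q))) (Localization.Away ((e₂ q).symm x)) :=
      IsScalarTower.of_algebraMap_eq fun b => by
        rw [IsScalarTower.algebraMap_apply (FixedPoints.subring R G)
          (FixedPoints.subring R ↥(q.inertia G)) (Localization.Away ((e₂ q).symm x))]
        rfl
    exact FreeEtale2.etale_tower (FixedPoints.subring R G)
      (FixedPoints.subring R ↥(MulAction.stabilizer G q))
      (FixedPoints.subalgebra (FixedPoints.subring R ↥(MulAction.stabilizer G q)) R
          ↥(q.inertia ↥(MulAction.stabilizer G q))) f₁ s (Localization.Away ((e₂ q).symm x))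

end Groth.Agent.S0271
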