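import Groth.Statements.S0396
import Groth.Agent.Lib.Helper2.LocalFlat3
import Mathlib.RingTheory.Localization.AtPrime.Basic
import Mathlib.RingTheory.Localization.Finiteness
-- import your own Groth.Agent.* helpers here

set_option autoImplicit false
universe u
open FlatMor

namespace Groth.Agent.S0396

open TensorProduct in
/-- For a map of Noetherian rings R → S, an ideal I of R and a finite S-module M such that M/IⁿM is flat
over R/Iⁿ for every n ≥ 1, the localization of M at any prime of S containing IS is flat over R. -/
theorem result {R S M : Type u} [CommRing R] [CommRing S] [IsNoetherianRing R] [IsNoetherianRing S] [Algebra R S]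
    [AddCommGroup M] [Module R M] [Module S M] [IsScalarTower R S M] [Module.Finite S M] (I : Ideal R)
    (h : ∀ n : ℕ, 0 < n → Module.Flat (R ⧸ I ^ n) ((R ⧸ I ^ n) ⊗[R] M))
    (q : Ideal S) [q.IsPrime] (hq : I.map (algebraMap R S) ≤ q) :
    Module.Flat R (LocalizedModule q.primeCompl M) := by
  haveI : Module.Finite (Localization.AtPrime q) (LocalizedModule q.primeCompl M) :=
    Module.Finite.of_isLocalizedModule q.primeCompl (LocalizedModule.mkLinearMap q.primeCompl M)
  have hI : I.map (algebraMap R (Localization.AtPrime q)) ≤ Ideal.jacobson ⊥ := by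
    refine le_trans ?_ (IsLocalRing.maximalIdeal_le_jacobson _)
    rw [IsScalarTower.algebraMap_eq R S (Localization.AtPrime q), ← Ideal.map_map,
      ← Localization.AtPrime.map_eq_maximalIdeal]
    exact Ideal.map_mono hq
  apply Groth.Agent.Lib.Helper2.flat_of_forall_lTensor_quotient_injective
    (S := Localization.AtPrime q) I hI
  intro n J
  apply Groth.Agent.Lib.Helper2.lTensor_injective_of_isLocalizedModule q.primeCompl
    (LocalizedModule.mkLinearMap q.primeCompl M)
  rcases Nat.eq_zero_or_pos n with rfl | hn
  · haveI : Subsingleton (R ⧸ I ^ 0) := Ideal.Quotient.subsingleton_iff.mpr (by simp)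
    haveI : Subsingleton (M ⊗[R] ↥(Submodule.map (Submodule.mkQ (I ^ 0)) J)) :=
      Groth.Agent.Lib.Helper2.subsingleton_tensor_right
    exact Function.injective_of_subsingleton _
  · haveI := h n hn
    rw [LinearMap.lTensor_inj_iff_rTensor_inj]
    have hkill : Module.IsTorsionBySet R (Submodule.map (Submodule.mkQ (I ^ n)) J)
        ((I ^ n : Ideal R) : Set R) := by
      intro x a
      obtain ⟨x, hx⟩ := x
      apply Subtype.ext
      obtain ⟨r, rfl⟩ := Submodule.mkQ_surjective (I ^ n) x
      change (a : R) • Submodule.mkQ (I ^ n) r = 0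
      rw [← map_smul]
      exact (Submodule.Quotient.mk_eq_zero _).mpr (by
        rw [smul_eq_mul]; exact Ideal.mul_mem_right _ _ a.2)
    letI : Module (R ⧸ I ^ n) (Submodule.map (Submodule.mkQ (I ^ n)) J) := hkill.module
    haveI : IsScalarTower R (R ⧸ I ^ n) (Submodule.map (Submodule.mkQ (I ^ n)) J) :=
      Module.IsTorsionBySet.isScalarTower hkill
    exact Groth.Agent.Lib.Helper2.rTensor_injective_of_flat_baseChange (A := R ⧸ I ^ n)
      Ideal.Quotient.mk_surjective (Submodule.map (Submodule.mkQ (I ^ n)) J).subtype
      (Submodule.subtype_injective _)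

end Groth.Agent.S0396
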