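import Groth.Statements.S17146
import Groth.Agent.Lib.Helper85.IsocKatz

set_option autoImplicit false
universe u v
open Isoc

namespace Groth.Agent.S17146

/-- Let k be a perfect field of characteristic p, a ∈ ℤ, W = W(k) with fraction field L, and (N, F) a
σ^a-F-isocrystal over k (N finite-dimensional over L, F a bijective σ^a-semilinear endomorphism) of
height h, with b an L-basis of N indexed by Fin h, d the p-adic order of the determinant coefficient
of F in b, and first Newton slope λ₁(N, F) = lam. Then there exist r ∈ ℤ, s ∈ ℕ with 0 < s ≤ h and a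
W-lattice M in N such that lam = r/s and ord_M(F^s) = r, i.e. F^s(M) ⊆ p^r · M and F^s(M) ⊄ p^(r+1)
· M; moreover r · h ≤ s · d, so that λ₁ is a rational number ≤ d/h with denominator at most h. (The
published statement asserts r ≤ d instead of r · h ≤ s · d; since F may have denominators, d can be
negative and then r ≤ d can fail: for N = N_{-2/3} ⊕ N_{-1/2}, the sum of the standard isocrystals
of slopes −2/3 and −1/2, one has h = 5, d = −3, λ₁ = −2/3, which forces s = 3 and r = −2 > d. What
the published argument gives is r/s = λ₁ ≤ d/h, stated here.) -/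
theorem result (p : ℕ) [Fact p.Prime] (k : Type u) [Field k] [CharP k p] [PerfectRing k p] (a : ℤ)
    (N : Type v) [AddCommGroup N] [Module (WittVector p k) N] [Module (FractionRing (WittVector p k)) N]
    [IsScalarTower (WittVector p k) (FractionRing (WittVector p k)) N]
    (F : N →ₛₗ[Isoc.frob p k a] N) (hF : Isoc.IsIsoc F)
    (h : ℕ) (b : Module.Basis (Fin h) (FractionRing (WittVector p k)) N)
    (d : ℤ) (hd : Isoc.IsOrdP (Isoc.detCoeff b F) d)
    (lam : ℝ) (hlam : Isoc.IsFirstSlope F lam) :
    ∃ (r : ℤ) (s : ℕ) (M : Submodule (WittVector p k) N), 0 < s ∧ s ≤ h ∧ lam = (r : ℝ) / s ∧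
      M.IsLattice (FractionRing (WittVector p k)) ∧ Isoc.IsOrd M F s r ∧ r * h ≤ s * d := by
  classical
  have hτ := Groth.Agent.Lib.Helper85.IsocLattice.presW_frob (p := p) (k := k) a
  haveI : Module.Finite (FractionRing (WittVector p k)) N := hF.finite
  haveI : Nontrivial N := Groth.Agent.Lib.Helper85.IsocKatz.nontrivial_of_isFirstSlope hlam
  have hp0 : ((p : FractionRing (WittVector p k))) ≠ 0 :=
    Groth.Agent.Lib.Helper85.IsocLattice.p_ne_zero
  have hh : Module.finrank (FractionRing (WittVector p k)) N = h := by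
    rw [Module.finrank_eq_card_basis b, Fintype.card_fin]
  have hpos : 0 < h := by
    rw [← hh]; exact Module.finrank_pos
  -- Dirichlet approximation
  obtain ⟨r, k', hk0, hkh, habs⟩ := Real.exists_int_int_abs_mul_sub_le lam hpos
  obtain ⟨s, rfl⟩ := Int.eq_ofNat_of_zero_le hk0.le
  have hs : 0 < s := by exact_mod_cast hk0
  have hsh : s ≤ h := by exact_mod_cast hkh
  -- the twisted iterate
  let G : N →ₛₗ[(Isoc.frob p k a) ^ s] N := ((p : FractionRing (WittVector p k)) ^ (-r)) • Isoc.iter F s
  have hτs := hτ.pow s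
  have hG : Isoc.IsFirstSlope G (s * lam + ((-r : ℤ) : ℝ)) :=
    Groth.Agent.Lib.Helper85.IsocKatz.isFirstSlope_twist hτ F hlam (-r) s
  have hGbij : Function.Bijective G := by
    have h1 : (⇑G) = (fun y : N => ((p : FractionRing (WittVector p k)) ^ (-r)) • y) ∘ (⇑F)^[s] := by
      ext x; rfl
    rw [h1]
    refine Function.Bijective.comp ?_ (hF.bijective.iterate s)
    constructor
    · exact smul_right_injective N (zpow_ne_zero _ hp0)
    · intro y
      refine ⟨((p : FractionRing (WittVector p k)) ^ (-r))⁻¹ • y, ?_⟩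
      show ((p : FractionRing (WittVector p k)) ^ (-r)) • ((p : FractionRing (WittVector p k)) ^ (-r))⁻¹ • y = y
      rw [smul_smul, mul_inv_cancel₀ (zpow_ne_zero _ hp0), one_smul]
  set lam' : ℝ := s * lam + ((-r : ℤ) : ℝ) with hlam'
  have hlam'abs : |lam'| ≤ 1 / ((h : ℝ) + 1) := by
    have : lam' = ((s : ℤ) : ℝ) * lam - r := by rw [hlam']; push_cast; ring
    rw [this]; exact habs
  have hlow : -(1 / ((h : ℝ) + 1)) ≤ lam' := (abs_le.1 hlam'abs).1
  have hhigh : lam' ≤ 1 / ((h : ℝ) + 1) := (abs_le.1 hlam'abs).2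
  -- effective
  obtain ⟨M₁, hM₁, hM₁le⟩ :=
    Groth.Agent.Lib.Helper85.IsocKatz.exists_lattice_latImg_le_of_le_firstSlope hτs G hG (-1) (h + 1)
      (Nat.succ_pos h) (by
        push_cast
        rw [neg_div]
        exact hlow)
  obtain ⟨M, hM, hGM⟩ := Groth.Agent.Lib.Helper85.IsocKatz.isEffective_of_latImg_le hτs G hh M₁ hM₁ hM₁le
  -- no iterate of `G` maps `M` into `p M`
  have hnot : ∀ n : ℕ, ¬ Isoc.latImg G n M ≤ Isoc.pPow 1 M := by
    intro n hn
    have h1 := Groth.Agent.Lib.Helper85.IsocKatz.latImg_le_pPow_one_of_nilp hτs G hh M hGM hn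
    have h2 := Groth.Agent.Lib.Helper85.IsocKatz.le_firstSlope_of_latImg_le hτs G hGbij hG M hM hpos h1
    have h3 : (1 : ℝ) / ((h : ℝ) + 1) < ((1 : ℤ) : ℝ) / (h : ℝ) := by
      have hh' : (0 : ℝ) < h := by exact_mod_cast hpos
      push_cast
      exact one_div_lt_one_div_of_lt hh' (by linarith)
    linarith
  have hord : ∀ n : ℕ, 1 ≤ n → Isoc.IsOrd M G n ((fun _ => (0 : ℤ)) n) := by
    intro n _
    refine ⟨?_, ?_⟩
    · rw [Groth.Agent.Lib.Helper85.IsocLattice.pPow_zero]
      exact Groth.Agent.Lib.Helper85.IsocKatz.latImg_le_self hτs G hGM n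
    · simpa using hnot n
  have hlim := Groth.Agent.Lib.Helper85.IsocKatz.tendsto_ord_of_isFirstSlope hτs G hG M hM
    (fun _ => (0 : ℤ)) hord
  have hzero : lam' = 0 := by
    refine tendsto_nhds_unique hlim ?_
    simp only [Int.cast_zero, zero_div]
    exact tendsto_const_nhds
  have hs' : (s : ℝ) ≠ 0 := by exact_mod_cast hs.ne'
  have hlamrs : lam = (r : ℝ) / s := by
    rw [hlam'] at hzero
    push_cast at hzero
    field_simp
    linarith
  -- the order of `F^s` relative to `M`
  have hG1 := hord 1 le_rfl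
  simp only at hG1
  have hlatG : Isoc.latImg G 1 M = Isoc.pPow (-r) (Isoc.latImg F s M) := by
    have := Groth.Agent.Lib.Helper85.IsocLattice.latImg_twist hτ F (-r) s 1 M
    rw [Nat.cast_one, mul_one, mul_one] at this
    exact this
  have hFord : Isoc.IsOrd M F s r := by
    refine ⟨?_, ?_⟩
    · rw [Groth.Agent.Lib.Helper85.IsocLattice.le_pPow_iff, ← hlatG]
      have := hG1.1
      rwa [Groth.Agent.Lib.Helper85.IsocLattice.pPow_zero] at this
    · intro hle
      apply hG1.2
      rw [hlatG]
      have := Groth.Agent.Lib.Helper85.IsocLattice.pPow_mono (-r) hle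
      rw [← Groth.Agent.Lib.Helper85.IsocLattice.pPow_add] at this
      simpa using this
  exact ⟨r, s, M, hs, hsh, hlamrs, hM, hFord,
    Groth.Agent.Lib.Helper85.IsocDet.mul_le_of_latImg_le hτ b F hd hM hFord.1⟩

end Groth.Agent.S17146
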