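import Groth.Statements.S17148
import Groth.Agent.Lib.Helper85.IsocLattice

set_option autoImplicit false
universe u v
open Isoc

namespace Groth.Agent.S17148

/-- Let k be a perfect field of characteristic p, a ∈ ℤ, W = W(k) with fraction field L, and (N, F) a
σ^a-F-isocrystal over k (N finite-dimensional over L, F a bijective σ^a-semilinear endomorphism)
that is isoclinic of slope μ, i.e. there are a W-lattice M, r ∈ ℤ and s > 0 with r/s = μ and F^s(M)
= p^r · M. Then for every F-stable L-subspace P of N, the sub-isocrystal (P, F|P) is again isoclinic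
of slope μ. -/
theorem result (p : ℕ) [Fact p.Prime] (k : Type u) [Field k] [CharP k p] [PerfectRing k p] (a : ℤ)
    (N : Type v) [AddCommGroup N] [Module (WittVector p k) N] [Module (FractionRing (WittVector p k)) N]
    [IsScalarTower (WittVector p k) (FractionRing (WittVector p k)) N]
    (F : N →ₛₗ[Isoc.frob p k a] N) (hF : Isoc.IsIsoc F) (μ : ℚ) (hμ : Isoc.IsIsoclinic F μ)
    (P : Submodule (FractionRing (WittVector p k)) N) (hP : ∀ x ∈ P, F x ∈ P) :
    Isoc.IsIsoclinic (F.restrict hP) μ := by
  classical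
  have hτ := Groth.Agent.Lib.Helper85.IsocLattice.presW_frob (p := p) (k := k) a
  haveI : Module.Finite (FractionRing (WittVector p k)) N := hF.finite
  obtain ⟨M, hM, r, s, hs, hrs, hMF⟩ := hμ
  let PW : Submodule (WittVector p k) N := P.restrictScalars (WittVector p k)
  have hp0 : ((p : FractionRing (WittVector p k))) ≠ 0 :=
    Groth.Agent.Lib.Helper85.IsocLattice.p_ne_zero
  refine Groth.Agent.Lib.Helper85.IsocLattice.isIsoclinic_restrict_of P F hP hτ
    (M := M ⊓ PW) (hM.fg.of_le inf_le_left) ?_ hs hrs ?_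
  · -- span
    apply le_antisymm
    · rw [Submodule.span_le]
      intro x hx
      exact hx.2
    · intro x hx
      have hx' : x ∈ Submodule.span (FractionRing (WittVector p k)) (M : Set N) := by
        rw [hM.span_eq_top]; trivial
      obtain ⟨c, hc⟩ := Groth.Agent.Lib.Helper85.IsocLattice.exists_natpow_smul_mem_of_mem_span hx'
      have h1 : ((p : FractionRing (WittVector p k)) ^ c) • x ∈ M ⊓ PW :=
        ⟨hc, P.smul_mem _ hx⟩
      have h2 : x = ((p : FractionRing (WittVector p k)) ^ c)⁻¹ •
          (((p : FractionRing (WittVector p k)) ^ c) • x) := by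
        rw [smul_smul, inv_mul_cancel₀ (pow_ne_zero _ hp0), one_smul]
      rw [h2]
      exact Submodule.smul_mem _ _ (Submodule.subset_span h1)
  · -- the lattice equation
    apply le_antisymm
    · intro y hy
      rw [Groth.Agent.Lib.Helper85.IsocLattice.mem_latImg_iff hτ] at hy
      obtain ⟨m, ⟨hmM, hmP⟩, rfl⟩ := hy
      have h1 : (⇑F)^[s] m ∈ Isoc.pPow r M := by
        rw [← hMF]
        exact Groth.Agent.Lib.Helper85.IsocLattice.iterate_mem_latImg F s hmM
      rw [Groth.Agent.Lib.Helper85.IsocLattice.mem_pPow_iff] at h1 ⊢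
      obtain ⟨m', hm', hm'eq⟩ := h1
      refine ⟨m', ⟨hm', ?_⟩, hm'eq⟩
      have h3 : (⇑F)^[s] m ∈ P :=
        Groth.Agent.Lib.Helper85.IsocLattice.iterate_mem_of_stable P F hP s hmP
      have h4 : m' = ((p : FractionRing (WittVector p k)) ^ r)⁻¹ • (⇑F)^[s] m := by
        rw [← hm'eq, smul_smul, inv_mul_cancel₀ (zpow_ne_zero _ hp0), one_smul]
      show m' ∈ P
      rw [h4]
      exact P.smul_mem _ h3
    · intro y hy
      rw [Groth.Agent.Lib.Helper85.IsocLattice.mem_pPow_iff] at hy
      obtain ⟨m', ⟨hm'M, hm'P⟩, rfl⟩ := hy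
      have h1 : ((p : FractionRing (WittVector p k)) ^ r) • m' ∈ Isoc.latImg F s M := by
        rw [hMF]
        exact Groth.Agent.Lib.Helper85.IsocLattice.smul_mem_pPow r hm'M
      rw [Groth.Agent.Lib.Helper85.IsocLattice.mem_latImg_iff hτ] at h1 ⊢
      obtain ⟨m, hm, hmeq⟩ := h1
      have h2 : ((p : FractionRing (WittVector p k)) ^ r) • m' ∈ P := P.smul_mem _ hm'P
      obtain ⟨x, hxP, hx⟩ := Groth.Agent.Lib.Helper85.IsocLattice.exists_iterate_eq_of_mem_stable
        P F hP hτ hF.bijective.injective s h2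
      have hmx : m = x := (hF.bijective.injective.iterate s) (by rw [hmeq, hx])
      exact ⟨m, ⟨hm, by rw [hmx]; exact hxP⟩, hmeq⟩

end Groth.Agent.S17148
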