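import Groth.Statements.S17150
import Groth.Agent.Lib.Helper85.IsocLattice

set_option autoImplicit false
universe u v w
open Isoc

namespace Groth.Agent.S17150

/-- Let k be a perfect field of characteristic p and a ∈ ℤ; let (N₁, F₁) and (N₂, F₂) be
σ^a-F-isocrystals over k that are isoclinic of slopes μ₁ and μ₂ respectively (in the lattice sense:
F_i^{s_i}(M_i) = p^{r_i} · M_i with r_i/s_i = μ_i), with μ₁ ≠ μ₂. Then every morphism of isocrystals
f : (N₁, F₁) → (N₂, F₂), i.e. every L-linear map with f ∘ F₁ = F₂ ∘ f, is zero. -/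
theorem result (p : ℕ) [Fact p.Prime] (k : Type u) [Field k] [CharP k p] [PerfectRing k p] (a : ℤ)
    (N₁ : Type v) [AddCommGroup N₁] [Module (WittVector p k) N₁] [Module (FractionRing (WittVector p k)) N₁]
    [IsScalarTower (WittVector p k) (FractionRing (WittVector p k)) N₁]
    (N₂ : Type w) [AddCommGroup N₂] [Module (WittVector p k) N₂] [Module (FractionRing (WittVector p k)) N₂]
    [IsScalarTower (WittVector p k) (FractionRing (WittVector p k)) N₂]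
    (F₁ : N₁ →ₛₗ[Isoc.frob p k a] N₁) (F₂ : N₂ →ₛₗ[Isoc.frob p k a] N₂)
    (h₁ : Isoc.IsIsoc F₁) (h₂ : Isoc.IsIsoc F₂)
    (μ₁ μ₂ : ℚ) (hμ₁ : Isoc.IsIsoclinic F₁ μ₁) (hμ₂ : Isoc.IsIsoclinic F₂ μ₂) (hne : μ₁ ≠ μ₂)
    (f : N₁ →ₗ[(FractionRing (WittVector p k))] N₂) (hf : ∀ x : N₁, f (F₁ x) = F₂ (f x)) : f = 0 := by
  classical
  have hτ := Groth.Agent.Lib.Helper85.IsocLattice.presW_frob (p := p) (k := k) a
  obtain ⟨M₁, hM₁, r₁, s₁, hs₁, hrs₁, hMF₁⟩ := hμ₁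
  obtain ⟨M₂, hM₂, r₂, s₂, hs₂, hrs₂, hMF₂⟩ := hμ₂
  -- common exponent
  let S : ℕ := s₁ * s₂
  let R₁ : ℤ := s₂ * r₁
  let R₂ : ℤ := s₁ * r₂
  have hS₁ : Isoc.latImg F₁ S M₁ = Isoc.pPow R₁ M₁ := by
    have := Groth.Agent.Lib.Helper85.IsocLattice.latImg_mul_eq_pPow hτ F₁ hMF₁ s₂
    rwa [mul_comm s₂ s₁] at this
  have hS₂ : Isoc.latImg F₂ S M₂ = Isoc.pPow R₂ M₂ :=
    Groth.Agent.Lib.Helper85.IsocLattice.latImg_mul_eq_pPow hτ F₂ hMF₂ s₁
  have hn₁ : ∀ n : ℕ, Isoc.latImg F₁ (n * S) M₁ = Isoc.pPow (n * R₁) M₁ :=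
    Groth.Agent.Lib.Helper85.IsocLattice.latImg_mul_eq_pPow hτ F₁ hS₁
  have hn₂ : ∀ n : ℕ, Isoc.latImg F₂ (n * S) M₂ = Isoc.pPow (n * R₂) M₂ :=
    Groth.Agent.Lib.Helper85.IsocLattice.latImg_mul_eq_pPow hτ F₂ hS₂
  have hR : R₁ ≠ R₂ := by
    intro h
    apply hne
    rw [← hrs₁, ← hrs₂]
    have h1 : (s₁ : ℚ) ≠ 0 := by exact_mod_cast hs₁.ne'
    have h2 : (s₂ : ℚ) ≠ 0 := by exact_mod_cast hs₂.ne'
    rw [div_eq_div_iff h1 h2]
    have : ((s₂ * r₁ : ℤ) : ℚ) = ((s₁ * r₂ : ℤ) : ℚ) := by exact_mod_cast h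
    push_cast at this
    linarith
  -- the image of the lattice
  let fW := f.restrictScalars (WittVector p k)
  let Q : Submodule (WittVector p k) N₂ := M₁.map fW
  have hQfg : Q.FG := hM₁.fg.map _
  have hQ : ∀ n : ℕ, Isoc.latImg F₂ (n * S) Q = Isoc.pPow (n * R₁) Q := by
    intro n
    show Isoc.latImg F₂ (n * S) (M₁.map (f.restrictScalars (WittVector p k))) =
      Isoc.pPow (n * R₁) (M₁.map (f.restrictScalars (WittVector p k)))
    rw [← Groth.Agent.Lib.Helper85.IsocLattice.map_latImg hτ f hf, hn₁,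
      Groth.Agent.Lib.Helper85.IsocLattice.map_pPow]
  obtain ⟨c, hc⟩ := Groth.Agent.Lib.Helper85.IsocLattice.exists_pPow_le hQfg hM₂.span_eq_top
  have hQc : Q ≤ Isoc.pPow (-(c : ℤ)) M₂ := by
    rw [Groth.Agent.Lib.Helper85.IsocLattice.le_pPow_iff, neg_neg]; exact hc
  -- it suffices to show `Q = ⊥`
  suffices hQ0 : Q = ⊥ by
    ext x
    have hx : x ∈ Submodule.span (FractionRing (WittVector p k)) (M₁ : Set N₁) := by
      rw [hM₁.span_eq_top]; trivial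
    rw [LinearMap.zero_apply]
    refine Submodule.span_induction ?_ ?_ ?_ ?_ hx
    · intro m hm
      have : f m ∈ Q := ⟨m, hm, rfl⟩
      rw [hQ0, Submodule.mem_bot] at this
      exact this
    · exact map_zero f
    · intro y z _ _ hy hz; rw [map_add, hy, hz, add_zero]
    · intro c y _ hy; rw [map_smul, hy, smul_zero]
  rcases lt_or_gt_of_ne hR with hlt | hgt
  · -- `R₁ < R₂`
    have hstep : ∀ n : ℕ, Q ≤ Isoc.pPow (n * (R₂ - R₁) - c) M₂ := by
      intro n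
      have h1 : Isoc.pPow (n * R₁) Q ≤ Isoc.pPow (n * R₂ - c) M₂ := by
        calc Isoc.pPow (n * R₁) Q = Isoc.latImg F₂ (n * S) Q := (hQ n).symm
          _ ≤ Isoc.latImg F₂ (n * S) (Isoc.pPow (-(c : ℤ)) M₂) :=
              Groth.Agent.Lib.Helper85.IsocLattice.latImg_mono F₂ _ hQc
          _ = Isoc.pPow (-(c : ℤ)) (Isoc.latImg F₂ (n * S) M₂) :=
              Groth.Agent.Lib.Helper85.IsocLattice.latImg_pPow hτ F₂ _ _ M₂
          _ = Isoc.pPow (n * R₂ - c) M₂ := by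
              rw [hn₂, ← Groth.Agent.Lib.Helper85.IsocLattice.pPow_add]; congr 1; ring
      have h2 := Groth.Agent.Lib.Helper85.IsocLattice.pPow_mono (-(n * R₁ : ℤ)) h1
      rw [← Groth.Agent.Lib.Helper85.IsocLattice.pPow_add,
        ← Groth.Agent.Lib.Helper85.IsocLattice.pPow_add, neg_add_cancel,
        Groth.Agent.Lib.Helper85.IsocLattice.pPow_zero] at h2
      refine h2.trans (le_of_eq ?_)
      congr 1; ring
    rw [eq_bot_iff]
    intro x hx
    rw [Submodule.mem_bot]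
    refine Groth.Agent.Lib.Helper85.IsocLattice.eq_zero_of_forall_mem_pPow hM₂.fg fun j => ?_
    have h1 := hstep (j + c) hx
    refine Groth.Agent.Lib.Helper85.IsocLattice.pPow_anti ?_ M₂ h1
    have h2 : (1 : ℤ) ≤ R₂ - R₁ := by omega
    push_cast
    nlinarith
  · -- `R₂ < R₁`
    by_contra hQne
    obtain ⟨r0, hr0⟩ := Groth.Agent.Lib.Helper85.IsocLattice.exists_not_le_pPow hM₂.fg hQne
    apply hr0
    let n : ℕ := r0 + c
    apply Groth.Agent.Lib.Helper85.IsocLattice.le_of_latImg_le_latImg hτ F₂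
      h₂.bijective.injective (n * S)
    calc Isoc.latImg F₂ (n * S) Q = Isoc.pPow (n * R₁) Q := hQ n
      _ ≤ Isoc.pPow (n * R₁) (Isoc.pPow (-(c : ℤ)) M₂) :=
          Groth.Agent.Lib.Helper85.IsocLattice.pPow_mono _ hQc
      _ = Isoc.pPow (n * R₁ - c) M₂ := by
          rw [← Groth.Agent.Lib.Helper85.IsocLattice.pPow_add]; congr 1
      _ ≤ Isoc.pPow (r0 + n * R₂) M₂ := by
          apply Groth.Agent.Lib.Helper85.IsocLattice.pPow_anti _ M₂
          have h2 : (1 : ℤ) ≤ R₁ - R₂ := by omega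
          have hn : (n : ℤ) = r0 + c := by simp [n]
          nlinarith
      _ = Isoc.pPow (r0 : ℤ) (Isoc.latImg F₂ (n * S) M₂) := by
          rw [hn₂, ← Groth.Agent.Lib.Helper85.IsocLattice.pPow_add]
      _ = Isoc.latImg F₂ (n * S) (Isoc.pPow (r0 : ℤ) M₂) :=
          (Groth.Agent.Lib.Helper85.IsocLattice.latImg_pPow hτ F₂ _ _ M₂).symm

end Groth.Agent.S17150
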