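import Groth.Statements.S17151
import Groth.Agent.Lib.Helper85.IsocLattice

set_option autoImplicit false
universe u v
open Isoc

namespace Groth.Agent.S17151

/-- Let k be a perfect field of characteristic p, a ∈ ℤ, W = W(k) with fraction field L, and (N, F) a
σ^a-F-isocrystal over k (N finite-dimensional over L, F a bijective σ^a-semilinear endomorphism),
and let μ ∈ ℚ. The slope-μ part N_μ of N — the sum of all F-stable L-subspaces P such that (P, F|P)
is isoclinic of slope μ — is F-stable and is itself isoclinic of slope μ; so it is the largest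
F-stable subspace on which F is isoclinic of slope μ. -/
theorem result (p : ℕ) [Fact p.Prime] (k : Type u) [Field k] [CharP k p] [PerfectRing k p] (a : ℤ)
    (N : Type v) [AddCommGroup N] [Module (WittVector p k) N] [Module (FractionRing (WittVector p k)) N]
    [IsScalarTower (WittVector p k) (FractionRing (WittVector p k)) N]
    (F : N →ₛₗ[Isoc.frob p k a] N) (hF : Isoc.IsIsoc F) (μ : ℚ) :
    ∃ hP : ∀ x ∈ Isoc.slopePart F μ, F x ∈ Isoc.slopePart F μ,
      Isoc.IsIsoclinic (F.restrict hP) μ := by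
  classical
  have hτ := Groth.Agent.Lib.Helper85.IsocLattice.presW_frob (p := p) (k := k) a
  haveI : Module.Finite (FractionRing (WittVector p k)) N := hF.finite
  -- the set of stable isoclinic subspaces
  let S : Set (Submodule (FractionRing (WittVector p k)) N) :=
    {P | ∃ hP : ∀ x ∈ P, F x ∈ P, Isoc.IsIsoclinic (F.restrict hP) μ}
  have hbot : (⊥ : Submodule (FractionRing (WittVector p k)) N) ∈ S := by
    have hP : ∀ x ∈ (⊥ : Submodule (FractionRing (WittVector p k)) N), F x ∈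
        (⊥ : Submodule (FractionRing (WittVector p k)) N) := by
      intro x hx
      rw [Submodule.mem_bot] at hx ⊢
      rw [hx, map_zero]
    refine ⟨hP, ?_⟩
    refine Groth.Agent.Lib.Helper85.IsocLattice.isIsoclinic_restrict_of ⊥ F hP hτ
      (M := ⊥) Submodule.fg_bot (by simp) (r := μ.num) (s := μ.den) μ.den_pos
      (by exact_mod_cast Rat.num_div_den μ) ?_
    have h1 : Isoc.latImg F μ.den (⊥ : Submodule (WittVector p k) N) = ⊥ := by
      rw [eq_bot_iff]
      intro x hx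
      rw [Groth.Agent.Lib.Helper85.IsocLattice.mem_latImg_iff hτ] at hx
      obtain ⟨m, hm, rfl⟩ := hx
      rw [Submodule.mem_bot] at hm
      rw [Submodule.mem_bot, hm, ← Isoc.iter_apply, map_zero]
    have h2 : Isoc.pPow μ.num (⊥ : Submodule (WittVector p k) N) = ⊥ := by
      rw [eq_bot_iff]
      intro x hx
      rw [Groth.Agent.Lib.Helper85.IsocLattice.mem_pPow_iff] at hx
      obtain ⟨m, hm, rfl⟩ := hx
      rw [Submodule.mem_bot] at hm
      rw [Submodule.mem_bot, hm, smul_zero]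
    rw [h1, h2]
  have hsup : ∀ P₁ ∈ S, ∀ P₂ ∈ S, P₁ ⊔ P₂ ∈ S := by
    rintro P₁ ⟨hP₁, hI₁⟩ P₂ ⟨hP₂, hI₂⟩
    obtain ⟨M₁, hfg₁, hsp₁, r₁, s₁, hs₁, hrs₁, hMF₁⟩ :=
      Groth.Agent.Lib.Helper85.IsocLattice.exists_of_isIsoclinic_restrict P₁ F hP₁ hτ hI₁
    obtain ⟨M₂, hfg₂, hsp₂, r₂, s₂, hs₂, hrs₂, hMF₂⟩ :=
      Groth.Agent.Lib.Helper85.IsocLattice.exists_of_isIsoclinic_restrict P₂ F hP₂ hτ hI₂
    have hP : ∀ x ∈ P₁ ⊔ P₂, F x ∈ P₁ ⊔ P₂ := by
      intro x hx
      obtain ⟨a, ha, b, hb, rfl⟩ := Submodule.mem_sup.1 hx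
      rw [map_add]
      exact Submodule.add_mem_sup (hP₁ a ha) (hP₂ b hb)
    refine ⟨hP, ?_⟩
    have hS₁ : Isoc.latImg F (s₁ * s₂) M₁ = Isoc.pPow (s₂ * r₁) M₁ := by
      have := Groth.Agent.Lib.Helper85.IsocLattice.latImg_mul_eq_pPow hτ F hMF₁ s₂
      rwa [mul_comm s₂ s₁] at this
    have hS₂ : Isoc.latImg F (s₁ * s₂) M₂ = Isoc.pPow (s₁ * r₂) M₂ :=
      Groth.Agent.Lib.Helper85.IsocLattice.latImg_mul_eq_pPow hτ F hMF₂ s₁
    have h1 : (s₁ : ℚ) ≠ 0 := by exact_mod_cast hs₁.ne'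
    have h2 : (s₂ : ℚ) ≠ 0 := by exact_mod_cast hs₂.ne'
    have hR : (s₂ * r₁ : ℤ) = s₁ * r₂ := by
      have h3 : (r₁ : ℚ) / s₁ = (r₂ : ℚ) / s₂ := by rw [hrs₁, hrs₂]
      rw [div_eq_div_iff h1 h2] at h3
      have : ((s₂ * r₁ : ℤ) : ℚ) = ((s₁ * r₂ : ℤ) : ℚ) := by push_cast; linarith
      exact_mod_cast this
    refine Groth.Agent.Lib.Helper85.IsocLattice.isIsoclinic_restrict_of (P₁ ⊔ P₂) F hP hτ
      (M := M₁ ⊔ M₂) (hfg₁.sup hfg₂) ?_ (r := s₂ * r₁) (s := s₁ * s₂) (Nat.mul_pos hs₁ hs₂) ?_ ?_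
    · apply le_antisymm
      · rw [Submodule.span_le]
        intro x hx
        obtain ⟨a, ha, b, hb, rfl⟩ := Submodule.mem_sup.1 hx
        exact Submodule.add_mem_sup (hsp₁ ▸ Submodule.subset_span ha)
          (hsp₂ ▸ Submodule.subset_span hb)
      · refine sup_le ?_ ?_
        · rw [← hsp₁]; exact Submodule.span_mono (fun x hx => (le_sup_left : M₁ ≤ M₁ ⊔ M₂) hx)
        · rw [← hsp₂]; exact Submodule.span_mono (fun x hx => (le_sup_right : M₂ ≤ M₁ ⊔ M₂) hx)
    · rw [← hrs₁]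
      push_cast
      field_simp
    · rw [Groth.Agent.Lib.Helper85.IsocLattice.latImg_sup hτ,
        Groth.Agent.Lib.Helper85.IsocLattice.pPow_sup, hS₁, hS₂, hR]
  -- a maximal element of `S`
  obtain ⟨P₀, hP₀S, hP₀max⟩ := (wellFounded_gt (α := Submodule (FractionRing (WittVector p k)) N)).has_min
    S ⟨⊥, hbot⟩
  have hle : ∀ P ∈ S, P ≤ P₀ := by
    intro P hPS
    by_contra hnot
    have hlt : P₀ < P ⊔ P₀ := by
      refine lt_of_le_of_ne le_sup_right fun h => hnot ?_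
      rw [h]; exact le_sup_left
    exact hP₀max (P ⊔ P₀) (hsup P hPS P₀ hP₀S) hlt
  have heq : Isoc.slopePart F μ = P₀ := by
    apply le_antisymm
    · exact sSup_le hle
    · exact le_sSup hP₀S
  rw [heq]
  exact hP₀S

end Groth.Agent.S17151
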