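import Groth.Statements.S16854
import Groth.Agent.Lib.Helper85.FixedBasisComplete
import Groth.Agent.Lib.Helper85.IterFrob

set_option autoImplicit false
universe u v
open CAlg

namespace Groth.Agent.S16854

theorem coeff_zero_iterate_frobenius (k : Type u) [Field k] (p : ℕ) [Fact p.Prime] [CharP k p]
    (ν : ℕ) (x : WittVector p k) :
    ((⇑(WittVector.frobenius : WittVector p k →+* WittVector p k))^[ν] x).coeff 0 =
      x.coeff 0 ^ (p ^ ν) := by
  induction ν generalizing x with
  | zero => simp
  | succ ν ih =>
    rw [Function.iterate_succ_apply, ih, WittVector.coeff_frobenius_charP, ← pow_mul, pow_succ']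

/-- Let k be an algebraically closed field of characteristic p > 0, ν ≥ 1, W = W(k) the ring of
p-typical Witt vectors with its Frobenius endomorphism σ, M a finitely generated free W-module and F
: M → M a bijective additive map that is σ^ν-semilinear, F(a·m) = σ^ν(a)·F(m). Then M admits a
W-basis consisting of F-fixed elements; in particular M is spanned over W by M₀ = {m | F(m) = m}, a
module over the Witt vectors of F_{p^ν}. (The copy allows ν < 0 as well, reducing to F⁻¹; stated
here for ν ≥ 1.) -/
theorem result (k : Type u) [Field k] [IsAlgClosed k]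
    (p : ℕ) [Fact p.Prime] [CharP k p] (ν : ℕ) (hν : 1 ≤ ν)
    (M : Type v) [AddCommGroup M] [Module (WittVector p k) M]
    [Module.Finite (WittVector p k) M] [Module.Free (WittVector p k) M]
    (F : M →+ M)
    (hF : ∀ (a : WittVector p k) (m : M), F (a • m) = ((⇑(WittVector.frobenius : WittVector p k →+* WittVector p k))^[ν] a) • F m)
    (hbij : Function.Bijective F) :
    ∃ (ι : Type v) (b : Module.Basis ι (WittVector p k) M), ∀ i, F (b i) = b i := by
  classical
  haveI : PerfectRing k p := inferInstance
  have hπ : IsLocalRing.maximalIdeal (WittVector p k) = Ideal.span {(p : WittVector p k)} :=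
    (WittVector.irreducible p).maximalIdeal_eq
  haveI : IsAdicComplete (IsLocalRing.maximalIdeal (WittVector p k)) (WittVector p k) :=
    hπ ▸ (WittVector.isAdicCompleteIdealSpanP : IsAdicComplete (Ideal.span {(p : WittVector p k)}) (WittVector p k))
  let σ : WittVector p k →+* WittVector p k := WittVector.frobenius ^ ν
  have hσcoe : ∀ a, σ a = (⇑(WittVector.frobenius : WittVector p k →+* WittVector p k))^[ν] a := by
    intro a
    show (WittVector.frobenius ^ ν : WittVector p k →+* WittVector p k) a = _
    rw [RingHom.coe_pow]
  have hσπ : σ (p : WittVector p k) = (p : WittVector p k) := map_natCast σ p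
  -- the residue field is `k`
  let ψ : IsLocalRing.ResidueField (WittVector p k) ≃+* k :=
    (Ideal.quotEquivOfEq hπ).trans WittVector.quotientPEquiv
  have hψ : ∀ x : WittVector p k, ψ (IsLocalRing.residue (WittVector p k) x) = x.coeff 0 :=
    fun x => rfl
  haveI : CharP (IsLocalRing.ResidueField (WittVector p k)) p :=
    charP_of_injective_ringHom (f := ψ.symm.toRingHom) ψ.symm.injective p
  haveI : IsAlgClosed (IsLocalRing.ResidueField (WittVector p k)) :=
    IsAlgClosed.of_ringEquiv k _ ψ.symm
  let σbar : IsLocalRing.ResidueField (WittVector p k) →+* IsLocalRing.ResidueField (WittVector p k) :=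
    iterateFrobenius _ p ν
  have hσbar : ∀ r : WittVector p k, σbar (IsLocalRing.residue _ r) = IsLocalRing.residue _ (σ r) := by
    intro r
    apply ψ.injective
    rw [hψ, hσcoe, coeff_zero_iterate_frobenius]
    show ψ (iterateFrobenius _ p ν (IsLocalRing.residue _ r)) = _
    rw [iterateFrobenius_def, map_pow, hψ]
  let T : M →ₛₗ[σ] M :=
    { toFun := F
      map_add' := F.map_add
      map_smul' := fun a m => by
        show F (a • m) = σ a • F m
        rw [hF, hσcoe] }
  obtain ⟨n, b, hb⟩ := Groth.Agent.Lib.Helper85.FixedBasisComplete.exists_fixed_basis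
    (p : WittVector p k) hπ σ hσπ σbar hσbar
    (fun n c hc => Groth.Agent.Lib.Helper85.IterFrob.h2_iterFrob p _ ν hν n c hc)
    (fun c => Groth.Agent.Lib.Helper85.IterFrob.h3_iterFrob p _ ν hν c)
    M T hbij.surjective
  refine ⟨ULift.{v} (Fin n), b.reindex Equiv.ulift.symm, ?_⟩
  intro i
  rw [Module.Basis.reindex_apply]
  exact hb _

end Groth.Agent.S16854
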