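import Groth.Statements.S17139
import Groth.Agent.Lib.Helper85.IsocDet

set_option autoImplicit false
universe u v
open Isoc

namespace Groth.Agent.S17139

/-- Let k be a perfect field of characteristic p, a ∈ ℤ, and (N, F) a non-zero σ^a-F-isocrystal over k
of height h, with b an L-basis of N indexed by Fin h and d the p-adic order of the determinant
coefficient of F in the basis b. If M is a W(k)-lattice in N and r ∈ ℤ, s > 0 satisfy F^s(M) = p^r ·
M, then the first Newton slope λ₁(N, F) equals r/s, and r · h = s · d. (The published statement adds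
that F^h(M) = p^d · M for the same lattice M; that clause is not established by the published proof
and fails when gcd(r, s) ≠ 1 — for a = 0, N = L², M = W², F with matrix rows (p, 1), (0, p) and p
odd one has F^p(M) = p^p · M, h = d = 2, but F²(M) ≠ p² · M — so it is omitted here; the converse
direction is a separate statement.) -/
theorem result (p : ℕ) [Fact p.Prime] (k : Type u) [Field k] [CharP k p] [PerfectRing k p] (a : ℤ)
    (N : Type v) [AddCommGroup N] [Module (WittVector p k) N] [Module (FractionRing (WittVector p k)) N]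
    [IsScalarTower (WittVector p k) (FractionRing (WittVector p k)) N]
    [Nontrivial N] (F : N →ₛₗ[Isoc.frob p k a] N) (hF : Isoc.IsIsoc F)
    (h : ℕ) (b : Module.Basis (Fin h) (FractionRing (WittVector p k)) N)
    (d : ℤ) (hd : Isoc.IsOrdP (Isoc.detCoeff b F) d)
    (M : Submodule (WittVector p k) N) (hM : M.IsLattice (FractionRing (WittVector p k)))
    (r : ℤ) (s : ℕ) (hs : 0 < s) (hFM : Isoc.latImg F s M = Isoc.pPow r M) :
    Isoc.IsFirstSlope F ((r : ℝ) / s) ∧ r * h = s * d := by
  classical
  have hτ := Groth.Agent.Lib.Helper85.IsocLattice.presW_frob (p := p) (k := k) a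
  haveI := hM
  have hM0 : M ≠ ⊥ := Groth.Agent.Lib.Helper85.IsocLattice.ne_bot_of_span_eq_top hM.span_eq_top
  constructor
  · -- first slope
    obtain ⟨o, ho, lam, hlim⟩ := Groth.Agent.Lib.Helper85.IsocLattice.exists_ord_tendsto hτ F
      hF.bijective M hM
    have hsub : Filter.Tendsto (fun j : ℕ => (j + 1) * s) Filter.atTop Filter.atTop := by
      refine Filter.tendsto_atTop_atTop.2 fun b => ⟨b, fun j hj => ?_⟩
      calc b ≤ j := hj
        _ ≤ (j + 1) * s := by nlinarith
    have hconst : ∀ j : ℕ, (o ((j + 1) * s) : ℝ) / (((j + 1) * s : ℕ) : ℝ) = (r : ℝ) / s := by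
      intro j
      have h1 : Isoc.IsOrd M F ((j + 1) * s) (((j + 1 : ℕ) : ℤ) * r) := by
        refine ⟨le_of_eq (Groth.Agent.Lib.Helper85.IsocLattice.latImg_mul_eq_pPow hτ F hFM (j + 1)), ?_⟩
        rw [Groth.Agent.Lib.Helper85.IsocLattice.latImg_mul_eq_pPow hτ F hFM (j + 1)]
        intro hle
        have := Groth.Agent.Lib.Helper85.IsocLattice.le_of_pPow_le_pPow hM.fg hM0 hle
        omega
      have h2 := Groth.Agent.Lib.Helper85.IsocLattice.isOrd_unique (ho ((j + 1) * s)) h1
      rw [h2]
      have hs' : (s : ℝ) ≠ 0 := by exact_mod_cast hs.ne'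
      have hj' : ((j : ℝ) + 1) ≠ 0 := by positivity
      push_cast
      field_simp
    have h3 : Filter.Tendsto (fun j : ℕ => (o ((j + 1) * s) : ℝ) / (((j + 1) * s : ℕ) : ℝ))
        Filter.atTop (nhds lam) := hlim.comp hsub
    have h4 : lam = (r : ℝ) / s := by
      refine tendsto_nhds_unique h3 ?_
      simp only [hconst]
      exact tendsto_const_nhds
    rw [← h4]
    exact ⟨M, hM, o, fun n _ => ho n, hlim⟩
  · -- determinant
    obtain ⟨bM⟩ := Groth.Agent.Lib.Helper85.IsocDet.exists_lattice_basis b M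
    obtain ⟨A₀, hA₀⟩ := Groth.Agent.Lib.Helper85.IsocDet.exists_intMat F bM (le_of_eq hFM)
    have hu := Groth.Agent.Lib.Helper85.IsocDet.isUnit_det_of_latImg_eq hτ F bM A₀ hA₀ hFM
    have h1 := Groth.Agent.Lib.Helper85.IsocDet.isOrdP_detCoeff_iter hτ _ F
      (Groth.Agent.Lib.Helper85.IsocDet.isOrdP_detCoeff_change hτ b
        (bM.extendOfIsLattice (FractionRing (WittVector p k))) F hd) s
    have h2 : Isoc.IsOrdP (Isoc.detCoeff (bM.extendOfIsLattice (FractionRing (WittVector p k)))
        (Isoc.iter F s)) (r * h) :=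
      ⟨hu.unit, by rw [Groth.Agent.Lib.Helper85.IsocDet.det_mat_of_intMat F bM A₀ hA₀]; rfl⟩
    exact Groth.Agent.Lib.Helper85.IsocDet.isOrdP_unique h2 h1

end Groth.Agent.S17139
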