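import Groth.Statements.S17153
import Groth.Agent.Lib.Helper85.IsocStd
import Groth.Agent.S17139
import Groth.Agent.S17148

set_option autoImplicit false
universe u
open Isoc

namespace Groth.Agent.S17153

/-- Let k be a perfect field of characteristic p, W = W(k), L its fraction field, a ∈ ℤ, and λ = d/h
with h > 0 and gcd(d, h) = 1. The standard σ^a-F-isocrystal N_λ of slope λ — the space L^h with the
σ^a-semilinear F determined by F e_i = e_{i+1} (i + 1 < h) and F e_{h−1} = p^d · e_0 — is a simple
isocrystal: an L-subspace of L^h carried into itself by F is either 0 or everything. (The source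
introduces N_λ for a ≠ 0 only; the simplicity argument, via sub-isocrystals of an isoclinic
isocrystal having the same slope, does not use that restriction, and the statement is made for all
a.) -/
theorem result (p : ℕ) [Fact p.Prime] (k : Type u) [Field k] [CharP k p] [PerfectRing k p]
    (a : ℤ) (d : ℤ) (h : ℕ) (hh : 0 < h) (hdh : Int.gcd d h = 1)
    (P : Submodule (FractionRing (WittVector p k)) (Fin h → (FractionRing (WittVector p k))))
    (hP : ∀ x ∈ P, Isoc.stdIsoc (Isoc.frob p k a) d h x ∈ P) : P = ⊥ ∨ P = ⊤ := by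
  classical
  have hτ := Groth.Agent.Lib.Helper85.IsocLattice.presW_frob (p := p) (k := k) a
  by_cases hP0 : P = ⊥
  · exact Or.inl hP0
  right
  have hF : Isoc.IsIsoc (Isoc.stdIsoc (Isoc.frob p k a) d h) :=
    Groth.Agent.Lib.Helper85.IsocStd.isIsoc_stdIsoc hτ d h
  have hμ : Isoc.IsIsoclinic (Isoc.stdIsoc (Isoc.frob p k a) d h) ((d : ℚ) / h) :=
    Groth.Agent.Lib.Helper85.IsocStd.isIsoclinic_stdIsoc hτ d h hh
  have hμP := Groth.Agent.S17148.result p k a _ _ hF _ hμ P hP
  obtain ⟨M, hM, r, s, hs, hrs, hMF⟩ := hμP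
  haveI : Nontrivial P := Submodule.nontrivial_iff_ne_bot.2 hP0
  have hinj : Function.Injective ((Isoc.stdIsoc (Isoc.frob p k a) d h).restrict hP) := by
    intro x y hxy
    apply Subtype.ext
    apply hF.bijective.injective
    exact congrArg Subtype.val hxy
  have hFP : Isoc.IsIsoc ((Isoc.stdIsoc (Isoc.frob p k a) d h).restrict hP) :=
    ⟨inferInstance, hinj,
      Groth.Agent.Lib.Helper85.IsocLattice.surjective_of_injective_semilinear hτ.surjective _ hinj⟩
  let b := Module.finBasis (FractionRing (WittVector p k)) P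
  obtain ⟨d', hd'⟩ := Groth.Agent.Lib.Helper85.IsocDet.exists_isOrdP
    (Groth.Agent.Lib.Helper85.IsocStd.detCoeff_ne_zero hτ.surjective b _ hinj)
  have key := (Groth.Agent.S17139.result p k a P _ hFP _ b d' hd' M hM r s hs hMF).2
  set h' := Module.finrank (FractionRing (WittVector p k)) P with hh'
  have hsQ : (s : ℚ) ≠ 0 := by exact_mod_cast hs.ne'
  have hhQ : (h : ℚ) ≠ 0 := by exact_mod_cast hh.ne'
  have e1 : r * (h : ℤ) = d * s := by
    have : (r : ℚ) * h = d * s := by
      field_simp at hrs
      linarith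
    exact_mod_cast this
  have e2 : d * (h' : ℤ) = d' * h := by
    have hs0 : (s : ℤ) ≠ 0 := by exact_mod_cast hs.ne'
    apply mul_left_cancel₀ hs0
    calc (s : ℤ) * (d * h') = (d * s) * h' := by ring
      _ = r * h * h' := by rw [e1]
      _ = (r * h') * h := by ring
      _ = (s * d') * h := by rw [key]
      _ = s * (d' * h) := by ring
  have hcop : IsCoprime (h : ℤ) d := by
    rw [Int.isCoprime_iff_gcd_eq_one, Int.gcd_comm]
    exact hdh
  have hdvd : (h : ℤ) ∣ (h' : ℤ) := by
    apply hcop.dvd_of_dvd_mul_left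
    rw [e2]
    exact dvd_mul_left _ _
  have hdvd' : h ∣ h' := by exact_mod_cast hdvd
  have hle : h' ≤ h := by
    have := Submodule.finrank_le P
    rwa [Module.finrank_fin_fun] at this
  have hpos : 0 < h' := Module.finrank_pos
  have heq : h' = h := le_antisymm hle (Nat.le_of_dvd hpos hdvd')
  apply Submodule.eq_top_of_finrank_eq
  rw [Module.finrank_fin_fun]
  exact heq

end Groth.Agent.S17153
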