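import Groth.Statements.S2175
import Mathlib
-- import your own Groth.Agent.* helpers here

set_option autoImplicit false
open Finset
open Models Models.NumericalType

namespace Groth.Agent.S2175


theorem contraction_facts (w wl a g : ℤ) (hw : 0 < w) (hwl : 0 < wl) (ha : 0 ≤ a) (hg : 0 ≤ g)
    (b r : ℤ) (hb : a = w * b) (hr : a = wl * r) (W G : ℤ)
    (hW : W = if 2 ∣ a / wl ∧ ¬ 2 ∣ a / w then w / 2 else w)
    (hG : G = w / W * (g - 1) + 1 + (a ^ 2 - wl * a) / (2 * W * wl)) :
    0 < W ∧ W ∣ w ∧ 0 ≤ G ∧ W * (G - 1) = w * (g - 1) + wl * (r * (r - 1) / 2) := by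
  have hwne : w ≠ 0 := ne_of_gt hw
  have hwlne : wl ≠ 0 := ne_of_gt hwl
  have h1 : a / wl = r := by rw [hr, Int.mul_ediv_cancel_left _ hwlne]
  have h2 : a / w = b := by rw [hb, Int.mul_ediv_cancel_left _ hwne]
  have hr0 : 0 ≤ r := by
    by_contra hneg
    replace hneg := not_le.mp hneg
    have : wl * r < 0 := mul_neg_of_pos_of_neg hwl hneg
    omega
  have hb0 : 0 ≤ b := by
    by_contra hneg
    replace hneg := not_le.mp hneg
    have : w * b < 0 := mul_neg_of_pos_of_neg hw hneg
    omega
  have hrr : (2 : ℤ) ∣ r * (r - 1) := by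
    have := Int.even_mul_pred_self r
    exact even_iff_two_dvd.mp this
  have hsq : a ^ 2 - wl * a = wl * (wl * (r * (r - 1))) := by rw [hr]; ring
  rw [h1, h2] at hW
  by_cases hc : 2 ∣ r ∧ ¬ 2 ∣ b
  · rw [if_pos hc] at hW
    obtain ⟨⟨s, hs⟩, hbodd⟩ := hc
    have hweven : (2 : ℤ) ∣ w := by
      have h3 : (2 : ℤ) ∣ w * b := by
        rw [← hb, hr, hs]; exact ⟨wl * s, by ring⟩
      rcases Int.prime_two.dvd_or_dvd h3 with h | h
      · exact h
      · exact absurd h hbodd
    have hwW : w = 2 * W := by rw [hW]; exact (Int.mul_ediv_cancel' hweven).symm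
    have hWpos : 0 < W := by omega
    have hWne : W ≠ 0 := ne_of_gt hWpos
    have hdiv : w / W = 2 := by rw [hwW, Int.mul_ediv_cancel _ hWne]
    have hb1 : 1 ≤ b := by
      rcases eq_or_lt_of_le hb0 with h | h
      · exfalso; apply hbodd; rw [← h]; exact dvd_zero _
      · omega
    have hapos : 0 < a := by rw [hb]; positivity
    have hrpos : 0 < r := by
      by_contra hneg
      replace hneg := not_lt.mp hneg
      have : r = 0 := le_antisymm hneg hr0
      rw [this, mul_zero] at hr
      omega
    have hWb : W * b = wl * s := by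
      have : 2 * (W * b) = 2 * (wl * s) := by
        calc 2 * (W * b) = w * b := by rw [hwW]; ring
          _ = a := hb.symm
          _ = wl * r := hr
          _ = 2 * (wl * s) := by rw [hs]; ring
      omega
    have hquot : (a ^ 2 - wl * a) / (2 * W * wl) = b * (r - 1) := by
      rw [hsq, ← hwW]
      have : wl * (wl * (r * (r - 1))) = (w * wl) * (b * (r - 1)) := by
        have : wl * r = w * b := by rw [← hr, hb]
        calc wl * (wl * (r * (r - 1))) = wl * ((wl * r) * (r - 1)) := by ring
          _ = wl * ((w * b) * (r - 1)) := by rw [this]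
          _ = (w * wl) * (b * (r - 1)) := by ring
      rw [this, Int.mul_ediv_cancel_left _ (mul_ne_zero hwne hwlne)]
    have hhalf : r * (r - 1) / 2 = s * (r - 1) := by
      have : r * (r - 1) = 2 * (s * (r - 1)) := by rw [hs]; ring
      rw [this, Int.mul_ediv_cancel_left _ (by norm_num)]
    rw [hdiv, hquot] at hG
    refine ⟨hWpos, ⟨2, by rw [hwW]; ring⟩, ?_, ?_⟩
    · have : 1 ≤ b * (r - 1) := by
        have hr2 : 1 ≤ r - 1 := by omega
        nlinarith
      rw [hG]; nlinarith
    · rw [hG, hhalf, hwW]
      linear_combination (r - 1) * hWb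
  · rw [if_neg hc] at hW
    rw [hW] at hG ⊢
    have hdiv : w / w = 1 := Int.ediv_self hwne
    have hpar : (2 : ℤ) ∣ b * (r - 1) := by
      by_cases hb2 : (2 : ℤ) ∣ b
      · exact Dvd.dvd.mul_right hb2 _
      · have hr2 : ¬ (2 : ℤ) ∣ r := fun h => hc ⟨h, hb2⟩
        have : (2 : ℤ) ∣ r - 1 := by omega
        exact Dvd.dvd.mul_left this _
    obtain ⟨t, ht⟩ := hpar
    have hquot : (a ^ 2 - wl * a) / (2 * w * wl) = t := by
      rw [hsq]
      have : wl * (wl * (r * (r - 1))) = (2 * w * wl) * t := by
        have : wl * r = w * b := by rw [← hr, hb]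
        calc wl * (wl * (r * (r - 1))) = wl * ((wl * r) * (r - 1)) := by ring
          _ = wl * ((w * b) * (r - 1)) := by rw [this]
          _ = wl * (w * (b * (r - 1))) := by ring
          _ = wl * (w * (2 * t)) := by rw [ht]
          _ = (2 * w * wl) * t := by ring
      rw [this, Int.mul_ediv_cancel_left _ (mul_ne_zero (mul_ne_zero (by norm_num) hwne) hwlne)]
    obtain ⟨q, hq⟩ := hrr
    have hhalf : r * (r - 1) / 2 = q := by
      rw [hq, Int.mul_ediv_cancel_left _ (by norm_num)]
    rw [hdiv, hquot] at hG
    have ht0 : 0 ≤ t := by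
      have : 0 ≤ b * (r - 1) := by
        rcases eq_or_lt_of_le hr0 with h | h
        · have : b = 0 := by
            rw [← h, mul_zero] at hr
            rw [hr] at hb
            rcases mul_eq_zero.mp hb.symm with h' | h'
            · exact absurd h' hwne
            · exact h'
          rw [this, zero_mul]
        · have : 0 ≤ r - 1 := by omega
          positivity
      omega
    refine ⟨hw, dvd_refl _, ?_, ?_⟩
    · rw [hG]; omega
    · rw [hG, hhalf]
      have e1 : w * (2 * t) = wl * (2 * q) := by
        rw [← ht, ← hq]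
        have : wl * r = w * b := by rw [← hr, hb]
        calc w * (b * (r - 1)) = (w * b) * (r - 1) := by ring
          _ = (wl * r) * (r - 1) := by rw [this]
          _ = wl * (r * (r - 1)) := by ring
      have e2 : w * t = wl * q :=
        mul_left_cancel₀ (two_ne_zero (α := ℤ)) (by linear_combination e1)
      linear_combination e2

theorem even_sum_diag {n : ℕ} (A : Matrix (Fin n) (Fin n) ℤ) (hA : A.IsSymm) (m : Fin n → ℤ)
    (h : A.mulVec m = 0) : (2 : ℤ) ∣ ∑ i, m i * A i i := by
  classical
  let U : Matrix (Fin n) (Fin n) ℤ := fun i j => if i < j then A i j else 0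
  have hU : ∀ i j, U i j = if i < j then A i j else 0 := fun _ _ => rfl
  have hdec : A = Matrix.diagonal (fun i => A i i) + U + U.transpose := by
    ext i j
    simp only [Matrix.add_apply, Matrix.diagonal_apply, Matrix.transpose_apply, hU]
    rcases lt_trichotomy i j with hij | hij | hij
    · simp [hij, ne_of_lt hij, not_lt_of_gt hij]
    · subst hij; simp
    · simp only [ne_of_gt hij, not_lt_of_gt hij, hij, if_false, if_true, zero_add]
      exact (hA.apply i j).symm
  have h0 : m ⬝ᵥ A.mulVec m = 0 := by rw [h]; simp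
  have hT : m ⬝ᵥ U.transpose.mulVec m = m ⬝ᵥ U.mulVec m := by
    rw [Matrix.mulVec_transpose, dotProduct_comm, ← Matrix.dotProduct_mulVec]
  have hD : m ⬝ᵥ (Matrix.diagonal (fun i => A i i)).mulVec m = ∑ i, m i * A i i * m i := by
    simp only [dotProduct, Matrix.mulVec_diagonal]
    refine Finset.sum_congr rfl fun i _ => by ring
  have h1 : (∑ i, m i * A i i * m i) + 2 * (m ⬝ᵥ U.mulVec m) = 0 := by
    have h2 : m ⬝ᵥ (Matrix.diagonal (fun i => A i i) + U + U.transpose).mulVec m = 0 := by
      rw [← hdec]; exact h0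
    rw [Matrix.add_mulVec, Matrix.add_mulVec, dotProduct_add, dotProduct_add, hT, hD] at h2
    linarith
  have h3 : (2 : ℤ) ∣ ∑ i, (m i * A i i * m i - m i * A i i) := by
    refine Finset.dvd_sum fun i _ => ?_
    have := even_iff_two_dvd.mp (Int.even_mul_pred_self (m i))
    obtain ⟨c, hc⟩ := this
    exact ⟨c * A i i, by linear_combination A i i * hc⟩
  rw [Finset.sum_sub_distrib] at h3
  obtain ⟨c, hc⟩ := h3
  exact ⟨-(m ⬝ᵥ U.mulVec m) - c, by linarith⟩


/-- Let T be a numerical type on n + 1 indices whose last index is a (-1)-index. Then the contracted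
data (same multiplicities, a i j - a i l a j l / a l l, the halved-or-not w i, and the adjusted g i,
l the last index) is again a numerical type on n indices, and any such contraction has the same
genus as T. -/
theorem result {n : ℕ} (T : Models.NumericalType (n + 1)) (h : T.IsMinusOne (Fin.last n)) :
    (∃ T' : Models.NumericalType n, T.IsContraction T') ∧
      ∀ T' : Models.NumericalType n, T.IsContraction T' → T'.genus = T.genus := by
  classical
  obtain ⟨hgl, hall⟩ := h
  have wl_pos := T.w_pos (Fin.last n)
  have wl_ne : T.w (Fin.last n) ≠ 0 := ne_of_gt wl_pos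
  have hne : ∀ i : Fin n, i.castSucc ≠ Fin.last n := fun i => (Fin.castSucc_lt_last i).ne
  have ha0 : ∀ i : Fin n, 0 ≤ T.a i.castSucc (Fin.last n) := fun i =>
    T.offDiag_nonneg _ _ (hne i)
  have hb : ∀ i : Fin n, ∃ b : ℤ, T.a i.castSucc (Fin.last n) = T.w i.castSucc * b :=
    fun i => T.w_dvd i.castSucc (Fin.last n)
  have hr : ∀ i : Fin n, ∃ r : ℤ, T.a i.castSucc (Fin.last n) = T.w (Fin.last n) * r := fun i => by
    have := T.w_dvd (Fin.last n) i.castSucc
    rw [T.symm.apply] at this
    exact this
  choose b hb using hb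
  choose r hr using hr
  have hr0 : ∀ i, 0 ≤ r i := fun i => by
    by_contra hneg
    have : T.w (Fin.last n) * r i < 0 := mul_neg_of_pos_of_neg wl_pos (not_le.mp hneg)
    have := ha0 i
    rw [hr i] at this
    omega
  have hsym : ∀ i : Fin n, T.a (Fin.last n) i.castSucc = T.w (Fin.last n) * r i := fun i => by
    rw [← T.symm.apply, hr i]
  -- row identities
  have hrowl : ∑ i : Fin n, T.m i.castSucc * r i = T.m (Fin.last n) := by
    have := congrFun T.mulVec_m (Fin.last n)
    simp only [Matrix.mulVec, dotProduct, Pi.zero_apply] at this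
    rw [Fin.sum_univ_castSucc, hall] at this
    have h2 : ∑ i : Fin n, T.a (Fin.last n) i.castSucc * T.m i.castSucc =
        T.w (Fin.last n) * ∑ i : Fin n, T.m i.castSucc * r i := by
      rw [Finset.mul_sum]
      refine Finset.sum_congr rfl fun i _ => ?_
      rw [hsym i]; ring
    rw [h2] at this
    have h3 : T.w (Fin.last n) * (∑ i : Fin n, T.m i.castSucc * r i) =
        T.w (Fin.last n) * T.m (Fin.last n) := by linarith
    exact mul_left_cancel₀ wl_ne h3
  have hrow : ∀ i : Fin n, ∑ j : Fin n, T.a i.castSucc j.castSucc * T.m j.castSucc =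
      - (T.w (Fin.last n) * r i * T.m (Fin.last n)) := by
    intro i
    have := congrFun T.mulVec_m i.castSucc
    simp only [Matrix.mulVec, dotProduct, Pi.zero_apply] at this
    rw [Fin.sum_univ_castSucc, hr i] at this
    linarith
  have key1 : ∀ i j : Fin n, T.a i.castSucc j.castSucc -
      T.a i.castSucc (Fin.last n) * T.a j.castSucc (Fin.last n) / T.a (Fin.last n) (Fin.last n) =
      T.a i.castSucc j.castSucc + T.w (Fin.last n) * r i * r j := by
    intro i j
    rw [hall, Int.ediv_neg, hr i, hr j, mul_assoc, Int.mul_ediv_cancel_left _ wl_ne]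
    ring
  have hnpos : 0 < n := by
    by_contra h0
    have hn : n = 0 := by omega
    subst hn
    have := T.m_pos (Fin.last 0)
    rw [← hrowl] at this
    simp at this
  constructor
  · -- existence
    let W : Fin n → ℤ := fun i =>
      if 2 ∣ T.a i.castSucc (Fin.last n) / T.w (Fin.last n) ∧
          ¬ 2 ∣ T.a i.castSucc (Fin.last n) / T.w i.castSucc
      then T.w i.castSucc / 2 else T.w i.castSucc
    let G : Fin n → ℤ := fun i => T.w i.castSucc / W i * (T.g i.castSucc - 1) + 1 +
      (T.a i.castSucc (Fin.last n) ^ 2 - T.w (Fin.last n) * T.a i.castSucc (Fin.last n)) /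
        (2 * W i * T.w (Fin.last n))
    have facts : ∀ i, 0 < W i ∧ W i ∣ T.w i.castSucc ∧ 0 ≤ G i ∧ _ := fun i =>
      contraction_facts (T.w i.castSucc) (T.w (Fin.last n)) (T.a i.castSucc (Fin.last n))
        (T.g i.castSucc) (T.w_pos _) wl_pos (ha0 i) (T.g_nonneg _) (b i) (r i) (hb i) (hr i)
        (W i) (G i) rfl rfl
    refine ⟨{ m := fun i => T.m i.castSucc
              a := fun i j => T.a i.castSucc j.castSucc -
                T.a i.castSucc (Fin.last n) * T.a j.castSucc (Fin.last n) /
                  T.a (Fin.last n) (Fin.last n)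
              w := W
              g := G
              pos := hnpos
              m_pos := fun i => T.m_pos _
              w_pos := fun i => (facts i).1
              g_nonneg := fun i => (facts i).2.2.1
              symm := ?_
              offDiag_nonneg := ?_
              connected := ?_
              mulVec_m := ?_
              w_dvd := ?_ }, ⟨fun _ => rfl, fun _ _ => rfl, fun _ => rfl, fun _ => rfl⟩⟩
    · refine Matrix.IsSymm.ext fun i j => ?_
      change T.a j.castSucc i.castSucc -
        T.a j.castSucc (Fin.last n) * T.a i.castSucc (Fin.last n) / T.a (Fin.last n) (Fin.last n) =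
        T.a i.castSucc j.castSucc -
        T.a i.castSucc (Fin.last n) * T.a j.castSucc (Fin.last n) / T.a (Fin.last n) (Fin.last n)
      rw [key1, key1, T.symm.apply]
      ring
    · intro i j hij
      rw [key1]
      have h1 : 0 ≤ T.a i.castSucc j.castSucc :=
        T.offDiag_nonneg _ _ (fun h => hij (Fin.castSucc_injective _ h))
      have h2 : 0 ≤ T.w (Fin.last n) * r i * r j :=
        mul_nonneg (mul_nonneg wl_pos.le (hr0 i)) (hr0 j)
      linarith
    · intro I hI hIu
      -- nonzero criterion
      have hnz : ∀ i j : Fin n, i ≠ j → (T.a i.castSucc j.castSucc ≠ 0 ∨ (r i ≠ 0 ∧ r j ≠ 0)) →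
          T.a i.castSucc j.castSucc -
            T.a i.castSucc (Fin.last n) * T.a j.castSucc (Fin.last n) /
              T.a (Fin.last n) (Fin.last n) ≠ 0 := by
        intro i j hij hor
        rw [key1]
        have h1 : 0 ≤ T.a i.castSucc j.castSucc :=
          T.offDiag_nonneg _ _ (fun h => hij (Fin.castSucc_injective _ h))
        have h2 : 0 ≤ T.w (Fin.last n) * r i * r j :=
          mul_nonneg (mul_nonneg wl_pos.le (hr0 i)) (hr0 j)
        rcases hor with h | ⟨hi, hj⟩
        · have : 0 < T.a i.castSucc j.castSucc := lt_of_le_of_ne h1 (Ne.symm h)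
          linarith
        · have hi' : 0 < r i := lt_of_le_of_ne (hr0 i) (Ne.symm hi)
          have hj' : 0 < r j := lt_of_le_of_ne (hr0 j) (Ne.symm hj)
          have : 0 < T.w (Fin.last n) * r i * r j := by positivity
          linarith
      have hnotuniv : ∃ j0 : Fin n, j0 ∉ I := by
        by_contra hcon
        push Not at hcon
        exact hIu (Finset.eq_univ_iff_forall.mpr hcon)
      obtain ⟨j0, hj0⟩ := hnotuniv
      let I1 : Finset (Fin (n + 1)) := I.map Fin.castSuccEmb
      have hI1mem : ∀ x : Fin (n + 1), x ∈ I1 ↔ ∃ i ∈ I, i.castSucc = x := by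
        intro x
        simp [I1]
      have hI1ne : I1.Nonempty := hI.map
      have hI1u : I1 ≠ Finset.univ := by
        intro hcon
        have : Fin.last n ∈ I1 := by rw [hcon]; exact Finset.mem_univ _
        obtain ⟨i, _, hi⟩ := (hI1mem _).1 this
        exact hne i hi
      obtain ⟨x, hx, y, hy, hxy⟩ := T.connected I1 hI1ne hI1u
      obtain ⟨i, hiI, rfl⟩ := (hI1mem _).1 hx
      -- case on y
      refine Fin.lastCases (motive := fun y => y ∉ I1 → T.a i.castSucc y ≠ 0 → _) ?_ ?_ y hy hxy
      · intro _ hil
        -- i connects to l; use I2 = I1 ∪ {l}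
        have hri : r i ≠ 0 := by
          intro h0
          apply hil
          rw [hr i, h0, mul_zero]
        let I2 : Finset (Fin (n + 1)) := insert (Fin.last n) I1
        have hI2ne : I2.Nonempty := Finset.insert_nonempty _ _
        have hI2u : I2 ≠ Finset.univ := by
          intro hcon
          have : j0.castSucc ∈ I2 := by rw [hcon]; exact Finset.mem_univ _
          rcases Finset.mem_insert.1 this with h | h
          · exact hne j0 h
          · obtain ⟨i', hi', hii'⟩ := (hI1mem _).1 h
            rw [Fin.castSucc_injective _ hii'] at hi'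
            exact hj0 hi'
        obtain ⟨x2, hx2, y2, hy2, hxy2⟩ := T.connected I2 hI2ne hI2u
        have hy2l : y2 ≠ Fin.last n := fun h => hy2 (h ▸ Finset.mem_insert_self _ _)
        obtain ⟨j, rfl⟩ : ∃ j : Fin n, j.castSucc = y2 := by
          refine Fin.lastCases (motive := fun y => y ≠ Fin.last n → ∃ j : Fin n, j.castSucc = y)
            (fun h => absurd rfl h) (fun j _ => ⟨j, rfl⟩) y2 hy2l
        have hjI : j ∉ I := fun h =>
          hy2 (Finset.mem_insert_of_mem ((hI1mem _).2 ⟨j, h, rfl⟩))
        rcases Finset.mem_insert.1 hx2 with h | h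
        · subst h
          have hrj : r j ≠ 0 := by
            intro h0
            apply hxy2
            rw [hsym j, h0, mul_zero]
          exact ⟨i, hiI, j, hjI, hnz i j (fun h => hjI (h ▸ hiI)) (Or.inr ⟨hri, hrj⟩)⟩
        · obtain ⟨i2, hi2, rfl⟩ := (hI1mem _).1 h
          exact ⟨i2, hi2, j, hjI, hnz i2 j (fun h => hjI (h ▸ hi2)) (Or.inl hxy2)⟩
      · intro j hj hij
        have hjI : j ∉ I := fun h => hj ((hI1mem _).2 ⟨j, h, rfl⟩)
        exact ⟨i, hiI, j, hjI, hnz i j (fun h => hjI (h ▸ hiI)) (Or.inl hij)⟩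
    · funext i
      simp only [Matrix.mulVec, dotProduct, Pi.zero_apply]
      have : ∀ j : Fin n, (T.a i.castSucc j.castSucc -
          T.a i.castSucc (Fin.last n) * T.a j.castSucc (Fin.last n) /
            T.a (Fin.last n) (Fin.last n)) * T.m j.castSucc =
          T.a i.castSucc j.castSucc * T.m j.castSucc +
            T.w (Fin.last n) * r i * (T.m j.castSucc * r j) := by
        intro j
        rw [key1]; ring
      rw [Finset.sum_congr rfl fun j _ => this j, Finset.sum_add_distrib, ← Finset.mul_sum,
        hrow i, hrowl]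
      ring
    · intro i j
      change W i ∣ T.a i.castSucc j.castSucc -
        T.a i.castSucc (Fin.last n) * T.a j.castSucc (Fin.last n) / T.a (Fin.last n) (Fin.last n)
      rw [key1]
      have h1 : W i ∣ T.a i.castSucc j.castSucc := (facts i).2.1.trans (T.w_dvd _ _)
      have h2 : W i ∣ T.w (Fin.last n) * r i * r j := by
        rw [← hr i]
        exact Dvd.dvd.mul_right ((facts i).2.1.trans (T.w_dvd _ _)) _
      exact dvd_add h1 h2
  · -- genus
    intro T' ⟨hm', ha', hw', hg'⟩
    have facts : ∀ i, 0 < T'.w i ∧ T'.w i ∣ T.w i.castSucc ∧ 0 ≤ T'.g i ∧ _ := fun i =>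
      contraction_facts (T.w i.castSucc) (T.w (Fin.last n)) (T.a i.castSucc (Fin.last n))
        (T.g i.castSucc) (T.w_pos _) wl_pos (ha0 i) (T.g_nonneg _) (b i) (r i) (hb i) (hr i)
        (T'.w i) (T'.g i) (hw' i) (hg' i)
    have hq : ∀ i, ∃ q : ℤ, r i * (r i - 1) = 2 * q := fun i =>
      even_iff_two_dvd.mp (Int.even_mul_pred_self (r i))
    choose q hq using hq
    have hq2 : ∀ i, r i * (r i - 1) / 2 = q i := fun i => by
      rw [hq i, Int.mul_ediv_cancel_left _ (by norm_num)]
    have fa : ∑ i, T'.m i * T'.w i * (T'.g i - 1) =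
        (∑ i : Fin n, T.m i.castSucc * (T.w i.castSucc * (T.g i.castSucc - 1))) +
          T.w (Fin.last n) * ∑ i : Fin n, T.m i.castSucc * q i := by
      rw [Finset.mul_sum, ← Finset.sum_add_distrib]
      refine Finset.sum_congr rfl fun i _ => ?_
      rw [mul_assoc, (facts i).2.2.2, hq2 i, hm' i]
      ring
    have fb : ∑ i, T'.m i * T'.a i i =
        (∑ i : Fin n, T.m i.castSucc * T.a i.castSucc i.castSucc) +
          T.w (Fin.last n) * ∑ i : Fin n, T.m i.castSucc * (r i * r i) := by
      rw [Finset.mul_sum, ← Finset.sum_add_distrib]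
      refine Finset.sum_congr rfl fun i _ => ?_
      rw [ha' i i, key1, hm' i]
      ring
    have fc : 2 * ∑ i : Fin n, T.m i.castSucc * q i =
        (∑ i : Fin n, T.m i.castSucc * (r i * r i)) - ∑ i : Fin n, T.m i.castSucc * r i := by
      rw [Finset.mul_sum, ← Finset.sum_sub_distrib]
      refine Finset.sum_congr rfl fun i _ => ?_
      linear_combination (-T.m i.castSucc) * hq i
    have fe : ∑ j, T.m j * T.w j * (T.g j - 1) =
        (∑ i : Fin n, T.m i.castSucc * (T.w i.castSucc * (T.g i.castSucc - 1))) -
          T.m (Fin.last n) * T.w (Fin.last n) := by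
      rw [Fin.sum_univ_castSucc, hgl]
      have : ∑ i : Fin n, T.m i.castSucc * T.w i.castSucc * (T.g i.castSucc - 1) =
          ∑ i : Fin n, T.m i.castSucc * (T.w i.castSucc * (T.g i.castSucc - 1)) :=
        Finset.sum_congr rfl fun i _ => by ring
      rw [this]; ring
    have ff : ∑ j, T.m j * T.a j j =
        (∑ i : Fin n, T.m i.castSucc * T.a i.castSucc i.castSucc) -
          T.m (Fin.last n) * T.w (Fin.last n) := by
      rw [Fin.sum_univ_castSucc, hall]; ring
    obtain ⟨E', hE'⟩ := even_sum_diag T'.a T'.symm T'.m T'.mulVec_m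
    obtain ⟨E, hE⟩ := even_sum_diag T.a T.symm T.m T.mulVec_m
    unfold Models.NumericalType.genus
    rw [hE', hE, Int.mul_ediv_cancel_left _ (by norm_num), Int.mul_ediv_cancel_left _ (by norm_num),
      fa, fe]
    rw [fb] at hE'
    rw [ff] at hE
    have : 2 * (1 + ((∑ i : Fin n, T.m i.castSucc * (T.w i.castSucc * (T.g i.castSucc - 1))) +
          T.w (Fin.last n) * ∑ i : Fin n, T.m i.castSucc * q i) - E') =
        2 * (1 + ((∑ i : Fin n, T.m i.castSucc * (T.w i.castSucc * (T.g i.castSucc - 1))) -
          T.m (Fin.last n) * T.w (Fin.last n)) - E) := by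
      linear_combination T.w (Fin.last n) * fc + hE' - hE - T.w (Fin.last n) * hrowl
    exact mul_left_cancel₀ (two_ne_zero (α := ℤ)) this

end Groth.Agent.S2175
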