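import Groth.Statements.S2180
import Mathlib
-- import your own Groth.Agent.* helpers here

set_option autoImplicit false
open Finset
open Models Models.NumericalType

namespace Groth.Agent.S2180

/-- Let T be a numerical type on n + 1 indices whose last index is a (-1)-index and T' a contraction of
it. Then there is an injective homomorphism Pic(T) -> Pic(T') whose cokernel is annihilated by 2. -/
theorem result {n : ℕ} (T : Models.NumericalType (n + 1)) (h : T.IsMinusOne (Fin.last n))
    (T' : Models.NumericalType n) (hT' : T.IsContraction T') :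
    ∃ f : T.Pic →+ T'.Pic, Function.Injective f ∧ ∀ y : T'.Pic, ∃ x : T.Pic, 2 • y = f x := by
  classical
  obtain ⟨_, hall⟩ := h
  obtain ⟨_, ha', hw', _⟩ := hT'
  have wl_pos := T.w_pos (Fin.last n)
  have wl_ne : T.w (Fin.last n) ≠ 0 := ne_of_gt wl_pos
  have hb : ∀ i : Fin n, ∃ b : ℤ, T.a i.castSucc (Fin.last n) = T.w i.castSucc * b :=
    fun i => T.w_dvd i.castSucc (Fin.last n)
  have hr : ∀ i : Fin n, ∃ r : ℤ, T.a i.castSucc (Fin.last n) = T.w (Fin.last n) * r := fun i => by
    have := T.w_dvd (Fin.last n) i.castSucc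
    rw [T.symm.apply] at this
    exact this
  choose b hb using hb
  choose r hr using hr
  have he : ∀ i : Fin n, ∃ e : ℤ, (e = 1 ∨ e = 2) ∧ T.w i.castSucc = e * T'.w i := by
    intro i
    have hwi : T.w i.castSucc ≠ 0 := ne_of_gt (T.w_pos _)
    by_cases hc : 2 ∣ T.a i.castSucc (Fin.last n) / T.w (Fin.last n) ∧
          ¬ 2 ∣ T.a i.castSucc (Fin.last n) / T.w i.castSucc
    · refine ⟨2, Or.inr rfl, ?_⟩
      rw [hw' i, if_pos hc]
      obtain ⟨h1, h2⟩ := hc
      rw [hr i, Int.mul_ediv_cancel_left _ wl_ne] at h1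
      rw [hb i, Int.mul_ediv_cancel_left _ hwi] at h2
      have h3 : (2 : ℤ) ∣ T.w i.castSucc * b i := by
        rw [← hb i, hr i]
        exact Dvd.dvd.mul_left h1 _
      have h4 : (2 : ℤ) ∣ T.w i.castSucc := by
        rcases Int.prime_two.dvd_or_dvd h3 with h | h
        · exact h
        · exact absurd h h2
      exact (Int.mul_ediv_cancel' h4).symm
    · refine ⟨1, Or.inl rfl, ?_⟩
      rw [hw' i, if_neg hc, one_mul]
  choose e he1 he using he
  have hene : ∀ i, e i ≠ 0 := fun i => by
    rcases he1 i with h | h <;> rw [h] <;> norm_num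
  -- the matrix identities
  have hP : ∀ i j, T.picMatrix i j * T.w i = T.a i j := fun i j =>
    Int.ediv_mul_cancel (T.w_dvd i j)
  have hP' : ∀ i j, T'.picMatrix i j * T'.w i = T'.a i j := fun i j =>
    Int.ediv_mul_cancel (T'.w_dvd i j)
  have key1 : ∀ i j, T'.a i j = T.a i.castSucc j.castSucc + r i * T.a j.castSucc (Fin.last n) := by
    intro i j
    rw [ha' i j, hall, Int.ediv_neg, hr i, mul_assoc, Int.mul_ediv_cancel_left _ wl_ne]
    ring
  -- the linear map
  let F : (Fin (n + 1) → ℤ) →ₗ[ℤ] (Fin n → ℤ) :=
    { toFun := fun d i => e i * (d i.castSucc + b i * d (Fin.last n))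
      map_add' := fun x y => by
        funext i
        simp only [Pi.add_apply]
        ring
      map_smul' := fun c x => by
        funext i
        simp only [Pi.smul_apply, smul_eq_mul, RingHom.id_apply]
        ring }
  have hF : ∀ d i, F d i = e i * (d i.castSucc + b i * d (Fin.last n)) := fun _ _ => rfl
  have hwd : ∀ v : Fin (n + 1) → ℤ,
      F (T.picMatrix.mulVec v) = T'.picMatrix.mulVec (fun j => v j.castSucc) := by
    intro v
    funext i
    apply mul_left_cancel₀ (ne_of_gt (T'.w_pos i))
    rw [hF]
    have e1 : T'.w i * (e i * (T.picMatrix.mulVec v i.castSucc +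
        b i * T.picMatrix.mulVec v (Fin.last n))) =
        ∑ j, (T.a i.castSucc j + r i * T.a (Fin.last n) j) * v j := by
      have h1 : T.w i.castSucc * T.picMatrix.mulVec v i.castSucc = ∑ j, T.a i.castSucc j * v j := by
        simp only [Matrix.mulVec, dotProduct, Finset.mul_sum]
        refine Finset.sum_congr rfl fun j _ => ?_
        rw [← hP i.castSucc j]; ring
      have h2 : T.w (Fin.last n) * T.picMatrix.mulVec v (Fin.last n) =
          ∑ j, T.a (Fin.last n) j * v j := by
        simp only [Matrix.mulVec, dotProduct, Finset.mul_sum]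
        refine Finset.sum_congr rfl fun j _ => ?_
        rw [← hP (Fin.last n) j]; ring
      have h3 : T'.w i * (e i * (T.picMatrix.mulVec v i.castSucc +
          b i * T.picMatrix.mulVec v (Fin.last n))) =
          T.w i.castSucc * T.picMatrix.mulVec v i.castSucc +
            r i * (T.w (Fin.last n) * T.picMatrix.mulVec v (Fin.last n)) := by
        have hwb : T.w i.castSucc * b i = T.w (Fin.last n) * r i := by rw [← hb i, hr i]
        linear_combination (-(T.picMatrix.mulVec v i.castSucc +
          b i * T.picMatrix.mulVec v (Fin.last n))) * he i +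
          T.picMatrix.mulVec v (Fin.last n) * hwb
      rw [h3, h1, h2, Finset.mul_sum, ← Finset.sum_add_distrib]
      refine Finset.sum_congr rfl fun j _ => ?_
      ring
    have e2 : T'.w i * T'.picMatrix.mulVec (fun j => v j.castSucc) i =
        ∑ j : Fin n, T'.a i j * v j.castSucc := by
      simp only [Matrix.mulVec, dotProduct, Finset.mul_sum]
      refine Finset.sum_congr rfl fun j _ => ?_
      rw [← hP' i j]; ring
    rw [e1, e2, Fin.sum_univ_castSucc]
    have hlast : T.a i.castSucc (Fin.last n) + r i * T.a (Fin.last n) (Fin.last n) = 0 := by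
      rw [hall, hr i]; ring
    rw [hlast, zero_mul, add_zero]
    refine Finset.sum_congr rfl fun j _ => ?_
    rw [key1 i j, T.symm.apply (Fin.last n) j.castSucc]
  have hFle : LinearMap.range (Matrix.mulVecLin T.picMatrix) ≤
      (LinearMap.range (Matrix.mulVecLin T'.picMatrix)).comap F := by
    rintro _ ⟨v, rfl⟩
    exact ⟨fun j => v j.castSucc, (hwd v).symm⟩
  refine ⟨(Submodule.mapQ _ _ F hFle).toAddMonoidHom, ?_, ?_⟩
  · rw [injective_iff_map_eq_zero]
    intro x hx
    obtain ⟨d, rfl⟩ := Submodule.Quotient.mk_surjective _ x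
    change Submodule.mapQ _ _ F hFle (Submodule.Quotient.mk d) = 0 at hx
    rw [Submodule.mapQ_apply, Submodule.Quotient.mk_eq_zero] at hx
    obtain ⟨v', hv'⟩ := hx
    rw [Submodule.Quotient.mk_eq_zero]
    have hv'' : T'.picMatrix.mulVec v' = F d := hv'
    let S : ℤ := ∑ j : Fin n, T.picMatrix (Fin.last n) j.castSucc * v' j
    let v : Fin (n + 1) → ℤ := Fin.snoc v' (S - d (Fin.last n))
    have hvc : (fun j : Fin n => v j.castSucc) = v' := by
      funext j
      simp [v]
    have hll : T.picMatrix (Fin.last n) (Fin.last n) = -1 := by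
      change T.a (Fin.last n) (Fin.last n) / T.w (Fin.last n) = -1
      rw [hall, Int.neg_ediv_of_dvd (dvd_refl _), Int.ediv_self wl_ne]
    have hlast : T.picMatrix.mulVec v (Fin.last n) = d (Fin.last n) := by
      simp only [Matrix.mulVec, dotProduct]
      rw [Fin.sum_univ_castSucc]
      simp only [v, Fin.snoc_castSucc, Fin.snoc_last, hll]
      change S + _ = _
      ring
    have hFv : F (T.picMatrix.mulVec v) = F d := by rw [hwd v, hvc, hv'']
    refine ⟨v, ?_⟩
    change T.picMatrix.mulVec v = d
    funext j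
    refine Fin.lastCases hlast (fun i => ?_) j
    have := congrFun hFv i
    rw [hF, hF, hlast] at this
    have := mul_left_cancel₀ (hene i) this
    linarith
  · intro y
    obtain ⟨y0, rfl⟩ := Submodule.Quotient.mk_surjective _ y
    have hc : ∀ i, ∃ c : ℤ, e i * c = 2 := fun i => by
      rcases he1 i with h | h
      · exact ⟨2, by rw [h]; norm_num⟩
      · exact ⟨1, by rw [h]; norm_num⟩
    choose c hc using hc
    let x0 : Fin (n + 1) → ℤ := Fin.snoc (fun i => c i * y0 i) 0
    refine ⟨Submodule.Quotient.mk x0, ?_⟩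
    change _ = Submodule.mapQ _ _ F hFle (Submodule.Quotient.mk x0)
    rw [Submodule.mapQ_apply, ← Submodule.Quotient.mk_smul]
    congr 1
    funext i
    rw [hF]
    simp only [x0, Fin.snoc_castSucc, Fin.snoc_last, Pi.smul_apply, smul_eq_mul, mul_zero, add_zero]
    rw [← mul_assoc, hc i]
    simp

end Groth.Agent.S2180
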