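import Groth.Statements.S0525
import Groth.Agent.Lib.Helper3.Hensel2
-- import your own Groth.Agent.* helpers here

set_option autoImplicit false
universe u
open Hensel

namespace Groth.Agent.S0525

/-- A ring is Henselian at `I` iff it is Henselian at the radical of `I`. -/
theorem henselianRing_radical_iff (A : Type u) [CommRing A] (I : Ideal A) :
    HenselianRing A I ↔ HenselianRing A I.radical := by
  constructor
  · intro hI
    apply Groth.Agent.Lib.Helper3.henselianRing_of_quotient Ideal.le_radical hI
    apply Groth.Agent.Lib.Helper3.henselianRing_of_forall_isNilpotent
    intro x hx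
    obtain ⟨y, hy, rfl⟩ := (Ideal.mem_map_iff_of_surjective _ Ideal.Quotient.mk_surjective).mp hx
    obtain ⟨n, hn⟩ := hy
    exact ⟨n, by rw [← map_pow]; exact Ideal.Quotient.eq_zero_iff_mem.mpr hn⟩
  · intro h
    exact Groth.Agent.Lib.Helper3.henselianRing_of_le Ideal.le_radical h

/-- If two ideals of a ring have the same radical (the same closed set), the ring is Henselian at one
exactly when it is Henselian at the other. -/
theorem result (A : Type u) [CommRing A] (I J : Ideal A)
    (h : I.radical = J.radical) : HenselianRing A I ↔ HenselianRing A J := by
  rw [henselianRing_radical_iff A I, henselianRing_radical_iff A J, h]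

end Groth.Agent.S0525
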