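import Groth.Statements.S17596
import Groth.Agent.Lib.Helper90.QFNbhdHens
import Groth.Agent.Lib.Helper90.PairHzTower
import Groth.Agent.Lib.Helper90.PairHzHfp
-- import your own Groth.Agent.* helpers here

set_option autoImplicit false
universe u
open Hensel

namespace Groth.Agent.S17596

/-- Let (A, I) be a Henselian pair and let B be a Henselization of the pair (R, IR) for a finitely
presented A-algebra R (that is, A → B is a Henselian finitely presented map of Henselian pairs). If
the induced map A/I → B/IB is module-finite, then B is module-finite and finitely presented over A. -/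
theorem result (A : Type u) [CommRing A] (I : Ideal A)
    [HenselianRing A I] (R : Type u) [CommRing R] [Algebra A R] [Algebra.FinitePresentation A R]
    (B : Type u) [CommRing B] [Algebra R B] [Algebra A B] [IsScalarTower A R B]
    (hB : Hens2.IsPairHenselization R (I.map (algebraMap A R)) B)
    (hfin : (Ideal.quotientMap (I.map (algebraMap A B)) (algebraMap A B) Ideal.le_comap_map).Finite) :
    Module.Finite A B ∧ Algebra.FinitePresentation A B := by
  classical
  -- Step 1: `R/IR` is a finite `A`-module
  have hQ : Groth.Agent.Lib.Helper90.PairHz.QuotBij (I.map (algebraMap A R)) B :=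
    Groth.Agent.Lib.Helper90.PairHz.quotBij_of_isPairHenselization _ hB
  have hfinB : Module.Finite A (B ⧸ I.map (algebraMap A B)) := by
    have h1 : ((Ideal.quotientMap (I.map (algebraMap A B)) (algebraMap A B)
        Ideal.le_comap_map).comp (Ideal.Quotient.mk I)).Finite :=
      hfin.comp (RingHom.Finite.of_surjective _ Ideal.Quotient.mk_surjective)
    have h2 : (Ideal.quotientMap (I.map (algebraMap A B)) (algebraMap A B)
        Ideal.le_comap_map).comp (Ideal.Quotient.mk I) =
        algebraMap A (B ⧸ I.map (algebraMap A B)) := by
      ext a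
      rw [RingHom.comp_apply, Ideal.quotientMap_mk]
      rfl
    rw [h2] at h1
    exact RingHom.finite_algebraMap.mp h1
  obtain ⟨eq⟩ := Groth.Agent.Lib.Helper90.PairHz.nonempty_algEquiv_quotient_of_quotBij
    (A := A) (R := R) (B := B) (K := I) hQ
  have hfinR : Module.Finite A (R ⧸ I.map (algebraMap A R)) :=
    Module.Finite.equiv (eq.symm.toLinearEquiv.restrictScalars A)
  -- Step 2: the finite good neighbourhood
  obtain ⟨C, _, _, _, _, hEt, hFin, hQC⟩ :=
    Groth.Agent.Lib.Helper90.QFNbhd.exists_finite_good_of_henselian I (R := R) hfinR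
  have hgood : Groth.Agent.Lib.Helper90.PairHz.IsGood (I.map (algebraMap A R)) C :=
    ⟨hEt, (Groth.Agent.Lib.Helper90.PairHz.quotBij_iff _).mp hQC⟩
  have hmmC : (I.map (algebraMap A R)).map (algebraMap R C) = I.map (algebraMap A C) := by
    rw [Ideal.map_map, ← IsScalarTower.algebraMap_eq]
  have hintC : Algebra.IsIntegral A C := Algebra.IsIntegral.of_finite A C
  have hensC : HenselianRing C ((I.map (algebraMap A R)).map (algebraMap R C)) := by
    rw [hmmC]
    exact Groth.Agent.Lib.Helper37.henselianRing_map_of_isIntegral I C
  have hensB : HenselianRing B ((I.map (algebraMap A R)).map (algebraMap R B)) := hB.1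
  obtain ⟨g⟩ := Groth.Agent.Lib.Helper90.PairHz.nonempty_algHom_of_henselian
    (I.map (algebraMap A R)) B ((I.map (algebraMap A R)).map (algebraMap R B)) le_rfl C hgood
  let algCB : Algebra C B := g.toRingHom.toAlgebra
  have towerRCB : IsScalarTower R C B :=
    IsScalarTower.of_algebraMap_eq (fun x => (g.commutes x).symm)
  have hB' := Groth.Agent.Lib.Helper90.PairHz.isPairHenselization_over_good
    (I.map (algebraMap A R)) hB hgood
  have hC' : Hens2.IsPairHenselization C ((I.map (algebraMap A R)).map (algebraMap R C)) C := by
    refine ⟨?_, fun E _ J f hE hle => ⟨f, ?_, ?_⟩⟩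
    · rw [Algebra.algebraMap_self, Ideal.map_id]
      exact hensC
    · ext x
      simp
    · intro g' hg'
      rw [← hg']
      ext x
      simp
  obtain ⟨ε⟩ := Groth.Agent.Lib.Helper90.PairHz.nonempty_algEquiv_of_isPairHenselization _ hB' hC'
  have towerACB : IsScalarTower A C B := by
    refine IsScalarTower.of_algebraMap_eq (fun a => ?_)
    rw [IsScalarTower.algebraMap_apply A R B, IsScalarTower.algebraMap_apply R C B,
      ← IsScalarTower.algebraMap_apply A R C]
  have hfpC : Algebra.FinitePresentation A C := Algebra.FinitePresentation.trans A R C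
  exact ⟨Module.Finite.equiv (ε.restrictScalars A).symm.toLinearEquiv,
    Algebra.FinitePresentation.equiv (ε.restrictScalars A).symm⟩

end Groth.Agent.S17596
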