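import Groth.Statements.S18646
import Groth.Agent.Lib.Helper99.SegreFin

set_option autoImplicit false
universe u
open scoped TensorProduct
open GrSegre

namespace Groth.Agent.S18646

/-- Let R and S be graded rings defined over a field k. Then their Segre product T = R # S is a
Noetherian ring (hence again a graded ring defined over k). Here a graded ring defined over k is a
commutative k-algebra of finite type, graded in nonnegative degrees by k-subspaces with degree-zero
part k·1; the Segre product T = R # S = ⊕_n R_n ⊗_k S_n (graded by T_n = R_n ⊗_k S_n) is presented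
abstractly as a graded k-algebra T with an injective k-algebra homomorphism ψ : T → R ⊗_k S carrying
T_n onto the k-span of the elementary tensors a ⊗ b with a ∈ R_n, b ∈ S_n, for every n. -/
theorem result (k : Type u) [Field k] (R : Type u) [CommRing R] [Algebra k R] (𝒜 : ℤ → Submodule k R) [GradedAlgebra 𝒜] (hposR : ∀ n : ℤ, n < 0 → 𝒜 n = ⊥) (h0R : 𝒜 0 = Submodule.span k {(1 : R)}) [Algebra.FiniteType k R] (S : Type u) [CommRing S] [Algebra k S] (ℬ : ℤ → Submodule k S) [GradedAlgebra ℬ] (hposS : ∀ n : ℤ, n < 0 → ℬ n = ⊥) (h0S : ℬ 0 = Submodule.span k {(1 : S)}) [Algebra.FiniteType k S] (T : Type u) [CommRing T] [Algebra k T] (𝒯 : ℤ → Submodule k T) [GradedAlgebra 𝒯] (ψ : T →ₐ[k] TensorProduct k R S) (hψ : Function.Injective ψ) (hdegT : ∀ n : ℤ, (𝒯 n).map ψ.toLinearMap = Submodule.span k {x : TensorProduct k R S | ∃ a ∈ 𝒜 n, ∃ b ∈ ℬ n, x = a ⊗ₜ[k] b}) : IsNoetherianRing T := by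
  open Groth.Agent.Lib.Helper99.GrDual Groth.Agent.Lib.Helper99.Segre
    Groth.Agent.Lib.Helper99.SegreFin in
  classical
  have hT : GrSeg.IsSegreRing 𝒜 ℬ 𝒯 ψ := ⟨hψ, hdegT⟩
  have hactmul : ∀ z w : TensorProduct k R S, GrSeg.act k R S R S z w = z * w := by
    intro z w
    induction z using TensorProduct.induction_on with
    | zero => simp
    | tmul r s =>
      induction w using TensorProduct.induction_on with
      | zero => simp
      | tmul r' s' =>
        rw [GrSeg.act_tmul, Algebra.TensorProduct.tmul_mul_tmul, smul_eq_mul, smul_eq_mul]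
      | add w w' h h' => rw [map_add, h, h', mul_add]
    | add z z' h h' => rw [map_add, LinearMap.add_apply, h, h', add_mul]
  have hP : GrSeg.IsSegreMod ψ 𝒜 ℬ 𝒯 ψ.toLinearMap :=
    { injective := hψ
      image_piece := fun n => by
        have h := hdegT n
        show (ψ.toLinearMap '' (𝒯 n : Set T)) =
          ((Submodule.span k {x : TensorProduct k R S | ∃ a ∈ 𝒜 n, ∃ b ∈ ℬ n, x = a ⊗ₜ[k] b} :
            Submodule k (TensorProduct k R S)) : Set (TensorProduct k R S))
        rw [← h]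
        rfl
      map_smul := fun t p => by
        rw [smul_eq_mul, AlgHom.toLinearMap_apply, map_mul, hactmul]
        rfl }
  -- negative pieces of `T` vanish
  have hnegT : ∀ n : ℤ, n < 0 → ∀ t ∈ 𝒯 n, t = 0 := by
    intro n hn t ht
    apply hψ
    rw [map_zero]
    have h1 : ψ t ∈ (𝒯 n).map ψ.toLinearMap := ⟨t, ht, rfl⟩
    rw [hdegT n] at h1
    have h2 : Submodule.span k {x : TensorProduct k R S | ∃ a ∈ 𝒜 n, ∃ b ∈ ℬ n, x = a ⊗ₜ[k] b} = ⊥ := by
      rw [eq_bot_iff]
      apply Submodule.span_le.mpr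
      rintro _ ⟨a, ha, b, _, rfl⟩
      rw [hposR n hn] at ha
      rw [(Submodule.mem_bot k).mp ha, TensorProduct.zero_tmul]
      exact zero_mem _
    rw [h2] at h1
    exact (Submodule.mem_bot k).mp h1
  -- `T_0 = k`
  have hzeroT : ∀ t ∈ 𝒯 0, ∃ c : k, t = algebraMap k T c := by
    intro t ht
    have h1 : ψ t ∈ (𝒯 0).map ψ.toLinearMap := ⟨t, ht, rfl⟩
    rw [hdegT 0] at h1
    have h2 : Submodule.span k {x : TensorProduct k R S | ∃ a ∈ 𝒜 0, ∃ b ∈ ℬ 0, x = a ⊗ₜ[k] b} ≤
        Submodule.span k {(1 : TensorProduct k R S)} := by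
      apply Submodule.span_le.mpr
      rintro _ ⟨a, ha, b, hb, rfl⟩
      obtain ⟨α, rfl⟩ := exists_smul_one_of_mem_zero 𝒜 h0R ha
      obtain ⟨β, rfl⟩ := exists_smul_one_of_mem_zero ℬ h0S hb
      rw [TensorProduct.smul_tmul_smul]
      exact Submodule.smul_mem _ _ (Submodule.mem_span_singleton_self _)
    obtain ⟨c, hc⟩ := Submodule.mem_span_singleton.mp (h2 h1)
    refine ⟨c, hψ ?_⟩
    rw [← hc, AlgHom.commutes, Algebra.algebraMap_eq_smul_one]
  -- degree function on homogeneous elements of positive degree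
  set H₀ : Set T := {t | ∃ n : ℤ, 0 < n ∧ t ∈ 𝒯 n} with hH₀def
  let d : T → ℤ := fun t => if h : ∃ n : ℤ, 0 < n ∧ t ∈ 𝒯 n then h.choose else 0
  have hd : ∀ t ∈ H₀, 0 < d t ∧ t ∈ 𝒯 (d t) := by
    intro t ht
    show 0 < (if h : ∃ n : ℤ, 0 < n ∧ t ∈ 𝒯 n then h.choose else 0) ∧
      t ∈ 𝒯 (if h : ∃ n : ℤ, 0 < n ∧ t ∈ 𝒯 n then h.choose else 0)
    have ht' : ∃ n : ℤ, 0 < n ∧ t ∈ 𝒯 n := ht
    rw [dif_pos ht']
    exact ht'.choose_spec
  obtain ⟨G, hGH, hkey⟩ := exists_finset_homogeneous_generators k R 𝒜 S ℬ T 𝒯 ψ hT R 𝒜 S ℬ T 𝒯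
    ψ.toLinearMap hP H₀ d (fun t ht => (hd t ht).2)
  -- every homogeneous element lies in the subalgebra generated by `G`
  have hadj : ∀ (n : ℕ) (t : T), t ∈ 𝒯 (n : ℤ) → t ∈ Algebra.adjoin k (G : Set T) := by
    intro n
    induction n using Nat.strong_induction_on with
    | _ n ih =>
      intro t ht
      rcases Nat.eq_zero_or_pos n with hn | hn
      · subst hn
        obtain ⟨c, rfl⟩ := hzeroT t (by simpa using ht)
        exact Subalgebra.algebraMap_mem _ c
      · have htH : t ∈ H₀ := ⟨n, by exact_mod_cast hn, ht⟩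
        obtain ⟨τ, hτ1, hτ2⟩ := hkey n t ht htH
        rw [hτ2]
        refine Subalgebra.sum_mem _ (fun e he => ?_)
        rw [smul_eq_mul]
        refine Subalgebra.mul_mem _ ?_ (Algebra.subset_adjoin (Finset.mem_coe.mpr he))
        have hde := (hd e (hGH (Finset.mem_coe.mpr he))).1
        have hτe := hτ1 e he
        by_cases hneg : (n : ℤ) - d e < 0
        · rw [hnegT _ hneg _ hτe]
          exact zero_mem _
        · obtain ⟨m, hm⟩ : ∃ m : ℕ, (n : ℤ) - d e = m := ⟨((n : ℤ) - d e).toNat, by omega⟩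
          rw [hm] at hτe
          exact ih m (by omega) _ hτe
  have htop : Algebra.adjoin k (G : Set T) = ⊤ := by
    rw [eq_top_iff]
    intro t _
    rw [← DirectSum.sum_support_decompose 𝒯 t]
    refine Subalgebra.sum_mem _ (fun n _ => ?_)
    by_cases hn : n < 0
    · rw [hnegT n hn _ (SetLike.coe_mem _)]
      exact zero_mem _
    · obtain ⟨m, rfl⟩ : ∃ m : ℕ, n = m := ⟨n.toNat, by omega⟩
      exact hadj m _ (SetLike.coe_mem _)
  have : Algebra.FiniteType k T := ⟨⟨G, htop⟩⟩
  exact Algebra.FiniteType.isNoetherianRing k T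

end Groth.Agent.S18646
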