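import Groth.Statements.S19747
import Groth.Agent.Lib.Helper99.GrDual
import Groth.Agent.Lib.Helper99.Segre
import Mathlib.RingTheory.FiniteStability

set_option autoImplicit false
universe u
open scoped TensorProduct
open GrSegre

namespace Groth.Agent.S19747


open scoped TensorProduct
open Groth.Agent.Lib.Helper99.GrDual Groth.Agent.Lib.Helper99.Segre

section ActHom

variable (k : Type u) [Field k] (R S : Type u) [CommRing R] [CommRing S] [Algebra k R] [Algebra k S]
  (M N : Type u) [AddCommGroup M] [Module R M] [Module k M] [IsScalarTower k R M]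
  [AddCommGroup N] [Module S N] [Module k N] [IsScalarTower k S N]

/-- the algebra homomorphism `R ⊗ S → End_k (M ⊗ N)` underlying `GrSeg.act` -/
noncomputable def actHom : R ⊗[k] S →ₐ[k] Module.End k (M ⊗[k] N) :=
  Algebra.TensorProduct.lift
    ((Module.End.rTensorAlgHom k M N).comp (Algebra.lsmul k k M : R →ₐ[k] Module.End k M))
    ((Module.End.lTensorAlgHom k N M).comp (Algebra.lsmul k k N : S →ₐ[k] Module.End k N))
    (fun r s => by
      show LinearMap.rTensor N _ * LinearMap.lTensor M _ = LinearMap.lTensor M _ * LinearMap.rTensor N _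
      rw [Module.End.mul_eq_comp, Module.End.mul_eq_comp, LinearMap.rTensor_comp_lTensor,
        LinearMap.lTensor_comp_rTensor])

theorem actHom_eq (z : R ⊗[k] S) (e : M ⊗[k] N) : actHom k R S M N z e = GrSeg.act k R S M N z e := by
  induction z using TensorProduct.induction_on with
  | zero => simp
  | tmul r s =>
    induction e using TensorProduct.induction_on with
    | zero => simp
    | tmul m n =>
      rw [GrSeg.act_tmul]
      have h1 : actHom k R S M N (r ⊗ₜ[k] s) =
          (Module.End.rTensorAlgHom k M N) (Algebra.lsmul k k M r) *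
            (Module.End.lTensorAlgHom k N M) (Algebra.lsmul k k N s) := rfl
      rw [h1, Module.End.mul_apply]
      show LinearMap.rTensor N (Algebra.lsmul k k M r : Module.End k M)
        (LinearMap.lTensor M (Algebra.lsmul k k N s : Module.End k N) (m ⊗ₜ[k] n)) = _
      rw [LinearMap.lTensor_tmul, LinearMap.rTensor_tmul]
      rfl
    | add e e' h h' => rw [map_add, map_add, h, h']
  | add z z' h h' => rw [map_add, map_add, LinearMap.add_apply, LinearMap.add_apply, h, h']

end ActHom

section Proj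

variable {k : Type u} [Field k] {R : Type u} [CommRing R] [Algebra k R] (𝒜 : ℤ → Submodule k R)
  [GradedAlgebra 𝒜]
  {M : Type u} [AddCommGroup M] [Module R M] [Module k M] [IsScalarTower k R M]
  {τ : Type u} [SetLike τ M] [AddSubgroupClass τ M] (ℳ : ℤ → τ) [DirectSum.Decomposition ℳ]
  [SetLike.GradedSMul 𝒜 ℳ]

/-- projection onto the degree `n` component, as a `k`-linear endomorphism -/
noncomputable def proj (n : ℤ) : M →ₗ[k] M := (pieceSub 𝒜 ℳ n).subtype ∘ₗ componentMap 𝒜 ℳ n

theorem proj_apply (n : ℤ) (x : M) :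
    proj 𝒜 ℳ n x = ((DirectSum.decompose ℳ x n : ℳ n) : M) := rfl

theorem proj_of_mem {n : ℤ} {x : M} (hx : x ∈ ℳ n) : proj 𝒜 ℳ n x = x := by
  rw [proj_apply, DirectSum.decompose_of_mem_same ℳ hx]

theorem proj_mem (n : ℤ) (x : M) : proj 𝒜 ℳ n x ∈ ℳ n := by
  rw [proj_apply]; exact SetLike.coe_mem _

/-- components of `r • x` for homogeneous `x` -/
theorem proj_smul_of_mem {j : ℤ} {x : M} (hx : x ∈ ℳ j) (n : ℤ) (r : R) :
    proj 𝒜 ℳ n (r • x) = (proj 𝒜 𝒜 (n - j) r) • x := by
  classical
  induction r using DirectSum.Decomposition.inductionOn 𝒜 with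
  | zero => simp
  | @homogeneous c r =>
    have hrx : (r : R) • x ∈ ℳ (c + j) := smul_mem_piece 𝒜 ℳ r.2 hx
    by_cases hc : c = n - j
    · subst hc
      rw [proj_of_mem 𝒜 𝒜 r.2]
      have e : n - j + j = n := by ring
      rw [e] at hrx
      exact proj_of_mem 𝒜 ℳ hrx
    · rw [proj_apply, proj_apply, DirectSum.decompose_of_mem_ne ℳ hrx (by omega),
        DirectSum.decompose_of_mem_ne 𝒜 r.2 hc, zero_smul]
  | add r r' h h' =>
    rw [add_smul, map_add, map_add, add_smul, h, h']

end Proj

/-- Let R and S be graded rings defined over a field k with Segre product T = R # S, and let M be a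
finitely generated graded R-module and N a finitely generated graded S-module. Then M # N is a
finitely generated T-module. Here a graded ring defined over k is a commutative k-algebra of finite
type, graded in nonnegative degrees by k-subspaces with degree-zero part k·1; the Segre product T =
R # S = ⊕_n R_n ⊗_k S_n is presented abstractly as a graded k-algebra T with an injective k-algebra
homomorphism ψ : T → R ⊗_k S carrying T_n onto the k-span of the elementary tensors a ⊗ b with a ∈
R_n, b ∈ S_n; the Segre product M # N = ⊕_n M_n ⊗_k N_n of a graded R-module M and a graded S-module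
N is presented abstractly as a graded T-module P with an injective k-linear map φ : P → M ⊗_k N
carrying P_n onto the k-span of the tensors x ⊗ y with x ∈ M_n, y ∈ N_n and turning the action of t
∈ T into that of ψ(t) (acting factorwise on M ⊗_k N). -/
theorem result (k : Type u) [Field k] (R : Type u) [CommRing R] [Algebra k R] (𝒜 : ℤ → Submodule k R) [GradedAlgebra 𝒜] (hposR : ∀ n : ℤ, n < 0 → 𝒜 n = ⊥) (h0R : 𝒜 0 = Submodule.span k {(1 : R)}) [Algebra.FiniteType k R] (S : Type u) [CommRing S] [Algebra k S] (ℬ : ℤ → Submodule k S) [GradedAlgebra ℬ] (hposS : ∀ n : ℤ, n < 0 → ℬ n = ⊥) (h0S : ℬ 0 = Submodule.span k {(1 : S)}) [Algebra.FiniteType k S] (T : Type u) [CommRing T] [Algebra k T] (𝒯 : ℤ → Submodule k T) [GradedAlgebra 𝒯] (ψ : T →ₐ[k] TensorProduct k R S) (hT : GrSeg.IsSegreRing 𝒜 ℬ 𝒯 ψ) (M : Type u) [AddCommGroup M] [Module R M] [Module k M] [IsScalarTower k R M] (ℳ : ℤ → AddSubgroup M) [DirectSum.Decomposition ℳ] [SetLike.GradedSMul 𝒜 ℳ] [Module.Finite R M] (N : Type u) [AddCommGroup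 N] [Module S N] [Module k N] [IsScalarTower k S N] (𝒩 : ℤ → AddSubgroup N) [DirectSum.Decomposition 𝒩] [SetLike.GradedSMul ℬ 𝒩] [Module.Finite S N] (P : Type u) [AddCommGroup P] [Module T P] [Module k P] [IsScalarTower k T P] (𝒬 : ℤ → AddSubgroup P) [DirectSum.Decomposition 𝒬] (φ : P →ₗ[k] TensorProduct k M N) (hP : GrSeg.IsSegreMod ψ ℳ 𝒩 𝒬 φ) : Module.Finite T P := by
  classical
  -- projections on `E = M ⊗ N` and `A = R ⊗ S`
  let PrE : ℤ → (M ⊗[k] N →ₗ[k] M ⊗[k] N) := fun n => TensorProduct.map (proj 𝒜 ℳ n) (proj ℬ 𝒩 n)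
  let PrA : ℤ → (R ⊗[k] S →ₗ[k] R ⊗[k] S) := fun c => TensorProduct.map (proj 𝒜 𝒜 c) (proj ℬ ℬ c)
  have hPrE_id : ∀ n : ℤ, ∀ e ∈ GrSeg.segrePiece k ℳ 𝒩 n, PrE n e = e := by
    intro n e he
    induction he using Submodule.span_induction with
    | mem e he =>
      obtain ⟨x, hx, y, hy, rfl⟩ := he
      show (proj 𝒜 ℳ n x) ⊗ₜ[k] (proj ℬ 𝒩 n y) = x ⊗ₜ[k] y
      rw [proj_of_mem 𝒜 ℳ hx, proj_of_mem ℬ 𝒩 hy]
    | zero => exact map_zero _
    | add e e' _ _ h h' => rw [map_add, h, h']
    | smul c e _ h => rw [map_smul, h]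
  have hPrA_mem : ∀ (c : ℤ) (z : R ⊗[k] S), PrA c z ∈ GrSeg.segrePiece k 𝒜 ℬ c := by
    intro c z
    induction z using TensorProduct.induction_on with
    | zero => rw [map_zero]; exact zero_mem _
    | tmul r s => exact tmul_mem_segrePiece (k := k) (proj_mem 𝒜 𝒜 c r) (proj_mem ℬ ℬ c s)
    | add z z' h h' => rw [map_add]; exact add_mem h h'
  have hPract : ∀ (n j : ℤ) (z : R ⊗[k] S), ∀ e ∈ GrSeg.segrePiece k ℳ 𝒩 j,
      PrE n (GrSeg.act k R S M N z e) = GrSeg.act k R S M N (PrA (n - j) z) e := by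
    intro n j z e he
    induction z using TensorProduct.induction_on with
    | zero => simp
    | tmul r s =>
      induction he using Submodule.span_induction with
      | mem e he =>
        obtain ⟨x, hx, y, hy, rfl⟩ := he
        rw [GrSeg.act_tmul]
        show (proj 𝒜 ℳ n (r • x)) ⊗ₜ[k] (proj ℬ 𝒩 n (s • y)) =
          GrSeg.act k R S M N ((proj 𝒜 𝒜 (n - j) r) ⊗ₜ[k] (proj ℬ ℬ (n - j) s)) (x ⊗ₜ[k] y)
        rw [GrSeg.act_tmul, proj_smul_of_mem 𝒜 ℳ hx, proj_smul_of_mem ℬ 𝒩 hy]
      | zero => simp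
      | add e e' _ _ h h' => rw [map_add, map_add, map_add, h, h']
      | smul c e _ h => rw [map_smul, map_smul, map_smul, h]
    | add z z' h h' =>
      rw [map_add, LinearMap.add_apply, map_add, map_add, map_add, LinearMap.add_apply, h, h']
  -- the module structure of `E` over `A`
  let modA : Module (R ⊗[k] S) (M ⊗[k] N) :=
    Module.compHom (M ⊗[k] N) (actHom k R S M N : R ⊗[k] S →+* Module.End k (M ⊗[k] N))
  have hsmulA : ∀ (z : R ⊗[k] S) (e : M ⊗[k] N), z • e = GrSeg.act k R S M N z e :=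
    fun z e => actHom_eq k R S M N z e
  -- `A` is Noetherian
  have : Algebra.FiniteType k (R ⊗[k] S) :=
    Algebra.FiniteType.trans (S := R) inferInstance inferInstance
  have : IsNoetherianRing (R ⊗[k] S) := Algebra.FiniteType.isNoetherianRing k (R ⊗[k] S)
  -- `E` is a finite `A`-module
  obtain ⟨GM, hGM⟩ := (Module.Finite.fg_top : (⊤ : Submodule R M).FG)
  obtain ⟨GN, hGN⟩ := (Module.Finite.fg_top : (⊤ : Submodule S N).FG)
  have hEfin : Module.Finite (R ⊗[k] S) (M ⊗[k] N) := by
    refine ⟨⟨Finset.image₂ (fun x y => x ⊗ₜ[k] y) GM GN, ?_⟩⟩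
    rw [eq_top_iff]
    suffices hall : ∀ e : M ⊗[k] N, e ∈ Submodule.span (R ⊗[k] S)
        ((Finset.image₂ (fun x y => x ⊗ₜ[k] y) GM GN : Finset (M ⊗[k] N)) : Set (M ⊗[k] N)) from
      fun e _ => hall e
    intro e
    induction e using TensorProduct.induction_on with
    | zero => exact zero_mem _
    | tmul x y =>
      have hx : x ∈ Submodule.span R (GM : Set M) := by rw [hGM]; trivial
      have hy : y ∈ Submodule.span S (GN : Set N) := by rw [hGN]; trivial
      induction hx using Submodule.span_induction with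
      | mem x hx =>
        induction hy using Submodule.span_induction with
        | mem y hy =>
          apply Submodule.subset_span
          rw [Finset.coe_image₂]
          exact ⟨x, hx, y, hy, rfl⟩
        | zero => rw [TensorProduct.tmul_zero]; exact zero_mem _
        | add y y' _ _ h h' => rw [TensorProduct.tmul_add]; exact add_mem h h'
        | smul s y _ h =>
          have : x ⊗ₜ[k] (s • y) = ((1 : R) ⊗ₜ[k] s) • (x ⊗ₜ[k] y) := by
            rw [hsmulA, GrSeg.act_tmul, one_smul]
          rw [this]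
          exact Submodule.smul_mem _ _ h
      | zero => rw [TensorProduct.zero_tmul]; exact zero_mem _
      | add x x' _ _ h h' => rw [TensorProduct.add_tmul]; exact add_mem h h'
      | smul r x _ h =>
        have : (r • x) ⊗ₜ[k] y = (r ⊗ₜ[k] (1 : S)) • (x ⊗ₜ[k] y) := by
          rw [hsmulA, GrSeg.act_tmul, one_smul]
        rw [this]
        exact Submodule.smul_mem _ _ h
    | add e e' h h' => exact add_mem h h'
  have : IsNoetherian (R ⊗[k] S) (M ⊗[k] N) := isNoetherian_of_isNoetherianRing_of_finite _ _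
  -- the `A`-span of the images of the homogeneous elements is finitely generated
  set H : Set P := {p | ∃ n : ℤ, p ∈ 𝒬 n} with hH
  have hfg : (Submodule.span (R ⊗[k] S) (φ '' H)).FG := IsNoetherian.noetherian _
  obtain ⟨s', hs'sub, hs'span⟩ := (Submodule.fg_span_iff_fg_span_finset_subset _).mp hfg
  -- generators of `P`
  have hGenfin : (φ ⁻¹' (s' : Set (M ⊗[k] N))).Finite :=
    Set.Finite.preimage (hP.injective.injOn) s'.finite_toSet
  refine ⟨⟨hGenfin.toFinset, ?_⟩⟩
  rw [eq_top_iff]
  intro p _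
  -- reduce to homogeneous `p`
  rw [← DirectSum.sum_support_decompose 𝒬 p]
  refine sum_mem fun n _ => ?_
  set q : P := ((DirectSum.decompose 𝒬 p n : 𝒬 n) : P) with hq
  have hqn : q ∈ 𝒬 n := SetLike.coe_mem _
  have hφq : φ q ∈ Submodule.span (R ⊗[k] S) ((s' : Finset (M ⊗[k] N)) : Set (M ⊗[k] N)) := by
    rw [← hs'span]
    exact Submodule.subset_span ⟨q, ⟨n, hqn⟩, rfl⟩
  obtain ⟨f, _, hf⟩ := Submodule.mem_span_finset.mp hφq
  -- for each `e ∈ s'` choose its homogeneous preimage
  have hpre : ∀ e ∈ s', ∃ (pe : P) (j : ℤ), pe ∈ 𝒬 j ∧ φ pe = e := by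
    intro e he
    obtain ⟨pe, ⟨j, hj⟩, hpe⟩ := hs'sub he
    exact ⟨pe, j, hj, hpe⟩
  have hterm : ∀ e ∈ s', ∃ w : P, w ∈ Submodule.span T (hGenfin.toFinset : Set P) ∧
      φ w = PrE n (f e • e) := by
    intro e he
    obtain ⟨pe, j, hj, hpe⟩ := hpre e he
    have he' : e ∈ GrSeg.segrePiece k ℳ 𝒩 j := by
      rw [← hpe]; exact (mem_piece_iff hP).mp hj
    obtain ⟨t, _, htψ⟩ := exists_psi_eq_tmul hT (hPrA_mem (n - j) (f e))
    refine ⟨t • pe, ?_, ?_⟩
    · apply Submodule.smul_mem
      apply Submodule.subset_span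
      rw [Set.Finite.coe_toFinset, Set.mem_preimage, hpe]
      exact he
    · rw [hP.map_smul, htψ, hpe, hsmulA, hPract n j (f e) e he']
  choose! w hw1 hw2 using hterm
  have hqsum : q = ∑ e ∈ s', w e := by
    apply hP.injective
    rw [map_sum, ← hPrE_id n (φ q) ((mem_piece_iff hP).mp hqn), ← hf, map_sum]
    exact Finset.sum_congr rfl (fun e he => (hw2 e he).symm)
  rw [hqsum]
  exact sum_mem (fun e he => hw1 e he)

end Groth.Agent.S19747
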