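import Groth.Statements.S12211
import Groth.Agent.Lib.Helper87.SamuelFn
import Groth.Agent.Lib.Helper87.SamuelLimit

set_option autoImplicit false
universe u
open IntMult
open Groth.Agent.Lib.Helper87.SamuelFn Groth.Agent.Lib.Helper87.SamuelLimit

namespace Groth.Agent.S12211

/-- Suppose A is a local Noetherian ring and I ⊆ A is an ideal of definition. Given a short exact
sequence 0 → M' → M → M'' → 0 of finite A-modules and a number d with dim Supp(M) ≤ d, we have
e_I(M, d) = e_I(M', d) + e_I(M'', d), where e_I(N, d) denotes the limit as t → ∞ of d! ·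
length_A(N/I^t N)/t^d. Concretely: whenever these limits for M' and M'' exist and equal e' and e'',
the corresponding limit for M exists and equals e' + e''. -/
theorem result (A : Type u) [CommRing A] [IsNoetherianRing A] [IsLocalRing A]
    (I : Ideal A) (hI : I ≤ IsLocalRing.maximalIdeal A ∧ ∃ n : ℕ, IsLocalRing.maximalIdeal A ^ n ≤ I)
    {M' M M'' : Type u} [AddCommGroup M'] [Module A M'] [AddCommGroup M] [Module A M]
    [AddCommGroup M''] [Module A M''] [Module.Finite A M'] [Module.Finite A M] [Module.Finite A M'']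
    (f : M' →ₗ[A] M) (g : M →ₗ[A] M'') (hf : Function.Injective f) (hg : Function.Surjective g)
    (hfg : LinearMap.range f = LinearMap.ker g)
    (d : ℕ) (hd : Module.supportDim A M ≤ d) (e' e'' : ℝ)
    (h' : Filter.Tendsto (fun t : ℕ => (d.factorial : ℝ) * ((Module.length A (M' ⧸ (I ^ t • (⊤ : Submodule A M')))).toNat : ℝ) / (t : ℝ) ^ d) Filter.atTop (nhds e'))
    (h'' : Filter.Tendsto (fun t : ℕ => (d.factorial : ℝ) * ((Module.length A (M'' ⧸ (I ^ t • (⊤ : Submodule A M'')))).toNat : ℝ) / (t : ℝ) ^ d) Filter.atTop (nhds e'')) :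
    Filter.Tendsto (fun t : ℕ => (d.factorial : ℝ) * ((Module.length A (M ⧸ (I ^ t • (⊤ : Submodule A M)))).toNat : ℝ) / (t : ℝ) ^ d) Filter.atTop (nhds (e' + e'')) := by
  have hfin : ∀ (N : Type u) [AddCommGroup N] [Module A N] [Module.Finite A N] (t : ℕ),
      chi I N t ≠ ⊤ := fun N _ _ _ t => chi_ne_top_of_isLocalRing I N hI.2 t
  have hgf : g ∘ₗ f = 0 := by
    ext m
    have : f m ∈ LinearMap.ker g := hfg ▸ LinearMap.mem_range_self f m
    simpa using this
  obtain ⟨c, hc⟩ := exists_add_le_chi I f g hf hg hgf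
  have hup := chi_le_add I f g hg hfg.ge
  refine tendsto_of_sandwich (fun t => (chi I M' t).toNat) (fun t => (chi I M t).toNat)
    (fun t => (chi I M'' t).toNat) d c (d.factorial : ℝ) e' e'' ?_ ?_ h' h'' (by positivity)
  · intro t ht
    have h1 := hc t ht
    rw [← ENat.toNat_add (hfin M' _) (hfin M'' _)]
    exact ENat.toNat_le_toNat h1 (hfin M t)
  · intro t
    have h1 := hup t
    rw [← ENat.toNat_add (hfin M' _) (hfin M'' _)]
    exact ENat.toNat_le_toNat h1 (by
      rw [Ne, ENat.add_eq_top, not_or]; exact ⟨hfin M' t, hfin M'' t⟩)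

end Groth.Agent.S12211
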