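import Groth.Statements.S7146
import Groth.Agent.Lib.Helper64.LengthPow

set_option autoImplicit false
universe u
open Filter
open CAlg

namespace Groth.Agent.S7146

/-- Let R be a Noetherian local ring of Krull dimension d and I the ideal generated by a system of
parameters g_1, ..., g_d (d elements of the maximal ideal generating an ideal with radical the
maximal ideal); let e_I be the multiplicity of I, i.e. d! times the top coefficient of the numerical
polynomial n ↦ length(R/I^(n+1)), equivalently the limit of d!·length(R/Iⁿ)/n^d. Then e_I ≤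
length(R/I). (Stated for a natural number e equal to that limit.) -/
theorem result (R : Type u) [CommRing R] [IsNoetherianRing R] [IsLocalRing R]
    (d : ℕ) (hd : ringKrullDim R = d) (g : Fin d → R) (hg : ∀ i, g i ∈ IsLocalRing.maximalIdeal R)
    (hsop : IsLocalRing.maximalIdeal R ≤ (Ideal.span (Set.range g)).radical) (e : ℕ)
    (he : Tendsto (fun n : ℕ => (d.factorial : ℝ) * ((Module.length R (R ⧸ Ideal.span (Set.range g) ^ n)).toNat : ℝ) / (n : ℝ) ^ d)
      atTop (nhds (e : ℝ))) :
    (e : ℕ∞) ≤ Module.length R (R ⧸ Ideal.span (Set.range g)) := by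
  set I : Ideal R := Ideal.span (Set.range g) with hI
  rcases eq_or_ne (Module.length R (R ⧸ I)) ⊤ with htop | hfin
  · rw [htop]; exact le_top
  obtain ⟨l, hl⟩ := ENat.ne_top_iff_exists.mp hfin
  rw [← hl]
  -- the length bound
  have hbound : ∀ n : ℕ, Module.length R (R ⧸ I ^ n) ≤ (l : ℕ∞) * ((n + d).choose d : ℕ∞) := by
    intro n
    have h1 := Groth.Agent.Lib.Helper64.LengthPow.length_quot_pow_le (R := R) d R g n
    have e1 : (R ⧸ (I ^ n • (⊤ : Submodule R R))) ≃ₗ[R] (R ⧸ I ^ n) :=
      Submodule.quotEquivOfEq _ _ (by simp)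
    have e2 : (R ⧸ (I • (⊤ : Submodule R R))) ≃ₗ[R] (R ⧸ I) :=
      Submodule.quotEquivOfEq _ _ (by simp)
    rw [← hI, e1.length_eq, e2.length_eq, ← hl] at h1
    exact h1
  have hnat : ∀ n : ℕ, (Module.length R (R ⧸ I ^ n)).toNat ≤ l * (n + d).choose d := by
    intro n
    have h := hbound n
    have h2 : (l : ℕ∞) * ((n + d).choose d : ℕ∞) = ((l * (n + d).choose d : ℕ) : ℕ∞) := by
      push_cast; rfl
    rw [h2] at h
    exact ENat.toNat_le_of_le_coe h
  -- the comparison sequence
  have hlim : Tendsto (fun n : ℕ => (l : ℝ) * (1 + (d : ℝ) / (n : ℝ)) ^ d) atTop (nhds (l : ℝ)) := by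
    have h0 : Tendsto (fun n : ℕ => (d : ℝ) / (n : ℝ)) atTop (nhds 0) :=
      tendsto_const_div_atTop_nhds_zero_nat (d : ℝ)
    have h1 : Tendsto (fun n : ℕ => (1 + (d : ℝ) / (n : ℝ)) ^ d) atTop (nhds ((1 + 0) ^ d)) :=
      (tendsto_const_nhds.add h0).pow d
    have h2 := h1.const_mul (l : ℝ)
    simpa using h2
  have hle : ∀ᶠ n : ℕ in atTop,
      (d.factorial : ℝ) * ((Module.length R (R ⧸ I ^ n)).toNat : ℝ) / (n : ℝ) ^ d ≤
        (l : ℝ) * (1 + (d : ℝ) / (n : ℝ)) ^ d := by
    filter_upwards [eventually_ge_atTop 1] with n hn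
    have hnpos : (0 : ℝ) < (n : ℝ) := by exact_mod_cast hn
    have hnd : (0 : ℝ) < (n : ℝ) ^ d := pow_pos hnpos d
    rw [div_le_iff₀ hnd]
    have e3 : (1 + (d : ℝ) / (n : ℝ)) ^ d * (n : ℝ) ^ d = ((n : ℝ) + d) ^ d := by
      rw [← mul_pow]
      congr 1
      field_simp
    rw [mul_assoc, e3]
    have h4 : d.factorial * (Module.length R (R ⧸ I ^ n)).toNat ≤ l * (n + d) ^ d := by
      calc d.factorial * (Module.length R (R ⧸ I ^ n)).toNat
          ≤ d.factorial * (l * (n + d).choose d) := Nat.mul_le_mul_left _ (hnat n)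
        _ = l * (d.factorial * (n + d).choose d) := by ring
        _ = l * (n + 1).ascFactorial d := by rw [Nat.ascFactorial_eq_factorial_mul_choose]
        _ ≤ l * (n + d) ^ d := Nat.mul_le_mul_left _ (Nat.ascFactorial_le_pow_add n d)
    exact_mod_cast h4
  have hfinal : (e : ℝ) ≤ (l : ℝ) := le_of_tendsto_of_tendsto he hlim hle
  exact_mod_cast hfinal

end Groth.Agent.S7146
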