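import Groth.Statements.S17335
import Mathlib.RingTheory.Artinian.Module
import Mathlib.LinearAlgebra.LinearIndependent.Lemmas
import Mathlib.LinearAlgebra.Basis.VectorSpace
import Mathlib.RingTheory.Noetherian.Basic
import Mathlib.Algebra.BigOperators.Pi
import Mathlib.RingTheory.Ideal.Quotient.Operations
import Mathlib.LinearAlgebra.FreeModule.Finite.Matrix
-- import your own Groth.Agent.* helpers here

set_option autoImplicit false
universe u v
open CAlg

namespace Groth.Agent.S17335

/-- for a prime ideal of a finite algebra over an algebraically closed field, a character with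
that kernel -/
lemma exists_algHom_of_prime (k : Type u) [Field k] [IsAlgClosed k]
    (A : Type v) [CommRing A] [Algebra k A] [Module.Finite k A] (P : Ideal A) [hP : P.IsPrime] :
    ∃ f : A →ₐ[k] k, ∀ a, f a = 0 ↔ a ∈ P := by
  have hart : IsArtinianRing A := IsArtinianRing.of_finite k A
  have hmax : P.IsMaximal := IsArtinianRing.isMaximal_of_isPrime P
  let _ : Field (A ⧸ P) := Ideal.Quotient.field P
  have hint : Algebra.IsIntegral k (A ⧸ P) := Algebra.IsIntegral.of_finite k (A ⧸ P)
  have hbij : Function.Bijective (algebraMap k (A ⧸ P)) :=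
    IsAlgClosed.algebraMap_bijective_of_isIntegral
  let e : k ≃ₐ[k] (A ⧸ P) := AlgEquiv.ofBijective (Algebra.ofId k (A ⧸ P)) hbij
  refine ⟨(e.symm : (A ⧸ P) →ₐ[k] k).comp (Ideal.Quotient.mkₐ k P), fun a => ?_⟩
  rw [AlgHom.comp_apply, Ideal.Quotient.mkₐ_eq_mk]
  change e.symm (Ideal.Quotient.mk P a) = 0 ↔ a ∈ P
  rw [EmbeddingLike.map_eq_zero_iff]
  exact Ideal.Quotient.eq_zero_iff_mem

/-- Let k be an algebraically closed field and A a commutative k-algebra which is finite-dimensional as
a k-vector space, and let E be the set of k-algebra homomorphisms A → k. Then E is finite, and the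
evaluation homomorphism A → O(E) = (E → k), a ↦ (f ↦ f(a)), is surjective with kernel the nilradical
of A; it therefore induces an isomorphism of A_red = A/nilradical(A) onto O(E). -/
theorem result (k : Type u) [Field k]
    [IsAlgClosed k] (A : Type v) [CommRing A] [Algebra k A] [Module.Finite k A] :
    Finite (A →ₐ[k] k) ∧
      Function.Surjective (AlgHom.pi (R := k) (fun f : A →ₐ[k] k => f)) ∧
      RingHom.ker (AlgHom.pi (R := k) (fun f : A →ₐ[k] k => f)) = nilradical A := by
  classical
  have hart : IsArtinianRing A := IsArtinianRing.of_finite k A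
  have hli : LinearIndependent k (AlgHom.toLinearMap : (A →ₐ[k] k) → A →ₗ[k] k) :=
    linearIndependent_algHom_toLinearMap k A k
  have hfin : Finite (A →ₐ[k] k) := hli.finite_of_isNoetherian
  refine ⟨hfin, ?_, ?_⟩
  · -- surjectivity from linear independence of characters
    have := Fintype.ofFinite (A →ₐ[k] k)
    let ev : A →ₗ[k] ((A →ₐ[k] k) → k) :=
      (AlgHom.pi (R := k) (fun f : A →ₐ[k] k => f)).toLinearMap
    suffices h : LinearMap.range ev = ⊤ by
      intro g
      have hg : g ∈ LinearMap.range ev := by rw [h]; trivial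
      obtain ⟨a, ha⟩ := hg
      exact ⟨a, ha⟩
    by_contra hne
    obtain ⟨l, hl0, hl⟩ := (LinearMap.range ev).exists_le_ker_of_lt_top (lt_top_iff_ne_top.2 hne)
    apply hl0
    have hc : ∀ f : A →ₐ[k] k, l (Pi.single f 1) = 0 := by
      apply Fintype.linearIndependent_iff.1 hli
      ext a
      have h1 : l (ev a) = 0 := hl ⟨a, rfl⟩
      have h2 : ev a = ∑ f : A →ₐ[k] k, f a • (Pi.single f (1 : k) : (A →ₐ[k] k) → k) := by
        ext f
        simp [ev, Finset.sum_apply, Pi.single_apply]
      rw [h2, map_sum] at h1
      simp only [map_smul, smul_eq_mul] at h1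
      simp only [LinearMap.coe_sum, Finset.sum_apply, LinearMap.smul_apply, AlgHom.toLinearMap_apply,
        smul_eq_mul, LinearMap.zero_apply]
      rw [← h1]
      apply Finset.sum_congr rfl
      intro f _
      ring
    apply LinearMap.ext
    intro g
    have hg : g = ∑ f : A →ₐ[k] k, g f • (Pi.single f (1 : k) : (A →ₐ[k] k) → k) := by
      ext f
      simp [Finset.sum_apply, Pi.single_apply]
    rw [hg, map_sum]
    simp [hc]
  · ext a
    rw [RingHom.mem_ker, mem_nilradical]
    constructor
    · intro ha
      have ha' : ∀ f : A →ₐ[k] k, f a = 0 := fun f => congrFun ha f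
      rw [← mem_nilradical, nilradical_eq_sInf, Ideal.mem_sInf]
      intro P hP
      have : P.IsPrime := hP
      obtain ⟨f, hf⟩ := exists_algHom_of_prime k A P
      exact (hf a).1 (ha' f)
    · intro ha
      funext f
      obtain ⟨n, hn⟩ := ha
      have : (f a) ^ n = 0 := by rw [← map_pow, hn, map_zero]
      exact eq_zero_of_pow_eq_zero this

end Groth.Agent.S17335
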