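import Groth.Statements.S7115
import Mathlib

set_option autoImplicit false
universe u
open CAlg

namespace Groth.Agent.S7115

open IsLocalRing Pointwise

/-- `dim R/(f) + 1 ≤ dim R` if `f` lies in no minimal prime. -/
theorem ringKrullDim_quotient_succ_le {R : Type*} [CommRing R] {f : R}
    (hmin : ∀ p ∈ minimalPrimes R, f ∉ p) :
    ringKrullDim (R ⧸ Ideal.span {f}) + 1 ≤ ringKrullDim R := by
  have h : Ideal.span {f} = f • (⊤ : Ideal R) := by
    simp [← Submodule.ideal_span_singleton_smul]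
  rw [ringKrullDim_eq_of_ringEquiv (Ideal.quotientEquivAlgOfEq R h).toRingEquiv,
    ← Module.supportDim_quotient_eq_ringKrullDim, ← Module.supportDim_self_eq_ringKrullDim]
  apply Module.supportDim_quotSMulTop_succ_le_of_notMem_minimalPrimes
  intro p hp
  apply hmin p
  rw [Module.annihilator_eq_bot.mpr inferInstance] at hp
  exact hp

/-- Let R be a Noetherian local ring of Krull dimension d > 1 with maximal ideal m, let f be an element
of m contained in no minimal prime, and let k be a natural number. Then there are elements g_1, ...,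
g_{d-1} of m lying in m^k such that f, g_1, ..., g_{d-1} form a system of parameters: these d
elements of m generate an ideal whose radical is m. -/
theorem result (R : Type u) [CommRing R] [IsNoetherianRing R] [IsLocalRing R]
    (d : ℕ) (hd : ringKrullDim R = d) (h1 : 1 < d) (f : R) (hf : f ∈ IsLocalRing.maximalIdeal R)
    (hmin : ∀ p ∈ minimalPrimes R, f ∉ p) (k : ℕ) :
    ∃ g : Fin (d - 1) → R, (∀ i, g i ∈ IsLocalRing.maximalIdeal R ^ k) ∧ (∀ i, g i ∈ IsLocalRing.maximalIdeal R) ∧
      IsLocalRing.maximalIdeal R ≤ (Ideal.span (insert f (Set.range g))).radical := by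
  classical
  have hK0 : Ideal.span {f} ≠ (⊤ : Ideal R) := by
    intro h
    rw [Ideal.span_singleton_eq_top] at h
    exact hf h
  have hnt : Nontrivial (R ⧸ Ideal.span {f}) := Ideal.Quotient.nontrivial_iff.mpr hK0
  have hloc : IsLocalRing (R ⧸ Ideal.span {f}) :=
    IsLocalRing.of_surjective' (Ideal.Quotient.mk (Ideal.span {f})) Ideal.Quotient.mk_surjective
  have hsurj : Function.Surjective (Ideal.Quotient.mk (Ideal.span {f})) :=
    Ideal.Quotient.mk_surjective
  have hdim : ringKrullDim (R ⧸ Ideal.span {f}) + 1 ≤ d := hd ▸ ringKrullDim_quotient_succ_le hmin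
  obtain ⟨s, hsmin, hscard⟩ := Ideal.exists_finset_card_eq_height_of_isNoetherianRing
    (maximalIdeal (R ⧸ Ideal.span {f}))
  have hcard : s.card + 1 ≤ d := by
    rw [← IsLocalRing.maximalIdeal_height_eq_ringKrullDim, ← hscard] at hdim
    exact_mod_cast hdim
  -- lifts
  let ℓ : R ⧸ Ideal.span {f} → R := Function.surjInv hsurj
  have hℓ : ∀ x, Ideal.Quotient.mk (Ideal.span {f}) (ℓ x) = x := Function.surjInv_eq hsurj
  have hℓm : ∀ x ∈ s, ℓ x ∈ maximalIdeal R := by
    intro x hx
    have hxm : x ∈ maximalIdeal (R ⧸ Ideal.span {f}) := hsmin.1.2 (Ideal.subset_span hx)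
    rw [IsLocalRing.mem_maximalIdeal, mem_nonunits_iff] at hxm ⊢
    intro hu
    exact hxm (hℓ x ▸ hu.map _)
  let g : Fin (d - 1) → R := fun i =>
    if h : i.1 < s.card then (ℓ (s.equivFin.symm ⟨i.1, h⟩).1) ^ (k + 1) else 0
  have hgpow : ∀ i, g i ∈ maximalIdeal R ^ (k + 1) := by
    intro i
    simp only [g]
    split_ifs with h
    · exact Ideal.pow_mem_pow (hℓm _ (s.equivFin.symm ⟨i.1, h⟩).2) _
    · exact Ideal.zero_mem _
  refine ⟨g, fun i => Ideal.pow_le_pow_right (Nat.le_succ k) (hgpow i),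
    fun i => Ideal.pow_le_self (Nat.succ_ne_zero k) (hgpow i), ?_⟩
  set K : Ideal R := Ideal.span (insert f (Set.range g)) with hK
  have hfK : f ∈ K := Ideal.subset_span (Set.mem_insert _ _)
  have hgK : ∀ i, g i ∈ K := fun i => Ideal.subset_span (Set.mem_insert_of_mem _ ⟨i, rfl⟩)
  -- radical of `span s` is the maximal ideal of the quotient
  have hrad : maximalIdeal (R ⧸ Ideal.span {f}) ≤ (Ideal.span (s : Set (R ⧸ Ideal.span {f}))).radical := by
    rw [Ideal.radical_eq_sInf]
    refine le_sInf (fun P hP => ?_)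
    have hPm : P ≤ maximalIdeal (R ⧸ Ideal.span {f}) := IsLocalRing.le_maximalIdeal hP.2.ne_top
    exact hsmin.2 ⟨hP.2, hP.1⟩ hPm
  -- each element of `s` is in the radical of the image of `K`
  have hsK : Ideal.span (s : Set (R ⧸ Ideal.span {f})) ≤
      (K.map (Ideal.Quotient.mk (Ideal.span {f}))).radical := by
    rw [Ideal.span_le]
    intro x hx
    refine ⟨k + 1, ?_⟩
    have hlt : (s.equivFin ⟨x, hx⟩).1 < d - 1 := by
      have := (s.equivFin ⟨x, hx⟩).2
      omega
    have h1 : g ⟨(s.equivFin ⟨x, hx⟩).1, hlt⟩ = (ℓ x) ^ (k + 1) := by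
      simp only [g]
      rw [dif_pos (s.equivFin ⟨x, hx⟩).2]
      simp
    have h2 := Ideal.mem_map_of_mem (Ideal.Quotient.mk (Ideal.span {f})) (hgK ⟨_, hlt⟩)
    rw [h1, map_pow, hℓ] at h2
    exact h2
  intro x hx
  have hlh : IsLocalHom (Ideal.Quotient.mk (Ideal.span {f})) := by
    apply isLocalHom_of_le_jacobson_bot
    rw [IsLocalRing.jacobson_eq_maximalIdeal ⊥ bot_ne_top, Ideal.span_singleton_le_iff_mem]
    exact hf
  have hxm : Ideal.Quotient.mk (Ideal.span {f}) x ∈ maximalIdeal (R ⧸ Ideal.span {f}) := by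
    rw [IsLocalRing.mem_maximalIdeal, mem_nonunits_iff] at hx ⊢
    intro hu
    apply hx
    exact (isUnit_map_iff (Ideal.Quotient.mk (Ideal.span {f})) x).mp hu
  have h3 : Ideal.Quotient.mk (Ideal.span {f}) x ∈
      (K.map (Ideal.Quotient.mk (Ideal.span {f}))).radical :=
    Ideal.radical_le_radical_iff.mpr hsK (hrad hxm)
  obtain ⟨N, hN⟩ := h3
  refine ⟨N, ?_⟩
  rw [← map_pow] at hN
  have h4 : x ^ N ∈ (K.map (Ideal.Quotient.mk (Ideal.span {f}))).comap
      (Ideal.Quotient.mk (Ideal.span {f})) := hN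
  rw [Ideal.comap_map_of_surjective _ hsurj, ← RingHom.ker_eq_comap_bot, Ideal.mk_ker,
    sup_eq_left.mpr (by rw [Ideal.span_singleton_le_iff_mem]; exact hfK)] at h4
  exact h4

end Groth.Agent.S7115
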