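import Groth.Statements.S0546
import Mathlib

set_option autoImplicit false
universe u
open CAlg

namespace Groth.Agent.S0546


section aux

variable {A : Type u} [CommRing A] {M : Type u} [AddCommGroup M] [Module A M]

/-- Elements of `(span (range f)) • N` are combinations `∑ f i • z i` with `z i ∈ N`. -/
theorem exists_sum_smul_of_mem_span_smul {r : ℕ} (f : Fin r → A) (N : Submodule A M) {x : M}
    (hx : x ∈ Ideal.span (Set.range f) • N) :
    ∃ z : Fin r → M, (∀ i, z i ∈ N) ∧ x = ∑ i, f i • z i := by
  refine Submodule.smul_induction_on hx ?_ ?_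
  · intro a ha n hn
    obtain ⟨c, rfl⟩ := (Ideal.mem_span_range_iff_exists_fun).mp ha
    refine ⟨fun i => c i • n, fun i => N.smul_mem _ hn, ?_⟩
    rw [Finset.sum_smul]
    refine Finset.sum_congr rfl fun i _ => ?_
    rw [smul_smul, mul_comm]
  · rintro _ _ ⟨z, hz, rfl⟩ ⟨w, hw, rfl⟩
    refine ⟨fun i => z i + w i, fun i => N.add_mem (hz i) (hw i), ?_⟩
    simp [smul_add, Finset.sum_add_distrib]

/-- partial sums of a series with `k`-th term in `J ^ k • ⊤` are `J`-adically Cauchy -/
theorem partialSums_cauchy (J : Ideal A) (a : ℕ → M) (ha : ∀ k, a k ∈ (J ^ k • ⊤ : Submodule A M))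
    {m n : ℕ} (hmn : m ≤ n) :
    (∑ k ∈ Finset.range m, a k) ≡ (∑ k ∈ Finset.range n, a k) [SMOD (J ^ m • ⊤ : Submodule A M)] := by
  rw [SModEq.comm, SModEq.sub_mem, ← Finset.sum_Ico_eq_sub _ hmn]
  refine Submodule.sum_mem _ fun k hk => ?_
  have hk' : m ≤ k := (Finset.mem_Ico.mp hk).1
  exact Submodule.smul_mono (Ideal.pow_le_pow_right hk') le_rfl (ha k)

theorem key (I J : Ideal A) (hIJ : I ≤ J) {r : ℕ} (f : Fin r → A)
    (hf : Ideal.span (Set.range f) = I) [IsAdicComplete J M] (n : ℕ) :
    ∀ (a : ℕ → M) (x : M), (∀ k, a k ∈ (I ^ (n + k) • ⊤ : Submodule A M)) →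
      (∀ N, (∑ k ∈ Finset.range N, a k) ≡ x [SMOD (J ^ N • ⊤ : Submodule A M)]) →
      x ∈ (I ^ n • ⊤ : Submodule A M) := by
  induction n with
  | zero =>
    intro a x _ _
    simp
  | succ n ih =>
    intro a x ha hx
    have hsplit : ∀ k, ∃ z : Fin r → M, (∀ i, z i ∈ (I ^ (n + k) • ⊤ : Submodule A M)) ∧
        a k = ∑ i, f i • z i := by
      intro k
      have h1 : a k ∈ Ideal.span (Set.range f) • (I ^ (n + k) • ⊤ : Submodule A M) := by
        rw [hf, ← mul_smul, ← pow_succ']
        have := ha k
        rwa [show n + 1 + k = n + k + 1 by ring] at this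
      exact exists_sum_smul_of_mem_span_smul f _ h1
    choose z hz haz using hsplit
    have hzJ : ∀ i k, z k i ∈ (J ^ k • ⊤ : Submodule A M) := fun i k =>
      Submodule.smul_mono ((Ideal.pow_le_pow_right (Nat.le_add_left k n)).trans
        (Ideal.pow_right_mono hIJ k)) le_rfl (hz k i)
    have hlim : ∀ i, ∃ y : M, ∀ N,
        (∑ k ∈ Finset.range N, z k i) ≡ y [SMOD (J ^ N • ⊤ : Submodule A M)] := fun i =>
      IsPrecomplete.prec inferInstance
        (fun {m n} hmn => partialSums_cauchy J (fun k => z k i) (hzJ i) hmn)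
    choose y hy using hlim
    have hyI : ∀ i, y i ∈ (I ^ n • ⊤ : Submodule A M) := fun i =>
      ih (fun k => z k i) (y i) (fun k => hz k i) (hy i)
    have hx' : x = ∑ i, f i • y i := by
      rw [IsHausdorff.eq_iff_smodEq (I := J)]
      intro N
      refine (hx N).symm.trans ?_
      have h2 : (∑ k ∈ Finset.range N, a k) = ∑ i, f i • ∑ k ∈ Finset.range N, z k i := by
        simp_rw [haz, Finset.smul_sum]
        rw [Finset.sum_comm]
      rw [h2]
      refine SModEq.sum fun i _ => ?_
      exact (hy i N).smul (f i)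
    rw [hx', pow_succ', mul_smul]
    refine Submodule.sum_mem _ fun i _ => ?_
    refine Submodule.smul_mem_smul ?_ (hyI i)
    rw [← hf]
    exact Ideal.subset_span ⟨i, rfl⟩

end aux

/-- If `I ≤ J` are ideals with `I` finitely generated and `M` is `J`-adically complete, then `M` is
`I`-adically complete. -/
theorem result (A : Type u) [CommRing A] (I J : Ideal A) (hIJ : I ≤ J)
    (hI : I.FG) (M : Type u) [AddCommGroup M] [Module A M] [IsAdicComplete J M] :
    IsAdicComplete I M := by
  obtain ⟨r, f, hf⟩ := Submodule.fg_iff_exists_fin_generating_family.1 hI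
  have hf' : Ideal.span (Set.range f) = I := hf
  have hpow : ∀ n, (I ^ n • ⊤ : Submodule A M) ≤ J ^ n • ⊤ := fun n =>
    Submodule.smul_mono (Ideal.pow_right_mono hIJ n) le_rfl
  refine { haus' := fun x hx => ?_, prec' := fun g hg => ?_ }
  · refine IsHausdorff.haus (I := J) inferInstance x fun n => ?_
    exact (hx n).mono (hpow n)
  · -- `g` is `J`-Cauchy, take its `J`-limit
    obtain ⟨L, hL⟩ := IsPrecomplete.prec (I := J) (M := M) inferInstance
      (f := g) (fun {m n} hmn => (hg hmn).mono (hpow m))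
    refine ⟨L, fun n => ?_⟩
    rw [SModEq.comm, SModEq.sub_mem]
    -- `L - g n` is the limit of the series `∑ (g (n+k+1) - g (n+k))`
    refine key I J hIJ f hf' n (fun k => g (n + k + 1) - g (n + k)) (L - g n) (fun k => ?_)
      (fun N => ?_)
    · rw [← SModEq.sub_mem, SModEq.comm]
      exact hg (Nat.le_succ _)
    · have hsum : (∑ k ∈ Finset.range N, (g (n + k + 1) - g (n + k))) = g (n + N) - g n := by
        induction N with
        | zero => simp
        | succ N ihN =>
          rw [Finset.sum_range_succ, ihN]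
          rw [show n + (N + 1) = n + N + 1 by ring]
          abel
      rw [hsum]
      refine SModEq.sub ?_ SModEq.rfl
      exact (hL (n + N)).mono
        (Submodule.smul_mono (Ideal.pow_le_pow_right (Nat.le_add_left N n)) le_rfl)

end Groth.Agent.S0546
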