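import Groth.Statements.S11184
import Groth.Agent.S5156
import Groth.Agent.Lib.Helper32.Matlis

set_option autoImplicit false
universe u
open Matlis

namespace Groth.Agent.S11184

open CategoryTheory IsLocalRing Groth.Agent.Lib.Helper2 Groth.Agent.Lib.Helper32 Groth.Agent.S5156

section tors

variable {B : Type u} [CommRing B] (H : Type u) [AddCommGroup H] [Module B H]

/-- elements killed by something outside the prime `n` -/
def awayTors (n : Ideal B) [hn : n.IsPrime] : Submodule B H where
  carrier := {h | ∃ b : B, b ∉ n ∧ b • h = 0}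
  zero_mem' := ⟨1, (Ideal.ne_top_iff_one n).mp hn.ne_top, smul_zero 1⟩
  add_mem' := by
    rintro x y ⟨b, hb, hbx⟩ ⟨c, hc, hcy⟩
    refine ⟨b * c, fun hbc => (hn.mem_or_mem hbc).elim hb hc, ?_⟩
    have h1 : (b * c) • x = 0 := by rw [mul_comm, mul_smul, hbx, smul_zero]
    have h2 : (b * c) • y = 0 := by rw [mul_smul, hcy, smul_zero]
    rw [smul_add, h1, h2, add_zero]
  smul_mem' := by
    rintro c x ⟨b, hb, hbx⟩
    exact ⟨b, hb, by rw [smul_comm, hbx, smul_zero]⟩

theorem exists_smul_mem_socle {R : Type u} [CommRing R] (I : Ideal R) {M : Type u}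
    [AddCommGroup M] [Module R M] (hM : LocCoh.IsPowerTorsion I M) (t : M) (ht0 : t ≠ 0) :
    ∃ b : R, b • t ≠ 0 ∧ ∀ a ∈ I, a • b • t = 0 := by
  classical
  have hex : ∃ n : ℕ, ∀ a ∈ I ^ n, a • t = 0 := hM t
  have hmin : ∀ {m : ℕ}, m < Nat.find hex → ¬ (∀ a ∈ I ^ m, a • t = 0) :=
    fun {m} hm => Nat.find_min hex hm
  have hspec := Nat.find_spec hex
  set n := Nat.find hex with hn
  have hn0 : n ≠ 0 := by
    intro h0
    rw [h0, pow_zero, Ideal.one_eq_top] at hspec
    apply ht0
    simpa using hspec 1 Submodule.mem_top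
  obtain ⟨n', hn'⟩ := Nat.exists_eq_succ_of_ne_zero hn0
  have hlt : n' < n := by omega
  have := hmin hlt
  push Not at this
  obtain ⟨b, hb, hbt⟩ := this
  refine ⟨b, hbt, fun a ha => ?_⟩
  rw [← mul_smul]
  apply hspec
  rw [hn', pow_succ']
  exact Ideal.mul_mem_mul ha hb

theorem powTors_le_awayTors (n j : MaximalSpectrum B) (hj : j ≠ n) :
    powTors j.asIdeal H ≤ awayTors H n.asIdeal := by
  intro h hh
  obtain ⟨k, hk⟩ := (mem_powTors_iff _ h).mp hh
  have hnot : ¬ (j.asIdeal ^ k ≤ n.asIdeal) := by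
    intro hle
    have h1 : j.asIdeal ≤ n.asIdeal := Ideal.IsPrime.le_of_pow_le hle
    have h2 : j.asIdeal = n.asIdeal := j.isMaximal.eq_of_le n.isMaximal.ne_top h1
    exact hj (MaximalSpectrum.ext h2)
  obtain ⟨b, hbj, hbn⟩ := SetLike.not_le_iff_exists.mp hnot
  exact ⟨b, hbn, hk b hbj⟩

theorem disjoint_powTors_awayTors (n : MaximalSpectrum B) :
    Disjoint (powTors n.asIdeal H) (awayTors H n.asIdeal) := by
  rw [Submodule.disjoint_def]
  intro h h1 h2
  obtain ⟨k, hk⟩ := (mem_powTors_iff _ h).mp h1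
  obtain ⟨b, hbn, hb⟩ := h2
  by_contra h0
  have key : ∀ a : B, a ∈ LinearMap.ker (LinearMap.toSpanSingleton B H h) ↔ a • h = 0 :=
    fun a => by rw [LinearMap.mem_ker, LinearMap.toSpanSingleton_apply]
  have hI : LinearMap.ker (LinearMap.toSpanSingleton B H h) ≠ ⊤ := by
    intro htop
    have h1 : (1 : B) ∈ LinearMap.ker (LinearMap.toSpanSingleton B H h) := htop ▸ Submodule.mem_top
    rw [key, one_smul] at h1
    exact h0 h1
  obtain ⟨M, hM, hIM⟩ := Ideal.exists_le_maximal _ hI
  have h1 : n.asIdeal ^ k ≤ M := fun a ha => hIM ((key a).mpr (hk a ha))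
  haveI := hM.isPrime
  have h2 : n.asIdeal ≤ M := Ideal.IsPrime.le_of_pow_le h1
  have h3 : n.asIdeal = M := n.isMaximal.eq_of_le hM.ne_top h2
  apply hbn
  rw [h3]
  exact hIM ((key b).mpr hb)

theorem iSupIndep_powTors : iSupIndep (fun n : MaximalSpectrum B => powTors n.asIdeal H) := by
  intro n
  refine (disjoint_powTors_awayTors H n).mono_right ?_
  exact iSup₂_le (fun j hj => powTors_le_awayTors H n j hj)

end tors

section atMax

variable (A : Type u) [CommRing A] [IsLocalRing A] [IsNoetherianRing A] (B : Type u) [CommRing B]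
  [Algebra A B] [Module.Finite A B] (n : Ideal B) [n.IsMaximal]

theorem comap_eq : n.comap (algebraMap A B) = maximalIdeal A := by
  haveI : Algebra.IsIntegral A B := Algebra.IsIntegral.of_finite A B
  haveI := Ideal.isMaximal_comap_of_isIntegral_of_isMaximal (R := A) n
  exact IsLocalRing.eq_maximalIdeal this

theorem map_le' : (maximalIdeal A).map (algebraMap A B) ≤ n := by
  rw [Ideal.map_le_iff_le_comap, comap_eq]

theorem smul_quot_eq_zero (a : A) (ha : a ∈ maximalIdeal A) (x : B ⧸ n) : a • x = 0 := by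
  obtain ⟨b, rfl⟩ := Ideal.Quotient.mk_surjective x
  have h1 : algebraMap A B a ∈ n := map_le' A B n (Ideal.mem_map_of_mem _ ha)
  rw [Algebra.smul_def, IsScalarTower.algebraMap_apply A B (B ⧸ n), Ideal.Quotient.algebraMap_eq,
    ← map_mul]
  exact Ideal.Quotient.eq_zero_iff_mem.mpr (Ideal.mul_mem_right _ _ h1)

/-- the quotient map as an `A`-linear map -/
noncomputable def resLin' : B →ₗ[A] (B ⧸ n) :=
  (IsScalarTower.toAlgHom A B (B ⧸ n)).toLinearMap

theorem resLin'_apply (x : B) : resLin' A B n x = Ideal.Quotient.mk n x := rfl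

theorem isFiniteLength_quot : IsFiniteLength A (B ⧸ n) := by
  haveI : Module.Finite A (B ⧸ n) :=
    Module.Finite.of_surjective (resLin' A B n) Ideal.Quotient.mk_surjective
  exact isFiniteLength_of_kill (B ⧸ n) (smul_quot_eq_zero A B n)

variable {E : Type u} [AddCommGroup E] [Module A E] (f : ResidueField A →ₗ[A] E)
  (hf : InjHull.IsInjectiveHull f)

/-- the form `x ↦ l (c * mk x)` -/
noncomputable def gform' (l : (B ⧸ n) →ₗ[A] E) (c : B ⧸ n) : B →ₗ[A] E :=
  l ∘ₗ LinearMap.mulLeft A c ∘ₗ resLin' A B n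

theorem gform'_apply (l : (B ⧸ n) →ₗ[A] E) (c : B ⧸ n) (x : B) :
    gform' A B n l c x = l (c * Ideal.Quotient.mk n x) := rfl

noncomputable def g0' (l : (B ⧸ n) →ₗ[A] E) : (B ⧸ n) →ₗ[B] HH A B E where
  toFun c := mkH A B E (gform' A B n l c)
  map_add' c c' := by
    apply rdH_injective A B E
    rw [rdH_add, rdH_mkH, rdH_mkH, rdH_mkH]
    ext x
    simp only [gform'_apply, LinearMap.add_apply, add_mul, map_add]
  map_smul' b c := by
    apply rdH_injective A B E
    ext x
    rw [RingHom.id_apply, rdH_smul, rdH_mkH, rdH_mkH, gform'_apply, gform'_apply]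
    congr 1
    rw [Algebra.smul_def, map_mul]
    have : algebraMap B (B ⧸ n) b = Ideal.Quotient.mk n b := rfl
    rw [this]
    ring

theorem rdH_g0' (l : (B ⧸ n) →ₗ[A] E) (c : B ⧸ n) (x : B) :
    rdH A B E (g0' A B n l c) x = l (c * Ideal.Quotient.mk n x) := by
  show rdH A B E (mkH A B E (gform' A B n l c)) x = _
  rw [rdH_mkH, gform'_apply]

theorem g0'_injective (l : (B ⧸ n) →ₗ[A] E) (hl : l 1 ≠ 0) :
    Function.Injective (g0' A B n l) := by
  rw [injective_iff_map_eq_zero]
  intro c hc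
  by_contra hc0
  obtain ⟨d, hd⟩ := Ideal.Quotient.exists_inv hc0
  obtain ⟨x, hx⟩ := Ideal.Quotient.mk_surjective d
  have h1 := rdH_g0' A B n l c x
  rw [hc, rdH_zero, hx, hd] at h1
  exact hl h1.symm

include hf in
theorem g0'_soc (l : (B ⧸ n) →ₗ[A] E) (hl : l 1 ≠ 0) (h : HH A B E)
    (hh : ∀ b ∈ n, b • h = 0) : h ∈ LinearMap.range (g0' A B n l) := by
  set g := rdH A B E h with hg
  have hgm : ∀ b ∈ n, g b = 0 := by
    intro b hb
    have := rdH_smul A B E b h 1
    rw [hh b hb, rdH_zero, one_mul] at this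
    exact this.symm
  have hker : LinearMap.ker (resLin' A B n) ≤ LinearMap.ker g := by
    intro b hb
    rw [LinearMap.mem_ker, resLin'_apply, Ideal.Quotient.eq_zero_iff_mem] at hb
    exact hgm b hb
  let e := LinearMap.quotKerEquivOfSurjective (resLin' A B n) Ideal.Quotient.mk_surjective
  let gbar : (B ⧸ n) →ₗ[A] E :=
    (LinearMap.ker (resLin' A B n)).liftQ g hker ∘ₗ e.symm.toLinearMap
  have hgbar : ∀ x : B, gbar (Ideal.Quotient.mk n x) = g x := by
    intro x
    have : e.symm (Ideal.Quotient.mk n x) = Submodule.Quotient.mk x := by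
      rw [LinearEquiv.symm_apply_eq]
      rfl
    show (LinearMap.ker (resLin' A B n)).liftQ g hker (e.symm (Ideal.Quotient.mk n x)) = g x
    rw [this]
    rfl
  let Φ : (B ⧸ n) →ₗ[A] ((B ⧸ n) →ₗ[A] E) :=
    { toFun := fun c => l ∘ₗ LinearMap.mulLeft A c
      map_add' := fun c c' => by
        ext y
        simp [add_mul]
      map_smul' := fun r c => by
        ext y
        simp }
  have hΦinj : Function.Injective Φ := by
    rw [injective_iff_map_eq_zero]
    intro c hc
    by_contra hc0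
    obtain ⟨d, hd⟩ := Ideal.Quotient.exists_inv hc0
    have h1 : Φ c d = l (c * d) := rfl
    rw [hc, hd] at h1
    exact hl h1.symm
  have hfl := isFiniteLength_quot A B n
  have hlen := Groth.Agent.S5170.result A E f hf (B ⧸ n) hfl
  have hΦsurj : Function.Surjective Φ :=
    surjective_of_injective_of_length_eq Φ hΦinj hlen (Module.length_ne_top_iff.mpr hfl)
  obtain ⟨c, hc⟩ := hΦsurj gbar
  refine ⟨c, ?_⟩
  apply rdH_injective A B E
  ext x
  rw [rdH_g0', ← hg, ← hgbar x, ← hc]
  rfl

include hf in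
theorem hull_at [IsNoetherianRing B] :
    ∃ g : (B ⧸ n) →ₗ[B] ↥(powTors n (HH A B E)), InjHull.IsInjectiveHull g := by
  haveI : Nontrivial (B ⧸ n) := Ideal.Quotient.nontrivial_iff.mpr (Ideal.IsMaximal.ne_top inferInstance)
  obtain ⟨l, hl⟩ := exists_linearMap_apply_ne_zero f hf (1 : B ⧸ n) one_ne_zero
  have hmem : ∀ c, g0' A B n l c ∈ powTors n (HH A B E) := by
    intro c
    rw [mem_powTors_iff]
    refine ⟨1, fun a ha => ?_⟩
    rw [pow_one] at ha
    rw [← map_smul]
    have : a • c = 0 := by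
      rw [Algebra.smul_def, Ideal.Quotient.algebraMap_eq, Ideal.Quotient.eq_zero_iff_mem.mpr ha,
        zero_mul]
    rw [this, map_zero]
  refine ⟨LinearMap.codRestrict _ (g0' A B n l) hmem, isInjectiveHull_mk ?_ ?_
    (injective_powTors n (HH A B E) (coext_injective A B E hf.isInjective))⟩
  · intro c c' hcc
    exact g0'_injective A B n l hl (congrArg Subtype.val hcc)
  · intro h hh0
    obtain ⟨r, hr0, hr⟩ := exists_smul_mem_socle n
      (isPowerTorsion_powTors n (HH A B E)) h hh0
    refine ⟨r, hr0, ?_⟩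
    have hsoc : ∀ s ∈ n, s • ((r • h : ↥(powTors n (HH A B E))) : HH A B E) = 0 := by
      intro s hs
      exact congrArg Subtype.val (hr s hs)
    obtain ⟨c, hc⟩ := g0'_soc A B n f hf l hl _ hsoc
    exact ⟨c, Subtype.ext hc⟩

end atMax

section semilocal

variable (A : Type u) [CommRing A] [IsLocalRing A] [IsNoetherianRing A] (B : Type u) [CommRing B]
  [Algebra A B] [Module.Finite A B]

theorem isArtinianRing_fibre : IsArtinianRing (B ⧸ (maximalIdeal A).map (algebraMap A B)) := by
  letI := Groth.Agent.Lib.Helper15.FlatQuot.quotAlgebra (S := B) (maximalIdeal A)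
  haveI := Groth.Agent.Lib.Helper15.FlatQuot.isScalarTower_quot (S := B) (maximalIdeal A)
  haveI : IsArtinianRing (A ⧸ maximalIdeal A) := by
    letI := Ideal.Quotient.field (maximalIdeal A)
    infer_instance
  haveI : Module.Finite (A ⧸ maximalIdeal A) (B ⧸ (maximalIdeal A).map (algebraMap A B)) :=
    Module.Finite.of_restrictScalars_finite A _ _
  exact IsArtinianRing.of_finite (A ⧸ maximalIdeal A) (B ⧸ (maximalIdeal A).map (algebraMap A B))

theorem finite_maximalSpectrum (A : Type u) [CommRing A] [IsLocalRing A] [IsNoetherianRing A]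
    (B : Type u) [CommRing B] [Algebra A B] [Module.Finite A B] : Finite (MaximalSpectrum B) := by
  haveI := isArtinianRing_fibre A B
  set 𝔪 := (maximalIdeal A).map (algebraMap A B) with h𝔪
  have hker : ∀ n : MaximalSpectrum B, RingHom.ker (Ideal.Quotient.mk 𝔪) ≤ n.asIdeal := by
    intro n
    rw [Ideal.mk_ker]
    exact map_le' A B n.asIdeal
  refine Finite.of_injective (β := PrimeSpectrum (B ⧸ 𝔪))
    (fun n => ⟨n.asIdeal.map (Ideal.Quotient.mk 𝔪), by
      haveI := n.isMaximal.isPrime
      exact Ideal.map_isPrime_of_surjective Ideal.Quotient.mk_surjective (hker n)⟩) ?_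
  intro n n' h
  have h1 : n.asIdeal.map (Ideal.Quotient.mk 𝔪) = n'.asIdeal.map (Ideal.Quotient.mk 𝔪) :=
    congrArg PrimeSpectrum.asIdeal h
  have h2 := congrArg (Ideal.comap (Ideal.Quotient.mk 𝔪)) h1
  rw [Ideal.comap_map_of_surjective _ Ideal.Quotient.mk_surjective,
    Ideal.comap_map_of_surjective _ Ideal.Quotient.mk_surjective,
    ← RingHom.ker_eq_comap_bot, sup_eq_left.mpr (hker n), sup_eq_left.mpr (hker n')] at h2
  exact MaximalSpectrum.ext h2

/-- a power of the product of all maximal ideals lies in `m_A B` -/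
theorem exists_prod_pow_le [Fintype (MaximalSpectrum B)] :
    ∃ K : ℕ, (∏ n : MaximalSpectrum B, n.asIdeal) ^ K ≤ (maximalIdeal A).map (algebraMap A B) := by
  haveI := isArtinianRing_fibre A B
  set 𝔪 := (maximalIdeal A).map (algebraMap A B) with h𝔪
  obtain ⟨K, hK⟩ := IsArtinianRing.isNilpotent_jacobson_bot (R := B ⧸ 𝔪)
  refine ⟨K, ?_⟩
  have h1 : (∏ n : MaximalSpectrum B, n.asIdeal).map (Ideal.Quotient.mk 𝔪) ≤
      Ideal.jacobson (⊥ : Ideal (B ⧸ 𝔪)) := by
    refine le_sInf ?_
    rintro M ⟨-, hM⟩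
    rw [Ideal.map_le_iff_le_comap]
    haveI := hM
    haveI : (Ideal.comap (Ideal.Quotient.mk 𝔪) M).IsMaximal :=
      Ideal.comap_isMaximal_of_surjective _ Ideal.Quotient.mk_surjective
    let n₀ : MaximalSpectrum B := ⟨Ideal.comap (Ideal.Quotient.mk 𝔪) M, this⟩
    have h2 : (∏ n : MaximalSpectrum B, n.asIdeal) ≤ n₀.asIdeal :=
      Ideal.prod_le_inf.trans (Finset.inf_le (Finset.mem_univ n₀))
    exact h2
  have h2 : ((∏ n : MaximalSpectrum B, n.asIdeal) ^ K).map (Ideal.Quotient.mk 𝔪) = ⊥ := by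
    rw [Ideal.map_pow, ← le_bot_iff, ← Ideal.zero_eq_bot, ← hK]
    exact Ideal.pow_right_mono h1 K
  rw [← Ideal.mk_ker (I := 𝔪)]
  exact (Ideal.map_eq_bot_iff_le_ker _).mp h2

variable {E : Type u} [AddCommGroup E] [Module A E] (f : ResidueField A →ₗ[A] E)
  (hf : InjHull.IsInjectiveHull f)

include hf in
theorem exists_pow_kill (h : HH A B E) :
    ∃ N : ℕ, ∀ c ∈ ((maximalIdeal A).map (algebraMap A B)) ^ N, c • h = 0 := by
  have hE := isPowerTorsion_of_isInjectiveHull f hf
  obtain ⟨r₀, s, hs⟩ := Module.Finite.exists_fin (R := A) (M := B)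
  choose n hn using fun i => hE (rdH A B E h (s i))
  have hkillA : ∀ a ∈ maximalIdeal A ^ (Finset.univ.sup n), ∀ x : B,
      a • rdH A B E h x = 0 := by
    intro a ha x
    have hx : x ∈ Submodule.span A (Set.range s) := by rw [hs]; trivial
    refine Submodule.span_induction (p := fun x _ => a • rdH A B E h x = 0) ?_ ?_ ?_ ?_ hx
    · rintro _ ⟨i, rfl⟩
      exact hn i a (Ideal.pow_le_pow_right (Finset.le_sup (Finset.mem_univ i)) ha)
    · rw [map_zero, smul_zero]
    · intro x y _ _ hx hy; rw [map_add, smul_add, hx, hy, add_zero]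
    · intro c x _ hx; rw [map_smul, smul_comm, hx, smul_zero]
  refine ⟨Finset.univ.sup n, fun c hc => ?_⟩
  rw [← Ideal.map_pow] at hc
  refine Submodule.span_induction (p := fun c _ => c • h = 0) ?_ ?_ ?_ ?_ hc
  · rintro _ ⟨a, ha, rfl⟩
    apply rdH_injective A B E
    refine LinearMap.ext fun x => ?_
    have h1 : rdH A B E (algebraMap A B a • h) x = a • rdH A B E h x := by
      rw [rdH_smul, mul_comm, ← Algebra.smul_def, map_smul]
    rw [h1, hkillA a ha x, rdH_zero, LinearMap.zero_apply]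
  · exact zero_smul _ _
  · intro c d _ _ hc hd; rw [add_smul, hc, hd, add_zero]
  · intro b c _ hc; rw [smul_eq_mul, mul_smul, hc, smul_zero]

include hf in
theorem iSup_powTors_eq_top :
    ⨆ n : MaximalSpectrum B, powTors n.asIdeal (HH A B E) = ⊤ := by
  haveI := finite_maximalSpectrum A B
  haveI := Fintype.ofFinite (MaximalSpectrum B)
  rw [eq_top_iff]
  intro h _
  obtain ⟨N, hN⟩ := exists_pow_kill A B f hf h
  obtain ⟨K, hK⟩ := exists_prod_pow_le A B
  have hcop : ((Finset.univ : Finset (MaximalSpectrum B)) : Set (MaximalSpectrum B)).Pairwise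
      (Function.onFun IsCoprime fun i : MaximalSpectrum B => i.asIdeal ^ (K * N)) := by
    intro i _ j _ hij
    show IsCoprime (i.asIdeal ^ (K * N)) (j.asIdeal ^ (K * N))
    apply IsCoprime.pow
    exact Ideal.isCoprime_of_isMaximal (fun h => hij (MaximalSpectrum.ext h))
  have hprod : ∏ i : MaximalSpectrum B, i.asIdeal ^ (K * N) =
      ⨅ i ∈ (Finset.univ : Finset (MaximalSpectrum B)), i.asIdeal ^ (K * N) :=
    Ideal.prod_eq_iInf_of_pairwise_isCoprime hcop
  have hmem : h ∈ Submodule.torsionBySet B (HH A B E)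
      ((⨅ i ∈ (Finset.univ : Finset (MaximalSpectrum B)), i.asIdeal ^ (K * N) : Ideal B) : Set B) := by
    rw [Submodule.mem_torsionBySet_iff]
    rintro ⟨c, hc⟩
    apply hN
    have hc' : c ∈ (∏ i : MaximalSpectrum B, i.asIdeal) ^ (K * N) := by
      rw [← Finset.prod_pow, hprod]
      exact hc
    rw [pow_mul] at hc'
    exact Ideal.pow_right_mono hK N hc'
  rw [← Submodule.iSup_torsionBySet_ideal_eq_torsionBySet_iInf
    (fun i hi j hj hij => Ideal.isCoprime_iff_sup_eq.mp (hcop hi hj hij))] at hmem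
  refine (iSup₂_le (fun i _ => ?_) :
    (⨆ i ∈ (Finset.univ : Finset (MaximalSpectrum B)),
      Submodule.torsionBySet B (HH A B E) ((i.asIdeal ^ (K * N) : Ideal B) : Set B)) ≤
      ⨆ n : MaximalSpectrum B, powTors n.asIdeal (HH A B E)) hmem
  refine le_trans ?_ (le_iSup (fun n : MaximalSpectrum B => powTors n.asIdeal (HH A B E)) i)
  exact le_iSup (fun k : ℕ => Submodule.torsionBySet B (HH A B E)
    ((i.asIdeal ^ k : Ideal B) : Set B)) (K * N)

end semilocal

/-- Let A be a Noetherian local ring with residue field k, k → E an injective hull of k, and B a finite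
A-algebra (a semilocal ring all of whose maximal ideals lie over the maximal ideal of A). Then the
B-module Hom_A(B, E), with B acting by (b·φ)(b') = φ(bb'), is the internal direct sum over the
maximal ideals n of B of submodules J_n (independent, with supremum everything), where each J_n is
an injective hull over B of the residue field B/n: each hull occurs exactly once. -/
theorem result (A B : Type u) [CommRing A] [IsLocalRing A] [IsNoetherianRing A] [CommRing B] [Algebra A B] [Module.Finite A B] (E : Type u) [AddCommGroup E] [Module A E] (f : IsLocalRing.ResidueField A →ₗ[A] E) (hf : InjHull.IsInjectiveHull f) : ∃ J : MaximalSpectrum B → Submodule B ((ModuleCat.coextendScalars (algebraMap A B)).obj (ModuleCat.of A E)), iSupIndep J ∧ iSup J = ⊤ ∧ ∀ n : MaximalSpectrum B, ∃ g : (B ⧸ n.asIdeal) →ₗ[B] J n, InjHull.IsInjectiveHull g := by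
  haveI : IsNoetherianRing B := IsNoetherianRing.of_finite A B
  refine ⟨fun n => powTors n.asIdeal (HH A B E), iSupIndep_powTors _, iSup_powTors_eq_top A B f hf,
    fun n => hull_at A B n.asIdeal f hf⟩

end Groth.Agent.S11184
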