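import Groth.Statements.S12073
import Groth.Agent.Lib.Helper24.Lim8HomUnique
import Groth.Agent.Lib.Helper24.Lim8CoverDescent
import Groth.Agent.Lib.Helper24.Lim8DescendSmooth
-- import your own Groth.Agent.* helpers here

set_option autoImplicit false
universe u
open CategoryTheory CategoryTheory.Limits AlgebraicGeometry
open Pi1

namespace Groth.Agent.S12073

/-- Let X = lim X_i be the limit of a cofiltered system of quasi-compact quasi-separated schemes with
affine transition morphisms, given by a limit cone. Then: (1) every finite étale cover of X is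
isomorphic, over X, to the base change of a finite étale cover of some X_i; (2) if two morphisms
between finite étale covers of some X_i have the same base change to X, then they have the same base
change to some X_j with j → i. (Fullness — every morphism over X between base changes comes from
some stage — is part of the published statement and is not stated here; nor is the consequence on
fundamental groups.) -/
theorem result {I : Type u} [SmallCategory I] [IsCofiltered I]
    (D : I ⥤ Scheme.{u}) (c : Limits.Cone D) (hc : Limits.IsLimit c)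
    [∀ (i j : I) (f : i ⟶ j), IsAffineHom (D.map f)] [∀ i, CompactSpace (D.obj i)]
    [∀ i, QuasiSeparatedSpace (D.obj i)] :
    (∀ V : FEt.Cat c.pt, ∃ (i : I) (Vi : FEt.Cat (D.obj i)), Nonempty ((FEt.restrict (c.π.app i)).obj Vi ≅ V)) ∧
    (∀ (i : I) (Vi Wi : FEt.Cat (D.obj i)) (φ ψ : Vi ⟶ Wi),
      (FEt.restrict (c.π.app i)).map φ = (FEt.restrict (c.π.app i)).map ψ →
      ∃ (j : I) (a : j ⟶ i), (FEt.restrict (D.map a)).map φ = (FEt.restrict (D.map a)).map ψ) := by
  haveI : ∀ {i j : I} (f : i ⟶ j), IsAffineHom (D.map f) := fun f ↦ inferInstance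
  refine ⟨fun V ↦ ?_, fun i Vi Wi φ ψ h ↦ ?_⟩
  · have hV1 : IsFinite V.hom := V.prop.1
    have hV2 : Etale V.hom := V.prop.2
    obtain ⟨l, M, hM⟩ := Groth.Agent.Lib.Helper24.Lim8.Model.exists_isFP hc V.hom
    have := hM.compact
    have := hM.qs
    have := hM.lfp
    obtain ⟨l', θ, hP⟩ := M.exists_rebase_of_descends (P := FEt.prop)
      ((Groth.Agent.Lib.Helper24.Lim8.descends_isFinite D c hc l M.fi (𝟙 _)).inf
        (Groth.Agent.Lib.Helper24.Lim8.descends_etale D c hc l M.fi (𝟙 _))) V.prop
    refine ⟨l', MorphismProperty.Over.mk ⊤ (M.rebase θ).fi hP, ⟨?_⟩⟩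
    exact (MorphismProperty.Over.isoMk ((M.rebase θ).sq.isoPullback)
      ((M.rebase θ).sq.isoPullback_hom_snd)).symm
  · have h0 := congrArg (fun f ↦ f.left ≫ pullback.fst Wi.hom (c.π.app i)) h
    have h1 : pullback.fst Vi.hom (c.π.app i) ≫ φ.left =
        pullback.fst Vi.hom (c.π.app i) ≫ ψ.left :=
      (pullback.lift_fst _ _ _).symm.trans (h0.trans (pullback.lift_fst _ _ _))
    have hW1 : IsFinite Wi.hom := Wi.prop.1
    have hW2 : Etale Wi.hom := Wi.prop.2
    have hV1 : IsFinite Vi.hom := Vi.prop.1
    obtain ⟨j, a, hj⟩ := Groth.Agent.Lib.Helper24.Lim8.exists_stage_fst_comp_eq D c hc i Vi.hom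
      Wi.hom φ.left ψ.left (MorphismProperty.Over.w φ) (MorphismProperty.Over.w ψ) h1
    refine ⟨j, a, ?_⟩
    ext
    simp only [FEt.restrict, MorphismProperty.Over.pullback_map_left]
    apply pullback.hom_ext
    · simp only [pullback.lift_fst]
      exact hj
    · simp only [pullback.lift_snd]

end Groth.Agent.S12073
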