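import Groth.Statements.S2912
import Mathlib
import Groth.Agent.Lib.Helper81.DescLoc
-- import your own Groth.Agent.* helpers here

set_option autoImplicit false
open CategoryTheory CategoryTheory.Limits AlgebraicGeometry Opposite
universe u
open SGA1

namespace Groth.Agent.S2912
open Desc

open Groth.Agent.Lib.Helper38.FpqcGlue Groth.Agent.Lib.Helper81.DescE Groth.Agent.Lib.Helper81.DescZ
  Groth.Agent.Lib.Helper81.DescR Groth.Agent.Lib.Helper81.DescMain Groth.Agent.Lib.Helper81.DescLoc

lemma phi_eq_of_eq {X S : Scheme.{u}} {p : X ⟶ S} (D : SchDD p) {T : Scheme.{u}} (y₀ y₁ : T ⟶ X)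
    (e : y₀ = y₁) (h : y₀ ≫ p = y₁ ≫ p) (v : Lifts D.obj y₀) : (D.φ y₀ y₁ h v).1 = v.1 := by
  subst e
  exact congrArg Subtype.val (D.φ_self _ v)

lemma stable_of_univInj {X S : Scheme.{u}} {p : X ⟶ S} [UniversallyInjective p] (D : SchDD p)
    (W : D.obj.left.Opens) : Stable D W := by
  intro T x₀ x₁ h v a ha
  rw [factors_iff]
  intro t
  let i := T.fromSpecResidueField t
  have hinj0 : ∀ (K : Type u) [Field K], Function.Injective (fun g : Spec (.of K) ⟶ X ↦ g ≫ p) :=
    ((tfae_universallyInjective p).out 0 1).mp ‹UniversallyInjective p›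
  have hinj := hinj0 (T.residueField t)
  have h' : (i ≫ x₀) ≫ p = (i ≫ x₁) ≫ p := by simp [h]
  have e : i ≫ x₀ = i ≫ x₁ := hinj h'
  let v' : Lifts D.obj (i ≫ x₀) := ⟨i ≫ v.1, by
    rw [Category.assoc]; exact congrArg (fun z => i ≫ z) v.2⟩
  have nat := D.φ_natural i x₀ x₁ h h' v v' rfl
  have e2 := phi_eq_of_eq D _ _ e h' v'
  have e3 : i ≫ (D.φ x₀ x₁ h v).1 = i ≫ v.1 := nat.symm.trans e2
  have e4 : (D.φ x₀ x₁ h v).1 t = v.1 t := by
    have := congrArg (fun m => m (IsLocalRing.closedPoint (T.residueField t))) e3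
    have hi : i (IsLocalRing.closedPoint (T.residueField t)) = t :=
      Scheme.fromSpecResidueField_apply t _
    simp only [Scheme.Hom.comp_apply, hi] at this
    exact this
  rw [e4, ← ha, Scheme.Hom.comp_apply]
  exact (a t).2

lemma isSeparated_of_univInj {X S : Scheme.{u}} (p : X ⟶ S) [UniversallyInjective p] :
    IsSeparated p := by
  have hs : Surjective (pullback.diagonal p) := (UniversallyInjective.iff_diagonal p).mp inferInstance
  refine ⟨IsClosedImmersion.of_isPreimmersion _ ?_⟩
  rw [Set.range_eq_univ.mpr hs.surj]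
  exact isClosed_univ

theorem affine_base {X S : Scheme.{u}} (p : X ⟶ S) [IsAffine S] [Flat p] [Surjective p]
    [QuasiCompact p] [UniversallyInjective p] (D : SchDD p) :
    ∃ U : Over S, Nonempty ((toDD p).obj U ≅ D) := by
  haveI := isSeparated_of_univInj p
  apply effective_of_good_cover D
  intro v
  obtain ⟨W, hWaff, hvW, -⟩ := D.obj.left.isBasis_affineOpens.exists_subset_of_mem_open
    (Set.mem_univ v) isOpen_univ
  obtain ⟨W, rfl⟩ : ∃ W' : D.obj.left.Opens, W = (W' : Set D.obj.left) := hWaff.imp (fun W' h => h.2.symm)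
  have hWaff' : IsAffineOpen W := by
    obtain ⟨W'', h1, h2⟩ := hWaff
    have : W'' = W := TopologicalSpace.Opens.ext h2
    exact this ▸ h1
  haveI : IsAffine (W : Scheme.{u}) := hWaff'
  have hW : Stable D W := stable_of_univInj D W
  refine ⟨W, hvW, ?_⟩
  haveI : IsAffineHom ((W.ι ≫ D.obj.hom) ≫ p) := inferInstance
  haveI : IsAffineHom (W.ι ≫ D.obj.hom) := IsAffineHom.of_comp _ p
  haveI : IsAffineHom (restrict D W hW).obj.hom := ‹IsAffineHom (W.ι ≫ D.obj.hom)›
  have heff : ∃ U : Over S, Nonempty ((toDD p).obj U ≅ restrict D W hW) :=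
    effective_of_affine_case @IsAffineHom
      (fun X S p hX hS hfl hsurj D hD => by
        haveI := hX; haveI := hS; haveI := hfl; haveI := hsurj; haveI := hD
        exact affine_case_iso p D) p (restrict D W hW) inferInstance
  haveI : IsOpenImmersion (resIncl D W hW).hom.left := inferInstanceAs (IsOpenImmersion W.ι)
  have hg := good_of_hom D (restrict D W hW) (resIncl D W hW) heff
  have hr : (resIncl D W hW).hom.left.opensRange = W := by
    change W.ι.opensRange = W
    exact Scheme.Opens.opensRange_ι W
  rw [hr] at hg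
  exact hg


/-- Let g : S' ⟶ S be flat, surjective, quasi-compact and universally injective. Then every descent
datum relative to g (on an arbitrary S'-scheme) is isomorphic to the canonical descent datum of some
S-scheme. (Descent data relative to g are taken in functor-of-points form.) -/
theorem result {S' S : Scheme.{u}} (g : S' ⟶ S) [Flat g] [Surjective g] [QuasiCompact g]
    [UniversallyInjective g] (D : Desc.SchDD g) : ∃ U : Over S, Nonempty ((Desc.toDD g).obj U ≅ D) := by
  apply single_of_fam
  set Dfam := (SchDDFam.ofSchDD.{u, u} g).obj D with hDfam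
  have hf : Presieve.ofArrows (fun _ : PUnit.{u + 1} => S') (fun _ => g) ∈
      Scheme.fpqcPrecoverage S := by
    rw [Presieve.ofArrows_pUnit]
    exact g.singleton_mem_fpqcPrecoverage
  obtain ⟨Y, q, e, hE⟩ := exists_isESol_of_local hf Dfam (fun V => by
    apply exists_isLocSol_of_baseChange_isEffective
    haveI : IsAffine (V.1 : Scheme.{u}) := V.2
    haveI : UniversallyInjective (pullback.snd g V.1.ι) :=
      MorphismProperty.pullback_snd (P := @UniversallyInjective) _ _ inferInstance
    apply fam_of_single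
    exact affine_base (pullback.snd g V.1.ι) _)
  exact isEffective_of_isESol Dfam q e hE

end Groth.Agent.S2912
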