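import Groth.Statements.S3569
import Mathlib
import Groth.Prelude.Def_AffAlg
-- import your own Groth.Agent.* helpers here

set_option autoImplicit false
universe u
open CategoryTheory CategoryTheory.Limits AlgebraicGeometry
open EGA2

namespace Groth.Agent.S3569
open Limits TopologicalSpace Opposite


variable {X : Scheme.{u}}

/-- the morphism `T ⟶ X` landing in the affine open `V` attached to a ring map. -/
noncomputable def toV {V : X.Opens} (hV : IsAffineOpen V) {T : Scheme.{u}}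
    (φ : Γ(X, V) ⟶ Γ(T, ⊤)) : T ⟶ X :=
  T.toSpecΓ ≫ Spec.map φ ≫ hV.fromSpec

lemma toV_nat {V : X.Opens} (hV : IsAffineOpen V) {T T' : Scheme.{u}} (t : T' ⟶ T)
    (φ : Γ(X, V) ⟶ Γ(T, ⊤)) : t ≫ toV hV φ = toV hV (φ ≫ t.appTop) := by
  simp only [toV, Spec.map_comp, Category.assoc]
  rw [Scheme.toSpecΓ_naturality_assoc]

lemma toV_res {V V' : X.Opens} (hV : IsAffineOpen V) (hV' : IsAffineOpen V') (hle : V' ≤ V)
    {T : Scheme.{u}} (φ : Γ(X, V') ⟶ Γ(T, ⊤)) :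
    toV hV' φ = toV hV (X.presheaf.map (homOfLE hle).op ≫ φ) := by
  simp only [toV, Spec.map_comp, Category.assoc]
  rw [hV.map_fromSpec hV']

lemma toV_range {V : X.Opens} (hV : IsAffineOpen V) {T : Scheme.{u}}
    (φ : Γ(X, V) ⟶ Γ(T, ⊤)) : (toV hV φ) ⁻¹ᵁ V = ⊤ := by
  rw [eq_top_iff]
  intro t _
  show (toV hV φ) t ∈ V
  have : (toV hV φ) t ∈ hV.fromSpec.opensRange := by
    simp only [toV, Scheme.Hom.comp_apply]
    exact ⟨_, rfl⟩
  rwa [hV.opensRange_fromSpec] at this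

lemma toV_appLE {V : X.Opens} (hV : IsAffineOpen V) {T : Scheme.{u}}
    (φ : Γ(X, V) ⟶ Γ(T, ⊤)) :
    (toV hV φ).appLE V ⊤ (toV_range hV φ).ge = φ := by
  have h1 : toV hV φ = (T.toSpecΓ ≫ Spec.map φ ≫ hV.isoSpec.inv) ≫ V.ι := by
    simp [toV]
  have key : ∀ (h : T ⟶ X) (k : T ⟶ ↑V) (hk : h = k ≫ V.ι) (e : ⊤ ≤ h ⁻¹ᵁ V),
      h.appLE V ⊤ e = V.topIso.inv ≫ k.appTop := by
    rintro h k rfl e
    rw [← Scheme.Hom.appLE_comp_appLE k V.ι V ⊤ ⊤ (by simp) (by simp)]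
    congr 1
    · rw [Scheme.Opens.ι_appLE]; rfl
    · simp [Scheme.Hom.appLE]
  rw [key _ _ h1]
  simp only [Scheme.Hom.comp_appTop, IsAffineOpen.isoSpec_inv_appTop, Category.assoc,
    Scheme.toSpecΓ_appTop, Iso.inv_hom_id_assoc]
  rw [← Scheme.ΓSpecIso_inv_naturality_assoc]
  simp

lemma appLE_congr_hom {T X : Scheme.{u}} {a b : T ⟶ X} (h : a = b) (U : X.Opens) (W : T.Opens)
    (e : W ≤ a ⁻¹ᵁ U) : a.appLE U W e = b.appLE U W (h ▸ e) := by
  subst h; rfl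

lemma hom_ext_of_appLE {V : X.Opens} (hV : IsAffineOpen V) {T : Scheme.{u}} (a b : T ⟶ X)
    (ea : ⊤ ≤ a ⁻¹ᵁ V) (eb : ⊤ ≤ b ⁻¹ᵁ V) (h : a.appLE V ⊤ ea = b.appLE V ⊤ eb) : a = b := by
  have key : ∀ (h : T ⟶ X) (k : T ⟶ ↑V) (hk : h = k ≫ V.ι) (e : ⊤ ≤ h ⁻¹ᵁ V),
      h.appLE V ⊤ e = V.topIso.inv ≫ k.appTop := by
    rintro h k rfl e
    rw [← Scheme.Hom.appLE_comp_appLE k V.ι V ⊤ ⊤ (by simp) (by simp)]
    congr 1
    · rw [Scheme.Opens.ι_appLE]; rfl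
    · simp [Scheme.Hom.appLE]
  have ra : Set.range a ⊆ Set.range V.ι := by
    rintro _ ⟨t, rfl⟩
    simpa using ea (Set.mem_univ t)
  have rb : Set.range b ⊆ Set.range V.ι := by
    rintro _ ⟨t, rfl⟩
    simpa using eb (Set.mem_univ t)
  let a' := IsOpenImmersion.lift V.ι a ra
  let b' := IsOpenImmersion.lift V.ι b rb
  have ha : a = a' ≫ V.ι := (IsOpenImmersion.lift_fac _ _ _).symm
  have hb : b = b' ≫ V.ι := (IsOpenImmersion.lift_fac _ _ _).symm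
  have h1 := key a a' ha ea
  have h2 := key b b' hb eb
  haveI : IsAffine ↑V := hV
  have : a' = b' := by
    apply ext_of_isAffine
    have : V.topIso.inv ≫ a'.appTop = V.topIso.inv ≫ b'.appTop := by
      rw [← h1, ← h2, h]
    exact (cancel_epi _).mp this
  rw [ha, hb, this]

section main

variable {X Y S : Scheme.{u}} (f : X ⟶ S) [IsAffineHom f] (g : Y ⟶ S)

noncomputable abbrev cov : Y.OpenCover := S.directedAffineCover.pullback₁ g

lemma top_le (U : S.affineOpens) :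
    ⊤ ≤ (pullback.fst g U.1.ι) ⁻¹ᵁ (g ⁻¹ᵁ U.1) := by
  intro t _
  show g ((pullback.fst g U.1.ι) t) ∈ U.1
  rw [← Scheme.Hom.comp_apply, pullback.condition, Scheme.Hom.comp_apply]
  exact (pullback.snd g U.1.ι t).2

noncomputable def rho (U : S.affineOpens) : Γ(Y, g ⁻¹ᵁ U.1) ⟶ Γ(pullback g U.1.ι, ⊤) :=
  (pullback.fst g U.1.ι).appLE (g ⁻¹ᵁ U.1) ⊤ (top_le g U)

variable (ω : AffAlg.alg f ⟶ AffAlg.alg g)

noncomputable def omg (U : S.Opens) : Γ(X, f ⁻¹ᵁ U) ⟶ Γ(Y, g ⁻¹ᵁ U) := ω.app (op U)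

lemma omg_nat {U U' : S.Opens} (hle : U ≤ U') :
    X.presheaf.map (homOfLE (show f ⁻¹ᵁ U ≤ f ⁻¹ᵁ U' from fun _ hx => hle hx)).op ≫ omg f g ω U =
      omg f g ω U' ≫
        Y.presheaf.map (homOfLE (show g ⁻¹ᵁ U ≤ g ⁻¹ᵁ U' from fun _ hx => hle hx)).op :=
  ω.naturality (homOfLE hle).op

noncomputable def hU (U : S.affineOpens) : pullback g U.1.ι ⟶ X :=
  toV (U.2.preimage f) (omg f g ω U.1 ≫ rho g U)

end main

section main2

variable {X Y S : Scheme.{u}} (f : X ⟶ S) [IsAffineHom f] (g : Y ⟶ S)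
variable (ω : AffAlg.alg f ⟶ AffAlg.alg g)

noncomputable def tr {i j : S.affineOpens} (hij : i ≤ j) :
    pullback g i.1.ι ⟶ pullback g j.1.ι :=
  pullback.map g i.1.ι g j.1.ι (𝟙 _) (S.homOfLE hij) (𝟙 _) (by simp) (by simp)

lemma hU_compat {i j : S.affineOpens} (hij : i ≤ j) :
    tr g hij ≫ hU f g ω j = hU f g ω i := by
  have hle : i.1 ≤ j.1 := hij
  have htr : tr g hij ≫ pullback.fst g j.1.ι = pullback.fst g i.1.ι := by
    rw [tr, pullback.lift_fst, Category.comp_id]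
  rw [hU, hU, toV_nat,
    toV_res (j.2.preimage f) (i.2.preimage f) (fun _ hx => hle hx)]
  congr 1
  rw [← Category.assoc, omg_nat f g ω hle, Category.assoc, Category.assoc]
  congr 1
  rw [rho, rho, Scheme.Hom.map_appLE]
  have : (tr g hij).appTop = (tr g hij).appLE ⊤ ⊤ (by simp) := by
    simp [Scheme.Hom.appLE]
  rw [this, Scheme.Hom.appLE_comp_appLE]
  exact appLE_congr_hom htr _ _ _

end main2

section main3

variable {X Y S : Scheme.{u}} (f : X ⟶ S) [IsAffineHom f] (g : Y ⟶ S)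
variable (ω : AffAlg.alg f ⟶ AffAlg.alg g)

lemma compat' {i j : (cov g).I₀} (hij : i ⟶ j) :
    (cov g).trans hij ≫ hU f g ω j = hU f g ω i :=
  hU_compat f g ω (i := i) (j := j) (@CategoryTheory.leOfHom (S.affineOpens) _ i j hij)

noncomputable def glued : Y ⟶ X :=
  (cov g).glueMorphismsOfLocallyDirected (fun U => hU f g ω U)
    (fun {i j} hij => compat' f g ω hij)

lemma fst_glued (U : S.affineOpens) : pullback.fst g U.1.ι ≫ glued f g ω = hU f g ω U :=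
  (cov g).map_glueMorphismsOfLocallyDirected (fun U => hU f g ω U)
    (fun {i j} hij => compat' f g ω hij) U

lemma hU_range (U : S.affineOpens) : ⊤ ≤ (hU f g ω U) ⁻¹ᵁ (f ⁻¹ᵁ U.1) :=
  (toV_range _ _).ge

lemma hU_appLE (U : S.affineOpens) :
    (hU f g ω U).appLE (f ⁻¹ᵁ U.1) ⊤ (hU_range f g ω U) = omg f g ω U.1 ≫ rho g U :=
  toV_appLE _ _

variable (hω : f.c ≫ ω = g.c)

include hω in
lemma app_omg (U : S.Opens) : f.app U ≫ omg f g ω U = g.app U := by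
  have := congrArg (fun φ => φ.app (op U)) hω
  exact this

include hω in
lemma glued_comp : glued f g ω ≫ f = g := by
  apply (cov g).hom_ext
  intro U
  show pullback.fst g U.1.ι ≫ glued f g ω ≫ f = pullback.fst g U.1.ι ≫ g
  rw [← Category.assoc, fst_glued]
  have e1 : ⊤ ≤ (hU f g ω U ≫ f) ⁻¹ᵁ U.1 := by
    intro t _
    exact hU_range f g ω U (Set.mem_univ t)
  have e2 : ⊤ ≤ (pullback.fst g U.1.ι ≫ g) ⁻¹ᵁ U.1 := by
    intro t _
    exact top_le g U (Set.mem_univ t)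
  refine hom_ext_of_appLE U.2 _ _ e1 e2 ?_
  rw [← Scheme.Hom.appLE_comp_appLE _ _ U.1 (f ⁻¹ᵁ U.1) ⊤ le_rfl (hU_range f g ω U),
    ← Scheme.Hom.appLE_comp_appLE _ _ U.1 (g ⁻¹ᵁ U.1) ⊤ le_rfl (top_le g U), hU_appLE]
  rw [Scheme.Hom.appLE_eq_app, Scheme.Hom.appLE_eq_app, ← Category.assoc, app_omg f g ω hω]
  rfl

end main3

section main4

variable {X Y S : Scheme.{u}} (f : X ⟶ S) (g : Y ⟶ S)

lemma le_of_comp (h : Y ⟶ X) (w : h ≫ f = g) (U : S.Opens) : g ⁻¹ᵁ U ≤ h ⁻¹ᵁ (f ⁻¹ᵁ U) := by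
  subst w; exact le_rfl

lemma algHom_app (h : Y ⟶ X) (w : h ≫ f = g) (U : S.Opens) :
    (AffAlg.algHom f g h w).app (op U) = h.appLE (f ⁻¹ᵁ U) (g ⁻¹ᵁ U) (le_of_comp f g h w U) := by
  subst w
  have h1 : (AffAlg.algHom f (h ≫ f) h rfl).app (op U) = h.app (f ⁻¹ᵁ U) ≫ 𝟙 _ := by
    simp only [AffAlg.algHom]
    rfl
  rw [h1, Category.comp_id, Scheme.Hom.appLE]
  have : (homOfLE (le_of_comp f (h ≫ f) h rfl U)).op = 𝟙 _ := Subsingleton.elim _ _
  rw [this]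
  erw [Y.presheaf.map_id]
  exact (Category.comp_id _).symm

/-- two maps into the sheaf `g_* O_Y` agreeing on affine opens agree. -/
lemma alg_hom_ext (a b : AffAlg.alg f ⟶ AffAlg.alg g)
    (h : ∀ U : S.affineOpens, a.app (op U.1) = b.app (op U.1)) : a = b := by
  ext W : 2
  ext s
  -- compare on the cover of `g ⁻¹ᵁ W` by `g ⁻¹ᵁ U`, `U ≤ W` affine
  let ι := {U : S.affineOpens // U.1 ≤ W}
  refine Y.sheaf.eq_of_locally_eq' (fun U : ι => g ⁻¹ᵁ U.1.1) (g ⁻¹ᵁ W)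
    (fun U => homOfLE (fun _ hx => U.2 hx)) ?_ _ _ ?_
  · intro y hy
    have hy' : g y ∈ W := hy
    obtain ⟨_, ⟨U, hU : IsAffineOpen U, rfl⟩, hyU, hUW⟩ :=
      S.isBasis_affineOpens.exists_subset_of_mem_open hy' W.2
    exact TopologicalSpace.Opens.mem_iSup.mpr ⟨⟨⟨U, hU⟩, hUW⟩, hyU⟩
  · intro U
    have ha := a.naturality (homOfLE U.2).op
    have hb := b.naturality (homOfLE U.2).op
    have ha' := congrArg (fun φ => φ.hom s) ha
    have hb' := congrArg (fun φ => φ.hom s) hb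
    simp only [CommRingCat.hom_comp, RingHom.comp_apply] at ha' hb'
    rw [h U.1] at ha'
    exact ha'.symm.trans hb'

end main4

section main5

variable {X Y S : Scheme.{u}} (f : X ⟶ S) [IsAffineHom f] (g : Y ⟶ S)

lemma rho_isIso (U : S.affineOpens) : IsIso (rho g U) := by
  rw [rho, Scheme.Hom.appLE]
  have h1 : IsIso ((pullback.fst g U.1.ι).app (g ⁻¹ᵁ U.1)) := by
    apply Scheme.Hom.isIso_app
    intro y hy
    have : y ∈ Set.range (pullback.fst g U.1.ι) := by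
      rw [Scheme.Pullback.range_fst]
      show g y ∈ Set.range U.1.ι
      rw [Scheme.Opens.range_ι]
      exact hy
    exact this
  have h2 : IsIso (homOfLE (top_le g U)).op := by
    have e : (pullback.fst g U.1.ι) ⁻¹ᵁ (g ⁻¹ᵁ U.1) = ⊤ := top_le_iff.mp (top_le g U)
    exact ⟨⟨(homOfLE (le_of_eq e)).op, Subsingleton.elim _ _, Subsingleton.elim _ _⟩⟩
  infer_instance


/-- Let f : X → S be an affine morphism and g : Y → S any morphism. Then h ↦ A(h) = f_*(h^♯) is a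
bijection from the set of S-morphisms Y → X onto the set of O_S-algebra homomorphisms f_*O_X →
g_*O_Y (morphisms of sheaves of rings compatible with the structure maps from O_S). -/
theorem result {X Y S : Scheme.{u}} (f : X ⟶ S) [IsAffineHom f] (g : Y ⟶ S) :
    Function.Bijective (AffAlg.algOf f g) := by
  constructor
  · rintro ⟨h₁, w₁⟩ ⟨h₂, w₂⟩ heq
    apply Subtype.ext
    have heq' : AffAlg.algHom f g h₁ w₁ = AffAlg.algHom f g h₂ w₂ := congrArg Subtype.val heq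
    show h₁ = h₂
    apply (cov g).hom_ext
    intro U
    show pullback.fst g U.1.ι ≫ h₁ = pullback.fst g U.1.ι ≫ h₂
    have e1 : ⊤ ≤ (pullback.fst g U.1.ι ≫ h₁) ⁻¹ᵁ (f ⁻¹ᵁ U.1) := by
      intro t _
      exact le_of_comp f g h₁ w₁ U.1 (top_le g U (Set.mem_univ t))
    have e2 : ⊤ ≤ (pullback.fst g U.1.ι ≫ h₂) ⁻¹ᵁ (f ⁻¹ᵁ U.1) := by
      intro t _
      exact le_of_comp f g h₂ w₂ U.1 (top_le g U (Set.mem_univ t))
    refine hom_ext_of_appLE (U.2.preimage f) _ _ e1 e2 ?_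
    rw [← Scheme.Hom.appLE_comp_appLE _ _ (f ⁻¹ᵁ U.1) (g ⁻¹ᵁ U.1) ⊤
        (le_of_comp f g h₁ w₁ U.1) (top_le g U),
      ← Scheme.Hom.appLE_comp_appLE _ _ (f ⁻¹ᵁ U.1) (g ⁻¹ᵁ U.1) ⊤
        (le_of_comp f g h₂ w₂ U.1) (top_le g U),
      ← algHom_app f g h₁ w₁ U.1, ← algHom_app f g h₂ w₂ U.1, heq']
  · rintro ⟨ω, hω⟩
    refine ⟨⟨glued f g ω, glued_comp f g ω hω⟩, ?_⟩
    apply Subtype.ext
    show AffAlg.algHom f g (glued f g ω) (glued_comp f g ω hω) = ω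
    apply alg_hom_ext
    intro U
    rw [algHom_app]
    haveI := rho_isIso g U
    rw [← cancel_mono (rho g U)]
    have := hU_appLE f g ω U
    show _ = omg f g ω U.1 ≫ rho g U
    rw [← this, rho, Scheme.Hom.appLE_comp_appLE]
    exact appLE_congr_hom (fst_glued f g ω U) _ _ _

end main5

end Groth.Agent.S3569
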