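import Groth.Statements.S8255
-- import your own Groth.Agent.* helpers here

set_option autoImplicit false
universe u
open CategoryTheory CategoryTheory.Limits AlgebraicGeometry Opposite TopologicalSpace
open EGA2

namespace Groth.Agent.S8255

set_option backward.isDefEq.respectTransparency false in
theorem isIso_gammaAff {S : Scheme.{u}} (A : RelSpec.QCAlg S) (U : S.Opens) (hU : IsAffineOpen U) :
    IsIso (A.gammaAff U hU) := by
  unfold RelSpec.QCAlg.gammaAff
  have h1 : IsIso ((A.ι U hU).appLE (A.π ⁻¹ᵁ U) ⊤ (A.top_le_preimage U hU)) := by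
    have h2 := Scheme.Hom.appLE_appIso_inv (A.ι U hU) (A.top_le_preimage U hU)
    have h3 : (A.ι U hU) ''ᵁ ⊤ = A.π ⁻¹ᵁ U := by
      rw [A.π_preimage U hU]; exact (Scheme.Hom.image_top_eq_opensRange (A.ι U hU))
    have h4 : IsIso (A.spec.presheaf.map (homOfLE (((A.ι U hU).image_mono (A.top_le_preimage U hU)).trans
          ((A.ι U hU).image_preimage_eq_opensRange_inf (A.π ⁻¹ᵁ U) ▸ inf_le_right))).op) := by
      have : IsIso (homOfLE (((A.ι U hU).image_mono (A.top_le_preimage U hU)).trans
          ((A.ι U hU).image_preimage_eq_opensRange_inf (A.π ⁻¹ᵁ U) ▸ inf_le_right))) := by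
        refine ⟨⟨homOfLE h3.ge, rfl, rfl⟩⟩
      infer_instance
    rw [← h2] at h4
    exact IsIso.of_isIso_comp_right _ ((A.ι U hU).appIso ⊤).inv
  infer_instance

/-- Let S be a scheme and A a quasi-coherent O_S-algebra, and let π : Spec(A) → S be its relative
spectrum (glued from the affine schemes Spec A(U), U an affine open of S). Then the canonical
comparison map π_* O_{Spec(A)} → A (which over an affine open U is restriction to the chart Spec
A(U) followed by Γ(Spec R) = R) is an isomorphism; in other words the direct-image algebra of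
Spec(A) is A. -/
theorem result {S : Scheme.{u}} (A : RelSpec.QCAlg S) : IsIso A.gammaMap := by
  have h1 : IsIso A.gammaRestrict := by
    have : ∀ U, IsIso (A.gammaRestrict.app U) := fun U => isIso_gammaAff A U.unop.1 U.unop.2
    exact NatIso.isIso_of_isIso_app _
  let ℱ : TopCat.Sheaf CommRingCat.{u} S.carrier :=
    ⟨A.π.base _* A.spec.presheaf, TopCat.Sheaf.pushforward_sheaf_of_sheaf _ A.spec.sheaf.property⟩
  let ℱ' : TopCat.Sheaf CommRingCat.{u} S.carrier := ⟨A.presheaf, A.isSheaf⟩
  let α : ℱ ⟶ ℱ' := ⟨A.gammaMap⟩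
  have h2 : IsIso α := by
    refine Functor.IsCoverDense.iso_of_restrict_iso (G := Scheme.AffineZariskiSite.toOpensFunctor S)
      (K := Opens.grothendieckTopology S) α ?_
    change IsIso ((Scheme.AffineZariskiSite.toOpensFunctor S).op.whiskerLeft A.gammaMap)
    rw [A.gammaMap_restrict]
    exact h1
  have h3 : IsIso ((sheafToPresheaf (Opens.grothendieckTopology S) CommRingCat.{u}).map α) :=
    Functor.map_isIso _ α
  exact h3

end Groth.Agent.S8255
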