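import Groth.Statements.S9436
import Mathlib
-- import your own Groth.Agent.* helpers here

set_option autoImplicit false
universe u
open CAlg

namespace Groth.Agent.S9436

section Aux
open TensorProduct

variable {R : Type u} [CommRing R] (I : Ideal R) {Sb : Type u} [CommRing Sb] [Algebra (R ⧸ I) Sb]
  [Algebra R Sb] [IsScalarTower R (R ⧸ I) Sb]
  {ι σ : Type} [Finite ι] [Finite σ]
  (Pb : Algebra.SubmersivePresentation (R ⧸ I) Sb ι σ) (v : σ → MvPolynomial ι R)

/-- the lifted algebra before localization -/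
abbrev S0 (v : σ → MvPolynomial ι R) : Type u := MvPolynomial ι R ⧸ Ideal.span (Set.range v)

noncomputable def P0 : Algebra.PreSubmersivePresentation R (S0 v) ι σ :=
  Algebra.PreSubmersivePresentation.naive (v := v) Pb.map Pb.map_inj

lemma aeval_eq (p : MvPolynomial ι R) :
    MvPolynomial.aeval (R := R) Pb.val p =
      MvPolynomial.aeval (R := R ⧸ I) Pb.val (MvPolynomial.map (Ideal.Quotient.mk I) p) :=
  (MvPolynomial.aeval_map_algebraMap (R ⧸ I) Pb.val p).symm

noncomputable def psi1
    (hv : ∀ s, MvPolynomial.map (Ideal.Quotient.mk I) (v s) = Pb.relation s) : S0 v →ₐ[R] Sb :=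
  Ideal.Quotient.liftₐ _ (MvPolynomial.aeval (R := R) Pb.val) (by
    intro a ha
    have hle : Ideal.span (Set.range v) ≤
        RingHom.ker (MvPolynomial.aeval (R := R) Pb.val).toRingHom := by
      rw [Ideal.span_le]
      rintro _ ⟨s, rfl⟩
      show MvPolynomial.aeval (R := R) Pb.val (v s) = 0
      rw [aeval_eq, hv, Pb.aeval_val_relation]
    exact hle ha)

lemma psi1_mk (hv : ∀ s, MvPolynomial.map (Ideal.Quotient.mk I) (v s) = Pb.relation s)
    (p : MvPolynomial ι R) :
    psi1 I Pb v hv (Ideal.Quotient.mk _ p) = MvPolynomial.aeval (R := R) Pb.val p := rfl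

lemma psi1_jacobian (hv : ∀ s, MvPolynomial.map (Ideal.Quotient.mk I) (v s) = Pb.relation s) :
    psi1 I Pb v hv (P0 I Pb v).jacobian = Pb.jacobian := by
  classical
  letI : Fintype σ := Fintype.ofFinite σ
  rw [Algebra.PreSubmersivePresentation.jacobian_eq_jacobiMatrix_det,
    Algebra.PreSubmersivePresentation.jacobian_eq_jacobiMatrix_det]
  show psi1 I Pb v hv (Ideal.Quotient.mk _ ((P0 I Pb v).jacobiMatrix.det)) = _
  rw [psi1_mk, AlgHom.map_det, RingHom.map_det]
  congr 1
  ext i j
  simp only [AlgHom.mapMatrix_apply, RingHom.mapMatrix_apply, Matrix.map_apply]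
  rw [Algebra.PreSubmersivePresentation.jacobiMatrix_apply,
    Algebra.PreSubmersivePresentation.jacobiMatrix_apply]
  show MvPolynomial.aeval (R := R) Pb.val (MvPolynomial.pderiv (Pb.map i) (v j)) =
    algebraMap Pb.Ring Sb (MvPolynomial.pderiv (Pb.map i) (Pb.relation j))
  rw [aeval_eq, ← MvPolynomial.pderiv_map, hv, Algebra.Generators.algebraMap_apply]

theorem etale_S (hdim : Pb.dimension = 0) :
    Algebra.Etale R (Localization.Away (P0 I Pb v).jacobian) := by
  have hΔ : IsUnit (algebraMap (S0 v) (Localization.Away (P0 I Pb v).jacobian)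
      (P0 I Pb v).jacobian) := IsLocalization.Away.algebraMap_isUnit _
  let P : Algebra.SubmersivePresentation R (Localization.Away (P0 I Pb v).jacobian) _ _ :=
    { toPreSubmersivePresentation :=
        .comp (.localizationAway (Localization.Away (P0 I Pb v).jacobian) (P0 I Pb v).jacobian)
          (P0 I Pb v),
      jacobian_isUnit := by simpa [Algebra.smul_def, -isUnit_map_iff, hΔ] }
  have : Algebra.IsStandardSmoothOfRelativeDimension 0 R
      (Localization.Away (P0 I Pb v).jacobian) :=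
    ⟨_, _, _, inferInstance, P, by
      simp only [Algebra.PreSubmersivePresentation.dimension_comp_eq_dimension_add_dimension, P]
      have h1 : (P0 I Pb v).dimension = 0 := hdim
      simp [h1, Algebra.PreSubmersivePresentation.localizationAway]⟩
  infer_instance

noncomputable def psi (hv : ∀ s, MvPolynomial.map (Ideal.Quotient.mk I) (v s) = Pb.relation s) :
    Localization.Away (P0 I Pb v).jacobian →ₐ[R] Sb :=
  IsLocalization.Away.liftAlgHom (P0 I Pb v).jacobian (f := psi1 I Pb v hv) (by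
    rw [psi1_jacobian]
    exact Pb.jacobian_isUnit)

lemma psi_algebraMap (hv : ∀ s, MvPolynomial.map (Ideal.Quotient.mk I) (v s) = Pb.relation s)
    (x : S0 v) :
    psi I Pb v hv (algebraMap (S0 v) (Localization.Away (P0 I Pb v).jacobian) x) =
      psi1 I Pb v hv x := by
  rw [psi, IsLocalization.Away.liftAlgHom_apply, IsLocalization.Away.lift_eq]
  rfl

noncomputable def psi' (hv : ∀ s, MvPolynomial.map (Ideal.Quotient.mk I) (v s) = Pb.relation s) :
    (R ⧸ I) ⊗[R] Localization.Away (P0 I Pb v).jacobian →ₐ[R ⧸ I] Sb :=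
  Algebra.TensorProduct.lift (Algebra.ofId (R ⧸ I) Sb) (psi I Pb v hv) (fun _ _ => Commute.all _ _)

noncomputable def chi0 :
    MvPolynomial ι (R ⧸ I) →ₐ[R ⧸ I] (R ⧸ I) ⊗[R] Localization.Away (P0 I Pb v).jacobian :=
  MvPolynomial.aeval (fun i => (1 : R ⧸ I) ⊗ₜ[R]
    algebraMap (S0 v) (Localization.Away (P0 I Pb v).jacobian)
      (Ideal.Quotient.mk _ (MvPolynomial.X i)))

lemma chi0_map (p : MvPolynomial ι R) :
    chi0 I Pb v (MvPolynomial.map (Ideal.Quotient.mk I) p) =
      (1 : R ⧸ I) ⊗ₜ[R] algebraMap (S0 v) (Localization.Away (P0 I Pb v).jacobian)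
        (Ideal.Quotient.mk _ p) := by
  have h1 : chi0 I Pb v (MvPolynomial.map (Ideal.Quotient.mk I) p) =
      MvPolynomial.aeval (R := R) (fun i => (1 : R ⧸ I) ⊗ₜ[R]
        algebraMap (S0 v) (Localization.Away (P0 I Pb v).jacobian)
          (Ideal.Quotient.mk _ (MvPolynomial.X i))) p :=
    MvPolynomial.aeval_map_algebraMap (R ⧸ I) _ p
  have h2 : (MvPolynomial.aeval (R := R) fun i => (1 : R ⧸ I) ⊗ₜ[R]
        algebraMap (S0 v) (Localization.Away (P0 I Pb v).jacobian)
          (Ideal.Quotient.mk _ (MvPolynomial.X i))) =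
      (Algebra.TensorProduct.includeRight (R := R) (A := R ⧸ I)
        (B := Localization.Away (P0 I Pb v).jacobian)).comp
        ((IsScalarTower.toAlgHom R (S0 v) (Localization.Away (P0 I Pb v).jacobian)).comp
          (Ideal.Quotient.mkₐ R (Ideal.span (Set.range v)))) := by
    apply MvPolynomial.algHom_ext
    intro i
    simp
  rw [h1, h2]
  rfl

lemma chi0_ker (hv : ∀ s, MvPolynomial.map (Ideal.Quotient.mk I) (v s) = Pb.relation s) :
    ∀ a ∈ Pb.ker, chi0 I Pb v a = 0 := by
  intro a ha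
  have hle : Pb.ker ≤ RingHom.ker (chi0 I Pb v).toRingHom := by
    rw [← Pb.span_range_relation_eq_ker, Ideal.span_le]
    rintro _ ⟨s, rfl⟩
    show chi0 I Pb v (Pb.relation s) = 0
    rw [← hv, chi0_map]
    have : (Ideal.Quotient.mk (Ideal.span (Set.range v))) (v s) = 0 :=
      Ideal.Quotient.eq_zero_iff_mem.mpr (Ideal.subset_span ⟨s, rfl⟩)
    rw [this, map_zero, TensorProduct.tmul_zero]
  exact hle ha

noncomputable def chi (hv : ∀ s, MvPolynomial.map (Ideal.Quotient.mk I) (v s) = Pb.relation s) :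
    Sb →ₐ[R ⧸ I] (R ⧸ I) ⊗[R] Localization.Away (P0 I Pb v).jacobian :=
  (Ideal.Quotient.liftₐ Pb.ker (chi0 I Pb v) (chi0_ker I Pb v hv)).comp
    (Pb.quotientEquiv.restrictScalars (R ⧸ I)).symm.toAlgHom

lemma chi_algebraMap (hv : ∀ s, MvPolynomial.map (Ideal.Quotient.mk I) (v s) = Pb.relation s)
    (q : MvPolynomial ι (R ⧸ I)) :
    chi I Pb v hv (algebraMap Pb.Ring Sb q) = chi0 I Pb v q := by
  have : (Pb.quotientEquiv.restrictScalars (R ⧸ I)).symm (algebraMap Pb.Ring Sb q) =
      Ideal.Quotient.mk Pb.ker q := by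
    rw [AlgEquiv.symm_apply_eq]
    rfl
  show (Ideal.Quotient.liftₐ Pb.ker (chi0 I Pb v) (chi0_ker I Pb v hv))
    ((Pb.quotientEquiv.restrictScalars (R ⧸ I)).symm (algebraMap Pb.Ring Sb q)) = _
  rw [this]
  rfl

theorem exists_equiv (hv : ∀ s, MvPolynomial.map (Ideal.Quotient.mk I) (v s) = Pb.relation s) :
    Nonempty (((R ⧸ I) ⊗[R] Localization.Away (P0 I Pb v).jacobian) ≃ₐ[R ⧸ I] Sb) := by
  refine ⟨AlgEquiv.ofAlgHom (psi' I Pb v hv) (chi I Pb v hv) ?_ ?_⟩
  · -- psi' ∘ chi = id
    refine AlgHom.ext fun x => ?_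
    obtain ⟨q, rfl⟩ := Pb.algebraMap_surjective x
    show psi' I Pb v hv (chi I Pb v hv (algebraMap Pb.Ring Sb q)) = algebraMap Pb.Ring Sb q
    rw [chi_algebraMap, Algebra.Generators.algebraMap_apply]
    have : (psi' I Pb v hv).comp (chi0 I Pb v) = MvPolynomial.aeval (R := R ⧸ I) Pb.val := by
      apply MvPolynomial.algHom_ext
      intro i
      simp only [AlgHom.comp_apply, chi0, MvPolynomial.aeval_X, psi',
        Algebra.TensorProduct.lift_tmul, map_one, one_mul, psi_algebraMap]
      exact (psi1_mk I Pb v hv _).trans (MvPolynomial.aeval_X _ _)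
    exact congr($this q)
  · -- chi ∘ psi' = id
    apply Algebra.TensorProduct.ext
    · ext
    · apply IsLocalization.algHom_ext (Submonoid.powers (P0 I Pb v).jacobian)
      apply Ideal.Quotient.algHom_ext
      apply MvPolynomial.algHom_ext
      intro i
      simp only [AlgHom.comp_apply, AlgHom.restrictScalars_apply,
        Algebra.TensorProduct.includeRight_apply, AlgHom.id_apply, IsScalarTower.coe_toAlgHom',
        Ideal.Quotient.mkₐ_eq_mk, psi', Algebra.TensorProduct.lift_tmul, map_one, one_mul,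
        ]
      show chi I Pb v hv (psi I Pb v hv (algebraMap (S0 v) (Localization.Away (P0 I Pb v).jacobian)
        (Ideal.Quotient.mk _ (MvPolynomial.X i)))) =
        1 ⊗ₜ[R] algebraMap (S0 v) (Localization.Away (P0 I Pb v).jacobian)
          (Ideal.Quotient.mk _ (MvPolynomial.X i))
      rw [psi_algebraMap, psi1_mk, MvPolynomial.aeval_X]
      have : Pb.val i = algebraMap Pb.Ring Sb (MvPolynomial.X i) := by
        rw [Algebra.Generators.algebraMap_apply, MvPolynomial.aeval_X]
      rw [this, chi_algebraMap, chi0, MvPolynomial.aeval_X]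

end Aux

open TensorProduct in
/-- Étale algebras lift along surjections: for an ideal I of R and an étale (R/I)-algebra S̄ there is an
étale R-algebra S with (R/I) ⊗_R S ≅ S̄ over R/I. -/
theorem result (R : Type u) [CommRing R] (I : Ideal R) (Sb : Type u)
    [CommRing Sb] [Algebra (R ⧸ I) Sb] [Algebra.Etale (R ⧸ I) Sb] :
    ∃ (S : Type u) (_ : CommRing S) (_ : Algebra R S), Algebra.Etale R S ∧
      Nonempty (((R ⧸ I) ⊗[R] S) ≃ₐ[R ⧸ I] Sb) := by
  classical
  obtain ⟨ι, σ, hσ, hι, Pb, hdim⟩ :=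
    (Algebra.Etale.iff_isStandardSmoothOfRelativeDimension_zero.mp
      ‹Algebra.Etale (R ⧸ I) Sb›).out
  haveI := hσ
  haveI := hι
  letI : Algebra R Sb := ((algebraMap (R ⧸ I) Sb).comp (Ideal.Quotient.mk I)).toAlgebra
  haveI : IsScalarTower R (R ⧸ I) Sb := IsScalarTower.of_algebraMap_eq' rfl
  have hsurj : Function.Surjective (MvPolynomial.map (σ := ι) (Ideal.Quotient.mk I)) :=
    MvPolynomial.map_surjective _ Ideal.Quotient.mk_surjective
  choose v hv using fun s : σ => hsurj (Pb.relation s)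
  exact ⟨Localization.Away (P0 I Pb v).jacobian, inferInstance, inferInstance,
    etale_S I Pb v hdim, exists_equiv I Pb v hv⟩

end Groth.Agent.S9436
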