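import Groth.Statements.S15622
import Groth.Agent.Lib.Helper89.SchFinBC
import Mathlib.RingTheory.Etale.Pi
import Mathlib.CategoryTheory.Limits.Shapes.BinaryProducts
import Mathlib.CategoryTheory.Limits.Shapes.Terminal

set_option autoImplicit false
universe u
open SchFin SchFin.FEt

namespace Groth.Agent.S15622

open SchFin CategoryTheory CategoryTheory.Limits Groth.Agent.Lib.Helper89.SchFinBC

/-- pointwise product of a family of algebras -/
def piAlg {X : RSpace.{u}} {J : Type} (A : J → Alg X) : Alg X where
  carrier p := ∀ j, (A j).carrier p
  res {p q} h := RingHom.pi (fun j => ((A j).res h).comp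
    (Pi.evalRingHom (fun j => (A j).carrier p) j))
  res_algebraMap h a := by funext j; exact (A j).res_algebraMap h a
  res_self p b := by funext j; exact (A j).res_self p (b j)
  res_comp h h' b := by funext j; exact (A j).res_comp h h' (b j)

theorem piAlg_isEtCover {X : RSpace.{u}} {J : Type} [Finite J] (A : J → Alg X)
    (hA : ∀ j, (A j).IsEtCover) : (piAlg A).IsEtCover := by
  refine ⟨?_, fun p => ⟨?_, ?_⟩⟩
  · intro p q h
    exact isBCAlong_pi (X.res h) (fun j => (A j).toMod.res h) (fun j => (hA j).1 p q h)
      ((piAlg A).toMod.res h) (fun m j => rfl)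
  · have : ∀ j, Module.Finite (X.ring p) ((A j).carrier p) := fun j => ((hA j).2 p).1
    exact (inferInstance : Module.Finite (X.ring p) (∀ j, (A j).carrier p))
  · have : ∀ j, Algebra.Etale (X.ring p) ((A j).carrier p) := fun j => ((hA j).2 p).2
    exact (inferInstance : Algebra.Etale (X.ring p) (∀ j, (A j).carrier p))

/-- the product object -/
def piFEt {X : RSpace.{u}} {J : Type} [Finite J] (A : J → FEt X) : FEt X :=
  ⟨piAlg (fun j => (A j).obj), piAlg_isEtCover _ (fun j => (A j).property)⟩

/-- projections -/
def piProj {X : RSpace.{u}} {J : Type} [Finite J] (A : J → FEt X) (j : J) : piFEt A ⟶ A j :=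
  ObjectProperty.homMk
    (⟨fun p => Pi.evalAlgHom (X.ring p) (fun j => (A j).obj.carrier p) j, fun _ _ => rfl⟩ :
      Alg.Hom (piAlg (fun j => (A j).obj)) (A j).obj)

theorem hasLimit_discrete_functor {X : RSpace.{u}} {J : Type} [Finite J] (A : J → FEt X) :
    HasLimit (Discrete.functor A) := by
  refine HasLimit.mk ⟨Fan.mk (piFEt A) (piProj A), ?_⟩
  refine Fan.IsLimit.mk _ (fun s => ObjectProperty.homMk
    (⟨fun p => AlgHom.pi
        (fun j => (s.proj j).hom.app p), fun {p q} h b => by
      funext j
      exact (s.proj j).hom.compat h b⟩ : Alg.Hom s.pt.obj (piAlg (fun j => (A j).obj)))) ?_ ?_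
  · intro s j
    apply ObjectProperty.hom_ext
    apply Alg.hom_ext
    intro p
    rfl
  · intro s m hm
    apply ObjectProperty.hom_ext
    apply Alg.hom_ext
    intro p
    apply AlgHom.ext
    intro b
    funext j
    have := congrArg (fun t => t.hom.app p b) (hm j)
    exact this

theorem hasLimitsOfShape_discrete (X : RSpace.{u}) (J : Type) [Finite J] :
    HasLimitsOfShape (Discrete J) (FEt X) :=
  ⟨fun F => by
    have := hasLimit_discrete_functor (F.obj ∘ Discrete.mk)
    exact hasLimit_of_iso (Discrete.natIsoFunctor (F := F)).symm⟩


open SchFin CategoryTheory CategoryTheory.Limits in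
/-- For a schematic finite space, the category of étale covers (quasi-coherent algebras whose value at
every point is finite and étale over the ring of that point) has a terminal object and has binary
products. (In the published statement: finite direct products, the terminal object being the zero
algebra.) -/
theorem result (X : RSpace.{u}) (hX : X.IsSchematic) :
    HasTerminal (FEt X) ∧ HasBinaryProducts (FEt X) := by
  exact ⟨hasLimitsOfShape_discrete X PEmpty, hasLimitsOfShape_discrete X WalkingPair⟩

end Groth.Agent.S15622
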