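import Groth.Statements.S15626
import Groth.Agent.Lib.Helper89.FEtProd

set_option autoImplicit false
universe u
open SchFin SchFin.FEt

namespace Groth.Agent.S15626

open SchFin CategoryTheory in
/-- Over a schematic finite space, a monomorphism in the category of étale covers is injective at every
point (the converse implication being elementary). -/
theorem result (X : RSpace.{u}) (hX : X.IsSchematic) {A B : FEt X} (f : A ⟶ B)
    [Mono f] (p : X.pt) : Function.Injective (f.hom.app p) := by
  open Groth.Agent.Lib.Helper89.FEtBasic Groth.Agent.Lib.Helper89.FEtProd in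
  obtain ⟨E, hE⟩ := exists_kerIdem hX f
  have hmem : ∀ p (a : A.obj.carrier p), f.hom.app p a = 0 ↔ a ∈ Ideal.span {E.e p} := by
    intro p a
    rw [← hE p]
    exact Iff.rfl
  have hf0 : ∀ p, f.hom.app p (E.e p) = 0 := fun p => (hmem p _).mpr (Ideal.subset_span rfl)
  have hcomp : idemHom A E ≫ f = idemHom A (IdemFam.zero A.obj) ≫ f := by
    apply ObjectProperty.hom_ext
    apply Alg.hom_ext
    intro q
    apply AlgHom.ext
    intro v
    change f.hom.app q ((idemHom A E).hom.app q v) =
      f.hom.app q ((idemHom A (IdemFam.zero A.obj)).hom.app q v)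
    have h1 : ∀ v' : Bool → X.ring q, f.hom.app q ((idemHom A E).hom.app q v') =
        f.hom.app q ((idemHom A (IdemFam.zero A.obj)).hom.app q v') := by
      intro v'
      rw [idemHom_apply, idemHom_apply]
      change f.hom.app q (v' true • E.e q + v' false • (1 - E.e q)) =
        f.hom.app q (v' true • (0 : A.obj.carrier q) + v' false • (1 - (0 : A.obj.carrier q)))
      rw [map_add, map_smul, map_smul, map_sub, hf0, map_add, map_smul, map_smul, map_sub,
        map_zero]
    exact h1 v
  have heq : idemHom A E = idemHom A (IdemFam.zero A.obj) := (cancel_mono f).mp hcomp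
  have he0 : E.e p = 0 := by
    have h3 : ∀ v' : Bool → X.ring p, (idemHom A E).hom.app p v' =
        (idemHom A (IdemFam.zero A.obj)).hom.app p v' :=
      fun v' => congrArg (fun g => g.hom.app p v') heq
    have h4 : ∀ v' : Bool → X.ring p, v' true • E.e p + v' false • (1 - E.e p) =
        v' true • (0 : A.obj.carrier p) + v' false • (1 - (0 : A.obj.carrier p)) :=
      fun v' => (idemHom_apply A E p v').symm.trans
        ((h3 v').trans (idemHom_apply A (IdemFam.zero A.obj) p v'))
    have h5 := h4 (fun b => cond b 1 0)
    simpa using h5
  rw [injective_iff_map_eq_zero]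
  intro a ha
  have := (hmem p a).mp ha
  rw [he0] at this
  simpa using this

end Groth.Agent.S15626
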