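import Groth.Statements.S15628
import Groth.Agent.Lib.Helper89.FEtProd

set_option autoImplicit false
universe u
open SchFin SchFin.FEt

namespace Groth.Agent.S15628

open SchFin CategoryTheory CategoryTheory.Limits in
/-- Over a schematic finite space, a morphism f from an étale cover A to an étale cover B which is
surjective at every point identifies B with a direct factor of A: there are an étale cover D and a
morphism from A to D which together with f exhibit A as the product of B and D in the category of
étale covers. (The published statement assumes f an epimorphism of étale covers and first shows that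
epimorphisms are exactly the pointwise surjective morphisms, a step resting on an extension result
for quasi-coherent modules recalled there without proof; this row takes f surjective at every
point.) -/
theorem result (X : RSpace.{u}) (hX : X.IsSchematic)
    {A B : FEt X} (f : A ⟶ B) (hf : ∀ p : X.pt, Function.Surjective (f.hom.app p)) :
    ∃ (D : FEt X) (π : A ⟶ D), Nonempty (IsLimit (BinaryFan.mk f π)) := by
  open Groth.Agent.Lib.Helper89.FEtBasic Groth.Agent.Lib.Helper89.FEtProd in
  obtain ⟨E, hE⟩ := exists_kerIdem hX f
  have hmem : ∀ p (a : A.obj.carrier p), f.hom.app p a = 0 ↔ a ∈ Ideal.span {E.e p} := by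
    intro p a
    rw [← hE p]
    exact Iff.rfl
  have hf0 : ∀ p, f.hom.app p (E.e p) = 0 := fun p => (hmem p _).mpr (Ideal.subset_span rfl)
  refine ⟨quotFEt A E.compl, quotProj A E.compl, isLimit_binaryFan_of_bijective _ _ fun p => ?_⟩
  constructor
  · rw [injective_iff_map_eq_zero]
    intro a ha
    have h1 : f.hom.app p a = 0 := congrArg Prod.fst ha
    have h2 : (quotProj A E.compl).hom.app p a = 0 := congrArg Prod.snd ha
    obtain ⟨c, hc⟩ := Ideal.mem_span_singleton'.mp ((hmem p a).mp h1)
    obtain ⟨d, hd⟩ := Ideal.mem_span_singleton'.mp ((quotProj_eq_zero_iff A E.compl p a).mp h2)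
    change d * (1 - E.e p) = a at hd
    have he := (E.idem p).eq
    have h3 : a * E.e p = a := by rw [← hc]; linear_combination c * he
    have h4 : a * E.e p = 0 := by rw [← hd]; linear_combination (-d) * he
    rw [← h3, h4]
  · rintro ⟨b, d⟩
    obtain ⟨a₁, rfl⟩ := hf p b
    obtain ⟨a₂, rfl⟩ := quotProj_surjective A E.compl p d
    refine ⟨a₁ * (1 - E.e p) + a₂ * E.e p, Prod.ext ?_ ?_⟩
    · change f.hom.app p (a₁ * (1 - E.e p) + a₂ * E.e p) = f.hom.app p a₁
      rw [map_add, map_mul, map_mul, map_sub, hf0, map_one, sub_zero, mul_one, mul_zero, add_zero]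
    · change (quotProj A E.compl).hom.app p (a₁ * (1 - E.e p) + a₂ * E.e p) =
        (quotProj A E.compl).hom.app p a₂
      rw [← sub_eq_zero, ← map_sub, quotProj_eq_zero_iff]
      change _ ∈ Ideal.span {1 - E.e p}
      rw [Ideal.mem_span_singleton']
      exact ⟨a₁ - a₂, by ring⟩

end Groth.Agent.S15628
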