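import Groth.Statements.S0243
import Groth.Agent.Lib.Helper89.FEtFaithful

set_option autoImplicit false
universe u
open Pi1

namespace Groth.Agent.S0243

open AlgebraicGeometry CategoryTheory CategoryTheory.Limits in
/-- If a closed subscheme meets every connected component of the ambient scheme, restricting finite
etale covers to it is a faithful functor. -/
theorem result {X Y : Scheme.{u}} (i : Y ⟶ X) [IsClosedImmersion i]
    (h : ∀ x : X, (connectedComponent x ∩ Set.range i.base).Nonempty) :
    (FEt.restrict i).Faithful := by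
  refine ⟨fun {Y₁ Y₂} a b hab => ?_⟩
  have hfst : ∀ g : Y₁ ⟶ Y₂, ((FEt.restrict i).map g).left ≫ pullback.fst Y₂.hom i =
      pullback.fst Y₁.hom i ≫ g.left := fun g => by
    simp only [FEt.restrict, MorphismProperty.Over.pullback]
    exact pullback.lift_fst _ _ _
  have key : pullback.fst Y₁.hom i ≫ a.left = pullback.fst Y₁.hom i ≫ b.left := by
    rw [← hfst a, ← hfst b, hab]
  have : IsFinite Y₁.hom := Y₁.prop.1
  have : Etale Y₁.hom := Y₁.prop.2
  have : IsFinite Y₂.hom := Y₂.prop.1
  have : Etale Y₂.hom := Y₂.prop.2
  have := Groth.Agent.Lib.Helper89.FEtFaithful.eq_of_pullback_eq i Y₁.hom Y₂.hom a.left b.left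
    (Over.w a.hom) (Over.w b.hom) h key
  ext1
  exact this

end Groth.Agent.S0243
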