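import Groth.Statements.S0268
import Groth.Agent.Lib.Helper89.FEtFF
import Groth.Agent.Lib.Helper89.FEtField

set_option autoImplicit false
universe u
open Pi1

namespace Groth.Agent.S0268

open AlgebraicGeometry CategoryTheory CategoryTheory.Limits in
/-- Functor form of the surjectivity of pi_1(X) -> pi_1(Spec k): Let X be quasi-compact and
quasi-separated over a field k with X_{kbar} connected. Then the functor pulling back finite etale
k-schemes to X is full and faithful. -/
theorem result (k : Type u) [Field k] {X : Scheme.{u}} (f : X ⟶ Spec (CommRingCat.of k)) [CompactSpace X]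
    [QuasiSeparatedSpace X]
    [ConnectedSpace ↥(pullback f (Spec.map (CommRingCat.ofHom (algebraMap k (AlgebraicClosure k)))))] :
    (FEt.restrict f).Full ∧ (FEt.restrict f).Faithful := by
  refine Groth.Agent.Lib.Helper89.FEtFF.full_faithful_of_clopen f
    (Groth.Agent.Lib.Helper89.FEtFF.clopenInj_of_pullback f ?_)
    (Groth.Agent.Lib.Helper89.FEtFF.clopenSurj_of_pullback f ?_)
  · intro W p _ _ R hR hpre
    rw [Set.eq_univ_iff_forall]
    intro w
    obtain ⟨z, hz⟩ := (Groth.Agent.Lib.Helper89.FEtField.isConnected_fiber k f p w).nonempty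
    have : z ∈ (pullback.fst p f).base ⁻¹' R := by rw [hpre]; trivial
    rw [Set.mem_preimage, Set.mem_singleton_iff] at hz
    rw [← hz]
    exact this
  · intro W p _ _ T hT
    have : DiscreteTopology W := Groth.Agent.Lib.Helper89.FEtField.discreteTopology_of_isFinite k p
    refine ⟨(pullback.fst p f).base '' T, isClopen_discrete _, ?_⟩
    apply Set.Subset.antisymm
    · rintro z ⟨t, ht, htz⟩
      have hc := (Groth.Agent.Lib.Helper89.FEtField.isConnected_fiber k f p
        ((pullback.fst p f).base t)).isPreconnected
      exact hc.subset_isClopen hT ⟨t, rfl, ht⟩ htz.symm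
    · exact Set.subset_preimage_image _ _

end Groth.Agent.S0268
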