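import Groth.Statements.S17713
import Groth.Agent.Lib.Helper89.Jets

set_option autoImplicit false
open MoretBailly

namespace Groth.Agent.S17713

open PowerSeries Groth.Agent.Lib.Helper89

theorem rescale_zero_exp : rescale (0 : ℚ) (exp ℚ) = 1 := by
  rw [rescale_zero_apply]
  simp

theorem exp_mul_exp_neg : exp ℚ * rescale (-1 : ℚ) (exp ℚ) = 1 := by
  have := exp_mul_exp_eq_exp_add (A := ℚ) (1 : ℚ) (-1)
  rw [rescale_one, RingHom.id_apply, add_neg_cancel, rescale_zero_exp] at this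
  exact this

theorem exp_sub_one_ne_zero : exp ℚ - 1 ≠ 0 := by
  intro h
  have := congrArg (coeff 1) h
  simp [coeff_exp] at this

theorem rescale_neg_one_bernoulli' :
    rescale (-1 : ℚ) (bernoulli'PowerSeries ℚ) * exp ℚ = bernoulli'PowerSeries ℚ := by
  have h1 := bernoulli'PowerSeries_mul_exp_sub_one ℚ
  have h2 := congrArg (rescale (-1 : ℚ)) h1
  rw [map_mul, map_mul, map_sub, map_one, rescale_X] at h2
  -- h2 : rescale(-1) B' * (E' - 1) = C (-1) * X * E'
  have h3 : rescale (-1 : ℚ) (bernoulli'PowerSeries ℚ) * (exp ℚ - 1) = X := by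
    have e1 : exp ℚ - 1 = (rescale (-1 : ℚ) (exp ℚ) - 1) * (- exp ℚ) := by
      have := exp_mul_exp_neg
      linear_combination this
    rw [e1, ← mul_assoc, h2]
    have := exp_mul_exp_neg
    have hC : (C (-1 : ℚ) : PowerSeries ℚ) = -1 := by simp
    rw [hC]
    linear_combination (X : PowerSeries ℚ) * this
  apply mul_right_cancel₀ exp_sub_one_ne_zero
  rw [h1, mul_assoc, mul_comm (exp ℚ) (exp ℚ - 1), ← mul_assoc, h3]

theorem rescale_neg_bernoulli' (c : ℚ) :
    rescale (-c) (bernoulli'PowerSeries ℚ) * rescale c (exp ℚ) =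
      rescale c (bernoulli'PowerSeries ℚ) := by
  have := congrArg (rescale c) rescale_neg_one_bernoulli'
  rw [map_mul, rescale_rescale, neg_one_mul] at this
  exact this

theorem coeff_rescale_bernoulli' (c : ℚ) (j : ℕ) :
    coeff j (rescale c (bernoulli'PowerSeries ℚ)) = c ^ j * (bernoulli' j / (Nat.factorial j : ℚ)) := by
  rw [coeff_rescale, bernoulli'PowerSeries, coeff_mk]
  simp

theorem coeff_zero_pow' (f : PowerSeries ℚ) (m : ℕ) : coeff 0 (f ^ m) = (coeff 0 f) ^ m := by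
  induction m with
  | zero => simp
  | succ m ih => rw [pow_succ, coeff_zero_mul', ih, pow_succ]

theorem coeff_one_pow' (f : PowerSeries ℚ) (h0 : coeff 0 f = 1) (m : ℕ) :
    coeff 1 (f ^ m) = m * coeff 1 f := by
  induction m with
  | zero => simp
  | succ m ih =>
    rw [pow_succ, coeff_one_mul', ih, coeff_zero_pow', h0, one_pow]
    push_cast
    ring


/-- Let n ≥ 2 and d ≥ 1 be natural numbers and s an integer, and write B(x) = x/(1 - e^(-x)) for the
exponential generating series of the Bernoulli numbers B'_i (convention B'_1 = 1/2). For a natural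
number p consider the product B(-dx)^(-1) B(-dpx) B(x)^(n+1) e^((dp-d-n-1+s)x) in ℚ[[x]] (the
Todd-class integrand of a Hirzebruch–Riemann–Roch computation) and let λ_n(p) be its coefficient of
x^n. Then λ_n(p) is a polynomial in p whose two top terms are B'_n (dp)^n/n! and ((2s-d-n-1)/2)
B'_(n-1) (dp)^(n-1)/(n-1)!: there is a polynomial P over ℚ of degree at most n - 2 with λ_n(p) equal
to the sum of these two terms and P(p), for every p. -/
theorem result (n d : ℕ) (s : ℤ) (hn : 2 ≤ n) (hd : 1 ≤ d) :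
    ∃ P : Polynomial ℚ, P.natDegree ≤ n - 2 ∧ ∀ p : ℕ,
      PowerSeries.coeff n ((PowerSeries.rescale (-(d : ℚ)) (bernoulli'PowerSeries ℚ))⁻¹ * PowerSeries.rescale (-((d : ℚ) * p)) (bernoulli'PowerSeries ℚ) * bernoulli'PowerSeries ℚ ^ (n + 1) * PowerSeries.rescale ((d : ℚ) * p - d - n - 1 + s) (PowerSeries.exp ℚ)) =
        bernoulli' n * ((d : ℚ) * p) ^ n / (Nat.factorial n : ℚ) +
          (2 * (s : ℚ) - d - n - 1) / 2 * bernoulli' (n - 1) * ((d : ℚ) * p) ^ (n - 1) / (Nat.factorial (n - 1) : ℚ) +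
          P.eval (p : ℚ) := by
  classical
  set b : ℚ := (s : ℚ) - d - n - 1 with hb
  set Ecal : PowerSeries ℚ := (rescale (-(d : ℚ)) (bernoulli'PowerSeries ℚ))⁻¹ *
    (bernoulli'PowerSeries ℚ) ^ (n + 1) * rescale b (exp ℚ) with hE
  have hfactor : ∀ p : ℕ, (rescale (-(d : ℚ)) (bernoulli'PowerSeries ℚ))⁻¹ *
      rescale (-((d : ℚ) * p)) (bernoulli'PowerSeries ℚ) * (bernoulli'PowerSeries ℚ) ^ (n + 1) *
      rescale ((d : ℚ) * p - d - n - 1 + s) (exp ℚ) =
      rescale ((d : ℚ) * p) (bernoulli'PowerSeries ℚ) * Ecal := by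
    intro p
    have e1 : (d : ℚ) * p - d - n - 1 + s = (d : ℚ) * p + b := by rw [hb]; ring
    rw [e1, ← exp_mul_exp_eq_exp_add, ← rescale_neg_bernoulli' ((d : ℚ) * p), hE]
    ring
  -- low coefficients of Ecal
  have hB0 : coeff 0 (bernoulli'PowerSeries ℚ) = 1 := coeff_zero_bernoulli'
  have hB1 : coeff 1 (bernoulli'PowerSeries ℚ) = 1 / 2 := coeff_one_bernoulli'
  have hR0 : coeff 0 (rescale (-(d : ℚ)) (bernoulli'PowerSeries ℚ)) = 1 := by
    rw [coeff_rescale, hB0]; simp
  have hR1 : coeff 1 (rescale (-(d : ℚ)) (bernoulli'PowerSeries ℚ)) = -(d : ℚ) / 2 := by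
    rw [coeff_rescale, hB1]; ring
  have hX0 : coeff 0 (rescale b (exp ℚ)) = 1 := by rw [coeff_rescale]; simp
  have hX1 : coeff 1 (rescale b (exp ℚ)) = b := by rw [coeff_rescale, coeff_exp]; simp
  have hE0 : coeff 0 Ecal = 1 := by
    rw [hE, coeff_zero_mul', coeff_zero_mul', coeff_zero_inv' _ hR0, coeff_zero_pow', hB0, hX0]
    simp
  have hE1 : coeff 1 Ecal = (2 * (s : ℚ) - d - n - 1) / 2 := by
    rw [hE, coeff_one_mul', coeff_zero_mul', coeff_one_mul', coeff_zero_inv' _ hR0,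
      coeff_one_inv' _ hR0, coeff_zero_pow', coeff_one_pow' _ hB0, hB0, hB1, hX0, hX1, hR1, hb]
    push_cast
    ring
  obtain ⟨m, rfl⟩ : ∃ m, n = m + 2 := ⟨n - 2, by omega⟩
  refine ⟨∑ j ∈ Finset.range (m + 1), Polynomial.C (coeff (m + 2 - j) Ecal * ((d : ℚ) ^ j *
      (bernoulli' j / (Nat.factorial j : ℚ)))) * Polynomial.X ^ j, ?_, ?_⟩
  · apply Polynomial.natDegree_sum_le_of_forall_le
    intro j hj
    have hj' : j ≤ m := Nat.lt_succ_iff.mp (Finset.mem_range.mp hj)
    calc _ ≤ j := Polynomial.natDegree_C_mul_X_pow_le _ _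
      _ ≤ m + 2 - 2 := by omega
  · intro p
    rw [hfactor, coeff_mul, Finset.Nat.sum_antidiagonal_eq_sum_range_succ_mk,
      Finset.sum_range_succ, Finset.sum_range_succ]
    simp only [coeff_rescale_bernoulli', Polynomial.eval_finsetSum, Polynomial.eval_mul,
      Polynomial.eval_C, Polynomial.eval_pow, Polynomial.eval_X]
    have h1 : m + 2 - (m + 1) = 1 := by omega
    have h2 : m + 2 - (m + 2) = 0 := by omega
    rw [h1, h2, hE0, hE1]
    have hsum : ∑ x ∈ Finset.range (m + 1), ((d : ℚ) * p) ^ x *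
        (bernoulli' x / (x.factorial : ℚ)) * coeff (m + 2 - x) Ecal =
        ∑ x ∈ Finset.range (m + 1), coeff (m + 2 - x) Ecal * ((d : ℚ) ^ x *
          (bernoulli' x / (x.factorial : ℚ))) * (p : ℚ) ^ x := by
      apply Finset.sum_congr rfl
      intro x _
      rw [mul_pow]; ring
    rw [hsum]
    push_cast
    ring

end Groth.Agent.S17713
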