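import Groth.Statements.S5266
import Groth.Agent.Lib.Helper40.FpqcCov
import Groth.Agent.S0084
import Mathlib

set_option autoImplicit false
open CategoryTheory MonoidalCategory CartesianMonoidalCategory MonObj GrpObj AlgebraicGeometry
universe u
open SGA3x

namespace Groth.Agent.S5266

open Limits

section sub

variable {T W : Scheme.{u}} {I : Type u}

/-- the structure map of the constant scheme -/
noncomputable abbrev dd (T : Scheme.{u}) (I : Type u) : (∐ fun _ : I => T) ⟶ T :=
  Sigma.desc fun _ : I => 𝟙 T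

lemma ι_dd (i : I) : Sigma.ι (fun _ : I => T) i ≫ dd T I = 𝟙 T := by simp [dd]

lemma exists_component (x : ↥(∐ fun _ : I => T)) : ∃ (i : I) (y : T), Sigma.ι (fun _ : I => T) i y = x := by
  obtain ⟨i, y, h⟩ := (sigmaOpenCover (fun _ : I => T)).exists_eq x
  exact ⟨i, y, h⟩

lemma existence_dd_comp (c : W ⟶ ∐ fun _ : I => T) [IsClosedImmersion c] :
    ValuativeCriterion.Existence (c ≫ dd T I) := by
  intro S
  -- the point of Spec K
  obtain ⟨i, y, hy⟩ := exists_component ((S.i₁ ≫ c) (IsLocalRing.closedPoint S.K))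
  have hrange : Set.range (S.i₁ ≫ c).base ⊆ Set.range (Sigma.ι (fun _ : I => T) i).base := by
    rintro _ ⟨p, rfl⟩
    have : p = IsLocalRing.closedPoint S.K := Subsingleton.elim _ _
    rw [this]
    exact ⟨y, hy⟩
  let k := IsOpenImmersion.lift (Sigma.ι (fun _ : I => T) i) (S.i₁ ≫ c) hrange
  have hk : k ≫ Sigma.ι (fun _ : I => T) i = S.i₁ ≫ c := IsOpenImmersion.lift_fac _ _ _
  have hw := S.commSq.w
  have sq' : CommSq S.i₁ (Spec.map (CommRingCat.ofHom (algebraMap S.R S.K))) c
      (S.i₂ ≫ Sigma.ι (fun _ : I => T) i) := by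
    constructor
    calc S.i₁ ≫ c = k ≫ Sigma.ι (fun _ : I => T) i := hk.symm
      _ = k ≫ (Sigma.ι (fun _ : I => T) i ≫ dd T I) ≫ Sigma.ι (fun _ : I => T) i := by
          rw [ι_dd, Category.id_comp]
      _ = (S.i₁ ≫ c ≫ dd T I) ≫ Sigma.ι (fun _ : I => T) i := by
          simp only [Category.assoc]; rw [reassoc_of% hk]
      _ = Spec.map (CommRingCat.ofHom (algebraMap S.R S.K)) ≫ S.i₂ ≫ Sigma.ι (fun _ : I => T) i := by
          rw [hw, Category.assoc]
  have hc : ValuativeCriterion.Existence c := by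
    have : UniversallyClosed c := inferInstance
    rw [UniversallyClosed.eq_valuativeCriterion] at this
    exact this.1
  obtain ⟨⟨l, h1, h2⟩⟩ := hc ⟨S.R, S.K, S.i₁, _, sq'⟩
  exact ⟨⟨l, h1, by rw [← Category.assoc, h2, Category.assoc, ι_dd, Category.comp_id]⟩⟩

open scoped Function in
lemma isAffineHom_dd_comp (c : W ⟶ ∐ fun _ : I => T) [IsClosedImmersion c]
    [QuasiCompact (c ≫ dd T I)] : IsAffineHom (c ≫ dd T I) := by
  constructor
  intro V hV
  let A : I → W.Opens := fun i => c ⁻¹ᵁ ((Sigma.ι (fun _ : I => T) i) ''ᵁ V)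
  have hA : ∀ i, IsAffineOpen (A i) := fun i => (hV.image_of_isOpenImmersion _).preimage c
  have hdd : ∀ (i : I) (y : T), (dd T I) (Sigma.ι (fun _ : I => T) i y) = y := by
    intro i y
    rw [← Scheme.Hom.comp_apply, ι_dd]; rfl
  have hdisj : Pairwise (Disjoint on A) := by
    intro i j hij
    have h1 := disjoint_opensRange_sigmaι (fun _ : I => T) i j hij
    rw [Function.onFun, disjoint_iff, eq_bot_iff]
    rintro x ⟨hx1, hx2⟩
    obtain ⟨y1, -, hy1⟩ := hx1
    obtain ⟨y2, -, hy2⟩ := hx2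
    have : c x ∈ (Sigma.ι (fun _ : I => T) i).opensRange ⊓ (Sigma.ι (fun _ : I => T) j).opensRange :=
      ⟨⟨y1, hy1⟩, ⟨y2, hy2⟩⟩
    rw [disjoint_iff.mp h1] at this
    exact this
  have hcover : (c ≫ dd T I) ⁻¹ᵁ V = ⨆ i, A i := by
    ext x
    rw [SetLike.mem_coe, SetLike.mem_coe, TopologicalSpace.Opens.mem_iSup]
    constructor
    · intro hx
      obtain ⟨i, y, hy⟩ := exists_component (c x)
      refine ⟨i, y, ?_, hy⟩
      have : (dd T I) (c x) ∈ V := hx
      rwa [← hy, hdd] at this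
    · rintro ⟨i, y, hyV, hy⟩
      show (dd T I) (c x) ∈ V
      have h2 : (dd T I) (c x) = y := by rw [← hy]; exact hdd i y
      rw [h2]; exact hyV
  have hcomp : IsCompact (((c ≫ dd T I) ⁻¹ᵁ V : W.Opens) : Set W) :=
    QuasiCompact.isCompact_preimage (f := c ≫ dd T I) _ V.isOpen hV.isCompact
  obtain ⟨F, hF⟩ := hcomp.elim_finite_subcover (fun i => ((A i : W.Opens) : Set W))
    (fun i => (A i).isOpen) (by
      rw [hcover]; intro x hx
      simpa using hx)
  have heq : (c ≫ dd T I) ⁻¹ᵁ V = ⨆ i ∈ (F : Set I), A i := by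
    apply le_antisymm
    · intro x hx
      have := hF hx
      simp only [Set.mem_iUnion] at this
      obtain ⟨i, hi, hxi⟩ := this
      simp only [TopologicalSpace.Opens.mem_iSup]
      exact ⟨i, hi, hxi⟩
    · rw [hcover]; exact iSup₂_le (fun i _ => le_iSup A i)
  rw [heq]
  exact IsAffineOpen.biSup_of_disjoint F.finite_toSet (fun i _ => hA i) (fun i _ j _ h => hdisj h)

theorem finite_dd_comp (c : W ⟶ ∐ fun _ : I => T) [IsClosedImmersion c]
    [QuasiCompact (c ≫ dd T I)] : IsFinite (c ≫ dd T I) := by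
  have h1 : IsAffineHom (c ≫ dd T I) := isAffineHom_dd_comp c
  have h2 : UniversallyClosed (c ≫ dd T I) :=
    UniversallyClosed.of_valuativeCriterion _ (existence_dd_comp c)
  have h3 : LocallyOfFiniteType (dd T I) := by
    have : IsZariskiLocalAtSource @LocallyOfFiniteType.{u} :=
      HasRingHomProperty.instIsZariskiLocalAtSource
    exact IsZariskiLocalAtSource.sigmaDesc (P := @LocallyOfFiniteType.{u}) (fun _ => inferInstance)
  have h4 : LocallyOfFiniteType (c ≫ dd T I) := inferInstance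
  have h5 : IsIntegralHom (c ≫ dd T I) := by
    rw [IsIntegralHom.iff_universallyClosed_and_isAffineHom]
    exact ⟨h2, h1⟩
  rw [IsFinite.iff_isIntegralHom_and_locallyOfFiniteType]
  exact ⟨h5, h4⟩

end sub

section key

open MorphismProperty

theorem key {S T Z : Scheme.{u}} (R : Over S) (z : Z ⟶ R.left) [IsClosedImmersion z]
    [QuasiCompact (z ≫ R.hom)] (t : T ⟶ S) (I : Type u) (e : Red.bc t R ≅ TwC.const T I) :
    IsFinite (pullback.snd (z ≫ R.hom) t) := by
  let z' : pullback (z ≫ R.hom) t ⟶ pullback R.hom t :=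
    pullback.lift (pullback.fst (z ≫ R.hom) t ≫ z) (pullback.snd (z ≫ R.hom) t)
      (by rw [Category.assoc]; exact pullback.condition)
  have hz'1 : z' ≫ pullback.fst R.hom t = pullback.fst (z ≫ R.hom) t ≫ z := pullback.lift_fst _ _ _
  have hz'2 : z' ≫ pullback.snd R.hom t = pullback.snd (z ≫ R.hom) t := pullback.lift_snd _ _ _
  have sqtop : IsPullback (pullback.fst (z ≫ R.hom) t) z' z (pullback.fst R.hom t) := by
    refine IsPullback.of_bot ?_ hz'1.symm (IsPullback.of_hasPullback R.hom t)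
    rw [hz'2]
    exact IsPullback.of_hasPullback (z ≫ R.hom) t
  have hz'c : IsClosedImmersion z' := MorphismProperty.of_isPullback sqtop inferInstance
  let c : pullback (z ≫ R.hom) t ⟶ ∐ fun _ : I => T := z' ≫ e.hom.left
  have hc : c ≫ dd T I = pullback.snd (z ≫ R.hom) t := by
    have := Over.w e.hom
    simp only [c, Category.assoc]
    erw [this]
    exact hz'2
  have : IsIso e.hom.left := (CategoryTheory.Over.forget _).map_isIso e.hom
  have hcc : IsClosedImmersion c := inferInstance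
  have hqc : QuasiCompact (c ≫ dd T I) := by rw [hc]; infer_instance
  have := finite_dd_comp c
  rwa [hc] at this

end key

set_option backward.isDefEq.respectTransparency.types false in
theorem main_aux {S : Scheme.{u}} (R : Over S) (hR : TwC.IsTwConst TwC.Topology.fpqc R)
    {Z : Scheme.{u}} (z : Z ⟶ R.left) [IsClosedImmersion z] [QuasiCompact (z ≫ R.hom)] :
    IsFinite (z ≫ R.hom) := by
  obtain ⟨S', f, hflat, hsurj, hqc, hloc⟩ := hR
  have hq : Groth.Agent.Lib.Helper40.FpqcCov.IsQCov f := ⟨hsurj, hflat, hqc⟩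
  have hdesc := Groth.Agent.S0084.result.{u}
  refine hq.descends @IsFinite (IsPullback.of_hasPullback (z ≫ R.hom) f).flip ?_
  choose U hU hP using hloc
  apply IsZariskiLocalAtTarget.of_iSup_eq_top (P := @IsFinite) U
  · rw [eq_top_iff]
    intro x _
    exact TopologicalSpace.Opens.mem_iSup.2 ⟨x, hU x⟩
  intro s'
  obtain ⟨I, ⟨e⟩⟩ := hP s'
  have hk := key R z ((U s').ι ≫ f) I e
  have sq1 := isPullback_morphismRestrict (pullback.snd (z ≫ R.hom) f) (U s')
  have sq2 : IsPullback ((pullback.snd (z ≫ R.hom) f ⁻¹ᵁ U s').ι ≫ pullback.fst (z ≫ R.hom) f)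
      (pullback.snd (z ≫ R.hom) f ∣_ U s') (z ≫ R.hom) ((U s').ι ≫ f) :=
    sq1.flip.paste_horiz (IsPullback.of_hasPullback (z ≫ R.hom) f)
  have h3 : pullback.snd (z ≫ R.hom) f ∣_ U s' =
      sq2.isoPullback.hom ≫ pullback.snd (z ≫ R.hom) ((U s').ι ≫ f) :=
    (sq2.isoPullback_hom_snd).symm
  rw [h3]
  infer_instance

/-- Let R be a twisted constant S-scheme (fpqc-locally on S isomorphic to a constant scheme, the index
set being allowed to vary) and Z a closed subscheme of R which is quasi-compact over S. Then Z is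
finite over S. -/
theorem result {S : Scheme.{u}} (R : Over S) (hR : TwC.IsTwConst TwC.Topology.fpqc R)
    {Z : Scheme.{u}} (z : Z ⟶ R.left) [IsClosedImmersion z] [QuasiCompact (z ≫ R.hom)] :
    IsFinite (z ≫ R.hom) := by
  exact main_aux R hR z

end Groth.Agent.S5266
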