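import Groth.Statements.S12714
import Groth.Agent.S12709
import Groth.Prelude.Def_ArtFun5
import Mathlib.RingTheory.AdicCompletion.Basic

set_option autoImplicit false
universe u v
open CategoryTheory
open ArtFun ArtFun.CRing

namespace Groth.Agent.S12714

/-- For a morphism f : R → S of complete local Noetherian Λ-algebras with residue field k (compatible
with the augmentations to k), the following are equivalent: (1) f is surjective; (2) m_R/m_R² →
m_S/m_S² is surjective, written as f(m_R)S + m_S² = m_S; (3) the map of cotangent spaces relative to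
Λ is surjective, written as m_Λ S + f(m_R)S + m_S² = m_S with m_Λ the kernel of Λ → k. -/
theorem result {Λ : Type u} {k : Type u} [CommRing Λ] [Field k] [Algebra Λ k]
    [IsNoetherianRing Λ] [Module.Finite Λ k]
    (R S : ArtFun.CRing Λ k) (f : R.carrier →ₐ[Λ] S.carrier) (hf : S.res.comp f = R.res) :
    List.TFAE [Function.Surjective f,
      Ideal.map f (IsLocalRing.maximalIdeal R.carrier) ⊔ IsLocalRing.maximalIdeal S.carrier ^ 2 =
        IsLocalRing.maximalIdeal S.carrier,
      Ideal.map (algebraMap Λ S.carrier) (RingHom.ker (algebraMap Λ k)) ⊔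
        Ideal.map f (IsLocalRing.maximalIdeal R.carrier) ⊔ IsLocalRing.maximalIdeal S.carrier ^ 2 =
        IsLocalRing.maximalIdeal S.carrier] := by
  classical
  have hmapA : Ideal.map f (IsLocalRing.maximalIdeal R.carrier) ≤ IsLocalRing.maximalIdeal S.carrier := by
    rw [Ideal.map_le_iff_le_comap]
    intro a ha
    rw [Ideal.mem_comap, ArtFun.CRing.mem_maximalIdeal_iff]
    have : S.res (f a) = R.res a := by rw [← hf]; rfl
    rw [this]
    exact (ArtFun.CRing.mem_maximalIdeal_iff R a).mp ha
  have hΛ : Ideal.map (algebraMap Λ S.carrier) (RingHom.ker (algebraMap Λ k)) ≤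
      Ideal.map f (IsLocalRing.maximalIdeal R.carrier) := by
    rw [Ideal.map_le_iff_le_comap]
    intro l hl
    rw [Ideal.mem_comap]
    have h1 : algebraMap Λ S.carrier l = f (algebraMap Λ R.carrier l) := (f.commutes l).symm
    rw [h1]
    apply Ideal.mem_map_of_mem
    rw [ArtFun.CRing.mem_maximalIdeal_iff, AlgHom.commutes]
    exact hl
  have hsq : IsLocalRing.maximalIdeal S.carrier ^ 2 ≤ IsLocalRing.maximalIdeal S.carrier :=
    Ideal.pow_le_self two_ne_zero
  have h23 : Ideal.map (algebraMap Λ S.carrier) (RingHom.ker (algebraMap Λ k)) ⊔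
      Ideal.map f (IsLocalRing.maximalIdeal R.carrier) ⊔ IsLocalRing.maximalIdeal S.carrier ^ 2 =
      Ideal.map f (IsLocalRing.maximalIdeal R.carrier) ⊔ IsLocalRing.maximalIdeal S.carrier ^ 2 := by
    rw [sup_eq_right.mpr hΛ]
  tfae_have 1 → 2 := by
    intro hsurj
    apply le_antisymm (sup_le hmapA hsq)
    intro b hb
    obtain ⟨a, rfl⟩ := hsurj b
    apply Ideal.mem_sup_left
    apply Ideal.mem_map_of_mem
    rw [ArtFun.CRing.mem_maximalIdeal_iff] at hb ⊢
    have : S.res (f a) = R.res a := by rw [← hf]; rfl
    rw [← this]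
    exact hb
  tfae_have 2 → 3 := by
    intro h
    rw [h23, h]
  tfae_have 3 → 1 := by
    intro h
    rw [h23] at h
    have hmB : IsLocalRing.maximalIdeal S.carrier ≤ Ideal.map f (IsLocalRing.maximalIdeal R.carrier) := by
      apply Submodule.le_of_le_smul_of_le_jacobson_bot (I := IsLocalRing.maximalIdeal S.carrier)
        (IsNoetherian.noetherian _)
      · rw [IsLocalRing.jacobson_eq_maximalIdeal ⊥ bot_ne_top]
      · rw [smul_eq_mul, ← pow_two]
        exact h.ge
    have hJ : Ideal.map (f : R.carrier →+* S.carrier) (IsLocalRing.maximalIdeal R.carrier) =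
        IsLocalRing.maximalIdeal S.carrier := le_antisymm hmapA hmB
    have hres : ∀ b : S.carrier, ∃ a : R.carrier, b - (f : R.carrier →+* S.carrier) a ∈
        Ideal.map (f : R.carrier →+* S.carrier) (IsLocalRing.maximalIdeal R.carrier) := by
      intro b
      obtain ⟨a, ha⟩ := R.res_surjective (S.res b)
      refine ⟨a, ?_⟩
      rw [hJ, ArtFun.CRing.mem_maximalIdeal_iff, map_sub]
      have : S.res (f a) = R.res a := by rw [← hf]; rfl
      change S.res b - S.res (f a) = 0
      rw [this, ha, sub_self]
    intro b
    -- build the approximating sequence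
    let step : ∀ n : ℕ, {a : R.carrier // b - (f : R.carrier →+* S.carrier) a ∈
        (Ideal.map (f : R.carrier →+* S.carrier) (IsLocalRing.maximalIdeal R.carrier)) ^ n} →
        {a : R.carrier // b - (f : R.carrier →+* S.carrier) a ∈
        (Ideal.map (f : R.carrier →+* S.carrier) (IsLocalRing.maximalIdeal R.carrier)) ^ (n + 1)} :=
      fun n a => ⟨a.1 + Classical.choose (Groth.Agent.S12709.approx_step (f : R.carrier →+* S.carrier) _ hres n b a.1 a.2),
        (Classical.choose_spec (Groth.Agent.S12709.approx_step (f : R.carrier →+* S.carrier) _ hres n b a.1 a.2)).2⟩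
    have hstep : ∀ n a, (step n a).1 - a.1 ∈ IsLocalRing.maximalIdeal R.carrier ^ n := by
      intro n a
      have := (Classical.choose_spec (Groth.Agent.S12709.approx_step (f : R.carrier →+* S.carrier) _ hres n b a.1 a.2)).1
      simpa [step] using this
    let g : ∀ n : ℕ, {a : R.carrier // b - (f : R.carrier →+* S.carrier) a ∈
        (Ideal.map (f : R.carrier →+* S.carrier) (IsLocalRing.maximalIdeal R.carrier)) ^ n} :=
      fun n => Nat.rec ⟨0, by simp⟩ (fun n a => step n a) n
    have hg_succ : ∀ n, g (n + 1) = step n (g n) := fun n => rfl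
    have hdiff : ∀ n, (g (n + 1)).1 - (g n).1 ∈ IsLocalRing.maximalIdeal R.carrier ^ n := by
      intro n
      rw [hg_succ]
      exact hstep n (g n)
    have hcauchy : ∀ {m n : ℕ}, m ≤ n → (g m).1 ≡ (g n).1
        [SMOD (IsLocalRing.maximalIdeal R.carrier ^ m • ⊤ : Submodule R.carrier R.carrier)] := by
      intro m n hmn
      induction n, hmn using Nat.le_induction with
      | base => rfl
      | succ n hmn ih =>
        refine ih.trans ?_
        rw [SModEq.sub_mem, smul_eq_mul, Ideal.mul_top]
        have := hdiff n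
        have h2 : (g n).1 - (g (n + 1)).1 = -((g (n + 1)).1 - (g n).1) := by ring
        rw [h2]
        exact neg_mem (Ideal.pow_le_pow_right hmn this)
    obtain ⟨L, hL⟩ := R.isAdicComplete.toIsPrecomplete.prec' (fun n => (g n).1) hcauchy
    refine ⟨L, ?_⟩
    have hzero : b - f L = 0 := by
      apply S.isAdicComplete.toIsHausdorff.haus
      intro n
      rw [SModEq.sub_mem, sub_zero, smul_eq_mul, Ideal.mul_top, ← hJ]
      have h1 := (g n).2
      have h2 : (g n).1 - L ∈ IsLocalRing.maximalIdeal R.carrier ^ n := by
        have := hL n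
        rw [SModEq.sub_mem, smul_eq_mul, Ideal.mul_top] at this
        exact this
      have h3 : (f : R.carrier →+* S.carrier) ((g n).1 - L) ∈
          (Ideal.map (f : R.carrier →+* S.carrier) (IsLocalRing.maximalIdeal R.carrier)) ^ n := by
        have h5 := Ideal.mem_map_of_mem (f : R.carrier →+* S.carrier) h2
        rwa [Ideal.map_pow] at h5
      have h4 : b - f L = (b - (f : R.carrier →+* S.carrier) (g n).1) +
          (f : R.carrier →+* S.carrier) ((g n).1 - L) := by
        rw [map_sub]
        simp only [AlgHom.coe_toRingHom, RingHom.coe_coe]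
        ring
      rw [h4]
      exact add_mem h1 h3
    exact (sub_eq_zero.mp hzero).symm
  tfae_finish

end Groth.Agent.S12714
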