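import Groth.Statements.S12729
import Groth.Agent.S12707

set_option autoImplicit false
universe u v
open CategoryTheory
open ArtFun

namespace Groth.Agent.S12729

/-- For functors, let F satisfy (S1), let p : B → A be a surjection in the category of Artinian local
Λ-algebras with residue field k whose kernel I is annihilated by m_B, and let x ∈ F(A). Then the set
of ideals J ⊆ I for which x lifts to F(B/J) along B/J → A has a least element. -/
theorem result {Λ : Type u} {k : Type u} [CommRing Λ] [Field k] [Algebra Λ k]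
    [IsNoetherianRing Λ] [Module.Finite Λ k]
    {F : ArtFun.Art Λ k ⥤ Type v} (h1 : ArtFun.S1 F)
    {B A : ArtFun.Art Λ k} (p : B ⟶ A) (hp : ArtFun.Art.IsSemismallExt p) (x : F.obj A) :
    ∃ (J₀ : Ideal B) (hJ₀ : J₀ ≤ RingHom.ker p.toAlgHom) (hJ₀' : J₀ ≤ IsLocalRing.maximalIdeal B),
      (∃ y : F.obj (ArtFun.Art.quot B J₀ hJ₀'), F.map (ArtFun.Art.quotFactor hJ₀' p hJ₀) y = x) ∧
      ∀ (J : Ideal B) (hJ : J ≤ RingHom.ker p.toAlgHom) (hJ' : J ≤ IsLocalRing.maximalIdeal B),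
        (∃ y : F.obj (ArtFun.Art.quot B J hJ'), F.map (ArtFun.Art.quotFactor hJ' p hJ) y = x) → J₀ ≤ J := by
  classical
  obtain ⟨hpsurj, hkill⟩ := hp
  set K : Ideal B := RingHom.ker p.toAlgHom with hK
  have hKm : K ≤ IsLocalRing.maximalIdeal B := Groth.Agent.S12707.ker_le_maximalIdeal p
  have hkill' : ∀ u ∈ IsLocalRing.maximalIdeal B, ∀ t ∈ K, u * t = 0 := by
    intro u hu t ht
    have : u * t ∈ IsLocalRing.maximalIdeal B * K := Ideal.mul_mem_mul hu ht
    rw [hkill] at this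
    exact this
  let Lifts : Ideal B → Prop := fun J => ∃ hJ : J ≤ K,
    ∃ y : F.obj (ArtFun.Art.quot B J (hJ.trans hKm)),
      F.map (ArtFun.Art.quotFactor (hJ.trans hKm) p hJ) y = x
  -- Step A
  have hA : Lifts K := by
    refine ⟨le_rfl, ?_⟩
    have hiso : IsIso (ArtFun.Art.quotFactor (le_rfl.trans hKm) p (le_refl K)) := by
      apply Groth.Agent.S12707.isIso_of_bijective
      constructor
      · intro a b hab
        obtain ⟨a, rfl⟩ := Ideal.Quotient.mk_surjective a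
        obtain ⟨b, rfl⟩ := Ideal.Quotient.mk_surjective b
        have h1 : p.toAlgHom a = p.toAlgHom b := hab
        have h2 : a - b ∈ K := by
          rw [hK, RingHom.mem_ker, map_sub, h1, sub_self]
        exact (Ideal.Quotient.eq).mpr h2
      · intro a
        obtain ⟨b, rfl⟩ := hpsurj a
        exact ⟨Ideal.Quotient.mk K b, rfl⟩
    refine ⟨F.map (inv (ArtFun.Art.quotFactor (le_rfl.trans hKm) p (le_refl K))) x, ?_⟩
    rw [← FunctorToTypes.map_comp_apply, IsIso.inv_hom_id, FunctorToTypes.map_id_apply]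
  -- Step B
  have hB : ∀ J J' : Ideal B, Lifts J → J ≤ J' → J' ≤ K → Lifts J' := by
    rintro J J' ⟨hJ, y, hy⟩ hJJ' hJ'K
    refine ⟨hJ'K, ?_⟩
    have hle : J ≤ RingHom.ker (ArtFun.Art.quotMk B J' (hJ'K.trans hKm)).toAlgHom := by
      intro b hb
      rw [RingHom.mem_ker]
      exact Ideal.Quotient.eq_zero_iff_mem.mpr (hJJ' hb)
    let r : ArtFun.Art.quot B J (hJ.trans hKm) ⟶ ArtFun.Art.quot B J' (hJ'K.trans hKm) :=
      ArtFun.Art.quotFactor (hJ.trans hKm) (ArtFun.Art.quotMk B J' (hJ'K.trans hKm)) hle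
    have hr : r ≫ ArtFun.Art.quotFactor (hJ'K.trans hKm) p hJ'K =
        ArtFun.Art.quotFactor (hJ.trans hKm) p hJ := by
      apply ArtFun.Art.hom_ext
      apply AlgHom.ext
      intro b
      obtain ⟨b, rfl⟩ := Ideal.Quotient.mk_surjective b
      rfl
    refine ⟨F.map r y, ?_⟩
    rw [← FunctorToTypes.map_comp_apply, hr, hy]
  -- Step C
  have hC : ∀ J₁ J₂ : Ideal B, Lifts J₁ → Lifts J₂ → Lifts (J₁ ⊓ J₂) := by
    intro J₁ J₂ hL₁ hL₂
    obtain ⟨hJ₁, y₁, hy₁⟩ := hL₁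
    have hJ₂ : J₂ ≤ K := hL₂.1
    -- C1
    obtain ⟨J₂', ⟨hJ₂J₂', hJ₂'K, hinf⟩, hmax⟩ :=
      (wellFounded_gt (α := Ideal B)).has_min
        {J' : Ideal B | J₂ ≤ J' ∧ J' ≤ K ∧ J₁ ⊓ J' = J₁ ⊓ J₂} ⟨J₂, le_rfl, hJ₂, rfl⟩
    -- C2
    have hsup : J₁ ⊔ J₂' = K := by
      apply le_antisymm (sup_le hJ₁ hJ₂'K)
      by_contra hcon
      obtain ⟨t, htK, htn⟩ := SetLike.not_le_iff_exists.mp hcon
      have hJ'mem : J₂' ⊔ Ideal.span {t} ∈
          {J' : Ideal B | J₂ ≤ J' ∧ J' ≤ K ∧ J₁ ⊓ J' = J₁ ⊓ J₂} := by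
        refine ⟨hJ₂J₂'.trans le_sup_left, sup_le hJ₂'K ((Ideal.span_singleton_le_iff_mem _).mpr htK), ?_⟩
        apply le_antisymm
        · rintro j ⟨hj1, hj2⟩
          obtain ⟨j₂, hj₂, s', hs', hsum⟩ := Submodule.mem_sup.mp hj2
          obtain ⟨u, rfl⟩ := Ideal.mem_span_singleton'.mp hs'
          by_cases hu : u ∈ IsLocalRing.maximalIdeal B
          · rw [hkill' u hu t htK, add_zero] at hsum
            rw [← hinf]
            exact ⟨hj1, hsum ▸ hj₂⟩
          · exfalso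
            have hunit : IsUnit u := by
              by_contra hnu
              exact hu ((IsLocalRing.mem_maximalIdeal u).mpr hnu)
            obtain ⟨v, hv⟩ := hunit.exists_left_inv
            apply htn
            have ht : t = v * (j - j₂) := by
              rw [← hsum]
              have : v * (j₂ + u * t - j₂) = (v * u) * t := by ring
              rw [this, hv, one_mul]
            rw [ht]
            apply Ideal.mul_mem_left
            exact Ideal.sub_mem _ (Ideal.mem_sup_left hj1) (Ideal.mem_sup_right hj₂)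
        · rw [← hinf]
          exact inf_le_inf_left _ le_sup_left
      have hlt : J₂' < J₂' ⊔ Ideal.span {t} := by
        refine lt_of_le_of_ne le_sup_left ?_
        intro heq
        apply htn
        apply Ideal.mem_sup_right
        rw [heq]
        exact Ideal.mem_sup_right (Ideal.subset_span rfl)
      exact hmax _ hJ'mem hlt
    -- C3
    obtain ⟨_, y₂, hy₂⟩ := hB J₂ J₂' hL₂ hJ₂J₂' hJ₂'K
    -- C4
    rw [← hinf]
    have hN : J₁ ⊓ J₂' ≤ K := inf_le_left.trans hJ₁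
    refine ⟨hN, ?_⟩
    have hle₁ : J₁ ⊓ J₂' ≤ RingHom.ker (ArtFun.Art.quotMk B J₁ (hJ₁.trans hKm)).toAlgHom := by
      intro b hb
      rw [RingHom.mem_ker]
      exact Ideal.Quotient.eq_zero_iff_mem.mpr hb.1
    have hle₂ : J₁ ⊓ J₂' ≤ RingHom.ker (ArtFun.Art.quotMk B J₂' (hJ₂'K.trans hKm)).toAlgHom := by
      intro b hb
      rw [RingHom.mem_ker]
      exact Ideal.Quotient.eq_zero_iff_mem.mpr hb.2
    let q₁ : ArtFun.Art.quot B (J₁ ⊓ J₂') (hN.trans hKm) ⟶ ArtFun.Art.quot B J₁ (hJ₁.trans hKm) :=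
      ArtFun.Art.quotFactor (hN.trans hKm) (ArtFun.Art.quotMk B J₁ (hJ₁.trans hKm)) hle₁
    let q₂ : ArtFun.Art.quot B (J₁ ⊓ J₂') (hN.trans hKm) ⟶ ArtFun.Art.quot B J₂' (hJ₂'K.trans hKm) :=
      ArtFun.Art.quotFactor (hN.trans hKm) (ArtFun.Art.quotMk B J₂' (hJ₂'K.trans hKm)) hle₂
    have hq₁ : q₁ ≫ ArtFun.Art.quotFactor (hJ₁.trans hKm) p hJ₁ =
        ArtFun.Art.quotFactor (hN.trans hKm) p hN := by
      apply ArtFun.Art.hom_ext
      apply AlgHom.ext
      intro b
      obtain ⟨b, rfl⟩ := Ideal.Quotient.mk_surjective b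
      rfl
    have hsq : ArtFun.Art.IsFibreProd q₁ q₂ (ArtFun.Art.quotFactor (hJ₁.trans hKm) p hJ₁)
        (ArtFun.Art.quotFactor (hJ₂'K.trans hKm) p hJ₂'K) :=
      { w := by
          apply ArtFun.Art.hom_ext
          apply AlgHom.ext
          intro b
          obtain ⟨b, rfl⟩ := Ideal.Quotient.mk_surjective b
          rfl
        inj := by
          intro a b h1 h2
          obtain ⟨a, rfl⟩ := Ideal.Quotient.mk_surjective a
          obtain ⟨b, rfl⟩ := Ideal.Quotient.mk_surjective b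
          have h1' : Ideal.Quotient.mk J₁ a = Ideal.Quotient.mk J₁ b := h1
          have h2' : Ideal.Quotient.mk J₂' a = Ideal.Quotient.mk J₂' b := h2
          exact (Ideal.Quotient.eq).mpr ⟨(Ideal.Quotient.eq).mp h1', (Ideal.Quotient.eq).mp h2'⟩
        surj := by
          intro a b hab
          obtain ⟨a, rfl⟩ := Ideal.Quotient.mk_surjective a
          obtain ⟨b, rfl⟩ := Ideal.Quotient.mk_surjective b
          have hab' : p.toAlgHom a = p.toAlgHom b := hab
          have hmem : a - b ∈ J₁ ⊔ J₂' := by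
            rw [hsup, hK, RingHom.mem_ker, map_sub, hab', sub_self]
          obtain ⟨j₁, hj₁, j₂, hj₂, hsum⟩ := Submodule.mem_sup.mp hmem
          refine ⟨Ideal.Quotient.mk (J₁ ⊓ J₂') (a - j₁), ?_, ?_⟩
          · change Ideal.Quotient.mk J₁ (a - j₁) = Ideal.Quotient.mk J₁ a
            rw [Ideal.Quotient.eq]
            have : a - j₁ - a = -j₁ := by ring
            rw [this]
            exact neg_mem hj₁
          · change Ideal.Quotient.mk J₂' (a - j₁) = Ideal.Quotient.mk J₂' b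
            rw [Ideal.Quotient.eq]
            have : a - j₁ - b = j₂ := by
              have : a - b = j₁ + j₂ := hsum.symm
              linear_combination this
            rw [this]
            exact hj₂ }
    have hg₂surj : Function.Surjective (ArtFun.Art.quotFactor (hJ₂'K.trans hKm) p hJ₂'K) := by
      intro a
      obtain ⟨b, rfl⟩ := hpsurj a
      exact ⟨Ideal.Quotient.mk J₂' b, rfl⟩
    obtain ⟨z, hz⟩ := h1 q₁ q₂ _ _ hsq hg₂surj ⟨(y₁, y₂), by
      change F.map _ y₁ = F.map _ y₂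
      rw [hy₁, hy₂]⟩
    have hz1 : F.map q₁ z = y₁ := congrArg (fun t => t.1.1) hz
    refine ⟨z, ?_⟩
    rw [← hq₁, FunctorToTypes.map_comp_apply, hz1, hy₁]
  -- Step D
  obtain ⟨J₀, hJ₀L, hJ₀min⟩ := (wellFounded_lt (α := Ideal B)).has_min {J | Lifts J} ⟨K, hA⟩
  obtain ⟨hJ₀K, y₀, hy₀⟩ := hJ₀L
  refine ⟨J₀, hJ₀K, hJ₀K.trans hKm, ⟨y₀, hy₀⟩, ?_⟩
  intro J hJ hJ' hex
  have hLJ : Lifts J := ⟨hJ, hex⟩
  have hinf : Lifts (J₀ ⊓ J) := hC J₀ J ⟨hJ₀K, y₀, hy₀⟩ hLJ
  have hnlt : ¬ (J₀ ⊓ J < J₀) := hJ₀min _ hinf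
  have heq : J₀ ⊓ J = J₀ := by
    by_contra hne
    exact hnlt (lt_of_le_of_ne inf_le_left hne)
  rw [← heq]
  exact inf_le_right

end Groth.Agent.S12729
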