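import Groth.Statements.S9144
import Mathlib
import Groth.Agent.Lib.Helper65.CIPres6

set_option autoImplicit false
universe u
open Synt

namespace Groth.Agent.S9144

open Groth.Agent.Lib.Helper65.CIPres

/-- the local ring at a prime of `S_g` is the local ring of `S` -/
theorem isCIOver_of_away (k S : Type u) [Field k] [CommRing S] [Algebra k S] (q : Ideal S)
    [q.IsPrime] (g : S) (hgq : g ∉ q)
    (h : ∀ p : Ideal (Localization.Away g), ∀ _ : p.IsPrime,
      p.comap (algebraMap S (Localization.Away g)) = q → Synt.IsCIOver k (Localization.AtPrime p)) :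
    Synt.IsCIOver k (Localization.AtPrime q) := by
  have hdisj : Disjoint (Submonoid.powers g : Set S) (q : Set S) := by
    rw [Set.disjoint_left]
    rintro x ⟨m, rfl⟩ hx
    exact hgq (Ideal.IsPrime.mem_of_pow_mem inferInstance m hx)
  haveI hp : (q.map (algebraMap S (Localization.Away g))).IsPrime :=
    IsLocalization.isPrime_of_isPrime_disjoint (Submonoid.powers g) (Localization.Away g) q
      inferInstance hdisj
  have hpq : (q.map (algebraMap S (Localization.Away g))).comap
      (algebraMap S (Localization.Away g)) = q :=
    IsLocalization.comap_map_of_isPrime_disjoint (Submonoid.powers g) (Localization.Away g)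
      inferInstance hdisj
  have h1 := h _ hp hpq
  have h2 := IsCIOver.of_algEquiv k
    ((IsLocalization.localizationLocalizationAtPrimeIsoLocalization (Submonoid.powers g)
      (q.map (algebraMap S (Localization.Away g)))).symm.restrictScalars k) h1
  exact isCIOver_congr k _ q hpq h2

/-- For a finite type algebra S over a field k and a prime q of S, the local ring S_q is a complete
intersection over k if and only if some basic open neighbourhood S_g (g ∉ q) is a local complete
intersection over k, if and only if some S_g (g ∉ q) is a global complete intersection over k. -/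
theorem result (k S : Type u) [Field k] [CommRing S] [Algebra k S]
    [Algebra.FiniteType k S] (q : Ideal S) [q.IsPrime] :
    (Synt.IsCIOver k (Localization.AtPrime q) ↔ ∃ g : S, g ∉ q ∧ Synt.IsLCIOver k (Localization.Away g)) ∧
      (Synt.IsCIOver k (Localization.AtPrime q) ↔
        ∃ g : S, g ∉ q ∧ Synt.IsGlobalCI k (Localization.Away g)) := by
  refine ⟨⟨?_, ?_⟩, isCIOver_atPrime_iff k S q⟩
  · intro h
    obtain ⟨g, hgq, hG⟩ := (isCIOver_atPrime_iff k S q).1 h
    haveI : Algebra.FiniteType k (Localization.Away g) :=
      Algebra.FiniteType.trans (S := S) inferInstance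
        (IsLocalization.finiteType_of_monoid_fg (Submonoid.powers g) _)
    exact ⟨g, hgq, isLCIOver_of_isGlobalCI k hG⟩
  · rintro ⟨g, hgq, hft, hL⟩
    haveI := hft
    apply isCIOver_of_away k S q g hgq
    intro p hp _
    haveI := hp
    exact (isCIOver_atPrime_iff k (Localization.Away g) p).2 (hL ⟨p, hp⟩)

end Groth.Agent.S9144
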