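import Groth.Statements.S9368
import Groth.Agent.Lib.Helper8.LCIFieldSch
import Groth.Agent.Lib.Helper65.CIPres6
import Groth.Agent.S9144

set_option autoImplicit false
universe u
open Synt

namespace Groth.Agent.S9368

open AlgebraicGeometry CategoryTheory in
/-- For X locally of finite type over a field k with structure morphism p, the following are equivalent:
(1) p is syntomic; (2) every x ∈ X has an affine open neighbourhood whose coordinate ring is a
global complete intersection over k; (3) each stalk O_{X,x} is a complete intersection ring over k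
(k-algebra structures induced by p). -/
theorem result (k : Type u) [Field k] (X : Scheme.{u}) (p : X ⟶ Spec (CommRingCat.of k)) [LocallyOfFiniteType p] :
    [Synt.IsSyntomicMor p,
      ∀ x : ↑X, ∃ U : X.affineOpens, x ∈ U.1 ∧
        letI := ((Scheme.ΓSpecIso (CommRingCat.of k)).inv ≫ p.appLE ⊤ U.1 le_top).hom.toAlgebra
        Synt.IsGlobalCI k Γ(X, U.1),
      ∀ x : ↑X,
        letI := ((Scheme.ΓSpecIso (CommRingCat.of k)).inv ≫ p.appLE ⊤ ⊤ le_top ≫ X.presheaf.germ ⊤ x trivial).hom.toAlgebra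
        Synt.IsCIOver k (X.presheaf.stalk x)].TFAE := by
  have hft : ∀ U : X.affineOpens,
      let _ := (Groth.Agent.Lib.Helper8.LCIFieldSch.phi p U.1).toAlgebra
      Algebra.FiniteType k Γ(X, U.1) := fun U =>
    Groth.Agent.Lib.Helper8.LCIFieldSch.finiteType_phi p U.2
  tfae_have 1 → 2 := by
    intro h x
    obtain ⟨U, V, e, hxU, hs⟩ := h x
    obtain ⟨V, hV⟩ := V
    obtain rfl : V = ⊤ := Groth.Agent.Lib.Helper8.LCIFieldSch.eq_top_of_mem V (p x) (e hxU)
    have hl := (Groth.Agent.Lib.Helper8.LCIFieldSch.isSyntomic_iff p e).1 hs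
    obtain ⟨g, hg, hG⟩ := hl.2 (U.2.primeIdealOf ⟨x, hxU⟩)
    exact ⟨⟨X.basicOpen g, U.2.basicOpen g⟩,
      (Groth.Agent.Lib.Helper8.LCIFieldSch.mem_basicOpen_iff U.2 hxU g).2 hg,
      Groth.Agent.Lib.Helper8.LCIFieldSch.isGlobalCI_basicOpen p U.2 g hG⟩
  tfae_have 2 → 3 := by
    intro h x
    obtain ⟨U, hxU, hG⟩ := h x
    refine (Groth.Agent.Lib.Helper8.LCIFieldSch.isCIOver_stalk_iff p U.2 hxU).2 ?_
    let _ := (Groth.Agent.Lib.Helper8.LCIFieldSch.phi p U.1).toAlgebra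
    have := hft U
    refine ((Groth.Agent.S9144.result k Γ(X, U.1) (U.2.primeIdealOf ⟨x, hxU⟩).asIdeal).2).2
      ⟨1, fun h1 => (U.2.primeIdealOf ⟨x, hxU⟩).2.ne_top ((Ideal.eq_top_iff_one _).2 h1), ?_⟩
    exact Groth.Agent.Lib.Helper65.CIPres.isGlobalCI_self_away k hG 1
  tfae_have 3 → 2 := by
    intro h x
    obtain ⟨U, hU, hxU, -⟩ :=
      TopologicalSpace.Opens.isBasis_iff_nbhd.mp X.isBasis_affineOpens
        (TopologicalSpace.Opens.mem_top x)
    have h1 := (Groth.Agent.Lib.Helper8.LCIFieldSch.isCIOver_stalk_iff p hU hxU).1 (h x)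
    let _ := (Groth.Agent.Lib.Helper8.LCIFieldSch.phi p U).toAlgebra
    have := hft ⟨U, hU⟩
    obtain ⟨g, hg, hG⟩ :=
      ((Groth.Agent.S9144.result k Γ(X, U) (hU.primeIdealOf ⟨x, hxU⟩).asIdeal).2).1 h1
    exact ⟨⟨X.basicOpen g, hU.basicOpen g⟩,
      (Groth.Agent.Lib.Helper8.LCIFieldSch.mem_basicOpen_iff hU hxU g).2 hg,
      Groth.Agent.Lib.Helper8.LCIFieldSch.isGlobalCI_basicOpen p hU g hG⟩
  tfae_have 2 → 1 := by
    intro h x
    obtain ⟨U, hxU, hG⟩ := h x
    refine ⟨U, ⟨⊤, isAffineOpen_top _⟩, le_top, hxU,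
      (Groth.Agent.Lib.Helper8.LCIFieldSch.isSyntomic_iff p _).2 ?_⟩
    let _ := (Groth.Agent.Lib.Helper8.LCIFieldSch.phi p U.1).toAlgebra
    have := hft U
    exact Groth.Agent.Lib.Helper65.CIPres.isLCIOver_of_isGlobalCI k hG
  tfae_finish

end Groth.Agent.S9368
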