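import Groth.Statements.S9379
import Mathlib
import Groth.Agent.Lib.Helper65.CIFibre2

set_option autoImplicit false
universe u
open Synt
open CategoryTheory CategoryTheory.Limits AlgebraicGeometry TopologicalSpace

namespace Groth.Agent.S9379

open Groth.Agent.Lib.Helper62.BCStalk Groth.Agent.Lib.Helper65.CIFibre

/-- the pointwise statement: the fibre local ring with the algebra structure of the statement -/
theorem isCIOver_fiberStalk_iff {X S : Scheme.{u}} (f : X ⟶ S) [LocallyOfFiniteType f] (x : X) :
    (letI := ((Scheme.ΓSpecIso (S.residueField (f.base x))).inv ≫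
            (f.fiberToSpecResidueField (f.base x)).appLE ⊤ ⊤ le_top ≫
              (f.fiber (f.base x)).presheaf.germ ⊤ (f.asFiber x) trivial).hom.toAlgebra;
        Synt.IsCIOver (S.residueField (f.base x)) ((f.fiber (f.base x)).presheaf.stalk (f.asFiber x))) ↔
      Pi1.IsCompleteIntersection (CInt.fiberStalk f x) := by
  letI := ((Scheme.ΓSpecIso (S.residueField (f.base x))).inv ≫
            (f.fiberToSpecResidueField (f.base x)).appLE ⊤ ⊤ le_top ≫
              (f.fiber (f.base x)).presheaf.germ ⊤ (f.asFiber x) trivial).hom.toAlgebra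
  haveI : LocallyOfFiniteType (f.fiberToSpecResidueField (f.base x)) :=
    inferInstanceAs (LocallyOfFiniteType (pullback.snd f (S.fromSpecResidueField (f.base x))))
  have hess : Algebra.EssFiniteType (S.residueField (f.base x))
      ((f.fiber (f.base x)).presheaf.stalk (f.asFiber x)) := by
    have h1 := Groth.Agent.S2843.essFiniteType_stalkStr (k := S.residueField (f.base x))
      (f.fiber (f.base x)) (f.fiberToSpecResidueField (f.base x)) (f.asFiber x)
    have heq : ((Scheme.ΓSpecIso (S.residueField (f.base x))).inv ≫
            (f.fiberToSpecResidueField (f.base x)).appLE ⊤ ⊤ le_top ≫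
              (f.fiber (f.base x)).presheaf.germ ⊤ (f.asFiber x) trivial).hom =
        stalkStr (f.fiberToSpecResidueField (f.base x)) (f.asFiber x) :=
      germ_comp_toSection (f.fiberToSpecResidueField (f.base x)) ⊤ (f.asFiber x) trivial
    have h2 : RingHom.EssFiniteType ((Scheme.ΓSpecIso (S.residueField (f.base x))).inv ≫
            (f.fiberToSpecResidueField (f.base x)).appLE ⊤ ⊤ le_top ≫
              (f.fiber (f.base x)).presheaf.germ ⊤ (f.asFiber x) trivial).hom := by
      rw [heq]
      exact h1
    exact h2
  exact isCIOver_iff_isCompleteIntersection (S.residueField (f.base x))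
    ((f.fiber (f.base x)).presheaf.stalk (f.asFiber x))

theorem result {X S X' S' : Scheme.{u}} (f : X ⟶ S) [LocallyOfFiniteType f] (g : S' ⟶ S)
    (g' : X' ⟶ X) (f' : X' ⟶ S') (hsq : IsPullback g' f' f g) :
    {x' : ↑X' |
        letI := ((Scheme.ΓSpecIso (S'.residueField (f'.base x'))).inv ≫
            (f'.fiberToSpecResidueField (f'.base x')).appLE ⊤ ⊤ le_top ≫
              (f'.fiber (f'.base x')).presheaf.germ ⊤ (f'.asFiber x') trivial).hom.toAlgebra
        Synt.IsCIOver (S'.residueField (f'.base x')) ((f'.fiber (f'.base x')).presheaf.stalk (f'.asFiber x'))} =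
      g'.base ⁻¹' {x : ↑X |
        letI := ((Scheme.ΓSpecIso (S.residueField (f.base x))).inv ≫
            (f.fiberToSpecResidueField (f.base x)).appLE ⊤ ⊤ le_top ≫
              (f.fiber (f.base x)).presheaf.germ ⊤ (f.asFiber x) trivial).hom.toAlgebra
        Synt.IsCIOver (S.residueField (f.base x)) ((f.fiber (f.base x)).presheaf.stalk (f.asFiber x))} := by
  haveI : LocallyOfFiniteType f' :=
    MorphismProperty.of_isPullback (P := @LocallyOfFiniteType) hsq inferInstance
  ext x'
  simp only [Set.mem_setOf_eq, Set.mem_preimage]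
  rw [isCIOver_fiberStalk_iff f' x', isCIOver_fiberStalk_iff f (g'.base x')]
  exact (isCompleteIntersection_fiberStalk_iff_of_isPullback f g g' f' hsq x').symm

end Groth.Agent.S9379
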