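import Groth.Statements.S16430
import Mathlib
import Groth.Agent.Lib.Helper95.AdjoinRootEtale

set_option autoImplicit false
universe u
open Hensel

namespace Groth.Agent.S16430

open Polynomial Groth.Agent.Lib.Helper95.AdjoinRootEtale

section LocalAdjoinRoot

variable {A : Type u} [CommRing A] [IsLocalRing A] (f : A[X]) (hf : f.Monic)
  (hirr : Irreducible (f.map (IsLocalRing.residue A)))

include hirr in
theorem isMaximal_mE :
    (Ideal.map (AdjoinRoot.of f) (IsLocalRing.maximalIdeal A)).IsMaximal := by
  have hmax : (Ideal.span {f.map (IsLocalRing.residue A)} :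
      Ideal (IsLocalRing.ResidueField A)[X]).IsMaximal :=
    PrincipalIdealRing.isMaximal_of_irreducible hirr
  have hfield : IsField ((IsLocalRing.ResidueField A)[X] ⧸
      (Ideal.span {f.map (IsLocalRing.residue A)} : Ideal (IsLocalRing.ResidueField A)[X])) :=
    (Ideal.Quotient.maximal_ideal_iff_isField_quotient _).mp hmax
  apply Ideal.Quotient.maximal_of_isField
  exact MulEquiv.isField hfield
    (AdjoinRoot.quotEquivQuotMap f (IsLocalRing.maximalIdeal A)).toRingEquiv.toMulEquiv

include hf hirr in
theorem isLocalRing_E : IsLocalRing (AdjoinRoot f) := by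
  have hmax := isMaximal_mE f hirr
  have hfin : Module.Finite A (AdjoinRoot f) := hf.finite_adjoinRoot
  have hint : Algebra.IsIntegral A (AdjoinRoot f) := Algebra.IsIntegral.of_finite A _
  refine IsLocalRing.of_unique_max_ideal
    ⟨Ideal.map (AdjoinRoot.of f) (IsLocalRing.maximalIdeal A), hmax, fun M hM => ?_⟩
  have h0 : (M.comap (algebraMap A (AdjoinRoot f))).IsMaximal :=
    Ideal.isMaximal_comap_of_isIntegral_of_isMaximal M
  have h1 : M.comap (algebraMap A (AdjoinRoot f)) = IsLocalRing.maximalIdeal A :=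
    IsLocalRing.eq_maximalIdeal h0
  have h2 : Ideal.map (AdjoinRoot.of f) (IsLocalRing.maximalIdeal A) ≤ M :=
    Ideal.map_le_iff_le_comap.mpr h1.ge
  exact (hmax.eq_of_le hM.ne_top h2).symm

include hf hirr in
theorem isUnit_mk_derivative (hsep : (f.map (IsLocalRing.residue A)).Separable) :
    IsUnit (AdjoinRoot.mk f (derivative f)) := by
  have hloc := isLocalRing_E f hf hirr
  have hmax := isMaximal_mE f hirr
  by_contra hnu
  have h1 : AdjoinRoot.mk f (derivative f) ∈ IsLocalRing.maximalIdeal (AdjoinRoot f) :=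
    (IsLocalRing.mem_maximalIdeal _).mpr hnu
  rw [← IsLocalRing.eq_maximalIdeal hmax] at h1
  have h2 : Ideal.Quotient.mk (Ideal.map (AdjoinRoot.of f) (IsLocalRing.maximalIdeal A))
      (AdjoinRoot.mk f (derivative f)) = 0 := Ideal.Quotient.eq_zero_iff_mem.mpr h1
  have h3 := congrArg (AdjoinRoot.quotEquivQuotMap f (IsLocalRing.maximalIdeal A)) h2
  rw [AdjoinRoot.quotEquivQuotMap_apply_mk, map_zero, Ideal.Quotient.eq_zero_iff_mem,
    Ideal.mem_span_singleton, ← derivative_map] at h3
  obtain ⟨a, b, hab⟩ := hsep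
  have h4 : (f.map (IsLocalRing.residue A)) ∣ 1 := by
    rw [← hab]
    exact dvd_add (dvd_mul_left _ _) (Dvd.dvd.mul_left h3 _)
  exact hirr.not_isUnit (isUnit_of_dvd_one h4)

end LocalAdjoinRoot

/-- For a Noetherian local ring A with residue field k and a finite separable field extension l of k,
there is a local ring E, finite and etale over A with local structure map, whose residue field is
k-isomorphic to l. -/
theorem result (A : Type u)
    [CommRing A] [IsLocalRing A] [IsNoetherianRing A] (l : Type u) [Field l]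
    [Algebra (IsLocalRing.ResidueField A) l] [FiniteDimensional (IsLocalRing.ResidueField A) l]
    [Algebra.IsSeparable (IsLocalRing.ResidueField A) l] :
    ∃ (E : Type u) (_ : CommRing E) (_ : IsLocalRing E) (_ : Algebra A E)
      (_ : IsLocalHom (algebraMap A E)),
      Module.Finite A E ∧ Algebra.Etale A E ∧
        Nonempty (IsLocalRing.ResidueField E ≃ₐ[IsLocalRing.ResidueField A] l) := by
  classical
  obtain ⟨α, hα⟩ := Field.exists_primitive_element (IsLocalRing.ResidueField A) l
  have hint : IsIntegral (IsLocalRing.ResidueField A) α := Algebra.IsIntegral.isIntegral α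
  have hpirr : Irreducible (minpoly (IsLocalRing.ResidueField A) α) := minpoly.irreducible hint
  have hpsep : (minpoly (IsLocalRing.ResidueField A) α).Separable :=
    Algebra.IsSeparable.isSeparable _ α
  obtain ⟨f, hfp, -, hf⟩ := Polynomial.lifts_and_natDegree_eq_and_monic
    ((Polynomial.mem_lifts _).mpr
      (Polynomial.map_surjective (IsLocalRing.residue A) IsLocalRing.residue_surjective
        (minpoly (IsLocalRing.ResidueField A) α)))
    (minpoly.monic hint)
  have hirr : Irreducible (f.map (IsLocalRing.residue A)) := by rw [hfp]; exact hpirr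
  have hsep : (f.map (IsLocalRing.residue A)).Separable := by rw [hfp]; exact hpsep
  have hloc : IsLocalRing (AdjoinRoot f) := isLocalRing_E f hf hirr
  have hmax := isMaximal_mE f hirr
  have hmaxeq : IsLocalRing.maximalIdeal (AdjoinRoot f) =
      Ideal.map (AdjoinRoot.of f) (IsLocalRing.maximalIdeal A) :=
    (IsLocalRing.eq_maximalIdeal hmax).symm
  have hlh : IsLocalHom (algebraMap A (AdjoinRoot f)) := by
    constructor
    intro a ha
    by_contra hna
    have h1 : a ∈ IsLocalRing.maximalIdeal A := (IsLocalRing.mem_maximalIdeal _).mpr hna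
    have h2 : algebraMap A (AdjoinRoot f) a ∈
        Ideal.map (AdjoinRoot.of f) (IsLocalRing.maximalIdeal A) := Ideal.mem_map_of_mem _ h1
    rw [← hmaxeq] at h2
    exact (IsLocalRing.mem_maximalIdeal _).mp h2 ha
  refine ⟨AdjoinRoot f, inferInstance, hloc, inferInstance, hlh, hf.finite_adjoinRoot,
    etale_of_isUnit_derivative f hf (isUnit_mk_derivative f hf hirr hsep), ?_⟩
  let r1 : IsLocalRing.ResidueField (AdjoinRoot f) ≃+*
      (AdjoinRoot f ⧸ Ideal.map (AdjoinRoot.of f) (IsLocalRing.maximalIdeal A)) :=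
    Ideal.quotEquivOfEq hmaxeq
  let r2 : (AdjoinRoot f ⧸ Ideal.map (AdjoinRoot.of f) (IsLocalRing.maximalIdeal A)) ≃+*
      ((IsLocalRing.ResidueField A)[X] ⧸
        (Ideal.span {f.map (IsLocalRing.residue A)} : Ideal (IsLocalRing.ResidueField A)[X])) :=
    (AdjoinRoot.quotEquivQuotMap f (IsLocalRing.maximalIdeal A)).toRingEquiv
  let r3 : ((IsLocalRing.ResidueField A)[X] ⧸
        (Ideal.span {f.map (IsLocalRing.residue A)} : Ideal (IsLocalRing.ResidueField A)[X])) ≃+*
      AdjoinRoot (minpoly (IsLocalRing.ResidueField A) α) :=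
    Ideal.quotEquivOfEq (by rw [hfp])
  let r45 : AdjoinRoot (minpoly (IsLocalRing.ResidueField A) α) ≃ₐ[IsLocalRing.ResidueField A] l :=
    (IntermediateField.adjoinRootEquivAdjoin (IsLocalRing.ResidueField A) hint).trans
      ((IntermediateField.equivOfEq hα).trans IntermediateField.topEquiv)
  refine ⟨AlgEquiv.ofRingEquiv (f := ((r1.trans r2).trans r3).trans r45.toRingEquiv) ?_⟩
  intro c
  obtain ⟨a, rfl⟩ := IsLocalRing.residue_surjective c
  have h1 : algebraMap (IsLocalRing.ResidueField A) (IsLocalRing.ResidueField (AdjoinRoot f))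
      (IsLocalRing.residue A a) = IsLocalRing.residue (AdjoinRoot f) (algebraMap A (AdjoinRoot f) a) :=
    IsLocalRing.ResidueField.map_residue _ a
  rw [h1]
  have h2 : r1 (IsLocalRing.residue (AdjoinRoot f) (algebraMap A (AdjoinRoot f) a)) =
      Ideal.Quotient.mk _ (AdjoinRoot.mk f (C a)) := rfl
  have h3 : r2 (Ideal.Quotient.mk _ (AdjoinRoot.mk f (C a))) =
      Ideal.Quotient.mk _ (C (IsLocalRing.residue A a)) := by
    change AdjoinRoot.quotEquivQuotMap f (IsLocalRing.maximalIdeal A) _ = _
    rw [AdjoinRoot.quotEquivQuotMap_apply_mk, Polynomial.map_C]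
    rfl
  have h4 : r3 (Ideal.Quotient.mk _ (C (IsLocalRing.residue A a))) =
      algebraMap (IsLocalRing.ResidueField A) (AdjoinRoot (minpoly (IsLocalRing.ResidueField A) α))
        (IsLocalRing.residue A a) := rfl
  simp only [RingEquiv.trans_apply]
  rw [h2, h3, h4]
  exact r45.commutes _

end Groth.Agent.S16430
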