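import Groth.Statements.S9738
import Groth.Agent.Lib.Helper35.InfNbhdFlat
import Groth.Agent.Lib.Helper35.PullbackChart
import Mathlib.AlgebraicGeometry.Morphisms.Flat
import Mathlib.AlgebraicGeometry.IdealSheaf.Subscheme
import Mathlib.AlgebraicGeometry.Noetherian
import Mathlib.AlgebraicGeometry.Morphisms.ClosedImmersion

set_option autoImplicit false
universe u
open FlatMor

namespace Groth.Agent.S9738

section Helpers
open AlgebraicGeometry CategoryTheory Limits TensorProduct

/-- the ring-level consequence of flatness of the base change to the closed subscheme `V(K)`. -/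
lemma flat_quotient_tensor_of_flat_pullback {X S : Scheme.{u}} (f : X ⟶ S) (K : S.IdealSheafData)
    [Flat (pullback.snd f K.subschemeι)] {U : S.Opens} (hU : IsAffineOpen U) {V : X.Opens}
    (hV : IsAffineOpen V) (hVU : V ≤ f ⁻¹ᵁ U) :
    letI := (f.appLE U V hVU).hom.toAlgebra
    Module.Flat (Γ(S, U) ⧸ K.ideal ⟨U, hU⟩) ((Γ(S, U) ⧸ K.ideal ⟨U, hU⟩) ⊗[Γ(S, U)] Γ(X, V)) := by
  letI := (f.appLE U V hVU).hom.toAlgebra
  let ι := K.subschemeι
  let UT : K.subscheme.Opens := ι ⁻¹ᵁ U
  have hUT : IsAffineOpen UT := hU.preimage ι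
  have H : IsPullback (pullback.fst f ι) (pullback.snd f ι) f ι := IsPullback.of_hasPullback f ι
  let UY : (pullback f ι).Opens := pullback.fst f ι ⁻¹ᵁ V ⊓ pullback.snd f ι ⁻¹ᵁ UT
  have hUY : IsAffineOpen UY :=
    Groth.Agent.Lib.Helper35.isAffineOpen_pullback_chart H le_rfl hVU rfl hU hUT hV
  have hpush := Groth.Agent.Lib.Helper35.isPushout_appLE_of_isAffineOpen H (UT := UT) le_rfl hVU
    (UY := UY) rfl hU hUT hV
  have hflat : ((pullback.snd f ι).appLE UT UY (by simp [UY])).hom.Flat :=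
    (pullback.snd f ι).flat_appLE hUT hUY _
  have hsurj : Function.Surjective (ι.appLE U UT le_rfl).hom := by
    rw [Scheme.Hom.appLE_eq_app]  
    exact K.subschemeι_app_surjective ⟨U, hU⟩
  have hker : RingHom.ker (ι.appLE U UT le_rfl).hom = K.ideal ⟨U, hU⟩ := by
    rw [Scheme.Hom.appLE_eq_app]  
    exact K.ker_subschemeι_app ⟨U, hU⟩
  let a : Γ(S, U) →+* Γ(X, V) := (f.appLE U V hVU).hom
  let b : Γ(S, U) →+* Γ(K.subscheme, UT) := (ι.appLE U UT le_rfl).hom
  let c : Γ(X, V) →+* Γ(pullback f ι, UY) := ((pullback.fst f ι).appLE V UY (by simp [UY])).hom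
  let d : Γ(K.subscheme, UT) →+* Γ(pullback f ι, UY) :=
    ((pullback.snd f ι).appLE UT UY (by simp [UY])).hom
  have hw : c.comp a = d.comp b := congrArg CommRingCat.Hom.hom hpush.w
  letI : Algebra Γ(S, U) Γ(K.subscheme, UT) := b.toAlgebra
  letI : Algebra Γ(X, V) Γ(pullback f ι, UY) := c.toAlgebra
  letI : Algebra Γ(K.subscheme, UT) Γ(pullback f ι, UY) := d.toAlgebra
  letI : Algebra Γ(S, U) Γ(pullback f ι, UY) := (d.comp b).toAlgebra
  haveI : IsScalarTower Γ(S, U) Γ(K.subscheme, UT) Γ(pullback f ι, UY) :=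
    IsScalarTower.of_algebraMap_eq' rfl
  haveI : IsScalarTower Γ(S, U) Γ(X, V) Γ(pullback f ι, UY) :=
    IsScalarTower.of_algebraMap_eq' hw.symm
  haveI : Algebra.IsPushout Γ(S, U) Γ(K.subscheme, UT) Γ(X, V) Γ(pullback f ι, UY) :=
    CommRingCat.isPushout_iff_isPushout.mp hpush.flip
  haveI : Module.Flat Γ(K.subscheme, UT) Γ(pullback f ι, UY) := hflat
  exact Groth.Agent.Lib.Helper35.flat_quotient_tensor_of_isPushout (R := Γ(S, U)) (T := Γ(X, V))
    (Rn := Γ(K.subscheme, UT)) (Pn := Γ(pullback f ι, UY)) (K.ideal ⟨U, hU⟩) hsurj hker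

end Helpers

open AlgebraicGeometry CategoryTheory Limits in
/-- For a morphism f : X ⟶ S between locally Noetherian schemes, an ideal sheaf I on S with closed
subscheme Z, and Z_n the closed subscheme cut out by I^(n+1): if each base change X ×_S Z_n ⟶ Z_n is
flat, then f is flat at each point of X lying over Z. -/
theorem result {X S : Scheme.{u}} (f : X ⟶ S) [IsLocallyNoetherian X] [IsLocallyNoetherian S]
    (I : S.IdealSheafData) (h : ∀ n : ℕ, Flat (pullback.snd f (I ^ (n + 1)).subschemeι)) (x : X) (hx : f x ∈ I.support) :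
    (f.stalkMap x).hom.Flat := by
  obtain ⟨_, ⟨U, hU, rfl⟩, hxU, -⟩ :=
    S.isBasis_affineOpens.exists_subset_of_mem_open (Set.mem_univ (f x)) isOpen_univ
  obtain ⟨_, ⟨V, hV, rfl⟩, hxV, hVU⟩ :=
    X.isBasis_affineOpens.exists_subset_of_mem_open hxU (U.2.preimage f.continuous)
  have hNS : IsNoetherianRing Γ(S, U) := IsLocallyNoetherian.component_noetherian ⟨U, hU⟩
  have hNX : IsNoetherianRing Γ(X, V) := IsLocallyNoetherian.component_noetherian ⟨V, hV⟩
  algebraize [(f.appLE U V hVU).hom]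
  let p := (hU.primeIdealOf ⟨f x, hVU hxV⟩).asIdeal
  let q := (hV.primeIdealOf ⟨x, hxV⟩).asIdeal
  have : q.LiesOver p :=
    ⟨congr($(IsAffineOpen.comap_primeIdealOf_appLE U hU V hV hVU hxV).1).symm⟩
  let := Localization.AtPrime.algebraOfLiesOver p q
  -- reduce to flatness of the localization over `Γ(S, U)`
  suffices hfl : Module.Flat Γ(S, U) (Localization.AtPrime q) by
    have h1 : Module.Flat (Localization.AtPrime p) (Localization.AtPrime q) :=
      (Module.flat_iff_of_isLocalization (Localization.AtPrime p) p.primeCompl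
        (Localization.AtPrime q)).mpr hfl
    rw [← RingHom.flat_algebraMap_iff] at h1
    exact (RingHom.Flat.respectsIso.arrow_mk_iso_iff
        (IsAffineOpen.arrowStalkMapIso f U hU V hV hVU hxV)).mpr h1
  let J : Ideal Γ(S, U) := I.ideal ⟨U, hU⟩
  have hJp : J ≤ p := by
    have h1 : f x ∈ S.zeroLocus (U := U) (I.ideal ⟨U, hU⟩) :=
      (Scheme.IdealSheafData.mem_support_iff_of_mem (U := ⟨U, hU⟩) (hVU hxV)).mp hx
    have h2 : hU.primeIdealOf ⟨f x, hVU hxV⟩ ∈ hU.fromSpec ⁻¹' S.zeroLocus (U := U) (I.ideal ⟨U, hU⟩) := by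
      change hU.fromSpec (hU.primeIdealOf ⟨f x, hVU hxV⟩) ∈ S.zeroLocus (U := U) (I.ideal ⟨U, hU⟩)
      rw [hU.fromSpec_primeIdealOf]
      exact h1
    rw [hU.fromSpec_preimage_zeroLocus] at h2
    exact h2
  have hJq : J.map (algebraMap Γ(S, U) Γ(X, V)) ≤ q := by
    rw [Ideal.map_le_iff_le_comap]
    refine hJp.trans (le_of_eq ?_)
    exact (Ideal.LiesOver.over (p := p) (P := q))
  apply Groth.Agent.Lib.Helper35.flat_atPrime_of_flat_quotient_pow J q hJq
  intro n
  haveI := h n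
  have := flat_quotient_tensor_of_flat_pullback f (I ^ (n + 1)) hU hV hVU
  exact this

end Groth.Agent.S9738
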