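import Groth.Statements.S18176
import Mathlib
import Groth.Agent.Lib.Helper55.FunFld.AlgClosed

set_option autoImplicit false
open FunFld

namespace Groth.Agent.S18176

section helpers

open FunFld Groth.Agent.Lib.Helper55

variable {k K : Type*} [Field k] [Field K] [Algebra k K]

/-- `L(D - nP) ⊓ L(D - mQ) ≤ L(D - nP - mQ)` for `P ≠ Q`. -/
theorem L_inf_le (D : FunFld.Divisor k K) (P Q : FunFld.Place k K) (hPQ : P ≠ Q) (n m : ℤ) :
    FunFld.L (D - Finsupp.single P n) ⊓ FunFld.L (D - Finsupp.single Q m) ≤
      FunFld.L (D - Finsupp.single P n - Finsupp.single Q m) := by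
  classical
  intro x hx R
  obtain ⟨h1, h2⟩ := hx
  by_cases hR : R = Q
  · subst hR
    have := h2 R
    have e : (D - Finsupp.single P n - Finsupp.single R m) R = (D - Finsupp.single R m) R := by
      simp [Finsupp.single_apply, hPQ]
    rw [e]
    exact this
  · have := h1 R
    have e : (D - Finsupp.single P n - Finsupp.single Q m) R = (D - Finsupp.single P n) R := by
      simp [Finsupp.single_apply, Ne.symm hR]
    rw [e]
    exact this

/-- the key inequality -/
theorem key [IsAlgClosed k] (hK : FunFld.IsFunctionField k K)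
    (d r : ℕ) (D : FunFld.Divisor k K) (hD : D.deg = d)
    (V : Submodule k K) (hVr : Module.finrank k ↥V = r + 1)
    (P Q : FunFld.Place k K) (hPQ : P ≠ Q) (n m : ℤ) (hnm : n + m = d + 1) :
    Module.finrank k ↥(V ⊓ FunFld.L (D - Finsupp.single P n)) +
      Module.finrank k ↥(V ⊓ FunFld.L (D - Finsupp.single Q m)) ≤ r + 1 := by
  have hVfin : Module.Finite k V := Module.finite_of_finrank_pos (by omega)
  set A := V ⊓ FunFld.L (D - Finsupp.single P n) with hA
  set B := V ⊓ FunFld.L (D - Finsupp.single Q m) with hB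
  have hAV : A ≤ V := inf_le_left
  have hBV : B ≤ V := inf_le_left
  have hAfin : Module.Finite k A := Submodule.finiteDimensional_of_le hAV
  have hBfin : Module.Finite k B := Submodule.finiteDimensional_of_le hBV
  have hdeg : (D - Finsupp.single P n - Finsupp.single Q m).deg < 0 := by
    rw [ff_deg_sub, ff_deg_sub, ff_deg_single, ff_deg_single, hD,
      ff_deg_eq_one_of_isAlgClosed hK P, ff_deg_eq_one_of_isAlgClosed hK Q]
    push_cast
    linarith
  have hbot : A ⊓ B = ⊥ := by
    rw [eq_bot_iff]
    intro x hx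
    have h1 : x ∈ FunFld.L (D - Finsupp.single P n) ⊓ FunFld.L (D - Finsupp.single Q m) :=
      ⟨hx.1.2, hx.2.2⟩
    have h2 := L_inf_le D P Q hPQ n m h1
    rw [ff_L_eq_bot_of_deg_neg hK _ hdeg] at h2
    exact h2
  have hsum := Submodule.finrank_sup_add_finrank_inf_eq A B
  rw [hbot, finrank_bot, add_zero] at hsum
  rw [← hsum, ← hVr]
  exact Submodule.finrank_mono (sup_le hAV hBV)

end helpers

/-- Let `k` be an algebraically closed field of characteristic zero and `K/k` a function field of one
variable (the function field of a smooth projective curve over `k`). A `g^r_d` is a divisor `D` of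
degree `d` with a subspace `V ⊆ L(D)` of dimension `r + 1`; for a place `P` and `n ≥ 0`, `V(-nP) = V
∩ L(D - nP)` is the space of members vanishing to order at least `n` at `P`, so `dim V(-nP)` counts
the vanishing orders `m_0 < ⋯ < m_r` of `V` at `P` that are at least `n`, and the weight of `V` at
`P` is `∑_{n=1}^{d} dim V(-nP) - r(r+1)/2`. For a `g^r_d` `(D, V)` and two distinct places `P ≠ Q`:
the vanishing sequence at `P` is bounded by `m_i(V, P) ≤ d - m_{r-i}(V, Q)`, that is `dim V(-nP) +
dim V(-(d+1-n)Q) ≤ r + 1` for `0 ≤ n ≤ d + 1`; consequently `w(V, P) + w(V, Q) ≤ (r+1)(d-r)`, that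
is `∑_{n=1}^{d} dim V(-nP) + ∑_{n=1}^{d} dim V(-nQ) ≤ (r+1)d`. (In the source the curve is an
elliptic tail of a degenerate curve, `P` its node and `Q` the limit of a moving ramification point
with vanishing sequence `(m_i)` there, and the bound is rewritten as `w(V, P) ≤ r(g-1) + ρ + r - 1`
with `ρ = 1 + g - (r+1)(g+r-d) - ∑ (m_i - i)` the moving-point Brill–Noether number of the whole
genus-`g` curve, where the printed statement has `r(g+1)` for `r(g-1)`; the argument uses only `P ≠
Q`, so the row is stated for any function field.) (The source states this for curves over the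
complex numbers.) -/
theorem result
    (k : Type*) [Field k] [IsAlgClosed k] [CharZero k]
    (K : Type*) [Field K] [Algebra k K] (hK : FunFld.IsFunctionField k K)
    (d r : ℕ) (D : FunFld.Divisor k K) (hD : D.deg = d)
    (V : Submodule k K) (hV : V ≤ FunFld.L D) (hVr : Module.finrank k ↥V = r + 1)
    (P Q : FunFld.Place k K) (hPQ : P ≠ Q) :
    (∀ n : ℕ, n ≤ d + 1 →
      Module.finrank k ↥(V ⊓ FunFld.L (D - Finsupp.single P ((n : ℤ)))) + Module.finrank k ↥(V ⊓ FunFld.L (D - Finsupp.single Q ((d : ℤ) + 1 - n))) ≤ r + 1) ∧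
    (∑ n ∈ Finset.range d, Module.finrank k ↥(V ⊓ FunFld.L (D - Finsupp.single P ((n : ℤ) + 1)))) +
      (∑ n ∈ Finset.range d, Module.finrank k ↥(V ⊓ FunFld.L (D - Finsupp.single Q ((n : ℤ) + 1)))) ≤ (r + 1) * d := by
  refine ⟨?_, ?_⟩
  · intro n hn
    exact key hK d r D hD V hVr P Q hPQ (n : ℤ) ((d : ℤ) + 1 - n) (by ring)
  · have h1 : ∑ n ∈ Finset.range d,
        Module.finrank k ↥(V ⊓ FunFld.L (D - Finsupp.single Q ((n : ℤ) + 1))) =
        ∑ n ∈ Finset.range d,
          Module.finrank k ↥(V ⊓ FunFld.L (D - Finsupp.single Q (((d - 1 - n : ℕ) : ℤ) + 1))) := by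
      rw [Finset.sum_range_reflect (fun n =>
        Module.finrank k ↥(V ⊓ FunFld.L (D - Finsupp.single Q ((n : ℤ) + 1)))) d]
    rw [h1, ← Finset.sum_add_distrib]
    calc ∑ n ∈ Finset.range d,
          (Module.finrank k ↥(V ⊓ FunFld.L (D - Finsupp.single P ((n : ℤ) + 1))) +
            Module.finrank k ↥(V ⊓ FunFld.L (D - Finsupp.single Q (((d - 1 - n : ℕ) : ℤ) + 1))))
        ≤ ∑ _n ∈ Finset.range d, (r + 1) := by
          apply Finset.sum_le_sum
          intro n hn
          rw [Finset.mem_range] at hn
          apply key hK d r D hD V hVr P Q hPQ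
          have : ((d - 1 - n : ℕ) : ℤ) = (d : ℤ) - 1 - n := by omega
          rw [this]
          ring
      _ = (r + 1) * d := by
          rw [Finset.sum_const, Finset.card_range, smul_eq_mul, mul_comm]

end Groth.Agent.S18176
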