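import Groth.Statements.S18177
import Mathlib
import Groth.Agent.S18176

set_option autoImplicit false
open FunFld

namespace Groth.Agent.S18177

section helpers

open FunFld Groth.Agent.Lib.Helper55 Module

variable {k K : Type*} [Field k] [Field K] [Algebra k K]

/-- modular inequality -/
theorem step_general (V L₁ L₂ : Submodule k K) (h : L₁ ≤ L₂) [FiniteDimensional k L₂] :
    finrank k ↥(V ⊓ L₂) + finrank k ↥L₁ ≤ finrank k ↥L₂ + finrank k ↥(V ⊓ L₁) := by
  have hA : FiniteDimensional k ↥(V ⊓ L₂) := Submodule.finiteDimensional_of_le inf_le_right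
  have hB : FiniteDimensional k ↥L₁ := Submodule.finiteDimensional_of_le h
  have h1 := Submodule.finrank_sup_add_finrank_inf_eq (V ⊓ L₂) L₁
  have h2 : (V ⊓ L₂) ⊓ L₁ = V ⊓ L₁ := by
    rw [inf_assoc, inf_eq_right.mpr h]
  have h3 : finrank k ↥((V ⊓ L₂) ⊔ L₁) ≤ finrank k ↥L₂ :=
    Submodule.finrank_mono (sup_le inf_le_right h)
  rw [h2] at h1
  omega

/-- the vanishing-dimension drops by at most one -/
theorem step [IsAlgClosed k] (hK : IsFunctionField k K) (D : Divisor k K) (V : Submodule k K)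
    (P : Place k K) (n : ℤ) :
    finrank k ↥(V ⊓ L (D - Finsupp.single P n)) ≤
      finrank k ↥(V ⊓ L (D - Finsupp.single P (n + 1))) + 1 := by
  have hle : D - Finsupp.single P (n + 1) ≤ D - Finsupp.single P n := by
    apply sub_le_sub_left
    rw [Finsupp.single_le_single]
    omega
  have := ff_L_finiteDimensional hK (D - Finsupp.single P n)
  have h1 := step_general V _ _ (ff_L_mono (k := k) (K := K) hle)
  have h2 := ff_ell_sub_le hK hle
  rw [ff_deg_sub, ff_deg_sub, ff_deg_single, ff_deg_single, ff_deg_eq_one_of_isAlgClosed hK P] at h2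
  unfold ell at h2
  push_cast at h2
  omega

end helpers

/-- Let `k` be an algebraically closed field of characteristic zero and `K/k` a function field of one
variable (the function field of a smooth projective curve over `k`). A `g^r_d` is a divisor `D` of
degree `d` with a subspace `V ⊆ L(D)` of dimension `r + 1`; for a place `P` and `n ≥ 0`, `V(-nP) = V
∩ L(D - nP)` is the space of members vanishing to order at least `n` at `P`, so `dim V(-nP)` counts
the vanishing orders `m_0 < ⋯ < m_r` of `V` at `P` that are at least `n`, and the weight of `V` at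
`P` is `∑_{n=1}^{d} dim V(-nP) - r(r+1)/2`. Let `(D, V)` be a `g^r_d` with `r ≥ 1` and `P ≠ Q`
places at which the weights are large: `w(V, P) + w(V, Q) ≥ (r+1)(d-r) - (r-1)`, that is `(r+1)d + 1
≤ ∑_{n=1}^{d} dim V(-nP) + ∑_{n=1}^{d} dim V(-nQ) + r`. Then `V` contains members with divisors `m_i
Q + (d - m_i) P` for two different indices `i`, and hence `m(Q - P)` is a principal divisor for some
`1 ≤ m ≤ d`. (In the source `K` is an elliptic tail of a degenerate curve, `P` its node and `Q` the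
limit of the moving ramification point, the weight hypothesis coming from `ρ ≤ 0`; it concludes that
only finitely many `Q` are possible. The torsion assertion holds in any genus and is what is stated
here.) (The source states this for curves over the complex numbers.) -/
theorem result
    (k : Type*) [Field k] [IsAlgClosed k] [CharZero k]
    (K : Type*) [Field K] [Algebra k K] (hK : FunFld.IsFunctionField k K)
    (d r : ℕ) (hr : 1 ≤ r) (D : FunFld.Divisor k K) (hD : D.deg = d)
    (V : Submodule k K) (hV : V ≤ FunFld.L D) (hVr : Module.finrank k ↥V = r + 1)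
    (P Q : FunFld.Place k K) (hPQ : P ≠ Q)
    (hw : (r + 1) * d + 1 ≤
      (∑ n ∈ Finset.range d, Module.finrank k ↥(V ⊓ FunFld.L (D - Finsupp.single P ((n : ℤ) + 1)))) +
        (∑ n ∈ Finset.range d, Module.finrank k ↥(V ⊓ FunFld.L (D - Finsupp.single Q ((n : ℤ) + 1)))) + r) :
    ∃ m : ℕ, 1 ≤ m ∧ m ≤ d ∧ ∃ h : K, h ≠ 0 ∧
      FunFld.div k h = Finsupp.single Q (m : ℤ) - Finsupp.single P (m : ℤ) := by
  classical
  open FunFld Groth.Agent.Lib.Helper55 Module in
  -- notation
  set a : ℕ → ℕ := fun n => finrank k ↥(V ⊓ L (D - Finsupp.single P (n : ℤ))) with ha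
  set b : ℕ → ℕ := fun n => finrank k ↥(V ⊓ L (D - Finsupp.single Q (n : ℤ))) with hb
  have hVfin : Module.Finite k V := Module.finite_of_finrank_pos (by omega)
  have ha0 : a 0 = r + 1 := by
    show finrank k ↥(V ⊓ L (D - Finsupp.single P ((0 : ℕ) : ℤ))) = r + 1
    rw [Nat.cast_zero, Finsupp.single_zero, sub_zero, inf_eq_left.mpr hV, hVr]
  have hb0 : b 0 = r + 1 := by
    show finrank k ↥(V ⊓ L (D - Finsupp.single Q ((0 : ℕ) : ℤ))) = r + 1
    rw [Nat.cast_zero, Finsupp.single_zero, sub_zero, inf_eq_left.mpr hV, hVr]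
  have hbstep : ∀ n : ℕ, b n ≤ b (n + 1) + 1 := by
    intro n
    have := step hK D V Q (n : ℤ)
    simpa [hb] using this
  have h76 := (Groth.Agent.S18176.result k K hK d r D hD V hV hVr P Q hPQ).1
  have hc : ∀ n : ℕ, n ≤ d → a n + b (d + 1 - n) ≤ r + 1 := by
    intro n hn
    have := h76 n (by omega)
    have e : ((d : ℤ) + 1 - (n : ℤ)) = ((d + 1 - n : ℕ) : ℤ) := by omega
    rw [e] at this
    exact this
  -- e n = a n + b (d - n) ≤ r + 2
  have he : ∀ n : ℕ, n ≤ d → a n + b (d - n) ≤ r + 2 := by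
    intro n hn
    have h1 := hc n hn
    have h2 := hbstep (d - n)
    have e : d - n + 1 = d + 1 - n := by omega
    rw [e] at h2
    omega
  -- sum estimate
  have hsa : ∑ n ∈ Finset.range (d + 1), a n = (r + 1) +
      ∑ n ∈ Finset.range d, finrank k ↥(V ⊓ L (D - Finsupp.single P ((n : ℤ) + 1))) := by
    rw [Finset.sum_range_succ', ha0, add_comm]
    congr 1
  have hsb : ∑ n ∈ Finset.range (d + 1), b n = (r + 1) +
      ∑ n ∈ Finset.range d, finrank k ↥(V ⊓ L (D - Finsupp.single Q ((n : ℤ) + 1))) := by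
    rw [Finset.sum_range_succ', hb0, add_comm]
    congr 1
  have hsb' : ∑ n ∈ Finset.range (d + 1), b (d - n) = ∑ n ∈ Finset.range (d + 1), b n := by
    have := Finset.sum_range_reflect b (d + 1)
    simpa using this
  have hsum : (r + 1) * (d + 1) + 2 ≤ ∑ n ∈ Finset.range (d + 1), (a n + b (d - n)) := by
    rw [Finset.sum_add_distrib, hsb', hsa, hsb]
    have : (r + 1) * (d + 1) = (r + 1) * d + (r + 1) := by ring
    omega
  -- pigeonhole
  set T := (Finset.range (d + 1)).filter (fun n => a n + b (d - n) = r + 2) with hT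
  have hsum2 : ∑ n ∈ Finset.range (d + 1), (a n + b (d - n)) ≤ (r + 1) * (d + 1) + T.card := by
    have h1 : ∀ n ∈ Finset.range (d + 1), a n + b (d - n) ≤ (r + 1) +
        (if a n + b (d - n) = r + 2 then 1 else 0) := by
      intro n hn
      have := he n (by simpa [Nat.lt_succ_iff] using hn)
      split_ifs with h
      · omega
      · omega
    refine (Finset.sum_le_sum h1).trans ?_
    rw [Finset.sum_add_distrib, Finset.sum_const, Finset.card_range, smul_eq_mul,
      Finset.sum_boole, mul_comm]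
    simp [hT]
  have hcard : 1 < T.card := by omega
  obtain ⟨n₁, hn₁, n₂, hn₂, hne⟩ := Finset.one_lt_card.mp hcard
  -- wlog n₁ < n₂
  have key : ∀ n : ℕ, n ∈ T → ∃ f : K, f ≠ 0 ∧
      FunFld.div k f = -(D - Finsupp.single P (n : ℤ) - Finsupp.single Q ((d - n : ℕ) : ℤ)) := by
    intro n hn
    rw [hT, Finset.mem_filter, Finset.mem_range] at hn
    obtain ⟨hnd, hen⟩ := hn
    set A := V ⊓ L (D - Finsupp.single P (n : ℤ)) with hA
    set B := V ⊓ L (D - Finsupp.single Q ((d - n : ℕ) : ℤ)) with hB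
    have hAfin : Module.Finite k A := Submodule.finiteDimensional_of_le inf_le_left
    have hBfin : Module.Finite k B := Submodule.finiteDimensional_of_le inf_le_left
    have h1 := Submodule.finrank_sup_add_finrank_inf_eq A B
    have h2 : finrank k ↥(A ⊔ B) ≤ r + 1 := by
      rw [← hVr]
      exact Submodule.finrank_mono (sup_le inf_le_left inf_le_left)
    have h3 : finrank k ↥A + finrank k ↥B = r + 2 := hen
    have h4 : 0 < finrank k ↥(A ⊓ B) := by omega
    have h5 : A ⊓ B ≠ ⊥ := by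
      intro h
      rw [h, finrank_bot] at h4
      exact lt_irrefl _ h4
    obtain ⟨f, hf, hf0⟩ := Submodule.exists_mem_ne_zero_of_ne_bot h5
    refine ⟨f, hf0, ?_⟩
    have hfL : f ∈ L (D - Finsupp.single P (n : ℤ) - Finsupp.single Q ((d - n : ℕ) : ℤ)) :=
      Groth.Agent.S18176.L_inf_le D P Q hPQ _ _ ⟨hf.1.2, hf.2.2⟩
    have h6 := (ff_mem_L_iff_div hK _ hf0).mp hfL
    have hdeg : (0 : Divisor k K).deg =
        (D - Finsupp.single P (n : ℤ) - Finsupp.single Q ((d - n : ℕ) : ℤ) + FunFld.div k f).deg := by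
      rw [ff_deg_zero, ff_deg_add, ff_deg_div hK, ff_deg_sub, ff_deg_sub, ff_deg_single,
        ff_deg_single, hD, ff_deg_eq_one_of_isAlgClosed hK P, ff_deg_eq_one_of_isAlgClosed hK Q]
      push_cast
      omega
    have h7 := ff_eq_of_le_of_deg_eq hK h6 hdeg
    rw [eq_neg_iff_add_eq_zero, add_comm]
    exact h7.symm
  have final : ∀ n₁ n₂ : ℕ, n₁ ∈ T → n₂ ∈ T → n₁ < n₂ →
      ∃ m : ℕ, 1 ≤ m ∧ m ≤ d ∧ ∃ h : K, h ≠ 0 ∧
        FunFld.div k h = Finsupp.single Q (m : ℤ) - Finsupp.single P (m : ℤ) := by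
    intro n₁ n₂ h1 h2 hlt
    obtain ⟨f₁, hf₁, hd₁⟩ := key n₁ h1
    obtain ⟨f₂, hf₂, hd₂⟩ := key n₂ h2
    have hn₂ : n₂ ≤ d := by
      rw [hT, Finset.mem_filter, Finset.mem_range] at h2
      omega
    refine ⟨n₂ - n₁, by omega, by omega, f₁ * f₂⁻¹, mul_ne_zero hf₁ (inv_ne_zero hf₂), ?_⟩
    rw [ff_div_mul hK hf₁ (inv_ne_zero hf₂), ff_div_inv hK, hd₁, hd₂]
    have e1 : ((d - n₁ : ℕ) : ℤ) = (d : ℤ) - n₁ := by omega
    have e2 : ((d - n₂ : ℕ) : ℤ) = (d : ℤ) - n₂ := by omega
    have e3 : ((n₂ - n₁ : ℕ) : ℤ) = (n₂ : ℤ) - n₁ := by omega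
    rw [e1, e2, e3]
    ext R
    simp only [Finsupp.coe_neg, Finsupp.coe_sub, Finsupp.coe_add, Pi.neg_apply, Pi.sub_apply,
      Pi.add_apply, Finsupp.single_apply]
    split_ifs <;> ring
  rcases Nat.lt_or_gt_of_ne hne with h | h
  · exact final n₁ n₂ hn₁ hn₂ h
  · exact final n₂ n₁ hn₂ hn₁ h

end Groth.Agent.S18177
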