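import Groth.Statements.S1679
import Mathlib
import Groth.Agent.Lib.Helper91.RegImmLocal

set_option autoImplicit false
universe u
open CategoryTheory CategoryTheory.Limits AlgebraicGeometry TopologicalSpace
open SDiv

namespace Groth.Agent.S1679

/-- Equivalence of (1), (5) and (9) (the regular-sequence variants only): let X be a locally Noetherian
scheme, i : Z ⟶ X a closed immersion and z a point of Z. Then i is a regular closed immersion over
some open neighbourhood of i z if and only if the kernel of O_{X, i z} → O_{Z, z} is generated by a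
regular sequence of O_{X, i z}. -/
theorem result {X Z : Scheme.{u}} [IsLocallyNoetherian X] (i : Z ⟶ X) [IsClosedImmersion i] (z : ↥Z) :
    (∃ V : X.Opens, i z ∈ V ∧ Mor2.IsRegularClosedImmersion (i ∣_ V)) ↔
      ∃ rs : List ↑(X.presheaf.stalk (i z)), RingTheory.Sequence.IsRegular ↑(X.presheaf.stalk (i z)) rs ∧
        RingHom.ker (i.stalkMap z).hom = Ideal.ofList rs := by
  classical
  constructor
  · rintro ⟨V, hzV, h⟩
    obtain ⟨U, hzU, rs, hreg, hI⟩ :=
      Groth.Agent.Lib.Helper91.RegImmLocal.exists_affine_of_restrict i z V hzV h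
    letI alg : Algebra Γ(X, U.1) (X.presheaf.stalk (i z)) :=
      TopCat.Presheaf.algebra_section_stalk X.presheaf ⟨i z, hzU⟩
    haveI loc : IsLocalization.AtPrime (X.presheaf.stalk (i z))
        (U.2.primeIdealOf ⟨i z, hzU⟩).asIdeal := U.2.isLocalization_stalk ⟨_, hzU⟩
    have hker := Groth.Agent.Lib.Helper91.ClosedImmStalk.ker_stalkMap i U z hzU
    have hker' : RingHom.ker (i.stalkMap z).hom =
        (i.ker.ideal U).map (algebraMap Γ(X, U.1) (X.presheaf.stalk (i z))) := hker
    have mem : ∀ r ∈ rs, r ∈ (U.2.primeIdealOf ⟨i z, hzU⟩).asIdeal := by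
      intro r hr
      by_contra hrp
      have hunit : IsUnit (algebraMap Γ(X, U.1) (X.presheaf.stalk (i z)) r) :=
        IsLocalization.map_units (M := (U.2.primeIdealOf ⟨i z, hzU⟩).asIdeal.primeCompl) _ ⟨r, hrp⟩
      have hrI : r ∈ i.ker.ideal U := by
        rw [hI]
        exact Ideal.subset_span (by simpa using hr)
      have h0 : algebraMap Γ(X, U.1) (X.presheaf.stalk (i z)) r ∈ RingHom.ker (i.stalkMap z).hom := by
        rw [hker']
        exact Ideal.mem_map_of_mem _ hrI
      rw [RingHom.mem_ker] at h0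
      have h1 := hunit.map (i.stalkMap z).hom
      rw [h0] at h1
      exact not_isUnit_zero h1
    refine ⟨rs.map (algebraMap Γ(X, U.1) (X.presheaf.stalk (i z))),
      hreg.1.isRegular_of_isLocalization_of_mem (X.presheaf.stalk (i z))
        (U.2.primeIdealOf ⟨i z, hzU⟩).asIdeal mem, ?_⟩
    rw [hker', hI, Ideal.map_ofList]
  · rintro ⟨rs, hreg, hker⟩
    obtain ⟨W, hx, b, hb⟩ := Groth.Agent.Lib.Helper91.RegImmLocal.exists_sections (i z) rs
    haveI : IsNoetherianRing Γ(X, W.1) := IsLocallyNoetherian.component_noetherian W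
    letI alg : Algebra Γ(X, W.1) (X.presheaf.stalk (i z)) :=
      TopCat.Presheaf.algebra_section_stalk X.presheaf ⟨i z, hx⟩
    haveI loc : IsLocalization.AtPrime (X.presheaf.stalk (i z))
        (W.2.primeIdealOf ⟨i z, hx⟩).asIdeal := W.2.isLocalization_stalk ⟨_, hx⟩
    have hb' : b.map (algebraMap Γ(X, W.1) (X.presheaf.stalk (i z))) = rs := hb
    have hkerW := Groth.Agent.Lib.Helper91.ClosedImmStalk.ker_stalkMap i W z hx
    have hI : (i.ker.ideal W).map (algebraMap Γ(X, W.1) (X.presheaf.stalk (i z))) =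
        Ideal.ofList (b.map (algebraMap Γ(X, W.1) (X.presheaf.stalk (i z)))) := by
      rw [hb', ← hker]
      exact hkerW.symm
    obtain ⟨g, hgp, hg⟩ := Groth.Agent.Lib.Helper91.RegSpread.exists_away Γ(X, W.1)
      (W.2.primeIdealOf ⟨i z, hx⟩).asIdeal (X.presheaf.stalk (i z)) (i.ker.ideal W) b
      (hb'.symm ▸ hreg.1) hI
    letI algV : Algebra Γ(X, W.1) Γ(X, X.basicOpen g) :=
      (X.presheaf.map (homOfLE (X.basicOpen_le g)).op).hom.toAlgebra
    haveI locV : IsLocalization.Away g Γ(X, X.basicOpen g) := W.2.isLocalization_basicOpen g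
    obtain ⟨hwr, hIV⟩ := hg Γ(X, X.basicOpen g)
    have hxV : i z ∈ X.basicOpen g :=
      (Groth.Agent.Lib.Helper91.MaxPoint.mem_basicOpen_iff_notMem_primeIdealOf W.2 g (i z) hx).mpr hgp
    have hideal : i.ker.ideal (X.affineBasicOpen g) =
        Ideal.ofList (b.map (algebraMap Γ(X, W.1) Γ(X, X.basicOpen g))) := by
      rw [← i.ker.map_ideal_basicOpen W g]
      exact hIV
    refine ⟨X.basicOpen g, hxV,
      Groth.Agent.Lib.Helper91.RegImmLocal.restrict_of_affine i (X.affineBasicOpen g)
        (b.map (algebraMap Γ(X, W.1) Γ(X, X.basicOpen g))) ⟨hwr, ?_⟩ hideal⟩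
    intro htop
    rw [smul_eq_mul, Ideal.mul_top] at htop
    have hkerV := Groth.Agent.Lib.Helper91.ClosedImmStalk.ker_stalkMap i (X.affineBasicOpen g) z hxV
    have h2 : i.ker.ideal (X.affineBasicOpen g) = ⊤ := hideal.trans htop.symm
    rw [h2, Ideal.map_top] at hkerV
    have h1 : (1 : X.presheaf.stalk (i z)) ∈ RingHom.ker (i.stalkMap z).hom := by
      rw [hkerV]; trivial
    rw [RingHom.mem_ker, map_one] at h1
    exact one_ne_zero h1

end Groth.Agent.S1679
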