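import Groth.Statements.S1570
import Groth.Agent.Lib.Helper70.AffineStalk
import Groth.Agent.Lib.Helper70.SpreadPrincipal
-- import your own Groth.Agent.* helpers here

set_option autoImplicit false
universe u
open CategoryTheory CategoryTheory.Limits AlgebraicGeometry
open Divisors

namespace Groth.Agent.S1570

/-- Let X be locally Noetherian and D a closed subscheme with ideal sheaf I. If for every point x of D
the ideal generated by I in the local ring at x is generated by one nonzerodivisor, then D is an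
effective Cartier divisor. -/
theorem result (X : Scheme.{u}) [IsLocallyNoetherian X]
    (D : X.IdealSheafData)
    (h : ∀ x ∈ D.support, ∀ (U : X.affineOpens) (hx : x ∈ (U : X.Opens)),
      ∃ g : X.presheaf.stalk x, g ∈ nonZeroDivisors (X.presheaf.stalk x) ∧
        (D.ideal U).map (X.presheaf.germ U x hx).hom = Ideal.span {g}) :
    BlowUp.IsEffCartierIdeal D := by
  intro x
  by_cases hxD : x ∈ D.support
  · -- spread out the principal generator
    obtain ⟨_, ⟨U, hU, rfl⟩, hxU, -⟩ :=
      X.isBasis_affineOpens.exists_subset_of_mem_open (Set.mem_univ x) isOpen_univ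
    obtain ⟨g, hg, hIg⟩ := h x hxD ⟨U, hU⟩ hxU
    have hN : IsNoetherianRing Γ(X, U) := IsLocallyNoetherian.component_noetherian ⟨U, hU⟩
    let _ := TopCat.Presheaf.algebra_section_stalk X.presheaf ⟨x, hxU⟩
    have hloc := hU.isLocalization_stalk ⟨x, hxU⟩
    obtain ⟨hh, hhp, i, hiI, hB⟩ :=
      Groth.Agent.Lib.Helper70.exists_away_principal_nonZeroDivisor
        (hU.primeIdealOf ⟨x, hxU⟩).asIdeal (X.presheaf.stalk x) (D.ideal ⟨U, hU⟩) g hg hIg
    have hBloc := hU.isLocalization_basicOpen hh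
    obtain ⟨h1, h2⟩ := hB Γ(X, X.basicOpen hh)
    refine ⟨X.affineBasicOpen (U := ⟨U, hU⟩) hh, ?_, algebraMap Γ(X, U) Γ(X, X.basicOpen hh) i, h2, ?_⟩
    · -- x ∈ D(hh)
      have h3 : hU.fromSpec (hU.primeIdealOf ⟨x, hxU⟩) = x := hU.fromSpec_primeIdealOf ⟨x, hxU⟩
      have h4 : hU.primeIdealOf ⟨x, hxU⟩ ∈ hU.fromSpec ⁻¹ᵁ X.basicOpen hh := by
        rw [hU.fromSpec_preimage_basicOpen]
        exact hhp
      have h5 : hU.fromSpec (hU.primeIdealOf ⟨x, hxU⟩) ∈ X.basicOpen hh := h4
      rw [h3] at h5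
      exact h5
    · rw [← D.map_ideal_basicOpen ⟨U, hU⟩ hh]
      exact h1
  · -- away from the support the ideal is the unit ideal
    obtain ⟨_, ⟨U, hU, rfl⟩, hxU, hUD⟩ :=
      X.isBasis_affineOpens.exists_subset_of_mem_open (show x ∈ (D.support : Set X)ᶜ from hxD)
        D.support.isClosed.isOpen_compl
    refine ⟨⟨U, hU⟩, hxU, 1, one_mem _, ?_⟩
    rw [Ideal.span_singleton_one]
    by_contra hne
    obtain ⟨m, hm, hle⟩ := Ideal.exists_le_maximal _ hne
    set y := hU.fromSpec ⟨m, hm.isPrime⟩ with hy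
    have hyU : y ∈ U := Groth.Agent.Lib.Helper70.fromSpec_mem hU _
    have hyD : y ∈ D.support := by
      rw [Groth.Agent.Lib.Helper70.mem_support_iff_le_primeIdealOf D ⟨U, hU⟩ y hyU,
        Groth.Agent.Lib.Helper70.primeIdealOf_fromSpec hU]
      exact hle
    exact hUD hyU hyD


end Groth.Agent.S1570
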