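import Groth.Statements.S8741
import Mathlib
import Groth.Agent.Lib.Helper92.MVFKernel
-- import your own Groth.Agent.* helpers here

set_option autoImplicit false
universe u
open CategoryTheory Limits
open Adeq

namespace Groth.Agent.S8741

open TensorProduct
open Groth.Agent.Lib.Helper92

/-- the equational criterion for vanishing, in the form needed here -/
theorem eqn_crit {A : Type u} [CommRing A] {B : Type u} [CommRing B] [Algebra A B]
    {M N : Type (u + 1)} [AddCommGroup M] [Module A M] [AddCommGroup N] [Module A N]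
    (φ : M →ₗ[A] N) (y : B ⊗[A] M) (hy : φ.baseChange B y = 0) :
    ∃ (ι : Type (u + 1)) (_ : Fintype ι) (k : ℕ) (bb : ι → B) (mm : ι → M)
      (a : ι → Fin k → A) (yy : Fin k → N),
      y = ∑ i, bb i ⊗ₜ[A] mm i ∧ (∀ i, φ (mm i) = ∑ j, a i j • yy j) ∧
        (∀ j, ∑ i, a i j • bb i = 0) := by
  classical
  obtain ⟨S, hS⟩ := TensorProduct.exists_finset y
  obtain ⟨b₁, hb₁⟩ : ∃ b₁ : S → B, ∀ p, b₁ p = p.1.1 := ⟨_, fun _ => rfl⟩
  obtain ⟨m₁, hm₁⟩ : ∃ m₁ : S → M, ∀ p, m₁ p = p.1.2 := ⟨_, fun _ => rfl⟩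
  have hy1 : y = ∑ p : S, b₁ p ⊗ₜ[A] m₁ p := by
    rw [hS, ← Finset.sum_coe_sort]
    exact Finset.sum_congr rfl fun p _ => by rw [hb₁, hm₁]
  have hPfg : (Submodule.span A (Set.range b₁)).FG := Submodule.fg_span (Set.finite_range b₁)
  obtain ⟨t, ht⟩ : ∃ t : (Submodule.span A (Set.range b₁)) ⊗[A] N,
      t = ∑ p : S, (⟨b₁ p, Submodule.subset_span ⟨p, rfl⟩⟩ : Submodule.span A (Set.range b₁)) ⊗ₜ[A]
        φ (m₁ p) := ⟨_, rfl⟩
  have ht0 : LinearMap.rTensor N (Submodule.span A (Set.range b₁)).subtype t = 0 := by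
    rw [ht, map_sum]
    simp only [LinearMap.rTensor_tmul, Submodule.subtype_apply]
    rw [← hy, hy1, map_sum]
    simp only [LinearMap.baseChange_tmul]
  obtain ⟨Q, hPQ, hQfg, hQ⟩ := TensorProduct.eq_zero_of_fg_of_subtype_eq_zero hPfg ht0
  obtain ⟨G, hG⟩ := hQfg
  subst hG
  obtain ⟨mmQ, hmmQl, hmmQr⟩ : ∃ mmQ : (S ⊕ G) → Submodule.span A (G : Set B),
      (∀ p, (mmQ (Sum.inl p) : B) = b₁ p) ∧ (∀ g : G, (mmQ (Sum.inr g) : B) = g.1) :=
    ⟨Sum.elim (fun p => ⟨b₁ p, hPQ (Submodule.subset_span ⟨p, rfl⟩)⟩)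
      (fun g => ⟨g.1, Submodule.subset_span g.2⟩), fun _ => rfl, fun _ => rfl⟩
  obtain ⟨nn, hnnl, hnnr⟩ : ∃ nn : (S ⊕ G) → N,
      (∀ p, nn (Sum.inl p) = φ (m₁ p)) ∧ (∀ g, nn (Sum.inr g) = 0) :=
    ⟨Sum.elim (fun p => φ (m₁ p)) (fun _ => 0), fun _ => rfl, fun _ => rfl⟩
  have hspan : Submodule.span A (Set.range mmQ) = ⊤ := by
    rw [eq_top_iff, ← Submodule.span_span_coe_preimage (R := A) (s := (G : Set B))]
    refine Submodule.span_mono ?_
    intro q hq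
    exact ⟨Sum.inr ⟨q.1, hq⟩, Subtype.ext (hmmQr _)⟩
  have hsum : ∑ i, mmQ i ⊗ₜ[A] nn i = (0 : (Submodule.span A (G : Set B)) ⊗[A] N) := by
    rw [Fintype.sum_sum_type]
    have h2 : ∑ g : G, mmQ (Sum.inr g) ⊗ₜ[A] nn (Sum.inr g) = 0 :=
      Finset.sum_eq_zero fun g _ => by rw [hnnr, TensorProduct.tmul_zero]
    rw [h2, add_zero, ← hQ, ht, map_sum]
    refine Finset.sum_congr rfl fun p _ => ?_
    rw [LinearMap.rTensor_tmul, hnnl]
    congr 1
    exact Subtype.ext (hmmQl p)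
  obtain ⟨k, a, yy, h1, h2⟩ := TensorProduct.vanishesTrivially_of_sum_tmul_eq_zero A hspan hsum
  refine ⟨S ⊕ G, inferInstance, k, fun i => (mmQ i : B), Sum.elim m₁ (fun _ => 0), a, yy, ?_, ?_, ?_⟩
  · rw [Fintype.sum_sum_type]
    have h3 : ∑ g : G, (mmQ (Sum.inr g) : B) ⊗ₜ[A] (Sum.elim m₁ (fun _ => (0 : M)) (Sum.inr g)) = 0 :=
      Finset.sum_eq_zero fun g _ => by rw [Sum.elim_inr, TensorProduct.tmul_zero]
    rw [h3, add_zero, hy1]
    exact Finset.sum_congr rfl fun p _ => by simp only [hmmQl, Sum.elim_inl]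
  · rintro (p | g)
    · rw [Sum.elim_inl, ← hnnl]; exact h1 _
    · rw [Sum.elim_inr, map_zero, ← hnnr g]; exact h1 _
  · intro j
    have h4 := congrArg Subtype.val (h2 j)
    simpa only [Submodule.coe_sum, Submodule.coe_smul, Submodule.coe_zero] using h4

theorem build (A : Type u) [CommRing A] (F : Adeq.MVF A) (M N : ModuleCat.{u + 1} A) (φ : M ⟶ N)
    (e : F ≅ kernel ((Adeq.underline A).map φ)) (B : Adeq.Alg A) (ξ : F.obj (Adeq.pt B))
    (ι : Type (u + 1)) [Fintype ι] (k : ℕ) (bb : ι → B) (mm : ι → M) (a : ι → Fin k → A)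
    (yy : Fin k → N)
    (hysum : ((e.hom ≫ kernel.ι ((Adeq.underline A).map φ)).app (Adeq.pt B) ξ :
      (B : Type u) ⊗[A] (M : Type (u + 1))) = ∑ i, bb i ⊗ₜ[A] mm i)
    (hφ : ∀ i, φ.hom (mm i) = ∑ j, a i j • yy j) (hrel : ∀ j, ∑ i, a i j • bb i = 0) :
    ∃ (L : Adeq.MVF A) (_ : Adeq.linAdequate A L) (f : L ⟶ F) (ℓ : L.obj (Adeq.pt B)),
      f.app (Adeq.pt B) ℓ = ξ := by
  classical
  obtain ⟨θ, hθ⟩ : ∃ θ : F ⟶ (Adeq.underline A).obj M,
      θ = e.hom ≫ kernel.ι ((Adeq.underline A).map φ) := ⟨_, rfl⟩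
  have hθmono : Mono θ := by rw [hθ]; infer_instance
  have hθinj : Function.Injective (θ.app (Adeq.pt B)) :=
    PresheafOfModules.injective_of_mono θ (Adeq.pt B)
  obtain ⟨T, hT⟩ : ∃ T : (ι →₀ A) →ₗ[A] (ULift.{u + 1} (Fin k) →₀ A),
      T = Finsupp.linearCombination A
        (fun i => ∑ j : Fin k, Finsupp.single (ULift.up j) (a i j)) := ⟨_, rfl⟩
  obtain ⟨Ψ, hΨ⟩ : ∃ Ψ : (ι →₀ A) →ₗ[A] M, Ψ = Finsupp.linearCombination A mm := ⟨_, rfl⟩
  obtain ⟨Y, hY⟩ : ∃ Y : (ULift.{u + 1} (Fin k) →₀ A) →ₗ[A] N,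
      Y = Finsupp.linearCombination A (fun j => yy j.down) := ⟨_, rfl⟩
  have hcomm : φ.hom ∘ₗ Ψ = Y ∘ₗ T := by
    apply Finsupp.lhom_ext'
    intro i
    apply LinearMap.ext_ring
    simp only [LinearMap.comp_apply, Finsupp.lsingle_apply, hΨ, hT, hY,
      Finsupp.linearCombination_single, one_smul, map_sum, hφ i]
  have hcomm' : ModuleCat.ofHom Ψ ≫ φ = ModuleCat.ofHom T ≫ ModuleCat.ofHom Y := by
    apply ModuleCat.hom_ext
    exact hcomm
  have hL : Adeq.linAdequate A (kernel ((Adeq.underline A).map (ModuleCat.ofHom T))) :=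
    ⟨ModuleCat.of A (ι →₀ A), ModuleCat.of A (ULift.{u + 1} (Fin k) →₀ A), ModuleCat.ofHom T,
      (inferInstance : Module.Finite A (ι →₀ A)), (inferInstance : Module.Free A (ι →₀ A)),
      (inferInstance : Module.Finite A (ULift.{u + 1} (Fin k) →₀ A)),
      (inferInstance : Module.Free A (ULift.{u + 1} (Fin k) →₀ A)), ⟨Iso.refl _⟩⟩
  have w : (kernel.ι ((Adeq.underline A).map (ModuleCat.ofHom T)) ≫
      (Adeq.underline A).map (ModuleCat.ofHom Ψ)) ≫ (Adeq.underline A).map φ = 0 := by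
    rw [Category.assoc, ← Functor.map_comp, hcomm', Functor.map_comp, ← Category.assoc,
      kernel.condition, zero_comp]
  obtain ⟨f, hf⟩ : ∃ f : kernel ((Adeq.underline A).map (ModuleCat.ofHom T)) ⟶ F,
      f = kernel.lift _ (kernel.ι ((Adeq.underline A).map (ModuleCat.ofHom T)) ≫
        (Adeq.underline A).map (ModuleCat.ofHom Ψ)) w ≫ e.inv := ⟨_, rfl⟩
  have hfθ : f ≫ θ = kernel.ι ((Adeq.underline A).map (ModuleCat.ofHom T)) ≫
      (Adeq.underline A).map (ModuleCat.ofHom Ψ) := by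
    rw [hf, hθ]
    simp
  obtain ⟨β, hβ⟩ : ∃ β : (B : Type u) ⊗[A] (ι →₀ A),
      β = ∑ i, bb i ⊗ₜ[A] Finsupp.single i (1 : A) := ⟨_, rfl⟩
  have hβ0 : T.baseChange B β = 0 := by
    rw [hβ, map_sum]
    simp only [LinearMap.baseChange_tmul, hT, Finsupp.linearCombination_single, one_smul,
      TensorProduct.tmul_sum]
    rw [Finset.sum_comm]
    refine Finset.sum_eq_zero fun j _ => ?_
    have h5 : ∀ i, bb i ⊗ₜ[A] (Finsupp.single (ULift.up j) (a i j) : ULift.{u + 1} (Fin k) →₀ A) =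
        (a i j • bb i) ⊗ₜ[A] (Finsupp.single (ULift.up j) (1 : A) : ULift.{u + 1} (Fin k) →₀ A) :=
      fun i => by rw [TensorProduct.smul_tmul, Finsupp.smul_single, smul_eq_mul, mul_one]
    simp only [h5]
    rw [← TensorProduct.sum_tmul, hrel j, TensorProduct.zero_tmul]
  have hS : (ShortComplex.mk (kernel.ι ((Adeq.underline A).map (ModuleCat.ofHom T)))
      ((Adeq.underline A).map (ModuleCat.ofHom T)) (kernel.condition _)).Exact :=
    ShortComplex.exact_of_f_is_kernel _ (kernelIsKernel _)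
  obtain ⟨ℓ, hℓ⟩ := MVFKernel.pointwise_exact_gen _ hS (Adeq.pt B) β hβ0
  refine ⟨_, hL, f, ℓ, hθinj ?_⟩
  have h3 : θ.app (Adeq.pt B) (f.app (Adeq.pt B) ℓ) =
      ((Adeq.underline A).map (ModuleCat.ofHom Ψ)).app (Adeq.pt B)
        ((kernel.ι ((Adeq.underline A).map (ModuleCat.ofHom T))).app (Adeq.pt B) ℓ) :=
    congrArg (fun g => (g.app (Adeq.pt B)) ℓ) hfθ
  have hℓ' : (kernel.ι ((Adeq.underline A).map (ModuleCat.ofHom T))).app (Adeq.pt B) ℓ = β := hℓ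
  rw [h3, hℓ']
  have h6 : ((Adeq.underline A).map (ModuleCat.ofHom Ψ)).app (Adeq.pt B) β = Ψ.baseChange B β := rfl
  have h7 : θ.app (Adeq.pt B) ξ = ∑ i, bb i ⊗ₜ[A] mm i := by rw [hθ]; exact hysum
  rw [h6, h7, hβ, map_sum]
  simp only [LinearMap.baseChange_tmul, hΨ, Finsupp.linearCombination_single, one_smul]


/-- An adequate functor `F` on `A`-algebras admits a surjection `L → F` from a direct sum `L` of
linearly adequate functors: there are linearly adequate `L_i`, a coproduct cocone of the family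
which is a colimit, and an epimorphism from its point onto `F`. -/
theorem result (A : Type u) [CommRing A] (F : Adeq.MVF A) (hF : Adeq.adequate A F) :
    ∃ (ι : Type (u + 1)) (L : ι → Adeq.MVF A), (∀ i, Adeq.linAdequate A (L i)) ∧
      ∃ (c : Cofan L) (_ : IsColimit c) (π : c.pt ⟶ F), Epi π := by
  classical
  obtain ⟨M, N, φ, ⟨e⟩⟩ := hF
  have hzero : (e.hom ≫ kernel.ι ((Adeq.underline A).map φ)) ≫ (Adeq.underline A).map φ = 0 := by
    rw [Category.assoc, kernel.condition, comp_zero]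
  have key : ∀ (B : Adeq.Alg A) (ξ : F.obj (Adeq.pt B)),
      ∃ (L : Adeq.MVF A) (_ : Adeq.linAdequate A L) (f : L ⟶ F) (ℓ : L.obj (Adeq.pt B)),
        f.app (Adeq.pt B) ℓ = ξ := by
    intro B ξ
    obtain ⟨yv, hyv⟩ : ∃ yv : (B : Type u) ⊗[A] (M : Type (u + 1)),
        yv = (e.hom ≫ kernel.ι ((Adeq.underline A).map φ)).app (Adeq.pt B) ξ := ⟨_, rfl⟩
    have hy0 : φ.hom.baseChange B yv = 0 := by
      rw [hyv]
      exact MVFKernel.pointwise_comp_zero _ _ hzero (Adeq.pt B) ξ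
    obtain ⟨ι, hι, k, bb, mm, a, yy, hysum, hφ, hrel⟩ := eqn_crit φ.hom yv hy0
    exact build A F M N φ e B ξ ι k bb mm a yy (hyv ▸ hysum) hφ hrel
  choose L hL f ℓ hℓ using key
  refine ⟨(B : Adeq.Alg A) × (F.obj (Adeq.pt B)), fun i => L i.1 i.2, fun i => hL i.1 i.2,
    Cofan.mk (∐ fun i : (B : Adeq.Alg A) × (F.obj (Adeq.pt B)) => L i.1 i.2) (Sigma.ι _),
    coproductIsCoproduct _, Sigma.desc (fun i => f i.1 i.2), ?_⟩
  apply PresheafOfModules.epi_of_surjective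
  intro X ξ
  refine ⟨(Sigma.ι (fun i : (B : Adeq.Alg A) × (F.obj (Adeq.pt B)) => L i.1 i.2)
    ⟨X.unop.unop, ξ⟩).app X (ℓ X.unop.unop ξ), ?_⟩
  have h1 : Sigma.ι (fun i : (B : Adeq.Alg A) × (F.obj (Adeq.pt B)) => L i.1 i.2)
      ⟨X.unop.unop, ξ⟩ ≫ Sigma.desc (fun i => f i.1 i.2) = f X.unop.unop ξ :=
    Sigma.ι_desc _ _
  have h2 := congrArg (fun g => (g.app X) (ℓ X.unop.unop ξ)) h1
  exact h2.trans (hℓ X.unop.unop ξ)

end Groth.Agent.S8741
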