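import Groth.Statements.S8744
import Mathlib
import Groth.Agent.Lib.Helper92.AdeqCoker
-- import your own Groth.Agent.* helpers here

set_option autoImplicit false
universe u
open CategoryTheory Limits
open Adeq

namespace Groth.Agent.S8744

open TensorProduct
open Groth.Agent.Lib.Helper92

section ProdBC

variable {A : Type u} [CommRing A] (B : Type u) [CommRing B] [Algebra A B]
  {M N : Type (u + 1)} [AddCommGroup M] [Module A M] [AddCommGroup N] [Module A N]

theorem fst_inl_add_inr (x : B ⊗[A] M) (y : B ⊗[A] N) :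
    (LinearMap.fst A M N).baseChange B
      ((LinearMap.inl A M N).baseChange B x + (LinearMap.inr A M N).baseChange B y) = x := by
  rw [map_add, AdeqCoker.bc_comp', AdeqCoker.bc_comp', LinearMap.fst_comp_inl,
    LinearMap.fst_comp_inr, LinearMap.baseChange_id, LinearMap.baseChange_zero,
    LinearMap.id_apply, LinearMap.zero_apply, add_zero]

theorem snd_inl_add_inr (x : B ⊗[A] M) (y : B ⊗[A] N) :
    (LinearMap.snd A M N).baseChange B
      ((LinearMap.inl A M N).baseChange B x + (LinearMap.inr A M N).baseChange B y) = y := by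
  rw [map_add, AdeqCoker.bc_comp', AdeqCoker.bc_comp', LinearMap.snd_comp_inl,
    LinearMap.snd_comp_inr, LinearMap.baseChange_id, LinearMap.baseChange_zero,
    LinearMap.id_apply, LinearMap.zero_apply, zero_add]

theorem fst_inl (x : B ⊗[A] M) :
    (LinearMap.fst A M N).baseChange B ((LinearMap.inl A M N).baseChange B x) = x := by
  rw [AdeqCoker.bc_comp', LinearMap.fst_comp_inl, LinearMap.baseChange_id, LinearMap.id_apply]

theorem snd_inl (x : B ⊗[A] M) :
    (LinearMap.snd A M N).baseChange B ((LinearMap.inl A M N).baseChange B x) = 0 := by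
  rw [AdeqCoker.bc_comp', LinearMap.snd_comp_inl, LinearMap.baseChange_zero, LinearMap.zero_apply]

end ProdBC

/-- The kernel of a morphism of adequate functors on `A`-algebras, computed in the category of all
module-valued functors, is adequate. -/
theorem result (A : Type u) [CommRing A] {F G : Adeq.MVF A} (φ : F ⟶ G)
    (hF : Adeq.adequate A F) (hG : Adeq.adequate A G) : Adeq.adequate A (kernel φ) := by
  have hF' := hF
  obtain ⟨MF, NF, ψF, ⟨eF⟩⟩ := hF
  obtain ⟨MG, NG, ψG, ⟨eG⟩⟩ := hG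
  obtain ⟨iF, hiF⟩ : ∃ iF : F ⟶ (Adeq.underline A).obj MF,
      iF = eF.hom ≫ kernel.ι ((Adeq.underline A).map ψF) := ⟨_, rfl⟩
  obtain ⟨iG, hiG⟩ : ∃ iG : G ⟶ (Adeq.underline A).obj MG,
      iG = eG.hom ≫ kernel.ι ((Adeq.underline A).map ψG) := ⟨_, rfl⟩
  have hiFmono : Mono iF := by rw [hiF]; infer_instance
  have hiGmono : Mono iG := by rw [hiG]; infer_instance
  have hiGinj : ∀ X, Function.Injective (iG.app X) := fun X =>
    PresheafOfModules.injective_of_mono iG X
  obtain ⟨Γ, hΓdef⟩ : ∃ Γ : F ⟶ (Adeq.underline A).obj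
      (ModuleCat.of A (Prod MF MG)),
      Γ = iF ≫ (Adeq.underline A).map (ModuleCat.ofHom (LinearMap.inl A MF MG)) +
        (φ ≫ iG) ≫ (Adeq.underline A).map (ModuleCat.ofHom (LinearMap.inr A MF MG)) := ⟨_, rfl⟩
  have hΓ : ∀ (B : Adeq.Alg A) (f : F.obj (Adeq.pt B)),
      (Γ.app (Adeq.pt B) f : (B : Type u) ⊗[A] (Prod MF MG)) =
        (LinearMap.inl A MF MG).baseChange B (iF.app (Adeq.pt B) f) +
          (LinearMap.inr A MF MG).baseChange B (iG.app (Adeq.pt B) (φ.app (Adeq.pt B) f)) := by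
    intro B f
    rw [hΓdef]
    rfl
  obtain ⟨Q, a, ha⟩ := AdeqCoker.adequate_image_ker A hF' Γ
  refine ⟨MF, Q, ModuleCat.ofHom (a.hom ∘ₗ LinearMap.inl A MF MG), ?_⟩
  have hψ : ∀ (B : Adeq.Alg A) (x : (B : Type u) ⊗[A] (MF : Type (u + 1))),
      ((Adeq.underline A).map (ModuleCat.ofHom (a.hom ∘ₗ LinearMap.inl A MF MG))).app
        (Adeq.pt B) x = a.hom.baseChange B ((LinearMap.inl A MF MG).baseChange B x) := by
    intro B x
    rw [AdeqCoker.bc_comp']
    rfl
  have hSex : (ShortComplex.mk (kernel.ι φ) φ (kernel.condition φ)).Exact :=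
    ShortComplex.exact_of_f_is_kernel _ (kernelIsKernel φ)
  refine MVFKernel.nonempty_iso_kernel (kernel.ι φ ≫ iF) _ ?_ ?_ ?_
  · intro X
    exact PresheafOfModules.injective_of_mono (kernel.ι φ ≫ iF) X
  · intro X k
    obtain ⟨B, rfl⟩ : ∃ B : Adeq.Alg A, X = Adeq.pt B := ⟨X.unop.unop, rfl⟩
    obtain ⟨f, hf⟩ : ∃ f : F.obj (Adeq.pt B), f = (kernel.ι φ).app (Adeq.pt B) k := ⟨_, rfl⟩
    have hφf : φ.app (Adeq.pt B) f = 0 := by
      rw [hf]
      exact MVFKernel.pointwise_comp_zero (kernel.ι φ) φ (kernel.condition φ) (Adeq.pt B) k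
    change ((Adeq.underline A).map (ModuleCat.ofHom (a.hom ∘ₗ LinearMap.inl A MF MG))).app
      (Adeq.pt B) (iF.app (Adeq.pt B) ((kernel.ι φ).app (Adeq.pt B) k)) = 0
    rw [hψ, ← hf]
    refine (ha B _).mpr ⟨f, ?_⟩
    rw [hΓ, hφf, map_zero]
    have h0 : (LinearMap.inr A MF MG).baseChange B
        (0 : (B : Type u) ⊗[A] (MG : Type (u + 1))) = 0 := map_zero _
    exact (congrArg (fun t => (LinearMap.inl A MF MG).baseChange B
      (iF.app (Adeq.pt B) f) + t) h0).trans (add_zero _)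
  · intro X x hx
    obtain ⟨B, rfl⟩ : ∃ B : Adeq.Alg A, X = Adeq.pt B := ⟨X.unop.unop, rfl⟩
    rw [hψ] at hx
    obtain ⟨f, hf⟩ := (ha B _).mp hx
    rw [hΓ] at hf
    have h1 : (iF.app (Adeq.pt B) f : (B : Type u) ⊗[A] (MF : Type (u + 1))) = x := by
      have h := congrArg ((LinearMap.fst A MF MG).baseChange B) hf
      exact (fst_inl_add_inr B _ _).symm.trans (h.trans (fst_inl B x))
    have h2 : (iG.app (Adeq.pt B) (φ.app (Adeq.pt B) f) :
        (B : Type u) ⊗[A] (MG : Type (u + 1))) = 0 := by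
      have h := congrArg ((LinearMap.snd A MF MG).baseChange B) hf
      exact (snd_inl_add_inr B _ _).symm.trans (h.trans (snd_inl B x))
    have h3 : φ.app (Adeq.pt B) f = 0 :=
      hiGinj (Adeq.pt B) (h2.trans (map_zero (iG.app (Adeq.pt B)).hom).symm)
    obtain ⟨k, hk⟩ := MVFKernel.pointwise_exact_gen _ hSex (Adeq.pt B) f h3
    refine ⟨k, ?_⟩
    have hk' : (kernel.ι φ).app (Adeq.pt B) k = f := hk
    change iF.app (Adeq.pt B) ((kernel.ι φ).app (Adeq.pt B) k) = x
    rw [hk']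
    exact h1

end Groth.Agent.S8744
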