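import Groth.Statements.S8749
import Groth.Agent.Lib.Helper92.FlatKer
import Groth.Agent.Lib.Helper92.MVFKernel
import Mathlib
-- import your own Groth.Agent.* helpers here

set_option autoImplicit false
universe u
open CategoryTheory Limits
open Adeq

namespace Groth.Agent.S8749

open TensorProduct Groth.Agent.Lib.Helper92.FlatKer Groth.Agent.Lib.Helper92.MVFKernel


/-- naturality of the inverse of `cancelBaseChange` in the algebra -/
theorem cM_symm_nat {A A' B₁ B₂ : Type*} [CommRing A] [CommRing A'] [CommRing B₁] [CommRing B₂]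
    [Algebra A A'] [Algebra A B₁] [Algebra A' B₁] [IsScalarTower A A' B₁]
    [Algebra A B₂] [Algebra A' B₂] [IsScalarTower A A' B₂]
    {M : Type*} [AddCommGroup M] [Module A M]
    (h : B₁ →ₗ[A'] B₂) (k : B₁ →ₗ[A] B₂) (hk : ∀ b, k b = h b) (w : B₁ ⊗[A] M) :
    (cM (A := A) (B := A') (B' := B₂) M).symm (k.rTensor M w) =
      (h.rTensor (A' ⊗[A] M)) ((cM (A := A) (B := A') (B' := B₁) M).symm w) := by
  induction w using TensorProduct.induction_on with
  | zero => simp
  | add x y hx hy => rw [map_add, map_add, map_add, map_add, hx, hy]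
  | tmul b m =>
    rw [LinearMap.rTensor_tmul, hk]
    rfl

variable {A A' : Type u} [CommRing A] [CommRing A'] [Algebra A A']

/-- the `A`-algebra structure on an `A'`-algebra -/
@[reducible] noncomputable def algA (B' : Adeq.Alg A') : Algebra A (B' : Type u) :=
  ((algebraMap A' (B' : Type u)).comp (algebraMap A A')).toAlgebra

attribute [local instance 10] algA

theorem towerA (B' : Adeq.Alg A') : IsScalarTower A A' (B' : Type u) :=
  IsScalarTower.of_algebraMap_eq (fun _ => rfl)

attribute [local instance] towerA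

variable {F : Adeq.MVF A} {M N : ModuleCat.{u + 1} A} (θ : F ⟶ (Adeq.underline A).obj M)

/-- `θ` at the restricted algebra, as a linear map into the tensor product -/
noncomputable def θlin (B' : Adeq.Alg A') :
    F.obj (Adeq.pt ((Adeq.Alg.restr A A').obj B')) →ₗ[(B' : Type u)] (B' : Type u) ⊗[A] M :=
  (θ.app (Adeq.pt ((Adeq.Alg.restr A A').obj B'))).hom

/-- the component of the comparison map -/
noncomputable def compLin (B' : Adeq.Alg A') :
    F.obj (Adeq.pt ((Adeq.Alg.restr A A').obj B')) →ₗ[(B' : Type u)]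
      (B' : Type u) ⊗[A'] (A' ⊗[A] M) :=
  (cM (A := A) (B := A') (B' := (B' : Type u)) M).symm.toLinearMap ∘ₗ θlin θ B'

theorem compLin_apply (B' : Adeq.Alg A') (x : F.obj (Adeq.pt ((Adeq.Alg.restr A A').obj B'))) :
    compLin θ B' x = (cM (A := A) (B := A') (B' := (B' : Type u)) M).symm
      (θ.app (Adeq.pt ((Adeq.Alg.restr A A').obj B')) x) := rfl

theorem compLin_nat {B₁ B₂ : Adeq.Alg A'} (h : B₁ ⟶ B₂)
    (x : F.obj (Adeq.pt ((Adeq.Alg.restr A A').obj B₁))) :
    compLin θ B₂ (F.map (Adeq.ptHom ((Adeq.Alg.restr A A').map h)) x) =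
      ((AlgHom.toLinearMap (R := A') h.hom).rTensor (A' ⊗[A] M)) (compLin θ B₁ x) := by
  rw [compLin_apply, compLin_apply]
  have h1 : θ.app (Adeq.pt ((Adeq.Alg.restr A A').obj B₂))
      (F.map (Adeq.ptHom ((Adeq.Alg.restr A A').map h)) x) =
      (((Adeq.Alg.restr A A').map h).hom.toLinearMap.rTensor M)
        (θ.app (Adeq.pt ((Adeq.Alg.restr A A').obj B₁)) x) :=
    PresheafOfModules.naturality_apply θ (Adeq.ptHom ((Adeq.Alg.restr A A').map h)) x
  rw [h1]
  exact cM_symm_nat (A := A) (A' := A') (B₁ := (B₁ : Type u)) (B₂ := (B₂ : Type u)) (M := M)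
    (AlgHom.toLinearMap (R := A') h.hom)
    (AlgHom.toLinearMap (R := A) ((Adeq.Alg.restr A A').map h).hom) (fun _ => rfl) _


theorem key (g : M ⟶ N)
    (hinj : ∀ X, Function.Injective (θ.app X))
    (hzero : ∀ X (x : F.obj X), ((Adeq.underline A).map g).app X (θ.app X x) = 0)
    (hex : ∀ X (y : ((Adeq.underline A).obj M).obj X), ((Adeq.underline A).map g).app X y = 0 →
      ∃ x : F.obj X, θ.app X x = y) :
    Nonempty ((Adeq.restr A A').obj F ≅
      kernel ((Adeq.underline A').map
        (ModuleCat.ofHom (g.hom.baseChange A') :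
          ModuleCat.of A' (A' ⊗[A] M) ⟶ ModuleCat.of A' (A' ⊗[A] N)))) := by
  let θ' : (Adeq.restr A A').obj F ⟶ (Adeq.underline A').obj (ModuleCat.of A' (A' ⊗[A] M)) :=
    PresheafOfModules.homMk (M₁ := (Adeq.restr A A').obj F)
      (M₂ := (Adeq.underline A').obj (ModuleCat.of A' (A' ⊗[A] M)))
      { app := fun X => AddCommGrpCat.ofHom (compLin θ X.unop.unop).toAddMonoidHom
        naturality := fun {X Y} f => by
          ext x
          exact compLin_nat θ f.unop.unop x }
      (fun X r x => (compLin θ X.unop.unop).map_smul r x)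
  have happ : ∀ (X : (Adeq.Alg A')ᵒᵖᵒᵖ) (x : ((Adeq.restr A A').obj F).obj X),
      θ'.app X x = compLin θ X.unop.unop x := fun X x => rfl
  have hnat : ∀ (B' : Adeq.Alg A') (v : (B' : Type u) ⊗[A'] (A' ⊗[A] M)),
      (g.hom.baseChange (B' : Type u)) (cM (A := A) (B := A') (B' := (B' : Type u)) M v) =
      cM (A := A) (B := A') (B' := (B' : Type u)) N
        (((Adeq.underline A').map (ModuleCat.ofHom (g.hom.baseChange A') :
          ModuleCat.of A' (A' ⊗[A] M) ⟶ ModuleCat.of A' (A' ⊗[A] N))).app (Adeq.pt B') v) := fun B' v =>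
    (cM_nat (A := A) (B := A') (B' := (B' : Type u)) g.hom v).symm
  refine nonempty_iso_kernel θ' _ ?_ ?_ ?_
  · intro X x y hxy
    rw [happ, happ, compLin_apply, compLin_apply] at hxy
    exact hinj _ ((cM (A := A) (B := A') (B' := (X.unop.unop : Type u)) M).symm.injective hxy)
  · intro X x
    rw [happ, compLin_apply]
    have h1 := hnat X.unop.unop ((cM (A := A) (B := A') (B' := (X.unop.unop : Type u)) M).symm
      (θ.app (Adeq.pt ((Adeq.Alg.restr A A').obj X.unop.unop)) x))
    rw [LinearEquiv.apply_symm_apply] at h1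
    have h2 := h1.symm.trans (hzero _ x)
    exact (LinearEquiv.map_eq_zero_iff _).mp h2
  · intro X y hy
    have h1 := hnat X.unop.unop y
    have hy' : ((Adeq.underline A').map (ModuleCat.ofHom (g.hom.baseChange A') :
          ModuleCat.of A' (A' ⊗[A] M) ⟶ ModuleCat.of A' (A' ⊗[A] N))).app
            (Adeq.pt X.unop.unop) y = 0 := hy
    have h2 := h1.trans ((congrArg (cM (A := A) (B := A') (B' := (X.unop.unop : Type u)) N) hy').trans
      (map_zero _))
    obtain ⟨x, hx⟩ := hex (Adeq.pt ((Adeq.Alg.restr A A').obj X.unop.unop)) _ h2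
    refine ⟨x, ?_⟩
    rw [happ, compLin_apply, hx, LinearEquiv.symm_apply_apply]

/-- For a ring map `A → A'` the restriction of an adequate functor on `A`-algebras to `A'`-algebras is
an adequate functor on `A'`-algebras. -/
theorem result (A A' : Type u) [CommRing A] [CommRing A'] [Algebra A A'] (F : Adeq.MVF A)
    (hF : Adeq.adequate A F) : Adeq.adequate A' ((Adeq.restr A A').obj F) := by
  obtain ⟨M, N, g, ⟨e⟩⟩ := hF
  obtain ⟨θ, hinj, hzero, hex⟩ := exists_pointwise_of_iso_kernel ((Adeq.underline A).map g) e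
  exact ⟨_, _, _, key θ g hinj hzero hex⟩

end Groth.Agent.S8749
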