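import Groth.Statements.S8750
import Groth.Agent.Lib.Helper92.PushIso
import Groth.Agent.Lib.Helper92.MVFKernel
import Mathlib
-- import your own Groth.Agent.* helpers here

set_option autoImplicit false
universe u
open CategoryTheory Limits
open Adeq

namespace Groth.Agent.S8750

open TensorProduct Groth.Agent.Lib.Helper92.PushIso Groth.Agent.Lib.Helper92.MVFKernel

variable {A A' : Type u} [CommRing A] [CommRing A'] [Algebra A A']

/-- the `A`-module structure on an `A'`-module -/
@[reducible] noncomputable def modA (M' : ModuleCat.{u + 1} A') : Module A M' :=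
  Module.compHom M' (algebraMap A A')

attribute [local instance 10] modA

theorem towerM (M' : ModuleCat.{u + 1} A') : IsScalarTower A A' M' :=
  ⟨fun a a' m => by
    change (a • a') • m = algebraMap A A' a • (a' • m)
    rw [Algebra.smul_def, mul_smul]⟩

attribute [local instance] towerM

variable {F' : Adeq.MVF A'} {M' N' : ModuleCat.{u + 1} A'} (θ : F' ⟶ (Adeq.underline A').obj M')

/-- `θ` at the base-changed algebra, as an additive map into the tensor product -/
noncomputable def θadd (B : Adeq.Alg A) :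
    F'.obj (Adeq.pt ((Adeq.Alg.baseChange A A').obj B)) →+ (A' ⊗[A] (B : Type u)) ⊗[A'] M' :=
  (θ.app (Adeq.pt ((Adeq.Alg.baseChange A A').obj B))).hom.toAddMonoidHom

/-- the component of the comparison map -/
noncomputable def compAdd (B : Adeq.Alg A) :
    F'.obj (Adeq.pt ((Adeq.Alg.baseChange A A').obj B)) →+ (B : Type u) ⊗[A] M' :=
  (dEquiv (A := A) (A' := A') (B : Type u) M').toAddMonoidHom.comp (θadd θ B)

theorem compAdd_apply (B : Adeq.Alg A) (x : F'.obj (Adeq.pt ((Adeq.Alg.baseChange A A').obj B))) :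
    compAdd θ B x = dEquiv (A := A) (A' := A') (B : Type u) M'
      (θ.app (Adeq.pt ((Adeq.Alg.baseChange A A').obj B)) x) := rfl

theorem compAdd_smul (B : Adeq.Alg A) (b : (B : Type u))
    (x : F'.obj (Adeq.pt ((Adeq.Alg.baseChange A A').obj B))) :
    compAdd θ B ((((1 : A') ⊗ₜ[A] b : A' ⊗[A] (B : Type u)) :
      ((Adeq.Alg.baseChange A A').obj B : Type u)) • x) = b • compAdd θ B x := by
  rw [compAdd_apply, compAdd_apply]
  have h1 : θ.app (Adeq.pt ((Adeq.Alg.baseChange A A').obj B))
      ((((1 : A') ⊗ₜ[A] b : A' ⊗[A] (B : Type u)) :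
        ((Adeq.Alg.baseChange A A').obj B : Type u)) • x) =
      ((1 : A') ⊗ₜ[A] b : A' ⊗[A] (B : Type u)) •
        (θ.app (Adeq.pt ((Adeq.Alg.baseChange A A').obj B)) x :
          (A' ⊗[A] (B : Type u)) ⊗[A'] M') :=
    (θ.app (Adeq.pt ((Adeq.Alg.baseChange A A').obj B))).hom.map_smul _ x
  rw [h1]
  exact dEquiv_smul b _

theorem compAdd_nat {B₁ B₂ : Adeq.Alg A} (h : B₁ ⟶ B₂)
    (x : F'.obj (Adeq.pt ((Adeq.Alg.baseChange A A').obj B₁))) :
    compAdd θ B₂ (F'.map (Adeq.ptHom ((Adeq.Alg.baseChange A A').map h)) x) =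
      ((AlgHom.toLinearMap (R := A) h.hom).rTensor M') (compAdd θ B₁ x) := by
  rw [compAdd_apply, compAdd_apply]
  have h1 : θ.app (Adeq.pt ((Adeq.Alg.baseChange A A').obj B₂))
      (F'.map (Adeq.ptHom ((Adeq.Alg.baseChange A A').map h)) x) =
      ((AlgHom.toLinearMap (R := A') ((Adeq.Alg.baseChange A A').map h).hom).rTensor M')
        (θ.app (Adeq.pt ((Adeq.Alg.baseChange A A').obj B₁)) x) :=
    PresheafOfModules.naturality_apply θ (Adeq.ptHom ((Adeq.Alg.baseChange A A').map h)) x
  rw [h1]
  exact dEquiv_nat (A := A) (A' := A') (M' := M') h.hom _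

theorem key (φ' : M' ⟶ N')
    (hinj : ∀ X, Function.Injective (θ.app X))
    (hzero : ∀ X (x : F'.obj X), ((Adeq.underline A').map φ').app X (θ.app X x) = 0)
    (hex : ∀ X (y : ((Adeq.underline A').obj M').obj X), ((Adeq.underline A').map φ').app X y = 0 →
      ∃ x : F'.obj X, θ.app X x = y) :
    Nonempty ((Adeq.push A A').obj F' ≅
      kernel ((Adeq.underline A).map
        ((ModuleCat.restrictScalars (algebraMap A A')).map φ'))) := by
  let θ' : (Adeq.push A A').obj F' ⟶
      (Adeq.underline A).obj ((ModuleCat.restrictScalars (algebraMap A A')).obj M') :=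
    PresheafOfModules.homMk (M₁ := (Adeq.push A A').obj F')
      (M₂ := (Adeq.underline A).obj ((ModuleCat.restrictScalars (algebraMap A A')).obj M'))
      { app := fun X => AddCommGrpCat.ofHom (compAdd θ X.unop.unop)
        naturality := fun {X Y} f => by
          ext x
          exact compAdd_nat θ f.unop.unop x }
      (fun X r x => compAdd_smul θ X.unop.unop r x)
  have happ : ∀ (X : (Adeq.Alg A)ᵒᵖᵒᵖ) (x : ((Adeq.push A A').obj F').obj X),
      θ'.app X x = compAdd θ X.unop.unop x := fun X x => rfl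
  have hnat : ∀ (B : Adeq.Alg A) (w : (A' ⊗[A] (B : Type u)) ⊗[A'] M'),
      ((Adeq.underline A).map ((ModuleCat.restrictScalars (algebraMap A A')).map φ')).app (Adeq.pt B)
        (dEquiv (A := A) (A' := A') (B : Type u) M' w) =
      dEquiv (A := A) (A' := A') (B : Type u) N'
        (((Adeq.underline A').map φ').app (Adeq.pt ((Adeq.Alg.baseChange A A').obj B)) w) :=
    fun B w => dEquiv_compat (A := A) (A' := A') (B := (B : Type u)) φ'.hom w
  refine nonempty_iso_kernel θ' _ ?_ ?_ ?_
  · intro X x y hxy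
    rw [happ, happ, compAdd_apply, compAdd_apply] at hxy
    exact hinj _ ((dEquiv (A := A) (A' := A') (X.unop.unop : Type u) M').injective hxy)
  · intro X x
    rw [happ, compAdd_apply]
    refine (hnat X.unop.unop _).trans ?_
    have h0 := hzero (Adeq.pt ((Adeq.Alg.baseChange A A').obj X.unop.unop)) x
    exact (congrArg (dEquiv (A := A) (A' := A') (X.unop.unop : Type u) N') h0).trans (map_zero _)
  · intro X y hy
    have h1 := hnat X.unop.unop ((dEquiv (A := A) (A' := A') (X.unop.unop : Type u) M').symm y)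
    rw [AddEquiv.apply_symm_apply] at h1
    have hy' : ((Adeq.underline A).map ((ModuleCat.restrictScalars (algebraMap A A')).map φ')).app
        (Adeq.pt X.unop.unop) y = 0 := hy
    have h2 := h1.symm.trans hy'
    have h3 := (AddEquiv.map_eq_zero_iff _).mp h2
    obtain ⟨x, hx⟩ := hex (Adeq.pt ((Adeq.Alg.baseChange A A').obj X.unop.unop)) _ h3
    refine ⟨x, ?_⟩
    rw [happ, compAdd_apply, hx, AddEquiv.apply_symm_apply]


/-- For a ring map `A → A'` and an adequate functor `F'` on `A'`-algebras, the functor `B ↦ F'(A' ⊗_A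
B)` on `A`-algebras is adequate. -/
theorem result (A A' : Type u) [CommRing A] [CommRing A'] [Algebra A A'] (F' : Adeq.MVF A')
    (hF' : Adeq.adequate A' F') : Adeq.adequate A ((Adeq.push A A').obj F') := by
  obtain ⟨M', N', φ', ⟨e⟩⟩ := hF'
  obtain ⟨θ, hinj, hzero, hex⟩ := exists_pointwise_of_iso_kernel ((Adeq.underline A').map φ') e
  exact ⟨_, _, _, key θ φ' hinj hzero hex⟩

end Groth.Agent.S8750
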