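import Groth.Statements.S8751
import Mathlib
import Groth.Agent.Lib.Helper92.MVFKernel
import Groth.Agent.S8744
import Groth.Agent.S8749
import Groth.Agent.S8750
-- import your own Groth.Agent.* helpers here

set_option autoImplicit false
universe u
open CategoryTheory Limits
open Adeq

namespace Groth.Agent.S8751

open TensorProduct
open Groth.Agent.Lib.Helper92

section Eta

variable {A A' : Type u} [CommRing A] [CommRing A'] [Algebra A A']

theorem unit_nat {B B' : Adeq.Alg A} (f : B ⟶ B') :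
    f ≫ Adeq.Alg.unit A A' B' =
      Adeq.Alg.unit A A' B ≫ (Adeq.Alg.restr A A').map ((Adeq.Alg.baseChange A A').map f) := by
  apply CommAlgCat.hom_ext
  refine DFunLike.ext _ _ fun b => ?_
  change (1 : A') ⊗ₜ[A] (f.hom b) =
    Algebra.TensorProduct.map (AlgHom.id A' A') f.hom ((1 : A') ⊗ₜ[A] b)
  rw [Algebra.TensorProduct.map_tmul]
  rfl

variable (A')

/-- the unit map `H(B) → H(A' ⊗ B)` as a morphism of module-valued functors -/
noncomputable def eta (H : Adeq.MVF A) : H ⟶ (Adeq.push A A').obj ((Adeq.restr A A').obj H) :=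
  PresheafOfModules.homMk (M₁ := H) (M₂ := (Adeq.push A A').obj ((Adeq.restr A A').obj H))
    { app := fun X => AddCommGrpCat.ofHom
        (H.map (Adeq.ptHom (Adeq.Alg.unit A A' X.unop.unop))).hom.toAddMonoidHom
      naturality := fun {X Y} f => by
        ext x
        have e1 := (PresheafOfModules.map_comp_apply H f
          (Adeq.ptHom (Adeq.Alg.unit A A' Y.unop.unop)) x).symm
        have e2 := (PresheafOfModules.map_comp_apply H
          (Adeq.ptHom (Adeq.Alg.unit A A' X.unop.unop))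
          (Adeq.ptHom ((Adeq.Alg.restr A A').map ((Adeq.Alg.baseChange A A').map f.unop.unop)))
          x).symm
        have h : f ≫ Adeq.ptHom (Adeq.Alg.unit A A' Y.unop.unop) =
            Adeq.ptHom (Adeq.Alg.unit A A' X.unop.unop) ≫
              Adeq.ptHom ((Adeq.Alg.restr A A').map ((Adeq.Alg.baseChange A A').map f.unop.unop)) :=
          congrArg (fun g => Adeq.ptHom g) (unit_nat (A' := A') f.unop.unop)
        exact e1.trans ((PresheafOfModules.congr_map_apply H h x).trans e2.symm) }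
    (fun X r x => PresheafOfModules.map_smul H (Adeq.ptHom (Adeq.Alg.unit A A' X.unop.unop)) r x)

theorem eta_app (H : Adeq.MVF A) (B : Adeq.Alg A) (x : H.obj (Adeq.pt B)) :
    (eta A' H).app (Adeq.pt B) x = H.map (Adeq.ptHom (Adeq.Alg.unit A A' B)) x := rfl

end Eta

/-- Let `A → A'` be a ring map and `F` a module-valued functor on `A`-algebras. If the restriction of
`F` to `A'`-algebras is adequate and for every `A`-algebra `B` the sequence `0 → F(B) → F(A' ⊗_A B)
→ F(A' ⊗_A A' ⊗_A B)` is exact (the first map injective with image the equalizer of the two coface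
maps), then `F` is adequate. -/
theorem result (A A' : Type u) [CommRing A] [CommRing A'] [Algebra A A']
    (F : Adeq.MVF A) (h₁ : Adeq.adequate A' ((Adeq.restr A A').obj F))
    (h₂ : ∀ B : Adeq.Alg A, Function.Injective (F.map (Adeq.ptHom (Adeq.Alg.unit A A' B))) ∧
      ∀ y : F.obj (Adeq.pt ((Adeq.Alg.restr A A').obj ((Adeq.Alg.baseChange A A').obj B))),
        F.map (Adeq.ptHom (Adeq.Alg.unit A A' ((Adeq.Alg.restr A A').obj ((Adeq.Alg.baseChange A A').obj B)))) y =
          F.map (Adeq.ptHom ((Adeq.Alg.restr A A').map ((Adeq.Alg.baseChange A A').map (Adeq.Alg.unit A A' B)))) y →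
        y ∈ Set.range (F.map (Adeq.ptHom (Adeq.Alg.unit A A' B)))) :
    Adeq.adequate A F := by
  have hG₁ : Adeq.adequate A ((Adeq.push A A').obj ((Adeq.restr A A').obj F)) :=
    Groth.Agent.S8750.result A A' _ h₁
  have hG₂ : Adeq.adequate A ((Adeq.push A A').obj ((Adeq.restr A A').obj
      ((Adeq.push A A').obj ((Adeq.restr A A').obj F)))) :=
    Groth.Agent.S8750.result A A' _ (Groth.Agent.S8749.result A A' _ hG₁)
  obtain ⟨d₁, hd₁⟩ : ∃ d₁ : (Adeq.push A A').obj ((Adeq.restr A A').obj F) ⟶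
      (Adeq.push A A').obj ((Adeq.restr A A').obj ((Adeq.push A A').obj ((Adeq.restr A A').obj F))),
      d₁ = (Adeq.push A A').map ((Adeq.restr A A').map (eta A' F)) := ⟨_, rfl⟩
  obtain ⟨d₀, hd₀⟩ : ∃ d₀ : (Adeq.push A A').obj ((Adeq.restr A A').obj F) ⟶
      (Adeq.push A A').obj ((Adeq.restr A A').obj ((Adeq.push A A').obj ((Adeq.restr A A').obj F))),
      d₀ = eta A' ((Adeq.push A A').obj ((Adeq.restr A A').obj F)) := ⟨_, rfl⟩
  have hd₁app : ∀ (B : Adeq.Alg A)
      (y : F.obj (Adeq.pt ((Adeq.Alg.restr A A').obj ((Adeq.Alg.baseChange A A').obj B)))),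
      d₁.app (Adeq.pt B) y = F.map (Adeq.ptHom (Adeq.Alg.unit A A'
        ((Adeq.Alg.restr A A').obj ((Adeq.Alg.baseChange A A').obj B)))) y := by
    intro B y
    rw [hd₁]
    rfl
  have hd₀app : ∀ (B : Adeq.Alg A)
      (y : F.obj (Adeq.pt ((Adeq.Alg.restr A A').obj ((Adeq.Alg.baseChange A A').obj B)))),
      d₀.app (Adeq.pt B) y = F.map (Adeq.ptHom ((Adeq.Alg.restr A A').map
        ((Adeq.Alg.baseChange A A').map (Adeq.Alg.unit A A' B)))) y := by
    intro B y
    rw [hd₀]
    rfl
  have hker : Adeq.adequate A (kernel (d₁ - d₀)) :=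
    Groth.Agent.S8744.result A (d₁ - d₀) hG₁ hG₂
  have hiso : Nonempty (F ≅ kernel (d₁ - d₀)) := by
    refine MVFKernel.nonempty_iso_kernel (eta A' F) (d₁ - d₀) ?_ ?_ ?_
    · intro X
      obtain ⟨B, rfl⟩ : ∃ B : Adeq.Alg A, X = Adeq.pt B := ⟨X.unop.unop, rfl⟩
      exact (h₂ B).1
    · intro X x
      obtain ⟨B, rfl⟩ : ∃ B : Adeq.Alg A, X = Adeq.pt B := ⟨X.unop.unop, rfl⟩
      have e1 := (PresheafOfModules.map_comp_apply F (Adeq.ptHom (Adeq.Alg.unit A A' B))
        (Adeq.ptHom (Adeq.Alg.unit A A'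
          ((Adeq.Alg.restr A A').obj ((Adeq.Alg.baseChange A A').obj B)))) x).symm
      have e2 := (PresheafOfModules.map_comp_apply F (Adeq.ptHom (Adeq.Alg.unit A A' B))
        (Adeq.ptHom ((Adeq.Alg.restr A A').map
          ((Adeq.Alg.baseChange A A').map (Adeq.Alg.unit A A' B)))) x).symm
      have h : Adeq.ptHom (Adeq.Alg.unit A A' B) ≫ Adeq.ptHom (Adeq.Alg.unit A A'
            ((Adeq.Alg.restr A A').obj ((Adeq.Alg.baseChange A A').obj B))) =
          Adeq.ptHom (Adeq.Alg.unit A A' B) ≫ Adeq.ptHom ((Adeq.Alg.restr A A').map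
            ((Adeq.Alg.baseChange A A').map (Adeq.Alg.unit A A' B))) :=
        congrArg (fun g => Adeq.ptHom g) (unit_nat (A' := A') (Adeq.Alg.unit A A' B))
      have key : d₁.app (Adeq.pt B) ((eta A' F).app (Adeq.pt B) x) =
          d₀.app (Adeq.pt B) ((eta A' F).app (Adeq.pt B) x) :=
        (hd₁app B _).trans ((e1.trans ((PresheafOfModules.congr_map_apply F h x).trans
          e2.symm)).trans (hd₀app B _).symm)
      exact sub_eq_zero.mpr key
    · intro X y hy
      obtain ⟨B, rfl⟩ : ∃ B : Adeq.Alg A, X = Adeq.pt B := ⟨X.unop.unop, rfl⟩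
      have hy' : d₁.app (Adeq.pt B) y - d₀.app (Adeq.pt B) y = 0 := hy
      have h3 : F.map (Adeq.ptHom (Adeq.Alg.unit A A'
            ((Adeq.Alg.restr A A').obj ((Adeq.Alg.baseChange A A').obj B)))) y =
          F.map (Adeq.ptHom ((Adeq.Alg.restr A A').map
            ((Adeq.Alg.baseChange A A').map (Adeq.Alg.unit A A' B)))) y := by
        have hy2 : d₁.app (Adeq.pt B) y = d₀.app (Adeq.pt B) y := sub_eq_zero.mp hy'
        rw [hd₁app B y, hd₀app B y] at hy2
        exact hy2
      have h4 := (h₂ B).2 y h3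
      obtain ⟨x, hx⟩ := h4
      exact ⟨x, hx⟩
  obtain ⟨e⟩ := hiso
  exact (Adeq.adequate A).prop_of_iso e.symm hker

end Groth.Agent.S8751
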