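import Groth.Statements.S8743
import Mathlib
import Groth.Agent.Lib.Helper92.AdeqCoker
-- import your own Groth.Agent.* helpers here

set_option autoImplicit false
universe u
open CategoryTheory Limits
open Adeq

namespace Groth.Agent.S8743

open TensorProduct
open Groth.Agent.Lib.Helper92

/-- The cokernel of a morphism of adequate functors on `A`-algebras, computed in the category of all
module-valued functors, is adequate. -/
theorem result (A : Type u) [CommRing A] {F G : Adeq.MVF A} (φ : F ⟶ G)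
    (hF : Adeq.adequate A F) (hG : Adeq.adequate A G) : Adeq.adequate A (cokernel φ) := by
  have hG' := hG
  obtain ⟨MG, NG, ψG, ⟨eG⟩⟩ := hG
  obtain ⟨iG, hiG⟩ : ∃ iG : G ⟶ (Adeq.underline A).obj MG,
      iG = eG.hom ≫ kernel.ι ((Adeq.underline A).map ψG) := ⟨_, rfl⟩
  have hiGmono : Mono iG := by rw [hiG]; infer_instance
  have hiGinj : ∀ X, Function.Injective (iG.app X) := fun X =>
    PresheafOfModules.injective_of_mono iG X
  obtain ⟨Q₁, a₁, ha₁⟩ := AdeqCoker.adequate_image_ker A hF (φ ≫ iG)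
  obtain ⟨Q₂, a₂, ha₂⟩ := AdeqCoker.adequate_image_ker A hG' (iG ≫ (Adeq.underline A).map a₁)
  have w : φ ≫ (iG ≫ (Adeq.underline A).map a₁) = 0 := by
    ext X f
    obtain ⟨B, rfl⟩ : ∃ B : Adeq.Alg A, X = Adeq.pt B := ⟨X.unop.unop, rfl⟩
    change a₁.hom.baseChange B (iG.app (Adeq.pt B) (φ.app (Adeq.pt B) f)) = 0
    exact (ha₁ B _).mpr ⟨f, rfl⟩
  obtain ⟨θ, hθ⟩ : ∃ θ : cokernel φ ⟶ (Adeq.underline A).obj Q₁,
      cokernel.π φ ≫ θ = iG ≫ (Adeq.underline A).map a₁ :=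
    ⟨cokernel.desc φ _ w, cokernel.π_desc _ _ _⟩
  have hθπ : ∀ (B : Adeq.Alg A) (γ : G.obj (Adeq.pt B)),
      (θ.app (Adeq.pt B) ((cokernel.π φ).app (Adeq.pt B) γ) :
        (B : Type u) ⊗[A] (Q₁ : Type (u + 1))) =
        a₁.hom.baseChange B (iG.app (Adeq.pt B) γ) := fun B γ =>
    congrArg (fun t => (t.app (Adeq.pt B)) γ) hθ
  have hπsurj : ∀ (B : Adeq.Alg A) (c : (cokernel φ).obj (Adeq.pt B)),
      ∃ γ : G.obj (Adeq.pt B), (cokernel.π φ).app (Adeq.pt B) γ = c := fun B c =>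
    PresheafOfModules.surjective_of_epi (cokernel.π φ) (Adeq.pt B) c
  have hπφ : ∀ (B : Adeq.Alg A) (f : F.obj (Adeq.pt B)),
      (cokernel.π φ).app (Adeq.pt B) (φ.app (Adeq.pt B) f) = 0 := fun B f =>
    MVFKernel.pointwise_comp_zero φ (cokernel.π φ) (cokernel.condition φ) (Adeq.pt B) f
  refine ⟨Q₁, Q₂, a₂, ?_⟩
  refine MVFKernel.nonempty_iso_kernel θ ((Adeq.underline A).map a₂) ?_ ?_ ?_
  · intro X
    obtain ⟨B, rfl⟩ : ∃ B : Adeq.Alg A, X = Adeq.pt B := ⟨X.unop.unop, rfl⟩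
    intro c₁ c₂ hc
    obtain ⟨γ₁, rfl⟩ := hπsurj B c₁
    obtain ⟨γ₂, rfl⟩ := hπsurj B c₂
    obtain ⟨x₁, hx₁⟩ : ∃ x₁ : (B : Type u) ⊗[A] (MG : Type (u + 1)),
        x₁ = iG.app (Adeq.pt B) γ₁ := ⟨_, rfl⟩
    obtain ⟨x₂, hx₂⟩ : ∃ x₂ : (B : Type u) ⊗[A] (MG : Type (u + 1)),
        x₂ = iG.app (Adeq.pt B) γ₂ := ⟨_, rfl⟩
    have hx : (iG.app (Adeq.pt B) (γ₁ - γ₂) : (B : Type u) ⊗[A] (MG : Type (u + 1))) =
        x₁ - x₂ := by
      rw [hx₁, hx₂]; exact map_sub _ _ _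
    have h3 : a₁.hom.baseChange B (x₁ - x₂) = 0 := by
      rw [map_sub, hx₁, hx₂, ← hθπ, ← hθπ, hc, sub_self]
    obtain ⟨f, hf⟩ := (ha₁ B _).mp h3
    have h4 : φ.app (Adeq.pt B) f = γ₁ - γ₂ := hiGinj (Adeq.pt B) (hf.trans hx.symm)
    have h5 : (cokernel.π φ).app (Adeq.pt B) (γ₁ - γ₂) = 0 := by
      rw [← h4]; exact hπφ B f
    rw [map_sub] at h5
    exact sub_eq_zero.mp h5
  · intro X c
    obtain ⟨B, rfl⟩ : ∃ B : Adeq.Alg A, X = Adeq.pt B := ⟨X.unop.unop, rfl⟩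
    obtain ⟨γ, rfl⟩ := hπsurj B c
    change a₂.hom.baseChange B (θ.app (Adeq.pt B) ((cokernel.π φ).app (Adeq.pt B) γ)) = 0
    rw [hθπ]
    exact (ha₂ B _).mpr ⟨γ, rfl⟩
  · intro X y hy
    obtain ⟨B, rfl⟩ : ∃ B : Adeq.Alg A, X = Adeq.pt B := ⟨X.unop.unop, rfl⟩
    obtain ⟨γ, hγ⟩ := (ha₂ B y).mp hy
    exact ⟨(cokernel.π φ).app (Adeq.pt B) γ, (hθπ B γ).trans hγ⟩

end Groth.Agent.S8743
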