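import Groth.Statements.S13863
import Groth.Agent.Lib.Helper70.ASCover
-- import your own Groth.Agent.* helpers here

set_option autoImplicit false
universe u
open ASCover

namespace Groth.Agent.S13863

/-- For k an algebraically closed field of characteristic p > 0, n ≥ 1 an integer prime to p, and u ∈
k[[t]] the power series with constant term 1 and u^n · (1 + t^n) = 1, the substitution σ(t) = t·u is
a k-automorphism of k((t)) of order p and, for an integer a, σ acts on the fractional ideal I =
t^a·k[[t]]; transported to B = k[[t]] along h ↦ t^a·h this action is h ↦ u^a · h(t·u). For an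
integer i with a − n ≤ i ≤ a − 1 the element σ(t^i) − t^i lies in I, so t^i defines a class in
H^1(⟨σ⟩, I); the classes with p ∤ i form a basis of this H^1, and when p divides i the class
vanishes, i.e. σ(t^i) − t^i = σ(w) − w for some w ∈ I. (The published statement of this vanishing is
printed with the condition p ∤ i, which contradicts the basis assertion of the same lemma; its proof
treats p | i, and this row states that case.) In transported form, with m = a − i ∈ [1, n] and c ∈
k[[t]] defined by t^m · c = u^i − 1: there is h ∈ k[[t]] with u^a · h(t·u) − h = c. -/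
theorem result {k : Type u} [Field k] [IsAlgClosed k] (p : ℕ)
    [Fact p.Prime] [CharP k p] (n : ℕ) (hn : 0 < n) (hpn : ¬ p ∣ n)
    (u : PowerSeries k) (hu1 : PowerSeries.constantCoeff u = 1)
    (hun : u ^ n * (1 + PowerSeries.X ^ n) = 1) (hu : IsUnit u) (a : ℤ) (m : ℕ)
    (hm1 : 1 ≤ m) (hmn : m ≤ n) (hdvd : (p : ℤ) ∣ a - m) (c : PowerSeries k)
    (hc : PowerSeries.X ^ m * c = ((hu.unit ^ (a - m) : (PowerSeries k)ˣ) : PowerSeries k) - 1) :
    ∃ h : PowerSeries k,
      ((hu.unit ^ a : (PowerSeries k)ˣ) : PowerSeries k) * PowerSeries.subst (PowerSeries.X * u) h - h = c := by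
  classical
  open PowerSeries Groth.Agent.Lib.Helper70.ASCover in
  obtain ⟨j, hj⟩ := hdvd
  have hp1 : 0 < p - 1 := by have := (Fact.out : p.Prime).two_le; omega
  have hme : m ≤ n * (p - 1) := le_trans hmn (Nat.le_mul_of_pos_right n hp1)
  have hU : ((hu.unit : (PowerSeries k)ˣ) : PowerSeries k) = u := hu.unit_spec
  have hsub := hasSubst_X_mul u
  obtain ⟨V, Q, hVQ, hσV⟩ :=
    exists_fixed_one_unit p n hn hpn u hu1 hun hu.unit hU (a - m) j hj
  refine ⟨-(X ^ (n * (p - 1) - m) * Q), ?_⟩
  have hXm : (X : PowerSeries k) ^ m ≠ 0 := pow_ne_zero _ X_ne_zero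
  apply mul_left_cancel₀ hXm
  rw [hc]
  have hXh : X ^ m * -(X ^ (n * (p - 1) - m) * Q) = 1 - V := by
    rw [hVQ]
    have : (X : PowerSeries k) ^ (n * (p - 1)) = X ^ m * X ^ (n * (p - 1) - m) := by
      rw [← pow_add, Nat.add_sub_cancel' hme]
    rw [this]; ring
  have hZ : ((hu.unit ^ a : (PowerSeries k)ˣ) : PowerSeries k) =
      ((hu.unit ^ (a - m) : (PowerSeries k)ˣ) : PowerSeries k) * u ^ m := by
    have h1 : ((hu.unit ^ (m : ℤ) : (PowerSeries k)ˣ) : PowerSeries k) = u ^ m := by
      rw [zpow_natCast, Units.val_pow_eq_pow_val, hU]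
    rw [← h1, ← Units.val_mul, ← zpow_add, sub_add_cancel]
  have hσXh : (X ^ m * -(X ^ (n * (p - 1) - m) * Q)).subst (X * u) =
      X ^ m * u ^ m * (-(X ^ (n * (p - 1) - m) * Q)).subst (X * u) := by
    rw [subst_mul hsub, subst_pow hsub, subst_X hsub, mul_pow]
  have hσ1 : (1 - V).subst (X * u) = 1 - V.subst (X * u) := by
    rw [subst_sub hsub, ← coe_substAlgHom hsub, map_one]
  generalize hg : (-(X ^ (n * (p - 1) - m) * Q)) = g at *
  generalize hA : ((hu.unit ^ a : (PowerSeries k)ˣ) : PowerSeries k) = Ua at *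
  generalize hB : ((hu.unit ^ (a - m) : (PowerSeries k)ˣ) : PowerSeries k) = Uam at *
  calc X ^ m * (Ua * g.subst (X * u) - g)
      = Uam * (X ^ m * u ^ m * g.subst (X * u)) - X ^ m * g := by
        rw [hZ]; ring
    _ = Uam * (1 - V.subst (X * u)) - (1 - V) := by
        rw [← hσXh, hXh, hσ1]
    _ = Uam - 1 := by
        rw [mul_sub, mul_one, hσV]; ring

end Groth.Agent.S13863
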