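import Groth.Statements.S13864
import Groth.Agent.Lib.Helper70.ASCover
-- import your own Groth.Agent.* helpers here

set_option autoImplicit false
universe u
open ASCover

namespace Groth.Agent.S13864

/-- Let k be an algebraically closed field of characteristic p > 0, n ≥ 1 an integer prime to p, u ∈
k[[t]] the power series with constant term 1 and u^n · (1 + t^n) = 1 (so σ(t) = t·u is a
k-automorphism of k((t)) of order p), and a an integer; σ acts on I = t^a·k[[t]], and transported to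
B = k[[t]] along h ↦ t^a·h the action is h ↦ u^a · h(t·u). For 1 ≤ m ≤ n let c_m ∈ B be determined
by t^m · c_m = u^(a−m) − 1; this is the cocycle value σ(t^i) − t^i ∈ I of the element t^i, i = a −
m, divided by t^a. The published lemma says that the classes of the t^i with a − n ≤ i ≤ a − 1 and p
∤ i form a basis of H^1(⟨σ⟩, I); this row states their linear independence: if Σ λ_m c_m, summed
over 1 ≤ m ≤ n with p ∤ a − m, equals u^a · h(t·u) − h for some h ∈ B, then every such λ_m is 0.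
(Together with the dimension of this H^1, namely n − ⌊(a−1)/p⌋ + ⌊(a−1−n)/p⌋, this gives the basis
statement.) -/
theorem result {k : Type u} [Field k] [IsAlgClosed k] (p : ℕ)
    [Fact p.Prime] [CharP k p] (n : ℕ) (hn : 0 < n) (hpn : ¬ p ∣ n)
    (u : PowerSeries k) (hu1 : PowerSeries.constantCoeff u = 1)
    (hun : u ^ n * (1 + PowerSeries.X ^ n) = 1) (hu : IsUnit u) (a : ℤ)
    (c : ℕ → PowerSeries k)
    (hc : ∀ m : ℕ, 1 ≤ m → m ≤ n →
      PowerSeries.X ^ m * c m = ((hu.unit ^ (a - m) : (PowerSeries k)ˣ) : PowerSeries k) - 1)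
    (coef : ℕ → k) (h : PowerSeries k)
    (hh : ((hu.unit ^ a : (PowerSeries k)ˣ) : PowerSeries k) * PowerSeries.subst (PowerSeries.X * u) h - h =
      ∑ m ∈ (Finset.Icc 1 n).filter (fun m : ℕ => ¬ (p : ℤ) ∣ a - (m : ℤ)), coef m • c m) :
    ∀ m ∈ (Finset.Icc 1 n).filter (fun m : ℕ => ¬ (p : ℤ) ∣ a - (m : ℤ)), coef m = 0 := by
  classical
  open PowerSeries Groth.Agent.Lib.Helper70.ASCover in
  by_contra hcon
  push Not at hcon
  obtain ⟨m₁, hm₁F, hm₁⟩ := hcon
  set F := (Finset.Icc 1 n).filter (fun m : ℕ => ¬ (p : ℤ) ∣ a - (m : ℤ)) with hF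
  have hFmem : ∀ m ∈ F, 1 ≤ m ∧ m ≤ n ∧ ¬ (p : ℤ) ∣ a - (m : ℤ) := by
    intro m hm
    rw [hF, Finset.mem_filter, Finset.mem_Icc] at hm
    exact ⟨hm.1.1, hm.1.2, hm.2⟩
  -- the largest index with nonzero coefficient
  set T := F.filter (fun m => coef m ≠ 0) with hT
  have hTne : T.Nonempty := ⟨m₁, by rw [hT, Finset.mem_filter]; exact ⟨hm₁F, hm₁⟩⟩
  set m₀ := T.max' hTne with hm₀
  have hm₀T : m₀ ∈ T := T.max'_mem hTne
  have hm₀F : m₀ ∈ F := (Finset.mem_filter.1 hm₀T).1
  have hm₀c : coef m₀ ≠ 0 := (Finset.mem_filter.1 hm₀T).2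
  have hmax : ∀ m ∈ F, coef m ≠ 0 → m ≤ m₀ := fun m hm hc' =>
    T.le_max' m (by rw [hT, Finset.mem_filter]; exact ⟨hm, hc'⟩)
  obtain ⟨hm₀1, hm₀n, hm₀p⟩ := hFmem m₀ hm₀F
  -- basic data
  obtain ⟨q, hq, hq0⟩ := exists_eq_one_add p n hpn u hu1 hun
  set U : (PowerSeries k)ˣ := hu.unit with hUdef
  have hU : (U : PowerSeries k) = u := hu.unit_spec
  have hsub := hasSubst_X_mul u
  have hZadd : ∀ s t : ℤ, ((U ^ (s + t) : (PowerSeries k)ˣ) : PowerSeries k) =
      ((U ^ s : (PowerSeries k)ˣ) : PowerSeries k) * ((U ^ t : (PowerSeries k)ˣ) : PowerSeries k) := by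
    intro s t; rw [zpow_add, Units.val_mul]
  have hZnat : ∀ j : ℕ, ((U ^ (j : ℤ) : (PowerSeries k)ˣ) : PowerSeries k) = u ^ j := by
    intro j; rw [zpow_natCast, Units.val_pow_eq_pow_val, hU]
  -- the fixed series
  set P : PowerSeries k := ∑ m ∈ F, coef m • (X : PowerSeries k) ^ (n - m) with hP
  set F₀ : PowerSeries k := X ^ n * h - P with hF₀
  have hσP : P.subst (X * u) = ∑ m ∈ F, coef m • (X * u) ^ (n - m) := by
    rw [hP, ← coe_substAlgHom hsub, map_sum]
    refine Finset.sum_congr rfl fun m _ => ?_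
    rw [map_smul, map_pow, coe_substAlgHom hsub, subst_X hsub]
  have h1 : ((U ^ (a - n) : (PowerSeries k)ˣ) : PowerSeries k) * F₀.subst (X * u) = F₀ := by
    have e1 : ((U ^ (a - n) : (PowerSeries k)ˣ) : PowerSeries k) * u ^ n =
        ((U ^ a : (PowerSeries k)ˣ) : PowerSeries k) := by
      rw [← hZnat n, ← hZadd]; congr 2; ring
    have e2 : ∀ m ∈ F, ((U ^ (a - n) : (PowerSeries k)ˣ) : PowerSeries k) * u ^ (n - m) =
        ((U ^ (a - m) : (PowerSeries k)ˣ) : PowerSeries k) := by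
      intro m hm
      obtain ⟨_, hmn, _⟩ := hFmem m hm
      rw [← hZnat (n - m), ← hZadd]; congr 2
      rw [Nat.cast_sub hmn]; ring
    have e3 : X ^ n * (((U ^ a : (PowerSeries k)ˣ) : PowerSeries k) * h.subst (X * u)) =
        X ^ n * h + ∑ m ∈ F, coef m • (X ^ (n - m) *
          (((U ^ (a - m) : (PowerSeries k)ˣ) : PowerSeries k) - 1)) := by
      have : ((U ^ a : (PowerSeries k)ˣ) : PowerSeries k) * h.subst (X * u) =
          h + ∑ m ∈ F, coef m • c m := by rw [← hh]; ring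
      rw [this, mul_add, Finset.mul_sum]
      congr 1
      refine Finset.sum_congr rfl fun m hm => ?_
      obtain ⟨hm1, hmn, _⟩ := hFmem m hm
      rw [mul_smul_comm, ← hc m hm1 hmn, ← mul_assoc, ← pow_add, Nat.sub_add_cancel hmn]
    rw [hF₀, subst_sub hsub, subst_mul hsub, subst_pow hsub, subst_X hsub, hσP, mul_sub, mul_pow]
    have e4 : ((U ^ (a - n) : (PowerSeries k)ˣ) : PowerSeries k) * (X ^ n * u ^ n * h.subst (X * u)) =
        X ^ n * (((U ^ a : (PowerSeries k)ˣ) : PowerSeries k) * h.subst (X * u)) := by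
      rw [← e1]; ring
    have e5 : ((U ^ (a - n) : (PowerSeries k)ˣ) : PowerSeries k) *
        ∑ m ∈ F, coef m • (X * u) ^ (n - m) =
        ∑ m ∈ F, coef m • (X ^ (n - m) * ((U ^ (a - m) : (PowerSeries k)ˣ) : PowerSeries k)) := by
      rw [Finset.mul_sum]
      refine Finset.sum_congr rfl fun m hm => ?_
      rw [mul_smul_comm, mul_pow, ← e2 m hm]; congr 1; ring
    rw [e4, e5, e3, hP, add_sub_assoc, ← Finset.sum_sub_distrib, sub_eq_add_neg,
      ← Finset.sum_neg_distrib]
    congr 1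
    refine Finset.sum_congr rfl fun m _ => ?_
    rw [← smul_sub, ← smul_neg]; congr 1; ring
  -- the order of F₀
  set r := n - m₀ with hr
  have hrn : r < n := by omega
  have hcoefP : ∀ j : ℕ, coeff j P = ∑ m ∈ F, coef m * (if j = n - m then 1 else 0) := by
    intro j
    rw [hP, map_sum]
    refine Finset.sum_congr rfl fun m _ => ?_
    rw [coeff_smul, coeff_X_pow, smul_eq_mul]
  have hlow : ∀ j < r, coeff j F₀ = 0 := by
    intro j hj
    rw [hF₀, map_sub, coeff_X_pow_mul', if_neg (by omega), hcoefP, zero_sub, neg_eq_zero]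
    refine Finset.sum_eq_zero fun m hm => ?_
    by_cases hcm : coef m = 0
    · rw [hcm, zero_mul]
    · have := hmax m hm hcm
      rw [if_neg (by omega), mul_zero]
  have hr_coeff : coeff r F₀ = -coef m₀ := by
    rw [hF₀, map_sub, coeff_X_pow_mul', if_neg (by omega), hcoefP, zero_sub]
    congr 1
    rw [Finset.sum_eq_single m₀]
    · rw [if_pos hr, mul_one]
    · intro m hm hne
      obtain ⟨_, hmn, _⟩ := hFmem m hm
      rw [if_neg (by omega), mul_zero]
    · intro h; exact absurd hm₀F h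
  obtain ⟨ε, hε⟩ := (X_pow_dvd_iff (φ := F₀)).2 hlow
  have hε0 : constantCoeff ε = -coef m₀ := by
    rw [← hr_coeff, hε, coeff_X_pow_mul', if_pos le_rfl, Nat.sub_self,
      coeff_zero_eq_constantCoeff_apply]
  have hε0' : constantCoeff ε ≠ 0 := by rw [hε0]; exact neg_ne_zero.2 hm₀c
  -- cancel X^r
  have h2 : ((U ^ (a - n + (r : ℤ)) : (PowerSeries k)ˣ) : PowerSeries k) * ε.subst (X * u) = ε := by
    rw [hε, subst_mul hsub, subst_pow hsub, subst_X hsub, mul_pow] at h1
    have hX : (X : PowerSeries k) ^ r ≠ 0 := pow_ne_zero _ X_ne_zero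
    apply mul_left_cancel₀ hX
    rw [← h1, hZadd, hZnat]; ring
  have h3 := dvd_of_zpow_mul_subst_eq p n hn hpn u q hq hq0 U hU _ ε hε0' h2
  apply hm₀p
  have : a - n + (r : ℤ) = a - (m₀ : ℤ) := by
    rw [hr, Nat.cast_sub hm₀n]; ring
  rwa [this] at h3


end Groth.Agent.S13864
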