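import Groth.Statements.S16323
import Mathlib
import Groth.Agent.Lib.Helper77.TorAB
import Groth.Agent.Lib.Helper77.GrTor
import Groth.Agent.Lib.Helper77.GrPD

set_option autoImplicit false
universe u
open GrSyz

namespace Groth.Agent.S16323

open CategoryTheory Groth.Agent.Lib.Helper77 Groth.Agent.Lib.Helper46

section
variable {R : Type u} [CommRing R] {σ' : Type u} [SetLike σ' R]
variable {𝒜 : ℤ → σ'}
variable {M : Type u} [AddCommGroup M] [Module R M] {τ : Type u} [SetLike τ M] [AddSubgroupClass τ M]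
  {ℳ : ℤ → τ} [DirectSum.Decomposition ℳ] [SetLike.GradedSMul 𝒜 ℳ]

/-- a minimal resolution with `F_0 = 0` vanishes. -/
theorem rk_eq_zero_of_rk_zero (F : FreeRes 𝒜 ℳ) {𝔪 : Ideal R} (h𝔪 : (1 : R) ∉ 𝔪)
    (hmin : F.IsMinimal 𝔪) (h0 : F.rk 0 = 0) : ∀ i, F.rk i = 0 := by
  have h1 : F.rk 1 = 0 := by
    by_contra hne
    have hpos : 0 < F.rk (0 + 1) := Nat.pos_of_ne_zero hne
    let b : Fin (F.rk (0 + 1)) := ⟨0, hpos⟩
    refine Groth.Agent.Lib.Helper77.freeRes_not_mem_ker_of_coord_eq_one F h𝔪 hmin 0 (Pi.single b 1) b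
      (by simp) ?_
    rw [LinearMap.mem_ker]
    have hemp : IsEmpty (Fin (F.rk 0)) := by rw [h0]; infer_instance
    exact Subsingleton.elim _ _
  intro i
  induction i using Nat.strong_induction_on with
  | _ i ih =>
    match i with
    | 0 => exact h0
    | 1 => exact h1
    | (j + 2) => exact GrPD.rk_succ_eq_zero_of_rk F h𝔪 hmin j (ih (j + 1) (by omega))

end

/-- Let k be an algebraically closed field of characteristic zero, S = k[x_0, …, x_n] graded by degree,
𝔪 = (x_0, …, x_n), M a finitely generated ℤ-graded S-module and F a minimal graded free resolution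
of M (finite-rank free modules with homogeneous bases, every matrix entry of every differential in
𝔪) of length exactly ℓ: F_ℓ ≠ 0 and F_i = 0 for i > ℓ, so that ℓ is the projective dimension of M.
Then ℓ + depth(𝔪, M) = n + 1, where depth(𝔪, M) is the 𝔪-depth of M (supremum in ℕ∞ of the lengths
of M-regular sequences with terms in 𝔪). (The published statement is pd M = depth(𝔪, S) − depth(𝔪,
M) for a graded ring S with maximal ideal 𝔪 and a finitely generated module of finite projective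
dimension; stated here, as the text then specialises it, for the polynomial ring, where depth(𝔪, S)
= n + 1 and the projective dimension is the length of a minimal graded free resolution.) -/
theorem result (k : Type u) [Field k] [IsAlgClosed k] [CharZero k] (n : ℕ)
    (M : Type u) [AddCommGroup M] [Module k M] [Module (MvPolynomial (Fin (n + 1)) k) M]
    [IsScalarTower k (MvPolynomial (Fin (n + 1)) k) M] [Module.Finite (MvPolynomial (Fin (n + 1)) k) M]
    (ℳ : ℤ → Submodule k M) [DirectSum.Decomposition ℳ] [SetLike.GradedSMul (GrSyz.stdGr k (Fin (n + 1))) ℳ]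
    (F : GrSyz.FreeRes (GrSyz.stdGr k (Fin (n + 1))) ℳ) (hF : F.IsMinimal (GrSyz.irrel (GrSyz.stdGr k (Fin (n + 1)))).toIdeal)
    (ℓ : ℕ) (hℓ : F.HasLengthLE ℓ) (hℓ' : F.rk ℓ ≠ 0) :
    (ℓ : ℕ∞) + LocCoh.idealDepth (GrSyz.irrel (GrSyz.stdGr k (Fin (n + 1)))).toIdeal M = ((n + 1 : ℕ) : ℕ∞) := by
  classical
  set 𝔪 := (GrSyz.irrel (GrSyz.stdGr k (Fin (n + 1)))).toIdeal with h𝔪def
  have hmax : 𝔪.IsMaximal := GrTor.irrel_isMaximal k (Fin (n + 1))
  have hker : 𝔪 = RingHom.ker (MvPolynomial.constantCoeff : MvPolynomial (Fin (n + 1)) k →+* k) :=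
    GrTor.irrel_eq_ker_constantCoeff k (Fin (n + 1))
  have h1 : (1 : MvPolynomial (Fin (n + 1)) k) ∉ 𝔪 := fun h => hmax.ne_top ((Ideal.eq_top_iff_one _).2 h)
  have hlen := fun i => GrTor.length_tor F 𝔪 hF i
  have H1 := fun (N : ModuleCat.{u} (MvPolynomial (Fin (n + 1)) k)) (i : ℕ) (hi : n + 1 < i) =>
    TorVanish.isZero_tor_of_eq_ker k (n + 1) 𝔪 hker N i hi
  have H2 := TorAB.not_isZero_tor_of_eq_ker k (n + 1) 𝔪 hker
  have hp : ¬ Limits.IsZero (((Tor (ModuleCat.{u} (MvPolynomial (Fin (n + 1)) k)) ℓ).obj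
      (ModuleCat.of _ (MvPolynomial (Fin (n + 1)) k ⧸ 𝔪))).obj (ModuleCat.of _ M)) := by
    intro hz
    have hsub := ModuleCat.subsingleton_of_isZero hz
    have := hlen ℓ
    rw [Module.length_eq_zero] at this
    exact hℓ' (by exact_mod_cast this.symm)
  have hvan : ∀ i, ℓ < i → Limits.IsZero (((Tor (ModuleCat.{u} (MvPolynomial (Fin (n + 1)) k)) i).obj
      (ModuleCat.of _ (MvPolynomial (Fin (n + 1)) k ⧸ 𝔪))).obj (ModuleCat.of _ M)) := by
    intro i hi
    have := hlen i
    rw [hℓ i hi, Nat.cast_zero, Module.length_eq_zero_iff] at this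
    exact ModuleCat.isZero_of_subsingleton _
  have hle : ℓ ≤ n + 1 := by
    by_contra hcon
    exact hp (H1 _ ℓ (by omega))
  have hM : 𝔪 • (⊤ : Submodule (MvPolynomial (Fin (n + 1)) k) M) ≠ ⊤ := by
    intro htop
    have e1 := TorShift.torZeroEquiv (R := MvPolynomial (Fin (n + 1)) k)
      (MvPolynomial (Fin (n + 1)) k ⧸ 𝔪) M
    have e2 := TensorProduct.quotTensorEquivQuotSMul M 𝔪
    have hsub : Subsingleton (M ⧸ 𝔪 • (⊤ : Submodule (MvPolynomial (Fin (n + 1)) k) M)) := by
      rw [Submodule.Quotient.subsingleton_iff]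
      exact htop
    have hsub2 : Subsingleton (TorShift.T (MvPolynomial (Fin (n + 1)) k) 0
        (MvPolynomial (Fin (n + 1)) k ⧸ 𝔪) M) := (e1.trans e2).toEquiv.subsingleton
    have h0 := hlen 0
    rw [Module.length_eq_zero] at h0
    have h00 : F.rk 0 = 0 := by exact_mod_cast h0.symm
    exact hℓ' (rk_eq_zero_of_rk_zero F h1 hF h00 ℓ)
  rw [TorAB.idealDepth_eq 𝔪 (n + 1) H1 H2 M hM ℓ (n + 1 - ℓ) (by omega) hp hvan]
  exact_mod_cast (by omega : ℓ + (n + 1 - ℓ) = n + 1)

end Groth.Agent.S16323
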