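import Groth.Statements.S11294
-- import your own Groth.Agent.* helpers here

set_option autoImplicit false
universe u
open Deform

namespace Groth.Agent.S11294

section Helpers
open TrivSqZeroExt

variable {P : Type u} [CommRing P] {J : Ideal P}

/-- the ideal of the dual numbers attached to a normal homomorphism -/
def idealOf (φ : J →ₗ[P] (P ⧸ J)) : Ideal (DualNumber P) where
  carrier := {x | ∃ h : x.fst ∈ J, Ideal.Quotient.mk J x.snd = φ ⟨x.fst, h⟩}
  zero_mem' := by
    refine ⟨by simp, ?_⟩
    have : (⟨(0 : DualNumber P).fst, by simp⟩ : J) = 0 := by ext; simp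
    rw [this]; simp
  add_mem' := by
    rintro x y ⟨hx, hx'⟩ ⟨hy, hy'⟩
    refine ⟨by simpa using J.add_mem hx hy, ?_⟩
    have : (⟨(x + y).fst, by simpa using J.add_mem hx hy⟩ : J) = ⟨x.fst, hx⟩ + ⟨y.fst, hy⟩ := by
      ext; simp
    rw [this, map_add, ← hx', ← hy']; simp
  smul_mem' := by
    rintro c x ⟨hx, hx'⟩
    have h1 : (c • x).fst ∈ J := by
      simpa using J.mul_mem_left c.fst hx
    refine ⟨h1, ?_⟩
    have : (⟨(c • x).fst, h1⟩ : J) = c.fst • ⟨x.fst, hx⟩ := by
      ext; simp
    rw [this, map_smul, ← hx']
    have h2 : (c • x).snd = c.fst * x.snd + x.fst * c.snd := by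
      simp [TrivSqZeroExt.snd_mul, mul_comm]
    rw [h2, map_add]
    have h3 : Ideal.Quotient.mk J (x.fst * c.snd) = 0 :=
      Ideal.Quotient.eq_zero_iff_mem.2 (J.mul_mem_right _ hx)
    rw [h3, add_zero, map_mul]
    rfl

theorem mem_idealOf (φ : J →ₗ[P] (P ⧸ J)) (a b : P) :
    (inl a + inr b : DualNumber P) ∈ idealOf φ ↔
      ∃ h : a ∈ J, Ideal.Quotient.mk J b = φ ⟨a, h⟩ := by
  change (∃ h : (inl a + inr b : DualNumber P).fst ∈ J,
    Ideal.Quotient.mk J (inl a + inr b : DualNumber P).snd =
      φ ⟨(inl a + inr b : DualNumber P).fst, h⟩) ↔ _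
  have h1 : (inl a + inr b : DualNumber P).fst = a := by simp
  have h2 : (inl a + inr b : DualNumber P).snd = b := by simp
  simp only [h1, h2]

theorem ideal_ext {J₁ J₂ : Ideal (DualNumber P)}
    (h : ∀ a b : P, (inl a + inr b : DualNumber P) ∈ J₁ ↔ (inl a + inr b : DualNumber P) ∈ J₂) :
    J₁ = J₂ := by
  ext x
  rw [← TrivSqZeroExt.inl_fst_add_inr_snd_eq x]
  exact h _ _

end Helpers

open TrivSqZeroExt in
/-- Let P be a commutative ring, J an ideal, and P[ε] the ring of dual numbers over P. First-order
embedded deformations of Spec(P/J) in Spec P, namely ideals J' of P[ε] lifting J (the image of J'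
under ε ↦ 0 is J) with P[ε]/J' flat over the dual numbers — flatness being replaced by the condition
that every element of P[ε]/J' annihilated by ε is a multiple of ε (equivalent to flatness over k[ε]
when P is an algebra over a field k) — are in canonical bijection with Hom_P(J, P/J) =
Hom_{P/J}(J/J^2, P/J), the normal module: to φ corresponds the ideal of all a + εb with a in J and b
reducing to φ(a) modulo J. The first clause says this rule defines exactly one ideal for each φ; the
second says an ideal J' is a flat lift of J precisely when its membership is given by this rule for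
some φ. (The published statement is the global one, identifying first-order deformations of a closed
subscheme X of an algebraic scheme Y with H^0(X, N_{X/Y}); this row is the affine computation in its
proof, valid for every commutative ring P.) -/
theorem result (P : Type u) [CommRing P] (J : Ideal P) :
    (∀ φ : J →ₗ[P] (P ⧸ J), ∃! J' : Ideal (DualNumber P),
        ∀ a b : P, (inl a + inr b : DualNumber P) ∈ J' ↔ ∃ h : a ∈ J, Ideal.Quotient.mk J b = φ ⟨a, h⟩) ∧
    (∀ J' : Ideal (DualNumber P),
      (J'.map (TrivSqZeroExt.fstHom P P P) = J ∧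
        ∀ m : DualNumber P ⧸ J', Ideal.Quotient.mk J' DualNumber.eps * m = 0 →
          ∃ m' : DualNumber P ⧸ J', m = Ideal.Quotient.mk J' DualNumber.eps * m') ↔
      ∃ φ : J →ₗ[P] (P ⧸ J), ∀ a b : P,
        (inl a + inr b : DualNumber P) ∈ J' ↔ ∃ h : a ∈ J, Ideal.Quotient.mk J b = φ ⟨a, h⟩) := by
  refine ⟨?_, ?_⟩
  · intro φ
    refine ⟨idealOf φ, mem_idealOf φ, ?_⟩
    intro J' hJ'
    apply ideal_ext
    intro a b
    rw [hJ', mem_idealOf]
  · intro J'
    constructor
    · rintro ⟨hmap, hflat⟩
      have hsurj : Function.Surjective (TrivSqZeroExt.fstHom P P P) := fun a => ⟨inl a, by simp⟩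
      have h_i : ∀ x ∈ J', x.fst ∈ J := by
        intro x hx
        rw [← hmap]
        exact Ideal.mem_map_of_mem (TrivSqZeroExt.fstHom P P P) hx
      have h_ii : ∀ a : J, ∃ b : P, (inl (a : P) + inr b : DualNumber P) ∈ J' := by
        rintro ⟨a, ha⟩
        rw [← hmap, Ideal.mem_map_iff_of_surjective _ hsurj] at ha
        obtain ⟨x, hx, rfl⟩ := ha
        refine ⟨x.snd, ?_⟩
        change (inl x.fst + inr x.snd : DualNumber P) ∈ J'
        rw [TrivSqZeroExt.inl_fst_add_inr_snd_eq]
        exact hx
      have h_iii : ∀ c : P, (inr c : DualNumber P) ∈ J' ↔ c ∈ J := by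
        intro c
        constructor
        · intro hc
          have h1 : (DualNumber.eps * inl c : DualNumber P) = inr c := by
            ext <;> simp
          have h2 : Ideal.Quotient.mk J' DualNumber.eps * Ideal.Quotient.mk J' (inl c) = 0 := by
            rw [← map_mul, h1]
            exact Ideal.Quotient.eq_zero_iff_mem.2 hc
          obtain ⟨m', hm'⟩ := hflat _ h2
          obtain ⟨y, rfl⟩ := Ideal.Quotient.mk_surjective m'
          rw [← map_mul, Ideal.Quotient.eq] at hm'
          have := h_i _ hm'
          simpa using this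
        · intro hc
          obtain ⟨b, hb⟩ := h_ii ⟨c, hc⟩
          have h1 : (DualNumber.eps * (inl c + inr b) : DualNumber P) = inr c := by
            ext <;> simp
          rw [← h1]
          exact J'.mul_mem_left _ hb
      have h_iv : ∀ a b b' : P, (inl a + inr b : DualNumber P) ∈ J' →
          (inl a + inr b' : DualNumber P) ∈ J' → Ideal.Quotient.mk J b = Ideal.Quotient.mk J b' := by
        intro a b b' h1 h2
        rw [Ideal.Quotient.eq, ← h_iii]
        have : (inr (b - b') : DualNumber P) = (inl a + inr b) - (inl a + inr b') := by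
          ext <;> simp
        rw [this]
        exact J'.sub_mem h1 h2
      choose bsel hbsel using h_ii
      refine ⟨{ toFun := fun a => Ideal.Quotient.mk J (bsel a), map_add' := ?_, map_smul' := ?_ }, ?_⟩
      · intro a a'
        rw [← map_add]
        apply h_iv _ _ _ (hbsel (a + a'))
        have : (inl ((a + a' : J) : P) + inr (bsel a + bsel a') : DualNumber P) =
            (inl (a : P) + inr (bsel a)) + (inl (a' : P) + inr (bsel a')) := by
          ext <;> simp
        rw [this]
        exact J'.add_mem (hbsel a) (hbsel a')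
      · intro c a
        have h1 : c • Ideal.Quotient.mk J (bsel a) = Ideal.Quotient.mk J (c * bsel a) := by
          rw [map_mul]; rfl
        rw [RingHom.id_apply, h1]
        apply h_iv _ _ _ (hbsel (c • a))
        have : (inl ((c • a : J) : P) + inr (c * bsel a) : DualNumber P) =
            inl c * (inl (a : P) + inr (bsel a)) := by
          ext <;> simp
        rw [this]
        exact J'.mul_mem_left _ (hbsel a)
      · intro a b
        constructor
        · intro hab
          have ha : a ∈ J := by simpa using h_i _ hab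
          exact ⟨ha, h_iv _ _ _ hab (hbsel ⟨a, ha⟩)⟩
        · rintro ⟨ha, hb⟩
          change Ideal.Quotient.mk J b = Ideal.Quotient.mk J (bsel ⟨a, ha⟩) at hb
          rw [Ideal.Quotient.eq, ← h_iii] at hb
          have : (inl a + inr b : DualNumber P) = (inl a + inr (bsel ⟨a, ha⟩)) + inr (b - bsel ⟨a, ha⟩) := by
            ext <;> simp
          rw [this]
          exact J'.add_mem (hbsel ⟨a, ha⟩) hb
    · rintro ⟨φ, hφ⟩
      have hsurj : Function.Surjective (TrivSqZeroExt.fstHom P P P) := fun a => ⟨inl a, by simp⟩
      constructor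
      · ext a
        rw [Ideal.mem_map_iff_of_surjective _ hsurj]
        constructor
        · rintro ⟨x, hx, rfl⟩
          rw [← TrivSqZeroExt.inl_fst_add_inr_snd_eq x, hφ] at hx
          obtain ⟨h, -⟩ := hx
          simpa using h
        · intro ha
          obtain ⟨b, hb⟩ := Ideal.Quotient.mk_surjective (φ ⟨a, ha⟩)
          exact ⟨inl a + inr b, (hφ a b).2 ⟨ha, hb⟩, by simp⟩
      · intro m hm
        obtain ⟨x, rfl⟩ := Ideal.Quotient.mk_surjective m
        rw [← map_mul, Ideal.Quotient.eq_zero_iff_mem] at hm
        have h1 : (DualNumber.eps * x : DualNumber P) = inl 0 + inr x.fst := by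
          ext <;> simp
        rw [h1, hφ] at hm
        obtain ⟨h0, hx0⟩ := hm
        have h00 : (⟨0, h0⟩ : J) = 0 := rfl
        rw [h00, map_zero, Ideal.Quotient.eq_zero_iff_mem] at hx0
        obtain ⟨c, hc⟩ := Ideal.Quotient.mk_surjective (φ ⟨x.fst, hx0⟩)
        refine ⟨Ideal.Quotient.mk J' (inl (x.snd - c)), ?_⟩
        rw [← map_mul, Ideal.Quotient.eq]
        have h2 : (x - DualNumber.eps * inl (x.snd - c) : DualNumber P) = inl x.fst + inr c := by
          ext <;> simp
        rw [h2, hφ]
        exact ⟨hx0, hc⟩

end Groth.Agent.S11294
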