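import Groth.Statements.S1233
import Groth.Agent.S1232
import Groth.Agent.Lib.Helper98.WeakAssLoc

set_option autoImplicit false
universe u
open FlatMor

namespace Groth.Agent.S1233

open TensorProduct in
/-- Let A → B be an étale ring map, M an A-module and u a prime of B lying over the prime p of A. Then u
is a weakly associated prime of the B-module B ⊗_A M if and only if p is a weakly associated prime
of M. -/
theorem result {A B : Type u} [CommRing A] [CommRing B] [Algebra A B] [Algebra.Etale A B]
    (M : Type u) [AddCommGroup M] [Module A M] (p : Ideal A) [p.IsPrime] (u : Ideal B) [u.IsPrime] [u.LiesOver p] :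
    u ∈ FlatCA.weakAss B (B ⊗[A] M) ↔ p ∈ FlatCA.weakAss A M := by
  classical
  have hup : u.comap (algebraMap A B) = p := (Ideal.LiesOver.over (p := p) (P := u)).symm
  have hEt : Algebra.IsEtaleAt A u := inferInstance
  obtain ⟨g, hgu, hstd⟩ := Algebra.IsEtaleAt.exists_isStandardEtale (R := A) u
  have hdisj : Disjoint (Submonoid.powers g : Set B) (u : Set B) :=
    (Ideal.disjoint_powers_iff_notMem_of_isPrime _).mpr hgu
  have hu'comap : (u.map (algebraMap B (Localization.Away g))).comap
      (algebraMap B (Localization.Away g)) = u :=
    IsLocalization.under_map_of_isPrime_disjoint (.powers g) _ ‹_› hdisj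
  have h1 : u ∈ FlatCA.weakAss B (B ⊗[A] M) ↔
      u.map (algebraMap B (Localization.Away g)) ∈
        FlatCA.weakAss (Localization.Away g) (Localization.Away g ⊗[A] M) := by
    rw [Groth.Agent.Lib.Helper98.WeakAssLoc.mem_weakAss_tensor_iff_of_isLocalization (A := A)
      (.powers g) (Localization.Away g) M, hu'comap]
  obtain ⟨P⟩ := hstd.nonempty_standardEtalePresentation
  let e : Localization.Away g ≃ₐ[A] Localization.Away (AdjoinRoot.mk P.f P.g) :=
    P.equivRing.trans P.P.equivAwayAdjoinRoot
  have h2 := Groth.Agent.Lib.Helper98.WeakAssLoc.mem_weakAss_tensor_iff_of_algEquiv e.symm M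
    (u.map (algebraMap B (Localization.Away g)))
  have h3 := Groth.Agent.Lib.Helper98.WeakAssLoc.mem_weakAss_tensor_iff_of_isLocalization (A := A)
    (.powers (AdjoinRoot.mk P.f P.g)) (Localization.Away (AdjoinRoot.mk P.f P.g)) M
    ((u.map (algebraMap B (Localization.Away g))).comap
      (e.symm.toRingEquiv : Localization.Away (AdjoinRoot.mk P.f P.g) →+* Localization.Away g))
  have hfin : Module.Finite A (AdjoinRoot P.f) := P.monic_f.finite_adjoinRoot
  have hfree : Module.Free A (AdjoinRoot P.f) := P.monic_f.free_adjoinRoot
  have hprime : (((u.map (algebraMap B (Localization.Away g))).comap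
      (e.symm.toRingEquiv : Localization.Away (AdjoinRoot.mk P.f P.g) →+* Localization.Away g)).comap
      (algebraMap (AdjoinRoot P.f) (Localization.Away (AdjoinRoot.mk P.f P.g)))).IsPrime := by
    have : (u.map (algebraMap B (Localization.Away g))).IsPrime :=
      IsLocalization.isPrime_of_isPrime_disjoint (.powers g) _ _ ‹_› hdisj
    infer_instance
  have hvp : (((u.map (algebraMap B (Localization.Away g))).comap
      (e.symm.toRingEquiv : Localization.Away (AdjoinRoot.mk P.f P.g) →+* Localization.Away g)).comap
      (algebraMap (AdjoinRoot P.f) (Localization.Away (AdjoinRoot.mk P.f P.g)))).LiesOver p := by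
    refine ⟨?_⟩
    rw [Ideal.under_def, Ideal.comap_comap, Ideal.comap_comap]
    have hcomp : ((e.symm.toRingEquiv : Localization.Away (AdjoinRoot.mk P.f P.g) →+*
        Localization.Away g).comp
        (algebraMap (AdjoinRoot P.f) (Localization.Away (AdjoinRoot.mk P.f P.g)))).comp
        (algebraMap A (AdjoinRoot P.f)) =
        (algebraMap B (Localization.Away g)).comp (algebraMap A B) := by
      ext a
      simp only [RingHom.comp_apply]
      rw [← IsScalarTower.algebraMap_apply A (AdjoinRoot P.f),
        ← IsScalarTower.algebraMap_apply A B]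
      exact e.symm.commutes a
    rw [← RingHom.comp_assoc, hcomp, ← Ideal.comap_comap, hu'comap, hup]
  have h4 := Groth.Agent.S1232.result M p
    (((u.map (algebraMap B (Localization.Away g))).comap
      (e.symm.toRingEquiv : Localization.Away (AdjoinRoot.mk P.f P.g) →+* Localization.Away g)).comap
      (algebraMap (AdjoinRoot P.f) (Localization.Away (AdjoinRoot.mk P.f P.g))))
  exact h1.trans (h2.trans (h3.trans h4))

end Groth.Agent.S1233
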