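import Groth.Statements.S3572
import Groth.Agent.Lib.Proj.PnUP

set_option autoImplicit false
universe u
open CategoryTheory CategoryTheory.Limits AlgebraicGeometry
open EGA2

namespace Groth.Agent.S3572

/-- Existence part of the universal property of projective n-space over an affine base Spec R (the
published statement is for P(E) with E an arbitrary quasi-coherent module; here E is the free module
of rank n+1, so that P(E) is projective n-space over R): let X be a scheme over R, L an invertible
O_X-module and s_0, …, s_n global sections of L generating L. Then there is an R-morphism r from X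
to projective n-space over R and an isomorphism r^*O(1) ≅ L carrying the inverse image of the
coordinate T_i to s_i for every i. -/
theorem result {R : Type u} [CommRing R] (n : ℕ) {X : Scheme.{u}}
    (q : X ⟶ Spec (CommRingCat.of R)) (L : X.Modules) (hL : PicF.IsInvertible L)
    (s : Fin (n + 1) → ProjUP.Γm L) (hs : ProjUP.GeneratedBy L s) :
    ∃ (r : X ⟶ CohB1.ProjSpace n R) (_ : r ≫ CohB1.ProjSpace.toSpec n R = q)
      (τ : (Scheme.Modules.pullback r).obj (Twist.twistProjSpace n R 1) ≅ L),
      ∀ i, τ.hom.app ⊤ (ProjUP.pullSec r (Twist.twistProjSpace n R 1) (ProjUP.coord n R i)) = s i := by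
  have hcov : ∀ x : X, ∃ i, x ∈ CohB1.genLocus L (Groth.Agent.Lib.Ample.homOfSec L (s i)) := by
    intro x
    apply Groth.Agent.Lib.Proj.PnUP.exists_mem_genLocus_of_span_germ_eq_top hL
    have h := hs x
    simp only [Groth.Agent.Lib.Ample.secOf_homOfSec]
    exact h
  obtain ⟨r, hrq, τ, hτ⟩ := Groth.Agent.Lib.Proj.PnUP.exists_toPn_iso n q
    (fun i => Groth.Agent.Lib.Ample.homOfSec L (s i)) hcov
  refine ⟨r, hrq, τ, fun i => ?_⟩
  have h := hτ i
  rw [Groth.Agent.Lib.Ample.secOf_homOfSec] at h
  exact h

end Groth.Agent.S3572
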