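import Groth.Statements.S8260
import Mathlib.AlgebraicGeometry.ProjectiveSpectrum.Proper
-- import your own Groth.Agent.* helpers here

set_option autoImplicit false
universe u
open CategoryTheory CategoryTheory.Limits AlgebraicGeometry Opposite TopologicalSpace
open scoped HomogeneousIdeal
open EGA2

namespace Groth.Agent.S8260


set_option backward.isDefEq.respectTransparency.types false in
lemma lft_of_affineOpens {X Y : Scheme.{u}} (p : X ⟶ Y)
    (h : ∀ (U : Y.Opens), IsAffineOpen U → LocallyOfFiniteType (p ∣_ U)) : LocallyOfFiniteType p :=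
  IsZariskiLocalAtTarget.of_iSup_eq_top (P := @LocallyOfFiniteType)
    (fun i : Y.affineOpens => (i : Y.Opens)) (iSup_affineOpens_eq_top Y) (fun i => h i.1 i.2)

set_option backward.isDefEq.respectTransparency.types false in
lemma qc_of_affineOpens {X Y : Scheme.{u}} (p : X ⟶ Y)
    (h : ∀ (U : Y.Opens), IsAffineOpen U → QuasiCompact (p ∣_ U)) : QuasiCompact p :=
  IsZariskiLocalAtTarget.of_iSup_eq_top (P := @QuasiCompact)
    (fun i : Y.affineOpens => (i : Y.Opens)) (iSup_affineOpens_eq_top Y) (fun i => h i.1 i.2)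

/-- If the quasi-coherent positively graded O_Y-algebra 𝒮 is of finite type (over every affine open U of
Y the ring 𝒮(U) is a finitely generated O_Y(U)-algebra), then its relative homogeneous spectrum
Proj(𝒮) is of finite type over Y. -/
theorem result {Y P : Scheme.{u}} (𝒮 : RelProj.QCGrAlg Y)
    (hft : ∀ (U : Y.Opens) (hU : IsAffineOpen U), (𝒮.str.app (op U)).hom.FiniteType)
    (p : P ⟶ Y)
    (chart : ∀ (U : Y.Opens) (hU : IsAffineOpen U), (((p ⁻¹ᵁ U : P.Opens) : Scheme.{u}) ≅ Proj (𝒮.deg U hU)))
    (hP : RelProj.IsRelProj 𝒮 p chart) : LocallyOfFiniteType p ∧ QuasiCompact p := by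
  classical
  have key : ∀ (U : Y.Opens) (hU : IsAffineOpen U),
      LocallyOfFiniteType (p ∣_ U) ∧ QuasiCompact (p ∣_ U) := by
    intro U hU
    -- ring-theoretic input
    have hs_eq : (𝒮.strZero U hU).hom =
        (GradedRing.projZeroRingHom' (𝒮.deg U hU)).comp (𝒮.str.app (op U)).hom := by
      ext r
      rw [RingHom.comp_apply, GradedRing.coe_projZeroRingHom'_apply,
        GradedRing.projZeroRingHom_apply, RelProj.QCGrAlg.strZero_apply_coe,
        DirectSum.decompose_of_mem_same _ (𝒮.str_mem U hU r)]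
    have hs : (𝒮.strZero U hU).hom.FiniteType := by
      rw [hs_eq]
      exact RingHom.FiniteType.comp
        (RingHom.FiniteType.of_surjective _ (GradedRing.projZeroRingHom'_surjective _)) (hft U hU)
    have hi_eq : (algebraMap (𝒮.deg U hU 0) (𝒮.presheaf.obj (op U))).comp (𝒮.strZero U hU).hom =
        (𝒮.str.app (op U)).hom := by
      ext r
      rfl
    have hi : Algebra.FiniteType (𝒮.deg U hU 0) (𝒮.presheaf.obj (op U)) := by
      rw [← RingHom.finiteType_algebraMap]
      refine RingHom.FiniteType.of_comp_finiteType (f := (𝒮.strZero U hU).hom) ?_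
      rw [hi_eq]
      exact hft U hU
    have hSpec : LocallyOfFiniteType (Spec.map (𝒮.strZero U hU)) := by
      rw [HasRingHomProperty.Spec_iff (P := @LocallyOfFiniteType)]
      exact hs
    have heq : p ∣_ U = (chart U hU).hom ≫ Proj.toSpecZero (𝒮.deg U hU) ≫
        Spec.map (𝒮.strZero U hU) ≫ hU.isoSpec.inv := by
      rw [← cancel_mono U.ι]
      have h2 : (p ∣_ U) ≫ U.ι = (p ⁻¹ᵁ U).ι ≫ p := by simp
      rw [h2, ← hP.chart_over U hU]
      simp only [Category.assoc, IsAffineOpen.isoSpec_inv_ι]
    rw [heq]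
    exact ⟨inferInstance, inferInstance⟩
  exact ⟨lft_of_affineOpens p (fun U hU => (key U hU).1),
    qc_of_affineOpens p (fun U hU => (key U hU).2)⟩

end Groth.Agent.S8260
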