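import Groth.Statements.S8261
import Mathlib.AlgebraicGeometry.ProjectiveSpectrum.Proper
import Groth.Agent.S8260
-- import your own Groth.Agent.* helpers here

set_option autoImplicit false
universe u
open CategoryTheory CategoryTheory.Limits AlgebraicGeometry Opposite TopologicalSpace
open scoped HomogeneousIdeal
open EGA2

namespace Groth.Agent.S8261


section algebra

variable {R A : Type u} [CommRing R] [CommRing A] {σ : Type u} [SetLike σ A] [AddSubgroupClass σ A]
  (𝒜 : ℕ → σ) [GradedRing 𝒜] (s : R →+* 𝒜 0)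
  (hgen : Subring.closure ((𝒜 0 : Set A) ∪ (𝒜 1 : Set A)) = ⊤)
  (T : Finset A) (hT : (↑T : Set A) ⊆ (𝒜 1 : Set A))
  (hspan : ∀ x ∈ 𝒜 1, ∃ c : A → R, x = ∑ t ∈ T, (s (c t) : A) * t)

include hgen hspan in
/-- every element differs from its degree-zero part by an element of the ideal spanned by `T`. -/
lemma sub_proj_mem (x : A) : x - GradedRing.projZeroRingHom 𝒜 x ∈ Ideal.span (T : Set A) := by
  classical
  have hx : x ∈ Subring.closure ((𝒜 0 : Set A) ∪ (𝒜 1 : Set A)) := by rw [hgen]; trivial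
  induction hx using Subring.closure_induction with
  | mem x hx =>
    rcases hx with hx | hx
    · rw [GradedRing.projZeroRingHom_apply, DirectSum.decompose_of_mem_same 𝒜 hx, sub_self]
      exact Ideal.zero_mem _
    · rw [GradedRing.projZeroRingHom_apply, DirectSum.decompose_of_mem_ne 𝒜 hx one_ne_zero, sub_zero]
      obtain ⟨c, hc⟩ := hspan x hx
      rw [hc]
      exact Submodule.sum_mem _ (fun t ht => Ideal.mul_mem_left _ _ (Ideal.subset_span ht))
  | zero => rw [map_zero, sub_zero]; exact Ideal.zero_mem _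
  | one => rw [map_one, sub_self]; exact Ideal.zero_mem _
  | add x y _ _ hx hy =>
    rw [map_add, add_sub_add_comm]
    exact Ideal.add_mem _ hx hy
  | neg x _ hx =>
    rw [map_neg, ← neg_sub']
    exact Ideal.neg_mem_iff _ |>.2 hx
  | mul x y _ _ hx hy =>
    have : x * y - GradedRing.projZeroRingHom 𝒜 (x * y) =
        (x - GradedRing.projZeroRingHom 𝒜 x) * y +
          GradedRing.projZeroRingHom 𝒜 x * (y - GradedRing.projZeroRingHom 𝒜 y) := by
      rw [map_mul]; ring
    rw [this]
    exact Ideal.add_mem _ (Ideal.mul_mem_right _ _ hx) (Ideal.mul_mem_left _ _ hy)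

include hgen hspan in
lemma irrelevant_le_span :
    (HomogeneousIdeal.irrelevant 𝒜).toIdeal ≤ Ideal.span (T : Set A) := by
  intro x hx
  have h := sub_proj_mem 𝒜 s hgen T hspan x
  have h0 : GradedRing.projZeroRingHom 𝒜 x = 0 := by
    have := (HomogeneousIdeal.mem_irrelevant_iff 𝒜 x).1 hx
    rwa [GradedRing.proj_apply] at this
  rwa [h0, sub_zero] at h

include hgen hspan in
lemma adjoin_eq_top : Algebra.adjoin (𝒜 0) (T : Set A) = ⊤ := by
  rw [eq_top_iff]
  rintro x -
  have hx : x ∈ Subring.closure ((𝒜 0 : Set A) ∪ (𝒜 1 : Set A)) := by rw [hgen]; trivial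
  induction hx using Subring.closure_induction with
  | mem x hx =>
    rcases hx with hx | hx
    · exact Subalgebra.algebraMap_mem _ (⟨x, hx⟩ : 𝒜 0)
    · obtain ⟨c, hc⟩ := hspan x hx
      rw [hc]
      refine Subalgebra.sum_mem _ (fun t ht => ?_)
      exact Subalgebra.mul_mem _ (Subalgebra.algebraMap_mem _ (s (c t)))
        (Algebra.subset_adjoin ht)
  | zero => exact Subalgebra.zero_mem _
  | one => exact Subalgebra.one_mem _
  | add x y _ _ hx hy => exact Subalgebra.add_mem _ hx hy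
  | neg x _ hx => exact Subalgebra.neg_mem _ hx
  | mul x y _ _ hx hy => exact Subalgebra.mul_mem _ hx hy

include hgen hspan hT in
/-- `R → A_(t)` is of finite type for `t ∈ T`. -/
lemma finiteType_away (t : A) (ht : t ∈ T) :
    ((HomogeneousLocalization.fromZeroRingHom 𝒜 (Submonoid.powers t)).comp s).FiniteType := by
  classical
  have ht1 : t ∈ 𝒜 1 := hT ht
  have : Algebra.FiniteType (𝒜 0) A := ⟨⟨T, adjoin_eq_top 𝒜 s hgen T hspan⟩⟩
  obtain ⟨G, hG⟩ := (HomogeneousLocalization.Away.finiteType (𝒜 := 𝒜) t 1 ht1).out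
  let _ : Algebra R (HomogeneousLocalization.Away 𝒜 t) :=
    ((HomogeneousLocalization.fromZeroRingHom 𝒜 (Submonoid.powers t)).comp s).toAlgebra
  let q : A → HomogeneousLocalization.Away 𝒜 t := fun t' =>
    if h : t' ∈ 𝒜 1 then HomogeneousLocalization.Away.mk 𝒜 ht1 1 t' (by simpa using h) else 0
  change Algebra.FiniteType R (HomogeneousLocalization.Away 𝒜 t)
  refine ⟨⟨G ∪ T.image q, ?_⟩⟩
  rw [eq_top_iff]
  rintro z -
  have hz : z ∈ Algebra.adjoin (𝒜 0) (G : Set (HomogeneousLocalization.Away 𝒜 t)) := by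
    rw [hG]; trivial
  induction hz using Algebra.adjoin_induction with
  | mem z hz =>
    exact Algebra.subset_adjoin (by rw [Finset.coe_union]; exact Or.inl hz)
  | algebraMap c =>
    obtain ⟨r, hr⟩ := hspan ((c : A) * t) (by simpa using SetLike.mul_mem_graded c.2 ht1)
    have key : algebraMap (𝒜 0) (HomogeneousLocalization.Away 𝒜 t) c =
        ∑ t' ∈ T, algebraMap R (HomogeneousLocalization.Away 𝒜 t) (r t') * q t' := by
      apply HomogeneousLocalization.val_injective
      have hu : IsUnit (algebraMap A (Localization (Submonoid.powers t)) t) :=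
        IsLocalization.map_units (Localization (Submonoid.powers t))
          (⟨t, 1, pow_one t⟩ : Submonoid.powers t)
      rw [← hu.mul_left_inj]
      have hL : (algebraMap (𝒜 0) (HomogeneousLocalization.Away 𝒜 t) c).val =
          algebraMap A (Localization (Submonoid.powers t)) (c : A) := rfl
      rw [hL, ← map_mul, hr, map_sum]
      rw [← HomogeneousLocalization.algebraMap_apply, map_sum, Finset.sum_mul]
      refine Finset.sum_congr rfl (fun t' ht' => ?_)
      have ht'1 : t' ∈ 𝒜 1 := hT ht'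
      have hq : q t' = HomogeneousLocalization.Away.mk 𝒜 ht1 1 t' (by simpa using ht'1) :=
        dif_pos ht'1
      rw [hq, map_mul, map_mul, HomogeneousLocalization.algebraMap_apply,
        HomogeneousLocalization.algebraMap_apply, HomogeneousLocalization.Away.val_mk,
        Localization.mk_eq_mk', mul_assoc]
      congr 1
      have h3 := IsLocalization.mk'_spec (Localization (Submonoid.powers t)) t'
        (⟨t ^ 1, 1, rfl⟩ : Submonoid.powers t)
      simp only [pow_one] at h3 ⊢
      exact h3.symm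
    rw [key]
    refine Subalgebra.sum_mem _ (fun t' ht' => ?_)
    refine Subalgebra.mul_mem _ (Subalgebra.algebraMap_mem _ _) (Algebra.subset_adjoin ?_)
    rw [Finset.coe_union]
    exact Or.inr (Finset.mem_coe.2 (Finset.mem_image_of_mem q ht'))
  | add x y _ _ hx hy => exact Subalgebra.add_mem _ hx hy
  | mul x y _ _ hx hy => exact Subalgebra.mul_mem _ hx hy

end algebra

set_option backward.isDefEq.respectTransparency.types false in
/-- `Proj 𝒜 → Spec 𝒜₀ → Spec R` is of finite type. -/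
lemma proj_finiteType {R A : Type u} [CommRing R] [CommRing A] {σ : Type u} [SetLike σ A]
    [AddSubgroupClass σ A] (𝒜 : ℕ → σ) [GradedRing 𝒜] (s : R →+* 𝒜 0)
    (hgen : Subring.closure ((𝒜 0 : Set A) ∪ (𝒜 1 : Set A)) = ⊤)
    (T : Finset A) (hT : (↑T : Set A) ⊆ (𝒜 1 : Set A))
    (hspan : ∀ x ∈ 𝒜 1, ∃ c : A → R, x = ∑ t ∈ T, (s (c t) : A) * t) :
    LocallyOfFiniteType (Proj.toSpecZero 𝒜 ≫ Spec.map (CommRingCat.ofHom s)) ∧
      QuasiCompact (Proj.toSpecZero 𝒜 ≫ Spec.map (CommRingCat.ofHom s)) := by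
  classical
  have : Algebra.FiniteType (𝒜 0) A := ⟨⟨T, adjoin_eq_top 𝒜 s hgen T hspan⟩⟩
  refine ⟨?_, inferInstance⟩
  have hirr : (HomogeneousIdeal.irrelevant 𝒜).toIdeal ≤
      Ideal.span (Set.range (fun t : T => (t : A))) := by
    have h1 : Set.range (fun t : T => (t : A)) = (↑T : Set A) := Subtype.range_coe
    rw [h1]
    exact irrelevant_le_span 𝒜 s hgen T hspan
  let 𝒰 := (Proj.affineOpenCoverOfIrrelevantLESpan 𝒜 (fun t : T => (t : A)) (m := fun _ => 1)
     (fun t => hT t.2) (fun _ => Nat.one_pos) hirr).openCover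
  rw [IsZariskiLocalAtSource.iff_of_openCover (P := @LocallyOfFiniteType) 𝒰]
  intro (t : T)
  change LocallyOfFiniteType (Proj.awayι 𝒜 (t : A) (hT t.2) Nat.one_pos ≫ _ ≫ _)
  rw [Proj.awayι_toSpecZero_assoc, ← Spec.map_comp,
    HasRingHomProperty.Spec_iff (P := @LocallyOfFiniteType)]
  exact finiteType_away 𝒜 s hgen T hT hspan t.1 t.2

/-- Let 𝒮 be a quasi-coherent positively graded O_Y-algebra generated by 𝒮_1 with 𝒮_1 of finite type
over O_Y. Then Proj(𝒮) is of finite type over Y. -/
theorem result {Y P : Scheme.{u}} (𝒮 : RelProj.QCGrAlg Y)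
    (hgen : 𝒮.IsGenDegOne) (hft : 𝒮.IsFTDeg 1) (p : P ⟶ Y)
    (chart : ∀ (U : Y.Opens) (hU : IsAffineOpen U), (((p ⁻¹ᵁ U : P.Opens) : Scheme.{u}) ≅ Proj (𝒮.deg U hU)))
    (hP : RelProj.IsRelProj 𝒮 p chart) : LocallyOfFiniteType p ∧ QuasiCompact p := by
  classical
  have key : ∀ (U : Y.Opens) (hU : IsAffineOpen U),
      LocallyOfFiniteType (p ∣_ U) ∧ QuasiCompact (p ∣_ U) := by
    intro U hU
    obtain ⟨T, hT, hspan⟩ := hft U hU
    have hmain := proj_finiteType (𝒮.deg U hU) (𝒮.strZero U hU).hom (hgen U hU) T hT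
      (fun x hx => hspan x hx)
    have heq : p ∣_ U = (chart U hU).hom ≫ (Proj.toSpecZero (𝒮.deg U hU) ≫
        Spec.map (CommRingCat.ofHom (𝒮.strZero U hU).hom)) ≫ hU.isoSpec.inv := by
      rw [← cancel_mono U.ι]
      have h2 : (p ∣_ U) ≫ U.ι = (p ⁻¹ᵁ U).ι ≫ p := by simp
      rw [h2, ← hP.chart_over U hU]
      simp only [Category.assoc, IsAffineOpen.isoSpec_inv_ι]
      rfl
    obtain ⟨h1, h2⟩ := hmain
    rw [heq]
    exact ⟨inferInstance, inferInstance⟩
  exact ⟨Groth.Agent.S8260.lft_of_affineOpens p (fun U hU => (key U hU).1),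
    Groth.Agent.S8260.qc_of_affineOpens p (fun U hU => (key U hU).2)⟩

end Groth.Agent.S8261
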