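import Groth.Statements.S0011
import Groth.Agent.S0012
import Groth.Agent.Lib.Cohomology.Helper1_SerreVanishing
import Groth.Agent.Lib.QCoh.Helper50_Products
import Groth.Agent.Lib.QCoh.Affine
-- import your own Groth.Agent.* helpers here

set_option autoImplicit false
universe u
open Coherent

namespace Groth.Agent.S0011

section Aux
open AlgebraicGeometry CategoryTheory CategoryTheory.Limits Opposite TopologicalSpace

/-- An additive functor sends a finite product of objects it kills to an object it kills. -/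
lemma isZero_map_pi_of_additive {C D : Type*} [Category C] [Category D] [Preadditive C]
    [Preadditive D] (G : C ⥤ D) [G.Additive] {ι : Type*} [Finite ι]
    (N : ι → C) [HasProduct N] (h : ∀ i, IsZero (G.obj (N i))) : IsZero (G.obj (∏ᶜ N)) := by
  cases nonempty_fintype ι
  classical
  let inj : ∀ i, N i ⟶ ∏ᶜ N := fun i =>
    Pi.lift (fun j => if h : i = j then eqToHom (by rw [h]) else 0)
  have total : 𝟙 (∏ᶜ N) = ∑ i, Pi.π N i ≫ inj i := by
    apply Pi.hom_ext
    intro j
    rw [Category.id_comp, Preadditive.sum_comp, Finset.sum_eq_single j]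
    · simp [inj]
    · intro i _ hij
      simp [inj, hij]
    · intro h
      exact absurd (Finset.mem_univ j) h
  rw [IsZero.iff_id_eq_zero, ← G.map_id, total, G.map_sum]
  refine Finset.sum_eq_zero fun j _ => ?_
  rw [G.map_comp, (h j).eq_of_src (G.map (inj j)) 0, comp_zero]

theorem aux (X : Scheme.{u}) [CompactSpace X]
    (hd : ∀ V W : X.Opens, IsAffineOpen V → IsAffineOpen W → IsAffineOpen (V ⊓ W))
    (M : X.Modules) [Coh.IsQCoh M] :
    ∃ (M' : X.Modules) (i : M ⟶ M'), Mono i ∧ Coh.IsQCoh M' ∧
      ∀ p : ℕ, 0 < p → Subsingleton (Coh.HH X M' p) := by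
  classical
  -- a finite affine cover
  have hx : ∀ x : X, ∃ V : X.Opens, IsAffineOpen V ∧ x ∈ V := by
    intro x
    obtain ⟨_, ⟨V, hV, rfl⟩, hxV, -⟩ :=
      X.isBasis_affineOpens.exists_subset_of_mem_open (Set.mem_univ x) isOpen_univ
    exact ⟨V, hV, hxV⟩
  choose V hV hxV using hx
  obtain ⟨t, ht⟩ := CompactSpace.elim_nhds_subcover (fun x : X => ((V x : X.Opens) : Set X))
    (fun x => (V x).isOpen.mem_nhds (hxV x))
  -- the inclusions are affine morphisms
  have haff : ∀ y : X, IsAffineHom (V y).ι := by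
    intro y
    constructor
    intro W hW
    have h1 : IsAffineOpen ((V y).ι ''ᵁ ((V y).ι ⁻¹ᵁ W)) := by
      rw [Scheme.Hom.image_preimage_eq_opensRange_inf, Scheme.Opens.opensRange_ι]
      exact hd _ _ (hV y) hW
    exact ((V y).ι.isAffineOpen_iff_of_isOpenImmersion).1 h1
  let N : t → X.Modules := fun y =>
    (Scheme.Modules.pushforward (V y).ι).obj (M.restrict (V y).ι)
  let η : ∀ y : t, M ⟶ N y := fun y => (Scheme.Modules.restrictAdjunction (V y).ι).unit.app M
  have hNq : ∀ y : t, (N y).IsQuasicoherent := by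
    intro y
    haveI := haff y
    haveI : (M.restrict (V y).ι).IsQuasicoherent :=
      Groth.Agent.Lib.QCoh.isQuasicoherent_restrict _ M
    exact Groth.Agent.Lib.QCoh.isQuasicoherent_pushforward_of_isAffineHom _ _
  have hNa : ∀ (y : t) (p : ℕ), 0 < p → Subsingleton (Coh.HH X (N y) p) := by
    intro y p hp
    haveI := haff y
    haveI : (M.restrict (V y).ι).IsQuasicoherent :=
      Groth.Agent.Lib.QCoh.isQuasicoherent_restrict _ M
    obtain ⟨e⟩ := Groth.Agent.S0012.result (V y).ι (M.restrict (V y).ι) p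
    haveI : IsAffine (V y : Scheme.{u}) := hV y
    obtain ⟨q, rfl⟩ : ∃ q, p = q + 1 := ⟨p - 1, by omega⟩
    haveI := Groth.Agent.Lib.Cohomology.H_succ_subsingleton_of_isAffine (M.restrict (V y).ι) q
    exact e.symm.subsingleton
  refine ⟨∏ᶜ N, Pi.lift η, ?_, ?_, ?_⟩
  · apply Groth.Agent.Lib.QCoh.mono_of_app_injective
    intro U
    rw [injective_iff_map_eq_zero]
    intro s hs
    have hη : ∀ y : t, (η y).app U s = 0 := by
      intro y
      have h1 : (Pi.lift η ≫ Pi.π N y).app U s = 0 := by
        rw [Scheme.Modules.Hom.comp_app]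
        change (Pi.π N y).app U ((Pi.lift η).app U s) = 0
        rw [hs, map_zero]
      rwa [Pi.lift_π] at h1
    refine TopCat.Sheaf.eq_of_locally_eq' ⟨M.presheaf, M.isSheaf⟩
      (fun y : t => (V y).ι ''ᵁ ((V y).ι ⁻¹ᵁ U)) U
      (fun y => homOfLE ((V y).ι.image_preimage_le U)) ?_ s 0 ?_
    · intro x hxU
      have hx : x ∈ ⋃ y ∈ t, ((V y : X.Opens) : Set X) := ht ▸ Set.mem_univ x
      obtain ⟨y, hy⟩ := Set.mem_iUnion.1 hx
      obtain ⟨hyt, hxy⟩ := Set.mem_iUnion.1 hy
      refine Opens.mem_iSup.2 ⟨⟨y, hyt⟩, ?_⟩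
      rw [Scheme.Hom.image_preimage_eq_opensRange_inf, Scheme.Opens.opensRange_ι]
      exact ⟨hxy, hxU⟩
    · intro y
      rw [map_zero]
      exact hη y
  · exact Groth.Agent.Lib.QCoh.isQuasicoherent_pi_of_finite N hNq
  · intro p hp
    have hz := isZero_map_pi_of_additive
      (SheafOfModules.toSheaf X.ringCatSheaf ⋙
        Sheaf.functorH (Opens.grothendieckTopology X) p) N
      (fun y => by
        haveI : Subsingleton ((Sheaf.functorH (Opens.grothendieckTopology X) p).obj
            (Coh.toAb (N y))) := hNa y p hp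
        exact AddCommGrpCat.isZero_of_subsingleton
          ((Sheaf.functorH (Opens.grothendieckTopology X) p).obj (Coh.toAb (N y))))
    exact AddCommGrpCat.subsingleton_of_isZero hz

end Aux

open AlgebraicGeometry CategoryTheory in
/-- On a quasi-compact scheme in which affine opens have affine intersections, every quasi-coherent
module admits a monomorphism into a quasi-coherent module whose cohomology vanishes in all positive
degrees. (Part (2), universality of the delta-functor, is not stated.) -/
theorem result (X : Scheme.{u}) [CompactSpace X]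
    (hd : ∀ V W : X.Opens, IsAffineOpen V → IsAffineOpen W → IsAffineOpen (V ⊓ W))
    (M : X.Modules) [Coh.IsQCoh M] :
    ∃ (M' : X.Modules) (i : M ⟶ M'), Mono i ∧ Coh.IsQCoh M' ∧
      ∀ p : ℕ, 0 < p → Subsingleton (Coh.HH X M' p) := by
  exact aux X hd M

end Groth.Agent.S0011
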