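import Groth.Statements.S0014
import Groth.Agent.S0009
import Groth.Agent.Lib.QCoh.helper5_FTColim2

set_option autoImplicit false
universe u
open Coherent

namespace Groth.Agent.S0014

open AlgebraicGeometry CategoryTheory in
/-- If X is quasi-compact and quasi-separated and H^1 vanishes for every quasi-coherent submodule of
finite type of the structure sheaf, then X is affine. -/
theorem result (X : Scheme.{u}) [CompactSpace X]
    [QuasiSeparatedSpace X]
    (h : ∀ (I : X.Modules) (i : I ⟶ Coh.structureModule X), Mono i →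
      Coh.IsQCoh I → CohB1.IsFT I → Subsingleton (Coh.HH X I 1)) : IsAffine X := by
  refine Groth.Agent.S0009.result X (fun I i hi hI => ?_)
  have : I.IsQuasicoherent := hI
  have aux : ∀ ξ : Coh.HH X I 1, ξ = 0 := by
    intro ξ
    obtain ⟨F, j, hj, hFq, hFf, ξ', hξ'⟩ :=
      Groth.Agent.Lib.QCoh.FTColim.exists_ft_sub_of_HH I 1 ξ
    have hs := h F (j ≫ i) (mono_comp j i) hFq hFf
    rw [← hξ', @Subsingleton.elim _ hs ξ' 0, map_zero]
  exact ⟨fun a b => by rw [aux a, aux b]⟩

end Groth.Agent.S0014
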