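import Groth.Statements.S0015
-- import your own Groth.Agent.* helpers here
import Mathlib.AlgebraicGeometry.Morphisms.QuasiSeparated
import Mathlib.AlgebraicGeometry.Morphisms.Affine

set_option autoImplicit false
universe u
open Coherent

namespace Groth.Agent.S0015

open AlgebraicGeometry CategoryTheory in
theorem inf_affine_of_le_affine {X : Scheme.{u}} {W U V : X.Opens} (hW : IsAffineOpen W)
    (hU : IsAffineOpen U) (hV : IsAffineOpen V) (hUW : U ≤ W) (hVW : V ≤ W) :
    IsAffineOpen (U ⊓ V) := by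
  have h : IsAffineHom (Limits.pullback.diagonal (𝟙 X)) := inferInstance
  exact isAffineHom_diagonal_iff.mp h W hW U (by simpa using hUW) V (by simpa using hVW) hU hV

open AlgebraicGeometry in
/-- Step 1: compact opens inside an affine open. -/
theorem aux_in_affine (X : Scheme.{u}) [QuasiSeparatedSpace X]
    (P : X.Opens → Prop) (h₁ : ∀ U : X.Opens, IsAffineOpen U → P U)
    (h₂ : ∀ U V : X.Opens, IsCompact (U : Set X) → IsAffineOpen V → P U → P V → P (U ⊓ V) →
      P (U ⊔ V))
    (W : X.Opens) (hW : IsAffineOpen W) (s : Finset X.affineOpens) :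
    (∀ V ∈ s, (V : X.Opens) ≤ W) → ∀ T : X.Opens, IsAffineOpen T → T ≤ W →
      P ((⨆ V ∈ s, (V : X.Opens)) ⊓ T) := by
  classical
  induction s using Finset.induction_on with
  | empty =>
    intro _ T _ _
    simpa using h₁ ⊥ (isAffineOpen_bot X)
  | insert V t hVt ih =>
    intro hsW T hT hTW
    have htW : ∀ V' ∈ t, (V' : X.Opens) ≤ W := fun V' hV' => hsW V' (Finset.mem_insert_of_mem hV')
    have hVW : (V : X.Opens) ≤ W := hsW V (Finset.mem_insert_self _ _)
    rw [Finset.iSup_insert, sup_comm, inf_sup_right]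
    have hcompact0 : IsCompact ((⨆ V' ∈ t, (V' : X.Opens) : X.Opens) : Set X) := by
      have : ((⨆ V' ∈ t, (V' : X.Opens) : X.Opens) : Set X) = ⋃ V' ∈ t, ((V' : X.Opens) : Set X) := by
        simp
      rw [this]
      exact t.finite_toSet.isCompact_biUnion fun V' _ => V'.2.isCompact
    have hcompact : IsCompact (((⨆ V' ∈ t, (V' : X.Opens)) ⊓ T : X.Opens) : Set X) :=
      QuasiSeparatedSpace.inter_isCompact _ _ (TopologicalSpace.Opens.isOpen _) hcompact0 T.2 hT.isCompact
    have hVT : IsAffineOpen ((V : X.Opens) ⊓ T) := inf_affine_of_le_affine hW V.2 hT hVW hTW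
    refine h₂ _ _ hcompact hVT (ih htW T hT hTW) (h₁ _ hVT) ?_
    have e : ((⨆ V' ∈ t, (V' : X.Opens)) ⊓ T) ⊓ ((V : X.Opens) ⊓ T) =
        (⨆ V' ∈ t, (V' : X.Opens)) ⊓ ((V : X.Opens) ⊓ T) := by
      rw [inf_assoc]
      congr 1
      rw [inf_comm, inf_assoc, inf_idem]
    rw [e]
    exact ih htW _ hVT (inf_le_left.trans hVW)

open AlgebraicGeometry in
theorem aux_le_affine (X : Scheme.{u}) [QuasiSeparatedSpace X]
    (P : X.Opens → Prop) (h₁ : ∀ U : X.Opens, IsAffineOpen U → P U)
    (h₂ : ∀ U V : X.Opens, IsCompact (U : Set X) → IsAffineOpen V → P U → P V → P (U ⊓ V) →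
      P (U ⊔ V))
    (W : X.Opens) (hW : IsAffineOpen W) (S : X.Opens) (hS : IsCompact (S : Set X)) (hSW : S ≤ W) :
    P S := by
  obtain ⟨s, hs, rfl⟩ := isCompact_iff_finite_and_eq_biUnion_affineOpens.mp hS
  have key := aux_in_affine X P h₁ h₂ W hW hs.toFinset
    (fun V hV => le_trans (le_iSup₂_of_le V (hs.mem_toFinset.mp hV) le_rfl) hSW) W hW le_rfl
  have e : (⨆ V ∈ hs.toFinset, (V : X.Opens)) = ⨆ i ∈ s, (i : X.Opens) := by
    simp
  rw [e, inf_eq_left.mpr hSW] at key
  exact key

open AlgebraicGeometry in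
/-- Let X be quasi-compact and quasi-separated and P a property of opens of X. If P holds for affine
opens, and P(U ∪ V) follows from P(U), P(V), P(U ∩ V) whenever U is quasi-compact open and V affine
open, then P holds for every quasi-compact open, in particular for X. -/
theorem result (X : Scheme.{u}) [CompactSpace X] [QuasiSeparatedSpace X]
    (P : X.Opens → Prop) (h₁ : ∀ U : X.Opens, IsAffineOpen U → P U)
    (h₂ : ∀ U V : X.Opens, IsCompact (U : Set X) → IsAffineOpen V → P U → P V → P (U ⊓ V) →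
      P (U ⊔ V))
    (U : X.Opens) (hU : IsCompact (U : Set X)) : P U := by
  refine compact_open_induction_on U hU (h₁ ⊥ (isAffineOpen_bot X)) ?_
  intro S hS V ih
  refine h₂ S V hS V.2 ih (h₁ _ V.2) ?_
  exact aux_le_affine X P h₁ h₂ V V.2 (S ⊓ V)
    (QuasiSeparatedSpace.inter_isCompact _ _ S.2 hS (V : X.Opens).2 V.2.isCompact) inf_le_right

end Groth.Agent.S0015
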