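import Groth.Statements.S0023
import Groth.Agent.Lib.Proj.Helper44_PnBridge

set_option autoImplicit false
universe u
open Coherent

namespace Groth.Agent.S0023

open AlgebraicGeometry in
/-- Special case of the twist d = 0 in positive degree: H^q(P^n_R, O) = 0 for all q > 0 and any ring R.
(The full statement computes all H^q(P^n_R, O(d)); only the untwisted part is stated here.) -/
theorem result (n : ℕ) (R : Type u) [CommRing R]
    (q : ℕ) (hq : 0 < q) :
    Subsingleton (Coh.HH (CohB1.ProjSpace n R) (Coh.structureModule (CohB1.ProjSpace n R)) q) := by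
  haveI : Subsingleton (Coh.HH (Proj (CohB1.polyGrading n R))
      (Twist.twist (CohB1.polyGrading n R) 0) q) :=
    Groth.Agent.Lib.Proj.Bridge.subsingleton_HH_twist' n R 0 q (fun h => by omega) (fun h => by
      have := h.2
      have hn : (0 : ℤ) ≤ (n : ℤ) := Int.natCast_nonneg n
      omega)
  exact Groth.Agent.Lib.Proj.PnCoh.subsingleton_HH_of_iso
    (Groth.Agent.Lib.Proj.twistZeroIso (CohB1.polyGrading n R)) q

end Groth.Agent.S0023
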