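import Groth.Statements.S0024
import Groth.Agent.Lib.Helper1.ProjSpaceAlg
import Groth.Agent.S0022
-- import your own Groth.Agent.* helpers here

set_option autoImplicit false
universe u
open Coherent

namespace Groth.Agent.S0024

section Aux
open AlgebraicGeometry CategoryTheory CategoryTheory.Limits Opposite TopologicalSpace
open MvPolynomial HomogeneousLocalization
open Groth.Agent.Lib.Helper1.ProjSpaceAlg

variable (n : ℕ) (R : Type u) [CommRing R]

/-- The standard charts of projective space. -/
noncomputable abbrev chart (i : Fin (n + 1)) :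
    Spec (.of (Away (CohB1.polyGrading n R) (X i : MvPolynomial (Fin (n + 1)) R))) ⟶
      Proj (CohB1.polyGrading n R) :=
  Proj.awayι (CohB1.polyGrading n R) (X i) (X_mem n R i) one_pos

/-- The cover of projective space by the standard charts. -/
noncomputable def chartCover : (Proj (CohB1.polyGrading n R)).AffineOpenCover where
  I₀ := Fin (n + 1)
  X i := .of (Away (CohB1.polyGrading n R) (X i : MvPolynomial (Fin (n + 1)) R))
  f i := chart n R i
  idx x := (Opens.mem_iSup.mp
    ((Groth.Agent.S0022.iSup_basicOpen_X n R).ge (Set.mem_univ x))).choose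
  covers x := by
    change x ∈ (Proj.awayι (CohB1.polyGrading n R) _ _ _).opensRange
    rw [Proj.opensRange_awayι]
    exact (Opens.mem_iSup.mp
      ((Groth.Agent.S0022.iSup_basicOpen_X n R).ge (Set.mem_univ x))).choose_spec

theorem bijective_toSpecZero_appTop :
    Function.Bijective (Proj.toSpecZero (CohB1.polyGrading n R)).appTop := by
  set 𝒜 := CohB1.polyGrading n R with h𝒜
  set τ := Proj.toSpecZero 𝒜 with hτ
  -- composite of a chart with the structure map
  have hjτ : ∀ i, chart n R i ≫ τ =
      Spec.map (CommRingCat.ofHom (fromZeroRingHom 𝒜 (Submonoid.powers (X i)))) := fun i =>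
    Proj.awayι_toSpecZero 𝒜 (X i) (X_mem n R i) one_pos
  have hjτ' : ∀ i (x : Γ(Spec (.of (𝒜 0)), ⊤)), (chart n R i).appTop (τ.appTop x) =
      (Scheme.ΓSpecIso _).inv (fromZeroRingHom 𝒜 (Submonoid.powers (X i))
        ((Scheme.ΓSpecIso _).hom x)) := by
    intro i x
    have h1 : (chart n R i).appTop (τ.appTop x) = (chart n R i ≫ τ).appTop x := rfl
    rw [h1, hjτ i]
    have h2 := Scheme.ΓSpecIso_naturality
      (CommRingCat.ofHom (fromZeroRingHom 𝒜 (Submonoid.powers (X i))))
    have h3 : (Scheme.ΓSpecIso _).hom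
        ((Spec.map (CommRingCat.ofHom (fromZeroRingHom 𝒜 (Submonoid.powers (X i))))).appTop x) =
        fromZeroRingHom 𝒜 (Submonoid.powers (X i)) ((Scheme.ΓSpecIso _).hom x) :=
      congr($(h2) x)
    rw [← h3, ← ConcreteCategory.comp_apply, Iso.hom_inv_id]
    rfl
  constructor
  · -- injective
    rw [injective_iff_map_eq_zero]
    intro x hx
    have h1 := hjτ' 0 x
    rw [hx, map_zero] at h1
    have h2 : fromZeroRingHom 𝒜 (Submonoid.powers (X 0)) ((Scheme.ΓSpecIso _).hom x) = 0 := by
      have := congrArg (Scheme.ΓSpecIso _).hom h1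
      rw [map_zero, ← ConcreteCategory.comp_apply, Iso.inv_hom_id] at this
      exact this.symm
    have h3 : (Scheme.ΓSpecIso _).hom x = 0 :=
      fromZeroRingHom_injective (by rw [h2, map_zero])
    have := congrArg (Scheme.ΓSpecIso _).inv h3
    rw [map_zero, ← ConcreteCategory.comp_apply, Iso.hom_inv_id] at this
    exact this
  · -- surjective
    intro s
    let si : ∀ i : Fin (n + 1), Away 𝒜 (X i : MvPolynomial (Fin (n + 1)) R) := fun i =>
      (Scheme.ΓSpecIso _).hom ((chart n R i).appTop s)
    have hcompat : ∀ i k, ρ n R i k (si i) = ρ' n R i k (si k) := by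
      intro i k
      have e1 := Proj.SpecMap_awayMap_awayι 𝒜 (X_mem n R i) one_pos (X_mem n R k)
        (rfl : (X i * X k : MvPolynomial (Fin (n + 1)) R) = X i * X k)
      have e2 := Proj.SpecMap_awayMap_awayι 𝒜 (X_mem n R k) one_pos (X_mem n R i)
        (mul_comm _ _ : (X i * X k : MvPolynomial (Fin (n + 1)) R) = X k * X i)
      have e3 : Spec.map (CommRingCat.ofHom (ρ n R i k)) ≫ chart n R i =
          Spec.map (CommRingCat.ofHom (ρ' n R i k)) ≫ chart n R k := e1.trans e2.symm
      have e4 := congr($(congrArg Scheme.Hom.appTop e3) s)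
      rw [Scheme.Hom.comp_appTop, Scheme.Hom.comp_appTop, ConcreteCategory.comp_apply,
        ConcreteCategory.comp_apply] at e4
      have n1 := congr($(Scheme.ΓSpecIso_naturality (CommRingCat.ofHom (ρ n R i k)))
        ((chart n R i).appTop s))
      have n2 := congr($(Scheme.ΓSpecIso_naturality (CommRingCat.ofHom (ρ' n R i k)))
        ((chart n R k).appTop s))
      rw [ConcreteCategory.comp_apply, ConcreteCategory.comp_apply] at n1 n2
      change ρ n R i k ((Scheme.ΓSpecIso _).hom ((chart n R i).appTop s)) =
        ρ' n R i k ((Scheme.ΓSpecIso _).hom ((chart n R k).appTop s))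
      exact n1.symm.trans ((congrArg _ e4).trans n2)
    obtain ⟨r, hr⟩ := exists_const_of_compat n R si hcompat
    refine ⟨(Scheme.ΓSpecIso _).inv (constZero n R r), ?_⟩
    refine (chartCover n R).openCover.ext_elem _ _ (fun i => ?_)
    change (chart n R i).appTop (τ.appTop _) = (chart n R i).appTop s
    rw [hjτ' i]
    have hx : (Scheme.ΓSpecIso (.of (𝒜 0))).hom
        ((Scheme.ΓSpecIso (.of (𝒜 0))).inv (constZero n R r)) = constZero n R r := by
      rw [← ConcreteCategory.comp_apply, Iso.inv_hom_id]
      rfl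
    rw [hx, ← hr i]
    change (Scheme.ΓSpecIso _).inv ((Scheme.ΓSpecIso _).hom ((chart n R i).appTop s)) = _
    rw [← ConcreteCategory.comp_apply, Iso.hom_inv_id]
    rfl

end Aux

open AlgebraicGeometry CategoryTheory in
/-- Special case d = 0, q = 0: the map R → Γ(P^n_R, O) induced by the structure morphism P^n_R → Spec R
is an isomorphism (global functions on projective space are the degree-zero part R of the polynomial
ring). -/
theorem result (n : ℕ) (R : Type u) [CommRing R] :
    IsIso (CohB1.ProjSpace.toSpec n R).appTop := by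
  have h1 : IsIso (Proj.toSpecZero (CohB1.polyGrading n R)).appTop :=
    (ConcreteCategory.isIso_iff_bijective _).2 (bijective_toSpecZero_appTop n R)
  have h2 : IsIso (CommRingCat.ofHom (algebraMap R (CohB1.polyGrading n R 0))) :=
    (ConcreteCategory.isIso_iff_bijective _).2
      Groth.Agent.Lib.Helper1.ProjSpaceAlg.algebraMap_zero_bijective
  have h3 : (CohB1.ProjSpace.toSpec n R).appTop =
      (Spec.map (CommRingCat.ofHom (algebraMap R (CohB1.polyGrading n R 0)))).appTop ≫
        (Proj.toSpecZero (CohB1.polyGrading n R)).appTop := rfl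
  have h4 : (Spec.map (CommRingCat.ofHom (algebraMap R (CohB1.polyGrading n R 0)))).appTop =
      (Scheme.ΓSpecIso _).hom ≫ CommRingCat.ofHom (algebraMap R (CohB1.polyGrading n R 0)) ≫
        (Scheme.ΓSpecIso _).inv := by
    rw [← Scheme.ΓSpecIso_naturality_assoc, Iso.hom_inv_id, Category.comp_id]
  have h5 : IsIso ((Scheme.ΓSpecIso (CommRingCat.of R)).hom ≫
      CommRingCat.ofHom (algebraMap R (CohB1.polyGrading n R 0)) ≫
        (Scheme.ΓSpecIso (CommRingCat.of (CohB1.polyGrading n R 0))).inv) := by
    haveI := h2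
    infer_instance
  rw [h3, h4]
  exact IsIso.comp_isIso' h5 h1

end Groth.Agent.S0024
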