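import Groth.Statements.S0029
import Groth.Agent.Lib.Cohomology.Helper1_SerreCrit
import Groth.Agent.Lib.Cohomology.Helper1_SerreVanishing
import Groth.Agent.Lib.Cohomology.helper5_Leray
import Groth.Agent.Lib.Cohomology.helper5_RightDerivedShift
import Groth.Agent.Lib.Cohomology.helper5_Restr
import Groth.Agent.Lib.Cohomology.Helper3_Flasque
import Groth.Agent.Lib.QCoh.Helper43_PushQcqs
import Groth.Agent.Lib.QCoh.Local
-- import your own Groth.Agent.* helpers here

set_option autoImplicit false
universe u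
open Coherent

namespace Groth.Agent.S0029

section Aux
open AlgebraicGeometry CategoryTheory CategoryTheory.Limits Opposite TopologicalSpace
open Groth.Agent.Lib.Cohomology Groth.Agent.Lib.QCoh

/-- L1: if `R¹f_* A = 0` for a quasi-coherent `A` (f qcqs), then `H¹(f⁻¹V, A) = 0` for affine `V`. -/
theorem L1 {X Y : Scheme.{u}} (f : X ⟶ Y) [QuasiCompact f] [QuasiSeparated f]
    (A : X.Modules) [A.IsQuasicoherent]
    (hA : IsZero ((Coh.RpushAb f 1).obj (Coh.toAb A))) (V : Y.Opens) (hV : IsAffineOpen V) :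
    Subsingleton (CohTop.HU (Coh.toAb A) 1 (f ⁻¹ᵁ V)) := by
  have hS := Leray.injSES_shortExact (Coh.toAb A)
  have hS' : ((Leray.injSES (Coh.toAb A)).map (CohTop.push f.base)).ShortExact :=
    RDShift.map_shortExact_of_isZero hS (CohTop.push f.base) hA
  have : ((Scheme.Modules.pushforward f).obj A).IsQuasicoherent :=
    isQuasicoherent_pushforward_of_qcqs f A
  have hv : Subsingleton (CohTop.HU (Coh.toAb ((Scheme.Modules.pushforward f).obj A)) 1 V) :=
    HU_succ_subsingleton_of_isAffineOpen _ V hV 0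
  have hsurj := Leray.sections_surjective_of_H1 hS' V hv
  have hsurj' : Function.Surjective ((Leray.injSES (Coh.toAb A)).g.hom.app (op (f ⁻¹ᵁ V))) := hsurj
  refine subsingleton_of_forall_eq 0 fun y => ?_
  obtain ⟨t, rfl⟩ := Leray.sectδ_surjective hS (f ⁻¹ᵁ V) y
  have : t ∈ (Leray.sectδ hS (f ⁻¹ᵁ V)).ker := by
    rw [Leray.sectδ_ker]
    obtain ⟨s, hs⟩ := hsurj' t
    exact ⟨s, hs⟩
  exact this

/-- the composite `R(O_X) → R(j_* O_U) → O_U` is the canonical iso. -/
lemma restrict_unitToPush {X : Scheme.{u}} (U : X.Opens) :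
    (Scheme.Modules.restrictFunctor U.ι).map (ClSub.unitToPush U.ι) ≫
      (Scheme.Modules.restrictFunctorAdjCounitIso U.ι).hom.app (Coh.structureModule (↑U : Scheme)) =
      (Scheme.Modules.restrictUnitIso U.ι).hom := by
  apply Scheme.Modules.hom_ext
  intro W
  ext s
  have h := congr($(Scheme.Hom.appIso_hom U.ι W) s)
  exact h.symm

/-- L3: extension of a quasi-coherent ideal from a quasi-compact open. -/
theorem L3 {X : Scheme.{u}} (U : X.Opens) [QuasiCompact U.ι]
    (J' : (↑U : Scheme.{u}).Modules) (i' : J' ⟶ Coh.structureModule (↑U : Scheme.{u})) [Mono i']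
    [J'.IsQuasicoherent] :
    ∃ (J : X.Modules) (i : J ⟶ Coh.structureModule X), Mono i ∧ J.IsQuasicoherent ∧
      Nonempty (J.restrict U.ι ≅ J') := by
  let j := U.ι
  let R := Scheme.Modules.restrictFunctor j
  let P := Scheme.Modules.pushforward j
  have : (cokernel i').IsQuasicoherent := isQuasicoherent_cokernel i'
  have : (P.obj (cokernel i')).IsQuasicoherent := isQuasicoherent_pushforward_of_qcqs j _
  let φ : Coh.structureModule X ⟶ P.obj (cokernel i') := ClSub.unitToPush j ≫ P.map (cokernel.π i')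
  refine ⟨kernel φ, kernel.ι φ, inferInstance, isQuasicoherent_kernel φ, ⟨?_⟩⟩
  let ε := Scheme.Modules.restrictFunctorAdjCounitIso j
  have w : R.map φ ≫ (ε.app (cokernel i')).hom =
      (Scheme.Modules.restrictUnitIso j).hom ≫ cokernel.π i' := by
    have hnat := ε.hom.naturality (cokernel.π i')
    simp only [Functor.comp_map, Functor.id_map] at hnat
    rw [← restrict_unitToPush U, Category.assoc, ← hnat, ← Category.assoc, ← R.map_comp]
    rfl
  exact PreservesKernel.iso R φ ≪≫
    kernel.mapIso (R.map φ) (cokernel.π i') (Scheme.Modules.restrictUnitIso j)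
      (ε.app (cokernel i')) w ≪≫
    (IsLimit.conePointUniqueUpToIso (kernelIsKernel (cokernel.π i'))
      (Abelian.monoIsKernelOfCokernel (CokernelCofork.ofπ (cokernel.π i') (cokernel.condition i'))
        (cokernelIsCokernel i')))

/-- cohomology only depends on the isomorphism class of the abelian sheaf -/
lemma subsingleton_H_of_iso {T : TopCat.{u}} {M N : CohTop.Ab T} (e : M ≅ N) (p : ℕ)
    (h : Subsingleton (CohTop.H M p)) : Subsingleton (CohTop.H N p) := by
  have e'' := ((Abelian.extFunctorObj ((constantSheaf (Opens.grothendieckTopology T)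
    AddCommGrpCat.{u}).obj (AddCommGrpCat.of (ULift ℤ))) p).mapIso e).addCommGroupIsoToAddEquiv
  have : Subsingleton ↑((Abelian.extFunctorObj ((constantSheaf (Opens.grothendieckTopology T)
    AddCommGrpCat.{u}).obj (AddCommGrpCat.of (ULift ℤ))) p).obj M) := h
  exact e''.symm.toEquiv.subsingleton

theorem aux {X Y : Scheme.{u}} (f : X ⟶ Y) [QuasiCompact f]
    [QuasiSeparatedSpace X] [QuasiSeparatedSpace Y]
    (h : ∀ (I : X.Modules) (i : I ⟶ Coh.structureModule X), Mono i → Coh.IsQCoh I →
      IsZero ((Coh.RpushAb f 1).obj (Coh.toAb I))) : IsAffineHom f := by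
  refine ⟨fun V hV => ?_⟩
  let U : X.Opens := f ⁻¹ᵁ V
  have hc : IsCompact (U : Set X) :=
    QuasiCompact.isCompact_preimage (f := f) _ V.isOpen hV.isCompact
  have : CompactSpace (↑U : Scheme.{u}) := isCompact_iff_compactSpace.1 hc
  have : QuasiCompact U.ι := inferInstance
  show IsAffine (↑U : Scheme.{u})
  apply SerreCrit.isAffine_of_vanishSub
  intro J' i' hi' hJ'
  obtain ⟨J, i, hi, hJ, ⟨e⟩⟩ := L3 U J' i'
  have h1 := L1 f J (h J i hi hJ) V hV
  obtain ⟨eq⟩ := Restr.HU_addEquiv_H_restr U (Coh.toAb J) 1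
  have h2 : Subsingleton (CohTop.H (CohTop.restr (Coh.toAb J) U) 1) := eq.symm.toEquiv.subsingleton
  have e' : Coh.toAb (J.restrict U.ι) ≅ Coh.toAb J' :=
    (SheafOfModules.toSheaf (↑U : Scheme.{u}).ringCatSheaf).mapIso e
  exact subsingleton_H_of_iso e' 1 h2

end Aux

open AlgebraicGeometry CategoryTheory in
/-- Let f : X → Y be a quasi-compact morphism between quasi-separated schemes. Suppose R^1 f_* I
vanishes for each quasi-coherent submodule I of O_X; then f is affine. -/
theorem result {X Y : Scheme.{u}} (f : X ⟶ Y) [QuasiCompact f]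
    [QuasiSeparatedSpace X] [QuasiSeparatedSpace Y]
    (h : ∀ (I : X.Modules) (i : I ⟶ Coh.structureModule X), Mono i → Coh.IsQCoh I →
      Limits.IsZero ((Coh.RpushAb f 1).obj (Coh.toAb I))) : IsAffineHom f := by
  exact aux f h

end Groth.Agent.S0029
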