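import Groth.Statements.S0031
import Groth.Agent.Lib.Cohomology.Helper1_UniformBound
import Groth.Agent.Lib.Cohomology.Helper1_SheafifyZero
import Groth.Agent.S0461
-- import your own Groth.Agent.* helpers here

set_option autoImplicit false
universe u
open Coherent

namespace Groth.Agent.S0031

section Aux
open AlgebraicGeometry CategoryTheory CategoryTheory.Limits Opposite TopologicalSpace
open Groth.Agent.Lib.Cohomology

/-- Finite affine cover of a quasi-compact open by affine opens contained in it. -/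
lemma exists_fin_affine_cover {X : Scheme.{u}} (P : X.Opens) (hP : IsCompact (P : Set X)) :
    ∃ (r : ℕ) (U : Fin (r + 1) → X.Opens), (∀ i, IsAffineOpen (U i)) ∧ (∀ i, U i ≤ P) ∧
      ⨆ i, U i = P := by
  classical
  have hx : ∀ x : P, ∃ W : X.Opens, IsAffineOpen W ∧ (x : X) ∈ W ∧ W ≤ P := by
    intro x
    obtain ⟨_, ⟨W, hW, rfl⟩, hxW, hWP⟩ :=
      X.isBasis_affineOpens.exists_subset_of_mem_open x.2 P.isOpen
    exact ⟨W, hW, hxW, hWP⟩
  choose W hW hxW hWP using hx
  obtain ⟨t, ht⟩ := hP.elim_finite_subcover (fun x : P => ((W x : X.Opens) : Set X))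
    (fun x => (W x).isOpen) (fun x hx => Set.mem_iUnion.2 ⟨⟨x, hx⟩, hxW ⟨x, hx⟩⟩)
  refine ⟨t.card, Fin.cases ⊥ (fun k => W (t.equivFin.symm k)), ?_, ?_, ?_⟩
  · intro i
    refine Fin.cases ?_ (fun k => ?_) i
    · exact isAffineOpen_bot X
    · exact hW _
  · intro i
    refine Fin.cases ?_ (fun k => ?_) i
    · exact bot_le
    · exact hWP _
  · apply le_antisymm
    · refine iSup_le fun i => ?_
      refine Fin.cases ?_ (fun k => ?_) i
      · exact bot_le
      · exact hWP _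
    · intro x hx
      obtain ⟨y, hy⟩ := Set.mem_iUnion.1 (ht hx)
      obtain ⟨hyt, hxy⟩ := Set.mem_iUnion.1 hy
      refine Opens.mem_iSup.2 ⟨(t.equivFin ⟨y, hyt⟩).succ, ?_⟩
      simpa using hxy

theorem aux {X S : Scheme.{u}} (f : X ⟶ S) [QuasiCompact f] [QuasiSeparated f] [CompactSpace S] :
    ∃ n : ℕ, ∀ (M : X.Modules), Coh.IsQCoh M → ∀ p : ℕ, n ≤ p →
      IsZero ((Coh.RpushAb f p).obj (Coh.toAb M)) := by
  classical
  -- a finite affine cover of `S`
  have hx : ∀ y : S, ∃ V : S.Opens, IsAffineOpen V ∧ y ∈ V := by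
    intro y
    obtain ⟨_, ⟨V, hV, rfl⟩, hyV, -⟩ :=
      S.isBasis_affineOpens.exists_subset_of_mem_open (Set.mem_univ y) isOpen_univ
    exact ⟨V, hV, hyV⟩
  choose V hV hyV using hx
  obtain ⟨t, ht⟩ := CompactSpace.elim_nhds_subcover (fun y : S => ((V y : S.Opens) : Set S))
    (fun y => (V y).isOpen.mem_nhds (hyV y))
  -- finite affine covers of the preimages
  have hcov : ∀ y : S, ∃ (r : ℕ) (U : Fin (r + 1) → X.Opens), (∀ i, IsAffineOpen (U i)) ∧
      (∀ i, U i ≤ f ⁻¹ᵁ V y) ∧ ⨆ i, U i = f ⁻¹ᵁ V y := fun y =>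
    exists_fin_affine_cover (f ⁻¹ᵁ V y)
      (QuasiCompact.isCompact_preimage (f := f) _ (V y).isOpen (hV y).isCompact)
  choose r U hU hUle hUsup using hcov
  have hqs : ∀ y : S, IsQuasiSeparated ((f ⁻¹ᵁ V y : X.Opens) : Set X) := fun y =>
    f.isQuasiSeparated_preimage (hV y).isQuasiSeparated
  have hbound : ∀ y : S, ∃ d : ℕ, ∀ (B : X.Opens),
      (∀ i, ∃ φ : Γ(X, U y i), U y i ⊓ B = X.basicOpen φ) →
      ∀ (M : X.Modules), M.IsQuasicoherent → ∀ p, d ≤ p →
      Subsingleton (CohTop.HU (Coh.toAb M) p ((⨆ i, U y i) ⊓ B)) := fun y =>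
    exists_bound_iSup_affine_inf (r y) (U y) (hU y) (fun i j => by
      rw [Opens.coe_inf]
      exact hqs y _ _ (hUle y i) (U y i).isOpen (hU y i).isCompact (hUle y j) (U y j).isOpen
        (hU y j).isCompact)
  choose d hd using hbound
  refine ⟨t.sup d, fun M hM p hp => ?_⟩
  obtain ⟨e⟩ := Groth.Agent.S0461.result f.base (Coh.toAb M) p
  refine IsZero.of_iso ?_ e
  apply isZero_presheafToSheaf_of_basis _
    {O : S.Opens | ∃ y ∈ t, ∃ g : Γ(S, V y), O = S.basicOpen g}
  · rw [Opens.isBasis_iff_nbhd]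
    intro O x hxO
    have hxu : x ∈ ⋃ y ∈ t, ((V y : S.Opens) : Set S) := ht ▸ Set.mem_univ x
    obtain ⟨y, hy⟩ := Set.mem_iUnion.1 hxu
    obtain ⟨hyt, hxy⟩ := Set.mem_iUnion.1 hy
    obtain ⟨g, hg1, hg2⟩ := (hV y).exists_basicOpen_le (V := O) ⟨x, hxO⟩ hxy
    exact ⟨S.basicOpen g, ⟨y, hyt, g, rfl⟩, hg2, hg1⟩
  · rintro O ⟨y, hyt, g, rfl⟩
    have hle : f ⁻¹ᵁ S.basicOpen g ≤ ⨆ i, U y i := by
      rw [hUsup y]
      exact (Opens.map f.base).monotone (S.basicOpen_le g)
    have hdp : d y ≤ p := le_trans (Finset.le_sup hyt) hp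
    have key := hd y (f ⁻¹ᵁ S.basicOpen g) (fun i => by
      refine ⟨X.presheaf.map (homOfLE (hUle y i)).op (f.app (V y) g), ?_⟩
      rw [Scheme.basicOpen_res, Scheme.preimage_basicOpen]) M hM p hdp
    rw [inf_eq_right.2 hle] at key
    exact key

end Aux

open AlgebraicGeometry CategoryTheory in
/-- If f : X → S is quasi-compact and quasi-separated and S is quasi-compact, there is an integer n with
R^p f_* F = 0 for all p ≥ n and all quasi-coherent F (higher direct images of the underlying abelian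
sheaves). -/
theorem result {X S : Scheme.{u}} (f : X ⟶ S) [QuasiCompact f]
    [QuasiSeparated f] [CompactSpace S] :
    ∃ n : ℕ, ∀ (M : X.Modules), Coh.IsQCoh M → ∀ p : ℕ, n ≤ p →
      Limits.IsZero ((Coh.RpushAb f p).obj (Coh.toAb M)) := by
  exact aux f

end Groth.Agent.S0031
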