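import Groth.Statements.S0037
import Groth.Agent.Lib.Cohomology.Helper1_SerreVanishing
import Groth.Agent.Lib.Cohomology.Helper1_SheafifyLocal
import Groth.Agent.S0461
-- import your own Groth.Agent.* helpers here

set_option autoImplicit false
universe u
open Coherent

namespace Groth.Agent.S0037

section Aux
open AlgebraicGeometry CategoryTheory CategoryTheory.Limits Opposite TopologicalSpace
open Groth.Agent.Lib.Cohomology

/-- If the restriction of `f` over `V` is an affine morphism, preimages of affine opens inside `V` are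
affine. -/
lemma isAffineOpen_preimage_of_isAffineHom_morphismRestrict {X Y : Scheme.{u}} (f : X ⟶ Y)
    (V : Y.Opens) [IsAffineHom (f ∣_ V)] (W : Y.Opens) (hW : IsAffineOpen W) (hWV : W ≤ V) :
    IsAffineOpen (f ⁻¹ᵁ W) := by
  have h1 : IsAffineOpen (V.ι ⁻¹ᵁ W) := by
    rw [← V.ι.isAffineOpen_iff_of_isOpenImmersion, Scheme.Hom.image_preimage_eq_opensRange_inf,
      Scheme.Opens.opensRange_ι, inf_eq_right.2 hWV]
    exact hW
  have h2 : IsAffineOpen ((f ∣_ V) ⁻¹ᵁ (V.ι ⁻¹ᵁ W)) := IsAffineHom.isAffine_preimage _ h1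
  rw [← (f ⁻¹ᵁ V).ι.isAffineOpen_iff_of_isOpenImmersion, image_morphismRestrict_preimage,
    Scheme.Hom.image_preimage_eq_opensRange_inf, Scheme.Opens.opensRange_ι, inf_eq_right.2 hWV]
    at h2
  exact h2

theorem aux {X Y : Scheme.{u}} (f : X ⟶ Y) [IsProper f] (y : Y) (hy : (f.base ⁻¹' {y}).Finite)
    (M : X.Modules) [M.IsQuasicoherent] (p : ℕ) (hp : 0 < p) :
    IsZero (TopCat.Presheaf.stalk ((Coh.RpushAb f p).obj (Coh.toAb M)).obj y) := by
  obtain ⟨q, rfl⟩ : ∃ q, p = q + 1 := ⟨p - 1, by omega⟩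
  obtain ⟨V, hyV, hfin⟩ := exists_isFinite_morphismRestrict_of_finite_preimage_singleton f y hy
  obtain ⟨e⟩ := Groth.Agent.S0461.result f.base (Coh.toAb M) (q + 1)
  have e' : TopCat.Presheaf.stalk ((Coh.RpushAb f (q + 1)).obj (Coh.toAb M)).obj y ≅ _ :=
    (TopCat.Presheaf.stalkFunctor AddCommGrpCat.{u} y).mapIso
      ((sheafToPresheaf _ _).mapIso e)
  refine IsZero.of_iso ?_ e'
  apply isZero_stalk_of_basis _ Y.affineOpens Y.isBasis_affineOpens y V hyV
  intro W hW hWV
  apply subsingleton_sheafify_of_basis _ Y.affineOpens Y.isBasis_affineOpens W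
  intro W' hW' hW'W
  exact HU_succ_subsingleton_of_isAffineOpen M (f ⁻¹ᵁ W')
    (isAffineOpen_preimage_of_isAffineHom_morphismRestrict f V W' hW' (hW'W.trans hWV)) q

end Aux

open AlgebraicGeometry CategoryTheory in
/-- Let Y be locally Noetherian, f : X → Y proper and y a point whose fibre f⁻¹{y} is finite. Then for
every coherent F on X and every p > 0 the stalk of R^p f_* F at y vanishes. -/
theorem result {X Y : Scheme.{u}} (f : X ⟶ Y) [IsProper f]
    [IsLocallyNoetherian Y] (y : Y) (hy : (f.base ⁻¹' {y}).Finite) (M : X.Modules) (hM : Coh.IsCoh M)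
    (p : ℕ) (hp : 0 < p) :
    Limits.IsZero (TopCat.Presheaf.stalk ((Coh.RpushAb f p).obj (Coh.toAb M)).obj y) := by
  haveI : M.IsQuasicoherent := hM.1
  exact aux f y hy M p hp

end Groth.Agent.S0037
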