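import Groth.Statements.S0043
import Groth.Agent.S0009
import Groth.Agent.S0010
import Groth.Agent.Lib.Cohomology.helper5_HSigma
import Groth.Agent.Lib.Cohomology.helper5_HHLES
import Groth.Agent.Lib.QCoh.Helper18_GlobGen
import Groth.Agent.Lib.QCoh.Helper24_Colimits
import Groth.Agent.Lib.QCoh.Local

set_option autoImplicit false
universe u
open Coherent

namespace Groth.Agent.S0043

open AlgebraicGeometry CategoryTheory CategoryTheory.Limits Groth.Agent.Lib.Cohomology in
/-- On a quasi-compact quasi-separated scheme, if `H^p(X, O_X) = 0` then `H^p(X, O_X^{(I)}) = 0`. -/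
theorem subsingleton_HH_free (X : Scheme.{u}) [CompactSpace X] [QuasiSeparatedSpace X] (p : ℕ)
    (h : Subsingleton (Coh.HH X (Coh.structureModule X) p)) (I : Type u) :
    Subsingleton (Coh.HH X (SheafOfModules.free I : X.Modules) p) := by
  have : PrespectralSpace ↑X.toTopCat := inferInstanceAs (PrespectralSpace X)
  have : CompactSpace ↑X.toTopCat := inferInstanceAs (CompactSpace X)
  have : QuasiSeparatedSpace ↑X.toTopCat := inferInstanceAs (QuasiSeparatedSpace X)
  have hP := Groth.Agent.S6160.toSheaf_preservesColimitsOfSize (HHLES.RR X)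
  let G := HHLES.toAbF X
  have : PreservesColimit (Discrete.functor (fun _ : I => (Coh.structureModule X))) G :=
    (hP.preservesColimitsOfShape (J := Discrete I)).preservesColimit
  let e : G.obj (∐ fun _ : I => Coh.structureModule X) ≅
      ∐ fun _ : I => G.obj (Coh.structureModule X) :=
    PreservesCoproduct.iso G (fun _ : I => Coh.structureModule X)
  have hs := HSigma.subsingleton_H_sigma X.toTopCat p
    (fun _ : I => G.obj (Coh.structureModule X)) (fun _ => h)
  have hinj : Function.Injective (Sheaf.H.map e.hom p) := by
    intro a b hab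
    have := congrArg (Sheaf.H.map e.inv p) hab
    rw [← Sheaf.H.map_comp_apply, ← Sheaf.H.map_comp_apply, e.hom_inv_id] at this
    simpa using this
  exact @Function.Injective.subsingleton _ _ _ hinj hs


open AlgebraicGeometry CategoryTheory CategoryTheory.Limits Groth.Agent.Lib.Cohomology in
theorem main (X : Scheme.{u}) [X.IsQuasiAffine]
    (h : ∀ p : ℕ, 0 < p → Subsingleton (Coh.HH X (Coh.structureModule X) p)) : IsAffine X := by
  classical
  have hqs : QuasiSeparatedSpace X := inferInstance
  -- a finite affine cover
  obtain ⟨s, hsfin, hs⟩ := (isCompact_iff_finite_and_eq_biUnion_affineOpens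
    (U := (⊤ : X.Opens))).1 isCompact_univ
  have := hsfin.to_subtype
  let e := Finite.equivFin s
  let t := Nat.card s
  let U : Fin t → X.Opens := fun i => ((e.symm i : s) : X.affineOpens)
  have hU : ∀ i, IsAffineOpen (U i) := fun i => ((e.symm i : s) : X.affineOpens).2
  have hcov : ⨆ i, U i = ⊤ := by
    rw [hs]
    apply le_antisymm
    · refine iSup_le fun i => ?_
      exact le_iSup₂_of_le ((e.symm i : s) : X.affineOpens) (e.symm i).2 le_rfl
    · refine iSup₂_le fun V hV => ?_
      have : U (e ⟨V, hV⟩) = V := by
        show ((e.symm (e ⟨V, hV⟩) : s) : X.affineOpens).1 = V.1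
        rw [Equiv.symm_apply_apply]
      rw [← this]
      exact le_iSup U _
  have hd : ∀ V W : X.Opens, IsAffineOpen V → IsAffineOpen W → IsAffineOpen (V ⊓ W) :=
    fun V W hV hW => IsAffineOpen.inf hV hW
  -- descending induction
  have key : ∀ (k p : ℕ), 0 < p → t ≤ p + k → ∀ (M : X.Modules), Coh.IsQCoh M →
      Subsingleton (Coh.HH X M p) := by
    intro k
    induction k with
    | zero =>
      intro p _ hp M hM
      have : Coh.IsQCoh M := hM
      exact Groth.Agent.S0010.result X t U hU hcov hd M p (by omega)
    | succ k ih =>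
      intro p hp0 hp M hM
      have : M.IsQuasicoherent := hM
      obtain ⟨I, φ, hφ⟩ := Groth.Agent.Lib.QCoh.isGloballyGenerated_of_isQuasiAffine M
      have hfreeq : (SheafOfModules.free I : X.Modules).IsQuasicoherent :=
        Groth.Agent.Lib.QCoh.isQuasicoherent_sigma _ (fun _ =>
          (inferInstanceAs (Coh.structureModule X).IsQuasicoherent))
      have hK : (kernel φ).IsQuasicoherent := Groth.Agent.Lib.QCoh.isQuasicoherent_kernel φ
      let S : ShortComplex X.Modules := ShortComplex.mk (kernel.ι φ) φ (kernel.condition φ)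
      have hS : S.ShortExact :=
        { exact := ShortComplex.exact_of_f_is_kernel _ (kernelIsKernel φ)
          mono_f := inferInstanceAs (Mono (kernel.ι φ))
          epi_g := hφ }
      have h1 : Subsingleton (Coh.HH X (kernel φ) (p + 1)) := ih (p + 1) (by omega) (by omega) _ hK
      have h2 : Subsingleton (Coh.HH X (SheafOfModules.free I : X.Modules) p) :=
        subsingleton_HH_free X p (h p hp0) I
      refine ⟨fun a b => ?_⟩
      have aux : ∀ x : Coh.HH X M p, x = 0 := by
        intro x
        have h1' : Subsingleton (Coh.HH X S.X₁ (p + 1)) := h1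
        have h2' : Subsingleton (Coh.HH X S.X₂ p) := h2
        obtain ⟨y, hy⟩ := Groth.Agent.Lib.Cohomology.HHLES.exact₃ hS p x
          (@Subsingleton.elim _ h1' _ _)
        rw [← hy, @Subsingleton.elim _ h2' y 0, map_zero]
      rw [aux a, aux b]
  exact Groth.Agent.S0009.result X (fun I i _ hI => key t 1 one_pos (by omega) I hI)

open AlgebraicGeometry in
/-- If X is quasi-affine and H^p(X, O_X) = 0 for all p > 0, then X is affine. -/
theorem result (X : Scheme.{u}) [X.IsQuasiAffine]
    (h : ∀ p : ℕ, 0 < p → Subsingleton (Coh.HH X (Coh.structureModule X) p)) : IsAffine X := by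
  exact main X h

end Groth.Agent.S0043
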