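import Groth.Statements.S0045
import Groth.Agent.Lib.Cohomology.Helper1_KernelSections
import Groth.Agent.Lib.Cohomology.Helper1_SerreVanishing
import Groth.Agent.Lib.Cohomology.helper5_Leray
import Groth.Agent.Lib.QCoh.Extension
import Groth.Agent.Lib.QCoh.Coherent
import Groth.Agent.Lib.QCoh.Helper18_Stalk
-- import your own Groth.Agent.* helpers here

set_option autoImplicit false
universe u
open Coherent

namespace Groth.Agent.S0045

section Aux
open AlgebraicGeometry CategoryTheory CategoryTheory.Limits Opposite TopologicalSpace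
open Groth.Agent.Lib.QCoh Groth.Agent.Lib.Cohomology

variable {X : Scheme.{u}}

/-- A quasi-coherent module with no nonzero sections over an affine open has trivial stalks there. -/
lemma stalk_subsingleton_of_sections_subsingleton (N : X.Modules) [N.IsQuasicoherent] {U : X.Opens}
    (hU : IsAffineOpen U) (h : Subsingleton Γ(N, U)) (x : X) (hx : x ∈ U) :
    Subsingleton (N.presheaf.stalk x) := by
  have hfin : Module.Finite Γ(X, U) Γ(N, U) := Module.Finite.of_finite
  obtain ⟨G, hG⟩ := exists_generatingSections_restrict_of_finite hU N hfin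
  have hsub : Subsingleton Γ(N, U.ι ''ᵁ ⊤) := by
    rw [Scheme.Opens.ι_image_top]
    exact h
  have hz : IsZero ((N.restrict U.ι).restrict (⊤ : (U : Scheme.{u}).Opens).ι) :=
    isZero_restrict_of_generatingSections_vanish (N.restrict U.ι) G ⊤
      (fun i => hsub.elim _ _)
  have h1 : Subsingleton ((N.restrict U.ι).presheaf.stalk (⟨x, hx⟩ : U)) :=
    stalk_subsingleton_of_isZero_restrict ⊤ hz (⟨x, hx⟩ : U) trivial
  exact ((restrictStalkIso N U ⟨x, hx⟩).symm.addCommGroupIsoToAddEquiv).subsingleton

/-- A module all of whose stalks vanish is zero. -/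
lemma isZero_of_forall_stalk_subsingleton (N : X.Modules)
    (h : ∀ x : X, Subsingleton (N.presheaf.stalk x)) : IsZero N := by
  rw [IsZero.iff_id_eq_zero]
  ext U s
  haveI : Subsingleton Γ(N, U) :=
    subsingleton_sections_of_disjoint_support N U (fun x _ => not_not.2 (h x))
  exact Subsingleton.elim _ _

/-- Sections over an affine open of an epimorphism with quasi-coherent kernel are surjective. -/
lemma surjective_app_of_shortExact_of_isAffineOpen (S : ShortComplex X.Modules) (hS : S.ShortExact)
    [S.X₁.IsQuasicoherent] {U : X.Opens} (hU : IsAffineOpen U) :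
    Function.Surjective (S.g.app U) := by
  have hS' : (S.map (toAbFunctor X)).ShortExact := hS.map_of_exact _
  exact Groth.Agent.Lib.Cohomology.Leray.sections_surjective_of_H1 hS' U (HU_succ_subsingleton_of_isAffineOpen S.X₁ U hU 0)

/-- The sections over `U` of a morphism of modules, as a linear map. -/
noncomputable def appLin {M N : X.Modules} (φ : M ⟶ N) (U : X.Opens) :
    Γ(M, U) →ₗ[Γ(X, U)] Γ(N, U) where
  toFun := fun x => φ.app U x
  map_add' := fun x y => map_add _ x y
  map_smul' := fun r x => Scheme.Modules.Hom.app_smul φ r x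

theorem aux (X : Scheme.{u}) [IsNoetherian X] (M : X.Modules)
    (hM : Coh.IsCoh M) (F : ℕ →o Subobject M)
    (hF : ∀ n, Coh.IsQCoh ((F n : Subobject M) : X.Modules)) :
    ∃ n : ℕ, ∀ m : ℕ, n ≤ m → F m = F n := by
  classical
  obtain ⟨hMq, hMf⟩ := hM
  haveI : M.IsQuasicoherent := hMq
  haveI : M.IsFiniteType := hMf
  haveI : ∀ n, ((F n : Subobject M) : X.Modules).IsQuasicoherent := hF
  -- a finite affine cover
  have hx : ∀ x : X, ∃ V : X.Opens, IsAffineOpen V ∧ x ∈ V := by
    intro x
    obtain ⟨_, ⟨V, hV, rfl⟩, hxV, -⟩ :=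
      X.isBasis_affineOpens.exists_subset_of_mem_open (Set.mem_univ x) isOpen_univ
    exact ⟨V, hV, hxV⟩
  choose V hV hxV using hx
  obtain ⟨t, ht⟩ := CompactSpace.elim_nhds_subcover (fun x : X => ((V x : X.Opens) : Set X))
    (fun x => (V x).isOpen.mem_nhds (hxV x))
  -- ranges of sections
  let rng : ∀ (U : X.Opens), ℕ → Submodule Γ(X, U) Γ(M, U) := fun U n =>
    LinearMap.range (appLin (F n).arrow U)
  have hrng_mono : ∀ U, Monotone (rng U) := by
    intro U n m hnm
    rintro _ ⟨a, rfl⟩
    refine ⟨(Subobject.ofLE (F n) (F m) (F.monotone hnm)).app U a, ?_⟩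
    change ((Subobject.ofLE (F n) (F m) (F.monotone hnm)) ≫ (F m).arrow).app U a = _
    rw [Subobject.ofLE_arrow]
    rfl
  have hstab : ∀ y : X, ∃ n, ∀ m, n ≤ m → rng (V y) n = rng (V y) m := by
    intro y
    haveI : IsNoetherianRing Γ(X, V y) := IsLocallyNoetherian.component_noetherian ⟨V y, hV y⟩
    haveI : Module.Finite Γ(X, V y) Γ(M, V y) := finite_Γ_of_isAffineOpen (hV y) M
    haveI : IsNoetherian Γ(X, V y) Γ(M, V y) := isNoetherian_of_isNoetherianRing_of_finite _ _
    exact monotone_stabilizes_iff_noetherian.mpr inferInstance ⟨rng (V y), hrng_mono (V y)⟩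
  choose N hN using hstab
  refine ⟨t.sup N, fun m hm => ?_⟩
  have hnm : F (t.sup N) ≤ F m := F.monotone hm
  refine le_antisymm ?_ hnm
  set n := t.sup N with hn
  let ι := Subobject.ofLE (F n) (F m) hnm
  let S : ShortComplex X.Modules := ShortComplex.mk ι (cokernel.π ι) (cokernel.condition _)
  have hS : S.ShortExact :=
    { exact := ShortComplex.exact_cokernel _
      mono_f := inferInstanceAs (Mono ι)
      epi_g := inferInstanceAs (Epi (cokernel.π ι)) }
  haveI hCq : (cokernel ι).IsQuasicoherent := isQuasicoherent_cokernel ι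
  haveI : S.X₁.IsQuasicoherent := hF n
  have hsec : ∀ y ∈ t, Subsingleton Γ(cokernel ι, V y) := by
    intro y hy
    suffices h0 : ∀ c : Γ(cokernel ι, V y), c = 0 by
      constructor
      intro a b
      rw [h0 a, h0 b]
    intro c
    obtain ⟨b, rfl⟩ := surjective_app_of_shortExact_of_isAffineOpen S hS (hV y) c
    have hb : appLin (F m).arrow (V y) b ∈ rng (V y) m := ⟨b, rfl⟩
    have hNn : N y ≤ n := Finset.le_sup hy
    rw [← hN y m (hNn.trans hm), hN y n hNn] at hb
    obtain ⟨a, ha⟩ := hb
    have hab : ι.app (V y) a = b := by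
      apply app_injective_of_mono (F m).arrow (V y)
      change (ι ≫ (F m).arrow).app (V y) a = _
      rw [Subobject.ofLE_arrow]
      exact ha
    rw [← hab]
    change (ι ≫ cokernel.π ι).app (V y) a = 0
    rw [cokernel.condition]
    rfl
  have hzero : IsZero (cokernel ι) := by
    apply isZero_of_forall_stalk_subsingleton
    intro x
    have hxu : x ∈ ⋃ y ∈ t, ((V y : X.Opens) : Set X) := ht ▸ Set.mem_univ x
    obtain ⟨y, hy⟩ := Set.mem_iUnion.1 hxu
    obtain ⟨hyt, hxy⟩ := Set.mem_iUnion.1 hy
    exact stalk_subsingleton_of_sections_subsingleton (cokernel ι) (hV y) (hsec y hyt) x hxy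
  haveI : Epi ι := Preadditive.epi_of_isZero_cokernel ι hzero
  haveI : IsIso ι := isIso_of_mono_of_epi ι
  exact Subobject.le_of_comm (inv ι) (by rw [IsIso.inv_comp_eq, Subobject.ofLE_arrow])

end Aux

open AlgebraicGeometry CategoryTheory in
/-- On a Noetherian scheme, any increasing sequence of quasi-coherent submodules of a coherent module is
eventually constant. -/
theorem result (X : Scheme.{u}) [IsNoetherian X] (M : X.Modules)
    (hM : Coh.IsCoh M) (F : ℕ →o Subobject M) (hF : ∀ n, Coh.IsQCoh ((F n : Subobject M) : X.Modules)) :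
    ∃ n : ℕ, ∀ m : ℕ, n ≤ m → F m = F n := by
  exact aux X M hM F hF

end Groth.Agent.S0045
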