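import Groth.Statements.S0049
import Groth.Agent.Lib.Cohomology.Helper1_KernelSections
import Groth.Agent.Lib.QCoh.Helper43_PushQcqs
import Groth.Agent.Lib.QCoh.Helper50_Products
import Groth.Agent.Lib.QCoh.Coherent
import Groth.Agent.Lib.QCoh.Helper18_Stalk
-- import your own Groth.Agent.* helpers here

set_option autoImplicit false
universe u
open Coherent

namespace Groth.Agent.S0049

section Aux
open AlgebraicGeometry CategoryTheory CategoryTheory.Limits Opposite TopologicalSpace
open Groth.Agent.Lib.QCoh Groth.Agent.Lib.Cohomology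

theorem aux (X : Scheme.{u}) [IsNoetherian X] (M : X.Modules) (hM : Coh.IsCoh M)
    (Z Z' : Set X) (hZ : IsClosed Z) (hZ' : IsClosed Z') (h : CohB1.support M = Z ∪ Z') :
    ∃ S : ShortComplex X.Modules, S.ShortExact ∧ Nonempty (S.X₂ ≅ M) ∧ Coh.IsCoh S.X₁ ∧
      Coh.IsCoh S.X₃ ∧ CohB1.support S.X₁ ⊆ Z' ∧ CohB1.support S.X₃ ⊆ Z := by
  obtain ⟨hMq, hMf⟩ := hM
  haveI : M.IsQuasicoherent := hMq
  haveI : M.IsFiniteType := hMf
  let V : X.Opens := ⟨Z'ᶜ, hZ'.isOpen_compl⟩
  let N : X.Modules := (Scheme.Modules.pushforward V.ι).obj (M.restrict V.ι)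
  let η : M ⟶ N := (Scheme.Modules.restrictAdjunction V.ι).unit.app M
  haveI : (M.restrict V.ι).IsQuasicoherent := isQuasicoherent_restrict _ M
  haveI : N.IsQuasicoherent := isQuasicoherent_pushforward_of_qcqs V.ι _
  -- the unit is injective on sections over opens inside `V`
  have hηinj : ∀ O : X.Opens, O ≤ V → Function.Injective (η.app O) := by
    intro O hO
    refine presheaf_map_injective_of_eq M (V.ι.image_preimage_le O) ?_
    rw [Scheme.Hom.image_preimage_eq_opensRange_inf, Scheme.Opens.opensRange_ι]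
    exact le_inf hO le_rfl
  -- the unit vanishes on sections over opens disjoint from `Z`
  have hηzero : ∀ O : X.Opens, (O : Set X) ⊆ Zᶜ → ∀ m : Γ(M, O), η.app O m = 0 := by
    intro O hO m
    have hsub : Subsingleton Γ(M, V.ι ''ᵁ (V.ι ⁻¹ᵁ O)) := by
      apply subsingleton_sections_of_disjoint_support
      intro x hx hxs
      rw [Scheme.Hom.image_preimage_eq_opensRange_inf, Scheme.Opens.opensRange_ι] at hx
      rw [h] at hxs
      rcases hxs with hxZ | hxZ'
      · exact hO hx.2 hxZ
      · exact hx.1 hxZ'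
    exact hsub.elim (η.app O m) 0
  let S : ShortComplex X.Modules :=
    ShortComplex.mk (kernel.ι η) (cokernel.π (kernel.ι η)) (cokernel.condition _)
  have hS : S.ShortExact :=
    { exact := ShortComplex.exact_cokernel _
      mono_f := inferInstanceAs (Mono (kernel.ι η))
      epi_g := inferInstanceAs (Epi (cokernel.π (kernel.ι η))) }
  haveI hKq : (kernel η).IsQuasicoherent := isQuasicoherent_kernel η
  haveI hKf : (kernel η).IsFiniteType := isFiniteType_of_mono (kernel.ι η)
  haveI hCq : (cokernel (kernel.ι η)).IsQuasicoherent := isQuasicoherent_cokernel (kernel.ι η)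
  haveI hCf : (cokernel (kernel.ι η)).IsFiniteType := isFiniteType_of_epi (cokernel.π (kernel.ι η))
  refine ⟨S, hS, ⟨Iso.refl _⟩, ⟨hKq, hKf⟩, ⟨hCq, hCf⟩, ?_, ?_⟩
  · -- support of the kernel
    intro x hx
    by_contra hxZ'
    apply hx
    have hxV : x ∈ V := hxZ'
    apply stalk_subsingleton_of_forall_germ_eq_zero
    intro O hxO s
    have hle : O ⊓ V ≤ O := inf_le_left
    rw [← TopCat.Presheaf.germ_res_apply (kernel η).presheaf (homOfLE hle) x ⟨hxO, hxV⟩ s]
    have hs0 : (kernel η).presheaf.map (homOfLE hle).op s = 0 := by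
      apply app_injective_of_mono (kernel.ι η) (O ⊓ V)
      apply hηinj (O ⊓ V) inf_le_right
      rw [map_zero, map_zero]
      change ((kernel.ι η) ≫ η).app (O ⊓ V) _ = 0
      rw [kernel.condition]
      rfl
    rw [hs0, map_zero]
  · -- support of the cokernel
    intro x hx
    by_contra hxZ
    apply hx
    let W : X.Opens := ⟨Zᶜ, hZ.isOpen_compl⟩
    have hxW : x ∈ W := hxZ
    refine ⟨fun a b => ?_⟩
    have hzero : ∀ c : (cokernel (kernel.ι η)).presheaf.stalk x, c = 0 := by
      intro c
      obtain ⟨c', rfl⟩ := stalkMap_surjective_of_epi (cokernel.π (kernel.ι η)) x c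
      obtain ⟨O, hxO, m, rfl⟩ := TopCat.Presheaf.exists_germ_eq M.presheaf c'
      have hle : O ⊓ W ≤ O := inf_le_left
      rw [← TopCat.Presheaf.germ_res_apply M.presheaf (homOfLE hle) x ⟨hxO, hxW⟩ m, stalkMap_germ]
      obtain ⟨s, hs⟩ := exists_kernel_section η (O ⊓ W) (M.presheaf.map (homOfLE hle).op m)
        (hηzero (O ⊓ W) (fun y hy => hy.2) _)
      rw [← hs]
      have : (cokernel.π (kernel.ι η)).app (O ⊓ W) ((kernel.ι η).app (O ⊓ W) s) = 0 := by
        change ((kernel.ι η) ≫ cokernel.π (kernel.ι η)).app (O ⊓ W) s = 0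
        rw [cokernel.condition]
        rfl
      rw [this, map_zero]
    rw [hzero a, hzero b]

end Aux

open AlgebraicGeometry CategoryTheory in
/-- On a Noetherian scheme, if the support of a coherent module F is the union of closed sets Z and Z',
there is a short exact sequence 0 → G' → F → G → 0 of coherent modules with G' supported in Z' and G
supported in Z. -/
theorem result (X : Scheme.{u}) [IsNoetherian X] (M : X.Modules) (hM : Coh.IsCoh M)
    (Z Z' : Set X) (hZ : IsClosed Z) (hZ' : IsClosed Z') (h : CohB1.support M = Z ∪ Z') :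
    ∃ S : ShortComplex X.Modules, S.ShortExact ∧ Nonempty (S.X₂ ≅ M) ∧ Coh.IsCoh S.X₁ ∧ Coh.IsCoh S.X₃ ∧
      CohB1.support S.X₁ ⊆ Z' ∧ CohB1.support S.X₃ ⊆ Z := by
  exact aux X M hM Z Z' hZ hZ' h

end Groth.Agent.S0049
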