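import Groth.Statements.S0063
-- import your own Groth.Agent.* helpers here

set_option autoImplicit false
open CategoryTheory CategoryTheory.Limits AlgebraicGeometry Opposite
universe u
open EtBase

namespace Groth.Agent.S0063

/-- Rigidity of maps into an unramified separated scheme — two maps from a connected scheme over the
base that agree at one point, including on residue fields, coincide. -/
theorem result {X S Y : Scheme.{u}} (π : X ⟶ S)
    [FormallyUnramified π] [LocallyOfFiniteType π] [IsSeparated π]
    (h : Y ⟶ S) [ConnectedSpace Y] (f g : Y ⟶ X) (hf : f ≫ π = h) (hg : g ≫ π = h)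
    (y : Y) (hy : Y.fromSpecResidueField y ≫ f = Y.fromSpecResidueField y ≫ g) : f = g := by
  have hfg : f ≫ π = g ≫ π := hf.trans hg.symm
  let φ : Y ⟶ pullback π π := pullback.lift f g hfg
  let e : pullback (pullback.diagonal π) φ ⟶ Y := pullback.snd (pullback.diagonal π) φ
  let p : pullback (pullback.diagonal π) φ ⟶ X := pullback.fst (pullback.diagonal π) φ
  have hopen : IsOpenImmersion e := inferInstance
  have hclosed : IsClosedImmersion e := inferInstance
  have hy' : y ∈ Set.range e := by
    let a : Spec (Y.residueField y) ⟶ pullback (pullback.diagonal π) φ :=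
      pullback.lift (Y.fromSpecResidueField y ≫ f) (Y.fromSpecResidueField y) (by
        apply pullback.hom_ext
        · simp only [Category.assoc, pullback.diagonal_fst, Category.comp_id, φ]
          rw [pullback.lift_fst]
        · simp only [Category.assoc, pullback.diagonal_snd, Category.comp_id, φ]
          rw [pullback.lift_snd, hy])
    have ha : a ≫ e = Y.fromSpecResidueField y := pullback.lift_snd _ _ _
    have hne : Nonempty (Spec (Y.residueField y)) := inferInstance
    obtain ⟨s⟩ := hne
    refine ⟨a s, ?_⟩
    rw [← Scheme.Hom.comp_apply, ha, Scheme.fromSpecResidueField_apply]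
  have hsurj : Set.range e = Set.univ :=
    IsClopen.eq_univ ⟨e.isClosedEmbedding.isClosed_range, e.isOpenEmbedding.isOpen_range⟩ ⟨y, hy'⟩
  have : Surjective e := ⟨Set.range_eq_univ.mp hsurj⟩
  have : IsIso e := (isIso_iff_isOpenImmersion_and_surjective e).mpr ⟨hopen, this⟩
  have hc : p ≫ pullback.diagonal π = e ≫ φ := pullback.condition
  have h1 : e ≫ f = p := by
    have := congr($hc ≫ pullback.fst π π)
    simp only [Category.assoc, pullback.diagonal_fst, Category.comp_id, φ] at this
    rw [pullback.lift_fst] at this
    exact this.symm
  have h2 : e ≫ g = p := by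
    have := congr($hc ≫ pullback.snd π π)
    simp only [Category.assoc, pullback.diagonal_snd, Category.comp_id, φ] at this
    rw [pullback.lift_snd] at this
    exact this.symm
  exact (cancel_epi e).mp (h1.trans h2.symm)

end Groth.Agent.S0063
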