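import Groth.Statements.S0064
import Mathlib.AlgebraicGeometry.Morphisms.QuasiFinite
import Mathlib.RingTheory.Unramified.LocalStructure
import Mathlib.AlgebraicGeometry.Noetherian
-- import your own Groth.Agent.* helpers here

set_option autoImplicit false
open CategoryTheory CategoryTheory.Limits AlgebraicGeometry Opposite
universe u
open EtBase

namespace Groth.Agent.S0064

section Aux

/-- Unramified (formally unramified and locally of finite type) morphisms are locally
quasi-finite. -/
theorem locallyQuasiFinite_of_unramified {X S : Scheme.{u}} (π : X ⟶ S)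
    [FormallyUnramified π] [LocallyOfFiniteType π] : LocallyQuasiFinite π := by
  rw [HasRingHomProperty.iff_appLE (P := @LocallyQuasiFinite)]
  intro U V e
  have h1 : RingHom.FormallyUnramified (π.appLE U V e).hom :=
    HasRingHomProperty.appLE @FormallyUnramified π inferInstance U V e
  have h2 : RingHom.FiniteType (π.appLE U V e).hom :=
    HasRingHomProperty.appLE @LocallyOfFiniteType π inferInstance U V e
  algebraize [(π.appLE U V e).hom]
  rw [RingHom.QuasiFinite]
  infer_instance

/-- Rigidity, general form: two `S`-morphisms into an unramified separated `S`-scheme which agree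
at a set of points meeting every clopen subset "enough" coincide. -/
theorem ext_of_agree {X S Y : Scheme.{u}} (π : X ⟶ S)
    [FormallyUnramified π] [LocallyOfFiniteType π] [IsSeparated π]
    (f g : Y ⟶ X) (hfg : f ≫ π = g ≫ π) (T : Set Y)
    (hT : ∀ C : Set Y, IsClopen C → T ⊆ C → C = Set.univ)
    (hy : ∀ y ∈ T, Y.fromSpecResidueField y ≫ f = Y.fromSpecResidueField y ≫ g) : f = g := by
  let φ : Y ⟶ pullback π π := pullback.lift f g hfg
  let e : pullback (pullback.diagonal π) φ ⟶ Y := pullback.snd (pullback.diagonal π) φ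
  let p : pullback (pullback.diagonal π) φ ⟶ X := pullback.fst (pullback.diagonal π) φ
  have hopen : IsOpenImmersion e := inferInstance
  have hclosed : IsClosedImmersion e := inferInstance
  have hy' : ∀ y ∈ T, y ∈ Set.range e := by
    intro y hyT
    let a : Spec (Y.residueField y) ⟶ pullback (pullback.diagonal π) φ :=
      pullback.lift (Y.fromSpecResidueField y ≫ f) (Y.fromSpecResidueField y) (by
        apply pullback.hom_ext
        · simp only [Category.assoc, pullback.diagonal_fst, Category.comp_id, φ]
          rw [pullback.lift_fst]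
        · simp only [Category.assoc, pullback.diagonal_snd, Category.comp_id, φ]
          rw [pullback.lift_snd, hy y hyT])
    have ha : a ≫ e = Y.fromSpecResidueField y := pullback.lift_snd _ _ _
    have hne : Nonempty (Spec (Y.residueField y)) := inferInstance
    obtain ⟨s⟩ := hne
    refine ⟨a s, ?_⟩
    rw [← Scheme.Hom.comp_apply, ha, Scheme.fromSpecResidueField_apply]
  have hsurj : Set.range e = Set.univ :=
    hT _ ⟨e.isClosedEmbedding.isClosed_range, e.isOpenEmbedding.isOpen_range⟩ hy'
  have : Surjective e := ⟨Set.range_eq_univ.mp hsurj⟩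
  have : IsIso e := (isIso_iff_isOpenImmersion_and_surjective e).mpr ⟨hopen, this⟩
  have hc : p ≫ pullback.diagonal π = e ≫ φ := pullback.condition
  have h1 : e ≫ f = p := by
    have := congr($hc ≫ pullback.fst π π)
    simp only [Category.assoc, pullback.diagonal_fst, Category.comp_id, φ] at this
    rw [pullback.lift_fst] at this
    exact this.symm
  have h2 : e ≫ g = p := by
    have := congr($hc ≫ pullback.snd π π)
    simp only [Category.assoc, pullback.diagonal_snd, Category.comp_id, φ] at this
    rw [pullback.lift_snd] at this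
    exact this.symm
  exact (cancel_epi e).mp (h1.trans h2.symm)

/-- Two left inverses (on `Spec`) of the same map from the spectrum of a field coincide. -/
theorem eq_of_comp_eq_id {K L : Type u} [Field K] [Field L]
    (q : Spec (.of L) ⟶ Spec (.of K)) (φ φ' : CommRingCat.of L ⟶ CommRingCat.of K)
    (h : Spec.map φ ≫ q = 𝟙 _) (h' : Spec.map φ' ≫ q = 𝟙 _) : φ = φ' := by
  obtain ⟨ι, rfl⟩ : ∃ ι : CommRingCat.of K ⟶ CommRingCat.of L, Spec.map ι = q :=
    ⟨Spec.preimage q, Spec.map_preimage q⟩
  have ha : ι ≫ φ = 𝟙 (CommRingCat.of K) := by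
    apply Spec.map_injective
    rw [Spec.map_comp, h, Spec.map_id]
  have hb : ι ≫ φ' = 𝟙 (CommRingCat.of K) := by
    apply Spec.map_injective
    rw [Spec.map_comp, h', Spec.map_id]
  have ha' : ∀ t : K, φ.hom (ι.hom t) = t := fun t => by
    have := congrArg (fun m => m.hom t) ha
    simpa using this
  have hb' : ∀ t : K, φ'.hom (ι.hom t) = t := fun t => by
    have := congrArg (fun m => m.hom t) hb
    simpa using this
  ext w
  have h1 : ι.hom (φ'.hom w) = w := φ'.hom.injective (hb' _)
  calc φ.hom w = φ.hom (ι.hom (φ'.hom w)) := by rw [h1]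
    _ = φ'.hom w := ha' _

/-- Over a field-valued point of the base there are only finitely many lifts to an unramified
quasi-compact scheme. -/
theorem finite_lifts_of_field {X S : Scheme.{u}} (π : X ⟶ S)
    [FormallyUnramified π] [LocallyOfFiniteType π] [QuasiCompact π]
    (K : Type u) [Field K] (a₀ : Spec (.of K) ⟶ S) :
    Set.Finite {a : Spec (.of K) ⟶ X | a ≫ π = a₀} := by
  haveI := locallyQuasiFinite_of_unramified π
  let p₂ : pullback π a₀ ⟶ Spec (.of K) := pullback.snd π a₀
  let pt : Spec (.of K) := IsLocalRing.closedPoint K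
  have hfin : Finite ↥(pullback π a₀) := by
    have h1 := p₂.finite_preimage_singleton pt
    have huniv : p₂ ⁻¹' {pt} = Set.univ := by
      ext z
      simp only [Set.mem_preimage, Set.mem_singleton_iff, Set.mem_univ, iff_true]
      exact Subsingleton.elim _ _
    rw [huniv] at h1
    exact Set.finite_univ_iff.mp h1
  let sec : {a : Spec (.of K) ⟶ X | a ≫ π = a₀} → (Spec (.of K) ⟶ pullback π a₀) := fun a =>
    pullback.lift a.1 (𝟙 _) (by rw [Category.id_comp]; exact a.2)
  let Φ : {a : Spec (.of K) ⟶ X | a ≫ π = a₀} → ↥(pullback π a₀) := fun a => (sec a) pt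
  have hΦ : Function.Injective Φ := by
    intro a b hab
    have hsa : sec a ≫ p₂ = 𝟙 _ := pullback.lift_snd _ _ _
    have hsb : sec b ≫ p₂ = 𝟙 _ := pullback.lift_snd _ _ _
    have hsec : sec a = sec b := by
      obtain ⟨⟨za, φa⟩, hza⟩ := (Scheme.SpecToEquivOfField K (pullback π a₀)).symm.surjective (sec a)
      obtain ⟨⟨zb, φb⟩, hzb⟩ := (Scheme.SpecToEquivOfField K (pullback π a₀)).symm.surjective (sec b)
      simp only [Scheme.SpecToEquivOfField_symm_apply] at hza hzb
      have h1 : (sec a) pt = za := by
        rw [← hza, Scheme.Hom.comp_apply, Scheme.fromSpecResidueField_apply]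
      have h2 : (sec b) pt = zb := by
        rw [← hzb, Scheme.Hom.comp_apply, Scheme.fromSpecResidueField_apply]
      have hz : za = zb := by rw [← h1, ← h2]; exact hab
      subst hz
      rw [← hza, ← hzb]
      congr 2
      apply eq_of_comp_eq_id ((pullback π a₀).fromSpecResidueField za ≫ p₂)
      · exact (Category.assoc _ _ _).symm.trans ((congrArg (fun m => m ≫ p₂) hza).trans hsa)
      · exact (Category.assoc _ _ _).symm.trans ((congrArg (fun m => m ≫ p₂) hzb).trans hsb)
    apply Subtype.ext
    have h3 : sec a ≫ pullback.fst π a₀ = a.1 := pullback.lift_fst _ _ _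
    have h4 : sec b ≫ pullback.fst π a₀ = b.1 := pullback.lift_fst _ _ _
    rw [← h3, ← h4, hsec]
  exact Set.finite_coe_iff.mp (Finite.of_injective Φ hΦ)

theorem aux {X S Y : Scheme.{u}} [IsNoetherian Y]
    (π : X ⟶ S) [FormallyUnramified π] [LocallyOfFiniteType π] [QuasiCompact π] [IsSeparated π]
    (h : Y ⟶ S) : Set.Finite {f : Y ⟶ X | f ≫ π = h} := by
  classical
  have hfinI : (irreducibleComponents Y).Finite :=
    TopologicalSpace.NoetherianSpace.finite_irreducibleComponents
  haveI : Finite (irreducibleComponents Y) := hfinI.to_subtype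
  have hne : ∀ Z : irreducibleComponents Y, (Z.1).Nonempty := fun Z => Z.2.1.nonempty
  choose y hy using hne
  have hT : ∀ C : Set Y, IsClopen C → Set.range y ⊆ C → C = Set.univ := by
    intro C hC hTC
    rw [Set.eq_univ_iff_forall]
    intro x
    have hx : x ∈ ⋃₀ irreducibleComponents Y := by
      rw [sUnion_irreducibleComponents]; trivial
    obtain ⟨Z, hZ, hxZ⟩ := hx
    have hpre : _root_.IsPreconnected Z := hZ.1.isPreirreducible.isPreconnected
    have hsub : Z ⊆ C :=
      hpre.subset_isClopen hC ⟨y ⟨Z, hZ⟩, hy ⟨Z, hZ⟩, hTC ⟨⟨Z, hZ⟩, rfl⟩⟩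
    exact hsub hxZ
  -- the target of the comparison map
  have hfac : ∀ Z : irreducibleComponents Y,
      Finite {a : Spec (.of (Y.residueField (y Z))) ⟶ X |
        a ≫ π = Y.fromSpecResidueField (y Z) ≫ h} := fun Z =>
    (finite_lifts_of_field π (Y.residueField (y Z)) (Y.fromSpecResidueField (y Z) ≫ h)).to_subtype
  let Ψ : {f : Y ⟶ X | f ≫ π = h} → ∀ Z : irreducibleComponents Y,
      {a : Spec (.of (Y.residueField (y Z))) ⟶ X |
        a ≫ π = Y.fromSpecResidueField (y Z) ≫ h} := fun f Z =>
    ⟨Y.fromSpecResidueField (y Z) ≫ f.1, by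
      show (Y.fromSpecResidueField (y Z) ≫ f.1) ≫ π = _
      rw [Category.assoc, f.2]⟩
  have hΨ : Function.Injective Ψ := by
    intro f g hfg
    apply Subtype.ext
    refine ext_of_agree π f.1 g.1 (f.2.trans g.2.symm) (Set.range y) hT ?_
    rintro _ ⟨Z, rfl⟩
    exact congrArg Subtype.val (congrFun hfg Z)
  exact Set.finite_coe_iff.mp (Finite.of_injective Ψ hΨ)

end Aux

/-- Let S be a Noetherian scheme, X → S a quasi-compact, separated, unramified morphism (formally
unramified and locally of finite type), and Y a Noetherian scheme with a morphism Y → S. Then there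
are only finitely many S-morphisms Y → X. The published statement does not assume X → S separated;
it is stated here in the separated case. -/
theorem result {X S Y : Scheme.{u}} [IsNoetherian S] [IsNoetherian Y]
    (π : X ⟶ S) [FormallyUnramified π] [LocallyOfFiniteType π] [QuasiCompact π] [IsSeparated π]
    (h : Y ⟶ S) : Set.Finite {f : Y ⟶ X | f ≫ π = h} := by
  exact aux π h

end Groth.Agent.S0064
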