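import Groth.Statements.S0066
import Groth.Agent.Lib.Helper49.EtaleNormal
-- import your own Groth.Agent.* helpers here

set_option autoImplicit false
open CategoryTheory CategoryTheory.Limits AlgebraicGeometry Opposite
universe u
open EtBase

namespace Groth.Agent.S0066

theorem nd_congr {R R' : Type u} [CommRing R] [CommRing R'] (e : R ≃+* R') :
    (IsDomain R ∧ IsIntegrallyClosed R) ↔ (IsDomain R' ∧ IsIntegrallyClosed R') := by
  constructor
  · rintro ⟨h1, h2⟩
    exact ⟨e.symm.toMulEquiv.isDomain _, IsIntegrallyClosed.of_equiv e⟩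
  · rintro ⟨h1, h2⟩
    exact ⟨e.toMulEquiv.isDomain _, IsIntegrallyClosed.of_equiv e.symm⟩

theorem key_ring (A B : Type u) [CommRing A] [CommRing B] [Algebra A B] [IsNoetherianRing A]
    [Algebra.Etale A B] (q : Ideal B) [q.IsPrime] (p : Ideal A) [p.IsPrime] (hqp : q.under A = p) :
    (IsDomain (Localization.AtPrime q) ∧ IsIntegrallyClosed (Localization.AtPrime q)) ↔
      (IsDomain (Localization.AtPrime p) ∧ IsIntegrallyClosed (Localization.AtPrime p)) := by
  subst hqp
  constructor
  · rintro ⟨h1, h2⟩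
    exact Groth.Agent.Lib.Helper49.EtaleNormal.isIntegrallyClosed_localization_of_flat A B q h1 h2
  · rintro ⟨h1, h2⟩
    exact Groth.Agent.Lib.Helper49.EtaleNormal.isIntegrallyClosed_localization_of_smooth A B q h1 h2


/-- For an étale morphism f : X → Y with Y locally Noetherian and a point x of X, the local ring O_{X,x}
is a normal domain (a domain which is integrally closed in its fraction field) if and only if
O_{Y,f(x)} is. -/
theorem result {X Y : Scheme.{u}} (f : X ⟶ Y) [AlgebraicGeometry.Etale f]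
    [IsLocallyNoetherian Y] (x : X) :
    (IsDomain (X.presheaf.stalk x) ∧ IsIntegrallyClosed (X.presheaf.stalk x)) ↔
      (IsDomain (Y.presheaf.stalk (f.base x)) ∧ IsIntegrallyClosed (Y.presheaf.stalk (f.base x))) := by
  obtain ⟨V, hV, hyV, -⟩ := AlgebraicGeometry.exists_isAffineOpen_mem_and_subset (X := Y) (x := f.base x) (U := ⊤) trivial
  obtain ⟨U, hU, hxU, hUV⟩ := AlgebraicGeometry.exists_isAffineOpen_mem_and_subset (X := X) (x := x) (U := f ⁻¹ᵁ V) hyV
  have hUV' : U ≤ f ⁻¹ᵁ V := hUV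
  have hN : IsNoetherianRing Γ(Y, V) := IsLocallyNoetherian.component_noetherian ⟨V, hV⟩
  have het : (f.appLE V U hUV').hom.Etale :=
    HasRingHomProperty.appLE (P := @Etale) f inferInstance ⟨V, hV⟩ ⟨U, hU⟩ hUV'
  algebraize [(f.appLE V U hUV').hom]
  have hqp : (hU.primeIdealOf ⟨x, hxU⟩).asIdeal.under Γ(Y, V) =
      (hV.primeIdealOf ⟨f.base x, hyV⟩).asIdeal :=
    congrArg PrimeSpectrum.asIdeal (IsAffineOpen.comap_primeIdealOf_appLE V hV U hU hUV' hxU)
  have eX : X.presheaf.stalk x ≃+* Localization.AtPrime (hU.primeIdealOf ⟨x, hxU⟩).asIdeal := by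
    algebraize [(X.presheaf.germ U x hxU).hom]
    have := hU.isLocalization_stalk ⟨x, hxU⟩
    exact (IsLocalization.algEquiv (hU.primeIdealOf ⟨x, hxU⟩).asIdeal.primeCompl
      (X.presheaf.stalk x) (Localization.AtPrime (hU.primeIdealOf ⟨x, hxU⟩).asIdeal)).toRingEquiv
  have eY : Y.presheaf.stalk (f.base x) ≃+*
      Localization.AtPrime (hV.primeIdealOf ⟨f.base x, hyV⟩).asIdeal := by
    algebraize [(Y.presheaf.germ V (f.base x) hyV).hom]
    have := hV.isLocalization_stalk ⟨f.base x, hyV⟩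
    exact (IsLocalization.algEquiv (hV.primeIdealOf ⟨f.base x, hyV⟩).asIdeal.primeCompl
      (Y.presheaf.stalk (f.base x))
      (Localization.AtPrime (hV.primeIdealOf ⟨f.base x, hyV⟩).asIdeal)).toRingEquiv
  rw [nd_congr eX, nd_congr eY]
  exact key_ring Γ(Y, V) Γ(X, U) _ _ hqp

end Groth.Agent.S0066
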