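import Groth.Statements.S0068
import Groth.Agent.Lib.Helper70.ClosedImmSubsite

set_option autoImplicit false
open CategoryTheory CategoryTheory.Limits AlgebraicGeometry Opposite
universe u
open EtBase

namespace Groth.Agent.S0068

/-- Part (2), second half — an abelian étale sheaf is a pushforward from a closed subscheme exactly when
its sections vanish over every étale scheme mapping into the open complement. -/
theorem result {Z X : Scheme.{u}} (i : Z ⟶ X) [IsClosedImmersion i] [EtCoh.BCCont i]
    (F : EtCoh.Ab X) :
    (EtCoh.push i).essImage F ↔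
      ∀ U : X.Etale, Disjoint (Set.range U.hom.base) (Set.range i.base) → IsZero (F.obj.obj (op U)) := by
  constructor
  · rintro ⟨G, ⟨e⟩⟩ U hU
    have hT := Groth.Agent.Lib.Helper70.ClosedImmSubsite.isTerminal_push_of_disjoint i G U hU
    have hz : IsZero (G.obj.obj (op ((EtCoh.bc i).obj U))) :=
      IsZero.of_iso (isZero_zero _) (hT.uniqueUpToIso (isZero_zero _).isTerminal)
    have e' : F.obj.obj (op U) ≅ G.obj.obj (op ((EtCoh.bc i).obj U)) :=
      ((sheafToPresheaf _ _).mapIso e.symm).app (op U)
    exact IsZero.of_iso hz e'
  · intro h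
    exact Groth.Agent.Lib.Helper70.ClosedImmSubsite.essImage_of_isTerminal i F
      (fun W hW => ⟨(h W hW).isTerminal⟩)

end Groth.Agent.S0068
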