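import Groth.Statements.S0076
import Groth.Agent.Lib.Helper89.EtaleDescent

set_option autoImplicit false
open CategoryTheory CategoryTheory.Limits AlgebraicGeometry Opposite
universe u
open EtBase

namespace Groth.Agent.S0076

/-- For X étale over S and any S-scheme Y, base change along an integral, universally injective,
surjective S' → S gives a bijection between S-morphisms Y → X and S'-morphisms of the base changes. -/
theorem result {S S' : Scheme.{u}} (g : S' ⟶ S) [IsIntegralHom g] [UniversallyInjective g]
    [Surjective g] (X Y : Over S) [AlgebraicGeometry.Etale X.hom] :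
    Function.Bijective (fun φ : Y ⟶ X => (Over.pullback g).map φ) := by
  constructor
  · intro φ₁ φ₂ h
    have h' := congrArg (fun k => k.left ≫ pullback.fst X.hom g) h
    simp only [Over.pullback_map_left, pullback.lift_fst] at h'
    apply Over.OverMorphism.ext
    exact Groth.Agent.Lib.Helper89.EtaleDescent.hom_descent_unique g X.hom Y.hom φ₁.left φ₂.left
      (Over.w φ₁) (Over.w φ₂) h'
  · intro ψ
    obtain ⟨φ, hφ1, hφ2⟩ := Groth.Agent.Lib.Helper89.EtaleDescent.exists_hom_descent g X.hom Y.hom
      ψ.left (Over.w ψ)
    refine ⟨Over.homMk φ hφ1, ?_⟩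
    apply Over.OverMorphism.ext
    simp only [Over.pullback_map_left, Over.homMk_left]
    apply pullback.hom_ext
    · rw [pullback.lift_fst]; exact hφ2
    · rw [pullback.lift_snd]; exact (Over.w ψ).symm

end Groth.Agent.S0076
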