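import Groth.Statements.S0077
-- import your own Groth.Agent.* helpers here

set_option autoImplicit false
universe u
open EtBase

namespace Groth.Agent.S0077

section Aux
open Polynomial

variable {k V : Type u} [Field k] [IsAlgClosed k] (p : ℕ) [Fact p.Prime] [CharP k p]
    [AddCommGroup V] [Module k V] [FiniteDimensional k V]

/-- The additive polynomials `c_i(t)` expressing the coefficients of a solution in terms of the
last one. -/
noncomputable def P (a : ℕ → k) : ℕ → k[X]
  | 0 => C (a 0) * X ^ p - 1
  | (i + 1) => (P a i) ^ p + C (a (i + 1)) * X ^ p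

omit [IsAlgClosed k] [Fact p.Prime] in
theorem derivative_P (a : ℕ → k) (i : ℕ) : derivative (P p a i) = 0 := by
  have hp : (p : k[X]) = 0 := CharP.cast_eq_zero k[X] p
  cases i with
  | zero => simp [P, derivative_X_pow]
  | succ i => simp [P, derivative_pow]

omit [Fact p.Prime] in
theorem exists_root_P (a : ℕ → k) (m : ℕ) : ∃ t : k, (P p a m).eval t = t := by
  have hdeg : (P p a m - X).degree ≠ 0 := by
    intro h
    have h1 := eq_C_of_degree_eq_zero h
    have h2 : derivative (P p a m - X) = -1 := by
      simp [derivative_P]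
    rw [h1] at h2
    simp at h2
  obtain ⟨t, ht⟩ := IsAlgClosed.exists_root _ hdeg
  refine ⟨t, ?_⟩
  have := ht
  simp only [IsRoot.def, eval_sub, eval_X] at this
  exact sub_eq_zero.mp this

omit [Fact p.Prime] in
theorem aux (F : V →+ V) (hF : ∀ (c : k) (v : V), F (c • v) = c ^ p • F v) :
    Function.Surjective fun v => F v - v := by
  intro v
  -- the orbit
  set u : ℕ → V := fun i => F^[i] v with hu
  have hu0 : u 0 = v := rfl
  have husucc : ∀ i, u (i + 1) = F (u i) := fun i => Function.iterate_succ_apply' F i v
  -- the chain of subspaces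
  let W : ℕ →o Submodule k V :=
    ⟨fun n => Submodule.span k (Set.range fun i : Fin n => u i), by
      intro n n' hnn'
      apply Submodule.span_mono
      rintro _ ⟨i, rfl⟩
      exact ⟨⟨i, lt_of_lt_of_le i.2 hnn'⟩, rfl⟩⟩
  obtain ⟨n, hn⟩ := monotone_stabilizes_iff_noetherian.mpr
    (inferInstance : IsNoetherian k V) W
  have hmem : u n ∈ W n := by
    rw [hn (n + 1) (Nat.le_succ n)]
    exact Submodule.subset_span ⟨⟨n, Nat.lt_succ_self n⟩, rfl⟩
  cases n with
  | zero =>
    have : v = 0 := by
      have h0 : u 0 ∈ Submodule.span k (Set.range fun i : Fin 0 => u i) := hmem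
      have : (Set.range fun i : Fin 0 => u i) = ∅ := Set.range_eq_empty _
      rw [this, Submodule.span_empty] at h0
      simpa [hu0] using h0
    exact ⟨0, by simp [this]⟩
  | succ m =>
    obtain ⟨c', hc'⟩ := (Submodule.mem_span_range_iff_exists_fun k).mp
      (show u (m + 1) ∈ Submodule.span k (Set.range fun i : Fin (m + 1) => u i) from hmem)
    let a : ℕ → k := fun i => if h : i < m + 1 then c' ⟨i, h⟩ else 0
    have ha : u (m + 1) = ∑ i ∈ Finset.range (m + 1), a i • u i := by
      rw [← hc', ← Fin.sum_univ_eq_sum_range (fun i => a i • u i) (m + 1)]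
      refine Finset.sum_congr rfl fun i _ => ?_
      have hai : a (i : ℕ) = c' i := dif_pos i.2
      rw [hai]
    obtain ⟨t, ht⟩ := exists_root_P p a m
    set c : ℕ → k := fun i => (P p a i).eval t with hc
    have hc0 : c 0 = a 0 * t ^ p - 1 := by simp [hc, P]
    have hcs : ∀ i, c (i + 1) = (c i) ^ p + a (i + 1) * t ^ p := by
      intro i
      simp [hc, P]
    have hcm : c m = t := ht
    refine ⟨∑ i ∈ Finset.range (m + 1), c i • u i, ?_⟩
    show F (∑ i ∈ Finset.range (m + 1), c i • u i) - ∑ i ∈ Finset.range (m + 1), c i • u i = v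
    have hFw : F (∑ i ∈ Finset.range (m + 1), c i • u i) =
        ∑ i ∈ Finset.range m, (c i) ^ p • u (i + 1) +
          t ^ p • (∑ i ∈ Finset.range m, a (i + 1) • u (i + 1) + a 0 • u 0) := by
      rw [map_sum, Finset.sum_range_succ, hF, ← husucc, hcm, ha, Finset.sum_range_succ']
      congr 1
      refine Finset.sum_congr rfl fun i _ => ?_
      rw [hF, ← husucc]
    rw [hFw, Finset.sum_range_succ' (fun i => c i • u i), smul_add, Finset.smul_sum, hc0, hu0]
    have hsum : ∑ i ∈ Finset.range m, c (i + 1) • u (i + 1) =
        ∑ i ∈ Finset.range m, (c i) ^ p • u (i + 1) +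
          ∑ i ∈ Finset.range m, t ^ p • a (i + 1) • u (i + 1) := by
      rw [← Finset.sum_add_distrib]
      refine Finset.sum_congr rfl fun i _ => ?_
      rw [hcs i]
      module
    rw [hsum]
    module

end Aux

/-- First half — on a finite-dimensional vector space over an algebraically closed field of
characteristic p, any additive p-semilinear map F has F − id surjective. -/
theorem result {k V : Type u} [Field k] [IsAlgClosed k] (p : ℕ) [Fact p.Prime] [CharP k p]
    [AddCommGroup V] [Module k V] [FiniteDimensional k V] (F : V →+ V)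
    (hF : ∀ (c : k) (v : V), F (c • v) = c ^ p • F v) :
    Function.Surjective fun v => F v - v := by
  exact aux p F hF

end Groth.Agent.S0077
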