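import Groth.Statements.S0078
import Mathlib.FieldTheory.Finite.Basic
-- import your own Groth.Agent.* helpers here

set_option autoImplicit false
universe u
open EtBase

namespace Groth.Agent.S0078

section Aux
open Polynomial

variable {k V : Type u} [Field k] (p : ℕ) [Fact p.Prime] [CharP k p]
    [AddCommGroup V] [Module k V] [FiniteDimensional k V]

omit [CharP k p] in
theorem rootSet_finite : Set.Finite {c : k | c ^ p = c} ∧ Nat.card {c : k | c ^ p = c} ≤ p := by
  classical
  have hp : 1 < p := (Fact.out : p.Prime).one_lt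
  have hne : (X ^ p - X : k[X]) ≠ 0 := FiniteField.X_pow_card_sub_X_ne_zero k hp
  have hsub : {c : k | c ^ p = c} ⊆ ↑((X ^ p - X : k[X]).roots.toFinset) := by
    intro c hc
    simp only [Finset.mem_coe, Multiset.mem_toFinset, mem_roots hne, IsRoot.def, eval_sub,
      eval_pow, eval_X]
    exact sub_eq_zero.mpr hc
  have hfin : Set.Finite {c : k | c ^ p = c} := (Finset.finite_toSet _).subset hsub
  refine ⟨hfin, ?_⟩
  rw [Nat.card_coe_set_eq]
  calc Set.ncard {c : k | c ^ p = c}
      ≤ Set.ncard (↑((X ^ p - X : k[X]).roots.toFinset) : Set k) :=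
        Set.ncard_le_ncard hsub (Finset.finite_toSet _)
    _ = ((X ^ p - X : k[X]).roots.toFinset).card := Set.ncard_coe_finset _
    _ ≤ Multiset.card (X ^ p - X : k[X]).roots := Multiset.toFinset_card_le _
    _ ≤ (X ^ p - X : k[X]).natDegree := card_roots' _
    _ = p := FiniteField.X_pow_card_sub_X_natDegree_eq k hp

omit [CharP k p] in
theorem aux (F : V →+ V) (hF : ∀ (c : k) (v : V), F (c • v) = c ^ p • F v) :
    Set.Finite {v : V | F v = v} ∧ Nat.card {v : V | F v = v} ≤ p ^ Module.finrank k V := by
  classical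
  set S : Set V := {v : V | F v = v} with hS
  obtain ⟨b, hbS, hspan, hli⟩ := exists_linearIndependent k S
  haveI : Finite b := hli.finite
  haveI : Fintype b := Fintype.ofFinite b
  let B := Module.Basis.span hli
  obtain ⟨hRfin, hRcard⟩ := rootSet_finite (k := k) p
  haveI : Finite {c : k | c ^ p = c} := hRfin.to_subtype
  have hmem : ∀ v ∈ S, v ∈ Submodule.span k (Set.range ((↑) : b → V)) := by
    intro v hv
    rw [Subtype.range_coe, hspan]
    exact Submodule.subset_span hv
  have hrepr : ∀ (v : V) (hv : v ∈ S), v = ∑ e : b, B.repr ⟨v, hmem v hv⟩ e • (e : V) := by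
    intro v hv
    have := congrArg Subtype.val (B.sum_repr ⟨v, hmem v hv⟩)
    simp only [Submodule.coe_sum, Submodule.coe_smul] at this
    refine this.symm.trans ?_
    refine Finset.sum_congr rfl fun e _ => ?_
    rw [Module.Basis.span_apply]
  have hcoord : ∀ (v : V) (hv : v ∈ S) (e : b),
      (B.repr ⟨v, hmem v hv⟩ e) ^ p = B.repr ⟨v, hmem v hv⟩ e := by
    intro v hv e
    have h1 : F v = ∑ e : b, (B.repr ⟨v, hmem v hv⟩ e) ^ p • (e : V) := by
      conv_lhs => rw [hrepr v hv]
      rw [map_sum]
      refine Finset.sum_congr rfl fun e _ => ?_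
      rw [hF]
      have : F (e : V) = e := hbS e.2
      rw [this]
    have h2 : ∑ e : b, ((B.repr ⟨v, hmem v hv⟩ e) ^ p - B.repr ⟨v, hmem v hv⟩ e) • (e : V) = 0 := by
      simp only [sub_smul, Finset.sum_sub_distrib]
      rw [← h1, ← hrepr v hv]
      exact sub_eq_zero.mpr hv
    have := Fintype.linearIndependent_iff.mp hli _ h2 e
    exact sub_eq_zero.mp this
  let Φ : S → (b → {c : k | c ^ p = c}) := fun v e =>
    ⟨B.repr ⟨v.1, hmem v.1 v.2⟩ e, hcoord v.1 v.2 e⟩
  have hΦ : Function.Injective Φ := by
    intro v w hvw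
    apply Subtype.ext
    rw [hrepr v.1 v.2, hrepr w.1 w.2]
    refine Finset.sum_congr rfl fun e _ => ?_
    have := congrArg Subtype.val (congrFun hvw e)
    simp only [Φ] at this
    rw [this]
  haveI : Finite S := Finite.of_injective Φ hΦ
  refine ⟨Set.toFinite S, ?_⟩
  calc Nat.card S ≤ Nat.card (b → {c : k | c ^ p = c}) := Nat.card_le_card_of_injective Φ hΦ
    _ = Nat.card {c : k | c ^ p = c} ^ Nat.card b := Nat.card_fun
    _ ≤ p ^ Nat.card b := Nat.pow_le_pow_left hRcard _
    _ ≤ p ^ Module.finrank k V := by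
        apply Nat.pow_le_pow_right (Fact.out : p.Prime).pos
        rw [Nat.card_eq_fintype_card]
        exact hli.fintype_card_le_finrank

end Aux

/-- Second half — for such an F the fixed vectors F v = v form a finite set of size at most p ^ dim V
(an F_p-space of dimension at most dim V). -/
theorem result {k V : Type u} [Field k] [IsAlgClosed k] (p : ℕ) [Fact p.Prime] [CharP k p]
    [AddCommGroup V] [Module k V] [FiniteDimensional k V] (F : V →+ V)
    (hF : ∀ (c : k) (v : V), F (c • v) = c ^ p • F v) :
    Set.Finite {v : V | F v = v} ∧ Nat.card {v : V | F v = v} ≤ p ^ Module.finrank k V := by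
  exact aux p F hF

end Groth.Agent.S0078
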