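import Groth.Statements.S0088
import Groth.Agent.Lib.Helper4.ZeroDimEt
import Groth.Agent.Lib.Helper70.StrictHensCoh

set_option autoImplicit false
open CategoryTheory CategoryTheory.Limits AlgebraicGeometry Opposite
universe u
open EtBase

namespace Groth.Agent.S0088

/-- On an affine scheme all of whose points are closed and all of whose residue fields are separably
closed, every abelian étale sheaf has vanishing cohomology in positive degrees. -/
theorem result (S : Scheme.{u}) [IsAffine S] (h1 : ∀ s : S, IsClosed ({s} : Set S))
    (h2 : ∀ s : S, IsSepClosed (S.residueField s)) (F : EtCoh.Ab S) (i : ℕ) (hi : 1 ≤ i) :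
    Subsingleton (EtCoh.H S F i) := by
  have hcb := Groth.Agent.Lib.Helper4.ZeroDimEt.clopenBasis S h1
  have : (EtCore.gsec S).PreservesEpimorphisms := by
    constructor
    intro A B e he
    change Epi (e.hom.app (op (EtCoh.top S)))
    rw [AddCommGrpCat.epi_iff_surjective]
    exact Groth.Agent.Lib.Helper4.ZeroDimEt.surjective_gsec hcb
      (fun U f _ u => Groth.Agent.Lib.Helper4.ZeroDimEt.exists_local_section h1 h2 U f u) e
  have := (EtCore.constAdj S).map_projective _
    Groth.Agent.Lib.Helper70.StrictHensCoh.projective_ulift_int.{u}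
  obtain ⟨n, rfl⟩ : ∃ n, i = n + 1 := ⟨i - 1, by omega⟩
  exact subsingleton_of_forall_eq 0 (fun x => Abelian.Ext.eq_zero_of_projective x)

end Groth.Agent.S0088
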