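import Groth.Statements.S0089
import Groth.Agent.Lib.Helper7.SepEtOpen
import Groth.Agent.Lib.Helper7.GUSchIrr
import Groth.Agent.S9812

set_option autoImplicit false
open CategoryTheory CategoryTheory.Limits AlgebraicGeometry Opposite
universe u
open EtBase

namespace Groth.Agent.S0089

/-- Part (1) — over an integral normal scheme whose function field is separably closed, any separated
étale scheme is a disjoint union of open subschemes of the base. -/
theorem result {U X : Scheme.{u}} [IsIntegral X] (hN : ∀ x : X, IsIntegrallyClosed (X.presheaf.stalk x))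
    [IsSepClosed X.functionField] (g : U ⟶ X) [AlgebraicGeometry.Etale g] [IsSeparated g] :
    ∃ (ι : Type u) (V : ι → X.Opens) (e : (∐ fun i => (V i : Scheme.{u})) ≅ U),
      ∀ i, Sigma.ι (fun i => (V i : Scheme.{u})) i ≫ e.hom ≫ g = (V i).ι := by
  open Groth.Agent.Lib.Helper7 in
  classical
  have hY : ∀ x : X, CAlg2.IsGeomUnibranch (X.presheaf.stalk x) := fun x => by
    haveI := hN x
    exact Groth.Agent.S9812.result (X.presheaf.stalk x)
  obtain ⟨hex, hcomp⟩ := GUSch.components_of_etale g hY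
  -- index type: the irreducible components
  let ι : Type u := {Z : Set U // Z ∈ irreducibleComponents U}
  let Zo : ι → U.Opens := fun i => ⟨i.1, (hcomp i.1 i.2).1⟩
  have hopen_imm : ∀ i, IsOpenImmersion ((Zo i).ι ≫ g) := by
    intro i
    obtain ⟨ξ, ⟨hξZ, hξη⟩, huniq⟩ := (hcomp i.1 i.2).2
    refine SepEtOpen.isOpenImmersion_of_unique_generic ((Zo i).ι ≫ g) ⟨ξ, hξZ⟩ ?_ ?_
    · exact hξη
    · intro z hz
      have := huniq z.1 ⟨z.2, hz⟩
      exact Subtype.ext this
  let V : ι → X.Opens := fun i => ((Zo i).ι ≫ g).opensRange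
  let f : ∀ i, (V i : Scheme.{u}) ⟶ U := fun i => ((Zo i).ι ≫ g).isoOpensRange.inv ≫ (Zo i).ι
  haveI hf : ∀ i, IsOpenImmersion (f i) := fun i => inferInstance
  have hrange : ∀ i, (f i).opensRange = Zo i := by
    intro i
    change (((Zo i).ι ≫ g).isoOpensRange.inv ≫ (Zo i).ι).opensRange = Zo i
    rw [Scheme.Hom.opensRange_comp_of_isIso, Scheme.Opens.opensRange_ι]
  have hcov : ⨆ i, (f i).opensRange = ⊤ := by
    rw [eq_top_iff]
    intro x _
    obtain ⟨Z, ⟨hZ, hxZ⟩, -⟩ := hex x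
    rw [TopologicalSpace.Opens.mem_iSup]
    refine ⟨⟨Z, hZ⟩, ?_⟩
    rw [hrange]
    exact hxZ
  have hdisj : Pairwise (Function.onFun Disjoint (fun i => (f i).opensRange)) := by
    intro i j hij
    change Disjoint (f i).opensRange (f j).opensRange
    rw [hrange, hrange, ← TopologicalSpace.Opens.coe_disjoint, Set.disjoint_iff]
    rintro x ⟨hxi, hxj⟩
    apply hij
    obtain ⟨Z, -, huZ⟩ := hex x
    have h1 := huZ i.1 ⟨i.2, hxi⟩
    have h2 := huZ j.1 ⟨j.2, hxj⟩
    exact Subtype.ext (h1.trans h2.symm)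
  obtain ⟨hc⟩ := nonempty_isColimit_cofanMk_of f hcov hdisj
  let e : (∐ fun i => (V i : Scheme.{u})) ≅ U := colimit.isoColimitCocone ⟨_, hc⟩
  refine ⟨ι, V, e, fun i => ?_⟩
  have h1 : Sigma.ι (fun i => (V i : Scheme.{u})) i ≫ e.hom = f i :=
    colimit.isoColimitCocone_ι_hom ⟨_, hc⟩ ⟨i⟩
  rw [← Category.assoc, h1]
  change (((Zo i).ι ≫ g).isoOpensRange.inv ≫ (Zo i).ι) ≫ g = _
  rw [Category.assoc, Scheme.Hom.isoOpensRange_inv_comp]

end Groth.Agent.S0089
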