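import Groth.Statements.S9556
import Groth.Agent.Lib.Helper35.UnramSplitScheme3

set_option autoImplicit false
universe u
open EtLocal

namespace Groth.Agent.S9556


open AlgebraicGeometry CategoryTheory Limits in
/-- Let f : X ⟶ S be a separated morphism of schemes, s a point of S and x_1, …, x_n pairwise distinct
points of X over s such that f is unramified at each x_i (some open neighbourhood of x_i is locally
of finite type and formally unramified over S). Then there are an étale morphism g : U ⟶ S, a point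
u of U over s, and a decomposition of X_U = X ×_S U into pairwise disjoint open subschemes W and
finitely many V_k which together cover X_U, such that each V_k ⟶ U is a closed immersion whose image
contains u and no point of W over u maps to any of the x_i. -/
theorem result {X S : Scheme.{u}} (f : X ⟶ S)
    [IsSeparated f] (s : S)
    {ι : Type} [Finite ι] (x : ι → ↑X) (hinj : Function.Injective x) (hs : ∀ i, f (x i) = s)
    (hx : ∀ i, ∃ W : X.Opens, x i ∈ W ∧ LocallyOfFiniteType (W.ι ≫ f) ∧ FormallyUnramified (W.ι ≫ f)) :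
    ∃ (U : Scheme.{u}) (g : U ⟶ S) (u : U), Etale g ∧ g u = s ∧
      ∃ (K : Type) (_ : Finite K) (W : (pullback f g).Opens) (V : K → (pullback f g).Opens),
        W ⊔ (⨆ k, V k) = ⊤ ∧ (∀ k, Disjoint W (V k)) ∧ (∀ k k', k ≠ k' → Disjoint (V k) (V k')) ∧
        (∀ k, IsClosedImmersion ((V k).ι ≫ pullback.snd f g) ∧
          ∃ w : ↑(pullback f g), w ∈ V k ∧ pullback.snd f g w = u) ∧
        (∀ (w : ↑(pullback f g)) (i : ι), w ∈ W → pullback.snd f g w = u → pullback.fst f g w ≠ x i) := by
  choose W₀ hxW hlft hunr using hx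
  obtain ⟨U, g, u, -, hg, hgu, K, hK, lab, V, h4, h1, h2, h3⟩ :=
    Groth.Agent.Lib.Helper35.UnramSplitScheme.master f s x hinj hs W₀ hxW hlft hunr
  obtain ⟨U', huU', hdisj⟩ := Groth.Agent.Lib.Helper35.UnramSplitScheme.exists_shrink_disjoint
    f g u V (fun k => (h1 k).1) h2
  have hcl : ∀ k, IsClosed
      ((Groth.Agent.Lib.Helper35.UnramSplitScheme.θ f g U'.ι ⁻¹ᵁ V k :
        (pullback f (U'.ι ≫ g)).Opens) : Set ↑(pullback f (U'.ι ≫ g))) := fun k =>
    (Groth.Agent.Lib.Helper35.UnramSplitScheme.isClosed_of_isClosedImmersion_snd f g (V k)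
      (h1 k).1).preimage (Groth.Agent.Lib.Helper35.UnramSplitScheme.θ f g U'.ι).continuous
  obtain ⟨W', hW'1, hW'2, hW'3⟩ :=
    Groth.Agent.Lib.Helper35.UnramSplitScheme.exists_compl_iUnion _ hcl
  refine ⟨U', U'.ι ≫ g, ⟨u, huU'⟩, inferInstance, hgu, K, hK, W',
    fun k => Groth.Agent.Lib.Helper35.UnramSplitScheme.θ f g U'.ι ⁻¹ᵁ V k, hW'2, hW'3, hdisj,
    fun k => ⟨?_, ?_⟩, ?_⟩
  · exact Groth.Agent.Lib.Helper35.UnramSplitScheme.refine_prop f g U'.ι @IsClosedImmersion (V k)
      (h1 k).1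
  · exact Groth.Agent.Lib.Helper35.UnramSplitScheme.refine_exists_point f g U'.ι (V k) u
      ⟨u, huU'⟩ rfl (h1 k).2
  · intro w i hwW hwu hwx
    obtain ⟨k, -, hkw⟩ := h3 (Groth.Agent.Lib.Helper35.UnramSplitScheme.θ f g U'.ι w) i
      (by rw [Groth.Agent.Lib.Helper35.UnramSplitScheme.θ_apply_snd, hwu]; rfl)
      (by rw [Groth.Agent.Lib.Helper35.UnramSplitScheme.θ_apply_fst, hwx])
    exact (hW'1 w).mp hwW k hkw

end Groth.Agent.S9556
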