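import Groth.Statements.S0096
import Groth.Agent.S9556

set_option autoImplicit false
open CategoryTheory CategoryTheory.Limits AlgebraicGeometry Opposite
universe u
open EtBase

namespace Groth.Agent.S0096

section Helpers

open Groth.Agent.Lib.Helper35.UnramSplitScheme

theorem aux {X S : Scheme.{u}} (f : X ⟶ S) [IsFinite f] [FormallyUnramified f] (s : S) :
    ∃ (U : Scheme.{u}) (g : U ⟶ S) (_ : AlgebraicGeometry.Etale g) (u : U) (_ : g.base u = s)
      (n : ℕ) (V : Fin n → Scheme.{u}) (c : ∀ j, V j ⟶ U) (_ : ∀ j, IsClosedImmersion (c j))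
      (e : (∐ V) ≅ pullback f g), ∀ j, Sigma.ι V j ≫ e.hom ≫ pullback.snd f g = c j := by
  classical
  -- enumerate the fibre
  have hfin : (f ⁻¹' {s}).Finite := f.finite_preimage_singleton s
  have : Finite (f ⁻¹' {s} : Set X) := hfin
  let n₀ := Nat.card (f ⁻¹' {s} : Set X)
  let e₀ : (f ⁻¹' {s} : Set X) ≃ Fin n₀ := Finite.equivFin _
  let x : Fin n₀ → X := fun i => (e₀.symm i).1
  have hinj : Function.Injective x := fun i j h => e₀.symm.injective (Subtype.ext h)
  have hs : ∀ i, f (x i) = s := fun i => (e₀.symm i).2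
  have hsurj : ∀ y : X, f y = s → ∃ i, x i = y := fun y hy =>
    ⟨e₀ ⟨y, hy⟩, by simp [x]⟩
  obtain ⟨U, g, u, hg, hgu, K, hK, W, V, hcov, hWV, hVV, hiso, hWx⟩ :=
    Groth.Agent.S9556.result f s x hinj hs (fun i => ⟨⊤, trivial, inferInstance,
      MorphismProperty.comp_mem _ _ _ (inferInstance : FormallyUnramified (⊤ : X.Opens).ι) ‹_›⟩)
  -- `W` is closed and misses the fibre over `u`
  have hWcl : IsClosed (W : Set ↑(pullback f g)) := by
    have h1 : (W : Set ↑(pullback f g)) = (⋃ k, (V k : Set ↑(pullback f g)))ᶜ := by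
      ext w
      simp only [SetLike.mem_coe, Set.mem_compl_iff, Set.mem_iUnion, not_exists]
      constructor
      · intro hw k hk
        have := (hWV k).le_bot ⟨hw, hk⟩
        exact this
      · intro hw
        have h2 : w ∈ W ⊔ ⨆ k, V k := by rw [hcov]; trivial
        rcases h2 with h2 | h2
        · exact h2
        · exfalso
          have h3 : w ∈ (⨆ k, V k : (pullback f g).Opens) := h2
          rw [TopologicalSpace.Opens.mem_iSup] at h3
          obtain ⟨k, hk⟩ := h3
          exact hw k hk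
    rw [h1]
    exact (isOpen_iUnion fun k => (V k).2).isClosed_compl
  have hZcl : IsClosed (pullback.snd f g '' (W : Set ↑(pullback f g))) :=
    (pullback.snd f g).isClosedMap _ hWcl
  have huZ : u ∉ pullback.snd f g '' (W : Set ↑(pullback f g)) := by
    rintro ⟨w, hw, hwu⟩
    have h1 : f (pullback.fst f g w) = s := by
      rw [← Scheme.Hom.comp_apply, pullback.condition, Scheme.Hom.comp_apply, hwu, hgu]
    obtain ⟨i, hi⟩ := hsurj _ h1
    exact hWx w i hw hwu hi.symm
  let U₃ : U.Opens := ⟨_, hZcl.isOpen_compl⟩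
  let g₃ := U₃.ι ≫ g
  let V₃ : K → (pullback f g₃).Opens := fun k => θ f g U₃.ι ⁻¹ᵁ V k
  have hcov₃ : ⨆ k, V₃ k = ⊤ := by
    rw [eq_top_iff]
    intro w _
    rw [TopologicalSpace.Opens.mem_iSup]
    have h2 : θ f g U₃.ι w ∈ W ⊔ ⨆ k, V k := by rw [hcov]; trivial
    rcases h2 with h2 | h2
    · exfalso
      have h3 : pullback.snd f g (θ f g U₃.ι w) ∈ pullback.snd f g '' (W : Set ↑(pullback f g)) :=
        ⟨_, h2, rfl⟩
      rw [θ_apply_snd] at h3
      exact (pullback.snd f g₃ w).2 h3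
    · have h3 : θ f g U₃.ι w ∈ (⨆ k, V k : (pullback f g).Opens) := h2
      rw [TopologicalSpace.Opens.mem_iSup] at h3
      exact h3
  have hdisj₃ : ∀ k k', k ≠ k' → Disjoint (V₃ k) (V₃ k') := by
    intro k k' hkk
    rw [disjoint_iff]
    ext w
    simp only [TopologicalSpace.Opens.coe_inf, Set.mem_inter_iff, SetLike.mem_coe,
      TopologicalSpace.Opens.coe_bot, Set.mem_empty_iff_false, iff_false, not_and]
    intro hw1 hw2
    exact (hVV k k' hkk).le_bot ⟨hw1, hw2⟩
  have hiso₃ : ∀ k, IsClosedImmersion ((V₃ k).ι ≫ pullback.snd f g₃) := fun k =>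
    refine_prop f g U₃.ι @IsClosedImmersion (V k) (hiso k).1
  -- reindex by `Fin n`
  let n := Nat.card K
  let σ : Fin n ≃ K := (Finite.equivFin K).symm
  let Vs : Fin n → Scheme.{u} := fun j => (V₃ (σ j)).toScheme
  let ιs : ∀ j, Vs j ⟶ pullback f g₃ := fun j => (V₃ (σ j)).ι
  obtain ⟨hc⟩ := nonempty_isColimit_cofanMk_of ιs (by
      rw [eq_top_iff, ← hcov₃, iSup_le_iff]
      intro k
      refine le_trans ?_ (le_iSup _ (σ.symm k))
      simp [ιs]) (by
      intro j j' hjj
      simp only [Function.onFun, ιs, Scheme.Opens.opensRange_ι]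
      exact hdisj₃ _ _ (fun h => hjj (σ.injective h)))
  let e : (∐ Vs) ≅ pullback f g₃ :=
    IsColimit.coconePointUniqueUpToIso (colimit.isColimit _) hc
  have he : ∀ j, Sigma.ι Vs j ≫ e.hom = ιs j := fun j =>
    IsColimit.comp_coconePointUniqueUpToIso_hom (colimit.isColimit _) hc ⟨j⟩
  refine ⟨U₃, g₃, inferInstance, ⟨u, huZ⟩, hgu, n, Vs, fun j => ιs j ≫ pullback.snd f g₃,
    fun j => hiso₃ (σ j), e, fun j => ?_⟩
  rw [← Category.assoc, he j]

end Helpers

/-- A finite unramified morphism becomes, after base change to a suitable étale neighbourhood of any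
point of the base, a finite disjoint union of closed immersions. -/
theorem result {X S : Scheme.{u}} (f : X ⟶ S) [IsFinite f] [FormallyUnramified f] (s : S) :
    ∃ (U : Scheme.{u}) (g : U ⟶ S) (_ : AlgebraicGeometry.Etale g) (u : U) (_ : g.base u = s)
      (n : ℕ) (V : Fin n → Scheme.{u}) (c : ∀ j, V j ⟶ U) (_ : ∀ j, IsClosedImmersion (c j))
      (e : (∐ V) ≅ pullback f g), ∀ j, Sigma.ι V j ≫ e.hom ≫ pullback.snd f g = c j := by
  exact aux f s

end Groth.Agent.S0096
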