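import Groth.Statements.S0099
import Groth.Prelude.Def_EtCore
import Groth.Agent.Lib.Helper47.EtQc
import Groth.Agent.Lib.Helper47.SiteTransport3
-- import your own Groth.Agent.* helpers here

set_option autoImplicit false
open CategoryTheory CategoryTheory.Limits AlgebraicGeometry Opposite
universe u
open EtBase

namespace Groth.Agent.S0099

open Groth.Agent.Lib.Helper47 Groth.Agent.Lib.Helper47.EtQc

/-- the index category, moved one universe up -/
abbrev Idx (J : Type u) [SmallCategory J] : Type (u + 1) := AsSmall.{u + 1} J


/-- On a quasi-compact quasi-separated scheme, étale cohomology in each degree commutes with filtered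
colimits of abelian sheaves (stated for small filtered index categories). -/
theorem result (X : Scheme.{u}) [CompactSpace X] [QuasiSeparatedSpace X] (n : ℕ)
    (J : Type u) [SmallCategory J] [IsFiltered J] :
    PreservesColimitsOfShape J (EtCoh.HF X n) := by
  let eJ : J ≌ Idx J := AsSmall.equiv
  haveI : IsFiltered (Idx J) := IsFiltered.of_equivalence eJ
  have hT : IsTerminal (EtCoh.top X) := EtCore.topIsTerminal X
  have hB : (eqv X).functor.obj (EtCoh.top X) ∈ B X :=
    ⟨inferInstanceAs (CompactSpace X), inferInstanceAs (QuasiSeparatedSpace X)⟩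
  have hJ' : PreservesColimitsOfShape (Idx J) (EtCoh.HF X n) :=
    SiteTransport.preservesColimitsOfShape_functorH_of_cov.{u + 1} X.smallEtaleTopology (Ks X)
      (eqv X) (B X) Cov Cov_h1 Cov_h2 hT hB n (Idx J)
  exact preservesColimitsOfShape_of_equiv eJ.symm _

end Groth.Agent.S0099
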