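import Groth.Statements.S0102
import Mathlib.AlgebraicGeometry.Morphisms.UniversallyOpen
-- import your own Groth.Agent.* helpers here

set_option autoImplicit false
open CategoryTheory CategoryTheory.Limits AlgebraicGeometry Opposite
universe u
open EtBase

namespace Groth.Agent.S0102

section Aux

set_option backward.isDefEq.respectTransparency.types false in
theorem aux {S : Scheme.{u}} (F : EtCoh.Ab S) (U : S.Etale) (σ : EtCoh.sect F U) :
    ∃ W : U.left.Opens, ∀ (V : S.Etale) (φ : V ⟶ U),
      F.obj.map φ.op σ = 0 ↔ Set.range φ.left.base ⊆ (W : Set U.left) := by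
  classical
  let W : U.left.Opens := sSup {O | ∃ (V : S.Etale) (φ : V ⟶ U),
    F.obj.map φ.op σ = 0 ∧ O = ⟨Set.range φ.left.base, φ.left.isOpenMap.isOpen_range⟩}
  refine ⟨W, fun V φ => ⟨fun h => ?_, fun h => ?_⟩⟩
  · have hle : (⟨Set.range φ.left.base, φ.left.isOpenMap.isOpen_range⟩ : U.left.Opens) ≤ W :=
      le_sSup ⟨V, φ, h, rfl⟩
    exact hle
  · -- the sieve of arrows along which σ vanishes
    let T : Sieve V :=
      { arrows := fun V' g => F.obj.map (g ≫ φ).op σ = 0
        downward_closed := by
          intro Y Z f hf g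
          show F.obj.map ((g ≫ f) ≫ φ).op σ = 0
          have h1 : ((g ≫ f) ≫ φ).op = (f ≫ φ).op ≫ g.op := by
            rw [Category.assoc]; rfl
          rw [h1, Functor.map_comp]
          show F.obj.map g.op (F.obj.map (f ≫ φ).op σ) = 0
          rw [hf, map_zero] }
    have hT : T ∈ S.smallEtaleTopology V := by
      have eS : S.smallEtaleTopology =
          (S.smallPretopology (P := EtCoh.etaleMP) (Q := EtCoh.etaleMP)).toGrothendieck :=
        Scheme.smallGrothendieckTopology_eq_toGrothendieck_smallPretopology S le_rfl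
      rw [eS]
      refine (Scheme.mem_toGrothendieck_smallPretopology V T).2 ?_
      intro x'
      have hx' : φ.left.base x' ∈ (W : Set U.left) := h ⟨x', rfl⟩
      obtain ⟨O, ⟨V₁, ψ, hψ, rfl⟩, hO⟩ := TopologicalSpace.Opens.mem_sSup.mp hx'
      obtain ⟨w, hw⟩ := hO
      obtain ⟨z, hz1, hz2⟩ := Scheme.Pullback.exists_preimage_pullback
        (f := φ.left) (g := ψ.left) x' w hw.symm
      let P : S.Etale := Scheme.Etale.mk (pullback.fst φ.left ψ.left ≫ V.hom)
      let g : P ⟶ V := MorphismProperty.Over.homMk (pullback.fst φ.left ψ.left) rfl trivial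
      have hw' : pullback.snd φ.left ψ.left ≫ V₁.hom = pullback.fst φ.left ψ.left ≫ V.hom := by
        rw [← MorphismProperty.Over.w ψ, ← MorphismProperty.Over.w φ,
          ← Category.assoc, ← Category.assoc, pullback.condition]
      let g' : P ⟶ V₁ := MorphismProperty.Over.homMk (pullback.snd φ.left ψ.left) hw' trivial
      have hgg' : g ≫ φ = g' ≫ ψ := by
        apply MorphismProperty.Over.Hom.ext
        exact pullback.condition
      refine ⟨P, g, z, ?_, inferInstance, hz1⟩
      show F.obj.map (g ≫ φ).op σ = 0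
      rw [hgg']
      have h1 : (g' ≫ ψ).op = ψ.op ≫ g'.op := rfl
      rw [h1, Functor.map_comp]
      show F.obj.map g'.op (F.obj.map ψ.op σ) = 0
      rw [hψ, map_zero]
    have hsep : Presieve.IsSeparated S.smallEtaleTopology (F.obj ⋙ forget AddCommGrpCat.{u + 1}) := by
      apply Presieve.IsSheaf.isSeparated
      rw [← isSheaf_iff_isSheaf_of_type]
      exact ((sheafCompose S.smallEtaleTopology (forget AddCommGrpCat.{u + 1})).obj F).2
    refine (hsep T hT).ext ?_
    intro Y f hf
    show F.obj.map f.op (F.obj.map φ.op σ) = F.obj.map f.op 0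
    rw [map_zero]
    have h1 : F.obj.map f.op (F.obj.map φ.op σ) = F.obj.map (f ≫ φ).op σ := by
      have h2 : (f ≫ φ).op = φ.op ≫ f.op := rfl
      rw [h2, Functor.map_comp]
      rfl
    rw [h1]
    exact hf

end Aux

/-- A section of an abelian étale sheaf over an étale scheme U vanishes on pullback to an étale V → U
exactly when V maps into a certain largest open subset of U. -/
theorem result {S : Scheme.{u}} (F : EtCoh.Ab S) (U : S.Etale) (σ : EtCoh.sect F U) :
    ∃ W : U.left.Opens, ∀ (V : S.Etale) (φ : V ⟶ U),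
      F.obj.map φ.op σ = 0 ↔ Set.range φ.left.base ⊆ (W : Set U.left) := by
  exact aux F U σ

end Groth.Agent.S0102
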