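import Groth.Statements.S0105
import Groth.Agent.Lib.Helper4.ConstStalk
import Groth.Agent.Lib.Helper70.StalkCons

set_option autoImplicit false
open CategoryTheory CategoryTheory.Limits AlgebraicGeometry Opposite
universe u
open EtBase

namespace Groth.Agent.S0105

open Groth.Agent.Lib.Helper4.ConstStalk Groth.Agent.Lib.Helper70.StalkCons in
set_option backward.isDefEq.respectTransparency.types false in
/-- two trivialising étale opens with a common image point have isomorphic value groups -/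
theorem nonempty_addEquiv {X : Scheme.{u}} (F : EtCoh.Ab X) (U₁ U₂ : X.Etale)
    (M₁ M₂ : Type) [AddCommGroup M₁] [AddCommGroup M₂]
    (α₁ : EtCoh.restr F U₁ ≅
      (constantSheaf (X.smallEtaleTopology.over U₁) AddCommGrpCat.{u + 1}).obj
        (AddCommGrpCat.of (ULift.{u + 1} M₁)))
    (α₂ : EtCoh.restr F U₂ ≅
      (constantSheaf (X.smallEtaleTopology.over U₂) AddCommGrpCat.{u + 1}).obj
        (AddCommGrpCat.of (ULift.{u + 1} M₂)))
    (y₁ : U₁.left) (y₂ : U₂.left) (hy : U₁.hom.base y₁ = U₂.hom.base y₂) :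
    Nonempty (M₁ ≃+ M₂) := by
  obtain ⟨w, -, -⟩ := Scheme.Pullback.exists_preimage_pullback (f := U₁.hom) (g := U₂.hom) y₁ y₂ hy
  let W : X.Etale := Scheme.Etale.mk (pullback.fst U₁.hom U₂.hom ≫ U₁.hom)
  let p₁ : W ⟶ U₁ := MorphismProperty.Over.homMk (pullback.fst U₁.hom U₂.hom) rfl trivial
  let p₂ : W ⟶ U₂ := MorphismProperty.Over.homMk (pullback.snd U₁.hom U₂.hom)
    (pullback.condition).symm trivial
  let Φ := (Scheme.pointSmallEtale (geomPt W w ≫ W.hom)).over (geomPtFiber W w)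
  obtain ⟨e₁⟩ := nonempty_iso_sheafFiber_over.{u} p₁ Φ F _ α₁
  obtain ⟨e₂⟩ := nonempty_iso_sheafFiber_over.{u} p₂ Φ F _ α₂
  have e : AddCommGrpCat.of (ULift.{u + 1} M₁) ≅ AddCommGrpCat.of (ULift.{u + 1} M₂) :=
    e₁.symm ≪≫ e₂
  exact ⟨(AddEquiv.ulift.symm.trans e.addCommGroupIsoToAddEquiv).trans AddEquiv.ulift⟩

/-- On a connected scheme X, a finite locally constant abelian sheaf F on the small étale site is, étale
locally, constant with one and the same finite group everywhere: there are a finite abelian group M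
and an étale covering (U_i) of X such that the restriction of F to every U_i is isomorphic to the
constant sheaf with value M. (The published statement covers arbitrary locally constant sheaves of
modules; stated here for finite locally constant abelian sheaves.) -/
theorem result {X : Scheme.{u}} [ConnectedSpace X] (F : EtCoh.Ab X) (h : EtCoh.IsFiniteLocallyConstant F) :
    ∃ (M : Type) (_ : AddCommGroup M) (_ : Finite M) (ι : Type u) (U : ι → X.Etale), EtCoh.Covers U ∧
      ∀ i, Nonempty (EtCoh.restr F (U i) ≅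
        (constantSheaf (X.smallEtaleTopology.over (U i)) AddCommGrpCat.{u + 1}).obj
          (AddCommGrpCat.of (ULift.{u + 1} M))) := by
  obtain ⟨I, U, hU, hM⟩ := h
  choose M hM1 hM2 hM3 using hM
  -- a base index
  obtain ⟨x₀⟩ := (inferInstance : Nonempty X)
  obtain ⟨i₀, y₀, hy₀⟩ := hU x₀
  -- key: overlapping images give isomorphic groups
  have key : ∀ (i j : I) (yi : (U i).left) (yj : (U j).left),
      (U i).hom.base yi = (U j).hom.base yj → Nonempty (M i ≃+ M j) := by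
    intro i j yi yj hy
    obtain ⟨αi⟩ := hM3 i
    obtain ⟨αj⟩ := hM3 j
    exact nonempty_addEquiv F (U i) (U j) (M i) (M j) αi αj yi yj hy
  let A : Set X := {x | ∃ (i : I) (y : (U i).left), (U i).hom.base y = x ∧ Nonempty (M i ≃+ M i₀)}
  have hopen : ∀ i, IsOpen (Set.range (U i).hom.base) := fun i =>
    (U i).hom.isOpenMap.isOpen_range
  have hA : IsClopen A := by
    constructor
    · rw [← isOpen_compl_iff, isOpen_iff_forall_mem_open]
      intro x hx
      obtain ⟨j, yj, hyj⟩ := hU x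
      refine ⟨Set.range (U j).hom.base, ?_, hopen j, ⟨yj, hyj⟩⟩
      rintro z ⟨yz, rfl⟩ ⟨i, yi, hyi, ⟨ei⟩⟩
      obtain ⟨eji⟩ := key j i yz yi hyi.symm
      exact hx ⟨j, yj, hyj, ⟨eji.trans ei⟩⟩
    · rw [isOpen_iff_forall_mem_open]
      rintro x ⟨i, yi, hyi, hei⟩
      refine ⟨Set.range (U i).hom.base, ?_, hopen i, ⟨yi, hyi⟩⟩
      rintro z ⟨yz, rfl⟩
      exact ⟨i, yz, rfl, hei⟩
  have hAuniv : A = Set.univ := hA.eq_univ ⟨x₀, i₀, y₀, hy₀, ⟨AddEquiv.refl _⟩⟩
  have hall : ∀ (i : I), Nonempty (U i).left → Nonempty (M i ≃+ M i₀) := by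
    rintro i ⟨yi⟩
    have hm : (U i).hom.base yi ∈ A := hAuniv ▸ Set.mem_univ _
    obtain ⟨j, yj, hyj, ⟨ej⟩⟩ := hm
    obtain ⟨eij⟩ := key i j yi yj hyj.symm
    exact ⟨eij.trans ej⟩
  refine ⟨M i₀, hM1 i₀, hM2 i₀, {i : I // Nonempty (U i).left}, fun i => U i.1, ?_, ?_⟩
  · intro x
    obtain ⟨i, y, hy⟩ := hU x
    exact ⟨⟨i, ⟨y⟩⟩, y, hy⟩
  · rintro ⟨i, hi⟩
    obtain ⟨αi⟩ := hM3 i
    obtain ⟨e⟩ := hall i hi
    let e' : AddCommGrpCat.of (ULift.{u + 1} (M i)) ≅ AddCommGrpCat.of (ULift.{u + 1} (M i₀)) :=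
      AddEquiv.toAddCommGrpIso ((AddEquiv.ulift.trans e).trans AddEquiv.ulift.symm)
    exact ⟨αi ≪≫ (constantSheaf (X.smallEtaleTopology.over (U i)) AddCommGrpCat.{u + 1}).mapIso e'⟩

end Groth.Agent.S0105
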