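import Mathlib
import Groth.Statements.S0108

set_option autoImplicit false
open CategoryTheory CategoryTheory.Limits AlgebraicGeometry Opposite
universe u
open EtBase

namespace Groth.Agent.S0108

section alg
open Polynomial
variable {R : Type u} [CommRing R] (n : ℕ) (a : Rˣ)

/-- The standard étale pair `(X^n - a, 1)` for `n` and `a` invertible. -/
noncomputable def kummerPair (hn0 : n ≠ 0) (hn : IsUnit (n : R)) : StandardEtalePair R where
  f := X ^ n - C (a : R)
  monic_f := monic_X_pow_sub_C _ hn0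
  g := 1
  cond := by
    obtain ⟨n', hn'⟩ := hn.exists_left_inv
    refine ⟨C (n' * (↑a⁻¹ : R)) * X, - C (↑a⁻¹ : R), 0, ?_⟩
    obtain ⟨m, rfl⟩ := Nat.exists_eq_succ_of_ne_zero hn0
    have h1 : (C (n' * (↑a⁻¹ : R)) : R[X]) * C ((m + 1 : ℕ) : R) = C (↑a⁻¹ : R) := by
      rw [← C_mul, mul_right_comm, hn', one_mul]
    have h2 : (C (↑a⁻¹ : R) : R[X]) * C (a : R) = 1 := by
      rw [← C_mul, Units.inv_mul, C_1]
    simp only [derivative_sub, derivative_X_pow, derivative_C, sub_zero, Nat.succ_sub_one,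
      pow_zero, Nat.succ_eq_add_one]
    calc C ((m + 1 : ℕ) : R) * X ^ m * (C (n' * (↑a⁻¹ : R)) * X) + (X ^ (m + 1) - C ↑a) * -C (↑a⁻¹ : R)
        = (C (n' * (↑a⁻¹ : R)) * C ((m + 1 : ℕ) : R)) * X ^ (m + 1) - C (↑a⁻¹ : R) * X ^ (m + 1)
          + C (↑a⁻¹ : R) * C (a : R) := by ring
      _ = 1 := by rw [h1, h2]; ring

lemma kummerPair_X_pow (hn0 : n ≠ 0) (hn : IsUnit (n : R)) :
    (kummerPair n a hn0 hn).X ^ n = algebraMap R (kummerPair n a hn0 hn).Ring a := by
  have h := (kummerPair n a hn0 hn).hasMap_X.1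
  have hf : (kummerPair n a hn0 hn).f = X ^ n - C (a : R) := rfl
  rw [hf, map_sub, map_pow, aeval_X, aeval_C] at h
  exact sub_eq_zero.mp h

lemma kummerPair_exists_prime (hn0 : n ≠ 0) (hn : IsUnit (n : R)) (p : Ideal R) [p.IsPrime] :
    ∃ q : Ideal (kummerPair n a hn0 hn).Ring, q.IsPrime ∧
      q.comap (algebraMap R (kummerPair n a hn0 hn).Ring) = p := by
  let K := AlgebraicClosure p.ResidueField
  let f : K[X] := X ^ n - C (algebraMap R K a)
  have hdeg : f.degree ≠ 0 := by
    rw [degree_X_pow_sub_C (Nat.pos_of_ne_zero hn0)]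
    exact_mod_cast hn0
  obtain ⟨b, hb⟩ := IsAlgClosed.exists_root f hdeg
  have hmap : (kummerPair n a hn0 hn).HasMap b := by
    have hf : (kummerPair n a hn0 hn).f = X ^ n - C (a : R) := rfl
    have hg : (kummerPair n a hn0 hn).g = 1 := rfl
    refine ⟨?_, ?_⟩
    · rw [hf, map_sub, map_pow, aeval_X, aeval_C]
      simpa [f, IsRoot.def, eval_sub, eval_pow, eval_X, eval_C] using hb
    · rw [hg, map_one]; exact isUnit_one
  let ψ := (kummerPair n a hn0 hn).lift b hmap
  refine ⟨RingHom.ker ψ.toRingHom, RingHom.ker_isPrime _, ?_⟩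
  ext r
  simp only [Ideal.mem_comap, RingHom.mem_ker, AlgHom.toRingHom_eq_coe, RingHom.coe_coe,
    AlgHom.commutes]
  rw [IsScalarTower.algebraMap_apply R p.ResidueField K, map_eq_zero_iff _
    (algebraMap p.ResidueField K).injective, Ideal.algebraMap_residueField_eq_zero]

end alg

set_option backward.isDefEq.respectTransparency.types false in
theorem locSurj (S : Scheme.{u}) (n : ℕ) (hn : IsUnit (n : Γ(S, ⊤))) :
    Sheaf.IsLocallySurjective (EtCoh.powMap S n) := by
  constructor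
  intro U a
  have key : ∀ R : Sieve U, (∀ x : U.left, ∃ (Y : S.Etale) (f : Y ⟶ U) (y : Y.left),
        R f ∧ EtCoh.etaleMP f.left ∧ f.left y = x) → R ∈ S.smallEtaleTopology U := by
    intro R h
    have eS : S.smallEtaleTopology =
        (S.smallPretopology (P := EtCoh.etaleMP) (Q := EtCoh.etaleMP)).toGrothendieck :=
      Scheme.smallGrothendieckTopology_eq_toGrothendieck_smallPretopology S le_rfl
    rw [eS]
    exact (Scheme.mem_toGrothendieck_smallPretopology U _).2 h
  apply key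
  intro x
  obtain ⟨W, hW, hxW, -⟩ := exists_isAffineOpen_mem_and_subset
    (X := U.left) (TopologicalSpace.Opens.mem_top x)
  -- the unit
  let a' : (Γ(U.left, ⊤))ˣ := a.down.toMul
  let ρ : Γ(U.left, ⊤) ⟶ Γ(U.left, W) := U.left.presheaf.map (homOfLE le_top).op
  let aW : (Γ(U.left, W))ˣ := Units.map ρ.hom.toMonoidHom a'
  have hnR : IsUnit (n : Γ(U.left, W)) := by
    have := hn.map (U.hom.appTop ≫ ρ).hom
    rwa [map_natCast] at this
  have : Nonempty W := ⟨⟨x, hxW⟩⟩
  have : Nontrivial Γ(U.left, W) := inferInstance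
  have hn0 : n ≠ 0 := by
    rintro rfl
    rw [Nat.cast_zero] at hnR
    exact not_isUnit_zero hnR
  let P := kummerPair n aW hn0 hnR
  let B : CommRingCat.{u} := CommRingCat.of P.Ring
  let φ : Γ(U.left, W) ⟶ B := CommRingCat.ofHom (algebraMap Γ(U.left, W) P.Ring)
  have hφ : Etale (Spec.map φ) := by
    rw [HasRingHomProperty.Spec_iff (P := @Etale.{u})]
    show (algebraMap Γ(U.left, W) P.Ring).Etale
    rw [RingHom.etale_algebraMap]
    infer_instance
  let f₀ : Spec B ⟶ U.left := Spec.map φ ≫ hW.fromSpec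
  have hf₀ : Etale f₀ := inferInstance
  let Y : S.Etale := Scheme.Etale.mk (f₀ ≫ U.hom)
  let g : Y ⟶ U := MorphismProperty.Over.homMk f₀ rfl
  -- the point
  obtain ⟨q, hq, hqp⟩ := kummerPair_exists_prime n aW hn0 hnR (hW.primeIdealOf ⟨x, hxW⟩).asIdeal
  let y : Spec B := ⟨q, hq⟩
  refine ⟨Y, g, y, ?_, hf₀, ?_⟩
  · have hXpow := kummerPair_X_pow n aW hn0 hnR
    have hXunit : IsUnit P.X := by
      have : IsUnit (P.X ^ n) := by rw [hXpow]; exact aW.isUnit.map _
      exact (isUnit_pow_iff hn0).mp this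
    let tB : (Γ(Spec B, ⊤))ˣ := Units.map (Scheme.ΓSpecIso B).inv.hom.toMonoidHom hXunit.unit
    refine ⟨ULift.up (Additive.ofMul tB), ?_⟩
    have hcomp : f₀.appTop = ρ ≫ φ ≫ (Scheme.ΓSpecIso B).inv := by
      show (Spec.map φ ≫ hW.fromSpec).appTop = _
      rw [Scheme.Hom.comp_appTop, Scheme.ΓSpecIso_inv_naturality]
      show hW.fromSpec.app ⊤ ≫ _ = _
      rw [hW.fromSpec_app_of_le ⊤ le_top]
      simp only [Category.assoc]
      congr 2
    apply ULift.ext
    apply Additive.toMul.injective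
    apply Units.ext
    show (tB ^ n).val = f₀.appTop.hom a'.val
    rw [hcomp]
    show ((Scheme.ΓSpecIso B).inv.hom P.X) ^ n =
      (Scheme.ΓSpecIso B).inv.hom (algebraMap Γ(U.left, W) P.Ring aW.val)
    rw [← hXpow, map_pow]
  · show hW.fromSpec (Spec.map φ y) = x
    have h1 : Spec.map φ y = hW.primeIdealOf ⟨x, hxW⟩ := by
      rw [Spec.map_apply]
      exact PrimeSpectrum.ext hqp
    rw [h1, hW.fromSpec_primeIdealOf]

theorem result (S : Scheme.{u}) (n : ℕ) (hn : IsUnit (n : Γ(S, ⊤))) : Epi (EtCoh.powMap S n) := by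
  have := locSurj S n hn
  infer_instance

end Groth.Agent.S0108
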