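import Groth.Statements.S0116
import Mathlib.AlgebraicGeometry.Morphisms.UniversallyOpen
import Mathlib.RingTheory.Finiteness.Descent
import Mathlib.RingTheory.Flat.FaithfullyFlat.Algebra
import Mathlib.AlgebraicGeometry.PullbackCarrier
-- import your own Groth.Agent.* helpers here

set_option autoImplicit false
open CategoryTheory CategoryTheory.Limits AlgebraicGeometry Opposite
universe u
open EtBase

namespace Groth.Agent.S0116

open CategoryTheory AlgebraicGeometry Limits

/-- ring-level descent of the Noetherian property -/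
theorem noeth_of_faithfullyFlat {A B : Type u} [CommRing A] [CommRing B] (φ : A →+* B)
    (hfl : φ.Flat) (hsurj : Function.Surjective (PrimeSpectrum.comap φ)) [IsNoetherianRing B] :
    IsNoetherianRing A := by
  algebraize [φ]
  have : Module.FaithfullyFlat A B := Module.FaithfullyFlat.of_comap_surjective hsurj
  rw [isNoetherianRing_iff_ideal_fg]
  intro I
  apply Ideal.FG.of_FG_map_of_faithfullyFlat (S := B)
  exact (isNoetherianRing_iff_ideal_fg B).1 inferInstance _


theorem affine_case (A : CommRingCat.{u}) {X : Scheme.{u}} (f : X ⟶ Spec A) [Surjective f] [Flat f]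
    [LocallyOfFinitePresentation f] [IsLocallyNoetherian X] : IsNoetherianRing A := by
  classical
  let 𝒰 := X.affineCover
  have hopen : IsOpenMap f := f.isOpenMap
  choose xx hxx using f.surjective
  let V : Spec A → Set (Spec A) := fun y => f '' Set.range (𝒰.f (𝒰.idx (xx y)))
  have hV : ∀ y, IsOpen (V y) := fun y => hopen _ (𝒰.f _).isOpenEmbedding.isOpen_range
  have hmem : ∀ y, y ∈ V y := fun y => ⟨xx y, 𝒰.covers (xx y), hxx y⟩
  obtain ⟨t, ht⟩ := isCompact_univ.elim_finite_subcover V hV
    (fun y _ => Set.mem_iUnion.2 ⟨y, hmem y⟩)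
  let W : ↥t → Scheme.{u} := fun y => 𝒰.X (𝒰.idx (xx y.1))
  let g : ∀ y : ↥t, W y ⟶ X := fun y => 𝒰.f (𝒰.idx (xx y.1))
  let Z : Scheme.{u} := ∐ W
  let p : Z ⟶ X := Sigma.desc g
  have hZaff : IsAffine Z := inferInstance
  have hZn : IsLocallyNoetherian Z := by
    rw [isLocallyNoetherian_iff_openCover (sigmaOpenCover W)]
    intro i
    show IsLocallyNoetherian (W i)
    infer_instance
  have hflat : Flat (p ≫ f) := inferInstance
  have hsurj : Surjective (p ≫ f) := ⟨by
    intro y
    have := ht (Set.mem_univ y)
    simp only [Set.mem_iUnion] at this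
    obtain ⟨y0, hy0, x, ⟨w, rfl⟩, rfl⟩ := this
    refine ⟨Sigma.ι W ⟨y0, hy0⟩ w, ?_⟩
    have h1 : Sigma.ι W ⟨y0, hy0⟩ ≫ p ≫ f = g ⟨y0, hy0⟩ ≫ f := by
      rw [← Category.assoc, Sigma.ι_desc]
    have h2 := congrArg (fun q => q.base w) h1
    simpa using h2⟩
  let h : Spec Γ(Z, ⊤) ⟶ Spec A := Z.isoSpec.inv ≫ p ≫ f
  obtain ⟨φ, hφ⟩ := Spec.map_surjective h
  have hφflat : φ.hom.Flat := by
    rw [← HasRingHomProperty.Spec_iff (P := @Flat), hφ]; infer_instance
  have hφsurj : Function.Surjective (PrimeSpectrum.comap φ.hom) := by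
    have : Surjective (Spec.map φ) := by rw [hφ]; infer_instance
    exact (surjective_iff (Spec.map φ)).mp this
  have : IsNoetherianRing Γ(Z, ⊤) :=
    IsLocallyNoetherian.component_noetherian ⟨⊤, isAffineOpen_top Z⟩
  exact noeth_of_faithfullyFlat φ.hom hφflat hφsurj


theorem general {X Y : Scheme.{u}} (f : X ⟶ Y) [Surjective f] [Flat f] [LocallyOfFinitePresentation f]
    [IsLocallyNoetherian X] : IsLocallyNoetherian Y := by
  rw [isLocallyNoetherian_iff_of_affine_openCover Y.affineCover]
  intro i
  let 𝒰 := Y.affineCover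
  have h1 : IsLocallyNoetherian (pullback f (𝒰.f i)) :=
    isLocallyNoetherian_of_isOpenImmersion (pullback.fst f (𝒰.f i))
  let q : pullback f (𝒰.f i) ⟶ Spec Γ(𝒰.X i, ⊤) := pullback.snd f (𝒰.f i) ≫ (𝒰.X i).isoSpec.hom
  exact affine_case _ q


/-- If f : X → Y is surjective, flat and locally of finite presentation and X is locally Noetherian,
then Y is locally Noetherian. (This is the descent half of the statement that, for such f, X is
locally Noetherian if and only if Y is; the ascent half is the fact that a scheme locally of finite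
type over a locally Noetherian scheme is locally Noetherian, and is not stated here.) -/
theorem result {X Y : Scheme.{u}} (f : X ⟶ Y) [Surjective f] [Flat f] [LocallyOfFinitePresentation f]
    [IsLocallyNoetherian X] : IsLocallyNoetherian Y := general f

end Groth.Agent.S0116
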