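import Groth.Statements.S0125
import Groth.Agent.Lib.Helper47.EtRpushTors
-- import your own Groth.Agent.* helpers here

set_option autoImplicit false
universe u
open CategoryTheory CategoryTheory.Limits AlgebraicGeometry Opposite
open EtPBC

namespace Groth.Agent.S0125

open Groth.Agent.Lib.Helper47.EtQc

lemma locKilled_of_isTorsion {X : Scheme.{u}} (F : EtCoh.Ab X) (hF : EtCoh.IsTorsion F) :
    LocKilled Nat.factorial F := by
  intro U s x
  obtain ⟨V, g, hv, hs⟩ := hF U s x
  obtain ⟨n, hn, hns⟩ := isOfFinAddOrder_iff_nsmul_eq_zero.1 hs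
  obtain ⟨c, hc⟩ := Nat.dvd_factorial hn le_rfl
  exact ⟨V, g, n, hv, by rw [hc, mul_nsmul, hns, smul_zero]⟩

lemma isTorsion_of_locKilled {X : Scheme.{u}} (F : EtCoh.Ab X) (hF : LocKilled Nat.factorial F) :
    EtCoh.IsTorsion F := by
  intro U s x
  obtain ⟨V, g, k, hv, hs⟩ := hF U s x
  exact ⟨V, g, hv, isOfFinAddOrder_iff_nsmul_eq_zero.2 ⟨k.factorial, Nat.factorial_pos k, hs⟩⟩



/-- Part (1): for f : X -> Y quasi-compact and quasi-separated and F a torsion abelian sheaf on X_et,
each R^n f_* F is a torsion abelian sheaf on Y_et. -/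
theorem result {X Y : Scheme.{u}} (f : X ⟶ Y) [QuasiCompact f] [QuasiSeparated f]
    [EtCoh.BCCont f] (F : EtCoh.Ab X) (hF : EtCoh.IsTorsion F) (n : ℕ) :
    EtCoh.IsTorsion ((EtCoh.Rpush f n).obj F) := by
  exact isTorsion_of_locKilled _ (locKilled_Rpush f Nat.factorial
    (fun k => Nat.factorial_dvd_factorial (Nat.le_succ k)) F (locKilled_of_isTorsion F hF) n)

end Groth.Agent.S0125
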