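import Groth.Statements.S0128
import Groth.Agent.Lib.Cohomology.Helper3_Constr2
-- import your own Groth.Agent.* helpers here

set_option autoImplicit false
universe u
open CategoryTheory CategoryTheory.Limits AlgebraicGeometry Opposite
open EtPBC

namespace Groth.Agent.S0128

/-- (1) iff (3), abelian case: for X quasi-compact and quasi-separated, F is constructible iff X itself
admits a finite partition into constructible locally closed strata along which F becomes finite
locally constant. -/
theorem result (X : Scheme.{u}) [CompactSpace X] [QuasiSeparatedSpace X]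
    (F : EtCoh.Ab X) :
    EtPBC.IsConstructible F ↔ EtPBC.AdaptedStrata F (Set.univ : Set X) := by
  constructor
  · intro hF
    haveI : QuasiSeparatedSpace (Set.univ : Set X) :=
      (isQuasiSeparated_iff_quasiSeparatedSpace Set.univ isOpen_univ).1 isQuasiSeparated_univ
    obtain ⟨κ, hκ, W, hWaff, -, hWcov⟩ :=
      Groth.Agent.Lib.Cohomology.Constr.exists_finite_affine_cover (⊤ : X.Opens)
        (by rw [TopologicalSpace.Opens.coe_top]; exact isCompact_univ)
        (fun _ => True) (by
          intro x hx
          obtain ⟨_, ⟨V, hVaff, rfl⟩, hxV, -⟩ := X.isBasis_affineOpens.exists_subset_of_mem_open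
            (Set.mem_univ x) isOpen_univ
          exact ⟨V, hVaff, hxV, le_top, trivial⟩)
    rw [TopologicalSpace.Opens.coe_top] at hWcov
    exact Groth.Agent.Lib.Cohomology.Constr.adaptedStrata_glue' F Set.univ W
      (fun k => (hWaff k).isCompact) hWcov (fun k => hF (W k) (hWaff k))
  · intro h U hU
    exact Groth.Agent.Lib.Cohomology.Constr.adaptedStrata_restrict_open F U (Set.subset_univ _) h

end Groth.Agent.S0128
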