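import Groth.Statements.S0129
import Groth.Agent.Lib.Cohomology.Helper3_Constr2
-- import your own Groth.Agent.* helpers here

set_option autoImplicit false
universe u
open CategoryTheory CategoryTheory.Limits AlgebraicGeometry Opposite
open EtPBC

namespace Groth.Agent.S0129

/-- Abelian case: if X is covered by opens U_i and the restriction of F to each U_i is constructible,
then F is constructible. -/
theorem result {X : Scheme.{u}} (F : EtCoh.Ab X) {ι : Type u} (U : ι → X.Opens)
    (hU : ⨆ i, U i = ⊤) [∀ i, EtCoh.BCCont (U i).ι]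
    (h : ∀ i, EtPBC.IsConstructible ((EtCoh.pull (U i).ι).obj F)) :
    EtPBC.IsConstructible F := by
  intro A hA
  haveI := Groth.Agent.Lib.Cohomology.Constr.quasiSeparatedSpace_of_isAffineOpen hA
  obtain ⟨κ, hκ, W, hWaff, hWP, hWcov⟩ :=
    Groth.Agent.Lib.Cohomology.Constr.exists_finite_affine_cover A hA.isCompact
      (fun V => ∃ i, V ≤ U i) (by
        intro x hx
        have hx' : x ∈ (⨆ i, U i : X.Opens) := by rw [hU]; trivial
        obtain ⟨i, hi⟩ := TopologicalSpace.Opens.mem_iSup.1 hx'
        obtain ⟨_, ⟨V, hVaff, rfl⟩, hxV, hVsub⟩ := X.isBasis_affineOpens.exists_subset_of_mem_open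
          (show x ∈ ((A ⊓ U i : X.Opens) : Set X) from ⟨hx, hi⟩) (A ⊓ U i).2
        exact ⟨V, hVaff, hxV, fun y hy => (hVsub hy).1, i, fun y hy => (hVsub hy).2⟩)
  refine Groth.Agent.Lib.Cohomology.Constr.adaptedStrata_glue' F (A : Set X) W
    (fun k => (hWaff k).isCompact) hWcov (fun k => ?_)
  obtain ⟨i, hi⟩ := hWP k
  exact Groth.Agent.Lib.Cohomology.Constr.adaptedStrata_of_open F (U i) (W k) (hWaff k) hi (h i)

end Groth.Agent.S0129
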