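import Groth.Statements.S0130
import Groth.Agent.Lib.Cohomology.Helper3_Constr3
-- import your own Groth.Agent.* helpers here

set_option autoImplicit false
universe u
open CategoryTheory CategoryTheory.Limits AlgebraicGeometry Opposite
open EtPBC

namespace Groth.Agent.S0130

/-- Abelian case: X quasi-compact and quasi-separated, T_i -> X immersions with constructible images
covering X, and F pulled back to each T_i constructible; then F is constructible. -/
theorem result (X : Scheme.{u}) [CompactSpace X] [QuasiSeparatedSpace X]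
    (F : EtCoh.Ab X) {ι : Type u} (T : ι → Scheme.{u}) (g : ∀ i, T i ⟶ X) [∀ i, IsImmersion (g i)]
    [∀ i, EtCoh.BCCont (g i)]
    (hc : ∀ i, Topology.IsConstructible (Set.range (g i)))
    (hcov : (⋃ i, Set.range (g i)) = Set.univ)
    (h : ∀ i, EtPBC.IsConstructible ((EtCoh.pull (g i)).obj F)) :
    EtPBC.IsConstructible F := by
  classical
  obtain ⟨t, ht⟩ := Groth.Agent.Lib.Cohomology.ConstrTop.exists_finite_subcover
    (fun i => Set.range (g i)) hc hcov
  have hstrata : ∀ i, EtPBC.AdaptedStrata ((EtCoh.pull (g i)).obj F) (Set.univ : Set (T i)) := by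
    intro i
    haveI : CompactSpace (T i) := by
      rw [← isCompact_univ_iff, (g i).isEmbedding.isCompact_iff, Set.image_univ]
      exact Groth.Agent.Lib.Cohomology.ConstrTop.isCompact_of_isConstructible (hc i)
    haveI : QuasiSeparatedSpace (T i) := quasiSeparatedSpace_of_quasiSeparated (g i)
    exact Groth.Agent.Lib.Cohomology.Constr.adaptedStrata_univ_of_isConstructible _ (h i)
  choose n TT gg himm hcons hdisj hun hflc using hstrata
  haveI := himm
  have hrange : ∀ (i : ι) (j : Fin (n i)), Set.range (gg i j ≫ g i) =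
      (g i : T i → X) '' Set.range (gg i j) := fun i j => by
    rw [Scheme.Hom.comp_base, TopCat.coe_comp, Set.range_comp]
  refine Groth.Agent.Lib.Cohomology.Constr.isConstructible_of_adaptedStrata_univ F
    (Groth.Agent.Lib.Cohomology.Constr.adaptedStrata_univ_of_cover F
      (κ := Σ i : ↥t, Fin (n i.1)) (fun a => TT a.1.1 a.2) (fun a => gg a.1.1 a.2 ≫ g a.1.1)
      (fun a => inferInstance) (fun a => ?_) ?_ (fun a => ?_))
  · rw [hrange]
    exact Groth.Agent.Lib.Cohomology.ConstrTop.isConstructible_image_of_isEmbedding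
      (g a.1.1).isEmbedding (hc a.1.1)
      (Groth.Agent.Lib.Cohomology.Constr.isConstructible_of_preimage_val_univ (hcons a.1.1 a.2))
  · apply Set.eq_univ_of_forall
    intro x
    have hx : x ∈ ⋃ i ∈ t, Set.range (g i) := by rw [ht]; trivial
    obtain ⟨i, hi, y, rfl⟩ := Set.mem_iUnion₂.1 hx
    have hy : y ∈ ⋃ j, Set.range (gg i j) := by rw [hun i]; trivial
    obtain ⟨j, z, rfl⟩ := Set.mem_iUnion.1 hy
    refine Set.mem_iUnion.2 ⟨⟨⟨i, hi⟩, j⟩, ?_⟩
    rw [hrange]
    exact ⟨_, ⟨z, rfl⟩, rfl⟩
  · exact Groth.Agent.Lib.Cohomology.Constr.isFLC_of_iso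
      ((EtCore.pullComp (gg a.1.1 a.2) (g a.1.1)).app F).symm (hflc a.1.1 a.2)

end Groth.Agent.S0130
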