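import Groth.Statements.S0131
import Groth.Agent.Lib.Cohomology.Helper3_Constr
-- import your own Groth.Agent.* helpers here

set_option autoImplicit false
universe u
open CategoryTheory CategoryTheory.Limits AlgebraicGeometry Opposite
open EtPBC

namespace Groth.Agent.S0131

/-- Part (3): with Λ = Z/n: for a morphism of constructible abelian sheaves on X_et both killed by n > 0
(that is, a map of constructible sheaves of Z/n-modules), kernel and cokernel are constructible.
(The source writes the proof for modules over a Noetherian ring; the plain abelian case (2) is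
marked omitted there, hence the n-torsion hypotheses.) -/
theorem result {X : Scheme.{u}} {F G : EtCoh.Ab X} (φ : F ⟶ G)
    (n : ℕ) (hn : 0 < n) (hFn : EtCoh.KilledBy n F) (hGn : EtCoh.KilledBy n G)
    (hF : EtPBC.IsConstructible F) (hG : EtPBC.IsConstructible G) :
    EtPBC.IsConstructible (kernel φ) ∧ EtPBC.IsConstructible (cokernel φ) := by
  have key : ∀ U : X.Opens, IsAffineOpen U →
      EtPBC.AdaptedStrata (kernel φ) (U : Set X) ∧ EtPBC.AdaptedStrata (cokernel φ) (U : Set X) := by
    intro U hU
    obtain ⟨k, T, g, himm, hcons, hdisj, hun, hflc⟩ :=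
      Groth.Agent.Lib.Cohomology.Constr.adaptedStrata_common (hF U hU) (hG U hU)
    have h2 : ∀ i, EtCoh.IsFiniteLocallyConstant ((EtCoh.pull (g i)).obj (kernel φ)) ∧
        EtCoh.IsFiniteLocallyConstant ((EtCoh.pull (g i)).obj (cokernel φ)) := by
      intro i
      have h3 := Groth.Agent.Lib.Cohomology.LocConst.isFLC_kernel_cokernel
        ((EtCoh.pull (g i)).map φ) (hflc i).1 (hflc i).2
      exact ⟨Groth.Agent.Lib.Cohomology.Constr.isFLC_of_iso
          (PreservesKernel.iso (EtCoh.pull (g i)) φ).symm h3.1,
        Groth.Agent.Lib.Cohomology.Constr.isFLC_of_iso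
          (PreservesCokernel.iso (EtCoh.pull (g i)) φ).symm h3.2⟩
    exact ⟨⟨k, T, g, himm, hcons, hdisj, hun, fun i _ => (h2 i).1⟩,
      ⟨k, T, g, himm, hcons, hdisj, hun, fun i _ => (h2 i).2⟩⟩
  exact ⟨fun U hU => (key U hU).1, fun U hU => (key U hU).2⟩

end Groth.Agent.S0131
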