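import Groth.Statements.S0142
import Groth.Agent.Lib.Cohomology.Helper3_ChainStab
-- import your own Groth.Agent.* helpers here

set_option autoImplicit false
universe u
open CategoryTheory CategoryTheory.Limits AlgebraicGeometry Opposite
open EtPBC

namespace Groth.Agent.S0142

/-- For X Noetherian and F a constructible abelian sheaf on X_et, every increasing sequence of
subsheaves F_1 ⊆ F_2 ⊆ ... ⊆ F is eventually constant. -/
theorem result (X : Scheme.{u}) [IsNoetherian X]
    (F : EtCoh.Ab X) (hF : EtPBC.IsConstructible F) (c : ℕ →o Subobject F) :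
    ∃ N, ∀ m, N ≤ m → c m = c N := by
  classical
  let inc : ∀ k l, k ≤ l → ((c k : EtCoh.Ab X) ⟶ (c l : EtCoh.Ab X)) :=
    fun k l h => (c k).ofLE (c l) (c.monotone h)
  have hinc_comp : ∀ k l m (h1 : k ≤ l) (h2 : l ≤ m),
      inc k l h1 ≫ inc l m h2 = inc k m (h1.trans h2) :=
    fun k l m h1 h2 => Subobject.ofLE_comp_ofLE _ _ _ _ _
  have hinc_arrow : ∀ k l (h : k ≤ l), inc k l h ≫ (c l).arrow = (c k).arrow :=
    fun k l h => Subobject.ofLE_arrow _
  have hinc_mono : ∀ k l (h : k ≤ l), Mono (inc k l h) := fun k l h =>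
    mono_of_mono_fac (hinc_arrow k l h)
  let IsoOn : Set X → ∀ k l, k ≤ l → Prop := fun Z k l h =>
    ∀ (Ω : Type u) [Field Ω] [IsSepClosed Ω] (ξ : Spec (CommRingCat.of Ω) ⟶ X),
      ξ.base default ∈ Z → IsIso ((EtCoh.stalk ξ).map (inc k l h))
  let P : Set X → Prop := fun Z => ∃ N, ∀ m (hm : N ≤ m), IsoOn Z N m hm
  -- union
  have hunion : ∀ Z Z₁ Z₂ : Set X, Z ⊆ Z₁ ∪ Z₂ → P Z₁ → P Z₂ → P Z := by
    rintro Z Z₁ Z₂ hsub ⟨N₁, h₁⟩ ⟨N₂, h₂⟩
    refine ⟨max N₁ N₂, fun m hm Ω _ _ ξ hξ => ?_⟩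
    have key : ∀ N' (hN' : N' ≤ max N₁ N₂),
        IsIso ((EtCoh.stalk ξ).map (inc N' (max N₁ N₂) hN')) →
        IsIso ((EtCoh.stalk ξ).map (inc N' m (hN'.trans hm))) →
        IsIso ((EtCoh.stalk ξ).map (inc (max N₁ N₂) m hm)) := by
      intro N' hN' i1 i2
      have e : (EtCoh.stalk ξ).map (inc N' m (hN'.trans hm)) =
          (EtCoh.stalk ξ).map (inc N' _ hN') ≫ (EtCoh.stalk ξ).map (inc _ m hm) := by
        rw [← Functor.map_comp, hinc_comp _ _ _ hN' hm]
      rw [e] at i2
      exact IsIso.of_isIso_comp_left ((EtCoh.stalk ξ).map (inc N' _ hN')) _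
    rcases hsub hξ with h | h
    · exact key N₁ (le_max_left _ _) (h₁ _ (le_max_left _ _) Ω ξ h)
        (h₁ _ ((le_max_left _ _).trans hm) Ω ξ h)
    · exact key N₂ (le_max_right _ _) (h₂ _ (le_max_right _ _) Ω ξ h)
        (h₂ _ ((le_max_right _ _).trans hm) Ω ξ h)
  have hP : ∀ Z : TopologicalSpace.Closeds X, P (Z : Set X) := by
    intro Z
    refine WellFoundedLT.induction (motive := fun Z : TopologicalSpace.Closeds X => P (Z : Set X)) Z
      (fun Z IH => ?_)
    by_cases hirr : IsIrreducible (Z : Set X)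
    · -- the generic point
      let x := hirr.genericPoint
      have hx : closure {x} = (Z : Set X) := hirr.isGenericPoint_genericPoint Z.isClosed
      obtain ⟨V, T, g, himm, hxV, hrange, hflc⟩ :=
        Groth.Agent.Lib.Cohomology.Constr.exists_flc_on_closure_of_isConstructible F hF x
      haveI := himm
      haveI : IsLocallyNoetherian T := LocallyOfFiniteType.isLocallyNoetherian g
      have hxr : x ∈ Set.range g := by rw [hrange]; exact ⟨hxV, subset_closure rfl⟩
      obtain ⟨t₀, ht₀⟩ := hxr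
      have hdense : ∀ O : Set T, IsOpen O → O.Nonempty → t₀ ∈ O := by
        rintro O hO ⟨y, hy⟩
        obtain ⟨Q, hQ, rfl⟩ := g.isEmbedding.isInducing.isOpen_iff.1 hO
        have hgy : g y ∈ closure {x} := by
          have : g y ∈ Set.range g := ⟨y, rfl⟩
          rw [hrange] at this
          exact this.2
        obtain ⟨z, hzQ, hz⟩ := mem_closure_iff.1 hgy Q hQ hy
        rw [Set.mem_singleton_iff] at hz
        subst hz
        change g t₀ ∈ Q
        rw [ht₀]
        exact hzQ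
      haveI : ∀ k, Mono ((EtCoh.pull g).map (c k).arrow) := fun k => inferInstance
      obtain ⟨N₀, U₀, u₀, hstab⟩ := Groth.Agent.Lib.Cohomology.ChainStab.exists_stab
        (fun k => (EtCoh.pull g).obj (c k : EtCoh.Ab X))
        (fun k => (EtCoh.pull g).map (c k).arrow)
        (fun k l h => (EtCoh.pull g).map (inc k l h))
        (fun k l h => by rw [← Functor.map_comp, hinc_arrow k l h]) t₀ hflc
      have hopenU₀ : IsOpen (Set.range U₀.hom.base) :=
        (Groth.Agent.Lib.Cohomology.SubConst.isOpenMap_of_etale U₀.hom).isOpen_range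
      obtain ⟨Q, hQ, hQU₀⟩ := g.isEmbedding.isInducing.isOpen_iff.1 hopenU₀
      have ht₀U : t₀ ∈ Set.range U₀.hom.base := hdense _ hopenU₀ ⟨_, u₀, rfl⟩
      have hxQ : x ∈ Q := by
        rw [← hQU₀] at ht₀U
        rw [← ht₀]
        exact ht₀U
      let Z' : TopologicalSpace.Closeds X := Z ⊓ ⟨(Q ∩ V)ᶜ, (hQ.inter V.2).isClosed_compl⟩
      have hxZ : x ∈ (Z : Set X) := by rw [← hx]; exact subset_closure rfl
      have hZ'lt : Z' < Z := SetLike.lt_iff_le_and_exists.2
        ⟨inf_le_left, x, hxZ, fun h => h.2 ⟨hxQ, hxV⟩⟩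
      have hPZ' := IH Z' hZ'lt
      have hPO : P ((Z : Set X) ∩ (Q ∩ V)) := by
        refine ⟨N₀, fun m hm Ω _ _ ξ hξ => ?_⟩
        have hr : ξ.base default ∈ Set.range g.base := by
          have : ξ.base default ∈ (V : Set X) ∩ closure {x} := by
            rw [hx]; exact ⟨hξ.2.2, hξ.1⟩
          rw [← hrange] at this
          exact this
        obtain ⟨ζ, hζ⟩ := Groth.Agent.Lib.Cohomology.ChainStab.exists_lift_immersion g ξ hr
        subst hζ
        rw [← Groth.Agent.Lib.Cohomology.ChainStab.isIso_stalk_pull_iff]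
        have hζU : ζ.base default ∈ Set.range U₀.hom.base := by
          rw [← hQU₀]
          exact hξ.2.1
        obtain ⟨u, hu⟩ := hζU
        obtain ⟨l, hl1, hl2⟩ := Scheme.exists_fac_of_etale_of_isSepClosed U₀.hom ζ u hu
        let x₀ : (Scheme.pointSmallEtale ζ).fiber.obj U₀ := Over.homMk l hl1
        have hsurj := Groth.Agent.Lib.Cohomology.ChainStab.stalk_surjective_of_locSurjOver _
          (hstab m hm) ζ x₀
        haveI := hinc_mono N₀ m hm
        haveI : Mono ((EtCoh.pull g).map (inc N₀ m hm)) := inferInstance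
        have hinj := (Groth.Agent.Lib.Helper70.StalkCons.mono_iff_stalk_injective
          ((EtCoh.pull g).map (inc N₀ m hm))).1 inferInstance Ω ζ
        exact (ConcreteCategory.isIso_iff_bijective _).2 ⟨hinj, hsurj⟩
      refine hunion _ _ _ ?_ hPZ' hPO
      intro z hz
      by_cases h : z ∈ Q ∩ V
      · exact Or.inr ⟨hz, h⟩
      · exact Or.inl ⟨hz, h⟩
    · by_cases hne : (Z : Set X).Nonempty
      · have hnp : ¬ IsPreirreducible (Z : Set X) := fun h => hirr ⟨hne, h⟩
        unfold IsPreirreducible at hnp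
        push_neg at hnp
        obtain ⟨u', v', hu', hv', ⟨zu, hzu⟩, ⟨zv, hzv⟩, hemp⟩ := hnp
        let Z₁ : TopologicalSpace.Closeds X := Z ⊓ ⟨u'ᶜ, hu'.isClosed_compl⟩
        let Z₂ : TopologicalSpace.Closeds X := Z ⊓ ⟨v'ᶜ, hv'.isClosed_compl⟩
        have h1 : Z₁ < Z := SetLike.lt_iff_le_and_exists.2
          ⟨inf_le_left, zu, hzu.1, fun h => h.2 hzu.2⟩
        have h2 : Z₂ < Z := SetLike.lt_iff_le_and_exists.2
          ⟨inf_le_left, zv, hzv.1, fun h => h.2 hzv.2⟩
        refine hunion _ _ _ ?_ (IH Z₁ h1) (IH Z₂ h2)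
        intro z hz
        by_cases hzu' : z ∈ u'
        · by_cases hzv' : z ∈ v'
          · have : z ∈ (Z : Set X) ∩ (u' ∩ v') := ⟨hz, hzu', hzv'⟩
            rw [hemp] at this
            exact absurd this (Set.notMem_empty z)
          · exact Or.inr ⟨hz, hzv'⟩
        · exact Or.inl ⟨hz, hzu'⟩
      · refine ⟨0, fun m hm Ω _ _ ξ hξ => ?_⟩
        exact absurd ⟨_, hξ⟩ hne
  obtain ⟨N, hN⟩ := hP ⊤
  refine ⟨N, fun m hm => ?_⟩
  have hbij : ∀ (Ω : Type u) [Field Ω] [IsSepClosed Ω] (ξ : Spec (CommRingCat.of Ω) ⟶ X),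
      Function.Bijective ((EtCoh.stalk ξ).map (inc N m hm)) := fun Ω _ _ ξ =>
    (ConcreteCategory.isIso_iff_bijective _).1 (hN m hm Ω ξ trivial)
  haveI : Mono (inc N m hm) := hinc_mono N m hm
  haveI : Epi (inc N m hm) :=
    (Groth.Agent.Lib.Helper70.StalkCons.epi_iff_stalk_surjective _).2
      (fun Ω _ _ ξ => (hbij Ω ξ).2)
  haveI : IsIso (inc N m hm) := isIso_of_mono_of_epi _
  exact le_antisymm (Subobject.le_of_comm (inv (inc N m hm))
    (by rw [IsIso.inv_comp_eq, hinc_arrow N m hm])) (c.monotone hm)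

end Groth.Agent.S0142
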