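import Groth.Statements.S0152
import Mathlib
import Groth.Agent.Lib.Helper38.Spectral
-- import your own Groth.Agent.* helpers here

set_option autoImplicit false
universe u
open EtPBC

namespace Groth.Agent.S0152

open Topology Groth.Agent.Lib.Helper38.Spec in
/-- separating a closed set from a point none of whose specializations lie in it, by a compact open -/
theorem exists_compact_open (X : Type u) [TopologicalSpace X] [SpectralSpace X]
    (W : Set X) (hW : IsClosed W) (y : X) (hy : Disjoint (closure {y}) W) :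
    ∃ U : Set X, IsOpen U ∧ IsCompact U ∧ W ⊆ U ∧ y ∉ U := by
  classical
  have hb := PrespectralSpace.isTopologicalBasis (X := X)
  have hex : ∀ z : W, ∃ U : Set X, (IsOpen U ∧ IsCompact U) ∧ (z : X) ∈ U ∧ U ⊆ (closure {y})ᶜ := by
    intro z
    have hz : (z : X) ∈ (closure {y})ᶜ := fun h => (Set.disjoint_left.mp hy) h z.2
    exact hb.exists_subset_of_mem_open hz isClosed_closure.isOpen_compl
  choose U hU hzU hUsub using hex
  obtain ⟨t, ht⟩ := hW.isCompact.elim_finite_subcover U (fun z => (hU z).1)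
    (fun z hz => Set.mem_iUnion.mpr ⟨⟨z, hz⟩, hzU ⟨z, hz⟩⟩)
  refine ⟨⋃ z ∈ t, U z, isOpen_biUnion (fun z _ => (hU z).1),
    t.isCompact_biUnion (fun z _ => (hU z).2), ht, ?_⟩
  intro hy'
  simp only [Set.mem_iUnion] at hy'
  obtain ⟨z, _, hyz⟩ := hy'
  exact hUsub z hyz (subset_closure rfl)

open Topology Groth.Agent.Lib.Helper38.Spec in
/-- the set of generalizations of a closed set in a spectral space is closed in the
constructible topology -/
theorem isClosed_ct_gen (X : Type u) [TopologicalSpace X] [SpectralSpace X]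
    (W : Set X) (hW : IsClosed W) :
    IsClosed[constructibleTopology X] {x : X | (closure {x} ∩ W).Nonempty} := by
  have heq : {x : X | (closure {x} ∩ W).Nonempty} =
      ⋂₀ {U : Set X | IsOpen U ∧ IsCompact U ∧ W ⊆ U} := by
    ext x
    simp only [Set.mem_ofPred_eq, Set.mem_sInter]
    constructor
    · rintro ⟨z, hz1, hz2⟩ U ⟨hUo, -, hWU⟩
      have hsp : x ⤳ z := specializes_iff_mem_closure.mpr hz1
      exact hsp.mem_open hUo (hWU hz2)
    · intro h
      by_contra hcon
      rw [Set.not_nonempty_iff_eq_empty, ← Set.disjoint_iff_inter_eq_empty] at hcon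
      obtain ⟨U, hUo, hUc, hWU, hxU⟩ := exists_compact_open X W hW x hcon
      exact hxU (h U ⟨hUo, hUc, hWU⟩)
  rw [heq]
  exact @isClosed_sInter X (constructibleTopology X) _
    (fun U hU => isClosed_ct_of_isCompact_isOpen hU.2.1 hU.1)


/-- Let X be a spectral space and Z a closed subset such that Z meets the closure of every point of X in
a connected (nonempty) set. If Z is the disjoint union of two closed subsets Z_1, Z_2 then X is the
disjoint union of closed subsets X_1, X_2 with Z_i = Z ∩ X_i. -/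
theorem result (X : Type u) [TopologicalSpace X] [SpectralSpace X]
    (Z : Set X) (hZ : IsClosed Z)
    (hconn : ∀ x : X, IsConnected (Z ∩ closure {x}))
    (Z₁ Z₂ : Set X) (h₁ : IsClosed Z₁) (h₂ : IsClosed Z₂) (hdisj : Disjoint Z₁ Z₂) (hunion : Z₁ ∪ Z₂ = Z) :
    ∃ X₁ X₂ : Set X, IsClosed X₁ ∧ IsClosed X₂ ∧ Disjoint X₁ X₂ ∧ X₁ ∪ X₂ = Set.univ ∧
      Z₁ = Z ∩ X₁ ∧ Z₂ = Z ∩ X₂ := by
  classical
  have hZ12 : Z₁ ∩ Z₂ = ∅ := Set.disjoint_iff_inter_eq_empty.mp hdisj
  -- dichotomy
  have hnot_both : ∀ x : X, ¬ ((closure {x} ∩ Z₁).Nonempty ∧ (closure {x} ∩ Z₂).Nonempty) := by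
    rintro x ⟨⟨a, ha1, ha2⟩, ⟨b, hb1, hb2⟩⟩
    have hpre := (hconn x).isPreconnected
    rw [isPreconnected_closed_iff] at hpre
    have := hpre Z₁ Z₂ h₁ h₂ (by rw [hunion]; exact Set.inter_subset_left)
      ⟨a, ⟨hunion ▸ Or.inl ha2, ha1⟩, ha2⟩ ⟨b, ⟨hunion ▸ Or.inr hb2, hb1⟩, hb2⟩
    obtain ⟨c, -, hc⟩ := this
    rw [hZ12] at hc
    exact hc
  have hone : ∀ x : X, (closure {x} ∩ Z₁).Nonempty ∨ (closure {x} ∩ Z₂).Nonempty := by
    intro x
    obtain ⟨z, hz1, hz2⟩ := (hconn x).nonempty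
    rw [← hunion] at hz1
    rcases hz1 with h | h
    · exact Or.inl ⟨z, hz2, h⟩
    · exact Or.inr ⟨z, hz2, h⟩
  set X₁ : Set X := {x : X | (closure {x} ∩ Z₁).Nonempty} with hX₁
  set X₂ : Set X := {x : X | (closure {x} ∩ Z₂).Nonempty} with hX₂
  have hcompl : X₁ = X₂ᶜ := by
    ext x
    simp only [hX₁, hX₂, Set.mem_ofPred_eq, Set.mem_compl_iff]
    constructor
    · intro h1 h2; exact hnot_both x ⟨h1, h2⟩
    · intro h2; exact (hone x).resolve_right h2
  have hgen : ∀ (W : Set X), StableUnderGeneralization {x : X | (closure {x} ∩ W).Nonempty} := by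
    intro W x y hyx hx
    obtain ⟨z, hz1, hz2⟩ := hx
    refine ⟨z, ?_, hz2⟩
    have : closure {x} ⊆ closure {y} := by
      apply closure_minimal _ isClosed_closure
      rw [Set.singleton_subset_iff]
      exact specializes_iff_mem_closure.mp hyx
    exact this hz1
  have hcl1 : IsClosed X₁ := by
    apply Groth.Agent.Lib.Helper38.Spec.isClosed_of_isClosed_ct_of_stableUnderSpecialization
      (isClosed_ct_gen X Z₁ h₁)
    change StableUnderSpecialization X₁
    rw [hcompl]
    exact (hgen Z₂).compl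
  have hcl2 : IsClosed X₂ := by
    apply Groth.Agent.Lib.Helper38.Spec.isClosed_of_isClosed_ct_of_stableUnderSpecialization
      (isClosed_ct_gen X Z₂ h₂)
    have : X₂ = X₁ᶜ := by rw [hcompl, compl_compl]
    change StableUnderSpecialization X₂
    rw [this]
    exact (hgen Z₁).compl
  have hd : Disjoint X₁ X₂ := by
    rw [hcompl]; exact disjoint_compl_left
  have hmem1 : Z₁ ⊆ X₁ := fun z hz => ⟨z, subset_closure rfl, hz⟩
  have hmem2 : Z₂ ⊆ X₂ := fun z hz => ⟨z, subset_closure rfl, hz⟩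
  refine ⟨X₁, X₂, hcl1, hcl2, hd, ?_, ?_, ?_⟩
  · rw [hcompl]; exact Set.compl_union_self X₂
  · apply Set.Subset.antisymm
    · intro z hz
      exact ⟨hunion ▸ Or.inl hz, hmem1 hz⟩
    · rintro z ⟨hzZ, hzX⟩
      rw [← hunion] at hzZ
      rcases hzZ with h | h
      · exact h
      · exact absurd (hmem2 h) (Set.disjoint_left.mp hd hzX)
  · apply Set.Subset.antisymm
    · intro z hz
      exact ⟨hunion ▸ Or.inr hz, hmem2 hz⟩
    · rintro z ⟨hzZ, hzX⟩
      rw [← hunion] at hzZ
      rcases hzZ with h | h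
      · exact absurd hzX (Set.disjoint_left.mp hd (hmem1 h))
      · exact h

end Groth.Agent.S0152
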