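import Groth.Statements.S0175
import Groth.Agent.Lib.Helper70.RecollInj
import Groth.Agent.Lib.Helper70.Recoll
import Groth.Agent.Lib.Helper70.OpenRecoll

set_option autoImplicit false
universe u
open CategoryTheory CategoryTheory.Limits AlgebraicGeometry Opposite
open EtPBC

namespace Groth.Agent.S0175

/-- Let i : Z → X be a closed immersion of schemes with open complement j : U → X, and I an injective
abelian sheaf on X_ét. Then the subsheaf H_Z(I) of sections supported on Z (the kernel of I → j_*
j^* I), viewed on Z_ét via i^*, is an injective abelian sheaf on Z_ét. -/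
theorem result {Z X U : Scheme.{u}} (i : Z ⟶ X) [IsClosedImmersion i]
    (j : U ⟶ X) [IsOpenImmersion j] (hZU : Set.range j = (Set.range i)ᶜ)
    [EtCoh.BCCont i] [EtCoh.BCCont j] (I : EtCoh.Ab X) [Injective I] :
    Injective ((EtCoh.pull i).obj (kernel ((EtCoh.pullPushAdj j).unit.app I))) := by
  have hZU' : Set.range j.base = (Set.range i.base)ᶜ := hZU
  have hc : Set.range i.base = (Set.range j.base)ᶜ := by rw [hZU', compl_compl]
  haveI := (Groth.Agent.S0067.result i).1
  haveI := (Groth.Agent.S0067.result i).2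
  haveI : IsIso (EtCoh.pullPushAdj i).counit := inferInstance
  haveI : IsIso (EtCoh.pullPushAdj j).counit := NatIso.isIso_of_isIso_app _
  have hJI : ∀ C : EtCoh.Ab Z, IsZero ((EtCoh.pull j).obj ((EtCoh.push i).obj C)) := by
    intro C
    exact IsZero.of_iso (Groth.Agent.Lib.Helper70.Recoll.isZero_restr_push j i hc C)
      ((Groth.Agent.Lib.Helper47.EtRestr.pullIsoRestr j).app ((EtCoh.push i).obj C))
  have hz : ∀ G : EtCoh.Ab X, IsZero ((EtCoh.pull j).obj G) → IsZero ((EtCoh.pull i).obj G) →
      IsZero G := by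
    intro G h1 h2
    exact Groth.Agent.Lib.Helper70.Recoll.isZero_of_restr_of_pull j i hc G
      (IsZero.of_iso h1 ((Groth.Agent.Lib.Helper47.EtRestr.pullIsoRestr j).app G).symm) h2
  have hcons : ∀ {F G : EtCoh.Ab X} (f : F ⟶ G), IsIso ((EtCoh.pull i).map f) →
      IsIso ((EtCoh.pull j).map f) → IsIso f := by
    intro F G f h1 h2
    exact Groth.Agent.Lib.Helper70.Recoll.isIso_of_jointly (EtCoh.pull j) (EtCoh.pull i) hz f h2 h1
  exact Groth.Agent.Lib.Helper70.RecollInj.injective_I_kernel (EtCoh.pullPushAdj i)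
    (EtCoh.pullPushAdj j) hJI hcons I

end Groth.Agent.S0175
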