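import Groth.Statements.S0700
import Groth.Agent.Lib.Helper4.LocSecUniv
import Groth.Agent.Lib.Helper4.LocSecCompare

set_option autoImplicit false
open CategoryTheory CategoryTheory.Limits AlgebraicGeometry Opposite Topology
universe u
open ProEtW

namespace Groth.Agent.S0700

open Groth.Agent.Lib.Helper4 Groth.Agent.Lib.Helper4.LocSec

/-- Let A -> B identify local rings, with Spec A and Spec B w-local and Spec B -> Spec A w-local. Then A
-> B is ind-Zariski (a filtered colimit of local isomorphisms). -/
theorem result (A B : Type u) [CommRing A] [CommRing B]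
    [Algebra A B] (h1 : EtPBC.IdentifiesLocalRings A B) (h2 : ProEtW.IsWLocal (PrimeSpectrum A))
    (h3 : ProEtW.IsWLocal (PrimeSpectrum B))
    (h4 : ProEtW.IsWLocalMap (PrimeSpectrum.comap (algebraMap A B))) :
    EtPBC.IsIndZariski A B := by
  have hprof := isProfinite_JB h3
  haveI : CompactSpace (VI (JB B)) := hprof.1
  have hp : IsConsContinuous (pI (JB B)) := isConsContinuous_pI hprof
  have hloc : ∀ z : VI (JB B), Function.Bijective (Localization.localRingHom
      ((pI (JB B) z).asIdeal.comap (algebraMap A B)) (pI (JB B) z).asIdeal (algebraMap A B) rfl) :=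
    fun z => h1 (pI (JB B) z)
  have hΘ := ΘC_bijective (A := A) (pI (JB B)) hp hloc
  have hι := algebraMap_BI_bijective h3
  let eΘ := RingEquiv.ofBijective _ hΘ
  let eι := RingEquiv.ofBijective _ hι
  let e : LS (primeFamily (pContr (A := A) (pI (JB B)))) ≃ₐ[A] B :=
    AlgEquiv.ofRingEquiv (f := eΘ.trans eι.symm) (fun a => by
      change eι.symm (eΘ (algebraMap A _ a)) = algebraMap A B a
      rw [RingEquiv.symm_apply_eq]
      exact ΘC_algebraMap (pI (JB B)) a)
  exact isIndZariski_of_algEquiv e
    (isIndZariski (isOpenFamily_primeFamily (isConsContinuous_pContr _ hp)) (clopenBasis_VI hprof))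

end Groth.Agent.S0700
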