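import Groth.Statements.S0176
import Groth.Agent.S0692
import Groth.Agent.S0700
import Groth.Agent.S0734
import Groth.Agent.S0736
import Groth.Agent.Lib.Helper4.OlivierApply
import Groth.Agent.Lib.Helper4.WEAlgRes
import Groth.Agent.Lib.Helper4.FlatDiag
import Groth.Agent.Lib.Helper4.LocRingHomGen
import Groth.Agent.Lib.Helper4.WLocalSquare

set_option autoImplicit false
universe u
open CategoryTheory CategoryTheory.Limits AlgebraicGeometry Opposite
open EtPBC

namespace Groth.Agent.S0176

set_option linter.style.haveILetI false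

/-- For a weakly etale ring map A -> B (Mathlib's Algebra.WeaklyEtale) one can enlarge B along a
faithfully flat ind-etale extension B' so that B' is already ind-etale over A; here ind-etale means:
a filtered colimit of etale algebras. -/
theorem result (A B : Type u) [CommRing A] [CommRing B] [Algebra A B]
    [Algebra.WeaklyEtale A B] :
    ∃ (B' : Type u) (_ : CommRing B') (_ : Algebra B B') (_ : Algebra A B') (_ : IsScalarTower A B B'),
      Module.FaithfullyFlat B B' ∧ EtPBC.IsIndEtale B B' ∧ EtPBC.IsIndEtale A B' := by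
  have hres := Groth.Agent.Lib.Helper4.WEAlgRes.algebraicResidueExtensions_of_weaklyEtale A B
  obtain ⟨C, D, _, _, _, _, _, _, _, _, hffC, hieC, hffD, hieD, hwC, hwD, hmap, hcl, -, -, hshC⟩ :=
    Groth.Agent.S0692.result A B hres
  haveI : Algebra.WeaklyEtale A C := Groth.Agent.S0736.result A C hieC
  haveI : Algebra.WeaklyEtale B D := Groth.Agent.S0736.result B D hieD
  haveI : Algebra.WeaklyEtale A D := Algebra.WeaklyEtale.trans A B D
  haveI : Algebra.WeaklyEtale C D :=
    Groth.Agent.Lib.Helper4.FlatDiag.weaklyEtale_of_weaklyEtale A C D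
  -- `C → D` identifies local rings
  have hloc : EtPBC.IdentifiesLocalRings C D := by
    intro Q
    obtain ⟨M, ⟨hMcl, hQM⟩, -⟩ := hwD.2.2 Q
    have hMmax : M.asIdeal.IsMaximal := (PrimeSpectrum.isClosed_singleton_iff_isMaximal _).1 hMcl
    have hNcl : PrimeSpectrum.comap (algebraMap C D) M ∈ ProEtW.closedPoints (PrimeSpectrum C) := by
      have : M ∈ ProEtW.closedPoints (PrimeSpectrum D) := hMcl
      rw [hcl] at this
      exact this
    haveI hNmax : (M.asIdeal.comap (algebraMap C D)).IsMaximal :=
      (PrimeSpectrum.isClosed_singleton_iff_isMaximal _).1 hNcl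
    have hM := Groth.Agent.Lib.Helper4.OlivierApply.bijective_localRingHom_of_weaklyEtale
      M.asIdeal (M.asIdeal.comap (algebraMap C D)) rfl (hshC _)
    exact Groth.Agent.Lib.Helper4.LocGen.bijective_of_le M.asIdeal Q.asIdeal
      ((PrimeSpectrum.le_iff_specializes _ _).2 hQM) hM
  have hiz : EtPBC.IsIndZariski C D := Groth.Agent.S0700.result C D hloc hwC hwD hmap
  exact ⟨D, inferInstance, inferInstance, inferInstance, inferInstance, hffD, hieD,
    Groth.Agent.S0734.result A C D hieC
      (Groth.Agent.Lib.Helper4.AlgRes.isIndEtale_of_isIndZariski hiz)⟩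

end Groth.Agent.S0176
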