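import Groth.Statements.S0179
import Groth.Agent.Lib.Helper4.SpectralPi0

set_option autoImplicit false
universe u
open EtPBC

namespace Groth.Agent.S0179

open Groth.Agent.Lib.Helper4.SpectralPi0 Set

/-- a connected component inside an open set sits in a clopen inside that open set -/
theorem exists_isClopen_between {X : Type u} [TopologicalSpace X] [SpectralSpace X] (x : X)
    {U : Set X} (hU : IsOpen U) (hxU : connectedComponent x ⊆ U) :
    ∃ W : Set X, IsClopen W ∧ x ∈ W ∧ W ⊆ U := by
  rw [connectedComponent_eq_iInter_isClopen_of_spectral x] at hxU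
  have H1 := hU.isClosed_compl.isCompact.inter_iInter_nonempty
    (fun s : { s : Set X // IsClopen s ∧ x ∈ s } => (s : Set X)) fun s => s.2.1.1
  rw [← not_disjoint_iff_nonempty_inter, imp_not_comm, not_forall] at H1
  obtain ⟨si, H2⟩ := H1 (disjoint_compl_left_iff_subset.2 hxU)
  refine ⟨⋂ W ∈ si, Subtype.val W, isClopen_biInter_finset fun s _ => s.2.1,
    mem_iInter₂.2 fun s _ => s.2.2, ?_⟩
  rwa [← disjoint_compl_left_iff_subset, disjoint_iff_inter_eq_empty,
    ← not_nonempty_iff_eq_empty]

/-- For a spectral space X with set of closed points X_0, the following are equivalent: (1) any open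
cover of X admits a refinement by finitely many pairwise disjoint open-and-closed pieces; (2) the
map from X_0 to the space of connected components pi_0(X) is a bijection. -/
theorem result (X : Type u) [TopologicalSpace X] [SpectralSpace X] :
    (∀ (ι : Type u) (U : ι → Set X), (∀ i, IsOpen (U i)) → (⋃ i, U i) = Set.univ →
      ∃ (n : ℕ) (V : Fin n → Set X), (∀ k, IsClopen (V k)) ∧
        Pairwise (fun k l => Disjoint (V k) (V l)) ∧ (⋃ k, V k) = Set.univ ∧ ∀ k, ∃ i, V k ⊆ U i) ↔
    Function.Bijective (fun x : {x : X // IsClosed ({x} : Set X)} => _root_.ConnectedComponents.mk x.1) := by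
  constructor
  · intro h1
    constructor
    · rintro ⟨x, hx⟩ ⟨x', hx'⟩ h
      by_contra hne
      have hne' : x ≠ x' := fun e => hne (Subtype.ext e)
      obtain ⟨n, V, hV, -, hcov, href⟩ := h1 (ULift Bool)
        (fun b => if b.down then ({x} : Set X)ᶜ else ({x'} : Set X)ᶜ)
        (by rintro ⟨b⟩; cases b <;> simp [hx.isOpen_compl, hx'.isOpen_compl])
        (by
          rw [eq_univ_iff_forall]
          intro y
          rw [mem_iUnion]
          by_cases hy : y = x
          · exact ⟨⟨false⟩, by simpa [hy] using hne'⟩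
          · exact ⟨⟨true⟩, by simpa using hy⟩)
      have hxV : x ∈ ⋃ k, V k := hcov ▸ mem_univ x
      obtain ⟨k, hk⟩ := mem_iUnion.mp hxV
      obtain ⟨⟨b⟩, hb⟩ := href k
      have hx'k : x' ∉ V k := by
        intro hx'k
        cases b
        · exact (by simpa using hb hx'k : x' ≠ x') rfl
        · exact (by simpa using hb hk : x ≠ x) rfl
      have hsub := (hV k).connectedComponent_subset hk
      exact hx'k (hsub (ConnectedComponents.coe_eq_coe'.mp h.symm))
    · intro c
      obtain ⟨y, rfl⟩ := ConnectedComponents.surjective_coe c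
      obtain ⟨z, hz, hzc⟩ := (isClosed_connectedComponent (x := y)).exists_closed_singleton
        ⟨y, mem_connectedComponent⟩
      exact ⟨⟨z, hzc⟩, ConnectedComponents.coe_eq_coe'.mpr hz⟩
  · intro h2 ι U hU hcov
    -- every connected component lies in some `U i`
    have hcomp : ∀ y : X, ∃ i, connectedComponent y ⊆ U i := by
      intro y
      obtain ⟨⟨x, hxc⟩, hx⟩ := h2.2 (_root_.ConnectedComponents.mk y)
      have hxy : x ∈ connectedComponent y := ConnectedComponents.coe_eq_coe'.mp hx
      obtain ⟨i, hi⟩ := mem_iUnion.mp (hcov ▸ mem_univ x : x ∈ ⋃ i, U i)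
      refine ⟨i, fun w hw => ?_⟩
      -- `w` specializes to a closed point, which must be `x`
      obtain ⟨z, hz, hzc⟩ := (isClosed_closure (s := ({w} : Set X))).exists_closed_singleton
        ⟨w, subset_closure rfl⟩
      have hwz : w ⤳ z := specializes_iff_mem_closure.mpr hz
      have hzcomp : z ∈ connectedComponent y := by
        have hpre : IsPreconnected (closure ({w} : Set X)) := isPreconnected_singleton.closure
        have := hpre.subset_connectedComponent (subset_closure rfl) hz
        rwa [← connectedComponent_eq hw] at this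
      have hzx : z = x := by
        have := h2.1 (a₁ := ⟨z, hzc⟩) (a₂ := ⟨x, hxc⟩) (by
          change _root_.ConnectedComponents.mk z = _root_.ConnectedComponents.mk x
          have hx' : _root_.ConnectedComponents.mk x = _root_.ConnectedComponents.mk y := hx
          rw [hx']; exact ConnectedComponents.coe_eq_coe'.mpr hzcomp)
        exact congrArg Subtype.val this
      exact hwz.mem_open (hU i) (hzx ▸ hi)
    choose i hi using hcomp
    have hW : ∀ y : X, ∃ W : Set X, IsClopen W ∧ y ∈ W ∧ W ⊆ U (i y) := fun y =>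
      exists_isClopen_between y (hU (i y)) (hi y)
    choose W hWc hyW hWU using hW
    obtain ⟨t, ht⟩ := isCompact_univ.elim_finite_subcover W (fun y => (hWc y).2)
      (fun y _ => mem_iUnion.mpr ⟨y, hyW y⟩)
    -- enumerate `t` and disjointify
    let e := t.equivFin
    let n := t.card
    let Wk : Fin n → Set X := fun k => W (e.symm k).1
    refine ⟨n, fun k => Wk k \ ⋃ l : {l : Fin n // l < k}, Wk l.1, ?_, ?_, ?_, ?_⟩
    · intro k
      exact (hWc _).diff (isClopen_iUnion_of_finite fun l => hWc _)
    · intro k l hkl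
      change Disjoint _ _
      rw [Set.disjoint_left]
      rintro p ⟨hpk, hpk'⟩ ⟨hpl, hpl'⟩
      rcases lt_or_gt_of_ne hkl with h | h
      · exact hpl' (mem_iUnion.mpr ⟨⟨k, h⟩, hpk⟩)
      · exact hpk' (mem_iUnion.mpr ⟨⟨l, h⟩, hpl⟩)
    · rw [eq_univ_iff_forall]
      intro p
      have hp : ∃ k : Fin n, p ∈ Wk k := by
        obtain ⟨y, hyt, hpy⟩ := mem_iUnion₂.mp (ht (mem_univ p))
        exact ⟨e ⟨y, hyt⟩, by simpa [Wk] using hpy⟩
      classical
      let k₀ := (Finset.univ.filter fun k : Fin n => p ∈ Wk k).min' (by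
        obtain ⟨k, hk⟩ := hp
        exact ⟨k, by simpa using hk⟩)
      have hk₀ : k₀ ∈ Finset.univ.filter fun k : Fin n => p ∈ Wk k := Finset.min'_mem _ _
      refine mem_iUnion.mpr ⟨k₀, (Finset.mem_filter.mp hk₀).2, ?_⟩
      intro hmem
      obtain ⟨⟨l, hl⟩, hpl⟩ := mem_iUnion.mp hmem
      have : k₀ ≤ l := Finset.min'_le _ l (by simpa using hpl)
      exact absurd hl (not_lt.mpr this)
    · intro k
      exact ⟨i (e.symm k).1, sdiff_subset.trans (hWU _)⟩

end Groth.Agent.S0179
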