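import Groth.Statements.S0182
import Groth.Agent.Lib.Cohomology.Helper3_SuppConstr
-- import your own Groth.Agent.* helpers here

set_option autoImplicit false
universe u
open CategoryTheory CategoryTheory.Limits AlgebraicGeometry Opposite
open EtPBC

namespace Groth.Agent.S0182

/-- (1), surjectivity case, for abelian sheaves: X quasi-compact and quasi-separated, F -> G a map of
constructible abelian sheaves on X_et; the set of points x of X such that F -> G is surjective on
stalks at (every) geometric point over x is constructible. The source states this for constructible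
sheaves of sets; an abelian constructible sheaf is one, with the same stalks. -/
theorem result (X : Scheme.{u}) [CompactSpace X] [QuasiSeparatedSpace X]
    {F G : EtCoh.Ab X} (φ : F ⟶ G) (hF : EtPBC.IsConstructible F) (hG : EtPBC.IsConstructible G) :
    Topology.IsConstructible {x : X | ∀ (Ω : Type u) [Field Ω] [IsSepClosed Ω]
      (ξ : Spec (CommRingCat.of Ω) ⟶ X), Set.range ξ = {x} →
        Function.Surjective ((EtCoh.stalk ξ).map φ)} := by
  have hC := (Groth.Agent.Lib.Cohomology.SubConst.isConstructible_kernel_cokernel φ hF hG).2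
  have hsupp := (Groth.Agent.Lib.Cohomology.SuppConstr.isLocallyConstructible_supp
    (cokernel φ) hC).isConstructible
  have heq : {x : X | ∀ (Ω : Type u) [Field Ω] [IsSepClosed Ω]
      (ξ : Spec (CommRingCat.of Ω) ⟶ X), Set.range ξ = {x} →
        Function.Surjective ((EtCoh.stalk ξ).map φ)} = (EtPBC.supp (cokernel φ))ᶜ := by
    ext x
    simp only [Set.mem_setOf_eq, Set.mem_compl_iff, EtPBC.supp]
    constructor
    · rintro h ⟨Ω, _, _, ξ, hξ, hnz⟩
      apply hnz
      have hs := h Ω ξ hξ
      haveI : Epi ((EtCoh.stalk ξ).map φ) := (AddCommGrpCat.epi_iff_surjective _).2 hs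
      exact IsZero.of_iso (isZero_cokernel_of_epi _) (PreservesCokernel.iso (EtCoh.stalk ξ) φ)
    · intro h Ω _ _ ξ hξ
      have hz : IsZero ((EtCoh.stalk ξ).obj (cokernel φ)) := by
        by_contra hnz
        exact h ⟨Ω, inferInstance, inferInstance, ξ, hξ, hnz⟩
      have hz' : IsZero (cokernel ((EtCoh.stalk ξ).map φ)) :=
        hz.of_iso (PreservesCokernel.iso (EtCoh.stalk ξ) φ).symm
      haveI : Epi ((EtCoh.stalk ξ).map φ) := Preadditive.epi_of_isZero_cokernel _ hz'
      exact (AddCommGrpCat.epi_iff_surjective _).1 this
  rw [heq]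
  exact hsupp.compl

end Groth.Agent.S0182
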