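import Groth.Statements.S0183
import Groth.Agent.Lib.Helper4.LocSecPull

set_option autoImplicit false
universe u
open CategoryTheory CategoryTheory.Limits AlgebraicGeometry Opposite
open EtPBC

namespace Groth.Agent.S0183

open Groth.Agent.Lib.Helper4 Groth.Agent.Lib.Helper4.LocSec

section Aux

variable {A B : Type u} [CommRing A] [CommRing B] [Algebra A B]

/-- the contraction map `Spec B → Spec A` on the constructible space -/
def pA : Cons B → PrimeSpectrum A := fun q => PrimeSpectrum.comap (algebraMap A B) (Cons.toSpec q)

theorem isConsContinuous_pA : IsConsContinuous (pA (A := A) (B := B)) := fun g =>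
  isConsContinuous_toSpec (algebraMap A B g)

theorem hle (q : Cons B) : primeFamily (pA (A := A) (B := B)) (id q) ≤
    (primeFamily (Cons.toSpec (A := B)) q).comap (algebraMap A B) := fun _ ha => ha

/-- the comparison map -/
noncomputable def Θ : LS (primeFamily (pA (A := A) (B := B))) →+* Aw B :=
  pull (algebraMap A B) (primeFamily (pA (A := A) (B := B))) (primeFamily (Cons.toSpec (A := B)))
    id continuous_id hle

/-- the map on local rings -/
noncomputable def θ (q : Cons B) : Localization (primeFamily (pA (A := A) (B := B)) q) →+*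
    Localization (primeFamily (Cons.toSpec (A := B)) q) :=
  locMap (algebraMap A B) (primeFamily (pA (A := A) (B := B)))
    (primeFamily (Cons.toSpec (A := B))) id hle q

theorem θ_algebraMap (q : Cons B) (a : A) :
    θ q (algebraMap A (Localization (primeFamily (pA (A := A) (B := B)) q)) a) =
      algebraMap B _ (algebraMap A B a) :=
  locMap_algebraMap _ _ _ _ _ _ _

theorem Θ_apply (s : LS (primeFamily (pA (A := A) (B := B)))) (q : Cons B) :
    (Θ s).1 q = θ q (s.1 q) := rfl

variable (h : EtPBC.IdentifiesLocalRings A B)

include h in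
theorem locMap_bijective (q : Cons B) : Function.Bijective (θ (A := A) (B := B) q) :=
  h (Cons.toSpec q)

include h in
theorem Θ_injective : Function.Injective (Θ (A := A) (B := B)) := by
  rw [injective_iff_map_eq_zero]
  intro s hs
  refine Subtype.ext (funext fun q => ?_)
  have h1 : (Θ s).1 q = 0 := by rw [hs]; rfl
  rw [Θ_apply] at h1
  exact (injective_iff_map_eq_zero _).1 (locMap_bijective h q).1 _ h1

include h in
theorem Θ_surjective : Function.Surjective (Θ (A := A) (B := B)) := by
  intro t
  have hθ : ∀ q : Cons B, Function.Bijective (θ (A := A) (B := B) q) := locMap_bijective h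
  choose s hs using (show ∀ q : Cons B, ∃ y : Localization (primeFamily (pA (A := A) (B := B)) q),
    θ q y = t.1 q from fun q => (hθ q).2 (t.1 q))
  have hfrac : IsLocFrac (primeFamily (pA (A := A) (B := B))) s := by
    intro q₀
    obtain ⟨W, hW, hq₀, b, d, hWd⟩ := t.2 q₀
    obtain ⟨⟨a, c⟩, hac⟩ := IsLocalization.surj (primeFamily (pA (A := A) (B := B)) q₀) (s q₀)
    have h1 := congrArg (θ q₀) hac
    rw [map_mul, hs q₀] at h1
    rw [θ_algebraMap, θ_algebraMap] at h1
    have h2 := (hWd q₀ hq₀).2
    -- `b * f c = d * f a` in `B_{q₀}`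
    have h3 : algebraMap B (Localization (primeFamily (Cons.toSpec (A := B)) q₀))
        (b * algebraMap A B c.1) = algebraMap B _ (d * algebraMap A B a) := by
      rw [map_mul, map_mul, ← h2, ← h1]
      ring
    obtain ⟨u, hu⟩ := (IsLocalization.eq_iff_exists (primeFamily (Cons.toSpec (A := B)) q₀) _).1 h3
    refine ⟨W ∩ {q | u.1 ∈ primeFamily (Cons.toSpec (A := B)) q} ∩
        {q | algebraMap A B c.1 ∈ primeFamily (Cons.toSpec (A := B)) q}, ?_, ⟨⟨hq₀, u.2⟩, c.2⟩,
        a, c.1, fun q hq => ⟨hq.2, ?_⟩⟩
    · exact (hW.inter (isOpenFamily_primeFamily isConsContinuous_toSpec u.1)).inter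
        (isOpenFamily_primeFamily isConsContinuous_toSpec (algebraMap A B c.1))
    · refine (hθ q).1 ?_
      rw [map_mul, hs q]
      rw [θ_algebraMap, θ_algebraMap]
      have hd := (hWd q hq.1.1).1
      have h4 := (hWd q hq.1.1).2
      have hunitd := isUnit_algebraMap_of_mem (S := primeFamily (Cons.toSpec (A := B))) hd
      have hunitu := isUnit_algebraMap_of_mem (S := primeFamily (Cons.toSpec (A := B))) hq.1.2
      have h5 : algebraMap B (Localization (primeFamily (Cons.toSpec (A := B)) q))
          (b * algebraMap A B c.1) = algebraMap B _ (d * algebraMap A B a) := by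
        refine hunitu.mul_left_cancel ?_
        rw [← map_mul, ← map_mul, hu]
      rw [map_mul, map_mul, ← h4] at h5
      refine hunitd.mul_left_cancel ?_
      rw [← h5]
      ring
  refine ⟨⟨s, hfrac⟩, Subtype.ext (funext fun q => ?_)⟩
  rw [Θ_apply]
  exact hs q

end Aux

/-- Suppose A -> B identifies local rings (A_p -> B_q bijective for every prime q of B over p). Then B
can be enlarged along a faithfully flat ind-Zariski extension B' so that B' is already ind-Zariski
over A; ind-Zariski means: a filtered colimit of local isomorphisms in the sense of Mathlib's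
Algebra.IsLocalIso (Zariski-locally on the source a standard open immersion). -/
theorem result (A B : Type u) [CommRing A] [CommRing B] [Algebra A B]
    (h : EtPBC.IdentifiesLocalRings A B) :
    ∃ (B' : Type u) (_ : CommRing B') (_ : Algebra B B') (_ : Algebra A B') (_ : IsScalarTower A B B'),
      Module.FaithfullyFlat B B' ∧ EtPBC.IsIndZariski B B' ∧ EtPBC.IsIndZariski A B' := by
  letI : Algebra A (Aw B) := ((algebraMap B (Aw B)).comp (algebraMap A B)).toAlgebra
  have htower : IsScalarTower A B (Aw B) := IsScalarTower.of_algebraMap_eq fun _ => rfl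
  refine ⟨Aw B, inferInstance, inferInstance, inferInstance, htower, Aw_faithfullyFlat,
    Aw_isIndZariski, ?_⟩
  let e : LS (primeFamily (pA (A := A) (B := B))) ≃ₐ[A] Aw B :=
    AlgEquiv.ofRingEquiv (f := RingEquiv.ofBijective Θ ⟨Θ_injective h, Θ_surjective h⟩)
      (fun a => pull_algebraMap (algebraMap A B) _ _ id continuous_id hle a)
  exact isIndZariski_of_algEquiv e
    (isIndZariski (isOpenFamily_primeFamily isConsContinuous_pA) clopenBasis_cons)

end Groth.Agent.S0183
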