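import Groth.Statements.S0191
import Mathlib

set_option autoImplicit false
universe u v w
open scoped TensorProduct
open Curves

namespace Groth.Agent.S0191


section helpers

variable {k : Type u} [Field k] {A : Type v} [Ring A] [Algebra k A]
  {K : Type w} [DivisionRing K] [Algebra k K]

/-- coordinates of `A ⊗ K` with respect to a basis of `A`. -/
noncomputable def coord {ι : Type*} [DecidableEq ι] (b : Module.Basis ι k A) : A ⊗[k] K ≃ₗ[k] (ι →₀ K) :=
  TensorProduct.equivFinsuppOfBasisLeft b

lemma coord_tmul {ι : Type*} [DecidableEq ι] (b : Module.Basis ι k A) (a : A) (c : K) (i : ι) :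
    coord b (a ⊗ₜ[k] c) i = b.repr a i • c :=
  TensorProduct.equivFinsuppOfBasisLeft_apply_tmul_apply b a c i

lemma coord_mul_right {ι : Type*} [DecidableEq ι] (b : Module.Basis ι k A) (x : A ⊗[k] K) (c : K) (i : ι) :
    coord b (x * ((1 : A) ⊗ₜ[k] c)) i = coord b x i * c := by
  induction x using TensorProduct.induction_on with
  | zero => simp
  | tmul a d =>
    rw [Algebra.TensorProduct.tmul_mul_tmul, mul_one, coord_tmul, coord_tmul, smul_mul_assoc]
  | add x y hx hy => rw [add_mul, map_add, Finsupp.add_apply, hx, hy, map_add, Finsupp.add_apply,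
      add_mul]

lemma coord_mul_left {ι : Type*} [DecidableEq ι] (b : Module.Basis ι k A) (x : A ⊗[k] K) (c : K) (i : ι) :
    coord b (((1 : A) ⊗ₜ[k] c) * x) i = c * coord b x i := by
  induction x using TensorProduct.induction_on with
  | zero => simp
  | tmul a d =>
    rw [Algebra.TensorProduct.tmul_mul_tmul, one_mul, coord_tmul, coord_tmul, mul_smul_comm]
  | add x y hx hy => rw [mul_add, map_add, Finsupp.add_apply, hx, hy, map_add, Finsupp.add_apply,
      mul_add]

/-- an element all of whose coordinates are scalars is of the form `a ⊗ 1`. -/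
lemma exists_eq_tmul_one {ι : Type*} [DecidableEq ι] (b : Module.Basis ι k A) (x : A ⊗[k] K)
    (h : ∀ i, coord b x i ∈ Set.range (algebraMap k K)) : ∃ a : A, x = a ⊗ₜ[k] (1 : K) := by
  classical
  let g : K → k := fun c => if h : ∃ r, algebraMap k K r = c then h.choose else 0
  have hg : ∀ c, c ∈ Set.range (algebraMap k K) → algebraMap k K (g c) = c := by
    intro c hc
    have hc' : ∃ r, algebraMap k K r = c := hc
    simp only [g]
    rw [dif_pos hc']
    exact hc'.choose_spec
  have hg0 : g 0 = 0 := by
    have := hg 0 ⟨0, map_zero _⟩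
    exact (algebraMap k K).injective (by rw [this, map_zero])
  refine ⟨b.repr.symm ((coord b x).mapRange g hg0), ?_⟩
  apply (coord b).injective
  ext i
  rw [coord_tmul, LinearEquiv.apply_symm_apply, Finsupp.mapRange_apply, Algebra.smul_def, mul_one,
    hg _ (h i)]

end helpers

/-- If K is a skew field with center k, every two-sided ideal of A ⊗ K is generated by the elements a ⊗
1 it contains. -/
theorem result (k : Type u) [Field k] (A : Type v) [Ring A] [Algebra k A]
    (K : Type w) [DivisionRing K] [Algebra k K] [Algebra.IsCentral k K]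
    (I : TwoSidedIdeal (A ⊗[k] K)) :
    I = TwoSidedIdeal.span ((fun a : A => a ⊗ₜ[k] (1 : K)) '' {a : A | a ⊗ₜ[k] (1 : K) ∈ I}) := by
  classical
  set J := TwoSidedIdeal.span ((fun a : A => a ⊗ₜ[k] (1 : K)) '' {a : A | a ⊗ₜ[k] (1 : K) ∈ I})
    with hJ
  have hJI : J ≤ I := by
    rw [hJ, TwoSidedIdeal.span_le]
    rintro _ ⟨a, ha, rfl⟩
    exact ha
  refine le_antisymm ?_ hJI
  let b := Module.Free.chooseBasis k A
  -- the main claim, by strong induction on the size of the support
  have main : ∀ n : ℕ, ∀ x ∈ I, (coord (K := K) b x).support.card = n → x ∈ J := by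
    intro n
    induction n using Nat.strong_induction_on with
    | _ n ih =>
    intro x hxI hn
    by_cases hx0 : x = 0
    · rw [hx0]; exact J.zero_mem
    have hsupp : (coord (K := K) b x).support.Nonempty := by
      rw [Finsupp.support_nonempty_iff]
      intro h
      exact hx0 ((coord b).injective (by rw [h, map_zero]))
    by_cases hcase : ∃ y ∈ I, y ≠ 0 ∧ (coord (K := K) b y).support ⊂ (coord (K := K) b x).support
    · -- case (a)
      obtain ⟨y, hyI, hy0, hyx⟩ := hcase
      have hysupp : (coord (K := K) b y).support.Nonempty := by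
        rw [Finsupp.support_nonempty_iff]
        intro h
        exact hy0 ((coord b).injective (by rw [h, map_zero]))
      obtain ⟨i₀, hi₀⟩ := hysupp
      have hyi₀ : coord (K := K) b y i₀ ≠ 0 := Finsupp.mem_support_iff.mp hi₀
      obtain ⟨c, hc⟩ : ∃ c : K, c = (coord (K := K) b y i₀)⁻¹ * coord (K := K) b x i₀ := ⟨_, rfl⟩
      obtain ⟨z, hz⟩ : ∃ z, z = x - y * ((1 : A) ⊗ₜ[k] c) := ⟨_, rfl⟩
      have hzI : z ∈ I := by rw [hz]; exact I.sub_mem hxI (I.mul_mem_right _ _ hyI)
      have hzcoord : ∀ i, coord (K := K) b z i = coord (K := K) b x i - coord (K := K) b y i * c := by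
        intro i
        rw [hz, map_sub, Finsupp.sub_apply, coord_mul_right]
      have hzsupp : (coord (K := K) b z).support ⊆ (coord (K := K) b x).support.erase i₀ := by
        intro i hi
        rw [Finsupp.mem_support_iff, hzcoord] at hi
        rw [Finset.mem_erase]
        refine ⟨?_, ?_⟩
        · rintro rfl
          apply hi
          rw [hc, ← mul_assoc, mul_inv_cancel₀ hyi₀, one_mul, sub_self]
        · by_contra hix
          have hxi : coord (K := K) b x i = 0 := Finsupp.notMem_support_iff.mp hix
          have hyi : coord (K := K) b y i = 0 :=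
            Finsupp.notMem_support_iff.mp (fun h => hix (hyx.subset h))
          apply hi
          rw [hxi, hyi, zero_mul, sub_self]
      have hzcard : (coord (K := K) b z).support.card < n := by
        calc (coord (K := K) b z).support.card
            ≤ ((coord (K := K) b x).support.erase i₀).card := Finset.card_le_card hzsupp
          _ < (coord (K := K) b x).support.card :=
              Finset.card_erase_lt_of_mem (hyx.subset hi₀)
          _ = n := hn
      have hycard : (coord (K := K) b y).support.card < n := by
        rw [← hn]; exact Finset.card_lt_card hyx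
      have hzJ : z ∈ J := ih _ hzcard z hzI rfl
      have hyJ : y ∈ J := ih _ hycard y hyI rfl
      have : x = z + y * ((1 : A) ⊗ₜ[k] c) := by rw [hz]; abel
      rw [this]
      exact J.add_mem hzJ (J.mul_mem_right _ _ hyJ)
    · -- case (b): `x` has minimal support
      obtain ⟨i₀, hi₀⟩ := hsupp
      have hxi₀ : coord (K := K) b x i₀ ≠ 0 := Finsupp.mem_support_iff.mp hi₀
      obtain ⟨c₀, hc₀⟩ : ∃ c₀ : K, c₀ = coord (K := K) b x i₀ := ⟨_, rfl⟩
      rw [← hc₀] at hxi₀
      obtain ⟨x', hx'⟩ : ∃ x', x' = x * ((1 : A) ⊗ₜ[k] c₀⁻¹) := ⟨_, rfl⟩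
      have hx'I : x' ∈ I := by rw [hx']; exact I.mul_mem_right _ _ hxI
      have hx'coord : ∀ i, coord (K := K) b x' i = coord (K := K) b x i * c₀⁻¹ := by
        intro i; rw [hx', coord_mul_right]
      have hx'i₀ : coord (K := K) b x' i₀ = 1 := by
        rw [hx'coord, ← hc₀, mul_inv_cancel₀ hxi₀]
      have hcomm : ∀ (c : K) (i), c * coord (K := K) b x' i = coord (K := K) b x' i * c := by
        intro c i
        obtain ⟨y, hy⟩ : ∃ y, y = ((1 : A) ⊗ₜ[k] c) * x' - x' * ((1 : A) ⊗ₜ[k] c) := ⟨_, rfl⟩
        have hyI : y ∈ I := by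
          rw [hy]; exact I.sub_mem (I.mul_mem_left _ _ hx'I) (I.mul_mem_right _ _ hx'I)
        have hycoord : ∀ j, coord (K := K) b y j
            = c * coord (K := K) b x' j - coord (K := K) b x' j * c := by
          intro j
          rw [hy, map_sub, Finsupp.sub_apply, coord_mul_left, coord_mul_right]
        have hy0 : y = 0 := by
          by_contra hy0
          apply hcase
          refine ⟨y, hyI, hy0, ?_⟩
          rw [Finset.ssubset_iff_of_subset]
          · refine ⟨i₀, hi₀, ?_⟩
            rw [Finsupp.notMem_support_iff, hycoord, hx'i₀, mul_one, one_mul, sub_self]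
          · intro j hj
            rw [Finsupp.mem_support_iff, hycoord] at hj
            rw [Finsupp.mem_support_iff]
            intro hxj
            apply hj
            rw [hx'coord, hxj, zero_mul, mul_zero, zero_mul, sub_self]
        have := hycoord i
        rw [hy0, map_zero, Finsupp.zero_apply] at this
        exact (sub_eq_zero.mp this.symm)
      have hrange : ∀ i, coord (K := K) b x' i ∈ Set.range (algebraMap k K) := by
        intro i
        have hcen : coord (K := K) b x' i ∈ Subalgebra.center k K := by
          rw [Subalgebra.mem_center_iff]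
          intro c
          exact hcomm c i
        have := Algebra.IsCentral.out (K := k) (D := K) hcen
        exact Algebra.mem_bot.mp this
      obtain ⟨a, ha⟩ := exists_eq_tmul_one b x' hrange
      have hx'J : x' ∈ J := by
        rw [hJ]
        apply TwoSidedIdeal.subset_span
        exact ⟨a, by simpa [← ha] using hx'I, ha.symm⟩
      have : x = x' * ((1 : A) ⊗ₜ[k] c₀) := by
        rw [hx', mul_assoc, Algebra.TensorProduct.tmul_mul_tmul, mul_one, inv_mul_cancel₀ hxi₀,
          ← Algebra.TensorProduct.one_def, mul_one]
      rw [this]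
      exact J.mul_mem_right _ _ hx'J
  intro x hx
  exact main _ x hx rfl

end Groth.Agent.S0191
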