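import Groth.Statements.S0197
import Mathlib
-- import your own Groth.Agent.* helpers here

set_option autoImplicit false
universe u v w
open scoped TensorProduct
open Curves

namespace Groth.Agent.S0197

/-- If a finite central skew field D has dimension d^2, the degree of any finite splitting field of D is
divisible by d. -/
theorem result (k : Type u) [Field k]
    (D : Type u) [DivisionRing D] [Algebra k D] [Algebra.IsCentral k D] [FiniteDimensional k D]
    (d : ℕ) (hd : Module.finrank k D = d ^ 2)
    (k' : Type u) [Field k'] [Algebra k k'] [FiniteDimensional k k'] (hs : Curves.Splits k D k') :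
    d ∣ Module.finrank k k' := by
  classical
  obtain ⟨n, hn, ⟨e⟩⟩ := hs
  have hnd : n = d := by
    have h1 : Module.finrank k' (k' ⊗[k] D) = Module.finrank k D := Module.finrank_baseChange
    have h2 : Module.finrank k' (k' ⊗[k] D) = Module.finrank k' (Matrix (Fin n) (Fin n) k') :=
      e.toLinearEquiv.finrank_eq
    rw [Module.finrank_matrix] at h2
    simp only [Fintype.card_fin, Module.finrank_self, mul_one] at h2
    have h3 : n ^ 2 = d ^ 2 := by rw [sq, ← h2, h1, hd]
    exact Nat.pow_left_injective (by norm_num : 2 ≠ 0) h3
  subst hnd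
  let ρ : D →ₐ[k] Matrix (Fin n) (Fin n) k' :=
    (e.toAlgHom.restrictScalars k).comp Algebra.TensorProduct.includeRight
  letI : Module D (Fin n → k') := Module.compHom _ ρ.toRingHom
  have hsmul : ∀ (x : D) (v : Fin n → k'), x • v = Matrix.mulVec (ρ x) v := fun _ _ => rfl
  haveI : IsScalarTower k D (Fin n → k') := by
    refine ⟨fun c x v => ?_⟩
    rw [hsmul, hsmul, map_smul, Matrix.smul_mulVec]
  have htower := Module.finrank_mul_finrank k D (Fin n → k')
  have hV : Module.finrank k (Fin n → k') = n * Module.finrank k k' := by
    rw [Module.finrank_pi_fintype]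
    simp
  rw [hV, hd] at htower
  have hn0 : 0 < n := Nat.pos_of_ne_zero hn
  refine ⟨Module.finrank D (Fin n → k'), ?_⟩
  have : n * (n * Module.finrank D (Fin n → k')) = n * Module.finrank k k' := by
    rw [← htower]; ring
  exact (Nat.eq_of_mul_eq_mul_left hn0 this).symm

end Groth.Agent.S0197
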