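import Groth.Statements.S0216
import Mathlib
-- import your own Groth.Agent.* helpers here

set_option autoImplicit false
universe u
open CategoryTheory CategoryTheory.Limits AlgebraicGeometry TopologicalSpace
open Curves

namespace Groth.Agent.S0216

section Helpers

set_option autoImplicit false
open Polynomial Topology AlgebraicGeometry CategoryTheory

namespace T0216

/-- In a space with a generic point `η`, a constructible set containing `η` is a neighbourhood
of `η`. -/
theorem mem_nhds_of_isConstructible {X : Type*} [TopologicalSpace X] {η : X}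
    (hη : closure {η} = Set.univ) {s : Set X} (hs : Topology.IsConstructible s) :
    (η ∈ s → s ∈ 𝓝 η) ∧ (η ∉ s → sᶜ ∈ 𝓝 η) := by
  induction hs using Topology.IsConstructible.empty_union_induction with
  | open_retrocompact U hUo hUc =>
    refine ⟨fun h => hUo.mem_nhds h, fun h => ?_⟩
    have hU : U = ∅ := by
      by_contra hne
      obtain ⟨y, hy⟩ := Set.nonempty_iff_ne_empty.mpr hne
      have hy' : y ∈ closure {η} := by rw [hη]; trivial
      obtain ⟨w, hwU, hw⟩ := mem_closure_iff.mp hy' U hUo hy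
      rw [Set.mem_singleton_iff] at hw
      exact h (hw ▸ hwU)
    rw [hU, Set.compl_empty]
    exact Filter.univ_mem
  | union s hs t ht ihs iht =>
    refine ⟨fun h => ?_, fun h => ?_⟩
    · rcases h with h | h
      · exact Filter.mem_of_superset (ihs.1 h) Set.subset_union_left
      · exact Filter.mem_of_superset (iht.1 h) Set.subset_union_right
    · rw [Set.compl_union]
      exact Filter.inter_mem (ihs.2 fun h' => h (Or.inl h')) (iht.2 fun h' => h (Or.inr h'))
  | compl s hs ih =>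
    refine ⟨fun h => ih.2 h, fun h => ?_⟩
    rw [compl_compl]
    exact ih.1 (Set.notMem_compl_iff.mp h)

/-- Euclid's sequence of partial products: `S 0 = X`, `S (n+1) = S n * (S n + 1)`. -/
noncomputable def S : ℕ → ℤ[X]
  | 0 => X
  | n + 1 => S n * (S n + 1)

theorem S_monic_pos (n : ℕ) : (S n).Monic ∧ 0 < (S n).natDegree := by
  induction n with
  | zero => exact ⟨monic_X, by simp [S]⟩
  | succ n ih =>
    have h1 : (S n + 1).Monic := by
      refine ih.1.add_of_left ?_
      rw [degree_one]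
      exact natDegree_pos_iff_degree_pos.mp ih.2
    refine ⟨ih.1.mul h1, ?_⟩
    change 0 < (S n * (S n + 1)).natDegree
    rw [ih.1.natDegree_mul h1]
    omega

theorem S_dvd {m n : ℕ} (h : m ≤ n) : S m ∣ S n := by
  induction n, h using Nat.le_induction with
  | base => exact dvd_rfl
  | succ n hmn ih => exact ih.trans (Dvd.intro _ rfl)

theorem isCoprime_S {m n : ℕ} (h : m < n) : IsCoprime (S m + 1) (S n + 1) := by
  have h1 : S m + 1 ∣ S n := (Dvd.intro_left _ rfl : S m + 1 ∣ S (m + 1)).trans (S_dvd h)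
  have h2 : IsCoprime (S n) (S n + 1) := ⟨-1, 1, by ring⟩
  exact h2.of_isCoprime_of_dvd_left h1

end T0216

namespace T0216

section L3
variable {k D : Type u} [Field k] [CommRing D] [IsDomain D]

/-- the `n`-th Euclid polynomial over `k`. -/
noncomputable def Qk (k : Type u) [Field k] (n : ℕ) : k[X] := (S n + 1).map (Int.castRingHom k)

theorem Qk_monic (n : ℕ) : (Qk k n).Monic := by
  have h := S_monic_pos n
  have h1 : (S n + 1).Monic := by
    refine h.1.add_of_left ?_
    rw [degree_one]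
    exact natDegree_pos_iff_degree_pos.mp h.2
  exact h1.map _

theorem Qk_not_isUnit (n : ℕ) : ¬ IsUnit (Qk k n) := by
  have h := S_monic_pos n
  have h1 : (S n + 1).Monic := by
    refine h.1.add_of_left ?_
    rw [degree_one]
    exact natDegree_pos_iff_degree_pos.mp h.2
  have h2 : (S n + 1).natDegree = (S n).natDegree := by
    refine natDegree_add_eq_left_of_degree_lt ?_
    rw [degree_one]
    exact natDegree_pos_iff_degree_pos.mp h.2
  intro hu
  have h3 := natDegree_eq_zero_of_isUnit hu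
  rw [Qk, h1.natDegree_map, h2] at h3
  omega

theorem Qk_isCoprime {m n : ℕ} (h : m ≠ n) : IsCoprime (Qk k m) (Qk k n) := by
  rcases lt_or_gt_of_ne h with h | h
  · exact (isCoprime_S h).map (mapRingHom (Int.castRingHom k))
  · exact ((isCoprime_S h).map (mapRingHom (Int.castRingHom k))).symm

theorem finite_zeroLocus {h : k[X]} (hh : h ≠ 0) :
    (PrimeSpectrum.zeroLocus {h} : Set (PrimeSpectrum k[X])).Finite := by
  have hfin := Ideal.finite_minimalPrimes_of_isNoetherianRing k[X] (Ideal.span {h})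
  have hinj : Set.InjOn (fun p : PrimeSpectrum k[X] => p.asIdeal) (PrimeSpectrum.zeroLocus {h}) := by
    intro p _ q _ hpq
    exact PrimeSpectrum.ext hpq
  refine Set.Finite.of_finite_image (hfin.subset ?_) hinj
  rintro _ ⟨p, hp, rfl⟩
  have hp' : Ideal.span {h} ≤ p.asIdeal := by
    rw [Ideal.span_le]
    exact hp
  refine ⟨⟨p.isPrime, hp'⟩, ?_⟩
  rintro q ⟨hq, hhq⟩ hqp
  have hq0 : q ≠ ⊥ := by
    rintro rfl
    exact hh (by simpa using hhq (Ideal.subset_span (Set.mem_singleton h)))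
  have := hq
  have hqmax : q.IsMaximal := Ideal.IsPrime.isMaximal hq hq0
  exact (hqmax.eq_of_le p.isPrime.ne_top hqp).ge

theorem exists_int_poly (ψ : k →+* D) (hψ : ψ.FiniteType) (c : D)
    (hc : ∀ p : k[X], eval₂ ψ c p = 0 → p = 0) :
    ∃ P : ℤ[X], aeval c P ≠ 0 ∧ ¬ IsUnit (aeval c P) := by
  set Ψ : k[X] →+* D := eval₂RingHom ψ c with hΨ
  have hΨinj : Function.Injective Ψ := by
    rw [injective_iff_map_eq_zero]
    intro p hp
    exact hc p hp
  have hΨC : Ψ.comp C = ψ := by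
    ext a
    simp [hΨ]
  have hΨft : Ψ.FiniteType := by
    have : (Ψ.comp C).FiniteType := hΨC ▸ hψ
    exact RingHom.FiniteType.of_comp_finiteType this
  have hΨfp : Ψ.FinitePresentation := RingHom.FinitePresentation.of_finiteType.mp hΨft
  have hcons := PrimeSpectrum.isConstructible_range_comap hΨfp
  -- the generic point
  let η : PrimeSpectrum k[X] := ⟨⊥, Ideal.isPrime_bot⟩
  have hη : closure {η} = Set.univ := by
    rw [PrimeSpectrum.closure_singleton]
    simp [η]
  have hηmem : η ∈ Set.range (PrimeSpectrum.comap Ψ) := by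
    refine ⟨⟨⊥, Ideal.isPrime_bot⟩, ?_⟩
    apply PrimeSpectrum.ext
    change Ideal.comap Ψ ⊥ = ⊥
    exact (RingHom.injective_iff_ker_eq_bot Ψ).mp hΨinj
  have hnhds := (mem_nhds_of_isConstructible hη hcons).1 hηmem
  obtain ⟨_, ⟨h, rfl⟩, hηh, hsub⟩ :=
    PrimeSpectrum.isTopologicalBasis_basic_opens.mem_nhds_iff.mp hnhds
  have hh0 : h ≠ 0 := by
    rintro rfl
    exact hηh (by simp)
  -- maximal ideals containing the `Qk n`
  have hmax : ∀ n : ℕ, ∃ M : Ideal k[X], M.IsMaximal ∧ Qk k n ∈ M := by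
    intro n
    obtain ⟨M, hM, hle⟩ := Ideal.exists_le_maximal (Ideal.span {Qk k n})
      (by rw [Ne, Ideal.span_singleton_eq_top]; exact Qk_not_isUnit n)
    exact ⟨M, hM, hle (Ideal.subset_span (Set.mem_singleton _))⟩
  choose M hM hQM using hmax
  have hMinj : Function.Injective fun n => (⟨M n, (hM n).isPrime⟩ : PrimeSpectrum k[X]) := by
    intro m n hmn
    by_contra hne
    have hmn' : M m = M n := congrArg PrimeSpectrum.asIdeal hmn
    obtain ⟨a, b, hab⟩ := Qk_isCoprime (k := k) hne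
    have h1 : (1 : k[X]) ∈ M n := by
      rw [← hab]
      exact (M n).add_mem ((M n).mul_mem_left a (hmn' ▸ hQM m)) ((M n).mul_mem_left b (hQM n))
    exact (hM n).ne_top ((Ideal.eq_top_iff_one _).mpr h1)
  -- some `M n` does not contain `h`
  have hex : ∃ n, h ∉ M n := by
    by_contra hall
    have hall' : ∀ n, h ∈ M n := by
      intro n
      by_contra hn
      exact hall ⟨n, hn⟩
    refine Set.infinite_of_injective_forall_mem hMinj (s := PrimeSpectrum.zeroLocus {h}) ?_
      (finite_zeroLocus hh0)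
    intro n
    rw [PrimeSpectrum.mem_zeroLocus, Set.singleton_subset_iff]
    exact hall' n
  obtain ⟨n, hn⟩ := hex
  have hmem : (⟨M n, (hM n).isPrime⟩ : PrimeSpectrum k[X]) ∈ Set.range (PrimeSpectrum.comap Ψ) :=
    hsub hn
  obtain ⟨q, hq⟩ := hmem
  have hq' : Ideal.comap Ψ q.asIdeal = M n := congrArg PrimeSpectrum.asIdeal hq
  have hPeq : aeval c (S n + 1) = Ψ (Qk k n) := by
    rw [Qk, hΨ, coe_eval₂RingHom, eval₂_map, aeval_def]
    congr 1
    exact Subsingleton.elim _ _
  refine ⟨S n + 1, ?_, ?_⟩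
  · rw [hPeq]
    intro h0
    exact (Qk_monic (k := k) n).ne_zero (hΨinj (h0.trans (map_zero Ψ).symm))
  · rw [hPeq]
    intro hu
    have : Ψ (Qk k n) ∈ q.asIdeal := by
      have : Qk k n ∈ Ideal.comap Ψ q.asIdeal := hq' ▸ hQM n
      exact this
    exact q.isPrime.ne_top (Ideal.eq_top_of_isUnit_mem _ this hu)

end L3



/-- If a section `z` over `U` is algebraic over a field `k` mapping to `Γ(X, U)`, then the
zero locus of `z` in `U` is open (it is the non-vanishing locus of another section). -/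
theorem exists_basicOpen_eq_sdiff {X : Scheme.{u}} (U : X.Opens) {k : Type u} [Field k]
    (φ : k →+* Γ(X, U)) (z : Γ(X, U)) (p : k[X]) (hp : p ≠ 0) (hpz : eval₂ φ z p = 0) :
    ∃ w : Γ(X, U), ((U : Set X) \ (X.basicOpen z : Set X)) = (X.basicOpen w : Set X) := by
  obtain ⟨q, hq, hndvd⟩ := exists_eq_pow_rootMultiplicity_mul_and_not_dvd p hp 0
  rw [C_0, sub_zero] at hq hndvd
  set m := rootMultiplicity 0 p
  have hq0 : q.coeff 0 ≠ 0 := fun h => hndvd (X_dvd_iff.mpr h)
  refine ⟨eval₂ φ z q, ?_⟩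
  have hzw : z ^ m * eval₂ φ z q = 0 := by
    rw [← hpz, hq, eval₂_mul, eval₂_pow, eval₂_X]
  -- decomposition of `q`
  have hdec : eval₂ φ z q = z * eval₂ φ z q.divX + φ (q.coeff 0) := by
    conv_lhs => rw [← divX_mul_X_add q]
    rw [eval₂_add, eval₂_mul, eval₂_X, eval₂_C, mul_comm]
  have hunit : IsUnit (φ (q.coeff 0)) := (IsUnit.mk0 _ hq0).map φ
  ext y
  constructor
  · rintro ⟨hyU, hyz⟩
    rw [SetLike.mem_coe, Scheme.mem_basicOpen _ _ _ hyU] at hyz ⊢
    rw [hdec, map_add, map_mul]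
    by_contra hnu
    have h1 : X.presheaf.germ U y hyU z ∈ IsLocalRing.maximalIdeal (X.presheaf.stalk y) := hyz
    have h2 : X.presheaf.germ U y hyU z * X.presheaf.germ U y hyU (eval₂ φ z q.divX) +
        X.presheaf.germ U y hyU (φ (q.coeff 0)) ∈ IsLocalRing.maximalIdeal (X.presheaf.stalk y) := hnu
    have h3 : X.presheaf.germ U y hyU (φ (q.coeff 0)) ∈
        IsLocalRing.maximalIdeal (X.presheaf.stalk y) := by
      have := Ideal.sub_mem _ h2 (Ideal.mul_mem_right (X.presheaf.germ U y hyU (eval₂ φ z q.divX)) _ h1)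
      simpa using this
    exact h3 (hunit.map _)
  · intro hy
    have hyU : y ∈ U := X.basicOpen_le _ hy
    refine ⟨hyU, fun hyz => ?_⟩
    rw [SetLike.mem_coe, Scheme.mem_basicOpen _ _ _ hyU] at hy hyz
    have : IsUnit (X.presheaf.germ U y hyU (z ^ m * eval₂ φ z q)) := by
      rw [map_mul, map_pow]
      exact (hyz.pow m).mul hy
    rw [hzw, map_zero] at this
    exact not_isUnit_zero this



variable {X : Scheme.{u}} {k : Type u} [Field k]

theorem mem_basicOpen_iff' (U : X.Opens) (hU : IsAffineOpen U) (y : X) (hy : y ∈ U)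
    (f : Γ(X, U)) :
    y ∈ X.basicOpen f ↔ f ∉ (hU.primeIdealOf ⟨y, hy⟩).asIdeal := by
  have h1 := hU.fromSpec_primeIdealOf ⟨y, hy⟩
  have h2 := hU.fromSpec_preimage_basicOpen f
  have h3 : hU.primeIdealOf ⟨y, hy⟩ ∈ hU.fromSpec ⁻¹ᵁ X.basicOpen f ↔ y ∈ X.basicOpen f := by
    show hU.fromSpec (hU.primeIdealOf ⟨y, hy⟩) ∈ X.basicOpen f ↔ _
    rw [h1]
  rw [← h3, h2]
  exact PrimeSpectrum.mem_basicOpen _ _

theorem finiteType_res (a : X ⟶ Spec (CommRingCat.of k)) [LocallyOfFiniteType a]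
    (U : X.Opens) (hU : IsAffineOpen U) :
    ((X.presheaf.map (homOfLE (le_top : U ≤ ⊤)).op).hom.comp (Coh.toGlobal a)).FiniteType := by
  have h1 := HasRingHomProperty.appLE @LocallyOfFiniteType a inferInstance
    ⟨⊤, isAffineOpen_top _⟩ ⟨U, hU⟩ le_top
  have h2 : (Scheme.ΓSpecIso (CommRingCat.of k)).inv.hom.FiniteType :=
    RingHom.FiniteType.of_surjective _
      (ConcreteCategory.bijective_of_isIso (Scheme.ΓSpecIso (CommRingCat.of k)).inv).2
  have h3 := h1.comp h2
  convert h3 using 1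
  ext c
  rfl



/-- The intrinsic property: every integer-polynomial expression in `x` is zero or a unit. -/
def ZU (x : Γ(X, ⊤)) : Prop := ∀ P : ℤ[X], aeval x P = 0 ∨ IsUnit (aeval x P)

theorem isIntegralElem_aeval_int {A : Type u} [CommRing A] (φ : k →+* A) {x : A}
    (hx : φ.IsIntegralElem x) (P : ℤ[X]) : φ.IsIntegralElem (aeval x P) := by
  let _ := φ.toAlgebra
  have hx' : IsIntegral k x := hx
  have h1 : aeval x P = aeval x (P.map (algebraMap ℤ k)) := (aeval_map_algebraMap k x P).symm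
  have h2 : IsIntegral k (aeval x P) := by
    rw [h1]
    exact .of_mem_of_fg _ hx'.fg_adjoin_singleton _ (aeval_mem_adjoin_singleton _ _)
  exact h2

theorem isIntegralElem_eval₂ {A : Type u} [CommRing A] (φ : k →+* A) {x : A}
    (hx : φ.IsIntegralElem x) (g : k[X]) : φ.IsIntegralElem (eval₂ φ x g) := by
  let _ := φ.toAlgebra
  have hx' : IsIntegral k x := hx
  have h2 : IsIntegral k (aeval x g) :=
    .of_mem_of_fg _ hx'.fg_adjoin_singleton _ (aeval_mem_adjoin_singleton _ _)
  exact h2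

theorem isUnit_of_basicOpen_eq_top (z : Γ(X, ⊤)) (h : X.basicOpen z = ⊤) : IsUnit z := by
  refine X.toRingedSpace.isUnit_of_isUnit_germ (U := ⊤) z fun y hy => ?_
  have hy' : y ∈ X.basicOpen z := by rw [h]; trivial
  exact (Scheme.mem_basicOpen _ _ _ hy).mp hy'

theorem forward [IsReduced X] [ConnectedSpace X] (φ : k →+* Γ(X, ⊤)) (x : Γ(X, ⊤))
    (hx : φ.IsIntegralElem x) : ZU x := by
  intro P
  set z := aeval x P with hz
  obtain ⟨p, hpm, hp⟩ := isIntegralElem_aeval_int φ hx P
  obtain ⟨w, hw⟩ := exists_basicOpen_eq_sdiff (⊤ : X.Opens) φ z p hpm.ne_zero hp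
  have hcl : IsClopen ((X.basicOpen z : Set X)ᶜ) := by
    refine ⟨(X.basicOpen z).isOpen.isClosed_compl, ?_⟩
    have : ((X.basicOpen z : Set X)ᶜ) = (X.basicOpen w : Set X) := by
      rw [← hw]
      ext y
      simp
    rw [this]
    exact (X.basicOpen w).isOpen
  rcases isClopen_iff.mp hcl with h | h
  · right
    refine isUnit_of_basicOpen_eq_top z ?_
    ext y
    simp only [Set.compl_empty_iff] at h
    rw [h]
    simp
  · left
    rw [Set.compl_univ_iff] at h
    have : X.basicOpen z = ⊥ := by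
      ext y
      rw [h]
      simp
    exact (AlgebraicGeometry.basicOpen_eq_bot_iff z).mp this

/-- restriction of global sections to an open. -/
noncomputable abbrev res (X : Scheme.{u}) (U : X.Opens) : Γ(X, ⊤) →+* Γ(X, U) :=
  (X.presheaf.map (homOfLE (le_top : U ≤ ⊤)).op).hom

theorem res_eval₂ (φ : k →+* Γ(X, ⊤)) (x : Γ(X, ⊤)) (U : X.Opens) (g : k[X]) :
    res X U (eval₂ φ x g) = eval₂ ((res X U).comp φ) (res X U x) g :=
  hom_eval₂ g φ (res X U) x

theorem basicOpen_res' (U : X.Opens) (z : Γ(X, ⊤)) :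
    X.basicOpen (res X U z) = U ⊓ X.basicOpen z :=
  Scheme.basicOpen_res X z (homOfLE (le_top : U ≤ ⊤)).op

theorem stepA (φ : k →+* Γ(X, ⊤))
    (hft : ∀ U : X.Opens, IsAffineOpen U → ((res X U).comp φ).FiniteType)
    (x : Γ(X, ⊤)) (hQ : ZU x) (y : X) :
    ∃ g : k[X], g.Monic ∧ y ∉ X.basicOpen (eval₂ φ x g) := by
  by_contra hcon
  obtain ⟨U, hU, hyU⟩ : ∃ U : X.Opens, IsAffineOpen U ∧ y ∈ U := by
    obtain ⟨_, ⟨U, hU, rfl⟩, hyU, -⟩ :=
      X.isBasis_affineOpens.exists_subset_of_mem_open (Set.mem_univ y) isOpen_univ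
    exact ⟨U, hU, hyU⟩
  set p := (hU.primeIdealOf ⟨y, hyU⟩).asIdeal with hp
  have hpprime : p.IsPrime := (hU.primeIdealOf ⟨y, hyU⟩).isPrime
  set φU := (res X U).comp φ with hφU
  set ψ : k →+* (Γ(X, U) ⧸ p) := (Ideal.Quotient.mk p).comp φU with hψ
  have hψft : ψ.FiniteType :=
    (RingHom.FiniteType.of_surjective _ Ideal.Quotient.mk_surjective).comp (hft U hU)
  set c : Γ(X, U) ⧸ p := Ideal.Quotient.mk p (res X U x) with hc
  have key : ∀ g : k[X], eval₂ ψ c g = 0 → g = 0 := by
    intro g hg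
    by_contra hg0
    apply hcon
    refine ⟨g * C g.leadingCoeff⁻¹, monic_mul_leadingCoeff_inv hg0, ?_⟩
    have h1 : eval₂ ψ c (g * C g.leadingCoeff⁻¹) = 0 := by
      rw [eval₂_mul, hg, zero_mul]
    have h2 : eval₂ ψ c (g * C g.leadingCoeff⁻¹) =
        Ideal.Quotient.mk p (res X U (eval₂ φ x (g * C g.leadingCoeff⁻¹))) := by
      rw [res_eval₂, hψ, hc]
      exact (hom_eval₂ _ φU (Ideal.Quotient.mk p) (res X U x)).symm
    rw [h2, Ideal.Quotient.eq_zero_iff_mem] at h1
    intro hy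
    have hy' : y ∈ X.basicOpen (res X U (eval₂ φ x (g * C g.leadingCoeff⁻¹))) := by
      rw [basicOpen_res']
      exact ⟨hyU, hy⟩
    exact (mem_basicOpen_iff' U hU y hyU _).mp hy' h1
  obtain ⟨P, hP0, hPu⟩ := exists_int_poly ψ hψft c key
  have hPeq : aeval c P = ((Ideal.Quotient.mk p).comp (res X U)) (aeval x P) := by
    rw [aeval_def, aeval_def, hom_eval₂]
    congr 1
    exact Subsingleton.elim _ _
  rcases hQ P with h | h
  · exact hP0 (hPeq.trans (by rw [h, map_zero]))
  · exact hPu (hPeq ▸ h.map _)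

theorem stepB (φ : k →+* Γ(X, ⊤)) (x : Γ(X, ⊤))
    (hA : ∀ y : X, ∃ g : k[X], g.Monic ∧ y ∉ X.basicOpen (eval₂ φ x g))
    (U : X.Opens) (hU : IsAffineOpen U) :
    ((res X U).comp φ).IsIntegralElem (res X U x) := by
  by_contra hcon
  have hne : ∀ g : k[X], g ≠ 0 → eval₂ ((res X U).comp φ) (res X U x) g ≠ 0 := by
    intro g hg0 hg
    apply hcon
    refine ⟨g * C g.leadingCoeff⁻¹, monic_mul_leadingCoeff_inv hg0, ?_⟩
    rw [eval₂_mul, hg, zero_mul]
  let Ψ : k[X] →+* Γ(X, U) := eval₂RingHom ((res X U).comp φ) (res X U x)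
  let S : Submonoid Γ(X, U) := (nonZeroDivisors k[X]).map Ψ
  have hdisj : Disjoint ((⊥ : Ideal Γ(X, U)) : Set Γ(X, U)) (S : Set Γ(X, U)) := by
    rw [Set.disjoint_left]
    rintro _ h0 ⟨g, hg, rfl⟩
    rw [SetLike.mem_coe, Ideal.mem_bot] at h0
    exact hne g (nonZeroDivisors.ne_zero hg) h0
  obtain ⟨q, hq, -, hqS⟩ := Ideal.exists_le_prime_disjoint ⊥ S hdisj
  -- the point of `X` corresponding to `q`
  set y : X := hU.fromSpec ⟨q, hq⟩ with hy
  have hyU : y ∈ U := by
    have := hU.opensRange_fromSpec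
    rw [← this]
    exact ⟨_, rfl⟩
  obtain ⟨g, hgm, hgy⟩ := hA y
  have h1 : y ∉ X.basicOpen (res X U (eval₂ φ x g)) := by
    rw [basicOpen_res']
    exact fun h => hgy h.2
  rw [mem_basicOpen_iff' U hU y hyU, not_not] at h1
  have hprime : hU.primeIdealOf ⟨y, hyU⟩ = ⟨q, hq⟩ := by
    apply hU.fromSpec.isOpenEmbedding.injective
    rw [hU.fromSpec_primeIdealOf]
  rw [hprime, res_eval₂] at h1
  refine Set.disjoint_left.mp hqS h1 ?_
  exact ⟨g, mem_nonZeroDivisors_of_ne_zero hgm.ne_zero, rfl⟩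

theorem backward [IsReduced X] [ConnectedSpace X] (φ : k →+* Γ(X, ⊤))
    (hft : ∀ U : X.Opens, IsAffineOpen U → ((res X U).comp φ).FiniteType)
    (x : Γ(X, ⊤)) (hQ : ZU x) : φ.IsIntegralElem x := by
  have hA := stepA φ hft x hQ
  obtain ⟨y₀⟩ := (inferInstance : Nonempty X)
  obtain ⟨g, hgm, hgy⟩ := hA y₀
  set z := eval₂ φ x g with hz
  have hcl : IsClopen ((X.basicOpen z : Set X)ᶜ) := by
    refine ⟨(X.basicOpen z).isOpen.isClosed_compl, ?_⟩
    rw [isOpen_iff_forall_mem_open]
    intro y hy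
    obtain ⟨U, hU, hyU⟩ : ∃ U : X.Opens, IsAffineOpen U ∧ y ∈ U := by
      obtain ⟨_, ⟨U, hU, rfl⟩, hyU, -⟩ :=
        X.isBasis_affineOpens.exists_subset_of_mem_open (Set.mem_univ y) isOpen_univ
      exact ⟨U, hU, hyU⟩
    have hxU := stepB φ x hA U hU
    have hzU : ((res X U).comp φ).IsIntegralElem (res X U z) := by
      rw [hz, res_eval₂]
      exact isIntegralElem_eval₂ _ hxU g
    obtain ⟨p, hpm, hp⟩ := hzU
    obtain ⟨w, hw⟩ := exists_basicOpen_eq_sdiff U ((res X U).comp φ) (res X U z) p hpm.ne_zero hp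
    refine ⟨(X.basicOpen w : Set X), ?_, (X.basicOpen w).isOpen, ?_⟩
    · rw [← hw, basicOpen_res']
      rintro y' ⟨hy'U, hy'⟩ hy'z
      exact hy' ⟨hy'U, hy'z⟩
    · rw [← hw, basicOpen_res']
      exact ⟨hyU, fun h => hy h.2⟩
  have huniv : ((X.basicOpen z : Set X)ᶜ) = Set.univ := hcl.eq_univ ⟨y₀, hgy⟩
  rw [Set.compl_univ_iff] at huniv
  have : X.basicOpen z = ⊥ := by
    ext y
    rw [huniv]
    simp
  exact ⟨g, hgm, (AlgebraicGeometry.basicOpen_eq_bot_iff z).mp this⟩

theorem main0216 (X : Scheme.{u}) [IsReduced X] [ConnectedSpace X]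
    (k₁ k₂ : Type u) [Field k₁] [Field k₂]
    (a : X ⟶ Spec (CommRingCat.of k₁)) (b : X ⟶ Spec (CommRingCat.of k₂))
    [LocallyOfFiniteType a] [LocallyOfFiniteType b] (x : Coh.Γtop X) :
    (Coh.toGlobal a).IsIntegralElem x ↔ (Coh.toGlobal b).IsIntegralElem x := by
  constructor
  · intro h
    exact backward (Coh.toGlobal b) (fun U hU => finiteType_res b U hU) x
      (forward (Coh.toGlobal a) x h)
  · intro h
    exact backward (Coh.toGlobal a) (fun U hU => finiteType_res a U hU) x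
      (forward (Coh.toGlobal b) x h)

end T0216

end Helpers

/-- If a connected reduced scheme is locally of finite type over two fields k₁ and k₂, then a global
function is integral over k₁ exactly when it is integral over k₂ (the integral closures of the two
base fields in the global functions coincide). -/
theorem result (X : Scheme.{u}) [IsReduced X] [ConnectedSpace X]
    (k₁ k₂ : Type u) [Field k₁] [Field k₂]
    (a : X ⟶ Spec (CommRingCat.of k₁)) (b : X ⟶ Spec (CommRingCat.of k₂))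
    [LocallyOfFiniteType a] [LocallyOfFiniteType b] (x : Coh.Γtop X) :
    (Coh.toGlobal a).IsIntegralElem x ↔ (Coh.toGlobal b).IsIntegralElem x := by
  exact T0216.main0216 X k₁ k₂ a b x

end Groth.Agent.S0216
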