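import Groth.Statements.S0218
import Mathlib.RingTheory.Adjoin.Polynomial.Basic
import Mathlib.FieldTheory.Minpoly.Field
import Mathlib.Algebra.Polynomial.Expand
-- import your own Groth.Agent.* helpers here

set_option autoImplicit false
universe u
open Curves

namespace Groth.Agent.S0218

open Polynomial

section aux

variable {k : Type u} [Field k] {A : Type u} [CommRing A] [Algebra k A]

/-- If there are exactly two subalgebras, every subalgebra is `⊥` or `⊤`, and `⊥ ≠ ⊤`. -/
theorem bot_ne_top_of_card (h : Nat.card (Subalgebra k A) = 2) : (⊥ : Subalgebra k A) ≠ ⊤ := by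
  intro hbt
  have hfin : Finite (Subalgebra k A) := Nat.finite_of_card_ne_zero (by omega)
  obtain ⟨x, y, hxy, -⟩ := Nat.card_eq_two_iff.mp h
  have hx : x = ⊥ := le_antisymm (hbt ▸ le_top) bot_le
  have hy : y = ⊥ := le_antisymm (hbt ▸ le_top) bot_le
  exact hxy (hx.trans hy.symm)

theorem eq_bot_or_top_of_card (h : Nat.card (Subalgebra k A) = 2) (S : Subalgebra k A) :
    S = ⊥ ∨ S = ⊤ := by
  have hbt := bot_ne_top_of_card h
  obtain ⟨x, y, hxy, huniv⟩ := Nat.card_eq_two_iff.mp h
  have hmem : ∀ T : Subalgebra k A, T = x ∨ T = y := fun T => by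
    have : T ∈ ({x, y} : Set (Subalgebra k A)) := huniv ▸ Set.mem_univ T
    simpa using this
  by_contra hS
  push Not at hS
  rcases hmem S with hSx | hSy <;> rcases hmem ⊥ with hbx | hby <;> rcases hmem ⊤ with htx | hty
  all_goals exact hS.1 (by simp_all)

theorem exists_special [IsAlgClosed k] (h : Nat.card (Subalgebra k A) = 2) :
    ∃ b : A, b ∉ (⊥ : Subalgebra k A) ∧ Algebra.adjoin k {b} = ⊤ ∧ (b * b = 0 ∨ b * b = b) := by
  have hbt := bot_ne_top_of_card h
  have hS := eq_bot_or_top_of_card h
  obtain ⟨a, ha⟩ : ∃ a : A, a ∉ (⊥ : Subalgebra k A) := by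
    by_contra hcon
    push Not at hcon
    exact hbt (le_antisymm bot_le (fun x _ => hcon x))
  have hadj : ∀ x : A, x ∉ (⊥ : Subalgebra k A) → Algebra.adjoin k {x} = ⊤ := by
    intro x hx
    rcases hS (Algebra.adjoin k {x}) with h1 | h1
    · exact absurd (h1 ▸ Algebra.self_mem_adjoin_singleton k x) hx
    · exact h1
  have hint : IsIntegral k a := by
    by_cases ha2 : a ^ 2 ∈ (⊥ : Subalgebra k A)
    · obtain ⟨c, hc⟩ := Algebra.mem_bot.mp ha2
      refine ⟨X ^ 2 - C c, monic_X_pow_sub_C c two_ne_zero, ?_⟩
      simp [hc]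
    · have hmem : a ∈ Algebra.adjoin k {a ^ 2} := (hadj _ ha2) ▸ Algebra.mem_top
      rw [Algebra.adjoin_singleton_eq_range_aeval] at hmem
      obtain ⟨p, hp⟩ := hmem
      replace hp : aeval (a ^ 2) p = a := hp
      rw [← isAlgebraic_iff_isIntegral]
      refine ⟨X - expand k 2 p, ?_, ?_⟩
      · intro h0
        have := congrArg (fun q => coeff q 1) h0
        simp [coeff_expand] at this
      · simp [expand_aeval, hp]
  have hnt : Nontrivial A := by
    by_contra hnt
    rw [not_nontrivial_iff_subsingleton] at hnt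
    exact ha (by rw [Subsingleton.elim a 0]; exact zero_mem _)
  set f := minpoly k a with hf
  have hdeg : f.degree ≠ 0 := (minpoly.degree_pos hint).ne'
  obtain ⟨c, hc⟩ := IsAlgClosed.exists_root f hdeg
  obtain ⟨g, hg⟩ := dvd_iff_isRoot.mpr hc
  have hg0 : g ≠ 0 := by
    rintro rfl
    exact minpoly.ne_zero hint (by simpa using hg)
  have hgdeg : g.degree < f.degree := by
    rw [hg, degree_mul, degree_X_sub_C]
    have := degree_eq_natDegree hg0
    rw [this]
    norm_cast
    omega
  have hz : aeval a g ≠ 0 := fun h0 =>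
    absurd (minpoly.degree_le_of_ne_zero k a hg0 h0) (not_le.mpr hgdeg)
  set y := a - algebraMap k A c with hy
  set z := aeval a g with hzdef
  have hyz : y * z = 0 := by
    have : aeval a f = 0 := minpoly.aeval k a
    rw [hg, map_mul] at this
    simpa using this
  have hy_notin : y ∉ (⊥ : Subalgebra k A) := fun hy' => ha (by
    have := add_mem hy' (algebraMap_mem (⊥ : Subalgebra k A) c)
    simpa [hy] using this)
  have hkey : ∀ l : k, algebraMap k A l * z = 0 → l = 0 := by
    intro l hl
    by_contra hl0
    apply hz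
    have : algebraMap k A l⁻¹ * (algebraMap k A l * z) = z := by
      rw [← mul_assoc, ← map_mul, inv_mul_cancel₀ hl0, map_one, one_mul]
    rw [← this, hl, mul_zero]
  by_cases hy2 : y * y ∈ (⊥ : Subalgebra k A)
  · obtain ⟨l, hl⟩ := Algebra.mem_bot.mp hy2
    have : l = 0 := hkey l (by rw [hl, mul_assoc, hyz, mul_zero])
    exact ⟨y, hy_notin, hadj _ hy_notin, Or.inl (by rw [← hl, this, map_zero])⟩
  · have hmem : y ∈ Algebra.adjoin k {y * y} := (hadj _ hy2) ▸ Algebra.mem_top
    rw [Algebra.adjoin_singleton_eq_range_aeval] at hmem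
    obtain ⟨p, hp⟩ := hmem
    replace hp : aeval (y * y) p = y := hp
    have hp' := divX_mul_X_add p
    set r := divX p
    set s := aeval (y * y) r with hs
    have h1 : y = s * (y * y) + algebraMap k A (p.coeff 0) := by
      conv_lhs => rw [← hp, ← hp']
      simp [hs]
    have h2 : p.coeff 0 = 0 := hkey _ (by
      have : y * z = (s * (y * y) + algebraMap k A (p.coeff 0)) * z := by rw [← h1]
      rw [hyz, add_mul, mul_assoc, mul_assoc, hyz, mul_zero, mul_zero, zero_add] at this
      exact this.symm)
    rw [h2, map_zero, add_zero] at h1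
    have hnot : y * s ∉ (⊥ : Subalgebra k A) := by
      intro he
      obtain ⟨l, hl⟩ := Algebra.mem_bot.mp he
      have : l = 0 := hkey l (by rw [hl, mul_right_comm, hyz, zero_mul])
      rw [this, map_zero] at hl
      apply hy_notin
      have : y = 0 := by
        calc y = s * (y * y) := h1
          _ = (y * s) * y := by ring
          _ = 0 := by rw [← hl, zero_mul]
      rw [this]; exact zero_mem _
    refine ⟨y * s, hnot, hadj _ hnot, Or.inr ?_⟩
    calc y * s * (y * s) = (s * (y * y)) * s := by ring
      _ = y * s := by rw [← h1]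

theorem span_one_b {b : A} (hadj : Algebra.adjoin k {b} = ⊤) (hb : b * b = 0 ∨ b * b = b) (x : A) :
    ∃ α β : k, x = algebraMap k A α + algebraMap k A β * b := by
  have hx : x ∈ Algebra.adjoin k {b} := hadj ▸ Algebra.mem_top
  induction hx using Algebra.adjoin_induction with
  | mem x hx =>
    rw [Set.mem_singleton_iff] at hx
    exact ⟨0, 1, by simp [hx]⟩
  | algebraMap r => exact ⟨r, 0, by simp⟩
  | add x y _ _ hx hy =>
    obtain ⟨α, β, rfl⟩ := hx
    obtain ⟨α', β', rfl⟩ := hy
    exact ⟨α + α', β + β', by simp only [map_add]; ring⟩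
  | mul x y _ _ hx hy =>
    obtain ⟨α, β, rfl⟩ := hx
    obtain ⟨α', β', rfl⟩ := hy
    rcases hb with hb | hb
    · exact ⟨α * α', α * β' + β * α', by
        simp only [map_add, map_mul]
        linear_combination (algebraMap k A β * algebraMap k A β') * hb⟩
    · exact ⟨α * α', α * β' + β * α' + β * β', by
        simp only [map_add, map_mul]
        linear_combination (algebraMap k A β * algebraMap k A β') * hb⟩

theorem indep_one_b {b : A} (hb : b ∉ (⊥ : Subalgebra k A)) {α β : k}
    (h0 : algebraMap k A α + algebraMap k A β * b = 0) : α = 0 ∧ β = 0 := by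
  have hnt : Nontrivial A := by
    by_contra hnt
    rw [not_nontrivial_iff_subsingleton] at hnt
    exact hb (by rw [Subsingleton.elim b 0]; exact zero_mem _)
  have hβ : β = 0 := by
    by_contra hβ
    apply hb
    have : b = algebraMap k A (-(β⁻¹ * α)) := by
      have h1 : algebraMap k A β⁻¹ * (algebraMap k A α + algebraMap k A β * b) = 0 := by
        rw [h0, mul_zero]
      rw [mul_add, ← mul_assoc, ← map_mul, ← map_mul, inv_mul_cancel₀ hβ, map_one, one_mul] at h1
      rw [map_neg]
      exact eq_neg_of_add_eq_zero_right h1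
    rw [this]
    exact algebraMap_mem _ _
  refine ⟨?_, hβ⟩
  rw [hβ, map_zero, zero_mul, add_zero] at h0
  exact (map_eq_zero_iff _ (algebraMap k A).injective).mp h0

end aux

/-- Over an algebraically closed field k, a commutative k-algebra with exactly two k-subalgebras is
isomorphic to k × k or to the dual numbers over k. -/
theorem result (k : Type u) [Field k] [IsAlgClosed k] (A : Type u) [CommRing A] [Algebra k A]
    (h : Nat.card (Subalgebra k A) = 2) :
    Nonempty (A ≃ₐ[k] (k × k)) ∨ Nonempty (A ≃ₐ[k] DualNumber k) := by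
  obtain ⟨b, hb, hadj, hbb⟩ := exists_special h
  have hspan := span_one_b hadj hbb
  rcases hbb with hb0 | hb1
  · right
    let φ : DualNumber k →ₐ[k] A :=
      DualNumber.lift ⟨(Algebra.ofId k A, b), hb0, fun _ => Commute.all _ _⟩
    have hφ : ∀ x : DualNumber k, φ x = algebraMap k A x.fst + algebraMap k A x.snd * b := fun x =>
      DualNumber.lift_apply_apply _ x
    have hinj : Function.Injective φ := by
      rw [injective_iff_map_eq_zero]
      intro x hx
      rw [hφ] at hx
      obtain ⟨h1, h2⟩ := indep_one_b hb hx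
      exact TrivSqZeroExt.ext h1 h2
    have hsurj : Function.Surjective φ := by
      intro x
      obtain ⟨α, β, rfl⟩ := hspan x
      refine ⟨TrivSqZeroExt.inl α + TrivSqZeroExt.inr β, ?_⟩
      rw [hφ]
      simp
    exact ⟨(AlgEquiv.ofBijective φ ⟨hinj, hsurj⟩).symm⟩
  · left
    let ψ : (k × k) →ₗ[k] A :=
      (LinearMap.fst k k k).smulRight b + (LinearMap.snd k k k).smulRight (1 - b)
    have hψ : ∀ x : k × k, ψ x = algebraMap k A x.1 * b + algebraMap k A x.2 * (1 - b) := fun x => by
      simp [ψ, Algebra.smul_def]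
    let φ : (k × k) →ₐ[k] A := AlgHom.ofLinearMap ψ (by rw [hψ]; simp) (by
      intro x y
      rw [hψ, hψ, hψ]
      simp only [Prod.fst_mul, Prod.snd_mul, map_mul]
      linear_combination (-(algebraMap k A x.1 * algebraMap k A y.1 - algebraMap k A x.1 * algebraMap k A y.2
        - algebraMap k A x.2 * algebraMap k A y.1 + algebraMap k A x.2 * algebraMap k A y.2)) * hb1)
    have hφ : ∀ x : k × k, φ x = algebraMap k A x.2 + algebraMap k A (x.1 - x.2) * b := fun x => by
      change ψ x = _
      rw [hψ, map_sub]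
      ring
    have hinj : Function.Injective φ := by
      rw [injective_iff_map_eq_zero]
      intro x hx
      rw [hφ] at hx
      obtain ⟨h1, h2⟩ := indep_one_b hb hx
      refine Prod.ext ?_ h1
      rw [sub_eq_zero] at h2
      rw [h2, h1]
      rfl
    have hsurj : Function.Surjective φ := by
      intro x
      obtain ⟨α, β, rfl⟩ := hspan x
      refine ⟨(α + β, α), ?_⟩
      rw [hφ]
      simp
    exact ⟨(AlgEquiv.ofBijective φ ⟨hinj, hsurj⟩).symm⟩

end Groth.Agent.S0218
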