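import Groth.Statements.S0219
import Mathlib
import Groth.Agent.Lib.Helper91.DimOneTop

set_option autoImplicit false
universe u
open CategoryTheory CategoryTheory.Limits AlgebraicGeometry TopologicalSpace
open Curves

namespace Groth.Agent.S0219

/-- A morphism over a field from a proper scheme of dimension at most one to a separated scheme, which
does not contract any one-dimensional irreducible component to a point, is finite. -/
theorem result (k : Type u) [Field k] (X Y : Scheme.{u}) (p : X ⟶ Spec (CommRingCat.of k)) (q : Y ⟶ Spec (CommRingCat.of k))
    [IsProper p] [IsSeparated q] (f : X ⟶ Y) (hf : f ≫ q = p) (hdim : topologicalKrullDim X ≤ 1)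
    (h : ∀ Z ∈ irreducibleComponents (X : Type u), topologicalKrullDim Z = 1 → (f.base '' Z).Nontrivial) :
    IsFinite f := by
  have hfp : IsProper f := by
    have : IsProper (f ≫ q) := by rw [hf]; infer_instance
    exact IsProper.of_comp f q
  have hLN : IsLocallyNoetherian X := LocallyOfFiniteType.isLocallyNoetherian p
  have hC : CompactSpace X := QuasiCompact.compactSpace_of_compactSpace p
  have hNoe : IsNoetherian X := {}
  have hQF : LocallyQuasiFinite f :=
    LocallyQuasiFinite.of_finite_preimage_singleton f (fun y =>
      Groth.Agent.Lib.Helper91.DimOneTop.finite_preimage_singleton f.base f.continuous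
        f.isClosedMap hdim h y)
  exact IsFinite.of_isProper_of_locallyQuasiFinite f

end Groth.Agent.S0219
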