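import Groth.Statements.S0220
import Mathlib
import Groth.Agent.Lib.Helper91.FlatDedekind

set_option autoImplicit false
universe u
open CategoryTheory CategoryTheory.Limits AlgebraicGeometry TopologicalSpace
open Curves

namespace Groth.Agent.S0220

/-- A nonconstant morphism between curves over a field (integral, separated, finite type, dimension one)
whose target has integrally closed local domains is flat. -/
theorem result (k : Type u) [Field k] (X Y : Scheme.{u}) (p : X ⟶ Spec (CommRingCat.of k)) (q : Y ⟶ Spec (CommRingCat.of k))
    [IsIntegral X] [IsIntegral Y] [IsSeparated p] [IsSeparated q] [LocallyOfFiniteType p] [LocallyOfFiniteType q]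
    [QuasiCompact p] [QuasiCompact q] (hX : topologicalKrullDim X = 1) (hY : topologicalKrullDim Y = 1)
    (hN : ∀ y : Y, IsDomain (Y.presheaf.stalk y) ∧ IsIntegrallyClosed (Y.presheaf.stalk y))
    (f : X ⟶ Y) (hf : f ≫ q = p) (hnc : (Set.range f.base).Nontrivial) :
    Flat f := by
  have hLN : IsLocallyNoetherian Y := LocallyOfFiniteType.isLocallyNoetherian q
  have hqc : QuasiCompact f := by
    have : QuasiCompact (f ≫ q) := by rw [hf]; infer_instance
    exact QuasiCompact.of_comp f q
  have hdom : IsDominant f := by
    constructor
    rw [DenseRange, dense_iff_closure_eq]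
    -- the closure of the range as an irreducible closed set
    have hirr : IsIrreducible (closure (Set.range f.base)) := by
      apply IsIrreducible.closure
      rw [← Set.image_univ]
      exact (IrreducibleSpace.isIrreducible_univ X).image f.base f.continuous.continuousOn
    let Z : IrreducibleCloseds Y := ⟨closure (Set.range f.base), hirr, isClosed_closure⟩
    have hk : Order.krullDim (IrreducibleCloseds Y) ≤ 1 := by
      have := hY.le
      exact this
    rcases (Order.krullDim_le_one_iff.mp hk) Z with hmin | hmax
    · exfalso
      obtain ⟨c₁, hc₁, c₂, hc₂, hne⟩ := hnc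
      have key : ∀ c ∈ Set.range f.base, closure {c} = closure (Set.range f.base) := by
        intro c hc
        let W : IrreducibleCloseds Y := ⟨closure {c}, isIrreducible_singleton.closure, isClosed_closure⟩
        have hWZ : W ≤ Z := by
          show closure {c} ⊆ closure (Set.range f.base)
          exact closure_mono (Set.singleton_subset_iff.mpr hc)
        have hZW : Z ≤ W := hmin hWZ
        exact le_antisymm hWZ hZW
      have h12 : closure {c₁} = closure {c₂} := (key c₁ hc₁).trans (key c₂ hc₂).symm
      have : Inseparable c₁ c₂ := inseparable_iff_closure_eq.mpr h12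
      exact hne this.eq
    · let T : IrreducibleCloseds Y := ⟨Set.univ, IrreducibleSpace.isIrreducible_univ Y, isClosed_univ⟩
      have hZT : Z ≤ T := by
        show closure (Set.range f.base) ⊆ Set.univ
        exact Set.subset_univ _
      have hTZ : T ≤ Z := hmax hZT
      exact le_antisymm (Set.subset_univ _) hTZ
  exact Groth.Agent.Lib.Helper91.FlatDedekind.flat_of_isDominant f hY.le
    (fun y => (hN y).2)

end Groth.Agent.S0220
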