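import Groth.Statements.S0226
import Groth.Agent.S0558
import Mathlib.RingTheory.DiscreteValuationRing.TFAE
import Mathlib.RingTheory.Ideal.MinimalPrime.Noetherian
import Mathlib.RingTheory.Nakayama
import Mathlib.RingTheory.Coprime.Lemmas
import Mathlib.RingTheory.Ideal.Quotient.Nilpotent
-- import your own Groth.Agent.* helpers here

set_option autoImplicit false
universe u
open Curves

namespace Groth.Agent.S0226

open IsLocalRing

lemma prod_dvd_of_primes {A ι : Type*} [CommRing A] [IsDomain A] (s : Finset ι) (f : ι → A)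
    (hprime : ∀ i ∈ s, Prime (f i))
    (hnd : ∀ i ∈ s, ∀ j ∈ s, i ≠ j → ¬ f i ∣ f j) (a : A) (hdiv : ∀ i ∈ s, f i ∣ a) :
    ∏ i ∈ s, f i ∣ a := by
  classical
  induction s using Finset.induction_on generalizing a with
  | empty => simp
  | insert i s hi ih =>
    rw [Finset.prod_insert hi]
    obtain ⟨k, rfl⟩ := hdiv i (Finset.mem_insert_self i s)
    apply mul_dvd_mul_left
    apply ih (fun j hj => hprime j (Finset.mem_insert_of_mem hj))
      (fun j hj l hl hjl => hnd j (Finset.mem_insert_of_mem hj) l (Finset.mem_insert_of_mem hl) hjl)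
    intro j hj
    have h1 := hdiv j (Finset.mem_insert_of_mem hj)
    rcases (hprime j (Finset.mem_insert_of_mem hj)).dvd_or_dvd h1 with h | h
    · exfalso
      exact hnd j (Finset.mem_insert_of_mem hj) i (Finset.mem_insert_self i s)
        (fun hji => hi (hji ▸ hj)) h
    · exact h

/-- In a regular local ring of dimension two, every prime other than the maximal ideal is
principal. -/
theorem prime_isPrincipal (A : Type u) [CommRing A] [IsRegularLocalRing A]
    (hdim : ringKrullDim A = 2) (p : Ideal A) [hp : p.IsPrime] (hpm : p ≠ maximalIdeal A) :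
    ∃ f : A, p = Ideal.span {f} := by
  have : IsDomain A := Groth.Agent.S0558.result A
  have hsf : (maximalIdeal A).spanFinrank = 2 := by
    have h := IsRegularLocalRing.spanFinrank_maximalIdeal (R := A)
    rw [hdim] at h
    exact_mod_cast h
  -- an element of m outside m²
  obtain ⟨x, hx, hx2⟩ : ∃ x ∈ maximalIdeal A, x ∉ (maximalIdeal A) ^ 2 := by
    by_contra hcon
    push Not at hcon
    have hle : maximalIdeal A ≤ maximalIdeal A • maximalIdeal A := by
      intro y hy
      have := hcon y hy
      rwa [pow_two] at this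
    have hbot : maximalIdeal A = ⊥ :=
      Submodule.eq_bot_of_le_smul_of_le_jacobson_bot (maximalIdeal A) (maximalIdeal A)
        (IsNoetherian.noetherian _) hle (IsLocalRing.maximalIdeal_le_jacobson _)
    rw [hbot, Submodule.spanFinrank_bot] at hsf
    omega
  obtain ⟨hreg, hfr⟩ := Groth.Agent.S0558.isRegularLocalRing_quot A x hx hx2
  set Q := A ⧸ Ideal.span ({x} : Set A) with hQ
  have : IsDomain Q := Groth.Agent.S0558.result Q
  have hQ1 : (maximalIdeal Q).spanFinrank = 1 := by
    have := hfr
    rw [hsf] at this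
    exact Nat.succ_injective this
  have hprinc : (maximalIdeal Q).IsPrincipal :=
    ((Submodule.spanFinrank_eq_one_iff _).mp hQ1).1
  have hPIR : IsPrincipalIdealRing Q :=
    ((tfae_of_isNoetherianRing_of_isLocalRing_of_isDomain Q).out 4 0).mp hprinc
  have hall : ∀ P : Ideal Q, P ≠ ⊥ → P.IsPrime → P = maximalIdeal Q := by
    have h03 : IsPrincipalIdealRing Q ↔ (IsIntegrallyClosed Q ∧
        ∀ P : Ideal Q, P ≠ ⊥ → P.IsPrime → P = maximalIdeal Q) :=
      (tfae_of_isNoetherianRing_of_isLocalRing_of_isDomain Q).out 0 3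
    exact (h03.mp hPIR).2
  have hker : RingHom.ker (Ideal.Quotient.mk (Ideal.span ({x} : Set A))) = Ideal.span {x} :=
    Ideal.mk_ker
  have hsurj : Function.Surjective (Ideal.Quotient.mk (Ideal.span ({x} : Set A))) :=
    Ideal.Quotient.mk_surjective
  by_cases hxp : x ∈ p
  · -- p contains x
    have hle : Ideal.span ({x} : Set A) ≤ p := (Ideal.span_singleton_le_iff_mem (I := p)).mpr hxp
    have hkle : RingHom.ker (Ideal.Quotient.mk (Ideal.span ({x} : Set A))) ≤ p := by
      rw [hker]; exact hle
    have hprime : (p.map (Ideal.Quotient.mk (Ideal.span ({x} : Set A)))).IsPrime :=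
      Ideal.map_isPrime_of_surjective hsurj hkle
    have hcomap : (p.map (Ideal.Quotient.mk (Ideal.span ({x} : Set A)))).comap
        (Ideal.Quotient.mk (Ideal.span ({x} : Set A))) = p :=
      Ideal.comap_map_of_surjective' _ hsurj p ▸ by
        rw [sup_eq_left]; exact hkle
    by_cases hbot : p.map (Ideal.Quotient.mk (Ideal.span ({x} : Set A))) = ⊥
    · refine ⟨x, le_antisymm ?_ hle⟩
      rw [← hker]
      intro a ha
      rw [RingHom.mem_ker]
      have : Ideal.Quotient.mk (Ideal.span ({x} : Set A)) a ∈
          p.map (Ideal.Quotient.mk (Ideal.span ({x} : Set A))) := Ideal.mem_map_of_mem _ ha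
      rw [hbot] at this
      exact this
    · exfalso
      have hmax := hall _ hbot hprime
      apply hpm
      rw [← hcomap, hmax]
      exact IsLocalRing.eq_maximalIdeal (Ideal.comap_isMaximal_of_surjective _ hsurj)
  · -- p does not contain x
    obtain ⟨g, hg⟩ := (IsPrincipalIdealRing.principal
      (p.map (Ideal.Quotient.mk (Ideal.span ({x} : Set A))))).principal
    have hgmem : g ∈ p.map (Ideal.Quotient.mk (Ideal.span ({x} : Set A))) := by
      rw [hg]; exact Submodule.mem_span_singleton_self g
    rw [Ideal.mem_map_iff_of_surjective _ hsurj] at hgmem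
    obtain ⟨f, hfp, hfg⟩ := hgmem
    refine ⟨f, le_antisymm ?_ ((Ideal.span_singleton_le_iff_mem (I := p)).mpr hfp)⟩
    apply Submodule.le_of_le_smul_of_le_jacobson_bot (I := maximalIdeal A)
      (IsNoetherian.noetherian p) (IsLocalRing.maximalIdeal_le_jacobson _)
    intro a ha
    have ha' : Ideal.Quotient.mk (Ideal.span ({x} : Set A)) a ∈
        p.map (Ideal.Quotient.mk (Ideal.span ({x} : Set A))) := Ideal.mem_map_of_mem _ ha
    rw [hg] at ha'
    obtain ⟨c, hc⟩ := Submodule.mem_span_singleton.mp ha'
    obtain ⟨c', rfl⟩ := hsurj c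
    have hdiff : a - c' * f ∈ Ideal.span ({x} : Set A) := by
      rw [← hker, RingHom.mem_ker, map_sub, map_mul, hfg, ← hc]
      simp
    obtain ⟨b, hb⟩ := Ideal.mem_span_singleton'.mp hdiff
    have hbp : b ∈ p := by
      have hmem : b * x ∈ p := by
        rw [hb]
        exact p.sub_mem ha (p.mul_mem_left _ hfp)
      rcases hp.mem_or_mem hmem with h | h
      · exact h
      · exact absurd h hxp
    have : a = c' * f + x * b := by rw [mul_comm x b, hb]; ring
    rw [this]
    refine Submodule.add_mem_sup ?_ ?_
    · exact Ideal.mul_mem_left _ _ (Submodule.mem_span_singleton_self f)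
    · exact Submodule.smul_mem_smul hx hbp

/-- In a regular local ring of dimension two, an ideal inside the maximal ideal with reduced quotient is
zero, the maximal ideal, or principal. -/
theorem result (A : Type u) [CommRing A] [IsRegularLocalRing A] (hdim : ringKrullDim A = 2)
    (I : Ideal A) (hI : I ≤ IsLocalRing.maximalIdeal A) [IsReduced (A ⧸ I)] :
    I = ⊥ ∨ I = IsLocalRing.maximalIdeal A ∨ ∃ f ∈ IsLocalRing.maximalIdeal A, f ≠ 0 ∧ I = Ideal.span {f} := by
  have : IsDomain A := Groth.Agent.S0558.result A
  by_cases h0 : I = ⊥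
  · exact Or.inl h0
  by_cases hm : I = maximalIdeal A
  · exact Or.inr (Or.inl hm)
  refine Or.inr (Or.inr ?_)
  have hrad : I.IsRadical := (Ideal.isRadical_iff_quotient_reduced I).mpr inferInstance
  have hsInf : sInf I.minimalPrimes = I := by
    rw [Ideal.sInf_minimalPrimes, hrad.radical]
  have hfin : I.minimalPrimes.Finite := Ideal.finite_minimalPrimes_of_isNoetherianRing A I
  -- no minimal prime is the maximal ideal
  have hne : ∀ p ∈ I.minimalPrimes, p ≠ maximalIdeal A := by
    intro p hp hpm
    apply hm
    rw [← hsInf]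
    apply le_antisymm
    · exact sInf_le (hpm ▸ hp)
    · apply le_sInf
      intro q hq
      have hqle : q ≤ maximalIdeal A := IsLocalRing.le_maximalIdeal hq.1.1.ne_top
      have := hp.2 hq.1 (hpm ▸ hqle)
      rwa [hpm] at this
  -- choose generators
  have hgen : ∀ p ∈ I.minimalPrimes, ∃ f : A, p = Ideal.span {f} := by
    intro p hp
    have := hp.1.1
    exact prime_isPrincipal A hdim p (hne p hp)
  choose! gen hgen' using hgen
  have hgen0 : ∀ p ∈ I.minimalPrimes, gen p ≠ 0 := by
    intro p hp h
    apply h0
    have := hgen' p hp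
    rw [h, Ideal.span_singleton_zero] at this
    exact le_bot_iff.mp (this ▸ hp.1.2)
  have hgenprime : ∀ p ∈ I.minimalPrimes, Prime (gen p) := by
    intro p hp
    rw [← Ideal.span_singleton_prime (hgen0 p hp), ← hgen' p hp]
    exact hp.1.1
  set s := hfin.toFinset with hs
  set g := ∏ p ∈ s, gen p with hg
  have hgI : g ∈ I := by
    rw [← hsInf, Ideal.mem_sInf]
    intro p hp
    rw [hgen' p hp, Ideal.mem_span_singleton]
    exact Finset.dvd_prod_of_mem gen (hfin.mem_toFinset.mpr hp)
  have hIg : I ≤ Ideal.span {g} := by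
    intro a ha
    rw [Ideal.mem_span_singleton]
    apply prod_dvd_of_primes s gen
    · intro p hp
      exact hgenprime p (hfin.mem_toFinset.mp hp)
    · intro p hp q hq hpq hdvd
      have hp' := hfin.mem_toFinset.mp hp
      have hq' := hfin.mem_toFinset.mp hq
      apply hpq
      have hle : q ≤ p := by
        rw [hgen' p hp', hgen' q hq', Ideal.span_singleton_le_span_singleton]
        exact hdvd
      exact le_antisymm (hp'.2 hq'.1 hle) hle
    · intro p hp
      have hp' := hfin.mem_toFinset.mp hp
      rw [← Ideal.mem_span_singleton, ← hgen' p hp']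
      exact hp'.1.2 ha
  have hIeq : I = Ideal.span {g} :=
    le_antisymm hIg ((Ideal.span_singleton_le_iff_mem (I := I)).mpr hgI)
  refine ⟨g, hI hgI, ?_, hIeq⟩
  intro hg0
  apply h0
  rw [hIeq, hg0, Ideal.span_singleton_zero]

end Groth.Agent.S0226
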