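import Groth.Statements.S0232
import Groth.Agent.Lib.Helper61.PicDescent
import Groth.Agent.Lib.Helper61.H0Field

set_option autoImplicit false
universe u
open CategoryTheory CategoryTheory.Limits AlgebraicGeometry
open Curves

namespace Groth.Agent.S0232

theorem nonempty_iso_of_cl_eq {Y : Scheme.{u}} {M N : Y.Modules} (h : PicF.cl M = PicF.cl N) :
    Nonempty (M ≅ N) := by
  have h1 := Quot.eqvGen_exact h
  clear h
  induction h1 with
  | rel a b hab => exact hab
  | refl a => exact ⟨Iso.refl _⟩
  | symm a b _ ih => exact ⟨ih.some.symm⟩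
  | trans a b c _ _ ih1 ih2 => exact ⟨ih1.some ≪≫ ih2.some⟩

/-- For a quasi-compact quasi-separated scheme X over a field k with finite-dimensional H^0(X, O_X), an
invertible module on X that becomes trivial after base change to a field extension k' is already
trivial (injectivity of Pic(X) → Pic(X_{k'}), stated on classes without a group structure). The base
change is given as any pullback square. -/
theorem result (k : Type u) [Field k] (X : Scheme.{u}) [X.Over (Spec (CommRingCat.of k))]
    [CompactSpace X] [QuasiSeparatedSpace X]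
    (hfin : Module.Finite k (Coh.HH X (Coh.structureModule X) 0))
    (k' : Type u) [Field k'] [Algebra k k'] (X' : Scheme.{u}) (g : X' ⟶ X) (q : X' ⟶ Spec (CommRingCat.of k'))
    (hpb : IsPullback g q (X ↘ Spec (CommRingCat.of k)) (Spec.map (CommRingCat.ofHom (algebraMap k k'))))
    (L : X.Modules) (hL : PicF.IsInvertible L) (htriv : PicF.IsTrivialCl (PicF.pullCl g (PicF.cl L))) :
    PicF.IsTrivialCl (PicF.cl L) := by
  obtain ⟨φ⟩ : Nonempty ((Scheme.Modules.pullback g).obj L ≅ Coh.structureModule X') :=
    nonempty_iso_of_cl_eq htriv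
  letI : Algebra k Γ(X, ⊤) := (((Scheme.ΓSpecIso (CommRingCat.of k)).inv ≫
      (X ↘ Spec (CommRingCat.of k)).appTop).hom).toAlgebra
  let e : Coh.HH X (Coh.structureModule X) 0 ≃ₗ[k] Γ(X, ⊤) :=
    { (Groth.Agent.Lib.Helper61.H0Field.hh0EquivO X) with
      map_smul' := by
        intro c x
        change Groth.Agent.Lib.Helper61.H0Field.hh0EquivO X
          ((Coh.toGlobal (X ↘ Spec (CommRingCat.of k)) c) • x) = _
        rw [Groth.Agent.Lib.Helper61.H0Field.hh0EquivO_smul]
        rfl }
  haveI : Module.Finite k Γ(X, ⊤) := Module.Finite.equiv e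
  haveI : IsArtinianRing Γ(X, ⊤) := IsArtinianRing.of_finite k Γ(X, ⊤)
  have hff : (CommRingCat.ofHom (algebraMap k k')).hom.FaithfullyFlat :=
    RingHom.faithfullyFlat_algebraMap_iff.mpr inferInstance
  obtain ⟨h1, h2⟩ := (flat_and_surjective_SpecMap_iff (CommRingCat.ofHom (algebraMap k k'))).2 hff
  haveI := h1
  haveI := h2
  haveI := Groth.Agent.Lib.QCoh.isQuasicoherent_of_isInvertible hL
  obtain ⟨ψ⟩ := Groth.Agent.Lib.Helper61.PicDescent.nonempty_iso_structureModule_of_pullback
    hpb L φ
  exact Quot.sound ⟨ψ⟩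

end Groth.Agent.S0232
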