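import Groth.Statements.S2127
import Groth.Agent.Lib.Ample.Helper50_Avoid
import Groth.Agent.Lib.QCoh.Helper74_LocFreeRank

set_option autoImplicit false
universe u
open CategoryTheory AlgebraicGeometry
open Mor

namespace Groth.Agent.S2127

/-- Let `X` be a quasi-affine scheme, `L` an invertible `O_X`-module, `W ⊆ X` open and `E ⊆ W` finite.
Then there is a global section `s` of `L` with `X_s` affine and `E ⊆ X_s ⊆ W`. -/
theorem result {X : Scheme.{u}} [X.IsQuasiAffine] (L : X.Modules) (hL : PicF.IsInvertible L)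
    (W : X.Opens) (E : Set X) (hE : E.Finite) (hEW : E ⊆ W) :
    ∃ s : Coh.structureModule X ⟶ L, IsAffineOpen (CohB1.genLocus L s) ∧ E ⊆ CohB1.genLocus L s ∧
      CohB1.genLocus L s ≤ W := by
  classical
  have hO : CohB1.IsAmple (Coh.structureModule X) :=
    Groth.Agent.Lib.Ample.isAmple_of_isQuasiAffine _ (Groth.Agent.Lib.QCoh.isInvertible_structureModule X)
  have : L.IsQuasicoherent := Groth.Agent.Lib.QCoh.isQuasicoherent_of_isInvertible hL
  -- an affine neighbourhood `V` of `E` inside `W`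
  obtain ⟨n₁, t₁, hE₁, ht₁W, haff₁⟩ :=
    Groth.Agent.Lib.Ample.Avoid.exists_affine_genLocus_of_finite hO E hE W hEW
  -- `L` is trivial on a neighbourhood `U₂` of `E` inside `V`
  obtain ⟨U₂, hEU₂, hU₂V, ⟨φ⟩⟩ := Groth.Agent.Lib.QCoh.exists_triv_of_finite_subset_affine
    (Groth.Agent.Lib.QCoh.isFinLocFreeOfRank_one_iff_isInvertible.2 hL) hE haff₁ hE₁
  obtain ⟨e, he⟩ := Groth.Agent.Lib.Ample.exists_isGenerator_of_iso U₂
    (φ ≪≫ Groth.Agent.Lib.QCoh.freeModOneIso _)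
  -- a smaller neighbourhood of the form `X_r`, `r` a global function
  obtain ⟨n₂, t₂, hE₂, ht₂U, haff₂⟩ :=
    Groth.Agent.Lib.Ample.Avoid.exists_affine_genLocus_of_finite hO E hE U₂ hEU₂
  have h1 : CohB1.genLocus (Coh.structureModule X)
      (t₂ ≫ (Groth.Agent.Lib.QCoh.tensorPowUnitIso X (n₂ + 1)).hom) = CohB1.genLocus _ t₂ :=
    Groth.Agent.Lib.Ample.genLocus_comp_iso t₂ (Groth.Agent.Lib.QCoh.tensorPowUnitIso X (n₂ + 1))
  rw [Groth.Agent.Lib.Ample.genLocus_unit] at h1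
  have hrU : X.basicOpen (Groth.Agent.Lib.Ample.fnOf
      (t₂ ≫ (Groth.Agent.Lib.QCoh.tensorPowUnitIso X (n₂ + 1)).hom)) ≤ U₂ := h1 ▸ ht₂U
  obtain ⟨s, hs⟩ := Groth.Agent.Lib.Ample.exists_genLocus_eq_basicOpen L _
    (Groth.Agent.Lib.Ample.resSec L hrU e) (he.mono hrU)
  refine ⟨s, ?_, ?_, ?_⟩
  · rw [hs, h1]; exact haff₂
  · rw [hs, h1]; exact hE₂
  · rw [hs, h1]; exact (ht₂U.trans hU₂V).trans ht₁W

end Groth.Agent.S2127
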