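import Groth.Statements.S0235
import Groth.Agent.S2127
import Groth.Agent.Lib.Ample.Restrict
import Mathlib.AlgebraicGeometry.Morphisms.QuasiFinite

set_option autoImplicit false
universe u
open CategoryTheory CategoryTheory.Limits AlgebraicGeometry TopologicalSpace

namespace Groth.Agent.S0235

open Groth.Agent.Lib.Ample Groth.Agent.Lib.QCoh Scheme.Modules in
/-- For a finite morphism π : X → Y and an invertible module L on X, every point y of Y has an open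
neighbourhood V such that L is trivial on the preimage of V. -/
theorem result {X Y : Scheme.{u}} (π : X ⟶ Y) [IsFinite π]
    (L : X.Modules) (hL : PicF.IsInvertible L) (y : Y) :
    ∃ V : Y.Opens, y ∈ V ∧ Nonempty (L.restrict (π ⁻¹ᵁ V).ι ≅ Coh.structureModule (↑(π ⁻¹ᵁ V))) := by
  obtain ⟨V₀, hV₀, hyV₀, -⟩ := Opens.isBasis_iff_nbhd.1 Y.isBasis_affineOpens
    (U := ⊤) (x := y) trivial
  have hX₀ : IsAffineOpen (π ⁻¹ᵁ V₀) := hV₀.preimage π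
  have : IsAffine (↑(π ⁻¹ᵁ V₀) : Scheme.{u}) := hX₀
  have hE : ((π ⁻¹ᵁ V₀).ι ⁻¹' (π ⁻¹' {y})).Finite :=
    (π.finite_preimage_singleton y).preimage (π ⁻¹ᵁ V₀).ι.isOpenEmbedding.injective.injOn
  obtain ⟨s, -, hEs, -⟩ := Groth.Agent.S2127.result (L.restrict (π ⁻¹ᵁ V₀).ι)
    (isInvertible_restrict (π ⁻¹ᵁ V₀).ι hL) ⊤ ((π ⁻¹ᵁ V₀).ι ⁻¹' (π ⁻¹' {y})) hE
    (fun _ _ => trivial)
  have hiso : IsIso ((restrictFunctor (CohB1.genLocus (L.restrict (π ⁻¹ᵁ V₀).ι) s).ι).map s) :=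
    isIso_restrict_genLocus _ s
  let e₀ : (L.restrict (π ⁻¹ᵁ V₀).ι).restrict (CohB1.genLocus (L.restrict (π ⁻¹ᵁ V₀).ι) s).ι ≅
      Coh.structureModule (↑(CohB1.genLocus (L.restrict (π ⁻¹ᵁ V₀).ι) s) : Scheme.{u}) :=
    (asIso ((restrictFunctor (CohB1.genLocus (L.restrict (π ⁻¹ᵁ V₀).ι) s).ι).map s)).symm ≪≫
      restrictUnitIso (CohB1.genLocus (L.restrict (π ⁻¹ᵁ V₀).ι) s).ι
  obtain ⟨G', hG'⟩ : ∃ G' : X.Opens,
      G' = (π ⁻¹ᵁ V₀).ι ''ᵁ (CohB1.genLocus (L.restrict (π ⁻¹ᵁ V₀).ι) s) := ⟨_, rfl⟩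
  have e' : L.restrict G'.ι ≅ Coh.structureModule (↑G' : Scheme.{u}) := by
    rw [hG']; exact isoUnitOfRestrictRestrict (π ⁻¹ᵁ V₀) _ e₀
  have hfib : π ⁻¹' {y} ⊆ (G' : Set X) := by
    intro p hp
    have hpy : π p = y := hp
    have hpX₀ : p ∈ π ⁻¹ᵁ V₀ := by
      change π p ∈ V₀
      rw [hpy]; exact hyV₀
    rw [hG']
    exact ⟨⟨p, hpX₀⟩, hEs (show (π ⁻¹ᵁ V₀).ι ⟨p, hpX₀⟩ ∈ π ⁻¹' {y} from hp), rfl⟩
  have hcl : IsClosed (π '' (G' : Set X)ᶜ) := π.isClosedMap _ G'.isOpen.isClosed_compl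
  refine ⟨⟨(π '' (G' : Set X)ᶜ)ᶜ, hcl.isOpen_compl⟩, ?_, ⟨restrictIsoUnitOfLE ?_ e'⟩⟩
  · rintro ⟨p, hp, hpy⟩
    exact hp (hfib hpy)
  · intro p hp
    by_contra h
    exact hp ⟨p, h, rfl⟩

end Groth.Agent.S0235
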