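import Groth.Statements.S0237
import Mathlib.AlgebraicGeometry.Morphisms.FormallyUnramified
import Mathlib.AlgebraicGeometry.Morphisms.UniversallyOpen
import Mathlib.AlgebraicGeometry.Morphisms.Separated
import Mathlib.AlgebraicGeometry.PullbackCarrier
-- import your own Groth.Agent.* helpers here

set_option autoImplicit false
universe u
open Pi1

namespace Groth.Agent.S0237

open AlgebraicGeometry CategoryTheory CategoryTheory.Limits in
/-- two morphisms to a separated unramified scheme over `S` that agree on a dense set agree. -/
lemma eq_of_comp_eq_of_dense {S A B A' : Scheme.{u}} (p : A ⟶ S) (q : B ⟶ S)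
    [FormallyUnramified q] [LocallyOfFiniteType q] [IsSeparated q]
    (a b : A ⟶ B) (ha : a ≫ q = p) (hb : b ≫ q = p) (π : A' ⟶ A) (hπ : DenseRange π.base)
    (hab : π ≫ a = π ≫ b) : a = b := by
  have hcond : a ≫ q = b ≫ q := ha.trans hb.symm
  have hw : π ≫ pullback.lift a b hcond = (π ≫ a) ≫ pullback.diagonal q := by
    apply pullback.hom_ext
    · rw [Category.assoc, pullback.lift_fst, Category.assoc, pullback.diagonal_fst,
        Category.comp_id]
    · rw [Category.assoc, pullback.lift_snd, Category.assoc, pullback.diagonal_snd,
        Category.comp_id, hab]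
  have hclosed : IsClosed (Set.range (pullback.diagonal q).base) :=
    (pullback.diagonal q).isClosedEmbedding.isClosed_range
  have hrange : Set.range (pullback.lift a b hcond).base ⊆
      Set.range (pullback.diagonal q).base := by
    have hpre : IsClosed ((pullback.lift a b hcond).base ⁻¹'
        Set.range (pullback.diagonal q).base) :=
      hclosed.preimage (pullback.lift a b hcond).continuous
    have hsub : Set.range π.base ⊆ (pullback.lift a b hcond).base ⁻¹'
        Set.range (pullback.diagonal q).base := by
      rintro _ ⟨x', rfl⟩
      refine ⟨(π ≫ a).base x', ?_⟩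
      have := congrArg (fun φ => φ.base x') hw
      simpa using this.symm
    have huniv : (pullback.lift a b hcond).base ⁻¹' Set.range (pullback.diagonal q).base =
        Set.univ := by
      apply Set.eq_univ_of_univ_subset
      rw [← hπ.closure_range]
      exact closure_minimal hsub hpre
    rintro _ ⟨x, rfl⟩
    have : x ∈ (pullback.lift a b hcond).base ⁻¹' Set.range (pullback.diagonal q).base := by
      rw [huniv]; trivial
    exact this
  have ht : IsOpenImmersion.lift (pullback.diagonal q) (pullback.lift a b hcond) hrange ≫
      pullback.diagonal q = pullback.lift a b hcond :=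
    IsOpenImmersion.lift_fac _ _ _
  have h1 := congrArg (· ≫ pullback.fst q q) ht
  have h2 := congrArg (· ≫ pullback.snd q q) ht
  simp only [Category.assoc, pullback.diagonal_fst, pullback.diagonal_snd, Category.comp_id,
    pullback.lift_fst, pullback.lift_snd] at h1 h2
  exact h1.symm.trans h2

open AlgebraicGeometry CategoryTheory in
/-- If a morphism of schemes has dense image, pulling back finite etale covers along it is faithful. -/
theorem result {X Y : Scheme.{u}} (f : X ⟶ Y)
    (h : DenseRange f.base) : (FEt.restrict f).Faithful := by
  constructor
  intro A B a b hab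
  have hA : FEt.prop A.hom := A.prop
  have hB : FEt.prop B.hom := B.prop
  have : IsFinite B.hom := hB.1
  have : Etale B.hom := hB.2
  have : IsFinite A.hom := hA.1
  have : Etale A.hom := hA.2
  have hleft0 := congrArg (fun φ => φ.left ≫ Limits.pullback.fst B.hom f) hab
  have e1 : ((FEt.restrict f).map a).left ≫ Limits.pullback.fst B.hom f =
      Limits.pullback.fst A.hom f ≫ a.left := Limits.pullback.lift_fst _ _ _
  have e2 : ((FEt.restrict f).map b).left ≫ Limits.pullback.fst B.hom f =
      Limits.pullback.fst A.hom f ≫ b.left := Limits.pullback.lift_fst _ _ _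
  have hleft : Limits.pullback.fst A.hom f ≫ a.left = Limits.pullback.fst A.hom f ≫ b.left :=
    e1.symm.trans (hleft0.trans e2)
  have hdense : DenseRange (Limits.pullback.fst A.hom f).base := by
    have hr : Set.range (Limits.pullback.fst A.hom f).base = A.hom.base ⁻¹' Set.range f.base :=
      AlgebraicGeometry.Scheme.Pullback.range_fst A.hom f
    rw [DenseRange, hr]
    exact h.preimage A.hom.isOpenMap
  have key := eq_of_comp_eq_of_dense A.hom B.hom a.left b.left (Over.w a.hom) (Over.w b.hom)
    (Limits.pullback.fst A.hom f) hdense hleft
  exact MorphismProperty.Over.Hom.ext key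

end Groth.Agent.S0237
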