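import Groth.Statements.S0238
import Groth.Agent.Lib.Helper89.ThickFEt3

set_option autoImplicit false
universe u
open Pi1

namespace Groth.Agent.S0238

open AlgebraicGeometry CategoryTheory CategoryTheory.Limits in
/-- For a thickening, i.e. a closed immersion which is surjective on points, pulling back finite etale
covers is an equivalence of categories. -/
theorem result {X X' : Scheme.{u}} (i : X ⟶ X') [IsClosedImmersion i] [Surjective i] :
    (FEt.restrict i).IsEquivalence := by
  obtain ⟨hfull, hfaith⟩ := Groth.Agent.Lib.Helper89.FEtFF.full_faithful_of_clopen i
    (Groth.Agent.Lib.Helper89.ThickFEt.clopenInj_of_thickening i)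
    (Groth.Agent.Lib.Helper89.ThickFEt.clopenSurj_of_thickening i)
  have hess : (FEt.restrict i).EssSurj :=
    Groth.Agent.Lib.Helper89.ThickFEt.essSurj_of_exists_model i
      (fun w => Groth.Agent.Lib.Helper89.ThickFEt.exists_global_model i w)
  exact { faithful := hfaith, full := hfull, essSurj := hess }

end Groth.Agent.S0238
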