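import Groth.Statements.S0249
-- import your own Groth.Agent.* helpers here

set_option autoImplicit false
universe u
open Pi1

namespace Groth.Agent.S0249

lemma comap_map_mk {A : Type u} [CommRing A] (q I : Ideal A) (h : q ≤ I) :
    (I.map (Ideal.Quotient.mk q)).comap (Ideal.Quotient.mk q) = I := by
  rw [Ideal.comap_map_of_surjective _ Ideal.Quotient.mk_surjective, ← RingHom.ker_eq_comap_bot,
    Ideal.mk_ker, sup_eq_left.2 h]

lemma key (A : Type u) [CommRing A] [IsNoetherianRing A] (f : A) :
    ∀ n : ℕ, ∀ p : Ideal A, p.IsPrime → f ∈ p → 1 ≤ p.height → p.height ≤ n →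
      ∃ p' : Ideal A, p'.IsPrime ∧ f ∈ p' ∧ p'.height = 1 := by
  intro n
  induction n with
  | zero =>
    intro p hp hf h1 h0
    exfalso
    have : (1 : ℕ∞) ≤ 0 := h1.trans (by simpa using h0)
    simp at this
  | succ n ih =>
    intro p hp hf h1 hn
    by_cases hle : p.height ≤ n
    · exact ih p hp hf h1 hle
    by_cases h2 : p.height ≤ 1
    · exact ⟨p, hp, hf, le_antisymm h2 h1⟩
    push_neg at h2
    -- chain q₀ < p₁ < p
    have hfin : p.FiniteHeight := inferInstance
    have h2' : 1 < Order.height (⟨p, hp⟩ : PrimeSpectrum A) := by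
      rw [← PrimeSpectrum.height_eq_orderHeight]; exact h2
    rw [Order.one_lt_height_iff] at h2'
    replace h2 := h2'
    obtain ⟨y, z, hzy, hyp⟩ := h2
    have hq0 : z.asIdeal.IsPrime := z.2
    have hp1 : y.asIdeal.IsPrime := y.2
    have hzy' : z.asIdeal < y.asIdeal := hzy
    have hyp' : y.asIdeal < p := hyp
    have hlt_of : ∀ p' : Ideal A, p'.IsPrime → z.asIdeal < p' → p' < p → f ∈ p' →
        ∃ p'' : Ideal A, p''.IsPrime ∧ f ∈ p'' ∧ p''.height = 1 := by
      intro p' hp' hzp' hp'p hfp'
      have h1' : 1 ≤ p'.height := by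
        have := Ideal.height_add_one_le_of_lt_of_isPrime hzp'
        exact le_trans (by simp) this
      have h2' : p'.height < p.height := Ideal.height_strict_mono_of_isPrime_of_isPrime hp'p
      have h3' : p'.height ≤ n := by
        have : p'.height < (n : ℕ∞) + 1 := lt_of_lt_of_le h2' (by exact_mod_cast hn)
        exact (ENat.lt_add_one_iff (ENat.coe_ne_top n)).1 this
      exact ih p' hp' hfp' h1' h3'
    by_cases hfq : f ∈ z.asIdeal
    · exact hlt_of y.asIdeal hp1 hzy' hyp' (hzy'.le hfq)
    · -- minimal prime over q₀ + (f) inside p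
      have hle' : z.asIdeal ⊔ Ideal.span {f} ≤ p :=
        sup_le (hzy'.le.trans hyp'.le) ((Ideal.span_singleton_le_iff_mem p).2 hf)
      obtain ⟨p', hp'min, hp'p⟩ := Ideal.exists_minimalPrimes_le hle'
      have hp'prime : p'.IsPrime := hp'min.1.1
      have hq0p' : z.asIdeal ≤ p' := le_sup_left.trans hp'min.1.2
      have hfp' : f ∈ p' := hp'min.1.2 (Ideal.mem_sup_right (Ideal.mem_span_singleton_self f))
      have hq0ltp' : z.asIdeal < p' := lt_of_le_of_ne hq0p' (fun h => hfq (h ▸ hfp'))
      have hkrull := Ideal.map_height_le_one_of_mem_minimalPrimes hp'min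
      have hne : p' ≠ p := by
        rintro rfl
        -- chain ⊥ < map p₁ < map p in the quotient
        have hq0y : z.asIdeal ≤ y.asIdeal := hzy'.le
        have hq0p : z.asIdeal ≤ p' := hq0p'
        have hprime1 : (y.asIdeal.map (Ideal.Quotient.mk z.asIdeal)).IsPrime :=
          Ideal.map_isPrime_of_surjective Ideal.Quotient.mk_surjective
            (by rw [Ideal.mk_ker]; exact hq0y)
        have hprime2 : (p'.map (Ideal.Quotient.mk z.asIdeal)).IsPrime :=
          Ideal.map_isPrime_of_surjective Ideal.Quotient.mk_surjective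
            (by rw [Ideal.mk_ker]; exact hq0p)
        have hbot : (⊥ : Ideal (A ⧸ z.asIdeal)) < y.asIdeal.map (Ideal.Quotient.mk z.asIdeal) := by
          refine lt_of_le_of_ne bot_le (fun h => ?_)
          have := comap_map_mk z.asIdeal y.asIdeal hq0y
          rw [← h, ← RingHom.ker_eq_comap_bot, Ideal.mk_ker] at this
          exact hzy'.ne this
        have hlt : y.asIdeal.map (Ideal.Quotient.mk z.asIdeal) <
            p'.map (Ideal.Quotient.mk z.asIdeal) := by
          refine lt_of_le_of_ne (Ideal.map_mono hyp'.le) (fun h => ?_)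
          have h1 := comap_map_mk z.asIdeal y.asIdeal hq0y
          have h2 := comap_map_mk z.asIdeal p' hq0p
          rw [h, h2] at h1
          exact hyp'.ne h1.symm
        have hbotprime : (⊥ : Ideal (A ⧸ z.asIdeal)).IsPrime := Ideal.isPrime_bot
        have e1 := Ideal.height_add_one_le_of_lt_of_isPrime hbot
        have e2 := Ideal.height_add_one_le_of_lt_of_isPrime hlt
        have : (2 : ℕ∞) ≤ 1 := by
          calc (2 : ℕ∞) = 0 + 1 + 1 := by norm_num
            _ ≤ (⊥ : Ideal (A ⧸ z.asIdeal)).height + 1 + 1 := by gcongr; exact zero_le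
            _ ≤ (y.asIdeal.map (Ideal.Quotient.mk z.asIdeal)).height + 1 := by gcongr
            _ ≤ (p'.map (Ideal.Quotient.mk z.asIdeal)).height := e2
            _ ≤ 1 := hkrull
        norm_num at this
      exact hlt_of p' hp'prime hq0ltp' (lt_of_le_of_ne hp'p hne) hfp'


open AlgebraicGeometry CategoryTheory CategoryTheory.Limits in
/-- Let A be a Noetherian local ring of dimension at least 1 and f an element of its maximal ideal. Then
some prime ideal of height exactly 1 contains f. -/
theorem result (A : Type u) [CommRing A] [IsNoetherianRing A] [IsLocalRing A]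
    (h : (1 : WithBot ℕ∞) ≤ ringKrullDim A) (f : A) (hf : f ∈ IsLocalRing.maximalIdeal A) :
    ∃ p : Ideal A, p.IsPrime ∧ f ∈ p ∧ p.height = 1 := by
  have hm : (IsLocalRing.maximalIdeal A).IsPrime := inferInstance
  have hht : (1 : ℕ∞) ≤ (IsLocalRing.maximalIdeal A).height := by
    have := IsLocalRing.maximalIdeal_height_eq_ringKrullDim (R := A)
    rw [← this] at h
    exact_mod_cast h
  have hfin : (IsLocalRing.maximalIdeal A).height ≠ ⊤ :=
    Ideal.height_ne_top_of_isPrime
  obtain ⟨n, hn⟩ := ENat.ne_top_iff_exists.1 hfin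
  exact key A f n _ hm hf hht (by rw [← hn])

end Groth.Agent.S0249
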