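import Groth.Statements.S0253
import Groth.Agent.Lib.Helper71.SepClosed

set_option autoImplicit false
universe u
open Pi1

namespace Groth.Agent.S0253

open Polynomial in
/-- `B` local integrally closed domain, not a field, with separably closed fraction field:
every monic polynomial of positive degree has a root modulo the maximal ideal. -/
lemma exists_root_mod (B : Type u) [CommRing B] [IsDomain B] [IsLocalRing B] [IsIntegrallyClosed B]
    (K : Type u) [Field K] [Algebra B K] [IsFractionRing B K] [IsSepClosed K]
    (π : B) (hπ : π ∈ IsLocalRing.maximalIdeal B) (hπ0 : π ≠ 0)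
    (g : B[X]) (hg : g.Monic) (hdeg : 2 ≤ g.natDegree) :
    ∃ b : B, eval b g ∈ IsLocalRing.maximalIdeal B := by
  have hmonic : ∀ c : B, (g + C c * X).Monic := by
    intro c
    apply hg.add_of_left
    calc (C c * X).degree ≤ (1 : WithBot ℕ) := degree_C_mul_X_le c
      _ < ((2 : ℕ) : WithBot ℕ) := by norm_num
      _ ≤ g.degree := by
          rw [degree_eq_natDegree hg.ne_zero]; exact_mod_cast hdeg
  have hderiv : ∀ c : B, derivative (g + C c * X) = derivative g + C c := by
    intro c
    simp
  have hex : ∃ c ∈ IsLocalRing.maximalIdeal B, derivative (g + C c * X) ≠ 0 := by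
    by_cases h1 : derivative (g + C π * X) = 0
    · refine ⟨π * π, Ideal.mul_mem_left _ _ hπ, ?_⟩
      intro h2
      rw [hderiv] at h1 h2
      have : C π = C (π * π) := by
        have := h1.trans h2.symm
        exact add_left_cancel this
      have hπeq : π = π * π := C_injective this
      have : π * (1 - π) = 0 := by rw [mul_sub, mul_one, ← hπeq, sub_self]
      rcases mul_eq_zero.1 this with h | h
      · exact hπ0 h
      · have hu : IsUnit (1 - π) := by
          have : 1 - π ∉ IsLocalRing.maximalIdeal B := by
            intro hmem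
            have h1mem : (1 : B) ∈ IsLocalRing.maximalIdeal B := by
              have := (IsLocalRing.maximalIdeal B).add_mem hmem hπ
              simpa using this
            exact (IsLocalRing.maximalIdeal B).ne_top_iff_one.1 (IsLocalRing.maximalIdeal.isMaximal B).ne_top h1mem
          simpa [IsLocalRing.mem_maximalIdeal, mem_nonunits_iff] using this
        rw [h] at hu
        exact not_isUnit_zero hu
    · exact ⟨π, hπ, h1⟩
  obtain ⟨c, hc, hder⟩ := hex
  obtain ⟨b, hb⟩ := Groth.Agent.Lib.Helper71.exists_root_of_monic_of_derivative_ne_zero B K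
    (g + C c * X) (hmonic c) hder
  refine ⟨b, ?_⟩
  have : eval b g = - (c * b) := by
    have h := hb
    simp only [eval_add, eval_mul, eval_C, eval_X] at h
    exact eq_neg_of_add_eq_zero_left h
  rw [this]
  exact (IsLocalRing.maximalIdeal B).neg_mem (Ideal.mul_mem_right _ _ hc)


open AlgebraicGeometry CategoryTheory CategoryTheory.Limits in
/-- Let A be an integrally closed domain whose fraction field is separably closed. Then the residue
field at any nonzero prime ideal of A is algebraically closed. -/
theorem result (A : Type u) [CommRing A] [IsDomain A] [IsIntegrallyClosed A] [IsSepClosed (FractionRing A)]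
    (p : Ideal A) [p.IsPrime] (hp : p ≠ ⊥) : IsAlgClosed p.ResidueField := by
  have hint : IsIntegrallyClosed (Localization.AtPrime p) :=
    isIntegrallyClosed_of_isLocalization _ p.primeCompl p.primeCompl_le_nonZeroDivisors
  obtain ⟨π₀, hπ₀p, hπ₀0⟩ : ∃ x ∈ p, x ≠ 0 := by
    by_contra hcon
    push_neg at hcon
    exact hp ((Submodule.eq_bot_iff p).2 hcon)
  have hinjA : Function.Injective (algebraMap A (Localization.AtPrime p)) :=
    IsLocalization.injective _ p.primeCompl_le_nonZeroDivisors
  set π : Localization.AtPrime p := algebraMap A (Localization.AtPrime p) π₀ with hπdef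
  have hπ0 : π ≠ 0 := by
    intro h
    exact hπ₀0 (hinjA (by rw [map_zero]; exact h))
  have hπm : π ∈ IsLocalRing.maximalIdeal (Localization.AtPrime p) := by
    rw [hπdef, ← Ideal.mem_comap]
    have := Localization.AtPrime.comap_maximalIdeal (I := p)
    have h2 : π₀ ∈ Ideal.under A (IsLocalRing.maximalIdeal (Localization p.primeCompl)) := by
      rw [this]; exact hπ₀p
    exact h2
  apply IsAlgClosed.of_exists_root
  intro g hg hirr
  by_cases hd1 : g.natDegree = 1
  · have : g.degree = 1 := by
      rw [Polynomial.degree_eq_natDegree hg.ne_zero, hd1]; rfl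
    obtain ⟨x, hx⟩ := Polynomial.exists_root_of_degree_eq_one this
    exact ⟨x, hx⟩
  have hdpos : 0 < g.natDegree := hirr.natDegree_pos
  have hd2 : 2 ≤ g.natDegree := by omega
  have hlift := Polynomial.lifts_and_natDegree_eq_and_monic
    (Polynomial.mem_lifts_of_surjective (f := IsLocalRing.residue (Localization.AtPrime p))
      IsLocalRing.residue_surjective g) hg
  obtain ⟨G, hGmap, hGdeg, hGm⟩ := hlift
  obtain ⟨b, hb⟩ := exists_root_mod (Localization.AtPrime p) (FractionRing A) π hπm hπ0 G hGm
    (by rw [hGdeg]; exact hd2)
  refine ⟨IsLocalRing.residue (Localization.AtPrime p) b, ?_⟩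
  rw [← hGmap, Polynomial.eval_map, Polynomial.eval₂_at_apply]
  exact (IsLocalRing.residue_eq_zero_iff _).2 hb

end Groth.Agent.S0253
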