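import Groth.Statements.S0254
import Groth.Agent.Lib.Helper71.SepClosed

set_option autoImplicit false
universe u
open Pi1

namespace Groth.Agent.S0254

open Polynomial in
lemma hensel_aux (A : Type u) [CommRing A] [IsDomain A] [IsLocalRing A] [IsIntegrallyClosed A]
    [IsSepClosed (FractionRing A)] :
    ∀ (n : ℕ) (f : A[X]), f.natDegree = n → f.Monic → ∀ a₀ : A,
      f.eval a₀ ∈ IsLocalRing.maximalIdeal A → IsUnit (f.derivative.eval a₀) →
      ∃ a : A, f.IsRoot a ∧ a - a₀ ∈ IsLocalRing.maximalIdeal A := by
  intro n
  induction n using Nat.strong_induction_on with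
  | _ n ih =>
    intro f hn hf a₀ h0 h1
    have hder : derivative f ≠ 0 := by
      intro h
      rw [h, eval_zero] at h1
      exact not_isUnit_zero h1
    obtain ⟨a₁, ha₁⟩ := Groth.Agent.Lib.Helper71.exists_root_of_monic_of_derivative_ne_zero A
      (FractionRing A) f hf hder
    by_cases hclose : a₁ - a₀ ∈ IsLocalRing.maximalIdeal A
    · exact ⟨a₁, ha₁, hclose⟩
    · set f₁ := f /ₘ (X - C a₁) with hf₁
      have hfac : (X - C a₁) * f₁ = f := Polynomial.mul_divByMonic_eq_iff_isRoot.2 ha₁
      have hf₁m : f₁.Monic := Polynomial.Monic.of_mul_monic_left (monic_X_sub_C a₁) (hfac ▸ hf)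
      have hdeg : f₁.natDegree + 1 = n := by
        rw [← hn, ← hfac, (monic_X_sub_C a₁).natDegree_mul hf₁m, natDegree_X_sub_C, add_comm]
      have hu : IsUnit (a₀ - a₁) := by
        have : a₀ - a₁ ∉ IsLocalRing.maximalIdeal A := by
          intro h
          apply hclose
          have := (IsLocalRing.maximalIdeal A).neg_mem h
          rwa [neg_sub] at this
        simpa [IsLocalRing.mem_maximalIdeal, mem_nonunits_iff] using this
      have hev : f.eval a₀ = (a₀ - a₁) * f₁.eval a₀ := by
        rw [← hfac]; simp
      have h0' : f₁.eval a₀ ∈ IsLocalRing.maximalIdeal A := by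
        rw [hev] at h0
        rcases (Ideal.IsPrime.mem_or_mem (inferInstance : (IsLocalRing.maximalIdeal A).IsPrime) h0) with h | h
        · exact absurd hu (by simpa [IsLocalRing.mem_maximalIdeal, mem_nonunits_iff] using h)
        · exact h
      have hdev : f.derivative.eval a₀ = f₁.eval a₀ + (a₀ - a₁) * f₁.derivative.eval a₀ := by
        rw [← hfac, derivative_mul]; simp
      have h1' : IsUnit (f₁.derivative.eval a₀) := by
        have hnm : (a₀ - a₁) * f₁.derivative.eval a₀ ∉ IsLocalRing.maximalIdeal A := by
          intro h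
          have : f.derivative.eval a₀ ∈ IsLocalRing.maximalIdeal A := by
            rw [hdev]; exact (IsLocalRing.maximalIdeal A).add_mem h0' h
          exact absurd h1 (by simpa [IsLocalRing.mem_maximalIdeal, mem_nonunits_iff] using this)
        have hunit : IsUnit ((a₀ - a₁) * f₁.derivative.eval a₀) := by
          simpa [IsLocalRing.mem_maximalIdeal, mem_nonunits_iff] using hnm
        exact isUnit_of_mul_isUnit_right hunit
      obtain ⟨a, ha, haa⟩ := ih f₁.natDegree (by omega) f₁ rfl hf₁m a₀ h0' h1'
      refine ⟨a, ?_, haa⟩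
      rw [← hfac]
      exact Polynomial.root_mul_left_of_isRoot _ ha


open AlgebraicGeometry CategoryTheory CategoryTheory.Limits in
/-- An integrally closed local domain whose fraction field is separably closed is henselian with
separably closed residue field (i.e. strictly henselian). -/
theorem result (A : Type u) [CommRing A] [IsDomain A] [IsLocalRing A] [IsIntegrallyClosed A]
    [IsSepClosed (FractionRing A)] :
    HenselianLocalRing A ∧ IsSepClosed (IsLocalRing.ResidueField A) := by
  refine ⟨⟨fun f hf a₀ h0 h1 => hensel_aux A _ f rfl hf a₀ h0 h1⟩, ?_⟩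
  apply IsSepClosed.of_exists_root
  intro g hg hirr hsep
  have hlift := Polynomial.lifts_and_natDegree_eq_and_monic
    (Polynomial.mem_lifts_of_surjective (f := IsLocalRing.residue A)
      IsLocalRing.residue_surjective g) hg
  obtain ⟨G, hGmap, hGdeg, hGm⟩ := hlift
  have hder : Polynomial.derivative G ≠ 0 := by
    intro h
    have h2 : Polynomial.derivative g = 0 := by
      rw [← hGmap, Polynomial.derivative_map, h, Polynomial.map_zero]
    exact (Polynomial.separable_iff_derivative_ne_zero hirr).1 hsep h2
  obtain ⟨b, hb⟩ := Groth.Agent.Lib.Helper71.exists_root_of_monic_of_derivative_ne_zero A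
    (FractionRing A) G hGm hder
  refine ⟨IsLocalRing.residue A b, ?_⟩
  rw [← hGmap, Polynomial.eval_map, Polynomial.eval₂_at_apply, hb, map_zero]

end Groth.Agent.S0254
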