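import Groth.Statements.S0257
import Mathlib
import Groth.Agent.Lib.Helper49.QFCore
import Groth.Agent.Lib.Helper49.QFSch
-- import your own Groth.Agent.* helpers here

set_option autoImplicit false
universe u
open Pi1

namespace Groth.Agent.S0257

open AlgebraicGeometry CategoryTheory CategoryTheory.Limits in
/-- Let f be flat and locally of finite type between locally Noetherian schemes, x a point of X which is
not a generic point of an irreducible component (its local ring has dimension at least 1), with f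
quasi-finite at x and unramified at all points of dimension one specializing to x. Then f is etale
on an open neighbourhood of x. -/
theorem result {X Y : Scheme.{u}} (f : X ⟶ Y) [LocallyOfFiniteType f] [Flat f] [IsLocallyNoetherian X]
    [IsLocallyNoetherian Y] (x : X) (hq : f.QuasiFiniteAt x)
    (hdim1 : (1 : WithBot ℕ∞) ≤ ringKrullDim (X.presheaf.stalk x))
    (hunr : ∀ x' : X, x' ⤳ x → ringKrullDim (X.presheaf.stalk x') = 1 →
      (f.stalkMap x').hom.FormallyUnramified) :
    ∃ U : X.Opens, x ∈ U ∧ Etale (U.ι ≫ f) := by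
  classical
  obtain ⟨_, ⟨V, hV, rfl⟩, hxV, -⟩ :=
    Y.isBasis_affineOpens.exists_subset_of_mem_open (Set.mem_univ (f x)) isOpen_univ
  obtain ⟨_, ⟨U, hU, rfl⟩, hxU, hUV⟩ :=
    X.isBasis_affineOpens.exists_subset_of_mem_open hxV (V.2.preimage f.continuous)
  have hft := f.finiteType_appLE hV hU hUV
  have hflat := f.flat_appLE hV hU hUV
  haveI : IsNoetherianRing Γ(Y, V) := IsLocallyNoetherian.component_noetherian ⟨V, hV⟩
  algebraize [(f.appLE V U hUV).hom]
  set q := (hU.primeIdealOf ⟨x, hxU⟩).asIdeal with hq_def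
  haveI hqf : Algebra.QuasiFiniteAt Γ(Y, V) q := hq.quasiFiniteAt hU hV hUV hxU
  -- height of q
  have h1 : 1 ≤ q.height := by
    letI := TopCat.Presheaf.algebra_section_stalk X.presheaf ⟨x, hxU⟩
    haveI : IsLocalization.AtPrime (X.presheaf.stalk x) q := hU.isLocalization_stalk ⟨x, hxU⟩
    rw [IsLocalization.AtPrime.ringKrullDim_eq_height q (X.presheaf.stalk x)] at hdim1
    exact_mod_cast hdim1
  have hun : Algebra.IsUnramifiedAt Γ(Y, V) q := by
    refine Groth.Agent.Lib.Helper49.QFCore.isUnramifiedAt_of_codim_one q h1 ?_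
    intro q' hq'p hq'q hq'h
    let y' : PrimeSpectrum Γ(X, U) := ⟨q', hq'p⟩
    set x' := hU.fromSpec y' with hx'
    have hx'U : x' ∈ U := by
      have : x' ∈ Set.range hU.fromSpec := ⟨y', rfl⟩
      rw [hU.range_fromSpec] at this; exact this
    have hprime : hU.primeIdealOf ⟨x', hx'U⟩ = y' := by
      haveI := hU.isOpenImmersion_fromSpec
      apply hU.fromSpec.isOpenEmbedding.injective
      rw [hU.fromSpec_primeIdealOf]
    have hspec : x' ⤳ x := by
      have h1 : y' ⤳ hU.primeIdealOf ⟨x, hxU⟩ := (PrimeSpectrum.le_iff_specializes _ _).mp hq'q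
      have h2 := h1.map hU.fromSpec.continuous
      rwa [hU.fromSpec_primeIdealOf] at h2
    have hdim : ringKrullDim (X.presheaf.stalk x') = 1 := by
      letI := TopCat.Presheaf.algebra_section_stalk X.presheaf ⟨x', hx'U⟩
      haveI : IsLocalization.AtPrime (X.presheaf.stalk x') q' := hU.isLocalization_stalk' y' hx'U
      rw [IsLocalization.AtPrime.ringKrullDim_eq_height q' (X.presheaf.stalk x'), hq'h]; rfl
    have hst := hunr x' hspec hdim
    have hur : Algebra.IsUnramifiedAt Γ(Y, V) (hU.primeIdealOf ⟨x', hx'U⟩).asIdeal := by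
      let p₀ := (hV.primeIdealOf ⟨f x', hUV hx'U⟩).asIdeal
      let q₀ := (hU.primeIdealOf ⟨x', hx'U⟩).asIdeal
      have : q₀.LiesOver p₀ :=
        ⟨congr($(IsAffineOpen.comap_primeIdealOf_appLE V hV U hU hUV hx'U).1).symm⟩
      let := Localization.AtPrime.algebraOfLiesOver p₀ q₀
      have : Algebra.FormallyUnramified (Localization.AtPrime p₀) (Localization.AtPrime q₀) := by
        rw [← RingHom.formallyUnramified_algebraMap]
        exact (RingHom.FormallyUnramified.respectsIso.arrow_mk_iso_iff
          (IsAffineOpen.arrowStalkMapIso f V hV U hU hUV hx'U)).mp hst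
      exact Algebra.FormallyUnramified.comp _ (Localization.AtPrime p₀) _
    exact (Groth.Agent.Lib.Helper49.QFCore.isUnramifiedAt_congr
      (congrArg PrimeSpectrum.asIdeal hprime)).mp hur
  haveI : Algebra.IsUnramifiedAt Γ(Y, V) q := hun
  haveI : Algebra.FinitePresentation Γ(Y, V) Γ(X, U) :=
    Algebra.FinitePresentation.of_finiteType.mp inferInstance
  have het : Algebra.IsEtaleAt Γ(Y, V) q := Algebra.IsEtaleAt.of_isUnramifiedAt_of_flat q
  obtain ⟨r, hrx, hr⟩ := Algebra.exists_etale_of_isEtaleAt (R := Γ(Y, V)) q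
  refine Groth.Agent.Lib.Helper49.QFSch.exists_etale_nhd f V hV U hU hUV hxU r hrx ?_
  have h2 := RingHom.etale_algebraMap.mpr hr
  rwa [IsScalarTower.algebraMap_eq Γ(Y, V) Γ(X, U) (Localization.Away r)] at h2

end Groth.Agent.S0257
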