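import Groth.Statements.S0258
import Groth.Agent.Lib.Helper89.DepthConn3

set_option autoImplicit false
universe u
open Pi1

namespace Groth.Agent.S0258

open AlgebraicGeometry CategoryTheory CategoryTheory.Limits in
/-- For a Noetherian local ring A of depth at least 2, the functor restricting finite étale covers of
Spec A to the punctured spectrum is fully faithful (full and faithful). The published statement
assumes instead that the punctured spectrum of the strict henselization of A is connected; depth at
least 2 is a sufficient condition for this, and the result is stated here under that hypothesis. -/
theorem result (A : Type u) [CommRing A] [IsNoetherianRing A] [IsLocalRing A] (hA : (2 : ℕ∞) ≤ LocCoh.depth A A) :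
    (FEt.restrict (FEt.puncturedSpec A).ι).Full ∧ (FEt.restrict (FEt.puncturedSpec A).ι).Faithful := by
  have hreg := Groth.Agent.Lib.Helper89.DepthConn.hasRegPair_of_depth A hA
  exact Groth.Agent.Lib.Helper89.DepthConn.restrict_full_faithful_of_hasRegPair _
    (Groth.Agent.Lib.Helper89.DepthConn.dense_puncturedSpec A hreg)
    (Groth.Agent.Lib.Helper89.DepthConn.hasRegPair_stalk_of_not_mem A hreg)

end Groth.Agent.S0258
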