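import Groth.Statements.S0263
import Groth.Agent.Lib.Helper89.HartogsFEt

set_option autoImplicit false
universe u
open Pi1

namespace Groth.Agent.S0263

open AlgebraicGeometry CategoryTheory CategoryTheory.Limits in
/-- Let A be a Noetherian local ring of depth at least 2 and V a finite étale cover of the punctured
spectrum of A which is isomorphic to the restriction of some finite étale cover of Spec A. Then the
ring of global sections Γ(V, O_V) is finite and étale over A, via the ring map A → Γ(V, O_V) induced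
by the composite V → Spec A. (Only this implication of the published statement is asserted here; its
converse is not.) -/
theorem result (A : Type u) [CommRing A] [IsNoetherianRing A] [IsLocalRing A] (hA : (2 : ℕ∞) ≤ LocCoh.depth A A)
    (V : FEt.Cat (FEt.puncturedSpec A : Scheme.{u}))
    (hV : ∃ Y : FEt.Cat (Spec (CommRingCat.of A)),
      Nonempty ((FEt.restrict (FEt.puncturedSpec A).ι).obj Y ≅ V)) :
    ((Scheme.ΓSpecIso (CommRingCat.of A)).inv ≫ (V.hom ≫ (FEt.puncturedSpec A).ι).appTop).hom.Finite ∧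
    ((Scheme.ΓSpecIso (CommRingCat.of A)).inv ≫ (V.hom ≫ (FEt.puncturedSpec A).ι).appTop).hom.Etale := by
  obtain ⟨Y, ⟨e⟩⟩ := hV
  let p : Y.left ⟶ Spec (CommRingCat.of A) := Y.hom
  have hfin : IsFinite p := Y.prop.1
  have het : Etale p := Y.prop.2
  have : IsAffine Y.left := isAffine_of_isAffineHom p
  have hiso : IsIso (p ⁻¹ᵁ FEt.puncturedSpec A).ι.appTop :=
    Groth.Agent.Lib.Helper89.DepthConn.isIso_ι_appTop_of_depth A hA p
  have hφfin : (p.appTop).hom.Finite :=
    IsFinite.finite_app p ⊤ (isAffineOpen_top _)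
  have hφet : (p.appTop).hom.Etale :=
    (HasRingHomProperty.iff_of_isAffine (P := @Etale)).mp het
  -- the open immersion `pullback.fst`
  have hrange : Set.range (pullback.fst p (FEt.puncturedSpec A).ι) =
      Set.range (p ⁻¹ᵁ FEt.puncturedSpec A).ι := by
    rw [IsOpenImmersion.range_pullbackFst, Scheme.Opens.opensRange_ι, Scheme.Opens.range_ι]
  let i := IsOpenImmersion.isoOfRangeEq (pullback.fst p (FEt.puncturedSpec A).ι)
    (p ⁻¹ᵁ FEt.puncturedSpec A).ι hrange
  have hi : i.hom ≫ (p ⁻¹ᵁ FEt.puncturedSpec A).ι =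
      pullback.fst p (FEt.puncturedSpec A).ι :=
    IsOpenImmersion.isoOfRangeEq_hom_fac _ _ hrange
  -- the comparison
  let ε : pullback p (FEt.puncturedSpec A).ι ⟶ V.left := e.hom.left
  have hε : IsIso ε := inferInstanceAs (IsIso e.hom.left)
  have hw : ε ≫ V.hom = pullback.snd p (FEt.puncturedSpec A).ι := Over.w e.hom.hom
  have key : (V.hom ≫ (FEt.puncturedSpec A).ι).appTop ≫ ε.appTop =
      p.appTop ≫ (p ⁻¹ᵁ FEt.puncturedSpec A).ι.appTop ≫ i.hom.appTop := by
    rw [← Scheme.Hom.comp_appTop, ← Scheme.Hom.comp_appTop, ← Scheme.Hom.comp_appTop,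
      ← Category.assoc ε, hw, ← pullback.condition, ← hi, Category.assoc]
  have hε' : IsIso ε.appTop := inferInstanceAs (IsIso (ε.app ⊤))
  have hi' : IsIso i.hom.appTop := inferInstanceAs (IsIso (i.hom.app ⊤))
  have hψ : (Scheme.ΓSpecIso (CommRingCat.of A)).inv ≫ (V.hom ≫ (FEt.puncturedSpec A).ι).appTop =
      (Scheme.ΓSpecIso (CommRingCat.of A)).inv ≫ p.appTop ≫
        ((p ⁻¹ᵁ FEt.puncturedSpec A).ι.appTop ≫ i.hom.appTop ≫ inv ε.appTop) := by
    congr 1
    rw [← cancel_mono ε.appTop, key]
    simp only [Category.assoc, IsIso.inv_hom_id, Category.comp_id]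
  rw [hψ]
  constructor
  · rw [CommRingCat.hom_comp, RingHom.finite_respectsIso.cancel_left_isIso, CommRingCat.hom_comp,
      RingHom.finite_respectsIso.cancel_right_isIso]
    exact hφfin
  · rw [CommRingCat.hom_comp, RingHom.Etale.respectsIso.cancel_left_isIso, CommRingCat.hom_comp,
      RingHom.Etale.respectsIso.cancel_right_isIso]
    exact hφet

end Groth.Agent.S0263
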