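import Groth.Statements.S0267
import Groth.Agent.Lib.Helper89.GalFunctor

set_option autoImplicit false
universe u v
open Pi1

namespace Groth.Agent.S0267

open CategoryTheory CategoryTheory.Limits in
/-- For an exact functor H between Galois categories, H is fully faithful exactly when it carries
connected objects to connected objects (both are equivalent to surjectivity of the induced map on
fundamental groups). -/
theorem result {C : Type u} [Category.{v} C]
    [GaloisCategory C] {D : Type u} [Category.{v} D] [GaloisCategory D]
    (H : C ⥤ D) [PreservesFiniteLimits H] [PreservesFiniteColimits H] :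
    (H.Full ∧ H.Faithful) ↔
      ∀ X : C, PreGaloisCategory.IsConnected X → PreGaloisCategory.IsConnected (H.obj X) := by
  let F' : D ⥤ FintypeCat.{v} := PreGaloisCategory.GaloisCategory.getFiberFunctor D
  have hF : PreGaloisCategory.FiberFunctor (H ⋙ F') :=
    Groth.Agent.Lib.Helper89.GalFunctor.fiberFunctor_comp
      (PreGaloisCategory.GaloisCategory.getFiberFunctor C) H F'
  constructor
  · rintro ⟨hfull, hfaith⟩ X hX
    exact Groth.Agent.Lib.Helper89.GalFunctor.isConnected_obj_of_fullyFaithful H F' X
  · intro h
    have hs := Groth.Agent.Lib.Helper89.GalFunctor.autWhisker_surjective_of_preservesConnected H F' h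
    exact ⟨Groth.Agent.Lib.Helper89.GalFunctor.full_of_autWhisker_surjective H F' hs,
      Groth.Agent.Lib.Helper89.GalFunctor.faithful_of_fiberFunctor H F'⟩

end Groth.Agent.S0267
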