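import Groth.Statements.S0274
import Groth.Agent.Lib.Helper2.UnivInjFlat
-- import your own Groth.Agent.* helpers here

set_option autoImplicit false
universe u
open scoped TensorProduct
open Pi1

namespace Groth.Agent.S0274

/-- Let R -> S be universally injective and M an R-module such that S ⊗_R M is flat over S. Then M is
flat over R. -/
theorem result (R S : Type u) [CommRing R] [CommRing S] [Algebra R S]
    (h : Pi1.UnivInjective R S) (M : Type u) [AddCommGroup M] [Module R M]
    [Module.Flat S (S ⊗[R] M)] : Module.Flat R M := by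
  classical
  apply Module.Flat.of_forall_isTrivialRelation
  intro l f x hfx
  have hS : ∑ i, (algebraMap R S (f i)) • ((1 : S) ⊗ₜ[R] x i) = (0 : S ⊗[R] M) := by
    have h1 : ∑ i, (algebraMap R S (f i)) • ((1 : S) ⊗ₜ[R] x i) =
        (1 : S) ⊗ₜ[R] (∑ i, f i • x i) := by
      rw [TensorProduct.tmul_sum]
      refine Finset.sum_congr rfl fun i _ => ?_
      rw [TensorProduct.tmul_smul, algebraMap_smul]
    rw [h1, hfx, TensorProduct.tmul_zero]
  obtain ⟨k, b, z, hz1, hz2⟩ := Module.Flat.isTrivialRelation_of_sum_smul_eq_zero hS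
  replace hz1 : ∀ i, (1 : S) ⊗ₜ[R] x i = ∑ j, b i j • z j := hz1
  replace hz2 : ∀ j, ∑ i, algebraMap R S (f i) * b i j = 0 := hz2
  choose rep hrep using fun t : S ⊗[R] M => TensorProduct.exists_finset t
  let Q := Σ j : Fin k, {u : S × M // u ∈ rep (z j)}
  let c' : Option (Fin l × Q) → S := fun o => o.elim 1 (fun p => b p.1 p.2.1 * p.2.2.1.1)
  let μ : Fin l → Option (Fin l × Q) → M := fun i₁ o =>
    o.elim (x i₁) (fun p => if p.1 = i₁ then - p.2.2.1.2 else 0)
  have hsum : ∀ i₁ : Fin l, ∑ q : Q, (b i₁ q.1 * q.2.1.1) ⊗ₜ[R] q.2.1.2 = (1 : S) ⊗ₜ[R] x i₁ := by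
    intro i₁
    rw [hz1 i₁, Fintype.sum_sigma]
    refine Finset.sum_congr rfl fun j _ => ?_
    conv_rhs => rw [hrep (z j), Finset.smul_sum]
    rw [Finset.sum_coe_sort (rep (z j)) (fun u => (b i₁ j * u.1) ⊗ₜ[R] u.2)]
    refine Finset.sum_congr rfl fun u _ => ?_
    rw [TensorProduct.smul_tmul', smul_eq_mul]
  have hv : ∀ i₁, ∑ o, c' o ⊗ₜ[R] μ i₁ o = (0 : S ⊗[R] M) := by
    intro i₁
    rw [Fintype.sum_option, Fintype.sum_prod_type]
    simp only [c', μ, Option.elim_none, Option.elim_some]
    rw [Finset.sum_eq_single i₁]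
    · simp only [if_true, TensorProduct.tmul_neg, Finset.sum_neg_distrib]
      rw [hsum i₁, add_neg_cancel]
    · intro i _ hi
      refine Finset.sum_eq_zero fun q _ => ?_
      rw [if_neg hi, TensorProduct.tmul_zero]
    · intro hi; exact absurd (Finset.mem_univ _) hi
  let r : Q → (S →₀ R) := fun q => ∑ i, Finsupp.single (c' (some (i, q))) (f i)
  have hr : ∀ q, Finsupp.linearCombination R (id : S → S) (r q) = 0 := by
    intro q
    simp only [r, map_sum, Finsupp.linearCombination_single, id, c', Option.elim_some]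
    have h2 := hz2 q.1
    calc ∑ i, f i • (b i q.1 * q.2.1.1) = (∑ i, algebraMap R S (f i) * b i q.1) * q.2.1.1 := by
          rw [Finset.sum_mul]
          refine Finset.sum_congr rfl fun i _ => ?_
          rw [Algebra.smul_def, mul_assoc]
      _ = 0 := by rw [h2, zero_mul]
  obtain ⟨β, hβ1, hβ2, hβ3⟩ := Groth.Agent.Lib.Helper2.univInj_exists_functional R S h M c' μ hv
    (Finset.univ.image r) (by
      intro z hz
      obtain ⟨q, -, rfl⟩ := Finset.mem_image.mp hz
      exact hr q)
  rw [Module.isTrivialRelation_iff_vanishesTrivially]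
  refine TensorProduct.VanishesTrivially.of_fintype (κ := Q)
    (fun i q => β (c' (some (i, q)))) (fun q => q.2.1.2) ?_ ?_
  · intro i₁
    have h3 := hβ2 i₁
    rw [Fintype.sum_option, Fintype.sum_prod_type] at h3
    simp only [μ, Option.elim_none, Option.elim_some] at h3
    rw [Finset.sum_eq_single i₁] at h3
    · simp only [if_true, smul_neg, Finset.sum_neg_distrib] at h3
      have h4 : c' none = 1 := rfl
      rw [h4, hβ1, one_smul, add_neg_eq_zero] at h3
      exact h3
    · intro i _ hi
      refine Finset.sum_eq_zero fun q _ => ?_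
      rw [if_neg hi, smul_zero]
    · intro hi; exact absurd (Finset.mem_univ _) hi
  · intro q
    have h5 := hβ3 (r q) (Finset.mem_image.mpr ⟨q, Finset.mem_univ _, rfl⟩)
    simp only [r, map_sum, Finsupp.linearCombination_single] at h5
    rw [← h5]
    refine Finset.sum_congr rfl fun i _ => ?_
    rw [smul_eq_mul, smul_eq_mul, mul_comm]

end Groth.Agent.S0274
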