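import Groth.Statements.S0275
import Mathlib.LinearAlgebra.TensorProduct.RightExactness
import Mathlib.RingTheory.TensorProduct.Finite
-- import your own Groth.Agent.* helpers here

set_option autoImplicit false
universe u
open scoped TensorProduct
open Pi1

namespace Groth.Agent.S0275

open TensorProduct in
/-- If `S ⊗ P = 0` and `R → S` is universally injective then `P = 0`. -/
theorem subsingleton_of_tensor (R S : Type u) [CommRing R] [CommRing S] [Algebra R S]
    (h : Pi1.UnivInjective R S) (P : Type u) [AddCommGroup P] [Module R P]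
    (h0 : ∀ z : S ⊗[R] P, z = 0) : Subsingleton P := by
  refine ⟨fun a b => ?_⟩
  have hinj := h P
  have key : ∀ p : P, p = 0 := by
    intro p
    have h1 : (LinearMap.lTensor P (Algebra.linearMap R S)) (p ⊗ₜ[R] (1 : R)) = 0 := by
      have h2 : (TensorProduct.comm R P S) ((LinearMap.lTensor P (Algebra.linearMap R S)) (p ⊗ₜ[R] (1 : R))) = 0 :=
        h0 _
      exact (TensorProduct.comm R P S).injective (by rw [h2, map_zero])
    have h3 : p ⊗ₜ[R] (1 : R) = 0 := hinj (by rw [h1, map_zero])
    have h4 := congrArg (TensorProduct.rid R P) h3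
    simpa using h4
  rw [key a, key b]


/-- Let R -> S be universally injective and M an R-module such that S ⊗_R M is finitely generated over
S. Then M is finitely generated over R. -/
theorem result (R S : Type u) [CommRing R] [CommRing S] [Algebra R S]
    (h : Pi1.UnivInjective R S) (M : Type u) [AddCommGroup M] [Module R M]
    [Module.Finite S (S ⊗[R] M)] : Module.Finite R M := by
  classical
  obtain ⟨T, hT⟩ := (Module.Finite.fg_top : (⊤ : Submodule S (S ⊗[R] M)).FG)
  choose rep hrep using fun t : S ⊗[R] M => TensorProduct.exists_finset t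
  let G : Finset M := T.biUnion (fun t => (rep t).image Prod.snd)
  let M' : Submodule R M := Submodule.span R (G : Set M)
  have hM'fg : M'.FG := ⟨G, rfl⟩
  suffices hM' : M' = ⊤ from ⟨hM' ▸ hM'fg⟩
  let q : S ⊗[R] M →ₗ[S] S ⊗[R] (M ⧸ M') := LinearMap.baseChange S M'.mkQ
  have hq0 : q = 0 := by
    apply LinearMap.ext_on hT
    intro t ht
    rw [LinearMap.zero_apply, hrep t, map_sum]
    refine Finset.sum_eq_zero fun i hi => ?_
    have hmem : i.2 ∈ M' := Submodule.subset_span (by
      simp only [G, Finset.coe_biUnion, Finset.coe_image, Set.mem_iUnion, Set.mem_image]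
      exact ⟨t, ht, i, hi, rfl⟩)
    simp only [q, LinearMap.baseChange_tmul]
    have hz : M'.mkQ i.2 = 0 := by
      rw [Submodule.mkQ_apply]; exact (Submodule.Quotient.mk_eq_zero M').mpr hmem
    rw [hz, TensorProduct.tmul_zero]
  have hqsurj : Function.Surjective q := by
    intro z
    obtain ⟨w, hw⟩ := LinearMap.lTensor_surjective S (Submodule.mkQ_surjective M') z
    exact ⟨w, hw⟩
  have h0 : ∀ z : S ⊗[R] (M ⧸ M'), z = 0 := by
    intro z
    obtain ⟨w, rfl⟩ := hqsurj z
    rw [hq0, LinearMap.zero_apply]
  have hsub := subsingleton_of_tensor R S h (M ⧸ M') h0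
  exact Submodule.Quotient.subsingleton_iff.mp hsub

end Groth.Agent.S0275
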