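import Groth.Statements.S0276
import Groth.Agent.Lib.Helper2.UnivInj
import Mathlib.Algebra.Module.FinitePresentation
import Mathlib.RingTheory.Finiteness.Cardinality
-- import your own Groth.Agent.* helpers here

set_option autoImplicit false
universe u
open scoped TensorProduct
open Pi1

namespace Groth.Agent.S0276

/-- Let R -> S be universally injective and M an R-module such that S ⊗_R M is finitely presented over
S. Then M is finitely presented over R. -/
theorem result (R S : Type u) [CommRing R] [CommRing S] [Algebra R S]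
    (h : Pi1.UnivInjective R S) (M : Type u) [AddCommGroup M] [Module R M]
    [Module.FinitePresentation S (S ⊗[R] M)] : Module.FinitePresentation R M := by
  classical
  have hfin : Module.Finite R M := Groth.Agent.Lib.Helper2.univInj_finite R S h M
  obtain ⟨n, f, hf⟩ := Module.Finite.exists_fin' R M
  set K : Submodule R (Fin n → R) := LinearMap.ker f with hK
  let fS : S ⊗[R] (Fin n → R) →ₗ[S] S ⊗[R] M := LinearMap.baseChange S f
  have hfS : Function.Surjective fS := by
    intro z
    obtain ⟨w, hw⟩ := LinearMap.lTensor_surjective S hf z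
    exact ⟨w, hw⟩
  have hker : (LinearMap.ker fS).FG := Module.FinitePresentation.fg_ker fS hfS
  obtain ⟨T, hT⟩ := hker
  have hex : Function.Exact (LinearMap.lTensor S K.subtype) (LinearMap.lTensor S f) :=
    lTensor_exact S (LinearMap.exact_subtype_ker_map f) hf
  have hpre : ∀ t : T, ∃ w : S ⊗[R] K, LinearMap.lTensor S K.subtype w = t.1 := by
    intro t
    have ht : t.1 ∈ LinearMap.ker fS := hT ▸ Submodule.subset_span t.2
    have ht' : (LinearMap.lTensor S f) t.1 = 0 := LinearMap.mem_ker.mp ht
    exact (hex t.1).mp ht'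
  choose w hw using hpre
  choose rep hrep using fun z : S ⊗[R] K => TensorProduct.exists_finset z
  let G : Finset (Fin n → R) := T.attach.biUnion (fun t => (rep (w t)).image (fun i => (i.2 : Fin n → R)))
  let K' : Submodule R (Fin n → R) := Submodule.span R (G : Set (Fin n → R))
  have hK'fg : K'.FG := ⟨G, rfl⟩
  have hK'K : K' ≤ K := by
    apply Submodule.span_le.mpr
    intro x hx
    simp only [G, Finset.coe_biUnion, Finset.coe_image, Set.mem_iUnion, Set.mem_image] at hx
    obtain ⟨t, -, i, -, rfl⟩ := hx
    exact i.2.2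
  let qS : S ⊗[R] (Fin n → R) →ₗ[S] S ⊗[R] ((Fin n → R) ⧸ K') := LinearMap.baseChange S K'.mkQ
  have hle : LinearMap.ker fS ≤ LinearMap.ker qS := by
    rw [← hT]
    apply Submodule.span_le.mpr
    intro t ht
    have e1 : t = LinearMap.lTensor S K.subtype (w ⟨t, ht⟩) := (hw ⟨t, ht⟩).symm
    rw [SetLike.mem_coe, LinearMap.mem_ker, e1, hrep (w ⟨t, ht⟩), map_sum, map_sum]
    refine Finset.sum_eq_zero fun i hi => ?_
    have hmem : (i.2 : Fin n → R) ∈ K' := Submodule.subset_span (by
      simp only [G, Finset.coe_biUnion, Finset.coe_image, Set.mem_iUnion, Set.mem_image]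
      exact ⟨⟨t, ht⟩, Finset.mem_attach _ _, i, hi, rfl⟩)
    have hz : K'.mkQ (i.2 : Fin n → R) = 0 := by
      rw [Submodule.mkQ_apply]; exact (Submodule.Quotient.mk_eq_zero K').mpr hmem
    simp only [qS, LinearMap.lTensor_tmul, Submodule.subtype_apply, LinearMap.baseChange_tmul]
    rw [hz, TensorProduct.tmul_zero]
  have hKK' : K ≤ K' := by
    intro k hk
    have h1 : (1 : S) ⊗ₜ[R] k ∈ LinearMap.ker fS := by
      rw [LinearMap.mem_ker]
      simp only [fS, LinearMap.baseChange_tmul]
      rw [LinearMap.mem_ker.mp hk, TensorProduct.tmul_zero]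
    have h2 := hle h1
    rw [LinearMap.mem_ker] at h2
    simp only [qS, LinearMap.baseChange_tmul] at h2
    have h3 : K'.mkQ k = 0 :=
      Groth.Agent.Lib.Helper2.univInj_mk_injective R S h _ (by simpa using h2)
    rw [Submodule.mkQ_apply] at h3
    exact (Submodule.Quotient.mk_eq_zero K').mp h3
  have hKfg : K.FG := by
    rw [le_antisymm hKK' hK'K]; exact hK'fg
  exact Module.finitePresentation_of_free_of_surjective f hf hKfg

end Groth.Agent.S0276
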