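import Groth.Statements.S0277
import Mathlib.LinearAlgebra.TensorProduct.RightExactness
import Mathlib.RingTheory.TensorProduct.Finite
import Mathlib.RingTheory.FiniteType
-- import your own Groth.Agent.* helpers here

set_option autoImplicit false
universe u
open scoped TensorProduct
open Pi1

namespace Groth.Agent.S0277

open TensorProduct in
/-- If `S ⊗ P = 0` and `R → S` is universally injective then `P = 0`. -/
theorem subsingleton_of_tensor (R S : Type u) [CommRing R] [CommRing S] [Algebra R S]
    (h : Pi1.UnivInjective R S) (P : Type u) [AddCommGroup P] [Module R P]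
    (h0 : ∀ z : S ⊗[R] P, z = 0) : Subsingleton P := by
  refine ⟨fun a b => ?_⟩
  have hinj := h P
  have key : ∀ p : P, p = 0 := by
    intro p
    have h1 : (LinearMap.lTensor P (Algebra.linearMap R S)) (p ⊗ₜ[R] (1 : R)) = 0 := by
      have h2 : (TensorProduct.comm R P S) ((LinearMap.lTensor P (Algebra.linearMap R S)) (p ⊗ₜ[R] (1 : R))) = 0 :=
        h0 _
      exact (TensorProduct.comm R P S).injective (by rw [h2, map_zero])
    have h3 : p ⊗ₜ[R] (1 : R) = 0 := hinj (by rw [h1, map_zero])
    have h4 := congrArg (TensorProduct.rid R P) h3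
    simpa using h4
  rw [key a, key b]


/-- Let R -> S be universally injective and A an R-algebra such that S ⊗_R A is of finite type over S.
Then A is of finite type over R. -/
theorem result (R S : Type u) [CommRing R] [CommRing S] [Algebra R S]
    (h : Pi1.UnivInjective R S) (A : Type u) [CommRing A] [Algebra R A]
    [Algebra.FiniteType S (S ⊗[R] A)] : Algebra.FiniteType R A := by
  classical
  obtain ⟨T, hT⟩ := (Algebra.FiniteType.out : (⊤ : Subalgebra S (S ⊗[R] A)).FG)
  choose rep hrep using fun t : S ⊗[R] A => TensorProduct.exists_finset t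
  let G : Finset A := T.biUnion (fun t => (rep t).image Prod.snd)
  let A' : Subalgebra R A := Algebra.adjoin R (G : Set A)
  have hA'fg : A'.FG := ⟨G, rfl⟩
  suffices hA' : A' = ⊤ from ⟨hA' ▸ hA'fg⟩
  let φ : S ⊗[R] A' →ₐ[S] S ⊗[R] A := Algebra.TensorProduct.map (AlgHom.id S S) A'.val
  have hφ : φ.range = ⊤ := by
    rw [eq_top_iff, ← hT]
    apply Algebra.adjoin_le
    intro t ht
    rw [hrep t]
    refine Subalgebra.sum_mem _ fun i hi => ?_
    have hmem : i.2 ∈ A' := Algebra.subset_adjoin (by
      simp only [G, Finset.coe_biUnion, Finset.coe_image, Set.mem_iUnion, Set.mem_image]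
      exact ⟨t, ht, i, hi, rfl⟩)
    exact ⟨i.1 ⊗ₜ ⟨i.2, hmem⟩, by simp [φ]⟩
  let M' : Submodule R A := Subalgebra.toSubmodule A'
  let q : S ⊗[R] A →ₗ[S] S ⊗[R] (A ⧸ M') := LinearMap.baseChange S M'.mkQ
  have key : ∀ w : S ⊗[R] A', q (φ w) = 0 := by
    intro w
    induction w using TensorProduct.induction_on with
    | zero => simp
    | tmul s a =>
      have hz : M'.mkQ (a : A) = 0 := by
        rw [Submodule.mkQ_apply]; exact (Submodule.Quotient.mk_eq_zero M').mpr a.2
      simp only [φ, q, Algebra.TensorProduct.map_tmul, AlgHom.coe_id, id_eq, Subalgebra.coe_val,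
        LinearMap.baseChange_tmul]
      rw [hz, TensorProduct.tmul_zero]
    | add x y hx hy => rw [map_add, map_add, hx, hy, add_zero]
  have hq0 : ∀ z, q z = 0 := by
    intro z
    have hz : z ∈ φ.range := hφ ▸ Algebra.mem_top
    obtain ⟨w, hw⟩ := hz
    have hw' : φ w = z := hw
    rw [← hw']
    exact key w
  have hqsurj : Function.Surjective q := by
    intro z
    obtain ⟨w, hw⟩ := LinearMap.lTensor_surjective S (Submodule.mkQ_surjective M') z
    exact ⟨w, hw⟩
  have h0 : ∀ z : S ⊗[R] (A ⧸ M'), z = 0 := by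
    intro z
    obtain ⟨w, rfl⟩ := hqsurj z
    exact hq0 w
  have hsub := subsingleton_of_tensor R S h (A ⧸ M') h0
  have htop : M' = ⊤ := Submodule.Quotient.subsingleton_iff.mp hsub
  exact Algebra.toSubmodule_eq_top.mp htop

end Groth.Agent.S0277
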