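import Groth.Statements.S0278
import Groth.Agent.Lib.Helper2.UnivInj
import Mathlib.RingTheory.FinitePresentation
-- import your own Groth.Agent.* helpers here

set_option autoImplicit false
universe u
open scoped TensorProduct
open Pi1

namespace Groth.Agent.S0278

/-- Let R -> S be universally injective and A an R-algebra such that S ⊗_R A is of finite presentation
over S. Then A is of finite presentation over R. -/
theorem result (R S : Type u) [CommRing R] [CommRing S] [Algebra R S]
    (h : Pi1.UnivInjective R S) (A : Type u) [CommRing A] [Algebra R A]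
    [Algebra.FinitePresentation S (S ⊗[R] A)] : Algebra.FinitePresentation R A := by
  classical
  have hft : Algebra.FiniteType R A := Groth.Agent.Lib.Helper2.univInj_finiteType R S h A
  obtain ⟨n, f, hf⟩ := Algebra.FiniteType.iff_quotient_mvPolynomial''.1 hft
  set K : Submodule R (MvPolynomial (Fin n) R) := LinearMap.ker f.toLinearMap with hK
  let fS : S ⊗[R] (MvPolynomial (Fin n) R) →ₐ[S] S ⊗[R] A :=
    Algebra.TensorProduct.map (AlgHom.id S S) f
  have hfS_eq : ∀ z, fS z = LinearMap.lTensor S f.toLinearMap z := by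
    intro z
    induction z using TensorProduct.induction_on with
    | zero => simp
    | tmul s a => simp [fS]
    | add x y hx hy => rw [map_add, map_add, hx, hy]
  have hfS : Function.Surjective fS := by
    intro z
    have hf' : Function.Surjective f.toLinearMap := hf
    obtain ⟨w, hw⟩ := LinearMap.lTensor_surjective S hf' z
    exact ⟨w, by rw [hfS_eq, hw]⟩
  have hker : (RingHom.ker fS.toRingHom).FG :=
    Algebra.FinitePresentation.ker_fG_of_surjective fS hfS
  obtain ⟨T, hT⟩ := hker
  have hex : Function.Exact (LinearMap.lTensor S K.subtype) (LinearMap.lTensor S f.toLinearMap) :=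
    lTensor_exact S (LinearMap.exact_subtype_ker_map f.toLinearMap) (show Function.Surjective f.toLinearMap from hf)
  have hpre : ∀ t : T, ∃ w : S ⊗[R] K, LinearMap.lTensor S K.subtype w = t.1 := by
    intro t
    have ht : t.1 ∈ RingHom.ker fS.toRingHom := hT ▸ Ideal.subset_span t.2
    have ht' : (LinearMap.lTensor S f.toLinearMap) t.1 = 0 := by
      rw [← hfS_eq]; exact ht
    exact (hex t.1).mp ht'
  choose w hw using hpre
  choose rep hrep using fun z : S ⊗[R] K => TensorProduct.exists_finset z
  let G : Finset (MvPolynomial (Fin n) R) :=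
    T.attach.biUnion (fun t => (rep (w t)).image (fun i => (i.2 : MvPolynomial (Fin n) R)))
  let I' : Ideal (MvPolynomial (Fin n) R) := Ideal.span (G : Set (MvPolynomial (Fin n) R))
  have hI'fg : I'.FG := ⟨G, rfl⟩
  have hI'K : I' ≤ RingHom.ker f.toRingHom := by
    apply Ideal.span_le.mpr
    intro x hx
    simp only [G, Finset.coe_biUnion, Finset.coe_image, Set.mem_iUnion, Set.mem_image] at hx
    obtain ⟨t, -, i, -, rfl⟩ := hx
    exact i.2.2
  let qS : S ⊗[R] (MvPolynomial (Fin n) R) →ₐ[S] S ⊗[R] (MvPolynomial (Fin n) R ⧸ I') :=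
    Algebra.TensorProduct.map (AlgHom.id S S) (Ideal.Quotient.mkₐ R I')
  have hle : RingHom.ker fS.toRingHom ≤ RingHom.ker qS.toRingHom := by
    rw [← hT]
    apply Ideal.span_le.mpr
    intro t ht
    have e1 : t = LinearMap.lTensor S K.subtype (w ⟨t, ht⟩) := (hw ⟨t, ht⟩).symm
    rw [SetLike.mem_coe, RingHom.mem_ker, e1, hrep (w ⟨t, ht⟩), map_sum, map_sum]
    refine Finset.sum_eq_zero fun i hi => ?_
    have hmem : (i.2 : MvPolynomial (Fin n) R) ∈ I' := Ideal.subset_span (by
      simp only [G, Finset.coe_biUnion, Finset.coe_image, Set.mem_iUnion, Set.mem_image]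
      exact ⟨⟨t, ht⟩, Finset.mem_attach _ _, i, hi, rfl⟩)
    have hz : Ideal.Quotient.mk I' (i.2 : MvPolynomial (Fin n) R) = 0 :=
      Ideal.Quotient.eq_zero_iff_mem.mpr hmem
    simp only [qS, LinearMap.lTensor_tmul, Submodule.subtype_apply, AlgHom.toRingHom_eq_coe,
      RingHom.coe_coe, Algebra.TensorProduct.map_tmul, AlgHom.coe_id, id_eq, Ideal.Quotient.mkₐ_eq_mk]
    rw [hz, TensorProduct.tmul_zero]
  have hKI' : RingHom.ker f.toRingHom ≤ I' := by
    intro k hk
    have hk0 : f k = 0 := hk
    have h1 : (1 : S) ⊗ₜ[R] k ∈ RingHom.ker fS.toRingHom := by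
      rw [RingHom.mem_ker]
      simp only [fS, AlgHom.toRingHom_eq_coe, RingHom.coe_coe, Algebra.TensorProduct.map_tmul,
        AlgHom.coe_id, id_eq]
      rw [hk0, TensorProduct.tmul_zero]
    have h2 := hle h1
    rw [RingHom.mem_ker] at h2
    simp only [qS, AlgHom.toRingHom_eq_coe, RingHom.coe_coe, Algebra.TensorProduct.map_tmul,
      AlgHom.coe_id, id_eq, Ideal.Quotient.mkₐ_eq_mk] at h2
    have h3 : Ideal.Quotient.mk I' k = 0 :=
      Groth.Agent.Lib.Helper2.univInj_mk_injective R S h _ (by simpa using h2)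
    exact Ideal.Quotient.eq_zero_iff_mem.mp h3
  have hKfg : (RingHom.ker f.toRingHom).FG := by
    rw [le_antisymm hKI' hI'K]; exact hI'fg
  exact Algebra.FinitePresentation.of_surjective hf hKfg

end Groth.Agent.S0278
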