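import Groth.Statements.S0280
import Groth.Agent.Lib.Helper86.CharPEtale1
import Groth.Agent.Lib.Helper86.CharPEtale3
import Groth.Agent.Lib.Helper86.CharPEtale4

set_option autoImplicit false
set_option linter.style.haveILetI false
universe u
open Pi1

namespace Groth.Agent.S0280

/-- Let k be a field of characteristic p > 0 and C a k-algebra which is etale over the polynomial ring
in n variables. Then there is a (possibly different) k-algebra map from that polynomial ring to C
which is finite etale. -/
theorem result (k : Type u) [Field k] (p : ℕ)
    [Fact p.Prime] [CharP k p] (n : ℕ) (C : Type u) [CommRing C]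
    [Algebra (MvPolynomial (Fin n) k) C] [Algebra k C] [IsScalarTower k (MvPolynomial (Fin n) k) C]
    [Algebra.Etale (MvPolynomial (Fin n) k) C] :
    ∃ φ : MvPolynomial (Fin n) k →ₐ[k] C, φ.toRingHom.Finite ∧ φ.toRingHom.Etale := by
  classical
  by_cases hC : Subsingleton C
  · refine ⟨IsScalarTower.toAlgHom k (MvPolynomial (Fin n) k) C, ?_, ?_⟩
    · show (algebraMap (MvPolynomial (Fin n) k) C).Finite
      rw [RingHom.finite_algebraMap]
      exact Module.Finite.of_finite
    · show (algebraMap (MvPolynomial (Fin n) k) C).Etale
      rw [RingHom.etale_algebraMap]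
      infer_instance
  · rw [not_subsingleton_iff_nontrivial] at hC
    haveI : CharP C p := charP_of_injective_algebraMap (algebraMap k C).injective p
    have dep := Groth.Agent.Lib.Helper86.CharPEtale.dep_of_etale k n C
    haveI : Algebra.FinitePresentation k C :=
      Algebra.FinitePresentation.trans k (MvPolynomial (Fin n) k) C
    haveI : Algebra.FormallySmooth k C :=
      Algebra.FormallySmooth.comp k (MvPolynomial (Fin n) k) C
    haveI : Algebra.FiniteType k C := inferInstance
    obtain ⟨s, hs⟩ := (Algebra.FiniteType.out : (⊤ : Subalgebra k C).FG)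
    obtain ⟨g, hg⟩ := Groth.Agent.Lib.Helper86.CharPEtale.exists_pow_modification p dep
      (fun i => algebraMap (MvPolynomial (Fin n) k) C (MvPolynomial.X i)) s
    refine ⟨MvPolynomial.aeval (R := k)
      (fun i => algebraMap (MvPolynomial (Fin n) k) C (MvPolynomial.X i) + g i ^ p), ?_, ?_⟩
    · have hint : (MvPolynomial.aeval (R := k) (fun i =>
          algebraMap (MvPolynomial (Fin n) k) C (MvPolynomial.X i) + g i ^ p)).toRingHom.IsIntegral := by
        intro c
        apply hg c
        have : (⊤ : Subalgebra k C) ≤ Algebra.adjoin k (Set.range (fun i =>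
            algebraMap (MvPolynomial (Fin n) k) C (MvPolynomial.X i)) ∪ (s : Set C)) := by
          rw [← hs]
          exact Algebra.adjoin_mono Set.subset_union_right
        exact this Algebra.mem_top
      have hcomp : algebraMap k C = (MvPolynomial.aeval (R := k) (fun i =>
          algebraMap (MvPolynomial (Fin n) k) C (MvPolynomial.X i) + g i ^ p)).toRingHom.comp
          (algebraMap k (MvPolynomial (Fin n) k)) := by
        ext a
        exact ((MvPolynomial.aeval (R := k) (fun i =>
          algebraMap (MvPolynomial (Fin n) k) C (MvPolynomial.X i) + g i ^ p)).commutes a).symm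
      have hft : (MvPolynomial.aeval (R := k) (fun i =>
          algebraMap (MvPolynomial (Fin n) k) C (MvPolynomial.X i) + g i ^ p)).toRingHom.FiniteType :=
        (hcomp ▸ RingHom.finiteType_algebraMap.mpr (inferInstance : Algebra.FiniteType k C)).of_comp_finiteType
      exact hint.to_finite hft
    · have hb : ∀ i, Groth.Agent.Lib.Helper86.CharPEtale.basisOfEtale k n C i =
          KaehlerDifferential.D k C ((MvPolynomial.aeval (R := k) (fun i =>
            algebraMap (MvPolynomial (Fin n) k) C (MvPolynomial.X i) + g i ^ p)) (MvPolynomial.X i)) := by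
        intro i
        rw [Groth.Agent.Lib.Helper86.CharPEtale.basisOfEtale_apply, MvPolynomial.aeval_X, map_add,
          Derivation.leibniz_pow, ← Nat.cast_smul_eq_nsmul C p, CharP.cast_eq_zero C p, zero_smul,
          add_zero]
      exact @Groth.Agent.Lib.Helper86.CharPEtale.etale_of_basis k _ n C _ _
        (MvPolynomial.aeval (R := k) (fun i =>
            algebraMap (MvPolynomial (Fin n) k) C (MvPolynomial.X i) + g i ^ p)).toRingHom.toAlgebra
        (@IsScalarTower.of_algebraMap_eq k (MvPolynomial (Fin n) k) C _ _ _ _
          (MvPolynomial.aeval (R := k) (fun i =>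
            algebraMap (MvPolynomial (Fin n) k) C (MvPolynomial.X i) + g i ^ p)).toRingHom.toAlgebra _
          (fun a => ((MvPolynomial.aeval (R := k) (fun i =>
            algebraMap (MvPolynomial (Fin n) k) C (MvPolynomial.X i) + g i ^ p)).commutes a).symm))
        inferInstance inferInstance
        (Groth.Agent.Lib.Helper86.CharPEtale.basisOfEtale k n C) hb

end Groth.Agent.S0280
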