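import Groth.Statements.S0283
import Groth.Agent.Lib.Helper89.FEtFF
import Mathlib.AlgebraicGeometry.Morphisms.UniversallyInjective
import Mathlib.AlgebraicGeometry.Morphisms.Integral

set_option autoImplicit false
universe u
open Pi1

namespace Groth.Agent.S0283

open AlgebraicGeometry CategoryTheory CategoryTheory.Limits in
/-- Let f : X → Y be a morphism of schemes which is integral, universally injective and surjective (that
is, a universal homeomorphism). Then base change along f, from finite étale covers of Y to finite
étale covers of X, is a full and faithful functor. -/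
theorem result {X Y : Scheme.{u}} (f : X ⟶ Y) [IsIntegralHom f] [UniversallyInjective f] [Surjective f] :
    (FEt.restrict f).Full ∧ (FEt.restrict f).Faithful := by
  have key : ∀ ⦃W W' : Scheme.{u}⦄ (p : W ⟶ Y) (p' : W' ⟶ X) (g' : W' ⟶ W),
      IsPullback g' p' p f → IsClosedMap g'.base ∧ Function.Bijective g'.base := by
    intro W W' p p' g' sq
    have h1 : IsIntegralHom g' :=
      MorphismProperty.of_isPullback (P := @IsIntegralHom) sq.flip inferInstance
    have h2 : UniversallyInjective g' :=
      MorphismProperty.of_isPullback (P := @UniversallyInjective) sq.flip inferInstance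
    have h3 : Surjective g' :=
      MorphismProperty.of_isPullback (P := @Surjective) sq.flip inferInstance
    exact ⟨g'.isClosedMap, g'.injective, g'.surjective⟩
  refine Groth.Agent.Lib.Helper89.FEtFF.full_faithful_of_clopen f ?_ ?_
  · intro W W' p p' g' sq _ _ R _ hpre
    obtain ⟨_, _, hsurj⟩ := key p p' g' sq
    rw [Set.eq_univ_iff_forall]
    intro w
    obtain ⟨w', rfl⟩ := hsurj w
    have : w' ∈ g'.base ⁻¹' R := by rw [hpre]; trivial
    exact this
  · intro W W' p p' g' sq _ _ T hT
    obtain ⟨hcl, hinj, hsurj⟩ := key p p' g' sq
    refine ⟨g'.base '' T, ⟨hcl _ hT.1, ?_⟩, Set.preimage_image_eq _ hinj⟩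
    have : g'.base '' T = (g'.base '' Tᶜ)ᶜ := by
      rw [Set.image_compl_eq ⟨hinj, hsurj⟩, compl_compl]
    rw [this]
    exact (hcl _ hT.compl.1).isOpen_compl

end Groth.Agent.S0283
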