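import Groth.Statements.S0285
import Groth.Agent.Lib.Helper89.FEtFiber3

set_option autoImplicit false
universe u
open Pi1

namespace Groth.Agent.S0285

open AlgebraicGeometry CategoryTheory CategoryTheory.Limits in
/-- For any morphism of schemes, the base change functor on finite etale covers preserves finite limits
and finite colimits. -/
theorem result {X Y : Scheme.{u}} (f : X ⟶ Y) :
    PreservesFiniteLimits (FEt.restrict f) ∧ PreservesFiniteColimits (FEt.restrict f) := by
  exact Groth.Agent.Lib.Helper89.FEtFiber.restrict_exact f

end Groth.Agent.S0285
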