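import Groth.Statements.S0288
import Groth.Agent.Lib.Helper7.GUSchDich
import Groth.Agent.S9812

set_option autoImplicit false
universe u
open Pi1

namespace Groth.Agent.S0288

open AlgebraicGeometry CategoryTheory CategoryTheory.Limits in
/-- Let X be a normal integral scheme with function field K, L a finite field extension of K and Y -> X
the normalization of X in Spec L. If Y -> X is unramified (formally unramified and locally of finite
type), then it is etale, and finite. -/
theorem result {X : Scheme.{u}} [IsIntegral X] (hX : Pi1.IsNormalScheme X) (L : Type u) [Field L]
    [Algebra X.functionField L] [FiniteDimensional X.functionField L]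
    [QuasiCompact (Spec.map (CommRingCat.ofHom (algebraMap X.functionField L)) ≫ X.fromSpecStalk (genericPoint X))]
    [QuasiSeparated (Spec.map (CommRingCat.ofHom (algebraMap X.functionField L)) ≫ X.fromSpecStalk (genericPoint X))]
    [FormallyUnramified (Spec.map (CommRingCat.ofHom (algebraMap X.functionField L)) ≫ X.fromSpecStalk (genericPoint X)).fromNormalization]
    [LocallyOfFiniteType (Spec.map (CommRingCat.ofHom (algebraMap X.functionField L)) ≫ X.fromSpecStalk (genericPoint X)).fromNormalization] :
    Etale (Spec.map (CommRingCat.ofHom (algebraMap X.functionField L)) ≫ X.fromSpecStalk (genericPoint X)).fromNormalization ∧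
    IsFinite (Spec.map (CommRingCat.ofHom (algebraMap X.functionField L)) ≫ X.fromSpecStalk (genericPoint X)).fromNormalization := by
  set f : Spec (CommRingCat.of L) ⟶ X :=
    Spec.map (CommRingCat.ofHom (algebraMap X.functionField L)) ≫
      X.fromSpecStalk (genericPoint X) with hf
  -- all local rings of `X` are geometrically unibranch
  have hY : ∀ x : X, CAlg2.IsGeomUnibranch (X.presheaf.stalk x) := by
    intro x
    haveI := (hX x).1
    haveI := (hX x).2
    exact Groth.Agent.S9812.result (X.presheaf.stalk x)
  -- the normalization is integral, hence connected
  haveI : IsIntegral f.normalization := inferInstance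
  haveI : ConnectedSpace f.normalization := inferInstance
  -- a point over the generic point
  have hη : ∃ y : f.normalization, f.fromNormalization y = genericPoint X := by
    refine ⟨f.toNormalization (IsLocalRing.closedPoint L), ?_⟩
    rw [← Scheme.Hom.comp_apply, Scheme.Hom.toNormalization_fromNormalization, hf,
      Scheme.Hom.comp_apply]
    erw [Spec_closedPoint]
    exact Scheme.fromSpecStalk_closedPoint
  obtain ⟨het, -⟩ := Groth.Agent.Lib.Helper7.GUSch.global f.fromNormalization hY hη
  exact ⟨het, (IsFinite.iff_isIntegralHom_and_locallyOfFiniteType _).mpr
    ⟨inferInstance, inferInstance⟩⟩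

end Groth.Agent.S0288
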