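import Groth.Statements.S0291
import Groth.Agent.Lib.QCoh.Helper18_HartogsDepth
import Groth.Agent.Lib.Helper49.Serre4

set_option autoImplicit false
universe u
open Pi1

namespace Groth.Agent.S0291

open AlgebraicGeometry CategoryTheory CategoryTheory.Limits in
/-- Let A be a Noetherian local ring and B a finite A-algebra such that the local rings of Spec B at all
closed points have depth at least 2. Then restriction from global sections of Spec B to sections
over the preimage of the punctured spectrum of A is an isomorphism. -/
theorem result (A B : Type u) [CommRing A] [IsNoetherianRing A] [IsLocalRing A] [CommRing B] [Algebra A B]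
    [Module.Finite A B]
    (h : ∀ (m : Ideal B) (_ : m.IsMaximal), (2 : ℕ∞) ≤ LocCoh.depth (Localization.AtPrime m) (Localization.AtPrime m)) :
    IsIso ((Spec (CommRingCat.of B)).presheaf.map (homOfLE (le_top :
      Spec.map (CommRingCat.ofHom (algebraMap A B)) ⁻¹ᵁ FEt.puncturedSpec A ≤ ⊤)).op) := by
  have hB : IsNoetherianRing B := IsNoetherianRing.of_finite A B
  have hdepth : ∀ x : Spec (CommRingCat.of B),
      x ∉ Spec.map (CommRingCat.ofHom (algebraMap A B)) ⁻¹ᵁ FEt.puncturedSpec A →
      (2 : ℕ∞) ≤ LocCoh.depth ((Spec (CommRingCat.of B)).presheaf.stalk x)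
        ((Spec (CommRingCat.of B)).presheaf.stalk x) := by
    intro x hx
    let y : PrimeSpectrum B := x
    have h1 : PrimeSpectrum.comap (algebraMap A B) y = IsLocalRing.closedPoint A := by
      by_contra hne
      exact hx hne
    have hmax : y.asIdeal.IsMaximal := by
      have h3 : (y.asIdeal.comap (algebraMap A B)).IsMaximal := by
        have h4 : y.asIdeal.comap (algebraMap A B) = IsLocalRing.maximalIdeal A :=
          congrArg PrimeSpectrum.asIdeal h1
        rw [h4]
        infer_instance
      exact Ideal.isMaximal_of_isIntegral_of_isMaximal_comap y.asIdeal h3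
    have h2 := h y.asIdeal hmax
    have e : Localization.AtPrime y.asIdeal ≃+*
        ((Spec (CommRingCat.of B)).presheaf.stalk x) :=
      (IsLocalization.algEquiv y.asIdeal.primeCompl (Localization.AtPrime y.asIdeal)
        ((Spec.structureSheaf B).presheaf.stalk y)).toRingEquiv
    have h5 := Groth.Agent.Lib.Helper49.Serre.depth_eq_of_ringEquiv e
    rw [h5] at h2
    exact h2
  have hbij := Groth.Agent.Lib.QCoh.Hartogs.bijective_res_top_structureSheaf
    (Spec.map (CommRingCat.ofHom (algebraMap A B)) ⁻¹ᵁ FEt.puncturedSpec A) hdepth
  exact (ConcreteCategory.isIso_iff_bijective _).2 hbij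

end Groth.Agent.S0291
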