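import Groth.Statements.S0312
import Groth.Agent.Lib.Helper2.FlatLen
-- import your own Groth.Agent.* helpers here

set_option autoImplicit false
universe u v
open Matlis

namespace Groth.Agent.S0312

open Groth.Agent.Lib.Helper2 TensorProduct IsLocalRing in
/-- An ideal `I ⊆ A` kills `b ⊗ e` after extension to `B` if it kills `e`. -/
theorem map_smul_tmul_eq_zero {A : Type u} [CommRing A] {B : Type u} [CommRing B] [Algebra A B]
    {E : Type u} [AddCommGroup E] [Module A E] (I : Ideal A) (b : B) (e : E)
    (he : ∀ r ∈ I, r • e = 0) : ∀ c ∈ I.map (algebraMap A B), c • (b ⊗ₜ[A] e) = 0 := by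
  have hle : I.map (algebraMap A B) ≤
      LinearMap.ker (LinearMap.toSpanSingleton B (B ⊗[A] E) (b ⊗ₜ[A] e)) := by
    rw [Ideal.map_le_iff_le_comap]
    intro r hr
    rw [Ideal.mem_comap, LinearMap.mem_ker, LinearMap.toSpanSingleton_apply, algebraMap_smul,
      ← TensorProduct.tmul_smul, he r hr, TensorProduct.tmul_zero]
  intro c hc
  have := hle hc
  rwa [LinearMap.mem_ker, LinearMap.toSpanSingleton_apply] at this

open Groth.Agent.Lib.Helper2 TensorProduct IsLocalRing in
theorem isPowerTorsion_baseChange {A : Type u} [CommRing A] [IsLocalRing A] {B : Type u} [CommRing B]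
    [IsLocalRing B] [Algebra A B]
    (hm : (maximalIdeal A).map (algebraMap A B) = maximalIdeal B)
    {E : Type u} [AddCommGroup E] [Module A E] (hE : LocCoh.IsPowerTorsion (maximalIdeal A) E) :
    LocCoh.IsPowerTorsion (maximalIdeal B) (B ⊗[A] E) := by
  intro t
  induction t using TensorProduct.induction_on with
  | zero => exact ⟨0, fun a _ => smul_zero a⟩
  | tmul b e =>
    obtain ⟨N, hN⟩ := hE e
    refine ⟨N, fun c hc => ?_⟩
    rw [← hm, ← Ideal.map_pow] at hc
    exact map_smul_tmul_eq_zero _ b e hN c hc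
  | add t₁ t₂ h₁ h₂ =>
    obtain ⟨n₁, h₁⟩ := h₁
    obtain ⟨n₂, h₂⟩ := h₂
    refine ⟨max n₁ n₂, fun c hc => ?_⟩
    rw [smul_add, h₁ c (Ideal.pow_le_pow_right (le_max_left _ _) hc),
      h₂ c (Ideal.pow_le_pow_right (le_max_right _ _) hc), add_zero]

open Groth.Agent.Lib.Helper2 TensorProduct IsLocalRing in
theorem one_tmul_ne_zero {A : Type u} [CommRing A] [IsLocalRing A] {B : Type u} [CommRing B]
    [IsLocalRing B] [Algebra A B] [Module.Flat A B]
    (hm : (maximalIdeal A).map (algebraMap A B) = maximalIdeal B)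
    {E : Type u} [AddCommGroup E] [Module A E] (f : ResidueField A →ₗ[A] E) (hf : Function.Injective f) :
    (1 : B) ⊗ₜ[A] f 1 ≠ 0 := by
  intro h0
  have hinj := Module.Flat.lTensor_preserves_injective_linearMap (M := B) f hf
  have h1 : f.lTensor B ((1 : B) ⊗ₜ[A] (1 : ResidueField A)) = 0 := by
    rw [LinearMap.lTensor_tmul]; exact h0
  have h2 : (1 : B) ⊗ₜ[A] (1 : ResidueField A) = 0 := hinj (by rw [h1, map_zero])
  have h3 : Algebra.TensorProduct.quotIdealMapEquivTensorQuot B (maximalIdeal A)
      (Ideal.Quotient.mk _ 1) = 0 := by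
    rw [Algebra.TensorProduct.quotIdealMapEquivTensorQuot_mk]
    exact h2
  have h4 : (Ideal.Quotient.mk ((maximalIdeal A).map (algebraMap A B)) 1) = 0 :=
    (Algebra.TensorProduct.quotIdealMapEquivTensorQuot B (maximalIdeal A)).injective
      (by rw [h3, map_zero])
  rw [Ideal.Quotient.eq_zero_iff_mem, hm] at h4
  exact (Ideal.ne_top_iff_one _).mp (maximalIdeal.isMaximal B).ne_top h4

open Groth.Agent.Lib.Helper2 TensorProduct IsLocalRing in
/-- The socle of `B ⊗ E` is generated by `1 ⊗ f 1`. -/
theorem socle_baseChange {A : Type u} [CommRing A] [IsLocalRing A] [IsNoetherianRing A]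
    {B : Type u} [CommRing B] [IsLocalRing B] [Algebra A B] [Module.Flat A B]
    (hm : (maximalIdeal A).map (algebraMap A B) = maximalIdeal B)
    {E : Type u} [AddCommGroup E] [Module A E] (f : ResidueField A →ₗ[A] E)
    (hf : InjHull.IsEssentialInj f) (x : B ⊗[A] E) (hx : ∀ c ∈ maximalIdeal B, c • x = 0) :
    x ∈ Submodule.span B {(1 : B) ⊗ₜ[A] f 1} := by
  obtain ⟨s, hs⟩ := (isNoetherianRing_iff_ideal_fg A).mp inferInstance (maximalIdeal A)
  have hx' : ∀ r ∈ s, (algebraMap A B r) • x = 0 := by
    intro r hr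
    apply hx
    rw [← hm]
    exact Ideal.mem_map_of_mem _ (by rw [← hs]; exact Ideal.subset_span hr)
  obtain ⟨z, rfl⟩ := mem_range_baseChange_torsion B E s x hx'
  clear hx hx'
  induction z using TensorProduct.induction_on with
  | zero => rw [map_zero]; exact Submodule.zero_mem _
  | tmul b e =>
    obtain ⟨e, he⟩ := e
    rw [LinearMap.baseChange_tmul]
    show b ⊗ₜ[A] e ∈ _
    have he' : ∀ a ∈ maximalIdeal A, a • e = 0 := by
      intro a ha
      rw [Submodule.torsionBySet_eq_torsionBySet_span, hs] at he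
      exact (Submodule.mem_torsionBySet_iff _ _).mp he ⟨a, ha⟩
    obtain ⟨c, rfl⟩ := Groth.Agent.S5170.mem_range_of_soc f hf e he'
    obtain ⟨r, rfl⟩ := IsLocalRing.residue_surjective c
    have h1 : IsLocalRing.residue A r = r • (1 : ResidueField A) := by
      rw [Algebra.smul_def, mul_one]; rfl
    rw [h1, map_smul, TensorProduct.tmul_smul, ← algebraMap_smul B r,
      show b ⊗ₜ[A] f 1 = b • ((1 : B) ⊗ₜ[A] f 1) by rw [TensorProduct.smul_tmul', smul_eq_mul, mul_one]]
    exact Submodule.smul_mem _ _ (Submodule.smul_mem _ _ (Submodule.mem_span_singleton_self _))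
  | add z₁ z₂ h₁ h₂ =>
    rw [map_add]
    exact Submodule.add_mem _ h₁ h₂

open Groth.Agent.Lib.Helper2 TensorProduct IsLocalRing in
/-- The length equality needed for the hull criterion. -/
theorem length_hom_baseChange {A : Type u} [CommRing A] [IsLocalRing A] [IsNoetherianRing A]
    {B : Type u} [CommRing B] [IsLocalRing B] [Algebra A B] [Module.Flat A B]
    (hm : (maximalIdeal A).map (algebraMap A B) = maximalIdeal B)
    {E : Type u} [AddCommGroup E] [Module A E] (f : ResidueField A →ₗ[A] E)
    (hf : InjHull.IsInjectiveHull f) (n : ℕ) :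
    Module.length B (B ⧸ (maximalIdeal A ^ n).map (algebraMap A B)) =
      Module.length B ((B ⧸ (maximalIdeal A ^ n).map (algebraMap A B)) →ₗ[B] (B ⊗[A] E)) := by
  set J : Ideal B := (maximalIdeal A ^ n).map (algebraMap A B) with hJ
  have hfl : IsFiniteLength A (A ⧸ maximalIdeal A ^ n) := isFiniteLength_quotient_pow n
  -- left side
  have hL : Module.length B (B ⧸ J) = Module.length A (A ⧸ maximalIdeal A ^ n) := by
    rw [(Algebra.TensorProduct.quotIdealMapEquivTensorQuot B
      (maximalIdeal A ^ n)).toLinearEquiv.length_eq]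
    exact length_baseChange_of_isFiniteLength B hm _ hfl
  -- right side
  obtain ⟨s, hs⟩ := (isNoetherianRing_iff_ideal_fg A).mp inferInstance (maximalIdeal A ^ n)
  have hEs : Submodule.torsionBySet A E (s : Set A) =
      Submodule.torsionBySet A E ((maximalIdeal A ^ n : Ideal A) : Set A) := by
    rw [Submodule.torsionBySet_eq_torsionBySet_span, hs]
  have hlenEs : Module.length A (Submodule.torsionBySet A E (s : Set A)) =
      Module.length A (A ⧸ maximalIdeal A ^ n) := by
    rw [(LinearEquiv.ofEq _ _ hEs).length_eq,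
      ← (homQuotEquivTorsion (maximalIdeal A ^ n) E).length_eq]
    exact Groth.Agent.S5170.result A E f hf _ hfl
  have hflEs : IsFiniteLength A (Submodule.torsionBySet A E (s : Set A)) := by
    rw [← Module.length_ne_top_iff, hlenEs, Module.length_ne_top_iff]
    exact hfl
  let β : B ⊗[A] (Submodule.torsionBySet A E (s : Set A)) →ₗ[B] B ⊗[A] E :=
    (Submodule.torsionBySet A E (s : Set A)).subtype.baseChange B
  have hβinj : Function.Injective β := by
    show Function.Injective ((Submodule.torsionBySet A E (s : Set A)).subtype.baseChange B)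
    rw [LinearMap.baseChange_eq_ltensor]
    exact Module.Flat.lTensor_preserves_injective_linearMap _ (Submodule.injective_subtype _)
  have hβmem : ∀ z, β z ∈ Submodule.torsionBySet B (B ⊗[A] E) (J : Set B) := by
    intro z
    rw [Submodule.mem_torsionBySet_iff]
    rintro ⟨c, hc⟩
    show c • β z = 0
    induction z using TensorProduct.induction_on with
    | zero => rw [map_zero, smul_zero]
    | tmul b e =>
      obtain ⟨e, he⟩ := e
      have he' : ∀ a ∈ maximalIdeal A ^ n, a • e = 0 := by
        intro a ha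
        rw [hEs] at he
        exact (Submodule.mem_torsionBySet_iff _ _).mp he ⟨a, ha⟩
      exact map_smul_tmul_eq_zero _ b e he' c hc
    | add z₁ z₂ h₁ h₂ => rw [map_add, smul_add, h₁, h₂, add_zero]
  let β' : B ⊗[A] (Submodule.torsionBySet A E (s : Set A)) →ₗ[B]
      Submodule.torsionBySet B (B ⊗[A] E) (J : Set B) := LinearMap.codRestrict _ β hβmem
  have hβ'bij : Function.Bijective β' := by
    constructor
    · intro z₁ z₂ h
      exact hβinj (congrArg Subtype.val h)
    · rintro ⟨x, hx⟩
      have hx' : ∀ r ∈ s, (algebraMap A B r) • x = 0 := by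
        intro r hr
        refine (Submodule.mem_torsionBySet_iff _ _).mp hx ⟨algebraMap A B r, ?_⟩
        exact Ideal.mem_map_of_mem _ (by rw [← hs]; exact Ideal.subset_span hr)
      obtain ⟨z, hz⟩ := mem_range_baseChange_torsion B E s x hx'
      exact ⟨z, Subtype.ext hz⟩
  have hR : Module.length B ((B ⧸ J) →ₗ[B] (B ⊗[A] E)) =
      Module.length A (A ⧸ maximalIdeal A ^ n) := by
    have h1 : Module.length B ((B ⧸ J) →ₗ[B] (B ⊗[A] E)) =
        Module.length B (Submodule.torsionBySet B (B ⊗[A] E) (J : Set B)) :=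
      LinearEquiv.length_eq (homQuotEquivTorsion J (B ⊗[A] E))
    have h2 : Module.length B (B ⊗[A] (Submodule.torsionBySet A E (s : Set A))) =
        Module.length B (Submodule.torsionBySet B (B ⊗[A] E) (J : Set B)) :=
      LinearEquiv.length_eq (LinearEquiv.ofBijective β' hβ'bij)
    rw [h1, ← h2, length_baseChange_of_isFiniteLength B hm _ hflEs, hlenEs]
  rw [hL, hR]

/-- For a flat local homomorphism A → B of Noetherian local rings with m_A B equal to the maximal ideal
of B, tensoring an injective hull of the residue field of A with B gives an injective hull of the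
residue field of B. -/
theorem result (A : Type u) [CommRing A] [IsLocalRing A] [IsNoetherianRing A] (B : Type u) [CommRing B] [IsLocalRing B] [IsNoetherianRing B] [Algebra A B] [IsLocalHom (algebraMap A B)] [Module.Flat A B] (hm : (IsLocalRing.maximalIdeal A).map (algebraMap A B) = IsLocalRing.maximalIdeal B) (E : Type u) [AddCommGroup E] [Module A E] (f : IsLocalRing.ResidueField A →ₗ[A] E) (hf : InjHull.IsInjectiveHull f) : ∃ g : IsLocalRing.ResidueField B →ₗ[B] TensorProduct A B E, InjHull.IsInjectiveHull g := by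
  open Groth.Agent.Lib.Helper2 TensorProduct IsLocalRing in
  have hkill : ∀ c ∈ maximalIdeal B, c • ((1 : B) ⊗ₜ[A] f 1) = 0 := by
    intro c hc
    rw [← hm] at hc
    refine map_smul_tmul_eq_zero (maximalIdeal A) (1 : B) (f 1) ?_ c hc
    intro r hr
    rw [← map_smul]
    have : r • (1 : IsLocalRing.ResidueField A) = 0 := by
      rw [Algebra.smul_def, mul_one]
      exact (IsLocalRing.residue_eq_zero_iff r).mpr hr
    rw [this, map_zero]
  let g : IsLocalRing.ResidueField B →ₗ[B] TensorProduct A B E :=
    Groth.Agent.Lib.Helper2.quotToOfKill (IsLocalRing.maximalIdeal B) ((1 : B) ⊗ₜ[A] f 1) hkill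
  have hg1 : g 1 = (1 : B) ⊗ₜ[A] f 1 :=
    Groth.Agent.Lib.Helper2.quotToOfKill_one (IsLocalRing.maximalIdeal B) _ hkill
  have hginj : Function.Injective g := by
    apply Groth.Agent.Lib.Helper2.injective_of_residueField_of_ne_zero
    rw [hg1]
    exact one_tmul_ne_zero hm f hf.injective
  have hpow : ∀ n : ℕ, (IsLocalRing.maximalIdeal A ^ n).map (algebraMap A B) =
      IsLocalRing.maximalIdeal B ^ n := fun n => by rw [Ideal.map_pow, hm]
  refine ⟨g, Groth.Agent.Lib.Helper2.isInjectiveHull_of_length
    (isPowerTorsion_baseChange hm (Groth.Agent.Lib.Helper2.isPowerTorsion_of_isInjectiveHull f hf))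
    g hginj ?_ (fun n => (IsLocalRing.maximalIdeal A ^ n).map (algebraMap A B))
    (fun n => ⟨n, (hpow n).ge⟩) (fun N => ⟨N, (hpow N).le⟩)
    (fun n => length_hom_baseChange hm f hf n)⟩
  intro x hx
  have h1 := socle_baseChange hm f hf.toIsEssentialInj x hx
  obtain ⟨b, rfl⟩ := Submodule.mem_span_singleton.mp h1
  exact ⟨b • 1, by rw [map_smul, hg1]⟩

end Groth.Agent.S0312
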