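import Groth.Statements.S0329
-- import your own Groth.Agent.* helpers here
import Groth.Agent.Lib.Helper41.LCFaltings

set_option autoImplicit false
universe u v
open LocCoh

namespace Groth.Agent.S0329

/-- Part (1): ⇔(2) with T = V(I) (Faltings): for a finite module M over a Noetherian ring, the local
cohomology modules H^i_I(M) for i ≤ n are all finitely generated exactly when some ideal J with I
contained in the radical of J kills all of them. -/
theorem result (R : Type u) [CommRing R] [IsNoetherianRing R] (I : Ideal R) (M : Type u) [AddCommGroup M] [Module R M] [Module.Finite R M] (n : ℕ) : (∀ i : ℕ, i ≤ n → Module.Finite R (LocCoh.H I i M)) ↔ ∃ J : Ideal R, I ≤ J.radical ∧ ∀ i : ℕ, i ≤ n → ∀ a ∈ J, ∀ x : LocCoh.H I i M, a • x = 0 := by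
  classical
  constructor
  · intro hfin
    have hex : ∀ i, i ≤ n → ∃ k : ℕ, ∀ a ∈ I ^ k, ∀ x : LocCoh.H I i M, a • x = 0 := by
      intro i hi
      have := hfin i hi
      obtain ⟨k, hk⟩ := Groth.Agent.Lib.Helper41.LC.exists_pow_smul_eq_zero_of_fg I
        (Groth.Agent.Lib.Helper41.LC.isTorsion_H I i (ModuleCat.of R M)) ⊤ Module.Finite.fg_top
      exact ⟨k, fun a ha x => hk a ha x Submodule.mem_top⟩
    choose! k hk using hex
    let K := (Finset.range (n + 1)).sup k
    refine ⟨I ^ K, ?_, ?_⟩
    · intro x hx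
      exact ⟨K, Ideal.pow_mem_pow hx K⟩
    · intro i hi a ha x
      have hle : k i ≤ K := Finset.le_sup (Finset.mem_range.2 (by omega))
      exact hk i hi a (Ideal.pow_le_pow_right hle ha) x
  · rintro ⟨J, hIJ, hJ⟩
    obtain ⟨k, hk⟩ := Ideal.exists_pow_le_of_le_radical_of_fg hIJ
      ((isNoetherianRing_iff_ideal_fg R).1 inferInstance I)
    exact Groth.Agent.Lib.Helper41.LC.finite_of_pow_smul_eq_zero I n M k
      (fun i hi a ha x => hJ i hi a (hk ha) x)

end Groth.Agent.S0329
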