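import Groth.Statements.S0331
-- import your own Groth.Agent.* helpers here
import Groth.Agent.Lib.Helper41.LCFaltings
import Groth.Agent.Lib.Helper41.LCLocProj

set_option autoImplicit false
universe u v
open LocCoh

namespace Groth.Agent.S0331

/-- Over a Noetherian ring, if H^i_I(R) is finitely generated for i ≤ n, then so is H^i_I(M) for i ≤ n
for every finite module M that becomes finite projective after inverting any single element of I. -/
theorem result (R : Type u) [CommRing R] [IsNoetherianRing R] (I : Ideal R) (n : ℕ) (hR : ∀ i : ℕ, i ≤ n → Module.Finite R (LocCoh.H I i R)) (M : Type u) [AddCommGroup M] [Module R M] [Module.Finite R M] (hM : ∀ f ∈ I, Module.Projective (Localization.Away f) (LocalizedModule (Submonoid.powers f) M)) (i : ℕ) (hi : i ≤ n) : Module.Finite R (LocCoh.H I i M) := by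
  classical
  have hex : ∀ j, j ≤ n → ∃ m : ℕ, ∀ a ∈ I ^ m, ∀ x : LocCoh.H I j M, a • x = 0 := by
    intro j hj
    have := hR j hj
    obtain ⟨k, hk⟩ := Groth.Agent.Lib.Helper41.LC.exists_pow_smul_eq_zero_of_fg I
      (Groth.Agent.Lib.Helper41.LC.isTorsion_H I j (ModuleCat.of R R)) ⊤ Module.Finite.fg_top
    exact Groth.Agent.Lib.Helper41.LC.exists_pow_smul_eq_zero_of_locally_projective I I le_rfl j k
      (fun a ha x => hk a ha x Submodule.mem_top) M hM
  choose! m hm using hex
  let K := (Finset.range (n + 1)).sup m
  exact Groth.Agent.Lib.Helper41.LC.finite_of_pow_smul_eq_zero I n M K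
    (fun j hj a ha x => hm j hj a
      (Ideal.pow_le_pow_right (Finset.le_sup (Finset.mem_range.2 (by omega))) ha) x) i hi

end Groth.Agent.S0331
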