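import Groth.Statements.S0335
import Groth.Agent.Lib.Helper48.Hartshorne
import Groth.Agent.Lib.Helper48.LocalConn
import Groth.Agent.Lib.Helper49.Serre4
import Groth.Agent.S2663
-- import your own Groth.Agent.* helpers here

set_option autoImplicit false
universe u v
open LocCoh

namespace Groth.Agent.S0335

/-- For the ring itself; Hartshorne's connectedness: if a Noetherian local ring has depth at least 2
then its punctured spectrum is connected. -/
theorem result (R : Type u) [CommRing R] [IsLocalRing R] [IsNoetherianRing R] (h : 2 ≤ LocCoh.depth R R) : IsConnected {x : PrimeSpectrum R | x.asIdeal ≠ IsLocalRing.maximalIdeal R} := by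
  classical
  have hd0 : LocCoh.depth R R ≠ 0 := by
    intro h0; rw [h0] at h; exact absurd h (by norm_num)
  haveI hconn : ConnectedSpace (PrimeSpectrum R) :=
    Groth.Agent.Lib.Helper48.LocalConn.connectedSpace_of_isLocalRing R
  -- nonempty
  have hnonempty : {x : PrimeSpectrum R | x.asIdeal ≠ IsLocalRing.maximalIdeal R}.Nonempty := by
    obtain ⟨x, hxm, hx⟩ := Groth.Agent.Lib.Helper48.Hartshorne.exists_regular_mem R R hd0
      (IsLocalRing.maximalIdeal R) Ideal.le_radical
    obtain ⟨q, hq, hqm⟩ := Ideal.exists_minimalPrimes_le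
      (bot_le : (⊥ : Ideal R) ≤ IsLocalRing.maximalIdeal R)
    refine ⟨⟨q, hq.1.1⟩, ?_⟩
    intro hqeq
    have hqeq' : q = IsLocalRing.maximalIdeal R := hqeq
    have hmmin : IsLocalRing.maximalIdeal R ∈ minimalPrimes R := hqeq' ▸ hq
    have hdj := Ideal.disjoint_nonZeroDivisors_of_mem_minimalPrimes hmmin
    refine Set.disjoint_left.mp hdj hxm ?_
    rw [SetLike.mem_coe, mem_nonZeroDivisors_iff_right]
    intro y hy
    apply hx
    simpa [mul_comm] using hy
  have hset : {x : PrimeSpectrum R | x.asIdeal ≠ IsLocalRing.maximalIdeal R} =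
      (PrimeSpectrum.zeroLocus ((IsLocalRing.maximalIdeal R : Ideal R) : Set R))ᶜ := by
    ext x
    simp only [Set.mem_setOf_eq, Set.mem_compl_iff, PrimeSpectrum.mem_zeroLocus,
      SetLike.coe_subset_coe]
    constructor
    · intro hne hle
      exact hne (le_antisymm (IsLocalRing.le_maximalIdeal x.2.ne_top) hle)
    · intro hnle heq
      exact hnle heq.ge
  have hdepth : ∀ (p : Ideal R) [p.IsPrime], IsLocalRing.maximalIdeal R ≤ p →
      (2 : ℕ∞) ≤ LocCoh.depth (Localization.AtPrime p) (Localization.AtPrime p) := by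
    intro p hp hle
    have hpm : p = IsLocalRing.maximalIdeal R :=
      le_antisymm (IsLocalRing.le_maximalIdeal hp.ne_top) hle
    have hU : p.primeCompl ≤ IsUnit.submonoid R := by
      intro s hs
      rw [IsUnit.mem_submonoid_iff]
      apply IsLocalRing.notMem_maximalIdeal.mp
      intro hsm
      exact hs (by rw [hpm]; exact hsm)
    have e : R ≃+* Localization.AtPrime p :=
      (IsLocalization.atUnits R p.primeCompl (S := Localization.AtPrime p) hU).toRingEquiv
    rw [← Groth.Agent.Lib.Helper49.Serre.depth_eq_of_ringEquiv e]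
    exact h
  refine ⟨hnonempty, ?_⟩
  rw [hset]
  exact Groth.Agent.S2663.result R (IsLocalRing.maximalIdeal R) hdepth

end Groth.Agent.S0335
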