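import Groth.Statements.S0336
-- import your own Groth.Agent.* helpers here
import Groth.Agent.Lib.Helper15.Kunz

set_option autoImplicit false
universe u v
open LocCoh

namespace Groth.Agent.S0336

/-- A Noetherian ring of prime characteristic p is regular exactly when its Frobenius endomorphism is
flat. -/
theorem result (p : ℕ) [Fact p.Prime] (R : Type u) [CommRing R] [IsNoetherianRing R] [CharP R p] : IsRegularRing R ↔ (frobenius R p).Flat := by
  exact Groth.Agent.Lib.Helper15.Kunz.isRegularRing_iff_flat p R

end Groth.Agent.S0336
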