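import Groth.Statements.S0337
import Mathlib
import Groth.Agent.Lib.Helper33.BaseChangePres
import Groth.Agent.Lib.Helper33.DepthZeroFree

set_option autoImplicit false
universe u v
open CategoryTheory
open LocCoh

namespace Groth.Agent.S0337

/-- Over a Noetherian local ring of prime characteristic p, a finite module isomorphic to its own base
change along Frobenius is free. -/
theorem result (p : ℕ) [Fact p.Prime] (R : Type u) [CommRing R] [IsLocalRing R] [IsNoetherianRing R] [CharP R p] (M : Type u) [AddCommGroup M] [Module R M] [Module.Finite R M] (h : Nonempty ((ModuleCat.extendScalars (frobenius R p)).obj (ModuleCat.of R M) ≅ ModuleCat.of R M)) : Module.Free R M := by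
  classical
  obtain ⟨θ⟩ := h
  obtain ⟨r, π, hπ, hmin⟩ := Groth.Agent.Lib.Helper33.exists_minimal_presentation R M
  -- the ideal of coordinates of relations
  set 𝔯 : Ideal R := Ideal.span {a | ∃ c ∈ LinearMap.ker π, ∃ i, c i = a} with h𝔯
  have hker𝔯 : ∀ c ∈ LinearMap.ker π, ∀ i, c i ∈ 𝔯 := fun c hc i =>
    Ideal.subset_span ⟨c, hc, i, rfl⟩
  have h𝔯m : 𝔯 ≤ IsLocalRing.maximalIdeal R := by
    rw [h𝔯, Ideal.span_le]
    rintro a ⟨c, hc, i, rfl⟩
    exact hmin c hc i
  set 𝔟 : Ideal R := IsLocalRing.maximalIdeal R * 𝔯 with h𝔟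
  have h𝔟m : 𝔟 ≤ IsLocalRing.maximalIdeal R := Ideal.mul_le_right.trans h𝔯m
  have hp2 : 2 ≤ p := (Fact.out : p.Prime).two_le
  have hfrob : ∀ a ∈ 𝔯, frobenius R p a ∈ 𝔟 := by
    intro a ha
    rw [frobenius_def]
    obtain ⟨k, rfl⟩ : ∃ k, p = k + 2 := ⟨p - 2, by omega⟩
    rw [pow_succ]
    exact Ideal.mul_mem_mul (Ideal.pow_mem_of_mem _ (h𝔯m ha) _ (by omega)) ha
  obtain ⟨πT, hπT, hkerT⟩ :=
    Groth.Agent.Lib.Helper33.BaseChangePres.exists_presentation_baseChange (frobenius R p) π hπ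
      𝔯 𝔟 hker𝔯 hfrob
  let e : Groth.Agent.Lib.Helper33.BaseChangePres.T (frobenius R p) M ≃ₗ[R] M :=
    θ.toLinearEquiv
  set π' : (Fin r → R) →ₗ[R] M := e.toLinearMap.comp πT with hπ'
  have hπ's : Function.Surjective π' := by
    rw [hπ', LinearMap.coe_comp]
    exact e.surjective.comp hπT
  have hker' : ∀ c ∈ LinearMap.ker π', ∀ i, c i ∈ 𝔟 := by
    intro c hc
    apply hkerT
    rw [LinearMap.mem_ker] at hc ⊢
    rw [hπ', LinearMap.comp_apply] at hc
    exact e.injective (by rw [map_zero]; exact hc)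
  have hkerπ := Groth.Agent.Lib.Helper33.BaseChangePres.ker_coord_mem_of_presentations π π' hπ hπ's
    hmin 𝔟 h𝔟m hker'
  have h𝔯le : 𝔯 ≤ 𝔟 := by
    rw [h𝔯, Ideal.span_le]
    rintro a ⟨c, hc, i, rfl⟩
    exact hkerπ c hc i
  have h𝔯bot : 𝔯 = ⊥ := by
    apply Submodule.eq_bot_of_le_smul_of_le_jacobson_bot (IsLocalRing.maximalIdeal R) 𝔯
      (IsNoetherian.noetherian 𝔯)
    · exact h𝔯le
    · rw [IsLocalRing.jacobson_eq_maximalIdeal ⊥ bot_ne_top]
  have hinj : Function.Injective π := by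
    rw [← LinearMap.ker_eq_bot, LinearMap.ker_eq_bot']
    intro c hc
    ext i
    have := hker𝔯 c hc i
    rw [h𝔯bot] at this
    exact this
  exact Module.Free.of_equiv (LinearEquiv.ofBijective π ⟨hinj, hπ⟩)

end Groth.Agent.S0337
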