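import Groth.Statements.S0347
import Mathlib.AlgebraicGeometry.Morphisms.UniversallyOpen
import Mathlib.CategoryTheory.Monoidal.Cartesian.Grp
-- import your own Groth.Agent.* helpers here

set_option autoImplicit false
universe u v
open CategoryTheory MonoidalCategory CartesianMonoidalCategory MonObj GrpObj AlgebraicGeometry
open GrpSch

namespace Groth.Agent.S0347

/-- the shear isomorphism `(g, h) ↦ (g * h, h)` -/
lemma shear_aux {C : Type*} [Category C] [CartesianMonoidalCategory C] (G : C) [GrpObj G] :
    ∃ α : G ⊗ G ≅ G ⊗ G, α.hom ≫ fst G G = μ[G] := by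
  have hμ : (μ[G] : G ⊗ G ⟶ G) = fst G G * snd G G := by
    rw [Hom.mul_def]; simp
  refine ⟨⟨lift μ[G] (snd G G), lift (fst G G / snd G G) (snd G G), ?_, ?_⟩, ?_⟩
  · apply CartesianMonoidalCategory.hom_ext
    · simp only [Category.assoc, lift_fst, Category.id_comp]
      rw [GrpObj.comp_div, lift_fst, lift_snd, hμ, mul_div_cancel_right]
    · simp
  · apply CartesianMonoidalCategory.hom_ext
    · simp only [Category.assoc, lift_fst, Category.id_comp]
      rw [hμ, MonObj.comp_mul, lift_fst, lift_snd, div_mul_cancel]
    · simp
  · simp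

/-- The multiplication map of a group scheme over a field is an open map of topological spaces. -/
theorem result (K : Type u) [Field K] (G : Over (Spec (CommRingCat.of K))) [GrpObj G] : IsOpenMap (μ[G].left : (G ⊗ G).left ⟶ G.left) := by
  obtain ⟨α, hα⟩ := shear_aux G
  have h1 : (μ[G].left : (G ⊗ G).left ⟶ G.left) = α.hom.left ≫ (fst G G).left := by
    rw [← Over.comp_left, hα]
  have h2 : UniversallyOpen (fst G G).left := by dsimp; infer_instance
  have h3 : IsIso α.hom.left := inferInstance
  rw [h1]
  exact ((fst G G).left.isOpenMap).comp (α.hom.left.homeomorph.isOpenMap)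

end Groth.Agent.S0347
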