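import Groth.Statements.S0349
-- import your own Groth.Agent.* helpers here
import Groth.Agent.Lib.Helper40.DenseMul
import Mathlib

set_option autoImplicit false
universe u v
open CategoryTheory MonoidalCategory CartesianMonoidalCategory MonObj GrpObj AlgebraicGeometry
open GrpSch

namespace Groth.Agent.S0349

/-- An irreducible group scheme over a field is quasi-compact. -/
theorem result (K : Type u) [Field K] (G : Over (Spec (CommRingCat.of K))) [GrpObj G] [IrreducibleSpace G.left] : CompactSpace G.left := by
  classical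
  have hne : Nonempty G.left := inferInstance
  obtain ⟨x⟩ := hne
  obtain ⟨_, ⟨(U : G.left.Opens), hU, rfl⟩, hxU, -⟩ :=
    G.left.isBasis_affineOpens.exists_subset_of_mem_open (Set.mem_univ x) isOpen_univ
  have hUd : Dense (U : Set G.left) := U.isOpen.dense ⟨x, hxU⟩
  have hUaff : IsAffine (U : Scheme.{u}) := hU
  -- the affine scheme `U ×_K U` surjects onto `G`
  let m : Limits.pullback (U.ι ≫ G.hom) (U.ι ≫ G.hom) ⟶ (G ⊗ G).left :=
    Limits.pullback.map (U.ι ≫ G.hom) (U.ι ≫ G.hom) G.hom G.hom U.ι U.ι (𝟙 _)
      (by simp) (by simp)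
  have hrange : Set.range m.base =
      (Limits.pullback.fst G.hom G.hom).base ⁻¹' Set.range U.ι.base ∩
        (Limits.pullback.snd G.hom G.hom).base ⁻¹' Set.range U.ι.base :=
    Scheme.Pullback.range_map _ _ _ _ _ _ _ _ _
  have hcomp : IsCompact (Set.range (m ≫ μ[G].left).base) :=
    isCompact_range (m ≫ μ[G].left).base.hom.continuous
  have huniv : Set.range (m ≫ μ[G].left).base = Set.univ := by
    rw [Set.eq_univ_iff_forall]
    intro g
    obtain ⟨z, hz1, hz2, hz3⟩ :=
      Groth.Agent.Lib.Helper40.DenseMul.exists_mul_of_dense_field K G U U hUd hUd g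
    have hz : z ∈ Set.range m.base := by
      rw [hrange]
      refine ⟨?_, ?_⟩
      · show (Limits.pullback.fst G.hom G.hom).base z ∈ Set.range U.ι.base
        rw [Scheme.Opens.range_ι]
        exact hz1
      · show (Limits.pullback.snd G.hom G.hom).base z ∈ Set.range U.ι.base
        rw [Scheme.Opens.range_ι]
        exact hz2
    obtain ⟨w, rfl⟩ := hz
    exact ⟨w, hz3⟩
  rw [huniv] at hcomp
  exact isCompact_univ_iff.mp hcomp

end Groth.Agent.S0349
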