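import Groth.Statements.S0352
-- import your own Groth.Agent.* helpers here
import Groth.Agent.Lib.Helper40.PullbackPts
import Mathlib

set_option autoImplicit false
universe u v
open CategoryTheory MonoidalCategory CartesianMonoidalCategory MonObj GrpObj AlgebraicGeometry
open GrpSch

namespace Groth.Agent.S0352

/-- If the image of a homomorphism of group schemes over a field is open, it is also closed. -/
theorem result (K : Type u) [Field K] (H G : Over (Spec (CommRingCat.of K))) [GrpObj H] [GrpObj G] (ψ : H ⟶ G) [IsMonHom ψ] (h : IsOpen (Set.range ψ.left)) : IsClosed (Set.range ψ.left) := by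
  classical
  rw [← isOpen_compl_iff, isOpen_iff_forall_mem_open]
  intro g hg
  -- the residue field point
  let K' : Over (Spec (CommRingCat.of K)) := Over.mk (G.left.fromSpecResidueField g ≫ G.hom)
  let gK : K' ⟶ G := Over.homMk (G.left.fromSpecResidueField g) rfl
  have hpt : ∀ t : K'.left, gK.left.base t = g := by
    intro t
    exact Scheme.fromSpecResidueField_apply g t
  have hne : Nonempty K'.left := by
    show Nonempty (Spec (G.left.residueField g))
    infer_instance
  obtain ⟨pt⟩ := hne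
  have huo : UniversallyOpen K'.hom := inferInstance
  have hfst : (fst G K').left = Limits.pullback.fst G.hom K'.hom := rfl
  have hopen : IsOpenMap (fst G K').left.base := by
    rw [hfst]
    exact (Limits.pullback.fst G.hom K'.hom).isOpenMap
  let c : G ⊗ K' ⟶ G := snd G K' ≫ gK
  let ρ : G ⊗ K' ⟶ G := c⁻¹ * fst G K'
  let N : Set (G ⊗ K').left := ρ.left.base ⁻¹' (Set.range ψ.left)
  have hNo : IsOpen N := h.preimage ρ.left.base.hom.continuous
  have key : ∀ {P : Over (Spec (CommRingCat.of K))} (X : P ⟶ G ⊗ K') (a b : P ⟶ H),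
      X ≫ fst G K' = a ≫ ψ → X ≫ ρ = b ≫ ψ → X ≫ c = (a * b⁻¹) ≫ ψ := by
    intro P X a b e1 e2
    have e3 : X ≫ ρ = (X ≫ c)⁻¹ * (X ≫ fst G K') := by
      show X ≫ (c⁻¹ * fst G K') = _
      rw [MonObj.comp_mul, GrpObj.comp_inv]
    rw [MonObj.mul_comp, GrpObj.inv_comp, ← e1, ← e2, e3]
    group
  refine ⟨(fst G K').left.base '' N, ?_, hopen _ hNo, ?_⟩
  · -- disjointness
    rintro y ⟨x, hxN, rfl⟩ hy
    apply hg
    obtain ⟨h1, hh1⟩ := hy
    obtain ⟨h2, hh2⟩ := hxN
    -- the two fibre products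
    obtain ⟨z1, hz1, -⟩ := Groth.Agent.Lib.Helper40.PullbackPts.exists_preimage_of_isPullback_over
      (IsPullback.of_hasPullback (fst G K') ψ) x h1 hh1.symm
    have hz1' : (Limits.pullback.fst (fst G K') ψ ≫ ρ).left.base z1 = ψ.left.base h2 := by
      rw [Over.comp_left, Scheme.Hom.comp_base, TopCat.comp_app, hz1]
      exact hh2.symm
    obtain ⟨z2, hz2, -⟩ := Groth.Agent.Lib.Helper40.PullbackPts.exists_preimage_of_isPullback_over
      (IsPullback.of_hasPullback (Limits.pullback.fst (fst G K') ψ ≫ ρ) ψ) z1 h2 hz1'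
    -- point calculus on `P2`
    let p1 := Limits.pullback.fst (fst G K') ψ
    let q1 := Limits.pullback.snd (fst G K') ψ
    let p2 := Limits.pullback.fst (p1 ≫ ρ) ψ
    let q2 := Limits.pullback.snd (p1 ≫ ρ) ψ
    let X := p2 ≫ p1
    have e1 : X ≫ fst G K' = (p2 ≫ q1) ≫ ψ := by
      show (p2 ≫ p1) ≫ fst G K' = (p2 ≫ q1) ≫ ψ
      rw [Category.assoc, Category.assoc, Limits.pullback.condition]
    have e2 : X ≫ ρ = q2 ≫ ψ := by
      show (p2 ≫ p1) ≫ ρ = q2 ≫ ψ
      rw [Category.assoc, Limits.pullback.condition]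
    have e4 : X ≫ c = ((p2 ≫ q1) * (q2)⁻¹) ≫ ψ := key X (p2 ≫ q1) q2 e1 e2
    have e5 := congrArg (fun f => f.left.base z2) e4
    simp only [Over.comp_left, Scheme.Hom.comp_base, TopCat.comp_app] at e5
    refine ⟨_, e5.symm.trans ?_⟩
    exact hpt _
  · -- `g` lies in the neighbourhood
    refine ⟨(lift gK (𝟙 K')).left.base pt, ?_, ?_⟩
    · show ρ.left.base ((lift gK (𝟙 K')).left.base pt) ∈ Set.range ψ.left
      have e : lift gK (𝟙 K') ≫ ρ = (toUnit K' ≫ η[H]) ≫ ψ := by
        show lift gK (𝟙 K') ≫ (c⁻¹ * fst G K') = _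
        rw [MonObj.comp_mul, GrpObj.comp_inv, lift_fst]
        show (lift gK (𝟙 K') ≫ snd G K' ≫ gK)⁻¹ * gK = _
        rw [← Category.assoc, lift_snd, Category.id_comp, inv_mul_cancel,
          CategoryTheory.Hom.one_def, Category.assoc, IsMonHom.one_hom]
      have e' := congrArg (fun f => f.left.base pt) e
      simp only [Over.comp_left, Scheme.Hom.comp_base, TopCat.comp_app] at e'
      rw [e']
      exact ⟨_, rfl⟩
    · have e : lift gK (𝟙 K') ≫ fst G K' = gK := lift_fst _ _
      have e' := congrArg (fun f => f.left.base pt) e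
      simp only [Over.comp_left, Scheme.Hom.comp_base, TopCat.comp_app] at e'
      rw [e']
      exact hpt _

end Groth.Agent.S0352
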