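import Groth.Statements.S0356
-- import your own Groth.Agent.* helpers here
import Groth.Agent.Lib.Helper41.AffLC
import Groth.Agent.Lib.Cohomology.helper5_Restr
import Groth.Agent.S6031

set_option autoImplicit false
universe u v
open CategoryTheory AlgebraicGeometry
open LocCoh

namespace Groth.Agent.S0356

/-- Let R be a Noetherian ring, I an ideal, M an R-module and U = Spec R ∖ V(I) the punctured open. For
every p ≥ 1, the cohomology group H^p(U, M̃|_U) of the restriction to U of the quasi-coherent sheaf
associated with M is isomorphic to the local cohomology H^(p+1)_I(M). (The published statement also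
gives a four-term exact sequence in low degrees, which is not stated here; here R is Noetherian.) -/
theorem result (R : Type u) [CommRing R] [IsNoetherianRing R] (I : Ideal R) (M : Type u) [AddCommGroup M] [Module R M] (p : ℕ) (hp : 1 ≤ p) : Nonempty (Coh.HH (↑(LocCoh.puncturedOpen R I)) ((AlgebraicGeometry.tilde (R := CommRingCat.of R) (ModuleCat.of R M)).restrict (LocCoh.puncturedOpen R I).ι) p ≃+ LocCoh.H I (p + 1) M) := by
  obtain ⟨k, rfl⟩ : ∃ k, p = k + 1 := ⟨p - 1, by omega⟩
  set U := LocCoh.puncturedOpen R I with hU
  set Mt := AlgebraicGeometry.tilde (R := CommRingCat.of R) (ModuleCat.of R M) with hMt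
  -- step 1: cohomology of the open subscheme is `Ext^p(ℤ_U, F)` on `Spec R`
  obtain ⟨e1⟩ := Groth.Agent.Lib.Cohomology.Restr.HU_addEquiv_H_restr U (Coh.toAb Mt) (k + 1)
  -- step 2: the connecting map to cohomology with supports is bijective
  have hq : Coh.IsQCoh Mt :=
    (fun (R' : CommRingCat.{u}) (M' : ModuleCat.{u} R') =>
      (inferInstance : (AlgebraicGeometry.tilde M').IsQuasicoherent)) (CommRingCat.of R) (ModuleCat.of R M)
  have h2 := (Groth.Agent.S6031.result (Spec (CommRingCat.of R)) Mt hq U).2 (k + 1) (by omega)
  let e2 := AddEquiv.ofBijective _ h2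
  -- step 3: the affine comparison
  obtain ⟨e3⟩ := Groth.Agent.Lib.Helper41.AffLC.nonempty_HZM_equiv I M (k + 1 + 1)
  exact ⟨e1.symm.trans (e2.trans e3)⟩

end Groth.Agent.S0356
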