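import Groth.Statements.S0358
import Groth.Agent.Lib.Helper29.CMRing
import Groth.Agent.Lib.Helper29.FlatRegular

set_option autoImplicit false
universe u v
open LocCoh
open Groth.Agent.Lib.Helper29

namespace Groth.Agent.S0358

/-- For a flat local homomorphism R → S of Noetherian local rings whose closed fibre S/m_R S is
Cohen–Macaulay, and a proper ideal I of S, the I-depth of S is at least dim(S/m_R S) − dim(S/(m_R S
+ I)); stated additively. -/
theorem result (R : Type u) [CommRing R] [IsLocalRing R] [IsNoetherianRing R] (S : Type u) [CommRing S] [IsLocalRing S] [IsNoetherianRing S] [Algebra R S] [IsLocalHom (algebraMap R S)] [Module.Flat R S] (hCM : LocCoh.IsCohenMacaulayLocalRing (S ⧸ (IsLocalRing.maximalIdeal R).map (algebraMap R S))) (I : Ideal S) (hI : I ≠ ⊤) : ringKrullDim (S ⧸ (IsLocalRing.maximalIdeal R).map (algebraMap R S)) ≤ ringKrullDim (S ⧸ ((IsLocalRing.maximalIdeal R).map (algebraMap R S) ⊔ I)) + ((LocCoh.idealDepth I S : ℕ∞) : WithBot ℕ∞) := by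
  have hLoc : IsLocalRing (S ⧸ (IsLocalRing.maximalIdeal R).map (algebraMap R S)) :=
    hCM.toIsLocalRing
  have hNoeth : IsNoetherianRing (S ⧸ (IsLocalRing.maximalIdeal R).map (algebraMap R S)) :=
    hCM.toIsNoetherian
  have hM : LocCoh.IsCohenMacaulayModule (S ⧸ (IsLocalRing.maximalIdeal R).map (algebraMap R S))
      (S ⧸ (IsLocalRing.maximalIdeal R).map (algebraMap R S)) := hCM.supportDim_eq_depth
  have hIm : I ≤ IsLocalRing.maximalIdeal S := IsLocalRing.le_maximalIdeal hI
  have hJm : (IsLocalRing.maximalIdeal R).map (algebraMap R S) ≤ IsLocalRing.maximalIdeal S :=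
    FlatRegular.map_maximalIdeal_le R S
  -- the image of `I` in the fibre is proper
  have hIbar : I.map (Ideal.Quotient.mk ((IsLocalRing.maximalIdeal R).map (algebraMap R S))) ≠ ⊤ := by
    intro h
    have h1 : (1 : S ⧸ (IsLocalRing.maximalIdeal R).map (algebraMap R S)) ∈
        I.map (Ideal.Quotient.mk ((IsLocalRing.maximalIdeal R).map (algebraMap R S))) := by
      rw [h]; exact Submodule.mem_top
    rw [Ideal.mem_map_iff_of_surjective _ Ideal.Quotient.mk_surjective] at h1
    obtain ⟨x, hx, hx1⟩ := h1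
    have h2 : x - 1 ∈ (IsLocalRing.maximalIdeal R).map (algebraMap R S) := by
      rw [← Ideal.Quotient.eq, hx1, map_one]
    have h3 : (1 : S) ∈ IsLocalRing.maximalIdeal S := by
      have : (1 : S) = x - (x - 1) := by ring
      rw [this]
      exact (IsLocalRing.maximalIdeal S).sub_mem (hIm hx) (hJm h2)
    exact (Ideal.ne_top_iff_one _).1 (IsLocalRing.maximalIdeal.isMaximal S).ne_top h3
  have h1 := CMRing.supportDim_eq_add_idealDepth_of_isCM
    (S ⧸ (IsLocalRing.maximalIdeal R).map (algebraMap R S))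
    (I.map (Ideal.Quotient.mk ((IsLocalRing.maximalIdeal R).map (algebraMap R S)))) hIbar
    (S ⧸ (IsLocalRing.maximalIdeal R).map (algebraMap R S)) hM
  rw [Module.supportDim_self_eq_ringKrullDim] at h1
  have h2 : Module.supportDim (S ⧸ (IsLocalRing.maximalIdeal R).map (algebraMap R S))
      ((S ⧸ (IsLocalRing.maximalIdeal R).map (algebraMap R S)) ⧸
        (I.map (Ideal.Quotient.mk ((IsLocalRing.maximalIdeal R).map (algebraMap R S))) •
          (⊤ : Submodule (S ⧸ (IsLocalRing.maximalIdeal R).map (algebraMap R S))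
            (S ⧸ (IsLocalRing.maximalIdeal R).map (algebraMap R S))))) =
      ringKrullDim (S ⧸ ((IsLocalRing.maximalIdeal R).map (algebraMap R S) ⊔ I)) := by
    have hJ : I.map (Ideal.Quotient.mk ((IsLocalRing.maximalIdeal R).map (algebraMap R S))) •
          (⊤ : Submodule (S ⧸ (IsLocalRing.maximalIdeal R).map (algebraMap R S))
            (S ⧸ (IsLocalRing.maximalIdeal R).map (algebraMap R S))) =
        I.map (Ideal.Quotient.mk ((IsLocalRing.maximalIdeal R).map (algebraMap R S))) := by
      rw [smul_eq_mul, Ideal.mul_top]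
    rw [Module.supportDim_eq_of_equiv (Submodule.quotEquivOfEq _ _ hJ),
      Module.supportDim_quotient_eq_ringKrullDim]
    exact ringKrullDim_eq_of_ringEquiv (DoubleQuot.quotQuotEquivQuotSup _ _)
  rw [h2] at h1
  rw [h1]
  -- compare depths
  have hfin : Module.Finite S (S ⧸ (IsLocalRing.maximalIdeal R).map (algebraMap R S)) :=
    Module.Finite.of_surjective (Ideal.Quotient.mkₐ S _).toLinearMap
      (Ideal.Quotient.mkₐ_surjective S _)
  have h3 := DepthFinite.idealDepth_map_eq (A := S)
    (B := S ⧸ (IsLocalRing.maximalIdeal R).map (algebraMap R S)) I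
    (S ⧸ (IsLocalRing.maximalIdeal R).map (algebraMap R S))
  rw [Ideal.Quotient.algebraMap_eq] at h3
  rw [← h3]
  have hne : I • (⊤ : Submodule S (S ⧸ (IsLocalRing.maximalIdeal R).map (algebraMap R S))) ≠ ⊤ := by
    intro h
    apply maximalIdeal_smul_top_ne_top S (S ⧸ (IsLocalRing.maximalIdeal R).map (algebraMap R S))
    have h1 : I • (⊤ : Submodule S (S ⧸ (IsLocalRing.maximalIdeal R).map (algebraMap R S))) ≤
        IsLocalRing.maximalIdeal S • ⊤ := Submodule.smul_mono_left hIm
    exact eq_top_iff.2 (le_of_eq_of_le h.symm h1)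
  have hle : LocCoh.idealDepth I (S ⧸ (IsLocalRing.maximalIdeal R).map (algebraMap R S)) ≤
      LocCoh.idealDepth I S := by
    have hL : LocCoh.idealDepth I (S ⧸ (IsLocalRing.maximalIdeal R).map (algebraMap R S)) =
        ⨆ (rs : List S) (_ : RingTheory.Sequence.IsWeaklyRegular
          (S ⧸ (IsLocalRing.maximalIdeal R).map (algebraMap R S)) rs ∧ ∀ r ∈ rs, r ∈ I),
          (rs.length : ℕ∞) := by
      unfold LocCoh.idealDepth; rw [if_neg hne]
    rw [hL]
    refine iSup₂_le ?_
    rintro rs ⟨hreg, hmem⟩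
    have hJ : (IsLocalRing.maximalIdeal R).map (algebraMap R S) • (⊤ : Submodule S S) =
        (IsLocalRing.maximalIdeal R).map (algebraMap R S) := by
      rw [smul_eq_mul, Ideal.mul_top]
    have hreg' : RingTheory.Sequence.IsWeaklyRegular
        (S ⧸ ((IsLocalRing.maximalIdeal R).map (algebraMap R S) • (⊤ : Submodule S S))) rs :=
      ((Submodule.quotEquivOfEq _ _ hJ).isWeaklyRegular_congr rs).2 hreg
    have := (FlatRegular.isWeaklyRegular_and_flat_of_fibre R S rs S hreg').1
    exact DepthLib.length_le_idealDepth I S this hmem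
  exact add_le_add_right (WithBot.coe_le_coe.2 hle) _

end Groth.Agent.S0358
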