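import Groth.Statements.S0359
import Groth.Agent.Lib.Helper29.CMRing
import Groth.Agent.Lib.Helper29.Spread
import Groth.Agent.Lib.Helper29.DepthLoc

set_option autoImplicit false
universe u v
open LocCoh

namespace Groth.Agent.S0359

open RingTheory.Sequence IsLocalRing Pointwise
open Groth.Agent.Lib.Helper29 Groth.Agent.Lib.Helper29.DepthLib Groth.Agent.Lib.Helper29.CMRing

/-- Associated primes of `M'/IM'` contract to associated primes of `M/IM`. -/
private theorem comap_mem_ass_quotient {R : Type*} [CommRing R] [IsNoetherianRing R]
    (S : Submonoid R) {R' : Type*} [CommRing R'] [Algebra R R'] [IsLocalization S R']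
    {M M' : Type*} [AddCommGroup M] [Module R M] [AddCommGroup M'] [Module R M']
    [Module R' M'] [IsScalarTower R R' M'] (f : M →ₗ[R] M') [IsLocalizedModule S f]
    (I : Ideal R) (P : Ideal R')
    (hP : P ∈ associatedPrimes R' (M' ⧸ (I.map (algebraMap R R')) • (⊤ : Submodule R' M'))) :
    P.comap (algebraMap R R') ∈ associatedPrimes R (M ⧸ I • (⊤ : Submodule R M)) := by
  rw [← localized'_smul_top S f I] at hP
  have h := Module.associatedPrimes.preimage_comap_associatedPrimes_eq_associatedPrimes_of_isLocalizedModule
    S R' ((I • (⊤ : Submodule R M)).toLocalizedQuotient' R' S f)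
  rw [← h] at hP
  exact hP

/-- For a finite module M over a Noetherian ring and a prime p with depth(M_p) = e finite, there is a
basic open neighbourhood of p in V(p) on which the depth of the localizations of M is at least e,
and it exceeds e at all but finitely many of those primes. -/
theorem result (R : Type u) [CommRing R] [IsNoetherianRing R] (M : Type u) [AddCommGroup M] [Module R M] [Module.Finite R M] (p : Ideal R) [p.IsPrime] (e : ℕ) (he : LocCoh.depth (Localization.AtPrime p) (LocalizedModule p.primeCompl M) = e) : ∃ f : R, f ∉ p ∧ (∀ (q : Ideal R) [q.IsPrime], p ≤ q → f ∉ q → (e : ℕ∞) ≤ LocCoh.depth (Localization.AtPrime q) (LocalizedModule q.primeCompl M)) ∧ {q : PrimeSpectrum R | p ≤ q.asIdeal ∧ f ∉ q.asIdeal ∧ LocCoh.depth (Localization.AtPrime q.asIdeal) (LocalizedModule q.asIdeal.primeCompl M) = e}.Finite := by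
  have hnt : Nontrivial (LocalizedModule p.primeCompl M) := by
    by_contra hne
    rw [not_nontrivial_iff_subsingleton] at hne
    rw [Groth.Agent.Lib.Helper29.DepthLoc.depth_eq_top_of_subsingleton] at he
    exact ENat.top_ne_natCast e he
  have hIM := maximalIdeal_smul_top_ne_top (Localization.AtPrime p) (LocalizedModule p.primeCompl M)
  obtain ⟨rs', hreg', hmem', -, hlen'⟩ := exists_maximal_regular
    (maximalIdeal (Localization.AtPrime p)) (LocalizedModule p.primeCompl M) hIM
  have hlen'' : rs'.length = e := by
    have : (rs'.length : ℕ∞) = (e : ℕ∞) := hlen'.trans he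
    exact_mod_cast this
  have hmem'' : ∀ r' ∈ rs', r' ∈ p.map (algebraMap R (Localization p.primeCompl)) := by
    intro r' hr'
    have := hmem' r' hr'
    rwa [← Localization.AtPrime.map_eq_maximalIdeal] at this
  obtain ⟨rs, hrsmem, hrslen, hF2⟩ :=
    Groth.Agent.Lib.Helper29.Spread.exists_lift_list p.primeCompl p rs' hmem''
  have hregp : IsWeaklyRegular (LocalizedModule p.primeCompl M)
      (rs.map (algebraMap R (Localization.AtPrime p))) :=
    Groth.Agent.Lib.Helper29.Spread.isWeaklyRegular_of_forall₂_unit hF2 _ hreg'
  obtain ⟨g, hgp, hg⟩ := Groth.Agent.Lib.Helper29.Spread.exists_spread p rs M hregp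
  have hlen : rs.length = e := hrslen.trans hlen''
  -- regularity at every `q ⊇ p` not containing `g`
  have hkey : ∀ (q : Ideal R) [q.IsPrime], p ≤ q → g ∉ q →
      IsWeaklyRegular (LocalizedModule q.primeCompl M)
        (rs.map (algebraMap R (Localization.AtPrime q))) ∧
      ∀ r ∈ rs.map (algebraMap R (Localization.AtPrime q)),
        r ∈ maximalIdeal (Localization.AtPrime q) := by
    intro q _ hpq hgq
    refine ⟨hg q.primeCompl (IsLocalization.map_units (Localization.AtPrime q)
      (⟨g, hgq⟩ : q.primeCompl)), ?_⟩
    intro r hr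
    obtain ⟨a, ha, rfl⟩ := List.mem_map.1 hr
    rw [IsLocalization.AtPrime.to_map_mem_maximal_iff (Localization.AtPrime q) q]
    exact hpq (hrsmem a ha)
  refine ⟨g, hgp, ?_, ?_⟩
  · intro q _ hpq hgq
    obtain ⟨h1, h2⟩ := hkey q hpq hgq
    have := length_le_idealDepth (maximalIdeal (Localization.AtPrime q))
      (LocalizedModule q.primeCompl M) h1 h2
    rw [List.length_map, hlen] at this
    exact this
  · have hfin : (associatedPrimes R (M ⧸ Ideal.ofList rs • (⊤ : Submodule R M))).Finite :=
      associatedPrimes.finite R _
    refine Set.Finite.subset (hfin.preimage (f := PrimeSpectrum.asIdeal)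
      (fun a _ b _ hab => PrimeSpectrum.ext hab)) ?_
    rintro ⟨q, hqprime⟩ ⟨hpq, hgq, hdq⟩
    rw [Set.mem_preimage]
    change q ∈ associatedPrimes R (M ⧸ Ideal.ofList rs • (⊤ : Submodule R M))
    change p ≤ q at hpq
    change g ∉ q at hgq
    change LocCoh.depth (Localization.AtPrime q) (LocalizedModule q.primeCompl M) = e at hdq
    obtain ⟨h1, h2⟩ := hkey q hpq hgq
    have hntq : Nontrivial (LocalizedModule q.primeCompl M) := by
      by_contra hne
      rw [not_nontrivial_iff_subsingleton] at hne
      rw [Groth.Agent.Lib.Helper29.DepthLoc.depth_eq_top_of_subsingleton] at hdq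
      exact ENat.top_ne_natCast e hdq
    have hIMq := maximalIdeal_smul_top_ne_top (Localization.AtPrime q)
      (LocalizedModule q.primeCompl M)
    have h3 := idealDepth_quotient_ofList_add_length (maximalIdeal (Localization.AtPrime q))
      (rs.map (algebraMap R (Localization.AtPrime q))) (LocalizedModule q.primeCompl M) hIMq h1 h2
    rw [List.length_map, hlen] at h3
    have h4 : LocCoh.idealDepth (maximalIdeal (Localization.AtPrime q))
        (LocalizedModule q.primeCompl M ⧸
          (Ideal.ofList (rs.map (algebraMap R (Localization.AtPrime q))) •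
            (⊤ : Submodule (Localization.AtPrime q) (LocalizedModule q.primeCompl M)))) = 0 := by
      have h5 : LocCoh.idealDepth (maximalIdeal (Localization.AtPrime q))
          (LocalizedModule q.primeCompl M) = e := hdq
      rw [h5] at h3
      have h6 : LocCoh.idealDepth (maximalIdeal (Localization.AtPrime q))
        (LocalizedModule q.primeCompl M ⧸
          (Ideal.ofList (rs.map (algebraMap R (Localization.AtPrime q))) •
            (⊤ : Submodule (Localization.AtPrime q) (LocalizedModule q.primeCompl M)))) + (e : ℕ∞)
          = 0 + (e : ℕ∞) := by rw [zero_add]; exact h3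
      exact (ENat.add_left_injective_of_ne_top (ENat.natCast_ne_top e)) h6
    have hass := (depth_eq_zero_iff_maximalIdeal_mem_ass _ _).1 h4
    rw [← Ideal.map_ofList] at hass
    have := comap_mem_ass_quotient q.primeCompl (LocalizedModule.mkLinearMap q.primeCompl M)
      (Ideal.ofList rs) (maximalIdeal (Localization.AtPrime q)) hass
    have hcm : (maximalIdeal (Localization.AtPrime q)).comap
        (algebraMap R (Localization.AtPrime q)) = q :=
      IsLocalization.AtPrime.under_maximalIdeal (Localization.AtPrime q) q
    rw [hcm] at this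
    exact this

end Groth.Agent.S0359
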