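import Groth.Statements.S0376
import Groth.Agent.Lib.Helper14.DualGor
import Groth.Agent.Lib.Helper15.CompleteUCat
import Groth.Agent.Lib.Helper12.CoextDualizing
import Groth.Agent.S0342

set_option autoImplicit false
universe u v
open CategoryTheory
attribute [local instance] HasDerivedCategory.standard
open Dual

namespace Groth.Agent.S0376

namespace XX
open Groth.Agent.Lib.Helper33.DualizingSelf
set_option linter.style.haveILetI false

/-- a Gorenstein local ring is a dualizing complex over itself -/
theorem isDualizing_self_of_gorenstein (B : Type u) [CommRing B]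
    [hG : LocCoh.IsGorensteinLocalRing B] : Dual.IsDualizing B (Dual.inD B B) := by
  obtain ⟨n₀, hn₀⟩ := hG.exists_hasInjectiveDimensionLT
  exact isDualizing_inD_self B (n₀ : ℤ) (fun M _ _ i hi => by
      have := (hasInjectiveDimensionLT_iff_hom B (ModuleCat.of B B) n₀).1 hn₀ i.toNat (by omega)
        (ModuleCat.of B M)
      rw [Int.toNat_of_nonneg (by omega)] at this
      exact this)

theorem main0376 (A : Type u) [CommRing A] [IsLocalRing A] [IsNoetherianRing A]
    [IsAdicComplete (IsLocalRing.maximalIdeal A) A] : ∃ ω : Dual.D A, Dual.IsDualizing A ω := by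
  obtain ⟨P, _, hP, f, hf⟩ := Groth.Agent.Lib.Helper15.CompleteUCat.exists_regular_surjective A
  haveI hG : LocCoh.IsGorensteinLocalRing P := Groth.Agent.S0342.result P
  haveI : IsNoetherianRing P := inferInstance
  exact Groth.Agent.Lib.Helper12.CoextCx.exists_dualizing_of_finite f
    (RingHom.Finite.of_surjective f hf) _ (isDualizing_self_of_gorenstein P)

end XX


/-- A complete Noetherian local ring has a dualizing complex. -/
theorem result (A : Type u) [CommRing A] [IsLocalRing A] [IsNoetherianRing A] [IsAdicComplete (IsLocalRing.maximalIdeal A) A] : ∃ ω : Dual.D A, Dual.IsDualizing A ω :=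
  XX.main0376 A

end Groth.Agent.S0376
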