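import Groth.Statements.S0380
-- import your own Groth.Agent.* helpers here
import Groth.Agent.Lib.Helper41.LCLocalCd

set_option autoImplicit false
universe u v
open LocCoh

namespace Groth.Agent.S0380

/-- Local cohomology with support in I vanishes above degree d on all modules exactly when, for every
prime p, local cohomology over A_p with support in I A_p vanishes above degree d on all A_p-modules. -/
theorem result (R : Type u) [CommRing R] [IsNoetherianRing R] (I : Ideal R) (d : ℕ) : LocCoh.CdLE R I d ↔ ∀ (p : Ideal R) [p.IsPrime], LocCoh.CdLE (Localization.AtPrime p) (I.map (algebraMap R (Localization.AtPrime p))) d := by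
  constructor
  · intro h p _ N _ _ i hi
    let _ : Module R N := Module.compHom N (algebraMap R (Localization.AtPrime p))
    have : IsScalarTower R (Localization.AtPrime p) N := ⟨fun a b e => by
      change (a • b) • e = (algebraMap R (Localization.AtPrime p) a) • (b • e)
      rw [Algebra.smul_def, mul_smul]⟩
    exact (Groth.Agent.Lib.Helper41.LC.subsingleton_baseChange_iff I i N).2 (h N i hi)
  · intro h M _ _ i hi
    exact Groth.Agent.Lib.Helper41.LC.subsingleton_of_forall_localization I i
      (fun p _ N _ _ => h p N i hi) M

end Groth.Agent.S0380
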