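import Groth.Statements.S0392
import Groth.Agent.Lib.Helper2.LocalFlat3
-- import your own Groth.Agent.* helpers here

set_option autoImplicit false
universe u
open FlatMor

namespace Groth.Agent.S0392

open TensorProduct in
/-- Fibrewise criterion of flatness, Noetherian local form: for local homomorphisms R → S → S' of
Noetherian local rings and a nonzero finite S'-module M that is flat over R and whose reduction
modulo the maximal ideal of R is flat over the corresponding fibre ring of S, the ring S is flat
over R and M is flat over S. -/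
theorem result {R S S' M : Type u} [CommRing R] [CommRing S] [CommRing S'] [IsLocalRing R] [IsLocalRing S] [IsLocalRing S']
    [IsNoetherianRing R] [IsNoetherianRing S] [IsNoetherianRing S'] [Algebra R S] [Algebra S S'] [Algebra R S'] [IsScalarTower R S S']
    [IsLocalHom (algebraMap R S)] [IsLocalHom (algebraMap S S')]
    [AddCommGroup M] [Module S' M] [Module S M] [Module R M] [IsScalarTower S S' M] [IsScalarTower R S M]
    [Module.Finite S' M] [Nontrivial M] [Module.Flat R M]
    (h : Module.Flat (S ⧸ ((IsLocalRing.maximalIdeal R).map (algebraMap R S))) ((S ⧸ ((IsLocalRing.maximalIdeal R).map (algebraMap R S))) ⊗[S] M)) :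
    Module.Flat R S ∧ Module.Flat S M := by
  have hI_le : (IsLocalRing.maximalIdeal R).map (algebraMap R S) ≤ IsLocalRing.maximalIdeal S :=
    ((IsLocalRing.local_hom_TFAE (algebraMap R S)).out 0 2).mp
      (inferInstance : IsLocalHom (algebraMap R S))
  have hS_le : (IsLocalRing.maximalIdeal S).map (algebraMap S S') ≤ IsLocalRing.maximalIdeal S' :=
    ((IsLocalRing.local_hom_TFAE (algebraMap S S')).out 0 2).mp
      (inferInstance : IsLocalHom (algebraMap S S'))
  have hJac : ∀ J : Ideal S, J ≠ ⊤ → J.map (algebraMap S S') ≤ Ideal.jacobson ⊥ := fun J hJ =>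
    le_trans (Ideal.map_mono (IsLocalRing.le_maximalIdeal hJ))
      (le_trans hS_le (IsLocalRing.maximalIdeal_le_jacobson _))
  have hIne : (IsLocalRing.maximalIdeal R).map (algebraMap R S) ≠ ⊤ := fun h0 =>
    (IsLocalRing.maximalIdeal.isMaximal S).ne_top (top_le_iff.mp (h0 ▸ hI_le))
  have h1 := Groth.Agent.Lib.Helper2.rTensor_injective_map_of_flat (R := R) (S := S) (M := M)
    (IsLocalRing.maximalIdeal R)
  have hflatS : Module.Flat S M :=
    Groth.Agent.Lib.Helper2.flat_of_rTensor_injective_of_flat_quotient (R := S) (S := S')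
      _ (hJac _ hIne) h1 h
  refine ⟨?_, hflatS⟩
  haveI hff : Module.FaithfullyFlat S M := by
    rw [Module.FaithfullyFlat.iff_flat_and_proper_ideal]
    refine ⟨hflatS, fun J hJ hJM => ?_⟩
    have h2 : (J.map (algebraMap S S') • (⊤ : Submodule S' M)) = ⊤ := by
      apply Submodule.restrictScalars_injective S
      rw [Ideal.smul_restrictScalars, Submodule.restrictScalars_top, hJM]
    have h3 : (⊤ : Submodule S' M) ≤ ⊥ :=
      Submodule.le_of_le_smul_of_le_jacobson_bot Module.Finite.fg_top (hJac J hJ)
        (by rw [h2]; exact le_sup_right)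
    refine not_subsingleton M ⟨fun a b => ?_⟩
    have ha : a ∈ (⊥ : Submodule S' M) := h3 Submodule.mem_top
    have hb : b ∈ (⊥ : Submodule S' M) := h3 Submodule.mem_top
    rw [(Submodule.mem_bot _).mp ha, (Submodule.mem_bot _).mp hb]
  exact Groth.Agent.Lib.Helper2.flat_of_flat_of_faithfullyFlat (R := R) (S := S) (M := M)

end Groth.Agent.S0392
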