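import Groth.Statements.S0394
import Groth.Agent.Lib.Helper2.LocalFlat2
import Mathlib.LinearAlgebra.TensorProduct.Quotient
import Mathlib.RingTheory.Nakayama
-- import your own Groth.Agent.* helpers here

set_option autoImplicit false
universe u
open FlatMor

namespace Groth.Agent.S0394

open TensorProduct in
/-- For a local homomorphism R → S of Noetherian local rings and a nonzero finite S-module M flat over R
whose fibre M/mM is free over S/mS (m the maximal ideal of R), M is free over S and S is flat over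
R. -/
theorem result {R S M : Type u} [CommRing R] [CommRing S] [IsLocalRing R] [IsLocalRing S] [IsNoetherianRing R] [IsNoetherianRing S] [Algebra R S] [IsLocalHom (algebraMap R S)]
    [AddCommGroup M] [Module R M] [Module S M] [IsScalarTower R S M] [Module.Finite S M] [Nontrivial M] [Module.Flat R M]
    (h : Module.Free (S ⧸ ((IsLocalRing.maximalIdeal R).map (algebraMap R S))) ((S ⧸ ((IsLocalRing.maximalIdeal R).map (algebraMap R S))) ⊗[S] M)) :
    Module.Free S M ∧ Module.Flat R S := by
  classical
  set I : Ideal S := (IsLocalRing.maximalIdeal R).map (algebraMap R S) with hIdef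
  have hImax : I ≤ IsLocalRing.maximalIdeal S :=
    ((IsLocalRing.local_hom_TFAE (algebraMap R S)).out 0 2).mp
      (inferInstance : IsLocalHom (algebraMap R S))
  have hm : I ≤ Ideal.jacobson ⊥ := le_trans hImax (IsLocalRing.maximalIdeal_le_jacobson _)
  have hIne : I ≠ ⊤ := fun h => (IsLocalRing.maximalIdeal.isMaximal S).ne_top
    (top_le_iff.mp (h ▸ hImax))
  haveI : Nontrivial (S ⧸ I) := Ideal.Quotient.nontrivial_iff.mpr hIne
  let ι := Module.Free.ChooseBasisIndex (S ⧸ I) ((S ⧸ I) ⊗[S] M)
  let b : Module.Basis ι (S ⧸ I) ((S ⧸ I) ⊗[S] M) := Module.Free.chooseBasis _ _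
  haveI : Finite ι := Module.Finite.finite_basis b
  let e := TensorProduct.quotTensorEquivQuotSMul M I
  have hker : ∀ y : M, (1 : S ⧸ I) ⊗ₜ[S] y = 0 ↔ y ∈ (I • ⊤ : Submodule S M) := by
    intro y
    rw [← (Submodule.Quotient.mk_eq_zero (I • ⊤ : Submodule S M)),
      ← TensorProduct.quotTensorEquivQuotSMul_mk_one_tmul]
    exact ⟨fun h => by rw [h, map_zero], fun h => e.injective (by rw [h, map_zero])⟩
  have hsurj : ∀ y : (S ⧸ I) ⊗[S] M, ∃ x : M, (1 : S ⧸ I) ⊗ₜ[S] x = y := by
    intro y
    obtain ⟨x, hx⟩ := Submodule.mkQ_surjective _ (e y)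
    refine ⟨x, e.injective ?_⟩
    rw [TensorProduct.quotTensorEquivQuotSMul_mk_one_tmul]
    exact hx
  choose x hx using fun i => hsurj (b i)
  let v : (ι →₀ S) →ₗ[S] M := Finsupp.linearCombination S x
  have hv : ∀ c : ι →₀ S, (1 : S ⧸ I) ⊗ₜ[S] v c =
      Finsupp.linearCombination (S ⧸ I) b
        (Finsupp.mapRange (Ideal.Quotient.mk I) (map_zero _) c) := by
    intro c
    rw [Finsupp.linearCombination_apply, Finsupp.linearCombination_apply,
      Finsupp.sum_mapRange_index (h := fun i a => a • b i) (fun i => zero_smul _ _)]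
    rw [Finsupp.sum, Finsupp.sum, TensorProduct.tmul_sum]
    refine Finset.sum_congr rfl fun i _ => ?_
    rw [TensorProduct.tmul_smul, hx i, ← algebraMap_smul (S ⧸ I) (c i) (b i)]
    rfl
  have hvsurj : Function.Surjective v := by
    rw [← LinearMap.range_eq_top]
    apply top_le_iff.mp
    apply Submodule.le_of_le_smul_of_le_jacobson_bot (Module.Finite.fg_top) hm
    intro y _
    obtain ⟨c, hc⟩ := Finsupp.mapRange_surjective (Ideal.Quotient.mk I) (map_zero _)
      Ideal.Quotient.mk_surjective (b.repr ((1 : S ⧸ I) ⊗ₜ[S] y))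
    have h1 : (1 : S ⧸ I) ⊗ₜ[S] (y - v c) = 0 := by
      rw [TensorProduct.tmul_sub, hv, hc, Module.Basis.linearCombination_repr, sub_self]
    have h2 := (hker _).mp h1
    have h3 : y = v c + (y - v c) := by abel
    rw [h3]
    exact Submodule.add_mem_sup (LinearMap.mem_range_self v c) h2
  let u : (ι →₀ S) →ₗ[R] M := v.restrictScalars R
  have hstar : ∀ c : ι →₀ S, u c ∈ (IsLocalRing.maximalIdeal R • ⊤ : Submodule R M) →
      c ∈ (IsLocalRing.maximalIdeal R • ⊤ : Submodule R (ι →₀ S)) := by
    intro c hc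
    have e1 : (IsLocalRing.maximalIdeal R • ⊤ : Submodule R M) =
        (I • (⊤ : Submodule S M)).restrictScalars R := by
      rw [hIdef, Ideal.smul_restrictScalars, Submodule.restrictScalars_top]
    have e2 : (IsLocalRing.maximalIdeal R • ⊤ : Submodule R (ι →₀ S)) =
        (I • (⊤ : Submodule S (ι →₀ S))).restrictScalars R := by
      rw [hIdef, Ideal.smul_restrictScalars, Submodule.restrictScalars_top]
    rw [e1] at hc
    rw [e2]
    have hc' : v c ∈ (I • ⊤ : Submodule S M) := hc
    have h1 := (hker _).mpr hc'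
    rw [hv] at h1
    have h2 := linearIndependent_iff.mp b.linearIndependent _ h1
    have h3 : ∀ i, c i ∈ I := by
      intro i
      have h4 := DFunLike.congr_fun h2 i
      rw [Finsupp.mapRange_apply, Finsupp.zero_apply] at h4
      exact Ideal.Quotient.eq_zero_iff_mem.mp h4
    change c ∈ (I • ⊤ : Submodule S (ι →₀ S))
    have hsum := Finsupp.sum_single c
    rw [← hsum, Finsupp.sum]
    refine Submodule.sum_mem _ fun i _ => ?_
    have h5 : Finsupp.single i (c i) = (c i) • Finsupp.single i (1 : S) := by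
      rw [Finsupp.smul_single, smul_eq_mul, mul_one]
    rw [h5]
    exact Submodule.smul_mem_smul (h3 i) Submodule.mem_top
  have hu : Function.Injective (LinearMap.lTensor (IsLocalRing.ResidueField R) u) :=
    Groth.Agent.Lib.Helper2.lTensor_residueField_injective_of_forall u hstar
  obtain ⟨hinj, -⟩ := Groth.Agent.Lib.Helper2.injective_and_flat_quotient (S := S) u hm hu
  have hvinj : Function.Injective v := hinj
  let ev : (ι →₀ S) ≃ₗ[S] M := LinearEquiv.ofBijective v ⟨hvinj, hvsurj⟩
  refine ⟨Module.Free.of_equiv ev, ?_⟩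
  haveI : Module.Flat R (ι →₀ S) := Module.Flat.of_linearEquiv (ev.restrictScalars R)
  obtain ⟨i₀⟩ : Nonempty ι := by
    by_contra hne
    rw [not_nonempty_iff] at hne
    have hsub : Subsingleton M := ev.symm.toEquiv.subsingleton
    exact not_subsingleton M hsub
  exact Module.Flat.of_retract ((Finsupp.lsingle i₀ : S →ₗ[S] ι →₀ S).restrictScalars R)
    ((Finsupp.lapply i₀ : (ι →₀ S) →ₗ[S] S).restrictScalars R) (by ext s; simp)

end Groth.Agent.S0394
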