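import Groth.Statements.S0395
import Groth.Agent.Lib.Helper2.LocalFlat2
import Mathlib.RingTheory.TensorProduct.Quotient
-- import your own Groth.Agent.* helpers here

set_option autoImplicit false
universe u
open FlatMor

namespace Groth.Agent.S0395

open TensorProduct nonZeroDivisors in
/-- For a flat local homomorphism R → S of Noetherian local rings and an element f of S that is regular
on the fibre ring S/mS, the quotient of S by f is again R-flat and f is regular on S. -/
theorem result {R S : Type u} [CommRing R] [CommRing S] [IsLocalRing R] [IsLocalRing S] [IsNoetherianRing R] [IsNoetherianRing S] [Algebra R S] [IsLocalHom (algebraMap R S)] [Module.Flat R S]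
    (f : S) (hf : Ideal.Quotient.mk ((IsLocalRing.maximalIdeal R).map (algebraMap R S)) f ∈ nonZeroDivisors (S ⧸ ((IsLocalRing.maximalIdeal R).map (algebraMap R S)))) :
    Module.Flat R (S ⧸ Ideal.span {f}) ∧ f ∈ nonZeroDivisors S := by
  have hm : (IsLocalRing.maximalIdeal R).map (algebraMap R S) ≤ Ideal.jacobson ⊥ := by
    refine le_trans ?_ (IsLocalRing.maximalIdeal_le_jacobson _)
    exact ((IsLocalRing.local_hom_TFAE (algebraMap R S)).out 0 2).mp
      (inferInstance : IsLocalHom (algebraMap R S))
  let u : S →ₗ[R] S := LinearMap.mulLeft R f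
  let e := Algebra.TensorProduct.quotIdealMapEquivTensorQuot S (IsLocalRing.maximalIdeal R)
  have hu' : Function.Injective (LinearMap.rTensor (R ⧸ IsLocalRing.maximalIdeal R) u) := by
    have key : ∀ z : S ⊗[R] (R ⧸ IsLocalRing.maximalIdeal R),
        LinearMap.rTensor (R ⧸ IsLocalRing.maximalIdeal R) u z = f • z := by
      intro z
      induction z with
      | zero => simp
      | add a b ha hb => rw [map_add, smul_add, ha, hb]
      | tmul s c => rw [LinearMap.rTensor_tmul, TensorProduct.smul_tmul']; rfl
    rw [injective_iff_map_eq_zero]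
    intro z hz
    rw [key] at hz
    have h1 : e.symm (f • z) = 0 := by rw [hz, map_zero]
    rw [map_smul, Algebra.smul_def] at h1
    have h2 : e.symm z = 0 := (mem_nonZeroDivisors_iff_left.mp hf) _ h1
    exact e.symm.injective (by rw [h2, map_zero])
  have hu : Function.Injective (LinearMap.lTensor (IsLocalRing.ResidueField R) u) :=
    (LinearMap.lTensor_inj_iff_rTensor_inj _ _).mpr hu'
  obtain ⟨hinj, hflat⟩ := Groth.Agent.Lib.Helper2.injective_and_flat_quotient (S := S) u hm hu
  constructor
  · have hr : LinearMap.range u = (Ideal.span {f}).restrictScalars R := by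
      ext x
      simp only [LinearMap.mem_range, Submodule.restrictScalars_mem, Ideal.mem_span_singleton', u,
        LinearMap.mulLeft_apply]
      constructor
      · rintro ⟨y, rfl⟩; exact ⟨y, mul_comm _ _⟩
      · rintro ⟨y, rfl⟩; exact ⟨y, mul_comm _ _⟩
    let e1 : (S ⧸ LinearMap.range u) ≃ₗ[R] (S ⧸ (Ideal.span {f}).restrictScalars R) :=
      Submodule.quotEquivOfEq _ _ hr
    let e2 := Submodule.Quotient.restrictScalarsEquiv R (Ideal.span {f})
    exact Module.Flat.of_linearEquiv (e1.trans e2).symm
  · rw [mem_nonZeroDivisors_iff_left]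
    intro x hx
    exact hinj (by simpa [u] using hx)

end Groth.Agent.S0395
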