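import Groth.Statements.S0397
import Mathlib.RingTheory.LocalRing.Module
-- import your own Groth.Agent.* helpers here

set_option autoImplicit false
universe u
open FlatMor

namespace Groth.Agent.S0397

open TensorProduct IsLocalRing

section aux

variable {R M : Type u} [CommRing R] [AddCommGroup M] [Module R M]

/-- Nakayama for a nilpotent ideal, with no finiteness hypothesis. -/
theorem eq_top_of_sup_smul_eq_top {I : Ideal R} (hI : IsNilpotent I) (N : Submodule R M)
    (h : N ⊔ I • (⊤ : Submodule R M) = ⊤) : N = ⊤ := by
  obtain ⟨n, hn⟩ := hI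
  have key : ∀ j : ℕ, (⊤ : Submodule R M) ≤ N ⊔ (I ^ j) • (⊤ : Submodule R M) := by
    intro j
    induction j with
    | zero => simp
    | succ j ih =>
      calc (⊤ : Submodule R M) = N ⊔ I • (⊤ : Submodule R M) := h.symm
        _ ≤ N ⊔ I • (N ⊔ (I ^ j) • (⊤ : Submodule R M)) := by
          gcongr
        _ = N ⊔ (I • N ⊔ I • (I ^ j) • (⊤ : Submodule R M)) := by rw [Submodule.smul_sup]
        _ ≤ N ⊔ (I ^ (j + 1)) • (⊤ : Submodule R M) := by
          rw [← Submodule.mul_smul, ← pow_succ']
          refine sup_le le_sup_left (sup_le ?_ le_sup_right)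
          exact le_trans Submodule.smul_le_right le_sup_left
  have := key n
  rw [hn, Submodule.zero_eq_bot, Submodule.bot_smul, sup_bot_eq] at this
  exact top_le_iff.mp this

end aux

/-- Over a local ring whose maximal ideal is nilpotent, every flat module (not necessarily finitely
generated) is free. -/
theorem result {R M : Type u} [CommRing R] [IsLocalRing R] (hR : IsNilpotent (IsLocalRing.maximalIdeal R))
    [AddCommGroup M] [Module R M] [Module.Flat R M] : Module.Free R M := by
  let w := Module.Free.chooseBasis (ResidueField R) (ResidueField R ⊗[R] M)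
  obtain ⟨v, hv⟩ := (TensorProduct.mk_surjective R M (ResidueField R)
    Ideal.Quotient.mk_surjective).comp_left w
  replace hv : ⇑(TensorProduct.mk R (ResidueField R) M 1) ∘ v = ⇑w := hv
  have hli : LinearIndependent R v :=
    Module.IsLocalRing.linearIndependent_of_flat _ (hv ▸ w.linearIndependent)
  refine Module.Free.of_basis (Module.Basis.mk hli ?_)
  rw [top_le_iff]
  set N := Submodule.span R (Set.range v) with hN
  apply eq_top_of_sup_smul_eq_top hR
  -- `N` maps onto `k ⊗ M`
  have h1 : N.map (TensorProduct.mk R (ResidueField R) M 1) = ⊤ := by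
    rw [hN, Submodule.map_span, ← Submodule.restrictScalars_span R (ResidueField R)
      Ideal.Quotient.mk_surjective, Submodule.restrictScalars_eq_top_iff,
      ← w.span_eq, ← Set.range_comp]
    congr 2
  rw [eq_top_iff]
  intro x _
  have hx : TensorProduct.mk R (ResidueField R) M 1 x ∈ N.map (TensorProduct.mk R (ResidueField R) M 1) := by
    rw [h1]; trivial
  obtain ⟨y, hy, hxy⟩ := hx
  have hker : x - y ∈ LinearMap.ker (TensorProduct.mk R (ResidueField R) M 1) := by
    rw [LinearMap.mem_ker, map_sub, hxy, sub_self]
  have hker' : x - y ∈ maximalIdeal R • (⊤ : Submodule R M) := by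
    rw [← LinearMap.ker_tensorProductMk]; exact hker
  have : x = y + (x - y) := by abel
  rw [this]
  exact Submodule.add_mem_sup hy hker'

end Groth.Agent.S0397
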