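import Groth.Statements.S0398
import Groth.Agent.Lib.Helper2.LocalFlat4
import Mathlib.RingTheory.Localization.AtPrime.Basic
import Mathlib.RingTheory.Artinian.Ring
import Mathlib.RingTheory.HopkinsLevitzki
import Mathlib.Algebra.Module.LocalizedModule.IsLocalization
import Mathlib.RingTheory.Flat.Localization
-- import your own Groth.Agent.* helpers here

set_option autoImplicit false
universe u
open FlatMor

namespace Groth.Agent.S0398

open TensorProduct in
/-- For an injective ring map R → S with R Artinian and an R-module M, if S ⊗ M is flat over S then M is
flat over R. -/
theorem result {R S M : Type u} [CommRing R] [CommRing S] [IsArtinianRing R] [Algebra R S] (hinj : Function.Injective (algebraMap R S))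
    [AddCommGroup M] [Module R M] [Module.Flat S (S ⊗[R] M)] : Module.Flat R M := by
  apply Module.flat_of_localized_maximal
  intro P hP
  suffices h : Module.Flat (Localization.AtPrime P) (LocalizedModule P.primeCompl M) from
    (Module.flat_iff_of_isLocalization (Localization.AtPrime P) P.primeCompl
      (LocalizedModule P.primeCompl M)).mp h
  have hnil : IsNilpotent (IsLocalRing.maximalIdeal (Localization.AtPrime P)) :=
    (isArtinianRing_iff_isNilpotent_maximalIdeal (Localization.AtPrime P)).mp inferInstance
  have hinj' : Function.Injective (algebraMap (Localization.AtPrime P)
      (Localization (Algebra.algebraMapSubmonoid S P.primeCompl))) :=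
    localizationAlgebra_injective (M := P.primeCompl) (Localization.AtPrime P)
      (Localization (Algebra.algebraMapSubmonoid S P.primeCompl)) hinj
  haveI : Module.Flat (Localization (Algebra.algebraMapSubmonoid S P.primeCompl))
      ((Localization (Algebra.algebraMapSubmonoid S P.primeCompl)) ⊗[Localization.AtPrime P]
        (LocalizedModule P.primeCompl M)) := by
    let e0 := LocalizedModule.equivTensorProduct P.primeCompl M
    let e1 := TensorProduct.AlgebraTensorModule.congr
      (LinearEquiv.refl (Localization (Algebra.algebraMapSubmonoid S P.primeCompl))
        (Localization (Algebra.algebraMapSubmonoid S P.primeCompl))) e0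
    let e2 := TensorProduct.AlgebraTensorModule.cancelBaseChange R (Localization.AtPrime P)
      (Localization (Algebra.algebraMapSubmonoid S P.primeCompl))
      (Localization (Algebra.algebraMapSubmonoid S P.primeCompl)) M
    let e3 := TensorProduct.AlgebraTensorModule.cancelBaseChange R S
      (Localization (Algebra.algebraMapSubmonoid S P.primeCompl))
      (Localization (Algebra.algebraMapSubmonoid S P.primeCompl)) M
    exact Module.Flat.of_linearEquiv ((e1.trans e2).trans e3.symm)
  haveI := Groth.Agent.Lib.Helper2.free_of_flat_baseChange_of_nilpotent
    (R := Localization.AtPrime P) (S := Localization (Algebra.algebraMapSubmonoid S P.primeCompl))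
    (M := LocalizedModule P.primeCompl M) hnil hinj'
  exact Module.Flat.of_free

end Groth.Agent.S0398
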