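import Groth.Statements.S0401
-- import your own Groth.Agent.* helpers here
import Mathlib

set_option autoImplicit false
universe u
open FlatMor

namespace Groth.Agent.S0401

/-- In an integral extension, the height of a prime is at most the height of its contraction. -/
theorem height_le_height_under_of_isIntegral {R A : Type*} [CommRing R] [CommRing A] [Algebra R A]
    [Algebra.IsIntegral R A] (q : Ideal A) [q.IsPrime] : q.height ≤ (q.under R).height := by
  have hstrict : StrictMono (PrimeSpectrum.comap (algebraMap R A)) := by
    intro a b hab
    have h1 : a.asIdeal < b.asIdeal := hab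
    have h2 := Ideal.IsIntegral.comap_lt_comap (R := R) h1
    exact h2
  have h := Order.height_le_height_apply_of_strictMono (PrimeSpectrum.comap (algebraMap R A))
    hstrict ⟨q, inferInstance⟩
  rw [← PrimeSpectrum.height_eq_orderHeight, ← PrimeSpectrum.height_eq_orderHeight] at h
  exact h


/-- For a finite type ring map R → S quasi-finite at a prime q lying over p, the dimension of S_q is at
most the dimension of R_p. -/
theorem result {R S : Type u} [CommRing R] [CommRing S] [Algebra R S] [Algebra.FiniteType R S] (q : Ideal S) [q.IsPrime] [Algebra.QuasiFiniteAt R q] :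
    ringKrullDim (Localization.AtPrime q) ≤ ringKrullDim (Localization.AtPrime (q.under R)) := by
  classical
  rw [IsLocalization.AtPrime.ringKrullDim_eq_height q, 
    IsLocalization.AtPrime.ringKrullDim_eq_height (q.under R)]
  norm_cast
  obtain ⟨S', hS', r, hrq, hbij⟩ :=
    Algebra.QuasiFiniteAt.exists_fg_and_exists_notMem_and_awayMap_bijective (R := R) q
  haveI : Module.Finite R S' := ⟨(Submodule.fg_top _).mpr hS'⟩
  haveI : Algebra.IsIntegral R S' := Algebra.IsIntegral.of_finite R S'
  -- the prime of `S_r`
  have hrq' : S'.val.toRingHom r ∉ q := hrq
  have hdisj : Disjoint (Submonoid.powers (S'.val.toRingHom r) : Set S) (q : Set S) := by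
    rw [Set.disjoint_left]
    rintro x ⟨n, rfl⟩ hx
    exact hrq' (Ideal.IsPrime.mem_of_pow_mem inferInstance n hx)
  let Q : Ideal (Localization.Away (S'.val.toRingHom r)) :=
    q.map (algebraMap S (Localization.Away (S'.val.toRingHom r)))
  have hQ : Q.IsPrime :=
    IsLocalization.isPrime_of_isPrime_disjoint (Submonoid.powers (S'.val.toRingHom r)) _ q
      inferInstance hdisj
  have hQh : Q.height = q.height :=
    IsLocalization.height_map_of_disjoint (Submonoid.powers (S'.val.toRingHom r)) q hdisj
  have hQu : Q.under S = q :=
    IsLocalization.under_map_of_isPrime_disjoint (Submonoid.powers (S'.val.toRingHom r)) _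
      inferInstance hdisj
  let e : Localization.Away r ≃+* Localization.Away (S'.val.toRingHom r) :=
    RingEquiv.ofBijective _ hbij
  let Q' : Ideal (Localization.Away r) := Q.comap e
  have hQ'h : Q'.height = Q.height := RingEquiv.height_comap e Q
  let q' : Ideal S' := Q'.under S'
  have hq'h : q'.height = Q'.height := IsLocalization.height_under (Submonoid.powers r) Q'
  haveI : q'.IsPrime := by
    haveI : Q'.IsPrime := Ideal.IsPrime.comap _
    exact Ideal.IsPrime.comap _
  have hq'u : q'.under R = q.under R := by
    ext a
    simp only [Ideal.under_def, Ideal.mem_comap, q', Q']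
    have h1 : e (algebraMap S' (Localization.Away r) (algebraMap R S' a)) =
        algebraMap S (Localization.Away (S'.val.toRingHom r)) (algebraMap R S a) := by
      change Localization.awayMap S'.val.toRingHom r _ = _
      rw [Localization.awayMap, IsLocalization.Away.map, IsLocalization.map_eq]
      rfl
    rw [h1]
    rw [← hQu]
    simp only [Ideal.under_def, Ideal.mem_comap]
  calc q.height = q'.height := by rw [hq'h, hQ'h, hQh]
    _ ≤ (q'.under R).height := height_le_height_under_of_isIntegral q'
    _ = (q.under R).height := by rw [hq'u]

end Groth.Agent.S0401
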