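import Groth.Statements.S0403
import Groth.Agent.Lib.Helper73.FibreDimGen2
-- import your own Groth.Agent.* helpers here

set_option autoImplicit false
universe u
open FlatMor

namespace Groth.Agent.S0403

open AlgebraicGeometry CategoryTheory Limits in
/-- For a proper morphism the dimension of the fibre is an upper semicontinuous function on the target:
for every bound the set of points whose fibre has dimension at most that bound is open. -/
theorem result {X S : Scheme.{u}} (f : X ⟶ S) [IsProper f] (c : WithBot ℕ∞) :
    IsOpen {s : S | topologicalKrullDim (f.fiber s) ≤ c} := by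
  have hcl : IsClosedMap f.base := f.isClosedMap
  have key : ∀ k : ℕ, IsOpen {s : S | ¬ ((k : WithBot ℕ∞) ≤ topologicalKrullDim (f.fiber s))} := by
    intro k
    have := Groth.Agent.Lib.Helper73.SchemeDim.isClosed_setOf_le_topologicalKrullDim_fiber f hcl k
    exact this.isOpen_compl
  cases c with
  | bot =>
    convert key 0 using 1
    ext s
    simp only [Set.mem_ofPred_eq, le_bot_iff]
    constructor
    · intro h
      rw [h]
      simp
    · intro h
      by_contra hne
      apply h
      obtain ⟨d, hd⟩ := WithBot.ne_bot_iff_exists.mp hne
      rw [← hd]
      have h0 : (0 : ℕ∞) ≤ d := bot_le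
      exact_mod_cast WithBot.coe_le_coe.mpr h0
  | coe c =>
    cases c with
    | top =>
      convert isOpen_univ
      ext s
      simp only [Set.mem_ofPred_eq, Set.mem_univ, iff_true]
      exact le_top
    | coe n =>
      convert key (n + 1) using 1
      ext s
      simp only [Set.mem_ofPred_eq, not_le]
      cases hd : topologicalKrullDim (f.fiber s) with
      | bot => simp
      | coe d =>
        constructor
        · intro h
          have h1 : d ≤ (n : ℕ∞) := by exact_mod_cast h
          have h2 : d < ((n + 1 : ℕ) : ℕ∞) := lt_of_le_of_lt h1 (by exact_mod_cast Nat.lt_succ_self n)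
          exact_mod_cast WithBot.coe_lt_coe.mpr h2
        · intro h
          have h1 : (d : WithBot ℕ∞) < (((n + 1 : ℕ) : ℕ∞) : WithBot ℕ∞) := h
          have h2 : d < ((n + 1 : ℕ) : ℕ∞) := WithBot.coe_lt_coe.mp h1
          have h3 : d ≤ (n : ℕ∞) := by
            push_cast at h2
            exact Order.le_of_lt_add_one h2
          exact_mod_cast WithBot.coe_le_coe.mpr h3

end Groth.Agent.S0403
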