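import Groth.Statements.S0408
import Groth.Agent.Lib.Helper35.QFSplit5

set_option autoImplicit false
universe u
open FlatMor

namespace Groth.Agent.S0408

section Helpers

open Groth.Agent.Lib.Helper35.QFSplit
open AlgebraicGeometry CategoryTheory Limits

theorem aux {X S : Scheme.{u}} (f : X ⟶ S) [LocallyOfFiniteType f] [IsSeparated f] (x : X) (hx : f.QuasiFiniteAt x) :
    ∃ (U : Scheme.{u}) (g : U ⟶ S) (u : U), Etale g ∧ g u = f x ∧ Function.Surjective (g.residueFieldMap u) ∧
      ∃ (V : (pullback f g).Opens) (v : ↑(pullback f g)), IsClopen (V : Set ↑(pullback f g)) ∧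
        IsFinite (V.ι ≫ pullback.snd f g) ∧ v ∈ V ∧ pullback.fst f g v = x ∧ pullback.snd f g v = u ∧
        Function.Surjective ((pullback.fst f g).residueFieldMap v) ∧
        (∀ w : ↑(pullback f g), pullback.snd f g w = u → (w ∈ V ∨ pullback.fst f g w = x) → w = v) := by
  obtain ⟨U, g, u, hg, hgu, hres, V, hVcl, hVfin, hV1, hV2⟩ :=
    exists_clopen_finite f (f x) (fun _ : Unit => x) (fun _ => rfl) (fun _ => hx)
  obtain ⟨v, hvx, hvu⟩ := Scheme.Pullback.exists_preimage_pullback x u hgu.symm
  refine ⟨U, g, u, hg, hgu, hres.2, V, v, ⟨hVcl, V.2⟩, hVfin, hV1 () v hvu hvx, hvx, hvu,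
    (bijective_residueFieldMap_fst v (by rw [hvu]; exact hres)).2, ?_⟩
  intro w hwu hw
  have hwx : pullback.fst f g w = x := by
    rcases hw with hw | hw
    · obtain ⟨_, h⟩ := hV2 w hw hwu
      exact h
    · exact hw
  exact eq_of_fst_eq_of_snd_eq w v (by rw [hwu]; exact hres) (by rw [hwx, hvx]) (by rw [hwu, hvu])

end Helpers

open AlgebraicGeometry CategoryTheory Limits in
/-- Étale localization of a quasi-finite point (one-point case): for f separated and locally of finite
type and x isolated in its fibre, after base change along an étale morphism g with a point u over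
f(x) having the same residue field, the base change splits off an open and closed piece V, finite
over the base, whose fibre over u is a single point v lying over x with the same residue field as x,
and no other point over u lies over x. -/
theorem result {X S : Scheme.{u}} (f : X ⟶ S) [LocallyOfFiniteType f] [IsSeparated f] (x : X) (hx : f.QuasiFiniteAt x) :
    ∃ (U : Scheme.{u}) (g : U ⟶ S) (u : U), Etale g ∧ g u = f x ∧ Function.Surjective (g.residueFieldMap u) ∧
      ∃ (V : (pullback f g).Opens) (v : ↑(pullback f g)), IsClopen (V : Set ↑(pullback f g)) ∧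
        IsFinite (V.ι ≫ pullback.snd f g) ∧ v ∈ V ∧ pullback.fst f g v = x ∧ pullback.snd f g v = u ∧
        Function.Surjective ((pullback.fst f g).residueFieldMap v) ∧
        (∀ w : ↑(pullback f g), pullback.snd f g w = u → (w ∈ V ∨ pullback.fst f g w = x) → w = v) := by
  exact aux f x hx

end Groth.Agent.S0408
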