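import Groth.Statements.S0411
import Mathlib.AlgebraicGeometry.ZariskisMainTheorem
import Mathlib.AlgebraicGeometry.QuasiAffine
-- import your own Groth.Agent.* helpers here

set_option autoImplicit false
universe u
open FlatMor

namespace Groth.Agent.S0411

open AlgebraicGeometry CategoryTheory Limits in
/-- In a quasi-affine scheme every finite set of points lies in an affine open. -/
theorem exists_isAffineOpen_of_finite_of_isQuasiAffine (Z : Scheme.{u}) [Z.IsQuasiAffine]
    (T : Set ↑Z) (hT : T.Finite) : ∃ U : Z.Opens, IsAffineOpen U ∧ ∀ x ∈ T, x ∈ U := by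
  classical
  rcases T.eq_empty_or_nonempty with rfl | ⟨x₀, hx₀⟩
  · exact ⟨⊥, isAffineOpen_bot Z, by simp⟩
  let j := Z.toSpecΓ
  let O : (Spec Γ(Z, ⊤)).Opens := j.opensRange
  let I : Ideal Γ(Z, ⊤) := PrimeSpectrum.vanishingIdeal ((O : Set ↑(Spec Γ(Z, ⊤)))ᶜ)
  have hI : PrimeSpectrum.zeroLocus (I : Set Γ(Z, ⊤)) = (O : Set ↑(Spec Γ(Z, ⊤)))ᶜ := by
    rw [PrimeSpectrum.zeroLocus_vanishingIdeal_eq_closure]
    exact O.isOpen.isClosed_compl.closure_eq
  -- prime avoidance
  have hnot : ¬ ((I : Set Γ(Z, ⊤)) ⊆ ⋃ x ∈ T, ((j x : PrimeSpectrum Γ(Z, ⊤)).asIdeal : Set Γ(Z, ⊤))) := by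
    intro h
    rw [Ideal.subset_union_prime_finite hT (f := fun x => (j x : PrimeSpectrum Γ(Z, ⊤)).asIdeal)
      x₀ x₀ (fun i _ _ _ => (j i : PrimeSpectrum Γ(Z, ⊤)).isPrime)] at h
    obtain ⟨x, hx, hle⟩ := h
    have : (j x : PrimeSpectrum Γ(Z, ⊤)) ∈ PrimeSpectrum.zeroLocus (I : Set Γ(Z, ⊤)) := hle
    rw [hI] at this
    exact this ⟨x, rfl⟩
  rw [Set.not_subset] at hnot
  obtain ⟨r, hrI, hr⟩ := hnot
  simp only [Set.mem_iUnion, not_exists] at hr
  have hle : PrimeSpectrum.basicOpen r ≤ O := by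
    intro p hp
    by_contra hpO
    have : p ∈ PrimeSpectrum.zeroLocus (I : Set Γ(Z, ⊤)) := by rw [hI]; exact hpO
    exact hp (this hrI)
  refine ⟨j ⁻¹ᵁ PrimeSpectrum.basicOpen r, ?_, ?_⟩
  · exact (IsAffineOpen.Spec_basicOpen r).preimage_of_isOpenImmersion j hle
  · intro x hx
    exact fun h => hr x hx h

open AlgebraicGeometry CategoryTheory Limits in
/-- For a separated, locally quasi-finite morphism (locally of finite type with discrete fibres) to an
affine scheme, every finite set of points of the source lies in an affine open. -/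
theorem result {X Y : Scheme.{u}} (f : X ⟶ Y) [IsAffine Y] [IsSeparated f] [LocallyQuasiFinite f] [LocallyOfFiniteType f] (T : Finset ↑X) :
    ∃ U : X.Opens, IsAffineOpen U ∧ ∀ x ∈ T, x ∈ U := by
  classical
  have hex : ∀ x : X, ∃ U : X.Opens, IsAffineOpen U ∧ x ∈ U := fun x => by
    obtain ⟨_, ⟨U, hU, rfl⟩, hxU, -⟩ :=
      X.isBasis_affineOpens.exists_subset_of_mem_open (Set.mem_univ x) isOpen_univ
    exact ⟨U, hU, hxU⟩
  choose V hV hxV using hex
  let W : X.Opens := ⨆ x : T, V x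
  have hWc : IsCompact (W : Set X) := by
    rw [TopologicalSpace.Opens.coe_iSup]
    exact isCompact_iUnion fun x => (hV x).isCompact
  have : CompactSpace W := isCompact_iff_compactSpace.mp hWc
  let g : W.toScheme ⟶ Y := W.ι ≫ f
  have : IsAffine g.normalization := isAffine_of_isAffineHom g.fromNormalization
  have : W.toScheme.IsQuasiAffine := .of_isImmersion g.toNormalization
  obtain ⟨U, hU, hTU⟩ := exists_isAffineOpen_of_finite_of_isQuasiAffine W.toScheme
    (W.ι ⁻¹' (T : Set X)) (T.finite_toSet.preimage W.ι.isOpenEmbedding.injective.injOn)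
  refine ⟨W.ι ''ᵁ U, hU.image_of_isOpenImmersion W.ι, ?_⟩
  intro x hx
  have hxW : x ∈ W := TopologicalSpace.Opens.mem_iSup.mpr ⟨⟨x, hx⟩, hxV x⟩
  exact ⟨⟨x, hxW⟩, hTU _ (by simpa using hx), rfl⟩

end Groth.Agent.S0411
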