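import Groth.Statements.S0413
import Groth.Agent.Lib.Helper35.SmoothSliceScheme
import Mathlib.RingTheory.Unramified.Field

set_option autoImplicit false
universe u
open FlatMor

namespace Groth.Agent.S0413


open AlgebraicGeometry CategoryTheory Limits in
/-- For a smooth morphism and a point that is closed in its fibre with separable residue field
extension, there is a locally closed subscheme through the point which is étale over the base and
meets the fibre only in that point. -/
theorem result {X S : Scheme.{u}} (f : X ⟶ S) [Smooth f] (x : X)
    (hcl : IsClosed ({f.asFiber x} : Set ↑(f.fiber (f x))))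
    (hsep : @Algebra.IsSeparable (S.residueField (f x)) (X.residueField x) _ _ (f.residueFieldMap x).hom.toAlgebra) :
    ∃ (Z : Scheme.{u}) (i : Z ⟶ X) (z : Z), IsImmersion i ∧ Etale (i ≫ f) ∧ i z = x ∧
      ∀ z' : ↑Z, f (i z') = f x → z' = z := by
  refine Groth.Agent.Lib.Helper35.SmoothSliceScheme.exists_etale_slice f x ?_
  letI := (f.residueFieldMap x).hom.toAlgebra
  haveI := hsep
  exact Algebra.FormallyUnramified.of_isSeparable (S.residueField (f x)) (X.residueField x)

end Groth.Agent.S0413
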