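import Groth.Statements.S0416
import Mathlib.AlgebraicGeometry.Morphisms.Immersion
-- import your own Groth.Agent.* helpers here

set_option autoImplicit false
universe u
open FlatMor

namespace Groth.Agent.S0416

open AlgebraicGeometry CategoryTheory Limits MorphismProperty in
/-- A surjective immersion is a universal homeomorphism. -/
theorem isUnivHomeo_of_isImmersion_of_surjective {X Y : Scheme.{u}} (f : X ⟶ Y) [IsImmersion f]
    [Surjective f] : FlatMor.IsUnivHomeo f := by
  intro X' Y' i₁ i₂ f' H
  have h1 : IsImmersion f' := MorphismProperty.of_isPullback H.flip ‹IsImmersion f›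
  have h2 : Surjective f' := MorphismProperty.of_isPullback H.flip ‹Surjective f›
  exact isHomeomorph_iff_isEmbedding_surjective.mpr ⟨f'.isEmbedding, f'.surjective⟩

open AlgebraicGeometry CategoryTheory Limits MorphismProperty in
theorem isUnivHomeo_le_diagonal :
    (FlatMor.IsUnivHomeo : MorphismProperty Scheme.{u}) ≤ FlatMor.IsUnivHomeo.diagonal := by
  intro X Y f hf
  have hinj : UniversallyInjective f := by
    refine ⟨?_⟩
    intro X' Y' i₁ i₂ f' H
    exact (hf i₁ i₂ f' H).injective
  have : Surjective (pullback.diagonal f) := (UniversallyInjective.iff_diagonal f).mp hinj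
  exact isUnivHomeo_of_isImmersion_of_surjective (pullback.diagonal f)

open AlgebraicGeometry CategoryTheory Limits MorphismProperty in
instance : (FlatMor.IsUnivHomeo : MorphismProperty Scheme.{u}).IsStableUnderBaseChange := by
  unfold FlatMor.IsUnivHomeo; infer_instance

open AlgebraicGeometry CategoryTheory Limits MorphismProperty in
instance : (FlatMor.IsUnivHomeo : MorphismProperty Scheme.{u}).IsMultiplicative where
  id_mem X := by
    have : IsIso (𝟙 X) := inferInstance
    exact isUnivHomeo_of_isImmersion_of_surjective (𝟙 X)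
  comp_mem {X Y Z} f g hf hg := by
    intro X' Z' i₁ i₂ fg' H
    -- factor the pullback square through `pullback g i₂`
    let Y' := pullback g i₂
    let g' : Y' ⟶ Z' := pullback.snd g i₂
    let j : Y' ⟶ Y := pullback.fst g i₂
    have Hg : IsPullback g' j i₂ g := (IsPullback.of_hasPullback g i₂).flip
    let f' : X' ⟶ Y' := pullback.lift (i₁ ≫ f) fg' (by rw [Category.assoc, H.w])
    have hf'1 : f' ≫ g' = fg' := pullback.lift_snd _ _ _
    have hf'2 : f' ≫ j = i₁ ≫ f := pullback.lift_fst _ _ _
    have Hf : IsPullback f' i₁ j f := by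
      apply IsPullback.of_right (t := Hg) _ hf'2
      rw [hf'1]; exact H
    have h1 : IsHomeomorph f' := hf i₁ j f' Hf
    have h2 : IsHomeomorph g' := hg j i₂ g' Hg
    have : (fg' : X' → Z') = (g' : Y' → Z') ∘ (f' : X' → Y') := by
      rw [← hf'1]; rfl
    rw [show (topologically fun f => IsHomeomorph f) fg' = IsHomeomorph (fg' : X' → Z') from rfl,
      this]
    exact h2.comp h1

open AlgebraicGeometry CategoryTheory Limits in
/-- When a composite of two morphisms is a universal homeomorphism and so is either factor, the
remaining factor is a universal homeomorphism as well. -/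
theorem result {X Y Z : Scheme.{u}} (g : X ⟶ Y) (h : Y ⟶ Z) :
    (FlatMor.IsUnivHomeo (g ≫ h) → FlatMor.IsUnivHomeo g → FlatMor.IsUnivHomeo h) ∧
    (FlatMor.IsUnivHomeo (g ≫ h) → FlatMor.IsUnivHomeo h → FlatMor.IsUnivHomeo g) := by
  constructor
  · intro hgh hg
    intro Y' Z' i₁ i₂ h' H
    -- base change of `g` along `i₁`
    let X' := pullback g i₁
    let g' : X' ⟶ Y' := pullback.snd g i₁
    let j : X' ⟶ X := pullback.fst g i₁
    have Hg : IsPullback g' j i₁ g := (IsPullback.of_hasPullback g i₁).flip
    have Hgh : IsPullback (g' ≫ h') j i₂ (g ≫ h) := Hg.paste_horiz H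
    have h1 : IsHomeomorph g' := hg j i₁ g' Hg
    have h2 : IsHomeomorph (g' ≫ h') := hgh j i₂ (g' ≫ h') Hgh
    have : (h' : Y' → Z') = ((g' ≫ h' : X' ⟶ Z') : X' → Z') ∘ h1.homeomorph.symm := by
      funext y
      obtain ⟨x, rfl⟩ := h1.surjective y
      simp only [Function.comp_apply]
      have : h1.homeomorph.symm (g' x) = x := h1.homeomorph.symm_apply_apply x
      rw [this]
      rfl
    rw [show (topologically fun f => IsHomeomorph f) h' = IsHomeomorph (h' : Y' → Z') from rfl,
      this]
    exact h2.comp h1.homeomorph.symm.isHomeomorph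
  · intro hgh hh
    have : MorphismProperty.HasOfPostcompProperty (FlatMor.IsUnivHomeo : MorphismProperty Scheme.{u})
        FlatMor.IsUnivHomeo :=
      MorphismProperty.hasOfPostcompProperty_iff_le_diagonal.mpr isUnivHomeo_le_diagonal
    exact MorphismProperty.of_postcomp _ g h hh hgh

end Groth.Agent.S0416
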