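import Groth.Statements.S0418
import Groth.Agent.Lib.Helper69.PPower

set_option autoImplicit false
universe u
open FlatMor

namespace Groth.Agent.S0418

open AlgebraicGeometry in
/-- For a prime number p and a ring map A → B that becomes an isomorphism after inverting p, Spec B →
Spec A is a universal homeomorphism if and only if the kernel consists of nilpotents and every
element of B has some p-power multiple and p-power power in the image. -/
theorem result {A B : Type u} [CommRing A] [CommRing B] (φ : A →+* B) (p : ℕ) (hp : p.Prime)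
    (h : Function.Bijective (Localization.awayMap φ (p : A))) :
    FlatMor.IsUnivHomeo (Spec.map (CommRingCat.ofHom φ)) ↔
      (∀ a ∈ RingHom.ker φ, IsNilpotent a) ∧ ∀ b : B, ∃ n : ℕ, (p ^ n : B) * b ∈ φ.range ∧ b ^ (p ^ n) ∈ φ.range := by
  have hsurj := Localization.awayMap_surjective_iff.mp h.2
  have hloc : ∀ b : B, ∃ k : ℕ, (p : B) ^ k * b ∈ φ.range := by
    intro b
    obtain ⟨a, m, ham⟩ := hsurj b
    refine ⟨m, a, ?_⟩
    rw [ham, map_natCast]
  constructor
  · intro hU
    obtain ⟨hint, hbij, hpts⟩ := Groth.Agent.Lib.Helper69.UHRing.of_isUnivHomeo φ hU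
    refine ⟨?_, ?_⟩
    · intro a ha
      rw [nilpotent_iff_mem_prime]
      intro J hJ
      obtain ⟨Q, hQ⟩ := hbij.2 ⟨J, hJ⟩
      have hJQ : J = Q.asIdeal.comap φ := by
        have := congrArg PrimeSpectrum.asIdeal hQ
        exact this.symm
      rw [hJQ, Ideal.mem_comap, (RingHom.mem_ker).mp ha]
      exact Q.asIdeal.zero_mem
    · intro b
      letI := φ.toAlgebra
      obtain ⟨n, hn⟩ := Groth.Agent.Lib.Helper69.PPower.exists_pow_mem_of_isUH
        (A := A) (B := B) p hp hloc hint hbij.1 hpts b
      obtain ⟨k, hk⟩ := hloc b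
      refine ⟨max n k, ?_, ?_⟩
      · have := Groth.Agent.Lib.Helper69.PPower.mul_mem_of_le φ.range p hk (le_max_right n k)
        simpa using this
      · exact Groth.Agent.Lib.Helper69.PPower.pow_mem_of_le φ.range p hn (le_max_left n k)
  · rintro ⟨hker, hpow⟩
    have hpow' : ∀ b : B, ∃ n : ℕ, (p : B) ^ n * b ∈ φ.range ∧ b ^ p ^ n ∈ φ.range := by
      intro b
      obtain ⟨n, h1, h2⟩ := hpow b
      refine ⟨n, ?_, h2⟩
      simpa using h1
    have hint : φ.IsIntegral :=
      Groth.Agent.Lib.Helper69.PPower.isIntegral_of_ppow φ p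
        (fun b => (hpow' b).imp fun n hn => hn.2) hp
    apply Groth.Agent.Lib.Helper69.UHRing.isUnivHomeo_of φ hint
    · apply Groth.Agent.Lib.Helper69.EtaPt.comap_surjective_of_isIntegral_of_ker_le_nilradical φ hint
      intro a ha
      exact mem_nilradical.mpr (hker a ha)
    · exact Groth.Agent.Lib.Helper69.PPower.fieldPtsInj_of_ppow φ p hp hpow'

end Groth.Agent.S0418
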