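import Groth.Statements.S0422
import Groth.Agent.Lib.Helper8.NilFibre

set_option autoImplicit false
universe u
open FlatMor

namespace Groth.Agent.S0422

open TensorProduct in
/-- Fibrewise criterion of flatness modulo a locally nilpotent ideal: let R → S be of finite type, S' an
S-algebra which is of finite presentation over R, I an ideal of R all of whose elements are
nilpotent, and M a finitely presented S'-module which is flat over R and such that M/IM is flat over
S/IS. Then M is flat over S. (The published statement also asserts flatness over R of suitable
localizations of S; that part is not stated here.) -/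
theorem result {R S S' M : Type u} [CommRing R] [CommRing S] [CommRing S'] [Algebra R S] [Algebra S S'] [Algebra R S'] [IsScalarTower R S S']
    [Algebra.FiniteType R S] [Algebra.FinitePresentation R S'] (I : Ideal R) (hI : ∀ a ∈ I, IsNilpotent a)
    [AddCommGroup M] [Module S' M] [Module S M] [Module R M] [IsScalarTower S S' M] [IsScalarTower R S M]
    [Module.FinitePresentation S' M] [Module.Flat R M]
    (h : Module.Flat (S ⧸ I.map (algebraMap R S)) ((S ⧸ I.map (algebraMap R S)) ⊗[S] M)) : Module.Flat S M := by
  obtain ⟨n, π, hπ⟩ := Algebra.FiniteType.iff_quotient_mvPolynomial''.1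
    (inferInstance : Algebra.FiniteType R S)
  letI : Algebra (MvPolynomial (Fin n) R) S := π.toRingHom.toAlgebra
  haveI : IsScalarTower R (MvPolynomial (Fin n) R) S :=
    IsScalarTower.of_algebraMap_eq (fun r => (π.commutes r).symm)
  letI : Algebra (MvPolynomial (Fin n) R) S' := ((algebraMap S S').comp π.toRingHom).toAlgebra
  haveI : IsScalarTower (MvPolynomial (Fin n) R) S S' :=
    IsScalarTower.of_algebraMap_eq (fun _ => rfl)
  haveI : IsScalarTower R (MvPolynomial (Fin n) R) S' :=
    IsScalarTower.of_algebraMap_eq (fun r => by
      change algebraMap R S' r = algebraMap S S' (π (algebraMap R (MvPolynomial (Fin n) R) r))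
      rw [π.commutes, ← IsScalarTower.algebraMap_apply])
  haveI : Algebra.FinitePresentation (MvPolynomial (Fin n) R) S' :=
    Algebra.FinitePresentation.of_restrict_scalars_finitePresentation R
      (MvPolynomial (Fin n) R) S'
  letI : Module (MvPolynomial (Fin n) R) M := Module.compHom M π.toRingHom
  haveI : IsScalarTower (MvPolynomial (Fin n) R) S M := ⟨fun p s m => by
    change (π p * s) • m = π p • s • m
    rw [mul_smul]⟩
  haveI : IsScalarTower (MvPolynomial (Fin n) R) S' M := ⟨fun p s' m => by
    change (algebraMap S S' (π p) * s') • m = π p • s' • m
    rw [mul_smul, algebraMap_smul]⟩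
  exact Groth.Agent.Lib.Helper8.NilFibre.flat_of_locallyNilpotent (R := R)
    (P := MvPolynomial (Fin n) R) (S := S) (S' := S') (M := M) hπ I hI h

end Groth.Agent.S0422
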