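import Groth.Statements.S0425
import Mathlib.AlgebraicGeometry.Morphisms.FlatMono
-- import your own Groth.Agent.* helpers here

set_option autoImplicit false
universe u
open FlatMor

namespace Groth.Agent.S0425

open AlgebraicGeometry CategoryTheory Limits in
/-- A flat morphism of schemes which is mono and a homeomorphism is an isomorphism. -/
theorem isIso_of_flat_of_mono_of_isHomeomorph {X Y : Scheme.{u}} (f : X ⟶ Y) [Flat f] [Mono f]
    (h : IsHomeomorph f) : IsIso f := by
  have : Surjective f := ⟨h.surjective⟩
  have : QuasiCompact f := ⟨fun U _ hc ↦ h.homeomorph.isCompact_preimage.mpr hc⟩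
  exact Flat.isIso_of_surjective_of_mono f

open AlgebraicGeometry CategoryTheory Limits in
/-- A weakly étale universal homeomorphism is an isomorphism. -/
theorem result {X Y : Scheme.{u}} (f : X ⟶ Y) [WeaklyEtale f] (h : FlatMor.IsUnivHomeo f) : IsIso f := by
  have hf : IsHomeomorph f := by
    have := h (𝟙 X) (𝟙 Y) f (IsPullback.of_id_snd)
    exact this
  have hfst : IsHomeomorph (pullback.fst f f) :=
    h (pullback.snd f f) f (pullback.fst f f) (IsPullback.of_hasPullback f f)
  -- the diagonal is the inverse homeomorphism of the first projection
  have hΔ : IsHomeomorph (pullback.diagonal f) := by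
    have hcomp : (pullback.fst f f : _ → _) ∘ (pullback.diagonal f : _ → _) = id := by
      funext x
      rw [Function.comp_apply, ← Scheme.Hom.comp_apply, pullback.diagonal_fst]
      rfl
    have hinv : (pullback.diagonal f : _ → _) = hfst.homeomorph.symm := by
      funext x
      apply hfst.injective
      have := congrFun hcomp x
      simp only [Function.comp_apply, id] at this
      rw [this]
      exact (hfst.homeomorph.apply_symm_apply x).symm
    rw [hinv]
    exact hfst.homeomorph.symm.isHomeomorph
  have : Flat f := WeaklyEtale.flat
  have : IsIso (pullback.diagonal f) := isIso_of_flat_of_mono_of_isHomeomorph _ hΔ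
  have : Mono f := (pullback.isIso_diagonal_iff f).mp this
  exact isIso_of_flat_of_mono_of_isHomeomorph f hf

end Groth.Agent.S0425
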