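import Groth.Statements.S0434
import Groth.Agent.Lib.Helper24.GeomRedFibre
-- import your own Groth.Agent.* helpers here

set_option autoImplicit false
universe u
open FlatMor

namespace Groth.Agent.S0434

open AlgebraicGeometry CategoryTheory Limits Groth.Agent.Lib.Helper24.GeomRedFibre
  Groth.Agent.Lib.Helper24.GeomRedScheme

/-- All fibres over a nonempty open are geometrically reduced. -/
theorem exists_open_forall_fibre {X Y : Scheme.{u}} (f : X ⟶ Y) [IrreducibleSpace ↑Y]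
    [LocallyOfFiniteType f] [QuasiCompact f]
    (h : GeometricallyReduced (f.fiberToSpecResidueField (genericPoint ↑Y))) :
    ∃ V : Y.Opens, genericPoint Y ∈ V ∧
      ∀ y ∈ V, GeometricallyReduced (f.fiberToSpecResidueField y) := by
  classical
  set η := genericPoint Y with hη
  obtain ⟨_, ⟨V₀, hV₀ : IsAffineOpen V₀, rfl⟩, hηV, -⟩ :=
    Y.isBasis_affineOpens.exists_subset_of_mem_open (Set.mem_univ η) isOpen_univ
  have hqc : IsCompact (f ⁻¹ᵁ V₀ : Set X) :=
    (quasiCompact_iff_forall_isAffineOpen.mp ‹QuasiCompact f›) V₀ hV₀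
  obtain ⟨s, hsfin, hs⟩ := isCompact_iff_finite_and_eq_biUnion_affineOpens.mp hqc
  have hle : ∀ W ∈ s, (W : X.Opens) ≤ f ⁻¹ᵁ V₀ := by
    intro W hW
    rw [hs]
    exact le_iSup₂ (f := fun (i : X.affineOpens) (_ : i ∈ s) ↦ (i : X.Opens)) W hW
  have key : ∀ W : X.affineOpens, ∀ hW : W ∈ s, ∃ a : Γ(Y, V₀), η ∈ Y.basicOpen a ∧
      ∀ y ∈ Y.basicOpen a, ∃ (U : Scheme.{u}) (j : U ⟶ f.fiber y), IsOpenImmersion j ∧
        Set.range j = (f.fiberι y) ⁻¹' ((W : X.Opens) : Set X) ∧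
        GeometricallyReduced (j ≫ f.fiberToSpecResidueField y) :=
    fun W hW ↦ exists_basicOpen_chart f hV₀ hηV W.2 (hle W hW)
  choose a haη ha using key
  let Vset : Set Y := (V₀ : Set Y) ∩ ⋂ W : s, (Y.basicOpen (a W.1 W.2) : Set Y)
  haveI : Finite s := hsfin
  have hVopen : IsOpen Vset :=
    V₀.isOpen.inter (isOpen_iInter_of_finite fun W ↦ (Y.basicOpen (a W.1 W.2)).isOpen)
  refine ⟨⟨Vset, hVopen⟩, ⟨hηV, Set.mem_iInter.mpr fun W ↦ haη W.1 W.2⟩, fun y hy ↦ ?_⟩
  have hyV₀ : y ∈ V₀ := hy.1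
  have hyW : ∀ W : s, y ∈ Y.basicOpen (a W.1 W.2) := fun W ↦ Set.mem_iInter.mp hy.2 W
  choose U j hjo hjr hjg using fun W : s ↦ ha W.1 W.2 y (hyW W)
  haveI := hjo
  refine geometricallyReduced_of_openCover (f.fiberToSpecResidueField y) U j (fun z ↦ ?_) hjg
  have hfz : f (f.fiberι y z) = y := by
    have : f.fiberι y z ∈ Set.range (f.fiberι y) := ⟨z, rfl⟩
    rw [Scheme.Hom.range_fiberι] at this
    exact this
  have hz : f.fiberι y z ∈ (f ⁻¹ᵁ V₀ : X.Opens) := by
    change f (f.fiberι y z) ∈ V₀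
    rw [hfz]
    exact hyV₀
  rw [hs] at hz
  simp only [TopologicalSpace.Opens.mem_iSup] at hz
  obtain ⟨W, hWs, hzW⟩ := hz
  refine ⟨⟨W, hWs⟩, ?_⟩
  rw [hjr]
  exact hzW

open AlgebraicGeometry CategoryTheory Limits in
/-- For a morphism of finite type to an irreducible scheme whose generic fibre is geometrically reduced,
all fibres over some nonempty open of the target are geometrically reduced. -/
theorem result {X Y : Scheme.{u}} (f : X ⟶ Y) [IrreducibleSpace ↑Y] [LocallyOfFiniteType f] [QuasiCompact f]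
    (h : GeometricallyReduced (f.fiberToSpecResidueField (genericPoint ↑Y))) :
    ∃ V : Y.Opens, (V : Set ↑Y).Nonempty ∧ GeometricallyReduced (f ∣_ V) := by
  obtain ⟨V, hηV, hV⟩ := exists_open_forall_fibre f h
  exact ⟨V, ⟨_, hηV⟩, geometricallyReduced_morphismRestrict_of_forall f V hV⟩

end Groth.Agent.S0434
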