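import Groth.Statements.S0436
import Groth.Agent.Lib.Helper61.ReducedFibre
import Groth.Agent.Lib.Helper70.FibreReduced

set_option autoImplicit false
universe u
open FlatMor

namespace Groth.Agent.S0436

open AlgebraicGeometry CategoryTheory Limits in
/-- For a proper flat morphism to the spectrum of a discrete valuation ring whose special fibre is
reduced, both the total space and the generic fibre are reduced. (The published statement is
stronger: instead of flatness it only needs every irreducible component of the total space to
dominate the base.) -/
theorem result {R : Type u} [CommRing R] [IsDomain R] [IsDiscreteValuationRing R] {X : Scheme.{u}}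
    (f : X ⟶ Spec (CommRingCat.of R)) [IsProper f] [Flat f]
    (hred : IsReduced (f.fiber (IsLocalRing.closedPoint R))) :
    IsReduced X ∧ IsReduced (f.fiber (⟨⊥, Ideal.isPrime_bot⟩ : PrimeSpectrum R)) := by
  haveI : IsLocallyNoetherian X := LocallyOfFiniteType.isLocallyNoetherian f
  haveI := hred
  have hXred : IsReduced X := by
    haveI : ∀ z : X, _root_.IsReduced (X.presheaf.stalk z) := by
      intro z
      have hcl : IsClosed (f.base '' closure {z}) := f.isClosedMap _ isClosed_closure
      have hfz : f.base z ∈ f.base '' closure {z} := ⟨z, subset_closure rfl, rfl⟩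
      have hs : IsLocalRing.closedPoint R ∈ f.base '' closure {z} :=
        (IsLocalRing.specializes_closedPoint (R := R) (f.base z)).mem_closed hcl hfz
      obtain ⟨x, hx, hfx⟩ := hs
      have hzx : z ⤳ x := specializes_iff_mem_closure.mpr hx
      have hxr : x ∈ Set.range (f.fiberι (IsLocalRing.closedPoint R)) := by
        rw [Scheme.Hom.range_fiberι]; exact hfx
      obtain ⟨x', rfl⟩ := hxr
      haveI := Groth.Agent.Lib.Helper61.ReducedFibre.isReduced_stalk_of_isReduced_fiber f
        (IsLocalRing.closedPoint R) x'
      letI := (X.presheaf.stalkSpecializes hzx).hom.toAlgebra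
      haveI := Groth.Agent.Lib.Helper91.GenPrime.isLocalization_stalkSpecializes hzx
      exact isReduced_localizationPreserves
        (Groth.Agent.Lib.Helper91.GenPrime.primeOf hzx).primeCompl _ inferInstance
    exact isReduced_of_isReduced_stalk X
  refine ⟨hXred, ?_⟩
  haveI := hXred
  refine Groth.Agent.Lib.Helper70.FibreReduced.isReduced_fiber_of_generic f _ ?_
  intro y hy
  have hle : y.asIdeal ≤ (⊥ : Ideal R) :=
    (PrimeSpectrum.le_iff_specializes y ⟨⊥, Ideal.isPrime_bot⟩).mpr hy
  exact PrimeSpectrum.ext (le_bot_iff.mp hle)

end Groth.Agent.S0436
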