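import Groth.Statements.S7625
import Mathlib
import Groth.Agent.Lib.Helper82.EquidimAff
-- import your own Groth.Agent.* helpers here

set_option autoImplicit false
universe u
open CategoryTheory CategoryTheory.Limits AlgebraicGeometry
open Variety

namespace Groth.Agent.S7625
set_option linter.style.haveILetI false
open Limits
open Groth.Agent.Lib.Helper73.DimFormula Groth.Agent.Lib.Helper73.RelHt
open Groth.Agent.Lib.Helper73.SchemeDim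
open Groth.Agent.Lib.Helper82.EquidimBC Groth.Agent.Lib.Helper82.AffSpaceDim
open Groth.Agent.Lib.Helper82.EquidimAff

/-- Let f : X → S be locally of finite type, x a point of X with image s, V an affine open neighbourhood
of s in S, and suppose dim_x(X_s) = d. Then there is an affine open neighbourhood U of x with f(U) ⊆
V and a factorisation of f|_U as U → 𝔸^d_V → V with U → 𝔸^d_V locally quasi-finite and locally of
finite type (hence quasi-finite, U being affine). -/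
theorem result {X S : Scheme.{u}} (f : X ⟶ S) [LocallyOfFiniteType f] (x : ↥X)
    (V : S.Opens) (hV : IsAffineOpen V) (hxV : f x ∈ V) (d : ℕ) (hd : FlatMor.fibreDimAt f x = d) :
    ∃ (U : X.Opens), IsAffineOpen U ∧ x ∈ U ∧
      ∃ (g : (U : Scheme.{u}) ⟶ (V : Scheme.{u})) (π : (U : Scheme.{u}) ⟶ 𝔸(ULift.{u} (Fin d); (V : Scheme.{u}))),
        g ≫ V.ι = U.ι ≫ f ∧ π ≫ (𝔸(ULift.{u} (Fin d); (V : Scheme.{u})) ↘ (V : Scheme.{u})) = g ∧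
          LocallyQuasiFinite π ∧ LocallyOfFiniteType π := by
  let W : X.Opens := ⟨{z | FlatMor.fibreDimAt f z ≤ (d : WithBot ℕ∞)},
    Groth.Agent.Lib.Helper73.SchemeDim.isOpen_setOf_fibreDimAt_le f d⟩
  have hxW : x ∈ W := hd.le
  obtain ⟨U₁, hU₁, hxU₁, hU₁sub⟩ : ∃ U₁ : X.Opens, IsAffineOpen U₁ ∧ x ∈ U₁ ∧
      (U₁ : Set X) ⊆ ((W ⊓ f ⁻¹ᵁ V : X.Opens) : Set X) := by
    obtain ⟨_, ⟨U₁, hU₁ : IsAffineOpen U₁, rfl⟩, hxU₁, hU₁sub⟩ :=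
      (X.isBasis_affineOpens).exists_subset_of_mem_open
        (show x ∈ ((W ⊓ f ⁻¹ᵁ V : X.Opens) : Set X) from ⟨hxW, hxV⟩) (W ⊓ f ⁻¹ᵁ V).isOpen
    exact ⟨U₁, hU₁, hxU₁, hU₁sub⟩
  have hU₁W : U₁ ≤ W := fun a ha => (hU₁sub ha).1
  have hU₁V : U₁ ≤ f ⁻¹ᵁ V := fun a ha => (hU₁sub ha).2
  haveI : IsAffine (U₁ : Scheme.{u}) := hU₁
  haveI : IsAffine (V : Scheme.{u}) := hV
  obtain ⟨f₁, hf₁def⟩ : ∃ f₁ : (U₁ : Scheme.{u}) ⟶ (V : Scheme.{u}), f₁ = f.resLE V U₁ hU₁V :=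
    ⟨_, rfl⟩
  have hf₁ : f₁ ≫ V.ι = U₁.ι ≫ f := by rw [hf₁def]; exact Scheme.Hom.resLE_comp_ι f hU₁V
  haveI hlft : LocallyOfFiniteType (f₁ ≫ V.ι) := by rw [hf₁]; infer_instance
  haveI : LocallyOfFiniteType f₁ := locallyOfFiniteType_of_comp f₁ V.ι
  let x₁ : ↥(U₁ : Scheme.{u}) := ⟨x, hxU₁⟩
  have hfd₁ : ∀ x₂ : ↥(U₁ : Scheme.{u}),
      FlatMor.fibreDimAt f₁ x₂ = FlatMor.fibreDimAt f (U₁.ι.base x₂) := by
    intro x₂
    have h1 := Groth.Agent.Lib.Helper73.FibreDimRetro.fibreDimAt_comp_mono f₁ V.ι x₂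
    have h2 := Groth.Agent.Lib.Helper73.FibreDimRetro.fibreDimAt_comp_openImmersion U₁.ι f x₂
    rw [← h1]
    have h3 : FlatMor.fibreDimAt (f₁ ≫ V.ι) x₂ = FlatMor.fibreDimAt (U₁.ι ≫ f) x₂ := by
      congr 1
    rw [h3, h2]
  have hdim : topologicalKrullDim ↥(f₁.fiber (f₁.base x₁)) = (d : WithBot ℕ∞) := by
    rw [Groth.Agent.Lib.Helper29.topologicalKrullDim_eq_iSup_localDim]
    apply le_antisymm
    · apply iSup_le
      intro z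
      rw [localDim_fiber_eq_fibreDimAt f₁ _ _ (base_fiberι' f₁ _ z) z rfl, hfd₁]
      exact hU₁W ((f₁.fiberι (f₁.base x₁)).base z).2
    · refine le_trans ?_ (le_iSup _ (f₁.asFiber x₁))
      have h := hfd₁ x₁
      have hx₁ : U₁.ι.base x₁ = x := rfl
      rw [hx₁, hd] at h
      unfold FlatMor.fibreDimAt at h
      rw [h]
  obtain ⟨g₁, hg₁, hfin⟩ := Groth.Agent.S3394.result f₁ (f₁.base x₁) ⟨x₁, rfl⟩ d hdim
  obtain ⟨-, U₂, hU₂, hqf⟩ := Groth.Agent.S3395.result f₁ (f₁.base x₁) ⟨x₁, rfl⟩ d hdim g₁ hg₁ hfin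
  have hx₁U₂ : x₁ ∈ U₂ := hU₂ rfl
  obtain ⟨Uf, hUf⟩ : ∃ Uf : X.Opens, Uf = U₁.ι ''ᵁ U₂ := ⟨_, rfl⟩
  have hxUf : x ∈ Uf := by rw [hUf]; exact ⟨x₁, hx₁U₂, rfl⟩
  obtain ⟨U₃, hU₃, hxU₃, hU₃sub⟩ : ∃ U₃ : X.Opens, IsAffineOpen U₃ ∧ x ∈ U₃ ∧ U₃ ≤ Uf := by
    obtain ⟨_, ⟨U₃, hU₃ : IsAffineOpen U₃, rfl⟩, hxU₃, hU₃sub⟩ :=
      (X.isBasis_affineOpens).exists_subset_of_mem_open hxUf Uf.isOpen
    exact ⟨U₃, hU₃, hxU₃, hU₃sub⟩
  obtain ⟨π₀, hπ₀, hqfπ₀⟩ : ∃ π₀ : (Uf : Scheme.{u}) ⟶ 𝔸(ULift.{u} (Fin d); (V : Scheme.{u})),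
      π₀ ≫ (𝔸(ULift.{u} (Fin d); (V : Scheme.{u})) ↘ (V : Scheme.{u})) ≫ V.ι = Uf.ι ≫ f ∧
        LocallyQuasiFinite π₀ := by
    subst hUf
    refine ⟨(U₁.ι.isoImage U₂).inv ≫ (U₂.ι ≫ g₁), ?_, ?_⟩
    · have h1 := Scheme.Hom.isoImage_inv_ι U₁.ι U₂
      rw [Category.assoc, Category.assoc, reassoc_of% hg₁, hf₁, ← Category.assoc U₂.ι,
        ← Category.assoc, h1]
    · haveI := hqf
      infer_instance
  haveI := hqfπ₀
  let π : (U₃ : Scheme.{u}) ⟶ 𝔸(ULift.{u} (Fin d); (V : Scheme.{u})) := X.homOfLE hU₃sub ≫ π₀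
  have hπ : π ≫ (𝔸(ULift.{u} (Fin d); (V : Scheme.{u})) ↘ (V : Scheme.{u})) ≫ V.ι = U₃.ι ≫ f := by
    change (X.homOfLE hU₃sub ≫ π₀) ≫ _ = _
    rw [Category.assoc, hπ₀, ← Category.assoc, Scheme.homOfLE_ι]
  refine ⟨U₃, hU₃, hxU₃, π ≫ (𝔸(ULift.{u} (Fin d); (V : Scheme.{u})) ↘ (V : Scheme.{u})), π, ?_, rfl,
    ?_, ?_⟩
  · rw [Category.assoc]; exact hπ
  · change LocallyQuasiFinite (X.homOfLE hU₃sub ≫ π₀)
    infer_instance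
  · haveI : LocallyOfFiniteType (π ≫ ((𝔸(ULift.{u} (Fin d); (V : Scheme.{u})) ↘ (V : Scheme.{u})) ≫ V.ι)) := by
      rw [hπ]; infer_instance
    exact locallyOfFiniteType_of_comp π ((𝔸(ULift.{u} (Fin d); (V : Scheme.{u})) ↘ (V : Scheme.{u})) ≫ V.ι)

end Groth.Agent.S7625
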