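import Groth.Statements.S0442
-- import your own Groth.Agent.* helpers here
import Mathlib
import Groth.Agent.Lib.Helper67.AffSmoothDim
import Groth.Agent.S7625
import Groth.Agent.S1353

set_option autoImplicit false
universe u
open FlatMor

namespace Groth.Agent.S0442

open AlgebraicGeometry CategoryTheory Limits

open Groth.Agent.Lib.Helper67.AffSmoothDim

open AlgebraicGeometry CategoryTheory Limits in
/-- Local structure of a morphism locally of finite type: let f : X → S be locally of finite type, x a
point of X, and n the local dimension at x of its fibre. Then there are an étale morphism g : X' → X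
with a point x' mapping to x such that the residue field map κ(x) → κ(x') is surjective (trivial
residue field extension), a morphism h : Y → S smooth of relative dimension n, and a finite morphism
π : X' → Y with f ∘ g = h ∘ π, such that x' is the only point of X' mapping to π(x'). The published
statement also makes the residue field of π(x') purely transcendental over that of the image of x in
S; that is not stated here. -/
theorem result {X S : Scheme.{u}} (f : X ⟶ S) [LocallyOfFiniteType f] (x : X) (n : ℕ) (hn : FlatMor.fibreDimAt f x = n) :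
    ∃ (X' Y : Scheme.{u}) (g : X' ⟶ X) (π : X' ⟶ Y) (h : Y ⟶ S) (x' : X'), g ≫ f = π ≫ h ∧ Etale g ∧ g x' = x ∧
      Function.Surjective (g.residueFieldMap x') ∧ IsFinite π ∧ SmoothOfRelativeDimension n h ∧
      ∀ z : ↑X', π z = π x' → z = x' := by
  obtain ⟨_, ⟨V, hV, rfl⟩, hxV, -⟩ :=
    S.isBasis_affineOpens.exists_subset_of_mem_open (Set.mem_univ (f x)) isOpen_univ
  obtain ⟨U, hU, hxU, g₀, π₀, hg₀, hπ₀, hqf, hlft⟩ := Groth.Agent.S7625.result f x V hV hxV n hn
  let xU : (U : Scheme.{u}) := ⟨x, hxU⟩
  obtain ⟨U₁, e, u₁, ⟨het, hbase, hres⟩, W, v, hvW, hfin, hvu, huniq, hvx, hbij⟩ :=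
    Groth.Agent.S1353.result π₀ xU (π₀.quasiFiniteAt xU)
  let x' : (W : Scheme.{u}) := ⟨v, hvW⟩
  refine ⟨W, U₁, W.ι ≫ pullback.fst π₀ e ≫ U.ι, W.ι ≫ pullback.snd π₀ e,
    e ≫ (𝔸(ULift.{u} (Fin n); (V : Scheme.{u})) ↘ (V : Scheme.{u})) ≫ Scheme.Opens.ι V, x', ?_, inferInstance, ?_, ?_,
    hfin, ?_, ?_⟩
  · simp only [Category.assoc]
    rw [← hg₀, ← hπ₀]
    simp only [Category.assoc]
    rw [pullback.condition_assoc]
  · change U.ι (pullback.fst π₀ e v) = x
    rw [hvx]
    rfl
  · rw [Scheme.residueFieldMap_comp, Scheme.residueFieldMap_comp]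
    have h1 : Function.Surjective (W.ι.residueFieldMap x') :=
      ((ConcreteCategory.isIso_iff_bijective _).mp inferInstance).2
    have h2 : Function.Surjective ((pullback.fst π₀ e).residueFieldMap (W.ι x')) := hbij.2
    have h3 : Function.Surjective (U.ι.residueFieldMap ((pullback.fst π₀ e) (W.ι x'))) :=
      ((ConcreteCategory.isIso_iff_bijective _).mp inferInstance).2
    simp only [CommRingCat.hom_comp, RingHom.coe_comp]
    exact h1.comp (h2.comp h3)
  · have : SmoothOfRelativeDimension (0 + (n + 0))
        (e ≫ (𝔸(ULift.{u} (Fin n); (V : Scheme.{u})) ↘ (V : Scheme.{u})) ≫ Scheme.Opens.ι V) := inferInstance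
    simpa using this
  · intro z hz
    have hz' : pullback.snd π₀ e (W.ι z) = u₁ := by
      have : pullback.snd π₀ e (W.ι z) = pullback.snd π₀ e (W.ι x') := hz
      rw [this]
      exact hvu
    have := huniq (W.ι z) z.2 hz'
    exact Subtype.ext this

end Groth.Agent.S0442
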