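import Groth.Statements.S0443
import Mathlib
-- import your own Groth.Agent.* helpers here

set_option autoImplicit false
universe u
open FlatMor

namespace Groth.Agent.S0443
open CategoryTheory AlgebraicGeometry Limits TopologicalSpace Topology Opposite


lemma alg_finite {A B : Type u} [CommRing A] [CommRing B] (φ : A →+* B) (hφ : φ.Finite)
    (q : Ideal B) [q.IsPrime]
    (huniq : ∀ q' : Ideal B, q'.IsPrime → q'.comap φ = q.comap φ → q' = q) :
    (Localization.localRingHom (q.comap φ) q φ rfl).Finite := by
  classical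
  letI := φ.toAlgebra
  haveI : Module.Finite A B := hφ
  haveI : Algebra.IsIntegral A B := Algebra.IsIntegral.of_finite A B
  set p : Ideal A := q.comap φ with hp
  let M' := Algebra.algebraMapSubmonoid B p.primeCompl
  let Bp := Localization M'
  have hle : M' ≤ q.primeCompl := by
    rintro _ ⟨a, ha, rfl⟩
    exact ha
  have hdvd : ∀ s ∈ q.primeCompl, ∃ m ∈ M', s ∣ m := by
    intro s hs
    by_contra hcon
    push Not at hcon
    have hIP : (Ideal.span {s}).comap (algebraMap A B) ≤ p := by
      intro a ha
      by_contra hap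
      have hdiv : s ∣ algebraMap A B a := Ideal.mem_span_singleton.mp ha
      exact hcon (algebraMap A B a) ⟨a, hap, rfl⟩ hdiv
    obtain ⟨Q, hQI, hQp, hQ⟩ := Ideal.exists_ideal_over_prime_of_isIntegral p (Ideal.span {s}) hIP
    have hQq : Q = q := huniq Q hQp hQ
    apply hs
    rw [← hQq]
    exact hQI (Ideal.mem_span_singleton_self s)
  haveI : IsLocalization.AtPrime Bp q := IsLocalization.of_le_of_exists_dvd M' q.primeCompl hle hdvd
  let e : Localization.AtPrime q ≃ₐ[B] Bp := IsLocalization.algEquiv q.primeCompl _ _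
  have hcomp : Localization.localRingHom p q φ rfl =
      (e.symm : Bp →+* Localization.AtPrime q).comp (algebraMap (Localization.AtPrime p) Bp) := by
    apply IsLocalization.ringHom_ext p.primeCompl
    ext a
    simp only [RingHom.coe_comp, Function.comp_apply, Localization.localRingHom_to_map]
    rw [← IsScalarTower.algebraMap_apply A (Localization.AtPrime p) Bp,
      IsScalarTower.algebraMap_apply A B Bp]
    simp
    rfl
  rw [hcomp]
  refine RingHom.Finite.comp (RingHom.Finite.of_surjective _ e.symm.surjective) ?_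
  have : Module.Finite (Localization.AtPrime p) Bp := inferInstance
  exact this

set_option backward.isDefEq.respectTransparency false in
theorem aux {X Y : Scheme.{u}} (π : X ⟶ Y) [IsFinite π] (x : X) (hx : ∀ x' : ↑X, π x' = π x → x' = x) :
    (π.stalkMap x).hom.Finite := by
  have hQ' : RingHom.RespectsIso @RingHom.Finite := RingHom.finite_respectsIso
  wlog h : IsAffine X ∧ IsAffine Y generalizing X Y π
  · obtain ⟨U, hU, hfx, _⟩ := Opens.isBasis_iff_nbhd.mp Y.isBasis_affineOpens (Opens.mem_top <| π x)
    have hV : IsAffineOpen (π ⁻¹ᵁ U) := hU.preimage π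
    rw [← hQ'.arrow_mk_iso_iff (morphismRestrictStalkMap π U ⟨x, hfx⟩)]
    refine this (π ∣_ U) ⟨x, hfx⟩ ?_ ⟨hV, hU⟩
    intro x' hx'
    apply Subtype.ext
    apply hx
    have := congrArg Subtype.val hx'
    rwa [morphismRestrict_base_coe, morphismRestrict_base_coe] at this
  obtain ⟨hX, hY⟩ := h
  wlog hXY : ∃ R S, Y = Spec R ∧ X = Spec S generalizing X Y
  · have : ((X.isoSpec.inv ≫ π ≫ Y.isoSpec.hom).stalkMap (X.isoSpec.hom x)).hom.Finite := by
      refine this _ (X.isoSpec.hom x) ?_ inferInstance inferInstance ?_
      · intro x' hx'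
        have h1 : π (X.isoSpec.inv x') = π (X.isoSpec.inv (X.isoSpec.hom x)) := by
          apply Y.isoSpec.hom.homeomorph.injective
          simpa using hx'
        have h2 : X.isoSpec.inv x' = x := by
          apply hx
          rw [h1]
          simp
        rw [← h2]
        simp
      · use Γ(Y, ⊤), Γ(X, ⊤)
    rw [Scheme.Hom.stalkMap_comp, Scheme.Hom.stalkMap_comp, CommRingCat.hom_comp,
      hQ'.cancel_right_isIso, CommRingCat.hom_comp, hQ'.cancel_left_isIso] at this
    have heq : (X.isoSpec.inv (X.isoSpec.hom x)) = x := by simp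
    rwa [hQ'.arrow_mk_iso_iff (π.arrowStalkMapIsoOfEq heq)] at this
  obtain ⟨R, S, rfl, rfl⟩ := hXY
  obtain ⟨φ, rfl⟩ := Spec.map_surjective π
  rw [hQ'.arrow_mk_iso_iff (Scheme.arrowStalkMapSpecIso φ _)]
  have hfin : φ.hom.Finite := (IsFinite.SpecMap_iff φ).mp inferInstance
  haveI := x.isPrime
  refine alg_finite φ.hom hfin x.asIdeal ?_
  intro q' hq' hqq
  have := hx ⟨q', hq'⟩ (PrimeSpectrum.ext hqq)
  exact congrArg PrimeSpectrum.asIdeal this


open AlgebraicGeometry CategoryTheory Limits in
/-- For a finite morphism π : X → Y and a point x of X that is the only point of its fibre, the induced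
homomorphism of local rings O_{Y,π(x)} → O_{X,x} is finite. (The published lemma has further parts,
not stated here.) -/
theorem result {X Y : Scheme.{u}} (π : X ⟶ Y) [IsFinite π] (x : X) (hx : ∀ x' : ↑X, π x' = π x → x' = x) :
    (π.stalkMap x).hom.Finite := by
  exact aux π x hx

end Groth.Agent.S0443
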