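import Groth.Statements.S4932
import Mathlib
import Groth.Agent.Lib.Helper21.ValTrdegSch
import Groth.Agent.Lib.Helper21.IrrFibres
-- import your own Groth.Agent.* helpers here

set_option autoImplicit false
open CategoryTheory AlgebraicGeometry
universe u v w
open EGA43

namespace Groth.Agent.S4932
open CategoryTheory.Limits Groth.Agent.Lib.Helper21 Groth.Agent.Lib.Helper21.FieldDim Groth.Agent.Lib.Helper21.IrrFibres Groth.Agent.Lib.Helper21.ValTrdeg

/-- Let A be a valuation ring (not necessarily discrete), X an irreducible scheme and f : X ⟶ Spec A a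
dominant morphism of finite type. If the fibre X_0 of f over the closed point is nonempty, then dim
X_0 = dim X_1, where X_1 is the fibre over the generic point. -/
theorem result {A : Type u} [CommRing A] [IsDomain A]
    [ValuationRing A] {X : Scheme.{u}} [IrreducibleSpace X] (f : X ⟶ Spec (CommRingCat.of A))
    [LocallyOfFiniteType f] [QuasiCompact f] [IsDominant f]
    (h0 : Nonempty ↥(f.fiber (IsLocalRing.closedPoint A))) :
    topologicalKrullDim ↥(f.fiber (IsLocalRing.closedPoint A)) =
      topologicalKrullDim ↥(f.fiber (genericPoint (Spec (CommRingCat.of A)))) := by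
  classical
  let m : Spec (CommRingCat.of A) := IsLocalRing.closedPoint A
  set η : Spec (CommRingCat.of A) := genericPoint (Spec (CommRingCat.of A)) with hη
  set ξ : X := genericPoint ↑X with hξdef
  have hξsp : ∀ x : X, ξ ⤳ x := fun x => (genericPoint_spec X).specializes (Set.mem_univ x)
  have hηsp : ∀ y : Spec (CommRingCat.of A), η ⤳ y := fun y =>
    (genericPoint_spec (Spec (CommRingCat.of A))).specializes (Set.mem_univ y)
  -- `f ξ = η`
  have hfξ : f ξ = η := by
    have hd : DenseRange f := f.denseRange
    have h1 : closure ({f ξ} : Set (Spec (CommRingCat.of A))) = Set.univ := by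
      apply Set.eq_univ_of_univ_subset
      rw [← hd.closure_range]
      apply closure_minimal _ isClosed_closure
      rintro _ ⟨x, rfl⟩
      exact ((hξsp x).map f.continuous).mem_closure
    have h2 : closure ({η} : Set (Spec (CommRingCat.of A))) = Set.univ :=
      (genericPoint_spec (Spec (CommRingCat.of A))).def
    exact (inseparable_iff_closure_eq.mpr (h1.trans h2.symm)).eq
  have hfξ' : (f ξ).asIdeal = ⊥ := by
    have h1 : f ξ ⤳ (⟨⊥, Ideal.isPrime_bot⟩ : PrimeSpectrum A) := hfξ ▸ hηsp _
    have h2 : (f ξ).asIdeal ≤ (⊥ : Ideal A) := (PrimeSpectrum.le_iff_specializes _ _).mpr h1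
    exact le_bot_iff.mp h2
  -- dimension of the generic fibre
  have hgen : topologicalKrullDim ↥(f.fiber η) = ((tdR f ξ : ℕ) : WithBot ℕ∞) := by
    apply le_antisymm
    · rw [dim_fiber_le_iff]
      intro x hx
      have := tdR_le_of_specializes f (hξsp x) (hfξ.trans hx.symm)
      exact_mod_cast this
    · have := tdR_le_dim_fiber f ξ
      rw [hfξ] at this
      exact this
  rw [hgen]
  show topologicalKrullDim ↥(f.fiber m) = _
  apply le_antisymm
  · rw [dim_fiber_le_iff]
    intro x hx
    have hle : tdR f x ≤ tdR f ξ := tdR_le_of_valuation (R := CommRingCat.of A) f (hξsp x) hfξ'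
    exact_mod_cast hle
  · obtain ⟨z⟩ := h0
    set w : X := f.fiberι m z with hw
    have hfw : f w = m := by
      have : w ∈ Set.range (f.fiberι m) := ⟨z, rfl⟩
      rw [Scheme.Hom.range_fiberι] at this
      exact this
    obtain ⟨ξ', -, hξ'w, hfξ'w, hge⟩ := exists_between_tdR_le f (hξsp w)
    have h1 := tdR_le_dim_fiber f ξ'
    rw [hfξ'w, hfw] at h1
    refine le_trans ?_ h1
    exact_mod_cast hge

end Groth.Agent.S4932
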