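import Groth.Statements.S0444
import Mathlib
import Groth.Agent.S4932
-- import your own Groth.Agent.* helpers here

set_option autoImplicit false
universe u
open FlatMor

namespace Groth.Agent.S0444
open CategoryTheory CategoryTheory.Limits AlgebraicGeometry TensorProduct

open TensorProduct in
/-- Let R be a valuation ring with residue field κ and fraction field K, and S a domain of finite type
over R with R → S injective. If the special fibre κ ⊗_R S is nonzero, then its Krull dimension
equals the Krull dimension of the generic fibre K ⊗_R S. (The published statement also asserts that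
the special fibre is equidimensional; that is not stated here.) -/
theorem result {R S : Type u} [CommRing R] [IsDomain R] [ValuationRing R] [CommRing S] [IsDomain S] [Algebra R S]
    (hinj : Function.Injective (algebraMap R S)) [Algebra.FiniteType R S]
    [Nontrivial (IsLocalRing.ResidueField R ⊗[R] S)] :
    ringKrullDim (IsLocalRing.ResidueField R ⊗[R] S) = ringKrullDim (FractionRing R ⊗[R] S) := by
  classical
  let f : Spec (CommRingCat.of S) ⟶ Spec (CommRingCat.of R) :=
    Spec.map (CommRingCat.ofHom (algebraMap R S))
  haveI : LocallyOfFiniteType f := by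
    rw [HasRingHomProperty.Spec_iff (P := @LocallyOfFiniteType)]
    show (algebraMap R S).FiniteType
    exact (RingHom.finiteType_algebraMap).mpr inferInstance
  haveI : IsDominant f := by
    constructor
    show DenseRange (PrimeSpectrum.comap (algebraMap R S))
    rw [PrimeSpectrum.denseRange_comap_iff_ker_le_nilRadical,
      (RingHom.injective_iff_ker_eq_bot _).mp hinj]
    exact bot_le
  haveI : IrreducibleSpace ↥(Spec (CommRingCat.of S)) :=
    inferInstanceAs (IrreducibleSpace (PrimeSpectrum S))
  -- dimension of a fibre
  have hdim : ∀ y : PrimeSpectrum R, topologicalKrullDim ↥(f.fiber y) =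
      ringKrullDim (y.asIdeal.Fiber S) := by
    intro y
    rw [← PrimeSpectrum.topologicalKrullDim_eq_ringKrullDim]
    rw [IsHomeomorph.topologicalKrullDim_eq _ (f.fiberHomeo y).isHomeomorph]
    exact IsHomeomorph.topologicalKrullDim_eq _
      (PrimeSpectrum.preimageHomeomorphFiber R S y).isHomeomorph
  -- the two residue fields
  let m : Ideal R := IsLocalRing.maximalIdeal R
  let e0 : (R ⧸ m) ≃ₐ[R] m.ResidueField :=
    (Ideal.quotientEquivAlgOfEq R (Ideal.ker_algebraMap_residueField m).symm).trans
      (Ideal.quotientKerAlgEquivOfSurjective (f := Algebra.ofId R m.ResidueField)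
        m.algebraMap_residueField_surjective)
  let e1 : IsLocalRing.ResidueField R ≃ₐ[R] m.ResidueField := e0
  let e2 : FractionRing R ≃ₐ[R] (⊥ : Ideal R).ResidueField :=
    FractionRing.algEquiv R (⊥ : Ideal R).ResidueField
  have h1 : ringKrullDim (IsLocalRing.ResidueField R ⊗[R] S) = ringKrullDim (m.Fiber S) :=
    ringKrullDim_eq_of_ringEquiv
      (Algebra.TensorProduct.congr e1 (AlgEquiv.refl (R := R) (A₁ := S))).toRingEquiv
  have h2 : ringKrullDim (FractionRing R ⊗[R] S) = ringKrullDim ((⊥ : Ideal R).Fiber S) :=
    ringKrullDim_eq_of_ringEquiv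
      (Algebra.TensorProduct.congr e2 (AlgEquiv.refl (R := R) (A₁ := S))).toRingEquiv
  rw [h1, h2]
  let y0 : PrimeSpectrum R := IsLocalRing.closedPoint R
  let η0 : PrimeSpectrum R := ⟨⊥, Ideal.isPrime_bot⟩
  -- nonempty closed fibre
  have hne : Nonempty ↥(f.fiber (IsLocalRing.closedPoint R)) := by
    haveI : Nontrivial (m.ResidueField ⊗[R] S) :=
      (Algebra.TensorProduct.congr e1 (AlgEquiv.refl (R := R) (A₁ := S))).toRingEquiv.injective.nontrivial
    obtain ⟨q⟩ := (inferInstance : Nonempty (PrimeSpectrum (m.Fiber S)))
    exact ⟨(f.fiberHomeo y0).symm ((PrimeSpectrum.preimageHomeomorphFiber R S y0).symm q)⟩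
  have key := Groth.Agent.S4932.result (A := R) f hne
  -- the generic point
  have hgp : genericPoint ↥(Spec (CommRingCat.of R)) = η0 := by
    have h3 : closure ({genericPoint ↥(Spec (CommRingCat.of R))} : Set ↥(Spec (CommRingCat.of R))) =
        Set.univ := (genericPoint_spec _).def
    have h4 : closure ({η0} : Set (PrimeSpectrum R)) = Set.univ := by
      rw [PrimeSpectrum.closure_singleton]
      exact PrimeSpectrum.zeroLocus_bot
    exact (inseparable_iff_closure_eq.mpr (h3.trans h4.symm)).eq
  rw [hgp] at key
  have k1 := hdim y0
  have k2 := hdim η0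
  exact k1.symm.trans (key.trans k2)

end Groth.Agent.S0444
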