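import Groth.Statements.S0445
import Mathlib
-- import your own Groth.Agent.* helpers here

set_option autoImplicit false
universe u
open FlatMor

namespace Groth.Agent.S0445

open CategoryTheory CategoryTheory.Limits AlgebraicGeometry in
/-- The open locus where two morphisms over `S` into an `S`-scheme with open diagonal agree. -/
theorem eqLocus_open {X Y S : Scheme.{u}} (p : Y ⟶ S) [IsOpenImmersion (pullback.diagonal p)]
    (f g : X ⟶ Y) (hfg : f ≫ p = g ≫ p) :
    ∃ U : X.Opens, U.ι ≫ f = U.ι ≫ g ∧
      ∀ x : X, (pullback.lift f g hfg) x ∈ Set.range (pullback.diagonal p) → x ∈ U := by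
  let Δ := pullback.diagonal p
  let fg : X ⟶ pullback p p := pullback.lift f g hfg
  refine ⟨fg ⁻¹ᵁ Δ.opensRange, ?_, fun x hx => hx⟩
  have hr : Set.range ((fg ⁻¹ᵁ Δ.opensRange).ι ≫ fg) ⊆ Set.range Δ := by
    rintro _ ⟨t, rfl⟩
    exact t.2
  let k := IsOpenImmersion.lift Δ ((fg ⁻¹ᵁ Δ.opensRange).ι ≫ fg) hr
  have hk : k ≫ Δ = (fg ⁻¹ᵁ Δ.opensRange).ι ≫ fg := IsOpenImmersion.lift_fac _ _ _
  have h1 : (fg ⁻¹ᵁ Δ.opensRange).ι ≫ f = k := by
    have := congr($hk ≫ pullback.fst p p)
    simp only [Category.assoc, Δ, pullback.diagonal_fst, Category.comp_id, fg, pullback.lift_fst] at this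
    exact this.symm
  have h2 : (fg ⁻¹ᵁ Δ.opensRange).ι ≫ g = k := by
    have := congr($hk ≫ pullback.snd p p)
    simp only [Category.assoc, Δ, pullback.diagonal_snd, Category.comp_id, fg, pullback.lift_snd] at this
    exact this.symm
  rw [h1, h2]

open AlgebraicGeometry CategoryTheory Limits in
/-- Two morphisms over S into an S-scheme unramified over S which agree at a point and induce the same
map on residue fields there agree on an open neighbourhood of that point. -/
theorem result {X Y S : Scheme.{u}} (p : Y ⟶ S) [FormallyUnramified p] [LocallyOfFiniteType p] (f g : X ⟶ Y) (hfg : f ≫ p = g ≫ p)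
    (x : X) (h1 : f x = g x) (h2 : f.residueFieldMap x = (Y.residueFieldCongr h1).hom ≫ g.residueFieldMap x) :
    ∃ U : X.Opens, x ∈ U ∧ U.ι ≫ f = U.ι ≫ g := by
  obtain ⟨U, hU, hmem⟩ := eqLocus_open p f g hfg
  refine ⟨U, hmem x ?_, hU⟩
  have key : X.fromSpecResidueField x ≫ pullback.lift f g hfg =
      (Spec.map (f.residueFieldMap x) ≫ Y.fromSpecResidueField (f x)) ≫ pullback.diagonal p := by
    apply pullback.hom_ext
    · simp only [Category.assoc, pullback.lift_fst, pullback.diagonal_fst, Category.comp_id]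
      exact (f.SpecMap_residueFieldMap_fromSpecResidueField x).symm
    · simp only [Category.assoc, pullback.lift_snd, pullback.diagonal_snd, Category.comp_id]
      rw [h2, Spec.map_comp, Category.assoc, Scheme.residueFieldCongr_fromSpecResidueField]
      exact (g.SpecMap_residueFieldMap_fromSpecResidueField x).symm
  have hx : x = X.fromSpecResidueField x (IsLocalRing.closedPoint (X.residueField x)) :=
    (Scheme.fromSpecResidueField_apply x _).symm
  rw [hx, ← Scheme.Hom.comp_apply, key, Scheme.Hom.comp_apply]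
  exact ⟨_, rfl⟩

end Groth.Agent.S0445
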