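import Groth.Statements.S0448
import Mathlib
-- import your own Groth.Agent.* helpers here

set_option autoImplicit false
universe u
open FlatMor

namespace Groth.Agent.S0448

open TensorProduct

/-- a product of two flat modules is flat. -/
theorem flat_prod {R M₁ M₂ : Type u} [CommRing R] [AddCommGroup M₁] [Module R M₁]
    [AddCommGroup M₂] [Module R M₂] [Module.Flat R M₁] [Module.Flat R M₂] :
    Module.Flat R (M₁ × M₂) := by
  rw [Module.Flat.iff_rTensor_preserves_injective_linearMap]
  intro A B _ _ _ _ f hf
  rw [injective_iff_map_eq_zero]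
  intro x hx
  have h1 : LinearMap.lTensor A (LinearMap.fst R M₁ M₂) x = 0 := by
    apply Module.Flat.rTensor_preserves_injective_linearMap (M := M₁) f hf
    rw [map_zero, ← LinearMap.comp_apply, LinearMap.rTensor_comp_lTensor,
      ← LinearMap.lTensor_comp_rTensor, LinearMap.comp_apply, hx, map_zero]
  have h2 : LinearMap.lTensor A (LinearMap.snd R M₁ M₂) x = 0 := by
    apply Module.Flat.rTensor_preserves_injective_linearMap (M := M₂) f hf
    rw [map_zero, ← LinearMap.comp_apply, LinearMap.rTensor_comp_lTensor,
      ← LinearMap.lTensor_comp_rTensor, LinearMap.comp_apply, hx, map_zero]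
  have hid : (LinearMap.inl R M₁ M₂) ∘ₗ (LinearMap.fst R M₁ M₂) +
      (LinearMap.inr R M₁ M₂) ∘ₗ (LinearMap.snd R M₁ M₂) = LinearMap.id := by
    ext x <;> simp
  have h3 : x = LinearMap.lTensor A (LinearMap.inl R M₁ M₂)
        (LinearMap.lTensor A (LinearMap.fst R M₁ M₂) x) +
      LinearMap.lTensor A (LinearMap.inr R M₁ M₂)
        (LinearMap.lTensor A (LinearMap.snd R M₁ M₂) x) := by
    rw [← LinearMap.comp_apply, ← LinearMap.lTensor_comp, ← LinearMap.comp_apply,
      ← LinearMap.lTensor_comp, ← LinearMap.add_apply, ← LinearMap.lTensor_add, hid,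
      LinearMap.lTensor_id, LinearMap.id_apply]
  rw [h3, h1, h2, map_zero, map_zero, add_zero]

/-- The case of a free source. -/
theorem free_case {R M N : Type u} [CommRing R] [IsLocalRing R] [AddCommGroup M] [Module R M]
    [Module.Free R M] [AddCommGroup N] [Module R N] [Module.Flat R N] (u : M →ₗ[R] N)
    (h : Function.Injective (LinearMap.lTensor (IsLocalRing.ResidueField R) u))
    (Q : Type u) [AddCommGroup Q] [Module R Q] : Function.Injective (LinearMap.rTensor Q u) := by
  classical
  let b : Module.Basis (Module.Free.ChooseBasisIndex R M) R M := Module.Free.chooseBasis R M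
  rw [injective_iff_map_eq_zero]
  intro z hz
  obtain ⟨c, rfl⟩ := TensorProduct.eq_repr_basis_left b z
  suffices hc : c = 0 by rw [hc]; simp
  set s := c.support with hs
  have hz1 : ∑ i : s, (c i) ⊗ₜ[R] u (b i) = (0 : Q ⊗[R] N) := by
    have := congrArg (TensorProduct.comm R N Q) hz
    rw [Finsupp.sum, map_sum, map_sum, map_zero] at this
    simp only [LinearMap.rTensor_tmul, TensorProduct.comm_tmul] at this
    rw [Finset.sum_coe_sort s (fun i => c i ⊗ₜ[R] u (b i))]
    exact this
  obtain ⟨k, a, y, hay, ham⟩ :=
    TensorProduct.vanishesTrivially_of_sum_tmul_eq_zero_of_rTensor_injective R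
      (Module.Flat.rTensor_preserves_injective_linearMap _ (Submodule.injective_subtype _)) hz1
  -- the linear maps
  let α : (s → R) →ₗ[R] (Fin k → R) := Fintype.linearCombination R a
  let y' : (Fin k → R) →ₗ[R] N := Fintype.linearCombination R y
  let e : (s → R) →ₗ[R] M := Fintype.linearCombination R (fun i : s => b i)
  let e' : M →ₗ[R] (s → R) := LinearMap.pi (fun i : s => b.coord i)
  have he'e : e' ∘ₗ e = LinearMap.id := by
    apply LinearMap.pi_ext'
    intro i
    ext l
    simp only [LinearMap.coe_comp, LinearMap.coe_single, Function.comp_apply,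
      LinearMap.id_coe, id_eq]
    show b.coord l (e (Pi.single i 1)) = _
    rw [Fintype.linearCombination_apply_single, one_smul, Module.Basis.coord_apply,
      Module.Basis.repr_self, Finsupp.single_apply, Pi.single_apply]
    by_cases hil : (i : Module.Free.ChooseBasisIndex R M) = l
    · rw [if_pos hil, if_pos (Subtype.ext hil.symm)]
    · rw [if_neg hil, if_neg (fun hli => hil (congrArg Subtype.val hli).symm)]
  have hyα : y' ∘ₗ α = u ∘ₗ e := by
    apply LinearMap.pi_ext'
    intro i
    ext
    simp only [LinearMap.coe_comp, LinearMap.coe_single, Function.comp_apply]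
    show y' (α (Pi.single i 1)) = u (e (Pi.single i 1))
    rw [Fintype.linearCombination_apply_single, Fintype.linearCombination_apply_single, one_smul,
      one_smul]
    rw [show y' (a i) = ∑ j, a i j • y j from Fintype.linearCombination_apply R y (a i)]
    exact (hay i).symm
  have hαinj : Function.Injective (LinearMap.lTensor (IsLocalRing.ResidueField R) α) := by
    have h1 : Function.Injective (LinearMap.lTensor (IsLocalRing.ResidueField R) (y' ∘ₗ α)) := by
      rw [hyα, LinearMap.lTensor_comp]
      refine h.comp ?_
      have : LinearMap.lTensor (IsLocalRing.ResidueField R) e' ∘ₗ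
          LinearMap.lTensor (IsLocalRing.ResidueField R) e = LinearMap.id := by
        rw [← LinearMap.lTensor_comp, he'e, LinearMap.lTensor_id]
      exact Function.HasLeftInverse.injective ⟨_, LinearMap.congr_fun this⟩
    rw [LinearMap.lTensor_comp] at h1
    exact Function.Injective.of_comp h1
  obtain ⟨α', hα'⟩ :=
    (IsLocalRing.split_injective_iff_lTensor_residueField_injective α).mpr hαinj
  -- the coefficients vanish
  have hkey : ∀ i l : s, ∑ j, a i j * α' (Pi.single j 1) l = if i = l then 1 else 0 := by
    intro i l
    have h1 : α' (α (Pi.single i 1)) = Pi.single i 1 := LinearMap.congr_fun hα' _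
    have h2 : α (Pi.single i 1) = ∑ j, a i j • (Pi.single j 1 : Fin k → R) := by
      show Fintype.linearCombination R a (Pi.single i 1) = _
      rw [Fintype.linearCombination_apply_single, one_smul]
      ext j'
      simp [Finset.sum_apply, Pi.single_apply]
    rw [h2, map_sum] at h1
    have h3 := congrFun h1 l
    simp only [map_smul, Finset.sum_apply, Pi.smul_apply, smul_eq_mul] at h3
    rw [h3, Pi.single_apply]
    simp [eq_comm]
  have hcl : ∀ l : s, c l = 0 := by
    intro l
    have h1 : c l = ∑ i : s, (if i = l then (1 : R) else 0) • c i := by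
      simp
    rw [h1]
    simp_rw [← hkey _ l, Finset.sum_smul, mul_comm (a _ _), mul_smul]
    rw [Finset.sum_comm]
    simp_rw [← Finset.smul_sum, ham, smul_zero, Finset.sum_const_zero]
  ext i
  by_cases hi : i ∈ s
  · exact hcl ⟨i, hi⟩
  · simpa [hs] using hi


open TensorProduct in
/-- Over a local ring, a linear map from a projective module to a flat module which is injective modulo
the maximal ideal is universally injective (injective after tensoring with any module). -/
theorem result {R M N : Type u} [CommRing R] [IsLocalRing R] [AddCommGroup M] [Module R M] [Module.Projective R M]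
    [AddCommGroup N] [Module R N] [Module.Flat R N] (u : M →ₗ[R] N)
    (h : Function.Injective (LinearMap.lTensor (IsLocalRing.ResidueField R) u)) :
    ∀ (Q : Type u) [AddCommGroup Q] [Module R Q], Function.Injective (LinearMap.rTensor Q u) := by
  intro Q _ _
  obtain ⟨σ, hσ⟩ := (Module.projective_def' (R := R) (P := M)).mp inferInstance
  let F := M →₀ R
  let π : F →ₗ[R] M := Finsupp.linearCombination R id
  have : Module.Flat R (N × F) := flat_prod
  let u' : F →ₗ[R] N × F := LinearMap.prod (u ∘ₗ π) (LinearMap.id - σ ∘ₗ π)
  have hfst : LinearMap.fst R N F ∘ₗ u' = u ∘ₗ π := rfl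
  have hsnd : LinearMap.snd R N F ∘ₗ u' = LinearMap.id - σ ∘ₗ π := rfl
  have hu' : Function.Injective (LinearMap.lTensor (IsLocalRing.ResidueField R) u') := by
    rw [injective_iff_map_eq_zero]
    intro z hz
    have h1 : LinearMap.lTensor (IsLocalRing.ResidueField R) π z = 0 := by
      apply h
      rw [map_zero, ← LinearMap.comp_apply, ← LinearMap.lTensor_comp, ← hfst,
        LinearMap.lTensor_comp, LinearMap.comp_apply, hz, map_zero]
    have h2 : LinearMap.lTensor (IsLocalRing.ResidueField R) (LinearMap.id - σ ∘ₗ π) z = 0 := by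
      rw [← hsnd, LinearMap.lTensor_comp, LinearMap.comp_apply, hz, map_zero]
    rw [LinearMap.lTensor_sub, LinearMap.lTensor_id, LinearMap.lTensor_comp, LinearMap.sub_apply,
      LinearMap.comp_apply, h1, map_zero, sub_zero] at h2
    exact h2
  have hfree := free_case u' hu' Q
  -- restrict along `σ`
  have hcomp : u' ∘ₗ σ = LinearMap.inl R N F ∘ₗ u := by
    apply LinearMap.ext
    intro m
    have hπσ : π (σ m) = m := LinearMap.congr_fun hσ m
    show ((u (π (σ m)), σ m - σ (π (σ m))) : N × F) = (u m, 0)
    rw [hπσ, sub_self]
  have hσinj : Function.Injective (LinearMap.rTensor Q σ) := by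
    have : LinearMap.rTensor Q π ∘ₗ LinearMap.rTensor Q σ = LinearMap.id := by
      rw [← LinearMap.rTensor_comp, hσ, LinearMap.rTensor_id]
    exact Function.HasLeftInverse.injective ⟨_, LinearMap.congr_fun this⟩
  have h3 : Function.Injective (LinearMap.rTensor Q (u' ∘ₗ σ)) := by
    rw [LinearMap.rTensor_comp]
    exact hfree.comp hσinj
  rw [hcomp, LinearMap.rTensor_comp] at h3
  exact Function.Injective.of_comp h3

end Groth.Agent.S0448
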