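import Groth.Statements.S0450
import Mathlib
import Groth.Agent.Lib.Helper21.FlatQF
-- import your own Groth.Agent.* helpers here

set_option autoImplicit false
universe u
open FlatMor

namespace Groth.Agent.S0450

open AlgebraicGeometry CategoryTheory Limits in
/-- A flat proper morphism locally of finite presentation that is finite over a dense open subset of the
target is finite (the source alternatively allows the open to be retrocompact instead of assuming
finite presentation; only this alternative is stated). -/
theorem result {X S : Scheme.{u}} (f : X ⟶ S) [Flat f] [IsProper f] [LocallyOfFinitePresentation f] (U : S.Opens)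
    (hU : Dense (U : Set ↑S)) [IsFinite (f ∣_ U)] : IsFinite f := by
  have : LocallyQuasiFinite f := by
    apply Groth.Agent.Lib.Helper21.FlatQF.locallyQuasiFinite_of_dense f (U : Set ↑S) hU
    intro x hx
    have hmem : x ∈ Set.range (f ⁻¹ᵁ U).ι := by
      rw [Scheme.Opens.range_ι]
      exact hx
    obtain ⟨x', rfl⟩ := hmem
    have h1 : (f ∣_ U).QuasiFiniteAt x' := (f ∣_ U).quasiFiniteAt x'
    have h2 : ((f ∣_ U) ≫ U.ι).QuasiFiniteAt x' := Scheme.Hom.quasiFiniteAt_comp_iff.mpr h1
    have key : ∀ (φ : ((f ⁻¹ᵁ U : X.Opens) : Scheme.{u}) ⟶ S), φ = (f ⁻¹ᵁ U).ι ≫ f →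
        φ.QuasiFiniteAt x' → ((f ⁻¹ᵁ U).ι ≫ f).QuasiFiniteAt x' := by
      intro φ hφ h
      subst hφ
      exact h
    have h3 := key _ (morphismRestrict_ι f U) h2
    exact Scheme.Hom.quasiFiniteAt_comp_iff_of_isOpenImmersion.mp h3
  exact IsFinite.of_isProper_of_locallyQuasiFinite f

end Groth.Agent.S0450
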