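import Groth.Statements.S0457
import Groth.Agent.Lib.Cohomology.Helper3_Flasque
import Mathlib.CategoryTheory.Sites.LocallyBijective
import Mathlib.Topology.Irreducible

set_option autoImplicit false
universe u
open CategoryTheory
open CohTop

namespace Groth.Agent.S0457

open TopologicalSpace Opposite CategoryTheory.Limits Groth.Agent.Lib.Cohomology

variable {X : TopCat.{u}} (A : Type u) [AddCommGroup A]

/-- The presheaf `U ↦ A` for `U` nonempty, `0` for `U` empty, realised as functions from the
proposition "`U` is nonempty" to `A`. -/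
def irrPre : (Opens X)ᵒᵖ ⥤ AddCommGrpCat.{u} where
  obj U := AddCommGrpCat.of (PLift (Nonempty U.unop) → A)
  map i := AddCommGrpCat.ofHom
    { toFun := fun t h => t ⟨h.down.map (fun x => ⟨x.1, leOfHom i.unop x.2⟩)⟩
      map_zero' := rfl
      map_add' := fun _ _ => rfl }
  map_id _ := rfl
  map_comp _ _ := rfl

lemma irrPre_map_apply {U V : (Opens X)ᵒᵖ} (i : U ⟶ V) (t : (irrPre (X := X) A).obj U)
    (h : PLift (Nonempty V.unop)) (h' : PLift (Nonempty U.unop)) :
    ((irrPre A).map i t) h = t h' := by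
  have : h' = ⟨h.down.map (fun x => ⟨x.1, leOfHom i.unop x.2⟩)⟩ := Subsingleton.elim _ _
  rw [this]
  rfl

lemma irrPre_ext {U : (Opens X)ᵒᵖ} {s t : (irrPre (X := X) A).obj U}
    (h : ∀ h : PLift (Nonempty U.unop), s h = t h) : s = t := funext h


lemma irrPre_isSheaf [IrreducibleSpace X] : TopCat.Presheaf.IsSheaf (irrPre (X := X) A) := by
  rw [TopCat.Presheaf.isSheaf_iff_isSheafUniqueGluing]
  intro ι U sf hsf
  -- values of compatible sections agree
  have hagree : ∀ (i j : ι) (hi : PLift (Nonempty (U i))) (hj : PLift (Nonempty (U j))),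
      sf i hi = sf j hj := by
    intro i j hi hj
    obtain ⟨⟨xi, hxi⟩⟩ := hi.down
    obtain ⟨⟨xj, hxj⟩⟩ := hj.down
    obtain ⟨z, hz⟩ := nonempty_preirreducible_inter (U i).isOpen (U j).isOpen ⟨xi, hxi⟩ ⟨xj, hxj⟩
    have hij : PLift (Nonempty ((U i ⊓ U j : Opens X))) := ⟨⟨⟨z, hz⟩⟩⟩
    have h1 := congrFun (hsf i j) hij
    rw [irrPre_map_apply A _ _ hij hi, irrPre_map_apply A _ _ hij hj] at h1
    exact h1
  classical
  -- the glued section
  have hex : ∀ h : PLift (Nonempty (iSup U : Opens X)), ∃ i, Nonempty (U i) := by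
    rintro ⟨⟨⟨x, hx⟩⟩⟩
    obtain ⟨i, hi⟩ := Opens.mem_iSup.1 hx
    exact ⟨i, ⟨⟨x, hi⟩⟩⟩
  let s : (irrPre (X := X) A).obj (op (iSup U)) := fun h =>
    sf (hex h).choose ⟨(hex h).choose_spec⟩
  refine ⟨s, ?_, ?_⟩
  · intro i
    apply irrPre_ext
    intro hi
    have hsup : PLift (Nonempty (iSup U : Opens X)) :=
      ⟨hi.down.map (fun x => ⟨x.1, (le_iSup U i) x.2⟩)⟩
    refine (irrPre_map_apply A _ s hi hsup).trans ?_
    exact hagree _ _ _ _
  · intro s' hs'
    apply irrPre_ext
    intro h
    have hi : PLift (Nonempty (U (hex h).choose)) := ⟨(hex h).choose_spec⟩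
    have := congrFun (hs' (hex h).choose) hi
    rw [irrPre_map_apply A _ _ hi h] at this
    rw [this]

/-- the flasque model of the constant sheaf on an irreducible space -/
def irrSheaf [IrreducibleSpace X] : CohTop.Ab X := ⟨irrPre A, irrPre_isSheaf A⟩

instance [IrreducibleSpace X] : TopCat.Sheaf.IsFlasque (irrSheaf (X := X) A) := by
  refine ⟨fun {U V} i => ?_⟩
  rw [AddCommGrpCat.epi_iff_surjective]
  intro t'
  classical
  refine ⟨fun h => if hV : Nonempty V.unop then t' ⟨hV⟩ else 0, ?_⟩
  apply irrPre_ext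
  intro hV
  have hU : PLift (Nonempty U.unop) := ⟨hV.down.map (fun x => ⟨x.1, leOfHom i.unop x.2⟩)⟩
  refine (irrPre_map_apply A i _ hV hU).trans ?_
  exact dif_pos hV.down


/-- the map from the constant presheaf -/
def toIrr : (Functor.const (Opens X)ᵒᵖ).obj (AddCommGrpCat.of A) ⟶ irrPre (X := X) A where
  app U := AddCommGrpCat.ofHom
    { toFun := fun a _ => a
      map_zero' := rfl
      map_add' := fun _ _ => rfl }
  naturality _ _ _ := rfl

lemma toIrr_app_apply (U : (Opens X)ᵒᵖ) (a : A) (h : PLift (Nonempty U.unop)) :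
    ((toIrr (X := X) A).app U a) h = a := rfl

instance : Presheaf.IsLocallyInjective (Opens.grothendieckTopology X) (toIrr (X := X) A) where
  equalizerSieve_mem {U} a b hab := by
    rw [Opens.mem_grothendieckTopology]
    intro x hx
    have hU : PLift (Nonempty U.unop) := ⟨⟨⟨x, hx⟩⟩⟩
    have : a = b := by
      have := congrFun hab hU
      exact this
    refine ⟨U.unop, 𝟙 _, ?_, hx⟩
    change _ = _
    rw [this]

instance : Presheaf.IsLocallySurjective (Opens.grothendieckTopology X) (toIrr (X := X) A) where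
  imageSieve_mem {U} t := by
    have _ := U
    rw [Opens.mem_grothendieckTopology]
    intro x hx
    have hU : PLift (Nonempty U) := ⟨⟨⟨x, hx⟩⟩⟩
    refine ⟨U, 𝟙 _, ⟨t hU, ?_⟩, hx⟩
    apply irrPre_ext
    intro h
    refine (toIrr_app_apply A _ _ h).trans ?_
    exact (irrPre_map_apply A _ t h hU).symm

/-- the constant sheaf on an irreducible space is isomorphic to the flasque model -/
noncomputable def constIso [IrreducibleSpace X] : CohTop.const X A ≅ irrSheaf (X := X) A := by
  have hW : (Opens.grothendieckTopology X).W (toIrr (X := X) A) :=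
    GrothendieckTopology.W_of_isLocallyBijective _ _
  rw [GrothendieckTopology.W_iff] at hW
  exact (asIso ((presheafToSheaf (Opens.grothendieckTopology X) AddCommGrpCat.{u}).map
    (toIrr (X := X) A))).trans (sheafificationIso (irrSheaf (X := X) A)).symm

theorem main [IrreducibleSpace X] (p : ℕ) : Subsingleton (CohTop.H (CohTop.const X A) (p + 1)) := by
  have h := H_succ_subsingleton_of_flasque (irrSheaf (X := X) A) p
  refine subsingleton_of_forall_eq 0 fun x => ?_
  have e := constIso (X := X) A
  have h1 : Sheaf.H.map (e.hom ≫ e.inv) (p + 1) x = x := by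
    rw [e.hom_inv_id, Sheaf.H.map_id_apply]
  rw [Sheaf.H.map_comp_apply] at h1
  rw [← h1, Subsingleton.elim (Sheaf.H.map e.hom (p + 1) x) 0, map_zero]


/-- If X is an irreducible topological space and A an abelian group, then H^(p+1)(X, A) = 0 for the
constant sheaf with value A. -/
theorem result {X : TopCat.{u}} [IrreducibleSpace X]
    (A : Type u) [AddCommGroup A] (p : ℕ) : Subsingleton (CohTop.H (CohTop.const X A) (p + 1)) := by
  exact main A p

end Groth.Agent.S0457
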