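import Groth.Statements.S0474
import Groth.Agent.Lib.Helper6.Brown
import Mathlib.CategoryTheory.Adjunction.PartialAdjoint
import Mathlib.CategoryTheory.Preadditive.Yoneda.Limits
import Mathlib.CategoryTheory.Triangulated.Opposite.Functor
import Mathlib.CategoryTheory.Triangulated.Yoneda
import Mathlib.CategoryTheory.Limits.Preserves.Opposites

set_option autoImplicit false
universe v u u'
open CategoryTheory
open CohDer

namespace Groth.Agent.S0474

open CategoryTheory.Limits in
/-- Let D be a compactly generated triangulated category with direct sums and F : D ⥤ D' an exact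
functor of (pre)triangulated categories commuting with direct sums. Then F is a left adjoint. (The
source also shows the adjoint is exact; we only assert existence.) -/
theorem result {D : Type u} [Category.{v} D] [Preadditive D] [Limits.HasZeroObject D] [HasShift D ℤ]
    [∀ n : ℤ, (shiftFunctor D n).Additive] [Pretriangulated D] [IsTriangulated D] [HasCoproducts.{v} D]
    {D' : Type u'} [Category.{v} D'] [Preadditive D'] [Limits.HasZeroObject D'] [HasShift D' ℤ]
    [∀ n : ℤ, (shiftFunctor D' n).Additive] [Pretriangulated D']
    (hD : CohDer.IsCompactlyGenerated D) (F : D ⥤ D') [F.CommShift ℤ] [F.IsTriangulated]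
    [∀ (ι : Type v), PreservesColimitsOfShape (Discrete ι) F] : F.IsLeftAdjoint := by
  open CategoryTheory.Pretriangulated.Opposite in
  apply Functor.isLeftAdjoint_of_rightAdjointObjIsDefined_eq_top
  ext Y
  simp only [Pi.top_apply, Prop.top_eq_true, iff_true]
  rw [Functor.rightAdjointObjIsDefined_iff]
  let H : Dᵒᵖ ⥤ AddCommGrpCat.{v} := F.op ⋙ preadditiveYoneda.obj Y
  have h1 : ∀ (κ : Type v), PreservesLimitsOfShape (Discrete κ) H := fun κ => by
    have : PreservesLimitsOfShape (Discrete κ) F.op := by
      have : PreservesColimitsOfShape (Discrete κ)ᵒᵖ F :=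
        Limits.preservesColimitsOfShape_of_equiv (Discrete.opposite κ).symm F
      exact Limits.preservesLimitsOfShape_op (Discrete κ) F
    infer_instance
  have h2 : H.IsHomological := inferInstance
  obtain ⟨X, ⟨rep⟩⟩ := Groth.Agent.Lib.Helper6.Brown.isRepresentable H hD
  exact ⟨X, ⟨{ homEquiv := rep.homEquiv, homEquiv_comp := rep.homEquiv_comp }⟩⟩

end Groth.Agent.S0474
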