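import Groth.Statements.S0478
import Groth.Agent.Lib.Helper99.ProdCxU
import Groth.Agent.Lib.Helper99.KInjRes

set_option autoImplicit false
universe v u
open CategoryTheory
open CohDer

namespace Groth.Agent.S0478

open CategoryTheory.Limits in
/-- For a Grothendieck abelian category A the derived category D(A) has all products indexed by small
types. The published statement also computes them as termwise products of K-injective
representatives, which is not asserted here. -/
theorem result {A : Type u} [Category.{v} A] [Abelian A] [IsGrothendieckAbelian.{v} A]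
    [HasDerivedCategory.{v} A] : HasProducts.{v} (DerivedCategory A) := by
  intro J
  refine ⟨fun F => ?_⟩
  have h : ∀ j : J, ∃ (I : CochainComplex A ℤ), I.IsKInjective ∧
      Nonempty (F.obj ⟨j⟩ ≅ DerivedCategory.Q.obj I) := by
    intro j
    obtain ⟨I, f, hI, hf, -, -⟩ :=
      Groth.Agent.Lib.Helper99.KInj.exists_kInjective_resolution
        (DerivedCategory.Q.objPreimage (F.obj ⟨j⟩))
    haveI := hf
    exact ⟨I, hI, ⟨(DerivedCategory.Q.objObjPreimageIso (F.obj ⟨j⟩)).symm ≪≫
      asIso (DerivedCategory.Q.map f)⟩⟩
  choose I hI e using h
  haveI := Groth.Agent.Lib.Helper99.ProdCxU.hasProduct_Q I hI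
  exact hasLimit_of_iso (F := Discrete.functor (fun n => DerivedCategory.Q.obj (I n)))
    (Discrete.natIso (fun n => (e n.as).some.symm))

end Groth.Agent.S0478
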