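import Groth.Statements.S0483
import Groth.Agent.Lib.Cohomology.helper5_SiteH

set_option autoImplicit false
universe u
open CategoryTheory
open CohSite

namespace Groth.Agent.S0483

section Helpers

open Abelian Opposite CategoryTheory.Limits Groth.Agent.Lib.Cohomology.ExtShift
  Groth.Agent.Lib.Cohomology.SiteH

variable {C : Type u} [SmallCategory C] {J : GrothendieckTopology C}
  {S : ShortComplex (Sheaf J AddCommGrpCat.{u})} (hS : S.ShortExact)

lemma res_extδ {U V : C} (a : V ⟶ U) (n : ℕ) (x : Ext.{u} (zz J U) S.X₃ n) :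
    CohSite.res S.X₁ (n + 1) a (extδ hS (zz J U) n x) =
      extδ hS (zz J V) n (CohSite.res S.X₃ n a x) := by
  change (Sheaf.cohomologyPresheaf.{u} S.X₁ (n + 1)).map a.op (extδ hS _ n x) =
    extδ hS _ n ((Sheaf.cohomologyPresheaf.{u} S.X₃ n).map a.op x)
  rw [cohomologyPresheaf_map_apply, cohomologyPresheaf_map_apply, extδ_apply, extδ_apply]
  exact (Ext.comp_assoc _ _ _ (zero_add n) rfl (by omega)).symm

lemma res_sectδ {U V : C} (a : V ⟶ U) (t : S.X₃.obj.obj (op U)) :
    CohSite.res S.X₁ 1 a (sectδ hS U t) = sectδ hS V (S.X₃.obj.map a.op t) := by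
  change (Sheaf.cohomologyPresheaf.{u} S.X₁ 1).map a.op (sectδ hS U t) = _
  rw [cohomologyPresheaf_map_apply, sectδ_apply, sectδ_apply,
    ← Ext.comp_assoc (Ext.mk₀ _) (Ext.mk₀ _) hS.extClass (zero_add 0) (zero_add 1) (by omega),
    Ext.mk₀_comp_mk₀]
  congr 2
  exact (ofSect_res J S.X₃ a t).symm

/-- every positive-degree cohomology class dies on a covering sieve -/
theorem kill_class (n : ℕ) : ∀ (F : Sheaf J AddCommGrpCat.{u}) (U : C) (ξ : CohSite.HU F (n + 1) U),
    ∃ (T : J.Cover U), ∀ (a : T.Arrow), CohSite.res F (n + 1) a.f ξ = 0 := by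
  induction n with
  | zero =>
    intro F U ξ
    have hS := injSES_shortExact F
    obtain ⟨t, rfl⟩ := sectδ_surjective hS U ξ
    have hepi : Epi (injSES F).g := hS.epi_g
    have hloc : Presheaf.IsLocallySurjective J (injSES F).g.hom :=
      (Sheaf.isLocallySurjective_iff_epi' (φ := (injSES F).g)).2 hepi
    have hT : Presheaf.imageSieve (injSES F).g.hom t ∈ J U :=
      Presheaf.imageSieve_mem J (injSES F).g.hom t
    refine ⟨⟨_, hT⟩, fun a => ?_⟩
    obtain ⟨s, hs⟩ := a.hf
    refine (res_sectδ hS a.f t).trans ?_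
    have : (injSES F).X₃.obj.map a.f.op t ∈ (sectδ hS a.Y).ker := by
      rw [sectδ_ker]
      exact ⟨s, hs⟩
    exact this
  | succ n ih =>
    intro F U ξ
    have hS := injSES_shortExact F
    obtain ⟨η, rfl⟩ := extδ_surjective hS (zz J U) (n + 1)
      (fun x => Ext.eq_zero_of_injective x) ξ
    obtain ⟨T, hT⟩ := ih (injSES F).X₃ U η
    refine ⟨T, fun a => ?_⟩
    refine (res_extδ hS a.f (n + 1) η).trans ?_
    rw [hT a]
    exact (extδ hS (zz J a.Y) (n + 1)).map_zero

end Helpers

/-- For an abelian sheaf F on a small site, an object U and a class ξ in H^(n+1)(U, F), there is a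
covering sieve of U such that ξ pulls back to zero along every arrow of the sieve. -/
theorem result {C : Type u} [SmallCategory C] (J : GrothendieckTopology C)
    (F : Sheaf J AddCommGrpCat.{u}) (U : C) (n : ℕ) (ξ : CohSite.HU F (n + 1) U) :
    ∃ (S : J.Cover U), ∀ (a : S.Arrow), CohSite.res F (n + 1) a.f ξ = 0 := by
  exact kill_class n F U ξ

end Groth.Agent.S0483
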