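import Groth.Statements.S0490
import Mathlib
import Groth.Agent.Lib.Helper32.MVSq
-- import your own Groth.Agent.* helpers here

set_option autoImplicit false
universe v u
open CategoryTheory
open CohDer


namespace Groth.Agent.S0490.Aux
open CategoryTheory.Limits CategoryTheory.Pretriangulated Groth.Agent.Lib.Helper32.MVSq
set_option linter.unusedSectionVars false


variable {D : Type u} [Category.{v} D] [Preadditive D] [Limits.HasZeroObject D] [HasShift D ℤ]
    [∀ n : ℤ, (shiftFunctor D n).Additive] [Pretriangulated D]
    (P : ObjectProperty D) [P.IsTriangulated]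

lemma shift_closed (X : D) (n : ℤ) (h : P X) : P (X⟦n⟧) := P.le_shift n X h

lemma kequiv_counit {R : D ⥤ P.FullSubcategory} (adj : P.ι ⊣ R) (X : D) :
    KEquiv (fun X => P X) (adj.counit.app X) := by
  intro Y hY
  let Y' : P.FullSubcategory := ⟨Y, hY⟩
  constructor
  · intro x x' hxx
    dsimp at hxx
    have h1 : (adj.homEquiv Y' X).symm (P.homMk x) = (adj.homEquiv Y' X).symm (P.homMk x') := by
      rw [Adjunction.homEquiv_counit, Adjunction.homEquiv_counit]
      exact hxx
    have h2 := (adj.homEquiv Y' X).symm.injective h1
    exact congrArg (fun f => f.hom) h2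
  · intro y
    refine ⟨((adj.homEquiv Y' X) y).hom, ?_⟩
    have h1 := (adj.homEquiv Y' X).symm_apply_apply y
    rw [Adjunction.homEquiv_counit] at h1
    exact h1


end Groth.Agent.S0490.Aux

namespace Groth.Agent.S0490

open CategoryTheory.Pretriangulated in
/-- Let A be a full triangulated subcategory of a pretriangulated category D (an object property
containing zero, stable under shifts and closed under extensions). The inclusion A → D is a left
adjoint (i.e. has a right adjoint) if and only if every object X of D fits in a distinguished
triangle A → X → B → A[1] with A in the subcategory and B right orthogonal to it. (The source's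
further conclusions about saturation are not asserted.) -/
theorem result {D : Type u} [Category.{v} D] [Preadditive D] [Limits.HasZeroObject D] [HasShift D ℤ]
    [∀ n : ℤ, (shiftFunctor D n).Additive] [Pretriangulated D]
    (P : ObjectProperty D) [P.IsTriangulated] :
    P.ι.IsLeftAdjoint ↔ ∀ X : D, ∃ (A B : D) (f : A ⟶ X) (g : X ⟶ B) (h : B ⟶ (shiftFunctor D (1 : ℤ)).obj A),
      Triangle.mk f g h ∈ distinguishedTriangles ∧ P A ∧ P.rightOrthogonal B := by
  open CategoryTheory.Limits Groth.Agent.Lib.Helper32.MVSq in
  constructor
  · intro hL X
    have adj := Adjunction.ofIsLeftAdjoint P.ι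
    obtain ⟨B, g, h, hT⟩ := distinguished_cocone_triangle (adj.counit.app X)
    refine ⟨_, B, adj.counit.app X, g, h, hT, (P.ι.rightAdjoint.obj X).property, ?_⟩
    have := ROrth.of_kequiv (Aux.shift_closed P) _ hT (Aux.kequiv_counit P adj X)
    intro Y f hY
    exact this Y hY f
  · intro H
    rw [isLeftAdjoint_iff_hasTerminal_costructuredArrow]
    intro X
    obtain ⟨A, B, f, g, h, hT, hA, hB⟩ := H X
    have hk : KEquiv (fun X => P X) f :=
      KEquiv.of_rorth (Aux.shift_closed P) _ hT (fun Y hY φ => hB φ hY)
    let T : CostructuredArrow P.ι X := CostructuredArrow.mk (Y := (⟨A, hA⟩ : P.FullSubcategory)) f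
    have hT : IsTerminal T := by
      refine IsTerminal.ofUniqueHom
        (fun s => CostructuredArrow.homMk
          (P.homMk ((hk s.left.obj s.left.property).2 s.hom).choose)
          ((hk s.left.obj s.left.property).2 s.hom).choose_spec) (fun s m => ?_)
      apply CostructuredArrow.hom_ext
      apply P.ι.map_injective
      apply (hk s.left.obj s.left.property).1
      have h1 := ((hk s.left.obj s.left.property).2 s.hom).choose_spec
      have h2 := CostructuredArrow.w m
      have h2' : m.left.hom ≫ f = s.hom := h2
      show m.left.hom ≫ f = _ ≫ f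
      rw [h2']
      exact h1.symm
    exact hT.hasTerminal


end Groth.Agent.S0490
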