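import Groth.Statements.S0496
import Mathlib.RingTheory.AdjoinRoot
import Mathlib.RingTheory.Nakayama
import Mathlib.RingTheory.Polynomial.Basic
-- import your own Groth.Agent.* helpers here

set_option autoImplicit false
universe u
open Hensel

namespace Groth.Agent.S0496

open Polynomial IsLocalRing in
/-- If a monic polynomial `f` over a local ring factors as `g * h'` where `g` reduces to
`X - a₀` modulo the maximal ideal, then `f` has a root lifting `a₀`. -/
theorem exists_root_of_factor (R : Type u) [CommRing R] [IsLocalRing R] (f g h' : R[X])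
    (hf : f.Monic) (hfg : f = g * h') (a₀ : ResidueField R)
    (hg : g.map (residue R) = X - C a₀) : ∃ a : R, f.IsRoot a ∧ residue R a = a₀ := by
  -- the finite `R`-module `M = R[X]/(g)`
  have hle : Ideal.span {f} ≤ Ideal.span {g} := by
    rw [Ideal.span_singleton_le_span_singleton]
    exact ⟨h', hfg⟩
  have hfin : Module.Finite R (R[X] ⧸ Ideal.span {g}) := by
    have := hf.finite_quotient
    exact Module.Finite.of_surjective (Ideal.Quotient.factorₐ R hle).toLinearMap
      (Ideal.Quotient.factor_surjective hle)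
  obtain ⟨a₁, ha₁⟩ := residue_surjective a₀
  -- Nakayama
  have hN : (⊤ : Submodule R (R[X] ⧸ Ideal.span {g})) ≤
      Submodule.span R {(1 : R[X] ⧸ Ideal.span {g})} := by
    apply Submodule.le_of_le_smul_of_le_jacobson_bot (I := maximalIdeal R) hfin.fg_top
      (maximalIdeal_le_jacobson _)
    intro x _
    obtain ⟨p, rfl⟩ := Ideal.Quotient.mk_surjective x
    have hsm : ∀ c : R, c • (1 : R[X] ⧸ Ideal.span {g}) =
        Ideal.Quotient.mk (Ideal.span {g}) (C c) := by
      intro c
      have := (Submodule.Quotient.mk_smul (Ideal.span {g}) c (1 : R[X]))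
      rw [← C_1, smul_C, smul_eq_mul, mul_one, C_1] at this
      exact this.symm
    have hp : p = C (p.eval a₁) + (X - C a₁) * (p /ₘ (X - C a₁)) := by
      rw [← modByMonic_X_sub_C_eq_C_eval, modByMonic_add_div]
    have hg₂m : g - (X - C a₁) ∈ Ideal.map C (maximalIdeal R) := by
      rw [Ideal.mem_map_C_iff]
      intro n
      rw [← Ideal.Quotient.eq_zero_iff_mem]
      change residue R ((g - (X - C a₁)).coeff n) = 0
      rw [← coeff_map, Polynomial.map_sub, hg, Polynomial.map_sub, map_X, map_C, ha₁, sub_self,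
        coeff_zero]
    have hmem : Ideal.Quotient.mk (Ideal.span {g}) ((g - (X - C a₁)) * (p /ₘ (X - C a₁))) ∈
        (maximalIdeal R • ⊤ : Submodule R (R[X] ⧸ Ideal.span {g})) := by
      rw [Ideal.smul_top_eq_map]
      change _ ∈ Ideal.map (algebraMap R (R[X] ⧸ Ideal.span {g})) (maximalIdeal R)
      have : algebraMap R (R[X] ⧸ Ideal.span {g}) = (Ideal.Quotient.mk (Ideal.span {g})).comp C := rfl
      rw [this, ← Ideal.map_map]
      apply Ideal.mem_map_of_mem
      exact Ideal.mul_mem_right _ _ hg₂m
    have key : Ideal.Quotient.mk (Ideal.span {g}) p =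
        Ideal.Quotient.mk (Ideal.span {g}) (C (p.eval a₁)) -
          Ideal.Quotient.mk (Ideal.span {g}) ((g - (X - C a₁)) * (p /ₘ (X - C a₁))) := by
      rw [← map_sub, Ideal.Quotient.eq, Ideal.mem_span_singleton']
      refine ⟨p /ₘ (X - C a₁), ?_⟩
      nth_rewrite 2 [hp]
      ring
    rw [key, sub_eq_add_neg]
    apply Submodule.add_mem_sup
    · rw [Submodule.mem_span_singleton]
      exact ⟨p.eval a₁, hsm _⟩
    · exact Submodule.neg_mem _ hmem
  -- so `X ≡ a` modulo `g`
  have hX := hN (Submodule.mem_top (x := Ideal.Quotient.mk (Ideal.span {g}) X))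
  rw [Submodule.mem_span_singleton] at hX
  obtain ⟨a, ha⟩ := hX
  have ha' : X - C a ∈ Ideal.span {g} := by
    have hsm : a • (1 : R[X] ⧸ Ideal.span {g}) = Ideal.Quotient.mk (Ideal.span {g}) (C a) := by
      have := (Submodule.Quotient.mk_smul (Ideal.span {g}) a (1 : R[X]))
      rw [← C_1, smul_C, smul_eq_mul, mul_one, C_1] at this
      exact this.symm
    rw [← Ideal.Quotient.eq_zero_iff_mem, map_sub, ← ha, hsm, sub_self]
  rw [Ideal.mem_span_singleton'] at ha'
  obtain ⟨u, hu⟩ := ha'
  -- reduce modulo the maximal ideal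
  have hmap : X - C (residue R a) = (u.map (residue R)) * (X - C a₀) := by
    rw [← hg, ← Polynomial.map_mul, hu, Polynomial.map_sub, map_X, map_C]
  have hres : residue R a = a₀ := by
    have := congrArg (eval a₀) hmap
    simp only [eval_sub, eval_X, eval_C, eval_mul, sub_self, mul_zero] at this
    exact (sub_eq_zero.mp this).symm
  have hu1 : u.map (residue R) = 1 := by
    rw [hres] at hmap
    have hne : X - C a₀ ≠ 0 := X_sub_C_ne_zero a₀
    have : (u.map (residue R) - 1) * (X - C a₀) = 0 := by
      rw [sub_mul, one_mul, ← hmap, sub_self]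
    rcases mul_eq_zero.mp this with h | h
    · exact sub_eq_zero.mp h
    · exact absurd h hne
  have huu : IsUnit (u.eval a) := by
    have : residue R (u.eval a) = 1 := by
      rw [← eval_map_apply, hu1, eval_one]
    apply isUnit_of_map_unit (residue R)
    rw [this]; exact isUnit_one
  refine ⟨a, ?_, hres⟩
  have hfu : f * u = (X - C a) * h' := by
    rw [hfg, ← hu]; ring
  have := congrArg (eval a) hfu
  simp only [eval_mul, eval_sub, eval_X, eval_C, sub_self, zero_mul] at this
  exact (huu.mul_left_eq_zero).mp this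

/-- If every factorization of the reduction of a monic polynomial into two coprime factors over the
residue field lifts to a factorization over the local ring, then the local ring is henselian. -/
theorem result (R : Type u) [CommRing R] [IsLocalRing R]
    (h : ∀ f : Polynomial R, f.Monic →
      ∀ g₀ h₀ : Polynomial (IsLocalRing.ResidueField R), IsCoprime g₀ h₀ →
      Polynomial.map (IsLocalRing.residue R) f = g₀ * h₀ →
      ∃ g h : Polynomial R, f = g * h ∧ Polynomial.map (IsLocalRing.residue R) g = g₀ ∧
        Polynomial.map (IsLocalRing.residue R) h = h₀) :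
    HenselianLocalRing R := by
  have htfae := HenselianLocalRing.TFAE R
  apply (htfae.out 1 0).mp
  intro f hf a₀ h₁ h₂
  -- the reduction of `f`
  set fb := Polynomial.map (IsLocalRing.residue R) f with hfb
  have h₁' : fb.eval a₀ = 0 := by
    rw [hfb, Polynomial.eval_map]; exact h₁
  have h₂' : (Polynomial.derivative fb).eval a₀ ≠ 0 := by
    rw [hfb, Polynomial.derivative_map, Polynomial.eval_map]; exact h₂
  -- `fb = (X - C a₀) * q`
  obtain ⟨q, hq⟩ := Polynomial.dvd_iff_isRoot.mpr h₁'
  have hq0 : q.eval a₀ ≠ 0 := by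
    intro h0
    apply h₂'
    rw [hq, Polynomial.derivative_mul]
    simp [h0]
  have hcop : IsCoprime (Polynomial.X - Polynomial.C a₀) q := by
    have hq' : q = Polynomial.C (q.eval a₀) + (Polynomial.X - Polynomial.C a₀) *
        (q /ₘ (Polynomial.X - Polynomial.C a₀)) := by
      rw [← Polynomial.modByMonic_X_sub_C_eq_C_eval, Polynomial.modByMonic_add_div]
    refine ⟨- Polynomial.C (q.eval a₀)⁻¹ * (q /ₘ (Polynomial.X - Polynomial.C a₀)),
      Polynomial.C (q.eval a₀)⁻¹, ?_⟩
    have hc : Polynomial.C (q.eval a₀)⁻¹ * Polynomial.C (q.eval a₀) = 1 := by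
      rw [← Polynomial.C_mul, inv_mul_cancel₀ hq0, Polynomial.C_1]
    calc - Polynomial.C (q.eval a₀)⁻¹ * (q /ₘ (Polynomial.X - Polynomial.C a₀)) *
          (Polynomial.X - Polynomial.C a₀) + Polynomial.C (q.eval a₀)⁻¹ * q
        = Polynomial.C (q.eval a₀)⁻¹ * (q - (Polynomial.X - Polynomial.C a₀) *
          (q /ₘ (Polynomial.X - Polynomial.C a₀))) := by ring
      _ = Polynomial.C (q.eval a₀)⁻¹ * Polynomial.C (q.eval a₀) := by
          congr 1
          nth_rewrite 1 [hq']
          ring
      _ = 1 := hc
  obtain ⟨g, h', hfg, hg, -⟩ := h f hf _ _ hcop hq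
  exact exists_root_of_factor R f g h' hf hfg a₀ hg

end Groth.Agent.S0496
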