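import Groth.Statements.S0516
import Groth.Agent.Lib.Helper4.StrictHensel
import Groth.Agent.Lib.Helper37.HenselSplit
import Groth.Agent.Lib.Helper37.HenselPi

set_option autoImplicit false
universe u
open Hensel

namespace Groth.Agent.S0516

open Groth.Agent.Lib.Helper4 IsLocalRing

/-- An unramified algebra `S` (formally unramified of finite type) over a strictly henselian local ring
`R` is isomorphic over `R` to a product of finitely many quotient rings of `R` and an `R`-algebra in
which the maximal ideal of `R` generates the unit ideal. -/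
theorem result (R : Type u) [CommRing R]
    [HenselianLocalRing R] [IsSepClosed (IsLocalRing.ResidueField R)] (S : Type u) [CommRing S] [Algebra R S]
    [Algebra.Unramified R S] :
    ∃ (ι : Type u) (_ : Fintype ι) (A : ι → Type u) (_ : ∀ i, CommRing (A i))
      (_ : ∀ i, Algebra R (A i)) (B : Type u) (_ : CommRing B) (_ : Algebra R B),
      (∀ i, Function.Surjective (algebraMap R (A i))) ∧
      Ideal.map (algebraMap R B) (IsLocalRing.maximalIdeal R) = ⊤ ∧
      Nonempty (S ≃ₐ[R] ((∀ i, A i) × B)) := by
  classical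
  obtain ⟨e, he, hfin, hno⟩ := Groth.Agent.Lib.Helper37.exists_idempotent_split' R S
  let e₀ : S ≃ₐ[R] (S ⧸ Ideal.span {e}) × (S ⧸ Ideal.span {1 - e}) :=
    AlgEquiv.prodQuotientOfIsIdempotentElem R he he.one_sub (by ring) he.mul_one_sub_self
  -- the non-quasi-finite part
  have hB : Ideal.map (algebraMap R (S ⧸ Ideal.span {e})) (maximalIdeal R) = ⊤ := by
    by_contra hne
    obtain ⟨M, hM, hle⟩ := Ideal.exists_le_maximal _ hne
    have hMp : M.IsPrime := hM.isPrime
    have hlies : M.LiesOver (maximalIdeal R) := by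
      refine ⟨le_antisymm ?_ ?_⟩
      · rw [← Ideal.map_le_iff_le_comap]
        exact hle
      · exact le_maximalIdeal (Ideal.comap_ne_top _ hM.ne_top)
    have hunr : Algebra.FormallyUnramified R (S ⧸ Ideal.span {e}) :=
      Algebra.FormallyUnramified.of_surjective (Ideal.Quotient.mkₐ R _)
        Ideal.Quotient.mk_surjective
    have hqf : Algebra.QuasiFiniteAt R M := inferInstance
    exact hno M hlies hqf
  -- the finite part
  have hunr₁ : Algebra.FormallyUnramified R (S ⧸ Ideal.span {1 - e}) :=
    Algebra.FormallyUnramified.of_surjective (Ideal.Quotient.mkₐ R _)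
      Ideal.Quotient.mk_surjective
  obtain ⟨ι, hι, A, hA, hloc, ⟨φ⟩⟩ :=
    Groth.Agent.Lib.Helper37.exists_pi_isLocalRing_of_finite R (S ⧸ Ideal.span {1 - e})
  let instAlg : ∀ i, Algebra R (A i) := fun i =>
    ((Pi.evalRingHom A i).comp (φ.toRingHom.comp (algebraMap R _))).toAlgebra
  let φa : (S ⧸ Ideal.span {1 - e}) ≃ₐ[R] (∀ i, A i) :=
    { φ with commutes' := fun r => by funext i; rfl }
  refine ⟨ι, hι, A, hA, instAlg, S ⧸ Ideal.span {e}, inferInstance, inferInstance, ?_, hB, ⟨?_⟩⟩
  · intro i
    have := hloc i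
    let πi : (S ⧸ Ideal.span {1 - e}) →ₐ[R] A i := (Pi.evalAlgHom R A i).comp φa.toAlgHom
    have hπ : Function.Surjective πi := by
      intro a
      obtain ⟨x, hx⟩ := φ.surjective (Pi.single i a)
      refine ⟨x, ?_⟩
      change φ x i = a
      rw [hx, Pi.single_eq_same]
    have : Module.Finite R (A i) := Module.Finite.of_surjective πi.toLinearMap hπ
    have : Algebra.FormallyUnramified R (A i) := Algebra.FormallyUnramified.of_surjective πi hπ
    exact surjective_of_finite_unramified_local R (A i)
  · let sw : ((S ⧸ Ideal.span {e}) × (S ⧸ Ideal.span {1 - e})) ≃ₐ[R]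
        ((S ⧸ Ideal.span {1 - e}) × (S ⧸ Ideal.span {e})) :=
      AlgEquiv.ofRingEquiv (f := RingEquiv.prodComm) (fun r => rfl)
    exact e₀.trans (sw.trans (AlgEquiv.prodCongr φa AlgEquiv.refl))

end Groth.Agent.S0516
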