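import Groth.Statements.S0517
import Groth.Agent.Lib.Helper4.StrictHensel

set_option autoImplicit false
universe u
open Hensel

namespace Groth.Agent.S0517

open Groth.Agent.Lib.Helper4 IsLocalRing

/-- Given strictly henselian local rings `R` and `S`, a local ring map `φ` between them, and a square
system of `n` polynomial equations in `n` unknowns over `R` whose quotient algebra is étale over
`R`, applying `φ` coordinatewise matches the solutions of the system in `Rⁿ` bijectively with the
solutions of the transported system in `Sⁿ`. -/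
theorem result (R : Type u) [CommRing R]
    [HenselianLocalRing R] [IsSepClosed (IsLocalRing.ResidueField R)] (S : Type u) [CommRing S]
    [HenselianLocalRing S] [IsSepClosed (IsLocalRing.ResidueField S)] (φ : R →+* S) [IsLocalHom φ] (n : ℕ)
    (P : Fin n → MvPolynomial (Fin n) R)
    [Algebra.Etale R (MvPolynomial (Fin n) R ⧸ Ideal.span (Set.range P))] :
    Set.BijOn (fun r : Fin n → R => φ ∘ r)
      {r : Fin n → R | ∀ i, MvPolynomial.eval r (P i) = 0}
      {s : Fin n → S | ∀ i, MvPolynomial.eval s (MvPolynomial.map φ (P i)) = 0} := by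
  classical
  let _ : Algebra R S := φ.toAlgebra
  have hloc : IsLocalHom (algebraMap R S) := ‹IsLocalHom φ›
  have hloc' : IsLocalHom (Algebra.ofId R S) :=
    ⟨fun a ha => (‹IsLocalHom φ›).map_nonunit a ha⟩
  -- the residue maps
  let uR : R →ₐ[R] ResidueField R := IsScalarTower.toAlgHom R R (ResidueField R)
  let uS : S →ₐ[R] ResidueField S := IsScalarTower.toAlgHom R S (ResidueField S)
  have huR : Function.Surjective uR := residue_surjective
  have huS : Function.Surjective uS := residue_surjective
  have hkR : RingHom.ker uR.toRingHom = maximalIdeal R := ker_residue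
  have hkS : RingHom.ker uS.toRingHom = maximalIdeal S := ker_residue
  let ψ : ResidueField R →ₐ[R] ResidueField S := ResidueField.mapAlgHom (Algebra.ofId R S)
  have hψ : ∀ r : R, ψ (uR r) = uS (φ r) := fun r =>
    ResidueField.mapAlgHom_residue (Algebra.ofId R S) r
  have hψinj : Function.Injective ψ := ψ.toRingHom.injective
  -- translation between `eval` and `aeval`
  have hevalR : ∀ (r : Fin n → R) (p : MvPolynomial (Fin n) R),
      MvPolynomial.aeval r p = MvPolynomial.eval r p := fun r p => by
    exact congrArg (fun m : MvPolynomial (Fin n) R →+* R => m p)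
      (MvPolynomial.coe_aeval_eq_eval r)
  have hevalS : ∀ (s : Fin n → S) (p : MvPolynomial (Fin n) R),
      MvPolynomial.aeval s p = MvPolynomial.eval s (MvPolynomial.map φ p) := fun s p => by
    rw [MvPolynomial.eval_map, MvPolynomial.aeval_def]; rfl
  refine ⟨?_, ?_, ?_⟩
  · intro r hr i
    have hr' : ∀ i, MvPolynomial.eval r (P i) = 0 := hr
    change MvPolynomial.eval (φ ∘ r) (MvPolynomial.map φ (P i)) = 0
    rw [MvPolynomial.eval_map]
    have := MvPolynomial.eval₂_comp_left φ (RingHom.id R) r (P i)
    rw [RingHom.comp_id] at this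
    rw [← this]
    change φ (MvPolynomial.eval r (P i)) = 0
    rw [hr' i, map_zero]
  · intro r hr r' hr' hrr'
    have hr0 : ∀ i, MvPolynomial.aeval r (P i) = 0 := fun i => (hevalR r (P i)).trans (hr i)
    have hr0' : ∀ i, MvPolynomial.aeval r' (P i) = 0 := fun i => (hevalR r' (P i)).trans (hr' i)
    have key : homOfSol P r hr0 = homOfSol P r' hr0' := by
      apply lift_henselian_unique uR hkR (SysAlg P)
      apply sysAlg_hom_ext
      intro i
      apply hψinj
      change ψ (uR (homOfSol P r hr0 (Ideal.Quotient.mk _ (MvPolynomial.X i)))) =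
        ψ (uR (homOfSol P r' hr0' (Ideal.Quotient.mk _ (MvPolynomial.X i))))
      rw [homOfSol_X, homOfSol_X, hψ, hψ]
      exact congrArg uS (congrFun hrr' i)
    funext i
    have := congrArg (fun m => m (Ideal.Quotient.mk _ (MvPolynomial.X i))) key
    simpa only [homOfSol_X] using this
  · intro s hs
    have hs0 : ∀ i, MvPolynomial.aeval s (P i) = 0 := fun i => (hevalS s (P i)).trans (hs i)
    let b : SysAlg P →ₐ[R] S := homOfSol P s hs0
    obtain ⟨c, hc⟩ := exists_factor_of_isSepClosed (ResidueField R) (ResidueField S) ψ (SysAlg P)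
      (uS.comp b)
    obtain ⟨a, ha⟩ := exists_lift_henselian uR huR hkR (SysAlg P) c
    have hab : (Algebra.ofId R S).comp a = b := by
      apply lift_henselian_unique uS hkS (SysAlg P)
      rw [← hc, ← ha]
      ext x
      exact (hψ (a x)).symm
    refine ⟨fun i => a (Ideal.Quotient.mk _ (MvPolynomial.X i)), ?_, ?_⟩
    · intro i
      change MvPolynomial.eval _ (P i) = 0
      rw [← hevalR]
      exact aeval_of_hom P a i
    · funext i
      change φ (a (Ideal.Quotient.mk _ (MvPolynomial.X i))) = s i
      have := congrArg (fun m => m (Ideal.Quotient.mk _ (MvPolynomial.X i))) hab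
      exact this.trans (homOfSol_X P s hs0 i)

end Groth.Agent.S0517
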