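import Groth.Statements.S0521
import Groth.Agent.Lib.Helper37.HenselIdem

set_option autoImplicit false
universe u
open Hensel

namespace Groth.Agent.S0521

/-- `A` is Henselian at `I` exactly when, for every `A`-algebra `B` finitely generated as an `A`-module,
reduction modulo `IB` is a bijection from the idempotents of `B` to the idempotents of `B/IB`. -/
theorem result (A : Type u) [CommRing A] (I : Ideal A) :
    HenselianRing A I ↔ ∀ (B : Type u) [CommRing B] [Algebra A B], Module.Finite A B →
      Set.BijOn (Ideal.Quotient.mk (Ideal.map (algebraMap A B) I))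
        {e : B | IsIdempotentElem e} {e | IsIdempotentElem e} := by
  constructor
  · intro h B _ _ hfin
    have : Algebra.IsIntegral A B := Algebra.IsIntegral.of_finite A B
    have hjacB : Ideal.map (algebraMap A B) I ≤ Ideal.jacobson ⊥ :=
      Groth.Agent.Lib.Helper37.map_le_jacobson_of_isIntegral h.jac
    refine ⟨?_, ?_, ?_⟩
    · intro e he
      exact IsIdempotentElem.map he (Ideal.Quotient.mk _)
    · intro e₁ he₁ e₂ he₂ h12
      exact Groth.Agent.Lib.Helper37.eq_of_isIdempotentElem_of_sub_mem_jacobson he₁ he₂
        (hjacB (Ideal.Quotient.eq.mp h12))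
    · intro ebar hebar
      obtain ⟨b, rfl⟩ := Ideal.Quotient.mk_surjective ebar
      have hb : b * b - b ∈ Ideal.map (algebraMap A B) I := by
        rw [← Ideal.Quotient.eq, map_mul]
        exact hebar
      obtain ⟨e, he, heb⟩ := Groth.Agent.Lib.Helper37.exists_idempotent_lift I b hb
      exact ⟨e, he, Ideal.Quotient.eq.mpr heb⟩
  · intro H
    have hjac : I ≤ Ideal.jacobson ⊥ :=
      Groth.Agent.Lib.Helper37.le_jacobson_of_idempotents_injOn I
        (fun J => (H (A ⧸ J) inferInstance).injOn)
    refine Groth.Agent.Lib.Helper37.henselianRing_of_idempotent_lift I hjac ?_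
    intro f hf ε hε
    have hfin : Module.Finite A (AdjoinRoot f) := hf.finite_adjoinRoot
    have hidem : IsIdempotentElem (Ideal.Quotient.mk (Ideal.map (algebraMap A (AdjoinRoot f)) I) ε) := by
      change _ * _ = _
      rw [← map_mul, Ideal.Quotient.eq]
      exact hε
    obtain ⟨e, he, hee⟩ := (H (AdjoinRoot f) hfin).surjOn hidem
    exact ⟨e, he, Ideal.Quotient.eq.mp hee⟩

end Groth.Agent.S0521
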