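import Groth.Statements.S0526
import Groth.Agent.Lib.Helper37.HenselIdem

set_option autoImplicit false
universe u
open Hensel

namespace Groth.Agent.S0526

/-- If `A` is Henselian at `I` and `B` is an integral `A`-algebra, then `B` is Henselian at `IB`. -/
theorem result (A : Type u) [CommRing A] (I : Ideal A) [HenselianRing A I] (B : Type u) [CommRing B]
    [Algebra A B] [Algebra.IsIntegral A B] : HenselianRing B (Ideal.map (algebraMap A B) I) := by
  have hI : HenselianRing A I := inferInstance
  have hjacB : Ideal.map (algebraMap A B) I ≤ Ideal.jacobson ⊥ :=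
    Groth.Agent.Lib.Helper37.map_le_jacobson_of_isIntegral hI.jac
  refine Groth.Agent.Lib.Helper37.henselianRing_of_idempotent_lift _ hjacB ?_
  intro F hF ε hε
  have hfin : Module.Finite B (AdjoinRoot F) := hF.finite_adjoinRoot
  have hint1 : Algebra.IsIntegral B (AdjoinRoot F) := Algebra.IsIntegral.of_finite B (AdjoinRoot F)
  have hint : Algebra.IsIntegral A (AdjoinRoot F) := Algebra.IsIntegral.trans B
  have hmap : Ideal.map (algebraMap B (AdjoinRoot F)) (Ideal.map (algebraMap A B) I) =
      Ideal.map (algebraMap A (AdjoinRoot F)) I := by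
    rw [Ideal.map_map, ← IsScalarTower.algebraMap_eq]
  rw [hmap] at hε ⊢
  exact Groth.Agent.Lib.Helper37.exists_idempotent_lift I ε hε

end Groth.Agent.S0526
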