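import Groth.Statements.S0529
import Groth.Agent.Lib.Helper37.Hensel
import Mathlib.Algebra.Group.Pi.Units

set_option autoImplicit false
universe u
open Hensel

namespace Groth.Agent.S0529

open Polynomial Groth.Agent.Lib.Helper37

section aux

variable {J : Type u} {A : J → Type u} [∀ j, CommRing (A j)]

lemma mem_pi_ideal (I : ∀ j, Ideal (A j)) (x : ∀ j, A j) :
    x ∈ (⨅ j, Ideal.comap (Pi.evalRingHom A j) (I j)) ↔ ∀ j, x j ∈ I j := by
  simp [Ideal.mem_comap]

lemma eval_pi_apply (F : (∀ j, A j)[X]) (b : ∀ j, A j) (j : J) :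
    (F.eval b) j = (F.map (Pi.evalRingHom A j)).eval (b j) := by
  have := eval_map_apply (p := F) (Pi.evalRingHom A j) b
  simpa using this.symm

/-- the forward direction: each factor of a Henselian product is Henselian -/
theorem factor_henselian (I : ∀ j, Ideal (A j))
    [h : HenselianRing (∀ j, A j) (⨅ j, Ideal.comap (Pi.evalRingHom A j) (I j))] (j₀ : J) :
    HenselianRing (A j₀) (I j₀) := by
  classical
  have hjac : I j₀ ≤ Ideal.jacobson ⊥ := by
    intro x hx
    rw [Ideal.mem_jacobson_bot]
    intro y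
    have hX : Pi.single j₀ x ∈ (⨅ j, Ideal.comap (Pi.evalRingHom A j) (I j)) := by
      rw [mem_pi_ideal]
      intro j
      by_cases hj : j = j₀
      · subst hj; simpa using hx
      · rw [Pi.single_eq_of_ne hj]; exact (I j).zero_mem
    have := (Ideal.mem_jacobson_bot.mp (h.jac hX)) (Pi.single j₀ y)
    have := (Pi.isUnit_iff.mp this) j₀
    simpa using this
  refine ⟨hjac, fun f hf a₀ h₁ h₂ => ?_⟩
  obtain ⟨y₀, hy₀⟩ := isUnit_mk_iff.mp h₂
  set n := f.natDegree with hn
  by_cases hn0 : n = 0
  · -- `f = 1`, so the ring is trivial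
    have hf1 : f = 1 := hf.natDegree_eq_zero.mp hn0
    have h1 : (1 : A j₀) ∈ I j₀ := by simpa [hf1] using h₁
    have : IsUnit ((1 : A j₀) * (-1) + 1) := Ideal.mem_jacobson_bot.mp (hjac h1) (-1)
    have h0 : (0 : A j₀) = 1 := by simpa using this
    have hsub : Subsingleton (A j₀) := subsingleton_of_zero_eq_one h0
    exact ⟨a₀, Subsingleton.elim _ _, by simp [sub_self]⟩
  have hn1 : 1 ≤ n := Nat.one_le_iff_ne_zero.mpr hn0
  let p : ∀ j, (A j)[X] := Function.update (fun j => X ^ n - X ^ (n - 1)) j₀ f
  have hp₀ : p j₀ = f := Function.update_self ..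
  have hp : ∀ j, j ≠ j₀ → p j = X ^ n - X ^ (n - 1) := fun j hj => Function.update_of_ne hj ..
  have hdeg : ∀ j, (p j).natDegree ≤ n := by
    intro j
    by_cases hj : j = j₀
    · subst hj; rw [hp₀]
    · rw [hp j hj]
      refine (natDegree_sub_le _ _).trans ?_
      exact max_le (natDegree_X_pow_le _) ((natDegree_X_pow_le _).trans (Nat.sub_le _ _))
  have hcoeff : ∀ j, (p j).coeff n = 1 := by
    intro j
    by_cases hj : j = j₀
    · subst hj; rw [hp₀]; exact hf
    · rw [hp j hj, coeff_sub, coeff_X_pow, coeff_X_pow]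
      have : n ≠ n - 1 := by omega
      simp [this]
  let F : (∀ j, A j)[X] := ∑ k ∈ Finset.range (n + 1), monomial k (fun j => (p j).coeff k)
  have hFmap : ∀ j, F.map (Pi.evalRingHom A j) = p j := by
    intro j
    simp only [F, Polynomial.map_sum, map_monomial, Pi.evalRingHom_apply]
    exact (as_sum_range' (p j) (n + 1) (Nat.lt_succ_of_le (hdeg j))).symm
  have hFmonic : F.Monic := by
    apply monic_of_natDegree_le_of_coeff_eq_one n
    · apply natDegree_sum_le_of_forall_le
      intro k hk
      exact (natDegree_monomial_le _).trans (Nat.lt_succ_iff.mp (Finset.mem_range.mp hk))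
    · funext j
      have : (F.coeff n) j = (F.map (Pi.evalRingHom A j)).coeff n := by
        rw [coeff_map]; rfl
      rw [this, hFmap, hcoeff]; rfl
  let b₀ : ∀ j, A j := Function.update (fun _ => 1) j₀ a₀
  have hb₀ : b₀ j₀ = a₀ := Function.update_self ..
  have hb : ∀ j, j ≠ j₀ → b₀ j = 1 := fun j hj => Function.update_of_ne hj ..
  have hF₁ : F.eval b₀ ∈ (⨅ j, Ideal.comap (Pi.evalRingHom A j) (I j)) := by
    rw [mem_pi_ideal]
    intro j
    rw [eval_pi_apply, hFmap]
    by_cases hj : j = j₀
    · subst hj; rw [hp₀, hb₀]; exact h₁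
    · rw [hp j hj, hb j hj]; simp
  have hF₂ : IsUnit (Ideal.Quotient.mk (⨅ j, Ideal.comap (Pi.evalRingHom A j) (I j))
      (F.derivative.eval b₀)) := by
    rw [isUnit_mk_iff]
    refine ⟨Function.update (fun _ => 1) j₀ y₀, ?_⟩
    rw [mem_pi_ideal]
    intro j
    have e1 : (F.derivative.eval b₀ * Function.update (fun _ => 1) j₀ y₀ - 1) j =
        (p j).derivative.eval (b₀ j) *
          (Function.update (fun _ => (1 : A _)) j₀ y₀ : ∀ j, A j) j - 1 := by
      rw [Pi.sub_apply, Pi.mul_apply, eval_pi_apply, ← derivative_map, hFmap]; rfl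
    rw [e1]
    by_cases hj : j = j₀
    · subst hj; rw [hp₀, hb₀, Function.update_self]; exact hy₀
    · rw [hp j hj, hb j hj, Function.update_of_ne hj]
      have : ((n : A j) - ((n - 1 : ℕ) : A j)) = 1 := by
        rw [Nat.cast_sub hn1]; simp
      simp [derivative_X_pow, this]
  obtain ⟨b, hbroot, hbI⟩ := h.is_henselian F hFmonic b₀ hF₁ hF₂
  refine ⟨b j₀, ?_, ?_⟩
  · have := congrFun hbroot.eq_zero j₀
    rw [eval_pi_apply, hFmap, hp₀] at this
    exact this
  · have := (mem_pi_ideal I _).mp hbI j₀
    rw [Pi.sub_apply, hb₀] at this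
    exact this

end aux

/-- A product of rings, with the product ideal, is Henselian exactly when every factor is Henselian at
its ideal. -/
theorem result (J : Type u) (A : J → Type u) [∀ j, CommRing (A j)]
    (I : ∀ j, Ideal (A j)) :
    HenselianRing (∀ j, A j) (⨅ j, Ideal.comap (Pi.evalRingHom A j) (I j)) ↔
      ∀ j, HenselianRing (A j) (I j) := by
  constructor
  · intro h j
    exact factor_henselian I j
  · intro h
    refine ⟨?_, fun f hf a₀ h₁ h₂ => ?_⟩
    · intro x hx
      rw [mem_pi_ideal] at hx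
      rw [Ideal.mem_jacobson_bot]
      intro y
      rw [Pi.isUnit_iff]
      intro j
      exact Ideal.mem_jacobson_bot.mp ((h j).jac (hx j)) (y j)
    · rw [mem_pi_ideal] at h₁
      obtain ⟨y, hy⟩ := isUnit_mk_iff.mp h₂
      rw [mem_pi_ideal] at hy
      have key : ∀ j, ∃ a : A j, (f.map (Pi.evalRingHom A j)).IsRoot a ∧ a - a₀ j ∈ I j := by
        intro j
        apply (h j).is_henselian _ (hf.map _)
        · rw [← eval_pi_apply]; exact h₁ j
        · rw [isUnit_mk_iff]
          refine ⟨y j, ?_⟩
          have := hy j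
          rw [Pi.sub_apply, Pi.mul_apply, eval_pi_apply, ← derivative_map] at this
          exact this
      choose a ha ha' using key
      refine ⟨a, ?_, ?_⟩
      · rw [Polynomial.IsRoot.def]
        funext j
        rw [eval_pi_apply]
        exact ha j
      · rw [mem_pi_ideal]
        intro j
        exact ha' j

end Groth.Agent.S0529
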