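import Groth.Statements.S0535
import Mathlib.RingTheory.Nakayama
import Mathlib.LinearAlgebra.TensorProduct.Quotient
import Mathlib.RingTheory.Finiteness.Cardinality
import Mathlib.Algebra.Module.Projective
import Mathlib.RingTheory.FiniteType

set_option autoImplicit false
universe u
open Hensel

namespace Groth.Agent.S0535

open TensorProduct in
/-- For `I` inside the Jacobson radical, a surjection `P₁/IP₁ → P₂/IP₂` with `P₁` projective and
`P₂` finite lifts to a surjection `P₁ → P₂`. -/
theorem exists_surjective_lift {R : Type u} [CommRing R] (I : Ideal R) (hI : I ≤ Ideal.jacobson ⊥)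
    (P₁ P₂ : Type u) [AddCommGroup P₁] [Module R P₁] [AddCommGroup P₂] [Module R P₂]
    [Module.Projective R P₁] [Module.Finite R P₂]
    (e : (R ⧸ I) ⊗[R] P₁ →ₗ[R] (R ⧸ I) ⊗[R] P₂) (he : Function.Surjective e) :
    ∃ φ : P₁ →ₗ[R] P₂, Function.Surjective φ := by
  have hπ : ∀ (M : Type u) [AddCommGroup M] [Module R M],
      Function.Surjective (TensorProduct.mk R (R ⧸ I) M 1) := by
    intro M _ _
    intro x
    obtain ⟨y, rfl⟩ := (quotTensorEquivQuotSMul M I).symm.surjective x
    obtain ⟨z, rfl⟩ := Submodule.mkQ_surjective _ y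
    exact ⟨z, rfl⟩
  obtain ⟨φ, hφ⟩ := Module.projective_lifting_property (TensorProduct.mk R (R ⧸ I) P₂ 1)
    (e ∘ₗ TensorProduct.mk R (R ⧸ I) P₁ 1) (hπ P₂)
  refine ⟨φ, LinearMap.surjective_of_surjective_comp_mkQ φ I hI ?_⟩
  rw [← TensorProduct.quotTensorEquivQuotSMul_comp_mk, LinearMap.comp_assoc, hφ]
  exact (LinearEquiv.surjective (quotTensorEquivQuotSMul P₂ I)).comp (he.comp (hπ P₁))

/-- If `R` is Henselian at `I` and two finitely generated projective `R`-modules become isomorphic after
base change to `R/I`, then they are isomorphic. -/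
theorem result (R : Type u) [CommRing R] (I : Ideal R)
    [HenselianRing R I] (P₁ P₂ : Type u) [AddCommGroup P₁] [Module R P₁] [AddCommGroup P₂]
    [Module R P₂] [Module.Finite R P₁] [Module.Projective R P₁] [Module.Finite R P₂]
    [Module.Projective R P₂]
    (e : TensorProduct R (R ⧸ I) P₁ ≃ₗ[R ⧸ I] TensorProduct R (R ⧸ I) P₂) :
    Nonempty (P₁ ≃ₗ[R] P₂) := by
  have hI : I ≤ Ideal.jacobson ⊥ := HenselianRing.jac
  obtain ⟨φ, hφ⟩ := exists_surjective_lift I hI P₁ P₂ (e.toLinearMap.restrictScalars R) e.surjective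
  obtain ⟨ψ, hψ⟩ := exists_surjective_lift I hI P₂ P₁ (e.symm.toLinearMap.restrictScalars R)
    e.symm.surjective
  have hinj : Function.Injective (ψ ∘ₗ φ) :=
    OrzechProperty.injective_of_surjective_endomorphism _ (hψ.comp hφ)
  have hφinj : Function.Injective φ := by
    intro x y hxy
    apply hinj
    simp [hxy]
  exact ⟨LinearEquiv.ofBijective φ ⟨hφinj, hφ⟩⟩

end Groth.Agent.S0535
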