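import Groth.Statements.S0536
import Groth.Agent.Lib.Helper37.HenselEtale
import Groth.Agent.Lib.Helper27.StdSmoothRetract

set_option autoImplicit false
universe u
open Hensel

namespace Groth.Agent.S0536
open TensorProduct

open TensorProduct

/-- Lifting of sections over a Henselian pair for standard smooth algebras. -/
theorem lift_stdSmooth (R : Type u) [CommRing R] (C : Type u) [CommRing C] [Algebra R C]
    [Algebra.IsStandardSmooth R C] (A : Type u) [CommRing A] [Algebra R A] (I : Ideal A)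
    [HenselianRing A I] (σ : C →ₐ[R] A ⧸ I) :
    ∃ τ : C →ₐ[R] A, (Ideal.Quotient.mkₐ R I).comp τ = σ := by
  classical
  obtain ⟨n, g, hgC, hg⟩ := RingHom.IsStandardSmooth.exists_etale_mvPolynomial
    (f := algebraMap R C) (by rwa [RingHom.isStandardSmooth_algebraMap])
  have hsurj := Ideal.Quotient.mk_surjective (I := I)
  choose a ha using fun i => hsurj (σ (g (MvPolynomial.X i)))
  let ψ : MvPolynomial (Fin n) R →ₐ[R] A := MvPolynomial.aeval a
  letI algTC : Algebra (MvPolynomial (Fin n) R) C := g.toAlgebra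
  letI algTA : Algebra (MvPolynomial (Fin n) R) A := ψ.toRingHom.toAlgebra
  haveI : Algebra.Etale (MvPolynomial (Fin n) R) C := by
    rw [← RingHom.etale_algebraMap]
    exact hg
  -- σ is a `T`-algebra map
  have hσT : ∀ t : MvPolynomial (Fin n) R, σ (g t) = Ideal.Quotient.mk I (ψ t) := by
    intro t
    have : (σ : C →+* A ⧸ I).comp g = (Ideal.Quotient.mk I).comp (ψ : MvPolynomial (Fin n) R →+* A) := by
      apply MvPolynomial.ringHom_ext
      · intro r
        have h1 : g (MvPolynomial.C r) = algebraMap R C r := by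
          rw [← hgC]; rfl
        simp only [RingHom.comp_apply, RingHom.coe_coe, h1, AlgHom.commutes]
        rw [← MvPolynomial.algebraMap_eq, AlgHom.commutes]
        rfl
      · intro i
        simp only [RingHom.comp_apply, RingHom.coe_coe, ψ, MvPolynomial.aeval_X]
        exact (ha i).symm
    exact congr($this t)
  let σT : C →ₐ[MvPolynomial (Fin n) R] A ⧸ I :=
    { (σ : C →+* A ⧸ I) with
      commutes' := fun t => by
        change σ (g t) = Ideal.Quotient.mk I (ψ t)
        exact hσT t }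
  let σA' : A ⊗[MvPolynomial (Fin n) R] C →ₐ[A] A ⧸ I :=
    Algebra.TensorProduct.lift (Algebra.ofId A (A ⧸ I)) σT (fun _ _ => .all _ _)
  obtain ⟨τA', hτA'⟩ := Groth.Agent.Lib.Helper37.exists_lift_of_etale I σA'
  let τr : C →+* A := (τA' : A ⊗[MvPolynomial (Fin n) R] C →+* A).comp
    (Algebra.TensorProduct.includeRight :
      C →ₐ[MvPolynomial (Fin n) R] A ⊗[MvPolynomial (Fin n) R] C).toRingHom
  have hτr : ∀ c, τr c = τA' (1 ⊗ₜ c) := fun c => rfl
  refine ⟨{ τr with
    commutes' := fun r => ?_ }, ?_⟩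
  · change τr (algebraMap R C r) = algebraMap R A r
    rw [hτr]
    have h1 : algebraMap R C r = (MvPolynomial.C r : MvPolynomial (Fin n) R) • (1 : C) := by
      rw [Algebra.smul_def, mul_one]
      change _ = g (MvPolynomial.C r)
      rw [← hgC]; rfl
    rw [h1, ← TensorProduct.smul_tmul, Algebra.smul_def, mul_one]
    change τA' ((ψ (MvPolynomial.C r)) ⊗ₜ 1) = _
    have h2 : (ψ (MvPolynomial.C r) ⊗ₜ[MvPolynomial (Fin n) R] (1 : C)) =
        algebraMap A (A ⊗[MvPolynomial (Fin n) R] C) (ψ (MvPolynomial.C r)) := rfl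
    rw [h2, AlgHom.commutes]
    simp [ψ]
  · ext c
    have := congr($hτA' (1 ⊗ₜ c))
    simp only [AlgHom.comp_apply, Ideal.Quotient.mkₐ_eq_mk] at this
    change Ideal.Quotient.mk I (τr c) = σ c
    rw [hτr, this]
    simp [σA', σT]


/-- Let `S` be a smooth `R`-algebra and `A` an `R`-algebra Henselian at an ideal `I`. Every `R`-algebra
map `S → A/I` lifts to an `R`-algebra map `S → A`. -/
theorem result (R : Type u) [CommRing R] (S : Type u) [CommRing S]
    [Algebra R S] [Algebra.Smooth R S] (A : Type u) [CommRing A] [Algebra R A] (I : Ideal A)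
    [HenselianRing A I] (σ : S →ₐ[R] A ⧸ I) :
    ∃ τ : S →ₐ[R] A, (Ideal.Quotient.mkₐ R I).comp τ = σ := by
  obtain ⟨C, _, _, _, _, hsm, ⟨ρ⟩, hstd⟩ :=
    Groth.Agent.Lib.Helper27.StdSmoothRetract.exists_stdSmooth_retract (R := R) (A := S)
  obtain ⟨τ', hτ'⟩ := lift_stdSmooth R C A I (σ.comp (ρ.restrictScalars R))
  refine ⟨τ'.comp (IsScalarTower.toAlgHom R S C), ?_⟩
  rw [← AlgHom.comp_assoc, hτ']
  ext s
  simp

end Groth.Agent.S0536
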