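import Groth.Statements.S0545
import Groth.Agent.Lib.Helper88.AdicExt
-- import your own Groth.Agent.* helpers here

set_option autoImplicit false
universe u
open CAlg

namespace Groth.Agent.S0545

open Groth.Agent.Lib.Helper88

/-- units lift along a quotient by an ideal in the Jacobson radical -/
theorem isUnit_of_isUnit_mk {A : Type*} [CommRing A] (I : Ideal A) (hI : I ≤ Ideal.jacobson ⊥)
    (a : A) (h : IsUnit (Ideal.Quotient.mk I a)) : IsUnit a := by
  obtain ⟨u, hu⟩ := h
  obtain ⟨b, hb⟩ := Ideal.Quotient.mk_surjective (↑u⁻¹ : A ⧸ I)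
  have h1 : Ideal.Quotient.mk I (a * b - 1) = 0 := by
    rw [map_sub, map_mul, map_one, hb, ← hu, Units.mul_inv, sub_self]
  have h2 : a * b - 1 ∈ I := Ideal.Quotient.eq_zero_iff_mem.mp h1
  have h3 : IsUnit ((a * b - 1) * 1 + 1) := Ideal.mem_jacobson_bot.mp (hI h2) 1
  have h4 : (a * b - 1) * 1 + 1 = a * b := by ring
  rw [h4] at h3
  exact isUnit_of_mul_isUnit_left h3

theorem le_jacobson_of_map {A : Type*} [CommRing A] (I J : Ideal A) (hI : I ≤ Ideal.jacobson ⊥)
    (hJ : J.map (Ideal.Quotient.mk I) ≤ Ideal.jacobson (⊥ : Ideal (A ⧸ I))) :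
    J ≤ Ideal.jacobson ⊥ := by
  intro x hx
  rw [Ideal.mem_jacobson_bot]
  intro y
  apply isUnit_of_isUnit_mk I hI
  rw [map_add, map_mul, map_one]
  exact Ideal.mem_jacobson_bot.mp (hJ (Ideal.mem_map_of_mem _ hx)) _

section

variable (A : Type u) [CommRing A] [IsNoetherianRing A] (I J : Ideal A)

/-- finite modules killed by `I` are `J`-precomplete if `A ⧸ I` is -/
theorem isPrecomplete_of_smul_top_eq_bot [IsPrecomplete J (A ⧸ I)] (M : Type u) [AddCommGroup M]
    [Module A M] [Module.Finite A M] (h : I • (⊤ : Submodule A M) = ⊥) : IsPrecomplete J M := by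
  classical
  obtain ⟨n, s, hs⟩ := Module.Finite.exists_fin (R := A) (M := M)
  have hker : ∀ i, I ≤ LinearMap.ker (LinearMap.toSpanSingleton A M (s i)) := by
    intro i a ha
    rw [LinearMap.mem_ker, LinearMap.toSpanSingleton_apply]
    have : a • s i ∈ I • (⊤ : Submodule A M) := Submodule.smul_mem_smul ha Submodule.mem_top
    rw [h] at this
    exact (Submodule.mem_bot A).mp this
  let φ : ∀ i : Fin n, (A ⧸ I) →ₗ[A] M := fun i =>
    Submodule.liftQ I (LinearMap.toSpanSingleton A M (s i)) (hker i)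
  let g : (Fin n → A ⧸ I) →ₗ[A] M := ∑ i, (φ i).comp (LinearMap.proj i)
  have hg : Function.Surjective g := by
    intro m
    have hm : m ∈ Submodule.span A (Set.range s) := by rw [hs]; exact Submodule.mem_top
    obtain ⟨c, rfl⟩ := (Submodule.mem_span_range_iff_exists_fun A).mp hm
    refine ⟨fun i => Submodule.Quotient.mk (c i), ?_⟩
    simp only [g, LinearMap.sum_apply, LinearMap.comp_apply, LinearMap.proj_apply]
    apply Finset.sum_congr rfl
    intro i _
    simp only [φ]
    erw [Submodule.liftQ_apply]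
    rw [LinearMap.toSpanSingleton_apply]
  haveI : IsPrecomplete J (Fin n → A ⧸ I) := isPrecomplete_pi J (A ⧸ I)
  exact isPrecomplete_of_surjective J g hg

/-- finite modules killed by a power of `I` are `J`-precomplete if `A ⧸ I` is -/
theorem isPrecomplete_of_pow_smul_top_eq_bot [IsPrecomplete J (A ⧸ I)] (k : ℕ) :
    ∀ (M : Type u) [AddCommGroup M] [Module A M] [Module.Finite A M],
      I ^ k • (⊤ : Submodule A M) = ⊥ → IsPrecomplete J M := by
  induction k with
  | zero =>
    intro M _ _ _ h
    rw [pow_zero, Ideal.one_eq_top, Submodule.top_smul] at h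
    haveI : Subsingleton M := by
      constructor
      intro x y
      have hx : x ∈ (⊤ : Submodule A M) := Submodule.mem_top
      have hy : y ∈ (⊤ : Submodule A M) := Submodule.mem_top
      rw [h, Submodule.mem_bot] at hx hy
      rw [hx, hy]
    infer_instance
  | succ k ih =>
    intro M _ _ _ h
    let N : Submodule A M := I • ⊤
    haveI : IsPrecomplete J N := by
      apply ih N
      apply (Submodule.eq_bot_iff _).mpr
      intro x hx
      have h1 : N.subtype x ∈ Submodule.map N.subtype (I ^ k • ⊤) := ⟨x, hx, rfl⟩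
      rw [Submodule.map_smul'', Submodule.map_top, Submodule.range_subtype] at h1
      have h2 : I ^ k • N = ⊥ := by
        change I ^ k • (I • (⊤ : Submodule A M)) = ⊥
        rw [← mul_smul, ← pow_succ, h]
      rw [h2, Submodule.mem_bot] at h1
      exact Subtype.ext h1
    haveI : IsPrecomplete J (M ⧸ N) := by
      apply isPrecomplete_of_smul_top_eq_bot A I J (M ⧸ N)
      rw [← Submodule.range_mkQ N, ← Submodule.map_top, ← Submodule.map_smul'']
      exact Submodule.mkQ_map_self N
    exact isPrecomplete_of_extension J N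

end

/-- For a Noetherian ring `A` with two ideals `I` and `J`, completeness of `A` along `I` together with
completeness of the quotient `A/I` along the image of `J` forces completeness of `A` along `J`. -/
theorem result (A : Type u) [CommRing A] [IsNoetherianRing A]
    (I J : Ideal A) [IsAdicComplete I A]
    [IsAdicComplete (Ideal.map (Ideal.Quotient.mk I) J) (A ⧸ I)] : IsAdicComplete J A := by
  have hI : I ≤ Ideal.jacobson ⊥ := IsAdicComplete.le_jacobson_bot I
  have hJbar : J.map (Ideal.Quotient.mk I) ≤ Ideal.jacobson (⊥ : Ideal (A ⧸ I)) :=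
    IsAdicComplete.le_jacobson_bot _
  have hJ : J ≤ Ideal.jacobson ⊥ := le_jacobson_of_map I J hI hJbar
  haveI : IsHausdorff J A := IsHausdorff.of_le_jacobson J A hJ
  haveI hpre0 : IsPrecomplete J (A ⧸ I) := by
    have h0 : IsPrecomplete (J.map (algebraMap A (A ⧸ I))) (A ⧸ I) :=
      (inferInstance : IsPrecomplete (Ideal.map (Ideal.Quotient.mk I) J) (A ⧸ I))
    exact (IsPrecomplete.map_algebraMap_iff (R := A) (S := A ⧸ I) (M := A ⧸ I) (I := J)).mp h0
  have hquot : ∀ k, IsPrecomplete J (A ⧸ I ^ k) := fun k =>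
    isPrecomplete_of_pow_smul_top_eq_bot A I J k (A ⧸ I ^ k) (by
      apply (Submodule.eq_bot_iff _).mpr
      intro x hx
      obtain ⟨a, rfl⟩ := Submodule.Quotient.mk_surjective _ x
      have h1 := (mk_mem_smul_top_quotient_iff (I ^ k) (I ^ k) a).mp hx
      rw [sup_idem] at h1
      exact (Submodule.Quotient.mk_eq_zero _).mpr h1)
  haveI : IsPrecomplete J A := by
    refine ⟨fun {f} hf => ?_⟩
    have h1 : ∀ k, ∃ ℓ : A, ∀ n, f n - ℓ ∈ J ^ n ⊔ I ^ k := by
      intro k
      obtain ⟨L, hL⟩ := (hquot k).prec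
        (f := fun n => (Submodule.Quotient.mk (f n) : A ⧸ I ^ k)) (by
          intro m n hmn
          have h0 := hf hmn
          rw [SModEq.sub_mem, smul_eq_mul, Ideal.mul_top] at h0
          rw [SModEq.sub_mem, ← Submodule.Quotient.mk_sub, mk_mem_smul_top_quotient_iff]
          exact Ideal.mem_sup_left h0)
      obtain ⟨ℓ, rfl⟩ := Submodule.Quotient.mk_surjective _ L
      refine ⟨ℓ, fun n => ?_⟩
      have h0 := hL n
      rw [SModEq.sub_mem, ← Submodule.Quotient.mk_sub, mk_mem_smul_top_quotient_iff] at h0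
      exact h0
    choose ℓ hℓ using h1
    have h2 : ∀ k, ℓ (k + 1) - ℓ k ∈ I ^ k := by
      intro k
      apply mem_of_forall_mem_pow_sup (I ^ k) J hJ
      intro n
      have a1 := hℓ k n
      have hle : J ^ n ⊔ I ^ (k + 1) ≤ J ^ n ⊔ I ^ k :=
        sup_le_sup le_rfl (Ideal.pow_le_pow_right (Nat.le_succ k))
      have a2 : f n - ℓ (k + 1) ∈ J ^ n ⊔ I ^ k := hle (hℓ (k + 1) n)
      have h3 : ℓ (k + 1) - ℓ k = (f n - ℓ k) - (f n - ℓ (k + 1)) := by ring
      rw [h3]
      exact Submodule.sub_mem _ a1 a2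
    have h3 : ∀ m n, m ≤ n → ℓ n - ℓ m ∈ I ^ m := by
      intro m n hmn
      induction n, hmn using Nat.le_induction with
      | base => rw [sub_self]; exact Ideal.zero_mem _
      | succ n hmn ih =>
        have h4 : ℓ (n + 1) - ℓ m = (ℓ (n + 1) - ℓ n) + (ℓ n - ℓ m) := by ring
        rw [h4]
        exact Ideal.add_mem _ (Ideal.pow_le_pow_right hmn (h2 n)) ih
    obtain ⟨L, hL⟩ := IsPrecomplete.prec (inferInstance : IsPrecomplete I A) (f := ℓ) (by
      intro m n hmn
      rw [SModEq.sub_mem, smul_eq_mul, Ideal.mul_top]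
      have := h3 m n hmn
      rw [← neg_sub]
      exact (I ^ m).neg_mem this)
    refine ⟨L, fun n => ?_⟩
    rw [SModEq.sub_mem, smul_eq_mul, Ideal.mul_top]
    apply mem_of_forall_mem_pow_sup (J ^ n) I hI
    intro k
    have a1 := hℓ k n
    have a2 := hL k
    rw [SModEq.sub_mem, smul_eq_mul, Ideal.mul_top] at a2
    have h4 : f n - L = (f n - ℓ k) + (ℓ k - L) := by ring
    rw [h4, sup_comm]
    exact Ideal.add_mem _ a1 (Ideal.mem_sup_right a2)
  exact IsAdicComplete.mk

end Groth.Agent.S0545
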