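import Groth.Statements.S0550
import Groth.Agent.Lib.Helper65.ComplFree

set_option autoImplicit false
universe u
open CAlg

namespace Groth.Agent.S0550

open Groth.Agent.Lib.Helper65.ComplFree

theorem flat_aux (R : Type u) [CommRing R] [IsNoetherianRing R]
    (I : Ideal R) (α : Type u) : Module.Flat R (AdicCompletion I (α →₀ R)) := by
  classical
  apply Module.Flat.of_forall_isTrivialRelation
  intro l f x hx
  -- the kernel of `f`
  let φ : (Fin l → R) →ₗ[R] R := ∑ i, f i • (LinearMap.proj i : (Fin l → R) →ₗ[R] R)
  have hφ : ∀ v, φ v = ∑ i, f i * v i := by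
    intro v
    simp [φ, LinearMap.sum_apply]
  obtain ⟨k, g, hg⟩ := (Submodule.fg_iff_exists_fin_generating_family).1
    (IsNoetherian.noetherian (LinearMap.ker φ))
  let a : Fin l → Fin k → R := fun i j => g j i
  have ha : ∀ j, ∑ i, f i • a i j = 0 := by
    intro j
    have : g j ∈ LinearMap.ker φ := by
      rw [← hg]
      exact Submodule.subset_span ⟨j, rfl⟩
    rw [LinearMap.mem_ker, hφ] at this
    simpa [a] using this
  -- Cauchy representatives
  choose x' hx' using fun i => AdicCompletion.mk_surjective I (α →₀ R) (x i)
  -- Artin-Rees for the row `f`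
  obtain ⟨c, hc⟩ := exists_AR I (fun (_ : Fin 1) i => f i)
  have hkey : ∀ n, ∃ y : Fin k → (α →₀ R),
      ∀ i, x' i n - mulA a (α →₀ R) y i ∈ (I ^ n • ⊤ : Submodule R (α →₀ R)) := by
    intro n
    -- the relation at level n + c
    have hrel : ∑ i, f i • x' i (n + c) ∈ (I ^ (n + c) • ⊤ : Submodule R (α →₀ R)) := by
      have h1 := congrArg (fun z => AdicCompletion.eval I (α →₀ R) (n + c) z) hx
      simp only [map_sum, map_smul, map_zero, ← hx', AdicCompletion.eval_apply,
        AdicCompletion.mk_apply_coe, Submodule.mkQ_apply] at h1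
      rw [← Submodule.Quotient.mk_eq_zero]
      rw [← h1]
      induction (Finset.univ : Finset (Fin l)) using Finset.induction_on with
      | empty => simp
      | insert x s hx ih =>
        rw [Finset.sum_insert hx, Finset.sum_insert hx, Submodule.Quotient.mk_add,
          Submodule.Quotient.mk_smul, ih]
    let P : (Fin l → R) → (Fin k → R) → Prop := fun v w =>
      (∑ i, f i * v i ∈ I ^ (n + c)) → ∀ i, v i - mulA a R w i ∈ I ^ n
    have hex : ∀ v, ∃ w, P v w := by
      intro v
      by_cases hv : ∑ i, f i * v i ∈ I ^ (n + c)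
      · obtain ⟨z, hz1, hz2⟩ := hc n (fun _ => ∑ i, f i * v i) (fun _ => hv)
          ⟨v, by ext; simp [mulA_apply]⟩
        have hz2' : ∑ i, f i * z i = ∑ i, f i * v i := by
          have := congrFun hz2 0
          simpa [mulA_apply] using this
        have hker : v - z ∈ LinearMap.ker φ := by
          rw [LinearMap.mem_ker, hφ]
          simp only [Pi.sub_apply, mul_sub, Finset.sum_sub_distrib, hz2', sub_self]
        rw [← hg, Submodule.mem_span_range_iff_exists_fun] at hker
        obtain ⟨w, hw⟩ := hker
        refine ⟨w, fun _ i => ?_⟩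
        have : v i - mulA a R w i = z i := by
          have h2 := congrFun hw i
          simp only [Finset.sum_apply, Pi.smul_apply, smul_eq_mul, Pi.sub_apply] at h2
          simp only [mulA_apply, a, smul_eq_mul]
          have : ∑ j, g j i * w j = ∑ j, w j * g j i := Finset.sum_congr rfl fun j _ => mul_comm _ _
          rw [this, h2]
          ring
        rw [this]
        exact hz1 i
      · exact ⟨0, fun h => absurd h hv⟩
    choose G hG using hex
    refine ⟨ptw G (fun i => x' i (n + c)), fun i => ?_⟩
    have h1 : x' i n - x' i (n + c) ∈ (I ^ n • ⊤ : Submodule R (α →₀ R)) := by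
      have := (x' i).property (Nat.le_add_right n c)
      rw [SModEq.sub_mem] at this
      exact this
    have h2 : x' i (n + c) - mulA a (α →₀ R) (ptw G (fun i => x' i (n + c))) i ∈
        (I ^ n • ⊤ : Submodule R (α →₀ R)) := by
      rw [mem_pow_smul_top_finsupp_iff]
      intro p
      have := ptw_prop G (fun i => x' i (n + c)) P (fun _ i => by simp [mulA_apply]) hG p
      rw [Finsupp.sub_apply, mulA_finsupp_apply]
      refine this ?_ i
      have h3 := (mem_pow_smul_top_finsupp_iff I (n + c) _).1 hrel p
      simpa [Finsupp.finset_sum_apply] using h3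
    have : x' i n - mulA a (α →₀ R) (ptw G (fun i => x' i (n + c))) i =
        (x' i n - x' i (n + c)) +
        (x' i (n + c) - mulA a (α →₀ R) (ptw G (fun i => x' i (n + c))) i) := by abel
    rw [this]
    exact Submodule.add_mem _ h1 h2
  obtain ⟨y, hy⟩ := key I a x' hkey
  exact ⟨k, a, y, fun i => by rw [← hx' i, hy i], ha⟩

/-- Over a Noetherian ring `R` with an ideal `I`, the `I`-adic completion of a free module (on any index
set) is a flat `R`-module. -/
theorem result (R : Type u) [CommRing R] [IsNoetherianRing R]
    (I : Ideal R) (α : Type u) : Module.Flat R (AdicCompletion I (α →₀ R)) :=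
  flat_aux R I α

end Groth.Agent.S0550
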