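import Groth.Statements.S0551
import Mathlib
import Groth.Agent.Lib.Helper65.Flat0912
import Groth.Agent.Lib.Helper54.LocalFlat2
import Groth.Agent.S0542

set_option autoImplicit false
universe u
open CAlg

namespace Groth.Agent.S0551

open TensorProduct Function Groth.Agent.Lib.Helper65

theorem result (R : Type u) [CommRing R] (I : Ideal R) (hI : I.FG)
    [IsNoetherianRing (R ⧸ I)] (M : Type u) [AddCommGroup M] [Module R M]
    [Module.Flat (R ⧸ I) (M ⧸ (I • ⊤ : Submodule R M))]
    (hT : Function.Injective (TensorProduct.lift ((LinearMap.lsmul R M).comp (Submodule.subtype I)))) :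
    Module.Flat (AdicCompletion I R) (AdicCompletion I M) := by
  classical
  haveI : IsNoetherianRing (AdicCompletion I R) := Groth.Agent.S0542.result R I hI
  haveI : IsAdicComplete (I.map (algebraMap R (AdicCompletion I R))) (AdicCompletion I M) :=
    (IsAdicComplete.map_algebraMap_iff _ _).mpr (AdicCompletion.isAdicComplete hI)
  apply Flat0912.flat_of_hypF (I.map (algebraMap R (AdicCompletion I R)))
  intro m
  -- flatness of M/I^m M over R/I^m
  have h2 : Module.Flat (R ⧸ I) ((R ⧸ I) ⊗[R] M) :=
    Module.Flat.of_linearEquiv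
      ((TensorProduct.quotTensorEquivQuotSMul M I).extendScalarsOfSurjective
        Ideal.Quotient.mk_surjective)
  have htor : Injective (I.subtype.rTensor M) := by
    have h1 : (TensorProduct.lid R M).toLinearMap ∘ₗ (I.subtype.rTensor M) =
        TensorProduct.lift ((LinearMap.lsmul R M).comp (Submodule.subtype I)) :=
      LinearMap.lid_comp_rTensor _ _
    have h3 : Injective ((TensorProduct.lid R M).toLinearMap ∘ₗ (I.subtype.rTensor M)) := by
      rw [h1]; exact hT
    exact Injective.of_comp h3
  have h3 := Groth.Agent.Lib.Helper54.LocalFlat.flat_quotient_pow I M htor m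
  have h4 : Module.Flat (R ⧸ I ^ m) (M ⧸ (I ^ m • ⊤ : Submodule R M)) :=
    Module.Flat.of_linearEquiv
      ((TensorProduct.quotTensorEquivQuotSMul M (I ^ m)).extendScalarsOfSurjective
        Ideal.Quotient.mk_surjective).symm
  rw [← Ideal.map_pow]
  have hker : ∀ n : AdicCompletion I M, AdicCompletion.eval I M m n = 0 ↔
      n ∈ ((I ^ m).map (algebraMap R (AdicCompletion I R)) • ⊤ :
        Submodule (AdicCompletion I R) (AdicCompletion I M)) := by
    intro n
    have h5 := Submodule.restrictScalars_map_smul_eq (S := R) (R := AdicCompletion I R)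
      (M := AdicCompletion I M) (I ^ m) ⊤
    rw [Submodule.restrictScalars_top, AdicCompletion.pow_smul_top_eq_ker_eval hI] at h5
    rw [← LinearMap.mem_ker, ← h5]
    rfl
  refine Flat0912.hypF_of_flat (S := R ⧸ I ^ m) (X := M ⧸ (I ^ m • ⊤ : Submodule R M)) _ _
    (AdicCompletion.evalₐ I m).toRingHom (AdicCompletion.surjective_evalₐ I m) ?_
    (AdicCompletion.eval I M m).toAddMonoidHom (AdicCompletion.eval_surjective I M m) ?_ ?_ ?_
  · intro a ha
    have h6 : AdicCompletion.eval I R m a = 0 := by
      rw [← AdicCompletion.factor_evalₐ_eq_eval I a (by simp)]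
      have : AdicCompletion.evalₐ I m a = 0 := ha
      rw [this, map_zero]
    have h7 : a ∈ (I ^ m • ⊤ : Submodule R (AdicCompletion I R)) := by
      rw [AdicCompletion.pow_smul_top_eq_ker_eval hI]
      exact h6
    rw [Ideal.smul_top_eq_map] at h7
    exact h7
  · intro a n
    show AdicCompletion.eval I M m (a • n) = AdicCompletion.evalₐ I m a • AdicCompletion.eval I M m n
    rw [AdicCompletion.eval_apply, AdicCompletion.smul_eval, AdicCompletion.val_smul_eq_evalₐ_smul]
    rfl
  · intro n hn
    exact (hker n).mp hn
  · intro n hn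
    exact (hker n).mpr hn

end Groth.Agent.S0551
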