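import Groth.Statements.S0553
import Groth.Agent.S9126
import Mathlib.RingTheory.FiniteStability
import Mathlib.RingTheory.Localization.BaseChange
-- import your own Groth.Agent.* helpers here

set_option autoImplicit false
universe u
open CAlg
open TensorProduct

namespace Groth.Agent.S0553

/-- A Noetherian ring is universally catenary exactly when its localization at every maximal ideal is
universally catenary. -/
theorem result (R : Type u) [CommRing R]
    [IsNoetherianRing R] :
    CAlg.IsUniversallyCatenary R ↔
      ∀ (m : Ideal R) [m.IsMaximal], CAlg.IsUniversallyCatenary (Localization.AtPrime m) := by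
  constructor
  · intro h m _
    haveI : Algebra.EssFiniteType R (Localization.AtPrime m) :=
      Algebra.EssFiniteType.of_isLocalization (Localization.AtPrime m) m.primeCompl
    exact Groth.Agent.S9126.result R (Localization.AtPrime m) h
  · intro h
    refine ⟨inferInstance, ?_⟩
    intro S _ _ hS
    rw [Groth.Agent.Lib.Helper34.isCatenary_iff_localization_maximal]
    intro n hn
    -- a maximal ideal of R above the contraction of n
    have hp : (n.comap (algebraMap R S)) ≠ ⊤ := (Ideal.IsPrime.comap (algebraMap R S)).ne_top
    obtain ⟨m, hm, hpm⟩ := Ideal.exists_le_maximal _ hp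
    -- T = R_m ⊗ S is of finite type over R_m, hence catenary
    have hT : CAlg.IsCatenary (Localization.AtPrime m ⊗[R] S) := (h m).2 _ inferInstance
    letI : Algebra S (Localization.AtPrime m ⊗[R] S) := Algebra.TensorProduct.rightAlgebra
    haveI : IsLocalization (Algebra.algebraMapSubmonoid S m.primeCompl)
        (Localization.AtPrime m ⊗[R] S) :=
      IsLocalization.tensorRight (Localization.AtPrime m) m.primeCompl
    have hle : Algebra.algebraMapSubmonoid S m.primeCompl ≤ n.primeCompl := by
      rintro _ ⟨r, hr, rfl⟩
      intro hrn
      exact hr (hpm hrn)
    letI : Algebra (Localization.AtPrime m ⊗[R] S) (Localization.AtPrime n) :=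
      IsLocalization.localizationAlgebraOfSubmonoidLe (Localization.AtPrime m ⊗[R] S)
        (Localization.AtPrime n) (Algebra.algebraMapSubmonoid S m.primeCompl) n.primeCompl hle
    haveI : IsScalarTower S (Localization.AtPrime m ⊗[R] S) (Localization.AtPrime n) :=
      IsLocalization.localization_isScalarTower_of_submonoid_le (Localization.AtPrime m ⊗[R] S)
        (Localization.AtPrime n) (Algebra.algebraMapSubmonoid S m.primeCompl) n.primeCompl hle
    haveI : IsLocalization (n.primeCompl.map (algebraMap S (Localization.AtPrime m ⊗[R] S)))
        (Localization.AtPrime n) :=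
      IsLocalization.isLocalization_of_submonoid_le (Localization.AtPrime m ⊗[R] S)
        (Localization.AtPrime n) (Algebra.algebraMapSubmonoid S m.primeCompl) n.primeCompl hle
    exact Groth.Agent.Lib.Helper34.isCatenary_of_isLocalization (Localization.AtPrime m ⊗[R] S)
      (n.primeCompl.map (algebraMap S (Localization.AtPrime m ⊗[R] S))) (Localization.AtPrime n) hT

end Groth.Agent.S0553
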