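import Groth.Statements.S0567
import Groth.Agent.Lib.Helper39.Nag.Main

set_option autoImplicit false
universe u
open CAlg

namespace Groth.Agent.S0567

/-- A ring is Nagata exactly when it is Noetherian and universally Japanese. -/
theorem result (R : Type u) [CommRing R] :
    CAlg.IsNagata R ↔ (IsNoetherianRing R ∧ CAlg.IsUniversallyJapanese R) := by
  constructor
  · intro hR
    refine ⟨hR.1, ?_⟩
    intro S _ _ _ hfin
    have := hfin
    have hS : CAlg.IsNagata S := Groth.Agent.Lib.Helper39.Nag.isNagata_of_finiteType R hR S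
    exact Groth.Agent.Lib.Helper88.isN2_of_ringEquiv (RingEquiv.quotientBot S) (hS.2 ⊥)
  · rintro ⟨hN, hUJ⟩
    refine ⟨hN, ?_⟩
    intro p hp
    exact hUJ (R ⧸ p) (Algebra.FiniteType.of_surjective
      (Ideal.Quotient.mkₐ R p) (Ideal.Quotient.mkₐ_surjective R p))

end Groth.Agent.S0567
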