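import Groth.Statements.S0574
import Groth.Agent.S4562
-- import your own Groth.Agent.* helpers here

set_option autoImplicit false
universe u
open CAlg

namespace Groth.Agent.S0574

/-- For Noetherian domains of characteristic zero the conditions N-1 and N-2 coincide. -/
theorem result (R : Type u) [CommRing R] [IsDomain R] [IsNoetherianRing R]
    [CharZero R] : CAlg.IsN1 R ↔ CAlg.IsN2 R := by
  constructor
  · intro h1 L _ _ _ _ hfin
    haveI : CharZero (FractionRing R) :=
      charZero_of_injective_algebraMap (IsFractionRing.injective R (FractionRing R))
    haveI : Algebra.IsSeparable (FractionRing R) L := inferInstance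
    have hcl : IsIntegrallyClosed (integralClosure R (FractionRing R)) :=
      integralClosure.isIntegrallyClosedOfFiniteExtension (FractionRing R)
    have hfr : IsFractionRing (integralClosure R (FractionRing R)) (FractionRing R) :=
      integralClosure.isFractionRing_of_finite_extension (FractionRing R) (FractionRing R)
    exact Groth.Agent.S4562.finite_integralClosure_of_tower R (FractionRing R) L h1 hcl hfr
  · intro h2
    exact h2 (FractionRing R) inferInstance

end Groth.Agent.S0574
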