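import Groth.Statements.S0577
import Groth.Agent.Lib.Helper88.AnUnram2

set_option autoImplicit false
universe u
open CAlg

namespace Groth.Agent.S0577

/-- Let `A` be a Noetherian local domain of prime characteristic `p` which is a Nagata ring. If `a ∈ A`
has a `p`-th root in the completion of `A`, then it has a `p`-th root in `A`. -/
theorem result (A : Type u) [CommRing A] [IsDomain A]
    [IsLocalRing A] (hA : CAlg.IsNagata A) (p : ℕ) [Fact p.Prime] [CharP A p] (a : A)
    (h : ∃ α : AdicCompletion (IsLocalRing.maximalIdeal A) A,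
      α ^ p = algebraMap A (AdicCompletion (IsLocalRing.maximalIdeal A) A) a) :
    ∃ b : A, b ^ p = a := by
  classical
  obtain ⟨α, hα⟩ := h
  haveI := hA.1
  have hp : p.Prime := Fact.out
  let Ahat := AdicCompletion (IsLocalRing.maximalIdeal A) A
  haveI : Module.Flat A Ahat := inferInstance
  haveI : IsLocalHom (algebraMap A Ahat) := inferInstance
  haveI : Module.FaithfullyFlat A Ahat := Module.FaithfullyFlat.of_flat_of_isLocalHom
  let K := FractionRing A
  let L := AlgebraicClosure K
  obtain ⟨β, hβ⟩ : ∃ β : L, β ^ p = algebraMap A L a :=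
    IsAlgClosed.exists_pow_nat_eq _ hp.pos
  let D : Subalgebra A L := Algebra.adjoin A {β}
  have hβD : β ∈ D := Algebra.subset_adjoin (Set.mem_singleton β)
  have hint : IsIntegral A β := by
    refine ⟨Polynomial.X ^ p - Polynomial.C a, Polynomial.monic_X_pow_sub_C a hp.ne_zero, ?_⟩
    simp [hβ]
  haveI : Module.Finite A D := Module.Finite.iff_fg.mpr hint.fg_adjoin_singleton
  have hND : CAlg.IsNagata D := Groth.Agent.Lib.Helper88.AnUnram2.isNagata_of_finite A D hA
  haveI hred : IsReduced (TensorProduct A D Ahat) :=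
    Groth.Agent.Lib.Helper88.AnUnram2.isReduced_tensor_adicCompletion A D hND
  let β' : D := ⟨β, hβD⟩
  have hβ' : β' ^ p = algebraMap A D a := by
    apply Subtype.ext
    simp [β', hβ]
  let t : TensorProduct A D Ahat := β' ⊗ₜ[A] (1 : Ahat) - (1 : D) ⊗ₜ[A] α
  have ht0 : t = 0 := by
    rcases subsingleton_or_nontrivial (TensorProduct A D Ahat) with hsub | hnon
    · exact Subsingleton.elim _ _
    · have hp0 : ((p : ℕ) : TensorProduct A D Ahat) = 0 := by
        rw [← map_natCast (algebraMap A (TensorProduct A D Ahat)), CharP.cast_eq_zero A p, map_zero]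
      haveI : CharP (TensorProduct A D Ahat) p := (CharP.charP_iff_prime_eq_zero hp).mpr hp0
      apply IsReduced.eq_zero
      refine ⟨p, ?_⟩
      rw [sub_pow_char, Algebra.TensorProduct.tmul_pow, Algebra.TensorProduct.tmul_pow, hβ', hα,
        one_pow, one_pow, Algebra.algebraMap_eq_smul_one, Algebra.algebraMap_eq_smul_one,
        TensorProduct.smul_tmul, sub_self]
  -- pass to the quotient `D ⧸ A·1`
  let N : Submodule A D := LinearMap.range (Algebra.linearMap A D)
  let F : TensorProduct A D Ahat →ₗ[A] TensorProduct A Ahat (D ⧸ N) :=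
    (LinearMap.lTensor Ahat N.mkQ) ∘ₗ (TensorProduct.comm A D Ahat).toLinearMap
  have hF : F t = (1 : Ahat) ⊗ₜ[A] N.mkQ β' := by
    have h1 : N.mkQ (1 : D) = 0 := by
      rw [Submodule.mkQ_apply, Submodule.Quotient.mk_eq_zero]
      exact ⟨1, by simp⟩
    simp only [F, t, map_sub, LinearMap.comp_apply, LinearEquiv.coe_coe, TensorProduct.comm_tmul,
      LinearMap.lTensor_tmul, h1, TensorProduct.tmul_zero, sub_zero]
  rw [ht0, map_zero] at hF
  have hq : N.mkQ β' = 0 := by
    apply Module.FaithfullyFlat.tensorProduct_mk_injective (A := A) (B := Ahat) (D ⧸ N)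
    rw [map_zero, TensorProduct.mk_apply, ← hF]
  rw [Submodule.mkQ_apply, Submodule.Quotient.mk_eq_zero] at hq
  obtain ⟨b, hb⟩ := hq
  refine ⟨b, ?_⟩
  have hinj : Function.Injective (algebraMap A L) := by
    rw [IsScalarTower.algebraMap_eq A K L]
    exact (algebraMap K L).injective.comp (IsFractionRing.injective A K)
  apply hinj
  rw [map_pow, ← hβ]
  congr 1
  have := congrArg (fun z : D => (z : L)) hb
  simpa [β'] using this

end Groth.Agent.S0577
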