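import Groth.Statements.S0579
import Mathlib

set_option autoImplicit false
universe u
open CAlg

namespace Groth.Agent.S0579


open IsLocalRing Polynomial

/-- subrings all of whose nonzero elements are units -/
def Good (R : Type u) [CommRing R] (S : Subring R) : Prop := ∀ x ∈ S, x ≠ 0 → IsUnit x

lemma good_bot (R : Type u) [CommRing R] [IsLocalRing R] [CharZero (ResidueField R)] :
    Good R ⊥ := by
  intro x hx hx0
  obtain ⟨n, rfl⟩ := Subring.mem_bot.mp hx
  have hn : n ≠ 0 := by rintro rfl; simp at hx0
  have : residue R (n : R) ≠ 0 := by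
    rw [map_intCast]; exact_mod_cast hn
  exact (residue_ne_zero_iff_isUnit _).mp this

theorem exists_maximal_good (R : Type u) [CommRing R] [IsLocalRing R]
    [CharZero (ResidueField R)] : ∃ S : Subring R, Maximal (Good R) S := by
  have ih : ∀ c ⊆ {S : Subring R | Good R S}, IsChain (· ≤ ·) c → ∀ y ∈ c,
      ∃ ub ∈ {S : Subring R | Good R S}, ∀ z ∈ c, z ≤ ub := by
    intro c hc hchain y hy
    refine ⟨sSup c, ?_, fun z hz => le_sSup hz⟩
    intro x hx hx0
    obtain ⟨s, hs, hxs⟩ := (Subring.mem_sSup_of_directedOn ⟨y, hy⟩ hchain.directedOn).mp hx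
    exact hc hs x hxs hx0
  obtain ⟨S, -, hS⟩ := zorn_le_nonempty₀ {S : Subring R | Good R S} ih ⊥ (good_bot R)
  exact ⟨S, hS⟩

section key

variable {R : Type u} [CommRing R] [IsLocalRing R]
  {F : Type u} [Field F] (φ : F →+* R) [Algebra F (ResidueField R)]
  (hφ : ∀ q, algebraMap F (ResidueField R) q = residue R (φ q))

include hφ in
lemma residue_eval₂ (α : R) (p : F[X]) :
    residue R (eval₂ φ α p) = aeval (residue R α) p := by
  rw [hom_eval₂, aeval_def]; congr 1; ext q; exact (hφ q).symm

include hφ in
lemma key [IsAdicComplete (maximalIdeal R) R] [CharZero (ResidueField R)]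
    (t : ResidueField R) :
    ∃ α : R, residue R α = t ∧ Good R (eval₂RingHom φ α).range := by
  have hcz : CharZero F := (algebraMap F (ResidueField R)).charZero
  by_cases halg : IsAlgebraic F t
  · have hint : IsIntegral F t := halg.isIntegral
    set g := minpoly F t with hg
    have hmon : g.Monic := minpoly.monic hint
    have hsep : g.Separable := (minpoly.irreducible hint).separable
    obtain ⟨a₀, ha₀⟩ := residue_surjective t
    have h1 : (g.map φ).eval a₀ ∈ maximalIdeal R := by
      rw [← residue_eq_zero_iff, eval_map, residue_eval₂ φ hφ, ha₀, minpoly.aeval]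
    have h2 : IsUnit (Ideal.Quotient.mk (maximalIdeal R) ((g.map φ).derivative.eval a₀)) := by
      change IsUnit (residue R ((g.map φ).derivative.eval a₀))
      rw [derivative_map, eval_map, residue_eval₂ φ hφ, ha₀, isUnit_iff_ne_zero]
      exact hsep.aeval_derivative_ne_zero (minpoly.aeval F t)
    obtain ⟨α, hroot, hα⟩ := HenselianRing.is_henselian (g.map φ) (hmon.map φ) a₀ h1 h2
    have hαt : residue R α = t := by
      rw [← ha₀, ← sub_eq_zero, ← map_sub, residue_eq_zero_iff]; exact hα
    have hgα : eval₂ φ α g = 0 := by rw [← eval_map]; exact hroot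
    refine ⟨α, hαt, ?_⟩
    rintro _ ⟨p, rfl⟩ hx0
    rw [coe_eval₂RingHom] at hx0 ⊢
    have hpr : eval₂ φ α p = eval₂ φ α (p %ₘ g) := by
      conv_lhs => rw [← modByMonic_add_div p g]
      rw [eval₂_add, eval₂_mul, hgα, zero_mul, add_zero]
    rw [← residue_ne_zero_iff_isUnit, hpr, residue_eval₂ φ hφ, hαt]
    intro h0
    have hdvd : g ∣ p %ₘ g := minpoly.dvd F t h0
    have hr0 : p %ₘ g = 0 := eq_zero_of_dvd_of_degree_lt hdvd (degree_modByMonic_lt p hmon)
    rw [hpr, hr0, eval₂_zero] at hx0
    exact hx0 rfl
  · obtain ⟨α, hα⟩ := residue_surjective t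
    refine ⟨α, hα, ?_⟩
    rintro _ ⟨p, rfl⟩ hx0
    rw [coe_eval₂RingHom] at hx0 ⊢
    rw [← residue_ne_zero_iff_isUnit, residue_eval₂ φ hφ, hα]
    intro h0
    have hp0 : p = 0 := (transcendental_iff.mp halg) p h0
    rw [hp0, eval₂_zero] at hx0
    exact hx0 rfl

end key

/-- A local ring which is complete with respect to its maximal ideal and whose residue field has
characteristic zero admits a coefficient field: there is a ring homomorphism from the residue field
to the ring which is a section of the residue map. -/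
theorem result (R : Type u) [CommRing R] [IsLocalRing R]
    [IsAdicComplete (IsLocalRing.maximalIdeal R) R] [CharZero (IsLocalRing.ResidueField R)] :
    ∃ s : IsLocalRing.ResidueField R →+* R, (IsLocalRing.residue R).comp s = RingHom.id _ := by
  obtain ⟨S, hS⟩ := exists_maximal_good R
  have hdom : IsDomain S := by
    have : NoZeroDivisors S := ⟨fun {a b} hab => by
      by_cases ha : a = 0
      · exact Or.inl ha
      · right
        have hu : IsUnit (a : R) := hS.prop a a.2 (fun h => ha (Subtype.ext h))
        have : (a : R) * (b : R) = 0 := by exact_mod_cast congrArg Subtype.val hab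
        exact Subtype.ext (hu.mul_right_eq_zero.mp this)⟩
    exact NoZeroDivisors.to_isDomain S
  have hg : ∀ y : nonZeroDivisors S, IsUnit (S.subtype y) := fun y =>
    hS.prop y.1 y.1.2 (fun h => nonZeroDivisors.coe_ne_zero y (Subtype.ext h))
  let φ : FractionRing S →+* R := IsLocalization.lift hg
  have hφS : ∀ s : S, φ (algebraMap S (FractionRing S) s) = s := fun s => IsLocalization.lift_eq hg s
  let _ : Algebra (FractionRing S) (IsLocalRing.ResidueField R) :=
    ((IsLocalRing.residue R).comp φ).toAlgebra
  have hφ : ∀ q, algebraMap (FractionRing S) (IsLocalRing.ResidueField R) q =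
      IsLocalRing.residue R (φ q) := fun q => rfl
  have hsurj : Function.Surjective ((IsLocalRing.residue R).comp φ) := by
    intro t
    obtain ⟨α, hαt, hgood⟩ := key φ hφ t
    have hle : S ≤ (Polynomial.eval₂RingHom φ α).range := by
      intro s hs
      refine ⟨Polynomial.C (algebraMap S (FractionRing S) ⟨s, hs⟩), ?_⟩
      rw [Polynomial.coe_eval₂RingHom, Polynomial.eval₂_C, hφS]
    have hα : α ∈ (Polynomial.eval₂RingHom φ α).range :=
      ⟨Polynomial.X, by rw [Polynomial.coe_eval₂RingHom, Polynomial.eval₂_X]⟩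
    have hαS : α ∈ S := hS.le_of_ge hgood hle hα
    refine ⟨algebraMap S (FractionRing S) ⟨α, hαS⟩, ?_⟩
    rw [RingHom.comp_apply, hφS, hαt]
  have hinj : Function.Injective ((IsLocalRing.residue R).comp φ) := RingHom.injective _
  let e : FractionRing S ≃+* IsLocalRing.ResidueField R := RingEquiv.ofBijective _ ⟨hinj, hsurj⟩
  refine ⟨φ.comp e.symm.toRingHom, ?_⟩
  ext x
  change (IsLocalRing.residue R).comp φ (e.symm x) = x
  exact e.apply_symm_apply x

end Groth.Agent.S0579
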