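import Groth.Statements.S0582
import Groth.Agent.Lib.Helper26.KapLocalFinal

set_option autoImplicit false
universe u
open CAlg

namespace Groth.Agent.S0582

/-- A projective module, not necessarily finitely generated, over a local ring is free. -/
theorem result (R : Type u) [CommRing R] [IsLocalRing R] (P : Type u)
    [AddCommGroup P] [Module R P] [Module.Projective R P] : Module.Free R P := by
  exact Groth.Agent.Lib.Helper26.KapLocal.free_of_projective R P

end Groth.Agent.S0582
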