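import Groth.Statements.S0594
import Groth.Agent.Lib.Helper24.Lim8Closed
import Groth.Agent.S9200
-- import your own Groth.Agent.* helpers here

set_option autoImplicit false
universe u
open CategoryTheory AlgebraicGeometry
open Lim

namespace Groth.Agent.S0594

/-- Over a quasi-compact quasi-separated base `S`, let `X` be the limit of a cofiltered system of
quasi-compact quasi-separated `S`-schemes, locally of finite type over `S`, whose transition
morphisms are closed immersions. If `X → S` is a closed immersion then so is `Xᵢ → S` for some index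
`i`. -/
theorem result {I : Type u} [SmallCategory I] [IsCofiltered I]
    (S : Scheme.{u}) [CompactSpace S] [QuasiSeparatedSpace S]
    (D : I ⥤ Scheme.{u}) (t : D ⟶ (Functor.const I).obj S) (c : Limits.Cone D)
    (hc : Limits.IsLimit c) [∀ (i j : I) (f : i ⟶ j), IsClosedImmersion (D.map f)]
    [∀ i, CompactSpace (D.obj i)] [∀ i, QuasiSeparatedSpace (D.obj i)]
    [∀ i, LocallyOfFiniteType (t.app i)] (i₀ : I) [IsClosedImmersion (c.π.app i₀ ≫ t.app i₀)] :
    ∃ i : I, IsClosedImmersion (t.app i) := by
  have hnat : ∀ {i j : I} (f : i ⟶ j), (D.map f ≫ t.app j : D.obj i ⟶ S) = t.app i := by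
    intro i j f
    have := t.naturality f
    simpa only [Functor.const_obj_obj, Functor.const_obj_map, Category.comp_id] using this
  have hst : ∀ i : I, (c.π.app i ≫ t.app i : c.pt ⟶ S) = c.π.app i₀ ≫ t.app i₀ := by
    intro i
    rw [← c.w (IsCofiltered.minToLeft i i₀), Category.assoc, hnat,
      ← c.w (IsCofiltered.minToRight i i₀), Category.assoc, hnat]
  have haff : ∀ (i j : I) (a : i ⟶ j), IsAffineHom (D.map a) := fun i j a ↦ inferInstance
  have : IsAffineHom (c.π.app i₀ ≫ t.app i₀) := inferInstance
  obtain ⟨i₁, hi₁⟩ := Groth.Agent.S9200.result S D t c hc i₀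
  have h1 : IsAffineHom (t.app i₁) := hi₁ i₁ (𝟙 i₁)
  have h2 : IsClosedImmersion (c.π.app i₁ ≫ t.app i₁) := by
    have e := hst i₁
    change IsClosedImmersion (c.π.app i₁ ≫ t.app i₁ : c.pt ⟶ S)
    rw [e]; infer_instance
  obtain ⟨j, -, hj⟩ := Groth.Agent.Lib.Helper24.Lim8.exists_isClosedImmersion_app D c hc t i₁
  exact ⟨j, hj⟩

end Groth.Agent.S0594
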