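import Groth.Statements.S0600
import Mathlib
import Groth.Agent.Lib.Helper96.GRingCompletion

set_option autoImplicit false
universe u
open CAlg

namespace Groth.Agent.S0600

/-- If `A` is a G-ring and `I` any ideal, then the map from `A` to its `I`-adic completion is regular. -/
theorem result (A : Type u) [CommRing A] (hA : CAlg.IsGRing A)
    (I : Ideal A) : CAlg.IsRegularHom A (AdicCompletion I A) := by
  haveI : IsNoetherianRing A := hA.1
  exact Groth.Agent.Lib.Helper96.isRegularHom_adicCompletion_of_isGRing A I hA

end Groth.Agent.S0600
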