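import Groth.Statements.S0605
import Groth.Agent.Lib.Helper33.AuslanderBuchsbaum
import Groth.Agent.Lib.Helper29.Depth
import Groth.Agent.S5671
import Groth.Agent.S0563

set_option autoImplicit false
universe u
open CAlg

namespace Groth.Agent.S0605

/-- Over a regular local ring, a finitely generated module whose depth equals the dimension of the ring
(a maximal Cohen–Macaulay module) is free. -/
theorem result (R : Type u) [CommRing R]
    [IsRegularLocalRing R] (M : Type u) [AddCommGroup M] [Module R M] [Module.Finite R M]
    (h : ((LocCoh.depth R M : ℕ∞) : WithBot ℕ∞) = ringKrullDim R) : Module.Free R M := by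
  rcases subsingleton_or_nontrivial M with hsub | hnt
  · exact Module.Free.of_subsingleton R M
  have hnz : ¬ CategoryTheory.Limits.IsZero (ModuleCat.of R M) := fun hz =>
    not_subsingleton M (ModuleCat.subsingleton_of_isZero hz)
  obtain ⟨t, ht⟩ := ENat.ne_top_iff_exists.1
    (Groth.Agent.Lib.Helper29.DepthLib.depth_ne_top (A := R) (M := R))
  have hcm := Groth.Agent.S5671.isCM_of_regular R
  unfold LocCoh.IsCohenMacaulayModule at hcm
  rw [Module.supportDim_self_eq_ringKrullDim] at hcm
  rw [hcm] at h
  have hdep : LocCoh.depth R R = LocCoh.depth R M := by exact_mod_cast h.symm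
  obtain ⟨d, hd⟩ : ∃ d : ℕ, ringKrullDim R = d :=
    ⟨(IsLocalRing.maximalIdeal R).spanFinrank, IsRegularLocalRing.spanFinrank_maximalIdeal.symm⟩
  have hpd := Groth.Agent.S0563.result R d hd M
  have hex : ∃ e, CategoryTheory.HasProjectiveDimensionLT (ModuleCat.of R M) (e + 1) := ⟨d, hpd⟩
  classical
  let e := Nat.find hex
  have he1 : CategoryTheory.HasProjectiveDimensionLT (ModuleCat.of R M) (e + 1) :=
    Nat.find_spec hex
  have he2 : ¬ CategoryTheory.HasProjectiveDimensionLT (ModuleCat.of R M) e := by
    intro hlt
    by_cases he : e = 0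
    · rw [he] at hlt
      exact hnz ((CategoryTheory.hasProjectiveDimensionLT_zero_iff_isZero _).mp hlt)
    · have hmin := Nat.find_min hex (m := e - 1) (by omega)
      apply hmin
      have h1 : e - 1 + 1 = e := by omega
      rw [h1]
      exact hlt
  have hab := Groth.Agent.Lib.Helper33.AB.depth_eq_add_of_hasProjectiveDimensionLT
    (R := R) M e he1 he2
  rw [← hdep, ← ht] at hab
  have he0 : e = 0 := by
    have : t = e + t := by exact_mod_cast hab
    omega
  rw [he0] at he1
  exact Groth.Agent.Lib.Helper33.AB.free_of_hasProjectiveDimensionLT_one M he1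

end Groth.Agent.S0605
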