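import Groth.Statements.S0615
import Mathlib.Tactic.LinearCombination
import Mathlib.Tactic.Ring
import Mathlib.RingTheory.Polynomial.Basic
import Mathlib.RingTheory.MvPolynomial.Ideal
import Mathlib.Algebra.MvPolynomial.Equiv

set_option autoImplicit false
universe u
open RRAlg

namespace Groth.Agent.S0615

open Polynomial in
/-- Core step: if `c` is a non-zero-divisor modulo `J` and `d` is a non-zero-divisor modulo
`J + (c)`, then `c` is a non-zero-divisor modulo `J[T] + (cT - d)`. -/
lemma core {R : Type*} [CommRing R] (J : Ideal R) (c d : R)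
    (h1 : ∀ r, c * r ∈ J → r ∈ J)
    (h2 : ∀ r, d * r ∈ J ⊔ Ideal.span {c} → r ∈ J ⊔ Ideal.span {c})
    (g : R[X])
    (hg : C c * g ∈ Ideal.map (C : R →+* R[X]) J ⊔ Ideal.span {C c * X - C d}) :
    g ∈ Ideal.map (C : R →+* R[X]) J ⊔ Ideal.span {C c * X - C d} := by
  obtain ⟨j, hj, y, hy, hjy⟩ := Submodule.mem_sup.mp hg
  obtain ⟨h, rfl⟩ := Ideal.mem_span_singleton'.mp hy
  -- d * h has all coefficients in J ⊔ (c)
  have hdh : ∀ k, (h.coeff k) ∈ J ⊔ Ideal.span {c} := by
    intro k
    apply h2
    have e1 : C d * h = C c * (X * h) - C c * g + j := by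
      linear_combination (-1 : R[X]) * hjy
    have : (C d * h).coeff k ∈ J ⊔ Ideal.span {c} := by
      rw [e1]
      simp only [coeff_add, coeff_sub, coeff_C_mul]
      refine Ideal.add_mem _ (Ideal.sub_mem _ ?_ ?_) ?_
      · exact Ideal.mem_sup_right (Ideal.mul_mem_right _ _ (Ideal.mem_span_singleton_self c))
      · exact Ideal.mem_sup_right (Ideal.mul_mem_right _ _ (Ideal.mem_span_singleton_self c))
      · exact Ideal.mem_sup_left ((Ideal.mem_map_C_iff.mp hj) k)
    simpa [coeff_C_mul] using this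
  -- write h = j' + C c * h'
  have hh : h ∈ Ideal.map (C : R →+* R[X]) J ⊔ Ideal.span {C c} := by
    have : h ∈ Ideal.map (C : R →+* R[X]) (J ⊔ Ideal.span {c}) := Ideal.mem_map_C_iff.mpr hdh
    rwa [Ideal.map_sup, Ideal.map_span, Set.image_singleton] at this
  obtain ⟨j', hj', y', hy', rfl⟩ := Submodule.mem_sup.mp hh
  obtain ⟨h', rfl⟩ := Ideal.mem_span_singleton'.mp hy'
  have key : C c * (g - (C c * X - C d) * h') ∈ Ideal.map (C : R →+* R[X]) J := by
    have : C c * (g - (C c * X - C d) * h') = j + j' * (C c * X - C d) := by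
      linear_combination (-1 : R[X]) * hjy
    rw [this]
    exact Ideal.add_mem _ hj (Ideal.mul_mem_right _ _ hj')
  have key2 : g - (C c * X - C d) * h' ∈ Ideal.map (C : R →+* R[X]) J := by
    rw [Ideal.mem_map_C_iff] at key ⊢
    intro k
    apply h1
    simpa [coeff_C_mul] using key k
  have : g = (g - (C c * X - C d) * h') + h' * (C c * X - C d) := by ring
  rw [this]
  exact Ideal.add_mem _ (Ideal.mem_sup_left key2)
    (Ideal.mem_sup_right (Ideal.mul_mem_left _ _ (Ideal.mem_span_singleton_self _)))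

open MvPolynomial in
/-- Non-zero-divisors modulo `I` stay non-zero-divisors modulo `I·A[X]`. -/
lemma nzd_map_C {A : Type*} [CommRing A] {σ : Type*} (I : Ideal A) (x : A)
    (hx : ∀ s, x * s ∈ I → s ∈ I) (r : MvPolynomial σ A)
    (hr : C x * r ∈ Ideal.map (C : A →+* MvPolynomial σ A) I) :
    r ∈ Ideal.map (C : A →+* MvPolynomial σ A) I := by
  rw [MvPolynomial.mem_map_C_iff] at hr ⊢
  intro m
  apply hx
  simpa [coeff_C_mul] using hr m

/-- The weak regularity condition, in elementwise form. -/
def WR {A : Type*} [CommRing A] {m : ℕ} (a : Fin m → A) : Prop :=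
  ∀ (i : Fin m) (r : A), a i * r ∈ Ideal.span (a '' {j | j < i}) →
    r ∈ Ideal.span (a '' {j | j < i})

lemma wr_of_isWeaklyRegular {A : Type*} [CommRing A] {m : ℕ} (a : Fin m → A)
    (ha : RingTheory.Sequence.IsWeaklyRegular A (List.ofFn a)) : WR a := by
  intro i r hr
  have hi : (i : ℕ) < (List.ofFn a).length := by simp
  have h := ha.regular_mod_prev i hi
  rw [isSMulRegular_quotient_iff_mem_of_smul_mem] at h
  have hI : (Ideal.ofList ((List.ofFn a).take i) • ⊤ : Submodule A A) =
      Ideal.span (a '' {j | j < i}) := by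
    rw [Ideal.smul_eq_mul, Ideal.mul_top, Ideal.ofList]
    congr 1
    ext x
    simp only [Set.mem_ofPred_eq, Set.mem_image, List.mem_take_iff_getElem, List.getElem_ofFn,
      List.length_ofFn]
    constructor
    · rintro ⟨j, hj, rfl⟩
      have hj' : j < m := lt_of_lt_of_le hj (min_le_right _ _)
      exact ⟨⟨j, hj'⟩, Fin.lt_def.mpr (lt_of_lt_of_le hj (min_le_left _ _)), rfl⟩
    · rintro ⟨j, hj, rfl⟩
      exact ⟨j, lt_min hj j.isLt, rfl⟩
  have h' := h r
  rw [hI] at h'
  apply h'
  simpa [List.getElem_ofFn] using hr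

lemma wr_init {A : Type*} [CommRing A] {m : ℕ} (a : Fin (m + 1) → A) (ha : WR a) :
    WR (Fin.init a) := by
  intro i r hr
  have hS : (Fin.init a) '' {j | j < i} = a '' {j | j < Fin.castSucc i} := by
    ext x
    simp only [Set.mem_image, Set.mem_ofPred_eq]
    constructor
    · rintro ⟨j, hj, rfl⟩
      exact ⟨Fin.castSucc j, Fin.castSucc_lt_castSucc_iff.mpr hj, rfl⟩
    · rintro ⟨j, hj, rfl⟩
      have hjm : (j : ℕ) < m := lt_of_lt_of_le (Fin.lt_def.mp hj) (by simp [i.isLt.le])
      refine ⟨⟨j, hjm⟩, ?_, ?_⟩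
      · exact Fin.lt_def.mpr (by simpa using Fin.lt_def.mp hj)
      · simp [Fin.init]
  rw [hS] at hr ⊢
  exact ha (Fin.castSucc i) r hr

open MvPolynomial in
/-- The ideal generated by the `a₀ Xᵢ - aᵢ₊₁`. -/
noncomputable def Jgen {A : Type*} [CommRing A] {n : ℕ} (a : Fin (n + 1) → A) : Ideal (MvPolynomial (Fin n) A) :=
  Ideal.span (Set.range fun i : Fin n => C (a 0) * X i - C (a i.succ))

open MvPolynomial in
lemma jgen_sup {A : Type*} [CommRing A] {n : ℕ} (a : Fin (n + 1) → A) :
    Jgen a ⊔ Ideal.span {C (a 0)} =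
      Ideal.map (C : A →+* MvPolynomial (Fin n) A) (Ideal.span (Set.range a)) := by
  apply le_antisymm
  · apply sup_le
    · rw [Jgen, Ideal.span_le]
      rintro _ ⟨i, rfl⟩
      refine Ideal.sub_mem _ (Ideal.mul_mem_right _ _ ?_) ?_
      · exact Ideal.mem_map_of_mem _ (Ideal.subset_span ⟨0, rfl⟩)
      · exact Ideal.mem_map_of_mem _ (Ideal.subset_span ⟨i.succ, rfl⟩)
    · rw [Ideal.span_le, Set.singleton_subset_iff]
      exact Ideal.mem_map_of_mem _ (Ideal.subset_span ⟨0, rfl⟩)
  · rw [Ideal.map_span, Ideal.span_le]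
    rintro _ ⟨_, ⟨j, rfl⟩, rfl⟩
    refine Fin.cases ?_ (fun i => ?_) j
    · exact Ideal.mem_sup_right (Ideal.mem_span_singleton_self _)
    · have : (C (a i.succ) : MvPolynomial (Fin n) A) =
          C (a 0) * X i - (C (a 0) * X i - C (a i.succ)) := by ring
      rw [SetLike.mem_coe, this]
      refine Ideal.sub_mem _ ?_ ?_
      · exact Ideal.mem_sup_right (Ideal.mul_mem_right _ _ (Ideal.mem_span_singleton_self _))
      · exact Ideal.mem_sup_left (Ideal.subset_span ⟨i, rfl⟩)

/-- Peel off the last variable. -/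
noncomputable def eLast (A : Type*) [CommRing A] (n : ℕ) :
    MvPolynomial (Fin (n + 1)) A ≃ₐ[A] Polynomial (MvPolynomial (Fin n) A) :=
  (MvPolynomial.renameEquiv A finSuccEquivLast).trans (MvPolynomial.optionEquivLeft A (Fin n))

lemma eLast_X_castSucc {A : Type*} [CommRing A] {n : ℕ} (i : Fin n) :
    eLast A n (MvPolynomial.X (Fin.castSucc i)) = Polynomial.C (MvPolynomial.X i) := by
  simp [eLast, MvPolynomial.optionEquivLeft_X_some]

lemma eLast_X_last {A : Type*} [CommRing A] {n : ℕ} :
    eLast A n (MvPolynomial.X (Fin.last n)) = Polynomial.X := by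
  simp [eLast, MvPolynomial.optionEquivLeft_X_none]

lemma eLast_C {A : Type*} [CommRing A] {n : ℕ} (r : A) :
    eLast A n (MvPolynomial.C r) = Polynomial.C (MvPolynomial.C r) := by
  simp [eLast, MvPolynomial.optionEquivLeft_C]

lemma map_eLast_jgen {A : Type*} [CommRing A] {n : ℕ} (a : Fin (n + 2) → A) :
    Ideal.map (eLast A n : MvPolynomial (Fin (n + 1)) A →+* _) (Jgen a) =
      Ideal.map (Polynomial.C : MvPolynomial (Fin n) A →+* _) (Jgen (Fin.init a)) ⊔
        Ideal.span {Polynomial.C (MvPolynomial.C (a 0)) * Polynomial.X -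
          Polynomial.C (MvPolynomial.C (a (Fin.last (n + 1))))} := by
  have hcast : ∀ i : Fin n, (eLast A n : MvPolynomial (Fin (n + 1)) A →+* Polynomial (MvPolynomial (Fin n) A))
      (MvPolynomial.C (a 0) * MvPolynomial.X (Fin.castSucc i) -
        MvPolynomial.C (a (Fin.castSucc i).succ)) =
      Polynomial.C (MvPolynomial.C ((Fin.init a) 0) * MvPolynomial.X i -
        MvPolynomial.C ((Fin.init a) i.succ)) := by
    intro i
    simp only [RingHom.coe_coe, map_sub, map_mul, eLast_C, eLast_X_castSucc]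
    simp [Fin.init]
  have hlast : (eLast A n : MvPolynomial (Fin (n + 1)) A →+* Polynomial (MvPolynomial (Fin n) A))
      (MvPolynomial.C (a 0) * MvPolynomial.X (Fin.last n) -
        MvPolynomial.C (a (Fin.last n).succ)) =
      Polynomial.C (MvPolynomial.C (a 0)) * Polynomial.X -
          Polynomial.C (MvPolynomial.C (a (Fin.last (n + 1)))) := by
    simp only [RingHom.coe_coe, map_sub, map_mul, eLast_C, eLast_X_last, Fin.succ_last]
  apply le_antisymm
  · rw [Jgen, Ideal.map_span, Ideal.span_le]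
    rintro _ ⟨_, ⟨i, rfl⟩, rfl⟩
    refine Fin.lastCases ?_ (fun i => ?_) i
    · rw [SetLike.mem_coe, hlast]
      exact Ideal.mem_sup_right (Ideal.mem_span_singleton_self _)
    · rw [SetLike.mem_coe, hcast]
      exact Ideal.mem_sup_left (Ideal.mem_map_of_mem _ (Ideal.subset_span ⟨i, rfl⟩))
  · apply sup_le
    · rw [Jgen, Ideal.map_span, Ideal.span_le]
      rintro _ ⟨_, ⟨i, rfl⟩, rfl⟩
      rw [SetLike.mem_coe, ← hcast]
      exact Ideal.mem_map_of_mem _ (Ideal.subset_span ⟨Fin.castSucc i, rfl⟩)
    · rw [Ideal.span_le, Set.singleton_subset_iff, SetLike.mem_coe, ← hlast]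
      exact Ideal.mem_map_of_mem _ (Ideal.subset_span ⟨Fin.last n, rfl⟩)

/-- `a₀` is a non-zero-divisor modulo `Jgen a`. -/
lemma nzd_jgen {A : Type*} [CommRing A] : ∀ {n : ℕ} (a : Fin (n + 1) → A), WR a →
    ∀ g : MvPolynomial (Fin n) A, MvPolynomial.C (a 0) * g ∈ Jgen a → g ∈ Jgen a := by
  intro n
  induction n with
  | zero =>
    intro a ha g hg
    have hJ : Jgen a = ⊥ := by
      rw [Jgen, Ideal.span_eq_bot]
      rintro _ ⟨i, rfl⟩
      exact i.elim0
    rw [hJ, Ideal.mem_bot] at hg ⊢
    have h0 := ha 0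
    have hS : a '' {j | j < (0 : Fin 1)} = ∅ := by
      ext x; simp
    rw [hS, Ideal.span_empty] at h0
    ext m
    have := congrArg (MvPolynomial.coeff m) hg
    rw [MvPolynomial.coeff_C_mul, MvPolynomial.coeff_zero] at this
    simpa using h0 _ (by simpa using this)
  | succ n ih =>
    intro a ha g hg
    have ha' : WR (Fin.init a) := wr_init a ha
    have ih' := ih (Fin.init a) ha'
    have h0 : (Fin.init a) 0 = a 0 := by simp [Fin.init]
    rw [h0] at ih'
    -- transport along eLast
    have key : ∀ f : MvPolynomial (Fin (n + 1)) A, f ∈ Jgen a ↔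
        eLast A n f ∈ Ideal.map (eLast A n : MvPolynomial (Fin (n + 1)) A →+* _) (Jgen a) := by
      intro f
      constructor
      · intro hf
        exact Ideal.mem_map_of_mem _ hf
      · intro hf
        obtain ⟨x, hx, hxf⟩ := (Ideal.mem_map_of_equiv (eLast A n).toRingEquiv _).mp hf
        have : x = f := (eLast A n).injective hxf
        rwa [← this]
    rw [key] at hg ⊢
    rw [map_eLast_jgen] at hg ⊢
    rw [map_mul, eLast_C] at hg
    refine core (Jgen (Fin.init a)) (MvPolynomial.C (a 0)) (MvPolynomial.C (a (Fin.last (n + 1))))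
      ih' ?_ _ hg
    -- `a_{n+1}` is a non-zero-divisor modulo `(a₀, …, aₙ)`
    intro r hr
    have hsup := jgen_sup (Fin.init a)
    rw [h0] at hsup
    rw [hsup] at hr ⊢
    refine nzd_map_C _ (a (Fin.last (n + 1))) ?_ r hr
    have hS : Set.range (Fin.init a) = a '' {j | j < Fin.last (n + 1)} := by
      ext x
      simp only [Set.mem_range, Set.mem_image, Set.mem_ofPred_eq]
      constructor
      · rintro ⟨j, rfl⟩
        exact ⟨Fin.castSucc j, Fin.castSucc_lt_last j, rfl⟩
      · rintro ⟨j, hj, rfl⟩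
        exact ⟨⟨j, Fin.lt_def.mp hj⟩, by simp [Fin.init]⟩
    rw [hS]
    exact ha (Fin.last (n + 1))

/-- Let A be a commutative ring and a_0, a_1, …, a_n a weakly regular sequence in A (for each i, a_i is
a non-zero-divisor on A/(a_0, …, a_{i−1}); the sequence is indexed here by Fin (n+1)). Then the
kernel of the A-algebra homomorphism A[T_1, …, T_n] → A[1/a_0] sending T_i to a_i/a_0 is the ideal
generated by the elements a_0 T_i − a_i for 1 ≤ i ≤ n (a presentation of the affine blow-up algebra
A[a_1/a_0, …, a_n/a_0]). -/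
theorem result {A : Type u} [CommRing A] {n : ℕ}
    (a : Fin (n + 1) → A) (ha : RingTheory.Sequence.IsWeaklyRegular A (List.ofFn a)) :
    RingHom.ker (MvPolynomial.aeval (R := A) (S₁ := Localization.Away (a 0))
      (fun i : Fin n => IsLocalization.mk' (Localization.Away (a 0)) (a i.succ)
        (⟨a 0, Submonoid.mem_powers (a 0)⟩ : Submonoid.powers (a 0)))) =
      Ideal.span (Set.range fun i : Fin n =>
        MvPolynomial.C (a 0) * MvPolynomial.X i - MvPolynomial.C (a i.succ)) := by
  classical
  have hwr := wr_of_isWeaklyRegular a ha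
  have ha0 : ∀ r : A, a 0 * r = 0 → r = 0 := by
    intro r hr
    have h0 := hwr 0 r
    have hS : a '' {j | j < (0 : Fin (n + 1))} = ∅ := by
      ext x; simp
    rw [hS, Ideal.span_empty] at h0
    simpa using h0 (by simpa using hr)
  change _ = Jgen a
  set φ := (MvPolynomial.aeval (R := A) (S₁ := Localization.Away (a 0))
      (fun i : Fin n => IsLocalization.mk' (Localization.Away (a 0)) (a i.succ)
        (⟨a 0, Submonoid.mem_powers (a 0)⟩ : Submonoid.powers (a 0)))) with hφ
  have hJker : Jgen a ≤ RingHom.ker φ := by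
    rw [Jgen, Ideal.span_le]
    rintro _ ⟨i, rfl⟩
    rw [SetLike.mem_coe, RingHom.mem_ker, map_sub, map_mul, hφ, MvPolynomial.aeval_C,
      MvPolynomial.aeval_X, sub_eq_zero]
    rw [mul_comm]
    simp
  apply le_antisymm
  · intro g hg
    rw [RingHom.mem_ker] at hg
    have claim : ∀ g : MvPolynomial (Fin n) A, ∃ (N : ℕ) (G : A),
        MvPolynomial.C (a 0) ^ N * g - MvPolynomial.C G ∈ Jgen a := by
      intro g
      induction g using MvPolynomial.induction_on with
      | C r => exact ⟨0, r, by simp⟩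
      | add p q hp hq =>
        obtain ⟨N1, G1, h1⟩ := hp
        obtain ⟨N2, G2, h2⟩ := hq
        refine ⟨N1 + N2, a 0 ^ N2 * G1 + a 0 ^ N1 * G2, ?_⟩
        have : MvPolynomial.C (a 0) ^ (N1 + N2) * (p + q) -
            MvPolynomial.C (a 0 ^ N2 * G1 + a 0 ^ N1 * G2) =
            MvPolynomial.C (a 0) ^ N2 * (MvPolynomial.C (a 0) ^ N1 * p - MvPolynomial.C G1) +
              MvPolynomial.C (a 0) ^ N1 * (MvPolynomial.C (a 0) ^ N2 * q - MvPolynomial.C G2) := by
          simp only [map_add, map_mul, map_pow]; ring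
        rw [this]
        exact Ideal.add_mem _ (Ideal.mul_mem_left _ _ h1) (Ideal.mul_mem_left _ _ h2)
      | mul_X p i hp =>
        obtain ⟨N, G, h⟩ := hp
        refine ⟨N + 1, G * a i.succ, ?_⟩
        have : MvPolynomial.C (a 0) ^ (N + 1) * (p * MvPolynomial.X i) -
            MvPolynomial.C (G * a i.succ) =
            (MvPolynomial.C (a 0) ^ N * p - MvPolynomial.C G) *
                (MvPolynomial.C (a 0) * MvPolynomial.X i) +
              MvPolynomial.C G * (MvPolynomial.C (a 0) * MvPolynomial.X i -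
                MvPolynomial.C (a i.succ)) := by
          simp only [map_mul]; ring
        rw [this]
        exact Ideal.add_mem _ (Ideal.mul_mem_right _ _ h)
          (Ideal.mul_mem_left _ _ (Ideal.subset_span ⟨i, rfl⟩))
    obtain ⟨N, G, hNG⟩ := claim g
    have hG : algebraMap A (Localization.Away (a 0)) G = 0 := by
      have h := RingHom.mem_ker.mp (hJker hNG)
      rw [map_sub, map_mul, hg, mul_zero, zero_sub, neg_eq_zero, hφ, MvPolynomial.aeval_C] at h
      exact h
    obtain ⟨⟨_, M, rfl⟩, hM⟩ :=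
      (IsLocalization.map_eq_zero_iff (Submonoid.powers (a 0)) _ G).mp hG
    have hG0 : G = 0 := by
      simp only at hM
      clear hNG hG
      induction M with
      | zero => simpa using hM
      | succ M ih =>
        apply ih
        apply ha0
        rw [← mul_assoc, ← pow_succ']
        exact hM
    rw [hG0, map_zero, sub_zero] at hNG
    clear hG hM hG0
    induction N with
    | zero => simpa using hNG
    | succ N ih =>
      apply ih
      apply nzd_jgen a hwr
      rw [← mul_assoc, ← pow_succ']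
      exact hNG
  · exact hJker

end Groth.Agent.S0615
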