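import Groth.Statements.S0608
import Groth.Agent.S0615

set_option autoImplicit false
universe u
open RRAlg

namespace Groth.Agent.S0608

open Groth.Agent.S0615

section
variable {A : Type*} [CommRing A]

/-- The ideal generated by the sequence. -/
noncomputable def II {n : ℕ} (a : Fin n → A) : Ideal A := Ideal.span (Set.range a)

/-- The Rees map `Xᵢ ↦ aᵢ T`. -/
noncomputable def psi {n : ℕ} (a : Fin n → A) : MvPolynomial (Fin n) A →ₐ[A] Polynomial A :=
  MvPolynomial.aeval (fun i : Fin n => Polynomial.C (a i) * Polynomial.X)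

/-- The ideal of the relations `aᵢ Xⱼ - aⱼ Xᵢ`. -/
noncomputable def LL {n : ℕ} (a : Fin n → A) : Ideal (MvPolynomial (Fin n) A) :=
  Ideal.span {q | ∃ i j : Fin n,
    q = MvPolynomial.C (a i) * MvPolynomial.X j - MvPolynomial.C (a j) * MvPolynomial.X i}

/-- Polynomials whose `j`-th coefficient lies in `I^(j+1)`. -/
def Plus (I : Ideal A) (p : Polynomial A) : Prop := ∀ j, p.coeff j ∈ I ^ (j + 1)

/-- Polynomials whose `j`-th coefficient lies in `I^j`. -/
def Rees (I : Ideal A) (p : Polynomial A) : Prop := ∀ j, p.coeff j ∈ I ^ j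

lemma rees_mul_plus (I : Ideal A) {p q : Polynomial A} (hp : Rees I p) (hq : Plus I q) :
    Plus I (p * q) := by
  intro j
  rw [Polynomial.coeff_mul]
  refine Ideal.sum_mem _ ?_
  rintro ⟨k, l⟩ hkl
  have hkl' : k + l = j := by simpa using hkl
  have : I ^ (j + 1) = I ^ k * I ^ (l + 1) := by rw [← pow_add, ← hkl', add_assoc]
  rw [this]
  exact Ideal.mul_mem_mul (hp k) (hq l)

lemma rees_mul (I : Ideal A) {p q : Polynomial A} (hp : Rees I p) (hq : Rees I q) :
    Rees I (p * q) := by
  intro j
  rw [Polynomial.coeff_mul]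
  refine Ideal.sum_mem _ ?_
  rintro ⟨k, l⟩ hkl
  have hkl' : k + l = j := by simpa using hkl
  have : I ^ j = I ^ k * I ^ l := by rw [← pow_add, ← hkl']
  rw [this]
  exact Ideal.mul_mem_mul (hp k) (hq l)

lemma rees_psi {n : ℕ} (a : Fin n → A) (g : MvPolynomial (Fin n) A) : Rees (II a) (psi a g) := by
  induction g using MvPolynomial.induction_on with
  | C r =>
    intro j
    simp only [psi, MvPolynomial.aeval_C, Polynomial.algebraMap_apply, Algebra.algebraMap_self,
      RingHom.id_apply, Polynomial.coeff_C]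
    split_ifs with h
    · subst h; simp
    · exact Ideal.zero_mem _
  | add p q hp hq =>
    intro j
    rw [map_add, Polynomial.coeff_add]
    exact Ideal.add_mem _ (hp j) (hq j)
  | mul_X p i hp =>
    rw [map_mul]
    refine rees_mul _ hp ?_
    intro j
    simp only [psi, MvPolynomial.aeval_X, Polynomial.coeff_C_mul, Polynomial.coeff_X]
    split_ifs with h
    · subst h
      have : a i ∈ II a := Ideal.subset_span ⟨i, rfl⟩
      simpa using this
    · simp

lemma plus_psi_of_mem {n : ℕ} (a : Fin n → A) (g : MvPolynomial (Fin n) A)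
    (hg : g ∈ Ideal.map (MvPolynomial.C : A →+* MvPolynomial (Fin n) A) (II a)) :
    Plus (II a) (psi a g) := by
  rw [Ideal.map, ] at hg
  induction hg using Submodule.span_induction with
  | mem x hx =>
    obtain ⟨c, hc, rfl⟩ := hx
    intro j
    simp only [psi, MvPolynomial.aeval_C, Polynomial.algebraMap_apply, Algebra.algebraMap_self,
      RingHom.id_apply, Polynomial.coeff_C]
    split_ifs with h
    · subst h; simpa using hc
    · exact Ideal.zero_mem _
  | zero => intro j; simp
  | add x y _ _ hx hy =>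
    intro j
    rw [map_add, Polynomial.coeff_add]
    exact Ideal.add_mem _ (hx j) (hy j)
  | smul r x _ hx =>
    rw [smul_eq_mul, map_mul]
    exact rees_mul_plus _ (rees_psi a r) hx

lemma exists_psi_eq {n : ℕ} (a : Fin n → A) : ∀ (j : ℕ) (c : A), c ∈ II a ^ j →
    ∃ h : MvPolynomial (Fin n) A, psi a h = Polynomial.C c * Polynomial.X ^ j := by
  intro j
  induction j with
  | zero =>
    intro c _
    exact ⟨MvPolynomial.C c, by simp [psi]⟩
  | succ j ih =>
    intro c hc
    rw [pow_succ] at hc
    refine Submodule.mul_induction_on hc ?_ ?_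
    · intro x hx y hy
      obtain ⟨hx', hhx⟩ := ih x hx
      change y ∈ Ideal.span (Set.range a) at hy
      induction hy using Submodule.span_induction with
      | mem y hy =>
        obtain ⟨i, rfl⟩ := hy
        refine ⟨hx' * MvPolynomial.X i, ?_⟩
        rw [map_mul, hhx]
        simp only [psi, MvPolynomial.aeval_X, map_mul, pow_succ]
        ring
      | zero => exact ⟨0, by simp⟩
      | add y z _ _ hy hz =>
        obtain ⟨h1, e1⟩ := hy
        obtain ⟨h2, e2⟩ := hz
        refine ⟨h1 + h2, ?_⟩
        rw [map_add, e1, e2, mul_add, map_add, add_mul]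
      | smul r y _ hy =>
        obtain ⟨h1, e1⟩ := hy
        refine ⟨MvPolynomial.C r * h1, ?_⟩
        rw [map_mul, e1]
        simp only [psi, MvPolynomial.aeval_C, Polynomial.algebraMap_apply,
          Algebra.algebraMap_self, RingHom.id_apply, smul_eq_mul, map_mul]
        ring
    · intro x y hx hy
      obtain ⟨h1, e1⟩ := hx
      obtain ⟨h2, e2⟩ := hy
      refine ⟨h1 + h2, ?_⟩
      rw [map_add, e1, e2, map_add, add_mul]

lemma exists_mem_map_psi_eq_monomial {n : ℕ} (a : Fin n → A) (j : ℕ) (c : A)
    (hc : c ∈ II a ^ (j + 1)) :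
    ∃ h ∈ Ideal.map (MvPolynomial.C : A →+* MvPolynomial (Fin n) A) (II a),
      psi a h = Polynomial.C c * Polynomial.X ^ j := by
  rw [pow_succ'] at hc
  refine Submodule.mul_induction_on hc ?_ ?_
  · intro y hy x hx
    obtain ⟨hx', hhx⟩ := exists_psi_eq a j x hx
    refine ⟨MvPolynomial.C y * hx', Ideal.mul_mem_right _ _ (Ideal.mem_map_of_mem _ hy), ?_⟩
    rw [map_mul, hhx]
    simp only [psi, MvPolynomial.aeval_C, Polynomial.algebraMap_apply,
      Algebra.algebraMap_self, RingHom.id_apply, map_mul]
    ring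
  · intro x y hx hy
    obtain ⟨h1, m1, e1⟩ := hx
    obtain ⟨h2, m2, e2⟩ := hy
    refine ⟨h1 + h2, Ideal.add_mem _ m1 m2, ?_⟩
    rw [map_add, e1, e2, map_add, add_mul]

lemma exists_mem_map_psi_eq {n : ℕ} (a : Fin n → A) (p : Polynomial A) (hp : Plus (II a) p) :
    ∃ h ∈ Ideal.map (MvPolynomial.C : A →+* MvPolynomial (Fin n) A) (II a), psi a h = p := by
  classical
  choose! f hf1 hf2 using fun j => exists_mem_map_psi_eq_monomial a j (p.coeff j) (hp j)
  refine ⟨∑ j ∈ Finset.range (p.natDegree + 1), f j, Ideal.sum_mem _ (fun j _ => hf1 j), ?_⟩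
  rw [map_sum]
  conv_rhs => rw [p.as_sum_range_C_mul_X_pow]
  exact Finset.sum_congr rfl (fun j _ => hf2 j)

/-- The statement that the kernel of `psi a` is contained in `LL a`. -/
def KerLe {n : ℕ} (a : Fin n → A) : Prop :=
  ∀ g : MvPolynomial (Fin n) A, psi a g = 0 → g ∈ LL a

lemma ll_le_map {n : ℕ} (a : Fin n → A) :
    LL a ≤ Ideal.map (MvPolynomial.C : A →+* MvPolynomial (Fin n) A) (II a) := by
  rw [LL, Ideal.span_le]
  rintro _ ⟨i, j, rfl⟩
  refine Ideal.sub_mem _ (Ideal.mul_mem_right _ _ ?_) (Ideal.mul_mem_right _ _ ?_)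
  · exact Ideal.mem_map_of_mem _ (Ideal.subset_span ⟨i, rfl⟩)
  · exact Ideal.mem_map_of_mem _ (Ideal.subset_span ⟨j, rfl⟩)

lemma ll_le_ker {n : ℕ} (a : Fin n → A) : LL a ≤ RingHom.ker (psi a) := by
  rw [LL, Ideal.span_le]
  rintro _ ⟨i, j, rfl⟩
  rw [SetLike.mem_coe, RingHom.mem_ker]
  simp only [psi, map_sub, map_mul, MvPolynomial.aeval_C, MvPolynomial.aeval_X,
    Polynomial.algebraMap_apply, Algebra.algebraMap_self, RingHom.id_apply]
  ring

lemma mem_map_of_plus {n : ℕ} (a : Fin n → A) (hR : KerLe a) (g : MvPolynomial (Fin n) A)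
    (hg : Plus (II a) (psi a g)) :
    g ∈ Ideal.map (MvPolynomial.C : A →+* MvPolynomial (Fin n) A) (II a) := by
  obtain ⟨h, hh, he⟩ := exists_mem_map_psi_eq a _ hg
  have : g - h ∈ LL a := hR _ (by rw [map_sub, he, sub_self])
  have h2 := ll_le_map a this
  have : g = (g - h) + h := by ring
  rw [this]
  exact Ideal.add_mem _ h2 hh

lemma nzd_pow {n : ℕ} (a : Fin n → A) (hR : KerLe a) (x : A)
    (hx : ∀ s, x * s ∈ II a → s ∈ II a) :
    ∀ (j : ℕ) (r : A), x * r ∈ II a ^ (j + 1) → r ∈ II a ^ (j + 1) := by
  intro j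
  induction j with
  | zero =>
    intro r hr
    rw [zero_add, pow_one] at hr ⊢
    exact hx r hr
  | succ j ih =>
    intro r hr
    have hr1 : r ∈ II a ^ (j + 1) := ih r (Ideal.pow_le_pow_right (Nat.le_succ _) hr)
    obtain ⟨h, hh⟩ := exists_psi_eq a (j + 1) r hr1
    have hplus : Plus (II a) (psi a (MvPolynomial.C x * h)) := by
      intro k
      rw [map_mul, hh]
      simp only [psi, MvPolynomial.aeval_C, Polynomial.algebraMap_apply,
        Algebra.algebraMap_self, RingHom.id_apply]
      rw [← mul_assoc, ← Polynomial.C_mul, Polynomial.coeff_C_mul_X_pow]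
      split_ifs with hk
      · subst hk; exact hr
      · exact Ideal.zero_mem _
    have h1 := mem_map_of_plus a hR _ hplus
    have h2 := nzd_map_C (II a) x hx h h1
    have h3 := plus_psi_of_mem a h h2 (j + 1)
    rw [hh, Polynomial.coeff_C_mul_X_pow, if_pos rfl] at h3
    exact h3

lemma nzd_pow' {n : ℕ} (a : Fin n → A) (hR : KerLe a) (x : A)
    (hx : ∀ s, x * s ∈ II a → s ∈ II a) (j : ℕ) :
    ∀ (m : ℕ) (r : A), x ^ m * r ∈ II a ^ (j + 1) → r ∈ II a ^ (j + 1) := by
  intro m
  induction m with
  | zero => intro r hr; simpa using hr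
  | succ m ih =>
    intro r hr
    apply ih
    apply nzd_pow a hR x hx j
    rw [← mul_assoc, ← pow_succ']
    exact hr

section step
variable {n : ℕ} (a : Fin (n + 1) → A)

/-- `Ψ F = Σ ψ'(F_k) (x T)^k`. -/
noncomputable def Psi : Polynomial (MvPolynomial (Fin n) A) →ₐ[A] Polynomial A :=
  Polynomial.aevalTower (psi (Fin.init a)) (Polynomial.C (a (Fin.last n)) * Polynomial.X)

lemma psi_eq_Psi (f : MvPolynomial (Fin (n + 1)) A) : psi a f = Psi a (eLast A n f) := by
  have : psi a = (Psi a).comp (eLast A n : MvPolynomial (Fin (n + 1)) A →ₐ[A] _) := by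
    apply MvPolynomial.algHom_ext
    intro i
    refine Fin.lastCases ?_ (fun i => ?_) i
    · simp [psi, Psi, eLast_X_last]
    · simp [psi, Psi, eLast_X_castSucc, Fin.init]
  rw [this]
  rfl

lemma Psi_apply (F : Polynomial (MvPolynomial (Fin n) A)) :
    Psi a F = ∑ k ∈ Finset.range (F.natDegree + 1),
      psi (Fin.init a) (F.coeff k) *
        (Polynomial.C (a (Fin.last n) ^ k) * Polynomial.X ^ k) := by
  change Polynomial.eval₂ _ _ F = _
  rw [Polynomial.eval₂_eq_sum_range]
  refine Finset.sum_congr rfl (fun k _ => ?_)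
  rw [mul_pow, ← Polynomial.C_pow]
  rfl

lemma Psi_coeff_mem (F : Polynomial (MvPolynomial (Fin n) A)) (K : ℕ) (hF : F.natDegree ≤ K)
    (j : ℕ) : (Psi a F).coeff (j + K + 1) ∈ II (Fin.init a) ^ (j + 1) := by
  rw [Psi_apply, Polynomial.finsetSum_coeff]
  refine Ideal.sum_mem _ (fun k hk => ?_)
  have hk' : k ≤ K := le_trans (Nat.lt_succ_iff.mp (Finset.mem_range.mp hk)) hF
  rw [← mul_assoc, Polynomial.coeff_mul_X_pow', if_pos (by omega), mul_comm,
    Polynomial.coeff_C_mul]
  refine Ideal.mul_mem_left _ _ ?_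
  exact Ideal.pow_le_pow_right (by omega) (rees_psi (Fin.init a) (F.coeff k) (j + K + 1 - k))

/-- inclusion of `P_n` into `P_{n+1}` -/
noncomputable def iota : MvPolynomial (Fin n) A →+* MvPolynomial (Fin (n + 1)) A :=
  ((eLast A n).symm : _ →+* _).comp Polynomial.C

lemma eLast_symm_C_X (i : Fin n) :
    (eLast A n).symm (Polynomial.C (MvPolynomial.X i)) = MvPolynomial.X (Fin.castSucc i) := by
  rw [← eLast_X_castSucc, AlgEquiv.symm_apply_apply]

lemma eLast_symm_X : (eLast A n).symm Polynomial.X = MvPolynomial.X (Fin.last n) := by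
  rw [← eLast_X_last, AlgEquiv.symm_apply_apply]

lemma eLast_symm_C_C (r : A) :
    (eLast A n).symm (Polynomial.C (MvPolynomial.C r)) = MvPolynomial.C r := by
  rw [← eLast_C, AlgEquiv.symm_apply_apply]

lemma iota_mem (f : MvPolynomial (Fin n) A) (hf : f ∈ LL (Fin.init a)) :
    (eLast A n).symm (Polynomial.C f) ∈ LL a := by
  have : LL (Fin.init a) ≤ Ideal.comap (iota (A := A) (n := n)) (LL a) := by
    rw [LL, Ideal.span_le]
    rintro _ ⟨i, j, rfl⟩
    rw [SetLike.mem_coe, Ideal.mem_comap]
    simp only [iota, RingHom.comp_apply, map_sub, map_mul, RingHom.coe_coe, eLast_symm_C_C,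
      eLast_symm_C_X]
    exact Ideal.subset_span ⟨Fin.castSucc i, Fin.castSucc j, by simp [Fin.init]⟩
  exact this hf

lemma gen_mem (i : Fin n) :
    (eLast A n).symm (Polynomial.C (MvPolynomial.C (Fin.init a i)) * Polynomial.X -
      Polynomial.C (MvPolynomial.C (a (Fin.last n)) * MvPolynomial.X i)) ∈ LL a := by
  simp only [map_sub, map_mul, eLast_symm_C_C, eLast_symm_C_X, eLast_symm_X]
  exact Ideal.subset_span ⟨Fin.castSucc i, Fin.last n, by simp [Fin.init]⟩

end step

lemma kerLe_succ {n : ℕ} (a : Fin (n + 1) → A) (hR : KerLe (Fin.init a))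
    (hx : ∀ s, a (Fin.last n) * s ∈ II (Fin.init a) → s ∈ II (Fin.init a)) : KerLe a := by
  classical
  have main : ∀ (K : ℕ) (F : Polynomial (MvPolynomial (Fin n) A)), F.natDegree ≤ K →
      Psi a F = 0 → (eLast A n).symm F ∈ LL a := by
    intro K
    induction K with
    | zero =>
      intro F hF hΨ
      rw [Polynomial.eq_C_of_natDegree_le_zero hF] at hΨ ⊢
      apply iota_mem
      apply hR
      simpa [Psi] using hΨ
    | succ K ih =>
      intro F hF hΨ
      by_cases hFK : F.natDegree ≤ K
      · exact ih F hFK hΨ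
      have hdeg : F.natDegree = K + 1 := le_antisymm hF (by omega)
      set fK := F.leadingCoeff with hfK
      set E := F.eraseLead with hE
      have hFE : F = E + Polynomial.C fK * Polynomial.X ^ (K + 1) := by
        rw [hE, hfK, ← hdeg, Polynomial.eraseLead_add_C_mul_X_pow]
      have hEdeg : E.natDegree ≤ K := by
        have h := Polynomial.eraseLead_natDegree_le F
        rw [hdeg] at h
        exact h
      -- the leading coefficient maps into `Plus`
      have hplus : Plus (II (Fin.init a)) (psi (Fin.init a) fK) := by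
        intro j
        apply nzd_pow' (Fin.init a) hR _ hx j (K + 1)
        have h1 : (Psi a F).coeff (j + K + 1) = 0 := by rw [hΨ]; simp
        rw [hFE, map_add, Polynomial.coeff_add] at h1
        have h2 : (Psi a (Polynomial.C fK * Polynomial.X ^ (K + 1))).coeff (j + K + 1) =
            a (Fin.last n) ^ (K + 1) * (psi (Fin.init a) fK).coeff j := by
          simp only [Psi, map_mul, map_pow, Polynomial.aevalTower_C, Polynomial.aevalTower_X]
          rw [mul_pow, ← Polynomial.C_pow, ← mul_assoc, add_assoc,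
            Polynomial.coeff_mul_X_pow, mul_comm, Polynomial.coeff_C_mul]
        rw [h2] at h1
        have h3 := Psi_coeff_mem a E K hEdeg j
        have : a (Fin.last n) ^ (K + 1) * (psi (Fin.init a) fK).coeff j =
            -(Psi a E).coeff (j + K + 1) := by
          linear_combination h1
        rw [this]
        exact Ideal.neg_mem_iff _ |>.mpr h3
      obtain ⟨h, hh, he⟩ := exists_mem_map_psi_eq (Fin.init a) _ hplus
      have hfh : fK - h ∈ LL (Fin.init a) := hR _ (by rw [map_sub, he, sub_self])
      rw [II, Ideal.map_span, ← Set.range_comp] at hh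
      obtain ⟨hc, hhc⟩ := (Ideal.mem_span_range_iff_exists_fun).mp hh
      set S : MvPolynomial (Fin n) A := ∑ i, hc i * MvPolynomial.X i with hS
      set F' : Polynomial (MvPolynomial (Fin n) A) :=
        E + Polynomial.C (MvPolynomial.C (a (Fin.last n)) * S) * Polynomial.X ^ K with hF'
      have hdiff : F - F' = Polynomial.C (fK - h) * Polynomial.X ^ (K + 1) +
          ∑ i, Polynomial.C (hc i) *
            (Polynomial.C (MvPolynomial.C (Fin.init a i)) * Polynomial.X -
              Polynomial.C (MvPolynomial.C (a (Fin.last n)) * MvPolynomial.X i)) *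
                Polynomial.X ^ K := by
        have e1 : ∑ i, Polynomial.C (hc i) *
            (Polynomial.C (MvPolynomial.C (Fin.init a i)) * Polynomial.X -
              Polynomial.C (MvPolynomial.C (a (Fin.last n)) * MvPolynomial.X i)) *
                Polynomial.X ^ K =
            Polynomial.C h * Polynomial.X ^ (K + 1) -
              Polynomial.C (MvPolynomial.C (a (Fin.last n)) * S) * Polynomial.X ^ K := by
          rw [← hhc, hS, Finset.mul_sum, map_sum, map_sum, Finset.sum_mul, Finset.sum_mul,
            ← Finset.sum_sub_distrib]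
          refine Finset.sum_congr rfl (fun i _ => ?_)
          simp only [Function.comp_apply, map_mul, pow_succ]
          ring
        rw [e1, hF', hFE]
        simp only [map_sub]
        ring
      have hdiffmem : (eLast A n).symm (F - F') ∈ LL a := by
        rw [hdiff, map_add, map_mul, map_sum]
        refine Ideal.add_mem _ (Ideal.mul_mem_right _ _ (iota_mem a _ hfh)) ?_
        refine Ideal.sum_mem _ (fun i _ => ?_)
        rw [map_mul, map_mul]
        exact Ideal.mul_mem_right _ _ (Ideal.mul_mem_left _ _ (gen_mem a i))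
      have hΨ' : Psi a F' = 0 := by
        have h0 : Psi a (F - F') = 0 := by
          have := ll_le_ker a hdiffmem
          rw [RingHom.mem_ker, psi_eq_Psi, AlgEquiv.apply_symm_apply] at this
          exact this
        have : F' = F - (F - F') := by ring
        rw [this, map_sub, hΨ, h0, sub_zero]
      have hF'deg : F'.natDegree ≤ K := by
        rw [hF']
        refine le_trans (Polynomial.natDegree_add_le _ _) (max_le hEdeg ?_)
        exact Polynomial.natDegree_C_mul_X_pow_le _ _
      have := ih F' hF'deg hΨ'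
      have e2 : F = F' + (F - F') := by ring
      rw [e2, map_add]
      exact Ideal.add_mem _ this hdiffmem
  intro g hg
  have := main (eLast A n g).natDegree (eLast A n g) le_rfl (by rw [← psi_eq_Psi, hg])
  rwa [AlgEquiv.symm_apply_apply] at this

lemma kerLe_of_wr : ∀ {n : ℕ} (a : Fin n → A), WR a → KerLe a := by
  intro n
  induction n with
  | zero =>
    intro a _ g hg
    have hgC : g = MvPolynomial.C (MvPolynomial.coeff 0 g) := MvPolynomial.eq_C_of_isEmpty g
    rw [hgC] at hg ⊢
    simp only [psi, MvPolynomial.aeval_C, Polynomial.algebraMap_apply, Algebra.algebraMap_self,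
      RingHom.id_apply, Polynomial.C_eq_zero] at hg
    rw [hg, map_zero]
    exact Ideal.zero_mem _
  | succ n ih =>
    intro a ha
    refine kerLe_succ a (ih _ (wr_init a ha)) ?_
    have hS : Set.range (Fin.init a) = a '' {j | j < Fin.last n} := by
      ext x
      simp only [Set.mem_range, Set.mem_image, Set.mem_ofPred_eq]
      constructor
      · rintro ⟨j, rfl⟩
        exact ⟨Fin.castSucc j, Fin.castSucc_lt_last j, rfl⟩
      · rintro ⟨j, hj, rfl⟩
        exact ⟨⟨j, Fin.lt_def.mp hj⟩, by simp [Fin.init]⟩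
    rw [II, hS]
    exact ha (Fin.last n)

end

/-- Let a_1, …, a_n be a weakly regular sequence in a commutative ring A (each a_i is a non-zero-divisor
modulo (a_1, …, a_(i−1)); the a_i are allowed to generate the unit ideal). Then the kernel of the
A-algebra map A[X_1, …, X_n] → A[T] sending X_i to a_i·T, whose image is the Rees algebra of the
ideal (a_1, …, a_n), is the ideal generated by the elements a_i X_j − a_j X_i. (The published
statement assumes a regular sequence; only weak regularity is assumed here.) -/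
theorem result {A : Type u} [CommRing A] {n : ℕ} (a : Fin n → A)
    (ha : RingTheory.Sequence.IsWeaklyRegular A (List.ofFn a)) :
    RingHom.ker (MvPolynomial.aeval (R := A)
      (fun i : Fin n => Polynomial.C (a i) * (Polynomial.X : Polynomial A))) =
      Ideal.span {q : MvPolynomial (Fin n) A | ∃ i j : Fin n,
        q = MvPolynomial.C (a i) * MvPolynomial.X j - MvPolynomial.C (a j) * MvPolynomial.X i} := by
  change RingHom.ker (psi a) = LL a
  exact le_antisymm
    (fun g hg => kerLe_of_wr a (wr_of_isWeaklyRegular a ha) g (RingHom.mem_ker.mp hg))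
    (ll_le_ker a)

end Groth.Agent.S0608
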