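import Groth.Statements.S0611
import Mathlib.RingTheory.Regular.RegularSequence
import Mathlib.LinearAlgebra.Matrix.NonsingularInverse
import Mathlib.RingTheory.LocalRing.ResidueField.Basic
import Mathlib.Tactic

set_option autoImplicit false
universe u v
open RRAlg

namespace Groth.Agent.S0611

open RingTheory.Sequence

section Helpers


variable {A : Type u} [CommRing A]

theorem ofList_ofFn {n : ℕ} (a : Fin n → A) :
    Ideal.ofList (List.ofFn a) = Ideal.span (Set.range a) := by
  unfold Ideal.ofList
  congr 1
  ext x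
  simp [List.mem_ofFn']

/-- Relations among the elements of a weakly regular sequence have coefficients in the ideal. -/
theorem relation_mem {n : ℕ} (a : Fin n → A) (ha : IsWeaklyRegular A (List.ofFn a))
    (d : Fin n → A) (hd : ∑ i, d i * a i = 0) (i : Fin n) : d i ∈ Ideal.span (Set.range a) := by
  induction n with
  | zero => exact i.elim0
  | succ n ih =>
    rw [List.ofFn_succ', List.concat_eq_append, isWeaklyRegular_append_iff,
      isWeaklyRegular_singleton_iff] at ha
    obtain ⟨ha1, ha2⟩ := ha
    set a' : Fin n → A := fun i => a (Fin.castSucc i) with ha'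
    rw [Fin.sum_univ_castSucc] at hd
    -- the last coefficient lies in the ideal of the first n
    have hlast : d (Fin.last n) ∈ Ideal.span (Set.range a') := by
      have hmem : ∑ i : Fin n, d (Fin.castSucc i) * a (Fin.castSucc i) ∈
          (Ideal.ofList (List.ofFn a') • ⊤ : Submodule A A) := by
        refine Submodule.sum_mem _ fun i _ => ?_
        rw [mul_comm]
        refine Submodule.smul_mem_smul ?_ trivial
        rw [ofList_ofFn]
        exact Ideal.subset_span ⟨i, rfl⟩
      have h0 : a (Fin.last n) • (Submodule.Quotient.mk (d (Fin.last n)) :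
          A ⧸ (Ideal.ofList (List.ofFn a') • ⊤ : Submodule A A)) = 0 := by
        rw [← Submodule.Quotient.mk_smul, Submodule.Quotient.mk_eq_zero]
        have : a (Fin.last n) • d (Fin.last n) =
            -∑ i : Fin n, d (Fin.castSucc i) * a (Fin.castSucc i) := by
          rw [smul_eq_mul]
          linear_combination hd
        rw [this]
        exact Submodule.neg_mem _ hmem
      have h1 : (Submodule.Quotient.mk (d (Fin.last n)) :
          A ⧸ (Ideal.ofList (List.ofFn a') • ⊤ : Submodule A A)) = 0 :=
        ha2 (show a (Fin.last n) • _ = a (Fin.last n) • 0 by rw [h0, smul_zero])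
      rw [Submodule.Quotient.mk_eq_zero] at h1
      have h2 : (Ideal.ofList (List.ofFn a') • ⊤ : Submodule A A) = Ideal.span (Set.range a') := by
        rw [ofList_ofFn, smul_eq_mul, Ideal.mul_top]
      rwa [h2] at h1
    obtain ⟨e, he⟩ := Ideal.mem_span_range_iff_exists_fun.mp hlast
    have hle : Ideal.span (Set.range a') ≤ Ideal.span (Set.range a) := by
      apply Ideal.span_mono
      rintro _ ⟨j, rfl⟩
      exact ⟨Fin.castSucc j, rfl⟩
    have hrel : ∑ j : Fin n, (d (Fin.castSucc j) + e j * a (Fin.last n)) * a' j = 0 := by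
      have : ∑ j : Fin n, (d (Fin.castSucc j) + e j * a (Fin.last n)) * a' j =
          ∑ j : Fin n, d (Fin.castSucc j) * a (Fin.castSucc j) +
            (∑ j : Fin n, e j * a' j) * a (Fin.last n) := by
        rw [Finset.sum_mul, ← Finset.sum_add_distrib]
        refine Finset.sum_congr rfl fun j _ => ?_
        simp only [ha']
        ring
      rw [this, he]
      linear_combination hd
    induction i using Fin.lastCases with
    | last => exact hle hlast
    | cast j =>
      have := ih a' ha1 _ hrel j
      have h2 : e j * a (Fin.last n) ∈ Ideal.span (Set.range a) :=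
        Ideal.mul_mem_left _ _ (Ideal.subset_span ⟨Fin.last n, rfl⟩)
      have h3 := Ideal.sub_mem _ (hle this) h2
      simpa using h3


section Local


variable {A : Type u} [CommRing A] [IsLocalRing A] [IsNoetherianRing A]

/-- Exchange step: replacing the first element `a0` of a weakly regular sequence by
`b0 ≡ u * a0 + c` (with `u` a unit and `c` in the ideal of the tail) keeps weak regularity. -/
theorem stepA {M : Type v} [AddCommGroup M] [Module A M] [Module.Finite A M]
    (a0 b0 u c : A) (hu : IsUnit u) (tail : List A)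
    (htail : ∀ r ∈ tail, r ∈ IsLocalRing.maximalIdeal A) (ha0 : a0 ∈ IsLocalRing.maximalIdeal A)
    (hc : c ∈ Ideal.ofList tail)
    (hb0 : ∀ m : M, b0 • m = (u * a0 + c) • m)
    (h : IsWeaklyRegular M (a0 :: tail)) : IsWeaklyRegular M (b0 :: tail) := by
  have h1 : IsWeaklyRegular M (tail ++ [a0]) :=
    IsLocalRing.isWeaklyRegular_of_perm_of_subset_maximalIdeal h
      (List.perm_append_singleton a0 tail).symm (by
        intro r hr
        rcases List.mem_cons.mp hr with rfl | hr
        · exact ha0
        · exact htail r hr)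
  rw [isWeaklyRegular_append_iff, isWeaklyRegular_singleton_iff] at h1
  obtain ⟨ht, hreg⟩ := h1
  have key : ∀ x : M ⧸ (Ideal.ofList tail • ⊤ : Submodule A M), b0 • x = u • (a0 • x) := by
    intro x
    obtain ⟨m, rfl⟩ := Submodule.Quotient.mk_surjective _ x
    rw [← Submodule.Quotient.mk_smul, hb0 m, add_smul, Submodule.Quotient.mk_add, mul_smul]
    have : (Submodule.Quotient.mk (c • m) : M ⧸ (Ideal.ofList tail • ⊤ : Submodule A M)) = 0 := by
      rw [Submodule.Quotient.mk_eq_zero]
      exact Submodule.smul_mem_smul hc trivial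
    rw [this, add_zero]
    rfl
  have hreg' : IsSMulRegular (M ⧸ (Ideal.ofList tail • ⊤ : Submodule A M)) b0 := by
    intro x y hxy
    simp only [key] at hxy
    have := hu.smul_left_cancel.mp hxy
    exact hreg this
  have h2 : IsWeaklyRegular M (tail ++ [b0]) :=
    (isWeaklyRegular_append_iff M tail [b0]).mpr
      ⟨ht, (isWeaklyRegular_singleton_iff _ b0).mpr hreg'⟩
  have hcm : c ∈ IsLocalRing.maximalIdeal A :=
    (Ideal.span_le.mpr fun r hr => htail r hr) hc
  refine h2.of_perm_of_subset_jacobson_annihilator (List.perm_append_singleton b0 tail) ?_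
  intro r hr
  rcases List.mem_append.mp hr with hr | hr
  · exact IsLocalRing.maximalIdeal_le_jacobson _ (htail r hr)
  · rw [List.mem_singleton] at hr
    subst hr
    have e : r = (r - (u * a0 + c)) + (u * a0 + c) := by ring
    rw [e]
    refine Ideal.add_mem _ (Ideal.le_jacobson ?_) (IsLocalRing.maximalIdeal_le_jacobson _ ?_)
    · rw [Module.mem_annihilator]
      intro m
      rw [sub_smul, hb0 m, sub_self]
    · exact Ideal.add_mem _ (Ideal.mul_mem_left _ _ ha0) hcm

/-- The statement proved by induction: an invertible change of generators (modulo the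
annihilator of `M`) preserves weak regularity. -/
def Goal (n : ℕ) : Prop :=
  ∀ (M : Type v) [AddCommGroup M] [Module A M] [Module.Finite A M]
    (a b : Fin n → A) (C D : Matrix (Fin n) (Fin n) A), C * D = 1 →
    (∀ j, a j ∈ IsLocalRing.maximalIdeal A) →
    (∀ i (m : M), b i • m = (∑ j, C i j * a j) • m) →
    IsWeaklyRegular M (List.ofFn a) → IsWeaklyRegular M (List.ofFn b)

theorem step (n : ℕ) (ih : Goal.{u, v} (A := A) n)
    (M : Type v) [AddCommGroup M] [Module A M] [Module.Finite A M]
    (a b : Fin (n + 1) → A) (C D : Matrix (Fin (n + 1)) (Fin (n + 1)) A) (hCD : C * D = 1)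
    (hu : IsUnit (C 0 0))
    (ha : ∀ j, a j ∈ IsLocalRing.maximalIdeal A)
    (hb : ∀ i (m : M), b i • m = (∑ j, C i j * a j) • m)
    (hreg : IsWeaklyRegular M (List.ofFn a)) : IsWeaklyRegular M (List.ofFn b) := by
  obtain ⟨uu, huu⟩ := hu
  set u := C 0 0 with hu_def
  set ui : A := ↑uu⁻¹ with hui
  have huui : u * ui = 1 := by rw [← huu, hui]; exact uu.mul_inv
  set tail := List.ofFn (fun i : Fin n => a i.succ) with htail_def
  rw [List.ofFn_succ] at hreg ⊢
  have htail : ∀ r ∈ tail, r ∈ IsLocalRing.maximalIdeal A := by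
    intro r hr
    rw [htail_def, List.mem_ofFn'] at hr
    obtain ⟨j, rfl⟩ := hr
    exact ha _
  -- Step A
  have hc : (∑ j : Fin n, C 0 j.succ * a j.succ) ∈ Ideal.ofList tail := by
    refine Ideal.sum_mem _ fun j _ => Ideal.mul_mem_left _ _ (Ideal.subset_span ?_)
    change a j.succ ∈ tail
    rw [htail_def, List.mem_ofFn']
    exact ⟨j, rfl⟩
  have hb0 : ∀ m : M, b 0 • m = (u * a 0 + ∑ j : Fin n, C 0 j.succ * a j.succ) • m := by
    intro m
    rw [hb 0 m, Fin.sum_univ_succ]
  have hA : IsWeaklyRegular M (b 0 :: tail) :=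
    stepA (a 0) (b 0) u _ ⟨uu, huu⟩ tail htail (ha 0) hc hb0 hreg
  -- Step B
  rw [isWeaklyRegular_cons_iff] at hA ⊢
  refine ⟨hA.1, ?_⟩
  let C' : Matrix (Fin n) (Fin n) A := fun i j => C i.succ j.succ - C i.succ 0 * ui * C 0 j.succ
  let D' : Matrix (Fin n) (Fin n) A := fun i j => D i.succ j.succ
  have hCD' : C' * D' = 1 := by
    ext i k
    have e1 : C i.succ 0 * D 0 k.succ + ∑ j : Fin n, C i.succ j.succ * D j.succ k.succ =
        (1 : Matrix (Fin n) (Fin n) A) i k := by
      have := congrFun (congrFun hCD i.succ) k.succ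
      rw [Matrix.mul_apply, Fin.sum_univ_succ] at this
      rw [this]
      simp [Matrix.one_apply, Fin.succ_inj]
    have e2 : u * D 0 k.succ + ∑ j : Fin n, C 0 j.succ * D j.succ k.succ = 0 := by
      have := congrFun (congrFun hCD 0) k.succ
      rw [Matrix.mul_apply, Fin.sum_univ_succ] at this
      rw [this]
      simp [(Fin.succ_ne_zero k).symm]
    rw [Matrix.mul_apply]
    have e3 : ∑ j : Fin n, C' i j * D' j k =
        ∑ j : Fin n, C i.succ j.succ * D j.succ k.succ -
          C i.succ 0 * ui * ∑ j : Fin n, C 0 j.succ * D j.succ k.succ := by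
      rw [Finset.mul_sum, ← Finset.sum_sub_distrib]
      refine Finset.sum_congr rfl fun j _ => ?_
      simp only [C', D']
      ring
    rw [e3]
    linear_combination e1 - C i.succ 0 * ui * e2 + C i.succ 0 * D 0 k.succ * huui
  refine ih (QuotSMulTop (b 0) M) (fun i => a i.succ) (fun i => b i.succ) C' D' hCD'
    (fun j => ha _) ?_ hA.2
  intro i x
  obtain ⟨m, rfl⟩ := Submodule.Quotient.mk_surjective _ x
  rw [← Submodule.Quotient.mk_smul, ← Submodule.Quotient.mk_smul, hb i.succ m,
    Submodule.Quotient.eq, ← sub_smul]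
  have e4 : (∑ j, C i.succ j * a j) - ∑ j : Fin n, C' i j * a j.succ =
      (C i.succ 0 * ui) * (u * a 0 + ∑ j : Fin n, C 0 j.succ * a j.succ) := by
    rw [Fin.sum_univ_succ]
    have e5 : ∑ j : Fin n, C' i j * a j.succ = ∑ j : Fin n, C i.succ j.succ * a j.succ -
        C i.succ 0 * ui * ∑ j : Fin n, C 0 j.succ * a j.succ := by
      rw [Finset.mul_sum, ← Finset.sum_sub_distrib]
      refine Finset.sum_congr rfl fun j _ => ?_
      simp only [C']
      ring
    rw [e5]
    linear_combination (-(C i.succ 0 * a 0)) * huui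
  rw [e4, mul_smul, ← hb0 m, smul_comm]
  exact Submodule.smul_mem_pointwise_smul _ _ _ trivial

theorem main (n : ℕ) : Goal.{u, v} (A := A) n := by
  induction n with
  | zero =>
    intro M _ _ _ a b C D _ _ _ h
    simp
  | succ n ih =>
    intro M _ _ _ a b C D hCD ha hb hreg
    -- some entry of the first row of `C` is a unit
    have hex : ∃ j0, IsUnit (C 0 j0) := by
      by_contra hne
      push Not at hne
      have h1 : (1 : A) ∈ IsLocalRing.maximalIdeal A := by
        have := congrFun (congrFun hCD 0) 0
        rw [Matrix.mul_apply, Matrix.one_apply_eq] at this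
        rw [← this]
        exact Ideal.sum_mem _ fun j _ => Ideal.mul_mem_right _ _ (hne j)
      exact (Ideal.ne_top_iff_one _).mp (IsLocalRing.maximalIdeal.isMaximal A).ne_top h1
    obtain ⟨j0, hj0⟩ := hex
    let σ : Equiv.Perm (Fin (n + 1)) := Equiv.swap 0 j0
    have hperm : IsWeaklyRegular M (List.ofFn (a ∘ σ)) :=
      IsLocalRing.isWeaklyRegular_of_perm_of_subset_maximalIdeal hreg
        (σ.ofFn_comp_perm a).symm (by
          intro r hr
          rw [List.mem_ofFn'] at hr
          obtain ⟨j, rfl⟩ := hr
          exact ha j)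
    refine step n ih M (a ∘ σ) b (C.submatrix id σ) (D.submatrix σ id) ?_ ?_
      (fun j => ha _) ?_ hperm
    · ext i k
      rw [Matrix.mul_apply]
      have := congrFun (congrFun hCD i) k
      rw [Matrix.mul_apply] at this
      rw [← this]
      exact Equiv.sum_comp σ (fun j => C i j * D j k)
    · simpa [σ] using hj0
    · intro i m
      rw [hb i m]
      congr 1
      exact (Equiv.sum_comp σ (fun j => C i j * a j)).symm


end Local

end Helpers


/-- In a Noetherian local ring, any minimal generating set of an ideal generated by a regular sequence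
is again a regular sequence: if a₁, …, aₙ is a regular sequence and b₁, …, bₙ are n elements
generating the same ideal, then b₁, …, bₙ is a regular sequence. (A regular sequence of length n
generating an ideal I is a minimal generating set of I, so "minimal" amounts to "of length n".) -/
theorem result {A : Type u} [CommRing A] [IsLocalRing A] [IsNoetherianRing A]
    {n : ℕ} (a b : Fin n → A) (ha : RingTheory.Sequence.IsRegular A (List.ofFn a))
    (hab : Ideal.span (Set.range a) = Ideal.span (Set.range b)) :
    RingTheory.Sequence.IsRegular A (List.ofFn b) := by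
  have hI : Ideal.span (Set.range a) ≤ IsLocalRing.maximalIdeal A := by
    apply IsLocalRing.le_maximalIdeal
    intro htop
    apply ha.top_ne_smul
    rw [ofList_ofFn, htop, Submodule.top_smul]
  have ham : ∀ j, a j ∈ IsLocalRing.maximalIdeal A := fun j => hI (Ideal.subset_span ⟨j, rfl⟩)
  have hbm : ∀ i, b i ∈ IsLocalRing.maximalIdeal A := fun i =>
    hI (hab ▸ Ideal.subset_span ⟨i, rfl⟩)
  have hC : ∀ i, ∃ c : Fin n → A, ∑ j, c j * a j = b i := fun i =>
    Ideal.mem_span_range_iff_exists_fun.mp (hab ▸ Ideal.subset_span ⟨i, rfl⟩)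
  choose C hC using hC
  have hD : ∀ i, ∃ c : Fin n → A, ∑ j, c j * b j = a i := fun i =>
    Ideal.mem_span_range_iff_exists_fun.mp (hab ▸ Ideal.subset_span ⟨i, rfl⟩)
  choose D hD using hD
  let Cm : Matrix (Fin n) (Fin n) A := Matrix.of C
  let Dm : Matrix (Fin n) (Fin n) A := Matrix.of D
  have hrel : ∀ i, ∑ k, ((1 : Matrix (Fin n) (Fin n) A) - Dm * Cm) i k * a k = 0 := by
    intro i
    simp only [Matrix.sub_apply, sub_mul, Finset.sum_sub_distrib]
    have e1 : ∑ k, (1 : Matrix (Fin n) (Fin n) A) i k * a k = a i := by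
      simp [Matrix.one_apply]
    have e2 : ∑ k, (Dm * Cm) i k * a k = a i := by
      simp only [Matrix.mul_apply, Finset.sum_mul]
      rw [Finset.sum_comm]
      rw [← hD i]
      refine Finset.sum_congr rfl fun j _ => ?_
      rw [← hC j, Finset.mul_sum]
      refine Finset.sum_congr rfl fun k _ => ?_
      simp only [Dm, Cm, Matrix.of_apply]
      ring
    rw [e1, e2, sub_self]
  have hmem : ∀ i k, ((1 : Matrix (Fin n) (Fin n) A) - Dm * Cm) i k ∈
      IsLocalRing.maximalIdeal A := fun i k =>
    hI (relation_mem a ha.toIsWeaklyRegular _ (hrel i) k)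
  have hdet : IsUnit (Dm * Cm).det := by
    have hres : (IsLocalRing.residue A) (Dm * Cm).det = 1 := by
      rw [RingHom.map_det]
      have : (IsLocalRing.residue A).mapMatrix (Dm * Cm) = 1 := by
        ext i k
        have h1 := (IsLocalRing.residue_eq_zero_iff _).mpr (hmem i k)
        rw [Matrix.sub_apply, map_sub, sub_eq_zero] at h1
        rw [RingHom.mapMatrix_apply, Matrix.map_apply, ← h1]
        by_cases hik : i = k
        · subst hik
          rw [Matrix.one_apply_eq, Matrix.one_apply_eq, map_one]
        · rw [Matrix.one_apply_ne hik, Matrix.one_apply_ne hik, map_zero]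
      rw [this, Matrix.det_one]
    by_contra hnu
    have h2 : (Dm * Cm).det ∈ IsLocalRing.maximalIdeal A :=
      (IsLocalRing.mem_maximalIdeal _).mpr hnu
    rw [← IsLocalRing.residue_eq_zero_iff, hres] at h2
    exact one_ne_zero h2
  have hCu : IsUnit Cm.det := by
    rw [Matrix.det_mul] at hdet
    exact isUnit_of_mul_isUnit_right hdet
  have hCD : Cm * Cm⁻¹ = 1 := Matrix.mul_nonsing_inv _ hCu
  have hw := main.{u, u} n A a b Cm Cm⁻¹ hCD ham
    (fun i m => by rw [← hC i]; rfl) ha.toIsWeaklyRegular
  refine RingTheory.Sequence.IsRegular.of_isWeaklyRegular_of_mem_maximalIdeal A ?_ hw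
  intro r hr
  rw [List.mem_ofFn'] at hr
  obtain ⟨i, rfl⟩ := hr
  exact hbm i

end Groth.Agent.S0611
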