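import Groth.Statements.S0626
import Groth.Agent.Lib.Helper4.ConstUnit
import Groth.Agent.Lib.Helper4.GenericLC

set_option autoImplicit false
open CategoryTheory CategoryTheory.Limits AlgebraicGeometry Opposite
universe u
open EtCore

namespace Groth.Agent.S0626

/-- Let X be an integral normal scheme (all local rings integrally closed) with generic point η, let g :
Spec O_{X,η} → X be the canonical morphism, and let M be an abelian group. Then the adjunction unit
from the constant étale sheaf with value M on X to g_* of its pullback is an isomorphism. (Since the
pullback of a constant sheaf is constant, this says that g_* of the constant sheaf M on the spectrum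
of the function field is the constant sheaf M on X.) -/
theorem result (X : Scheme.{u}) [IsIntegral X]
    (hN : ∀ x : X, IsIntegrallyClosed (X.presheaf.stalk x)) (M : Type) [AddCommGroup M] :
    IsIso ((EtCoh.pullPushAdj (X.fromSpecStalk (genericPoint X))).unit.app (EtCoh.const X M)) := by
  have hX : Pi1.IsNormalScheme X := fun x => ⟨inferInstance, hN x⟩
  let g := X.fromSpecStalk (genericPoint X)
  have hr : Set.range g = {genericPoint X} := by
    have h0 : Set.range g = {y | y ⤳ genericPoint X} := Scheme.range_fromSpecStalk
    rw [h0]
    ext y
    constructor
    · intro hy
      exact (Specializes.antisymm hy ((genericPoint_spec X).specializes (by trivial))).eq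
    · rintro rfl
      exact specializes_rfl
  have hsub : ∀ a b, a = b := fun a b => g.isEmbedding.injective (by
    have ha : g a ∈ Set.range g := ⟨a, rfl⟩
    have hb : g b ∈ Set.range g := ⟨b, rfl⟩
    rw [hr] at ha hb
    exact ha.trans hb.symm)
  have hsub' := Subsingleton.intro hsub
  have hqc : QuasiCompact g := Groth.Agent.Lib.Helper4.ConstLC.quasiCompact_of_finite g
  have hst : StableUnderGeneralization (Set.range g) := by
    rw [hr]
    intro x y hyx hx
    rw [Set.mem_singleton_iff] at hx ⊢
    subst hx
    exact (hyx.antisymm ((genericPoint_spec X).specializes (by trivial))).eq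
  have hd : Dense (Set.range g) := by
    rw [hr]
    exact dense_iff_closure_eq.2 (genericPoint_spec X)
  have hiso := Groth.Agent.Lib.Helper4.ConstLC.isIso_restrLC_of_preimmersion g M hd hst hX
  exact Groth.Agent.Lib.Helper4.ConstLC.isIso_unit_const_of_isIso_restrLC g M hiso

end Groth.Agent.S0626
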