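import Groth.Statements.S0627
import Groth.Agent.Lib.Helper4.ConstLCRestr
import Groth.Agent.Lib.Helper70.OpenRecoll

set_option autoImplicit false
open CategoryTheory CategoryTheory.Limits AlgebraicGeometry Opposite
universe u
open EtCore

namespace Groth.Agent.S0627

/-- Let X be an integral normal scheme (every local ring integrally closed), U a nonempty open subscheme
with inclusion j : U → X, and M an abelian group. Then the adjunction unit from the constant étale
sheaf with value M on X to j_* of its pullback to U is an isomorphism. -/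
theorem result (X : Scheme.{u}) [IsIntegral X]
    (hN : ∀ x : X, IsIntegrallyClosed (X.presheaf.stalk x)) (U : X.Opens) (hU : (U : Set X).Nonempty)
    (M : Type) [AddCommGroup M] :
    IsIso ((EtCoh.pullPushAdj U.ι).unit.app (EtCoh.const X M)) := by
  have hX : Pi1.IsNormalScheme X := fun x => ⟨inferInstance, hN x⟩
  have : Nonempty U.toScheme := ⟨⟨hU.some, hU.some_mem⟩⟩
  have h1 : IsIso (Groth.Agent.Lib.Helper4.ConstLC.restrLC U.ι M) :=
    Groth.Agent.Lib.Helper4.ConstLC.isIso_restrLC_of_integral U.ι M hX
  let φ : EtCoh.const X M ≅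
      (EtCoh.push U.ι).obj (Groth.Agent.Lib.Helper4.ConstLC.lcSheaf U.toScheme M) :=
    Groth.Agent.Lib.Helper4.ConstLC.constIso X M ≪≫
      asIso (Groth.Agent.Lib.Helper4.ConstLC.restrLC U.ι M)
  have : IsIso ((EtCoh.pullPushAdj U.ι).counit.app
      (Groth.Agent.Lib.Helper4.ConstLC.lcSheaf U.toScheme M)) :=
    Groth.Agent.Lib.Helper70.OpenRecoll.isIso_counit_pullPushAdj U.ι _
  exact Groth.Agent.Lib.Helper4.ConstLC.isIso_unit_app_of_iso (EtCoh.pullPushAdj U.ι) _ _ φ

end Groth.Agent.S0627
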