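import Groth.Statements.S0628
import Groth.Agent.S0626
import Groth.Agent.S0101
import Groth.Agent.Lib.Helper4.SepClosedPropB
import Groth.Agent.Lib.Helper70.PushExact
import Groth.Agent.Lib.Cohomology.Helper3_RDerComp

set_option autoImplicit false
open CategoryTheory CategoryTheory.Limits AlgebraicGeometry Opposite
universe u
open EtCore

namespace Groth.Agent.S0628

/-- Let f : X -> Y be a morphism of schemes with X integral and normal and with separably closed
function field. Then the higher direct images R^q f_* of a constant sheaf vanish for q > 0. -/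
theorem result {X Y : Scheme.{u}} (f : X ⟶ Y) [IsIntegral X]
    (hN : ∀ x : X, IsIntegrallyClosed (X.presheaf.stalk x)) [IsSepClosed X.functionField]
    (M : Type) [AddCommGroup M] (q : ℕ) (hq : 1 ≤ q) :
    IsZero ((EtCoh.Rpush f q).obj (EtCoh.const X M)) := by
  obtain ⟨n, rfl⟩ : ∃ n, q = n + 1 := ⟨q - 1, by omega⟩
  let g : Spec X.functionField ⟶ X := X.fromSpecStalk (genericPoint X)
  have hunit : IsIso ((EtCoh.pullPushAdj g).unit.app (EtCoh.const X M)) :=
    Groth.Agent.S0626.result X hN M
  let N : EtCoh.Ab (Spec X.functionField) := (EtCoh.pull g).obj (EtCoh.const X M)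
  let e : EtCoh.const X M ≅ (EtCoh.push g).obj N :=
    asIso ((EtCoh.pullPushAdj g).unit.app (EtCoh.const X M))
  refine IsZero.of_iso ?_ ((EtCoh.Rpush f (n + 1)).mapIso e)
  have hBg : BigSite.PropB g :=
    Groth.Agent.Lib.Helper4.SepClosedPropB.propB X.functionField g
  have hBgf : BigSite.PropB (g ≫ f) :=
    Groth.Agent.Lib.Helper4.SepClosedPropB.propB X.functionField (g ≫ f)
  have cg : PreservesFiniteColimits (EtCoh.push g) :=
    Groth.Agent.Lib.Helper70.PushExact.preservesFiniteColimits_push g hBg
  have cgf : PreservesFiniteColimits (EtCoh.push (g ≫ f)) :=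
    Groth.Agent.Lib.Helper70.PushExact.preservesFiniteColimits_push (g ≫ f) hBgf
  have lg : PreservesFiniteLimits (EtCoh.push g) := by
    have : (EtCoh.push g).IsRightAdjoint := (EtCoh.pullPushAdj g).isRightAdjoint
    infer_instance
  have lf : PreservesFiniteLimits (EtCoh.push f) := by
    have : (EtCoh.push f).IsRightAdjoint := (EtCoh.pullPushAdj f).isRightAdjoint
    infer_instance
  have ccomp : PreservesFiniteColimits (EtCoh.push g ⋙ EtCoh.push f) :=
    preservesFiniteColimits_of_natIso (EtCoh.pushComp f g).symm
  have hpull : PreservesFiniteLimits (EtCoh.pull g) := Groth.Agent.S0101.result g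
  have hacyc : ∀ (n : ℕ) (I : EtCoh.Ab (Spec X.functionField)), Injective I →
      IsZero (((EtCoh.push f).rightDerived (n + 1)).obj ((EtCoh.push g).obj I)) := by
    intro n I hI
    have : Injective ((EtCoh.push g).obj I) := (EtCoh.pullPushAdj g).map_injective I hI
    exact Functor.isZero_rightDerived_obj_injective_succ _ _ _
  obtain ⟨φ⟩ := Groth.Agent.Lib.Cohomology.RDerComp.nonempty_rightDerived_comp_iso
    (EtCoh.push g) (EtCoh.push f) hacyc (n + 1)
  exact IsZero.of_iso (Groth.Agent.Lib.Helper70.PushExact.isZero_rightDerived_succ_of_exact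
    (EtCoh.push g ⋙ EtCoh.push f) N n) (φ.app N).symm

end Groth.Agent.S0628
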