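import Groth.Statements.S0630
import Groth.Agent.Lib.Helper70.PropBIntegral
import Groth.Agent.Lib.Helper70.PushExact

set_option autoImplicit false
open CategoryTheory CategoryTheory.Limits AlgebraicGeometry Opposite
universe u
open EtCore

namespace Groth.Agent.S0630

/-- For a morphism f that is integral and universally injective, the direct image functor f_* on abelian
sheaves on the small etale sites preserves finite colimits (so it is exact, being a right adjoint). -/
theorem result {X Y : Scheme.{u}} (f : X ⟶ Y) [IsIntegralHom f]
    [UniversallyInjective f] :
    PreservesFiniteColimits (EtCoh.push f) := by
  exact Groth.Agent.Lib.Helper70.PushExact.preservesFiniteColimits_push f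
    (Groth.Agent.Lib.Helper70.PropBIntegral.propB_of_isIntegralHom f)

end Groth.Agent.S0630
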