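import Groth.Statements.S0632
import Groth.Agent.Lib.Helper70.EtaleLift2

set_option autoImplicit false
open CategoryTheory CategoryTheory.Limits AlgebraicGeometry Opposite
universe u
open EtCore

namespace Groth.Agent.S0632

/-- Let X -> Y be a closed immersion and U_i -> X (i in ι) a jointly surjective family of etale
morphisms. Then one can find a jointly surjective family of etale Y-schemes V_j each of which either
has empty preimage over X or, after base change to X, maps into one of the U_i over X. -/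
theorem result {X Y : Scheme.{u}} (f : X ⟶ Y) [IsClosedImmersion f]
    {ι : Type u} (U : ι → X.Etale) (hU : EtCoh.Covers U) :
    ∃ (κ : Type u) (V : κ → Y.Etale), EtCoh.Covers V ∧
      ∀ j, IsEmpty ↥(pullback (V j).hom f) ∨
        ∃ (i : ι) (h : pullback (V j).hom f ⟶ (U i).left), h ≫ (U i).hom = pullback.snd (V j).hom f := by
  classical
  have key : ∀ (i : ι) (x : (U i).left), ∃ (V : Y.Etale) (h : pullback V.hom f ⟶ (U i).left),
      h ≫ (U i).hom = pullback.snd V.hom f ∧
        ∃ y : ↥(pullback V.hom f), h.base y = x := by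
    intro i x
    haveI : Etale (U i).hom := (U i).prop
    obtain ⟨V, v, hv, h, h1, h2, h3⟩ :=
      Groth.Agent.Lib.Helper70.EtaleLift2.exists_etale_lift' (U := (U i).left) (X := X) f
        (U i).hom x
    exact ⟨Scheme.Etale.mk v, h, h1, h3⟩
  choose V h h1 h3 using key
  let Wc : Y.Opens := ⟨(Set.range f)ᶜ, f.isClosedEmbedding.isClosed_range.isOpen_compl⟩
  let V₀ : Y.Etale := Scheme.Etale.mk Wc.ι
  refine ⟨(Σ i : ι, ↥(U i).left) ⊕ PUnit.{u + 1},
    fun j => Sum.elim (fun p => V p.1 p.2) (fun _ => V₀) j, ?_, ?_⟩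
  · intro y
    by_cases hy : y ∈ Set.range f
    · obtain ⟨x', rfl⟩ := hy
      obtain ⟨i, u, rfl⟩ := hU x'
      obtain ⟨p, hp⟩ := h3 i u
      refine ⟨Sum.inl ⟨i, u⟩, (pullback.fst (V i u).hom f).base p, ?_⟩
      show (V i u).hom.base ((pullback.fst (V i u).hom f).base p) = _
      rw [← Scheme.Hom.comp_apply, pullback.condition, ← h1 i u, Scheme.Hom.comp_apply,
        Scheme.Hom.comp_apply, hp]
    · exact ⟨Sum.inr PUnit.unit, ⟨y, hy⟩, rfl⟩
  · rintro (⟨i, u⟩ | _)
    · exact Or.inr ⟨i, h i u, h1 i u⟩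
    · refine Or.inl ⟨fun z => ?_⟩
      change ↥(pullback Wc.ι f) at z
      have h2 : Wc.ι.base ((pullback.fst Wc.ι f).base z) =
          f.base ((pullback.snd Wc.ι f).base z) := by
        rw [← Scheme.Hom.comp_apply, ← Scheme.Hom.comp_apply, pullback.condition]
      exact ((pullback.fst Wc.ι f).base z).2 ⟨_, h2.symm⟩

end Groth.Agent.S0632
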