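import Groth.Statements.S0633
import Groth.Agent.Lib.Helper70.EtaleLift2

set_option autoImplicit false
open CategoryTheory CategoryTheory.Limits AlgebraicGeometry Opposite
universe u
open EtCore

namespace Groth.Agent.S0633

/-- Let X -> Y be a closed immersion and U -> X etale. Then there exist etale morphisms V_i -> Y and
X-morphisms V_i x_Y X -> U which are open immersions whose images cover U. -/
theorem result {X Y : Scheme.{u}} (f : X ⟶ Y) [IsClosedImmersion f]
    (U : X.Etale) :
    ∃ (κ : Type u) (V : κ → Y.Etale) (h : ∀ j, pullback (V j).hom f ⟶ U.left),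
      (∀ j, h j ≫ U.hom = pullback.snd (V j).hom f) ∧ (∀ j, IsOpenImmersion (h j)) ∧
      ∀ x : U.left, ∃ (j : κ) (y : ↥(pullback (V j).hom f)), (h j).base y = x := by
  have key : ∀ x : U.left, ∃ (V : Y.Etale) (h : pullback V.hom f ⟶ U.left),
      h ≫ U.hom = pullback.snd V.hom f ∧ IsOpenImmersion h ∧
        ∃ y : ↥(pullback V.hom f), h.base y = x := by
    intro x
    haveI : Etale U.hom := U.prop
    obtain ⟨V, v, hv, h, h1, h2, h3⟩ :=
      Groth.Agent.Lib.Helper70.EtaleLift2.exists_etale_lift' (U := U.left) (X := X) f U.hom x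
    exact ⟨Scheme.Etale.mk v, h, h1, h2, h3⟩
  choose V h h1 h2 h3 using key
  exact ⟨U.left, V, h, h1, h2, fun x => ⟨x, h3 x⟩⟩

end Groth.Agent.S0633
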