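import Groth.Statements.S0643
-- import your own Groth.Agent.* helpers here

set_option autoImplicit false
universe u
open EtCore

namespace Groth.Agent.S0643

open Polynomial in
/-- Let A be a ring, assumed nonzero here (the published statement does not say so; over the zero ring
no polynomial has positive degree in Lean's sense), and a, b elements generating the unit ideal such
that some positive power of a is congruent to 1 modulo b. Then there is a monic polynomial P of
positive degree over A such that in B = A[y]/(P) the element a - b y is a unit. -/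
theorem result (A : Type u) [CommRing A] [Nontrivial A] (a b : A) (hab : IsCoprime a b)
    (hroot : ∃ n : ℕ, 0 < n ∧ a ^ n - 1 ∈ Ideal.span ({b} : Set A)) :
    ∃ P : A[X], P.Monic ∧ 0 < P.natDegree ∧
      IsUnit (algebraMap A (AdjoinRoot P) a - algebraMap A (AdjoinRoot P) b * AdjoinRoot.root P) := by
  obtain ⟨n, hn, hmem⟩ := hroot
  obtain ⟨c, hc⟩ := Ideal.mem_span_singleton'.mp hmem
  obtain ⟨m, rfl⟩ : ∃ m, n = m + 1 := ⟨n - 1, by omega⟩
  obtain ⟨u, v, huv⟩ := (hab.pow (m := m) (n := m))
  -- the polynomial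
  set Q : A[X] := C (-c * u) * X ^ m + C (-c * v) with hQ
  have hQdeg : Q.degree < ((m + 1 : ℕ) : WithBot ℕ) := by
    have h1 : (C (-c * u) * X ^ m : A[X]).degree ≤ m := by
      refine (degree_C_mul_X_pow_le _ _)
    have h2 : (C (-c * v) : A[X]).degree ≤ 0 := degree_C_le
    have h3 : Q.degree ≤ m := by
      refine (degree_add_le _ _).trans ?_
      refine max_le h1 (h2.trans ?_)
      exact_mod_cast Nat.zero_le m
    refine lt_of_le_of_lt h3 ?_
    exact_mod_cast Nat.lt_succ_self m
  have hP : (X ^ (m + 1) + Q : A[X]).Monic := monic_X_pow_add hQdeg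
  refine ⟨X ^ (m + 1) + Q, hP, ?_, ?_⟩
  · have : (X ^ (m + 1) + Q : A[X]).natDegree = m + 1 := by
      rw [add_comm]
      exact natDegree_add_eq_right_of_degree_lt (by simpa using hQdeg) |>.trans (natDegree_X_pow _)
    omega
  · set P : A[X] := X ^ (m + 1) + Q with hPdef
    set y := AdjoinRoot.root P with hy
    set φ := algebraMap A (AdjoinRoot P) with hφ
    have hroot : y ^ (m + 1) + (φ (-c * u) * y ^ m + φ (-c * v)) = 0 := by
      have := AdjoinRoot.eval₂_root P
      have hφ' : φ = AdjoinRoot.of P := AdjoinRoot.algebraMap_eq P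
      simpa [hPdef, hQ, hφ', hy, eval₂_add, eval₂_mul, eval₂_pow] using this
    -- key identity in A: a^(m+1) + (-c*u) * a^m * b + (-c*v) * b^(m+1) = 1
    have key : a ^ (m + 1) + (-c * u) * a ^ m * b + (-c * v) * b ^ (m + 1) = 1 := by
      have : a ^ (m + 1) = 1 + c * b := by rw [hc]; ring
      calc a ^ (m + 1) + (-c * u) * a ^ m * b + (-c * v) * b ^ (m + 1)
          = a ^ (m + 1) - c * b * (u * a ^ m + v * b ^ m) := by ring
        _ = 1 := by rw [huv, this]; ring
    have hd1 : (φ a - φ b * y) ∣ (φ a) ^ (m + 1) - (φ b * y) ^ (m + 1) := sub_dvd_pow_sub_pow _ _ _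
    have hd2 : (φ a - φ b * y) ∣ (φ a) ^ m - (φ b * y) ^ m := sub_dvd_pow_sub_pow _ _ _
    have : (1 : AdjoinRoot P) = ((φ a) ^ (m + 1) - (φ b * y) ^ (m + 1))
        + φ (-c * u) * φ b * ((φ a) ^ m - (φ b * y) ^ m)
        + φ b ^ (m + 1) * (y ^ (m + 1) + (φ (-c * u) * y ^ m + φ (-c * v))) := by
      have h1 : (1 : AdjoinRoot P) = φ 1 := (map_one φ).symm
      rw [h1, ← key]
      simp only [map_add, map_mul, map_pow]
      ring
    rw [hroot, mul_zero, add_zero] at this
    apply isUnit_of_dvd_one
    rw [this]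
    exact dvd_add hd1 (Dvd.dvd.mul_left hd2 _)

end Groth.Agent.S0643
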