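import Groth.Statements.S0654
import Groth.Agent.Lib.Helper70.Recoll

set_option autoImplicit false
open CategoryTheory CategoryTheory.Limits AlgebraicGeometry Opposite
universe u
open EtCore

namespace Groth.Agent.S0654

/-- Let i : Z -> X be a closed immersion and j : U -> X the open immersion of the complement of its
image. For every abelian sheaf F on the small etale site of X, the counit j_! (F|_U) -> F followed
by the unit F -> i_* i^{-1} F composes to zero and the resulting three-term sequence is short exact.
(Continuity of the composition functor of etale sites, which always holds, is carried as an instance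
hypothesis.) -/
theorem result {Z X : Scheme.{u}} (i : Z ⟶ X) [IsClosedImmersion i]
    (U : X.Opens) (hU : (U : Set X) = (Set.range i.base)ᶜ) [AlgebraicGeometry.Etale U.ι] [EtShriek.JCont U.ι]
    (F : EtCoh.Ab X) :
    ∃ w : (EtShriek.extZeroAdj U.ι).counit.app F ≫ (EtCoh.pullPushAdj i).unit.app F = 0,
      (ShortComplex.mk _ _ w).ShortExact := by
  have hc : Set.range i.base = (Set.range U.ι.base)ᶜ := by
    rw [Scheme.Opens.range_ι, hU, compl_compl]
  exact ⟨Groth.Agent.Lib.Helper70.Recoll.counit_unit_eq_zero U.ι i hc F,
    Groth.Agent.Lib.Helper70.Recoll.shortExact U.ι i hc F⟩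

end Groth.Agent.S0654
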