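import Mathlib
import Groth.Statements.S0658

set_option autoImplicit false
open CategoryTheory CategoryTheory.Limits AlgebraicGeometry Opposite
universe u
open EtCore

namespace Groth.Agent.S0658

section aux
variable {k : Type u} [Field k] {U : Scheme.{u}} (φ : U ⟶ Spec (CommRingCat.of k))

/-- The ring hom `k → Γ(U, W)` induced by `φ`. -/
noncomputable def toΓ (W : U.Opens) : CommRingCat.of k ⟶ Γ(U, W) :=
  (Scheme.ΓSpecIso (CommRingCat.of k)).inv ≫ φ.appLE ⊤ W le_top

lemma fromSpec_comp {W : U.Opens} (hW : IsAffineOpen W) :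
    hW.fromSpec ≫ φ = Spec.map (toΓ φ W) := by
  rw [toΓ, Spec.map_comp, ← IsAffineOpen.SpecMap_appLE_fromSpec φ (isAffineOpen_top _) hW le_top,
    IsAffineOpen.fromSpec_top, Scheme.isoSpec_Spec_inv]

lemma etale_toΓ [Etale φ] {W : U.Opens} (hW : IsAffineOpen W) : (toΓ φ W).hom.Etale := by
  have h1 : Etale (hW.fromSpec ≫ φ) := inferInstance
  rw [fromSpec_comp, HasRingHomProperty.Spec_iff (P := @Etale)] at h1
  exact h1

/-- The `k`-algebra structure on `Γ(U, W)` induced by `φ`. -/
@[reducible] noncomputable def algΓ (W : U.Opens) : Algebra k Γ(U, W) := (toΓ φ W).hom.toAlgebra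

lemma etale_algΓ [Etale φ] {W : U.Opens} (hW : IsAffineOpen W) :
    @Algebra.Etale k Γ(U, W) _ _ (algΓ φ W) := by
  let _ := algΓ φ W
  exact RingHom.etale_algebraMap.mp (etale_toΓ φ hW)

lemma discrete [Etale φ] : DiscreteTopology U := by
  apply discreteTopology_iff_isOpen_singleton.mpr
  intro x
  obtain ⟨W, hW1, hW2, _⟩ := exists_isAffineOpen_mem_and_subset
    (X := U) (TopologicalSpace.Opens.mem_top x)
  let _ := algΓ φ W
  have := etale_algΓ φ hW1
  have := Algebra.FormallyUnramified.finite_of_free k Γ(U, W)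
  have : IsArtinianRing Γ(U, W) := IsArtinianRing.of_finite k Γ(U, W)
  have : DiscreteTopology (Spec Γ(U, W)) := inferInstanceAs (DiscreteTopology (PrimeSpectrum _))
  have : DiscreteTopology W := hW1.isoSpec.hom.homeomorph.symm.discreteTopology
  have h := (isOpen_discrete ({⟨x, hW2⟩} : Set W)).trans W.2
  have e : ({x} : Set U) = Subtype.val '' ({⟨x, hW2⟩} : Set W) := by
    ext y
    constructor
    · rintro rfl; exact ⟨⟨_, hW2⟩, rfl, rfl⟩
    · rintro ⟨⟨z, hz⟩, hz', rfl⟩; exact congrArg Subtype.val hz'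
  rw [e]; exact h

lemma isField_of_singleton [Etale φ] (x : U) (W : U.Opens) (hW : (W : Set U) = {x}) :
    IsField Γ(U, W) := by
  have hW1 : IsAffineOpen W := IsAffineOpen.of_subsingleton (by rw [hW]; exact Set.subsingleton_singleton)
  let _ := algΓ φ W
  have := etale_algΓ φ hW1
  have := Algebra.FormallyUnramified.isReduced_of_field k Γ(U, W)
  have : Nonempty W := ⟨⟨x, by rw [← SetLike.mem_coe, hW]; rfl⟩⟩
  have : Nontrivial Γ(U, W) := inferInstance
  rw [← PrimeSpectrum.subsingleton_iff_isField_of_isReduced]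
  have : Subsingleton W := by
    have : Set.Subsingleton (W : Set U) := by rw [hW]; exact Set.subsingleton_singleton
    exact this.coe_sort
  exact hW1.isoSpec.hom.homeomorph.symm.injective.subsingleton

open scoped Function in
theorem forward [Etale φ] :
    ∃ (ι : Type u) (K : ι → Type u) (_ : ∀ i, Field (K i)) (_ : ∀ i, Algebra k (K i))
        (_ : ∀ i, FiniteDimensional k (K i)) (_ : ∀ i, Algebra.IsSeparable k (K i))
        (e : (∐ fun i => Spec (CommRingCat.of (K i))) ≅ U),
        ∀ i, Sigma.ι (fun i => Spec (CommRingCat.of (K i))) i ≫ e.hom ≫ φ =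
          Spec.map (CommRingCat.ofHom (algebraMap k (K i))) := by
  have hdisc : DiscreteTopology U := discrete φ
  let Ux : U → U.Opens := fun x => ⟨{x}, isOpen_discrete _⟩
  have hUx : ∀ x, IsAffineOpen (Ux x) :=
    fun x => IsAffineOpen.of_subsingleton Set.subsingleton_singleton
  have hfield : ∀ x, IsField Γ(U, Ux x) := fun x => isField_of_singleton φ x (Ux x) rfl
  let fld : ∀ x, Field Γ(U, Ux x) := fun x => (hfield x).toField
  let alg : ∀ x, Algebra k Γ(U, Ux x) := fun x => algΓ φ (Ux x)
  have het : ∀ x, Algebra.Etale k Γ(U, Ux x) := fun x => etale_algΓ φ (hUx x)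
  have hfin : ∀ x, FiniteDimensional k Γ(U, Ux x) :=
    fun x => Algebra.FormallyUnramified.finite_of_free k _
  have hsep : ∀ x, Algebra.IsSeparable k Γ(U, Ux x) :=
    fun x => Algebra.FormallyUnramified.isSeparable k _
  let f : ∀ x : U, Spec Γ(U, Ux x) ⟶ U := fun x => (hUx x).fromSpec
  have hrange : ∀ x, (f x).opensRange = Ux x := fun x => (hUx x).opensRange_fromSpec
  have hcov : ⨆ x, (f x).opensRange = ⊤ := by
    rw [eq_top_iff]
    intro x _
    simp only [hrange]
    exact TopologicalSpace.Opens.mem_iSup.mpr ⟨x, rfl⟩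
  have hdisj : Pairwise (Disjoint on (f · |>.opensRange)) := by
    intro x y hxy
    simp only [Function.onFun, hrange]
    rw [disjoint_iff, TopologicalSpace.Opens.ext_iff]
    ext z
    simp only [TopologicalSpace.Opens.coe_inf, Set.mem_inter_iff, TopologicalSpace.Opens.coe_bot,
      Set.mem_empty_iff_false, iff_false, not_and]
    rintro (rfl : z = x) (h : z = y)
    exact hxy h
  obtain ⟨hc⟩ := nonempty_isColimit_cofanMk_of f hcov hdisj
  let e := (coproductIsCoproduct (fun x => Spec Γ(U, Ux x))).coconePointUniqueUpToIso hc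
  refine ⟨U, fun x => Γ(U, Ux x), fld, alg, hfin, hsep, e, fun x => ?_⟩
  have h1 : Sigma.ι (fun x => Spec Γ(U, Ux x)) x ≫ e.hom = f x :=
    (coproductIsCoproduct (fun x => Spec Γ(U, Ux x))).comp_coconePointUniqueUpToIso_hom hc ⟨x⟩
  have h2 : f x ≫ φ = Spec.map (toΓ φ (Ux x)) := fromSpec_comp φ (hUx x)
  calc _ = (Sigma.ι (fun x => Spec Γ(U, Ux x)) x ≫ e.hom) ≫ φ := (Category.assoc _ _ _).symm
    _ = f x ≫ φ := by rw [h1]
    _ = _ := h2

set_option backward.isDefEq.respectTransparency.types false in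
theorem backward (ι : Type u) (K : ι → Type u) [∀ i, Field (K i)] [∀ i, Algebra k (K i)]
    [∀ i, FiniteDimensional k (K i)] [∀ i, Algebra.IsSeparable k (K i)]
    (e : (∐ fun i => Spec (CommRingCat.of (K i))) ≅ U)
    (h : ∀ i, Sigma.ι (fun i => Spec (CommRingCat.of (K i))) i ≫ e.hom ≫ φ =
          Spec.map (CommRingCat.ofHom (algebraMap k (K i)))) : Etale φ := by
  have : Etale (e.hom ≫ φ) := by
    rw [IsZariskiLocalAtSource.iff_of_openCover (P := @Etale.{u})
      (sigmaOpenCover (fun i => Spec (CommRingCat.of (K i))))]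
    intro (i : ι)
    show Etale (Sigma.ι (fun i => Spec (CommRingCat.of (K i))) i ≫ e.hom ≫ φ)
    rw [h i, HasRingHomProperty.Spec_iff (P := @Etale.{u})]
    show (algebraMap k (K i)).Etale
    rw [RingHom.etale_algebraMap]
    have := Algebra.FormallyEtale.of_isSeparable k (K i)
    exact ⟨this, Algebra.FinitePresentation.of_finiteType.mp inferInstance⟩
  exact (MorphismProperty.cancel_left_of_respectsIso @Etale.{u} e.hom φ).mp this

end aux

theorem result (k : Type u) [Field k] (U : Scheme.{u}) (φ : U ⟶ Spec (CommRingCat.of k)) :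
    AlgebraicGeometry.Etale φ ↔
      ∃ (ι : Type u) (K : ι → Type u) (_ : ∀ i, Field (K i)) (_ : ∀ i, Algebra k (K i))
        (_ : ∀ i, FiniteDimensional k (K i)) (_ : ∀ i, Algebra.IsSeparable k (K i))
        (e : (∐ fun i => Spec (CommRingCat.of (K i))) ≅ U),
        ∀ i, Sigma.ι (fun i => Spec (CommRingCat.of (K i))) i ≫ e.hom ≫ φ =
          Spec.map (CommRingCat.ofHom (algebraMap k (K i))) := by
  constructor
  · intro h
    exact forward φ
  · rintro ⟨ι, K, _, _, _, _, e, h⟩
    exact backward φ ι K e h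

end Groth.Agent.S0658
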