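import Groth.Statements.S0661
import Groth.Agent.Lib.Helper4.GabberMain
import Groth.Agent.Lib.Helper4.WLocalSquare
import Groth.Agent.S0101

set_option autoImplicit false
open CategoryTheory CategoryTheory.Limits AlgebraicGeometry Opposite
universe u
open EtCore

namespace Groth.Agent.S0661

/-- Let R be a ring such that the localization at every prime is strictly henselian, and F an abelian
sheaf on the small etale site of X = Spec R. Suppose that for all global functions f, g on X the map
from H^1 of the basic open D(f+g) (with coefficients in the restriction of F) to the product of H^1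
of D(f(f+g)) and H^1 of D(g(f+g)) has zero kernel. Then H^q(X, F) vanishes for all q > 0. (Global
functions on Spec R are used in place of elements of R; the two rings are canonically isomorphic.)
(Exactness of pullback of abelian sheaves, which always holds, is carried as an instance
hypothesis.) -/
theorem result (R : Type u) [CommRing R]
    (hR : ∀ p : PrimeSpectrum R, EtCoh.IsStrictlyHenselianLocalRing (Localization.AtPrime p.asIdeal))
    (F : EtCoh.Ab (Spec (CommRingCat.of R)))
    (hker : ∀ (f g : Γ((Spec (CommRingCat.of R)), ⊤))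
      [PreservesFiniteLimits (EtCoh.pull ((Spec (CommRingCat.of R)).homOfLE (((Spec (CommRingCat.of R)).basicOpen_mul f (f + g)).trans_le inf_le_right)))]
      [PreservesFiniteLimits (EtCoh.pull ((Spec (CommRingCat.of R)).homOfLE (((Spec (CommRingCat.of R)).basicOpen_mul g (f + g)).trans_le inf_le_right)))]
      (ξ : EtCoh.H ↑((Spec (CommRingCat.of R)).basicOpen (f + g)) ((EtCoh.pull ((Spec (CommRingCat.of R)).basicOpen (f + g)).ι).obj F) 1),
      EtCore.HpullVia ((Spec (CommRingCat.of R)).homOfLE (((Spec (CommRingCat.of R)).basicOpen_mul f (f + g)).trans_le inf_le_right)) ((Spec (CommRingCat.of R)).basicOpen (f + g)).ι ((Spec (CommRingCat.of R)).basicOpen (f * (f + g))).ι ((Spec (CommRingCat.of R)).homOfLE_ι (((Spec (CommRingCat.of R)).basicOpen_mul f (f + g)).trans_le inf_le_right)) F 1 ξ = 0 →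
      EtCore.HpullVia ((Spec (CommRingCat.of R)).homOfLE (((Spec (CommRingCat.of R)).basicOpen_mul g (f + g)).trans_le inf_le_right)) ((Spec (CommRingCat.of R)).basicOpen (f + g)).ι ((Spec (CommRingCat.of R)).basicOpen (g * (f + g))).ι ((Spec (CommRingCat.of R)).homOfLE_ι (((Spec (CommRingCat.of R)).basicOpen_mul g (f + g)).trans_le inf_le_right)) F 1 ξ = 0 →
      ξ = 0)
    (q : ℕ) (hq : 1 ≤ q) : Subsingleton (EtCoh.H (Spec (CommRingCat.of R)) F q) := by
  obtain ⟨n, rfl⟩ : ∃ n, q = n + 1 := ⟨q - 1, by omega⟩
  have hX : ∀ x : (Spec (CommRingCat.of R)),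
      EtCoh.IsStrictlyHenselianLocalRing ((Spec (CommRingCat.of R)).presheaf.stalk x) := by
    intro x
    let p : PrimeSpectrum R := x
    let e₀ : Localization.AtPrime p.asIdeal ≃ₐ[R] ((Spec.structureSheaf R).presheaf.stalk p) :=
      IsLocalization.algEquiv p.asIdeal.primeCompl _ _
    let e : Localization.AtPrime p.asIdeal ≃+* ((Spec (CommRingCat.of R)).presheaf.stalk x) :=
      e₀.toRingEquiv
    exact Groth.Agent.Lib.Helper4.AlgRes.isStrictlyHenselianLocalRing_of_ringEquiv e (hR p)
  have hK : Groth.Agent.Lib.Helper4.Gabber.Ker1 F := by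
    intro f g y h1 h2
    have i0 : PreservesFiniteLimits (EtCoh.pull ((Spec (CommRingCat.of R)).basicOpen (f + g)).ι) :=
      Groth.Agent.S0101.result _
    have i1 : PreservesFiniteLimits
        (EtCoh.pull ((Spec (CommRingCat.of R)).basicOpen (f * (f + g))).ι) :=
      Groth.Agent.S0101.result _
    have i2 : PreservesFiniteLimits
        (EtCoh.pull ((Spec (CommRingCat.of R)).basicOpen (g * (f + g))).ι) :=
      Groth.Agent.S0101.result _
    have i3 : PreservesFiniteLimits (EtCoh.pull ((Spec (CommRingCat.of R)).homOfLE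
        (((Spec (CommRingCat.of R)).basicOpen_mul f (f + g)).trans_le inf_le_right))) :=
      Groth.Agent.S0101.result _
    have i4 : PreservesFiniteLimits (EtCoh.pull ((Spec (CommRingCat.of R)).homOfLE
        (((Spec (CommRingCat.of R)).basicOpen_mul g (f + g)).trans_le inf_le_right))) :=
      Groth.Agent.S0101.result _
    have key := hker f g (Groth.Agent.Lib.Cohomology.EtMV.legEquiv
      ((Spec (CommRingCat.of R)).basicOpen (f + g)).ι F 1 y) ?_ ?_
    · exact (Groth.Agent.Lib.Cohomology.EtMV.legEquiv _ F 1).injective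
        (key.trans (map_zero _).symm)
    · rw [Groth.Agent.Lib.Cohomology.EtMV.HpullVia_eq]
      exact (congrArg _ h1).trans (map_zero _)
    · rw [Groth.Agent.Lib.Cohomology.EtMV.HpullVia_eq]
      exact (congrArg _ h2).trans (map_zero _)
  exact ⟨fun a b => (Groth.Agent.Lib.Helper4.Gabber.ext_const_eq_zero hX F hK n a).trans
    (Groth.Agent.Lib.Helper4.Gabber.ext_const_eq_zero hX F hK n b).symm⟩

end Groth.Agent.S0661
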