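import Groth.Statements.S0666
import Mathlib
import Groth.Agent.Lib.Helper47.CechDelta
import Groth.Agent.Lib.Helper47.RDerLES
import Groth.Agent.S6773
import Groth.Agent.S6774
import Groth.Agent.S16465
-- import your own Groth.Agent.* helpers here

set_option autoImplicit false
open CategoryTheory CategoryTheory.Limits Opposite
universe w v
open EtCore

namespace Groth.Agent.S0666

/-- With C, U and the family (U_i -> U) as in the definition of the Cech complex, on the abelian
category of abelian presheaves on C the p-th Cech cohomology functor is isomorphic to the p-th right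
derived functor of the zeroth Cech cohomology functor (assuming, as binders, that the latter is
additive and that abelian presheaves have injective resolutions, which hold because C is taken
essentially small relative to the coefficient universe). -/
theorem result {C : Type w} [Category.{v} C] [EssentiallySmall.{w} C] {U : C} [HasFiniteProducts (Over U)]
    {ι : Type w} (Uf : ι → Over U) [(EtCech.cechHFunctor (C := C) Uf 0).Additive]
    [HasInjectiveResolutions (Cᵒᵖ ⥤ AddCommGrpCat.{w})] (p : ℕ) :
    Nonempty (EtCech.cechHFunctor (C := C) Uf p ≅ (EtCech.cechHFunctor (C := C) Uf 0).rightDerived p) := by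
  have hls : LocallySmall.{w} C := inferInstance
  have hlex := Groth.Agent.Lib.Helper47.CechDelta.preservesFiniteLimits_cechH0 (C := C) Uf
  let F := EtCech.cechHFunctor (C := C) Uf 0
  let Δ := Groth.Agent.Lib.Helper47.RDerLES.derivedLES F
  have h1 : Δ.toCohDeltaFunctor.IsUniversal := Groth.Agent.S16465.result _ Δ
  have h2 : (Groth.Agent.Lib.Helper47.CechDelta.cechDelta (C := C) Uf).IsUniversal :=
    Groth.Agent.S6773.result _ (Groth.Agent.Lib.Helper47.CechDelta.cechDelta_effaceable Uf)
  let e : Δ.toCohDeltaFunctor.F 0 ≅ (Groth.Agent.Lib.Helper47.CechDelta.cechDelta (C := C) Uf).F 0 :=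
    F.rightDerivedZeroIsoSelf
  obtain ⟨φ, -, -⟩ := Groth.Agent.S6774.result _ _ h1 h2 e
  refine ⟨⟨φ.inv.app p, φ.hom.app p, ?_, ?_⟩⟩
  · have := congrArg (fun t => DeltaF.CohDeltaFunctor.Hom.app t p) φ.inv_hom_id
    exact this
  · have := congrArg (fun t => DeltaF.CohDeltaFunctor.Hom.app t p) φ.hom_inv_id
    exact this

end Groth.Agent.S0666
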