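import Groth.Statements.S0667
import Mathlib
import Groth.Agent.Lib.Helper47.CechFree
import Groth.Agent.Lib.Helper47.CechTwist
-- import your own Groth.Agent.* helpers here

set_option autoImplicit false
open CategoryTheory CategoryTheory.Limits AlgebraicGeometry Opposite
universe u
open EtCore

namespace Groth.Agent.S0667

open Groth.Agent.Lib.Cohomology.SiteCech Groth.Agent.Lib.Helper47.CechFree
  Groth.Agent.Lib.Helper47.CechTwist

lemma injective_obj {X : Scheme.{u}} (I : EtCoh.Ab X) [Injective I] : Injective I.obj := by
  have : (presheafToSheaf X.smallEtaleTopology AddCommGrpCat.{u + 1}).PreservesMonomorphisms :=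
    inferInstance
  exact Injective.injective_of_adjoint
    (sheafificationAdjunction X.smallEtaleTopology AddCommGrpCat.{u + 1}) I


/-- Let f : X -> Y be a morphism of schemes, I an injective abelian sheaf on the small etale site of X,
V an etale Y-scheme and (V_j -> V) an etale covering of V, i.e. a jointly surjective family of
morphisms of etale Y-schemes (finite products in the over category, i.e. fibre products over V,
assumed as a binder). Then the Cech cohomology of the presheaf underlying f_* I with respect to this
covering vanishes in positive degrees. -/
theorem result {X Y : Scheme.{u}} (f : X ⟶ Y) (I : EtCoh.Ab X) [Injective I]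
    (V : Y.Etale) [HasFiniteProducts (Over V)] {κ : Type (u + 1)} (Vf : κ → Over V)
    (hV : ∀ v : V.left, ∃ (j : κ) (y : (Vf j).left.left), (Vf j).hom.left.base y = v) (p : ℕ) :
    IsZero (EtCech.cechH Vf ((EtCoh.push f).obj I).obj (p + 1)) := by
  have : HasFiniteProducts (Over ((EtCoh.bc f).obj V)) := inferInstance
  have := injective_obj I
  have : LocallySmall.{u + 1} X.Etale := inferInstance
  have h := isZero_cech_homology_of_injective (C := X.Etale) (U := (EtCoh.bc f).obj V)
    (fun j => (Over.post (EtCoh.bc f)).obj (Vf j)) I.obj p
  exact isZero_homology_comp_of_preserves (Over.post (EtCoh.bc f)) (resP I.obj) Vf p h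

end Groth.Agent.S0667
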