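import Groth.Statements.S0676
import Groth.Agent.Lib.Helper4.EtaleLift

set_option autoImplicit false
open CategoryTheory CategoryTheory.Limits AlgebraicGeometry Opposite Topology
universe u
open ProEtW

namespace Groth.Agent.S0676

open Groth.Agent.Lib.Helper4.EtaleLift

/-- If every faithfully flat etale A-algebra has an A-algebra retraction, then the same holds for the
quotient ring A/I for every ideal I. -/
theorem result (A : Type u) [CommRing A]
    (h : ProEtW.HasEtaleRetractions A) (I : Ideal A) :
    ProEtW.HasEtaleRetractions (A ⧸ I) := by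
  intro Bb _ _ hff het
  let _ : Algebra A Bb := ((algebraMap (A ⧸ I) Bb).comp (Ideal.Quotient.mk I)).toAlgebra
  have : IsScalarTower A (A ⧸ I) Bb := IsScalarTower.of_algebraMap_eq (fun _ => rfl)
  obtain ⟨B, _, _, hBet, ⟨ψ⟩, hdesc⟩ :=
    exists_etale_descent (A₀ := A) (A := A ⧸ I) (C := Bb)
      (fun ι _ p => hlift_of_surjective Ideal.Quotient.mk_surjective ι p)
  have hI : PrimeSpectrum.zeroLocus (I : Set A) ⊆
      Set.range (PrimeSpectrum.comap (algebraMap A B)) := by
    intro p hp
    -- the prime of `A ⧸ I` corresponding to `p`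
    have hp' : I ≤ p.asIdeal := hp
    obtain ⟨pb, hpb⟩ : ∃ pb : PrimeSpectrum (A ⧸ I),
        PrimeSpectrum.comap (Ideal.Quotient.mk I) pb = p := by
      have := _root_.range_comap_of_surjective (A ⧸ I) (Ideal.Quotient.mk I)
        Ideal.Quotient.mk_surjective
      rw [Ideal.mk_ker] at this
      have hmem : p ∈ Set.range (PrimeSpectrum.comap (Ideal.Quotient.mk I)) := by
        rw [this]; exact hp
      exact hmem
    obtain ⟨q, hq⟩ := PrimeSpectrum.comap_surjective_of_faithfullyFlat (A := A ⧸ I) (B := Bb) pb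
    refine ⟨PrimeSpectrum.comap ψ.toRingHom q, ?_⟩
    rw [← PrimeSpectrum.comap_comp_apply, ← hpb, ← hq, ← PrimeSpectrum.comap_comp_apply]
    congr 1
    ext a
    simp [IsScalarTower.algebraMap_apply A (A ⧸ I) Bb]
  obtain ⟨f, hf, hff'⟩ := exists_faithfullyFlat_prod_away A B I hI
  have het' : Algebra.Etale A (B × Localization.Away f) := etale_prod A B (Localization.Away f)
  obtain ⟨ρ⟩ := h (B × Localization.Away f) hff' het'
  obtain ⟨r'⟩ := exists_algHom_of_prod_away (A := A) (E := B) (T := A ⧸ I) f
    (by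
      have : algebraMap A (A ⧸ I) f = 0 := Ideal.Quotient.eq_zero_iff_mem.mpr hf
      rw [this]; exact Ideal.zero_mem _)
    ((Ideal.Quotient.mkₐ A I).comp ρ)
  exact hdesc (A ⧸ I) r'

end Groth.Agent.S0676
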