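import Groth.Statements.S0696
import Groth.Agent.Lib.Helper4.LocSecCons

set_option autoImplicit false
open CategoryTheory CategoryTheory.Limits AlgebraicGeometry Opposite Topology
universe u
open ProEtW

namespace Groth.Agent.S0696

open Groth.Agent.Lib.Helper4.LocSec

/-- `Spec A` with the discrete topology -/
def Disc (A : Type u) [CommRing A] : Type u := PrimeSpectrum A

instance (A : Type u) [CommRing A] : TopologicalSpace (Disc A) := ⊥

instance (A : Type u) [CommRing A] : DiscreteTopology (Disc A) := ⟨rfl⟩

theorem clopenBasis_of_profinite (Λ : Type u) [TopologicalSpace Λ] [CompactSpace Λ] [T2Space Λ]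
    [TotallySeparatedSpace Λ] : ClopenBasis Λ where
  basis _ _ hU hl := compact_exists_isClopen_in_isOpen hU hl
  sep _ _ hne := exists_isClopen_of_totally_separated hne

/-- Every ring A admits a faithfully flat ind-Zariski extension B whose spectrum is w-local with
extremally disconnected space of connected components. -/
theorem result (A : Type u) [CommRing A] :
    ∃ (B : Type u) (_ : CommRing B) (_ : Algebra A B),
      Module.FaithfullyFlat A B ∧ EtPBC.IsIndZariski A B ∧ ProEtW.IsWLocal (PrimeSpectrum B) ∧
        ExtremallyDisconnected (_root_.ConnectedComponents (PrimeSpectrum B)) := by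
  haveI : T2Space (Cons A) := t2Space_of_clopenBasis clopenBasis_cons
  let g : Disc A → Cons A := id
  have hg : Continuous g := continuous_of_discreteTopology
  let p : StoneCech (Disc A) → PrimeSpectrum A := fun l => Cons.toSpec (stoneCechExtend hg l)
  have hp : IsConsContinuous p := fun a =>
    (isConsContinuous_toSpec a).preimage (continuous_stoneCechExtend hg)
  haveI : ExtremallyDisconnected (StoneCech (Disc A)) :=
    CompactT2.Projective.extremallyDisconnected StoneCech.projective
  have hΛ : ClopenBasis (StoneCech (Disc A)) := clopenBasis_of_profinite _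
  have hsurj : Function.Surjective p := fun q =>
    ⟨stoneCechUnit (show Disc A from q), congrArg Cons.toSpec (stoneCechExtend_stoneCechUnit hg _)⟩
  exact ⟨LS (primeFamily p), inferInstance, inferInstance, faithfullyFlat_of_surjective hp hΛ hsurj,
    isIndZariski (isOpenFamily_primeFamily hp) hΛ, isWLocal hp hΛ,
    extremallyDisconnected_of_homeo (pi0Homeo hp hΛ).symm⟩

end Groth.Agent.S0696
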