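import Groth.Statements.S0698
import Groth.Agent.Lib.Helper4.SpectralPi0
import Groth.Agent.Lib.Helper4.IndZariski

set_option autoImplicit false
open CategoryTheory CategoryTheory.Limits AlgebraicGeometry Opposite Topology
universe u
open ProEtW

namespace Groth.Agent.S0698

open Groth.Agent.Lib.Helper4.SpectralPi0 Groth.Agent.Lib.Helper4.IndZariski Set

section
variable {A : Type u} [CommRing A] (T : Set (_root_.ConnectedComponents (PrimeSpectrum A)))

/-- idempotents whose basic open contains the preimage of `T` -/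
def Idx : Type u :=
  {e : A // IsIdempotentElem e ∧
    _root_.ConnectedComponents.mk ⁻¹' T ⊆ (PrimeSpectrum.basicOpen e : Set (PrimeSpectrum A))}

/-- the ideal `(1 - e)` -/
def idl (e : Idx T) : Ideal A := Ideal.span {1 - e.1}

instance : Preorder (Idx T) := Preorder.lift (idl T)

theorem idl_mono : Monotone (idl T) := fun _ _ h => h

instance : Nonempty (Idx T) := ⟨⟨1, IsIdempotentElem.one, by
  intro p _
  rw [PrimeSpectrum.basicOpen_one]
  trivial⟩⟩

instance : IsDirected (Idx T) (· ≤ ·) := by
  refine ⟨fun e e' => ?_⟩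
  refine ⟨⟨e.1 * e'.1, e.2.1.mul e'.2.1, ?_⟩, ?_, ?_⟩
  · rw [PrimeSpectrum.basicOpen_mul]
    exact subset_inter e.2.2 e'.2.2
  · change Ideal.span {1 - e.1} ≤ Ideal.span {1 - e.1 * e'.1}
    rw [Ideal.span_singleton_le_span_singleton]
    refine ⟨1 - e.1, ?_⟩
    have h := e.2.1.eq
    linear_combination (-e'.1) * h
  · change Ideal.span {1 - e'.1} ≤ Ideal.span {1 - e.1 * e'.1}
    rw [Ideal.span_singleton_le_span_singleton]
    refine ⟨1 - e'.1, ?_⟩
    have h := e'.2.1.eq
    linear_combination (-e.1) * h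

theorem isLocalIso_idl (e : Idx T) : Algebra.IsLocalIso A (A ⧸ idl T e) := by
  have : IsLocalization.Away e.1 (A ⧸ Ideal.span {1 - e.1}) :=
    IsLocalization.Away.quotient_of_isIdempotentElem e.2.1
  have : Algebra.IsStandardOpenImmersion A (A ⧸ Ideal.span {1 - e.1}) := ⟨e.1, this⟩
  exact (inferInstance : Algebra.IsLocalIso A (A ⧸ Ideal.span {1 - e.1}))

theorem zeroLocus_iSup_idl :
    PrimeSpectrum.zeroLocus ((⨆ e : Idx T, idl T e : Ideal A) : Set A) =
      ⋂ e : Idx T, (PrimeSpectrum.basicOpen e.1 : Set (PrimeSpectrum A)) := by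
  ext p
  simp only [PrimeSpectrum.mem_zeroLocus, SetLike.coe_subset_coe, iSup_le_iff, mem_iInter]
  refine forall_congr' fun e => ?_
  rw [idl, Ideal.span_le, Set.singleton_subset_iff, SetLike.mem_coe]
  change 1 - e.1 ∈ p.asIdeal ↔ e.1 ∉ p.asIdeal
  constructor
  · intro h1 h2
    apply p.isPrime.ne_top
    rw [Ideal.eq_top_iff_one]
    have := p.asIdeal.add_mem h1 h2
    rwa [sub_add_cancel] at this
  · intro h
    have h0 : e.1 * (1 - e.1) ∈ p.asIdeal := by
      have : e.1 * (1 - e.1) = 0 := by
        have := e.2.1.eq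
        linear_combination -this
      rw [this]; exact p.asIdeal.zero_mem
    exact (p.isPrime.mem_or_mem h0).resolve_left h

end

/-- Let A be a ring, X = Spec A and T a closed subset of pi_0(X). Then A has an ind-Zariski quotient
ring B (the map A -> B is surjective) whose spectrum maps homeomorphically onto the preimage of T in
X. -/
theorem result (A : Type u) [CommRing A]
    (T : Set (_root_.ConnectedComponents (PrimeSpectrum A))) (hT : IsClosed T) :
    ∃ (B : Type u) (_ : CommRing B) (_ : Algebra A B),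
      EtPBC.IsIndZariski A B ∧ Function.Surjective (algebraMap A B) ∧
      Topology.IsEmbedding (PrimeSpectrum.comap (algebraMap A B)) ∧
      Set.range (PrimeSpectrum.comap (algebraMap A B)) = _root_.ConnectedComponents.mk ⁻¹' T := by
  refine ⟨A ⧸ (⨆ e : Idx T, idl T e), inferInstance, inferInstance,
    isIndZariski_quotient_iSup (idl T) (idl_mono T) (isLocalIso_idl T),
    Ideal.Quotient.mk_surjective,
    (PrimeSpectrum.isClosedEmbedding_comap_of_surjective _ _
      Ideal.Quotient.mk_surjective).isEmbedding, ?_⟩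
  have hr := _root_.range_comap_of_surjective (A ⧸ (⨆ e : Idx T, idl T e))
    (algebraMap A (A ⧸ (⨆ e : Idx T, idl T e))) Ideal.Quotient.mk_surjective
  rw [hr]
  have hker : RingHom.ker (algebraMap A (A ⧸ (⨆ e : Idx T, idl T e))) = ⨆ e : Idx T, idl T e :=
    Ideal.mk_ker
  rw [hker, zeroLocus_iSup_idl]
  apply Subset.antisymm
  · intro p hp
    by_contra hpT
    obtain ⟨s, hs, hTs, hps⟩ := exists_isClopen_of_notMem_preimage hT hpT
    obtain ⟨e, he, rfl⟩ := PrimeSpectrum.isClopen_iff.mp hs
    exact hps (mem_iInter.mp hp ⟨e, he, hTs⟩)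
  · intro p hp
    exact mem_iInter.mpr fun e => e.2.2 hp

end Groth.Agent.S0698
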