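import Groth.Statements.S0699
import Groth.Agent.Lib.Helper4.WLocal

set_option autoImplicit false
open CategoryTheory CategoryTheory.Limits AlgebraicGeometry Opposite Topology
universe u
open ProEtW

namespace Groth.Agent.S0699

open Groth.Agent.Lib.Helper4.WLocal Set

section
variable {A B : Type u} [CommRing A] [CommRing B] [Algebra A B]
  (h2 : ProEtW.IsWLocal (PrimeSpectrum A)) (h3 : ProEtW.IsWLocal (PrimeSpectrum B))
  (h4 : ProEtW.IsWLocalMap (PrimeSpectrum.comap (algebraMap A B)))
  (h5 : Function.Bijective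
      (PrimeSpectrum.continuous_comap (algebraMap A B)).connectedComponentsMap)

include h2 h3 h4 h5

/-- over every closed point of `Spec A` there is a closed point of `Spec B` -/
theorem exists_closed_over (m : PrimeSpectrum A) (hm : IsClosed ({m} : Set (PrimeSpectrum A))) :
    ∃ n : PrimeSpectrum B, IsClosed ({n} : Set (PrimeSpectrum B)) ∧
      PrimeSpectrum.comap (algebraMap A B) n = m := by
  obtain ⟨c, hc⟩ := h5.2 (_root_.ConnectedComponents.mk m)
  obtain ⟨y, rfl⟩ := ConnectedComponents.surjective_coe c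
  obtain ⟨n, hnc, -, hmk⟩ := exists_closed_mk_eq h3 y
  refine ⟨n, hnc, ?_⟩
  apply eq_of_mk_eq h2 (h4.2 n hnc) hm
  rw [← hc]
  change (PrimeSpectrum.continuous_comap (algebraMap A B)).connectedComponentsMap
    (_root_.ConnectedComponents.mk n) = _
  rw [hmk]

omit h2 h4 in
/-- closed points of `Spec B` are determined by their images -/
theorem closed_unique (n n' : PrimeSpectrum B) (hn : IsClosed ({n} : Set (PrimeSpectrum B)))
    (hn' : IsClosed ({n'} : Set (PrimeSpectrum B)))
    (h : PrimeSpectrum.comap (algebraMap A B) n = PrimeSpectrum.comap (algebraMap A B) n') :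
    n = n' := by
  apply eq_of_mk_eq h3 hn hn'
  apply h5.1
  change _root_.ConnectedComponents.mk (PrimeSpectrum.comap (algebraMap A B) n) =
    _root_.ConnectedComponents.mk (PrimeSpectrum.comap (algebraMap A B) n')
  rw [h]

/-- a point of `Spec B` whose image specializes to the closed point `m` specializes to the closed
point over `m` -/
theorem specializes_closed_over (q n : PrimeSpectrum B)
    (hn : IsClosed ({n} : Set (PrimeSpectrum B)))
    (hm : IsClosed ({PrimeSpectrum.comap (algebraMap A B) n} : Set (PrimeSpectrum A)))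
    (hq : PrimeSpectrum.comap (algebraMap A B) q ⤳ PrimeSpectrum.comap (algebraMap A B) n) :
    q ⤳ n := by
  obtain ⟨n', ⟨hn'c, hqn'⟩, -⟩ := h3.2.2 q
  have h1 : PrimeSpectrum.comap (algebraMap A B) q ⤳ PrimeSpectrum.comap (algebraMap A B) n' :=
    hqn'.map (PrimeSpectrum.continuous_comap (algebraMap A B))
  obtain ⟨w, -, hw⟩ := h2.2.2 (PrimeSpectrum.comap (algebraMap A B) q)
  have e1 := hw _ ⟨h4.2 n' hn'c, h1⟩
  have e2 := hw _ ⟨hm, hq⟩
  have : n' = n := closed_unique h3 h5 n' n hn'c hn (e1.trans e2.symm)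
  rw [← this]; exact hqn'

/-- elements outside the closed point `n` divide the image of an element outside `comap n` -/
theorem exists_dvd_map (n : PrimeSpectrum B) (hn : IsClosed ({n} : Set (PrimeSpectrum B)))
    (b : B) (hb : b ∉ n.asIdeal) :
    ∃ a : A, a ∉ (PrimeSpectrum.comap (algebraMap A B) n).asIdeal ∧ b ∣ algebraMap A B a := by
  by_contra hcon
  push Not at hcon
  set P := (PrimeSpectrum.comap (algebraMap A B) n).asIdeal with hP
  have hdisj : Disjoint ((Ideal.span {b} : Ideal B) : Set B)
      ((Submonoid.map (algebraMap A B) P.primeCompl : Submonoid B) : Set B) := by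
    rw [Set.disjoint_left]
    rintro x hx ⟨a, ha, rfl⟩
    exact hcon a ha (Ideal.mem_span_singleton.mp hx)
  obtain ⟨q, hqp, hbq, hqd⟩ := Ideal.exists_le_prime_disjoint _ _ hdisj
  let qq : PrimeSpectrum B := ⟨q, hqp⟩
  have hle : (PrimeSpectrum.comap (algebraMap A B) qq).asIdeal ≤ P := by
    intro a ha
    by_contra haP
    exact Set.disjoint_left.mp hqd ha ⟨a, haP, rfl⟩
  have hsp : PrimeSpectrum.comap (algebraMap A B) qq ⤳ PrimeSpectrum.comap (algebraMap A B) n :=
    (PrimeSpectrum.le_iff_specializes _ _).mp hle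
  have hqn : qq ⤳ n := specializes_closed_over h2 h3 h4 h5 qq n hn (h4.2 n hn) hsp
  have hqn' : q ≤ n.asIdeal := (PrimeSpectrum.le_iff_specializes qq n).mpr hqn
  exact hb (hqn' (hbq (Ideal.mem_span_singleton_self b)))

end

/-- Let A -> B identify local rings, with Spec A and Spec B w-local, Spec B -> Spec A w-local, and
pi_0(Spec B) -> pi_0(Spec A) bijective. Then A -> B is bijective. -/
theorem result (A B : Type u) [CommRing A] [CommRing B]
    [Algebra A B] (h1 : EtPBC.IdentifiesLocalRings A B) (h2 : ProEtW.IsWLocal (PrimeSpectrum A))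
    (h3 : ProEtW.IsWLocal (PrimeSpectrum B))
    (h4 : ProEtW.IsWLocalMap (PrimeSpectrum.comap (algebraMap A B)))
    (h5 : Function.Bijective
      (PrimeSpectrum.continuous_comap (algebraMap A B)).connectedComponentsMap) :
    Function.Bijective (algebraMap A B) := by
  constructor
  · rw [injective_iff_map_eq_zero]
    intro a ha
    apply eq_zero_of_localization
    intro J hJ
    have hJc : IsClosed ({(⟨J, hJ.isPrime⟩ : PrimeSpectrum A)} : Set (PrimeSpectrum A)) :=
      (PrimeSpectrum.isClosed_singleton_iff_isMaximal _).mpr hJ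
    obtain ⟨n, hnc, hn⟩ := exists_closed_over h2 h3 h4 h5 ⟨J, hJ.isPrime⟩ hJc
    have hJeq : J = n.asIdeal.comap (algebraMap A B) := (congrArg PrimeSpectrum.asIdeal hn).symm
    subst hJeq
    apply (h1 n).1
    rw [Localization.localRingHom_to_map, ha, map_zero, map_zero]
  · intro b
    -- the conductor ideal of `b`
    let I : Ideal A :=
      { carrier := {a | ∃ c, algebraMap A B c = algebraMap A B a * b}
        add_mem' := by
          rintro x y ⟨c, hc⟩ ⟨d, hd⟩
          exact ⟨c + d, by rw [map_add, map_add, add_mul, hc, hd]⟩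
        zero_mem' := ⟨0, by simp⟩
        smul_mem' := by
          rintro r x ⟨c, hc⟩
          exact ⟨r * c, by rw [smul_eq_mul, map_mul, map_mul, mul_assoc, hc]⟩ }
    suffices hI : I = ⊤ by
      have h1I : (1 : A) ∈ I := hI ▸ Submodule.mem_top
      obtain ⟨c, hc⟩ := h1I
      exact ⟨c, by rw [hc, map_one, one_mul]⟩
    by_contra hI
    obtain ⟨J, hJ, hIJ⟩ := Ideal.exists_le_maximal I hI
    have hJc : IsClosed ({(⟨J, hJ.isPrime⟩ : PrimeSpectrum A)} : Set (PrimeSpectrum A)) :=
      (PrimeSpectrum.isClosed_singleton_iff_isMaximal _).mpr hJ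
    obtain ⟨n, hnc, hn⟩ := exists_closed_over h2 h3 h4 h5 ⟨J, hJ.isPrime⟩ hJc
    have hJeq : J = n.asIdeal.comap (algebraMap A B) := (congrArg PrimeSpectrum.asIdeal hn).symm
    subst hJeq
    obtain ⟨x, hx⟩ := (h1 n).2 (algebraMap B (Localization.AtPrime n.asIdeal) b)
    obtain ⟨a, s, rfl⟩ := IsLocalization.exists_mk'_eq
      (n.asIdeal.comap (algebraMap A B)).primeCompl x
    rw [Localization.localRingHom_mk', eq_comm, IsLocalization.eq_mk'_iff_mul_eq, ← map_mul,
      IsLocalization.eq_iff_exists n.asIdeal.primeCompl] at hx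
    obtain ⟨t, ht⟩ := hx
    obtain ⟨a', ha', c, hc⟩ := exists_dvd_map h2 h3 h4 h5 n hnc t.1 t.2
    have hmem : a' * s.1 ∈ I := by
      refine ⟨a' * a, ?_⟩
      have ht' : (t : B) * (b * algebraMap A B s.1) = t * algebraMap A B a := ht
      rw [map_mul, map_mul, hc]
      calc (t : B) * c * algebraMap A B a = c * (t * algebraMap A B a) := by ring
        _ = c * (t * (b * algebraMap A B s.1)) := by rw [ht']
        _ = (t : B) * c * algebraMap A B s.1 * b := by ring
    have := hIJ hmem
    rcases (Ideal.IsPrime.mem_or_mem hJ.isPrime this) with h | h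
    · exact ha' h
    · exact s.2 h

end Groth.Agent.S0699
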