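import Groth.Statements.S0701
-- import your own Groth.Agent.* helpers here
import Groth.Agent.Lib.Helper91.ZeroDimSpec

set_option autoImplicit false
open CategoryTheory CategoryTheory.Limits AlgebraicGeometry Opposite Topology
universe u
open ProEtW

namespace Groth.Agent.S0701

/-- Let Spec A be profinite (quasi-compact, Hausdorff, totally disconnected) and A -> B a ring map such
that two distinct primes of B over the same prime of A are never comparable. Then Spec B is
profinite. -/
theorem result (A B : Type u) [CommRing A] [CommRing B]
    [Algebra A B] [T2Space (PrimeSpectrum A)] [TotallyDisconnectedSpace (PrimeSpectrum A)]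
    (h : ∀ q q' : PrimeSpectrum B, q.asIdeal.comap (algebraMap A B) = q'.asIdeal.comap (algebraMap A B) →
      q.asIdeal ≤ q'.asIdeal → q = q') :
    ProEtW.IsProfinite (PrimeSpectrum B) := by
  apply Groth.Agent.Lib.Helper91.isProfinite_of_incomparable
  intro q q' hle
  apply h q q' _ hle
  -- the contractions are comparable, hence equal since `Spec A` is T1
  have hle' : q.asIdeal.comap (algebraMap A B) ≤ q'.asIdeal.comap (algebraMap A B) :=
    Ideal.comap_mono hle
  have hmax : (q.asIdeal.comap (algebraMap A B)).IsMaximal := by
    have := (PrimeSpectrum.isClosed_singleton_iff_isMaximal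
      (PrimeSpectrum.comap (algebraMap A B) q)).mp (isClosed_singleton)
    exact this
  exact hmax.eq_of_le (Ideal.IsPrime.ne_top inferInstance) hle'

end Groth.Agent.S0701
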