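import Groth.Statements.S0702
-- import your own Groth.Agent.* helpers here
import Groth.Agent.Lib.Helper91.ZeroDimSpec
import Mathlib.RingTheory.Algebraic.Integral
import Mathlib.RingTheory.IntegralClosure.IsIntegralClosure.Basic

set_option autoImplicit false
open CategoryTheory CategoryTheory.Limits AlgebraicGeometry Opposite Topology
universe u
open ProEtW

namespace Groth.Agent.S0702

/-- Let Spec A be profinite and A -> B induce algebraic extensions of residue fields at all primes. Then
Spec B is profinite. -/
theorem result (A B : Type u) [CommRing A] [CommRing B]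
    [Algebra A B] [T2Space (PrimeSpectrum A)] [TotallyDisconnectedSpace (PrimeSpectrum A)]
    (h : ProEtW.AlgebraicResidueExtensions A B) :
    ProEtW.IsProfinite (PrimeSpectrum B) := by
  apply Groth.Agent.Lib.Helper91.isProfinite_of_incomparable
  intro q q' hle
  -- `q` is maximal: `B ⧸ q` is a domain algebraic over the field `A ⧸ p`
  have hmaxA : (q.asIdeal.comap (algebraMap A B)).IsMaximal := by
    have := (PrimeSpectrum.isClosed_singleton_iff_isMaximal
      (PrimeSpectrum.comap (algebraMap A B) q)).mp (isClosed_singleton)
    exact this
  have halg := h q.asIdeal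
  letI : Field (A ⧸ q.asIdeal.comap (algebraMap A B)) := Ideal.Quotient.field _
  have hint : Algebra.IsIntegral (A ⧸ q.asIdeal.comap (algebraMap A B)) (B ⧸ q.asIdeal) :=
    Algebra.IsAlgebraic.isIntegral
  have hfield : IsField (B ⧸ q.asIdeal) :=
    isField_of_isIntegral_of_isField' (R := A ⧸ q.asIdeal.comap (algebraMap A B))
      (Field.toIsField _)
  have hmax : q.asIdeal.IsMaximal := Ideal.Quotient.maximal_of_isField _ hfield
  have := hmax.eq_of_le (Ideal.IsPrime.ne_top inferInstance) hle
  exact PrimeSpectrum.ext this

end Groth.Agent.S0702
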