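import Groth.Statements.S0704
import Groth.Agent.Lib.Helper4.SpectralFibre

set_option autoImplicit false
open Topology
universe u
open ProEtW

namespace Groth.Agent.S0704

open Groth.Agent.Lib.Helper4.SpectralFibre Set

section
variable {X T : Type u} [TopologicalSpace X] [SpectralSpace X]
    [TopologicalSpace T] [CompactSpace T] [T2Space T] [TotallyDisconnectedSpace T]
    (g : C(T, _root_.ConnectedComponents X))

omit [SpectralSpace X] [CompactSpace T] [T2Space T] [TotallyDisconnectedSpace T] in
/-- specializations of the first coordinate stay in `Y` -/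
theorem mk_eq_of_specializes (y : Y g) {x' : X} (h : y.1.1 ⤳ x') :
    _root_.ConnectedComponents.mk x' = g y.1.2 := by
  rw [← y.2]
  apply ConnectedComponents.coe_eq_coe'.mpr
  have hpre : IsPreconnected (closure ({y.1.1} : Set X)) := isPreconnected_singleton.closure
  exact hpre.subset_connectedComponent (subset_closure rfl) (specializes_iff_mem_closure.mp h)

omit [SpectralSpace X] [CompactSpace T] [TotallyDisconnectedSpace T] in
theorem isClosed_singleton_iff (y : Y g) :
    IsClosed ({y} : Set (Y g)) ↔ IsClosed ({y.1.1} : Set X) := by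
  constructor
  · intro hy
    rw [← closure_subset_iff_isClosed]
    intro x' hx'
    have hs : y.1.1 ⤳ x' := specializes_iff_mem_closure.mpr hx'
    let y' : Y g := ⟨(x', y.1.2), mk_eq_of_specializes g y hs⟩
    have hyy' : y ⤳ y' := by
      rw [subtype_specializes_iff]
      exact specializes_prod.mpr ⟨hs, specializes_rfl⟩
    have : y' ∈ ({y} : Set (Y g)) := hyy'.mem_closed hy rfl
    have h2 : y' = y := this
    have h3 : y'.1.1 = y.1.1 := by rw [h2]
    exact h3
  · intro hx
    have : ({y} : Set (Y g)) = Subtype.val ⁻¹' (({y.1.1} : Set X) ×ˢ ({y.1.2} : Set T)) := by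
      ext z
      simp only [mem_singleton_iff, mem_preimage, mem_prod]
      constructor
      · rintro rfl; exact ⟨rfl, rfl⟩
      · rintro ⟨h1, h2⟩; exact Subtype.ext (Prod.ext h1 h2)
    rw [this]
    exact (hx.prod isClosed_singleton).preimage continuous_subtype_val

theorem isSpectralMap_fst : IsSpectralMap (fun y : Y g => y.1.1) := by
  refine ⟨by fun_prop, fun s hs hsc => ?_⟩
  have : (fun y : Y g => y.1.1) ⁻¹' s = Subtype.val ⁻¹' (s ×ˢ (univ : Set T)) := by
    ext z; simp
  rw [this]
  exact (isClosedEmbedding_val g).isCompact_preimage (hsc.prod isCompact_univ)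

end

/-- With X, T, g and the fibre product Y of X and T over pi_0(X) as in the first part, if X is moreover
w-local then Y is w-local, the projection Y -> X is w-local, and the closed points of Y are exactly
the points mapping to closed points of X. -/
theorem result (X T : Type u) [TopologicalSpace X]
    [TopologicalSpace T] [CompactSpace T] [T2Space T] [TotallyDisconnectedSpace T]
    (hX : ProEtW.IsWLocal X) (g : C(T, _root_.ConnectedComponents X)) :
    ProEtW.IsWLocal {p : X × T // _root_.ConnectedComponents.mk p.1 = g p.2} ∧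
      ProEtW.IsWLocalMap (fun y : {p : X × T // _root_.ConnectedComponents.mk p.1 = g p.2} => y.1.1) ∧
      ProEtW.closedPoints {p : X × T // _root_.ConnectedComponents.mk p.1 = g p.2} =
        (fun y : {p : X × T // _root_.ConnectedComponents.mk p.1 = g p.2} => y.1.1) ⁻¹' ProEtW.closedPoints X := by
  have hXs : SpectralSpace X := hX.1
  have hkey := isClosed_singleton_iff g
  refine ⟨⟨spectralSpace_Y g, ?_, ?_⟩, ⟨isSpectralMap_fst g, fun y hy => (hkey y).mp hy⟩, ?_⟩
  · have : {y : Y g | IsClosed ({y} : Set (Y g))} =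
        (fun y : Y g => y.1.1) ⁻¹' {x : X | IsClosed ({x} : Set X)} := by
      ext y; exact hkey y
    rw [this]
    exact hX.2.1.preimage (by fun_prop)
  · intro y
    obtain ⟨x₀, ⟨hx₀c, hxx₀⟩, huniq⟩ := hX.2.2 y.1.1
    let y₀ : Y g := ⟨(x₀, y.1.2), mk_eq_of_specializes g y hxx₀⟩
    refine ⟨y₀, ⟨(hkey y₀).mpr hx₀c, ?_⟩, ?_⟩
    · rw [subtype_specializes_iff]
      exact specializes_prod.mpr ⟨hxx₀, specializes_rfl⟩
    · rintro y' ⟨hy'c, hyy'⟩
      rw [subtype_specializes_iff] at hyy'
      have h12 : y.1.1 ⤳ y'.1.1 ∧ y.1.2 ⤳ y'.1.2 := specializes_prod.mp hyy'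
      have h1 : y'.1.1 = x₀ := huniq _ ⟨(hkey y').mp hy'c, h12.1⟩
      have h2 : y.1.2 = y'.1.2 := h12.2.eq
      exact Subtype.ext (Prod.ext h1 h2.symm)
  · ext y
    exact hkey y

end Groth.Agent.S0704
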