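import Groth.Statements.S0706
-- import your own Groth.Agent.* helpers here

set_option autoImplicit false
open CategoryTheory CategoryTheory.Limits AlgebraicGeometry Opposite Topology
universe u
open ProEtW

namespace Groth.Agent.S0706

/-- Let f be an element and I an ideal of A, and Z the intersection of D(f) and V(I) in Spec A. There is
a multiplicative subset S of A for which the image of Spec(S^{-1}A) in Spec A consists precisely of
the points having a specialization in Z. -/
theorem result (A : Type u) [CommRing A] (f : A) (I : Ideal A) :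
    ∃ S : Submonoid A,
      Set.range (PrimeSpectrum.comap (algebraMap A (Localization S))) =
        {x | ∃ z : PrimeSpectrum A,
          z ∈ (PrimeSpectrum.basicOpen f : Set (PrimeSpectrum A)) ∩ PrimeSpectrum.zeroLocus I ∧ x ⤳ z} := by
  classical
  -- S = elements vanishing nowhere on Z = D(f) ∩ V(I)
  let S : Submonoid A :=
    { carrier := {s | ∀ z : PrimeSpectrum A,
        z ∈ (PrimeSpectrum.basicOpen f : Set (PrimeSpectrum A)) ∩ PrimeSpectrum.zeroLocus I →
          s ∉ z.asIdeal}
      one_mem' := fun z _ h => z.2.ne_top ((Ideal.eq_top_iff_one _).mpr h)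
      mul_mem' := fun {a b} ha hb z hz h => by
        rcases z.2.mem_or_mem h with h | h
        · exact ha z hz h
        · exact hb z hz h }
  refine ⟨S, ?_⟩
  rw [PrimeSpectrum.localization_comap_range (Localization S) S]
  ext x
  simp only [Set.mem_ofPred_eq]
  constructor
  · intro hdisj
    -- the ideal x + I is disjoint from powers of f
    have hd : Disjoint ((x.asIdeal ⊔ I : Ideal A) : Set A) (Submonoid.powers f) := by
      rw [Set.disjoint_left]
      rintro a ha ⟨n, rfl⟩
      obtain ⟨p, hp, i, hi, hpi⟩ := Submodule.mem_sup.mp ha
      -- p = f^n - i is in S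
      have hpS : p ∈ S := by
        intro z hz hpz
        have hfz : f ∉ z.asIdeal := by
          have := hz.1
          simpa [PrimeSpectrum.mem_basicOpen] using this
        have hIz : I ≤ z.asIdeal := by
          have := hz.2
          simpa [PrimeSpectrum.mem_zeroLocus] using this
        have : f ^ n ∈ z.asIdeal := by
          have h2 : p + i = f ^ n := hpi
          rw [← h2]
          exact z.asIdeal.add_mem hpz (hIz hi)
        exact hfz (z.2.mem_of_pow_mem n this)
      exact (Set.disjoint_left.mp hdisj) hpS hp
    obtain ⟨q, hq, hle, hqd⟩ := Ideal.exists_le_prime_disjoint (x.asIdeal ⊔ I) (Submonoid.powers f) hd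
    refine ⟨⟨q, hq⟩, ⟨?_, ?_⟩, ?_⟩
    · simp only [SetLike.mem_coe, PrimeSpectrum.mem_basicOpen]
      intro hfq
      exact (Set.disjoint_left.mp hqd) hfq (Submonoid.mem_powers f)
    · simp only [PrimeSpectrum.mem_zeroLocus]
      exact fun a ha => hle (Ideal.mem_sup_right ha)
    · rw [← PrimeSpectrum.le_iff_specializes]
      exact fun a ha => hle (Ideal.mem_sup_left ha)
  · rintro ⟨z, hz, hxz⟩
    rw [← PrimeSpectrum.le_iff_specializes] at hxz
    rw [Set.disjoint_left]
    intro s hs hsx
    exact hs z hz (hxz hsx)

end Groth.Agent.S0706
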