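import Groth.Statements.S0707
import Mathlib
import Groth.Agent.Lib.Helper4.WEProd
import Groth.Agent.Lib.Helper10.WEBasic

set_option autoImplicit false
open CategoryTheory CategoryTheory.Limits AlgebraicGeometry Opposite Topology
universe u
open ProEtW

namespace Groth.Agent.S0707

/-- Let A be w-contractible, E a finite set of elements of A with zero set Z in Spec A, and B a
localization of A at a multiplicative subset S such that the image of Spec B → Spec A is precisely
the set of points of Spec A specializing to some point of Z. Then B is w-contractible. -/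
theorem result (A B : Type u) [CommRing A] [CommRing B]
    [Algebra A B] (S : Submonoid A) [IsLocalization S B] (E : Finset A)
    (hB : Set.range (PrimeSpectrum.comap (algebraMap A B)) =
      {x | ∃ z : PrimeSpectrum A, z ∈ PrimeSpectrum.zeroLocus (R := A) E ∧ x ⤳ z})
    (hA : EtPBC.IsWContractible A) : EtPBC.IsWContractible B := by
  classical
  intro C' _ _ hff hwe
  letI : Algebra A C' := ((algebraMap B C').comp (algebraMap A B)).toAlgebra
  haveI : IsScalarTower A B C' := IsScalarTower.of_algebraMap_eq (fun _ => rfl)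
  haveI : Algebra.WeaklyEtale A B :=
    Groth.Agent.Lib.Helper10.WE.weaklyEtale_of_isLocalization (R := A) (S := B) S
  haveI : Algebra.WeaklyEtale A C' := Algebra.WeaklyEtale.trans A B C'
  let ι : Type u := {x // x ∈ E}
  let f : ι → A := Subtype.val
  haveI : Algebra.WeaklyEtale A (∀ i : ι, Localization.Away (f i)) := inferInstance
  haveI : Algebra.WeaklyEtale A (C' × (∀ i : ι, Localization.Away (f i))) :=
    Groth.Agent.Lib.Helper4.WEProd.weaklyEtale_prod A C' _
  have hff' : Module.FaithfullyFlat A (C' × (∀ i : ι, Localization.Away (f i))) := by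
    apply Module.FaithfullyFlat.of_comap_surjective
    intro p
    by_cases hp : p ∈ Set.range (PrimeSpectrum.comap (algebraMap A B))
    · obtain ⟨pb, rfl⟩ := hp
      obtain ⟨q, hq⟩ := PrimeSpectrum.comap_surjective_of_faithfullyFlat (A := B) (B := C') pb
      refine ⟨PrimeSpectrum.comap (RingHom.fst C' (∀ i : ι, Localization.Away (f i))) q, ?_⟩
      rw [← hq]
      ext a
      simp only [PrimeSpectrum.comap_asIdeal, Ideal.mem_comap]
      rfl
    · have hpE : ¬ (p ∈ PrimeSpectrum.zeroLocus (R := A) E) := fun h =>
        hp (by rw [hB]; exact ⟨p, h, specializes_rfl⟩)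
      rw [PrimeSpectrum.mem_zeroLocus, Set.not_subset] at hpE
      obtain ⟨x, hxE, hxp⟩ := hpE
      let i : ι := ⟨x, hxE⟩
      have hfp : p ∈ PrimeSpectrum.basicOpen x := hxp
      rw [← SetLike.mem_coe,
        ← PrimeSpectrum.localization_away_comap_range (Localization.Away x) x] at hfp
      obtain ⟨q, rfl⟩ := hfp
      refine ⟨PrimeSpectrum.comap ((Pi.evalRingHom (fun i : ι => Localization.Away (f i)) i).comp
        (RingHom.snd C' (∀ i : ι, Localization.Away (f i)))) q, ?_⟩
      rw [← PrimeSpectrum.comap_comp_apply]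
      rfl
  obtain ⟨ρ⟩ := hA (C' × (∀ i : ι, Localization.Away (f i))) hff' inferInstance
  have hrad : ∀ i : ι, algebraMap A B (f i) ∈ Ideal.jacobson (⊥ : Ideal B) := by
    intro i
    rw [Ideal.jacobson, Ideal.mem_sInf]
    rintro n ⟨-, hn⟩
    have hnp : n.IsPrime := hn.isPrime
    let x : PrimeSpectrum B := ⟨n, hnp⟩
    have hx : PrimeSpectrum.comap (algebraMap A B) x ∈
        {x | ∃ z : PrimeSpectrum A, z ∈ PrimeSpectrum.zeroLocus (R := A) E ∧ x ⤳ z} := by
      rw [← hB]; exact ⟨x, rfl⟩
    obtain ⟨z, hzE, hxz⟩ := hx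
    have hzB : z ∈ Set.range (PrimeSpectrum.comap (algebraMap A B)) := by
      rw [hB]; exact ⟨z, hzE, specializes_rfl⟩
    obtain ⟨x', rfl⟩ := hzB
    have hle : (PrimeSpectrum.comap (algebraMap A B) x).asIdeal ≤
        (PrimeSpectrum.comap (algebraMap A B) x').asIdeal :=
      (PrimeSpectrum.le_iff_specializes _ _).mpr hxz
    have hnn' : n ≤ x'.asIdeal := by
      have h1 := Ideal.map_mono (f := algebraMap A B) hle
      rw [PrimeSpectrum.comap_asIdeal, PrimeSpectrum.comap_asIdeal,
        IsLocalization.map_under S B, IsLocalization.map_under S B] at h1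
      exact h1
    have heq : n = x'.asIdeal := hn.eq_of_le x'.isPrime.ne_top hnn'
    have h2 : f i ∈ (PrimeSpectrum.comap (algebraMap A B) x').asIdeal := hzE i.2
    rw [PrimeSpectrum.comap_asIdeal, Ideal.mem_comap, ← heq] at h2
    exact h2
  obtain ⟨r'⟩ := Groth.Agent.Lib.Helper4.WEProd.exists_algHom_of_prod_pi (A := A) (E := C')
    (T := B) f hrad ((Algebra.ofId A B).comp ρ)
  have hcomp : r'.toRingHom.comp (algebraMap B C') = RingHom.id B := by
    apply IsLocalization.ringHom_ext S
    ext a
    simp only [RingHom.comp_apply, RingHom.id_apply]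
    rw [← IsScalarTower.algebraMap_apply A B C']
    exact r'.commutes a
  exact ⟨{ r'.toRingHom with
    commutes' := fun b => congrFun (congrArg DFunLike.coe hcomp) b }⟩

end Groth.Agent.S0707
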