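import Groth.Statements.S0724
import Groth.Agent.Lib.Helper4.ProEtQc
import Groth.Agent.Lib.Helper53.FPAdd

set_option autoImplicit false
open CategoryTheory CategoryTheory.Limits AlgebraicGeometry Opposite
universe u
open ProEtS

namespace Groth.Agent.S0724

/-- Applied to abelian sheaves (complexes in degree 0) and read on cohomology groups: for X
quasi-compact and quasi-separated and every n, the functor F |-> H^n(X_proet, F) commutes with
direct sums indexed by any small type. -/
theorem result (X : Scheme.{u}) [CompactSpace ↥X]
    [QuasiSeparatedSpace ↥X] (n : ℕ) (ι : Type u) :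
    PreservesColimitsOfShape (Discrete ι) (ProEtS.HPF X n) := by
  let J := Finset (Discrete ι)
  let eJ : J ≌ AsSmall.{u + 1} J := AsSmall.equiv
  have : IsFiltered (AsSmall.{u + 1} J) := IsFiltered.of_equivalence eJ
  have hJ' : PreservesColimitsOfShape (AsSmall.{u + 1} J) (ProEtS.HPF X n) :=
    Groth.Agent.Lib.Helper4.ProEtQc.preservesColimitsOfShape_HPF X n (AsSmall.{u + 1} J)
  have hJ : PreservesColimitsOfShape (Finset (Discrete ι)) (ProEtS.HPF X n) :=
    preservesColimitsOfShape_of_equiv eJ.symm _
  have : (ProEtS.HPF X n).Additive := by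
    unfold ProEtS.HPF
    infer_instance
  have : PreservesFiniteCoproducts (ProEtS.HPF X n) := inferInstance
  exact ⟨fun {K} =>
    Groth.Agent.Helper53.FPDense.preservesColimit_discrete_of_finite_filtered (ProEtS.HPF X n) K⟩

end Groth.Agent.S0724
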