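import Groth.Statements.S0738
-- import your own Groth.Agent.* helpers here

set_option autoImplicit false
open Topology
universe u
open ProEtW

namespace Groth.Agent.S0738

/-- A closed subspace of a quasi-separated prespectral space is quasi-separated. -/
theorem quasiSeparatedSpace_of_isClosedEmbedding {X Y : Type*} [TopologicalSpace X]
    [TopologicalSpace Y] [PrespectralSpace Y] [QuasiSeparatedSpace Y] (f : X → Y)
    (hf : IsClosedEmbedding f) : QuasiSeparatedSpace X := by
  -- every compact open of X is the preimage of a compact open of Y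
  have key : ∀ U : Set X, IsOpen U → IsCompact U →
      ∃ U' : Set Y, IsOpen U' ∧ IsCompact U' ∧ U = f ⁻¹' U' := by
    intro U hU hUc
    obtain ⟨W, hW, rfl⟩ := hf.isInducing.isOpen_iff.mp hU
    obtain ⟨U', hU'c, hU'o, h1, h2⟩ :=
      PrespectralSpace.exists_isCompact_and_isOpen_between (hUc.image hf.continuous) hW
        (Set.image_preimage_subset f W)
    refine ⟨U', hU'o, hU'c, ?_⟩
    apply subset_antisymm
    · intro x hx
      exact h1 (Set.mem_image_of_mem f hx)
    · exact Set.preimage_mono h2
  constructor
  intro U V hU hUc hV hVc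
  obtain ⟨U', hU'o, hU'c, rfl⟩ := key U hU hUc
  obtain ⟨V', hV'o, hV'c, rfl⟩ := key V hV hVc
  rw [← Set.preimage_inter]
  exact hf.isCompact_preimage (hU'c.inter_of_isOpen hV'c hU'o hV'o)

/-- A closed subspace of a spectral space is spectral. -/
theorem spectralSpace_of_isClosedEmbedding {X Y : Type*} [TopologicalSpace X]
    [TopologicalSpace Y] [SpectralSpace Y] (f : X → Y)
    (hf : IsClosedEmbedding f) : SpectralSpace X where
  __ := hf.quasiSober
  __ := PrespectralSpace.of_isClosedEmbedding f hf
  __ := quasiSeparatedSpace_of_isClosedEmbedding f hf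
  __ := hf.isEmbedding.t0Space
  __ := hf.compactSpace

/-- A closed subset of a w-local spectral space is w-local (with the subspace topology). -/
theorem result (X : Type u) [TopologicalSpace X] (hX : ProEtW.IsWLocal X)
    (Y : Set X) (hY : IsClosed Y) : ProEtW.IsWLocal ↥Y := by
  obtain ⟨hsp, hcl, huniq⟩ := hX
  have hemb : IsClosedEmbedding (Subtype.val : Y → X) := hY.isClosedEmbedding_subtypeVal
  -- closedness of points in Y vs X
  have hpt : ∀ y : Y, IsClosed ({y} : Set Y) ↔ IsClosed ({(y : X)} : Set X) := by
    intro y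
    constructor
    · intro h
      have := hemb.isClosedMap _ h
      simpa using this
    · intro h
      have := h.preimage (continuous_subtype_val (p := fun x => x ∈ Y))
      convert this using 1
      ext z
      simp [Subtype.ext_iff]
  refine ⟨spectralSpace_of_isClosedEmbedding _ hemb, ?_, ?_⟩
  · have : {y : Y | IsClosed ({y} : Set Y)} = Subtype.val ⁻¹' {x : X | IsClosed ({x} : Set X)} := by
      ext y
      simp only [Set.mem_ofPred_eq, Set.mem_preimage]
      exact hpt y
    rw [this]
    exact hcl.preimage continuous_subtype_val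
  · intro y
    obtain ⟨x, ⟨hxc, hyx⟩, hxu⟩ := huniq (y : X)
    have hxY : x ∈ Y := by
      have : x ∈ closure ({(y : X)} : Set X) := hyx.mem_closure
      exact (closure_minimal (Set.singleton_subset_iff.mpr y.2) hY) this
    refine ⟨⟨x, hxY⟩, ⟨(hpt ⟨x, hxY⟩).mpr hxc, ?_⟩, ?_⟩
    · exact (subtype_specializes_iff _ _).mpr hyx
    · rintro ⟨z, hzY⟩ ⟨hzc, hyz⟩
      have := hxu z ⟨(hpt ⟨z, hzY⟩).mp hzc, (subtype_specializes_iff _ _).mp hyz⟩
      exact Subtype.ext this

end Groth.Agent.S0738
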