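import Groth.Statements.S0778
import Groth.Agent.S0677
import Groth.Agent.S0678
import Groth.Agent.S0675
import Groth.Agent.S0736
import Groth.Agent.Lib.Helper4.WLocalSquare
import Groth.Agent.Lib.Helper4.IndEtaleComp

set_option autoImplicit false
open CategoryTheory CategoryTheory.Limits AlgebraicGeometry Opposite Topology
universe u
open ProEtW

namespace Groth.Agent.S0778

/-- A ring A is w-contractible (retractions for faithfully flat weakly etale algebras) if and only if
every faithfully flat ind-etale A-algebra has an A-algebra retraction. -/
theorem result (A : Type u) [CommRing A] :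
    EtPBC.IsWContractible A ↔ ProEtW.HasIndEtaleRetractions A := by
  constructor
  · intro h B _ _ hff hB
    exact h B hff (Groth.Agent.S0736.result A B hB)
  · intro h
    have hiz : ProEtW.HasIndZariskiRetractions A := by
      intro B _ _ hff hB
      exact h B hff (Groth.Agent.Lib.Helper4.AlgRes.isIndEtale_of_isIndZariski hB)
    have het : ProEtW.HasEtaleRetractions A := by
      intro B _ _ hff hB
      exact h B hff (Groth.Agent.Lib.Helper4.isIndEtale_of_etale A B)
    obtain ⟨h1, h2⟩ := (Groth.Agent.S0678.result A).1 hiz
    exact (Groth.Agent.S0677.result A).2 ⟨h1, h2, fun m _ => Groth.Agent.S0675.result A het m⟩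

end Groth.Agent.S0778
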