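import Groth.Statements.S0781
import Mathlib
-- import your own Groth.Agent.* helpers here

set_option autoImplicit false
open CategoryTheory CategoryTheory.Limits AlgebraicGeometry Opposite
universe u
open Desc

namespace Groth.Agent.S0781

set_option backward.isDefEq.respectTransparency false in
theorem isOpenImmersion_equalizer_ι_left {S : Scheme.{u}} {X Y : Over S}
    [IsOpenImmersion (pullback.diagonal Y.hom)]
    (f g : X ⟶ Y) : IsOpenImmersion (equalizer.ι f g).left := by
  refine MorphismProperty.of_isPullback
    ((Limits.isPullback_equalizer_prod f g).map (Over.forget _)).flip ?_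
  rw [← MorphismProperty.cancel_right_of_respectsIso @IsOpenImmersion _
    (Over.prodLeftIsoPullback Y Y).hom]
  convert! (inferInstance : IsOpenImmersion (pullback.diagonal Y.hom))
  ext1 <;> simp [← Over.comp_left]

/-- two morphisms over `S` into an `S`-scheme with open diagonal that agree after precomposition
with a surjective morphism are equal -/
theorem eq_of_surjective_comp {S : Scheme.{u}} {X Y W : Over S}
    [IsOpenImmersion (pullback.diagonal Y.hom)] (π : W ⟶ X) (hπ : Function.Surjective π.left.base)
    (f g : X ⟶ Y) (h : π ≫ f = π ≫ g) : f = g := by
  have := isOpenImmersion_equalizer_ι_left f g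
  have hsurj : Function.Surjective (equalizer.ι f g).left.base := by
    intro x
    obtain ⟨w, rfl⟩ := hπ x
    refine ⟨(equalizer.lift π h).left.base w, ?_⟩
    rw [← Scheme.Hom.comp_apply, ← Over.comp_left, equalizer.lift_ι]
  have : Surjective (equalizer.ι f g).left := ⟨hsurj⟩
  have hiso : IsIso (equalizer.ι f g).left := by
    apply (isIso_iff_isOpenImmersion_and_epi_base _).2
    refine ⟨inferInstance, ?_⟩
    rw [TopCat.epi_iff_surjective]
    exact hsurj
  have : Epi (equalizer.ι f g).left := inferInstance
  apply (Over.forget S).map_injective
  show f.left = g.left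
  rw [← cancel_epi (equalizer.ι f g).left]
  exact congr($(equalizer.condition f g).left)

/-- If p : X → S is a surjective morphism of schemes, then for schemes U₁, U₂ étale over S, two
S-morphisms U₁ → U₂ whose base changes to X agree, as morphisms of canonical descent data relative
to p, are equal; that is, the canonical-descent-datum functor is faithful on schemes étale over S.
(Descent data are taken in functor-of-points form, equivalent by the Yoneda lemma to an isomorphism
over X ×_S X satisfying the cocycle condition.) -/
theorem result {X S : Scheme.{u}} (p : X ⟶ S) [Surjective p] (U₁ U₂ : Over S)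
    [Etale U₁.hom] [Etale U₂.hom] : Function.Injective ((Desc.toDD p).map : (U₁ ⟶ U₂) → _) := by
  intro a b hab
  -- the base-changed maps agree
  have h1 : ((Desc.toDD p).map a).hom.left = ((Desc.toDD p).map b).hom.left := by rw [hab]
  have h2 : pullback.map p U₁.hom p U₂.hom (𝟙 X) a.left (𝟙 S) (by simp) (by simp) =
      pullback.map p U₁.hom p U₂.hom (𝟙 X) b.left (𝟙 S) (by simp) (by simp) := h1
  have h3 : pullback.snd p U₁.hom ≫ a.left = pullback.snd p U₁.hom ≫ b.left := by
    have := congrArg (· ≫ pullback.snd p U₂.hom) h2
    simp only [pullback.map] at this
    rw [pullback.lift_snd, pullback.lift_snd] at this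
    exact this
  have : IsOpenImmersion (pullback.diagonal U₂.hom) := inferInstance
  let W : Over S := Over.mk (pullback.snd p U₁.hom ≫ U₁.hom)
  let π : W ⟶ U₁ := Over.homMk (pullback.snd p U₁.hom) rfl
  have hπ : Function.Surjective π.left.base := by
    have : Surjective (pullback.snd p U₁.hom) := inferInstance
    exact this.surj
  apply eq_of_surjective_comp π hπ a b
  apply Over.OverMorphism.ext
  exact h3

end Groth.Agent.S0781
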