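import Groth.Statements.S0782
import Groth.Agent.Lib.Helper89.EtaleDescent4

set_option autoImplicit false
open CategoryTheory CategoryTheory.Limits AlgebraicGeometry Opposite
universe u
open Desc

namespace Groth.Agent.S0782

/-- Let p : X ⟶ S be a morphism such that for every scheme U étale over S the projection X ×_S U ⟶ U is
a quotient map of topological spaces (submersive; U = S is allowed). Then for U₁, U₂ étale over S,
every morphism between their canonical descent data relative to p comes from an S-morphism U₁ ⟶ U₂: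
the canonical-descent-datum functor is full on schemes étale over S (injectivity of this assignment
is a companion statement). (Descent data are taken in functor-of-points form, equivalent by the
Yoneda lemma to the usual form of an isomorphism over X ×_S X satisfying the cocycle condition.) -/
theorem result {X S : Scheme.{u}} (p : X ⟶ S)
    (hp : ∀ U : Over S, Etale U.hom → Topology.IsQuotientMap (pullback.snd p U.hom).base) (U₁ U₂ : Over S)
    [Etale U₁.hom] [Etale U₂.hom] : Function.Surjective ((Desc.toDD p).map : (U₁ ⟶ U₂) → _) := by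
  intro Ψ
  -- `p` is submersive after étale base change
  have hEt : Groth.Agent.Lib.Helper89.EtaleDescent.EtSubm p := by
    intro T T' t t' g' sq ht
    have h1 : g' = (sq.isoPullback.hom ≫ (pullbackSymmetry t p).hom) ≫ pullback.snd p t := by
      rw [Category.assoc, pullbackSymmetry_hom_comp_snd, sq.isoPullback_hom_fst]
    rw [h1]
    have h2 := hp (Over.mk t) ht
    exact h2.comp (sq.isoPullback.hom ≫ (pullbackSymmetry t p).hom).homeomorph.isQuotientMap
  obtain ⟨ψ₀, hψ₀⟩ : ∃ ψ₀ : pullback p U₁.hom ⟶ pullback p U₂.hom, ψ₀ = Ψ.hom.left := ⟨_, rfl⟩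
  have hψ₀_fst : ψ₀ ≫ pullback.fst p U₂.hom = pullback.fst p U₁.hom := by
    rw [hψ₀]; exact Over.w Ψ.hom
  obtain ⟨ψ, hψdef⟩ : ∃ ψ : pullback U₁.hom p ⟶ pullback U₂.hom p,
      ψ = (pullbackSymmetry U₁.hom p).hom ≫ ψ₀ ≫ (pullbackSymmetry p U₂.hom).hom := ⟨_, rfl⟩
  have hψ_snd : ψ ≫ pullback.snd U₂.hom p = pullback.snd U₁.hom p := by
    rw [hψdef, Category.assoc, Category.assoc, pullbackSymmetry_hom_comp_snd, hψ₀_fst,
      pullbackSymmetry_hom_comp_fst]
  have hψ_fst : ψ ≫ pullback.fst U₂.hom p =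
      (pullbackSymmetry U₁.hom p).hom ≫ ψ₀ ≫ pullback.snd p U₂.hom := by
    rw [hψdef, Category.assoc, Category.assoc, pullbackSymmetry_hom_comp_fst]
  have hcoc : pullback.fst (pullback.fst U₁.hom p) (pullback.fst U₁.hom p) ≫ ψ ≫
        pullback.fst U₂.hom p =
      pullback.snd (pullback.fst U₁.hom p) (pullback.fst U₁.hom p) ≫ ψ ≫
        pullback.fst U₂.hom p := by
    obtain ⟨a, ha⟩ : ∃ a : pullback (pullback.fst U₁.hom p) (pullback.fst U₁.hom p) ⟶ _,
      a = pullback.fst (pullback.fst U₁.hom p) (pullback.fst U₁.hom p) := ⟨_, rfl⟩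
    obtain ⟨b, hb⟩ : ∃ b : pullback (pullback.fst U₁.hom p) (pullback.fst U₁.hom p) ⟶ _,
      b = pullback.snd (pullback.fst U₁.hom p) (pullback.fst U₁.hom p) := ⟨_, rfl⟩
    have hab : a ≫ pullback.fst U₁.hom p = b ≫ pullback.fst U₁.hom p := by
      rw [ha, hb]; exact pullback.condition
    rw [← ha, ← hb, hψ_fst]
    have hx : (a ≫ pullback.snd U₁.hom p) ≫ p = (b ≫ pullback.snd U₁.hom p) ≫ p := by
      rw [Category.assoc, Category.assoc, ← pullback.condition,
        ← Category.assoc, ← Category.assoc, hab]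
    let v : Desc.Lifts (Over.mk (pullback.fst p U₁.hom)) (a ≫ pullback.snd U₁.hom p) :=
      ⟨a ≫ (pullbackSymmetry U₁.hom p).hom, by
        change (a ≫ (pullbackSymmetry U₁.hom p).hom) ≫ pullback.fst p U₁.hom = _
        rw [Category.assoc, pullbackSymmetry_hom_comp_fst]⟩
    let w : Desc.Lifts (Over.mk (pullback.fst p U₂.hom)) (a ≫ pullback.snd U₁.hom p) :=
      ⟨(a ≫ (pullbackSymmetry U₁.hom p).hom) ≫ ψ₀, by
        change ((a ≫ (pullbackSymmetry U₁.hom p).hom) ≫ ψ₀) ≫ pullback.fst p U₂.hom = _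
        rw [Category.assoc, hψ₀_fst, Category.assoc, pullbackSymmetry_hom_comp_fst]⟩
    have hcomm : (Desc.canMap p U₂ (a ≫ pullback.snd U₁.hom p) (b ≫ pullback.snd U₁.hom p) hx w).1 =
        (Desc.canMap p U₁ (a ≫ pullback.snd U₁.hom p) (b ≫ pullback.snd U₁.hom p) hx v).1 ≫ ψ₀ := by
      have := Ψ.comm (a ≫ pullback.snd U₁.hom p) (b ≫ pullback.snd U₁.hom p) hx v w
        (congrArg (fun k => (a ≫ (pullbackSymmetry U₁.hom p).hom) ≫ k) hψ₀)
      rw [hψ₀]
      exact this
    have h3 : (Desc.canMap p U₂ (a ≫ pullback.snd U₁.hom p) (b ≫ pullback.snd U₁.hom p) hx w).1 ≫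
          pullback.snd p U₂.hom =
        ((Desc.canMap p U₁ (a ≫ pullback.snd U₁.hom p) (b ≫ pullback.snd U₁.hom p) hx v).1 ≫ ψ₀) ≫
          pullback.snd p U₂.hom := by rw [hcomm]
    rw [Desc.canMap_val, Desc.canMap_val, pullback.lift_snd] at h3
    have h6 : ∀ h, pullback.lift (b ≫ pullback.snd U₁.hom p) (v.1 ≫ pullback.snd p U₁.hom) h =
        b ≫ (pullbackSymmetry U₁.hom p).hom := by
      intro h
      apply pullback.hom_ext
      · rw [pullback.lift_fst, Category.assoc, pullbackSymmetry_hom_comp_fst]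
      · rw [pullback.lift_snd]
        change (a ≫ (pullbackSymmetry U₁.hom p).hom) ≫ pullback.snd p U₁.hom =
          (b ≫ (pullbackSymmetry U₁.hom p).hom) ≫ pullback.snd p U₁.hom
        rw [Category.assoc, Category.assoc, pullbackSymmetry_hom_comp_snd, hab]
    rw [h6] at h3
    have h3' : ((a ≫ (pullbackSymmetry U₁.hom p).hom) ≫ ψ₀) ≫ pullback.snd p U₂.hom =
        ((b ≫ (pullbackSymmetry U₁.hom p).hom) ≫ ψ₀) ≫ pullback.snd p U₂.hom := h3
    simpa only [Category.assoc] using h3'
  obtain ⟨φ, hφ1, hφ2⟩ := Groth.Agent.Lib.Helper89.EtaleDescent.exists_hom_descent_etSubm p hEt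
    U₂.hom U₁.hom ψ hψ_snd hcoc
  refine ⟨Over.homMk φ hφ1, ?_⟩
  refine Desc.SchDD.hom_ext (Over.OverMorphism.ext ?_)
  change pullback.map p U₁.hom p U₂.hom (𝟙 X) φ (𝟙 S) (by simp) (by simp [hφ1]) = Ψ.hom.left
  rw [← hψ₀]
  apply pullback.hom_ext
  · rw [pullback.lift_fst, Category.comp_id, hψ₀_fst]
  · rw [pullback.lift_snd]
    have h7 : pullback.snd p U₁.hom =
        (pullbackSymmetry p U₁.hom).hom ≫ pullback.fst U₁.hom p := by
      rw [pullbackSymmetry_hom_comp_fst]
    rw [h7, Category.assoc, hφ2, hψ_fst, ← Category.assoc, ← Category.assoc]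
    have h8 : (pullbackSymmetry p U₁.hom).hom ≫ (pullbackSymmetry U₁.hom p).hom = 𝟙 _ := by
      apply pullback.hom_ext <;> simp
    rw [h8, Category.id_comp]

end Groth.Agent.S0782
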