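import Groth.Statements.S0785
import Groth.Agent.Lib.Helper49.Serre5
-- import your own Groth.Agent.* helpers here

set_option autoImplicit false
universe u
open Desc

namespace Groth.Agent.S0785

/-- Let A → B be a local homomorphism of Noetherian local rings which is etale in the sense that B is
the localization at a prime of an etale A-algebra. Then A and B have the same depth. -/
theorem result (A B : Type u) [CommRing A] [CommRing B] [IsLocalRing A] [IsLocalRing B]
    [IsNoetherianRing A] [IsNoetherianRing B] [Algebra A B] [IsLocalHom (algebraMap A B)]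
    (E : Type u) [CommRing E] [Algebra A E] [Algebra.Etale A E] (P : Ideal E) [P.IsPrime]
    [Algebra E B] [IsScalarTower A E B] [IsLocalization.AtPrime B P] :
    LocCoh.depth A A = LocCoh.depth B B := by
  classical
  have hflatE : Module.Flat A E := inferInstance
  have hflatB : Module.Flat E B := IsLocalization.flat B P.primeCompl
  have hflat : Module.Flat A B := Module.Flat.trans A E B
  have hqf : Algebra.QuasiFinite A E := inferInstance
  symm
  apply Groth.Agent.Lib.Helper49.Serre.depth_eq_of_flat_of_fibre_dim_zero
  intro Q hQ hle
  -- q = Q ∩ E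
  have hPmax : (IsLocalRing.maximalIdeal B).comap (algebraMap E B) = P :=
    IsLocalization.AtPrime.comap_maximalIdeal B P
  set q : Ideal E := Q.comap (algebraMap E B) with hq
  have hqprime : q.IsPrime := Ideal.IsPrime.comap _
  have hqP : q ≤ P := by
    rw [← hPmax]
    exact Ideal.comap_mono (IsLocalRing.le_maximalIdeal hQ.ne_top)
  have hmA : ∀ (I : Ideal E), I.IsPrime → (IsLocalRing.maximalIdeal A) ≤ I.under A →
      I.under A = IsLocalRing.maximalIdeal A := by
    intro I hI hle'
    have : (I.under A).IsPrime := Ideal.IsPrime.under A I
    exact ((IsLocalRing.maximalIdeal.isMaximal A).eq_of_le this.ne_top hle').symm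
  have hq1 : q.under A = IsLocalRing.maximalIdeal A := by
    apply hmA q hqprime
    intro a ha
    rw [Ideal.under_def, Ideal.mem_comap, hq, Ideal.mem_comap, ← IsScalarTower.algebraMap_apply]
    exact hle (Ideal.mem_map_of_mem _ ha)
  have hP1 : P.under A = IsLocalRing.maximalIdeal A := by
    apply hmA P inferInstance
    intro a ha
    rw [Ideal.under_def, Ideal.mem_comap, ← hPmax, Ideal.mem_comap, ← IsScalarTower.algebraMap_apply]
    have h2 := ((IsLocalRing.local_hom_TFAE (algebraMap A B)).out 0 2 :
      IsLocalHom (algebraMap A B) ↔ _).mp inferInstance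
    exact h2 (Ideal.mem_map_of_mem _ ha)
  have hqeq : q = P := Algebra.QuasiFinite.eq_of_le_of_under_eq (R := A) q P hqP (hq1.trans hP1.symm)
  have h3 : Q = q.map (algebraMap E B) := (IsLocalization.map_comap P.primeCompl B Q).symm
  rw [h3, hqeq]
  exact IsLocalization.AtPrime.map_eq_maximalIdeal P B

end Groth.Agent.S0785
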