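import Groth.Statements.S0786
import Groth.Agent.Lib.Helper20.AnnIdeal
import Groth.Agent.Lib.QCoh.Helper50_FinitePush
-- import your own Groth.Agent.* helpers here

set_option autoImplicit false
universe u
open Coherent

namespace Groth.Agent.S0786

open CategoryTheory AlgebraicGeometry in
/-- Let i : Z → X be a closed immersion with X locally Noetherian, and let F be a coherent O_X-module
annihilated by the kernel ideal sheaf of i. Then F is isomorphic to i_* G for some coherent
O_Z-module G. (Together with full faithfulness of i_* on quasi-coherent modules this is the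
equivalence of the source.) -/
theorem result {Z X : Scheme.{u}} (i : Z ⟶ X)
    [IsClosedImmersion i] [IsLocallyNoetherian X] (F : X.Modules) (hF : Coh.IsCoh F)
    (hk : ClSub.KilledByIdeal i.ker F) :
    ∃ G : Z.Modules, Coh.IsCoh G ∧ Nonempty ((Scheme.Modules.pushforward i).obj G ≅ F) := by
  have hq : F.IsQuasicoherent := hF.1
  have hft : F.IsFiniteType := hF.2
  have hiso : IsIso (Groth.Agent.Lib.Helper20.ThickAffine.η i F) :=
    Groth.Agent.Lib.Helper20.AnnIdeal.isIso_unit_of_killed i F (fun U a ha m =>
      hk U a (by rw [Scheme.Hom.ker_apply]; exact ha) m)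
  have hGq : ((Scheme.Modules.pullback i).obj F).IsQuasicoherent :=
    Groth.Agent.Lib.QCoh.isQuasicoherent_pullback i F
  have hpft : ((Scheme.Modules.pushforward i).obj ((Scheme.Modules.pullback i).obj F)).IsFiniteType :=
    Groth.Agent.Lib.QCoh.isFiniteType_of_iso (asIso (Groth.Agent.Lib.Helper20.ThickAffine.η i F))
  have hGft : ((Scheme.Modules.pullback i).obj F).IsFiniteType :=
    Groth.Agent.Lib.QCoh.isFiniteType_of_pushforward_isAffineHom i _
  exact ⟨(Scheme.Modules.pullback i).obj F, ⟨hGq, hGft⟩,
    ⟨(asIso (Groth.Agent.Lib.Helper20.ThickAffine.η i F)).symm⟩⟩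

end Groth.Agent.S0786
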