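import Groth.Statements.S0792
import Groth.Agent.Lib.Helper20.SuppProper
-- import your own Groth.Agent.* helpers here

set_option autoImplicit false
universe u
open Coherent

namespace Groth.Agent.S0792

open CategoryTheory AlgebraicGeometry in
/-- Let f : X → S be locally of finite type and F a quasi-coherent O_X-module of finite type. The
support of F is proper over S if and only if there are a closed subscheme i : Z → X with Z proper
over S and a quasi-coherent O_Z-module G of finite type with i_* G isomorphic to F. (The published
statement also gives a further equivalent condition, that the scheme-theoretic support of F is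
proper over S; it is not used here.) -/
theorem result {X S : Scheme.{u}} (f : X ⟶ S) [LocallyOfFiniteType f]
    (F : X.Modules) (hq : Coh.IsQCoh F) (hft : CohB1.IsFT F) :
    ClSub.IsProperOver f (CohB1.support F) ↔
      ∃ (Z : Scheme.{u}) (i : Z ⟶ X), IsClosedImmersion i ∧ IsProper (i ≫ f) ∧
        ∃ G : Z.Modules, Coh.IsQCoh G ∧ CohB1.IsFT G ∧
          Nonempty ((Scheme.Modules.pushforward i).obj G ≅ F) := by
  have h1 : F.IsQuasicoherent := hq
  have h2 : F.IsFiniteType := hft
  have hcl := Groth.Agent.Lib.Helper20.SuppProper.isClosed_support F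
  constructor
  · rintro ⟨hcl', hprop⟩
    let K := Scheme.IdealSheafData.vanishingIdeal ⟨CohB1.support F, hcl'⟩
    let J := Groth.Agent.Lib.Helper20.AnnIdeal.annIdeal F
    have H : J.subschemeι.ker ≤ K.subschemeι.ker := by
      rw [Scheme.IdealSheafData.ker_subschemeι, Scheme.IdealSheafData.ker_subschemeι]
      exact Groth.Agent.Lib.Helper20.SuppProper.annIdeal_le_vanishingIdeal F
    let j := IsClosedImmersion.lift J.subschemeι K.subschemeι H
    have hj : j ≫ J.subschemeι = K.subschemeι := IsClosedImmersion.lift_fac _ _ H
    have hjc : IsClosedImmersion j := by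
      have : IsClosedImmersion (j ≫ J.subschemeι) := by rw [hj]; infer_instance
      exact IsClosedImmersion.of_comp_isClosedImmersion j J.subschemeι
    have hjs : Surjective j := by
      refine ⟨Groth.Agent.Lib.Helper20.SuppProper.lift_surjective _ _ H ?_⟩
      rw [Scheme.IdealSheafData.range_subschemeι, Scheme.IdealSheafData.range_subschemeι]
      intro x hx
      have hx' : x ∈ CohB1.support F := by
        rw [← Groth.Agent.Lib.Helper20.AnnIdeal.annIdeal_support F]; exact hx
      show x ∈ (K.support : Set X)
      rw [Scheme.IdealSheafData.coe_support_vanishingIdeal]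
      exact hx'
    have hp : IsProper (j ≫ (J.subschemeι ≫ f)) := by
      rw [← Category.assoc, hj]; exact hprop
    have hproper : IsProper (J.subschemeι ≫ f) :=
      Groth.Agent.Lib.Helper20.SuppProper.isProper_of_comp_thickening j _
    have hiso := Groth.Agent.Lib.Helper20.AnnIdeal.isIso_unit_annIdeal F
    have hiso' : IsIso (Groth.Agent.Lib.Helper20.ThickAffine.η J.subschemeι F) := hiso
    refine ⟨J.subscheme, J.subschemeι, inferInstance, hproper,
      (Scheme.Modules.pullback J.subschemeι).obj F,
      Groth.Agent.Lib.QCoh.isQuasicoherent_pullback _ F,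
      Groth.Agent.Lib.Helper20.SuppProper.isFiniteType_pullback_of_isIso_unit J.subschemeι F,
      ⟨(asIso (Groth.Agent.Lib.Helper20.ThickAffine.η J.subschemeι F)).symm⟩⟩
  · rintro ⟨Z, i, hi, hprop, G, hGq, hGft, ⟨e⟩⟩
    refine ⟨hcl, ?_⟩
    let K := Scheme.IdealSheafData.vanishingIdeal ⟨CohB1.support F, hcl⟩
    have H : i.ker ≤ K.subschemeι.ker := by
      rw [Scheme.IdealSheafData.ker_subschemeι]
      exact (Groth.Agent.Lib.Helper20.SuppProper.ker_le_annIdeal_of_iso i F G e).trans
        (Groth.Agent.Lib.Helper20.SuppProper.annIdeal_le_vanishingIdeal F)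
    let j := IsClosedImmersion.lift i K.subschemeι H
    have hj : j ≫ i = K.subschemeι := IsClosedImmersion.lift_fac _ _ H
    have hjc : IsClosedImmersion j := by
      have : IsClosedImmersion (j ≫ i) := by rw [hj]; infer_instance
      exact IsClosedImmersion.of_comp_isClosedImmersion j i
    have : IsProper (j ≫ (i ≫ f)) := inferInstance
    rw [← Category.assoc, hj] at this
    exact this

end Groth.Agent.S0792
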