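import Groth.Statements.S0797
import Groth.Agent.Lib.Helper83.AdicConv
import Groth.Agent.Lib.Helper83.InvSystem
import Mathlib

set_option autoImplicit false
universe u
open Formal2

namespace Groth.Agent.S0797

/-- The module-theoretic heart, over a base that is already complete (so that the completion of A is A).
Let A be Noetherian and I-adically complete, and let (M_n, f_n : M_{n+1} → M_n) be an inverse system
of finite A-modules with M_n annihilated by I^(n+1) and f_n surjective with kernel I^(n+1) M_{n+1}
(indices shifted by one). Then the A-module of compatible sequences is finitely generated, each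
projection to M_n is surjective, and its kernel is I^(n+1) times the module of compatible sequences. -/
theorem result (A : Type u) [CommRing A] [IsNoetherianRing A] (I : Ideal A)
    [IsAdicComplete I A] (M : ℕ → Type u) [∀ n, AddCommGroup (M n)] [∀ n, Module A (M n)]
    [∀ n, Module.Finite A (M n)] (f : ∀ n, M (n + 1) →ₗ[A] M n) (hf : ∀ n, Function.Surjective (f n))
    (hk : ∀ n, I ^ (n + 1) • (⊤ : Submodule A (M n)) = ⊥)
    (hker : ∀ n, LinearMap.ker (f n) = I ^ (n + 1) • (⊤ : Submodule A (M (n + 1))))
    (L : Submodule A (∀ n, M n)) (hL : ∀ x : ∀ n, M n, x ∈ L ↔ ∀ n, f n (x (n + 1)) = x n) :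
    Module.Finite A L ∧ ∀ n, Function.Surjective ((LinearMap.proj n).comp L.subtype : L →ₗ[A] M n) ∧
      LinearMap.ker ((LinearMap.proj n).comp L.subtype : L →ₗ[A] M n) = I ^ (n + 1) • (⊤ : Submodule A L) := by
  classical
  set p : ∀ n, L →ₗ[A] M n := fun n => (LinearMap.proj n).comp L.subtype with hp
  have hcompat : ∀ (y : L) n, f n (p (n + 1) y) = p n y := fun y n => (hL y.1).1 y.2 n
  -- (1) surjectivity
  have hsurj : ∀ n, Function.Surjective (p n) := by
    intro n m
    obtain ⟨x, hxn, hx⟩ := Groth.Agent.Lib.Helper83.exists_compatible_through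
      (fun k => f k) hf n m
    exact ⟨⟨x, (hL x).2 hx⟩, hxn⟩
  -- generators of M 0, lifted to L
  obtain ⟨r, e, he⟩ := Module.Finite.exists_fin (R := A) (M := M 0)
  choose x hx using fun i => hsurj 0 (e i)
  have hjac : I ≤ Ideal.jacobson ⊥ := IsAdicComplete.le_jacobson_bot I
  -- (2) the x i generate every level
  have hgen : ∀ n, Submodule.span A (Set.range fun i => p n (x i)) = ⊤ := by
    intro n
    induction n with
    | zero =>
      have : (fun i => p 0 (x i)) = e := funext hx
      rw [this]; exact he
    | succ n ih =>
      rw [eq_top_iff]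
      apply Submodule.le_of_le_smul_of_le_jacobson_bot Module.Finite.fg_top hjac
      intro y _
      have h1 : f n y ∈ Submodule.span A (Set.range fun i => p n (x i)) := by
        rw [ih]; trivial
      obtain ⟨a, ha⟩ := (Submodule.mem_span_range_iff_exists_fun A).1 h1
      have h2 : y - ∑ i, a i • p (n + 1) (x i) ∈ LinearMap.ker (f n) := by
        rw [LinearMap.mem_ker, map_sub, map_sum, sub_eq_zero, ← ha]
        refine Finset.sum_congr rfl fun i _ => ?_
        rw [map_smul, hcompat]
      rw [hker n] at h2
      have h3 : y = ∑ i, a i • p (n + 1) (x i) + (y - ∑ i, a i • p (n + 1) (x i)) := by abel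
      rw [h3]
      refine Submodule.add_mem_sup ?_ ?_
      · exact Submodule.sum_mem _ fun i _ =>
          Submodule.smul_mem _ _ (Submodule.subset_span ⟨i, rfl⟩)
      · exact Submodule.smul_mono_left (Ideal.pow_le_self (by omega)) h2
  -- the filtration of L by the kernels of the projections
  have hkill : ∀ n (a : A) (m : M n), a ∈ I ^ (n + 1) → a • m = 0 := by
    intro n a m ha
    have : a • m ∈ I ^ (n + 1) • (⊤ : Submodule A (M n)) :=
      Submodule.smul_mem_smul ha Submodule.mem_top
    rw [hk n] at this
    exact this
  let F : I.Filtration L :=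
    { N := fun k => Nat.casesOn k ⊤ (fun j => LinearMap.ker (p j))
      mono := by
        intro k
        cases k with
        | zero => exact le_top
        | succ j =>
          intro y hy
          have hy' : p (j + 1) y = 0 := hy
          show p j y = 0
          rw [← hcompat, hy', map_zero]
      smul_le := by
        intro k
        rw [Submodule.smul_le]
        intro a ha y hy
        cases k with
        | zero =>
          show p 0 (a • y) = 0
          rw [map_smul]
          exact hkill 0 a _ (by simpa using ha)
        | succ j =>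
          have hy' : p j y = 0 := hy
          show p (j + 1) (a • y) = 0
          rw [map_smul]
          have h1 : p (j + 1) y ∈ LinearMap.ker (f j) := by
            rw [LinearMap.mem_ker, hcompat, hy']
          rw [hker j] at h1
          have h2 : a • p (j + 1) y ∈ I ^ (j + 1 + 1) • (⊤ : Submodule A (M (j + 1))) := by
            rw [pow_succ', mul_smul]
            exact Submodule.smul_mem_smul ha h1
          rw [hk (j + 1)] at h2
          exact h2 }
  have hFsucc : ∀ j (y : L), y ∈ F.N (j + 1) ↔ p j y = 0 := fun j y => Iff.rfl
  have hsep : ⨅ k, F.N k = ⊥ := by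
    rw [eq_bot_iff]
    intro y hy
    rw [Submodule.mem_iInf] at hy
    rw [Submodule.mem_bot]
    apply Subtype.ext
    funext k
    exact (hFsucc k y).1 (hy (k + 1))
  have key := Groth.Agent.Lib.Helper83.exists_eq_sum_of_step (I := I) F hsep
    (ι := Fin r) (fun _ => 0) x (fun i => (Submodule.mem_top : x i ∈ (⊤ : Submodule A L)))
    (fun _ => True)
    (by
      intro k y _ hy
      -- approximate at level k
      have hlev : ∃ a : Fin r → A, (∀ i, a i ∈ I ^ k) ∧ p k y = ∑ i, a i • p k (x i) := by
        cases k with
        | zero =>
          have h1 : p 0 y ∈ Submodule.span A (Set.range fun i => p 0 (x i)) := by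
            rw [hgen 0]; trivial
          obtain ⟨a, ha⟩ := (Submodule.mem_span_range_iff_exists_fun A).1 h1
          exact ⟨a, fun i => by simp, ha.symm⟩
        | succ j =>
          have hy' : p j y = 0 := (hFsucc j y).1 hy
          have h1 : p (j + 1) y ∈ LinearMap.ker (f j) := by
            rw [LinearMap.mem_ker, hcompat, hy']
          rw [hker j, ← hgen (j + 1)] at h1
          obtain ⟨a, ha, hsum⟩ :=
            (Submodule.mem_ideal_smul_span_iff_exists_sum _ _ _).1 h1
          refine ⟨fun i => a i, ha, ?_⟩
          rw [← hsum, Finsupp.sum_fintype _ _ (fun i => by simp)]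
      obtain ⟨a, ha, hsum⟩ := hlev
      refine ⟨a, fun i => by simpa using ha i, trivial, ?_⟩
      rw [hFsucc, map_sub, map_sum, hsum, sub_eq_zero]
      refine Finset.sum_congr rfl fun i _ => ?_
      rw [map_smul])
  refine ⟨?_, fun n => ⟨hsurj n, ?_⟩⟩
  · -- finiteness
    refine ⟨⟨Finset.univ.image x, ?_⟩⟩
    rw [eq_top_iff]
    intro y _
    obtain ⟨a, -, hy⟩ := key 0 y trivial Submodule.mem_top
    rw [hy]
    refine Submodule.sum_mem _ fun i _ => Submodule.smul_mem _ _ (Submodule.subset_span ?_)
    simp
  · -- kernel
    apply le_antisymm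
    · intro y hy
      have hy' : y ∈ F.N (n + 1) := (hFsucc n y).2 hy
      obtain ⟨a, ha, hsum⟩ := key (n + 1) y trivial hy'
      rw [hsum]
      exact Submodule.sum_mem _ fun i _ =>
        Submodule.smul_mem_smul (by simpa using ha i) Submodule.mem_top
    · rw [Submodule.smul_le]
      intro a ha y _
      rw [LinearMap.mem_ker, map_smul]
      exact hkill n a _ ha

end Groth.Agent.S0797
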