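import Groth.Statements.S0800
import Groth.Agent.S0855
import Groth.Agent.Lib.Cohomology.helper5_ColimCompactQS

set_option autoImplicit false
universe u
open Coherent

namespace Groth.Agent.S0800

open CategoryTheory CategoryTheory.Limits AlgebraicGeometry in
/-- Let f : X → S be quasi-compact and quasi-separated. Then for every p the higher direct image functor
R^p f_* on abelian sheaves (on the underlying spaces) preserves filtered colimits. -/
theorem result {X S : Scheme.{u}} (f : X ⟶ S) [QuasiCompact f]
    [QuasiSeparated f] (p : ℕ) (J : Type u) [SmallCategory J] [IsFiltered J] :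
    PreservesColimitsOfShape J (Coh.RpushAb f p) := by
  constructor
  intro K
  refine Groth.Agent.S0855.result f.base K p ?_
  refine TopologicalSpace.IsTopologicalBasis.of_isOpen_of_subset ?_ S.isBasis_affineOpens ?_
  · rintro _ ⟨V, _, rfl⟩
    exact V.isOpen
  · rintro _ ⟨V, hV, rfl⟩
    refine ⟨V, ?_, rfl⟩
    have hV' : IsAffineOpen V := hV
    have : PrespectralSpace ↑X.toTopCat := inferInstanceAs (PrespectralSpace X)
    exact Groth.Agent.Lib.Cohomology.ColimCompactQS.preservesColimit_H (X := X.toTopCat)
      (f ⁻¹ᵁ V)
      (QuasiCompact.isCompact_preimage (f := f) _ V.isOpen hV'.isCompact)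
      (f.isQuasiSeparated_preimage hV'.isQuasiSeparated) p K

end Groth.Agent.S0800
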