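import Groth.Statements.S0813
import Groth.Agent.Lib.Helper61.PicDescent
import Groth.Agent.Lib.QCoh.Helper74_PuncUFD2
import Groth.Agent.S2321

set_option autoImplicit false
universe u
open Formal2

namespace Groth.Agent.S0813

open CategoryTheory CategoryTheory.Limits AlgebraicGeometry TopologicalSpace in
/-- General form: `A` Noetherian local of depth at least two, `A → B` faithfully flat.  An invertible
module on the punctured spectrum of `A` whose pullback to its preimage in `Spec B` is trivial is trivial. -/
theorem picPullbackInjective_of_faithfullyFlat (A : Type u) [CommRing A] [IsNoetherianRing A]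
    [IsLocalRing A] (hdepth : (2 : ℕ∞) ≤ LocCoh.depth A A)
    (B : Type u) [CommRing B] [Algebra A B] [Module.FaithfullyFlat A B] :
    Formal2.PicPullbackInjective
      (Spec.map (CommRingCat.ofHom (algebraMap A B)) ∣_ FEt.puncturedSpec A) := by
  intro L hL ⟨φ⟩
  haveI : Flat (Spec.map (CommRingCat.ofHom (algebraMap A B))) := by
    rw [Flat.SpecMap_iff]
    show (algebraMap A B).Flat
    rw [RingHom.flat_algebraMap_iff]
    infer_instance
  haveI : Surjective (Spec.map (CommRingCat.ofHom (algebraMap A B))) :=
    ⟨PrimeSpectrum.comap_surjective_of_faithfullyFlat (A := A) (B := B)⟩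
  haveI : L.IsQuasicoherent := Groth.Agent.Lib.QCoh.isQuasicoherent_of_isInvertible hL
  have H := isPullback_morphismRestrict (Spec.map (CommRingCat.ofHom (algebraMap A B)))
    (FEt.puncturedSpec A)
  -- Γ(U, O_U) ≅ A is local
  have hbij := Groth.Agent.Lib.QCoh.PuncUFD74.bijective_res_punctured A hdepth
  let e₁ : A ≃+* Γ(Spec (CommRingCat.of A), ⊤) :=
    (Scheme.ΓSpecIso (CommRingCat.of A)).symm.commRingCatIsoToRingEquiv
  let e₂ : Γ(Spec (CommRingCat.of A), ⊤) ≃+* Γ(Spec (CommRingCat.of A), FEt.puncturedSpec A) :=
    RingEquiv.ofBijective ((Spec (CommRingCat.of A)).presheaf.map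
      (homOfLE (le_top : FEt.puncturedSpec A ≤ ⊤)).op).hom hbij
  let e₃ : Γ((FEt.puncturedSpec A : Scheme.{u}), ⊤) ≃+*
      Γ(Spec (CommRingCat.of A), FEt.puncturedSpec A) :=
    (Scheme.Opens.topIso (FEt.puncturedSpec A)).commRingCatIsoToRingEquiv
  haveI : IsLocalRing Γ((FEt.puncturedSpec A : Scheme.{u}), ⊤) :=
    ((e₁.trans e₂).trans e₃.symm).isLocalRing
  haveI : Finite (MaximalSpectrum Γ((FEt.puncturedSpec A : Scheme.{u}), ⊤)) := inferInstance
  haveI : CompactSpace (FEt.puncturedSpec A : Scheme.{u}) :=
    isCompact_iff_compactSpace.mp (TopologicalSpace.NoetherianSpace.isCompact _)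
  haveI : QuasiSeparatedSpace (FEt.puncturedSpec A : Scheme.{u}) := inferInstance
  exact Groth.Agent.Lib.Helper61.PicDescent.nonempty_iso_structureModule_of_pullback H L φ

open CategoryTheory AlgebraicGeometry in
/-- Let (A, 𝔪) be a Noetherian local ring of depth at least 2, A^ its 𝔪-adic completion, U the punctured
spectrum of A and U^ its preimage in Spec A^ (the punctured spectrum of A^). Then an invertible
O_U-module whose pullback to U^ is trivial is trivial. -/
theorem result (A : Type u) [CommRing A] [IsNoetherianRing A]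
    [IsLocalRing A] (hdepth : (2 : ℕ∞) ≤ LocCoh.depth A A) :
    Formal2.PicPullbackInjective
      (Spec.map (CommRingCat.ofHom (algebraMap A (AdicCompletion (IsLocalRing.maximalIdeal A) A))) ∣_
        FEt.puncturedSpec A) := by
  haveI : Module.FaithfullyFlat A (AdicCompletion (IsLocalRing.maximalIdeal A) A) :=
    Groth.Agent.S2321.faithfullyFlat_of_le_jacobson _ (IsLocalRing.maximalIdeal_le_jacobson _)
  exact picPullbackInjective_of_faithfullyFlat A hdepth _

end Groth.Agent.S0813
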