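import Groth.Statements.S0818
import Groth.Agent.Lib.Helper20.Devissage
import Groth.Agent.Lib.Helper20.DevPoint
-- import your own Groth.Agent.* helpers here

set_option autoImplicit false
universe u
open Coherent

namespace Groth.Agent.S0818

open CategoryTheory AlgebraicGeometry in
/-- Let X be a nonempty Noetherian scheme and P an isomorphism-invariant property of O_X-modules such
that (1) in every short exact sequence of coherent O_X-modules, if two of the three terms satisfy P
then so does the third, and (2) for every integral scheme Z and closed immersion i : Z → X, with ξ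
the generic point of Z, there is a coherent O_X-module G satisfying P whose support is exactly i(Z)
and whose stalk at i(ξ) is isomorphic, as a module over the local ring O_{X,i(ξ)}, to the residue
field of that local ring. Then every coherent O_X-module satisfies P. (The published statement
leaves the nonemptiness of X implicit; it is needed to handle the zero module and is assumed
explicitly here.) -/
theorem result (X : Scheme.{u}) [IsNoetherian X] [Nonempty X]
    (P : X.Modules → Prop) (hP : ∀ M N : X.Modules, Nonempty (M ≅ N) → P M → P N)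
    (h₁ : ∀ S : ShortComplex X.Modules, S.ShortExact → Coh.IsCoh S.X₁ → Coh.IsCoh S.X₂ → Coh.IsCoh S.X₃ →
      (P S.X₁ → P S.X₂ → P S.X₃) ∧ (P S.X₁ → P S.X₃ → P S.X₂) ∧ (P S.X₂ → P S.X₃ → P S.X₁))
    (h₂ : ∀ (Z : Scheme.{u}) (i : Z ⟶ X) [IsClosedImmersion i] [IsIntegral Z],
      ∃ G : X.Modules, Coh.IsCoh G ∧ CohB1.support G = Set.range ⇑i ∧
        Nonempty (↑(G.presheaf.stalk (i (genericPoint Z))) ≃ₗ[X.presheaf.stalk (i (genericPoint Z))]
          IsLocalRing.ResidueField (X.presheaf.stalk (i (genericPoint Z)))) ∧ P G)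
    (M : X.Modules) (hM : Coh.IsCoh M) : P M := by
  obtain ⟨x₀⟩ := ‹Nonempty X›
  have hpt : ∀ ξ : X, ∃ G : X.Modules, Coh.IsCoh G ∧ P G ∧ CohB1.support G ⊆ closure {ξ} ∧
      Module.length (X.presheaf.stalk ξ) (G.presheaf.stalk ξ) = 1 := by
    intro ξ
    obtain ⟨Z, i, hci, hint, hr, hgp⟩ :=
      Groth.Agent.Lib.Helper20.DevPoint.exists_integral_closedImmersion X ξ
    obtain ⟨G, hG, hGs, ⟨e⟩, hPG⟩ := @h₂ Z i hci hint
    refine ⟨G, hG, hPG, ?_, ?_⟩
    · rw [hGs, hr]
    · have h1 := Groth.Agent.Lib.Helper20.DevPoint.length_eq_one_of_equiv_residueField e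
      have transport : ∀ ξ' : X, ξ' = ξ →
          Module.length (X.presheaf.stalk ξ') (G.presheaf.stalk ξ') = 1 →
          Module.length (X.presheaf.stalk ξ) (G.presheaf.stalk ξ) = 1 := by
        rintro _ rfl h
        exact h
      exact transport _ hgp h1
  have h0 : ∀ M : X.Modules, Limits.IsZero M → P M := by
    intro M hM
    obtain ⟨G, hG, hPG, -, -⟩ := hpt x₀
    let S : ShortComplex X.Modules :=
      ShortComplex.mk (𝟙 G) (Limits.cokernel.π (𝟙 G)) (Limits.cokernel.condition _)
    have hS : S.ShortExact :=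
      { exact := ShortComplex.exact_of_g_is_cokernel _ (Limits.cokernelIsCokernel _)
        mono_f := inferInstanceAs (Mono (𝟙 G))
        epi_g := inferInstanceAs (Epi (Limits.cokernel.π (𝟙 G))) }
    have hC : Coh.IsCoh (Limits.cokernel (𝟙 G)) := Groth.Agent.Lib.QCoh.isCoh_cokernel hG hG _
    have hPC : P (Limits.cokernel (𝟙 G)) := (h₁ S hS hG hG hC).1 hPG hPG
    have hZ : Limits.IsZero (Limits.cokernel (𝟙 G)) := Limits.isZero_cokernel_of_epi (𝟙 G)
    exact hP _ _ ⟨hZ.iso hM⟩ hPC
  refine Groth.Agent.Lib.Helper20.Devissage.main X P hP Set.univ ?_ h0 (fun ξ _ => hpt ξ) M hM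
    (Set.subset_univ _)
  intro S hS h1 h2 h3 _
  exact h₁ S hS h1 h2 h3

end Groth.Agent.S0818
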