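import Groth.Statements.S0819
import Groth.Agent.Lib.Helper20.Devissage
import Groth.Agent.Lib.Helper20.DevPoint
import Groth.Agent.Lib.Helper20.PushStalk
import Groth.Agent.Lib.QCoh.Helper50_FinitePush
import Groth.Agent.Lib.QCoh.Helper74_IsoLocus
-- import your own Groth.Agent.* helpers here

set_option autoImplicit false
universe u
open Coherent

namespace Groth.Agent.S0819

open CategoryTheory AlgebraicGeometry in
/-- Let X be a Noetherian scheme, Z₀ ⊆ X an irreducible closed subset with generic point ξ, and P an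
isomorphism-invariant property of O_X-modules such that: (1) in every short exact sequence of
coherent modules supported in Z₀, P for two of the terms implies P for the third; (2) P holds for
i_* I whenever i : Z → X is an integral closed subscheme with i(Z) a proper subset of Z₀ and I ⊆ O_Z
is a quasi-coherent ideal sheaf; (3) there is a coherent G with support exactly Z₀, stalk at ξ
isomorphic to the residue field over the local ring, and P(G). Then P holds for every coherent
module whose support is contained in Z₀. -/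
theorem result (X : Scheme.{u}) [IsNoetherian X]
    (Z₀ : Set X) (hZ₀ : IsClosed Z₀) (hirr : IsIrreducible Z₀) (ξ : X) (hξ : ξ ∈ Z₀ ∧ closure {ξ} = Z₀)
    (P : X.Modules → Prop) (hP : ∀ M N : X.Modules, Nonempty (M ≅ N) → P M → P N)
    (h₁ : ∀ S : ShortComplex X.Modules, S.ShortExact → Coh.IsCoh S.X₁ → Coh.IsCoh S.X₂ → Coh.IsCoh S.X₃ →
      CohB1.support S.X₂ ⊆ Z₀ →
      (P S.X₁ → P S.X₂ → P S.X₃) ∧ (P S.X₁ → P S.X₃ → P S.X₂) ∧ (P S.X₂ → P S.X₃ → P S.X₁))
    (h₂ : ∀ (Z : Scheme.{u}) (i : Z ⟶ X), IsClosedImmersion i → IsIntegral Z →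
      Set.range ⇑i ⊆ Z₀ → Set.range ⇑i ≠ Z₀ →
      ∀ (I : Z.Modules) (ι : I ⟶ Coh.structureModule Z), Mono ι → Coh.IsQCoh I →
        P ((Coh.push i).obj I))
    (h₃ : ∃ G : X.Modules, Coh.IsCoh G ∧ CohB1.support G = Z₀ ∧
      Nonempty (↑(G.presheaf.stalk ξ) ≃ₗ[X.presheaf.stalk ξ] IsLocalRing.ResidueField (X.presheaf.stalk ξ)) ∧ P G)
    (M : X.Modules) (hM : Coh.IsCoh M) (hsupp : CohB1.support M ⊆ Z₀) : P M := by
  obtain ⟨G₀, hG₀, hG₀s, ⟨e₀⟩, hPG₀⟩ := h₃
  have hG₀l : Module.length (X.presheaf.stalk ξ) (G₀.presheaf.stalk ξ) = 1 :=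
    Groth.Agent.Lib.Helper20.DevPoint.length_eq_one_of_equiv_residueField e₀
  have h0 : ∀ M : X.Modules, Limits.IsZero M → P M := by
    intro M hM
    let S : ShortComplex X.Modules :=
      ShortComplex.mk (𝟙 G₀) (Limits.cokernel.π (𝟙 G₀)) (Limits.cokernel.condition _)
    have hS : S.ShortExact :=
      { exact := ShortComplex.exact_of_g_is_cokernel _ (Limits.cokernelIsCokernel _)
        mono_f := inferInstanceAs (Mono (𝟙 G₀))
        epi_g := inferInstanceAs (Epi (Limits.cokernel.π (𝟙 G₀))) }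
    have hC : Coh.IsCoh (Limits.cokernel (𝟙 G₀)) := Groth.Agent.Lib.QCoh.isCoh_cokernel hG₀ hG₀ _
    have hPC : P (Limits.cokernel (𝟙 G₀)) := (h₁ S hS hG₀ hG₀ hC hG₀s.le).1 hPG₀ hPG₀
    have hZ : Limits.IsZero (Limits.cokernel (𝟙 G₀)) := Limits.isZero_cokernel_of_epi (𝟙 G₀)
    exact hP _ _ ⟨hZ.iso hM⟩ hPC
  refine Groth.Agent.Lib.Helper20.Devissage.main X P hP Z₀ h₁ h0 ?_ M hM hsupp
  intro ξ' hξ'
  by_cases hc : closure {ξ'} = Z₀
  · have h1 : IsGenericPoint ξ' Z₀ := hc
    have h2 : IsGenericPoint ξ Z₀ := hξ.2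
    obtain rfl : ξ' = ξ := h1.eq h2
    exact ⟨G₀, hG₀, hPG₀, by rw [hG₀s, hc], hG₀l⟩
  · obtain ⟨Z, i, hci, hint, hr, hgp⟩ :=
      Groth.Agent.Lib.Helper20.DevPoint.exists_integral_closedImmersion X ξ'
    have hsub : Set.range ⇑i ⊆ Z₀ := by
      rw [hr]
      exact closure_minimal (Set.singleton_subset_iff.2 hξ') hZ₀
    have hne : Set.range ⇑i ≠ Z₀ := by
      rw [hr]
      exact hc
    have hOZ := Groth.Agent.Lib.QCoh.IsoLocus74.isCoh_structureModule Z
    haveI : (Coh.structureModule Z).IsQuasicoherent := hOZ.1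
    haveI : (Coh.structureModule Z).IsFiniteType := hOZ.2
    have hPG : P ((Coh.push i).obj (Coh.structureModule Z)) :=
      h₂ Z i hci hint hsub hne (Coh.structureModule Z) (𝟙 _) inferInstance hOZ.1
    refine ⟨(Coh.push i).obj (Coh.structureModule Z), ⟨?_, ?_⟩, hPG, ?_, ?_⟩
    · exact Groth.Agent.Lib.QCoh.isQuasicoherent_pushforward_of_isAffineHom i _
    · exact Groth.Agent.Lib.QCoh.isFiniteType_pushforward_of_isFinite i _
    · intro x hx
      by_contra hxn
      rw [← hr] at hxn
      exact hx (Groth.Agent.Lib.Helper20.PushStalk.subsingleton_stalk_push_of_notMem_range i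
        i.isClosedEmbedding.isClosed_range _ x hxn)
    · have h1 := Groth.Agent.Lib.Helper20.PushStalk.length_stalk_push_structureModule i
        (genericPoint Z)
      have h2 : Module.length (Z.presheaf.stalk (genericPoint Z))
          (Z.presheaf.stalk (genericPoint Z)) = 1 :=
        Groth.Agent.Lib.Helper20.DevPoint.length_self_field Z.functionField
      rw [h2] at h1
      have transport : ∀ ξ'' : X, ξ'' = ξ' → ∀ G : X.Modules,
          Module.length (X.presheaf.stalk ξ'') (G.presheaf.stalk ξ'') = 1 →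
          Module.length (X.presheaf.stalk ξ') (G.presheaf.stalk ξ') = 1 := by
        rintro _ rfl G h
        exact h
      exact transport _ hgp _ h1

end Groth.Agent.S0819
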