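import Groth.Statements.S0824
import Groth.Agent.S0009
import Groth.Agent.S0010
import Groth.Agent.Lib.Cohomology.helper5_HHSigma
import Groth.Agent.Lib.QCoh.helper5_FTColim2
import Groth.Agent.Lib.Ample.FinGen
import Groth.Agent.Lib.QCoh.TensorColim
import Groth.Agent.Lib.QCoh.TensorPow2
import Groth.Agent.Lib.QCoh.TensorPic
import Groth.Agent.Lib.Helper56.SepAmple
import Groth.Agent.Lib.QCoh.Local
import Groth.Agent.Lib.QCoh.Helper24_Colimits
import Groth.Agent.Lib.Ample.Helper50_TensorInv
import Groth.Agent.Lib.QCoh.Invertible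

set_option autoImplicit false
universe u
open Coherent

namespace Groth.Agent.S0824

open AlgebraicGeometry CategoryTheory CategoryTheory.Limits Groth.Agent.Lib.Cohomology
  Groth.Agent.Lib.QCoh CohB1 in
/-- `(F ⊗ L^n) ⊗ L'^n ≅ F` when `L ⊗ L' ≅ O`. -/
noncomputable def twistBackIso {X : Scheme.{u}} (L L' : X.Modules)
    (e : CohB1.tensorMod L L' ≅ Coh.structureModule X) (F : X.Modules) (n : ℕ) :
    CohB1.tensorMod (CohB1.tensorMod F (CohB1.tensorPow L n)) (CohB1.tensorPow L' n) ≅ F :=
  tensorModAssoc F _ _ ≪≫
    tensorModCongr (Iso.refl F)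
      ((tensorPowTensorIso L L' n).symm ≪≫ tensorPowCongr e n ≪≫ tensorPowUnitIso X n) ≪≫
    tensorModRightUnitor F

open AlgebraicGeometry CategoryTheory CategoryTheory.Limits Groth.Agent.Lib.Cohomology
  Groth.Agent.Lib.QCoh CohB1 in
theorem main (X : Scheme.{u}) (L L' : X.Modules)
    (hL : CohB1.IsAmple L) (hinv : Nonempty (CohB1.tensorMod L L' ≅ Coh.structureModule X)) (n₀ : ℕ)
    (h : ∀ n : ℕ, n₀ ≤ n → ∀ p : ℕ, 0 < p → Subsingleton (Coh.HH X (CohB1.tensorPow L' n) p)) :
    IsAffine X := by
  classical
  obtain ⟨e⟩ := hinv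
  have hc : CompactSpace X := hL.2.1
  have hsep : X.IsSeparated :=
    Groth.Agent.Lib.Helper56.Sep.isSeparated_of_forall_exists_genLocus hL.1 hL.2.2
  have hqs : QuasiSeparatedSpace X := inferInstance
  -- a finite affine cover
  obtain ⟨s, hsfin, hs⟩ := (isCompact_iff_finite_and_eq_biUnion_affineOpens
    (U := (⊤ : X.Opens))).1 isCompact_univ
  have := hsfin.to_subtype
  let eq := Finite.equivFin s
  let t := Nat.card s
  let U : Fin t → X.Opens := fun i => ((eq.symm i : s) : X.affineOpens)
  have hU : ∀ i, IsAffineOpen (U i) := fun i => ((eq.symm i : s) : X.affineOpens).2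
  have hcov : ⨆ i, U i = ⊤ := by
    rw [hs]
    apply le_antisymm
    · refine iSup_le fun i => ?_
      exact le_iSup₂_of_le ((eq.symm i : s) : X.affineOpens) (eq.symm i).2 le_rfl
    · refine iSup₂_le fun V hV => ?_
      have : U (eq ⟨V, hV⟩) = V := by
        show ((eq.symm (eq ⟨V, hV⟩) : s) : X.affineOpens).1 = V.1
        rw [Equiv.symm_apply_apply]
      rw [← this]
      exact le_iSup U _
  have hd : ∀ V W : X.Opens, IsAffineOpen V → IsAffineOpen W → IsAffineOpen (V ⊓ W) :=
    fun V W hV hW => IsAffineOpen.inf hV hW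
  -- invertibility of `L'` gives quasi-coherence of its powers
  have key : ∀ (k p : ℕ), 0 < p → t ≤ p + k → ∀ (M : X.Modules), Coh.IsQCoh M →
      Subsingleton (Coh.HH X M p) := by
    intro k
    induction k with
    | zero =>
      intro p _ hp M hM
      have : Coh.IsQCoh M := hM
      exact Groth.Agent.S0010.result X t U hU hcov hd M p (by omega)
    | succ k ih =>
      intro p hp0 hp M hM
      have : M.IsQuasicoherent := hM
      -- reduce to finite type
      suffices hft : ∀ (F : X.Modules), F.IsQuasicoherent → F.IsFiniteType →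
          Subsingleton (Coh.HH X F p) by
        have aux : ∀ ξ : Coh.HH X M p, ξ = 0 := by
          intro ξ
          obtain ⟨F, j, hj, hFq, hFf, ξ', hξ'⟩ :=
            Groth.Agent.Lib.QCoh.FTColim.exists_ft_sub_of_HH M p ξ
          have hs := hft F hFq hFf
          rw [← hξ', @Subsingleton.elim _ hs ξ' 0, map_zero]
        exact ⟨fun a b => by rw [aux a, aux b]⟩
      intro F hFq hFf
      obtain ⟨n₁, hn₁⟩ := Groth.Agent.Lib.Ample.exists_finite_epi_free_tensorPow_of_isAmple hL F
      obtain ⟨ι, hι, tt, ht⟩ := hn₁ (max n₀ n₁) (le_max_right _ _)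
      let n := max n₀ n₁
      let K : X.Modules := CohB1.tensorPow L' n
      let pp : (∐ fun _ : ι => Coh.structureModule X) ⟶
          CohB1.tensorMod F (CohB1.tensorPow L n) := Groth.Agent.Lib.Ample.homOfFamily _ tt
      have hp' : Epi pp := ht
      have hq : Epi ((tensorRightFunctor K).map pp) := (tensorRightFunctor K).map_epi pp
      let a : (tensorRightFunctor K).obj (∐ fun _ : ι => Coh.structureModule X) ≅
          ∐ fun _ : ι => (tensorRightFunctor K).obj (Coh.structureModule X) :=
        PreservesCoproduct.iso (tensorRightFunctor K) (fun _ : ι => Coh.structureModule X)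
      let b : (∐ fun _ : ι => (tensorRightFunctor K).obj (Coh.structureModule X)) ≅
          ∐ fun _ : ι => K :=
        Sigma.mapIso (fun _ => tensorModLeftUnitor K)
      let d' : (tensorRightFunctor K).obj (CohB1.tensorMod F (CohB1.tensorPow L n)) ≅ F :=
        twistBackIso L L' e F n
      let q : (∐ fun _ : ι => K) ⟶ F :=
        b.inv ≫ a.inv ≫ (tensorRightFunctor K).map pp ≫ d'.hom
      have hq' : Epi q := by
        have : Epi ((tensorRightFunctor K).map pp ≫ d'.hom) := epi_comp _ _
        have : Epi (a.inv ≫ (tensorRightFunctor K).map pp ≫ d'.hom) := epi_comp _ _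
        exact epi_comp _ _
      -- quasi-coherence of the source
      have hL'inv : PicF.IsInvertible L' :=
        Groth.Agent.Lib.Ample.TensorInv.isInvertible_of_tensorMod_iso
          (tensorModBraiding L' L ≪≫ e)
      have hKq : K.IsQuasicoherent :=
        isQuasicoherent_of_isInvertible (isInvertible_tensorPow hL'inv n)
      have hSq : (∐ fun _ : ι => K).IsQuasicoherent :=
        Groth.Agent.Lib.QCoh.isQuasicoherent_sigma _ (fun _ => hKq)
      have hKer : (kernel q).IsQuasicoherent := Groth.Agent.Lib.QCoh.isQuasicoherent_kernel q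
      let S : ShortComplex X.Modules := ShortComplex.mk (kernel.ι q) q (kernel.condition q)
      have hS : S.ShortExact :=
        { exact := ShortComplex.exact_of_f_is_kernel _ (kernelIsKernel q)
          mono_f := inferInstanceAs (Mono (kernel.ι q))
          epi_g := hq' }
      have h1 : Subsingleton (Coh.HH X (kernel q) (p + 1)) :=
        ih (p + 1) (by omega) (by omega) _ hKer
      have h2 : Subsingleton (Coh.HH X (∐ fun _ : ι => K) p) :=
        HHSigma.subsingleton_HH_sigma X p (fun _ : ι => K)
          (fun _ => h n (le_max_left _ _) p hp0)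
      refine ⟨fun x y => ?_⟩
      have aux : ∀ x : Coh.HH X F p, x = 0 := by
        intro x
        have h1' : Subsingleton (Coh.HH X S.X₁ (p + 1)) := h1
        have h2' : Subsingleton (Coh.HH X S.X₂ p) := h2
        obtain ⟨y, hy⟩ := Groth.Agent.Lib.Cohomology.HHLES.exact₃ hS p x
          (@Subsingleton.elim _ h1' _ _)
        rw [← hy, @Subsingleton.elim _ h2' y 0, map_zero]
      rw [aux x, aux y]
  exact Groth.Agent.S0009.result X (fun I i _ hI => key t 1 one_pos (by omega) I hI)


open CategoryTheory AlgebraicGeometry in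
/-- Let X be a scheme with an ample invertible module L, and let L' be an inverse of L (L ⊗ L' ≅ O_X).
If there is n₀ such that H^p(X, L'^n) = 0 for all n ≥ n₀ and all p > 0, then X is affine. -/
theorem result (X : Scheme.{u}) (L L' : X.Modules)
    (hL : CohB1.IsAmple L) (hinv : Nonempty (CohB1.tensorMod L L' ≅ Coh.structureModule X)) (n₀ : ℕ)
    (h : ∀ n : ℕ, n₀ ≤ n → ∀ p : ℕ, 0 < p → Subsingleton (Coh.HH X (CohB1.tensorPow L' n) p)) :
    IsAffine X := by
  exact main X L L' hL hinv n₀ h

end Groth.Agent.S0824
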