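import Groth.Statements.S0825
import Groth.Agent.Lib.Helper58.DTH1
import Groth.Agent.Lib.Helper58.LCX
-- import your own Groth.Agent.* helpers here

set_option autoImplicit false
universe u
open scoped BigOperators
open LocCoh

namespace Groth.Agent.S0825

/-- Let A be a Noetherian ring and I the ideal generated by f_1, …, f_r, with cohomological dimension
exactly 1. Then there are c ≥ 1 and A-linear maps φ_j : I^c → A such that x = Σ_j f_j φ_j(x) for
every x ∈ I^c. -/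
theorem result (A : Type u) [CommRing A] [IsNoetherianRing A] (r : ℕ) (f : Fin r → A)
    (h₁ : LocCoh.CdLE A (Ideal.span (Set.range f)) 1) (h₀ : ¬ LocCoh.CdLE A (Ideal.span (Set.range f)) 0) :
    ∃ (c : ℕ) (φ : Fin r → (↥(Ideal.span (Set.range f) ^ (c + 1)) →ₗ[A] A)),
      ∀ x : ↥(Ideal.span (Set.range f) ^ (c + 1)), (x : A) = ∑ j, f j * φ j x := by
  classical
  set I : Ideal A := Ideal.span (Set.range f) with hI
  -- the surjection `A^r → I^1`
  have hmem : ∀ v : Fin r → A, ∑ j, v j * f j ∈ I ^ 1 := by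
    intro v
    rw [pow_one]
    refine Ideal.sum_mem _ fun j _ => Ideal.mul_mem_left _ _ (Ideal.subset_span ⟨j, rfl⟩)
  let π0 : (Fin r → A) →ₗ[A] A :=
    { toFun := fun v => ∑ j, v j * f j
      map_add' := fun v w => by simp [add_mul, Finset.sum_add_distrib]
      map_smul' := fun a v => by simp [Finset.mul_sum, mul_assoc] }
  let π : (Fin r → A) →ₗ[A] ↥(I ^ 1) := π0.codRestrict _ hmem
  have hπ : Function.Surjective π := by
    rintro ⟨x, hx⟩
    rw [pow_one] at hx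
    obtain ⟨v, hv⟩ := (Ideal.mem_span_range_iff_exists_fun).1 hx
    exact ⟨v, Subtype.ext hv⟩
  let S := Groth.Agent.Lib.Helper58.LCX.kerSC π
  have hS : S.ShortExact := Groth.Agent.Lib.Helper58.LCX.kerSC_shortExact π hπ
  -- the obstruction class
  let e : CategoryTheory.Abelian.Ext.{u} (Groth.Agent.Lib.Helper58.DTH1.P I 1) S.X₁ 1 := hS.extClass
  let x := Groth.Agent.Lib.Helper58.DTH1.conn I S.X₁ 1 1 e
  haveI : Subsingleton ((localCohomology I 2).obj S.X₁) := h₁ _ 2 (by omega)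
  have h0 : Groth.Agent.Lib.Helper41.LC.ιH I 2 S.X₁ 1 x = 0 := Subsingleton.elim _ _
  obtain ⟨m, hm, h2⟩ := (Groth.Agent.Lib.Helper41.LC.ιH_eq_zero_iff _ _).1 h0
  rw [Groth.Agent.Lib.Helper58.DTH1.conn_comp_proj] at h2
  have h3 : (CategoryTheory.Abelian.Ext.mk₀ (Groth.Agent.Lib.Helper58.DTH1.incl I hm)).comp e (zero_add 1) = 0 :=
    Groth.Agent.Lib.Helper58.DTH1.conn_injective I S.X₁ m 1 le_rfl (h2.trans (map_zero _).symm)
  obtain ⟨x₂, hx₂⟩ := CategoryTheory.Abelian.Ext.covariant_sequence_exact₃ _ hS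
    (CategoryTheory.Abelian.Ext.mk₀ (Groth.Agent.Lib.Helper58.DTH1.incl I hm)) (zero_add 1) h3
  obtain ⟨φ, rfl⟩ := (CategoryTheory.Abelian.Ext.mk₀_bijective _ _).2 x₂
  rw [CategoryTheory.Abelian.Ext.mk₀_comp_mk₀] at hx₂
  have h4 : CategoryTheory.CategoryStruct.comp φ S.g = Groth.Agent.Lib.Helper58.DTH1.incl I hm := (CategoryTheory.Abelian.Ext.mk₀_bijective _ _).1 hx₂
  obtain ⟨c, rfl⟩ : ∃ c, m = c + 1 := ⟨m - 1, by omega⟩
  let φ' : ↥(I ^ (c + 1)) →ₗ[A] (Fin r → A) := φ.hom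
  refine ⟨c, fun j => (LinearMap.proj j : (Fin r → A) →ₗ[A] A) ∘ₗ φ', fun y => ?_⟩
  have h5 := congrArg (fun g => ((g.hom y : ↥(I ^ 1)) : A)) h4
  simp only at h5
  calc (y : A) = ∑ j, (φ' y) j * f j := h5.symm
    _ = _ := by
      refine Finset.sum_congr rfl fun j _ => ?_
      rw [mul_comm]
      rfl

end Groth.Agent.S0825
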