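import Groth.Statements.S0826
import Groth.Agent.Lib.Helper68.HLimSeq3
import Groth.Agent.Lib.Helper68.QCohTower
import Groth.Agent.Lib.Helper68.DerProdGroth
import Groth.Agent.Lib.Helper6.DerSmall
import Groth.Agent.Lib.Cohomology.Helper1_HUTop

set_option autoImplicit false
universe u
open Formal2

namespace Groth.Agent.S0826

open CategoryTheory CategoryTheory.Limits AlgebraicGeometry in
/-- Part (2), for the ideal sheaf generated by an ideal I of a base ring A. Let X be a scheme over Spec
A and (G_n) an inverse system of quasi-coherent O_X-modules with G_n killed by I^(n+1) and G_n =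
G_{n+1}/I^(n+1)G_{n+1} (indices shifted by one). Then the limit O_X-module lim G_n has vanishing
cohomology in positive degrees over every affine open of X. -/
theorem result (A : Type u) [CommRing A] (I : Ideal A) (X : Scheme.{u})
    [X.Over (Spec (CommRingCat.of A))] (G : ℕᵒᵖ ⥤ X.Modules) (hG : Formal2.IsQCohFormal I G)
    (U : X.Opens) (hU : IsAffineOpen U) (p : ℕ) (hp : 0 < p) :
    Subsingleton (Coh.HHon X (limit G) U p) := by
  classical
  obtain ⟨hq, -, hcok⟩ := hG
  obtain ⟨q, rfl⟩ : ∃ q, p = q + 1 := ⟨p - 1, by omega⟩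
  let Y : Scheme.{u} := ↑U
  let R : X.Modules ⥤ Y.Modules := Scheme.Modules.restrictFunctor U.ι
  let G' : ℕᵒᵖ ⥤ Y.Modules := G ⋙ R
  let _ : HasDerivedCategory.{u} (Sheaf (Opens.grothendieckTopology Y) AddCommGrpCat.{u}) :=
    Groth.Agent.Lib.Helper6.DerSmall.hasDerivedCategory _
  let F : ℕᵒᵖ ⥤ Sheaf (Opens.grothendieckTopology Y) AddCommGrpCat.{u} :=
    G' ⋙ Groth.Agent.Lib.Helper68.QCohTower.TY Y
  have : HasProduct (Groth.Agent.Lib.Helper68.DerLimSh.KK (Groth.Agent.Lib.Helper68.HLimSeq.Fobj F)) :=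
    Groth.Agent.Lib.Helper68.DerProd.hasProduct _
  let c : Cone F := (Groth.Agent.Lib.Helper68.QCohTower.RT U.ι).mapCone (limit.cone G)
  have hc : IsLimit c := Groth.Agent.Lib.Helper68.QCohTower.isLimitMapCone U.ι G
  have hq' : ∀ n : ℕ, (G'.obj (Opposite.op n)).IsQuasicoherent := by
    intro n
    have : (G.obj (Opposite.op n)).IsQuasicoherent := hq n
    change ((Scheme.Modules.restrictFunctor U.ι).obj (G.obj (Opposite.op n))).IsQuasicoherent
    infer_instance
  have hepi' : ∀ n : ℕ, Epi (G'.map (homOfLE (Nat.le_succ n)).op) := by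
    intro n
    have hepi : Epi (G.map (homOfLE (Nat.le_succ n)).op) := by
      obtain ⟨h, hiso⟩ := hcok n
      have : G.map (homOfLE (Nat.le_succ n)).op = cokernel.π _ ≫ cokernel.desc _ _ h :=
        (cokernel.π_desc _ _ h).symm
      rw [this]
      have e1 : Epi (cokernel.π (Formal.smulFamily (I ^ (n + 1)) (G.obj (Opposite.op (n + 1))))) :=
        coequalizer.π_epi
      have e2 : Epi (cokernel.desc _ _ h) := @IsIso.epi_of_iso _ _ _ _ _ hiso
      exact @epi_comp _ _ _ _ _ _ e1 _ e2
    change Epi (R.map (G.map (homOfLE (Nat.le_succ n)).op))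
    infer_instance
  have hYaff : (⊤ : Y.Opens) ∈ (Y.affineOpens : Set Y.Opens) := by
    have : IsAffine Y := hU
    exact isAffineOpen_top Y
  have key := Groth.Agent.Lib.Helper68.HLimSeq.subsingleton_HU_of_isLimit F
    (Y.affineOpens : Set Y.Opens)
    (Groth.Agent.Lib.Helper68.DerLimSh.hB_site _ Y.isBasis_affineOpens)
    (Groth.Agent.Lib.Helper68.QCohTower.h1 G' hq')
    (Groth.Agent.Lib.Helper68.QCohTower.h2 G' hq' hepi') c hc ⊤ hYaff q
  exact (Groth.Agent.Lib.Cohomology.HUTopEquiv _ c.pt (q + 1)).symm.subsingleton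

end Groth.Agent.S0826
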