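import Groth.Statements.S0827
import Groth.Agent.Lib.Helper68.HLimSeq2
import Groth.Agent.Lib.Helper68.DerProdGroth
import Groth.Agent.Lib.Helper6.DerSmall
import Groth.Agent.Lib.Cohomology.Helper1_SerreVanishing
import Groth.Agent.Lib.Cohomology.helper5_Leray
import Groth.Agent.Lib.QCoh.Local
import Groth.Agent.Lib.QCoh.Extension
import Groth.Agent.S6160

set_option autoImplicit false
universe u
open Formal2

namespace Groth.Agent.S0827

set_option maxHeartbeats 1600000 in
open CategoryTheory CategoryTheory.Limits AlgebraicGeometry Opposite in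
/-- Part (3), for the ideal sheaf generated by an ideal I of a base ring A. Let X be a scheme over Spec
A and (G_n) an inverse system of quasi-coherent O_X-modules with G_n killed by I^(n+1) and G_n =
G_{n+1}/I^(n+1)G_{n+1}. Then for every p there is a short exact sequence 0 → R^1 lim_n H^p(X, G_n) →
H^(p+1)(X, lim G_n) → lim_n H^(p+1)(X, G_n) → 0 of abelian groups, the second map being induced by
the projections lim G_n → G_n (the degree-0 statement is not restated). -/
theorem result (A : Type u) [CommRing A] (I : Ideal A) (X : Scheme.{u})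
    [X.Over (Spec (CommRingCat.of A))] (G : ℕᵒᵖ ⥤ X.Modules) (hG : Formal2.IsQCohFormal I G) (p : ℕ) :
    ∃ (α : Formal2.limOne (fun n => Coh.HH X (G.obj (op n)) p) (Formal2.HHsysMap G p) →+
        Coh.HH X (limit G) (p + 1))
      (β : Coh.HH X (limit G) (p + 1) →+
        Formal2.limZero (fun n => Coh.HH X (G.obj (op n)) (p + 1)) (Formal2.HHsysMap G (p + 1))),
      Function.Injective α ∧ Function.Surjective β ∧ α.range = β.ker ∧
      ∀ (x : Coh.HH X (limit G) (p + 1)) (n : ℕ),
        (β x : ∀ n, Coh.HH X (G.obj (op n)) (p + 1)) n =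
          Sheaf.H.map ((SheafOfModules.toSheaf _).map (limit.π G (op n))) (p + 1) x := by
  classical
  obtain ⟨hq, -, hcok⟩ := hG
  let _ : HasDerivedCategory.{u} (Sheaf (Opens.grothendieckTopology X) AddCommGrpCat.{u}) :=
    Groth.Agent.Lib.Helper6.DerSmall.hasDerivedCategory _
  let T : X.Modules ⥤ Sheaf (Opens.grothendieckTopology X) AddCommGrpCat.{u} :=
    SheafOfModules.toSheaf.{u} X.ringCatSheaf
  let F : ℕᵒᵖ ⥤ Sheaf (Opens.grothendieckTopology X) AddCommGrpCat.{u} := G ⋙ T
  have : HasProduct (Groth.Agent.Lib.Helper68.DerLimSh.KK (Groth.Agent.Lib.Helper68.HLimSeq.Fobj F)) :=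
    Groth.Agent.Lib.Helper68.DerProd.hasProduct _
  have hpres : PreservesLimitsOfSize.{u, u} T :=
    Groth.Agent.S6160.toSheaf_preservesLimitsOfSize X.ringCatSheaf
  have hpres0 : PreservesLimitsOfSize.{0, 0} T := preservesSmallestLimits_of_preservesLimits T
  let c : Cone F := T.mapCone (limit.cone G)
  have hc : IsLimit c := isLimitOfPreserves T (limit.isLimit G)
  -- vanishing on affine opens
  have h1 : ∀ U ∈ (X.affineOpens : Set X.Opens), ∀ (q n : ℕ),
      Subsingleton (CohSite.HU (F.obj (op n)) (q + 1) U) := by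
    intro U hU q n
    have : (G.obj (op n)).IsQuasicoherent := hq n
    exact Groth.Agent.Lib.Cohomology.HU_succ_subsingleton_of_isAffineOpen (G.obj (op n)) U hU q
  -- surjectivity on affine opens
  have h2 : ∀ U ∈ (X.affineOpens : Set X.Opens), ∀ n : ℕ,
      Function.Surjective ((F.map (homOfLE (Nat.le_succ n)).op).hom.app (op U)).hom := by
    intro U hU n
    let τ : G.obj (op (n + 1)) ⟶ G.obj (op n) := G.map (homOfLE (Nat.le_succ n)).op
    have : (G.obj (op n)).IsQuasicoherent := hq n
    have : (G.obj (op (n + 1))).IsQuasicoherent := hq (n + 1)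
    have : (kernel τ).IsQuasicoherent := Groth.Agent.Lib.QCoh.isQuasicoherent_kernel τ
    have hepi : Epi τ := by
      obtain ⟨h, hiso⟩ := hcok n
      have : τ = cokernel.π _ ≫ cokernel.desc _ _ h := (cokernel.π_desc _ _ h).symm
      rw [this]
      have e1 : Epi (cokernel.π (Formal.smulFamily (I ^ (n + 1)) (G.obj (op (n + 1))))) :=
        coequalizer.π_epi
      have e2 : Epi (cokernel.desc _ _ h) := @IsIso.epi_of_iso _ _ _ _ _ hiso
      exact @epi_comp _ _ _ _ _ _ e1 _ e2
    let S : ShortComplex X.Modules := ShortComplex.mk (kernel.ι τ) τ (kernel.condition τ)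
    have hS : S.ShortExact :=
      ShortComplex.ShortExact.mk' (ShortComplex.exact_of_f_is_kernel S (kernelIsKernel τ))
        (inferInstanceAs (Mono (kernel.ι τ))) hepi
    have hS' : (S.map (Groth.Agent.Lib.QCoh.toAbFunctor X)).ShortExact := hS.map_of_exact _
    have h3 := Groth.Agent.Lib.Cohomology.Leray.sections_surjective_of_H1 hS' U
      (Groth.Agent.Lib.Cohomology.HU_succ_subsingleton_of_isAffineOpen (kernel τ) U hU 0)
    intro y
    obtain ⟨x, hx⟩ := h3 y
    exact ⟨x, hx⟩
  have hL := Groth.Agent.Lib.Helper68.HLimSeq.isRlimVia_of_isLimit F (X.affineOpens : Set X.Opens)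
    (Groth.Agent.Lib.Helper68.DerLimSh.hB_site _ X.isBasis_affineOpens) h1 h2 c hc
  let Zc : Sheaf (Opens.grothendieckTopology X) AddCommGrpCat.{u} :=
    (constantSheaf (Opens.grothendieckTopology X) AddCommGrpCat.{u}).obj (AddCommGrpCat.of (ULift ℤ))
  have hr : ∀ (n : ℕ) (x : Coh.HH X (limit G) (p + 1)),
      Formal2.HHsysMap G (p + 1) n
        (Sheaf.H.map ((SheafOfModules.toSheaf _).map (limit.π G (op (n + 1)))) (p + 1) x) =
      Sheaf.H.map ((SheafOfModules.toSheaf _).map (limit.π G (op n))) (p + 1) x := by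
    intro n x
    have h3 := (Sheaf.H.map_comp_apply ((SheafOfModules.toSheaf _).map (limit.π G (op (n + 1))))
      ((SheafOfModules.toSheaf _).map (G.map (homOfLE (Nat.le_succ n)).op)) x).symm
    refine h3.trans ?_
    have h4 : (SheafOfModules.toSheaf X.ringCatSheaf).map (limit.π G (op (n + 1))) ≫
        (SheafOfModules.toSheaf X.ringCatSheaf).map (G.map (homOfLE (Nat.le_succ n)).op) =
        (SheafOfModules.toSheaf X.ringCatSheaf).map (limit.π G (op n)) := by
      have h5 := congrArg (fun f => T.map f) (limit.w G (homOfLE (Nat.le_succ n)).op)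
      exact (T.map_comp _ _).symm.trans h5
    exact congrArg (fun f => Sheaf.H.map f (p + 1) x) h4
  have hsurj : ∀ ξ : ∀ n : ℕ, Coh.HH X (G.obj (op n)) (p + 1),
      (∀ n, Formal2.HHsysMap G (p + 1) n (ξ (n + 1)) = ξ n) →
      ∃ η : Coh.HH X (limit G) (p + 1),
        ∀ n, Sheaf.H.map ((SheafOfModules.toSheaf _).map (limit.π G (op n))) (p + 1) η = ξ n := by
    intro ξ hξ
    exact Groth.Agent.Lib.Helper68.HLimSeq.exists_ext (Groth.Agent.Lib.Helper68.HLimSeq.Fobj F)
      (Groth.Agent.Lib.Helper68.HLimSeq.Ftr F) _ hL Zc (p + 1) ξ hξ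
  have e : Nonempty ((AddMonoidHom.pi
      (fun n : ℕ => Sheaf.H.map ((SheafOfModules.toSheaf _).map (limit.π G (op n))) (p + 1))).ker ≃+
      Formal2.limOne (fun n => Coh.HH X (G.obj (op n)) p) (Formal2.HHsysMap G p)) :=
    Groth.Agent.Lib.Helper68.RlimMilnor.nonempty_ker_equiv_limOne
      (Groth.Agent.Lib.Helper68.DerLimSh.KK (Groth.Agent.Lib.Helper68.HLimSeq.Fobj F))
      (Groth.Agent.Lib.Helper68.DerLimSh.tt (Groth.Agent.Lib.Helper68.HLimSeq.Fobj F)
        (Groth.Agent.Lib.Helper68.HLimSeq.Ftr F)) _ _ hL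
      ((DerivedCategory.singleFunctor _ 0).obj Zc) (p : ℤ) ((p + 1 : ℕ) : ℤ) (by push_cast; ring)
      (G := fun n : ℕ => Coh.HH X (G.obj (op n)) p)
      (M := Coh.HH X (limit G) (p + 1))
      (N := fun n : ℕ => Coh.HH X (G.obj (op n)) (p + 1))
      (Formal2.HHsysMap G p)
      (fun n : ℕ => Sheaf.H.map ((SheafOfModules.toSheaf _).map (limit.π G (op n))) (p + 1))
      (fun n => Abelian.Ext.homAddEquiv) Abelian.Ext.homAddEquiv
      (fun n => Abelian.Ext.homAddEquiv.toAddMonoidHom)
      (fun n => Abelian.Ext.homAddEquiv.injective)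
      (fun n x => Groth.Agent.Lib.Helper68.HLimSeq.hom_comp_mk₀ p
        (Groth.Agent.Lib.Helper68.HLimSeq.Ftr F n) x)
      (fun n y => Groth.Agent.Lib.Helper68.HLimSeq.hom_comp_mk₀ (p + 1) (c.π.app (op n)) y)
  exact Groth.Agent.Lib.Helper68.HLimSeq.exists_alpha_beta
    (G := fun n : ℕ => Coh.HH X (G.obj (op n)) p)
    (M := Coh.HH X (limit G) (p + 1))
    (N := fun n : ℕ => Coh.HH X (G.obj (op n)) (p + 1))
    (Formal2.HHsysMap G p) (Formal2.HHsysMap G (p + 1))
    (fun n : ℕ => Sheaf.H.map ((SheafOfModules.toSheaf _).map (limit.π G (op n))) (p + 1))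
    hr hsurj e

end Groth.Agent.S0827
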