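import Groth.Statements.S0839
import Groth.Agent.Lib.Helper86.QAff1
import Groth.Agent.Lib.Helper86.QAff4

set_option autoImplicit false
set_option linter.style.haveILetI false
universe u
open Formal2

namespace Groth.Agent.S0839

open Groth.Agent.Lib.Helper86

open CategoryTheory AlgebraicGeometry in
/-- Implication (1) ⇒ (3), for the closed subscheme cut out by an ideal I of a base ring A (so the n-th
infinitesimal neighbourhood Y_n is cut out by I^n and sections over Y_n of E|_{Y_n} are global
sections of E/I^nE). Let X be a Noetherian quasi-affine scheme over Spec A such that H^0(X, O_X) →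
lim_n H^0(X, O_X/I^nO_X) is bijective. Then H^0(X, E) → lim_n H^0(X, E/I^nE) is bijective for every
finite locally free O_X-module E. -/
theorem result (A : Type u) [CommRing A] (I : Ideal A) (X : Scheme.{u})
    [X.Over (Spec (CommRingCat.of A))] [IsNoetherian X] [X.IsQuasiAffine]
    (h : Function.Bijective (Formal.toHHlim I (Coh.structureModule X) 0))
    (E : X.Modules) (hE : FlatMod.IsFinLocFree E) : Function.Bijective (Formal.toHHlim I E 0) := by
  classical
  choose f k c α β hx hαβ using fun x : X => PuncFree.exists_factor_quasiAffine X E hE x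
  have hcov : (⊤ : X.Opens) ≤ ⨆ x : X, X.basicOpen (f x) := fun x _ =>
    TopologicalSpace.Opens.mem_iSup.mpr ⟨x, hx x⟩
  have hsum : ∀ x : X, ∑ l : Fin (k x),
      (α x ≫ Limits.Sigma.π (fun _ : Fin (k x) => Coh.structureModule X) l) ≫
        (Limits.Sigma.ι (fun _ : Fin (k x) => Coh.structureModule X) l ≫ β x) =
      Formal.smulModΓ E (f x ^ c x) := by
    intro x
    have h1 : ∀ l : Fin (k x),
        (α x ≫ Limits.Sigma.π (fun _ : Fin (k x) => Coh.structureModule X) l) ≫
          (Limits.Sigma.ι (fun _ : Fin (k x) => Coh.structureModule X) l ≫ β x) =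
        α x ≫ (Limits.Sigma.π (fun _ : Fin (k x) => Coh.structureModule X) l ≫
          Limits.Sigma.ι (fun _ : Fin (k x) => Coh.structureModule X) l) ≫ β x := fun l => by
      simp only [Category.assoc]
    rw [Finset.sum_congr rfl (fun l _ => h1 l), ← Preadditive.comp_sum, ← Preadditive.sum_comp,
      PuncFree.sum_π_ι, Category.id_comp]
    exact hαβ x
  have hPi := (QAff.injective_toHHlim_iff I (Coh.structureModule X)).1 h.1
  have hPs := (QAff.surjective_toHHlim_iff I (Coh.structureModule X)).1 h.2
  exact ⟨(QAff.injective_toHHlim_iff I E).2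
      (QAff.secInj_of_factor I E (Coh.structureModule X) k _ _ f c hsum hcov hPi),
    (QAff.surjective_toHHlim_iff I E).2
      (QAff.secSurj_of_factor I E (Coh.structureModule X) k _ _ f c hsum hcov hPi hPs)⟩

end Groth.Agent.S0839
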