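import Groth.Statements.S0854
import Groth.Agent.Lib.Cohomology.Helper3_LocCohSh
import Groth.Agent.Lib.Cohomology.Helper3_RDerComp2
-- import your own Groth.Agent.* helpers here

set_option autoImplicit false
universe u
open CategoryTheory
open CohTop

namespace Groth.Agent.S0854

open CategoryTheory.Limits TopologicalSpace Opposite
open Groth.Agent.Lib.Cohomology

variable {X Y : TopCat.{u}} (f : X ⟶ Y) (V : Opens Y)

/-- the restriction of `f` over `V` -/
abbrev gres : TopCat.of ((Opens.map f).obj V) ⟶ TopCat.of V :=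
  TopCat.ofHom ⟨(V : Set Y).restrictPreimage f, f.hom.continuous.restrictPreimage⟩

/-- image functor for the open `V` -/
abbrev jV : Opens (TopCat.of V) ⥤ Opens Y := V.isOpenEmbedding.isOpenMap.functor

abbrev jV' : Opens (TopCat.of ((Opens.map f).obj V)) ⥤ Opens X :=
  ((Opens.map f).obj V).isOpenEmbedding.isOpenMap.functor

lemma obj_eq (W : Opens (TopCat.of V)) :
    (jV' f V).obj ((Opens.map (gres f V)).obj W) = (Opens.map f).obj ((jV V).obj W) := by
  ext x
  constructor
  · rintro ⟨y, hy, rfl⟩
    exact ⟨_, hy, rfl⟩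
  · rintro ⟨w, hw, hwx⟩
    have hx : x ∈ (Opens.map f).obj V := by
      show f x ∈ V
      rw [← hwx]; exact w.2
    refine ⟨⟨x, hx⟩, ?_, rfl⟩
    show (gres f V) ⟨x, hx⟩ ∈ W
    have : (gres f V) ⟨x, hx⟩ = w := Subtype.ext hwx.symm
    rw [this]; exact hw

/-- `(f_* F)|_V ≅ g_* (F|_{f⁻¹V})` as functors -/
noncomputable def zeroIso : CohTop.push f ⋙ CohTop.restrFunctor V ≅
    CohTop.restrFunctor ((Opens.map f).obj V) ⋙ CohTop.push (gres f V) :=
  haveI h1 : (jV V).IsContinuous (Opens.grothendieckTopology (TopCat.of V)) (Opens.grothendieckTopology Y) :=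
    V.isOpenEmbedding.functor_isContinuous
  haveI h2 : (jV' f V).IsContinuous (Opens.grothendieckTopology (TopCat.of ((Opens.map f).obj V)))
      (Opens.grothendieckTopology X) :=
    ((Opens.map f).obj V).isOpenEmbedding.functor_isContinuous
  haveI h3 : (Opens.map (gres f V)).IsContinuous (Opens.grothendieckTopology (TopCat.of V))
      (Opens.grothendieckTopology (TopCat.of ((Opens.map f).obj V))) :=
    instIsContinuousOpensCarrierMapGrothendieckTopology _
  haveI h4 : (jV V ⋙ Opens.map f).IsContinuous (Opens.grothendieckTopology (TopCat.of V))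
      (Opens.grothendieckTopology X) :=
    Functor.isContinuous_comp (jV V) (Opens.map f) _ (Opens.grothendieckTopology Y) _
  let e : Opens.map (gres f V) ⋙ jV' f V ≅ jV V ⋙ Opens.map f :=
    NatIso.ofComponents (fun W => eqToIso (obj_eq f V W)) (fun _ => Subsingleton.elim _ _)
  (Functor.sheafPushforwardContinuousComp' (A := AddCommGrpCat.{u}) (F := jV V) (G := Opens.map f)
      (Iso.refl (jV V ⋙ Opens.map f)) (Opens.grothendieckTopology (TopCat.of V))
      (Opens.grothendieckTopology Y) (Opens.grothendieckTopology X)) ≪≫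
    (Functor.sheafPushforwardContinuousComp' (A := AddCommGrpCat.{u}) (F := Opens.map (gres f V))
      (G := jV' f V) e (Opens.grothendieckTopology (TopCat.of V))
      (Opens.grothendieckTopology (TopCat.of ((Opens.map f).obj V)))
      (Opens.grothendieckTopology X)).symm

instance : (CohTop.push (gres f V)).Additive := ⟨rfl⟩

instance : PreservesFiniteLimits (CohTop.push (gres f V)) := push_preservesFiniteLimits (gres f V)

open TopologicalSpace in
/-- For abelian sheaves, one degree at a time: for a continuous map f : X -> Y, an abelian sheaf F on X,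
an open V of Y and g : f^{-1}(V) -> V the restriction of f, the restriction of R^p f_* F to V is
isomorphic to R^p g_* (F|_{f^{-1} V}). -/
theorem result {X Y : TopCat.{u}} (f : X ⟶ Y) (F : CohTop.Ab X)
    (V : Opens Y) (p : ℕ) :
    Nonempty (CohTop.restr ((CohTop.Rpush f p).obj F) V ≅
      (CohTop.Rpush (TopCat.ofHom ⟨(V : Set Y).restrictPreimage f, f.hom.continuous.restrictPreimage⟩ :
          TopCat.of ((Opens.map f).obj V) ⟶ TopCat.of V) p).obj
        (CohTop.restr F ((Opens.map f).obj V))) := by
  obtain ⟨e1⟩ := RDerComp.nonempty_rightDerived_post_iso (CohTop.push f) (CohTop.restrFunctor V) p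
  obtain ⟨e3⟩ := RDerComp.nonempty_rightDerived_comp_iso
    (CohTop.restrFunctor ((Opens.map f).obj V)) (CohTop.push (gres f V)) (fun n I hI => by
      have : TopCat.Sheaf.IsFlasque I := isFlasque_of_injective I
      have : TopCat.Sheaf.IsFlasque (CohTop.restr I ((Opens.map f).obj V)) :=
        Restr.isFlasque_restr _ I
      exact isZero_Rpush_succ_of_flasque (gres f V) (CohTop.restr I ((Opens.map f).obj V)) n) p
  exact ⟨(e1.symm ≪≫ RDerComp.rightDerivedIso (zeroIso f V) p ≪≫ e3).app F⟩

end Groth.Agent.S0854
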