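import Groth.Statements.S0860
import Groth.Agent.Lib.Cohomology.helper5_SiteCartan
import Groth.Agent.Lib.Cohomology.helper5_SiteCechFunctor
import Groth.Agent.Lib.Cohomology.helper5_SiteCechInj

set_option autoImplicit false
universe u
open CategoryTheory
open CohSite

namespace Groth.Agent.S0860

open CategoryTheory.Limits Opposite Groth.Agent.Lib.Cohomology.SiteCech
  Groth.Agent.Lib.Cohomology.SiteLeray

section
variable {C D : Type u} [SmallCategory C] [SmallCategory D] [HasPullbacks C] [HasPullbacks D]
  (u : C ⥤ D) [PreservesLimitsOfShape WalkingCospan u] (U : C)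

instance : PreservesLimitsOfShape (Discrete WalkingPair) (Over.post (X := U) u) := by
  have : PreservesLimitsOfShape (WidePullbackShape WalkingPair) u :=
    (inferInstance : PreservesLimitsOfShape WalkingCospan u)
  infer_instance

instance : PreservesLimitsOfShape (Discrete PEmpty.{1}) (Over.post (X := U) u) := by
  have : PreservesLimit (Functor.empty.{0} (Over U)) (Over.post (X := U) u) := by
    refine preservesLimit_of_preserves_limit_cone Over.mkIdTerminal
      ((isLimitMapConeEmptyConeEquiv _ _).symm ?_)
    exact IsTerminal.ofIso Over.mkIdTerminal (Over.isoMk (Iso.refl _)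
      (by change 𝟙 _ ≫ u.map (𝟙 U) = 𝟙 _; rw [u.map_id, Category.id_comp]))
  exact preservesLimitsOfShape_pempty_of_preservesTerminal _

instance : PreservesFiniteProducts (Over.post (X := U) u) :=
  PreservesFiniteProducts.of_preserves_binary_and_terminal _

end

open CategoryTheory.Limits in
/-- Let u : C -> D be a functor between sites with fibre products which sends coverings to coverings,
commutes with fibre products, and is continuous and cocontinuous, and let I be an injective abelian
sheaf on D. Then the sheaf V ↦ I(u(V)) on C (which is the pullback of I along the morphism of topoi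
attached to u) has H^p(U, -) = 0 for all p > 0 and all objects U of C. -/
theorem result {C D : Type u} [SmallCategory C]
    [SmallCategory D] [HasPullbacks C] [HasPullbacks D]
    (J : GrothendieckTopology C) (K : GrothendieckTopology D) (u : C ⥤ D)
    (hu : CoverPreserving J K u) [PreservesLimitsOfShape WalkingCospan u]
    [u.IsContinuous J K] [u.IsCocontinuous J K]
    (I : Sheaf K AddCommGrpCat.{u}) [Injective I] (U : C) (p : ℕ) :
    Subsingleton (CohSite.HU ((CohSite.push K J u).obj I) (p + 1) U) := by
  refine cartan (J := J) (B := Set.univ)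
    (Cov := fun U ι Y => Sieve.ofArrows (fun i => (Y i).left) (fun i => (Y i).hom) ∈ J U)
    (fun U ι Y hY => ⟨trivial, hY, fun _ _ => trivial⟩) ?_ p _ ?_ U trivial
  · intro U _ T hT
    refine ⟨(Σ V : C, {f : V ⟶ U // T.arrows f}), fun i => Over.mk i.2.1, ?_, fun i => i.2.2⟩
    refine J.superset_covering ?_ hT
    intro V f hf
    exact (Sieve.mem_ofArrows_iff _ _ _).2 ⟨⟨V, f, hf⟩, 𝟙 _, (Category.id_comp _).symm⟩
  · intro U ι Y _ p
    have h := (isZero_homology_iff (Over.post (X := U) u) (overRestr I.obj (u.obj U)) Y (p + 1)).2
      (isZero_cechH_of_injective_sheaf (imgFam (Over.post (X := U) u) Y) K I p)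
    exact h

end Groth.Agent.S0860
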