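import Groth.Statements.S0866
-- import your own Groth.Agent.* helpers here

set_option autoImplicit false
universe u
open CategoryTheory
open CohTop

namespace Groth.Agent.S0866

open TopologicalSpace Opposite TopCat


lemma sections_eq_of_eq_bot {D : TopCat.{u}} (G : TopCat.Sheaf AddCommGrpCat.{u} D) (V : Opens D) (hV : V = ⊥)
    (s t : ToType (G.1.obj (op V))) : s = t := by
  refine TopCat.Sheaf.eq_of_locally_eq' G (fun i : PEmpty.{1} => i.elim) V (fun i => i.elim) ?_ s t (fun i => i.elim)
  rw [hV]; exact bot_le

lemma isFlasque_of_discrete {D : TopCat.{u}} [DiscreteTopology D] (G : TopCat.Sheaf AddCommGrpCat.{u} D) :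
    TopCat.Sheaf.IsFlasque G where
  epi := by
    intro U V i
    rw [AddCommGrpCat.epi_iff_surjective]
    intro s
    let W : Bool → Opens D := fun b => if b then V.unop else ⟨(U.unop : Set D) \ (V.unop : Set D), isOpen_discrete _⟩
    have hle : V.unop ≤ U.unop := i.unop.le
    have iW : ∀ b, W b ⟶ U.unop := fun b => homOfLE (by
      cases b
      · intro x hx; exact hx.1
      · exact hle)
    have hcover : U.unop ≤ iSup W := by
      intro x hx
      by_cases hxV : x ∈ V.unop
      · exact Opens.mem_iSup.mpr ⟨true, hxV⟩
      · exact Opens.mem_iSup.mpr ⟨false, ⟨hx, hxV⟩⟩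
    let sf : ∀ b, ToType (G.1.obj (op (W b))) := fun b => match b with
      | true => s
      | false => 0
    have hcompat : TopCat.Presheaf.IsCompatible G.1 W sf := by
      intro a b
      cases a <;> cases b
      · rfl
      · apply sections_eq_of_eq_bot
        ext x
        simp only [Opens.coe_inf, Set.mem_inter_iff, SetLike.mem_coe, Opens.coe_bot, Set.mem_empty_iff_false, iff_false, not_and]
        rintro ⟨-, h1⟩ h2
        exact h1 h2
      · apply sections_eq_of_eq_bot
        ext x
        simp only [Opens.coe_inf, Set.mem_inter_iff, SetLike.mem_coe, Opens.coe_bot, Set.mem_empty_iff_false, iff_false, not_and]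
        rintro h2 ⟨-, h1⟩
        exact h1 h2
      · rfl
    obtain ⟨t, ht, -⟩ := TopCat.Sheaf.existsUnique_gluing' G W U.unop iW hcover sf hcompat
    refine ⟨t, ?_⟩
    have h1 : i = (iW true).op := Subsingleton.elim _ _
    rw [h1]
    exact ht true



variable {X : TopCat.{u}}

/-- the discrete space -/
abbrev Dsc (X : TopCat.{u}) : TopCat.{u} := TopCat.discrete.obj ((forget TopCat).obj X)

/-- presheaf of products of stalks on the discrete space -/
noncomputable def godementPresheaf (F : TopCat.Presheaf AddCommGrpCat.{u} X) :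
    TopCat.Presheaf AddCommGrpCat.{u} (Dsc X) where
  obj S := AddCommGrpCat.of (∀ x : S.unop, F.stalk (show X from x.1))
  map {S T} i := AddCommGrpCat.ofHom
    { toFun := fun s x => s ⟨x.1, i.unop.le x.2⟩
      map_zero' := rfl
      map_add' := fun _ _ => rfl }
  map_id _ := rfl
  map_comp _ _ := rfl

lemma godementPresheaf_isSheaf (F : TopCat.Presheaf AddCommGrpCat.{u} X) :
    (godementPresheaf F).IsSheaf := by
  rw [TopCat.Presheaf.isSheaf_iff_isSheafUniqueGluing]
  intro ι U sf hsf
  have hmem : ∀ x : (iSup U : Opens (Dsc X)), ∃ i, x.1 ∈ U i := fun x => Opens.mem_iSup.mp x.2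
  choose idx hidx using hmem
  have key : ∀ (i j : ι) (x : Dsc X) (hi : x ∈ U i) (hj : x ∈ U j), sf i ⟨x, hi⟩ = sf j ⟨x, hj⟩ := by
    intro i j x hi hj
    have := congrFun (hsf i j) ⟨x, ⟨hi, hj⟩⟩
    exact this
  refine ⟨fun x => sf (idx x) ⟨x.1, hidx x⟩, ?_, ?_⟩
  · intro j
    funext x
    exact key _ _ _ _ _
  · intro t ht
    funext x
    have := congrFun (ht (idx x)) ⟨x.1, hidx x⟩
    exact this

/-- the Godement sheaf on the discrete space -/
noncomputable def godementSheaf (F : TopCat.Sheaf AddCommGrpCat.{u} X) : TopCat.Sheaf AddCommGrpCat.{u} (Dsc X) :=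
  ⟨godementPresheaf F.1, godementPresheaf_isSheaf F.1⟩

/-- the map -/
abbrev fD (X : TopCat.{u}) : Dsc X ⟶ X := TopCat.adj₁.counit.app X

/-- the germ embedding -/
noncomputable def germEmb (F : TopCat.Sheaf AddCommGrpCat.{u} X) :
    F ⟶ (TopCat.Sheaf.pushforward AddCommGrpCat.{u} (fD X)).obj (godementSheaf F) :=
  ⟨{ app := fun U => AddCommGrpCat.ofHom
      { toFun := fun s x => F.presheaf.germ U.unop (show X from x.1) x.2 s
        map_zero' := by funext x; exact map_zero _
        map_add' := fun a b => by funext x; exact map_add _ _ _ }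
     naturality := by
      intro U V i
      ext s
      funext x
      exact (TopCat.Presheaf.germ_res_apply F.presheaf i.unop (show X from x.1) x.2 s) }⟩

lemma germEmb_mono (F : TopCat.Sheaf AddCommGrpCat.{u} X) : Mono (germEmb F) := by
  apply (config := {allowSynthFailures := true}) Sheaf.Hom.mono_of_presheaf_mono
  apply (config := {allowSynthFailures := true}) NatTrans.mono_of_mono_app
  intro U
  rw [AddCommGrpCat.mono_iff_injective]
  intro s t hst
  apply TopCat.Presheaf.section_ext F U.unop
  intro x hx
  exact congrFun hst ⟨x, hx⟩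


lemma mono_unit_of_mono {C D : Type*} [Category C] [Category D] {L : C ⥤ D} {R : D ⥤ C}
    (adj : L ⊣ R) {F : C} {G : D} (m : F ⟶ R.obj G) [Mono m] : Mono (adj.unit.app F) := by
  have h : adj.unit.app F ≫ R.map ((adj.homEquiv F G).symm m) = m := by
    have := adj.homEquiv_unit (f := (adj.homEquiv F G).symm m)
    rw [Equiv.apply_symm_apply] at this
    exact this.symm
  have : Mono (adj.unit.app F ≫ R.map ((adj.homEquiv F G).symm m)) := by rw [h]; infer_instance
  exact mono_of_mono _ (R.map ((adj.homEquiv F G).symm m))

/-- The first step of the Godement resolution, for abelian sheaves: let f : X_disc -> X be the identity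
map from X with the discrete topology. For an abelian sheaf F on X, the adjunction unit F -> f_*
f^{-1} F is a monomorphism and f_* f^{-1} F is a flasque sheaf. (The source builds the whole
functorial flasque resolution by iterating f_* f^{-1} and proves it is a stalkwise homotopy
equivalence; only this first step is asserted here.) -/
theorem result {X : TopCat.{u}} (F : CohTop.Ab X) :
    Mono ((TopCat.Sheaf.pullbackPushforwardAdjunction AddCommGrpCat.{u}
      (TopCat.adj₁.counit.app X)).unit.app F) ∧
    TopCat.Sheaf.IsFlasque ((CohTop.push (TopCat.adj₁.counit.app X)).obj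
      ((CohTop.pull (TopCat.adj₁.counit.app X)).obj F)) := by
  constructor
  · have := germEmb_mono F
    exact mono_unit_of_mono (TopCat.Sheaf.pullbackPushforwardAdjunction AddCommGrpCat.{u}
      (TopCat.adj₁.counit.app X)) (G := godementSheaf F) (germEmb F)
  · have : TopCat.Sheaf.IsFlasque ((CohTop.pull (TopCat.adj₁.counit.app X)).obj F) :=
      isFlasque_of_discrete (D := Dsc X) _
    exact TopCat.Sheaf.IsFlasque.pushforward_isFlasque _ _

end Groth.Agent.S0866
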