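import Groth.Statements.S0883
import Groth.Agent.Lib.Helper34.HDMain

set_option autoImplicit false
universe u
open CategoryTheory
open CohTop

namespace Groth.Agent.S0883

open TopologicalSpace in
/-- Part (1) (abelian sheaves; the assertion about Rf_* K is not included): given a continuous map f : X
-> Y, a basis B of opens of Y and an object K of the derived category of abelian sheaves on X such
that H^i(f^{-1}V, K) = 0 for all i < 0 and V in B. Then H^i(f^{-1}V, K) = 0 for i < 0 and every open
V of Y, and the presheaf V ↦ H^0(f^{-1}V, K) is a sheaf on Y. -/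
theorem result {X Y : TopCat.{u}} (f : X ⟶ Y)
    [HasDerivedCategory.{u} (CohTop.Ab X)] (B : Set (Opens Y)) (hB : Opens.IsBasis B)
    (K : DerivedCategory (CohTop.Ab X))
    (h : ∀ V ∈ B, ∀ i : ℤ, i < 0 → Subsingleton (CohCx.HDU K i ((Opens.map f).obj V))) :
    (∀ (V : Opens Y) (i : ℤ), i < 0 → Subsingleton (CohCx.HDU K i ((Opens.map f).obj V))) ∧
    Presheaf.IsSheaf (Opens.grothendieckTopology Y) ((Opens.map f).op ⋙ CohCx.HDUPresheaf K 0) := by
  letI : HasDerivedCategory.{u + 1} (CohTop.Ab Y) := HasDerivedCategory.standard _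
  have h' : ∀ V ∈ B, ∀ i : ℤ, i < 0 →
      ∀ x : Groth.Agent.Lib.Helper68.HZeroLocal.S.obj
          (Groth.Agent.Lib.Helper34.HDBasis.Zs (Groth.Agent.Lib.Helper34.HDPull.fV f V)) ⟶
        (shiftFunctor (DerivedCategory (CohTop.Ab X)) i).obj K, x = 0 := by
    intro V hV i hi x
    haveI := h V hV i hi
    exact Subsingleton.elim (α := CohCx.HDU K i ((Opens.map f).obj V)) _ _
  refine ⟨fun V i hi => ⟨fun x y => ?_⟩, Groth.Agent.Lib.Helper34.HDMain.isSheaf f B hB K h'⟩
  rw [Groth.Agent.Lib.Helper34.HDMain.vanishing f B hB K h' V i hi x,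
    Groth.Agent.Lib.Helper34.HDMain.vanishing f B hB K h' V i hi y]

end Groth.Agent.S0883
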