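import Groth.Statements.S0891
import Groth.Agent.Lib.Helper94.LocInj
import Groth.Agent.Lib.Helper4.ExtZeroExact
import Groth.Agent.Lib.QCoh.TensorRestrict
import Groth.Agent.Lib.QCoh.TensorColim

set_option autoImplicit false
universe u
open CategoryTheory
open Coh

namespace Groth.Agent.S0891

open AlgebraicGeometry in
/-- On a scheme X, let I be an injective 𝒪_X-module and E a finite locally free 𝒪_X-module. Then E ⊗ I
is an injective 𝒪_X-module. (The published statement is for ringed spaces; it is stated here for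
schemes.) -/
theorem result {X : Scheme.{u}} (I E : X.Modules) [Injective I]
    (hE : FlatMod.IsFinLocFree E) : Injective (CohB1.tensorMod E I) := by
  open CategoryTheory.Limits Groth.Agent.Lib.QCoh in
  apply Groth.Agent.Lib.Helper94.LocInj.injective_of_locally_injective
  intro x
  obtain ⟨U, n, hxU, ⟨e⟩⟩ := hE x
  refine ⟨U, hxU, ?_⟩
  have hI' : Injective (I.restrict U.ι) :=
    Groth.Agent.Lib.Helper4.ExtZeroExact.injective_restrict X U I inferInstance
  let I' : (↑U : Scheme.{u}).Modules := I.restrict U.ι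
  -- `(E ⊗ I)|_U ≅ E|_U ⊗ I|_U ≅ O_U^n ⊗ I|_U`
  let e1 : (CohB1.tensorMod E I).restrict U.ι ≅ CohB1.tensorMod (FlatMod.freeMod (↑U) n) I' :=
    restrictTensorModIso U.ι E I ≪≫ tensorModCongr e (Iso.refl _)
  -- `O_U^n ⊗ I' ≅ ∐ (O_U ⊗ I') ≅ ∐ I'`
  let e2 : CohB1.tensorMod (FlatMod.freeMod (↑U) n) I' ≅
      ∐ fun _ : Fin n => (tensorRightFunctor I').obj (Coh.structureModule (↑U : Scheme.{u})) :=
    PreservesCoproduct.iso (tensorRightFunctor I') (fun _ : Fin n => Coh.structureModule (↑U : Scheme.{u}))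
  let e3 : (∐ fun _ : Fin n => (tensorRightFunctor I').obj (Coh.structureModule (↑U : Scheme.{u}))) ≅
      ∐ fun _ : Fin n => I' :=
    Sigma.mapIso (fun _ => tensorModLeftUnitor I')
  haveI : HasFiniteBiproducts (↑U : Scheme.{u}).Modules := Abelian.hasFiniteBiproducts
  haveI : HasBiproductsOfShape (Fin n) (↑U : Scheme.{u}).Modules := hasBiproductsOfShape_finite _
  haveI : HasBiproduct (fun _ : Fin n => I') := HasBiproductsOfShape.has_biproduct _
  let e4 : (∐ fun _ : Fin n => I') ≅ ⨁ fun _ : Fin n => I' :=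
    (biproduct.isoCoproduct _).symm
  haveI : ∀ _ : Fin n, Injective I' := fun _ => hI'
  haveI : Injective (⨁ fun _ : Fin n => I') := inferInstance
  exact Injective.of_iso (e1 ≪≫ e2 ≪≫ e3 ≪≫ e4).symm inferInstance

end Groth.Agent.S0891
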