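import Groth.Statements.S0901
import Groth.Agent.S0455
import Groth.Agent.Lib.Cohomology.helper5_SiteCechFunctor
import Mathlib.Topology.Sheaves.SheafCondition.Sites

set_option autoImplicit false
universe u
open CategoryTheory
open CohTop

namespace Groth.Agent.S0901

section Helpers
open CategoryTheory.Limits TopologicalSpace Opposite

variable {X : TopCat.{u}} {ι : Type u} (U : ι → Opens X)

/-- the auxiliary space: subsets of the index set, with the topology generated by `{A | i ∈ A}` -/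
def Aux (ι : Type u) : Type u := Set ι

instance : TopologicalSpace (Aux ι) :=
  TopologicalSpace.generateFrom (Set.range fun i : ι => {A : Set ι | i ∈ A})

/-- the subbasic opens -/
def Yo (i : ι) : Opens (TopCat.of (Aux ι)) :=
  ⟨{A : Set ι | i ∈ A}, TopologicalSpace.isOpen_generateFrom_of_mem ⟨i, rfl⟩⟩

/-- the classifying map -/
def fmap : X ⟶ TopCat.of (Aux ι) :=
  TopCat.ofHom ⟨fun x => ({i | x ∈ U i} : Set ι), by
    refine continuous_generateFrom_iff.2 ?_
    rintro _ ⟨i, rfl⟩
    exact (U i).isOpen⟩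

lemma map_Yo (i : ι) : (Opens.map (fmap U)).obj (Yo i) = U i := by
  ext x
  rfl

/-- every point of an open of `Aux ι` has a subbasic neighbourhood inside, given by a tuple -/
lemma exists_tuple (V : Opens (TopCat.of (Aux ι))) (x : X) (hx : fmap U x ∈ V) (hxU : x ∈ iSup U) :
    ∃ (p : ℕ) (t : Fin (p + 1) → ι), (∀ j, x ∈ U (t j)) ∧ (⨅ j, Yo (t j)) ≤ V := by
  obtain ⟨i₀, hi₀⟩ := Opens.mem_iSup.1 hxU
  have key : ∀ S : Set (Set (Aux ι)), S.Finite →
      S ⊆ (Set.range fun i : ι => {A : Set ι | i ∈ A}) →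
      (fmap U x : Aux ι) ∈ ⋂₀ S →
      ∃ (p : ℕ) (t : Fin (p + 1) → ι), (∀ j, x ∈ U (t j)) ∧
        ∀ A : Set ι, (∀ j, t j ∈ A) → (show Aux ι from A) ∈ ⋂₀ S := by
    intro S hS
    induction S, hS using Set.Finite.induction_on with
    | empty =>
      intro _ _
      exact ⟨0, fun _ => i₀, fun _ => hi₀, fun A _ => by simp⟩
    | @insert s S hs hSf ih =>
      intro hsub hmem
      obtain ⟨i, rfl⟩ := hsub (Set.mem_insert _ _)
      have hxi : x ∈ U i := hmem _ (Set.mem_insert _ _)
      obtain ⟨p, t, ht1, ht2⟩ := ih (fun a ha => hsub (Set.mem_insert_of_mem _ ha))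
        (fun a ha => hmem a (Set.mem_insert_of_mem _ ha))
      refine ⟨p + 1, Fin.cons i t, ?_, ?_⟩
      · intro j
        refine Fin.cases ?_ (fun k => ?_) j
        · simpa using hxi
        · simpa using ht1 k
      · intro A hA a ha
        rcases ha with rfl | ha
        · have h0 : i ∈ A := by simpa using hA 0
          exact h0
        · exact ht2 A (fun j => by simpa using hA j.succ) a ha
  have hb := TopologicalSpace.isTopologicalBasis_of_subbasis
    (rfl : (inferInstance : TopologicalSpace (Aux ι)) = _)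
  obtain ⟨v, ⟨S, ⟨hSf, hSsub⟩, rfl⟩, hxv, hvV⟩ := hb.exists_subset_of_mem_open hx V.isOpen
  obtain ⟨p, t, ht1, ht2⟩ := key S hSf hSsub hxv
  refine ⟨p, t, ht1, ?_⟩
  intro A hA
  refine hvV (ht2 A fun j => ?_)
  exact (iInf_le (fun j => Yo (t j)) j) hA


lemma mem_iInf_fin {Z : Type*} [TopologicalSpace Z] {n : ℕ} (W : Fin n → Opens Z) (z : Z) :
    z ∈ (⨅ j, W j) ↔ ∀ j, z ∈ W j := by
  rw [← SetLike.mem_coe, Opens.coe_iInf]
  simp

variable (F : CohTop.Ab X)

/-- inclusion of the open subspace `⋃ U_i` -/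
def jmap : TopCat.of ↥(iSup U) ⟶ X := TopCat.ofHom ⟨Subtype.val, continuous_subtype_val⟩

/-- `j_* j^* F` -/
noncomputable def F' : CohTop.Ab X := (CohTop.push (jmap U)).obj (CohTop.restr F (iSup U))

/-- the open `W ∩ ⋃ U_i`, in the form in which it appears in `F'` -/
noncomputable def cut (W : Opens X) : Opens X :=
  (iSup U).isOpenEmbedding.isOpenMap.functor.obj ((Opens.map (jmap U)).obj W)

lemma F'_obj (W : Opens X) : (F' U F).obj.obj (op W) = F.obj.obj (op (cut U W)) := rfl

lemma mem_cut (W : Opens X) (x : X) : x ∈ cut U W ↔ x ∈ W ∧ x ∈ iSup U := by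
  constructor
  · rintro ⟨y, hy, rfl⟩
    exact ⟨hy, y.2⟩
  · rintro ⟨h1, h2⟩
    exact ⟨⟨x, h2⟩, h1, rfl⟩

lemma cut_le (W : Opens X) : cut U W ≤ W := fun x hx => ((mem_cut U W x).1 hx).1

lemma cut_le_iSup (W : Opens X) : cut U W ≤ iSup U := fun x hx => ((mem_cut U W x).1 hx).2

lemma cut_eq_of_le (W : Opens X) (h : W ≤ iSup U) : cut U W = W :=
  le_antisymm (cut_le U W) fun x hx => (mem_cut U W x).2 ⟨hx, h hx⟩


/-- index type of the tuples whose basic open lies in `V` -/
def Tup (V : Opens (TopCat.of (Aux ι))) : Type u :=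
  {st : (Σ p : ℕ, Fin (p + 1) → ι) // (⨅ j, Yo (st.2 j)) ≤ V}

lemma cut_map_eq (V : Opens (TopCat.of (Aux ι))) :
    cut U ((Opens.map (fmap U)).obj V) =
      ⨆ k : Tup V, ⨅ j, U ((k.1).2 j) := by
  ext x
  rw [SetLike.mem_coe, SetLike.mem_coe, mem_cut]
  constructor
  · rintro ⟨h1, h2⟩
    obtain ⟨p, t, ht1, ht2⟩ := exists_tuple U V x h1 h2
    exact Opens.mem_iSup.2 ⟨⟨⟨p, t⟩, ht2⟩, (mem_iInf_fin _ _).2 ht1⟩
  · intro hx0
    obtain ⟨⟨⟨p, t⟩, hk⟩, hx⟩ := Opens.mem_iSup.1 hx0
    have hx' := (mem_iInf_fin _ _).1 hx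
    refine ⟨hk ?_, Opens.mem_iSup.2 ⟨t 0, hx' 0⟩⟩
    exact (mem_iInf_fin _ _).2 fun j => hx' j

variable (h : ∀ (κ : Type u) (a : κ → Σ p : ℕ, Fin (p + 1) → ι),
      Function.Surjective (F.obj.map (homOfLE
        (iSup_le fun k => (iInf_le _ ⟨0, Nat.succ_pos _⟩).trans (le_iSup U ((a k).2 ⟨0, Nat.succ_pos _⟩)) :
          (⨆ k, ⨅ j, U ((a k).2 j)) ≤ iSup U)).op))

include h in
lemma surj_of_eq (A B : Opens X) (hAB : A ≤ B) (hB : B ≤ iSup U) (κ : Type u)
    (a : κ → Σ p : ℕ, Fin (p + 1) → ι) (hA : A = ⨆ k, ⨅ j, U ((a k).2 j)) :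
    Function.Surjective (F.obj.map (homOfLE hAB).op) := by
  subst hA
  have h1 := h κ a
  have h2 : F.obj.map (homOfLE (hAB.trans hB)).op =
      F.obj.map (homOfLE hB).op ≫ F.obj.map (homOfLE hAB).op := by
    rw [← F.obj.map_comp]
    rfl
  have h3 : Function.Surjective (F.obj.map (homOfLE (hAB.trans hB)).op) := h1
  rw [h2] at h3
  intro y
  obtain ⟨z, hz⟩ := h3 y
  exact ⟨F.obj.map (homOfLE hB).op z, hz⟩

/-- the pushforward to the auxiliary space -/
noncomputable def G : CohTop.Ab (TopCat.of (Aux ι)) := (CohTop.push (fmap U)).obj (F' U F)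

include h in
lemma isFlasque_G : TopCat.Sheaf.IsFlasque (G U F) := by
  constructor
  intro V V' i
  rw [AddCommGrpCat.epi_iff_surjective]
  have hle : cut U ((Opens.map (fmap U)).obj V'.unop) ≤ cut U ((Opens.map (fmap U)).obj V.unop) := by
    intro x hx
    rw [mem_cut] at hx ⊢
    exact ⟨i.unop.le hx.1, hx.2⟩
  have := surj_of_eq U F h _ _ hle (cut_le_iSup U _) (Tup V'.unop) (fun k => k.1)
    (cut_map_eq U V'.unop)
  exact this


open Groth.Agent.Lib.Cohomology.SiteCech

/-- the canonical map `F → j_* j^* F` of presheaves -/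
noncomputable def η : F.obj ⟶ (F' U F).obj where
  app W := F.obj.map (homOfLE (cut_le U W.unop)).op
  naturality W W' φ := by
    change F.obj.map φ ≫ F.obj.map _ = F.obj.map _ ≫ F.obj.map _
    rw [← F.obj.map_comp, ← F.obj.map_comp]
    congr 1

lemma isIso_η_app (W : Opens X) (hW : W ≤ iSup U) : IsIso ((η U F).app (op W)) := by
  have he : W ≤ cut U W := (cut_eq_of_le U W hW).ge
  refine ⟨F.obj.map (homOfLE he).op, ?_, ?_⟩
  · refine (F.obj.map_comp _ _).symm.trans (Eq.trans ?_ (F.obj.map_id (op W)))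
    congr 1
  · refine (F.obj.map_comp _ _).symm.trans (Eq.trans ?_ (F.obj.map_id (op (cut U W))))
    congr 1

lemma inter_le_iSup {n : ℕ} (i : Fin (n + 1) → ι) : inter U i ≤ iSup U :=
  (Pi.π (U ∘ i) 0).le.trans (le_iSup U (i 0))

instance isIso_cech_η : IsIso ((cechComplexFunctor U).map (η U F)) := by
  have : ∀ n, IsIso (((cechComplexFunctor U).map (η U F)).f n) := by
    intro n
    have : ∀ i : Fin (n + 1) → ι, IsIso ((η U F).app (op (inter U i))) :=
      fun i => isIso_η_app U F _ (inter_le_iSup U i)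
    exact Limits.Pi.map_isIso (fun i : Fin (n + 1) → ι => (η U F).app (op (inter U i)))
  exact HomologicalComplex.Hom.isIso_of_components _

instance : PreservesFiniteProducts (Opens.map (fmap U)) := by
  have : RepresentablyFlat (Opens.map (fmap U)) := instRepresentablyFlatOpensCarrierMap (fmap U)
  have : PreservesFiniteLimits (Opens.map (fmap U)) := preservesFiniteLimits_of_flat _
  infer_instance

include h in
theorem main (p : ℕ) : IsZero (CohTop.cechH F.obj U (p + 1)) := by
  have := isFlasque_G U F h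
  have h1 : IsZero (CohTop.cechH (G U F).obj (Yo (ι := ι)) (p + 1)) :=
    Groth.Agent.S0455.result (G U F) Yo p
  have h2 := (isZero_homology_iff (Opens.map (fmap U)) (F' U F).obj (Yo (ι := ι)) (p + 1)).1 h1
  have hfam : imgFam (Opens.map (fmap U)) (Yo (ι := ι)) = U := funext (map_Yo U)
  rw [hfam] at h2
  exact (Iso.isZero_iff ((HomologicalComplex.homologyFunctor _ _ (p + 1)).mapIso
    (asIso ((cechComplexFunctor U).map (η U F))))).2 h2

end Helpers


open TopologicalSpace Opposite CategoryTheory.Limits in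
/-- Let F be an abelian sheaf on X and U_i a family of opens with union U. Assume that for every union
U' of opens of the form U_{i_0} ∩ ... ∩ U_{i_p} the restriction map F(U) -> F(U') is surjective.
Then the Cech cohomology of F with respect to the family vanishes in all positive degrees. -/
theorem result {X : TopCat.{u}} (F : CohTop.Ab X)
    {ι : Type u} (U : ι → Opens X)
    (h : ∀ (κ : Type u) (a : κ → Σ p : ℕ, Fin (p + 1) → ι),
      Function.Surjective (F.obj.map (homOfLE
        (iSup_le fun k => (iInf_le _ ⟨0, Nat.succ_pos _⟩).trans (le_iSup U ((a k).2 ⟨0, Nat.succ_pos _⟩)) :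
          (⨆ k, ⨅ j, U ((a k).2 j)) ≤ iSup U)).op)) (p : ℕ) :
    IsZero (CohTop.cechH F.obj U (p + 1)) := by
  exact main U F h p

end Groth.Agent.S0901
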