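import Groth.Statements.S0905
import Mathlib.CategoryTheory.Sites.EpiMono
import Mathlib.CategoryTheory.Sites.Adjunction
import Mathlib.Algebra.Homology.ShortComplex.ExactFunctor
import Mathlib.Algebra.Homology.DerivedCategory.Ext.EnoughProjectives

set_option autoImplicit false
universe u
open CategoryTheory
open CohSite

namespace Groth.Agent.S0905

section Helpers
open Opposite Limits

variable {C : Type u} [SmallCategory C] (J : GrothendieckTopology C)

/-- sections over a weakly contractible object are surjective along epis of abelian sheaves -/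
theorem surj_of_epi (U : C) (hU : CohSite.IsWeaklyContractible J U)
    {F G : Sheaf J AddCommGrpCat.{u}} (e : F ⟶ G) [Epi e] :
    Function.Surjective (e.hom.app (op U)) := by
  have h1 : Sheaf.IsLocallySurjective e := (Sheaf.isLocallySurjective_iff_epi' (φ := e)).2 inferInstance
  have h2 : Sheaf.IsLocallySurjective ((sheafCompose J (forget AddCommGrpCat.{u})).map e) := inferInstance
  have h3 : Epi ((sheafCompose J (forget AddCommGrpCat.{u})).map e) := inferInstance
  exact hU _ _ _ h3

/-- The composite adjunction (free abelian sheaf on a presheaf of sets) ⊣ (underlying presheaf of sets). -/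
noncomputable def adj :
    (Functor.whiskeringRight Cᵒᵖ _ _).obj AddCommGrpCat.free.{u} ⋙ presheafToSheaf J AddCommGrpCat.{u} ⊣
      sheafToPresheaf J AddCommGrpCat.{u} ⋙ (Functor.whiskeringRight Cᵒᵖ _ _).obj (forget AddCommGrpCat.{u}) :=
  (AddCommGrpCat.adj.whiskerRight Cᵒᵖ).comp (sheafificationAdjunction J AddCommGrpCat.{u})

theorem projective_freeSheaf (U : C) (hU : CohSite.IsWeaklyContractible J U) :
    Projective ((presheafToSheaf J AddCommGrpCat.{u}).obj (yoneda.obj U ⋙ AddCommGrpCat.free.{u})) := by
  constructor
  intro E X f e he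
  let s := yonedaEquiv ((adj J).homEquiv (yoneda.obj U) X f)
  obtain ⟨t, ht⟩ := surj_of_epi J U hU e s
  refine ⟨((adj J).homEquiv (yoneda.obj U) E).symm (yonedaEquiv.symm t), ?_⟩
  apply ((adj J).homEquiv (yoneda.obj U) X).injective
  rw [Adjunction.homEquiv_naturality_right, Equiv.apply_symm_apply]
  apply yonedaEquiv.injective
  rw [yonedaEquiv_comp, Equiv.apply_symm_apply]
  exact ht


theorem part2 (U : C) (hU : CohSite.IsWeaklyContractible J U)
    (F : Sheaf J AddCommGrpCat.{u}) (p : ℕ) : Subsingleton (CohSite.HU F (p + 1) U) := by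
  have := projective_freeSheaf J U hU
  refine ⟨fun a b => ?_⟩
  have ha : ∀ x : Abelian.Ext ((presheafToSheaf J AddCommGrpCat.{u}).obj
      (yoneda.obj U ⋙ AddCommGrpCat.free.{u})) F (p + 1), x = 0 :=
    fun x => Abelian.Ext.eq_zero_of_projective x
  exact (ha a).trans (ha b).symm

instance (U : C) : (sheafToPresheaf J AddCommGrpCat.{u} ⋙ (evaluation Cᵒᵖ AddCommGrpCat.{u}).obj (op U)).Additive where

theorem part1 (U : C) (hU : CohSite.IsWeaklyContractible J U) :
    PreservesFiniteColimits
      (sheafToPresheaf J AddCommGrpCat.{u} ⋙ (evaluation Cᵒᵖ AddCommGrpCat.{u}).obj (op U)) := by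
  rw [Functor.preservesFiniteColimits_iff_forall_exact_map_and_epi]
  intro S hS
  have hlim : PreservesFiniteLimits
      (sheafToPresheaf J AddCommGrpCat.{u} ⋙ (evaluation Cᵒᵖ AddCommGrpCat.{u}).obj (op U)) :=
    inferInstance
  refine ⟨((Functor.preservesFiniteLimits_iff_forall_exact_map_and_mono _).1 hlim S hS).1, ?_⟩
  have := hS.epi_g
  rw [AddCommGrpCat.epi_iff_surjective]
  exact surj_of_epi J U hU S.g


end Helpers


open Opposite CategoryTheory.Limits in
/-- Parts (1) and (2), for a weakly contractible object U of a site (one over which every epimorphism of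
sheaves of sets is surjective on sections): (1) the functor F ↦ F(U) from abelian sheaves to abelian
groups preserves finite colimits (it is exact, finite limits being automatic), and (2) H^p(U, F) = 0
for every abelian sheaf F and every p > 0. (Part (3) about torsors is not included.) -/
theorem result {C : Type u} [SmallCategory C] (J : GrothendieckTopology C)
    (U : C) (hU : CohSite.IsWeaklyContractible J U) :
    PreservesFiniteColimits (sheafToPresheaf J AddCommGrpCat.{u} ⋙ (evaluation Cᵒᵖ AddCommGrpCat.{u}).obj (op U)) ∧
    ∀ (F : Sheaf J AddCommGrpCat.{u}) (p : ℕ), Subsingleton (CohSite.HU F (p + 1) U) := by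
  exact ⟨part1 J U hU, fun F p => part2 J U hU F p⟩

end Groth.Agent.S0905
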