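import Groth.Statements.S0915
import Groth.Agent.Lib.Helper94.KFlatDerScheme

set_option autoImplicit false
universe u
open CategoryTheory
attribute [local instance] HasDerivedCategory.standard
open DCoh

namespace Groth.Agent.S0915

open AlgebraicGeometry CategoryTheory.Limits in
/-- On a scheme X, let K and L be objects of D(𝒪_X). If K ⊕ L has tor-amplitude in [a, b] then K and L
each have tor-amplitude in [a, b]. (The hypothesis is taken in the flat-representative form and the
conclusion in the derived-tensor form.) -/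
theorem result {X : Scheme.{u}} (K L : DCoh.D X) [HasBinaryBiproduct K L] (a b : ℤ)
    (h : DCoh.HasFlatAmplitudeIn a b (K ⊞ L)) : DCoh.HasTorAmplitudeIn a b K ∧ DCoh.HasTorAmplitudeIn a b L := by
  obtain ⟨E, hE, hflat, ⟨e⟩⟩ := h
  have hKF : Groth.Agent.Lib.Helper94.KFlatDerScheme.KF E :=
    Groth.Agent.Lib.Helper94.KFlatDerScheme.kf_of_bounded_above_flat E b
      (fun n hn => hE n (Or.inr hn)) hflat
  -- the key vanishing for `K ⊞ L`
  have key : ∀ (F : X.Modules) [DCoh.HasLTensorMod F] (i : ℤ), (i < a ∨ b < i) →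
      IsZero (DCoh.HD ((DCoh.LTensorMod F).obj (K ⊞ L)) i) := by
    intro F _ i hi
    refine IsZero.of_iso
      (Groth.Agent.Lib.Helper94.KFlatDerScheme.isZero_hd_lTensorMod F E hKF i (hE i hi))
      ((DerivedCategory.homologyFunctor X.Modules i).mapIso ((DCoh.LTensorMod F).mapIso e.symm))
  -- retracts of zero objects are zero
  have retract : ∀ {A B : DCoh.D X} (s : A ⟶ B) (r : B ⟶ A), s ≫ r = 𝟙 A →
      ∀ (F : X.Modules) [DCoh.HasLTensorMod F] (i : ℤ),
        IsZero (DCoh.HD ((DCoh.LTensorMod F).obj B) i) →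
        IsZero (DCoh.HD ((DCoh.LTensorMod F).obj A) i) := by
    intro A B s r hsr F _ i hB
    rw [IsZero.iff_id_eq_zero]
    have h1 : (DerivedCategory.homologyFunctor X.Modules i).map ((DCoh.LTensorMod F).map s) ≫
        (DerivedCategory.homologyFunctor X.Modules i).map ((DCoh.LTensorMod F).map r) = 𝟙 _ := by
      rw [← CategoryTheory.Functor.map_comp, ← CategoryTheory.Functor.map_comp, hsr,
        CategoryTheory.Functor.map_id, CategoryTheory.Functor.map_id]
    rw [← h1, hB.eq_of_tgt ((DerivedCategory.homologyFunctor X.Modules i).map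
      ((DCoh.LTensorMod F).map s)) 0, zero_comp]
  refine ⟨fun F _ i hi => ?_, fun F _ i hi => ?_⟩
  · exact retract biprod.inl biprod.fst biprod.inl_fst F i (key F i hi)
  · exact retract biprod.inr biprod.snd biprod.inr_snd F i (key F i hi)

end Groth.Agent.S0915
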