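import Groth.Statements.S0916
import Groth.Agent.Lib.Helper94.FlatResScheme

set_option autoImplicit false
universe u
open CategoryTheory
attribute [local instance] HasDerivedCategory.standard
open DCoh

namespace Groth.Agent.S0916

open AlgebraicGeometry CategoryTheory.Limits in
/-- Flatness of an O_X-module F (all stalks flat) is equivalent to the following Tor-vanishing: for
every O_X-module G the sheaf Tor_1(F, G), i.e. H^{-1} of F ⊗^L G, vanishes; the existence of the
derived tensor product with every G is assumed (hypothesis hL). -/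
theorem result {X : Scheme.{u}} (F : X.Modules) (hL : ∀ G : X.Modules, DCoh.HasLTensorMod G) :
    FlatMod.IsFlat F ↔ ∀ (G : X.Modules) [DCoh.HasLTensorMod G],
      IsZero (DCoh.HD ((DCoh.LTensorMod G).obj (DCoh.inD X F)) (-1)) := by
  -- `inD F` is the image of the complex `F[0]`
  have eF : DCoh.inD X F ≅
      DCoh.toD X ((HomologicalComplex.single X.Modules (ComplexShape.up ℤ) 0).obj F) :=
    (DerivedCategory.singleFunctorIsoCompQ X.Modules 0).app F
  constructor
  · intro hF G _
    let E : CochainComplex X.Modules ℤ :=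
      (HomologicalComplex.single X.Modules (ComplexShape.up ℤ) 0).obj F
    have hE0 : ∀ i : ℤ, 0 < i → IsZero (E.X i) := fun i hi =>
      HomologicalComplex.isZero_single_obj_X (ComplexShape.up ℤ) 0 F i (by omega)
    have hEflat : ∀ i : ℤ, FlatMod.IsFlat (E.X i) := by
      intro i
      by_cases hi : i = 0
      · subst hi
        exact Groth.Agent.Lib.Helper94.FlatResScheme.isFlat_of_iso
          (HomologicalComplex.singleObjXSelf (ComplexShape.up ℤ) 0 F).symm hF
      · exact Groth.Agent.Lib.Helper94.FlatResScheme.isFlat_of_isZero _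
          (HomologicalComplex.isZero_single_obj_X (ComplexShape.up ℤ) 0 F i hi)
    have hKF : Groth.Agent.Lib.Helper94.KFlatDerScheme.KF E :=
      Groth.Agent.Lib.Helper94.KFlatDerScheme.kf_of_bounded_above_flat E 0 hE0 hEflat
    refine IsZero.of_iso
      (Groth.Agent.Lib.Helper94.KFlatDerScheme.isZero_hd_lTensorMod G E hKF (-1)
        (HomologicalComplex.isZero_single_obj_X (ComplexShape.up ℤ) 0 F (-1) (by omega)))
      ((DerivedCategory.homologyFunctor X.Modules (-1)).mapIso ((DCoh.LTensorMod G).mapIso eF))
  · intro h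
    obtain ⟨E, q, hq, hE0, hEflat⟩ :=
      Groth.Agent.Lib.Helper94.FlatResScheme.exists_flat_resolution_module F
    haveI : IsIso (DerivedCategory.Q.map q) := by
      rw [DerivedCategory.isIso_Q_map_iff_quasiIso]
      exact hq
    have eE : DCoh.toD X E ≅ DCoh.inD X F := asIso (DerivedCategory.Q.map q) ≪≫ eF.symm
    have hcok : FlatMod.IsFlat (cokernel (E.d (-1) 0)) := by
      refine Groth.Agent.Lib.Helper94.FlatResScheme.isFlat_cokernel_of_tor_vanishing E 0 hE0 hEflat
        hL (-1) 0 (by omega) (fun G _ => ?_)
      exact IsZero.of_iso (h G)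
        ((DerivedCategory.homologyFunctor X.Modules (-1)).mapIso ((DCoh.LTensorMod G).mapIso eE))
    have e1 : cokernel (E.d (-1) 0) ≅ E.homology 0 :=
      Groth.Agent.Lib.Helper94.FlatResScheme.cokernelIsoHomology E (-1) 0 1 (by omega) (by omega)
        (hE0 1 (by omega))
    haveI : IsIso (HomologicalComplex.homologyMap q 0) := inferInstance
    have e2 : E.homology 0 ≅ F :=
      asIso (HomologicalComplex.homologyMap q 0) ≪≫
        HomologicalComplex.singleObjHomologySelfIso (ComplexShape.up ℤ) 0 F
    exact Groth.Agent.Lib.Helper94.FlatResScheme.isFlat_of_iso (e1 ≪≫ e2) hcok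

end Groth.Agent.S0916
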