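import Groth.Statements.S0919
import Mathlib.CategoryTheory.Adjunction.AdjointFunctorTheorems
import Mathlib.CategoryTheory.Abelian.Subobject
import Mathlib.CategoryTheory.Generator.Basic
import Mathlib.CategoryTheory.Limits.Yoneda

set_option autoImplicit false
universe v u
open CategoryTheory
open CohDer

namespace Groth.Agent.S0919

section Helpers
open CategoryTheory.Limits Opposite

theorem fwd {A : Type u} [Category.{v} A] (F : Aᵒᵖ ⥤ Type v) (h : F.IsRepresentable) :
    PreservesLimitsOfSize.{v, v} F := by
  have e : yoneda.obj F.reprX ≅ F := F.reprW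
  exact preservesLimits_of_natIso e

theorem bwd {A : Type u} [Category.{v} A] [Abelian A]
    [IsGrothendieckAbelian.{v} A] (F : Aᵒᵖ ⥤ Type v) (h : PreservesLimitsOfSize.{v, v} F) :
    F.IsRepresentable := by
  have hsep : ObjectProperty.IsCoseparating (ObjectProperty.singleton (op (separator A))) := by
    have := isSeparator_separator A
    rw [IsSeparator, ← ObjectProperty.isCoseparating_op_iff, ObjectProperty.op_singleton] at this
    exact this
  have hadj : F.IsRightAdjoint := isRightAdjoint_of_preservesLimits_of_isCoseparating hsep F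
  let adj := Adjunction.ofIsRightAdjoint F
  let Z : Aᵒᵖ := F.leftAdjoint.obj PUnit.{v + 1}
  have c := adj.corepresentableBy PUnit.{v + 1}
  let e : ∀ X : Aᵒᵖ, (Z ⟶ X) ≃ F.obj X := fun X =>
    (c.homEquiv : (Z ⟶ X) ≃ (PUnit.{v + 1} ⟶ F.obj X)).trans
      (TypeCat.homEquiv.trans (Equiv.funUnique PUnit.{v + 1} (F.obj X)))
  have he : ∀ (X X' : Aᵒᵖ) (a : Z ⟶ X) (b : X ⟶ X'), e X' (a ≫ b) = F.map b (e X a) := by
    intro X X' a b
    have := c.homEquiv_comp b a
    simp only [e, Equiv.trans_apply, Equiv.funUnique_apply]
    rw [this]
    rfl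
  refine ⟨unop Z, ⟨?_⟩⟩
  exact
    { homEquiv := fun {X} => (opEquiv (op (unop Z)) (op X)).symm.trans (e (op X))
      homEquiv_comp := by
        intro X X' f g
        exact he (op X') (op X) g.op f.op }


end Helpers


open CategoryTheory.Limits in
/-- Let A be a Grothendieck abelian category and F a contravariant functor from A to sets (a functor on
the opposite category). Then F is representable if and only if F turns all small colimits of A into
limits, i.e. preserves small limits as a functor on the opposite category. -/
theorem result {A : Type u} [Category.{v} A] [Abelian A]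
    [IsGrothendieckAbelian.{v} A] (F : Aᵒᵖ ⥤ Type v) :
    F.IsRepresentable ↔ PreservesLimitsOfSize.{v, v} F := by
  exact ⟨fwd F, bwd F⟩

end Groth.Agent.S0919
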