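import Groth.Statements.S0929
import Groth.Agent.Lib.Helper5.FunctorialInjective
import Mathlib.CategoryTheory.Abelian.GrothendieckAxioms.FunctorCategory
import Mathlib.Algebra.Category.ModuleCat.Presheaf.Generator
import Mathlib.Algebra.Category.ModuleCat.Presheaf.Abelian
import Mathlib.Algebra.Category.Grp.AB
import Mathlib.CategoryTheory.Functor.ReflectsIso.Balanced

set_option autoImplicit false
universe u
open CategoryTheory
open CohDer

namespace Groth.Agent.S0929

section Helpers
open CategoryTheory.Limits

variable {C : Type u} [SmallCategory C] (O : Cᵒᵖ ⥤ RingCat.{u})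

theorem ab5 : AB5OfSize.{u, u} (PresheafOfModules.{u} O) := by
  refine ⟨fun J _ _ => ?_⟩
  have : (PresheafOfModules.toPresheaf.{u} O).ReflectsIsomorphisms :=
    reflectsIsomorphisms_of_reflectsMonomorphisms_of_reflectsEpimorphisms _
  have : ReflectsFiniteLimits (PresheafOfModules.toPresheaf.{u} O) :=
    ⟨fun K _ _ => reflectsLimitsOfShape_of_reflectsIsomorphisms⟩
  exact HasExactColimitsOfShape.domain_of_functor J (PresheafOfModules.toPresheaf.{u} O)

theorem hasSeparator : HasSeparator (PresheafOfModules.{u} O) := by
  have h := PresheafOfModules.freeYoneda.isSeparating O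
  exact ⟨_, ObjectProperty.IsSeparating.isSeparator_coproduct
    (f := (yoneda ⋙ PresheafOfModules.free O).obj) h⟩

theorem isGrothendieckAbelian : IsGrothendieckAbelian.{u} (PresheafOfModules.{u} O) where
  ab5OfSize := ab5 O
  hasSeparator := hasSeparator O


end Helpers


/-- For a presheaf of rings O on a small category C, the category of presheaves of O-modules has
functorial injective embeddings (an endofunctor J with a natural transformation from the identity
whose components are monomorphisms into injective objects). -/
theorem result {C : Type u} [SmallCategory C]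
    (O : Cᵒᵖ ⥤ RingCat.{u}) :
    ∃ (J : PresheafOfModules.{u} O ⥤ PresheafOfModules.{u} O) (j : 𝟭 _ ⟶ J),
      ∀ F : PresheafOfModules.{u} O, Injective (J.obj F) ∧ Mono (j.app F) := by
  have := isGrothendieckAbelian O
  exact Groth.Agent.Lib.Helper5.exists_functorial_injective_embedding.{u} (PresheafOfModules.{u} O)

end Groth.Agent.S0929
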