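import Groth.Statements.S0930
import Groth.Agent.Lib.Helper6.RDPlus5

set_option autoImplicit false
universe u
open CategoryTheory
attribute [local instance] HasDerivedCategory.standard
open CohTop

namespace Groth.Agent.S0930


section

variable {X Y : TopCat.{u}} (f : X ⟶ Y)

instance preservesFiniteLimits_push : Limits.PreservesFiniteLimits (push f) := by
  have : Limits.PreservesLimitsOfSize.{0, 0} (push f) :=
    (TopCat.Sheaf.pullbackPushforwardAdjunction AddCommGrpCat.{u} f).rightAdjoint_preservesLimits
  exact Limits.PreservesLimitsOfSize.preservesFiniteLimits _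

attribute [local instance] CategoryTheory.Limits.reflectsLimits_of_reflectsIsomorphisms in
instance preservesFiniteLimits_pull : Limits.PreservesFiniteLimits (pull f) := by
  dsimp only [pull, TopCat.Sheaf.pullback]
  apply Functor.sheafPullbackConstruction.preservesFiniteLimits

lemma injective_push (I : Ab X) (hI : Injective I) : Injective ((push f).obj I) := by
  have : (TopCat.Sheaf.pullback AddCommGrpCat.{u} f).PreservesMonomorphisms :=
    inferInstanceAs (pull f).PreservesMonomorphisms
  exact (TopCat.Sheaf.pullbackPushforwardAdjunction _ f).map_injective I hI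

end

/-- For continuous maps f : X -> Y and g : Y -> Z, the composite of the right derived functors Rf_* :
D^+(X) -> D^+(Y) and Rg_* : D^+(Y) -> D^+(Z) is isomorphic to R(g ∘ f)_* (existence of an
isomorphism of functors between bounded below derived categories). -/
theorem result {X Y Z : TopCat.{u}} (f : X ⟶ Y) (g : Y ⟶ Z) :
    Nonempty ((CohTop.push f).rightDerivedFunctorPlus ⋙ (CohTop.push g).rightDerivedFunctorPlus ≅
      (CohTop.push (f ≫ g)).rightDerivedFunctorPlus) := by
  refine ⟨Groth.Agent.Lib.Helper6.RDPlus.compIso (push f) (push g) (push (f ≫ g)) (Iso.refl _)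
    (fun I hI => ?_)⟩
  have := injective_push f I hI
  exact Groth.Agent.Lib.Helper6.RDPlus.acyc_of_injective (push g) _

end Groth.Agent.S0930
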