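import Mathlib
import Groth.Statements.S0938
import Groth.Agent.Lib.Helper32.SectFree

set_option autoImplicit false
universe u
open CategoryTheory
open Coh

namespace Groth.Agent.S0938

open AlgebraicGeometry CategoryTheory.Limits Opposite
open Groth.Agent.Lib.Helper32.SectFree

variable {X : Scheme.{u}}

/-- the top open is terminal -/
def topTerminal : IsTerminal (⊤ : X.Opens) := isTerminalTop

/-- the identity functor from `X.Modules` to sheaves of modules -/
def I (X : Scheme.{u}) : X.Modules ⥤ SheafOfModules.{u} X.ringCatSheaf where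
  obj M := M
  map f := f
  map_id _ := rfl
  map_comp _ _ := rfl

instance : (I X).Full := ⟨fun f => ⟨f, rfl⟩⟩
instance : (I X).Faithful := ⟨fun h => h⟩
instance : (I X).EssSurj := ⟨fun M => ⟨M, ⟨Iso.refl _⟩⟩⟩
instance : (I X).IsEquivalence := {}

instance : (I X).Additive := ⟨fun {_ _ _ _} => rfl⟩

/-- reindexing the free module -/
noncomputable def freeIso (n : ℕ) :
    (I X).obj (FlatMod.freeMod X n) ≅
      SheafOfModules.free (R := X.ringCatSheaf) (ULift.{u} (Fin n)) :=
  PreservesCoproduct.iso (I X) (fun _ : Fin n => Coh.structureModule X) ≪≫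
    Sigma.whiskerEquiv (f := fun _ : Fin n => (I X).obj (Coh.structureModule X))
      (g := fun _ : ULift.{u} (Fin n) => SheafOfModules.unit X.ringCatSheaf)
      (Equiv.ulift.symm) (fun _ => Iso.refl _)

lemma summand_of (M : X.Modules)
    (h : ∃ (n : ℕ) (i : M ⟶ FlatMod.freeMod X n) (r : FlatMod.freeMod X n ⟶ M), i ≫ r = 𝟙 M) :
    DCoh.IsFinFreeSummandMod X.ringCatSheaf ((I X).obj M) := by
  obtain ⟨n, i, r, hir⟩ := h
  refine ⟨n, (I X).map i ≫ (freeIso n).hom, (freeIso n).inv ≫ (I X).map r, ?_⟩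
  rw [Category.assoc, Iso.hom_inv_id_assoc, ← Functor.map_comp, hir, CategoryTheory.Functor.map_id]

lemma of_summand (M : X.Modules)
    (h : DCoh.IsFinFreeSummandMod X.ringCatSheaf ((I X).obj M)) :
    ∃ (n : ℕ) (i : M ⟶ FlatMod.freeMod X n) (r : FlatMod.freeMod X n ⟶ M), i ≫ r = 𝟙 M := by
  obtain ⟨n, i, r, hir⟩ := h
  refine ⟨n, (I X).preimage (i ≫ (freeIso n).inv), (I X).preimage ((freeIso n).hom ≫ r), ?_⟩
  apply (I X).map_injective
  rw [Functor.map_comp, Functor.map_preimage, Functor.map_preimage, Category.assoc,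
    Iso.inv_hom_id_assoc, hir, CategoryTheory.Functor.map_id]

/-- global sections as a module over `Γ(X, ⊤)` -/
noncomputable abbrev G (X : Scheme.{u}) : X.Modules ⥤ ModuleCat.{u} (X.ringCatSheaf.obj.obj (op ⊤)) :=
  I X ⋙ Γ X.ringCatSheaf (⊤ : X.Opens)

/-- the property defining the source category -/
def P (X : Scheme.{u}) : ObjectProperty X.Modules := fun M =>
  ∃ (n : ℕ) (i : M ⟶ FlatMod.freeMod X n) (r : FlatMod.freeMod X n ⟶ M), i ≫ r = 𝟙 M

/-- the property defining the target category -/
def Q (X : Scheme.{u}) : ObjectProperty (ModuleCat.{u} (X.ringCatSheaf.obj.obj (op ⊤))) := fun N =>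
  Module.Finite (X.ringCatSheaf.obj.obj (op ⊤)) N ∧ Module.Projective (X.ringCatSheaf.obj.obj (op ⊤)) N

lemma ff_of_P (M : X.Modules) (hM : P X M) (N : X.Modules) :
    Function.Bijective (fun φ : M ⟶ N => (G X).map φ) :=
  ff_summand topTerminal ((I X).obj M) (summand_of M hM) ((I X).obj N)

instance : ((P X).ι ⋙ G X).Faithful := by
  refine ⟨fun {A B} f g h => ?_⟩
  apply ObjectProperty.hom_ext
  exact (ff_of_P A.obj A.property B.obj).1 h

instance : ((P X).ι ⋙ G X).Full := by
  refine ⟨fun {A B} h => ?_⟩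
  obtain ⟨φ, hφ⟩ := (ff_of_P A.obj A.property B.obj).2 h
  exact ⟨ObjectProperty.homMk φ, hφ⟩

lemma Q_of_P (A : (P X).FullSubcategory) : Q X (((P X).ι ⋙ G X).obj A) :=
  part2 ((I X).obj A.obj) (summand_of A.obj A.property)

/-- the functor giving the equivalence -/
noncomputable def Φ (X : Scheme.{u}) : (P X).FullSubcategory ⥤ (Q X).FullSubcategory :=
  (Q X).lift ((P X).ι ⋙ G X) Q_of_P

instance : (Φ X).Faithful := by unfold Φ; infer_instance
instance : (Φ X).Full := by unfold Φ; infer_instance

instance : (Φ X).EssSurj := by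
  refine ⟨fun N => ?_⟩
  obtain ⟨E, hE, ⟨iso⟩⟩ := part3 (R := X.ringCatSheaf) topTerminal N.obj N.property.1 N.property.2
  refine ⟨⟨(E : X.Modules), of_summand (E : X.Modules) hE⟩, ⟨?_⟩⟩
  exact (Q X).fullyFaithfulι.preimageIso iso

instance : (Φ X).IsEquivalence := {}

open AlgebraicGeometry CategoryTheory.Limits in
/-- For a scheme X with R = Γ(X, O_X), the full subcategory of O_X-modules which are retracts of a
finite free O_X-module is equivalent to the full subcategory of R-modules which are finite and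
projective (existence of an equivalence of categories). The published statement is for ringed
spaces; stated here for schemes. -/
theorem result {X : Scheme.{u}} :
    Nonempty ((ObjectProperty.FullSubcategory fun M : X.Modules =>
        ∃ (n : ℕ) (i : M ⟶ FlatMod.freeMod X n) (r : FlatMod.freeMod X n ⟶ M), i ≫ r = 𝟙 M) ≌
      (ObjectProperty.FullSubcategory fun N : ModuleCat.{u} (Γ(X, ⊤)) =>
        Module.Finite (Γ(X, ⊤)) N ∧ Module.Projective (Γ(X, ⊤)) N)) :=
  ⟨(Φ X).asEquivalence⟩

end Groth.Agent.S0938
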