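import Groth.Statements.S0963
import Groth.Agent.Lib.Helper94.TorAmpTriangle

set_option autoImplicit false
universe u
open CategoryTheory
attribute [local instance] HasDerivedCategory.standard
open DCoh

namespace Groth.Agent.S0963

open AlgebraicGeometry CategoryTheory.Pretriangulated in
/-- Schemes; hypotheses in the flat-representative form of tor-amplitude, conclusions in the
derived-tensor form: for a distinguished triangle K -> L -> M -> K[1] in D(O_X) and integers a, b:
(1) tor-amplitude of K in [a+1, b+1] and of L in [a, b] give tor-amplitude of M in [a, b]; (2)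
tor-amplitude of K and of M in [a, b] give the same for L; (3) tor-amplitude of L in [a+1, b+1] and
of M in [a, b] give tor-amplitude of K in [a+1, b+1]. -/
theorem result {X : Scheme.{u}} (T : Triangle (DCoh.D X)) (hT : T ∈ distinguishedTriangles)
    (a b : ℤ) :
    (DCoh.HasFlatAmplitudeIn (a + 1) (b + 1) T.obj₁ → DCoh.HasFlatAmplitudeIn a b T.obj₂ →
      DCoh.HasTorAmplitudeIn a b T.obj₃) ∧
    (DCoh.HasFlatAmplitudeIn a b T.obj₁ → DCoh.HasFlatAmplitudeIn a b T.obj₃ → DCoh.HasTorAmplitudeIn a b T.obj₂) ∧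
    (DCoh.HasFlatAmplitudeIn (a + 1) (b + 1) T.obj₂ → DCoh.HasFlatAmplitudeIn a b T.obj₃ →
      DCoh.HasTorAmplitudeIn (a + 1) (b + 1) T.obj₁) := by
  refine ⟨fun h1 h2 F _ i hi => ?_, fun h1 h3 F _ i hi => ?_, fun h2 h3 F _ i hi => ?_⟩
  · exact Groth.Agent.Lib.Helper94.TorAmpTriangle.isZero_hd_lTensorMod_of_flatAmp T hT
      (a + 1) (b + 1) a b h1 h2 F i hi (by omega)
  · exact Groth.Agent.Lib.Helper94.TorAmpTriangle.isZero_hd_lTensorMod_of_flatAmp T.invRotate
      (inv_rot_of_distTriang T hT) (a + 1) (b + 1) a b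
      (Groth.Agent.Lib.Helper94.TorAmpTriangle.hasFlatAmplitudeIn_shift_neg_one T.obj₃ a b h3)
      h1 F i hi (by omega)
  · exact Groth.Agent.Lib.Helper94.TorAmpTriangle.isZero_hd_lTensorMod_of_flatAmp
      T.invRotate.invRotate
      (inv_rot_of_distTriang _ (inv_rot_of_distTriang T hT)) (a + 1 + 1) (b + 1 + 1) (a + 1) (b + 1)
      (Groth.Agent.Lib.Helper94.TorAmpTriangle.hasFlatAmplitudeIn_shift_neg_one T.obj₂ (a + 1)
        (b + 1) h2)
      (Groth.Agent.Lib.Helper94.TorAmpTriangle.hasFlatAmplitudeIn_shift_neg_one T.obj₃ a b h3)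
      F i hi (by omega)

end Groth.Agent.S0963
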