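import Groth.Statements.S0968
import Groth.Agent.Lib.Helper94.KFlatDerScheme
import Groth.Agent.Lib.Helper94.TorFlat

set_option autoImplicit false
universe u
open CategoryTheory
attribute [local instance] HasDerivedCategory.standard
open DCoh

namespace Groth.Agent.S0968

open AlgebraicGeometry CategoryTheory.Limits in
/-- For a bounded above complex E of flat O_X-modules whose image in D(O_X) has tor-amplitude in [a, b]
(derived-tensor form; the existence of – ⊗^L G for every O_X-module G is assumed, hypothesis hL),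
the cokernel of the differential E^{a-1} -> E^a is a flat O_X-module. -/
theorem result {X : Scheme.{u}} (E : CochainComplex X.Modules ℤ) (n : ℤ) (hn : E.IsStrictlyLE n)
    (hflat : ∀ i : ℤ, FlatMod.IsFlat (E.X i)) (hL : ∀ G : X.Modules, DCoh.HasLTensorMod G) (a b : ℤ)
    (hE : DCoh.HasTorAmplitudeIn a b (DCoh.toD X E)) :
    FlatMod.IsFlat (cokernel (E.d (a - 1) a)) := by
  obtain ⟨p, rfl⟩ : ∃ p : ℤ, a = p + 1 := ⟨a - 1, by omega⟩
  have hKF : Groth.Agent.Lib.Helper94.KFlatDerScheme.KF E :=
    Groth.Agent.Lib.Helper94.KFlatDerScheme.kf_of_bounded_above_flat E n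
      (fun i hi => E.isZero_of_isStrictlyLE n i hi) hflat
  have hpp : p + 1 - 1 = p := by omega
  rw [hpp]
  refine (Groth.Agent.Lib.Helper94.StalkFlatScheme.isFlat_iff _).2 ?_
  refine Groth.Agent.Lib.Helper94.TorFlat.isFlat_cokernel_of_exact
    (J := Opens.grothendieckTopology X) X.sheaf E p
    ((Groth.Agent.Lib.Helper94.StalkFlatScheme.isFlat_iff _).1 (hflat (p + 1))) (fun G => ?_)
  haveI := hL G
  have h0 : IsZero (DCoh.HD ((DCoh.LTensorMod G).obj (DCoh.toD X E)) p) :=
    hE G p (Or.inl (by omega))
  have h1 : IsZero ((Groth.Agent.Lib.Helper94.KFlatDerScheme.tensorCxMod E G).homology p) :=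
    IsZero.of_iso h0 (Groth.Agent.Lib.Helper94.KFlatDerScheme.hdLTensorModIso G E hKF p).symm
  have h2 : (Groth.Agent.Lib.Helper94.KFlatDerScheme.tensorCxMod E G).ExactAt p :=
    (HomologicalComplex.exactAt_iff_isZero_homology _ _).2 h1
  have h3 := (HomologicalComplex.exactAt_iff' _ (p - 1) p (p + 1) (by simp) (by simp)).1 h2
  exact (ShortComplex.exact_iff_of_iso
    ((ShortComplex.mapNatIso
      (C := ModSite.Mod (J := Opens.grothendieckTopology X) X.sheaf)
      (D := ModSite.Mod (J := Opens.grothendieckTopology X) X.sheaf)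
      (F := Groth.Agent.Lib.Helper94.KFlatDerScheme.tRM G)
      (G := Groth.Agent.Lib.Helper94.ModTensor.tensL (J := Opens.grothendieckTopology X) X.sheaf G)
      (HomologicalComplex.sc' (C := ModSite.Mod (J := Opens.grothendieckTopology X) X.sheaf)
        E (p - 1) p (p + 1))
      (Groth.Agent.Lib.Helper94.KFlatDerScheme.tensorRightModIsoTensL G)))).1 h3

end Groth.Agent.S0968
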