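import Groth.Statements.S0976
import Mathlib

set_option autoImplicit false
universe v u
open CategoryTheory
open CohDer

namespace Groth.Agent.S0976


section Helpers

open CategoryTheory.Pretriangulated CategoryTheory.Limits ZeroObject

variable {D : Type u} [Category.{v} D] [Preadditive D] [Limits.HasZeroObject D] [HasShift D ℤ]
    [∀ n : ℤ, (shiftFunctor D n).Additive] [Pretriangulated D]

/-- The class of objects admitting a decomposition `A → X → B → A[1]` with `P A`, `B ∈ P^⊥`. -/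
def Dec (P : ObjectProperty D) : ObjectProperty D := fun X =>
  ∃ (A B : D) (f : A ⟶ X) (g : X ⟶ B) (h : B ⟶ (shiftFunctor D (1 : ℤ)).obj A),
    Triangle.mk f g h ∈ distinguishedTriangles ∧ P A ∧ P.rightOrthogonal B

lemma dec_isoClosure (P : ObjectProperty D) : Dec P.isoClosure = Dec P := by
  ext X
  constructor
  · rintro ⟨A, B, f, g, h, hT, ⟨A₀, hA₀, ⟨e⟩⟩, hB⟩
    refine ⟨A₀, B, e.inv ≫ f, g, h ≫ (shiftFunctor D (1 : ℤ)).map e.hom, ?_, hA₀, ?_⟩
    · refine isomorphic_distinguished _ hT _ ?_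
      refine Triangle.isoMk _ _ e.symm (Iso.refl _) (Iso.refl _) (Category.comp_id _)
        ((Category.comp_id _).trans (Category.id_comp _).symm) ?_
      show (h ≫ (shiftFunctor D (1 : ℤ)).map e.hom) ≫ (shiftFunctor D (1 : ℤ)).map e.inv = 𝟙 _ ≫ h
      rw [Category.assoc, ← Functor.map_comp, e.hom_inv_id, CategoryTheory.Functor.map_id,
        Category.comp_id, Category.id_comp]
    · intro Y φ hY
      exact hB φ (P.le_isoClosure _ hY)
  · rintro ⟨A, B, f, g, h, hT, hA, hB⟩
    refine ⟨A, B, f, g, h, hT, P.le_isoClosure _ hA, ?_⟩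
    rintro Y φ ⟨Y₀, hY₀, ⟨e⟩⟩
    have := hB (e.inv ≫ φ) hY₀
    rw [← cancel_epi e.inv, this, comp_zero]

variable (P : ObjectProperty D) [P.IsTriangulated] [P.IsClosedUnderIsomorphisms]

lemma dec_zero : Dec P (0 : D) :=
  ⟨0, 0, 𝟙 0, 0, 0, contractible_distinguished (0 : D), P.prop_zero,
    fun _ _ _ => (isZero_zero D).eq_of_tgt _ _⟩

lemma dec_shift (X : D) (hX : Dec P X) (n : ℤ) : Dec P ((shiftFunctor D n).obj X) := by
  obtain ⟨A, B, f, g, h, hT, hA, hB⟩ := hX
  have hT' := Triangle.shift_distinguished _ hT n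
  exact ⟨_, _, _, _, _, hT', P.le_shift n _ hA, P.rightOrthogonal.le_shift n _ hB⟩

variable [IsTriangulated D]

/-- extension by an object of `P^⊥` on the right -/
lemma dec_ext_right {X Y E : D} (s : X ⟶ Y) (t : Y ⟶ E) (c : E ⟶ (shiftFunctor D (1 : ℤ)).obj X)
    (hT : Triangle.mk s t c ∈ distinguishedTriangles) (hX : Dec P X) (hE : P.rightOrthogonal E) :
    Dec P Y := by
  obtain ⟨A, B, f, g, h, hT₁, hA, hB⟩ := hX
  obtain ⟨B', v, w, hT₃⟩ := distinguished_cocone_triangle (f ≫ s)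
  have o := Triangulated.someOctahedron rfl hT₁ hT hT₃
  exact ⟨A, B', f ≫ s, v, w, hT₃, hA,
    P.rightOrthogonal.ext_of_isTriangulatedClosed₂ _ o.mem hB hE⟩

/-- extension by an object of `P` on the right -/
lemma dec_ext_right' {X Y C : D} (s : X ⟶ Y) (t : Y ⟶ C) (c : C ⟶ (shiftFunctor D (1 : ℤ)).obj X)
    (hT : Triangle.mk s t c ∈ distinguishedTriangles) (hX : Dec P X) (hC : P C) :
    Dec P Y := by
  obtain ⟨A, B, f, g, h, hT₁, hA, hB⟩ := hX
  -- extend `g : X ⟶ B` to `Y`
  obtain ⟨g', hg'⟩ : ∃ g' : Y ⟶ B, g = s ≫ g' := by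
    refine Triangle.yoneda_exact₂ _ (inv_rot_of_distTriang _ hT) g ?_
    exact hB _ (P.le_shift (-1) _ hC)
  obtain ⟨Z, z₁, z₂, hT₂⟩ := distinguished_cocone_triangle g'
  have o := Triangulated.someOctahedron hg'.symm hT hT₂ (rot_of_distTriang _ hT₁)
  have hZ : P Z := P.ext_of_isTriangulatedClosed₃ _ o.mem hC (P.le_shift 1 _ hA)
  have hT₄ := inv_rot_of_distTriang _ hT₂
  exact ⟨_, _, _, _, _, hT₄, P.le_shift (-1) _ hZ, hB⟩

lemma dec_ext₂ (T : Triangle D) (hT : T ∈ distinguishedTriangles) (h₁ : Dec P T.obj₁)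
    (h₃ : Dec P T.obj₃) : Dec P T.obj₂ := by
  obtain ⟨A₃, B₃, f₃, g₃, h₃', hT₃, hA₃, hB₃⟩ := h₃
  obtain ⟨W, a, b, hW⟩ := distinguished_cocone_triangle₁ (T.mor₂ ≫ g₃)
  have o := Triangulated.someOctahedron' (u₁₂ := T.mor₂) (u₂₃ := g₃) rfl
    (v₁₂ := T.mor₁) (w₁₂ := T.mor₃) hT hT₃ hW
  have hW' : Dec P W := dec_ext_right' P _ _ _ o.mem h₁ hA₃
  exact dec_ext_right P _ _ _ hW hW' hB₃

end Helpers

open CategoryTheory.Pretriangulated in
/-- Let P be a triangulated subcategory of a triangulated category D (an object property containing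
zero, stable under shifts, closed under extensions). Consider the class of objects X sitting in a
distinguished triangle A → X → B → A[1] with P A and B right orthogonal to P. This class is again
stable under shifts and closed under extensions, i.e. satisfies two-out-of-three in distinguished
triangles. -/
theorem result {D : Type u} [Category.{v} D] [Preadditive D] [Limits.HasZeroObject D] [HasShift D ℤ]
    [∀ n : ℤ, (shiftFunctor D n).Additive] [Pretriangulated D] [IsTriangulated D]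
    (P : ObjectProperty D) [P.IsTriangulated] :
    ObjectProperty.IsTriangulated (fun X : D => ∃ (A B : D) (f : A ⟶ X) (g : X ⟶ B) (h : B ⟶ (shiftFunctor D (1 : ℤ)).obj A),
      Triangle.mk f g h ∈ distinguishedTriangles ∧ P A ∧ P.rightOrthogonal B) := by
  show (Dec P).IsTriangulated
  rw [← dec_isoClosure P]
  have h0 : (Dec P.isoClosure).ContainsZero :=
    ⟨⟨_, Limits.isZero_zero D, dec_zero P.isoClosure⟩⟩
  have h1 : (Dec P.isoClosure).IsStableUnderShift ℤ :=
    ⟨fun n => ⟨fun X hX => dec_shift P.isoClosure X hX n⟩⟩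
  have h2 : (Dec P.isoClosure).IsTriangulatedClosed₂ :=
    ⟨fun T hT h₁ h₃ => ObjectProperty.le_isoClosure _ _ (dec_ext₂ P.isoClosure T hT h₁ h₃)⟩
  exact { }

end Groth.Agent.S0976
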