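import Groth.Statements.S0984
import Groth.Agent.Lib.Helper6.CompactGen

set_option autoImplicit false
universe v u
open CategoryTheory
open DerLim

namespace Groth.Agent.S0984

section aux

open CategoryTheory.Limits CategoryTheory.Pretriangulated Groth.Agent.Lib.Helper6

variable {D : Type u} [Category.{v} D] [Preadditive D] [Limits.HasZeroObject D] [HasShift D ℤ]
    [∀ n : ℤ, (shiftFunctor D n).Additive] [Pretriangulated D] [HasCoproducts.{v} D]
    {ι : Type v} (E : ι → D) (X : D)

/-- a stage of the tower: an object with a map to `X` -/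
structure Stage where
  /-- the object -/
  obj : D
  /-- the map to `X` -/
  hom : obj ⟶ X

variable {E X}

/-- index type for the relations at a stage -/
def Rel (S : Stage (D := D) X) (E : ι → D) : Type v :=
  Σ (i : ι) (m : ℤ), {ψ : (shiftFunctor D m).obj (E i) ⟶ S.obj // ψ ≫ S.hom = 0}

/-- the map from the sum of relations -/
noncomputable def relMap (S : Stage (D := D) X) (E : ι → D) :
    (∐ fun k : Rel S E => (shiftFunctor D k.2.1).obj (E k.1)) ⟶ S.obj :=
  Sigma.desc (fun k => k.2.2.1)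

omit [Limits.HasZeroObject D] [∀ n : ℤ, (shiftFunctor D n).Additive] [Pretriangulated D] in
lemma relMap_comp (S : Stage (D := D) X) (E : ι → D) : relMap S E ≫ S.hom = 0 := by
  refine Sigma.hom_ext _ _ fun k => ?_
  simp only [relMap, colimit.ι_desc_assoc, Cofan.mk_ι_app, comp_zero]
  exact k.2.2.2

lemma exists_next (S : Stage (D := D) X) (E : ι → D) :
    ∃ (K' : D) (f : S.obj ⟶ K')
      (z : K' ⟶ (shiftFunctor D (1 : ℤ)).obj (∐ fun k : Rel S E => (shiftFunctor D k.2.1).obj (E k.1)))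
      (i' : K' ⟶ X), Triangle.mk (relMap S E) f z ∈ distTriang D ∧ f ≫ i' = S.hom := by
  obtain ⟨K', f, z, hT⟩ := distinguished_cocone_triangle (relMap S E)
  obtain ⟨i', hi'⟩ : ∃ i' : K' ⟶ X, S.hom = f ≫ i' :=
    Triangle.yoneda_exact₂ _ hT S.hom (relMap_comp S E)
  exact ⟨K', f, z, i', hT, hi'.symm⟩

/-- the next stage -/
noncomputable def next (S : Stage (D := D) X) (E : ι → D) : Stage (D := D) X :=
  ⟨(exists_next S E).choose, (exists_next S E).choose_spec.choose_spec.choose_spec.choose⟩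

/-- the transition map -/
noncomputable def nextMap (S : Stage (D := D) X) (E : ι → D) : S.obj ⟶ (next S E).obj :=
  (exists_next S E).choose_spec.choose

/-- the connecting map -/
noncomputable def nextZ (S : Stage (D := D) X) (E : ι → D) :
    (next S E).obj ⟶ (shiftFunctor D (1 : ℤ)).obj
      (∐ fun k : Rel S E => (shiftFunctor D k.2.1).obj (E k.1)) :=
  (exists_next S E).choose_spec.choose_spec.choose

lemma next_dist (S : Stage (D := D) X) (E : ι → D) :
    Triangle.mk (relMap S E) (nextMap S E) (nextZ S E) ∈ distTriang D :=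
  (exists_next S E).choose_spec.choose_spec.choose_spec.choose_spec.1

lemma nextMap_comp (S : Stage (D := D) X) (E : ι → D) :
    nextMap S E ≫ (next S E).hom = S.hom :=
  (exists_next S E).choose_spec.choose_spec.choose_spec.choose_spec.2

variable (E X)

/-- the initial stage -/
noncomputable def stage0 : Stage (D := D) X :=
  ⟨∐ fun k : (Σ (i : ι) (m : ℤ), ((shiftFunctor D m).obj (E i) ⟶ X)) =>
      (shiftFunctor D k.2.1).obj (E k.1),
    Sigma.desc (fun k => k.2.2)⟩

/-- the tower of stages -/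
noncomputable def stage : ℕ → Stage (D := D) X
  | 0 => stage0 E X
  | n + 1 => next (stage n) E

end aux

open CategoryTheory.Limits CategoryTheory.Pretriangulated in
/-- Let D be a triangulated category with all small direct sums and E a small family of compact objects
which generates D. Every object X of D is a homotopy colimit of a sequential system X₀ → X₁ → X₂ → …
in which X₀ is a direct sum of shifts of members of E and each transition map Xₙ → Xₙ₊₁ sits in a
distinguished triangle Yₙ → Xₙ → Xₙ₊₁ → Yₙ[1] with Yₙ a direct sum of shifts of members of E. -/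
theorem result {D : Type u} [Category.{v} D] [Preadditive D] [Limits.HasZeroObject D] [HasShift D ℤ]
    [∀ n : ℤ, (shiftFunctor D n).Additive] [Pretriangulated D] [IsTriangulated D] [HasCoproducts.{v} D]
    [HasColimitsOfShape (Discrete ℕ) D]
    {ι : Type v} (E : ι → D) (hc : ∀ i, CohDer.IsCompactObject (E i)) (hg : CohDer.Generates E) (X : D) :
    ∃ (K : ℕ → D) (f : ∀ n, K n ⟶ K (n + 1)) (i : ∀ n, K n ⟶ X),
      DerLim.IsHocolim K f X i ∧
      (∃ (κ : Type v) (a : κ → ι) (m : κ → ℤ), Nonempty (K 0 ≅ ∐ (fun k => (shiftFunctor D (m k)).obj (E (a k))))) ∧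
      ∀ n, ∃ (κ : Type v) (a : κ → ι) (m : κ → ℤ) (y : (∐ fun k => (shiftFunctor D (m k)).obj (E (a k))) ⟶ K n)
        (z : K (n + 1) ⟶ (shiftFunctor D (1 : ℤ)).obj (∐ fun k => (shiftFunctor D (m k)).obj (E (a k)))),
        Triangle.mk y (f n) z ∈ distinguishedTriangles := by
  classical
  -- the tower
  let K : ℕ → D := fun n => (stage E X n).obj
  let f : ∀ n, K n ⟶ K (n + 1) := fun n => nextMap (stage E X n) E
  let i : ∀ n, K n ⟶ X := fun n => (stage E X n).hom
  have hw : ∀ n, f n ≫ i (n + 1) = i n := fun n => nextMap_comp (stage E X n) E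
  -- the homotopy colimit
  obtain ⟨L, j, c, hT⟩ := distinguished_cocone_triangle (𝟙 (∐ K) - DerLim.shiftMap K f)
  let i' : ∀ n, K n ⟶ L := fun n => Sigma.ι K n ≫ j
  have hj : j = Sigma.desc i' := Sigma.hom_ext _ _ fun n => by simp [i']
  have hL : DerLim.IsHocolim K f L i' := ⟨c, by rw [← hj]; exact hT⟩
  -- the comparison map
  have h0 : (𝟙 (∐ K) - DerLim.shiftMap K f) ≫ Sigma.desc i = 0 := by
    refine Sigma.hom_ext _ _ fun n => ?_
    simp only [Preadditive.sub_comp, Preadditive.comp_sub, Category.id_comp, comp_zero,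
      Groth.Agent.Lib.Helper6.ι_shiftMap_assoc, colimit.ι_desc, Cofan.mk_ι_app]
    rw [hw, sub_self]
  obtain ⟨θ, hθ⟩ : ∃ θ : L ⟶ X, Sigma.desc i = j ≫ θ := Triangle.yoneda_exact₂ _ hT _ h0
  have hi'θ : ∀ n, i' n ≫ θ = i n := fun n => by
    simp only [i', Category.assoc, ← hθ, colimit.ι_desc, Cofan.mk_ι_app]
  have hiso : IsIso θ := by
    apply Groth.Agent.Lib.Helper6.isIso_of_generates hg θ
    · intro a m χ
      obtain ⟨χ₀, hχ₀⟩ : ∃ χ₀ : (shiftFunctor D m).obj (E a) ⟶ K 0, χ₀ ≫ i 0 = χ :=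
        ⟨Sigma.ι (fun k : (Σ (i : ι) (m : ℤ), ((shiftFunctor D m).obj (E i) ⟶ X)) =>
          (shiftFunctor D k.2.1).obj (E k.1)) ⟨a, m, χ⟩,
          Sigma.ι_desc (fun k : (Σ (i : ι) (m : ℤ), ((shiftFunctor D m).obj (E i) ⟶ X)) => k.2.2)
            ⟨a, m, χ⟩⟩
      exact ⟨χ₀ ≫ i' 0, by rw [Category.assoc, hi'θ 0, hχ₀]⟩
    · intro a m χ hχ
      obtain ⟨N, χ', hχ'⟩ := Groth.Agent.Lib.Helper6.exists_factor_of_isHocolim hL
        (Groth.Agent.Lib.Helper6.isCompactObject_shift (hc a) m) χ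
      have h1 : χ' ≫ i N = 0 := by
        rw [← hi'θ N, ← Category.assoc, ← hχ', hχ]
      have h2 : χ' = Sigma.ι (fun k : Rel (stage E X N) E => (shiftFunctor D k.2.1).obj (E k.1))
          ⟨a, m, χ', h1⟩ ≫ relMap (stage E X N) E := by
        simp [relMap]
      have h3 : relMap (stage E X N) E ≫ f N = 0 :=
        comp_distTriang_mor_zero₁₂ _ (next_dist (stage E X N) E)
      have h4 : χ' ≫ f N = 0 := by
        rw [h2, Category.assoc, h3, comp_zero]
      rw [hχ', ← Groth.Agent.Lib.Helper6.isHocolim_w hL N, ← Category.assoc, h4, zero_comp]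
  refine ⟨K, f, i, ?_, ?_, ?_⟩
  · refine ⟨inv θ ≫ c, isomorphic_distinguished _ hT _ ?_⟩
    refine Triangle.isoMk _ _ (Iso.refl _) (Iso.refl _) (asIso θ).symm ?_ ?_ ?_
    · show (𝟙 (∐ K) - DerLim.shiftMap K f) ≫ 𝟙 _ = 𝟙 _ ≫ (𝟙 (∐ K) - DerLim.shiftMap K f)
      rw [Category.comp_id, Category.id_comp]
    · show Sigma.desc i ≫ inv θ = 𝟙 _ ≫ j
      rw [Category.id_comp, hθ, Category.assoc, IsIso.hom_inv_id, Category.comp_id]
    · show (inv θ ≫ c) ≫ (shiftFunctor D (1 : ℤ)).map (𝟙 _) = inv θ ≫ c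
      rw [CategoryTheory.Functor.map_id, Category.comp_id]
  · exact ⟨(Σ (i : ι) (m : ℤ), ((shiftFunctor D m).obj (E i) ⟶ X)), fun k => k.1, fun k => k.2.1,
      ⟨Iso.refl _⟩⟩
  · intro n
    exact ⟨Rel (stage E X n) E, fun k => k.1, fun k => k.2.1, relMap (stage E X n) E,
      nextZ (stage E X n) E, next_dist (stage E X n) E⟩

end Groth.Agent.S0984
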