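import Groth.Statements.S1076
import Groth.Agent.Lib.Helper6.Compact

set_option autoImplicit false
universe v u
open CategoryTheory
open DerLim

namespace Groth.Agent.S1076

section aux

open CategoryTheory.Limits CategoryTheory.Pretriangulated Groth.Agent.Lib.Helper6 ZeroObject

variable {D : Type u} [Category.{v} D] [Preadditive D] [Limits.HasZeroObject D] [HasShift D ℤ]
    [∀ n : ℤ, (shiftFunctor D n).Additive] [Pretriangulated D]

/-- A triangulated property is closed under binary biproducts. -/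
lemma prop_biprod' (Q : ObjectProperty D) [Q.IsTriangulated] [Q.IsClosedUnderIsomorphisms]
    {X₁ X₂ : D} (h₁ : Q X₁) (h₂ : Q X₂) : Q (X₁ ⊞ X₂) :=
  Q.ext_of_isTriangulatedClosed₂ _ (binaryBiproductTriangle_distinguished X₁ X₂) h₁ h₂

/-- A finite sum of maps through members of `Q` factors through a single member of `Q`. -/
lemma factor_finset_sum (Q : ObjectProperty D) [Q.IsTriangulated] [Q.IsClosedUnderIsomorphisms]
    (F : D ⥤ D) {C Y : D} {κ : Type v} (X : κ → D) (j : ∀ k, X k ⟶ Y)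
    (ψ : ∀ k, C ⟶ F.obj (X k)) (t : Finset κ) (hX : ∀ k ∈ t, Q (X k)) :
    ∃ (E' : D) (_ : Q E') (a : C ⟶ F.obj E') (b : E' ⟶ Y),
      ∑ k ∈ t, ψ k ≫ F.map (j k) = a ≫ F.map b := by
  classical
  induction t using Finset.induction_on with
  | empty =>
    exact ⟨0, Q.prop_zero, 0, 0, by simp⟩
  | insert k t hk ih =>
    obtain ⟨E', hE', a, b, hab⟩ := ih fun k' hk' => hX k' (Finset.mem_insert_of_mem hk')
    refine ⟨X k ⊞ E', prop_biprod' Q (hX k (Finset.mem_insert_self k t)) hE',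
      ψ k ≫ F.map biprod.inl + a ≫ F.map biprod.inr, biprod.desc (j k) b, ?_⟩
    rw [Finset.sum_insert hk, hab, Preadditive.add_comp, Category.assoc, Category.assoc,
      ← F.map_comp, ← F.map_comp, biprod.inl_desc, biprod.inr_desc]

variable [IsTriangulated D] [HasCoproducts.{v} D]

/-- the triangulated envelope of a finite subfamily -/
abbrev env {ι : Type v} (E : ι → D) (s : Finset ι) : ObjectProperty D :=
  ObjectProperty.triangEnvelope (fun Y : D => ∃ i ∈ s, Y = E i)

omit [HasCoproducts.{v} D] in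
lemma env_isTriangulated {ι : Type v} (E : ι → D) {s : Finset ι} (hs : s.Nonempty) :
    (env E s).IsTriangulated := by
  obtain ⟨i, hi⟩ := hs
  have : ObjectProperty.Nonempty (fun Y : D => ∃ i ∈ s, Y = E i) := ⟨⟨E i, i, hi, rfl⟩⟩
  infer_instance

omit [IsTriangulated D] [HasCoproducts.{v} D] in
lemma env_mono {ι : Type v} (E : ι → D) {s s' : Finset ι} (h : s ⊆ s') : env E s ≤ env E s' :=
  ObjectProperty.monotone_triangEnvelope (by
    rintro Y ⟨i, hi, rfl⟩
    exact ⟨i, h hi, rfl⟩)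

omit [IsTriangulated D] [HasCoproducts.{v} D] in
lemma env_shift_mem {ι : Type v} (E : ι → D) {s : Finset ι} {i : ι} (hi : i ∈ s) (m : ℤ) :
    env E s ((shiftFunctor D m).obj (E i)) :=
  (env E s).le_shift m _ (ObjectProperty.le_triangEnvelope _ _ ⟨i, hi, rfl⟩)

omit [IsTriangulated D] in
lemma env_compact {ι : Type v} (E : ι → D) (hc : ∀ i, CohDer.IsCompactObject (E i))
    (s : Finset ι) {X : D} (hX : env E s X) : CohDer.IsCompactObject X := by
  have : env E s ≤ (fun K : D => CohDer.IsCompactObject K) := by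
    rw [ObjectProperty.triangEnvelope_le_iff]
    rintro Y ⟨i, _, rfl⟩
    exact hc i
  exact this X hX

/-- maps from a compact object to (the image under a coproduct preserving functor of) a direct sum
of shifts of members of `E` factor through the envelope of a finite subfamily. -/
lemma exists_factor_of_compact (F : D ⥤ D)
    [∀ κ : Type v, PreservesColimitsOfShape (Discrete κ) F]
    {ι : Type v} [Nonempty ι] (E : ι → D) {C : D} (hC : CohDer.IsCompactObject C)
    {κ : Type v} (a : κ → ι) (m : κ → ℤ)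
    (φ : C ⟶ F.obj (∐ fun k => (shiftFunctor D (m k)).obj (E (a k)))) :
    ∃ (s : Finset ι) (_ : s.Nonempty) (E' : D) (_ : env E s E') (g : C ⟶ F.obj E')
      (b : E' ⟶ ∐ fun k => (shiftFunctor D (m k)).obj (E (a k))), φ = g ≫ F.map b := by
  classical
  let X : κ → D := fun k => (shiftFunctor D (m k)).obj (E (a k))
  obtain ⟨t, ψ, hψ⟩ := exists_finset_of_isCompactObject hC (fun k => F.obj (X k))
    (φ ≫ inv (sigmaComparison F X))
  have h1 : φ = ∑ k ∈ t, ψ k ≫ F.map (Sigma.ι X k) := by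
    rw [← cancel_mono (inv (sigmaComparison F X)), hψ, Preadditive.sum_comp]
    refine Finset.sum_congr rfl fun i _ => ?_
    rw [Category.assoc, ← ι_comp_sigmaComparison F X i, Category.assoc, IsIso.hom_inv_id,
      Category.comp_id]
  let i₀ : ι := Classical.arbitrary ι
  let s : Finset ι := insert i₀ (t.image a)
  have hs : s.Nonempty := ⟨i₀, Finset.mem_insert_self _ _⟩
  have := env_isTriangulated E hs
  obtain ⟨E', hE', g, b, hgb⟩ := factor_finset_sum (env E s) F X (fun k => Sigma.ι X k) ψ t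
    (fun k hk => env_shift_mem E
      (Finset.mem_insert_of_mem (Finset.mem_image_of_mem a hk)) (m k))
  exact ⟨s, hs, E', hE', g, b, h1.trans hgb⟩

theorem main {ι : Type v} [Nonempty ι] (E : ι → D) (hc : ∀ i, CohDer.IsCompactObject (E i))
    (K : ℕ → D) (f : ∀ n, K n ⟶ K (n + 1))
    (h0 : ∃ (κ : Type v) (a : κ → ι) (m : κ → ℤ),
      Nonempty (K 0 ≅ ∐ (fun k => (shiftFunctor D (m k)).obj (E (a k)))))
    (hstep : ∀ n, ∃ (κ : Type v) (a : κ → ι) (m : κ → ℤ)
      (y : (∐ fun k => (shiftFunctor D (m k)).obj (E (a k))) ⟶ K n)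
      (z : K (n + 1) ⟶ (shiftFunctor D (1 : ℤ)).obj (∐ fun k => (shiftFunctor D (m k)).obj (E (a k)))),
      Triangle.mk y (f n) z ∈ distinguishedTriangles) (n : ℕ) :
    ∀ (C : D) (_ : CohDer.IsCompactObject C) (φ : C ⟶ K n),
      ∃ (s : Finset ι) (_ : s.Nonempty) (E' : D) (g : C ⟶ E') (h : E' ⟶ K n),
        env E s E' ∧ g ≫ h = φ := by
  classical
  induction n with
  | zero =>
    intro C hC φ
    obtain ⟨κ, a, m, ⟨e⟩⟩ := h0
    obtain ⟨s, hs, E', hE', g, b, hgb⟩ := exists_factor_of_compact (𝟭 D) E hC a m (φ ≫ e.hom)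
    refine ⟨s, hs, E', g, b ≫ e.inv, hE', ?_⟩
    simp only [Functor.id_obj, Functor.id_map] at hgb
    rw [← Category.assoc, ← hgb, Category.assoc, e.hom_inv_id, Category.comp_id]
  | succ n ih =>
    intro C hC φ
    obtain ⟨κ, a, m, y, z, hT⟩ := hstep n
    -- step 1: factor `φ ≫ z` through a shifted finite envelope object
    obtain ⟨s₁, hs₁, E₁, hE₁, α, b, hαb⟩ :=
      exists_factor_of_compact (shiftFunctor D (1 : ℤ)) E hC a m (φ ≫ z)
    -- step 2: a triangle `E₁ ⟶ C' ⟶ C ⟶ E₁⟦1⟧`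
    obtain ⟨C', v, u, hT₁⟩ := distinguished_cocone_triangle₂ α
    have hC' : CohDer.IsCompactObject C' :=
      isCompactObject_ext₂ _ hT₁ (env_compact E hc s₁ hE₁) hC
    -- step 3: the map `C' ⟶ K n`
    obtain ⟨β, hβ₁, hβ₂⟩ : ∃ β : C' ⟶ K n, v ≫ β = b ≫ y ∧ u ≫ φ = β ≫ f n :=
      complete_distinguished_triangle_morphism₂ _ _ hT₁ hT b φ hαb.symm
    -- step 4: induction hypothesis for `β`
    obtain ⟨s₂, hs₂, E₂, g₂, h₂, hE₂, hgh₂⟩ := ih C' hC' β
    -- step 5: cone of `E₁ ⟶ E₂`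
    obtain ⟨E₃, p, q, hT₃⟩ := distinguished_cocone_triangle (v ≫ g₂)
    have hs₁₂ : (s₁ ∪ s₂).Nonempty := hs₁.mono Finset.subset_union_left
    have := env_isTriangulated E hs₁₂
    have hE₃ : env E (s₁ ∪ s₂) E₃ :=
      (env E (s₁ ∪ s₂)).ext_of_isTriangulatedClosed₃ _ hT₃
        (env_mono E Finset.subset_union_left _ hE₁) (env_mono E Finset.subset_union_right _ hE₂)
    -- step 6: maps `C ⟶ E₃` and `E₃ ⟶ K (n+1)`
    obtain ⟨c, hc₁, hc₂⟩ : ∃ c : C ⟶ E₃, u ≫ c = g₂ ≫ p ∧
        α ≫ (shiftFunctor D (1 : ℤ)).map (𝟙 E₁) = c ≫ q :=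
      complete_distinguished_triangle_morphism _ _ hT₁ hT₃ (𝟙 E₁) g₂
        (show v ≫ g₂ = 𝟙 E₁ ≫ v ≫ g₂ from (Category.id_comp _).symm)
    obtain ⟨d, hd₁, hd₂⟩ : ∃ d : E₃ ⟶ K (n + 1), p ≫ d = h₂ ≫ f n ∧
        q ≫ (shiftFunctor D (1 : ℤ)).map b = d ≫ z :=
      complete_distinguished_triangle_morphism _ _ hT₃ hT b h₂
        (show (v ≫ g₂) ≫ h₂ = b ≫ y by rw [Category.assoc, hgh₂, hβ₁])
    -- step 7: the difference factors through `f n`
    have hdiff : (φ - c ≫ d) ≫ z = 0 := by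
      rw [Preadditive.sub_comp, Category.assoc, ← hd₂, ← Category.assoc, ← hc₂, hαb]
      simp
    obtain ⟨δ, hδ⟩ : ∃ δ : C ⟶ K n, φ - c ≫ d = δ ≫ f n :=
      Triangle.coyoneda_exact₃ _ hT (φ - c ≫ d) hdiff
    obtain ⟨s₄, hs₄, E₄, g₄, h₄, hE₄, hgh₄⟩ := ih C hC δ
    -- step 8: assemble
    have hs : (s₁ ∪ s₂ ∪ s₄).Nonempty := hs₁₂.mono Finset.subset_union_left
    have := env_isTriangulated E hs
    refine ⟨s₁ ∪ s₂ ∪ s₄, hs, E₃ ⊞ E₄, biprod.lift c g₄, biprod.desc d (h₄ ≫ f n),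
      prop_biprod' _ (env_mono E Finset.subset_union_left _ hE₃)
        (env_mono E Finset.subset_union_right _ hE₄), ?_⟩
    rw [biprod.lift_desc, ← Category.assoc, hgh₄, ← hδ]
    abel

end aux

open CategoryTheory.Limits CategoryTheory.Pretriangulated in
/-- Let D be a triangulated category with all small direct sums and E a small nonempty family of compact
objects (nonempty so that the envelope of a finite subfamily can contain a zero object). Let X₀ → X₁
→ … be a sequential system in which X₀ is a direct sum of shifts of members of E and each Xₙ → Xₙ₊₁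
sits in a distinguished triangle Yₙ → Xₙ → Xₙ₊₁ → Yₙ[1] with Yₙ a direct sum of shifts of members of
E. Then every morphism from a compact object C to some Xₙ factors through an object of the
triangulated envelope (closure under shifts, finite sums, summands and extensions) of finitely many
members of E. -/
theorem result {D : Type u} [Category.{v} D] [Preadditive D] [Limits.HasZeroObject D] [HasShift D ℤ]
    [∀ n : ℤ, (shiftFunctor D n).Additive] [Pretriangulated D] [IsTriangulated D] [HasCoproducts.{v} D]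
    {ι : Type v} [Nonempty ι] (E : ι → D) (hc : ∀ i, CohDer.IsCompactObject (E i))
    (K : ℕ → D) (f : ∀ n, K n ⟶ K (n + 1))
    (h0 : ∃ (κ : Type v) (a : κ → ι) (m : κ → ℤ), Nonempty (K 0 ≅ ∐ (fun k => (shiftFunctor D (m k)).obj (E (a k)))))
    (hstep : ∀ n, ∃ (κ : Type v) (a : κ → ι) (m : κ → ℤ) (y : (∐ fun k => (shiftFunctor D (m k)).obj (E (a k))) ⟶ K n)
      (z : K (n + 1) ⟶ (shiftFunctor D (1 : ℤ)).obj (∐ fun k => (shiftFunctor D (m k)).obj (E (a k)))),
      Triangle.mk y (f n) z ∈ distinguishedTriangles)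
    (C : D) (hC : CohDer.IsCompactObject C) (n : ℕ) (φ : C ⟶ K n) :
    ∃ (s : Finset ι) (E' : D) (g : C ⟶ E') (h : E' ⟶ K n),
      ObjectProperty.triangEnvelope (fun Y : D => ∃ i ∈ s, Y = E i) E' ∧ g ≫ h = φ := by
  obtain ⟨s, _, E', g, h, hE', hgh⟩ := main E hc K f h0 hstep n C hC φ
  exact ⟨s, E', g, h, hE', hgh⟩

end Groth.Agent.S1076
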