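import Groth.Statements.S0978
import Groth.Agent.S0984
import Groth.Agent.S1076
import Mathlib.CategoryTheory.Triangulated.Orthogonal

set_option autoImplicit false
universe v u
open CategoryTheory
open CohDer

namespace Groth.Agent.S0978

section aux

open CategoryTheory.Limits CategoryTheory.Pretriangulated Groth.Agent.Lib.Helper6

variable {D : Type u} [Category.{v} D] [Preadditive D] [Limits.HasZeroObject D] [HasShift D ℤ]
    [∀ n : ℤ, (shiftFunctor D n).Additive] [Pretriangulated D]

instance leftOrthogonal_retracts (P : ObjectProperty D) :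
    P.leftOrthogonal.IsStableUnderRetracts where
  of_retract r h Y f hY := by
    have : r.r ≫ f = 0 := h _ hY
    calc f = r.i ≫ r.r ≫ f := by simp
      _ = 0 := by rw [this, comp_zero]

/-- if all maps from `E` to all shifts of `Z` vanish, so do all maps from the envelope of `E` -/
lemma envelope_orthogonal [IsTriangulated D] (E Z : D)
    (h : ∀ (n : ℤ) (f : E ⟶ (shiftFunctor D n).obj Z), f = 0) {C : D}
    (hC : ObjectProperty.triangEnvelope (fun Y : D => Y = E) C) (n : ℤ)
    (f : C ⟶ (shiftFunctor D n).obj Z) : f = 0 := by
  let P : ObjectProperty D := ObjectProperty.shiftClosure (fun Y : D => Y = Z) ℤ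
  have hle : ObjectProperty.triangEnvelope (fun Y : D => Y = E) ≤ P.leftOrthogonal := by
    rw [ObjectProperty.triangEnvelope_le_iff]
    rintro Y rfl W g ⟨W', a, e, rfl⟩
    rw [← cancel_mono e.hom, zero_comp]
    exact h a _
  exact hle C hC f ⟨Z, n, Iso.refl _, rfl⟩

end aux

open CategoryTheory.Limits in
/-- Let D be a triangulated category with all small direct sums and E a compact object. Then E generates
D (an object admitting only zero maps from all shifts of E is zero) if and only if D is compactly
generated and every compact object lies in the triangulated envelope of E (objects reachable from E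
by shifts, finite sums, direct summands and extensions). -/
theorem result {D : Type u} [Category.{v} D] [Preadditive D] [Limits.HasZeroObject D] [HasShift D ℤ]
    [∀ n : ℤ, (shiftFunctor D n).Additive] [Pretriangulated D] [IsTriangulated D] [HasCoproducts.{v} D]
    [HasColimitsOfShape (Discrete ℕ) D]
    (E : D) (hE : CohDer.IsCompactObject E) :
    CohDer.Generates (fun _ : Unit => E) ↔
      (CohDer.IsCompactlyGenerated D ∧ ∀ X : D, CohDer.IsCompactObject X → ObjectProperty.triangEnvelope (fun Y : D => Y = E) X) := by
  constructor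
  · intro hg
    have hg' : CohDer.Generates (fun _ : PUnit.{v + 1} => E) := fun K hK =>
      hg K fun _ n f => hK PUnit.unit n f
    refine ⟨⟨PUnit.{v + 1}, fun _ => E, fun _ => hE, hg'⟩, fun X hX => ?_⟩
    obtain ⟨K, f, i, hL, h0, hstep⟩ :=
      Groth.Agent.S0984.result (fun _ : PUnit.{v + 1} => E) (fun _ => hE) hg' X
    obtain ⟨N, ψ, hψ⟩ := Groth.Agent.Lib.Helper6.exists_factor_of_isHocolim hL hX (𝟙 X)
    obtain ⟨s, E', g, h, hE', hgh⟩ :=
      Groth.Agent.S1076.result (fun _ : PUnit.{v + 1} => E) (fun _ => hE) K f h0 hstep X hX N ψ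
    have hE'' : ObjectProperty.triangEnvelope (fun Y : D => Y = E) E' := by
      refine ObjectProperty.monotone_triangEnvelope ?_ E' hE'
      rintro Y ⟨_, _, rfl⟩
      rfl
    refine ObjectProperty.IsStableUnderRetracts.of_retract
      (⟨g, h ≫ i N, ?_⟩ : Retract X E') hE''
    rw [← Category.assoc, hgh, ← hψ]
  · rintro ⟨⟨ι, C, hCc, hCg⟩, henv⟩ Z hZ
    apply hCg Z
    intro j n f
    exact envelope_orthogonal E Z (fun n f => hZ () n f) (henv (C j) (hCc j)) n f

end Groth.Agent.S0978
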