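import Groth.Statements.S0983
-- import your own Groth.Agent.* helpers here

set_option autoImplicit false
universe v u
open CategoryTheory
open CohDer

namespace Groth.Agent.S0983

open CategoryTheory.Pretriangulated in
/-- In a triangulated category, a commutative square f ≫ v = u ≫ f' (with f : X ⟶ Y, f' : X' ⟶ Y', u : X
⟶ X', v : Y ⟶ Y') extends to a diagram with three distinguished rows (X, Y, Z), (X', Y', Z'), (X'',
Y'', Z'') and three distinguished columns (X, X', X''), (Y, Y', Y''), (Z, Z', Z''), in which all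
squares commute except the one formed by the third morphisms of the last row and last column, which
anticommutes; the fourth row and column are the shifts of the first ones. -/
theorem result {D : Type u} [Category.{v} D] [Preadditive D] [Limits.HasZeroObject D] [HasShift D ℤ]
    [∀ n : ℤ, (shiftFunctor D n).Additive] [Pretriangulated D] [IsTriangulated D]
    {X Y X' Y' : D} (f : X ⟶ Y) (f' : X' ⟶ Y') (u : X ⟶ X') (v : Y ⟶ Y') (comm : f ≫ v = u ≫ f') :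
    ∃ (Z Z' X'' Y'' Z'' : D) (g : Y ⟶ Z) (h : Z ⟶ (shiftFunctor D (1 : ℤ)).obj X)
      (g' : Y' ⟶ Z') (h' : Z' ⟶ (shiftFunctor D (1 : ℤ)).obj X')
      (f'' : X'' ⟶ Y'') (g'' : Y'' ⟶ Z'') (h'' : Z'' ⟶ (shiftFunctor D (1 : ℤ)).obj X'')
      (u' : X' ⟶ X'') (u'' : X'' ⟶ (shiftFunctor D (1 : ℤ)).obj X)
      (v' : Y' ⟶ Y'') (v'' : Y'' ⟶ (shiftFunctor D (1 : ℤ)).obj Y)
      (w : Z ⟶ Z') (w' : Z' ⟶ Z'') (w'' : Z'' ⟶ (shiftFunctor D (1 : ℤ)).obj Z),
      Triangle.mk f g h ∈ distinguishedTriangles ∧ Triangle.mk f' g' h' ∈ distinguishedTriangles ∧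
      Triangle.mk f'' g'' h'' ∈ distinguishedTriangles ∧
      Triangle.mk u u' u'' ∈ distinguishedTriangles ∧ Triangle.mk v v' v'' ∈ distinguishedTriangles ∧
      Triangle.mk w w' w'' ∈ distinguishedTriangles ∧
      g ≫ w = v ≫ g' ∧ h ≫ (shiftFunctor D (1 : ℤ)).map u = w ≫ h' ∧
      f' ≫ v' = u' ≫ f'' ∧ g' ≫ w' = v' ≫ g'' ∧ h' ≫ (shiftFunctor D (1 : ℤ)).map u' = w' ≫ h'' ∧
      f'' ≫ v'' = u'' ≫ (shiftFunctor D (1 : ℤ)).map f ∧ g'' ≫ w'' = v'' ≫ (shiftFunctor D (1 : ℤ)).map g ∧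
      h'' ≫ (shiftFunctor D (1 : ℤ)).map u'' = -(w'' ≫ (shiftFunctor D (1 : ℤ)).map h) := by
  obtain ⟨Z, g, h, hT⟩ := distinguished_cocone_triangle f
  obtain ⟨Z', g', h', hT'⟩ := distinguished_cocone_triangle f'
  obtain ⟨X'', u', u'', hU⟩ := distinguished_cocone_triangle u
  obtain ⟨Y'', v', v'', hV⟩ := distinguished_cocone_triangle v
  obtain ⟨A, p, q, hD⟩ := distinguished_cocone_triangle (f ≫ v)
  -- first octahedron: `f ≫ v`
  obtain ⟨α, β, a1, a2, a3, a4, amem⟩ : ∃ (α : Z ⟶ A) (β : A ⟶ Y''), g ≫ α = v ≫ p ∧ α ≫ q = h ∧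
      p ≫ β = v' ∧ q ≫ (shiftFunctor D (1 : ℤ)).map f = β ≫ v'' ∧
      Triangle.mk α β (v'' ≫ (shiftFunctor D (1 : ℤ)).map g) ∈ distinguishedTriangles := by
    have o₁ : Triangulated.Octahedron rfl hT hV hD := Triangulated.someOctahedron _ _ _ _
    exact ⟨o₁.m₁, o₁.m₃, o₁.comm₁, o₁.comm₂, o₁.comm₃, o₁.comm₄, o₁.mem⟩
  -- second octahedron: `u ≫ f' = f ≫ v`
  obtain ⟨α', β', b1, b2, b3, b4, bmem⟩ : ∃ (α' : X'' ⟶ A) (β' : A ⟶ Z'), u' ≫ α' = f' ≫ p ∧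
      α' ≫ q = u'' ∧ p ≫ β' = g' ∧ q ≫ (shiftFunctor D (1 : ℤ)).map u = β' ≫ h' ∧
      Triangle.mk α' β' (h' ≫ (shiftFunctor D (1 : ℤ)).map u') ∈ distinguishedTriangles := by
    have o₂ : Triangulated.Octahedron comm.symm hU hT' hD := Triangulated.someOctahedron _ _ _ _
    exact ⟨o₂.m₁, o₂.m₃, o₂.comm₁, o₂.comm₂, o₂.comm₃, o₂.comm₄, o₂.mem⟩
  obtain ⟨Z'', g'', h'', hF⟩ := distinguished_cocone_triangle (α' ≫ β)
  -- third octahedron: `α' ≫ β`
  have hrot : Triangle.mk β (v'' ≫ (shiftFunctor D (1 : ℤ)).map g)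
      (-(shiftFunctor D (1 : ℤ)).map α) ∈ distinguishedTriangles := rot_of_distTriang _ amem
  obtain ⟨w', w'', c1, c2, c3, c4, cmem⟩ : ∃ (w' : Z' ⟶ Z'') (w'' : Z'' ⟶ (shiftFunctor D (1 : ℤ)).obj Z),
      β' ≫ w' = β ≫ g'' ∧ w' ≫ h'' = h' ≫ (shiftFunctor D (1 : ℤ)).map u' ∧
      g'' ≫ w'' = v'' ≫ (shiftFunctor D (1 : ℤ)).map g ∧
      h'' ≫ (shiftFunctor D (1 : ℤ)).map α' = w'' ≫ (-(shiftFunctor D (1 : ℤ)).map α) ∧
      Triangle.mk w' w'' ((-(shiftFunctor D (1 : ℤ)).map α) ≫ (shiftFunctor D (1 : ℤ)).map β') ∈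
        distinguishedTriangles := by
    have o₃ : Triangulated.Octahedron rfl bmem hrot hF := Triangulated.someOctahedron _ _ _ _
    exact ⟨o₃.m₁, o₃.m₃, o₃.comm₁, o₃.comm₂, o₃.comm₃, o₃.comm₄, o₃.mem⟩
  refine ⟨Z, Z', X'', Y'', Z'', g, h, g', h', α' ≫ β, g'', h'', u', u'', v', v'',
    α ≫ β', w', w'', hT, hT', hF, hU, hV, ?_, ?_, ?_, ?_, ?_, ?_, ?_, ?_, ?_⟩
  · rw [rotate_distinguished_triangle]
    refine isomorphic_distinguished _ cmem _ (Triangle.isoMk _ _ (Iso.refl Z') (Iso.refl Z'')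
      (Iso.refl ((shiftFunctor D (1 : ℤ)).obj Z)) ?_ ?_ ?_)
    · exact (Category.comp_id _).trans (Category.id_comp _).symm
    · exact (Category.comp_id _).trans (Category.id_comp _).symm
    · change (-(shiftFunctor D (1 : ℤ)).map (α ≫ β')) ≫ (shiftFunctor D (1 : ℤ)).map (𝟙 Z') =
        𝟙 _ ≫ ((-(shiftFunctor D (1 : ℤ)).map α) ≫ (shiftFunctor D (1 : ℤ)).map β')
      simp
  · rw [← Category.assoc, a1, Category.assoc, b3]
  · rw [Category.assoc, ← b4, ← Category.assoc, a2]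
  · rw [← Category.assoc, b1, Category.assoc, a3]
  · rw [← b3, Category.assoc, c1, ← Category.assoc, a3]
  · exact c2.symm
  · rw [Category.assoc, ← a4, ← Category.assoc, b2]
  · exact c3
  · rw [← b2, Functor.map_comp, ← Category.assoc, c4, ← a2, Functor.map_comp]
    simp

end Groth.Agent.S0983
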