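import Groth.Statements.S0988
import Groth.Agent.Lib.Helper32.QCohInjFlasque2

set_option autoImplicit false
universe u
open CategoryTheory AlgebraicGeometry Opposite
open Perf

namespace Groth.Agent.S0988

open Groth.Agent.Lib.Helper32.QCohInjFlasque Groth.Agent.Lib.QCoh in
theorem result (X : Scheme.{u}) [IsNoetherian X]
    (J : ObjectProperty.FullSubcategory (fun M : X.Modules => Coh.IsQCoh M)) (hJ : Injective J)
    (U V : X.Opens) (hUV : U ≤ V) :
    Function.Surjective (J.obj.val.map (homOfLE hUV).op).hom := by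
  haveI : J.obj.IsQuasicoherent := J.property
  obtain ⟨G, hGq, hGf, φ, hφ⟩ := exists_mono_flasque J.obj
  let G' : ObjectProperty.FullSubcategory (fun M : X.Modules => Coh.IsQCoh M) := ⟨G, hGq⟩
  let φ' : J ⟶ G' := ObjectProperty.homMk φ
  haveI : Mono φ' := by
    apply (ObjectProperty.ι _).mono_of_mono_map
    exact hφ
  let r : G' ⟶ J := Injective.factorThru (𝟙 J) φ'
  have hr : φ' ≫ r = 𝟙 J := Injective.comp_factorThru _ _
  intro s
  obtain ⟨t, ht⟩ := hGf U V hUV (φ.app U s)
  refine ⟨r.hom.app V t, ?_⟩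
  have h1 := app_naturality_apply r.hom (homOfLE hUV) t
  have h2 : (φ ≫ r.hom).app U s = s := by
    have h3 : φ ≫ r.hom = 𝟙 J.obj := congrArg (fun m => m.hom) hr
    rw [h3]
    rfl
  change J.obj.presheaf.map (homOfLE hUV).op (r.hom.app V t) = s
  rw [← h1, ht]
  exact h2

end Groth.Agent.S0988
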