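import Groth.Statements.S0989
import Mathlib
-- import your own Groth.Agent.* helpers here

set_option autoImplicit false
universe w v u
open CategoryTheory CategoryTheory.Limits
open CohDer

namespace Groth.Agent.S0989

open Pretriangulated DerivedCategory ComposableArrows ZeroObject

variable {A : Type u} [Category.{v} A] [Abelian A]

lemma exact_retract {M N : A} (i : M ⟶ N) (r : N ⟶ M) (h : i ≫ r = 𝟙 M) :
    (ShortComplex.mk (𝟙 N - r ≫ i) r (by simp [Preadditive.sub_comp, h])).Exact := by
  rw [ShortComplex.exact_iff_exact_up_to_refinements]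
  intro B x₂ hx₂
  refine ⟨B, 𝟙 B, inferInstance, x₂, ?_⟩
  dsimp at hx₂ ⊢
  rw [Preadditive.comp_sub, ← Category.assoc, hx₂]
  simp



/-- Let P be a weak Serre class in an abelian category A: P is closed under isomorphisms, holds for a
zero object, and whenever X₀ → X₁ → X₂ → X₃ → X₄ is exact with P holding for X₀, X₁, X₃, X₄ it holds
for X₂. Then the class of objects of the derived category all of whose cohomology objects satisfy P
is a triangulated subcategory (contains zero, stable under shifts, closed under extensions) which is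
moreover closed under retracts (saturated). -/
theorem result {A : Type u} [Category.{v} A] [Abelian A] [HasDerivedCategory.{w} A]
    (P : ObjectProperty A) [P.IsClosedUnderIsomorphisms] (h0 : ∃ Z : A, IsZero Z ∧ P Z)
    (hP : ∀ S : ComposableArrows A 4, S.Exact → P (S.obj 0) → P (S.obj 1) → P (S.obj 3) → P (S.obj 4) → P (S.obj 2)) :
    ObjectProperty.IsTriangulated (fun X : DerivedCategory A => ∀ n : ℤ, P ((DerivedCategory.homologyFunctor A n).obj X)) ∧
    ObjectProperty.IsStableUnderRetracts (fun X : DerivedCategory A => ∀ n : ℤ, P ((DerivedCategory.homologyFunctor A n).obj X)) := by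
  obtain ⟨Z, hZ, hPZ⟩ := h0
  have hP0 : ∀ M : A, IsZero M → P M := fun M hM => P.prop_of_iso (hZ.iso hM) hPZ
  refine ⟨{ toContainsZero := ?_, toIsStableUnderShift := ?_, toIsTriangulatedClosed₂ := ?_}, ⟨?_⟩⟩
  · exact ⟨⟨0, isZero_zero _, fun n => hP0 _ ((homologyFunctor A n).map_isZero (isZero_zero _))⟩⟩
  · refine ⟨fun a => ⟨fun X hX n => ?_⟩⟩
    exact P.prop_of_iso (((homologyFunctor A 0).shiftIso a n (a + n) rfl).app X).symm (hX (a + n))
  · refine ⟨fun T hT h₁ h₃ => ObjectProperty.le_isoClosure _ _ (fun n => ?_)⟩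
    have := hP (mk₄ (HomologySequence.δ T (n-1) n (by omega)) ((homologyFunctor A n).map T.mor₁)
      ((homologyFunctor A n).map T.mor₂) (HomologySequence.δ T n (n+1) rfl)) ?_
      (h₃ (n-1)) (h₁ n) (h₃ n) (h₁ (n+1))
    · exact this
    · exact exact_of_δ₀ (HomologySequence.exact₁ T hT (n-1) n (by omega)).exact_toComposableArrows
        (exact_of_δ₀ (HomologySequence.exact₂ T hT n).exact_toComposableArrows
          (HomologySequence.exact₃ T hT n (n+1) rfl).exact_toComposableArrows)
  · intro X Y r hY n
    let i' := (homologyFunctor A n).map r.i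
    let r' := (homologyFunctor A n).map r.r
    have hir : i' ≫ r' = 𝟙 _ := by
      rw [← CategoryTheory.Functor.map_comp, r.retract, CategoryTheory.Functor.map_id]
    have hex := exact_retract i' r' hir
    have := hP (mk₄ (𝟙 _ - r' ≫ i') r' (0 : _ ⟶ Z) (0 : Z ⟶ Z)) ?_ (hY n) (hY n) hPZ hPZ
    · exact this
    · refine exact_of_δ₀ hex.exact_toComposableArrows
        (exact_of_δ₀ (ShortComplex.Exact.exact_toComposableArrows (S := ShortComplex.mk r' (0 : _ ⟶ Z) comp_zero) ?_)
          (ShortComplex.Exact.exact_toComposableArrows (S := ShortComplex.mk (0 : _ ⟶ Z) (0 : Z ⟶ Z) comp_zero) ?_))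
      · have : Epi r' := SplitEpi.epi ⟨i', hir⟩
        exact (ShortComplex.exact_iff_epi _ rfl).mpr this
      · exact ShortComplex.exact_of_isZero_X₂ _ hZ

end Groth.Agent.S0989
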