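import Groth.Statements.S0998
import Groth.Agent.Lib.Helper34.SchPushQC
import Groth.Agent.S6508
import Groth.Agent.Lib.Helper6.SerreDerived
import Groth.Agent.Lib.Helper99.Glue

set_option autoImplicit false
universe u
open CategoryTheory CategoryTheory.Limits AlgebraicGeometry
attribute [local instance] HasDerivedCategory.standard
open Perf

namespace Groth.Agent.S0998

/-- Let f : X ⟶ S be quasi-compact and quasi-separated and assume Rf_* exists on the unbounded derived
category. If K ∈ D(O_X) has quasi-coherent cohomology sheaves, so does Rf_*K. -/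
theorem result {X S : Scheme.{u}} (f : X ⟶ S) [QuasiCompact f] [QuasiSeparated f] [DCoh.HasRpush f]
    (K : DCoh.D X) (hK : DCoh.IsQCohD K) : DCoh.IsQCohD ((DCoh.Rpush f).obj K) := by
  intro i
  refine Groth.Agent.Lib.QCoh.isQuasicoherent_of_forall_affineOpens _ fun V => ?_
  haveI : DCoh.HasRpush (f ∣_ (V : S.Opens)) := Groth.Agent.Lib.Helper99.Glue.hasRpush _
  obtain ⟨e⟩ := Groth.Agent.S6508.result f (V : S.Opens)
  have e1 := Groth.Agent.Lib.Helper6.SerreDerived.homologyMapIso
    (Scheme.Modules.restrictFunctor (V : S.Opens).ι) ((DCoh.Rpush f).obj K) i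
  have e2 := e.app K
  have hKU : DCoh.IsQCohD ((DCoh.restrictD (f ⁻¹ᵁ (V : S.Opens)).ι).obj K) := by
    intro j
    have e3 := Groth.Agent.Lib.Helper6.SerreDerived.homologyMapIso
      (Scheme.Modules.restrictFunctor (f ⁻¹ᵁ (V : S.Opens)).ι) K j
    haveI : Coh.IsQCoh (DCoh.HD K j) := hK j
    exact Groth.Agent.Lib.QCoh.isQuasicoherent_of_iso e3.symm
      (inferInstanceAs ((DCoh.HD K j).restrict (f ⁻¹ᵁ (V : S.Opens)).ι).IsQuasicoherent)
  haveI : IsAffine ((V : S.Opens) : Scheme.{u}) := V.2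
  have key := @Groth.Agent.Lib.Helper34.SchPush.cohIn_R_of_compact _ _ (f ∣_ (V : S.Opens))
    (HasDerivedCategory.standard _) (HasDerivedCategory.standard _) _ _ _
    (DCoh.Rpush (f ∣_ (V : S.Opens)))
    ((DCoh.pushKh (f ∣_ (V : S.Opens))).totalRightDerivedUnit DerivedCategory.Qh
      (HomotopyCategory.quasiIso (f ⁻¹ᵁ (V : S.Opens) : Scheme.{u}).Modules (ComplexShape.up ℤ)))
    (inferInstanceAs ((DCoh.Rpush (f ∣_ (V : S.Opens))).IsRightDerivedFunctor
      ((DCoh.pushKh (f ∣_ (V : S.Opens))).totalRightDerivedUnit DerivedCategory.Qh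
        (HomotopyCategory.quasiIso (f ⁻¹ᵁ (V : S.Opens) : Scheme.{u}).Modules (ComplexShape.up ℤ)))
      (HomotopyCategory.quasiIso (f ⁻¹ᵁ (V : S.Opens) : Scheme.{u}).Modules (ComplexShape.up ℤ))))
    _ hKU i
  exact Groth.Agent.Lib.QCoh.isQuasicoherent_of_iso
    ((DerivedCategory.homologyFunctor _ i).mapIso e2.symm ≪≫ e1) key

end Groth.Agent.S0998
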