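import Groth.Statements.S10290
import Mathlib.AlgebraicGeometry.Morphisms.ClosedImmersion
import Mathlib.AlgebraicGeometry.Morphisms.UnderlyingMap

set_option autoImplicit false
universe u
open CategoryTheory CategoryTheory.Limits AlgebraicGeometry
open AlgSp

namespace Groth.Agent.S10290

theorem isDominant_Spec_fractionRing (A K : Type u) [CommRing A] [IsDomain A] [Field K] [Algebra A K]
    [IsFractionRing A K] : IsDominant (Spec.map (CommRingCat.ofHom (algebraMap A K))) := by
  constructor
  change DenseRange (PrimeSpectrum.comap (algebraMap A K))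
  rw [PrimeSpectrum.denseRange_comap_iff_ker_le_nilRadical]
  rw [(RingHom.injective_iff_ker_eq_bot _).mp (IsFractionRing.injective A K)]
  exact bot_le

/-- A separated morphism of algebraic spaces satisfies the uniqueness part of the valuative criterion. -/
theorem result {S : Scheme.{u}} {X Y : AlgSp.Space S} (f : X ⟶ Y)
    (hf : AlgSp.IsSeparatedMor f.hom) : AlgSp.UniqVC f.hom := by
  intro sq l l' h1 h2 h1' h2'
  have hw : l ≫ f.hom = l' ≫ f.hom := h2.trans h2'.symm
  let m : (AlgSp.yon S).obj sq.ptA ⟶ pullback f.hom f.hom := pullback.lift l l' hw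
  obtain ⟨hrep, hprop⟩ := (AlgSp.repWith_iff @IsClosedImmersion (pullback.diagonal f.hom)).1 hf
  obtain ⟨P, snd, fst, pb⟩ := hrep m
  have hci : IsClosedImmersion snd.left := hprop m fst snd pb
  -- the generic point factors through P
  have hk : ((AlgSp.yon S).map sq.j ≫ l) ≫ pullback.diagonal f.hom = (AlgSp.yon S).map sq.j ≫ m := by
    apply pullback.hom_ext
    · rw [Category.assoc, pullback.diagonal_fst, Category.comp_id, Category.assoc, pullback.lift_fst]
    · rw [Category.assoc, pullback.diagonal_snd, Category.comp_id, Category.assoc, pullback.lift_snd,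
        h1, h1']
  obtain ⟨k0, hk0⟩ := (AlgSp.yon S).map_surjective (pb.lift _ _ hk)
  have hk1 : k0 ≫ snd = sq.j := (AlgSp.yon S).map_injective (by
    rw [Functor.map_comp, hk0]; exact pb.lift_snd _ _ _)
  have hk2 : k0.left ≫ snd.left = Spec.map (CommRingCat.ofHom (algebraMap sq.A sq.K)) :=
    congrArg CommaMorphism.left hk1
  have hdomj : IsDominant (Spec.map (CommRingCat.ofHom (algebraMap sq.A sq.K))) :=
    isDominant_Spec_fractionRing sq.A sq.K
  have hdom : IsDominant snd.left := by
    rw [← hk2] at hdomj
    exact IsDominant.of_comp k0.left snd.left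
  have hsurj : Surjective snd.left :=
    surjective_of_isDominant_of_isClosed_range _ (Scheme.Hom.isClosedEmbedding _).isClosed_range
  have hred : IsReduced (Spec (CommRingCat.of sq.A)) := inferInstance
  have hiso : IsIso snd.left :=
    @isIso_of_isClosedImmersion_of_surjective _ _ snd.left hci hsurj hred
  have hiso' : IsIso snd := by
    have : IsIso ((Over.forget S).map snd) := hiso
    exact isIso_of_reflects_iso snd (Over.forget S)
  have key : l = (AlgSp.yon S).map (inv snd) ≫ fst ∧ l' = (AlgSp.yon S).map (inv snd) ≫ fst := by
    have hm : ((AlgSp.yon S).map (inv snd) ≫ fst) ≫ pullback.diagonal f.hom = m := by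
      rw [Category.assoc, pb.w, ← Category.assoc, ← Functor.map_comp, IsIso.inv_hom_id]
      exact (congrArg (· ≫ m) ((AlgSp.yon S).map_id _)).trans (Category.id_comp _)
    constructor
    · have := congrArg (· ≫ pullback.fst f.hom f.hom) hm
      simp only [Category.assoc, pullback.diagonal_fst, Category.comp_id] at this
      rw [this]
      exact (pullback.lift_fst _ _ _).symm
    · have := congrArg (· ≫ pullback.snd f.hom f.hom) hm
      simp only [Category.assoc, pullback.diagonal_snd, Category.comp_id] at this
      rw [this]
      exact (pullback.lift_snd _ _ _).symm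
  rw [key.1, ← key.2]

end Groth.Agent.S10290
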