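import Groth.Statements.S1007
import Groth.Agent.Lib.Helper34.ModTruncRlim
import Groth.Agent.Lib.Helper68.DerLimSh5
import Groth.Agent.Lib.Cohomology.Helper1_SerreVanishing

set_option autoImplicit false
universe u
open CategoryTheory CategoryTheory.Limits AlgebraicGeometry
attribute [local instance] HasDerivedCategory.standard
open Perf

namespace Groth.Agent.S1007

lemma aux0 {X : Scheme.{u}} (M : X.Modules) (hE : Coh.IsQCoh M) (U : X.Opens) (hU : IsAffineOpen U)
    (k : ℕ) (hk : 0 < k) :
    Subsingleton (CohTop.HU (Coh.toAb M) k U) := by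
  obtain ⟨k, rfl⟩ : ∃ k' : ℕ, k = k' + 1 := ⟨k - 1, by omega⟩
  have : Coh.IsQCoh M := hE
  exact Groth.Agent.Lib.Cohomology.HU_succ_subsingleton_of_isAffineOpen
      M U hU k

lemma aux {X : Scheme.{u}} (E : DCoh.D X) (hE : DCoh.IsQCohD E) (U : X.Opens) (hU : IsAffineOpen U)
    (q : ℤ) (k : ℕ) (hk : 0 < k) :
    Subsingleton (CohTop.HU (Coh.toAb (DCoh.HD E q)) k U) :=
  aux0 _ (hE q) U hU k hk

/-- Let X be a scheme and E an object of D(O_X) with quasi-coherent cohomology sheaves. Then the
canonical map from E to the derived limit of its truncations τ_{≥ -n}E is an isomorphism; concretely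
(granted the countable product of the truncations exists in D(O_X), which holds): the map E ⟶ ∏
τ_{≥-n}E with components the truncation morphisms, followed by 'identity minus transition', extends
to a distinguished triangle E ⟶ ∏ τ_{≥-n}E ⟶ ∏ τ_{≥-n}E ⟶ E[1]. -/
theorem result (X : Scheme.{u}) (E : DCoh.D X) (hE : DCoh.IsQCohD E)
    [HasProduct (fun n : ℕ => ((DerivedCategory.TStructure.t : CategoryTheory.Triangulated.TStructure (DCoh.D X)).truncGE (-(n : ℤ))).obj E)] :
    ∃ c : (∏ᶜ fun n : ℕ => ((DerivedCategory.TStructure.t : CategoryTheory.Triangulated.TStructure (DCoh.D X)).truncGE (-(n : ℤ))).obj E) ⟶ E⟦(1 : ℤ)⟧,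
      CategoryTheory.Pretriangulated.Triangle.mk
        (Pi.lift fun n : ℕ => ((DerivedCategory.TStructure.t : CategoryTheory.Triangulated.TStructure (DCoh.D X)).truncGEπ (-(n : ℤ))).app E)
        (Pi.lift fun n : ℕ => Pi.π (fun n : ℕ => ((DerivedCategory.TStructure.t : CategoryTheory.Triangulated.TStructure (DCoh.D X)).truncGE (-(n : ℤ))).obj E) n -
          Pi.π (fun n : ℕ => ((DerivedCategory.TStructure.t : CategoryTheory.Triangulated.TStructure (DCoh.D X)).truncGE (-(n : ℤ))).obj E) (n + 1) ≫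
            ((DerivedCategory.TStructure.t : CategoryTheory.Triangulated.TStructure (DCoh.D X)).natTransTruncGEOfLE (-((n + 1 : ℕ) : ℤ)) (-(n : ℤ)) (Int.neg_le_neg (Int.ofNat_le.mpr (Nat.le_succ n)))).app E)
        c ∈ CategoryTheory.Pretriangulated.distinguishedTriangles := by
  have hB := Groth.Agent.Lib.Helper68.DerLimSh.hB_site (X := X.toTopCat) (X.affineOpens) X.isBasis_affineOpens
  rename_i hP
  have key := @Groth.Agent.Lib.Helper34.ModTruncRlim.main_site
    (TopologicalSpace.Opens X) _ (Opens.grothendieckTopology X) X.sheaf _ E hP X.affineOpens hB ?_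
  · obtain ⟨c, hc⟩ := key
    exact ⟨c, hc⟩
  · intro V hV
    refine ⟨fun _ => 0, fun T' hT => ?_⟩
    obtain ⟨ι, Y, f, hf, hcov, hY⟩ :=
      Groth.Agent.Lib.Helper34.ModTruncRlim.refine_cover X.affineOpens hB T' hT
    refine ⟨ι, Y, f, hf, hcov, fun i m k hk => ?_⟩
    exact aux E hE (Y i) (hY i) (m - k) k (by
      have : (0 : ℤ) < k := hk
      omega)

end Groth.Agent.S1007
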