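import Groth.Statements.S10100
import Groth.Agent.Lib.Helper30.AlgSpZMT5
-- import your own Groth.Agent.* helpers here

set_option autoImplicit false
universe u
open CategoryTheory CategoryTheory.Limits AlgebraicGeometry
open AlgSp

namespace Groth.Agent.S10100

set_option maxHeartbeats 800000
set_option backward.isDefEq.respectTransparency false

/-- Let `F` be a presheaf of sets on schemes over `S`, `X` a scheme over `S` and `h_X ⟶ F` a map which
is representable by algebraic spaces and locally quasi-finite. Then `h_X ⟶ F` is representable by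
schemes. -/
theorem result (S : Scheme.{u}) (F : AlgSp.PSp S) (X : Over S)
    (p : (AlgSp.pyon S).obj X ⟶ F)
    (hp : AlgSp.RepBySpWith (AlgSp.LocP (@LocallyQuasiFinite ⊓ @LocallyOfFiniteType)) p) :
    (AlgSp.pyon S).relativelyRepresentable p := by
  intro T ξ
  obtain ⟨F', f1', f2', hF', sqF, hq⟩ : ∃ (F' : AlgSp.Sp S) (f1' : F' ⟶ (AlgSp.yon S).obj X)
      (f2' : F' ⟶ (AlgSp.yon S).obj T), AlgSp.IsAlgSpace F' ∧ IsPullback f1'.hom f2'.hom p ξ ∧
        AlgSp.LocP (@LocallyQuasiFinite ⊓ @LocallyOfFiniteType) f2' := by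
    have sqF := IsPullback.of_hasPullback p ξ
    obtain ⟨h, hF', hq⟩ := hp ξ (pullback.fst p ξ) (pullback.snd p ξ) sqF
    exact ⟨⟨pullback p ξ, h⟩, ObjectProperty.homMk (pullback.fst p ξ),
      ObjectProperty.homMk (pullback.snd p ξ), hF', sqF, hq⟩
  obtain ⟨m, hm⟩ : ∃ m, m = prod.lift f1' f2' ≫ inv (prodComparison (AlgSp.yon S) X T) :=
    ⟨_, rfl⟩
  have hm1 : m ≫ (AlgSp.yon S).map (prod.fst : X ⨯ T ⟶ X) = f1' := by
    rw [hm, Category.assoc, ← prodComparison_fst, IsIso.inv_hom_id_assoc, prod.lift_fst]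
  have hm2 : m ≫ (AlgSp.yon S).map (prod.snd : X ⨯ T ⟶ T) = f2' := by
    rw [hm, Category.assoc, ← prodComparison_snd, IsIso.inv_hom_id_assoc, prod.lift_snd]
  have hmmono : Mono m := by
    refine ⟨fun {Z} a b hab => ?_⟩
    have e1 : a ≫ f1' = b ≫ f1' := by rw [← hm1, ← Category.assoc, hab, Category.assoc]
    have e2 : a ≫ f2' = b ≫ f2' := by rw [← hm2, ← Category.assoc, hab, Category.assoc]
    apply (sheafToPresheaf (AlgSp.J S) (Type (u + 1))).map_injective
    apply sqF.hom_ext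
    · exact congrArg (fun k => (sheafToPresheaf (AlgSp.J S) (Type (u + 1))).map k) e1
    · exact congrArg (fun k => (sheafToPresheaf (AlgSp.J S) (Type (u + 1))).map k) e2
  have hmlft : AlgSp.LocP @LocallyOfFiniteType m := by
    intro U V a b h ha hb comm
    obtain ⟨k, hk⟩ := (AlgSp.yon S).map_surjective (b ≫ (AlgSp.yon S).map (prod.snd : X ⨯ T ⟶ T))
    have hcomm : a ≫ f2' = (AlgSp.yon S).map (h ≫ k) ≫ 𝟙 _ := by
      rw [Category.comp_id, Functor.map_comp, hk, ← Category.assoc, ← comm, Category.assoc, hm2]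
    have h1 := (hq a (𝟙 _) (h ≫ k) ha (AlgSp.repWith_id _ T) hcomm).2
    have h2 : LocallyOfFiniteType (h.left ≫ k.left) := h1
    exact locallyOfFiniteType_of_comp h.left k.left
  obtain ⟨W', ⟨eW⟩⟩ := Groth.Agent.Lib.Helper30.ZMT.exists_iso_yon_of_mono_lft hF' m hmlft
  obtain ⟨snd, hsnd⟩ := (AlgSp.yon S).map_surjective (eW.hom ≫ f2')
  refine ⟨W', snd, eW.hom.hom ≫ f1'.hom, ?_⟩
  have hsnd' : (AlgSp.pyon S).map snd = eW.hom.hom ≫ f2'.hom :=
    congrArg (fun k => (sheafToPresheaf (AlgSp.J S) (Type (u + 1))).map k) hsnd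
  rw [hsnd']
  exact IsPullback.of_iso sqF ((sheafToPresheaf (AlgSp.J S) (Type (u + 1))).mapIso eW.symm)
    (Iso.refl _) (Iso.refl _) (Iso.refl _)
    (by
      show f1'.hom ≫ 𝟙 _ = eW.inv.hom ≫ eW.hom.hom ≫ f1'.hom
      rw [Category.comp_id, ← Category.assoc]
      have : eW.inv.hom ≫ eW.hom.hom = 𝟙 _ :=
        congrArg (fun k => (sheafToPresheaf (AlgSp.J S) (Type (u + 1))).map k) eW.inv_hom_id
      rw [this, Category.id_comp])
    (by
      show f2'.hom ≫ 𝟙 _ = eW.inv.hom ≫ eW.hom.hom ≫ f2'.hom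
      rw [Category.comp_id, ← Category.assoc]
      have : eW.inv.hom ≫ eW.hom.hom = 𝟙 _ :=
        congrArg (fun k => (sheafToPresheaf (AlgSp.J S) (Type (u + 1))).map k) eW.inv_hom_id
      rw [this, Category.id_comp])
    (by simp) (by simp)

end Groth.Agent.S10100
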