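import Groth.Statements.S10101
import Groth.Agent.Lib.Helper30.AlgSpEtBoot
-- import your own Groth.Agent.* helpers here

set_option autoImplicit false
universe u
open CategoryTheory CategoryTheory.Limits AlgebraicGeometry
open AlgSp

namespace Groth.Agent.S10101

set_option maxHeartbeats 800000
set_option backward.isDefEq.respectTransparency false

/-- Let `F` be an fppf sheaf of sets over `S` and `X ⟶ F` a map from an algebraic space that is
surjective, etale and representable by algebraic spaces. It follows that `F` is an algebraic space.
(The published statement also gives an equivalent set of conditions in which the diagonal of `F` is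
representable by algebraic spaces; this row uses the form with the map representable by algebraic
spaces.) -/
theorem result (S : Scheme.{u}) (F : AlgSp.Sp S) (X : AlgSp.Space S)
    (p : X.obj ⟶ F) (hp : AlgSp.RepBySpWith (AlgSp.IsSurjectiveMor ⊓ AlgSp.IsEtaleMor) p.hom) :
    AlgSp.IsAlgSpace F := by
  exact (AlgSp.isAlgSpaceP_obj_iff F).1
    (Groth.Agent.Lib.Helper30.ZMT.isAlgSpaceP_of_repBySp_surj_etale
      (Groth.Agent.Lib.Helper30.EtChart.isSheaf_jet_of_isSheaf F.property) X.property p.hom hp)

end Groth.Agent.S10101
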