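import Groth.Statements.S10108
import Groth.Agent.Lib.Helper30.AlgSpEtChart
-- import your own Groth.Agent.* helpers here

set_option autoImplicit false
universe u
open CategoryTheory CategoryTheory.Limits AlgebraicGeometry
open AlgSp

namespace Groth.Agent.S10108

set_option backward.isDefEq.respectTransparency false


/-- A presheaf of sets on schemes over `S` which is a sheaf for the etale topology, has diagonal
representable by schemes, and receives a representable surjective etale map from a scheme over `S`,
is an algebraic space (in particular an fppf sheaf): algebraic spaces defined with the etale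
topology are the same as with the fppf topology. -/
theorem result (S : Scheme.{u}) (F : AlgSp.PSp S)
    (h1 : Presheaf.IsSheaf (QuotSh.J Scheme.etalePrecoverage S) F)
    (h2 : (AlgSp.pyon S).relativelyRepresentable (Limits.diag F))
    (U : Over S) (p : (AlgSp.pyon S).obj U ⟶ F)
    (h3 : (MorphismProperty.inverseImage @Etale (Over.forget S)).relative (AlgSp.pyon S) p ∧
      (MorphismProperty.inverseImage @Surjective (Over.forget S)).relative (AlgSp.pyon S) p) :
    AlgSp.IsAlgSpaceP F := by
  obtain ⟨⟨hrep, het⟩, ⟨_, hsu⟩⟩ := h3
  obtain ⟨R, s, fst, sq⟩ := hrep p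
  obtain ⟨t, rfl⟩ := (AlgSp.pyon S).map_surjective fst
  have hs : Etale s.left := het p _ s sq
  have ht : Etale t.left := het p _ t sq.flip
  refine Groth.Agent.Lib.Helper30.EtChart.isAlgSpaceP_of_etale_chart s t p h1 sq hs ht ?_
  intro T ξ
  obtain ⟨W, w, a, sqW⟩ := hrep ξ
  exact ⟨W, w, a, sqW.w, het ξ a w sqW, hsu ξ a w sqW⟩

end Groth.Agent.S10108
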