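import Groth.Statements.S10111
import Groth.Agent.Lib.Helper40.QuotShEff
-- import your own Groth.Agent.* helpers here

set_option autoImplicit false
universe u v
open CategoryTheory CategoryTheory.Limits AlgebraicGeometry
open AlgSp

namespace Groth.Agent.S10111

open Groth.Agent.Lib.Helper40.QuotShApi Opposite

set_option backward.isDefEq.respectTransparency false
set_option maxHeartbeats 800000

section Prelim

variable {S : Scheme.{u}}

/-- A sieve containing, around every point, an open immersion is a Zariski covering sieve. -/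
theorem mem_Jzar_of_forall_open {T : Over S} (Z : Sieve T)
    (h : ∀ t : ↥T.left, ∃ (O : Over S) (o : O ⟶ T), IsOpenImmersion o.left ∧
      t ∈ Set.range o.left ∧ Z o) :
    Z ∈ QuotSh.J Scheme.zariskiPrecoverage S T := by
  choose O o ho ht hZ using h
  rw [GrothendieckTopology.mem_over_iff]
  have hcov : Sieve.generate (Presieve.ofArrows (fun t => (O t).left) (fun t => (o t).left)) ∈
      Scheme.zariskiPrecoverage.toGrothendieck T.left := by
    refine Precoverage.generate_mem_toGrothendieck ?_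
    rw [Scheme.zariskiPrecoverage, Scheme.ofArrows_mem_precoverage_iff]
    exact ⟨fun x => ⟨x, ht x⟩, fun x => ho x⟩
  refine GrothendieckTopology.superset_covering _ ?_ hcov
  rw [Sieve.generate_le_iff]
  rintro _ _ ⟨t⟩
  exact ⟨O t, o t, 𝟙 _, hZ t, (Category.id_comp _).symm⟩

/-- The sieve of morphisms factoring through `q`. -/
def qSieve {O Y : Over S} (q : Y ⟶ O) : Sieve O where
  arrows V k := ∃ l : V ⟶ Y, l ≫ q = k
  downward_closed := by
    rintro V V' k ⟨l, rfl⟩ g
    exact ⟨g ≫ l, by rw [Category.assoc]⟩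

theorem qSieve_mem {O Y : Over S} (q : Y ⟶ O) [Flat q.left] [LocallyOfFinitePresentation q.left]
    [Surjective q.left] : qSieve q ∈ AlgSp.J S O :=
  mem_J_of_singleton Scheme.fppfPrecoverage _ q ⟨𝟙 _, Category.id_comp _⟩
    q.left.singleton_mem_fppfPrecoverage

/-- Around every point, a covering sieve contains an fppf cover of an open neighbourhood. -/
theorem exists_fppf_open_image {T : Over S} (R' : Sieve T) (hR' : R' ∈ AlgSp.J S T)
    (t : ↥T.left) :
    ∃ (O Y : Over S) (o : O ⟶ T) (q : Y ⟶ O), IsOpenImmersion o.left ∧ t ∈ Set.range o.left ∧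
      R' (q ≫ o) ∧ Flat q.left ∧ LocallyOfFinitePresentation q.left ∧ Surjective q.left := by
  obtain ⟨R, hR, hle⟩ := exists_precover_of_mem_J Scheme.fppfPrecoverage R' hR'
  obtain ⟨κ, Y, f, rfl⟩ := R.exists_eq_ofArrows
  rw [Scheme.fppfPrecoverage, Scheme.ofArrows_mem_precoverage_iff] at hR
  obtain ⟨hsurj, hP⟩ := hR
  obtain ⟨k, y, hy⟩ := hsurj t
  haveI : Flat (f k) := (hP k).1
  haveI : LocallyOfFinitePresentation (f k) := (hP k).2
  let Op : T.left.Opens := ⟨Set.range (f k), (f k).isOpenMap.isOpen_range⟩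
  have hrange : Set.range (f k) ⊆ Set.range Op.ι := by
    rw [Scheme.Opens.range_ι]
    exact subset_rfl
  let v'l : Y k ⟶ Op.toScheme := IsOpenImmersion.lift Op.ι (f k) hrange
  have hfac : v'l ≫ Op.ι = f k := IsOpenImmersion.lift_fac _ _ _
  let W : Over S := Over.mk (Op.ι ≫ T.hom)
  let o : W ⟶ T := Over.homMk Op.ι rfl
  let Yk : Over S := Over.mk (f k ≫ T.hom)
  let q : Yk ⟶ W := Over.homMk v'l (by
    change v'l ≫ Op.ι ≫ T.hom = f k ≫ T.hom
    rw [← Category.assoc, hfac])
  have hqo : q ≫ o = (Over.homMk (f k) : Over.mk (f k ≫ T.hom) ⟶ T) := by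
    apply Over.OverMorphism.ext
    exact hfac
  have hfl : Flat q.left :=
    MorphismProperty.of_postcomp (W := @Flat) (W' := @IsOpenImmersion) v'l Op.ι inferInstance
      (by rw [hfac]; infer_instance)
  have hlfp : LocallyOfFinitePresentation q.left :=
    MorphismProperty.of_postcomp (W := @LocallyOfFinitePresentation) (W' := @IsOpenImmersion)
      v'l Op.ι inferInstance (by rw [hfac]; infer_instance)
  have hsurjq : Surjective q.left := by
    constructor
    rintro ⟨z, x, hx⟩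
    refine ⟨x, ?_⟩
    apply Op.ι.injective
    change (v'l ≫ Op.ι) x = _
    rw [hfac]
    exact hx
  refine ⟨W, Yk, o, q, inferInstanceAs (IsOpenImmersion Op.ι), ?_, ?_, hfl, hlfp, hsurjq⟩
  · change t ∈ Set.range Op.ι
    rw [Scheme.Opens.range_ι]
    exact ⟨y, hy⟩
  · rw [hqo]
    exact hle (f k) ⟨k⟩

end Prelim

section Main

variable {S : Scheme.{u}} {F : AlgSp.PSp S} {ι : Type v} {Fi : ι → AlgSp.PSp S}
  {m : ∀ i, Fi i ⟶ F}

theorem app_injective [∀ i, Mono (m i)] (i : ι) (T : (Over S)ᵒᵖ) :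
    Function.Injective ((m i).app T) := by
  have : Mono ((m i).app T) := inferInstance
  exact (mono_iff_injective _).1 this

theorem map_app (i : ι) {T T' : Over S} (f : T' ⟶ T) (y : (Fi i).obj (op T)) :
    F.map f.op ((m i).app (op T) y) = (m i).app (op T') ((Fi i).map f.op y) :=
  ((m i).naturality_apply f.op y).symm

theorem Fmap_comp (G : AlgSp.PSp S) {T T' T'' : Over S} (f : T' ⟶ T) (g : T'' ⟶ T')
    (x : G.obj (op T)) : G.map g.op (G.map f.op x) = G.map (g ≫ f).op x := by
  rw [op_comp, G.map_comp]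
  rfl

/-- Membership in `F_i` is fppf local. -/
theorem mem_range_of_locally [∀ i, Mono (m i)] (hb : ∀ i, AlgSp.RepBySp (m i)) (i : ι)
    {T : Over S} (x : F.obj (op T)) (R : Sieve T) (hR : R ∈ AlgSp.J S T)
    (h : ∀ ⦃T' : Over S⦄ (f : T' ⟶ T), R f → F.map f.op x ∈ Set.range ((m i).app (op T'))) :
    x ∈ Set.range ((m i).app (op T)) := by
  let ξ : (AlgSp.pyon S).obj T ⟶ F := uliftYonedaEquiv.{u + 1}.symm x
  have hξ : uliftYonedaEquiv.{u + 1} ξ = x := Equiv.apply_symm_apply _ _
  obtain ⟨hPsh, -⟩ := hb i ξ (pullback.fst (m i) ξ) (pullback.snd (m i) ξ)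
    (IsPullback.of_hasPullback _ _)
  have hP : Presieve.IsSheaf (AlgSp.J S) (pullback (m i) ξ) :=
    (isSheaf_iff_isSheaf_of_type _ _).1 hPsh
  have hT : Presieve.IsSheaf (AlgSp.J S) ((AlgSp.pyon S).obj T) :=
    (isSheaf_iff_isSheaf_of_type _ _).1 ((AlgSp.yon S).obj T).property
  choose y hy using h
  let a : ∀ ⦃T' : Over S⦄ (f : T' ⟶ T) (hf : R f), (AlgSp.pyon S).obj T' ⟶ Fi i :=
    fun T' f hf => uliftYonedaEquiv.{u + 1}.symm (y f hf)
  have ha : ∀ ⦃T' : Over S⦄ (f : T' ⟶ T) (hf : R f),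
      a f hf ≫ m i = (AlgSp.pyon S).map f ≫ ξ := by
    intro T' f hf
    apply uliftYonedaEquiv.{u + 1}.injective
    rw [uliftYonedaEquiv_comp, Equiv.apply_symm_apply, hy f hf]
    have h1 := uliftYonedaEquiv_naturality.{u + 1} ξ f.op
    rw [hξ] at h1
    exact h1
  let w : ∀ ⦃T' : Over S⦄ (f : T' ⟶ T) (hf : R f),
      (AlgSp.pyon S).obj T' ⟶ pullback (m i) ξ :=
    fun T' f hf => pullback.lift (a f hf) ((AlgSp.pyon S).map f) (ha f hf)
  have hw2 : ∀ ⦃T' : Over S⦄ (f : T' ⟶ T) (hf : R f),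
      w f hf ≫ pullback.snd (m i) ξ = (AlgSp.pyon S).map f :=
    fun T' f hf => pullback.lift_snd _ _ _
  let e : Presieve.FamilyOfElements (pullback (m i) ξ) R.arrows :=
    fun T' f hf => uliftYonedaEquiv.{u + 1} (w f hf)
  have he : e.Compatible := by
    rw [Presieve.compatible_iff_sieveCompatible]
    intro T' T'' f g hf
    show uliftYonedaEquiv.{u + 1} (w (g ≫ f) _) =
      (pullback (m i) ξ).map g.op (uliftYonedaEquiv.{u + 1} (w f hf))
    rw [uliftYonedaEquiv_naturality]
    congr 1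
    rw [← cancel_mono (pullback.snd (m i) ξ), hw2, Category.assoc, hw2, Functor.map_comp]
    rfl
  let e₀ := (hP R hR).amalgamate e he
  have he₀ : ∀ ⦃T' : Over S⦄ (f : T' ⟶ T) (hf : R f),
      (pullback (m i) ξ).map f.op e₀ = e f hf := fun T' f hf => (hP R hR).valid_glue he f hf
  let w₀ : (AlgSp.pyon S).obj T ⟶ pullback (m i) ξ := uliftYonedaEquiv.{u + 1}.symm e₀
  have hw₀ : ∀ ⦃T' : Over S⦄ (f : T' ⟶ T) (hf : R f),
      (AlgSp.pyon S).map f ≫ w₀ = w f hf := by
    intro T' f hf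
    apply uliftYonedaEquiv.{u + 1}.injective
    have h1 := uliftYonedaEquiv_naturality.{u + 1} w₀ f.op
    rw [show uliftYonedaEquiv.{u + 1} w₀ = e₀ from Equiv.apply_symm_apply _ _, he₀ f hf] at h1
    exact h1.symm
  have hid : w₀ ≫ pullback.snd (m i) ξ = 𝟙 _ := by
    apply uliftYonedaEquiv.{u + 1}.injective
    apply (hT R hR).isSeparatedFor.ext
    intro T' f hf
    rw [uliftYonedaEquiv_naturality, uliftYonedaEquiv_naturality]
    congr 1
    show (AlgSp.pyon S).map f ≫ w₀ ≫ pullback.snd (m i) ξ = (AlgSp.pyon S).map f ≫ 𝟙 _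
    rw [← Category.assoc, hw₀ f hf, hw2, Category.comp_id]
  refine ⟨uliftYonedaEquiv.{u + 1} (w₀ ≫ pullback.fst (m i) ξ), ?_⟩
  rw [← uliftYonedaEquiv_comp, Category.assoc, pullback.condition, ← Category.assoc, hid,
    Category.id_comp, hξ]

/-- Every section of `F` lies Zariski locally in some `F_i`. -/
theorem exists_open_mem_range [∀ i, Mono (m i)] (hb : ∀ i, AlgSp.RepBySp (m i))
    (hc : ∀ (T : Over S) (x : F.obj (op T)), ∃ R ∈ (AlgSp.J S) T,
      ∀ ⦃T' : Over S⦄ (f : T' ⟶ T), R.arrows f →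
        ∃ i, F.map f.op x ∈ Set.range ((m i).app (op T')))
    {T : Over S} (x : F.obj (op T)) (t : ↥T.left) :
    ∃ (O : Over S) (o : O ⟶ T) (i : ι), IsOpenImmersion o.left ∧ t ∈ Set.range o.left ∧
      F.map o.op x ∈ Set.range ((m i).app (op O)) := by
  obtain ⟨R, hR, H⟩ := hc T x
  obtain ⟨O, Y, o, q, ho, ht, hqo, hfl, hlfp, hsurj⟩ := exists_fppf_open_image R hR t
  obtain ⟨i, y, hy⟩ := H (q ≫ o) hqo
  refine ⟨O, o, i, ho, ht, ?_⟩
  refine mem_range_of_locally hb i _ (qSieve q) (qSieve_mem q) ?_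
  rintro T' k ⟨l, rfl⟩
  refine ⟨(Fi i).map l.op y, ?_⟩
  rw [← map_app, hy, Fmap_comp, Fmap_comp, Category.assoc]

/-- `F` is separated for the fppf topology. -/
theorem fppf_separated [∀ i, Mono (m i)]
    (h1 : Presheaf.IsSheaf (QuotSh.J Scheme.zariskiPrecoverage S) F)
    (ha : ∀ i, Presheaf.IsSheaf (AlgSp.J S) (Fi i)) (hb : ∀ i, AlgSp.RepBySp (m i))
    (hc : ∀ (T : Over S) (x : F.obj (op T)), ∃ R ∈ (AlgSp.J S) T,
      ∀ ⦃T' : Over S⦄ (f : T' ⟶ T), R.arrows f →
        ∃ i, F.map f.op x ∈ Set.range ((m i).app (op T')))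
    {T : Over S} (R : Sieve T) (hR : R ∈ AlgSp.J S T) (x y : F.obj (op T))
    (h : ∀ ⦃T' : Over S⦄ (f : T' ⟶ T), R f → F.map f.op x = F.map f.op y) : x = y := by
  have h1' : Presieve.IsSheaf (QuotSh.J Scheme.zariskiPrecoverage S) F :=
    (isSheaf_iff_isSheaf_of_type _ _).1 h1
  let Z : Sieve T :=
    { arrows := fun T' o => F.map o.op x = F.map o.op y
      downward_closed := by
        intro T' T'' o ho g
        show F.map (g ≫ o).op x = F.map (g ≫ o).op y
        rw [← Fmap_comp, ← Fmap_comp, ho] }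
  have hZ : Z ∈ QuotSh.J Scheme.zariskiPrecoverage S T := by
    refine mem_Jzar_of_forall_open Z (fun t => ?_)
    obtain ⟨O, o, i, ho, ht, a, hax⟩ := exists_open_mem_range hb hc x t
    refine ⟨O, o, ho, ht, ?_⟩
    have hRo : R.pullback o ∈ AlgSp.J S O := (AlgSp.J S).pullback_stable o hR
    have hy : F.map o.op y ∈ Set.range ((m i).app (op O)) := by
      refine mem_range_of_locally hb i _ (R.pullback o) hRo ?_
      intro T' k hk
      refine ⟨(Fi i).map k.op a, ?_⟩
      rw [← map_app, hax, Fmap_comp, Fmap_comp]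
      exact h (k ≫ o) hk
    obtain ⟨b, hby⟩ := hy
    have hFi : Presieve.IsSheaf (AlgSp.J S) (Fi i) := (isSheaf_iff_isSheaf_of_type _ _).1 (ha i)
    have hab : a = b := by
      apply (hFi _ hRo).isSeparatedFor.ext
      intro T' k hk
      apply app_injective (m := m) i
      rw [← map_app, ← map_app, hax, hby, Fmap_comp, Fmap_comp]
      exact h (k ≫ o) hk
    show F.map o.op x = F.map o.op y
    rw [← hax, ← hby, hab]
  exact (h1' Z hZ).isSeparatedFor.ext (fun T' o ho => ho)

theorem fam_congr {T : Over S} {R : Sieve T} (x : Presieve.FamilyOfElements F R.arrows)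
    {T' : Over S} {f f' : T' ⟶ T} (e : f = f') (hf : R f) (hf' : R f') : x f hf = x f' hf' := by
  subst e
  rfl

/-- `z'` restricts to the given family on all of `R` below `g`. -/
def Good {T : Over S} {R : Sieve T} (x : Presieve.FamilyOfElements F R.arrows) {T' : Over S}
    (g : T' ⟶ T) (z' : F.obj (op T')) : Prop :=
  ∀ ⦃T'' : Over S⦄ (h : T'' ⟶ T') (hh : R (h ≫ g)), F.map h.op z' = x (h ≫ g) hh

theorem Good.map {T : Over S} {R : Sieve T} {x : Presieve.FamilyOfElements F R.arrows}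
    {T' : Over S} {g : T' ⟶ T} {z' : F.obj (op T')} (hz : Good x g z') {T'' : Over S}
    (k : T'' ⟶ T') : Good x (k ≫ g) (F.map k.op z') := by
  intro V h hh
  rw [Fmap_comp]
  have hh' : R ((h ≫ k) ≫ g) := by rwa [Category.assoc]
  rw [hz (h ≫ k) hh']
  exact fam_congr x (Category.assoc _ _ _) _ _

theorem exists_amalgamation [∀ i, Mono (m i)]
    (h1 : Presheaf.IsSheaf (QuotSh.J Scheme.zariskiPrecoverage S) F)
    (ha : ∀ i, Presheaf.IsSheaf (AlgSp.J S) (Fi i)) (hb : ∀ i, AlgSp.RepBySp (m i))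
    (hc : ∀ (T : Over S) (x : F.obj (op T)), ∃ R ∈ (AlgSp.J S) T,
      ∀ ⦃T' : Over S⦄ (f : T' ⟶ T), R.arrows f →
        ∃ i, F.map f.op x ∈ Set.range ((m i).app (op T')))
    {T : Over S} (R : Sieve T) (hR : R ∈ AlgSp.J S T)
    (x : Presieve.FamilyOfElements F R.arrows) (hx : x.Compatible) :
    ∃ z, x.IsAmalgamation z := by
  have h1' : Presieve.IsSheaf (QuotSh.J Scheme.zariskiPrecoverage S) F :=
    (isSheaf_iff_isSheaf_of_type _ _).1 h1
  have hxs : x.SieveCompatible := (Presieve.compatible_iff_sieveCompatible x).1 hx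
  have good_unique : ∀ ⦃T' : Over S⦄ (g : T' ⟶ T) (z1 z2 : F.obj (op T')),
      Good x g z1 → Good x g z2 → z1 = z2 := by
    intro T' g z1 z2 p1 p2
    exact fppf_separated h1 ha hb hc (R.pullback g) ((AlgSp.J S).pullback_stable g hR) z1 z2
      (fun V h hh => by rw [p1 h hh, p2 h hh])
  let Z : Sieve T :=
    { arrows := fun T' g => ∃ z', Good x g z'
      downward_closed := by
        rintro T' V g ⟨z', hz'⟩ k
        exact ⟨F.map k.op z', hz'.map k⟩ }
  have hZ : Z ∈ QuotSh.J Scheme.zariskiPrecoverage S T := by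
    refine mem_Jzar_of_forall_open Z (fun t => ?_)
    let R' : Sieve T :=
      { arrows := fun T' f => ∃ hf : R f, ∃ i, x f hf ∈ Set.range ((m i).app (op T'))
        downward_closed := by
          rintro T' V f ⟨hf, i, a, hax⟩ g
          refine ⟨R.downward_closed hf g, i, (Fi i).map g.op a, ?_⟩
          rw [← map_app, hax]
          exact (hxs f g hf).symm }
    have hR' : R' ∈ AlgSp.J S T := by
      refine (AlgSp.J S).transitive hR R' (fun T' f hf => ?_)
      obtain ⟨Rf, hRf, Hf⟩ := hc T' (x f hf)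
      refine (AlgSp.J S).superset_covering ?_ hRf
      intro V k hk
      obtain ⟨i, hi⟩ := Hf k hk
      show R' (k ≫ f)
      refine ⟨R.downward_closed hf k, i, ?_⟩
      rw [hxs f k hf]
      exact hi
    obtain ⟨O, Y, o, q, ho, ht, ⟨hf₀, i, a₀, ha₀⟩, hfl, hlfp, hsurj⟩ :=
      exists_fppf_open_image R' hR' t
    have hFi : Presieve.IsSheaf (AlgSp.J S) (Fi i) := (isSheaf_iff_isSheaf_of_type _ _).1 (ha i)
    have hsh : Presieve.IsSheafFor (Fi i) (qSieve q).arrows := hFi _ (qSieve_mem q)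
    have key : ∀ ⦃V : Over S⦄ (l l' : V ⟶ Y), l ≫ q = l' ≫ q →
        (Fi i).map l.op a₀ = (Fi i).map l'.op a₀ := by
      intro V l l' e
      apply app_injective (m := m) i
      rw [← map_app, ← map_app, ha₀, ← hxs (q ≫ o) l hf₀, ← hxs (q ≫ o) l' hf₀]
      exact fam_congr x (by rw [← Category.assoc, e, Category.assoc]) _ _
    let bfam : Presieve.FamilyOfElements (Fi i) (qSieve q).arrows :=
      fun V k hk => (Fi i).map (Classical.choose hk).op a₀
    have hbc : bfam.Compatible := by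
      intro V₁ V₂ V g₁ g₂ k₁ k₂ hk₁ hk₂ e
      show (Fi i).map g₁.op ((Fi i).map (Classical.choose hk₁).op a₀) =
        (Fi i).map g₂.op ((Fi i).map (Classical.choose hk₂).op a₀)
      rw [Fmap_comp, Fmap_comp]
      apply key
      rw [Category.assoc, Category.assoc, Classical.choose_spec hk₁, Classical.choose_spec hk₂, e]
    let b := hsh.amalgamate bfam hbc
    have hbq : (Fi i).map q.op b = a₀ := by
      have hq : (qSieve q) q := ⟨𝟙 _, Category.id_comp _⟩
      have h2 : (Fi i).map q.op b = bfam q hq := hsh.valid_glue hbc q hq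
      rw [h2]
      show (Fi i).map (Classical.choose hq).op a₀ = a₀
      have h3 := key (Classical.choose hq) (𝟙 _)
        (by rw [Classical.choose_spec hq, Category.id_comp])
      rw [h3]
      simp
    refine ⟨O, o, ho, ht, (m i).app (op O) b, ?_⟩
    intro V h hh
    refine fppf_separated h1 ha hb hc ((qSieve q).pullback h)
      ((AlgSp.J S).pullback_stable h (qSieve_mem q)) _ _ ?_
    rintro V' k ⟨l, e⟩
    rw [Fmap_comp, ← e, ← Fmap_comp, map_app, hbq, ha₀, ← hxs (q ≫ o) l hf₀, ← hxs (h ≫ o) k hh]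
    exact fam_congr x (by rw [← Category.assoc, e, Category.assoc]) _ _
  let zfam : Presieve.FamilyOfElements F Z.arrows := fun T' g hg => Classical.choose hg
  have hzfam : ∀ ⦃T' : Over S⦄ (g : T' ⟶ T) (hg : Z g), Good x g (zfam g hg) :=
    fun T' g hg => Classical.choose_spec hg
  have hzc : zfam.Compatible := by
    rw [Presieve.compatible_iff_sieveCompatible]
    intro T' V g k hg
    exact good_unique (k ≫ g) _ _ (hzfam _ _) ((hzfam g hg).map k)
  let z := (h1' Z hZ).amalgamate zfam hzc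
  refine ⟨z, ?_⟩
  intro T' f hf
  have hgood : Good x f (x f hf) := fun V h hh => (hxs f h hf).symm
  have hfZ : Z f := ⟨x f hf, hgood⟩
  have h2 : F.map f.op z = zfam f hfZ := (h1' Z hZ).valid_glue hzc f hfZ
  rw [h2]
  exact good_unique f _ _ (hzfam f hfZ) hgood

end Main


/-- Let `F` be a presheaf of sets on schemes over `S` which is a Zariski sheaf, and `F_i ⊂ F` a family
of subfunctors which are fppf sheaves, whose inclusions are representable by algebraic spaces, and
such that `∐ F_i ⟶ F` becomes surjective after fppf sheafification (every section of `F` lies fppf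
locally in some `F_i`). Then `F` is an fppf sheaf. -/
theorem result (S : Scheme.{u}) (F : AlgSp.PSp S)
    (h1 : Presheaf.IsSheaf (QuotSh.J Scheme.zariskiPrecoverage S) F) {ι : Type v} (Fi : ι → AlgSp.PSp S)
    (m : ∀ i, Fi i ⟶ F) [∀ i, Mono (m i)] (ha : ∀ i, Presheaf.IsSheaf (AlgSp.J S) (Fi i))
    (hb : ∀ i, AlgSp.RepBySp (m i))
    (hc : ∀ (T : Over S) (x : F.obj (Opposite.op T)), ∃ R ∈ (AlgSp.J S) T,
      ∀ ⦃T' : Over S⦄ (f : T' ⟶ T), R.arrows f → ∃ i, F.map f.op x ∈ Set.range ((m i).app (Opposite.op T'))) :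
    Presheaf.IsSheaf (AlgSp.J S) F := by
  rw [isSheaf_iff_isSheaf_of_type]
  intro T R hR
  refine Presieve.IsSeparatedFor.isSheafFor ?_ ?_
  · intro x z1 z2 hz1 hz2
    exact fppf_separated h1 ha hb hc R hR z1 z2 (fun T' f hf => by rw [hz1 f hf, hz2 f hf])
  · intro x hx
    exact exists_amalgamation h1 ha hb hc R hR x hx

end Groth.Agent.S10111
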