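import Groth.Statements.S10117
-- import your own Groth.Agent.* helpers here
import Groth.Agent.Lib.Helper40.ActPtsGen
import Groth.Agent.Lib.Helper40.AlgSpBasic

set_option autoImplicit false
universe u
open CategoryTheory CategoryTheory.Limits AlgebraicGeometry MonoidalCategory MonObj
open AlgSp AlgSp.GAction

namespace Groth.Agent.S10117

/-- If a group algebraic space `G` over `B` acts freely on an algebraic space `X` over `B`, then `G ×_B
X ⟶ X ×_B X`, `(g, x) ↦ (g x, x)`, is a monomorphism. (The published statement is an equivalence;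
this row states only the direction from free to monomorphism.) -/
theorem result (S : Scheme.{u}) (B : AlgSp.Sp S) (hB : AlgSp.IsAlgSpace B)
    (G X : Over B) [GrpObj G] (hG : AlgSp.IsAlgSpace G.left) (hX : AlgSp.IsAlgSpace X.left)
    (a : AlgSp.GAction G X) (ha : a.IsFree) :
    Mono (CartesianMonoidalCategory.lift a.act (CartesianMonoidalCategory.snd G X)).left := by
  refine ⟨fun {Z} u v huv => ?_⟩
  apply Groth.Agent.Lib.Helper40.AlgSpBasic.hom_ext_yon
  intro T x
  have huv' : (x ≫ u) ≫ (CartesianMonoidalCategory.lift a.act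
      (CartesianMonoidalCategory.snd G X)).left =
      (x ≫ v) ≫ (CartesianMonoidalCategory.lift a.act
      (CartesianMonoidalCategory.snd G X)).left := by
    rw [Category.assoc, Category.assoc, huv]
  have hv : (x ≫ v) ≫ (G ⊗ X).hom = (x ≫ u) ≫ (G ⊗ X).hom := by
    rw [← Over.w (CartesianMonoidalCategory.lift a.act (CartesianMonoidalCategory.snd G X)),
      ← Category.assoc, ← huv', Category.assoc]
  let β := (x ≫ u) ≫ (G ⊗ X).hom
  let u' : Over.mk β ⟶ G ⊗ X := Over.homMk (x ≫ u) rfl
  let v' : Over.mk β ⟶ G ⊗ X := Over.homMk (x ≫ v) hv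
  have h1 : u' ≫ CartesianMonoidalCategory.lift a.act (CartesianMonoidalCategory.snd G X) =
      v' ≫ CartesianMonoidalCategory.lift a.act (CartesianMonoidalCategory.snd G X) := by
    apply Over.OverMorphism.ext
    exact huv'
  have h2 : u' = v' := by
    apply Groth.Agent.Lib.Helper40.ActPtsGen.shear_injective_of_free a.act a.one_act a.mul_act
      (fun g y hgy => ?_) u' v' h1
    rw [ha β g y hgy, CategoryTheory.Hom.one_def]
  have := congrArg (fun k => k.left) h2
  exact this

end Groth.Agent.S10117
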