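import Groth.Statements.S10118
import Groth.Agent.Lib.Helper98.AlgSpPtBC

set_option autoImplicit false
universe u
open CategoryTheory CategoryTheory.Limits AlgebraicGeometry MonoidalCategory MonObj
open AlgSp AlgSp.GAction

namespace Groth.Agent.S10118

open CategoryTheory.CartesianMonoidalCategory in
/-- Let `X` be a pseudo-torsor under a group algebraic space `G` over an algebraic space `B`, where both
`G` and `X` are locally of finite type over `B`. Whenever `G ⟶ B` is unramified, `X ⟶ B` is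
unramified too; likewise, local quasi-finiteness passes from `G ⟶ B` to `X ⟶ B`. -/
theorem result (S : Scheme.{u}) (B : AlgSp.Sp S) (hB : AlgSp.IsAlgSpace B)
    (G X : Over B) [GrpObj G] (hG : AlgSp.IsAlgSpace G.left) (hX : AlgSp.IsAlgSpace X.left)
    (a : AlgSp.GAction G X) (ha : a.IsPseudoTorsor)
    (hGt : AlgSp.LocP @LocallyOfFiniteType G.hom) (hXt : AlgSp.LocP @LocallyOfFiniteType X.hom) :
    (AlgSp.LocP (@LocallyOfFiniteType ⊓ @FormallyUnramified) G.hom →
        AlgSp.LocP (@LocallyOfFiniteType ⊓ @FormallyUnramified) X.hom) ∧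
      (AlgSp.LocP (@LocallyQuasiFinite ⊓ @LocallyOfFiniteType) G.hom →
        AlgSp.LocP (@LocallyQuasiFinite ⊓ @LocallyOfFiniteType) X.hom) := by
  have sqG : IsPullback (fst G X).left (snd G X).left G.hom X.hom :=
    IsPullback.of_hasPullback G.hom X.hom
  have sqX : IsPullback (fst X X).left (snd X X).left X.hom X.hom :=
    IsPullback.of_hasPullback X.hom X.hom
  haveI hθ : IsIso (lift a.act (snd G X)) := ha
  haveI hθl : IsIso (lift a.act (snd G X)).left :=
    inferInstanceAs (IsIso ((Over.forget B).map (lift a.act (snd G X))))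
  have hθ1 : (lift a.act (snd G X)).left ≫ (fst X X).left = a.act.left := by
    rw [← Over.comp_left, lift_fst]
  have hθ2 : (lift a.act (snd G X)).left ≫ (snd X X).left = (snd G X).left := by
    rw [← Over.comp_left, lift_snd]
  have sqA : IsPullback a.act.left (snd G X).left X.hom X.hom := by
    refine IsPullback.of_iso sqX (asIso (lift a.act (snd G X)).left).symm (Iso.refl _) (Iso.refl _)
      (Iso.refl _) ?_ ?_ ?_ ?_
    · rw [Iso.refl_hom, Category.comp_id, Iso.symm_hom, asIso_inv, IsIso.eq_inv_comp]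
      exact hθ1
    · rw [Iso.refl_hom, Category.comp_id, Iso.symm_hom, asIso_inv, IsIso.eq_inv_comp]
      exact hθ2
    · simp
    · simp
  have hσ' : lift (toUnit X ≫ η[G]) (𝟙 X) ≫ a.act = 𝟙 X := by
    have h0 : lift (toUnit X ≫ η[G]) (𝟙 X) = (λ_ X).inv ≫ (η[G] ▷ X) := by
      apply CartesianMonoidalCategory.hom_ext <;> simp
    rw [h0, Category.assoc, a.one_act, Iso.inv_hom_id]
  have hσ : (lift (toUnit X ≫ η[G]) (𝟙 X)).left ≫ a.act.left = 𝟙 X.left := by
    rw [← Over.comp_left, hσ']; rfl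
  refine ⟨fun hPγ => ?_, fun hPγ => ?_⟩
  · exact Groth.Agent.Lib.Helper98.AlgSpPtBC.locP_of_torsor_square
      Groth.Agent.Lib.Helper98.AlgSpUnram.etLocalPt_unrNear
      (fun k _ mU k'' mV sq u'' =>
        Groth.Agent.Lib.Helper98.AlgSpUnram.unrNear_baseChange_iff k mU k'' mV sq u'')
      (@LocallyOfFiniteType ⊓ @FormallyUnramified)
      (fun hX' hY' f' => Groth.Agent.Lib.Helper98.AlgSpUnram.locP_unram_iff hX' hY' f')
      hB hG hX G.hom X.hom hGt hXt _ _ sqG _ sqA _ hσ hPγ
  · exact Groth.Agent.Lib.Helper98.AlgSpPtBC.locP_of_torsor_square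
      Groth.Agent.Lib.Helper98.AlgSpLqf.etLocalPt_lqfNear
      (fun k _ mU k'' mV sq u'' =>
        Groth.Agent.Lib.Helper98.AlgSpLqf.lqfNear_baseChange_iff k mU k'' mV sq u'')
      (@LocallyQuasiFinite ⊓ @LocallyOfFiniteType)
      (fun hX' hY' f' => Groth.Agent.Lib.Helper98.AlgSpPtBC.locP_lqf_iff hX' hY' f')
      hB hG hX G.hom X.hom hGt hXt _ _ sqG _ sqA _ hσ hPγ

end Groth.Agent.S10118
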