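import Groth.Statements.S10139
import Mathlib
import Groth.Agent.Lib.Helper21.EqvSlice
import Groth.Agent.Lib.Helper21.EqvQuotRestrict
-- import your own Groth.Agent.* helpers here

set_option autoImplicit false
universe u
open CategoryTheory CategoryTheory.Limits AlgebraicGeometry
open AlgSp

namespace Groth.Agent.S10139
open Groth.Agent.Lib.Helper21.EqvGrpd Groth.Agent.Lib.Helper21.EqvRestrict
  Groth.Agent.Lib.Helper21.EqvSlice Groth.Agent.Lib.Helper21.EqvQuotRestrict
set_option linter.style.haveILetI false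
set_option maxHeartbeats 1600000

/-- Take an equivalence relation `j : R ⟶ U ×_S U` of schemes over `S`, with `s, t` flat and locally of
finite presentation. Then there exist an equivalence relation `j' : R' ⟶ U' ×_S U'` on schemes over
`S` with `s', t'` flat, locally of finite presentation and locally quasi-finite, and a morphism `U'
⟶ U` mapping `R'` into `R` which induces an isomorphism of fppf quotient sheaves `U'/R' ⟶ U/R`. -/
theorem result (S : Scheme.{u}) {R U : Over S} (s t : R ⟶ U)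
    (h : AlgSp.IsEqvRel s t) [Flat s.left] [LocallyOfFinitePresentation s.left]
    [Flat t.left] [LocallyOfFinitePresentation t.left] :
    ∃ (R' U' : Over S) (s' t' : R' ⟶ U') (g : U' ⟶ U) (r : R' ⟶ R)
      (ψ : QuotSh.quot Scheme.fppfPrecoverage s' t' ⟶ QuotSh.quot Scheme.fppfPrecoverage s t),
      AlgSp.IsEqvRel s' t' ∧ r ≫ s = s' ≫ g ∧ r ≫ t = t' ≫ g ∧
      Flat s'.left ∧ LocallyOfFinitePresentation s'.left ∧ LocallyQuasiFinite s'.left ∧
      Flat t'.left ∧ LocallyOfFinitePresentation t'.left ∧ LocallyQuasiFinite t'.left ∧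
      QuotSh.quotπ Scheme.fppfPrecoverage s' t' ≫ ψ = QuotSh.repMap Scheme.fppfPrecoverage g ≫ QuotSh.quotπ Scheme.fppfPrecoverage s t ∧ IsIso ψ := by
  classical
  -- Step 1: the Cohen–Macaulay open
  haveI : Flat (ofEqv h).s := ‹Flat s.left›
  haveI : LocallyOfFinitePresentation (ofEqv h).s := ‹LocallyOfFinitePresentation s.left›
  haveI : Flat (ofEqv h).t := ‹Flat t.left›
  haveI : LocallyOfFinitePresentation (ofEqv h).t := ‹LocallyOfFinitePresentation t.left›
  obtain ⟨W, ⟨hWf, hWp, hWs⟩, hcs, hps, hct, hpt⟩ := exists_cm_open (ofEqv h)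
  let UW : Over S := Over.mk (W.ι ≫ U.hom)
  let gW : UW ⟶ U := Over.homMk W.ι rfl
  have h₁ : AlgSp.IsEqvRel (s' s t gW) (t' s t gW) := isEqvRel s t gW h
  -- Step 2: slicing the Cohen–Macaulay relation
  haveI : LocallyOfFinitePresentation (ofEqv h₁).s := hps
  haveI : LocallyOfFinitePresentation (ofEqv h₁).t := hpt
  haveI : IsIso (ofEqv h₁).stabilizerToU :=
    isIso_stabilizerToU (ofEqv h₁) (fun x y => inj_left h₁ x y)
  obtain ⟨U'l, gl, hgl, hall, hsurj⟩ := exists_slice_cm (ofEqv h₁) hcs hct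
  obtain ⟨⟨hF, hP, hT, hQ⟩, ⟨hsF, hsP, hsQ⟩, ⟨htF, htP, htQ⟩⟩ :=
    Groth.Agent.Lib.Helper21.GrpdRestrictMain.restrict_fq (ofEqv h₁) gl hall
  let U'' : Over S := Over.mk (gl ≫ UW.hom)
  let g'' : U'' ⟶ UW := Over.homMk gl rfl
  have h₂ : AlgSp.IsEqvRel (s' (s' s t gW) (t' s t gW) g'') (t' (s' s t gW) (t' s t gW) g'') :=
    isEqvRel (s' s t gW) (t' s t gW) g'' h₁
  -- the quotient sheaves
  haveI : Flat (pullback.snd gW.left t.left ≫ s.left) := hWf
  haveI : Surjective (pullback.snd gW.left t.left ≫ s.left) := hWs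
  haveI : LocallyOfFinitePresentation (pullback.snd gW.left t.left ≫ s.left) := hWp
  obtain ⟨ψ₁, hψ₁, iψ₁⟩ := exists_iso_quot_restrict s t gW h
  haveI : Flat (pullback.snd g''.left (t' s t gW).left ≫ (s' s t gW).left) := hF
  haveI : Surjective (pullback.snd g''.left (t' s t gW).left ≫ (s' s t gW).left) := hsurj
  haveI : LocallyOfFinitePresentation
      (pullback.snd g''.left (t' s t gW).left ≫ (s' s t gW).left) := hP
  obtain ⟨ψ₂, hψ₂, iψ₂⟩ := exists_iso_quot_restrict (s' s t gW) (t' s t gW) g'' h₁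
  refine ⟨R' (s' s t gW) (t' s t gW) g'', U'', s' (s' s t gW) (t' s t gW) g'',
    t' (s' s t gW) (t' s t gW) g'', g'' ≫ gW, r (s' s t gW) (t' s t gW) g'' ≫ r s t gW, ψ₂ ≫ ψ₁,
    h₂, ?_, ?_, hsF, hsP, hsQ, htF, htP, htQ, ?_, inferInstance⟩
  · rw [Category.assoc, r_s, ← Category.assoc, r_s, Category.assoc]
  · rw [Category.assoc, r_t, ← Category.assoc, r_t, Category.assoc]
  · rw [← Category.assoc, hψ₂, Category.assoc, hψ₁, ← Category.assoc,
      ← Groth.Agent.Lib.Helper21.EqvQuot.repMap_comp]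

end Groth.Agent.S10139
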