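import Groth.Statements.S1015
import Groth.Agent.S0998
import Groth.Agent.Lib.Helper6.RFAcyc
import Groth.Agent.Lib.Helper99.KInjRes

set_option autoImplicit false
universe u
open CategoryTheory CategoryTheory.Limits AlgebraicGeometry
attribute [local instance] HasDerivedCategory.standard
open Perf

namespace Groth.Agent.S1015

/-- Let U ⊆ X be an open subscheme whose inclusion is quasi-compact. Every object F of D(O_U) with
quasi-coherent cohomology sheaves is the restriction of such an object on X: there is a complex G of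
O_X-modules with quasi-coherent cohomology sheaves whose termwise restriction to U is isomorphic to
F in D(O_U). -/
theorem result (X : Scheme.{u}) (U : X.Opens) [QuasiCompact U.ι]
    (F : DCoh.D (U : Scheme.{u})) (hF : DCoh.IsQCohD F) :
    ∃ G : CochainComplex X.Modules ℤ, DCoh.IsQCohD (DCoh.toD X G) ∧
      Nonempty (DerivedCategory.Q.obj ((DCoh.restrictCx U).obj G) ≅ F) := by
  haveI : IsGrothendieckAbelian.{u} (U : Scheme.{u}).Modules :=
    Groth.Agent.S0484.result (Opens.grothendieckTopology (U : Scheme.{u}))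
      (ModSite.ringSh (U : Scheme.{u}).sheaf)
  haveI : DCoh.HasRpush U.ι := Groth.Agent.Lib.Helper99.Glue.hasRpush _
  let K₀ := (DerivedCategory.Q (C := (U : Scheme.{u}).Modules)).objPreimage F
  let e₀ : DerivedCategory.Q.obj K₀ ≅ F :=
    (DerivedCategory.Q (C := (U : Scheme.{u}).Modules)).objObjPreimageIso F
  obtain ⟨I, s, hI, hs, -, -⟩ := Groth.Agent.Lib.Helper99.KInj.exists_kInjective_resolution K₀
  haveI := hI
  haveI := hs
  haveI : IsIso (DerivedCategory.Q.map s) := by
    rw [DerivedCategory.isIso_Q_map_iff_quasiIso]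
    infer_instance
  let eI : DerivedCategory.Q.obj I ≅ F := (asIso (DerivedCategory.Q.map s)).symm ≪≫ e₀
  refine ⟨((Scheme.Modules.pushforward U.ι).mapHomologicalComplex (ComplexShape.up ℤ)).obj I,
    ?_, ⟨?_⟩⟩
  · let β := (DCoh.pushKh U.ι).totalRightDerivedUnit DerivedCategory.Qh
      (HomotopyCategory.quasiIso (U : Scheme.{u}).Modules (ComplexShape.up ℤ))
    haveI := Groth.Agent.Lib.Helper6.RFAcyc.isIso_bC_of_isKInjective
      (Scheme.Modules.pushforward U.ι) (DCoh.Rpush U.ι) β I
    let e := asIso ((Groth.Agent.Lib.Helper6.RFAcyc.bC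
      (Scheme.Modules.pushforward U.ι) (DCoh.Rpush U.ι) β).app I)
    have hQ : DCoh.IsQCohD ((DCoh.Rpush U.ι).obj (DerivedCategory.Q.obj I)) :=
      Groth.Agent.S0998.result U.ι (DerivedCategory.Q.obj I) (fun i =>
        Groth.Agent.Lib.QCoh.isQuasicoherent_of_iso
          ((DerivedCategory.homologyFunctor _ i).mapIso eI.symm) (hF i))
    intro i
    exact Groth.Agent.Lib.QCoh.isQuasicoherent_of_iso
      ((DerivedCategory.homologyFunctor _ i).mapIso e.symm) (hQ i)
  · refine DerivedCategory.Q.mapIso (HomologicalComplex.Hom.isoOfComponents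
      (fun n => (Scheme.Modules.restrictFunctorAdjCounitIso U.ι).app (I.X n)) ?_) ≪≫ eI
    intro i j _
    exact ((Scheme.Modules.restrictFunctorAdjCounitIso U.ι).hom.naturality (I.d i j)).symm

end Groth.Agent.S1015
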