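import Groth.Statements.S10156
import Groth.Agent.Lib.Helper51.Adic

set_option autoImplicit false
universe u v w
open LinTop

namespace Groth.Agent.S10156

/-- Given pre-adic rings A, B, C and continuous ring maps ψ : B → C and φ : A → B, adicness of the
composite A → C implies that ψ is adic. -/
theorem result
    (A : Type u) [CommRing A] [TopologicalSpace A] [IsTopologicalRing A] (hA : LinTop.IsPreadic A)
    (B : Type v) [CommRing B] [TopologicalSpace B] [IsTopologicalRing B] (hB : LinTop.IsPreadic B)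
    (C : Type w) [CommRing C] [TopologicalSpace C] [IsTopologicalRing C] (hC : LinTop.IsPreadic C)
    (φ : A →+* B) (ψ : B →+* C) (hφ : Continuous φ) (hψ : Continuous ψ)
    (h : LinTop.IsAdicHom (ψ.comp φ)) : LinTop.IsAdicHom ψ := by
  obtain ⟨J', hJ'⟩ := hB
  obtain ⟨I, hI, hIC⟩ := h
  have hJ'' := isAdic_iff.1 hJ'
  have hIC' := isAdic_iff.1 hIC
  refine ⟨J', Groth.Agent.Lib.Helper51.isIdealOfDefinition_of_isAdic hJ', ?_⟩
  rw [isAdic_iff]
  refine ⟨fun n => ?_, fun s hs => ?_⟩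
  · have hopen : IsOpen (((J' ^ n).comap φ : Ideal A) : Set A) := (hJ''.1 n).preimage hφ
    obtain ⟨k, -, hk⟩ := Groth.Agent.Lib.Helper51.exists_pow_le_of_isIdealOfDefinition hI hopen
    have h1 : (I.map (ψ.comp φ)) ^ k ≤ (J'.map ψ) ^ n := by
      rw [← Ideal.map_pow, ← Ideal.map_pow, ← Ideal.map_map]
      exact Ideal.map_mono ((Ideal.map_mono hk).trans Ideal.map_comap_le)
    exact Groth.Agent.Lib.Helper51.ideal_isOpen_mono h1 (hIC'.1 k)
  · obtain ⟨k, hk⟩ := hIC'.2 s hs
    have hopen : IsOpen ((((I.map (ψ.comp φ)) ^ k).comap ψ : Ideal B) : Set B) :=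
      (hIC'.1 k).preimage hψ
    obtain ⟨l, hl⟩ := hJ''.2 _ (hopen.mem_nhds (Ideal.zero_mem _))
    refine ⟨l, fun x hx => hk ?_⟩
    have h2 : (J'.map ψ) ^ l ≤ (I.map (ψ.comp φ)) ^ k := by
      rw [← Ideal.map_pow]
      exact (Ideal.map_mono (show J' ^ l ≤ ((I.map (ψ.comp φ)) ^ k).comap ψ from hl)).trans
        Ideal.map_comap_le
    exact h2 hx

end Groth.Agent.S10156
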