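import Groth.Statements.S10157
import Groth.Agent.Lib.Helper51.Adic
import Groth.Agent.Lib.Helper51.Taut

set_option autoImplicit false
universe u v
open LinTop

namespace Groth.Agent.S10157

/-- A continuous adic homomorphism φ : A → B between pre-adic topological rings is taut. -/
theorem result
    (A : Type u) [CommRing A] [TopologicalSpace A] [IsTopologicalRing A] (hA : LinTop.IsPreadic A)
    (B : Type v) [CommRing B] [TopologicalSpace B] [IsTopologicalRing B] (hB : LinTop.IsPreadic B)
    (φ : A →+* B) (hφ : Continuous φ) (h : LinTop.IsAdicHom φ) : LinTop.IsTaut φ := by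
  obtain ⟨I, hI, hIB⟩ := h
  have hlin : IsLinearTopology B B := Groth.Agent.Lib.Helper51.isLinearTopology_of_isAdic hIB
  have hIB' := isAdic_iff.1 hIB
  refine ⟨hφ, fun I' hI' => ?_, fun U hU =>
    Groth.Agent.Lib.Helper51.exists_open_ideal_closure_map_subset hφ hU⟩
  obtain ⟨n, -, hn⟩ := Groth.Agent.Lib.Helper51.exists_pow_le_of_isIdealOfDefinition hI hI'
  have h1 : (I.map φ) ^ n ≤ (I'.map φ).closure := by
    rw [← Ideal.map_pow]
    exact (Ideal.map_mono hn).trans (Groth.Agent.Lib.Helper51.ideal_le_closure _)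
  exact Groth.Agent.Lib.Helper51.ideal_isOpen_mono (I := (I.map φ) ^ n)
    (J := (I'.map φ).closure) h1 (hIB'.1 n)

end Groth.Agent.S10157
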