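import Groth.Statements.S10158
import Groth.Agent.Lib.Helper51.FGAdic

set_option autoImplicit false
universe u v
open LinTop

namespace Groth.Agent.S10158

/-- Let φ : A → B be a taut homomorphism of linearly topologized rings. Assume A is pre-adic with a
finitely generated ideal of definition I and B is Hausdorff and complete. Then the topology of B is
the φ(I)B-adic topology; in particular B is adic with a finitely generated ideal of definition and φ
is adic. -/
theorem result
    (A : Type u) [CommRing A] [TopologicalSpace A] [IsTopologicalRing A] (hA : LinTop.IsPreadic A)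
    (I : Ideal A) (hI : LinTop.IsIdealOfDefinition A I) (hfg : I.FG)
    (B : Type v) [CommRing B] [UniformSpace B] [IsUniformAddGroup B] [IsTopologicalRing B]
    [IsLinearTopology B B] [T2Space B] [CompleteSpace B]
    (φ : A →+* B) (hφ : LinTop.IsTaut φ) :
    IsAdic (I.map φ) := by
  obtain ⟨hc, h2, h3⟩ := hφ
  obtain ⟨I₀, hI₀⟩ := hA
  have hI₀' := isAdic_iff.1 hI₀
  -- the powers of `I` are open
  have hIpow : ∀ n : ℕ, IsOpen ((I ^ n : Ideal A) : Set A) := by
    intro n
    obtain ⟨k, hk⟩ := hI₀'.2 (I : Set A) (hI.1.mem_nhds I.zero_mem)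
    have h1 : I₀ ^ (k * n) ≤ I ^ n := by
      rw [pow_mul]; exact Ideal.pow_right_mono hk n
    exact Groth.Agent.Lib.Helper51.ideal_isOpen_mono h1 (hI₀'.1 _)
  apply Groth.Agent.Lib.Helper51.isAdic_of_fg (hfg.map φ)
  · intro n
    rw [← Ideal.map_pow]
    exact h2 _ (hIpow n)
  · intro U hU
    obtain ⟨I', hI'o, hI'U⟩ := h3 U hU
    obtain ⟨n, -, hn⟩ := Groth.Agent.Lib.Helper51.exists_pow_le_of_isIdealOfDefinition hI hI'o
    refine ⟨n, (closure_mono ?_).trans hI'U⟩
    rw [← Ideal.map_pow]
    exact Ideal.map_mono hn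

end Groth.Agent.S10158
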