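import Groth.Statements.S10166
import Groth.Agent.Lib.Helper51.TautFF

set_option autoImplicit false
universe u v
open LinTop

namespace Groth.Agent.S10166

/-- Let φ : A → B be a taut homomorphism of linearly topologized rings such that for every open ideal I
of A, with J the closure of φ(I)B, the induced map A/I → B/J is faithfully flat. If B has a
countable fundamental system of open ideals, then so does A. -/
theorem result
    (A : Type u) [CommRing A] [TopologicalSpace A] [IsTopologicalRing A] [IsLinearTopology A A]
    (B : Type v) [CommRing B] [TopologicalSpace B] [IsTopologicalRing B] [IsLinearTopology B B]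
    (φ : A →+* B) (hφ : LinTop.IsTautFFlat φ) (hB : (nhds (0 : B)).IsCountablyGenerated) :
    (nhds (0 : A)).IsCountablyGenerated := by
  obtain ⟨hc, h2, h3⟩ := hφ.1
  have := hB
  obtain ⟨J, hJ, hbasis⟩ :=
    (IsLinearTopology.hasBasis_open_ideal (R := B)).exists_antitone_subbasis
  have hch : ∀ n : ℕ, ∃ I : Ideal A, IsOpen (I : Set A) ∧
      closure ((I.map φ : Ideal B) : Set B) ⊆ (J n : Set B) :=
    fun n => h3 _ ((hJ n).mem_nhds (J n).zero_mem)
  choose I hIo hIJ using hch
  have hA : (nhds (0 : A)).HasBasis (fun _ : ℕ => True) (fun n => (I n : Set A)) := by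
    constructor
    intro U
    constructor
    · intro hU
      obtain ⟨I', hI'o, hI'U⟩ := IsLinearTopology.hasBasis_open_ideal.mem_iff.1 hU
      obtain ⟨n, -, hn⟩ := hbasis.toHasBasis.mem_iff.1
        ((h2 I' hI'o).mem_nhds (subset_closure (Ideal.zero_mem _)))
      refine ⟨n, trivial, fun x hx => hI'U ?_⟩
      have hle : (I n).map φ ≤ (I'.map φ).closure := fun y hy => hn (hIJ n (subset_closure hy))
      exact Groth.Agent.Lib.Helper51.le_of_closure_map_le hφ hI'o hle hx
    · rintro ⟨n, -, hn⟩
      exact Filter.mem_of_superset ((hIo n).mem_nhds (I n).zero_mem) hn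
  exact hA.isCountablyGenerated

end Groth.Agent.S10166
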