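import Groth.Statements.S10168
import Groth.Agent.Lib.Helper51.TautFF

set_option autoImplicit false
universe u v
open LinTop

namespace Groth.Agent.S10168

/-- Let φ : A → B be a taut homomorphism of linearly topologized rings such that for every open ideal I
of A, with J the closure of φ(I)B, the induced map A/I → B/J is faithfully flat. If B is
pre-admissible, then A is pre-admissible. -/
theorem result
    (A : Type u) [CommRing A] [TopologicalSpace A] [IsTopologicalRing A] [IsLinearTopology A A]
    (B : Type v) [CommRing B] [TopologicalSpace B] [IsTopologicalRing B] [IsLinearTopology B B]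
    (φ : A →+* B) (hφ : LinTop.IsTautFFlat φ) (hB : LinTop.IsPreadmissible B) :
    LinTop.IsPreadmissible A := by
  obtain ⟨hc, h2, h3⟩ := hφ.1
  obtain ⟨-, J, hJ⟩ := hB
  obtain ⟨I, hIo, hIJ⟩ := h3 _ (hJ.1.mem_nhds J.zero_mem)
  refine ⟨inferInstance, I, hIo, fun U hU => ?_⟩
  obtain ⟨I', hI'o, hI'U⟩ := IsLinearTopology.hasBasis_open_ideal.mem_iff.1 hU
  obtain ⟨n, hn, hJn⟩ := Groth.Agent.Lib.Helper51.exists_pow_le_of_isIdealOfDefinition hJ
    (I' := (I'.map φ).closure) (h2 I' hI'o)
  refine ⟨n, hn, fun x hx => hI'U ?_⟩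
  have hle : (I ^ n).map φ ≤ (I'.map φ).closure := by
    rw [Ideal.map_pow]
    refine (Ideal.pow_right_mono ?_ n).trans hJn
    exact fun y hy => hIJ (subset_closure hy)
  exact Groth.Agent.Lib.Helper51.le_of_closure_map_le hφ hI'o hle hx

end Groth.Agent.S10168
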