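import Groth.Statements.S10169
import Groth.Agent.Lib.Helper51.TautFF

set_option autoImplicit false
universe u v
open LinTop

namespace Groth.Agent.S10169

/-- Let φ : A → B be a taut homomorphism of linearly topologized rings such that for every open ideal I
of A the induced ring map A/I → B/J, where J denotes the closure of φ(I)B, is faithfully flat. Weak
pre-adicness then descends: when B is weakly pre-adic, A is as well. -/
theorem result
    (A : Type u) [CommRing A] [TopologicalSpace A] [IsTopologicalRing A] [IsLinearTopology A A]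
    (B : Type v) [CommRing B] [TopologicalSpace B] [IsTopologicalRing B] [IsLinearTopology B B]
    (φ : A →+* B) (hφ : LinTop.IsTautFFlat φ) (hB : LinTop.IsWeaklyPreadic B) :
    LinTop.IsWeaklyPreadic A := by
  obtain ⟨hc, h2, h3⟩ := hφ.1
  obtain ⟨-, J, hJo, hJb⟩ := hB
  have hJ1 : IsOpen (closure ((J : Ideal B) : Set B)) := by simpa using hJo 1
  obtain ⟨I, hIo, hIJ⟩ := h3 _ (hJ1.mem_nhds (subset_closure J.zero_mem))
  have hIJ' : I.map φ ≤ J.closure := fun y hy => hIJ (subset_closure hy)
  refine ⟨inferInstance, I, fun n => ?_, fun U hU => ?_⟩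
  · -- openness of the closure of `I ^ n`
    obtain ⟨m, hm⟩ := hJb _ ((h2 I hIo).mem_nhds (subset_closure (Ideal.zero_mem _)))
    have hm' : J ^ m ≤ (I.map φ).closure := fun y hy => hm (subset_closure hy)
    -- `closure (J ^ (m * n)) ⊆ closure (I ^ n B)`
    have h4 : (J ^ (m * n)).closure ≤ ((I ^ n).map φ).closure := by
      have h5 : J ^ (m * n) ≤ ((I ^ n).map φ).closure := by
        rw [pow_mul, Ideal.map_pow]
        exact (Ideal.pow_right_mono hm' n).trans
          (Groth.Agent.Lib.Helper51.ideal_closure_pow_le _ n)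
      intro y hy
      have h6 : closure ((J ^ (m * n) : Ideal B) : Set B) ⊆
          closure ((((I ^ n).map φ).closure : Ideal B) : Set B) := closure_mono h5
      have h7 := h6 hy
      rwa [Ideal.coe_closure, closure_closure] at h7
    obtain ⟨I'', hI''o, hI''⟩ := h3 _ ((hJo (m * n)).mem_nhds (subset_closure (Ideal.zero_mem _)))
    have hle : I'' ≤ (I ^ n).closure := by
      intro x hx
      change x ∈ closure ((I ^ n : Ideal A) : Set A)
      rw [Groth.Agent.Lib.Helper51.mem_closure_ideal_iff]
      intro I' hI'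
      have hopen : IsOpen ((I ^ n ⊔ I' : Ideal A) : Set A) :=
        Groth.Agent.Lib.Helper51.ideal_isOpen_mono le_sup_right hI'
      have hle2 : I''.map φ ≤ ((I ^ n ⊔ I').map φ).closure := by
        intro y hy
        have h8 : y ∈ ((I ^ n).map φ).closure := h4 (hI'' (subset_closure hy))
        exact Groth.Agent.Lib.Helper51.ideal_closure_mono (Ideal.map_mono le_sup_left) h8
      exact Groth.Agent.Lib.Helper51.le_of_closure_map_le hφ hopen hle2 hx
    exact Groth.Agent.Lib.Helper51.ideal_isOpen_mono (I := I'') (J := (I ^ n).closure) hle hI''o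
  · obtain ⟨I', hI'o, hI'U⟩ := IsLinearTopology.hasBasis_open_ideal.mem_iff.1 hU
    obtain ⟨n, hn⟩ := hJb _ ((h2 I' hI'o).mem_nhds (subset_closure (Ideal.zero_mem _)))
    refine ⟨n, (Groth.Agent.Lib.Helper51.closure_ideal_le_of_isOpen ?_ hI'o).trans hI'U⟩
    have hle : (I ^ n).map φ ≤ (I'.map φ).closure := by
      rw [Ideal.map_pow]
      intro y hy
      exact hn (Groth.Agent.Lib.Helper51.ideal_closure_pow_le J n (Ideal.pow_right_mono hIJ' n hy))
    exact Groth.Agent.Lib.Helper51.le_of_closure_map_le hφ hI'o hle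

end Groth.Agent.S10169
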