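import Groth.Statements.S10183
import Groth.Agent.Lib.Helper51.EtaleQF
import Groth.Agent.Lib.Helper51.AlgSpPoints

set_option autoImplicit false
universe u
open CategoryTheory CategoryTheory.Limits AlgebraicGeometry Topology TopologicalSpace
open AlgSp

namespace Groth.Agent.S10183

open Groth.Agent.Lib.Helper51 Groth.Agent.Lib.Helper52 in
theorem aux1 {S : Scheme.{u}} {F : AlgSp.Sp S} {R U : Over S}
    (a : (AlgSp.yon S).obj U ⟶ F) (ha : AlgSp.RepWith @Etale a) (s t : R ⟶ U)
    (hR : IsPullback ((AlgSp.yon S).map t) ((AlgSp.yon S).map s) a a)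
    [QuasiCompact s.left] (x : AlgSp.Points F) :
    (AlgSp.Points.ofPt a ⁻¹' {x}).Finite := by
  by_cases hne : (AlgSp.Points.ofPt a ⁻¹' {x}).Nonempty
  · obtain ⟨u0, hu0⟩ := hne
    have hs : Etale s.left := ha.2 a _ s hR
    have hfin : (s.left ⁻¹' {u0}).Finite := finite_preimage_singleton_of_etale s.left u0
    refine (hfin.image t.left).subset ?_
    intro u hu
    have h1 : AlgSp.Points.ofPt a u = AlgSp.Points.ofPt a u0 := by
      rw [Set.mem_preimage, Set.mem_singleton_iff] at hu hu0
      rw [hu, hu0]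
    obtain ⟨r, hr1, hr2⟩ := exists_of_ofPt_eq_ofPt hR h1
    exact ⟨r, hr2, hr1⟩
  · rw [Set.not_nonempty_iff_eq_empty] at hne
    rw [hne]
    exact Set.finite_empty

/-- Let X be an algebraic space over a scheme S, a : h_U ⟶ X a representable etale map from a scheme U
over S, and R a scheme over S with h_R = h_U ×_X h_U whose two projections s, t : R ⟶ U are
quasi-compact (for instance if a is quasi-compact). Then the maps |U| → |X| and |R| → |X| have
finite fibres. -/
theorem result {S : Scheme.{u}} (X : AlgSp.Space S) {R U : Over S}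
    (a : (AlgSp.yon S).obj U ⟶ X.obj) (ha : AlgSp.RepWith @Etale a) (s t : R ⟶ U)
    (hR : IsPullback ((AlgSp.yon S).map t) ((AlgSp.yon S).map s) a a)
    [QuasiCompact s.left] [QuasiCompact t.left] (x : AlgSp.Points X.obj) :
    (AlgSp.Points.ofPt a ⁻¹' {x}).Finite ∧
      (AlgSp.Points.ofPt ((AlgSp.yon S).map t ≫ a) ⁻¹' {x}).Finite := by
  have h1 := aux1 a ha s t hR x
  refine ⟨h1, ?_⟩
  have ht : Etale t.left := ha.2 a _ t hR.flip
  have h2 : AlgSp.Points.ofPt ((AlgSp.yon S).map t ≫ a) ⁻¹' {x} =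
      t.left ⁻¹' (AlgSp.Points.ofPt a ⁻¹' {x}) := by
    ext r
    simp only [Set.mem_preimage, Set.mem_singleton_iff]
    rw [Groth.Agent.Lib.Helper52.ofPt_yon_map_comp]
  rw [h2]
  exact t.left.finite_preimage h1

end Groth.Agent.S10183
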