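import Groth.Statements.S10195
import Groth.Agent.Lib.Helper51.AlgSpOpen

set_option autoImplicit false
universe u
open CategoryTheory CategoryTheory.Limits AlgebraicGeometry Topology TopologicalSpace
open AlgSp

namespace Groth.Agent.S10195

/-- For an algebraic space X over a scheme S and an open subset W of |X|, there is an open subspace X'
of X with |X'| = W: an algebraic space X' with a morphism X' ⟶ X representable by open immersions
whose image in |X| is W. (Together with the factorisation criterion for open subspaces this makes
open subspaces of X correspond bijectively and monotonically to opens of |X|.) -/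
theorem result {S : Scheme.{u}} (X : AlgSp.Space S) (W : Set (AlgSp.Points X.obj))
    (hW : IsOpen W) :
    ∃ (X' : AlgSp.Space S) (j : X' ⟶ X),
      AlgSp.RepWith @IsOpenImmersion j.hom ∧ Set.range (AlgSp.Points.map j.hom) = W := by
  refine ⟨⟨Groth.Agent.Lib.Helper51.openSp X.obj W,
    Groth.Agent.Lib.Helper51.isAlgSpace_openSp W hW X.property⟩,
    ObjectProperty.homMk (Groth.Agent.Lib.Helper51.openSpι X.obj W), ?_, ?_⟩
  · exact Groth.Agent.Lib.Helper51.repWith_isOpenImmersion_openSpι W hW
  · exact Groth.Agent.Lib.Helper51.range_map_openSpι W

end Groth.Agent.S10195
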