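import Groth.Statements.S10197
import Groth.Agent.Lib.Helper51.AlgSpLargestOpenScheme

set_option autoImplicit false
universe u
open CategoryTheory CategoryTheory.Limits AlgebraicGeometry Topology TopologicalSpace
open AlgSp

namespace Groth.Agent.S10197

/-- An algebraic space X over a scheme S has a largest open subspace which is a scheme: there is an open
subspace X' ⟶ X whose underlying sheaf is representable by a scheme over S, through which every open
subspace of X with representable underlying sheaf factors. -/
theorem result {S : Scheme.{u}} (X : AlgSp.Space S) :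
    ∃ (X' : AlgSp.Space S) (j : X' ⟶ X), AlgSp.RepWith @IsOpenImmersion j.hom ∧ X'.obj.obj.IsRepresentable ∧
      ∀ (X'' : AlgSp.Space S) (j'' : X'' ⟶ X), AlgSp.RepWith @IsOpenImmersion j''.hom →
        X''.obj.obj.IsRepresentable → ∃ k : X'' ⟶ X', k ≫ j = j'' := by
  obtain ⟨X', j, hX', hj, hrep, huniv⟩ :=
    Groth.Agent.Lib.Helper51.exists_largest_open_subscheme X.property
  refine ⟨⟨X', hX'⟩, ObjectProperty.homMk j, hj, hrep, ?_⟩
  intro X'' j'' hj'' hrep''
  obtain ⟨k, hk⟩ := huniv X''.obj j''.hom hj'' hrep''
  exact ⟨ObjectProperty.homMk k, ObjectProperty.hom_ext _ hk⟩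

end Groth.Agent.S10197
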