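import Groth.Statements.S10227
import Groth.Agent.Lib.Helper7.AlgSpBr2

set_option autoImplicit false
universe u
open CategoryTheory CategoryTheory.Limits AlgebraicGeometry Topology TopologicalSpace
open AlgSp

namespace Groth.Agent.S10227

/-- (1) ⇔ (4) ⇔ (5): let X be an algebraic space over a scheme S and x ∈ |X|. The following are
equivalent: for every scheme U, every etale h_U ⟶ X and every point u of U over x, the local ring of
U at u has a unique minimal prime; for every such (U, u), the local ring of U at u is geometrically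
unibranch; for every geometric point x̄ over x, the etale local ring of X at x̄ has a unique minimal
prime. -/
theorem result {S : Scheme.{u}} (X : AlgSp.Space S) (x : AlgSp.Points X.obj) :
    ((∀ (U : Over S) (a : (AlgSp.yon S).obj U ⟶ X.obj) (u : ↥U.left),
        AlgSp.RepWith @Etale a → AlgSp.Points.ofPt a u = x → CAlgX.HasUniqueMinimalPrime ↥(U.left.presheaf.stalk u)) ↔
      (∀ (U : Over S) (a : (AlgSp.yon S).obj U ⟶ X.obj) (u : ↥U.left),
        AlgSp.RepWith @Etale a → AlgSp.Points.ofPt a u = x → CAlg2.IsGeomUnibranch ↥(U.left.presheaf.stalk u))) ∧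
    ((∀ (U : Over S) (a : (AlgSp.yon S).obj U ⟶ X.obj) (u : ↥U.left),
        AlgSp.RepWith @Etale a → AlgSp.Points.ofPt a u = x → CAlgX.HasUniqueMinimalPrime ↥(U.left.presheaf.stalk u)) ↔
      ∀ p : AlgSp.FieldPt X.obj, p.IsGeometric → AlgSp.Points.mk p = x →
        CAlgX.HasUniqueMinimalPrime ↥(AlgSp.OEtStalk p)) := by
  have hX : AlgSp.IsAlgSpace X.obj := X.property
  refine ⟨⟨fun h U a u ha hu => ?_, fun h U a u ha hu => ?_⟩, ⟨fun h p hp hpx => ?_, fun h U a u ha hu => ?_⟩⟩
  · exact Groth.Agent.Lib.Helper7.AlgSpBr.isGeomUnibranch_of_charts x h U a u ha hu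
  · exact Groth.Agent.Lib.Helper7.AlgSpBr.hasUniqueMinimalPrime_of_isGeomUnibranch _ (h U a u ha hu)
  · rw [← Groth.Agent.Lib.Helper37.Hz.Unibranch.nilradical_isPrime_iff]
    refine Groth.Agent.Lib.Helper7.AlgSpBr.nilradical_isPrime_OEtStalk p hX hp (fun N => ?_)
    rw [Groth.Agent.Lib.Helper37.Hz.Unibranch.nilradical_isPrime_iff]
    refine h N.1.obj.left N.1.obj.hom _ N.1.property ?_
    rw [← hpx]
    exact Groth.Agent.Lib.Helper51.ofPt_liftsTo p N.2
  · obtain ⟨p, hp, E, l, hpx⟩ := Groth.Agent.Lib.Helper51.exists_geometric_point_over hX x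
    rw [← Groth.Agent.Lib.Helper37.Hz.Unibranch.nilradical_isPrime_iff]
    refine Groth.Agent.Lib.Helper7.AlgSpBr.nilradical_isPrime_stalk_of_OEtStalk p hX hp a ha u
      (hu.trans hpx.symm) ?_
    rw [Groth.Agent.Lib.Helper37.Hz.Unibranch.nilradical_isPrime_iff]
    exact h p hp hpx

end Groth.Agent.S10227
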