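import Groth.Statements.S10228
import Groth.Agent.Lib.Helper78.AlgSpCoprod4

set_option autoImplicit false
universe u
open CategoryTheory CategoryTheory.Limits AlgebraicGeometry Topology TopologicalSpace
open AlgSp

namespace Groth.Agent.S10228

/-- An algebraic space that is the coproduct of finitely many quasi-compact algebraic spaces is
quasi-compact: if X_i (i in a finite type) are quasi-compact algebraic spaces over a scheme S and
the underlying sheaf of the algebraic space X is a coproduct of the underlying sheaves of the X_i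
(given by a colimit cofan of fppf sheaves whose cone point is the sheaf of X), then X is
quasi-compact. -/
theorem result {S : Scheme.{u}} {ι : Type u} [Finite ι] (Xi : ι → AlgSp.Space S)
    (X : AlgSp.Space S) (c : Cofan fun i => (Xi i).obj) (hc : IsColimit c) (hX : c.pt = X.obj)
    (hqc : ∀ i, AlgSp.IsQuasiCompactSp (Xi i).obj) :
    AlgSp.IsQuasiCompactSp X.obj := by
  rw [← hX]
  choose U p hpe hps hcpt using hqc
  obtain ⟨Uo, j, h1, h2, h3⟩ := Groth.Agent.Lib.Helper78.AlgSpCoprod.exists_sigma_over U
  obtain ⟨hcU⟩ := Groth.Agent.Lib.Helper78.AlgSpCoprod.isColimit_yon_of_openCover j h1 h2 h3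
  let m : (AlgSp.yon S).obj Uo ⟶ c.pt := Cofan.IsColimit.desc hcU (fun i => p i ≫ c.inj i)
  have hm : ∀ i, (AlgSp.yon S).map (j i) ≫ m = p i ≫ c.inj i := fun i =>
    Cofan.IsColimit.fac hcU _ i
  refine ⟨Uo, m, Groth.Agent.Lib.Helper78.AlgSpCoprod.repWith_cofan_map @Etale hcU hc p hpe m hm,
    Groth.Agent.Lib.Helper78.AlgSpCoprod.repWith_cofan_map @Surjective hcU hc p hps m hm, ?_⟩
  have huniv : (Set.univ : Set Uo.left) = ⋃ i, Set.range (j i).left := by
    ext v
    simp only [Set.mem_univ, Set.mem_iUnion, true_iff]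
    exact h3 v
  refine ⟨?_⟩
  rw [huniv]
  exact isCompact_iUnion (fun i => isCompact_range (j i).left.continuous)

end Groth.Agent.S10228
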