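import Groth.Statements.S10232
import Groth.Agent.Lib.Helper7.AlgSpSH4

set_option autoImplicit false
universe u
open CategoryTheory CategoryTheory.Limits AlgebraicGeometry Topology TopologicalSpace
open AlgSp

namespace Groth.Agent.S10232

/-- Let X be an algebraic space over a scheme S and x ∈ |X|. Then X is regular at x (for some etale
chart h_U ⟶ X and some point u of U over x, the local ring of U at u is regular) if and only if the
etale local ring of X at x̄ is regular for every geometric point x̄ lying over x, if and only if it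
is regular for some geometric point x̄ lying over x. -/
theorem result {S : Scheme.{u}} (X : AlgSp.Space S) (x : AlgSp.Points X.obj) :
    (AlgSp.HasAt (fun U u => IsRegularLocalRing ↥(U.presheaf.stalk u)) X.obj x ↔
      ∀ p : AlgSp.FieldPt X.obj, p.IsGeometric → AlgSp.Points.mk p = x → IsRegularLocalRing ↥(AlgSp.OEtStalk p)) ∧
    (AlgSp.HasAt (fun U u => IsRegularLocalRing ↥(U.presheaf.stalk u)) X.obj x ↔
      ∃ p : AlgSp.FieldPt X.obj, p.IsGeometric ∧ AlgSp.Points.mk p = x ∧ IsRegularLocalRing ↥(AlgSp.OEtStalk p)) := by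
  have hX : AlgSp.IsAlgSpace X.obj := X.property
  have h1 : AlgSp.HasAt (fun U u => IsRegularLocalRing ↥(U.presheaf.stalk u)) X.obj x →
      ∀ p : AlgSp.FieldPt X.obj, p.IsGeometric → AlgSp.Points.mk p = x →
        IsRegularLocalRing ↥(AlgSp.OEtStalk p) := by
    rintro ⟨U, a, u, ha, hu, hr⟩ p hp hpx
    exact (Groth.Agent.Lib.Helper7.AlgSpSH.isRegularLocalRing_OEtStalk_iff p hX hp a ha u
      (hu.trans hpx.symm)).mp hr
  have h2 : (∃ p : AlgSp.FieldPt X.obj, p.IsGeometric ∧ AlgSp.Points.mk p = x ∧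
      IsRegularLocalRing ↥(AlgSp.OEtStalk p)) →
      AlgSp.HasAt (fun U u => IsRegularLocalRing ↥(U.presheaf.stalk u)) X.obj x := by
    rintro ⟨p, hp, hpx, hr⟩
    obtain ⟨U, a, u, -, ha, hu⟩ := Groth.Agent.Lib.Helper51.exists_affine_etale_chart_at hX x
    exact ⟨U, a, u, ha, hu, (Groth.Agent.Lib.Helper7.AlgSpSH.isRegularLocalRing_OEtStalk_iff p hX hp
      a ha u (hu.trans hpx.symm)).mpr hr⟩
  have h3 : (∀ p : AlgSp.FieldPt X.obj, p.IsGeometric → AlgSp.Points.mk p = x →
      IsRegularLocalRing ↥(AlgSp.OEtStalk p)) →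
      ∃ p : AlgSp.FieldPt X.obj, p.IsGeometric ∧ AlgSp.Points.mk p = x ∧
        IsRegularLocalRing ↥(AlgSp.OEtStalk p) := by
    intro h
    obtain ⟨p, hp, E, l, hpx⟩ := Groth.Agent.Lib.Helper51.exists_geometric_point_over hX x
    exact ⟨p, hp, hpx, h p hp hpx⟩
  exact ⟨⟨h1, fun h => h2 (h3 h)⟩, ⟨fun h => h3 (h1 h), h2⟩⟩

end Groth.Agent.S10232
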