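import Groth.Statements.S10234
-- import your own Groth.Agent.* helpers here

set_option autoImplicit false
universe u
open CategoryTheory CategoryTheory.Limits AlgebraicGeometry Topology TopologicalSpace
open AlgSp

namespace Groth.Agent.S10234

set_option backward.isDefEq.respectTransparency false

variable {S : Scheme.{u}} {X Y : AlgSp.Sp S}

theorem presieve_eq_ofArrows {C : Type*} [Category C] {F : C} (R : Presieve F) :
    R = Presieve.ofArrows (fun i : Σ Z, {g : Z ⟶ F // R g} => i.1) (fun i => i.2.1) := by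
  funext Z
  ext g
  constructor
  · intro h
    exact Presieve.ofArrows.mk (ι := Σ Z, {g : Z ⟶ F // R g}) ⟨Z, g, h⟩
  · rintro ⟨i⟩
    exact i.2.2

/-- The functor `postcomp` preserves the chosen fibre products. -/
noncomputable def postcompPullbackIsLimit (f : X ⟶ Y) (hf : AlgSp.IsEtaleMor f)
    {E₁ E₂ E₀ : AlgSp.EtOver X} (g₁ : E₁ ⟶ E₀) (g₂ : E₂ ⟶ E₀) :
    IsLimit (PullbackCone.mk ((AlgSp.EtOver.postcomp f hf).map (AlgSp.EtOver.pullbackFst g₁ g₂))
      ((AlgSp.EtOver.postcomp f hf).map (AlgSp.EtOver.pullbackSnd g₁ g₂))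
      (by rw [← Functor.map_comp, ← Functor.map_comp, AlgSp.EtOver.pullback_condition])) :=
  PullbackCone.IsLimit.mk _
    (fun s => AlgSp.EtOver.homMk (pullback.lift s.fst.hom.left s.snd.hom.left
        (congrArg (fun k => k.hom.left) s.condition)) (by
      change (AlgSp.yon S).map _ ≫ ((AlgSp.yon S).map _ ≫ E₁.obj.hom) ≫ f = s.pt.obj.hom
      rw [Category.assoc, ← Category.assoc, ← Functor.map_comp, pullback.lift_fst]
      exact AlgSp.EtOver.w s.fst))
    (fun s => AlgSp.EtOver.hom_ext _ _ (pullback.lift_fst _ _ _))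
    (fun s => AlgSp.EtOver.hom_ext _ _ (pullback.lift_snd _ _ _))
    (fun s m h₁ h₂ => AlgSp.EtOver.hom_ext _ _ (pullback.hom_ext
      ((congrArg (fun k => k.hom.left) h₁).trans (pullback.lift_fst _ _ _).symm)
      ((congrArg (fun k => k.hom.left) h₂).trans (pullback.lift_snd _ _ _).symm)))

theorem preservesLimit_cospan_postcomp (f : X ⟶ Y) (hf : AlgSp.IsEtaleMor f)
    {E₁ E₂ E₀ : AlgSp.EtOver X} (g₁ : E₁ ⟶ E₀) (g₂ : E₂ ⟶ E₀) :
    PreservesLimit (cospan g₁ g₂) (AlgSp.EtOver.postcomp f hf) :=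
  preservesLimit_of_preserves_limit_cone (AlgSp.EtOver.pullbackIsLimit g₁ g₂)
    ((isLimitMapConePullbackConeEquiv _ _).symm (postcompPullbackIsLimit f hf g₁ g₂))

theorem preservesPullbacks_postcomp (f : X ⟶ Y) (hf : AlgSp.IsEtaleMor f) :
    PreservesLimitsOfShape WalkingCospan (AlgSp.EtOver.postcomp f hf) where
  preservesLimit {K} :=
    have := preservesLimit_cospan_postcomp f hf (K.map WalkingCospan.Hom.inl)
      (K.map WalkingCospan.Hom.inr)
    preservesLimit_of_iso_diagram _ (diagramIsoCospan K).symm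

theorem postcomp_isContinuous (f : X ⟶ Y) (hf : AlgSp.IsEtaleMor f) :
    (AlgSp.EtOver.postcomp f hf).IsContinuous (AlgSp.etTop X) (AlgSp.etTop Y) := by
  have := preservesPullbacks_postcomp f hf
  unfold AlgSp.etTop
  refine Functor.isContinuous_toGrothendieck_of_pullbacksPreservedBy (AlgSp.EtOver.postcomp f hf)
    (AlgSp.etPre X) (AlgSp.etPre Y) ?_
  intro E R hR
  rw [presieve_eq_ofArrows R] at hR ⊢
  rw [Precoverage.mem_comap_iff, Presieve.map_ofArrows]
  rw [AlgSp.ofArrows_mem_etPre_iff] at hR ⊢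
  exact hR

/-- An arrow `g : Z ⟶ postcomp E` of the small etale site of `Y` lifted to the small etale site of `X`:
the source. -/
noncomputable def liftObj (f : X ⟶ Y) (hf : AlgSp.IsEtaleMor f) {E : AlgSp.EtOver X}
    {Z : AlgSp.EtOver Y} (g : Z ⟶ (AlgSp.EtOver.postcomp f hf).obj E) : AlgSp.EtOver X :=
  AlgSp.EtOver.mk ((AlgSp.yon S).map g.hom.left ≫ E.obj.hom)
    ((AlgSp.repWith_isMultiplicative (S := S) @Etale).comp_mem _ _
      ((AlgSp.repWith_yon_map_iff _ _).2 (AlgSp.EtOver.etale_left g)) E.property)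

noncomputable def liftHom (f : X ⟶ Y) (hf : AlgSp.IsEtaleMor f) {E : AlgSp.EtOver X}
    {Z : AlgSp.EtOver Y} (g : Z ⟶ (AlgSp.EtOver.postcomp f hf).obj E) : liftObj f hf g ⟶ E :=
  AlgSp.EtOver.homMk g.hom.left rfl

noncomputable def liftComparison (f : X ⟶ Y) (hf : AlgSp.IsEtaleMor f) {E : AlgSp.EtOver X}
    {Z : AlgSp.EtOver Y} (g : Z ⟶ (AlgSp.EtOver.postcomp f hf).obj E) :
    (AlgSp.EtOver.postcomp f hf).obj (liftObj f hf g) ⟶ Z :=
  AlgSp.EtOver.homMk (𝟙 _)
    (((congrArg (fun k => k ≫ Z.obj.hom) ((AlgSp.yon S).map_id Z.obj.left)).trans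
      (Category.id_comp _)).trans ((AlgSp.EtOver.w g).symm.trans (Category.assoc _ _ _).symm))

theorem liftComparison_comp (f : X ⟶ Y) (hf : AlgSp.IsEtaleMor f) {E : AlgSp.EtOver X}
    {Z : AlgSp.EtOver Y} (g : Z ⟶ (AlgSp.EtOver.postcomp f hf).obj E) :
    liftComparison f hf g ≫ g = (AlgSp.EtOver.postcomp f hf).map (liftHom f hf g) :=
  AlgSp.EtOver.hom_ext _ _ (Category.id_comp _)

theorem postcomp_isCocontinuous (f : X ⟶ Y) (hf : AlgSp.IsEtaleMor f) :
    (AlgSp.EtOver.postcomp f hf).IsCocontinuous (AlgSp.etTop X) (AlgSp.etTop Y) where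
  cover_lift {E T} hT := by
    unfold AlgSp.etTop at hT
    rw [Precoverage.mem_toGrothendieck_iff_of_isStableUnderComposition] at hT
    obtain ⟨R, hR, hRT⟩ := hT
    rw [presieve_eq_ofArrows R, AlgSp.ofArrows_mem_etPre_iff] at hR
    refine (AlgSp.etTop X).superset_covering ?_
      (AlgSp.ofArrows_mem_etTop
        (fun i : Σ Z, {g : Z ⟶ (AlgSp.EtOver.postcomp f hf).obj E // R g} => liftObj f hf i.2.1)
        (fun i => liftHom f hf i.2.1) hR)
    rw [Sieve.ofArrows, Sieve.generate_le_iff]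
    rintro Z g ⟨i⟩
    change T ((AlgSp.EtOver.postcomp f hf).map (liftHom f hf i.2.1))
    rw [← liftComparison_comp]
    exact T.downward_closed (hRT _ _ i.2.2) _

/-- Suppose f : X ⟶ Y is a morphism of algebraic spaces over a scheme S that is etale. Then the functor
j : X_etale ⟶ Y_etale, (U ⟶ X) ↦ (U ⟶ X ⟶ Y), is continuous and cocontinuous for the etale
topologies. (The identification of the associated morphism of topoi with f_small, and the resulting
formula for inverse images, are not part of this row.) -/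
theorem result {S : Scheme.{u}} {X Y : AlgSp.Space S} (f : X ⟶ Y)
    (hf : AlgSp.IsEtaleMor f.hom) :
    (AlgSp.EtOver.postcomp f.hom hf).IsContinuous (AlgSp.etTop X.obj) (AlgSp.etTop Y.obj) ∧
      (AlgSp.EtOver.postcomp f.hom hf).IsCocontinuous (AlgSp.etTop X.obj) (AlgSp.etTop Y.obj) :=
  ⟨postcomp_isContinuous f.hom hf, postcomp_isCocontinuous f.hom hf⟩

end Groth.Agent.S10234
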