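import Groth.Statements.S10236
import Groth.Agent.Lib.Helper40.QuotShApi
import Groth.Agent.Lib.Helper40.QuotShEff
import Groth.Agent.Lib.Helper40.FppfLocalInst
import Mathlib

set_option autoImplicit false
universe u
open CategoryTheory CategoryTheory.Limits AlgebraicGeometry Topology TopologicalSpace
open AlgSp

namespace Groth.Agent.S10236

/-- Quasi-compactness descends along surjective quasi-compact morphisms. -/
theorem qc_descent {A X Y Z : Scheme.{u}} {fst : A ⟶ X} {snd : A ⟶ Y} {f : X ⟶ Z} {g : Y ⟶ Z}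
    (sq : IsPullback fst snd f g) [Surjective f] [QuasiCompact f] [QuasiCompact fst] :
    QuasiCompact g := by
  refine ⟨fun V hVo hVc => ?_⟩
  have h1 : IsCompact (f ⁻¹' V) := QuasiCompact.isCompact_preimage (f := f) V hVo hVc
  have h2 : IsCompact (fst ⁻¹' (f ⁻¹' V)) :=
    QuasiCompact.isCompact_preimage (f := fst) _ (hVo.preimage f.continuous) h1
  have h3 : g ⁻¹' V = snd '' (fst ⁻¹' (f ⁻¹' V)) := by
    ext y
    constructor
    · intro hy
      obtain ⟨x, hx⟩ := f.surjective (g y)
      haveI := sq.hasPullback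
      obtain ⟨z, hz1, hz2⟩ := Scheme.Pullback.exists_preimage_pullback (f := f) (g := g) x y hx
      refine ⟨sq.isoPullback.inv z, ?_, ?_⟩
      · show f (fst (sq.isoPullback.inv z)) ∈ V
        rw [← Scheme.Hom.comp_apply sq.isoPullback.inv fst, sq.isoPullback_inv_fst, hz1, hx]
        exact hy
      · rw [← Scheme.Hom.comp_apply sq.isoPullback.inv snd, sq.isoPullback_inv_snd, hz2]
    · rintro ⟨a, ha, rfl⟩
      show g (snd a) ∈ V
      rw [← Scheme.Hom.comp_apply, ← sq.w, Scheme.Hom.comp_apply]
      exact ha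
  rw [h3]
  exact h2.image snd.continuous

/-- (Quasi-)separatedness descends along a finite flat surjective morphism of the source. -/
theorem sep_desc {U M S : Scheme.{u}} (m : U ⟶ M) (i : M ⟶ S) [Surjective m] [Flat m]
    [QuasiCompact m] [UniversallyClosed m] :
    (IsSeparated (m ≫ i) → IsSeparated i) ∧ (QuasiSeparated (m ≫ i) → QuasiSeparated i) := by
  have sq := pullback_map_diagonal_isPullback m m i
  obtain ⟨J, hJ⟩ : ∃ J : pullback m m ⟶ pullback (m ≫ i) (m ≫ i),
    J = pullback.map m m (m ≫ i) (m ≫ i) (𝟙 _) (𝟙 _) i (Category.id_comp _).symm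
      (Category.id_comp _).symm := ⟨_, rfl⟩
  obtain ⟨MM, hMM⟩ : ∃ MM : pullback (m ≫ i) (m ≫ i) ⟶ pullback i i,
    MM = pullback.map (m ≫ i) (m ≫ i) i i m m (𝟙 _) (Category.comp_id _)
      (Category.comp_id _) := ⟨_, rfl⟩
  rw [← hJ, ← hMM] at sq
  have hJfst : J ≫ pullback.fst (m ≫ i) (m ≫ i) = pullback.fst m m := by
    rw [hJ, pullback.lift_fst, Category.comp_id]
  haveI : MorphismProperty.IsStableUnderComposition (@Surjective : MorphismProperty Scheme.{u}) :=
    ⟨fun f g hf hg => by
      haveI : Surjective f := hf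
      haveI : Surjective g := hg
      exact (inferInstance : Surjective (f ≫ g))⟩
  haveI hMM1 : Surjective MM := by
    rw [hMM]
    exact MorphismProperty.pullbackMap (P := @Surjective) (f := m ≫ i) (g := m ≫ i) (f' := i)
      (g' := i) (i₁ := m) (i₂ := m) inferInstance inferInstance rfl rfl
  haveI hMM2 : Flat MM := by
    rw [hMM]
    exact MorphismProperty.pullbackMap (P := @Flat) (f := m ≫ i) (g := m ≫ i) (f' := i)
      (g' := i) (i₁ := m) (i₂ := m) inferInstance inferInstance rfl rfl
  haveI hMM3 : QuasiCompact MM := by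
    rw [hMM]
    exact MorphismProperty.pullbackMap (P := @QuasiCompact) (f := m ≫ i) (g := m ≫ i) (f' := i)
      (g' := i) (i₁ := m) (i₂ := m) inferInstance inferInstance rfl rfl
  constructor
  · intro hsep
    haveI := hsep
    have h1 : UniversallyClosed (J ≫ pullback.fst (m ≫ i) (m ≫ i)) := by
      rw [hJfst]; infer_instance
    have h2 : UniversallyClosed J :=
      MorphismProperty.of_postcomp (W := @UniversallyClosed) (W' := @IsSeparated) J
        (pullback.fst (m ≫ i) (m ≫ i)) inferInstance h1
    have h3 : UniversallyClosed (pullback.diagonal i) :=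
      MorphismProperty.of_isPullback_of_descendsAlong
        (P := @UniversallyClosed) (Q := @Surjective ⊓ @Flat ⊓ @QuasiCompact) sq.flip
        ⟨⟨hMM1, hMM2⟩, hMM3⟩ h2
    haveI := h3
    exact ⟨IsClosedImmersion.of_isPreimmersion _ (pullback.diagonal i).isClosedMap.isClosed_range⟩
  · intro hqs
    haveI := hqs
    have h1 : QuasiCompact (J ≫ pullback.fst (m ≫ i) (m ≫ i)) := by
      rw [hJfst]; infer_instance
    have h2 : QuasiCompact J :=
      MorphismProperty.of_postcomp (W := @QuasiCompact) (W' := @QuasiSeparated) J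
        (pullback.fst (m ≫ i) (m ≫ i)) inferInstance h1
    haveI := h2
    exact ⟨qc_descent sq.flip⟩

/-- Let (U, R, s, t, c) be a groupoid scheme over a scheme S with s, t finite locally free and j = (t,
s) an equivalence relation, such that in each nonempty closed subset of U some point has its whole
equivalence class inside an affine open of U; let U ⟶ M be a finite locally free morphism over S
with R = U ×_M U (the square with t, s cartesian) such that h_M is the quotient of h_U by h_R ⇉ h_U
in fppf sheaves. Then (1) if U ⟶ S is quasi-separated so is M ⟶ S; (2) if U is quasi-separated so is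
M; (3) if U ⟶ S is separated so is M ⟶ S; (4) if U is separated so is M. -/
theorem result {S : Scheme.{u}} (G : Grpd.GroupoidScheme S)
    (hs : Mor2.IsFinLocFree G.s) (ht : Mor2.IsFinLocFree G.t)
    (heq : AlgSp.IsEqvRel (Over.homMk G.s G.s_over : Over.mk G.pR ⟶ Over.mk G.pU) (Over.homMk G.t G.t_over : Over.mk G.pR ⟶ Over.mk G.pU))
    (h3 : ∀ Z : Set ↥G.U, IsClosed Z → Z.Nonempty →
      ∃ u ∈ Z, ∃ W : G.U.Opens, IsAffineOpen W ∧ ∀ r : ↥G.R, G.s r = u → G.t r ∈ W)
    (M : Over S) (m : Over.mk G.pU ⟶ M) (hm : Mor2.IsFinLocFree m.left) (hR : IsPullback G.t G.s m.left m.left)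
    (hq : QuotSh.IsQuotient Scheme.fppfPrecoverage (Over.homMk G.s G.s_over : Over.mk G.pR ⟶ Over.mk G.pU) (Over.homMk G.t G.t_over : Over.mk G.pR ⟶ Over.mk G.pU) m) :
    (QuasiSeparated G.pU → QuasiSeparated M.hom) ∧ (QuasiSeparatedSpace ↥G.U → QuasiSeparatedSpace ↥M.left) ∧
      (IsSeparated G.pU → IsSeparated M.hom) ∧ (G.U.IsSeparated → M.left.IsSeparated) := by
  obtain ⟨hfin, hflat, hlfp⟩ := hm
  haveI := hfin
  haveI := hflat
  haveI := hlfp
  -- surjectivity of `m` from the quotient property
  obtain ⟨hw, hsurjq, -⟩ := (Groth.Agent.Lib.Helper40.QuotShApi.isQuotient_iff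
    (K := Scheme.fppfPrecoverage) _ _ m).mp hq
  have hk : IsKernelPair m
      (Over.homMk G.s G.s_over : Over.mk G.pR ⟶ Over.mk G.pU)
      (Over.homMk G.t G.t_over : Over.mk G.pR ⟶ Over.mk G.pU) :=
    IsPullback.of_map (Over.forget S) hw hR.flip
  haveI := Groth.Agent.Lib.Helper40.FppfLocal.surjective_isLocalAtTarget_fppf.{u}
  haveI hts : Surjective G.t := by
    refine ⟨fun x => ⟨G.e x, ?_⟩⟩
    rw [← Scheme.Hom.comp_apply, G.e_t]
    rfl
  haveI hsurj : Surjective m.left :=
    Groth.Agent.Lib.Helper40.QuotShApi.property_of_isKernelPair Scheme.fppfPrecoverage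
      (@Surjective) hk hsurjq hts
  have hmw : m.left ≫ M.hom = G.pU := Over.w m
  have hA := sep_desc m.left M.hom
  have hB := sep_desc m.left (terminal.from M.left)
  have hterm : m.left ≫ terminal.from M.left = terminal.from G.U := terminal.comp_from _
  refine ⟨?_, ?_, ?_, ?_⟩
  · intro h
    exact hA.2 (by rw [hmw]; exact h)
  · intro h
    haveI := h
    have h1 : QuasiSeparated (terminal.from G.U) := (quasiSeparatedSpace_iff_quasiSeparated _).mp h
    have h2 := hB.2 (by rw [hterm]; exact h1)
    exact (quasiSeparatedSpace_iff_quasiSeparated _).mpr h2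
  · intro h
    exact hA.1 (by rw [hmw]; exact h)
  · intro h
    haveI := h
    have h1 : IsSeparated (terminal.from G.U) := inferInstance
    have h2 := hB.1 (by rw [hterm]; exact h1)
    exact ⟨h2⟩

end Groth.Agent.S10236
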