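import Groth.Statements.S10239
import Groth.Agent.Lib.Helper7.AlgSpBr5

set_option autoImplicit false
universe u
open CategoryTheory CategoryTheory.Limits AlgebraicGeometry Topology TopologicalSpace
open AlgSp

namespace Groth.Agent.S10239

/-- (1) ⇔ (4) ⇔ (5): let X be an algebraic space over a scheme S, x ∈ |X| and n ≥ 1 an integer. The
following are equivalent: (1) for every scheme U, etale h_U ⟶ X and u ∈ U over x the local ring of U
at u has at most n minimal primes, and for some such (U, u) exactly n; (4) for every such (U, u) the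
number of geometric branches of U at u is n; (5) for every geometric point x̄ over x the etale local
ring of X at x̄ has exactly n minimal primes. -/
theorem result {S : Scheme.{u}} (X : AlgSp.Space S) (x : AlgSp.Points X.obj)
    (n : ℕ) (hn : 1 ≤ n) :
    (((∀ (U : Over S) (a : (AlgSp.yon S).obj U ⟶ X.obj) (u : ↥U.left),
        AlgSp.RepWith @Etale a → AlgSp.Points.ofPt a u = x → (minimalPrimes ↥(U.left.presheaf.stalk u)).encard ≤ n) ∧
        AlgSp.HasAt (fun U u => (minimalPrimes ↥(U.presheaf.stalk u)).encard = n) X.obj x) ↔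
      (∀ (U : Over S) (a : (AlgSp.yon S).obj U ⟶ X.obj) (u : ↥U.left),
        AlgSp.RepWith @Etale a → AlgSp.Points.ofPt a u = x → Brnch.numGeomBranchesAt U.left u = n)) ∧
    ((∀ (U : Over S) (a : (AlgSp.yon S).obj U ⟶ X.obj) (u : ↥U.left),
        AlgSp.RepWith @Etale a → AlgSp.Points.ofPt a u = x → Brnch.numGeomBranchesAt U.left u = n) ↔
      ∀ p : AlgSp.FieldPt X.obj, p.IsGeometric → AlgSp.Points.mk p = x →
        (minimalPrimes ↥(AlgSp.OEtStalk p)).encard = n) := by
  have hX : AlgSp.IsAlgSpace X.obj := X.property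
  refine ⟨⟨fun h U a u ha hu => ?_, fun h => ⟨fun U a u ha hu => ?_, ?_⟩⟩,
    ⟨fun h p hp hpx => ?_, fun h U a u ha hu => ?_⟩⟩
  · -- (1) ⇒ (4)
    obtain ⟨h1, U₀, a₀, u₀, ha₀, hu₀, hn₀⟩ := h
    apply le_antisymm
    · refine Groth.Agent.Lib.Helper7.AlgSpBr.numGeomBranchesAt_le_of_charts x n
        (fun V b v hb hv => ?_) U a u ha hu
      have := h1 V b v hb hv
      rwa [Set.encard] at this
    · rw [Groth.Agent.Lib.Helper7.AlgSpBr.numGeomBranchesAt_chart_eq a a₀ ha ha₀ u u₀
        (hu.trans hu₀.symm)]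
      have h2 := Groth.Agent.Lib.Helper7.AlgSpBr.card_minimalPrimes_le_numGeomBranchesAt U₀.left u₀
      rw [Set.encard] at hn₀
      rw [hn₀] at h2
      exact h2
  · -- (4) ⇒ (1), first part
    have h2 := Groth.Agent.Lib.Helper7.AlgSpBr.card_minimalPrimes_le_numGeomBranchesAt U.left u
    rw [h U a u ha hu] at h2
    rw [Set.encard]
    exact h2
  · -- (4) ⇒ (1), second part
    obtain ⟨U, a, u, -, ha, hu⟩ := Groth.Agent.Lib.Helper51.exists_affine_etale_chart_at hX x
    have h1 := h U a u ha hu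
    obtain ⟨U', g, u', ⟨hg1, hg2⟩, hcard⟩ := Groth.Agent.S9753.exists_nbhd U.left u n (by rw [h1])
    rw [Groth.Agent.Lib.Helper7.BrCount.encard_eq_card_minimalPrimes] at hcard
    have ha' := Groth.Agent.Lib.Helper7.AlgSpBr.repWith_etOver a ha g hg1
    have hu' : AlgSp.Points.ofPt ((AlgSp.yon S).map (Groth.Agent.Lib.Helper7.AlgSpBr.etOverHom U g) ≫ a)
        (u' : ↥(Groth.Agent.Lib.Helper7.AlgSpBr.etOver U g).left) = x := by
      rw [Groth.Agent.Lib.Helper7.AlgSpBr.ofPt_etOver, hg2, hu]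
    refine ⟨Groth.Agent.Lib.Helper7.AlgSpBr.etOver U g, _, u', ha', hu', ?_⟩
    have h2 := Groth.Agent.Lib.Helper7.AlgSpBr.card_minimalPrimes_le_numGeomBranchesAt
      (Groth.Agent.Lib.Helper7.AlgSpBr.etOver U g).left u'
    rw [h _ _ u' ha' hu'] at h2
    change ENat.card (minimalPrimes ↥((Groth.Agent.Lib.Helper7.AlgSpBr.etOver U g).left.presheaf.stalk u')) =
      (n : ℕ∞)
    exact le_antisymm h2 hcard
  · -- (4) ⇒ (5)
    obtain ⟨U, a, u, -, ha, hu⟩ := Groth.Agent.Lib.Helper51.exists_affine_etale_chart_at hX x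
    have h1 := Groth.Agent.Lib.Helper7.AlgSpBr.numGeomBranchesAt_eq_card_minimalPrimes_OEtStalk
      p hX hp a ha u (hu.trans hpx.symm)
    rw [← ENat.card_coe_set_eq, ← h1]
    exact h U a u ha hu
  · -- (5) ⇒ (4)
    obtain ⟨p, hp, E, l, hpx⟩ := Groth.Agent.Lib.Helper51.exists_geometric_point_over hX x
    have h1 := Groth.Agent.Lib.Helper7.AlgSpBr.numGeomBranchesAt_eq_card_minimalPrimes_OEtStalk
      p hX hp a ha u (hu.trans hpx.symm)
    rw [h1]
    have := h p hp hpx
    rwa [Set.encard] at this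

end Groth.Agent.S10239
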