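import Groth.Statements.S10247
-- import your own Groth.Agent.* helpers here

set_option autoImplicit false
universe u
open CategoryTheory CategoryTheory.Limits AlgebraicGeometry Topology TopologicalSpace
open AlgSp

namespace Groth.Agent.S10247

set_option backward.isDefEq.respectTransparency false

variable {S : Scheme.{u}} {X : AlgSp.Sp S}

/-- The open subscheme `W` of the scheme underlying `E`, as a scheme over `S`. -/
noncomputable abbrev openOver (E : AlgSp.EtOver X) (W : E.obj.left.left.Opens) : Over S :=
  Over.mk (W.ι ≫ E.obj.left.hom)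

noncomputable abbrev openOverι (E : AlgSp.EtOver X) (W : E.obj.left.left.Opens) :
    openOver E W ⟶ E.obj.left :=
  Over.homMk W.ι rfl

/-- An open subscheme of an object of the small etale site, as an object of the site. -/
noncomputable def ofOpen (E : AlgSp.EtOver X) (W : E.obj.left.left.Opens) : AlgSp.EtOver X :=
  AlgSp.EtOver.mk ((AlgSp.yon S).map (openOverι E W) ≫ E.obj.hom)
    ((AlgSp.repWith_isMultiplicative (S := S) @Etale).comp_mem _ _
      ((AlgSp.repWith_yon_map_iff _ _).2 (show Etale W.ι by infer_instance)) E.property)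

noncomputable def ofOpenι (E : AlgSp.EtOver X) (W : E.obj.left.left.Opens) : ofOpen E W ⟶ E :=
  AlgSp.EtOver.homMk (openOverι E W) rfl

theorem isUnit_of_basicOpen_eq_top {Y : Scheme.{u}} (s : Γ(Y, ⊤)) (h : Y.basicOpen s = ⊤) :
    IsUnit s := by
  apply RingedSpace.isUnit_of_isUnit_germ
  intro x hx
  exact (Y.mem_basicOpen_top s x).1 (by rw [h]; trivial)

theorem isUnit_appTop_of_factors {U V : Scheme.{u}} (f0 : Γ(U, ⊤)) (g : V ⟶ U)
    (h : V ⟶ (U.basicOpen f0).toScheme) (hg : g = h ≫ (U.basicOpen f0).ι) :
    IsUnit (g.appTop.hom f0) := by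
  apply isUnit_of_basicOpen_eq_top
  rw [← Scheme.preimage_basicOpen_top, hg, Scheme.Hom.comp_preimage, Scheme.Opens.ι_preimage_self]
  rfl

theorem isUnit_up {R : Type u} [CommRing R] {a : R} (h : IsUnit a) :
    IsUnit (ULift.up.{u + 1} a) :=
  h.map (ULift.ringEquiv.{u, u + 1} (R := R)).symm.toRingHom

theorem result {S : Scheme.{u}} (X : AlgSp.Space S) :
    ModSite.IsLocallyRinged (AlgSp.etTop X.obj) (AlgSp.OEt X.obj) := by
  refine ⟨fun E f => ?_, fun E h => ?_⟩
  · let f0 : Γ(E.obj.left.left, ⊤) := ULift.down f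
    let W : Bool → E.obj.left.left.Opens := fun b =>
      cond b (E.obj.left.left.basicOpen f0) (E.obj.left.left.basicOpen (1 - f0))
    refine ⟨Sieve.ofArrows (fun b => ofOpen E (W b)) (fun b => ofOpenι E (W b)),
      AlgSp.ofArrows_mem_etTop _ _ ?_, ?_⟩
    · intro x
      have hx : IsUnit (E.obj.left.left.presheaf.germ ⊤ x trivial f0) ∨
          IsUnit (1 - E.obj.left.left.presheaf.germ ⊤ x trivial f0) :=
        IsLocalRing.isUnit_or_isUnit_one_sub_self _
      rcases hx with hx | hx
      · refine ⟨true, ?_⟩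
        change x ∈ Set.range (W true).ι
        rw [Scheme.Opens.range_ι]
        exact (Scheme.mem_basicOpen_top _ f0 x).2 hx
      · refine ⟨false, ?_⟩
        change x ∈ Set.range (W false).ι
        rw [Scheme.Opens.range_ι]
        refine (Scheme.mem_basicOpen_top _ (1 - f0) x).2 ?_
        rwa [map_sub, map_one]
    · rintro V g ⟨Z, h, _, ⟨b⟩, rfl⟩
      cases b
      · right
        exact isUnit_up (isUnit_appTop_of_factors (1 - f0) _ h.hom.left.left rfl)
      · left
        exact isUnit_up (isUnit_appTop_of_factors f0 _ h.hom.left.left rfl)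
  · have hE : IsEmpty ↥E.obj.left.left := by
      have h01 : (0 : Γ(E.obj.left.left, ⊤)) = 1 := congrArg ULift.down h
      refine ⟨fun x => ?_⟩
      have h2 := congrArg (E.obj.left.left.presheaf.germ ⊤ x trivial).hom h01
      rw [map_zero, map_one] at h2
      exact zero_ne_one h2
    have hmem := AlgSp.ofArrows_mem_etTop (E := E) (fun i : PEmpty.{1} => i.elim)
      (fun i => i.elim) (fun x => (hE.false x).elim)
    convert hmem
    rw [Sieve.ofArrows, Presieve.ofArrows_of_isEmpty, Sieve.generate_bot]

end Groth.Agent.S10247
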