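import Groth.Statements.S10263
import Groth.Agent.Lib.Helper30.AlgSpLoc
-- import your own Groth.Agent.* helpers here

set_option autoImplicit false
universe u
open CategoryTheory CategoryTheory.Limits AlgebraicGeometry
open AlgSp

namespace Groth.Agent.S10263

open Groth.Agent.Lib.Helper30 Groth.Agent.Lib.Helper51 Groth.Agent.Lib.Helper52


/-- If the composite X -> Y -> Z is unramified then X -> Y is unramified. -/
theorem result {S : Scheme.{u}} {X Y Z : AlgSp.Space S} (f : X ⟶ Y) (g : Y ⟶ Z)
    (h : AlgSp.LocP (@LocallyOfFiniteType ⊓ @FormallyUnramified) (f ≫ g).hom) :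
    AlgSp.LocP (@LocallyOfFiniteType ⊓ @FormallyUnramified) f.hom := by
  refine locP_of_comp_cancel _ ?_ Z.property f.hom g.hom h
  intro A B C k k2 hk
  have h1 : LocallyOfFiniteType (k ≫ k2) := hk.1
  have h2 : FormallyUnramified (k ≫ k2) := hk.2
  exact ⟨locallyOfFiniteType_of_comp k k2, FormallyUnramified.of_comp k k2⟩

end Groth.Agent.S10263
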