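import Groth.Statements.S10264
import Groth.Agent.Lib.Helper30.AlgSpLoc
-- import your own Groth.Agent.* helpers here

set_option autoImplicit false
universe u
open CategoryTheory CategoryTheory.Limits AlgebraicGeometry
open AlgSp

namespace Groth.Agent.S10264

open Groth.Agent.Lib.Helper30 Groth.Agent.Lib.Helper51 Groth.Agent.Lib.Helper52


/-- An immersion of algebraic spaces is unramified. -/
theorem result {S : Scheme.{u}} {X Y : AlgSp.Space S} (i : X ⟶ Y)
    (hi : AlgSp.RepWith @IsImmersion i.hom) :
    AlgSp.LocP (@LocallyOfFiniteType ⊓ @FormallyUnramified) i.hom := by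
  refine locP_of_repWith @IsImmersion _ ?_ hi
  intro A B C k i hk hi
  have : Etale k := hk
  have : IsImmersion i := hi
  have : Mono i := inferInstance
  have : IsIso (pullback.diagonal i) := inferInstance
  have h1 : FormallyUnramified i := inferInstance
  have h2 : FormallyUnramified k := inferInstance
  have h3 : FormallyUnramified (k ≫ i) := MorphismProperty.comp_mem _ _ _ h2 h1
  exact ⟨inferInstance, h3⟩

end Groth.Agent.S10264
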