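import Groth.Statements.S10265
import Groth.Agent.Lib.Helper30.AlgSpLoc
-- import your own Groth.Agent.* helpers here

set_option autoImplicit false
universe u
open CategoryTheory CategoryTheory.Limits AlgebraicGeometry
open AlgSp

namespace Groth.Agent.S10265

open Groth.Agent.Lib.Helper30 Groth.Agent.Lib.Helper51 Groth.Agent.Lib.Helper52


/-- Whenever a morphism of algebraic spaces is etale, it is, etale locally on both source and target,
smooth, flat, unramified, locally quasi-finite, locally of finite type and locally of finite
presentation. -/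
theorem result {S : Scheme.{u}} {X Y : AlgSp.Space S} (f : X ⟶ Y) (hf : AlgSp.IsEtaleMor f.hom) :
    AlgSp.LocP (@LocallyQuasiFinite ⊓ @LocallyOfFiniteType) f.hom ∧ AlgSp.LocP @Smooth f.hom ∧
    AlgSp.LocP @Flat f.hom ∧ AlgSp.LocP @LocallyOfFinitePresentation f.hom ∧
    AlgSp.LocP @LocallyOfFiniteType f.hom ∧ AlgSp.LocP (@LocallyOfFiniteType ⊓ @FormallyUnramified) f.hom := by
  refine ⟨?_, ?_, ?_, ?_, ?_, ?_⟩
  · refine locP_of_isEtaleMor _ ?_ hf
    intro A B k hk
    have : Etale k := hk
    exact ⟨inferInstance, inferInstance⟩
  · refine locP_of_isEtaleMor _ ?_ hf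
    intro A B k hk
    have : Etale k := hk
    show Smooth k
    infer_instance
  · refine locP_of_isEtaleMor _ ?_ hf
    intro A B k hk
    have : Etale k := hk
    show Flat k
    infer_instance
  · refine locP_of_isEtaleMor _ ?_ hf
    intro A B k hk
    have : Etale k := hk
    show LocallyOfFinitePresentation k
    infer_instance
  · refine locP_of_isEtaleMor _ ?_ hf
    intro A B k hk
    have : Etale k := hk
    show LocallyOfFiniteType k
    infer_instance
  · refine locP_of_isEtaleMor _ ?_ hf
    intro A B k hk
    have : Etale k := hk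
    exact ⟨inferInstance, inferInstance⟩

end Groth.Agent.S10265
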