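import Groth.Statements.S10269
import Groth.Agent.Lib.Helper78.AlgSpLocPLoft
import Groth.Agent.Lib.Helper78.AlgSpLocP3
import Groth.Agent.Lib.Helper78.AlgSpLocP4
import Groth.Agent.Lib.Helper78.AlgSpFibre
-- import your own Groth.Agent.* helpers here

set_option autoImplicit false
universe u
open CategoryTheory CategoryTheory.Limits AlgebraicGeometry
open AlgSp

namespace Groth.Agent.S10269


/-- A finite morphism of algebraic spaces is integral; an integral morphism locally of finite type is
finite. -/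
theorem result {S : Scheme.{u}} {X Y : AlgSp.Space S} (f : X ⟶ Y) :
    (AlgSp.IsFiniteMor f.hom → AlgSp.IsIntegralMor f.hom) ∧
    (AlgSp.IsIntegralMor f.hom → AlgSp.LocP @LocallyOfFiniteType f.hom → AlgSp.IsFiniteMor f.hom) := by
  refine ⟨fun hf Z hZ g => ?_, fun hf hl Z hZ g => ?_⟩
  · obtain ⟨W, i, fst, sq, hW, hi⟩ := hf hZ g
    exact ⟨W, i, fst, sq, hW, inferInstance⟩
  · obtain ⟨W, i, fst, sq, hW, hi⟩ := hf hZ g
    have h1 : LocP @LocallyOfFiniteType ((yon S).map i) :=
      Groth.Agent.Lib.Helper78.AlgSpLocP.locP_of_isPullback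
        Groth.Agent.Lib.Helper78.AlgSpLocPLoft.etLocalST_loft sq
        (Groth.Agent.Lib.Helper78.AlgSpFibre.repAll_of_isAlgSpace Y.property)
        X.property.atlas Y.property.atlas hl
    have h2 : LocallyOfFiniteType i.left := AlgSp.locP_yon_map h1
    exact ⟨W, i, fst, sq, hW, (IsFinite.iff_isIntegralHom_and_locallyOfFiniteType _).mpr ⟨hi, h2⟩⟩

end Groth.Agent.S10269
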