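import Groth.Statements.S10270
import Groth.Agent.Lib.Helper30.AlgSpMor
-- import your own Groth.Agent.* helpers here

set_option autoImplicit false
universe u
open CategoryTheory CategoryTheory.Limits AlgebraicGeometry
open AlgSp

namespace Groth.Agent.S10270

open Groth.Agent.Lib.Helper30 Groth.Agent.Lib.Helper52

set_option backward.isDefEq.respectTransparency false

theorem isClosedMap_map_iso {S : Scheme.{u}} {A B : AlgSp.Sp S} (e : A ≅ B) :
    IsClosedMap (Points.map e.hom) := by
  intro C hC
  have : Points.map e.hom '' C = Points.map e.inv ⁻¹' C := by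
    ext x
    constructor
    · rintro ⟨c, hc, rfl⟩
      show Points.map e.inv (Points.map e.hom c) ∈ C
      rw [← Points.map_comp, e.hom_inv_id, Points.map_id]
      exact hc
    · intro hx
      exact ⟨Points.map e.inv x, hx, by rw [← Points.map_comp, e.inv_hom_id, Points.map_id]⟩
  rw [this]
  exact hC.preimage (Points.continuous_map _)

/-- An integral morphism (affine-tested) is closed on points. -/
theorem isClosedMap_of_isIntegralMor {S : Scheme.{u}} {F G : AlgSp.Sp S} {f : F ⟶ G}
    (hf : AlgSp.IsIntegralMor f) : IsClosedMap (Points.map f) := by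
  refine isClosedMap_map_of_affine f fun T hT h => ?_
  obtain ⟨W, i, fst', sq', hW, hi⟩ := hf hT h
  have big := IsPullback.of_hasPullback f h
  let e := big.isoIsPullback _ _ sq'
  have he : e.hom ≫ (AlgSp.yon S).map i = pullback.snd f h := IsPullback.isoIsPullback_hom_snd _ _ big sq'
  have hcl : IsClosedMap (Points.map ((AlgSp.yon S).map i)) :=
    (isClosedMap_map_yon_map_iff i).2 i.left.isClosedMap
  have : Points.map (pullback.snd f h) = Points.map ((AlgSp.yon S).map i) ∘ Points.map e.hom := by
    funext x
    rw [← he, Points.map_comp]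
    rfl
  rw [this]
  exact hcl.comp (isClosedMap_map_iso e)

/-- Integral morphisms (affine-tested) are stable under base change. -/
theorem isIntegralMor_of_isPullback {S : Scheme.{u}} {F G F' G' : AlgSp.Sp S} {f : F ⟶ G} {g : G' ⟶ G}
    {fst : F' ⟶ F} {snd : F' ⟶ G'} (sq : IsPullback fst snd f g) (hf : AlgSp.IsIntegralMor f) :
    AlgSp.IsIntegralMor snd := by
  intro Z hZ h
  obtain ⟨W, i, fst', sq', hW, hi⟩ := hf hZ (h ≫ g)
  refine ⟨W, i, sq.lift fst' ((AlgSp.yon S).map i ≫ h) (by rw [sq'.w, Category.assoc]), ?_, hW, hi⟩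
  refine IsPullback.of_right ?_ (sq.lift_snd _ _ _) sq
  rw [sq.lift_fst]
  exact sq'

/-- A morphism of algebraic spaces is integral if and only if it is affine and universally closed. -/
theorem result {S : Scheme.{u}} {X Y : AlgSp.Space S} (f : X ⟶ Y) :
    AlgSp.IsIntegralMor f.hom ↔ (AlgSp.IsAffineMor f.hom ∧ AlgSp.IsUnivClosedMor f.hom) := by
  constructor
  · intro hf
    refine ⟨fun Z hZ g => ?_, fun Z Z' hZ g fst snd sq => ?_⟩
    · obtain ⟨W, i, fst, sq, hW, hi⟩ := hf hZ g
      exact ⟨W, i, fst, sq, hW⟩
    · exact isClosedMap_of_isIntegralMor (isIntegralMor_of_isPullback sq hf)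
  · rintro ⟨hA, hU⟩ Z hZ g
    obtain ⟨W, i, fst, sq, hW⟩ := hA hZ g
    have h1 : UniversallyClosed i.left := universallyClosed_of_isUnivClosedMor hU g fst i sq
    have h2 : IsAffineHom i.left := by
      have : IsAffine Z.left := hZ
      have : IsAffine W.left := hW
      infer_instance
    exact ⟨W, i, fst, sq, hW, IsIntegralHom.iff_universallyClosed_and_isAffineHom.mpr ⟨h1, h2⟩⟩

end Groth.Agent.S10270
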