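import Groth.Statements.S10275
import Groth.Agent.Lib.Helper30.AlgSpProper
import Groth.Agent.Lib.Helper78.AlgSpLocPLoft
import Groth.Agent.Lib.Helper78.AlgSpLocP3
import Groth.Agent.Lib.Helper78.AlgSpLocP4
import Groth.Agent.S9904
import Groth.Agent.S9924
-- import your own Groth.Agent.* helpers here

set_option autoImplicit false
universe u
open CategoryTheory CategoryTheory.Limits AlgebraicGeometry
open AlgSp

namespace Groth.Agent.S10275

open Groth.Agent.Lib.Helper30 Groth.Agent.Lib.Helper51 Groth.Agent.Lib.Helper52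

set_option backward.isDefEq.respectTransparency false


/-- A base change of a proper morphism of algebraic spaces is proper. -/
theorem result {S : Scheme.{u}} {X Y Y' X' : AlgSp.Space S} (f : X ⟶ Y) (g : Y' ⟶ Y)
    (fst : X' ⟶ X) (f' : X' ⟶ Y') (sq : IsPullback fst.hom f'.hom f.hom g.hom) (hf : AlgSp.IsProperMor f.hom) :
    AlgSp.IsProperMor f'.hom := by
  obtain ⟨hs, ⟨hl, hq⟩, hu⟩ := hf
  refine ⟨diagonal_of_isPullback (AlgSp.RepWith @IsClosedImmersion) sq hs, ⟨?_, ?_⟩, ?_⟩
  · exact Groth.Agent.Lib.Helper78.AlgSpLocP.locP_of_isPullback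
      Groth.Agent.Lib.Helper78.AlgSpLocPLoft.etLocalST_loft sq
      (Groth.Agent.Lib.Helper78.AlgSpFibre.repAll_of_isAlgSpace Y.property)
      X.property.atlas Y.property.atlas hl
  · exact isQuasiCompactMor_snd_of_isPullback sq hq
  · exact isUnivClosedMor_snd_of_isPullback sq hu

end Groth.Agent.S10275
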