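import Groth.Statements.S10505
import Groth.Agent.Lib.Helper30.AlgSpFpqc2
import Groth.Agent.Lib.Helper78.AlgSpLocPFlat
import Groth.Agent.Lib.Helper78.AlgSpLocPLofp
import Groth.Agent.Lib.Helper78.AlgSpLocP3
-- import your own Groth.Agent.* helpers here

set_option autoImplicit false
universe u
open CategoryTheory CategoryTheory.Limits AlgebraicGeometry
open AlgSp

namespace Groth.Agent.S10505

open Groth.Agent.Lib.Helper30 Groth.Agent.Lib.Helper51 Groth.Agent.Lib.Helper52

set_option backward.isDefEq.respectTransparency false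
set_option maxHeartbeats 400000

/-- A chart of the base change of a flat, locally finitely presented morphism of algebraic spaces
along a map from a scheme. -/
theorem exists_fppf_chart_of_base_change {S : Scheme.{u}} {X' X : AlgSp.Sp S}
    (hX' : AlgSp.IsAlgSpace X') (hX : AlgSp.IsAlgSpace X) (g : X' ⟶ X)
    (hfl : AlgSp.LocP @Flat g) (hfp : AlgSp.LocP @LocallyOfFinitePresentation g)
    (Z : Over S) (t : (AlgSp.yon S).obj Z ⟶ X) :
    ∃ (U : Over S) (u : U ⟶ Z) (l : (AlgSp.yon S).obj U ⟶ X'),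
      l ≫ g = (AlgSp.yon S).map u ≫ t ∧ Flat u.left ∧ LocallyOfFinitePresentation u.left ∧
      ∀ z : ↥Z.left, Points.ofPt t z ∈ Set.range (Points.map g) → z ∈ Set.range u.left := by
  have sq := IsPullback.of_hasPullback g t
  have hP : AlgSp.IsAlgSpace (pullback g t) :=
    isAlgSpace_of_isPullback hX.diag hX' (AlgSp.IsAlgSpace.yon_obj Z) sq
  have hfl' : AlgSp.LocP @Flat (pullback.snd g t) :=
    Groth.Agent.Lib.Helper78.AlgSpLocP.locP_of_isPullback
      Groth.Agent.Lib.Helper78.AlgSpLocPFlat.etLocalST_flat sq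
      (Groth.Agent.Lib.Helper78.AlgSpFibre.repAll_of_isAlgSpace hX) hX'.atlas hX.atlas hfl
  have hfp' : AlgSp.LocP @LocallyOfFinitePresentation (pullback.snd g t) :=
    Groth.Agent.Lib.Helper78.AlgSpLocP.locP_of_isPullback
      Groth.Agent.Lib.Helper78.AlgSpLocPLofp.etLocalST_lofp sq
      (Groth.Agent.Lib.Helper78.AlgSpFibre.repAll_of_isAlgSpace hX) hX'.atlas hX.atlas hfp
  obtain ⟨U, c, hce, hcs⟩ := hP.atlas
  obtain ⟨u, hu⟩ := (AlgSp.yon S).map_surjective (c ≫ pullback.snd g t)
  refine ⟨U, u, c ≫ pullback.fst g t, ?_, ?_, ?_, ?_⟩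
  · rw [Category.assoc, sq.w, ← Category.assoc, hu]
  · exact hfl' c (𝟙 _) u hce (AlgSp.repWith_id @Etale Z) (by rw [hu, Category.comp_id])
  · exact hfp' c (𝟙 _) u hce (AlgSp.repWith_id @Etale Z) (by rw [hu, Category.comp_id])
  · rintro z ⟨x, hx⟩
    obtain ⟨w, _, hw2⟩ := exists_point_of_isPullback sq x (Points.ofScheme Z z) (by
      rw [hx, ← Points.ofPt_eq_map_ofScheme])
    obtain ⟨u₀, rfl⟩ := surjective_ofPt_of_repWith_surjective c hcs w
    refine ⟨u₀, ?_⟩
    apply ofScheme_injective Z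
    rw [Points.map_ofPt, ← hu] at hw2
    rw [← hw2]
    have := ofPt_yon_map_comp u (𝟙 _) u₀
    rw [Category.comp_id] at this
    exact this.symm


/-- An fppf covering of an algebraic space `X` over `S` by algebraic spaces (each member flat and
locally of finite presentation etale locally on source and target, the family jointly surjective on
points) is an fpqc covering of `X` (each member flat, and every morphism from an affine scheme to
`X` admits a standard fpqc covering of the affine scheme whose members lift through members of the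
family). -/
theorem result {S : Scheme.{u}} (X : AlgSp.Space S) {ι : Type u}
    (Xi : ι → AlgSp.Space S) (g : ∀ i, Xi i ⟶ X)
    (h : AlgSp.IsFppfCover (fun i => (Xi i).obj) (fun i => (g i).hom)) :
    AlgSp.IsFpqcCover (fun i => (Xi i).obj) (fun i => (g i).hom) := by
  classical
  refine ⟨fun i => (h.1 i).1, ?_⟩
  intro Z hZ t
  have hZ' : IsAffine Z.left := hZ
  choose U u l hl hufl hufp hsurj using fun i =>
    exists_fppf_chart_of_base_change (Xi i).property X.property (g i).hom (h.1 i).1 (h.1 i).2 Z t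
  -- affine opens around every point of every `U i`
  have haff : ∀ k : (Σ i, ↥(U i).left), ∃ A : (U k.1).left.Opens, IsAffineOpen A ∧ k.2 ∈ A := by
    rintro ⟨i, x⟩
    obtain ⟨A, hA, hxA, _⟩ := exists_isAffineOpen_mem_and_subset
      (TopologicalSpace.Opens.mem_top x)
    exact ⟨A, hA, hxA⟩
  choose A hA hxA using haff
  have huo : ∀ i, IsOpenMap (u i).left := fun i => by
    have : UniversallyOpen (u i).left := inferInstance
    exact (u i).left.isOpenMap
  have hcover : (Set.univ : Set ↥Z.left) ⊆ ⋃ k : (Σ i, ↥(U i).left), (u k.1).left '' (A k : Set _) := by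
    intro z _
    obtain ⟨i, hi⟩ := h.2 (Points.ofPt t z)
    obtain ⟨x, hx⟩ := hsurj i z hi
    exact Set.mem_iUnion.2 ⟨⟨i, x⟩, x, hxA ⟨i, x⟩, hx⟩
  obtain ⟨s, hs⟩ := isCompact_univ.elim_finite_subcover
    (fun k : (Σ i, ↥(U i).left) => (u k.1).left '' (A k : Set _))
    (fun k => huo k.1 _ (A k).2) hcover
  let e : Fin s.card ≃ s := s.equivFin.symm
  let W : Fin s.card → Over S := fun j =>
    Over.mk ((A (e j).1).ι ≫ (U (e j).1.1).hom)
  let ι' : ∀ j : Fin s.card, W j ⟶ U (e j).1.1 := fun j => Over.homMk (A (e j).1).ι rfl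
  refine ⟨s.card, W, fun j => ι' j ≫ u (e j).1.1, fun j => hA (e j).1, fun j => ?_, fun z => ?_,
    fun j => ?_⟩
  · show Flat ((A (e j).1).ι ≫ (u (e j).1.1).left)
    infer_instance
  · obtain ⟨k, hk, hzk⟩ := Set.mem_iUnion₂.1 (hs (Set.mem_univ z))
    have key : ∀ k' : s, z ∈ (u k'.1.1).left '' (A k'.1 : Set _) →
        z ∈ Set.range ((A k'.1).ι ≫ (u k'.1.1).left) := by
      rintro k' ⟨x, hxA', hx⟩
      exact ⟨⟨x, hxA'⟩, by rw [Scheme.Hom.comp_apply]; exact hx⟩
    obtain ⟨j, hj⟩ := e.surjective ⟨k, hk⟩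
    exact ⟨j, key (e j) (by rw [hj]; exact hzk)⟩
  · refine ⟨(e j).1.1, (AlgSp.yon S).map (ι' j) ≫ l (e j).1.1, ?_⟩
    rw [Category.assoc, hl, Functor.map_comp, Category.assoc]

end Groth.Agent.S10505
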