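import Groth.Statements.S9903
import Groth.Agent.Lib.Helper30.AlgSpSep
-- import your own Groth.Agent.* helpers here

set_option autoImplicit false
universe u
open CategoryTheory CategoryTheory.Limits AlgebraicGeometry
open AlgSp

namespace Groth.Agent.S9903

open Groth.Agent.Lib.Helper30 Groth.Agent.Lib.Helper51 Groth.Agent.Lib.Helper52

theorem aux (Q : MorphismProperty Scheme.{u}) [IsZariskiLocalAtTarget Q]
    {S : Scheme.{u}} {X Y : AlgSp.Space S} (f : X ⟶ Y) :
    (AlgSp.RepWith Q (pullback.diagonal f.hom) ↔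
      ∀ (Z : Over S), IsAffine Z.left → ∀ (g : (AlgSp.yon S).obj Z ⟶ Y.obj) (P : AlgSp.Sp S)
        (fst : P ⟶ X.obj) (snd : P ⟶ (AlgSp.yon S).obj Z), IsPullback fst snd f.hom g →
        AlgSp.RepWith Q (pullback.diagonal snd)) := by
  constructor
  · intro h Z _ g P fst snd sq
    exact diagonal_of_isPullback (AlgSp.RepWith Q) sq h
  · intro H
    exact repWith_diagonal_of_affine_base_change Q f.hom
      (representable_diagonal X.property.diag f.hom)
      (fun T hT g => ⟨pullback f.hom g, pullback.fst _ _, pullback.snd _ _,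
        IsPullback.of_hasPullback _ _, H T hT g _ _ _ (IsPullback.of_hasPullback _ _)⟩)


/-- (1) ⇔ (3): a morphism of algebraic spaces is separated (resp. quasi-separated) if and only if its
base change to every affine scheme over the target is. -/
theorem result {S : Scheme.{u}} {X Y : AlgSp.Space S} (f : X ⟶ Y) :
    (AlgSp.IsSeparatedMor f.hom ↔
      ∀ (Z : Over S), IsAffine Z.left → ∀ (g : (AlgSp.yon S).obj Z ⟶ Y.obj) (P : AlgSp.Sp S)
        (fst : P ⟶ X.obj) (snd : P ⟶ (AlgSp.yon S).obj Z), IsPullback fst snd f.hom g →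
        AlgSp.IsSeparatedMor snd) ∧
    (AlgSp.IsQuasiSeparatedMor f.hom ↔
      ∀ (Z : Over S), IsAffine Z.left → ∀ (g : (AlgSp.yon S).obj Z ⟶ Y.obj) (P : AlgSp.Sp S)
        (fst : P ⟶ X.obj) (snd : P ⟶ (AlgSp.yon S).obj Z), IsPullback fst snd f.hom g →
        AlgSp.IsQuasiSeparatedMor snd) := by
  exact ⟨aux @IsClosedImmersion f, aux @QuasiCompact f⟩

end Groth.Agent.S9903
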