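import Groth.Statements.S10273
import Groth.Agent.Lib.Helper30.AlgSpFpqc3
import Groth.Agent.Lib.Helper30.AlgSpLoc
import Groth.Agent.Lib.Helper78.AlgSpLocPFpqc
import Groth.Agent.Lib.Helper78.AlgSpLocPLoft
import Groth.Agent.S10505
import Groth.Agent.S10275
import Groth.Agent.S9903
-- import your own Groth.Agent.* helpers here

set_option autoImplicit false
universe u
open CategoryTheory CategoryTheory.Limits AlgebraicGeometry
open AlgSp

namespace Groth.Agent.S10273

open Groth.Agent.Lib.Helper30 Groth.Agent.Lib.Helper51 Groth.Agent.Lib.Helper52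

set_option backward.isDefEq.respectTransparency false
set_option maxHeartbeats 400000

/-- `LocP` locally of finite type can be tested after base change to affine schemes. -/
theorem locP_loft_of_affine_base_change {S : Scheme.{u}} {X Y : AlgSp.Sp S}
    (hX : AlgSp.IsAlgSpace X) (hY : AlgSp.IsAlgSpace Y) (f : X ⟶ Y)
    (H : ∀ (Z : Over S), IsAffine Z.left → ∀ (g : (AlgSp.yon S).obj Z ⟶ Y),
      AlgSp.LocP @LocallyOfFiniteType (pullback.snd f g)) :
    AlgSp.LocP @LocallyOfFiniteType f := by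
  obtain ⟨V, b, hbe, hbs⟩ := hY.atlas
  let 𝒰 : V.left.OpenCover := V.left.affineCover
  let Vα : 𝒰.I₀ → Over S := fun α => Over.mk (𝒰.f α ≫ V.hom)
  let jα : ∀ α, Vα α ⟶ V := fun α => Over.homMk (𝒰.f α) rfl
  let gα : ∀ α, (AlgSp.yon S).obj (Vα α) ⟶ Y := fun α => (AlgSp.yon S).map (jα α) ≫ b
  have hgαe : ∀ α, AlgSp.RepWith @Etale (gα α) := fun α =>
    (AlgSp.RepWith @Etale).comp_mem _ _
      ((AlgSp.repWith_yon_map_iff @Etale (jα α)).2
        (show Etale (𝒰.f α) from inferInstance)) hbe
  let Y' : AlgSp.Space S := ⟨Y, hY⟩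
  let Yi : 𝒰.I₀ → AlgSp.Space S := fun α =>
    ⟨(AlgSp.yon S).obj (Vα α), AlgSp.IsAlgSpace.yon_obj (Vα α)⟩
  let gα' : ∀ α, Yi α ⟶ Y' := fun α => ObjectProperty.homMk (gα α)
  have hfppf : AlgSp.IsFppfCover (fun α => (Yi α).obj) (fun α => (gα' α).hom) := by
    refine ⟨fun α => ⟨?_, ?_⟩, fun x => ?_⟩
    · exact locP_of_repWith @Etale @Flat (fun k i hk hi => by
        have : Etale k := hk
        have : Etale i := hi
        infer_instance) (hgαe α)
    · exact locP_of_repWith @Etale @LocallyOfFinitePresentation (fun k i hk hi => by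
        have : Etale k := hk
        have : Etale i := hi
        infer_instance) (hgαe α)
    · obtain ⟨v, rfl⟩ := surjective_ofPt_of_repWith_surjective b hbs x
      obtain ⟨v', hv'⟩ := 𝒰.covers v
      refine ⟨𝒰.idx v, Points.ofScheme (Vα (𝒰.idx v)) v', ?_⟩
      show Points.map (gα (𝒰.idx v)) _ = _
      rw [← Points.ofPt_eq_map_ofScheme, ofPt_yon_map_comp]
      exact congrArg (Points.ofPt b) hv'
  have hfpqc := Groth.Agent.S10505.result Y' Yi gα' hfppf
  exact Groth.Agent.Lib.Helper78.AlgSpLocPFpqc.locP_of_fpqc_cover_base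
    Groth.Agent.Lib.Helper78.AlgSpLocPLoft.etLocalST_loft (fun α => (AlgSp.yon S).obj (Vα α)) gα
    hX hY (fun α => AlgSp.IsAlgSpace.yon_obj (Vα α)) hfpqc f
    (fun α => pullback f (gα α)) (fun α => pullback.snd f (gα α)) (fun α => pullback.fst f (gα α))
    (fun α => isAlgSpace_of_isPullback hY.diag hX (AlgSp.IsAlgSpace.yon_obj (Vα α))
      (IsPullback.of_hasPullback f (gα α)))
    (fun α => IsPullback.of_hasPullback f (gα α))
    (fun α => H (Vα α) (show IsAffine (𝒰.X α) from inferInstance) (gα α))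


/-- (1) ⇔ (3): properness of a morphism of algebraic spaces can be tested after base change to affine
schemes over the target. -/
theorem result {S : Scheme.{u}} {X Y : AlgSp.Space S} (f : X ⟶ Y) :
    AlgSp.IsProperMor f.hom ↔
      ∀ (Z : Over S), IsAffine Z.left → ∀ (g : (AlgSp.yon S).obj Z ⟶ Y.obj) (P : AlgSp.Sp S) (fst : P ⟶ X.obj)
        (snd : P ⟶ (AlgSp.yon S).obj Z), IsPullback fst snd f.hom g → AlgSp.IsProperMor snd := by
  constructor
  · intro hf Z hZ g P fst snd sq
    have hP : AlgSp.IsAlgSpace P :=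
      Groth.Agent.Lib.Helper30.isAlgSpace_of_isPullback Y.property.diag X.property
        (AlgSp.IsAlgSpace.yon_obj Z) sq
    let Z' : AlgSp.Space S := ⟨(AlgSp.yon S).obj Z, AlgSp.IsAlgSpace.yon_obj Z⟩
    let P' : AlgSp.Space S := ⟨P, hP⟩
    exact Groth.Agent.S10275.result f (ObjectProperty.homMk g : Z' ⟶ Y)
      (ObjectProperty.homMk fst : P' ⟶ X) (ObjectProperty.homMk snd : P' ⟶ Z') sq hf
  · intro H
    refine ⟨?_, ⟨?_, ?_⟩, ?_⟩
    · exact (Groth.Agent.S9903.result f).1.2 fun Z hZ g P fst snd sq => (H Z hZ g P fst snd sq).1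
    · refine locP_loft_of_affine_base_change X.property Y.property f.hom fun Z hZ g => ?_
      exact (H Z hZ g _ _ _ (IsPullback.of_hasPullback f.hom g)).2.1.1
    · intro Z Z' hZ hZqc g fst snd sq
      have hZ' : AlgSp.IsAlgSpace Z' :=
        Groth.Agent.Lib.Helper30.isAlgSpace_of_isPullback Y.property.diag X.property hZ sq
      obtain ⟨T, t, hT, hte, hts⟩ := (isQuasiCompactSp_iff_exists_affine_chart hZ).1 hZqc
      have sqT := IsPullback.of_hasPullback snd t
      have big := sqT.paste_horiz sq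
      have hq : AlgSp.IsQuasiCompactMor (pullback.snd snd t) := (H T hT (t ≫ g) _ _ _ big).2.1.2
      have hTqc : AlgSp.IsQuasiCompactSp (pullback snd t) :=
        hq (AlgSp.IsAlgSpace.yon_obj T) (isQuasiCompactSp_yon_obj T) (𝟙 _) (𝟙 _) _
          IsPullback.of_id_fst
      exact isQuasiCompactSp_of_surjective hZ' (pullback.fst snd t)
        (surjective_map_fst_of_isPullback sqT (surjective_map_of_repWith_surjective hts)) hTqc
    · intro Z Z' hZ g fst snd sq
      refine isClosedMap_map_of_affine snd fun T hT t => ?_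
      have sqT := IsPullback.of_hasPullback snd t
      have big := sqT.paste_horiz sq
      have hu : AlgSp.IsUnivClosedMor (pullback.snd snd t) := (H T hT (t ≫ g) _ _ _ big).2.2
      exact hu (AlgSp.IsAlgSpace.yon_obj T) (𝟙 _) (𝟙 _) _ IsPullback.of_id_fst

end Groth.Agent.S10273
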