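import Groth.Statements.S10274
import Groth.Agent.Lib.Helper30.AlgSpProper
import Groth.Agent.Lib.Helper78.AlgSpLocPLoft
import Groth.Agent.Lib.Helper78.AlgSpLocP3
import Groth.Agent.Lib.Helper78.AlgSpLocP4
import Groth.Agent.S9904
import Groth.Agent.S9924
-- import your own Groth.Agent.* helpers here

set_option autoImplicit false
universe u
open CategoryTheory CategoryTheory.Limits AlgebraicGeometry
open AlgSp

namespace Groth.Agent.S10274

open Groth.Agent.Lib.Helper30 Groth.Agent.Lib.Helper51 Groth.Agent.Lib.Helper52

set_option backward.isDefEq.respectTransparency false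


/-- (4) ⇒ (1): properness of a morphism of algebraic spaces descends along a surjective etale base
change from a scheme. -/
theorem result {S : Scheme.{u}} {X Y : AlgSp.Space S} (f : X ⟶ Y) (V : Over S)
    (p : (AlgSp.yon S).obj V ⟶ Y.obj) (hp : AlgSp.RepWith @Etale p) (hps : AlgSp.RepWith @Surjective p)
    {P : AlgSp.Sp S} (fst : P ⟶ X.obj) (snd : P ⟶ (AlgSp.yon S).obj V) (sq : IsPullback fst snd f.hom p)
    (h : AlgSp.IsProperMor snd) : AlgSp.IsProperMor f.hom := by
  obtain ⟨hs, ⟨hl, hq⟩, hu⟩ := h
  refine ⟨(Groth.Agent.S9904.result f V p hp hps fst snd sq).1 hs, ⟨?_, ?_⟩,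
    Groth.Agent.S9924.result f V p hp hps fst snd sq hu⟩
  · exact Groth.Agent.Lib.Helper78.AlgSpLocP.locP_of_target_cover
      Groth.Agent.Lib.Helper78.AlgSpLocPLoft.etLocalST_loft f.hom X.property.atlas p hp hps fst snd
      sq hl
  · have hpo : AlgSp.RepWith @UniversallyOpen p := by
      refine MorphismProperty.relative_monotone ?_ _ hp
      intro A B k hk
      have : Etale k.left := hk
      show UniversallyOpen k.left
      infer_instance
    exact isQuasiCompactMor_of_open_surjective_base_change X.property Y.property
      (AlgSp.IsAlgSpace.yon_obj V) sq (isUnivOpenMor_of_repWith hpo)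
      (surjective_map_of_repWith_surjective hps) hq

end Groth.Agent.S10274
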