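import Groth.Statements.S10278
import Groth.Agent.Lib.Helper30.AlgSpProper
-- import your own Groth.Agent.* helpers here

set_option autoImplicit false
universe u
open CategoryTheory CategoryTheory.Limits AlgebraicGeometry
open AlgSp

namespace Groth.Agent.S10278

open Groth.Agent.Lib.Helper30 Groth.Agent.Lib.Helper51 Groth.Agent.Lib.Helper52


/-- Over a separated Y -> B, a morphism X -> Y from a space universally closed (resp. proper) over B is
universally closed with closed image (resp. proper). -/
theorem result {S : Scheme.{u}} {X Y B : AlgSp.Space S} (f : X ⟶ Y) (p : X ⟶ B)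
    (q : Y ⟶ B) (comm : f ≫ q = p) (hq : AlgSp.IsSeparatedMor q.hom) :
    (AlgSp.IsUnivClosedMor p.hom →
      AlgSp.IsUnivClosedMor f.hom ∧ IsClosed (Set.range (AlgSp.Points.map f.hom))) ∧
    (AlgSp.IsProperMor p.hom → AlgSp.IsProperMor f.hom) := by
  have hcomm : f.hom ≫ q.hom = p.hom := congrArg (fun k => k.hom) comm
  have huc : AlgSp.IsUnivClosedMor p.hom → AlgSp.IsUnivClosedMor f.hom := by
    intro hp
    rw [← hcomm] at hp
    exact isUnivClosedMor_of_comp_of_isSeparatedMor X.property Y.property B.property f.hom q.hom hq hp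
  refine ⟨fun hp => ⟨huc hp, ?_⟩, ?_⟩
  · have hcl := isClosedMap_of_isUnivClosedMor Y.property (huc hp)
    rw [← Set.image_univ]
    exact hcl _ isClosed_univ
  · rintro ⟨hsep, ⟨hlft, hqc⟩, hucp⟩
    refine ⟨?_, ⟨?_, ?_⟩, huc hucp⟩
    · rw [← hcomm] at hsep
      exact diagonal_of_diagonal_comp (AlgSp.RepWith @IsClosedImmersion) f.hom q.hom hsep
    · rw [← hcomm] at hlft
      exact locP_of_comp_cancel @LocallyOfFiniteType
        (fun k k2 hk => by
          have : LocallyOfFiniteType (k ≫ k2) := hk
          exact locallyOfFiniteType_of_comp k k2)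
        B.property f.hom q.hom hlft
    · rw [← hcomm] at hqc
      exact isQuasiCompactMor_of_comp_of_isQuasiSeparatedMor X.property Y.property B.property
        f.hom q.hom hqc (isQuasiSeparatedMor_of_isSeparatedMor hq)

end Groth.Agent.S10278
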