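import Groth.Statements.S10279
import Groth.Agent.Lib.Helper52.Points

set_option autoImplicit false
universe u
open CategoryTheory CategoryTheory.Limits AlgebraicGeometry
open AlgSp

namespace Groth.Agent.S10279

/-- The target of a surjective morphism over B from a space universally closed over B is universally
closed over B (hence proper over B as soon as it is also separated and of finite type over B, by
definition). -/
theorem result {S : Scheme.{u}} {X Y B : AlgSp.Space S} (f : X ⟶ Y) (p : X ⟶ B)
    (q : Y ⟶ B) (comm : f ≫ q = p) (hp : AlgSp.IsUnivClosedMor p.hom) (hf : AlgSp.IsSurjectiveMor f.hom) :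
    AlgSp.IsUnivClosedMor q.hom := by
  intro Z Y' hZ g fst snd sqY
  -- form the pullback of f along fst
  let X' : AlgSp.Sp S := pullback f.hom fst
  let a : X' ⟶ X.obj := pullback.fst f.hom fst
  let b : X' ⟶ Y' := pullback.snd f.hom fst
  have sqX : IsPullback a b f.hom fst := IsPullback.of_hasPullback f.hom fst
  -- pasted square
  have sqP : IsPullback a (b ≫ snd) (f.hom ≫ q.hom) g := sqX.paste_vert sqY
  have hpq : p.hom = f.hom ≫ q.hom := by rw [← comm]; rfl
  have hclosed : IsClosedMap (AlgSp.Points.map (b ≫ snd)) := by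
    have := hp hZ g a (b ≫ snd) (by rw [hpq]; exact sqP)
    exact this
  have hbsurj : Function.Surjective (AlgSp.Points.map b) := by
    intro y'
    obtain ⟨x, hx⟩ := hf (AlgSp.Points.map fst y')
    obtain ⟨w, hw1, hw2⟩ := Groth.Agent.Lib.Helper52.exists_point_of_isPullback sqX x y' hx
    exact ⟨w, hw2⟩
  intro C hC
  have himg : AlgSp.Points.map snd '' C =
      AlgSp.Points.map (b ≫ snd) '' (AlgSp.Points.map b ⁻¹' C) := by
    ext z
    constructor
    · rintro ⟨y', hy', rfl⟩
      obtain ⟨w, rfl⟩ := hbsurj y'
      exact ⟨w, hy', AlgSp.Points.map_comp b snd w⟩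
    · rintro ⟨w, hw, rfl⟩
      exact ⟨AlgSp.Points.map b w, hw, (AlgSp.Points.map_comp b snd w).symm⟩
  rw [himg]
  exact hclosed _ (hC.preimage (AlgSp.Points.continuous_map b))

end Groth.Agent.S10279
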