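import Groth.Statements.S10282
import Mathlib

set_option autoImplicit false
universe u
open CategoryTheory CategoryTheory.Limits AlgebraicGeometry
open AlgSp

section S10282helpers
set_option linter.style.haveILetI false

namespace Groth.Agent.S10282

/-- lift a ring hom through an injective ring hom when the range condition holds -/
theorem ring_lift {B E L : Type u} [CommRing B] [CommRing E] [CommRing L]
    (α : B →+* L) (π : E →+* L) (hπ : Function.Injective π)
    (h : ∀ b : B, ∃ e : E, π e = α b) : ∃ β : B →+* E, π.comp β = α := by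
  choose e he using h
  refine ⟨{ toFun := e
            map_one' := hπ (by simp [he])
            map_mul' := fun x y => hπ (by simp [he])
            map_zero' := hπ (by simp [he])
            map_add' := fun x y => hπ (by simp [he]) }, RingHom.ext he⟩

/-- domination: `K ∩ A' = A` -/
theorem dom_mem {A K A' K' : Type u} [CommRing A] [IsDomain A] [ValuationRing A] [Field K]
    [Algebra A K] [IsFractionRing A K] [CommRing A'] [IsDomain A'] [Field K'] [Algebra A' K']
    [IsFractionRing A' K'] (φ : A →+* A') (ψ : K →+* K')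
    (comm : (algebraMap A' K').comp φ = ψ.comp (algebraMap A K)) [IsLocalHom φ]
    (a : K) (a' : A') (h : ψ a = algebraMap A' K' a') : ∃ a₀ : A, algebraMap A K a₀ = a := by
  obtain (⟨a₀, e⟩ | ⟨b, e⟩) := ValuationRing.isInteger_or_isInteger A a
  · exact ⟨a₀, e⟩
  · by_cases ha : a = 0
    · exact ⟨0, by rw [ha, map_zero]⟩
    · have h1 : algebraMap A' K' (a' * φ b) = 1 := by
        rw [map_mul, ← h]
        have := RingHom.congr_fun comm b
        simp only [RingHom.comp_apply] at this
        rw [this, e, ← map_mul, mul_inv_cancel₀ ha, map_one]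
      have h2 : a' * φ b = 1 := by
        apply IsFractionRing.injective A' K'
        rw [h1, map_one]
      have h3 : IsUnit (φ b) := IsUnit.of_mul_eq_one a' (by rw [mul_comm]; exact h2)
      have h4 : IsUnit b := isUnit_of_map_unit φ b h3
      obtain ⟨u, rfl⟩ := h4
      refine ⟨((u⁻¹ : Aˣ) : A), ?_⟩
      have h5 : algebraMap A K ((u⁻¹ : Aˣ) : A) * algebraMap A K (u : A) = 1 := by
        rw [← map_mul, Units.inv_mul, map_one]
      rw [e] at h5
      have : a⁻¹ ≠ 0 := inv_ne_zero ha
      field_simp at h5
      exact h5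


/-- scheme-level descent of a point along a dominating extension of valuation rings -/
theorem exists_section {A K A' K' : Type u} [CommRing A] [IsDomain A] [ValuationRing A] [Field K]
    [Algebra A K] [IsFractionRing A K] [CommRing A'] [IsDomain A'] [ValuationRing A'] [Field K']
    [Algebra A' K'] [IsFractionRing A' K'] (φ : A →+* A') (ψ : K →+* K')
    (comm : (algebraMap A' K').comp φ = ψ.comp (algebraMap A K)) [IsLocalHom φ]
    {P : Scheme.{u}} (p : P ⟶ Spec (CommRingCat.of A)) (κ : Spec (CommRingCat.of K) ⟶ P)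
    (lam : Spec (CommRingCat.of A') ⟶ P)
    (hκ : κ ≫ p = Spec.map (CommRingCat.ofHom (algebraMap A K)))
    (hcompat : Spec.map (CommRingCat.ofHom (algebraMap A' K')) ≫ lam =
      Spec.map (CommRingCat.ofHom ψ) ≫ κ) :
    ∃ σ : Spec (CommRingCat.of A) ⟶ P, σ ≫ p = 𝟙 _ ∧
      Spec.map (CommRingCat.ofHom (algebraMap A K)) ≫ σ = κ := by
  let x : P := lam (IsLocalRing.closedPoint A')
  let ξ : P := κ (IsLocalRing.closedPoint K)
  let α' : P.presheaf.stalk x ⟶ CommRingCat.of A' := Scheme.stalkClosedPointTo lam
  let κs : P.presheaf.stalk ξ ⟶ CommRingCat.of K := Scheme.stalkClosedPointTo κ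
  have hα' : Spec.map α' ≫ P.fromSpecStalk x = lam := Scheme.Spec_stalkClosedPointTo_fromSpecStalk lam
  have hκs : Spec.map κs ≫ P.fromSpecStalk ξ = κ := Scheme.Spec_stalkClosedPointTo_fromSpecStalk κ
  -- ξ specializes to x
  have hspec : ξ ⤳ x := by
    let g : Spec (CommRingCat.of A') :=
      (Spec.map (CommRingCat.ofHom (algebraMap A' K'))) (IsLocalRing.closedPoint K')
    have h1 : lam g = ξ := by
      have := congrArg (fun f => f (IsLocalRing.closedPoint K')) hcompat
      simp only [Scheme.Hom.comp_apply] at this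
      have hsub : ∀ a b : Spec (CommRingCat.of K), a = b :=
        fun a b => @Subsingleton.elim (PrimeSpectrum K) _ a b
      exact this.trans (congrArg (fun y => κ y) (hsub _ _))
    rw [← h1]
    exact (IsLocalRing.specializes_closedPoint g).map lam.continuous
  let β : P.presheaf.stalk x ⟶ CommRingCat.of K := P.presheaf.stalkSpecializes hspec ≫ κs
  have hβ : Spec.map β ≫ P.fromSpecStalk x = κ := by
    rw [Spec.map_comp, Category.assoc, Scheme.SpecMap_stalkSpecializes_fromSpecStalk, hκs]
  -- compare the two K'-points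
  have hK' : α' ≫ CommRingCat.ofHom (algebraMap A' K') = β ≫ CommRingCat.ofHom ψ := by
    apply Spec.map_injective
    rw [Spec.map_comp, Spec.map_comp, ← cancel_mono (P.fromSpecStalk x), Category.assoc,
      Category.assoc, hα', hβ, hcompat]
  have hrange : ∀ o : P.presheaf.stalk x, ∃ a₀ : A, algebraMap A K a₀ = β.hom o := by
    intro o
    have := congrArg (fun f => f.hom o) hK'
    simp only [CommRingCat.hom_comp, CommRingCat.hom_ofHom, RingHom.comp_apply] at this
    exact dom_mem φ ψ comm (β.hom o) (α'.hom o) this.symm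
  obtain ⟨γ, hγ⟩ := ring_lift β.hom (algebraMap A K) (IsFractionRing.injective A K) hrange
  have hγ' : CommRingCat.ofHom γ ≫ CommRingCat.ofHom (algebraMap A K) = β := by
    ext o; exact RingHom.congr_fun hγ o
  refine ⟨Spec.map (CommRingCat.ofHom γ) ≫ P.fromSpecStalk x, ?_, ?_⟩
  · let q := P.fromSpecStalk x ≫ p
    let ps : CommRingCat.of A ⟶ P.presheaf.stalk x := Spec.preimage q
    have hps : Spec.map ps = q := Spec.map_preimage q
    have h1 : ps ≫ β = CommRingCat.ofHom (algebraMap A K) := by
      apply Spec.map_injective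
      rw [Spec.map_comp, hps, ← Category.assoc, hβ, hκ]
    have h2 : ps ≫ CommRingCat.ofHom γ = 𝟙 _ := by
      ext a
      change γ (ps.hom a) = a
      apply IsFractionRing.injective A K
      have := congrArg (fun f => f.hom a) h1
      rw [← hγ'] at this
      exact this
    rw [Category.assoc]
    change Spec.map (CommRingCat.ofHom γ) ≫ q = 𝟙 _
    rw [← hps, ← Spec.map_comp]
    exact (congrArg Spec.map h2).trans (Spec.map_id _)
  · rw [← Category.assoc, ← Spec.map_comp, hγ', hβ]


open AlgSp

theorem main {S : Scheme.{u}} {X Y : AlgSp.Space S} (f : X ⟶ Y)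
    (hf : AlgSp.Representable f.hom) : AlgSp.ExistVC f.hom ↔ AlgSp.ExistVCStrict f.hom := by
  constructor
  · intro h sq
    obtain ⟨e, l, hl1, hl2⟩ := h sq
    haveI : IsLocalHom e.φ := e.isLocalHom
    let P : Over S := hf.pullback sq.bot
    let snd : P ⟶ sq.ptA := hf.snd sq.bot
    let fst : (yon S).obj P ⟶ X.obj := hf.fst sq.bot
    have hw : fst ≫ f.hom = (yon S).map snd ≫ sq.bot := hf.w sq.bot
    let κ : sq.ptK ⟶ P := hf.lift sq.top sq.j sq.comm
    have hκ1 : (yon S).map κ ≫ fst = sq.top := hf.lift_fst _ _ _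
    have hκ2 : κ ≫ snd = sq.j := hf.lift_snd _ _ _
    let φm : e.ptA' ⟶ sq.ptA := Over.homMk (Spec.map (CommRingCat.ofHom e.φ)) rfl
    let lam : e.ptA' ⟶ P := hf.lift l φm hl2
    have hlam1 : (yon S).map lam ≫ fst = l := hf.lift_fst _ _ _
    have hlam2 : lam ≫ snd = φm := hf.lift_snd _ _ _
    let jK' : e.ptK' ⟶ e.ptA' := Over.homMk (Spec.map (CommRingCat.ofHom (algebraMap e.A' e.K'))) rfl
    let ψm : e.ptK' ⟶ sq.ptK := Over.homMk (Spec.map (CommRingCat.ofHom e.ψ)) (by
          change Spec.map _ ≫ Spec.map _ ≫ _ = Spec.map _ ≫ Spec.map _ ≫ _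
          rw [← Spec.map_comp_assoc, ← Spec.map_comp_assoc, ← CommRingCat.ofHom_comp,
            ← CommRingCat.ofHom_comp, e.comm])
    have hl1' : (yon S).map jK' ≫ l = (yon S).map ψm ≫ sq.top := hl1
    have hcompat : jK' ≫ lam = ψm ≫ κ := by
      apply hf.hom_ext
      · rw [Functor.map_comp, Category.assoc, Functor.map_comp, Category.assoc]
        change (yon S).map jK' ≫ (yon S).map lam ≫ fst = (yon S).map ψm ≫ (yon S).map κ ≫ fst
        rw [hlam1, hκ1, hl1']
      · change (jK' ≫ lam) ≫ snd = (ψm ≫ κ) ≫ snd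
        rw [Category.assoc, Category.assoc, hlam2, hκ2]
        apply Over.OverMorphism.ext
        change Spec.map _ ≫ Spec.map _ = Spec.map _ ≫ Spec.map _
        rw [← Spec.map_comp, ← Spec.map_comp, ← CommRingCat.ofHom_comp, ← CommRingCat.ofHom_comp,
          e.comm]
    have hκl : κ.left ≫ snd.left = Spec.map (CommRingCat.ofHom (algebraMap sq.A sq.K)) := by
      have := congrArg (fun g => g.left) hκ2
      exact this
    have hcl : Spec.map (CommRingCat.ofHom (algebraMap e.A' e.K')) ≫ lam.left =
        Spec.map (CommRingCat.ofHom e.ψ) ≫ κ.left := by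
      have := congrArg (fun g => g.left) hcompat
      exact this
    obtain ⟨σ, hσ1, hσ2⟩ := exists_section e.φ e.ψ e.comm snd.left κ.left lam.left hκl hcl
    let σ' : sq.ptA ⟶ P := Over.homMk σ (by
      change σ ≫ P.hom = sq.str
      rw [← Over.w snd, ← Category.assoc, hσ1]
      exact Category.id_comp _)
    have hσ'1 : σ' ≫ snd = 𝟙 _ := by
      apply Over.OverMorphism.ext
      exact hσ1
    have hσ'2 : sq.j ≫ σ' = κ := by
      apply Over.OverMorphism.ext
      exact hσ2
    refine ⟨(yon S).map σ' ≫ fst, ?_, ?_⟩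
    · rw [← Category.assoc, ← Functor.map_comp, hσ'2, hκ1]
    · rw [Category.assoc, hw, ← Category.assoc, ← Functor.map_comp, hσ'1, CategoryTheory.Functor.map_id,
        Category.id_comp]
  · intro h sq
    obtain ⟨l, hl1, hl2⟩ := h sq
    let e : sq.DomExt :=
      { A' := sq.A, K' := sq.K, φ := RingHom.id _, ψ := RingHom.id _, comm := rfl
        isLocalHom := inferInstance }
    refine ⟨e, ?_⟩
    let iA : e.ptA' ⟶ sq.ptA := Over.homMk (Spec.map (CommRingCat.ofHom e.φ)) rfl
    refine ⟨(yon S).map iA ≫ l, ?_, ?_⟩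
    · rw [← hl1, ← Category.assoc, ← Category.assoc, ← Functor.map_comp, ← Functor.map_comp]
      congr 2
      apply Over.OverMorphism.ext
      change Spec.map _ ≫ Spec.map (CommRingCat.ofHom (RingHom.id _)) =
        Spec.map (CommRingCat.ofHom (RingHom.id _)) ≫ Spec.map _
      rw [CommRingCat.ofHom_id, CommRingCat.ofHom_id, Spec.map_id, Spec.map_id, Category.comp_id,
        Category.id_comp]
    · rw [Category.assoc, hl2]

end Groth.Agent.S10282

end S10282helpers

namespace Groth.Agent.S10282

/-- For a representable morphism of algebraic spaces the existence part of the valuative criterion with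
extensions allowed is equivalent to the one without extensions. -/
theorem result {S : Scheme.{u}} {X Y : AlgSp.Space S} (f : X ⟶ Y)
    (hf : AlgSp.Representable f.hom) : AlgSp.ExistVC f.hom ↔ AlgSp.ExistVCStrict f.hom := by

  exact Groth.Agent.S10282.main f hf

end Groth.Agent.S10282
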