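import Groth.Statements.S10287
-- import your own Groth.Agent.* helpers here

set_option autoImplicit false
universe u
open CategoryTheory CategoryTheory.Limits AlgebraicGeometry
open AlgSp

namespace Groth.Agent.S10287

/-- The existence and uniqueness parts of the valuative criterion are stable under composition. -/
theorem result {S : Scheme.{u}} {X Y Z : AlgSp.Space S} (f : X ⟶ Y) (g : Y ⟶ Z) :
    (AlgSp.ExistVC f.hom → AlgSp.ExistVC g.hom → AlgSp.ExistVC (f ≫ g).hom) ∧
    (AlgSp.UniqVC f.hom → AlgSp.UniqVC g.hom → AlgSp.UniqVC (f ≫ g).hom) := by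
  constructor
  · intro hf hg sq
    let sq_g : AlgSp.ValSq g.hom :=
      { A := sq.A, K := sq.K, str := sq.str, top := sq.top ≫ f.hom, bot := sq.bot
        comm := by rw [Category.assoc]; exact sq.comm }
    obtain ⟨e1, l1, h11, h12⟩ := hg sq_g
    let sq_f : AlgSp.ValSq f.hom :=
      { A := e1.A', K := e1.K', str := Spec.map (CommRingCat.ofHom e1.φ) ≫ sq.str
        top := (AlgSp.yon S).map (Over.homMk (Spec.map (CommRingCat.ofHom e1.ψ)) (by
          change Spec.map _ ≫ Spec.map _ ≫ _ = Spec.map _ ≫ Spec.map _ ≫ _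
          rw [← Spec.map_comp_assoc, ← Spec.map_comp_assoc, ← CommRingCat.ofHom_comp,
            ← CommRingCat.ofHom_comp, e1.comm]) : e1.ptK' ⟶ sq_g.ptK) ≫ sq.top
        bot := l1
        comm := by rw [Category.assoc]; exact h11.symm }
    obtain ⟨e2, l2, h21, h22⟩ := hf sq_f
    haveI : IsLocalHom e1.φ := e1.isLocalHom
    haveI : IsLocalHom e2.φ := e2.isLocalHom
    let e : sq.DomExt :=
      { A' := e2.A', K' := e2.K', φ := e2.φ.comp e1.φ, ψ := e2.ψ.comp e1.ψ
        comm := by
          rw [← RingHom.comp_assoc, e2.comm, RingHom.comp_assoc, e1.comm, RingHom.comp_assoc]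
        isLocalHom := RingHom.isLocalHom_comp _ _ }
    refine ⟨e, ?_⟩
    have hstr : Spec.map (CommRingCat.ofHom (e2.φ.comp e1.φ)) ≫ sq.str =
        Spec.map (CommRingCat.ofHom e2.φ) ≫ Spec.map (CommRingCat.ofHom e1.φ) ≫ sq.str := by
      rw [CommRingCat.ofHom_comp, Spec.map_comp, Category.assoc]
    let iA : e.ptA' ⟶ e2.ptA' := Over.homMk (𝟙 _) (by
      change 𝟙 _ ≫ Spec.map _ ≫ Spec.map _ ≫ _ = Spec.map _ ≫ _
      rw [Category.id_comp, hstr])
    refine ⟨(AlgSp.yon S).map iA ≫ l2, ?_, ?_⟩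
    · rw [← Category.assoc, ← Functor.map_comp]
      have hA : (Over.homMk (Spec.map (CommRingCat.ofHom (algebraMap e.A' e.K'))) rfl : e.ptK' ⟶ e.ptA') ≫ iA =
          (Over.homMk (𝟙 _) (by
            change 𝟙 _ ≫ Spec.map _ ≫ Spec.map _ ≫ Spec.map _ ≫ _ = Spec.map _ ≫ Spec.map _ ≫ _
            rw [Category.id_comp, hstr]) : e.ptK' ⟶ e2.ptK') ≫
          (Over.homMk (Spec.map (CommRingCat.ofHom (algebraMap e2.A' e2.K'))) rfl : e2.ptK' ⟶ e2.ptA') := by
        apply Over.OverMorphism.ext
        change Spec.map _ ≫ 𝟙 _ = 𝟙 _ ≫ Spec.map _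
        rw [Category.comp_id, Category.id_comp]
      rw [hA, Functor.map_comp, Category.assoc, h21]
      change _ ≫ _ ≫ _ ≫ sq.top = _ ≫ sq.top
      rw [← Category.assoc, ← Category.assoc, ← Functor.map_comp, ← Functor.map_comp]
      congr 2
      apply Over.OverMorphism.ext
      change (𝟙 _ ≫ Spec.map _) ≫ Spec.map _ = Spec.map _
      rw [Category.id_comp, ← Spec.map_comp, ← CommRingCat.ofHom_comp]
    · change ((AlgSp.yon S).map iA ≫ l2) ≫ f.hom ≫ g.hom = _
      rw [Category.assoc, ← Category.assoc l2, h22, Category.assoc, h12]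
      rw [← Category.assoc, ← Category.assoc, ← Functor.map_comp, ← Functor.map_comp]
      congr 2
      apply Over.OverMorphism.ext
      change (𝟙 _ ≫ Spec.map _) ≫ Spec.map _ = Spec.map _
      rw [Category.id_comp, ← Spec.map_comp, ← CommRingCat.ofHom_comp]
  · intro hf hg sq l l' h1 h2 h1' h2'
    let sq_g : AlgSp.ValSq g.hom :=
      { A := sq.A, K := sq.K, str := sq.str, top := sq.top ≫ f.hom, bot := sq.bot
        comm := by rw [Category.assoc]; exact sq.comm }
    have hm : l ≫ f.hom = l' ≫ f.hom := by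
      refine hg sq_g (l ≫ f.hom) (l' ≫ f.hom) ?_ ?_ ?_ ?_
      · rw [← Category.assoc]; exact congrArg (· ≫ f.hom) h1
      · rw [Category.assoc]; exact h2
      · rw [← Category.assoc]; exact congrArg (· ≫ f.hom) h1'
      · rw [Category.assoc]; exact h2'
    let sq_f : AlgSp.ValSq f.hom :=
      { A := sq.A, K := sq.K, str := sq.str, top := sq.top, bot := l ≫ f.hom
        comm := by rw [← Category.assoc]; exact congrArg (· ≫ f.hom) h1.symm }
    exact hf sq_f l l' h1 rfl h1' hm.symm

end Groth.Agent.S10287
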