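import Groth.Statements.S10292
import Groth.Agent.Lib.Helper30.AlgSpValuative
import Groth.Agent.Lib.Helper78.AlgSpLocP3
import Groth.Agent.Lib.Helper78.AlgSpLocPFlat
import Groth.Agent.Lib.Helper78.AlgSpFibre
import Mathlib.AlgebraicGeometry.Morphisms.UniversallyOpen
-- import your own Groth.Agent.* helpers here

set_option autoImplicit false
universe u
open CategoryTheory CategoryTheory.Limits AlgebraicGeometry
open AlgSp

namespace Groth.Agent.S10292

open Groth.Agent.Lib.Helper30 IsLocalRing

set_option backward.isDefEq.respectTransparency false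
set_option maxHeartbeats 800000

/-- Scheme-level statement: along a flat morphism `q : U ⟶ Spec A` to the spectrum of a valuation
ring hitting the closed point, there is a valuation ring `A'` with an injective local map `A → A'`
and a morphism `Spec A' ⟶ U` over `Spec A`. -/
theorem exists_valuationRing_lift {A : Type u} [CommRing A] [IsDomain A] [ValuationRing A]
    {U : Scheme.{u}} (q : U ⟶ Spec (.of A)) [Flat q] (x : ↥U) (hx : q x = closedPoint A) :
    ∃ (A' : Type u) (_ : CommRing A') (_ : IsDomain A') (_ : ValuationRing A') (φ : A →+* A'),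
      Function.Injective φ ∧ IsLocalHom φ ∧
      ∃ m : Spec (.of A') ⟶ U, m ≫ q = Spec.map (CommRingCat.ofHom φ) := by
  -- the generic point
  let η : ↥(Spec (.of A)) := ⟨⊥, Ideal.isPrime_bot⟩
  have hη : η ⤳ q x := by
    rw [hx]
    exact specializes_closedPoint (R := A) η
  obtain ⟨x', hx', hqx'⟩ := (Flat.generalizingMap q) hη
  let φ₀ : U.presheaf.stalk x ⟶ U.residueField x' :=
    U.presheaf.stalkSpecializes hx' ≫ U.residue x'
  obtain ⟨A', hA', hA'_local⟩ := exists_factor_valuationRing φ₀.hom
  let toA' : U.presheaf.stalk x ⟶ .of A' := CommRingCat.ofHom (φ₀.hom.codRestrict _ hA')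
  let m : Spec (.of A') ⟶ U := Spec.map toA' ≫ U.fromSpecStalk x
  let φc : CommRingCat.of A ⟶ CommRingCat.of A' := Spec.preimage (m ≫ q)
  have hφc : Spec.map φc = m ≫ q := Spec.map_preimage _
  have hcl : (m ≫ q) (closedPoint A') = closedPoint A := by
    have e2 : Spec.map toA' (closedPoint A') = closedPoint (U.presheaf.stalk x) :=
      comap_closedPoint (S := A') (φ₀.hom.codRestrict A'.toSubring hA')
    rw [Scheme.Hom.comp_apply]
    show q ((Spec.map toA' ≫ U.fromSpecStalk x) (closedPoint A')) = _
    rw [Scheme.Hom.comp_apply, e2, Scheme.fromSpecStalk_closedPoint, hx]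
  -- the generic point of `Spec A'` maps to `x'`
  have hkey : Spec.map (CommRingCat.ofHom (algebraMap A' (U.residueField x'))) ≫ m =
      U.fromSpecResidueField x' := by
    rw [Scheme.fromSpecResidueField, ← Scheme.SpecMap_stalkSpecializes_fromSpecStalk hx']
    simp only [m, ← Spec.map_comp_assoc]
    rfl
  refine ⟨A', inferInstance, inferInstance, inferInstance, φc.hom, ?_, ?_, m, ?_⟩
  · -- injectivity
    have h1 : (Spec.map (φc ≫ CommRingCat.ofHom (algebraMap A' (U.residueField x'))))
        (closedPoint (U.residueField x')) = η := by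
      rw [Spec.map_comp, hφc, ← Category.assoc, hkey, Scheme.Hom.comp_apply]
      have := Scheme.fromSpecResidueField_apply x' (closedPoint (U.residueField x'))
      exact (congrArg (fun t => q t) this).trans hqx'
    have h2 : Ideal.comap (φc ≫ CommRingCat.ofHom (algebraMap A' (U.residueField x'))).hom
        (closedPoint (U.residueField x')).asIdeal = ⊥ := congrArg (fun p => p.asIdeal) h1
    have h3 : (closedPoint (U.residueField x')).asIdeal = ⊥ :=
      IsLocalRing.maximalIdeal_eq_bot
    rw [h3, ← RingHom.ker_eq_comap_bot, ← RingHom.injective_iff_ker_eq_bot] at h2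
    exact Function.Injective.of_comp (f := algebraMap A' (U.residueField x')) h2
  · rw [isLocalHom_iff_comap_closedPoint]
    have := hcl
    rw [← hφc] at this
    exact this
  · rw [← hφc]
    rfl

/-- Along a flat morphism of algebraic spaces, a morphism from the spectrum of a valuation ring to the
target whose closed point is hit lifts to the source after an extension of valuation rings
(injective and local). -/
theorem result {S : Scheme.{u}} {X Y : AlgSp.Space S} (f : X ⟶ Y)
    (hf : AlgSp.LocP @Flat f.hom) (A : Type u) [CommRing A] [IsDomain A] [ValuationRing A]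
    (str : Spec (.of A) ⟶ S) (b : (AlgSp.yon S).obj (Over.mk str) ⟶ Y.obj)
    (hb : AlgSp.Points.ofPt b (IsLocalRing.closedPoint A) ∈ Set.range (AlgSp.Points.map f.hom)) :
    ∃ (A' : Type u) (_ : CommRing A') (_ : IsDomain A') (_ : ValuationRing A') (φ : A →+* A'),
      Function.Injective φ ∧ IsLocalHom φ ∧
      ∃ l : (AlgSp.yon S).obj (Over.mk (Spec.map (CommRingCat.ofHom φ) ≫ str)) ⟶ X.obj,
        l ≫ f.hom = (AlgSp.yon S).map (Over.homMk (Spec.map (CommRingCat.ofHom φ)) rfl :
          Over.mk (Spec.map (CommRingCat.ofHom φ) ≫ str) ⟶ Over.mk str) ≫ b := by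
  let T : Over S := Over.mk str
  have sqP := IsPullback.of_hasPullback f.hom b
  have hPalg : AlgSp.IsAlgSpace (pullback f.hom b) :=
    isAlgSpace_of_isPullback Y.property.diag X.property (AlgSp.IsAlgSpace.yon_obj T) sqP
  obtain ⟨x, hx⟩ := hb
  have hx' : Points.map f.hom x = Points.map b (Points.ofScheme T (closedPoint A)) := by
    rw [hx, ← Points.ofPt_eq_map_ofScheme]
  obtain ⟨z, hz1, hz2⟩ := Groth.Agent.Lib.Helper52.exists_point_of_isPullback sqP x _ hx'
  obtain ⟨U, c, hce, hcs⟩ := hPalg.atlas
  obtain ⟨u, hu⟩ := Groth.Agent.Lib.Helper51.surjective_ofPt_of_repWith_surjective c hcs z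
  obtain ⟨q₀, hq⟩ := (AlgSp.yon S).map_surjective (c ≫ pullback.snd f.hom b)
  have hflatP : LocP @Flat (pullback.snd f.hom b) :=
    Groth.Agent.Lib.Helper78.AlgSpLocP.locP_of_isPullback
      Groth.Agent.Lib.Helper78.AlgSpLocPFlat.etLocalST_flat sqP
      (Groth.Agent.Lib.Helper78.AlgSpFibre.repAll_of_isAlgSpace Y.property)
      X.property.atlas Y.property.atlas hf
  have hflat : Flat q₀.left := hflatP c (𝟙 _) q₀ hce (AlgSp.repWith_id @Etale T) (by
    rw [Category.comp_id, hq])
  have hqu : q₀.left u = closedPoint A := by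
    apply (Points.schemeEquiv T).injective
    show Points.ofScheme T (q₀.left u) = Points.ofScheme T (closedPoint A)
    rw [← hz2, ← hu, Points.map_ofPt, ← hq]
    have h3 := Groth.Agent.Lib.Helper52.ofPt_yon_map_comp q₀ (𝟙 _) u
    rw [Category.comp_id] at h3
    exact h3.symm
  obtain ⟨A', i1, i2, i3, φ, hinj, hloc, m, hm⟩ := exists_valuationRing_lift q₀.left u hqu
  refine ⟨A', i1, i2, i3, φ, hinj, hloc, ?_⟩
  have hmw : m ≫ U.hom = Spec.map (CommRingCat.ofHom φ) ≫ str := by
    rw [← hm, Category.assoc]
    congr 1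
    exact (CategoryTheory.Over.w q₀).symm
  let mO : Over.mk (Spec.map (CommRingCat.ofHom φ) ≫ str) ⟶ U := Over.homMk m hmw
  refine ⟨(AlgSp.yon S).map mO ≫ c ≫ pullback.fst f.hom b, ?_⟩
  rw [Category.assoc, Category.assoc, pullback.condition, ← Category.assoc c, ← hq,
    ← Category.assoc, ← Functor.map_comp]
  congr 2
  ext
  exact hm

end Groth.Agent.S10292
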