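import Groth.Statements.S10293
import Groth.Agent.Lib.Helper30.AlgSpAffDesc2
import Groth.Agent.Lib.Helper30.AlgSpAffTested2
import Groth.Agent.Lib.Helper30.AlgSpDesc
import Groth.Agent.Lib.Helper40.FpqcLocal
import Groth.Agent.S0084
-- import your own Groth.Agent.* helpers here

set_option autoImplicit false
universe u
open CategoryTheory CategoryTheory.Limits AlgebraicGeometry
open AlgSp

namespace Groth.Agent.S10293


/-- (3) ⇒ (1): being finite locally free descends along a surjective etale base change from a scheme. -/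
theorem result {S : Scheme.{u}} {X Y : AlgSp.Space S} (f : X ⟶ Y) (V : Over S)
    (p : (AlgSp.yon S).obj V ⟶ Y.obj) (hp : AlgSp.RepWith @Etale p) (hps : AlgSp.RepWith @Surjective p)
    {P : AlgSp.Sp S} (fst : P ⟶ X.obj) (snd : P ⟶ (AlgSp.yon S).obj V) (sq : IsPullback fst snd f.hom p)
    (h : AlgSp.IsFinLocFreeMor snd) : AlgSp.IsFinLocFreeMor f.hom := by
  have i84 := Groth.Agent.S0084.result.{u}
  have hflat := Groth.Agent.Lib.Helper40.FpqcLocal.flat_descendsAlong_fpqc.{u}
  have hfin_snd : AlgSp.RepWith @IsFinite snd :=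
    MorphismProperty.relative_monotone (fun A B k hk => hk.1) _ h
  have h1 : Groth.Agent.Lib.Helper30.AffTested @IsFinite snd :=
    Groth.Agent.Lib.Helper30.affTested_of_repWith @IsFinite (fun i hi => by
      have : IsFinite i := hi
      infer_instance) hfin_snd
  have h2 : Groth.Agent.Lib.Helper30.AffTested @IsFinite f.hom :=
    Groth.Agent.Lib.Helper30.AffDesc.affTested_of_etale_cover @IsFinite f.hom V p hp hps fst snd sq h1
  have h3 : AlgSp.RepWith @IsFinite f.hom := Groth.Agent.Lib.Helper30.repWith_of_affTested @IsFinite h2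
  haveI : (AlgSp.finLocFree.{u}).DescendsAlong
      (@Surjective ⊓ @Flat ⊓ @LocallyOfFinitePresentation) :=
    ⟨fun sq hf hfst => ⟨MorphismProperty.of_isPullback_of_descendsAlong sq hf hfst.1,
      MorphismProperty.of_isPullback_of_descendsAlong sq hf hfst.2.1,
      MorphismProperty.of_isPullback_of_descendsAlong sq hf hfst.2.2⟩⟩
  exact Groth.Agent.Lib.Helper30.repWith_of_etale_cover AlgSp.finLocFree sq h3.rep hp hps h

end Groth.Agent.S10293
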