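import Groth.Statements.S10296
import Groth.Agent.Lib.Helper30.AlgSpAffTested3
-- import your own Groth.Agent.* helpers here

set_option autoImplicit false
universe u
open CategoryTheory CategoryTheory.Limits AlgebraicGeometry
open AlgSp

namespace Groth.Agent.S10296

open Groth.Agent.Lib.Helper30

set_option backward.isDefEq.respectTransparency false

/-- The induced morphism from the normalization of X in Y to any integral Z -> X through which Y -> X
factors is the normalization of Z in Y. -/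
theorem result {S : Scheme.{u}} {Y X X' Z : AlgSp.Space S} (f : Y ⟶ X)
    (hqc : AlgSp.IsQuasiCompactMor f.hom) (hqs : AlgSp.IsQuasiSeparatedMor f.hom) (ν : X' ⟶ X) (f' : Y ⟶ X')
    (hn : AlgSp.IsRelNormalization f.hom ν.hom f'.hom) (π : Z ⟶ X) (hπ : AlgSp.IsIntegralMor π.hom) (g : Y ⟶ Z)
    (hg : g ≫ π = f) (h : X' ⟶ Z) (h1 : f' ≫ h = g) (h2 : h ≫ π = ν) :
    AlgSp.IsRelNormalization g.hom h.hom f'.hom := by
  obtain ⟨hfac, hνint, huniv⟩ := hn
  have h1' : f'.hom ≫ h.hom = g.hom := congrArg (fun t => t.hom) h1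
  have h2' : h.hom ≫ π.hom = ν.hom := congrArg (fun t => t.hom) h2
  have hg' : g.hom ≫ π.hom = f.hom := congrArg (fun t => t.hom) hg
  refine ⟨h1', ?_, ?_⟩
  · refine affTested_of_comp_of_isSeparatedMor @IsIntegralHom (fun i hi => inferInstance)
      h.hom π.hom ?_ (isSeparatedMor_of_affTested _ Z.property.diag hπ)
    rw [h2']
    exact hνint
  · intro Z' hZ' π' g'' hπ' hg''
    have hcomp : AlgSp.IsIntegralMor (π' ≫ π.hom) := affTested_comp @IsIntegralHom hπ' hπ
    obtain ⟨h', ⟨h'1, h'2⟩, h'u⟩ := huniv hZ' (π' ≫ π.hom) g'' hcomp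
      (by rw [← Category.assoc, hg'', hg'])
    obtain ⟨h0, -, h0u⟩ := huniv Z.property π.hom g.hom hπ hg'
    have e1 : h' ≫ π' = h0 := h0u _ ⟨by rw [← Category.assoc, h'1, hg''], by
      rw [Category.assoc, h'2]⟩
    have e2 : h.hom = h0 := h0u _ ⟨h1', h2'⟩
    refine ⟨h', ⟨h'1, e1.trans e2.symm⟩, fun h'' hh => h'u _ ⟨hh.1, ?_⟩⟩
    rw [← Category.assoc, hh.2, h2']

end Groth.Agent.S10296
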