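import Groth.Statements.S10298
import Groth.Agent.Lib.Helper30.AlgSpAffTested3
-- import your own Groth.Agent.* helpers here

set_option autoImplicit false
universe u
open CategoryTheory CategoryTheory.Limits AlgebraicGeometry
open AlgSp

namespace Groth.Agent.S10298

open Groth.Agent.Lib.Helper30

set_option backward.isDefEq.respectTransparency false
set_option maxHeartbeats 400000

/-- For a quasi-compact quasi-separated morphism of schemes, the relative normalization of schemes is
the normalization in the sense of algebraic spaces. -/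
theorem result {S : Scheme.{u}} {V U N : Over S} (g : V ⟶ U)
    [QuasiCompact g.left] [QuasiSeparated g.left] (f' : V ⟶ N) (ν : N ⟶ U)
    (e : N.left ≅ g.left.normalization) (he1 : f'.left ≫ e.hom = g.left.toNormalization)
    (he2 : e.hom ≫ g.left.fromNormalization = ν.left) :
    AlgSp.IsRelNormalization ((AlgSp.yon S).map g) ((AlgSp.yon S).map ν) ((AlgSp.yon S).map f') := by
  have hν : IsIntegralHom ν.left := by
    rw [← he2]
    infer_instance
  have hfν : f' ≫ ν = g := by
    ext
    show f'.left ≫ ν.left = g.left
    rw [← he2, ← Category.assoc, he1, Scheme.Hom.toNormalization_fromNormalization]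
  have hf'e : f'.left = g.left.toNormalization ≫ e.inv := by
    rw [← he1, Category.assoc, Iso.hom_inv_id, Category.comp_id]
  refine ⟨by rw [← Functor.map_comp, hfν], ?_, ?_⟩
  · refine affTested_of_repWith @IsIntegralHom (fun i hi => ?_)
      ((AlgSp.repWith_yon_map_iff _ ν).2 hν)
    have : IsIntegralHom i := hi
    infer_instance
  · intro Z hZ π gZ hπ hgZ
    have hπ' : AlgSp.RepWith @IsIntegralHom π := repWith_of_affTested _ hπ
    obtain ⟨W, w, ε, hε, hw⟩ := exists_iso_yon_of_repWith _ hπ'
    have hw' : IsIntegralHom w.left := hw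
    obtain ⟨g₁, hg₁⟩ := (AlgSp.yon S).map_surjective (gZ ≫ ε.inv)
    have hg₁w : g₁ ≫ w = g := (AlgSp.yon S).map_injective (by
      rw [Functor.map_comp, hg₁, Category.assoc, ← hε, Iso.inv_hom_id_assoc, hgZ])
    have H : g.left = g₁.left ≫ w.left := by
      rw [← hg₁w]
      rfl
    have hd1 := Scheme.Hom.toNormalization_normalizationDesc g.left g₁.left w.left H
    have hd2 := Scheme.Hom.normalizationDesc_comp g.left g₁.left w.left H
    have hLw : (e.hom ≫ g.left.normalizationDesc g₁.left w.left H) ≫ W.hom = N.hom := by
      rw [← CategoryTheory.Over.w w, Category.assoc, ← Category.assoc _ w.left, hd2, ← Category.assoc,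
        he2, CategoryTheory.Over.w ν]
    let hL : N ⟶ W := Over.homMk (e.hom ≫ g.left.normalizationDesc g₁.left w.left H) hLw
    have hL1 : f' ≫ hL = g₁ := by
      ext
      show f'.left ≫ e.hom ≫ g.left.normalizationDesc g₁.left w.left H = g₁.left
      rw [← Category.assoc, he1, hd1]
    have hL2 : hL ≫ w = ν := by
      ext
      show (e.hom ≫ g.left.normalizationDesc g₁.left w.left H) ≫ w.left = ν.left
      rw [Category.assoc, hd2, he2]
    refine ⟨(AlgSp.yon S).map hL ≫ ε.hom, ⟨?_, ?_⟩, ?_⟩
    · rw [← Category.assoc, ← Functor.map_comp, hL1, hg₁, Category.assoc, Iso.inv_hom_id,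
        Category.comp_id]
    · rw [Category.assoc, hε, ← Functor.map_comp, hL2]
    · rintro h'' ⟨hh1, hh2⟩
      obtain ⟨k₁, hk₁⟩ := (AlgSp.yon S).map_surjective (h'' ≫ ε.inv)
      have hk1 : f' ≫ k₁ = g₁ := (AlgSp.yon S).map_injective (by
        rw [Functor.map_comp, hk₁, ← Category.assoc, hh1, hg₁])
      have hk2 : k₁ ≫ w = ν := (AlgSp.yon S).map_injective (by
        rw [Functor.map_comp, hk₁, ← hε, Category.assoc, Iso.inv_hom_id_assoc, hh2])
      have hk1' : f'.left ≫ k₁.left = g₁.left := by
        rw [← hk1]
        rfl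
      have hk2' : k₁.left ≫ w.left = ν.left := by
        rw [← hk2]
        rfl
      have key : e.inv ≫ k₁.left = g.left.normalizationDesc g₁.left w.left H := by
        refine Scheme.Hom.normalization.hom_ext g.left _ _ w.left ?_ ?_ hd2
        · rw [hd1, ← Category.assoc, ← hf'e, hk1']
        · rw [Category.assoc, hk2', ← he2, Iso.inv_hom_id_assoc]
      have hkL : k₁ = hL := by
        ext
        show k₁.left = e.hom ≫ g.left.normalizationDesc g₁.left w.left H
        rw [← key, Iso.hom_inv_id_assoc]
      rw [← hkL, hk₁, Category.assoc, Iso.inv_hom_id, Category.comp_id]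

end Groth.Agent.S10298
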