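import Groth.Statements.S10304
import Groth.Agent.Lib.Helper98.QcFinIrr2
import Groth.Agent.Lib.Helper51.AlgSpPoints

set_option autoImplicit false
universe u
open CategoryTheory CategoryTheory.Limits AlgebraicGeometry
open AlgSp

namespace Groth.Agent.S10304

/-- Equivalent forms of the condition that the schemes etale over X have locally finitely many
irreducible components: one etale surjective chart, every etale chart, finiteness of codimension-0
points of quasi-compact spaces etale over X, finiteness of irreducible components of such spaces. -/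
theorem result {S : Scheme.{u}} (X : AlgSp.Space S) :
    (AlgSp.EtaleLocally (fun U => ∀ W : U.Opens, IsCompact (W : Set ↥U) → (irreducibleComponents ↥W).Finite) X.obj ↔
      ∀ (U : Over S) (a : (AlgSp.yon S).obj U ⟶ X.obj), AlgSp.RepWith @Etale a →
        ∀ W : U.left.Opens, IsCompact (W : Set ↥U.left) → (irreducibleComponents ↥W).Finite) ∧
    (AlgSp.EtaleLocally (fun U => ∀ W : U.Opens, IsCompact (W : Set ↥U) → (irreducibleComponents ↥W).Finite) X.obj ↔
      ∀ (Y : AlgSp.Space S) (g : Y ⟶ X), AlgSp.IsEtaleMor g.hom → AlgSp.IsQuasiCompactSp Y.obj →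
        {y : AlgSp.Points Y.obj |
          AlgSp.HasAt (fun U u => ringKrullDim ↥(U.presheaf.stalk u) = 0) Y.obj y}.Finite) ∧
    (AlgSp.EtaleLocally (fun U => ∀ W : U.Opens, IsCompact (W : Set ↥U) → (irreducibleComponents ↥W).Finite) X.obj ↔
      ∀ (Y : AlgSp.Space S) (g : Y ⟶ X), AlgSp.IsEtaleMor g.hom → AlgSp.IsQuasiCompactSp Y.obj →
        (irreducibleComponents (AlgSp.Points Y.obj)).Finite) := by
  have hid : ∀ Wo : Over S, RepWith @Etale ((yon S).map (𝟙 Wo)) := fun Wo =>
    (repWith_yon_map_iff _ _).2 (by rw [Over.id_left]; infer_instance)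
  have hinj : ∀ (Wo : Over S) (w w' : Wo.left),
      Points.ofPt ((yon S).map (𝟙 Wo)) w = Points.ofPt ((yon S).map (𝟙 Wo)) w' → w = w' := by
    intro Wo w w' h
    have := congrArg (Points.toScheme Wo) h
    rw [Points.toScheme_ofPt, Points.toScheme_ofPt] at this
    simpa using this
  have hchart : ∀ (hE : AlgSp.EtaleLocally (fun U => ∀ W : U.Opens, IsCompact (W : Set ↥U) →
      (irreducibleComponents ↥W).Finite) X.obj) (Y : AlgSp.Space S) (g : Y ⟶ X)
      (_ : AlgSp.IsEtaleMor g.hom) (T : Over S) (p : (yon S).obj T ⟶ Y.obj)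
      (_ : RepWith @Etale p) (_ : CompactSpace ↥T.left), (irreducibleComponents ↥T.left).Finite := by
    intro hE Y g hg T p hp hTc
    have hPT := Groth.Agent.Lib.Helper98.QcFinIrr.forall_of_etaleLocally_qcFinIrr hE T
      (p ≫ g.hom) (hg p hp)
    exact Groth.Agent.Lib.Helper98.QcFinIrr.finite_irreducibleComponents_of_top
      (hPT ⊤ (by simpa using isCompact_univ))
  refine ⟨⟨fun hE U a ha =>
      Groth.Agent.Lib.Helper98.QcFinIrr.forall_of_etaleLocally_qcFinIrr hE U a ha, fun h => ?_⟩,
    ⟨fun hE Y g hg hqc => ?_, fun H => ?_⟩, ⟨fun hE Y g hg hqc => ?_, fun H => ?_⟩⟩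
  · obtain ⟨U, a, ha, has⟩ := X.property.atlas
    exact ⟨U, a, ha, has, h U a ha⟩
  · obtain ⟨T, p, hp, hps, hTc⟩ := hqc
    have h1 := hchart hE Y g hg T p hp hTc
    have h2 := Groth.Agent.Lib.Helper98.QcFinIrr.finite_setOf_stalk_dim_zero h1
    refine (h2.image (Points.ofPt p)).subset ?_
    intro y hy
    obtain ⟨t, rfl⟩ := Groth.Agent.Lib.Helper51.surjective_ofPt_of_repWith_surjective p hps y
    refine ⟨t, ?_, rfl⟩
    exact (Groth.Agent.Lib.Helper51.DimCharts.hasAt_iff_forall
      (fun U u => ringKrullDim (U.presheaf.stalk u))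
      (fun φ _ w => Groth.Agent.Lib.Helper51.Coheight.ringKrullDim_stalk_eq_of_etale φ w)
      Y.property _ 0).1 hy T p t hp rfl
  · obtain ⟨U, a, ha, has⟩ := X.property.atlas
    refine ⟨U, a, ha, has, fun W hW => ?_⟩
    have h1 := Groth.Agent.Lib.Helper98.QcFinIrr.apply_to_qc_open a ha W hW
      (fun F => {y : AlgSp.Points F |
        AlgSp.HasAt (fun U u => ringKrullDim ↥(U.presheaf.stalk u) = 0) F y}.Finite) H
    have h2 : {w : (Over.mk (W.ι ≫ U.hom)).left |
        ringKrullDim ((Over.mk (W.ι ≫ U.hom)).left.presheaf.stalk w) = 0}.Finite := by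
      refine Set.Finite.of_finite_image
        (f := fun w => Points.ofPt ((yon S).map (𝟙 (Over.mk (W.ι ≫ U.hom)))) w)
        (h1.subset ?_) (fun w _ w' _ h => hinj _ w w' h)
      rintro _ ⟨w, hw, rfl⟩
      exact ⟨_, (yon S).map (𝟙 (Over.mk (W.ι ≫ U.hom))), w, hid _, rfl, hw⟩
    exact Groth.Agent.Lib.Helper98.QcFinIrr.finite_irreducibleComponents_of_finite_stalk_dim_zero h2
  · obtain ⟨T, p, hp, hps, hTc⟩ := hqc
    have h1 := hchart hE Y g hg T p hp hTc
    exact Groth.Agent.Lib.Helper98.QcFinIrr.finite_irreducibleComponents_of_surjective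
      (Points.ofPt p) (Points.continuous_ofPt p)
      (Groth.Agent.Lib.Helper51.surjective_ofPt_of_repWith_surjective p hps) h1
  · obtain ⟨U, a, ha, has⟩ := X.property.atlas
    refine ⟨U, a, ha, has, fun W hW => ?_⟩
    have h1 := Groth.Agent.Lib.Helper98.QcFinIrr.apply_to_qc_open a ha W hW
      (fun F => (irreducibleComponents (AlgSp.Points F)).Finite) H
    exact Groth.Agent.Lib.Helper98.QcFinIrr.finite_irreducibleComponents_of_surjective
      (Points.schemeHomeo (Over.mk (W.ι ≫ U.hom))).symm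
      (Points.schemeHomeo _).symm.continuous (Points.schemeHomeo _).symm.surjective h1

end Groth.Agent.S10304
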