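import Groth.Statements.S10308
import Groth.Agent.Lib.Helper98.AlgSpFibreDimLocal

set_option autoImplicit false
universe u
open CategoryTheory CategoryTheory.Limits AlgebraicGeometry
open AlgSp

namespace Groth.Agent.S10308

open Groth.Agent.Lib.Helper31.AlgSpFlatAt Groth.Agent.Lib.Helper52 Groth.Agent.Lib.Helper51
  Groth.Agent.Lib.Helper98.AlgSpPtLocal Groth.Agent.Lib.Helper98.AlgSpFibreDimLocal in
/-- For f locally of finite type, the locus of points where the relative dimension of f is at most n is
open. -/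
theorem result {S : Scheme.{u}} {X Y : AlgSp.Space S} (f : X ⟶ Y)
    (hf : AlgSp.LocP @LocallyOfFiniteType f.hom) (n : ℕ) :
    IsOpen {x : AlgSp.Points X.obj |
      AlgSp.HasAtMor (fun _ _ h u => FlatMor.fibreDimAt h u ≤ (n : WithBot ℕ∞)) f.hom x} := by
  obtain ⟨G⟩ := exists_goodChart f.hom (𝟙 Y.obj) X.property Y.property Y.property
  haveI hk : LocallyOfFiniteType G.k.left := hf G.a G.b G.k G.ha G.hb G.comm_f
  exact isOpen_hasAtMor (etLocalPt_fibreDim (fun d => d ≤ (n : WithBot ℕ∞))) G
    (Groth.Agent.S0402.result G.k.left n)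

end Groth.Agent.S10308
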