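import Groth.Statements.S10309
import Groth.Agent.Lib.Helper98.AlgSpFibreDimLocal

set_option autoImplicit false
universe u
open CategoryTheory CategoryTheory.Limits AlgebraicGeometry
open AlgSp

namespace Groth.Agent.S10309

open Groth.Agent.Lib.Helper31.AlgSpFlatAt Groth.Agent.Lib.Helper52 Groth.Agent.Lib.Helper51
  Groth.Agent.Lib.Helper98.AlgSpPtLocal Groth.Agent.Lib.Helper98.AlgSpFibreDimLocal in
/-- For f locally of finite presentation, the locus where the relative dimension is at most n is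
retrocompact in |X|. -/
theorem result {S : Scheme.{u}} {X Y : AlgSp.Space S} (f : X ⟶ Y)
    (hf : AlgSp.LocP @LocallyOfFinitePresentation f.hom) (n : ℕ) (V : Set (AlgSp.Points X.obj))
    (hV : IsOpen V) (hVc : IsCompact V) :
    IsCompact (V ∩ {x : AlgSp.Points X.obj |
      AlgSp.HasAtMor (fun _ _ h u => FlatMor.fibreDimAt h u ≤ (n : WithBot ℕ∞)) f.hom x}) := by
  obtain ⟨G⟩ := exists_goodChart f.hom (𝟙 Y.obj) X.property Y.property Y.property
  haveI hk : LocallyOfFinitePresentation G.k.left := hf G.a G.b G.k G.ha G.hb G.comm_f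
  have hL : ∀ u : G.U.left, AlgSp.HasAtMor (fun _ _ h u => FlatMor.fibreDimAt h u ≤ (n : WithBot ℕ∞))
      f.hom (Points.ofPt G.a u) ↔ FlatMor.fibreDimAt G.k.left u ≤ (n : WithBot ℕ∞) := fun u =>
    hasAtMor_iff_of_chart (etLocalPt_fibreDim (fun d => d ≤ (n : WithBot ℕ∞))) f.hom G.a G.b G.k
      G.ha G.hb G.comm_f u
  have hcont := Points.continuous_ofPt G.a
  have hopenmap := isOpenMap_ofPt_of_etale G.a G.ha
  have hsurj := surjective_ofPt_of_repWith_surjective G.a G.has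
  have hex : ∀ v : V, ∃ W : G.U.left.Opens, IsAffineOpen W ∧
      (W : Set G.U.left) ⊆ Points.ofPt G.a ⁻¹' V ∧
      (v : AlgSp.Points X.obj) ∈ Points.ofPt G.a '' (W : Set G.U.left) := by
    intro v
    obtain ⟨u, hu⟩ := hsurj v.1
    have hu' : u ∈ Points.ofPt G.a ⁻¹' V := by
      show Points.ofPt G.a u ∈ V
      rw [hu]; exact v.2
    obtain ⟨_, ⟨W, hW, rfl⟩, huW, hWV⟩ :=
      G.U.left.isBasis_affineOpens.exists_subset_of_mem_open hu' (hV.preimage hcont)
    exact ⟨W, hW, hWV, u, huW, hu⟩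
  choose W hWaff hWV hWv using hex
  obtain ⟨t, ht⟩ := hVc.elim_finite_subcover
    (fun v : V => Points.ofPt G.a '' (W v : Set G.U.left))
    (fun v => hopenmap _ (W v).2) (fun x hx => Set.mem_iUnion.2 ⟨⟨x, hx⟩, hWv _⟩)
  let K : Set G.U.left := ⋃ v ∈ t, (W v : Set G.U.left)
  have hKc : IsCompact K := t.isCompact_biUnion (fun v _ => (hWaff v).isCompact)
  have hKo : IsOpen K := isOpen_biUnion (fun v _ => (W v).2)
  have hret := Groth.Agent.S9355.result G.k.left n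
  have hc : IsCompact ({u : G.U.left | FlatMor.fibreDimAt G.k.left u ≤ (n : WithBot ℕ∞)} ∩ K) :=
    hret hKc hKo
  have himg : V ∩ {x : AlgSp.Points X.obj |
      AlgSp.HasAtMor (fun _ _ h u => FlatMor.fibreDimAt h u ≤ (n : WithBot ℕ∞)) f.hom x} =
      Points.ofPt G.a '' ({u : G.U.left | FlatMor.fibreDimAt G.k.left u ≤ (n : WithBot ℕ∞)} ∩ K) := by
    ext x
    constructor
    · rintro ⟨hxV, hxL⟩
      obtain ⟨v, hv, hxv⟩ := Set.mem_iUnion₂.1 (ht hxV)
      obtain ⟨u, huW, rfl⟩ := hxv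
      exact ⟨u, ⟨(hL u).1 hxL, Set.mem_iUnion₂.2 ⟨v, hv, huW⟩⟩, rfl⟩
    · rintro ⟨u, ⟨hu1, hu2⟩, rfl⟩
      obtain ⟨v, hv, huW⟩ := Set.mem_iUnion₂.1 hu2
      exact ⟨hWV v huW, (hL u).2 hu1⟩
  rw [himg]
  exact hc.image hcont

end Groth.Agent.S10309
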