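import Groth.Statements.S1031
-- import your own Groth.Agent.* helpers here

set_option autoImplicit false
universe v u
open CategoryTheory
open CohDer

namespace Groth.Agent.S1031

open Limits ObjectProperty Pretriangulated

section aux

variable {C : Type u} [Category.{v} C] [Preadditive C] [HasZeroObject C] [HasShift C ℤ]
  [∀ n : ℤ, (shiftFunctor C n).Additive] [Pretriangulated C]

lemma isClosedUnderBinaryProducts_of_pi (Q : ObjectProperty C) [Q.IsClosedUnderIsomorphisms]
    (h : ∀ (X : WalkingPair → C), (∀ j, Q (X j)) → Q (∏ᶜ X)) :
    Q.IsClosedUnderBinaryProducts where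
  limitsOfShape_le := by
    rintro Z ⟨p⟩
    have e : ∏ᶜ (fun j => p.diag.obj ⟨j⟩) ≅ Z :=
      IsLimit.conePointsIsoOfNatIso (limit.isLimit _) p.isLimit (Discrete.natIsoFunctor).symm
    exact Q.prop_of_iso e (h _ (fun j => p.prop_diag_obj ⟨j⟩))

lemma retractClosure_isClosedUnderBinaryProducts (P : ObjectProperty C)
    [P.IsClosedUnderBinaryProducts] : P.retractClosure.IsClosedUnderBinaryProducts := by
  apply isClosedUnderBinaryProducts_of_pi
  intro X hX
  choose Y hY r using hX
  refine ⟨∏ᶜ Y, P.prop_pi _ hY, ⟨?_⟩⟩
  exact
    { i := Limits.Pi.map (fun j => (r j).some.i)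
      r := Limits.Pi.map (fun j => (r j).some.r)
      retract := by
        rw [Limits.Pi.map_comp_map]
        simp }

lemma extensionProduct_isClosedUnderBinaryProducts (P Q : ObjectProperty C)
    [P.IsClosedUnderBinaryProducts] [Q.IsClosedUnderBinaryProducts] :
    (extensionProduct P Q).IsClosedUnderBinaryProducts := by
  apply isClosedUnderBinaryProducts_of_pi
  intro X hX
  choose Y Z f g h hT hP hQ using hX
  exact ⟨_, _, _, _, _, productTriangle_distinguished (fun j => Triangle.mk (f j) (g j) (h j)) hT,
    P.prop_pi _ hP, Q.prop_pi _ hQ⟩

lemma extensionProductIter_isClosedUnderBinaryProducts (P : ObjectProperty C)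
    [P.IsClosedUnderBinaryProducts] (n : ℕ) :
    (P.extensionProductIter n).IsClosedUnderBinaryProducts := by
  induction n with
  | zero => rwa [extensionProductIter_zero]
  | succ n ih =>
    rw [extensionProductIter_succ]
    exact extensionProduct_isClosedUnderBinaryProducts _ _

lemma triangEnvelopeIter_isClosedUnderBinaryProducts (P : ObjectProperty C) (n : ℕ) :
    (P.triangEnvelopeIter n).IsClosedUnderBinaryProducts := by
  have h1 : (P.shiftClosure ℤ).binaryProductsClosure.retractClosure.IsClosedUnderBinaryProducts :=
    retractClosure_isClosedUnderBinaryProducts _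
  have h2 := extensionProductIter_isClosedUnderBinaryProducts
    (P.shiftClosure ℤ).binaryProductsClosure.retractClosure n
  exact retractClosure_isClosedUnderBinaryProducts _

/-- If `P` is contained in the `m`-th envelope of `Q` (nonempty), then the zeroth envelope of `P`
is contained in the `m`-th envelope of `Q`. -/
lemma triangEnvelopeIter_zero_le {P Q : ObjectProperty C} [Q.Nonempty] {m : ℕ}
    (h : P ≤ Q.triangEnvelopeIter m) : P.triangEnvelopeIter 0 ≤ Q.triangEnvelopeIter m := by
  rw [triangEnvelopeIter_zero]
  have := triangEnvelopeIter_isClosedUnderBinaryProducts Q m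
  rw [retractClosure_le_iff, binaryProductsClosure_le_iff, shiftClosure_le_iff]
  exact h

lemma triangEnvelopeIter_le [IsTriangulated C] {P Q : ObjectProperty C} [Q.Nonempty] {m : ℕ}
    (h : P ≤ Q.triangEnvelopeIter m) (n : ℕ) :
    P.triangEnvelopeIter n ≤ Q.triangEnvelopeIter (n * (m + 1) + m) := by
  induction n with
  | zero => simpa using triangEnvelopeIter_zero_le h
  | succ n ih =>
    rw [triangEnvelopeIter_succ]
    have e : (n + 1) * (m + 1) + m = (m + 1) + (n * (m + 1) + m) := by ring
    rw [e, Q.triangEnvelopeIter_add (n := m + 1) (n' := m) rfl]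
    apply monotone_retractClosure
    rw [← triangEnvelopeIter_zero]
    exact (monotone_extensionProduct_left _ (triangEnvelopeIter_zero_le h)).trans
      (monotone_extensionProduct_right _ ih)

end aux

/-- Let D be a triangulated category admitting a strong generator G (every object is reached from G by
shifts, finite sums, summands and a uniformly bounded number of extensions). Then every classical
generator E of D (every object reached from E with some finite number of extensions) is itself a
strong generator. -/
theorem result {D : Type u} [Category.{v} D] [Preadditive D] [Limits.HasZeroObject D] [HasShift D ℤ]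
    [∀ n : ℤ, (shiftFunctor D n).Additive] [Pretriangulated D] [IsTriangulated D]
    (G E : D) (hG : ObjectProperty.IsStrongTriangulatedGenerator (fun X : D => X = G))
    (hE : ObjectProperty.IsClassicalTriangulatedGenerator (fun X : D => X = E)) :
    ObjectProperty.IsStrongTriangulatedGenerator (fun X : D => X = E) := by
  obtain ⟨n, hn⟩ := hG
  have hGE : ObjectProperty.triangEnvelope (fun X : D => X = E) G := by
    rw [isClassicalTriangulatedGenerator_iff] at hE
    rw [hE]; trivial
  rw [prop_triangEnvelope_iff] at hGE
  obtain ⟨m, hm⟩ := hGE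
  have : ObjectProperty.Nonempty (fun X : D => X = E) := ⟨E, rfl⟩
  have hle : (fun X : D => X = G) ≤ ObjectProperty.triangEnvelopeIter (fun X : D => X = E) m := by
    rintro X rfl
    exact hm
  refine ⟨n * (m + 1) + m, ?_⟩
  rw [eq_top_iff, ← hn]
  exact triangEnvelopeIter_le hle n

end Groth.Agent.S1031
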