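import Groth.Statements.S10310
import Groth.Agent.Lib.Helper31.AlgSpFibreDim
import Groth.Agent.Lib.Helper73.QFAt2

set_option autoImplicit false
universe u
open CategoryTheory CategoryTheory.Limits AlgebraicGeometry
open AlgSp

namespace Groth.Agent.S10310

open Groth.Agent.Lib.Helper31.AlgSpFlatAt Groth.Agent.Lib.Helper73.QFAt in

/-- A morphism locally of finite type is locally quasi-finite if and only if it has relative dimension 0
at every point. -/
theorem result {S : Scheme.{u}} {X Y : AlgSp.Space S} (f : X ⟶ Y)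
    (hf : AlgSp.LocP @LocallyOfFiniteType f.hom) :
    AlgSp.LocP (@LocallyQuasiFinite ⊓ @LocallyOfFiniteType) f.hom ↔
      ∀ x : AlgSp.Points X.obj, AlgSp.HasAtMor (fun _ _ h u => FlatMor.fibreDimAt h u = 0) f.hom x := by
  constructor
  · intro H x
    obtain ⟨U, V, a, b, h, u, ha, hb, comm, rfl⟩ := exists_chart_at f.hom X.property Y.property x
    have hh := H a b h ha hb comm
    haveI : LocallyQuasiFinite h.left := hh.1
    haveI : LocallyOfFiniteType h.left := hh.2
    exact ⟨U, V, a, b, h, u, ha, hb, comm, rfl,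
      (quasiFiniteAt_iff_fibreDimAt_eq_zero h.left u).1 (h.left.quasiFiniteAt u)⟩
  · intro H U V a b h ha hb comm
    haveI : LocallyOfFiniteType h.left := hf a b h ha hb comm
    refine ⟨locallyQuasiFinite_of_forall_quasiFiniteAt h.left fun u => ?_, inferInstance⟩
    rw [quasiFiniteAt_iff_fibreDimAt_eq_zero]
    exact (hasAtMor_fibreDim_iff_of_chart f.hom 0 a b h ha hb comm u).1 (H _)

end Groth.Agent.S10310
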