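import Groth.Statements.S10311
import Groth.Agent.Lib.Helper98.AlgSpFibreDimLocal

set_option autoImplicit false
universe u
open CategoryTheory CategoryTheory.Limits AlgebraicGeometry
open AlgSp

namespace Groth.Agent.S10311

open Groth.Agent.Lib.Helper31.AlgSpFlatAt Groth.Agent.Lib.Helper52 Groth.Agent.Lib.Helper51
  Groth.Agent.Lib.Helper98.AlgSpPtLocal Groth.Agent.Lib.Helper98.AlgSpFibreDimLocal in
/-- The relative dimension at a point of a morphism locally of finite type is preserved by base change. -/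
theorem result {S : Scheme.{u}} {X Y Y' X' : AlgSp.Space S} (f : X ⟶ Y) (g : Y' ⟶ Y)
    (g' : X' ⟶ X) (f' : X' ⟶ Y') (sq : IsPullback g'.hom f'.hom f.hom g.hom)
    (hf : AlgSp.LocP @LocallyOfFiniteType f.hom) (x' : AlgSp.Points X'.obj) (d : WithBot ℕ∞)
    (hd : AlgSp.HasAtMor (fun _ _ h u => FlatMor.fibreDimAt h u = d) f.hom (AlgSp.Points.map g'.hom x')) :
    AlgSp.HasAtMor (fun _ _ h u => FlatMor.fibreDimAt h u = d) f'.hom x' := by
  obtain ⟨G⟩ := exists_goodChart f.hom (𝟙 Y.obj) X.property Y.property Y.property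
  haveI hk : LocallyOfFiniteType G.k.left := hf G.a G.b G.k G.ha G.hb G.comm_f
  have sqY : IsPullback g.hom (𝟙 Y'.obj) (𝟙 Y.obj) g.hom := IsPullback.of_id_snd
  exact (hasAtMor_baseChange_iff (etLocalPt_fibreDim (fun e => e = d)) G
    (fun mU k'' mV sq' u'' => by
      show FlatMor.fibreDimAt k'' u'' = d ↔ FlatMor.fibreDimAt G.k.left (mU u'') = d
      rw [fibreDimAt_baseChange G.k.left mU k'' mV sq' u''])
    Y'.property g.hom f'.hom (𝟙 Y'.obj) g'.hom g.hom sqY sq x').2 hd

end Groth.Agent.S10311
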