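import Groth.Statements.S10312
import Groth.Agent.Lib.Helper98.AlgSpUnram
import Groth.Agent.Lib.Helper31.AlgSpWhere

set_option autoImplicit false
universe u
open CategoryTheory CategoryTheory.Limits AlgebraicGeometry
open AlgSp

namespace Groth.Agent.S10312

open Groth.Agent.Lib.Helper31.AlgSpFlatAt Groth.Agent.Lib.Helper52 Groth.Agent.Lib.Helper51
  Groth.Agent.Lib.Helper98.AlgSpPtLocal Groth.Agent.Lib.Helper98.AlgSpUnram in
/-- For X -> Y over Z with X -> Z locally of finite type, the locus where X -> Y is unramified is an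
open subset of |X| whose formation commutes with base change along any Z' -> Z. -/
theorem result {S : Scheme.{u}} {X Y Z Z' Y' X' : AlgSp.Space S} (f : X ⟶ Y)
    (p : X ⟶ Z) (q : Y ⟶ Z) (comm : f ≫ q = p) (hp : AlgSp.LocP @LocallyOfFiniteType p.hom) (g : Z' ⟶ Z)
    (a : Y' ⟶ Y) (q' : Y' ⟶ Z') (sq1 : IsPullback a.hom q'.hom q.hom g.hom)
    (b : X' ⟶ X) (f' : X' ⟶ Y') (sq2 : IsPullback b.hom f'.hom f.hom a.hom) :
    IsOpen {x : AlgSp.Points X.obj | AlgSp.HasAtMor (fun U _ h u => ∃ W : U.Opens, u ∈ W ∧ LocallyOfFiniteType (W.ι ≫ h) ∧ FormallyUnramified (W.ι ≫ h)) f.hom x} ∧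
    {x' : AlgSp.Points X'.obj | AlgSp.HasAtMor (fun U _ h u => ∃ W : U.Opens, u ∈ W ∧ LocallyOfFiniteType (W.ι ≫ h) ∧ FormallyUnramified (W.ι ≫ h)) f'.hom x'} =
      AlgSp.Points.map b.hom ⁻¹' {x : AlgSp.Points X.obj | AlgSp.HasAtMor (fun U _ h u => ∃ W : U.Opens, u ∈ W ∧ LocallyOfFiniteType (W.ι ≫ h) ∧ FormallyUnramified (W.ι ≫ h)) f.hom x} := by
  subst comm
  obtain ⟨G⟩ := exists_goodChart f.hom q.hom X.property Y.property Z.property
  have hkl : LocallyOfFiniteType (G.k.left ≫ G.l.left) :=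
    hp G.a G.c (G.k ≫ G.l) G.ha G.hc G.comm_fh
  haveI : LocallyOfFiniteType G.k.left := locallyOfFiniteType_of_comp G.k.left G.l.left
  constructor
  · exact isOpen_hasAtMor etLocalPt_unrNear G (isOpen_unrNear _)
  · ext x'
    exact hasAtMor_baseChange_iff etLocalPt_unrNear G
      (fun mU k'' mV sq u'' => unrNear_baseChange_iff G.k.left mU k'' mV sq u'')
      Z'.property g.hom f'.hom q'.hom b.hom a.hom sq1 sq2 x'

end Groth.Agent.S10312
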