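import Groth.Statements.S10313
import Groth.Agent.Lib.Helper98.AlgSpLqf

set_option autoImplicit false
universe u
open CategoryTheory CategoryTheory.Limits AlgebraicGeometry
open AlgSp

namespace Groth.Agent.S10313

open Groth.Agent.Lib.Helper31.AlgSpFlatAt Groth.Agent.Lib.Helper52 Groth.Agent.Lib.Helper51
  Groth.Agent.Lib.Helper98.AlgSpPtLocal Groth.Agent.Lib.Helper98.AlgSpLqf
  Groth.Agent.Lib.Helper98.AlgSpFibreDimLocal in
/-- For f locally of finite type there is an open subspace of X on which f is locally quasi-finite,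
outside of which the relative dimension is at least 1, and whose formation commutes with base
change. -/
theorem result {S : Scheme.{u}} {X Y : AlgSp.Space S} (f : X ⟶ Y)
    (hf : AlgSp.LocP @LocallyOfFiniteType f.hom) :
    ∃ (X' : AlgSp.Space S) (j : X' ⟶ X), AlgSp.RepWith @IsOpenImmersion j.hom ∧
      AlgSp.LocP (@LocallyQuasiFinite ⊓ @LocallyOfFiniteType) (j ≫ f).hom ∧
      (∀ x : AlgSp.Points X.obj, x ∉ Set.range (AlgSp.Points.map j.hom) →
        AlgSp.HasAtMor (fun _ _ h u => 1 ≤ FlatMor.fibreDimAt h u) f.hom x) ∧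
      ∀ (Y'' X'' : AlgSp.Space S) (g : Y'' ⟶ Y) (b : X'' ⟶ X) (f'' : X'' ⟶ Y''),
        IsPullback b.hom f''.hom f.hom g.hom → ∀ x'' : AlgSp.Points X''.obj,
          AlgSp.Points.map b.hom x'' ∈ Set.range (AlgSp.Points.map j.hom) ↔ AlgSp.HasAtMor (fun U _ h u => ∃ W : U.Opens, u ∈ W ∧ LocallyQuasiFinite (W.ι ≫ h) ∧ LocallyOfFiniteType (W.ι ≫ h)) f''.hom x'' := by
  obtain ⟨G⟩ := exists_goodChart f.hom (𝟙 Y.obj) X.property Y.property Y.property
  haveI : LocallyOfFiniteType G.k.left := hf G.a G.b G.k G.ha G.hb G.comm_f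
  obtain ⟨X', j, hj, hrange, hlqf⟩ := exists_lqf_open f
  refine ⟨X', j, hj, hlqf, ?_, ?_⟩
  · intro x hx
    rw [hrange] at hx
    exact hasAtMor_one_le_of_not_lqfNear X.property Y.property f.hom hf x hx
  · intro Y'' X'' g b f'' sq x''
    rw [hrange]
    exact (hasAtMor_baseChange_iff etLocalPt_lqfNear G
      (fun mU k'' mV sq u'' => lqfNear_baseChange_iff G.k.left mU k'' mV sq u'')
      Y''.property g.hom f''.hom (𝟙 Y''.obj) b.hom g.hom IsPullback.of_id_snd sq x'').symm

end Groth.Agent.S10313
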