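import Groth.Statements.S10314
import Groth.Agent.Lib.Helper98.AlgSpLocalDim

set_option autoImplicit false
universe u
open CategoryTheory CategoryTheory.Limits AlgebraicGeometry
open AlgSp

namespace Groth.Agent.S10314

open Groth.Agent.Lib.Helper31.AlgSpFlatAt Groth.Agent.Lib.Helper52 Groth.Agent.Lib.Helper51
  Groth.Agent.Lib.Helper98.AlgSpPtLocal Groth.Agent.Lib.Helper98.AlgSpFibreDimLocal
  Groth.Agent.Lib.Helper98.AlgSpLocalDim in
/-- For a flat morphism locally of finite type of relative dimension d between locally Noetherian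
algebraic spaces, the dimension of X at a point equals the dimension of Y at the image point plus d. -/
theorem result {S : Scheme.{u}} {X Y : AlgSp.Space S} (f : X ⟶ Y)
    (hX : AlgSp.IsLocNoethSp X.obj) (hY : AlgSp.IsLocNoethSp Y.obj) (hf : AlgSp.LocP @Flat f.hom)
    (hf' : AlgSp.LocP @LocallyOfFiniteType f.hom) (d : ℕ)
    (hd : ∀ x : AlgSp.Points X.obj, AlgSp.HasAtMor (fun _ _ h u => FlatMor.fibreDimAt h u = (d : WithBot ℕ∞)) f.hom x)
    (x : AlgSp.Points X.obj) (dX dY : WithBot ℕ∞) (hx : AlgSp.HasAt (fun U u => FlatMor.localDim ↥U u = dX) X.obj x)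
    (hy : AlgSp.HasAt (fun U u => FlatMor.localDim ↥U u = dY) Y.obj (AlgSp.Points.map f.hom x)) :
    dX = dY + (d : WithBot ℕ∞) := by
  obtain ⟨G⟩ := exists_goodChart f.hom (𝟙 Y.obj) X.property Y.property Y.property
  haveI : LocallyOfFiniteType G.k.left := hf' G.a G.b G.k G.ha G.hb G.comm_f
  haveI : Flat G.k.left := hf G.a G.b G.k G.ha G.hb G.comm_f
  haveI : IsLocallyNoetherian G.U.left := Groth.Agent.Lib.Helper31.AlgSpFibFlat.isLocallyNoetherian_of_etale_chart hX G.a G.ha
  haveI : IsLocallyNoetherian G.V.left := Groth.Agent.Lib.Helper31.AlgSpFibFlat.isLocallyNoetherian_of_etale_chart hY G.b G.hb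
  have hdk : ∀ u : G.U.left, FlatMor.fibreDimAt G.k.left u = d := fun u =>
    (hasAtMor_iff_of_chart (etLocalPt_fibreDim (fun e => e = (d : WithBot ℕ∞))) f.hom G.a G.b G.k
      G.ha G.hb G.comm_f u).1 (hd _)
  obtain ⟨u, rfl⟩ := surjective_ofPt_of_repWith_surjective G.a G.has x
  have h1 : FlatMor.localDim G.U.left u = dX :=
    (Groth.Agent.Lib.Helper51.DimCharts.hasAt_iff_forall (fun U u => FlatMor.localDim U u)
      (fun φ _ w => Groth.Agent.Lib.Helper51.Coheight.localDim_eq_of_etale φ w) X.property _ dX).1 hx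
      G.U G.a u G.ha rfl
  have hy' : AlgSp.Points.ofPt G.b (G.k.left u) = AlgSp.Points.map f.hom (AlgSp.Points.ofPt G.a u) := by
    rw [Points.map_ofPt, G.comm_f]
    exact (ofPt_yon_map_comp G.k G.b u).symm
  have h2 : FlatMor.localDim G.V.left (G.k.left u) = dY :=
    (Groth.Agent.Lib.Helper51.DimCharts.hasAt_iff_forall (fun U u => FlatMor.localDim U u)
      (fun φ _ w => Groth.Agent.Lib.Helper51.Coheight.localDim_eq_of_etale φ w) Y.property _ dY).1 hy
      G.V G.b (G.k.left u) G.hb hy'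
  rw [← h1, ← h2]
  exact localDim_eq_add_of_flat_fibreDimAt G.k.left d hdk u

end Groth.Agent.S10314
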