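import Groth.Statements.S10320
import Groth.Agent.Lib.Helper31.AlgSpResTrdegPt

set_option autoImplicit false
universe u
open CategoryTheory CategoryTheory.Limits AlgebraicGeometry
open AlgSp

namespace Groth.Agent.S10320

open Groth.Agent.Lib.Helper98.AlgSpPtLocal Groth.Agent.Lib.Helper51.ResTrdeg
  Groth.Agent.Lib.Helper21.FieldDim

open Groth.Agent.Lib.Helper31.AlgSpFlatAt in

/-- For f locally of finite type, the relative dimension of f at x equals the dimension of the local
ring of the fibre at x plus the transcendence degree of x over its image. -/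
theorem result {S : Scheme.{u}} {X Y : AlgSp.Space S} (f : X ⟶ Y)
    (hf : AlgSp.LocP @LocallyOfFiniteType f.hom) (x : AlgSp.Points X.obj) (d e : WithBot ℕ∞) (r : Cardinal.{u})
    (hd : AlgSp.HasAtMor (fun _ _ h u => FlatMor.fibreDimAt h u = d) f.hom x)
    (he : AlgSp.HasAtMor (fun _ _ h u => ringKrullDim ↥((h.fiber (h u)).presheaf.stalk (h.asFiber u)) = e) f.hom x)
    (hr : AlgSp.HasAtMor (fun _ _ h u => Dual3.resTrdeg h u = r) f.hom x) :
    d = e + ((Cardinal.toENat r : ℕ∞) : WithBot ℕ∞) := by
  obtain ⟨U, V, a, b, h, u, ha, hb, comm, rfl, hed⟩ := he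
  haveI : LocallyOfFiniteType h.left := hf a b h ha hb comm
  have h1 := (hasAtMor_fibreDim_iff_of_chart f.hom d a b h ha hb comm u).1 hd
  have h2 := (hasAtMor_iff_of_chart (etLocalPt_resTrdeg (fun t => t = r)) f.hom a b h ha hb comm
    u).1 hr
  rw [← h1, ← hed, ← h2]
  exact fibreDimAt_eq_stalk_add_resTrdeg h.left u

end Groth.Agent.S10320
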