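import Groth.Statements.S10321
import Groth.Agent.Lib.Helper30.AlgSpZMT3
-- import your own Groth.Agent.* helpers here

set_option autoImplicit false
universe u
open CategoryTheory CategoryTheory.Limits AlgebraicGeometry
open AlgSp

namespace Groth.Agent.S10321

set_option maxHeartbeats 800000
set_option backward.isDefEq.respectTransparency false
open Groth.Agent.Lib.Helper30.ZMT Groth.Agent.Lib.Helper51 Groth.Agent.Lib.Helper52
open Groth.Agent.Lib.Helper78.AlgSpBasic

/-- Let X be separated and locally quasi-finite over an affine scheme T, let T' -> T be etale with T'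
affine, and let V' be an open subspace of T' ×_T X that is quasi-affine over T'. Then V' maps onto a
quasi-compact open subspace of X that is itself a scheme. -/
theorem result {S : Scheme.{u}} {T T' : Over S} [IsAffine T.left]
    [IsAffine T'.left] (e : T' ⟶ T) [Etale e.left] {X P V' : AlgSp.Space S} (f : X ⟶ (AlgSp.ofScheme S).obj T)
    (hsep : AlgSp.IsSeparatedMor f.hom) (hqf : AlgSp.LocP (@LocallyQuasiFinite ⊓ @LocallyOfFiniteType) f.hom)
    (p1 : P ⟶ (AlgSp.ofScheme S).obj T') (p2 : P ⟶ X)
    (sq : IsPullback p2.hom p1.hom f.hom ((AlgSp.yon S).map e)) (j : V' ⟶ P)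
    (hj : AlgSp.RepWith @IsOpenImmersion j.hom) (hqa : AlgSp.IsQuasiAffineMor (j ≫ p1).hom) :
    ∃ (W : Over S) (i : (AlgSp.yon S).obj W ⟶ X.obj), AlgSp.RepWith @IsOpenImmersion i ∧ CompactSpace ↥W.left ∧
      Set.range (AlgSp.Points.map i) = Set.range (AlgSp.Points.map (j ≫ p2).hom) := by
  obtain ⟨W₀, i₀, fst, sqq, hqaff⟩ := hqa (Z := T') inferInstance (𝟙 _)
  have hfst : IsIso fst := sqq.isIso_fst_of_isIso
  have hj' : AlgSp.RepWith @IsOpenImmersion (fst ≫ j.hom) :=
    (AlgSp.RepWith @IsOpenImmersion).comp_mem _ _ (repWith_of_isIso _ fst) hj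
  have hsub := range_subset_schematicLocus_of_etale e X.property f.hom hsep hqf p1.hom p2.hom sq
    (fst ≫ j.hom) hj'
  have hjp2 : AlgSp.RepWith @Etale ((fst ≫ j.hom) ≫ p2.hom) := by
    have h1 : AlgSp.RepWith @Etale (fst ≫ j.hom) := repWith_etale_of_isOpenImmersion' _ hj'
    have h2 : AlgSp.RepWith @Etale p2.hom :=
      MorphismProperty.of_isPullback sq.flip
        ((AlgSp.repWith_yon_map_iff @Etale e).2 inferInstance)
    exact (AlgSp.RepWith @Etale).comp_mem _ _ h1 h2
  have hOopen : IsOpen (Set.range (Points.map ((fst ≫ j.hom) ≫ p2.hom))) := by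
    rw [range_map_eq_range_ofPt]
    exact (isOpenMap_ofPt_of_etale _ hjp2).isOpen_range
  obtain ⟨W, i, hi, hrange⟩ :=
    exists_open_subscheme_of_subset_schematicLocus X.property _ hOopen hsub
  have hmono : Mono i := mono_of_repWith (fun g (_ : IsOpenImmersion g) => inferInstance) hi
  obtain ⟨g, hg⟩ := exists_factor_of_range_subset i hi ((fst ≫ j.hom) ≫ p2.hom)
    (by rw [hrange])
  obtain ⟨h, rfl⟩ := (AlgSp.yon S).map_surjective g
  have hsurj : Function.Surjective h.left :=
    surjective_of_range_eq i h (by rw [hg, hrange])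
  refine ⟨W, i, hi, ?_, ?_⟩
  · have : CompactSpace ↥W₀.left := hqaff.toCompactSpace
    exact hsurj.compactSpace h.left.continuous
  · rw [hrange]
    ext x
    constructor
    · rintro ⟨v, rfl⟩
      refine ⟨Points.map fst v, ?_⟩
      rw [← Points.map_comp]
      rfl
    · rintro ⟨v, rfl⟩
      refine ⟨Points.map (inv fst) v, ?_⟩
      rw [← Points.map_comp, ← Category.assoc, ← Category.assoc, IsIso.inv_hom_id,
        Category.id_comp]
      rfl

end Groth.Agent.S10321
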