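import Groth.Statements.S10323
import Groth.Agent.Lib.Helper31.AlgSpDimFormula

set_option autoImplicit false
universe u
open CategoryTheory CategoryTheory.Limits AlgebraicGeometry
open AlgSp

namespace Groth.Agent.S10323

open Groth.Agent.Lib.Helper31.AlgSpFlatAt Groth.Agent.Lib.Helper98.AlgSpPtLocal
  Groth.Agent.Lib.Helper52 Groth.Agent.Lib.Helper51 Groth.Agent.Lib.Helper78.HasAtEt in

/-- For Y locally Noetherian and f locally of finite type, the dimension of the local ring of X at x is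
at most the dimension of the local ring of Y at the image point plus E minus the transcendence
degree of x over its image, where E bounds the transcendence degrees of the codimension-0 points
specializing to x. -/
theorem result {S : Scheme.{u}} {X Y : AlgSp.Space S} (f : X ⟶ Y)
    (hY : AlgSp.IsLocNoethSp Y.obj) (hf : AlgSp.LocP @LocallyOfFiniteType f.hom) (x : AlgSp.Points X.obj)
    (E : Cardinal.{u})
    (hE : ∀ ξ : AlgSp.Points X.obj, ξ ⤳ x → AlgSp.HasAt (fun U u => ringKrullDim ↥(U.presheaf.stalk u) = 0) X.obj ξ →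
      ∀ s : Cardinal.{u}, AlgSp.HasAtMor (fun _ _ h u => Dual3.resTrdeg h u = s) f.hom ξ → s ≤ E)
    (a b : WithBot ℕ∞) (r : Cardinal.{u})
    (ha : AlgSp.HasAt (fun U u => ringKrullDim ↥(U.presheaf.stalk u) = a) X.obj x)
    (hb : AlgSp.HasAt (fun U u => ringKrullDim ↥(U.presheaf.stalk u) = b) Y.obj (AlgSp.Points.map f.hom x))
    (hr : AlgSp.HasAtMor (fun _ _ h u => Dual3.resTrdeg h u = r) f.hom x) :
    a + ((Cardinal.toENat r : ℕ∞) : WithBot ℕ∞) ≤ b + ((Cardinal.toENat E : ℕ∞) : WithBot ℕ∞) := by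
  obtain ⟨U, V, a₀, b₀, h, u, ha₀, hb₀, comm, rfl⟩ := exists_chart_at f.hom X.property Y.property x
  have Ha : ringKrullDim ↥(U.left.presheaf.stalk u) = a := by
    obtain ⟨U', a', u', ha', hu', hq⟩ := ha
    exact (iff_of_ofPt_eq (etInv_ringKrullDim a) a' ha' a₀ ha₀ u' u hu').1 hq
  have hfx : Points.map f.hom (Points.ofPt a₀ u) = Points.ofPt b₀ (h.left u) := by
    rw [Points.map_ofPt, comm, ofPt_yon_map_comp]
  have Hb : ringKrullDim ↥(V.left.presheaf.stalk (h.left u)) = b := by
    rw [hfx] at hb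
    obtain ⟨V', b', v', hb', hv', hq⟩ := hb
    exact (iff_of_ofPt_eq (etInv_ringKrullDim b) b' hb' b₀ hb₀ v' (h.left u) hv').1 hq
  have Hr : Dual3.resTrdeg h.left u = r :=
    (hasAtMor_iff_of_chart (etLocalPt_resTrdeg (fun t => t = r)) f.hom a₀ b₀ h ha₀ hb₀ comm u).1 hr
  rw [← Ha, ← Hb, ← Hr]
  exact dimension_formula_chart f.hom hY hf a₀ b₀ h ha₀ hb₀ comm u E hE

end Groth.Agent.S10323
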