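import Groth.Statements.S10324
import Groth.Agent.Lib.Helper31.AlgSpDimFormula

set_option autoImplicit false
universe u
open CategoryTheory CategoryTheory.Limits AlgebraicGeometry
open AlgSp

namespace Groth.Agent.S10324

open Groth.Agent.Lib.Helper31.AlgSpFlatAt Groth.Agent.Lib.Helper98.AlgSpPtLocal
  Groth.Agent.Lib.Helper52 Groth.Agent.Lib.Helper51 Groth.Agent.Lib.Helper78.HasAtEt in

/-- For Y locally Noetherian and f : X -> Y locally of finite type, dim X ≤ dim Y + E where E bounds the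
transcendence degrees over Y of the codimension-0 points of X. -/
theorem result {S : Scheme.{u}} {X Y : AlgSp.Space S} (f : X ⟶ Y)
    (hY : AlgSp.IsLocNoethSp Y.obj) (hf : AlgSp.LocP @LocallyOfFiniteType f.hom) (E : Cardinal.{u})
    (hE : ∀ ξ : AlgSp.Points X.obj, AlgSp.HasAt (fun U u => ringKrullDim ↥(U.presheaf.stalk u) = 0) X.obj ξ → ∀ s : Cardinal.{u}, AlgSp.HasAtMor (fun _ _ h u => Dual3.resTrdeg h u = s) f.hom ξ → s ≤ E) :
    AlgSp.dim X.obj ≤ AlgSp.dim Y.obj + ((Cardinal.toENat E : ℕ∞) : WithBot ℕ∞) := by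
  unfold AlgSp.dim
  refine iSup_le fun U => iSup_le fun a => iSup_le fun ha => ?_
  obtain ⟨V₀, b₀, hb₀, hb₀s⟩ := Y.property.atlas
  obtain ⟨W, φ, ψ, sq⟩ := exists_isPullback_of_representable hb₀.1 (a ≫ f.hom)
  haveI hψe : Etale ψ.left := hb₀.2 (a ≫ f.hom) _ ψ sq
  haveI hψs : Surjective ψ.left := hb₀s.2 (a ≫ f.hom) _ ψ sq
  have hae : RepWith @Etale ((yon S).map ψ ≫ a) :=
    (RepWith (S := S) @Etale).comp_mem _ _ ((repWith_yon_map_iff _ _).2 hψe) ha
  have comm : ((yon S).map ψ ≫ a) ≫ f.hom = (yon S).map φ ≫ b₀ := by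
    rw [Category.assoc]; exact sq.w.symm
  rw [← Groth.Agent.Lib.Helper78.EtaleDim.topologicalKrullDim_eq_of_etale_surjective ψ.left,
    Groth.Agent.Lib.Helper78.EtaleDim.topologicalKrullDim_eq_iSup]
  refine iSup_le fun w => ?_
  have key := dimension_formula_chart f.hom hY hf ((yon S).map ψ ≫ a) b₀ φ hae hb₀ comm w E
    (fun ξ _ h2 s h3 => hE ξ h2 s h3)
  have h1 : ringKrullDim ↥(W.left.presheaf.stalk w) ≤
      ringKrullDim ↥(W.left.presheaf.stalk w) +
        ((Cardinal.toENat (Dual3.resTrdeg φ.left w) : ℕ∞) : WithBot ℕ∞) := by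
    have h0 : (0 : WithBot ℕ∞) ≤ ((Cardinal.toENat (Dual3.resTrdeg φ.left w) : ℕ∞) : WithBot ℕ∞) :=
      WithBot.coe_le_coe.mpr zero_le
    calc ringKrullDim ↥(W.left.presheaf.stalk w) = ringKrullDim ↥(W.left.presheaf.stalk w) + 0 :=
          (add_zero _).symm
      _ ≤ _ := by gcongr
  refine h1.trans (key.trans ?_)
  gcongr
  have h2 : ringKrullDim ↥(V₀.left.presheaf.stalk (φ.left w)) ≤ topologicalKrullDim ↥V₀.left := by
    rw [Groth.Agent.Lib.Helper78.EtaleDim.topologicalKrullDim_eq_iSup]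
    exact le_iSup (fun x : V₀.left => ringKrullDim (V₀.left.presheaf.stalk x)) (φ.left w)
  refine h2.trans ?_
  exact le_iSup_of_le V₀ (le_iSup_of_le b₀ (le_iSup_of_le hb₀ le_rfl))

end Groth.Agent.S10324
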