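import Groth.Statements.S10325
import Groth.Agent.Lib.Helper78.AlgSpCoprod5
import Groth.Agent.Lib.Helper78.FinSigma

set_option autoImplicit false
universe u
open CategoryTheory CategoryTheory.Limits AlgebraicGeometry
open AlgSp

namespace Groth.Agent.S10325

/-- A finite disjoint union of algebraic spaces finite over Y is finite over Y. -/
theorem result {S : Scheme.{u}} {n : ℕ} (X : Fin n → AlgSp.Space S) (Y : AlgSp.Space S)
    (g : ∀ i, X i ⟶ Y) (hg : ∀ i, AlgSp.IsFiniteMor (g i).hom) (c : Cofan fun i => (X i).obj) (hc : IsColimit c)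
    (d : c.pt ⟶ Y.obj) (hd : ∀ i, c.inj i ≫ d = (g i).hom) : AlgSp.IsFiniteMor d := by
  intro Z hZ z
  choose W k fst sq haff hfin using fun i => hg i hZ z
  have sq' : ∀ i, IsPullback (fst i) ((AlgSp.yon S).map (k i)) (c.inj i ≫ d) z := fun i => by
    rw [hd i]; exact sq i
  obtain ⟨fstW, -, hpb⟩ :=
    Groth.Agent.Lib.Helper78.AlgSpCoprod.exists_isPullback_of_cofan hc d z W k fst sq'
  refine ⟨Groth.Agent.Lib.Helper78.AlgSpCoprod.sigmaOver W,
    Groth.Agent.Lib.Helper78.AlgSpCoprod.sigmaOverDesc W k, fstW, hpb, ?_, ?_⟩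
  · change IsAffine (∐ fun i => (W i).left)
    infer_instance
  · change IsFinite (Sigma.desc fun i => (k i).left)
    exact Groth.Agent.Lib.Helper78.FinSigma.isFinite_sigmaDesc_fin _ _ hfin

end Groth.Agent.S10325
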