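import Groth.Statements.S10326
import Groth.Agent.Lib.Helper78.AlgSpNoethDesc
-- import your own Groth.Agent.* helpers here

set_option autoImplicit false
universe u
open CategoryTheory CategoryTheory.Limits AlgebraicGeometry
open AlgSp

namespace Groth.Agent.S10326


/-- Every scheme etale over a locally Noetherian algebraic space has quasi-compact opens with finitely
many irreducible components. -/
theorem result {S : Scheme.{u}} (X : AlgSp.Space S)
    (hX : AlgSp.IsLocNoethSp X.obj) (U : Over S) (a : (AlgSp.yon S).obj U ⟶ X.obj) (ha : AlgSp.RepWith @Etale a)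
    (W : U.left.Opens) (hW : IsCompact (W : Set ↥U.left)) : (irreducibleComponents ↥W).Finite := by
  obtain ⟨V, b, hb, hbs, hV⟩ := hX
  have hr := ha.rep
  have sq := hr.isPullback b
  -- `snd : P ⟶ V` étale, `fst : h_P ⟶ h_U` étale surjective
  have hsnd : Etale (hr.snd b).left := ha.property_snd b
  obtain ⟨k, hk⟩ := (AlgSp.yon S).map_surjective (hr.fst b)
  have sq' : IsPullback ((AlgSp.yon S).map k) ((AlgSp.yon S).map (hr.snd b)) a b := by
    rw [hk]; exact sq
  have hke : Etale k.left := hb.2 a _ _ sq'.flip
  have hks : Surjective k.left := hbs.2 a _ _ sq'.flip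
  have : IsLocallyNoetherian V.left := hV
  have : IsLocallyNoetherian (hr.pullback b).left :=
    LocallyOfFiniteType.isLocallyNoetherian (hr.snd b).left
  have hU : IsLocallyNoetherian U.left :=
    Groth.Agent.Lib.Helper78.AlgSpNoethDesc.isLocallyNoetherian_of_fppf_surjective k.left
  have : CompactSpace ↥(W : Scheme.{u}) := isCompact_iff_compactSpace.mp hW
  have : AlgebraicGeometry.IsNoetherian (W : Scheme.{u}) := ⟨⟩
  exact finite_irreducibleComponents_of_isNoetherian (X := (W : Scheme.{u}))

end Groth.Agent.S10326
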