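import Groth.Statements.S10328
import Groth.Agent.S9354
import Groth.Agent.Lib.Helper31.AlgSpFibreDim

set_option autoImplicit false
universe u
open CategoryTheory CategoryTheory.Limits AlgebraicGeometry
open AlgSp

namespace Groth.Agent.S10328

open Groth.Agent.Lib.Helper31.AlgSpFlatAt Groth.Agent.Lib.Helper52 Groth.Agent.Lib.Helper51 in

/-- The relative dimension of a composite at a point is at most the sum of the relative dimensions, with
equality when the first morphism is flat at the point. (The published part (2) allows more generally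
flatness of a fibre of X -> Y over a field point of Z; only the case f flat at x is stated.) -/
theorem result {S : Scheme.{u}} {X Y Z : AlgSp.Space S} (f : X ⟶ Y) (g : Y ⟶ Z)
    (hf : AlgSp.LocP @LocallyOfFiniteType f.hom) (hg : AlgSp.LocP @LocallyOfFiniteType g.hom)
    (x : AlgSp.Points X.obj) (a b : WithBot ℕ∞)
    (ha : AlgSp.HasAtMor (fun _ _ h u => FlatMor.fibreDimAt h u = a) f.hom x)
    (hb : AlgSp.HasAtMor (fun _ _ h u => FlatMor.fibreDimAt h u = b) g.hom (AlgSp.Points.map f.hom x)) :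
    AlgSp.HasAtMor (fun _ _ h u => FlatMor.fibreDimAt h u ≤ a + b) (f ≫ g).hom x ∧
    (AlgSp.IsFlatAtMor f.hom x → AlgSp.HasAtMor (fun _ _ h u => FlatMor.fibreDimAt h u = a + b) (f ≫ g).hom x) := by
  obtain ⟨G⟩ := exists_goodChart f.hom g.hom X.property Y.property Z.property
  obtain ⟨u, rfl⟩ := surjective_ofPt_of_repWith_surjective G.a G.has x
  haveI : LocallyOfFiniteType G.k.left := hf G.a G.b G.k G.ha G.hb G.comm_f
  haveI : LocallyOfFiniteType G.l.left := hg G.b G.c G.l G.hb G.hc G.comm_h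
  have Ha := (hasAtMor_fibreDim_iff_of_chart f.hom a G.a G.b G.k G.ha G.hb G.comm_f u).1 ha
  have hfx : Points.map f.hom (Points.ofPt G.a u) = Points.ofPt G.b (G.k.left u) := by
    rw [Points.map_ofPt, G.comm_f, ofPt_yon_map_comp]
  rw [hfx] at hb
  have Hb := (hasAtMor_fibreDim_iff_of_chart g.hom b G.b G.c G.l G.hb G.hc G.comm_h _).1 hb
  have key := Groth.Agent.S9354.result G.k.left G.l.left u
  have Hb' : FlatMor.fibreDimAt G.l.left (G.k.left.base u) = b := Hb
  rw [Ha, Hb'] at key
  refine ⟨⟨G.U, G.W, G.a, G.c, G.k ≫ G.l, u, G.ha, G.hc, G.comm_fh, rfl, key.1⟩, fun hfl => ?_⟩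
  have hfl' : FlatAt G.k.left u :=
    (isFlatAtMor_iff_of_chart f.hom G.a G.b G.k G.ha G.hb G.comm_f u).1 hfl
  exact ⟨G.U, G.W, G.a, G.c, G.k ≫ G.l, u, G.ha, G.hc, G.comm_fh, rfl, key.2 hfl'⟩

end Groth.Agent.S10328
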