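import Groth.Statements.S10329
import Groth.Agent.Lib.Helper98.AlgSpLqf

set_option autoImplicit false
universe u
open CategoryTheory CategoryTheory.Limits AlgebraicGeometry
open AlgSp

namespace Groth.Agent.S10329

open Groth.Agent.Lib.Helper31.AlgSpFlatAt Groth.Agent.Lib.Helper52 Groth.Agent.Lib.Helper51
  Groth.Agent.Lib.Helper98.AlgSpPtLocal Groth.Agent.Lib.Helper98.AlgSpLqf
  Groth.Agent.Lib.Helper98.AlgSpFibreDimLocal in
/-- If the fibre of a morphism locally of finite type has dimension 0 at a point, then the morphism is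
locally quasi-finite on some open subspace containing the image of that point. -/
theorem result {S : Scheme.{u}} {X Y F : AlgSp.Space S} (f : X ⟶ Y)
    (hf : AlgSp.LocP @LocallyOfFiniteType f.hom) (k : Type u) [Field k] (str : Spec (.of k) ⟶ S)
    (y : (AlgSp.yon S).obj (Over.mk str) ⟶ Y.obj) (p : F ⟶ X) (q : F.obj ⟶ (AlgSp.yon S).obj (Over.mk str))
    (sq : IsPullback p.hom q f.hom y) (z : AlgSp.Points F.obj)
    (hz : AlgSp.HasAt (fun U u => FlatMor.localDim ↥U u = 0) F.obj z) :
    ∃ (X' : AlgSp.Space S) (j : X' ⟶ X), AlgSp.RepWith @IsOpenImmersion j.hom ∧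
      AlgSp.Points.map p.hom z ∈ Set.range (AlgSp.Points.map j.hom) ∧
      AlgSp.LocP (@LocallyQuasiFinite ⊓ @LocallyOfFiniteType) (j ≫ f).hom := by
  obtain ⟨G⟩ := exists_goodChart f.hom (𝟙 Y.obj) X.property Y.property Y.property
  haveI : LocallyOfFiniteType G.k.left := hf G.a G.b G.k G.ha G.hb G.comm_f
  obtain ⟨X', j, hj, hrange, hlqf⟩ := exists_lqf_open f
  refine ⟨X', j, hj, ?_, hlqf⟩
  rw [hrange]
  show HasAtMor LqfNear f.hom (Points.map p.hom z)
  rw [hasAtMor_lqfNear_iff_fibreDim f.hom hf]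
  have key := hasAtMor_baseChange_iff (Q := fun _ _ h u => FlatMor.fibreDimAt h u = 0)
    (etLocalPt_fibreDim (fun d => d = 0)) G
    (fun mU k'' mV sq u'' => by rw [fibreDimAt_baseChange G.k.left mU k'' mV sq u''])
    (IsAlgSpace.yon_obj (Over.mk str)) y q (𝟙 _) p.hom y IsPullback.of_id_snd sq z
  refine key.1 ?_
  obtain ⟨U, a, u, ha, rfl, hd⟩ := hz
  let h : U ⟶ Over.mk str := (yon S).preimage (a ≫ q)
  have hh : (yon S).map h = a ≫ q := (yon S).map_preimage _
  refine ⟨U, Over.mk str, a, 𝟙 _, h, u, ha, ?_, ?_, rfl, ?_⟩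
  · rw [← (yon S).map_id]; exact (repWith_yon_map_iff _ _).2 (by dsimp; infer_instance)
  · rw [hh, Category.comp_id]
  · show FlatMor.fibreDimAt h.left u = 0
    haveI : Subsingleton ↥(Over.mk str).left := inferInstanceAs (Subsingleton (PrimeSpectrum k))
    rw [fibreDimAt_eq_localDim_of_subsingleton]; exact hd

end Groth.Agent.S10329
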