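import Groth.Statements.S10335
import Groth.Agent.Lib.Helper31.AlgSpFibStalkDim
import Groth.Agent.Lib.Helper78.AlgSpLocPLoft

set_option autoImplicit false
universe u
open CategoryTheory CategoryTheory.Limits AlgebraicGeometry
open AlgSp

namespace Groth.Agent.S10335

theorem withBot_le_of_add_eq {e e' : WithBot ℕ∞} {n n' : ℕ} (hn : n' ≤ n)
    (h : e' + ((n' : ℕ∞) : WithBot ℕ∞) = e + ((n : ℕ∞) : WithBot ℕ∞)) : e ≤ e' := by
  induction e using WithBot.recBotCoe with
  | bot => exact bot_le
  | coe e =>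
    induction e' using WithBot.recBotCoe with
    | bot =>
      rw [WithBot.bot_add] at h
      have := WithBot.add_eq_bot.mp h.symm
      rcases this with h1 | h1
      · exact absurd h1 WithBot.coe_ne_bot
      · exact absurd h1 WithBot.coe_ne_bot
    | coe e' =>
      rw [← WithBot.coe_add, ← WithBot.coe_add, WithBot.coe_inj] at h
      rw [WithBot.coe_le_coe]
      have h1 : e + (n' : ℕ∞) ≤ e' + (n' : ℕ∞) := by
        rw [h]
        gcongr
      exact (ENat.add_le_add_iff_right (ENat.natCast_ne_top n')).mp h1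

open Groth.Agent.Lib.Helper31.AlgSpFlatAt Groth.Agent.Lib.Helper98.AlgSpPtLocal
  Groth.Agent.Lib.Helper52 Groth.Agent.Lib.Helper51 Groth.Agent.Lib.Helper78 in

/-- In a base change square of algebraic spaces with f : X -> Y locally of finite type and f' : X' -> Y'
its base change along g : Y' -> Y, take a point x' of X' over x. The fibre of f' has a local ring at
x' whose dimension exceeds the corresponding dimension for the fibre of f at x by exactly the
transcendence degree of x over f(x) minus that of x' over f'(x'), and this excess is never negative;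
and for x in X and y' in Y' over the same point of Y some x' over both has excess zero. All four
quantities are read on some chart diagram through the point. -/
theorem result {S : Scheme.{u}} {X Y Y' X' : AlgSp.Space S} (f : X ⟶ Y) (g : Y' ⟶ Y)
    (g' : X' ⟶ X) (f' : X' ⟶ Y') (sq : IsPullback g'.hom f'.hom f.hom g.hom)
    (hf : AlgSp.LocP @LocallyOfFiniteType f.hom) :
    (∀ (x' : AlgSp.Points X'.obj) (e e' : WithBot ℕ∞) (r r' : Cardinal.{u}),
      AlgSp.HasAtMor (fun _ _ h u => ringKrullDim ↥((h.fiber (h u)).presheaf.stalk (h.asFiber u)) = e) f.hom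
          (AlgSp.Points.map g'.hom x') →
      AlgSp.HasAtMor (fun _ _ h u => Dual3.resTrdeg h u = r) f.hom (AlgSp.Points.map g'.hom x') →
      AlgSp.HasAtMor (fun _ _ h u => ringKrullDim ↥((h.fiber (h u)).presheaf.stalk (h.asFiber u)) = e') f'.hom x' →
      AlgSp.HasAtMor (fun _ _ h u => Dual3.resTrdeg h u = r') f'.hom x' →
        e' + ((Cardinal.toENat r' : ℕ∞) : WithBot ℕ∞) = e + ((Cardinal.toENat r : ℕ∞) : WithBot ℕ∞) ∧ e ≤ e') ∧
    (∀ (x : AlgSp.Points X.obj) (y' : AlgSp.Points Y'.obj) (e : WithBot ℕ∞),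
      AlgSp.Points.map f.hom x = AlgSp.Points.map g.hom y' →
      AlgSp.HasAtMor (fun _ _ h u => ringKrullDim ↥((h.fiber (h u)).presheaf.stalk (h.asFiber u)) = e) f.hom x →
        ∃ x' : AlgSp.Points X'.obj, AlgSp.Points.map g'.hom x' = x ∧ AlgSp.Points.map f'.hom x' = y' ∧
          AlgSp.HasAtMor (fun _ _ h u => ringKrullDim ↥((h.fiber (h u)).presheaf.stalk (h.asFiber u)) = e)
            f'.hom x') := by
  obtain ⟨G⟩ := exists_goodChart f.hom (𝟙 Y.obj) X.property Y.property Y.property
  have sqY : IsPullback g.hom (𝟙 Y'.obj) (𝟙 Y.obj) g.hom := IsPullback.of_vert_isIso ⟨by simp⟩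
  obtain ⟨U'', V'', a'', b'', k'', mU, mV, ha''e, ha''s, hb''e, hb''s, comm'', eX, eY, sqUs⟩ :=
    exists_baseChange_chart G Y'.property g.hom f'.hom (𝟙 _) g'.hom g.hom sqY sq
  haveI lftk : LocallyOfFiniteType G.k.left := hf G.a G.b G.k G.ha G.hb G.comm_f
  haveI lftk'' : LocallyOfFiniteType k''.left :=
    MorphismProperty.of_isPullback (P := @LocallyOfFiniteType) sqUs lftk
  have hf' : LocP @LocallyOfFiniteType f'.hom :=
    AlgSpLocP.locP_of_isPullback AlgSpLocPLoft.etLocalST_loft sq
      (AlgSpFibre.repAll_of_isAlgSpace Y.property) X.property.atlas Y.property.atlas hf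
  constructor
  · intro x' e e' r r' he hr he' hr'
    obtain ⟨u'', rfl⟩ := surjective_ofPt_of_repWith_surjective a'' ha''s x'
    have hx : Points.map g'.hom (Points.ofPt a'' u'') = Points.ofPt G.a (mU.left u'') := by
      rw [Points.map_ofPt, eX, ofPt_yon_map_comp]
    rw [hx] at he hr
    have He := (hasAtMor_fibStalkDim_iff_of_chart f.hom hf e G.a G.b G.k G.ha G.hb G.comm_f _).1 he
    have Hr := (hasAtMor_iff_of_chart (etLocalPt_resTrdeg (fun t => t = r)) f.hom G.a G.b G.k G.ha
      G.hb G.comm_f _).1 hr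
    have He' := (hasAtMor_fibStalkDim_iff_of_chart f'.hom hf' e' a'' b'' k'' ha''e hb''e comm''
      u'').1 he'
    have Hr' := (hasAtMor_iff_of_chart (etLocalPt_resTrdeg (fun t => t = r')) f'.hom a'' b'' k''
      ha''e hb''e comm'' u'').1 hr'
    have key := fibStalkDim_add_resTrdeg_of_isPullback sqUs u''
    have hle := resTrdeg_le_of_isPullback sqUs u''
    rw [He', He] at key
    have Hr2 : Dual3.resTrdeg G.k.left (mU.left u'') = r := Hr
    have Hr2' : Dual3.resTrdeg k''.left u'' = r' := Hr'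
    rw [Hr2', Hr2] at key hle
    refine ⟨key, ?_⟩
    rw [← Hr2, ← Hr2', resTrdeg_eq_tdR, resTrdeg_eq_tdR, Cardinal.toENat_nat,
      Cardinal.toENat_nat] at key
    rw [← Hr2, ← Hr2', resTrdeg_eq_tdR, resTrdeg_eq_tdR] at hle
    exact withBot_le_of_add_eq (by exact_mod_cast hle) key
  · intro x y' e hxy he
    obtain ⟨v'', rfl⟩ := surjective_ofPt_of_repWith_surjective b'' hb''s y'
    obtain ⟨u₁, rfl⟩ := surjective_ofPt_of_repWith_surjective G.a₁ G.ha₁s x
    have h1 : Points.ofPt (G.a₁ ≫ f.hom) u₁ =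
        Points.ofPt ((yon S).map G.nV ≫ G.b₁) (mV.left v'') := by
      rw [← Points.map_ofPt, hxy, Points.map_ofPt, eY, ofPt_yon_map_comp]
    obtain ⟨u, hu1, hu2⟩ := exists_of_ofPt_eq_ofPt G.sqU h1
    obtain ⟨u'', hu''1, hu''2, hu''3⟩ := exists_resTrdeg_eq_of_isPullback sqUs u v'' hu2
    have hxa : Points.ofPt G.a₁ u₁ = Points.ofPt G.a u := by
      rw [ofPt_yon_map_comp, hu1]
    refine ⟨Points.ofPt a'' u'', ?_, ?_, ?_⟩
    · rw [Points.map_ofPt, eX, ofPt_yon_map_comp, hu''1, hxa]
    · rw [Points.map_ofPt, comm'', ofPt_yon_map_comp, hu''2]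
    · rw [hasAtMor_fibStalkDim_iff_of_chart f'.hom hf' e a'' b'' k'' ha''e hb''e comm'' u'']
      rw [hxa] at he
      have He := (hasAtMor_fibStalkDim_iff_of_chart f.hom hf e G.a G.b G.k G.ha G.hb G.comm_f
        u).1 he
      have key := fibStalkDim_add_resTrdeg_of_isPullback sqUs u''
      rw [hu''1, hu''3, He, resTrdeg_eq_tdR, Cardinal.toENat_nat] at key
      exact withBot_add_nat_cancel _ key

end Groth.Agent.S10335
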