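import Groth.Statements.S10336
import Groth.Agent.Lib.Helper30.AlgSpZarLoc
import Groth.Agent.Lib.Helper30.AlgSpAffTested2
-- import your own Groth.Agent.* helpers here

set_option autoImplicit false
universe u
open CategoryTheory CategoryTheory.Limits AlgebraicGeometry
open AlgSp

namespace Groth.Agent.S10336

open Groth.Agent.Lib.Helper30 Groth.Agent.Lib.Helper30.Glue

set_option backward.isDefEq.respectTransparency false

theorem finLocFree_eq : (AlgSp.finLocFree.{u}) =
    (@IsFinite ⊓ (@Flat ⊓ @LocallyOfFinitePresentation) : MorphismProperty Scheme.{u}) := by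
  ext X Y f
  exact Iff.rfl

instance : IsZariskiLocalAtTarget (AlgSp.finLocFree.{u}) := by
  rw [finLocFree_eq]
  infer_instance

theorem affTested_of_zarCover (Q : MorphismProperty Scheme.{u}) [Q.IsStableUnderBaseChange]
    [IsZariskiLocalAtTarget Q]
    (hQ : ∀ {A B : Scheme.{u}} (i : A ⟶ B), Q i → IsAffineHom i)
    {S : Scheme.{u}} {F G : AlgSp.Sp S} (f : F ⟶ G) {ι : Type u}
    (Gi : ι → AlgSp.Sp S) (j : ∀ i, Gi i ⟶ G) (hj : AlgSp.IsZarCover Gi j)
    (Fi : ι → AlgSp.Sp S) (p : ∀ i, Fi i ⟶ F) (q : ∀ i, Fi i ⟶ Gi i)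
    (sq : ∀ i, IsPullback (p i) (q i) f (j i)) (h : ∀ i, AffTested Q (q i)) :
    AffTested Q f :=
  (affTested_iff_repWith Q hQ f).2 (repWith_of_zarCover Q f Gi j hj Fi p q sq
    (fun i => (affTested_iff_repWith Q hQ (q i)).1 (h i)))

/-- Integrality, finiteness and finite local freeness of a morphism f : X -> Y of algebraic spaces over
S can be checked on the restrictions of f over the members of a Zariski covering of Y by open
subspaces. -/
theorem result {S : Scheme.{u}} {X Y : AlgSp.Space S} (f : X ⟶ Y) {ι : Type u}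
    (Yi : ι → AlgSp.Space S) (j : ∀ i, Yi i ⟶ Y) (hj : AlgSp.IsZarCover (fun i => (Yi i).obj) (fun i => (j i).hom))
    (Xi : ι → AlgSp.Sp S) (p : ∀ i, Xi i ⟶ X.obj) (q : ∀ i, Xi i ⟶ (Yi i).obj)
    (sq : ∀ i, IsPullback (p i) (q i) f.hom (j i).hom) :
    ((∀ i, AlgSp.IsIntegralMor (q i)) → AlgSp.IsIntegralMor f.hom) ∧
    ((∀ i, AlgSp.IsFiniteMor (q i)) → AlgSp.IsFiniteMor f.hom) ∧
    ((∀ i, AlgSp.IsFinLocFreeMor (q i)) → AlgSp.IsFinLocFreeMor f.hom) := by
  refine ⟨fun h => ?_, fun h => ?_, fun h => ?_⟩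
  · exact affTested_of_zarCover @IsIntegralHom (fun i hi => by
      have : IsIntegralHom i := hi
      infer_instance) f.hom _ _ hj Xi p q sq h
  · exact affTested_of_zarCover @IsFinite (fun i hi => by
      have : IsFinite i := hi
      infer_instance) f.hom _ _ hj Xi p q sq h
  · exact repWith_of_zarCover AlgSp.finLocFree f.hom _ _ hj Xi p q sq h

end Groth.Agent.S10336
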