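import Groth.Statements.S1034
import Groth.Agent.Lib.Helper6.SeqColim
import Mathlib.CategoryTheory.Limits.Preserves.Shapes.Products
import Mathlib.CategoryTheory.Adjunction.Limits

set_option autoImplicit false
universe v v' u u'
open CategoryTheory CategoryTheory.Limits
open DerLim

namespace Groth.Agent.S1034

section aux

open CategoryTheory.Limits Groth.Agent.Lib.Helper6.SeqColim

variable {D : Type u} [Category.{v} D] [Preadditive D]
  {A : Type u'} [Category.{v'} A] [Abelian A]

omit [Preadditive D] [Abelian A] in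
lemma hasCoproduct_of_preserves (H : D ⥤ A) (K : ℕ → D) [HasCoproduct K]
    [PreservesColimit (Discrete.functor K) H] : HasCoproduct (fun n => H.obj (K n)) :=
  ⟨⟨⟨_, isColimitOfHasCoproductOfPreservesColimit H K⟩⟩⟩

lemma comparison_comm (H : D ⥤ A) [H.Additive] (K : ℕ → D) (f : ∀ n, K n ⟶ K (n + 1))
    [HasCoproduct K] [HasCoproduct (fun n => H.obj (K n))] :
    (𝟙 _ - DerLim.shiftMap (fun n => H.obj (K n)) (fun n => H.map (f n))) ≫ sigmaComparison H K =
      sigmaComparison H K ≫ H.map (𝟙 _ - DerLim.shiftMap K f) := by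
  refine Sigma.hom_ext _ _ fun n => ?_
  rw [← Category.assoc, ι_one_sub_shiftMap, Preadditive.sub_comp, Category.assoc,
    ι_comp_sigmaComparison, ι_comp_sigmaComparison, ι_comp_sigmaComparison_assoc,
    ← H.map_comp, ← H.map_comp, ← Functor.map_sub]
  congr 1
  simp [DerLim.shiftMap]

/-- a coproduct preserving additive functor to an abelian category with exact sequential colimits
sends `1 - shift` to a monomorphism -/
lemma mono_map_one_sub_shiftMap (H : D ⥤ A) [H.Additive] (K : ℕ → D) (f : ∀ n, K n ⟶ K (n + 1))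
    [HasCoproduct K] [PreservesColimit (Discrete.functor K) H]
    [HasColimitsOfShape ℕ A] [HasExactColimitsOfShape ℕ A] :
    Mono (H.map (𝟙 _ - DerLim.shiftMap K f)) := by
  have := hasCoproduct_of_preserves H K
  have h1 := mono_one_sub_shiftMap (fun n => H.map (f n))
  have h2 : H.map (𝟙 _ - DerLim.shiftMap K f) =
      inv (sigmaComparison H K) ≫ (𝟙 _ - DerLim.shiftMap (fun n => H.obj (K n))
        (fun n => H.map (f n))) ≫ sigmaComparison H K := by
    rw [comparison_comm, IsIso.inv_hom_id_assoc]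
  rw [h2]
  infer_instance

end aux

open CategoryTheory.Pretriangulated in
/-- Let D be a pretriangulated category with countable direct sums, A an abelian category with exact
colimits of shape ℕ, and H : D ⥤ A a homological functor that preserves countable direct sums. If L
(with maps iₙ : Kₙ ⟶ L) is a homotopy colimit of a system (Kₙ, fₙ), then H(L) is the colimit of the
H(Kₙ): there is an isomorphism colimₙ H(Kₙ) ≅ H(L) compatible with the maps H(iₙ). -/
theorem result {D : Type u} [Category.{v} D] [Preadditive D] [Limits.HasZeroObject D] [HasShift D ℤ]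
    [∀ n : ℤ, (shiftFunctor D n).Additive] [Pretriangulated D] [IsTriangulated D] [HasColimitsOfShape (Discrete ℕ) D]
    {A : Type u'} [Category.{v'} A] [Abelian A] [HasColimitsOfShape ℕ A] [HasExactColimitsOfShape ℕ A]
    (H : D ⥤ A) [H.IsHomological] [PreservesColimitsOfShape (Discrete ℕ) H]
    (K : ℕ → D) (f : ∀ n, K n ⟶ K (n + 1)) (L : D) (i : ∀ n, K n ⟶ L) (hL : DerLim.IsHocolim K f L i) :
    ∃ e : colimit (Functor.ofSequence (fun n => H.map (f n))) ≅ H.obj L,
      ∀ n : ℕ, colimit.ι (Functor.ofSequence (fun n => H.map (f n))) n ≫ e.hom = H.map (i n) := by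
  open CategoryTheory.Pretriangulated Groth.Agent.Lib.Helper6.SeqColim in
  classical
  obtain ⟨c, hT⟩ := hL
  have hAdd : H.Additive := inferInstance
  let φ : ∐ K ⟶ ∐ K := 𝟙 (∐ K) - DerLim.shiftMap K f
  let j : ∐ K ⟶ L := Sigma.desc i
  -- Claim 1: `H (φ⟦1⟧)` is a monomorphism
  have hmono' : Mono (H.map ((shiftFunctor D (1 : ℤ)).map φ)) :=
    mono_map_one_sub_shiftMap (shiftFunctor D (1 : ℤ) ⋙ H) K f
  have hc : H.map c = 0 := by
    rw [← cancel_mono (H.map ((shiftFunctor D (1 : ℤ)).map φ)), zero_comp, ← H.map_comp]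
    have : c ≫ (shiftFunctor D (1 : ℤ)).map φ = 0 := comp_distTriang_mor_zero₃₁ _ hT
    rw [this, H.map_zero]
  have hex1 := H.map_distinguished_exact _ hT
  have hex2 := H.map_distinguished_exact _ (rot_of_distTriang _ hT)
  have hepi : Epi (H.map j) := (ShortComplex.exact_iff_epi _ hc).1 hex2
  have hφj : H.map φ ≫ H.map j = 0 := by
    rw [← H.map_comp]
    have : φ ≫ j = 0 := comp_distTriang_mor_zero₁₂ _ hT
    rw [this, H.map_zero]
  have hcok : IsColimit (CokernelCofork.ofπ (H.map j) hφj) :=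
    haveI : Epi ((shortComplexOfDistTriangle _ hT).map H).g := hepi
    hex1.gIsCokernel
  -- the sequence in `A`
  have hcop : HasCoproduct (fun n => H.obj (K n)) := hasCoproduct_of_preserves H K
  let ψ : (∐ fun n => H.obj (K n)) ⟶ ∐ fun n => H.obj (K n) :=
    𝟙 _ - DerLim.shiftMap (fun n => H.obj (K n)) (fun n => H.map (f n))
  let θ := sigmaComparison H K
  have hθ : ψ ≫ θ = θ ≫ H.map φ := comparison_comm H K f
  let π : (∐ fun n => H.obj (K n)) ⟶ colimit (Functor.ofSequence (fun n => H.map (f n))) :=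
    Sigma.desc (cι (fun n => H.obj (K n)) (fun n => H.map (f n)))
  have hψπ : ψ ≫ π = 0 := one_sub_shiftMap_comp_desc' _ _
  have hcokG : IsColimit (CokernelCofork.ofπ π hψπ) := isCokernel' _ _
  have h₁ : ψ ≫ θ ≫ H.map j = 0 := by rw [← Category.assoc, hθ, Category.assoc, hφj, comp_zero]
  have h₂ : H.map φ ≫ inv θ ≫ π = 0 := by
    have : H.map φ ≫ inv θ = inv θ ≫ ψ := by
      rw [← cancel_epi θ, ← Category.assoc, ← hθ, Category.assoc, IsIso.hom_inv_id, Category.comp_id,
        IsIso.hom_inv_id_assoc]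
    rw [← Category.assoc, this, Category.assoc, hψπ, comp_zero]
  let eh : colimit (Functor.ofSequence (fun n => H.map (f n))) ⟶ H.obj L :=
    hcokG.desc (CokernelCofork.ofπ (θ ≫ H.map j) h₁)
  let ei : H.obj L ⟶ colimit (Functor.ofSequence (fun n => H.map (f n))) :=
    hcok.desc (CokernelCofork.ofπ (inv θ ≫ π) h₂)
  have heh : π ≫ eh = θ ≫ H.map j := Cofork.IsColimit.π_desc hcokG
  have hei : H.map j ≫ ei = inv θ ≫ π := Cofork.IsColimit.π_desc hcok
  refine ⟨⟨eh, ei, ?_, ?_⟩, fun n => ?_⟩
  · apply Cofork.IsColimit.hom_ext hcokG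
    change π ≫ eh ≫ ei = π ≫ 𝟙 _
    rw [← Category.assoc, heh, Category.assoc, hei, IsIso.hom_inv_id_assoc, Category.comp_id]
  · apply Cofork.IsColimit.hom_ext hcok
    change H.map j ≫ ei ≫ eh = H.map j ≫ 𝟙 _
    rw [← Category.assoc, hei, Category.assoc, heh, IsIso.inv_hom_id_assoc, Category.comp_id]
  · change cι (fun n => H.obj (K n)) (fun n => H.map (f n)) n ≫ eh = _
    have h1 : cι (fun n => H.obj (K n)) (fun n => H.map (f n)) n =
        Sigma.ι (fun n => H.obj (K n)) n ≫ π := (Sigma.ι_desc _ n).symm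
    rw [h1, Category.assoc, heh, ← Category.assoc, ι_comp_sigmaComparison, ← H.map_comp]
    congr 1
    exact Sigma.ι_desc _ n

end Groth.Agent.S1034
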