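import Groth.Statements.S10360
import Groth.Agent.Lib.Helper51.AlgSpQuotField6

set_option autoImplicit false
universe u
open CategoryTheory CategoryTheory.Limits AlgebraicGeometry Topology TopologicalSpace
open AlgSp

namespace Groth.Agent.S10360

open Groth.Agent.Lib.Helper51 Groth.Agent.Lib.Helper52 in
theorem aux {S : Scheme.{u}} (X : AlgSp.Space S) (x : AlgSp.Points X.obj) :
    (∀ (U : Over S) (φ : (AlgSp.yon S).obj U ⟶ X.obj), IsAffine U.left → AlgSp.RepWith @Etale φ →
        ∀ (R : Over S) (s t : R ⟶ U), IsPullback ((AlgSp.yon S).map t) ((AlgSp.yon S).map s) φ φ →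
          (AlgSp.Points.ofPt φ ⁻¹' {x}).Finite ∧ (AlgSp.Points.ofPt ((AlgSp.yon S).map t ≫ φ) ⁻¹' {x}).Finite) ↔
      ∃ p : AlgSp.FieldPt X.obj, AlgSp.Points.mk p = x ∧ Mono p.toHom ∧ AlgSp.RepWith @QuasiCompact p.toHom := by
  constructor
  · intro H
    obtain ⟨U, φ, u, hU, hφ, hu⟩ := exists_affine_etale_chart_at X.property x
    obtain ⟨R, t, s, sqR⟩ := exists_isPullback_of_representable hφ.1 φ
    obtain ⟨-, hR⟩ := H U φ hU hφ R s t sqR
    have hfin : {r : ↥R.left | s.left r = u ∧ t.left r = u}.Finite := by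
      refine hR.subset ?_
      rintro r ⟨-, hr⟩
      rw [Set.mem_preimage, Set.mem_singleton_iff, ofPt_yon_map_comp, hr, hu]
    obtain ⟨p, hp, hmono⟩ := exists_mono_fieldPt_of_finite_fibre φ hφ s t sqR u hfin
    refine ⟨p, hp.trans hu, hmono, ?_⟩
    have := hmono
    refine repWith_quasiCompact_of_mono_of_finite_fibres X.property p ?_
    intro U' φ' hU' hφ'
    obtain ⟨R', t', s', sqR'⟩ := exists_isPullback_of_representable hφ'.1 φ'
    rw [hp.trans hu]
    exact (H U' φ' hU' hφ' R' s' t' sqR').1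
  · rintro ⟨p, hp, hmono, hq⟩ U φ hU hφ R s t sqR
    have := hU
    have h1 : (AlgSp.Points.ofPt φ ⁻¹' {x}).Finite := by
      rw [← hp]
      exact finite_fibre_of_quasiCompact_fieldPt p hq φ hφ
    refine ⟨h1, ?_⟩
    have h2 : ∀ u' ∈ AlgSp.Points.ofPt φ ⁻¹' {x}, {r : ↥R.left | t.left r = u'}.Finite := by
      intro u' hu'
      have hu'' : AlgSp.Points.mk (AlgSp.FieldPt.ofPt φ u') = AlgSp.Points.mk p := by
        rw [hp]; exact hu'
      have hqu : AlgSp.RepWith @QuasiCompact (AlgSp.FieldPt.ofPt φ u').toHom :=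
        repWith_quasiCompact_of_mk_eq' _ p (X.property.representable_from_yon _) hq hu''
      exact finite_fibre_source_of_quasiCompact φ t s sqR.flip u' hφ hqu
    refine (Set.Finite.biUnion h1 h2).subset ?_
    intro r hr
    rw [Set.mem_preimage, Set.mem_singleton_iff, ofPt_yon_map_comp] at hr
    exact Set.mem_biUnion (x := t.left r) hr rfl

/-- (1) ⇔ (4): for an algebraic space X over a scheme S and x ∈ |X|, the fibres over x of |U| → |X| and
|U ×_X U| → |X| are finite for every etale h_U ⟶ X with U affine, if and only if x is represented by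
a monomorphism Spec k ⟶ X which is representable quasi-compact. -/
theorem result {S : Scheme.{u}} (X : AlgSp.Space S)
    (x : AlgSp.Points X.obj) :
    (∀ (U : Over S) (φ : (AlgSp.yon S).obj U ⟶ X.obj), IsAffine U.left → AlgSp.RepWith @Etale φ →
        ∀ (R : Over S) (s t : R ⟶ U), IsPullback ((AlgSp.yon S).map t) ((AlgSp.yon S).map s) φ φ →
          (AlgSp.Points.ofPt φ ⁻¹' {x}).Finite ∧ (AlgSp.Points.ofPt ((AlgSp.yon S).map t ≫ φ) ⁻¹' {x}).Finite) ↔
      ∃ p : AlgSp.FieldPt X.obj, AlgSp.Points.mk p = x ∧ Mono p.toHom ∧ AlgSp.RepWith @QuasiCompact p.toHom := by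
  exact aux X x

end Groth.Agent.S10360
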