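import Groth.Statements.S10352
import Groth.Agent.Lib.Helper51.AlgSpQuotField11
import Groth.Agent.S10360

set_option autoImplicit false
universe u
open CategoryTheory CategoryTheory.Limits AlgebraicGeometry Topology TopologicalSpace
open AlgSp

namespace Groth.Agent.S10352

open Groth.Agent.Lib.Helper51 Groth.Agent.Lib.Helper52 in
theorem aux {S : Scheme.{u}} {X Y : AlgSp.Space S} (f : X ⟶ Y)
    (hf : AlgSp.IsEtaleMor f.hom) (hY : AlgSp.IsDecent Y.obj) : AlgSp.IsDecent X.obj := by
  intro x
  apply (Groth.Agent.S10360.result X x).1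
  intro U φ hU hφ R s t sqR
  have hψ : AlgSp.RepWith @Etale (φ ≫ f.hom) := hf φ hφ
  obtain ⟨RY, t', s', sqR'⟩ := exists_isPullback_of_representable hψ.1 (φ ≫ f.hom)
  obtain ⟨h1, h2⟩ := (Groth.Agent.S10360.result Y (AlgSp.Points.map f.hom x)).2
    (hY (AlgSp.Points.map f.hom x)) U (φ ≫ f.hom) hU hψ RY s' t' sqR'
  constructor
  · refine h1.subset ?_
    intro u hu
    rw [Set.mem_preimage, Set.mem_singleton_iff] at hu ⊢
    rw [← AlgSp.Points.map_ofPt, hu]
  · have hcompat : (AlgSp.yon S).map t ≫ φ ≫ f.hom = (AlgSp.yon S).map s ≫ φ ≫ f.hom := by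
      rw [← Category.assoc, sqR.w, Category.assoc]
    let m : R ⟶ RY := (AlgSp.yon S).preimage (sqR'.lift _ _ hcompat)
    have hmt : m ≫ t' = t := by
      apply (AlgSp.yon S).map_injective
      rw [Functor.map_comp, Functor.map_preimage]
      exact sqR'.lift_fst _ _ _
    have hms : m ≫ s' = s := by
      apply (AlgSp.yon S).map_injective
      rw [Functor.map_comp, Functor.map_preimage]
      exact sqR'.lift_snd _ _ _
    have hmono : Mono m := by
      constructor
      intro T a b hab
      apply (AlgSp.yon S).map_injective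
      apply sqR.hom_ext
      · rw [← Functor.map_comp, ← Functor.map_comp, ← hmt, ← Category.assoc, ← Category.assoc, hab]
      · rw [← Functor.map_comp, ← Functor.map_comp, ← hms, ← Category.assoc, ← Category.assoc, hab]
    have hml : Mono m.left := inferInstance
    have hinj : Function.Injective m.left := m.left.injective
    refine Set.Finite.of_finite_image (f := m.left) (h2.subset ?_) hinj.injOn
    rintro _ ⟨r, hr, rfl⟩
    rw [Set.mem_preimage, Set.mem_singleton_iff, ofPt_yon_map_comp] at hr ⊢
    have : t'.left (m.left r) = t.left r := by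
      have := congrArg (fun k => k.left r) hmt
      simpa using this
    rw [this, ← AlgSp.Points.map_ofPt, hr]

/-- Let S be a scheme, X and Y algebraic spaces over S, and f : X ⟶ Y an etale morphism. If Y is decent
then X is decent. -/
theorem result {S : Scheme.{u}} {X Y : AlgSp.Space S} (f : X ⟶ Y)
    (hf : AlgSp.IsEtaleMor f.hom) (hY : AlgSp.IsDecent Y.obj) : AlgSp.IsDecent X.obj := by
  exact aux f hf hY

end Groth.Agent.S10352
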