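import Groth.Statements.S10367
import Groth.Agent.Lib.Helper51.AlgSpOnePt4

set_option autoImplicit false
universe u
open CategoryTheory CategoryTheory.Limits AlgebraicGeometry Topology TopologicalSpace
open AlgSp

namespace Groth.Agent.S10367

/-- (2) ⇒ (3): if an algebraic space Z over a scheme S admits a surjective flat morphism Spec k ⟶ Z with
k a field, then it also admits such a morphism which is moreover locally of finite type. -/
theorem result {S : Scheme.{u}} (Z : AlgSp.Space S)
    (k : Type u) [Field k] (str : Spec (CommRingCat.of k) ⟶ S) (p : (AlgSp.yon S).obj (Over.mk str) ⟶ Z.obj)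
    (hpf : AlgSp.LocP @Flat p) (hps : AlgSp.IsSurjectiveMor p) :
    ∃ (k' : Type u) (_ : Field k') (str' : Spec (CommRingCat.of k') ⟶ S) (q : (AlgSp.yon S).obj (Over.mk str') ⟶ Z.obj),
      AlgSp.LocP @LocallyOfFiniteType q ∧ AlgSp.LocP @Flat q ∧ AlgSp.IsSurjectiveMor q := by
  have hne : Nonempty (AlgSp.Points Z.obj) := by
    obtain ⟨t⟩ := Groth.Agent.Lib.Helper51.nonempty_points_yon_field str
    exact ⟨AlgSp.Points.map p t⟩
  obtain ⟨k', hk', str', q, hq⟩ := Groth.Agent.Lib.Helper51.exists_lft_fieldPt Z.property hne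
  obtain ⟨h1, h2⟩ :=
    Groth.Agent.Lib.Helper51.locP_flat_and_surjective_of_field_cover str p hpf hps str' q
  exact ⟨k', hk', str', q, hq, h1, h2⟩

end Groth.Agent.S10367
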