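import Groth.Statements.S10386
import Groth.Agent.Lib.Helper51.AlgSpQuotField7
import Groth.Agent.Lib.Helper30.AlgSpFib

set_option autoImplicit false
universe u
open CategoryTheory CategoryTheory.Limits AlgebraicGeometry Topology TopologicalSpace
open AlgSp

namespace Groth.Agent.S10386

open Groth.Agent.Lib.Helper51 Groth.Agent.Lib.Helper52 Groth.Agent.Lib.Helper30 in
theorem aux {S : Scheme.{u}} {X Y : AlgSp.Space S} (f : X ⟶ Y)
    (h : ∀ (Z : Over S) (g : (AlgSp.yon S).obj Z ⟶ Y.obj) (P : AlgSp.Sp S) (fst : P ⟶ X.obj)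
      (snd : P ⟶ (AlgSp.yon S).obj Z), IsAffine Z.left → IsPullback fst snd f.hom g → AlgSp.IsDecent P) :
    AlgSp.IsDecentMor f.hom := by
  intro T F' g fst snd sq
  have hF' : AlgSp.IsAlgSpace F' :=
    isAlgSpace_of_isPullback Y.property.diag X.property (AlgSp.IsAlgSpace.yon_obj T) sq
  let 𝒰 := T.left.affineCover
  let Ti : 𝒰.I₀ → Over S := fun i => Over.mk (𝒰.f i ≫ T.hom)
  let q : ∀ i, Ti i ⟶ T := fun i => Over.homMk (𝒰.f i) rfl
  let Pi : 𝒰.I₀ → AlgSp.Sp S := fun i => Limits.pullback snd ((AlgSp.yon S).map (q i))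
  let j : ∀ i, Pi i ⟶ F' := fun i => Limits.pullback.fst snd ((AlgSp.yon S).map (q i))
  have sqi : ∀ i, IsPullback (j i) (Limits.pullback.snd snd ((AlgSp.yon S).map (q i))) snd
      ((AlgSp.yon S).map (q i)) := fun i => IsPullback.of_hasPullback _ _
  refine isDecent_of_isZarCover hF' Pi j ⟨?_, ?_⟩ ?_
  · intro i
    have hq : AlgSp.RepWith @IsOpenImmersion ((AlgSp.yon S).map (q i)) :=
      (AlgSp.repWith_yon_map_iff @IsOpenImmersion _).2
        (inferInstanceAs (IsOpenImmersion (𝒰.f i)))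
    exact MorphismProperty.of_isPullback (sqi i).flip hq
  · intro y
    obtain ⟨t, ht⟩ := (AlgSp.Points.schemeEquiv T).surjective (AlgSp.Points.map snd y)
    obtain ⟨ti, hti⟩ := 𝒰.covers t
    have h1 : AlgSp.Points.map snd y =
        AlgSp.Points.map ((AlgSp.yon S).map (q (𝒰.idx t))) (AlgSp.Points.ofScheme (Ti (𝒰.idx t)) ti) := by
      rw [map_yon_map_ofScheme, ← ht]
      show AlgSp.Points.ofScheme T t = AlgSp.Points.ofScheme T ((𝒰.f (𝒰.idx t)) ti)
      rw [hti]
    obtain ⟨w, hw, -⟩ := exists_point_of_isPullback (sqi (𝒰.idx t)) y _ h1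
    exact ⟨𝒰.idx t, w, hw⟩
  · intro i
    have big := (sqi i).paste_horiz sq
    exact h (Ti i) _ (Pi i) _ _ (inferInstanceAs (IsAffine (𝒰.X i))) big

/-- (3) ⇒ (1): let S be a scheme, X and Y algebraic spaces over S, and f : X ⟶ Y a morphism such that Z
×_Y X is decent for every affine scheme Z and every Z ⟶ Y. Then f is decent, i.e. T ×_Y X is decent
for every scheme T over Y. -/
theorem result {S : Scheme.{u}} {X Y : AlgSp.Space S} (f : X ⟶ Y)
    (h : ∀ (Z : Over S) (g : (AlgSp.yon S).obj Z ⟶ Y.obj) (P : AlgSp.Sp S) (fst : P ⟶ X.obj)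
      (snd : P ⟶ (AlgSp.yon S).obj Z), IsAffine Z.left → IsPullback fst snd f.hom g → AlgSp.IsDecent P) :
    AlgSp.IsDecentMor f.hom := by
  exact aux f h

end Groth.Agent.S10386
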