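import Groth.Statements.S10390
import Groth.Agent.Lib.Helper31.AlgSpFibreEmb

set_option autoImplicit false
universe u
open CategoryTheory CategoryTheory.Limits AlgebraicGeometry Topology TopologicalSpace
open AlgSp

namespace Groth.Agent.S10390

open Groth.Agent.Lib.Helper51 Groth.Agent.Lib.Helper52 Groth.Agent.Lib.Helper31.AlgSpFlatAt
  Groth.Agent.Lib.Helper31.AlgSpFibreEmb in

/-- Let S be a scheme, X and Y algebraic spaces over S, and f : X ⟶ Y a morphism, and let y ∈ |Y| be a
point represented by a monomorphism Spec k ⟶ Y which is representable quasi-compact. Then for the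
fibre X_k = Spec k ×_Y X the map |X_k| → |X| is a homeomorphism of |X_k| onto f⁻¹({y}) with its
induced topology. -/
theorem result {S : Scheme.{u}} {X Y : AlgSp.Space S} (f : X ⟶ Y)
    (r : AlgSp.FieldPt Y.obj) (hm : Mono r.toHom) (hq : AlgSp.RepWith @QuasiCompact r.toHom)
    (Xk : AlgSp.Space S) (fst : Xk ⟶ X) (snd : Xk.obj ⟶ (AlgSp.yon S).obj r.pt) (hsq : IsPullback fst.hom snd f.hom r.toHom) :
    IsEmbedding (AlgSp.Points.map fst.hom) ∧
      Set.range (AlgSp.Points.map fst.hom) = AlgSp.Points.map f.hom ⁻¹' {AlgSp.Points.mk r} := by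
  have hmono : Mono fst.hom := hsq.mono_fst_of_mono
  have hrep : AlgSp.RepWith @QuasiCompact fst.hom := MorphismProperty.of_isPullback hsq.flip hq
  constructor
  · obtain ⟨G⟩ := exists_goodChart f.hom (𝟙 Y.obj) X.2 Y.2 Y.2
    obtain ⟨Vk, φ, ψ, sqV⟩ := exists_isPullback_of_representable G.hb.1 r.toHom
    have hφ : IsPreimmersion φ.left := isPreimmersion_fibre_chart r hm hq G.b G.hb φ ψ sqV
    have sqW := hrep.1.isPullback G.a
    have sq' := sqW.paste_horiz hsq.flip
    rw [G.comm_f] at sq'
    obtain ⟨l, -, sqS⟩ := exists_isPullback_left_of_isPullback sqV.flip sq'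
    have hψ' : IsPreimmersion (hrep.1.snd G.a).left :=
      MorphismProperty.of_isPullback (P := @IsPreimmersion) sqS hφ
    exact isEmbedding_map_of_chart fst.hom G.a G.ha G.has _ _ sqW
      (hrep.1.snd G.a).left.isEmbedding.isInducing
  · apply Set.Subset.antisymm
    · rintro _ ⟨z, rfl⟩
      rw [Set.mem_preimage, Set.mem_singleton_iff, ← Points.map_comp, hsq.w, Points.map_comp]
      have h1 : Points.map r.toHom (Points.map snd z) ∈ Set.range (Points.map r.toHom) := ⟨_, rfl⟩
      rw [range_map_yon_field r.str r.toHom, Set.mem_singleton_iff] at h1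
      rw [h1]
      exact Points.ofPt_toHom r _
    · intro x hx
      rw [Set.mem_preimage, Set.mem_singleton_iff] at hx
      have h2 : Points.map f.hom x = Points.map r.toHom
          (Points.ofScheme r.pt (IsLocalRing.closedPoint r.K)) := by
        rw [hx, ← Points.ofPt_eq_map_ofScheme]
        exact (Points.ofPt_toHom r _).symm
      obtain ⟨w, hw1, -⟩ := exists_point_of_isPullback hsq x _ h2
      exact ⟨w, hw1⟩

end Groth.Agent.S10390
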