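import Groth.Statements.S10398
import Groth.Agent.Lib.Helper30.AlgSpGenFin
import Groth.Agent.S10540
import Groth.Agent.Lib.Helper78.AlgSpFppfFpqc
import Groth.Agent.Lib.Helper78.AlgSpMisc
-- import your own Groth.Agent.* helpers here

set_option autoImplicit false
set_option maxHeartbeats 1600000
set_option backward.isDefEq.respectTransparency false
universe u
open CategoryTheory CategoryTheory.Limits AlgebraicGeometry Topology TopologicalSpace
open AlgSp

namespace Groth.Agent.S10398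

open Groth.Agent.Lib.Helper30 Groth.Agent.Lib.Helper51 Groth.Agent.Lib.Helper52


theorem gen_of_open (V₀ : Scheme.{u}) (Vo : V₀.Opens) (v : Vo.toScheme)
    (h : ringKrullDim (V₀.presheaf.stalk (Vo.ι v)) = 0) :
    closure {v} ∈ irreducibleComponents Vo.toScheme := by
  apply GenFin.closure_mem_irreducibleComponents_of_stalk_dim_zero
  rw [ringKrullDim_stalk_eq_coheight, ← coheight_eq_of_isOpenImmersion Vo.ι,
    ← ringKrullDim_stalk_eq_coheight]
  exact h

/-- (2) ⇒ (3): let S be a scheme, X and Y algebraic spaces over S, and f : X ⟶ Y a quasi-separated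
morphism of finite type, and let y ∈ |Y| be a codimension 0 point of Y. Suppose that at every point
of |X| lying over y the morphism f is quasi-finite. Then there is an open subspace Y' ⊆ Y containing
y for which the morphism Y' ×_Y X ⟶ Y' is finite. -/
theorem result {S : Scheme.{u}} {X Y : AlgSp.Space S} (f : X ⟶ Y)
    (hqs : AlgSp.IsQuasiSeparatedMor f.hom) (hft : AlgSp.IsFiniteTypeMor f.hom) (y : AlgSp.Points Y.obj)
    (hy : AlgSp.HasAt (fun U u => ringKrullDim ↥(U.presheaf.stalk u) = 0) Y.obj y)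
    (hqf : ∀ x : AlgSp.Points X.obj, AlgSp.Points.map f.hom x = y → AlgSp.HasAtMor (fun U _ h u => ∃ W : U.Opens, u ∈ W ∧ LocallyQuasiFinite (W.ι ≫ h) ∧ LocallyOfFiniteType (W.ι ≫ h)) f.hom x) :
    ∃ (Y' X' : AlgSp.Space S) (j : Y' ⟶ Y) (fst : X' ⟶ Y') (snd : X' ⟶ X), AlgSp.RepWith @IsOpenImmersion j.hom ∧
      y ∈ Set.range (AlgSp.Points.map j.hom) ∧ IsPullback fst.hom snd.hom j.hom f.hom ∧
      AlgSp.IsFiniteMor fst.hom := by
  classical
  have hX := X.property
  have hY := Y.property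
  obtain ⟨V₀, b₀, v₀, hb₀e, hb₀v, hdim⟩ := hy
  obtain ⟨_, ⟨Vo, hVo, rfl⟩, hv₀, -⟩ :=
    V₀.left.isBasis_affineOpens.exists_subset_of_mem_open (Set.mem_univ v₀) isOpen_univ
  -- the affine chart
  obtain ⟨b, hb⟩ : ∃ b : (AlgSp.yon S).obj (GenFin.restr V₀ Vo) ⟶ Y.obj,
      b = (AlgSp.yon S).map (GenFin.restrι V₀ Vo) ≫ b₀ := ⟨_, rfl⟩
  have hbe : AlgSp.RepWith @Etale b := by
    rw [hb]
    exact (AlgSp.RepWith (S := S) @Etale).comp_mem _ _
      ((AlgSp.repWith_yon_map_iff @Etale _).2 (inferInstanceAs (Etale (Scheme.Opens.ι Vo)))) hb₀e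
  obtain ⟨v, hvdef⟩ : ∃ v : (GenFin.restr V₀ Vo).left, (Scheme.Opens.ι Vo) v = v₀ := ⟨(⟨v₀, hv₀⟩ : ↥Vo), rfl⟩
  have hbv : Points.ofPt b v = y := by
    rw [hb, ofPt_yon_map_comp]
    show Points.ofPt b₀ ((Scheme.Opens.ι Vo) v) = y
    rw [hvdef]; exact hb₀v
  have hgen : closure {v} ∈ irreducibleComponents (GenFin.restr V₀ Vo).left :=
    gen_of_open V₀.left Vo v (by rw [hvdef]; exact hdim)
  obtain ⟨V'o, hvV', hfin⟩ := GenFin.exists_open_finite_chart f hqs hft (V := GenFin.restr V₀ Vo)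
    (show IsAffine (Scheme.Opens.toScheme Vo) from hVo) b hbe v hgen
    (fun x hx => Groth.Agent.Lib.Helper78.AlgSpMisc.hasAtMor_mono
      (fun U V h u ⟨W, hu, h1, h2⟩ => ⟨W, hu, h1, h2⟩) (hqf x (hx.trans hbv)))
  have hyV := AlgSp.IsAlgSpace.yon_obj (GenFin.restr V₀ Vo)
  have hyV' := AlgSp.IsAlgSpace.yon_obj (GenFin.restr (GenFin.restr V₀ Vo) V'o)
  obtain ⟨b', hb'⟩ : ∃ b' : (AlgSp.yon S).obj (GenFin.restr (GenFin.restr V₀ Vo) V'o) ⟶ Y.obj,
      b' = (AlgSp.yon S).map (GenFin.restrι (GenFin.restr V₀ Vo) V'o) ≫ b := ⟨_, rfl⟩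
  have hb'e : AlgSp.RepWith @Etale b' := by
    rw [hb']
    exact (AlgSp.RepWith (S := S) @Etale).comp_mem _ _
      ((AlgSp.repWith_yon_map_iff @Etale _).2 (inferInstanceAs (Etale (Scheme.Opens.ι V'o)))) hbe
  obtain ⟨O, hOdef⟩ : ∃ O : Set (Points Y.obj), O = Set.range (Points.ofPt b') := ⟨_, rfl⟩
  have hO : IsOpen O := by
    rw [hOdef]; exact (isOpenMap_ofPt_of_etale b' hb'e).isOpen_range
  have hyO : y ∈ O := by
    rw [hOdef]
    refine ⟨(⟨v, hvV'⟩ : ↥V'o), ?_⟩
    rw [hb', ofPt_yon_map_comp]; exact hbv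
  have hY' : AlgSp.IsAlgSpace (openSp Y.obj O) := isAlgSpace_openSp O hO hY
  have hj : AlgSp.RepWith @IsOpenImmersion (openSpι Y.obj O) :=
    repWith_isOpenImmersion_openSpι O hO
  haveI hjmono : Mono (openSpι Y.obj O) :=
    mono_of_repWith (fun g (_ : IsOpenImmersion g) => inferInstance) hj
  have hrange : Set.range (Points.map b') ⊆ Set.range (Points.map (openSpι Y.obj O)) := by
    rw [range_map_openSpι, hOdef]
    rintro _ ⟨ξ, rfl⟩
    obtain ⟨u, rfl⟩ : ∃ u, Points.ofScheme _ u = ξ := ⟨_, Points.ofScheme_toScheme _ ξ⟩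
    exact ⟨u, Points.ofPt_eq_map_ofScheme b' u⟩
  obtain ⟨k, hk⟩ := exists_factor_of_range_subset _ hj b' hrange
  have sqk : IsPullback k (𝟙 _) (openSpι Y.obj O) b' := by
    refine ⟨⟨by rw [Category.id_comp, hk]⟩, ⟨PullbackCone.IsLimit.mk _ (fun s => s.snd) ?_ ?_ ?_⟩⟩
    · intro s
      rw [← cancel_mono (openSpι Y.obj O), Category.assoc, hk]
      exact s.condition.symm
    · intro s
      exact Category.comp_id _
    · intro s m _ h2
      rw [← h2, Category.comp_id]
  have hke : AlgSp.RepWith @Etale k := MorphismProperty.of_isPullback sqk.flip hb'e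
  have hksurj : AlgSp.IsSurjectiveMor k := by
    intro y'
    have h1 : Points.map (openSpι Y.obj O) y' ∈ Set.range (Points.map (openSpι Y.obj O)) :=
      ⟨_, rfl⟩
    rw [range_map_openSpι] at h1
    obtain ⟨u, hu⟩ := hOdef.subset h1
    refine ⟨Points.ofScheme _ u, ?_⟩
    apply injective_map_of_mono (openSpι Y.obj O)
    rw [← Points.map_comp, hk, ← Points.ofPt_eq_map_ofScheme]
    exact hu
  have hcov : AlgSp.IsFpqcCover
      (fun _ : PUnit.{u + 1} => (AlgSp.yon S).obj (GenFin.restr (GenFin.restr V₀ Vo) V'o))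
      (fun _ => k) := by
    apply Groth.Agent.Lib.Helper78.AlgSpFppfFpqc.isFpqcCover_of_isFppfCover _ _ hY'
      (fun _ => hyV')
    refine ⟨fun _ => ⟨?_, ?_⟩, fun y' => ⟨PUnit.unit, hksurj y'⟩⟩
    · exact Groth.Agent.Lib.Helper30.locP_of_repWith @Etale @Flat (fun k i hk hi => by
        have : Etale k := hk
        have : Etale i := hi
        change Flat (k ≫ i)
        infer_instance) hke
    · exact Groth.Agent.Lib.Helper30.locP_of_repWith @Etale @LocallyOfFinitePresentation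
        (fun k i hk hi => by
          have : Etale k := hk
          have : Etale i := hi
          change LocallyOfFinitePresentation (k ≫ i)
          infer_instance) hke
  -- the pullbacks
  have sqX' := IsPullback.of_hasPullback (openSpι Y.obj O) f.hom
  have hX' : AlgSp.IsAlgSpace (pullback (openSpι Y.obj O) f.hom) :=
    Groth.Agent.Lib.Helper30.isAlgSpace_of_isPullback hY.diag hY' hX sqX'
  refine ⟨⟨openSp Y.obj O, hY'⟩, ⟨pullback (openSpι Y.obj O) f.hom, hX'⟩,
    ObjectProperty.homMk (openSpι Y.obj O), ObjectProperty.homMk (pullback.fst _ _),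
    ObjectProperty.homMk (pullback.snd _ _), hj, ?_, sqX', ?_⟩
  · show y ∈ Set.range (Points.map (openSpι Y.obj O))
    rw [range_map_openSpι]
    exact hyO
  · show AlgSp.IsFiniteMor (pullback.fst (openSpι Y.obj O) f.hom)
    have sqZ := IsPullback.of_hasPullback f.hom b
    have hZ : AlgSp.IsAlgSpace (pullback f.hom b) :=
      Groth.Agent.Lib.Helper30.isAlgSpace_of_isPullback hY.diag hX hyV sqZ
    have sqZ' := IsPullback.of_hasPullback (pullback.snd f.hom b)
      ((AlgSp.yon S).map (GenFin.restrι (GenFin.restr V₀ Vo) V'o))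
    have hZ' := Groth.Agent.Lib.Helper30.isAlgSpace_of_isPullback hyV.diag hZ hyV' sqZ'
    have hp'fin := hfin _ _ _ sqZ'
    have outer := sqZ'.paste_horiz sqZ
    rw [← hb'] at outer
    have hw : (pullback.snd (pullback.snd f.hom b)
        ((AlgSp.yon S).map (GenFin.restrι (GenFin.restr V₀ Vo) V'o)) ≫ k) ≫ openSpι Y.obj O =
        (pullback.fst (pullback.snd f.hom b)
          ((AlgSp.yon S).map (GenFin.restrι (GenFin.restr V₀ Vo) V'o)) ≫
          pullback.fst f.hom b) ≫ f.hom := by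
      rw [Category.assoc, hk]; exact outer.w.symm
    obtain ⟨q, hq1, hq2⟩ : ∃ q : pullback (pullback.snd f.hom b)
        ((AlgSp.yon S).map (GenFin.restrι (GenFin.restr V₀ Vo) V'o)) ⟶
        pullback (openSpι Y.obj O) f.hom,
        q ≫ pullback.fst (openSpι Y.obj O) f.hom = pullback.snd (pullback.snd f.hom b)
          ((AlgSp.yon S).map (GenFin.restrι (GenFin.restr V₀ Vo) V'o)) ≫ k ∧
        q ≫ pullback.snd (openSpι Y.obj O) f.hom = pullback.fst (pullback.snd f.hom b)
          ((AlgSp.yon S).map (GenFin.restrι (GenFin.restr V₀ Vo) V'o)) ≫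
          pullback.fst f.hom b :=
      ⟨sqX'.lift _ _ hw, sqX'.lift_fst _ _ _, sqX'.lift_snd _ _ _⟩
    have sqq : IsPullback q (pullback.snd (pullback.snd f.hom b)
        ((AlgSp.yon S).map (GenFin.restrι (GenFin.restr V₀ Vo) V'o)))
        (pullback.fst (openSpι Y.obj O) f.hom) k := by
      refine IsPullback.of_right ?_ hq1 sqX'.flip
      rw [hq2, hk]
      exact outer
    exact ((Groth.Agent.S10540.result S)
      (fun _ : PUnit.{u + 1} => (AlgSp.yon S).obj (GenFin.restr (GenFin.restr V₀ Vo) V'o))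
      (fun _ => k) hY' (fun _ => hyV') hcov (pullback.fst (openSpι Y.obj O) f.hom) hX'
      (fun _ => _) (fun _ => _) (fun _ => q) (fun _ => hZ') (fun _ => sqq)).2 (fun _ => hp'fin)

end Groth.Agent.S10398
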