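import Groth.Statements.S1040
import Groth.Agent.Lib.Helper68.DerCoprod2
import Groth.Agent.Lib.Helper99.RestrKInj
import Groth.Agent.Lib.QCoh.Helper24_Colimits

set_option autoImplicit false
universe u
open CategoryTheory CategoryTheory.Limits AlgebraicGeometry
attribute [local instance] HasDerivedCategory.standard
open Perf

namespace Groth.Agent.S1040

open Groth.Agent.Lib.Helper68.DerCoprod

section

universe w v' u'

variable {A : Type u'} [Category.{v'} A] [Abelian A] {J : Type w}
  [HasColimitsOfShape (Discrete J) A] [HasExactColimitsOfShape (Discrete J) A]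

/-- the homology of the termwise coproduct is the colimit of the homology functor. -/
noncomputable def homologySigmaCIso (K : J → CochainComplex A ℤ) (n : ℤ) :
    (sigmaC K).homology n ≅ colim.obj ((fam K).sc n).homology :=
  ShortComplex.mapHomologyIso ((fam K).sc n) colim

/-- evaluation of the homology functor. -/
noncomputable def homologyFamIso (K : J → CochainComplex A ℤ) (n : ℤ) (j : J) :
    ((fam K).sc n).homology.obj ⟨j⟩ ≅ (K j).homology n :=
  (ShortComplex.mapHomologyIso ((fam K).sc n) ((evaluation (Discrete J) A).obj ⟨j⟩)).symm ≪≫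
    ShortComplex.homologyMapIso (ShortComplex.isoMk (Iso.refl _) (Iso.refl _) (Iso.refl _)
      ((Category.id_comp _).trans (Category.comp_id _).symm)
      ((Category.id_comp _).trans (Category.comp_id _).symm))

end

open Groth.Agent.Lib.Helper68 Groth.Agent.Lib.QCoh in
/-- Let X be a scheme and Kᵢ a family of objects of D(O_X) with quasi-coherent cohomology sheaves,
indexed by a small type, whose direct sum exists in D(O_X). Then ∐ Kᵢ has quasi-coherent cohomology
sheaves. -/
theorem result (X : Scheme.{u}) {ι : Type u} (K : ι → DCoh.D X) (hK : ∀ i, DCoh.IsQCohD (K i)) [HasCoproduct K] :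
    DCoh.IsQCohD (∐ K) := by
  have : IsGrothendieckAbelian.{u} X.Modules :=
    Groth.Agent.Lib.Helper99.RestrKInj.isGrothendieckAbelian_modules X
  have : HasExactColimitsOfShape (Discrete ι) X.Modules := inferInstance
  let K' : ι → CochainComplex X.Modules ℤ := fun i => DerivedCategory.Q.objPreimage (K i)
  let e : ∀ i, DerivedCategory.Q.obj (K' i) ≅ K i := fun i =>
    DerivedCategory.Q.objObjPreimageIso (K i)
  have hc := DerCoprod2.isColimitCofan K'
  have : HasCoproductsOfShape ι (DCoh.D X) := DerCoprod2.hasCoproductsOfShape X.Modules ι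
  let φ : ∐ K ≅ DerivedCategory.Q.obj (sigmaC K') :=
    Sigma.mapIso (fun i => (e i).symm) ≪≫
      (colimit.isColimit _).coconePointUniqueUpToIso hc
  intro n
  have h1 : ∀ (C : CochainComplex X.Modules ℤ),
      DCoh.HD (DerivedCategory.Q.obj C) n ≅ C.homology n := fun C =>
    (DerivedCategory.homologyFunctorFactors X.Modules n).app C
  have hj : ∀ j : Discrete ι, (((fam K').sc n).homology.obj j).IsQuasicoherent := by
    rintro ⟨j⟩
    refine isQuasicoherent_of_iso ?_ (hK j n)
    exact (DerivedCategory.homologyFunctor X.Modules n).mapIso (e j).symm ≪≫ h1 (K' j) ≪≫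
      (homologyFamIso K' n j).symm
  have h2 := isQuasicoherent_colimit _ hj
  refine isQuasicoherent_of_iso ?_ h2
  exact (homologySigmaCIso K' n).symm ≪≫ (h1 (sigmaC K')).symm ≪≫
    (DerivedCategory.homologyFunctor X.Modules n).mapIso φ.symm

end Groth.Agent.S1040
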