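import Groth.Statements.S10404
import Groth.Agent.Lib.Helper51.AlgSpJacobson3

set_option autoImplicit false
universe u
open CategoryTheory CategoryTheory.Limits AlgebraicGeometry Topology TopologicalSpace
open AlgSp

namespace Groth.Agent.S10404

/-- A decent algebraic space X over a scheme S is Jacobson if and only if the topological space |X| is
Jacobson. -/
theorem result {S : Scheme.{u}} (X : AlgSp.Space S) (hd : AlgSp.IsDecent X.obj) :
    AlgSp.EtaleLocally (fun U => JacobsonSpace ↥U) X.obj ↔ JacobsonSpace (AlgSp.Points X.obj) := by
  exact ⟨fun hJ => Groth.Agent.Lib.Helper51.jacobsonSpace_points_of_jacobson X.property hd hJ,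
    fun hJ => Groth.Agent.Lib.Helper51.jacobson_of_jacobsonSpace_points X.property hd hJ⟩

end Groth.Agent.S10404
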