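import Groth.Statements.S10406
import Groth.Agent.Lib.Helper51.AlgSpGeneriz
import Groth.Agent.Lib.Helper51.AlgSpSpecial
import Groth.Agent.Lib.Helper51.AlgSpCharts

set_option autoImplicit false
universe u
open CategoryTheory CategoryTheory.Limits AlgebraicGeometry Topology TopologicalSpace
open AlgSp

namespace Groth.Agent.S10406

open Groth.Agent.Lib.Helper51 Groth.Agent.Lib.Helper52 in

/-- Let S be a scheme, Y and X decent, locally Noetherian algebraic spaces over S, and f : Y ⟶ X a
surjective finite morphism, and let δ : |X| → ℤ be a function. Suppose δ ∘ |f| is a dimension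
function on |Y| (it decreases strictly along nontrivial specializations and by exactly one along
immediate specializations). Then δ is a dimension function on |X|. -/
theorem result {S : Scheme.{u}} {X Y : AlgSp.Space S} (f : Y ⟶ X)
    (hf : AlgSp.IsFiniteMor f.hom) (hs : AlgSp.IsSurjectiveMor f.hom) (hX : AlgSp.IsDecent X.obj)
    (hY : AlgSp.IsDecent Y.obj) (hXN : AlgSp.IsLocNoethSp X.obj) (hYN : AlgSp.IsLocNoethSp Y.obj)
    (δ : AlgSp.Points X.obj → ℤ)
    (hδ : (∀ a b : AlgSp.Points Y.obj, a ⤳ b → a ≠ b → (δ ∘ AlgSp.Points.map f.hom) b < (δ ∘ AlgSp.Points.map f.hom) a ∧ ((∀ c : AlgSp.Points Y.obj, a ⤳ c → c ⤳ b → c = a ∨ c = b) → (δ ∘ AlgSp.Points.map f.hom) a = (δ ∘ AlgSp.Points.map f.hom) b + 1))) :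
    (∀ a b : AlgSp.Points X.obj, a ⤳ b → a ≠ b → δ b < δ a ∧ ((∀ c : AlgSp.Points X.obj, a ⤳ c → c ⤳ b → c = a ∨ c = b) → δ a = δ b + 1)) := by
  intro x x' hxx' hne
  -- an affine etale chart through x'
  obtain ⟨V₀, b₀, hb₀, hb₀s⟩ := X.property.atlas
  obtain ⟨v₀, hv₀⟩ := surjective_ofPt_of_repWith_surjective b₀ hb₀s x'
  obtain ⟨V', hV', hv₀V', -⟩ := exists_isAffineOpen_mem_and_subset
    (TopologicalSpace.Opens.mem_top v₀)
  let b := (AlgSp.yon S).map (opensOverι V₀ V') ≫ b₀
  have hb : AlgSp.RepWith @Etale b := repWith_etale_yon_map_comp _ inferInstance b₀ hb₀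
  haveI : IsAffine (opensOver V₀ V').left := hV'
  let v' : ↥(opensOver V₀ V').left := ⟨v₀, hv₀V'⟩
  have hv' : Points.ofPt b v' = x' := by
    change Points.ofPt ((AlgSp.yon S).map (opensOverι V₀ V') ≫ b₀) v' = x'
    rw [ofPt_yon_map_comp]
    exact hv₀
  -- lift the generization
  obtain ⟨p, hp, _, hq⟩ := hX x
  obtain ⟨v, hvv', hv⟩ := exists_generization_of_quasiCompact_fieldPt x' p
    (by rw [hp]; exact hxx') hq b hb v' hv'
  rw [hp] at hv
  -- the finite pullback
  obtain ⟨W, i, fst, sq, _, hfin⟩ := hf (Z := opensOver V₀ V') hV' b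
  haveI : IsFinite i.left := hfin
  have hfst : AlgSp.RepWith @Etale fst := MorphismProperty.of_isPullback sq.flip hb
  have hcomm : ∀ w : ↥W.left, Points.map f.hom (Points.ofPt fst w) = Points.ofPt b (i.left w) := by
    intro w
    rw [Points.map_ofPt, sq.w, ofPt_yon_map_comp]
  -- a point over v
  obtain ⟨w, hw⟩ : ∃ w : ↥W.left, i.left w = v := by
    have : Points.ofPt b v ∈ Set.range (Points.map f.hom) := hs _
    exact (ofPt_mem_range_map_iff sq v).1 this
  -- a specialization over v'
  obtain ⟨w', hw'cl, hw'⟩ : ∃ w' ∈ closure ({w} : Set ↥W.left), i.left w' = v' := by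
    have hcl : IsClosed (i.left '' closure ({w} : Set ↥W.left)) :=
      i.left.isClosedMap _ isClosed_closure
    have hmem : v ∈ i.left '' closure ({w} : Set ↥W.left) := ⟨w, subset_closure rfl, hw⟩
    have : v' ∈ i.left '' closure ({w} : Set ↥W.left) := by
      have h1 : closure ({v} : Set _) ⊆ i.left '' closure ({w} : Set ↥W.left) :=
        hcl.closure_subset_iff.2 (Set.singleton_subset_iff.2 hmem)
      exact h1 (specializes_iff_mem_closure.1 hvv')
    obtain ⟨w', h1, h2⟩ := this
    exact ⟨w', h1, h2⟩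
  have hww' : w ⤳ w' := specializes_iff_mem_closure.2 hw'cl
  have hy : Points.map f.hom (Points.ofPt fst w) = x := by rw [hcomm, hw, hv]
  have hy' : Points.map f.hom (Points.ofPt fst w') = x' := by rw [hcomm, hw', hv']
  have hyy' : Points.ofPt fst w ⤳ Points.ofPt fst w' := hww'.map (Points.continuous_ofPt fst)
  have hyne : Points.ofPt fst w ≠ Points.ofPt fst w' := by
    intro h
    apply hne
    rw [← hy, ← hy', h]
  obtain ⟨h1, h2⟩ := hδ _ _ hyy' hyne
  simp only [Function.comp] at h1 h2
  rw [hy, hy'] at h1 h2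
  refine ⟨h1, fun himm => h2 ?_⟩
  intro z hz1 hz2
  -- lift z to the chart W of Y
  obtain ⟨pz, hpz, _, hqz⟩ := hY z
  obtain ⟨wz, hwzw', hwz⟩ := exists_generization_of_quasiCompact_fieldPt (Points.ofPt fst w') pz
    (by rw [hpz]; exact hz2) hqz fst hfst w' rfl
  rw [hpz] at hwz
  obtain ⟨py, hpy, _, hqy⟩ := hY (Points.ofPt fst w)
  obtain ⟨wy, hwywz, hwy⟩ := exists_generization_of_quasiCompact_fieldPt z py
    (by rw [hpy]; exact hz1) hqy fst hfst wz hwz
  rw [hpy] at hwy
  have hfz1 : x ⤳ Points.map f.hom z := by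
    rw [← hy]; exact hz1.map (Points.continuous_map f.hom)
  have hfz2 : Points.map f.hom z ⤳ x' := by
    rw [← hy']; exact hz2.map (Points.continuous_map f.hom)
  have hdisc : ∀ (w₁ w₂ : ↥W.left), w₁ ⤳ w₂ → i.left w₁ = i.left w₂ → w₁ = w₂ := by
    intro w₁ w₂ h12 he
    have hd : _root_.IsDiscrete (i.left ⁻¹' {i.left w₂}) := i.left.isDiscrete_preimage_singleton _
    exact hd.eq_of_specializes h12 he rfl
  rcases himm _ hfz1 hfz2 with h | h
  · left
    -- f z = x = f y
    have he : Points.ofPt b (i.left wz) = Points.ofPt b (i.left wy) := by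
      rw [← hcomm, ← hcomm, hwz, hwy, h, hy]
    have hsp : i.left wy ⤳ i.left wz := hwywz.map i.left.continuous
    have heq : i.left wz = i.left wy := eq_of_specializes_of_isDecent hX b hb _ _ he hsp
    have : wy = wz := hdisc wy wz hwywz heq.symm
    rw [← hwz, ← this, hwy]
  · right
    have he : Points.ofPt b (i.left w') = Points.ofPt b (i.left wz) := by
      rw [← hcomm, ← hcomm, hwz, h, hy']
    have hsp : i.left wz ⤳ i.left w' := hwzw'.map i.left.continuous
    have heq : i.left w' = i.left wz := eq_of_specializes_of_isDecent hX b hb _ _ he hsp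
    have : wz = w' := hdisc wz w' hwzw' heq.symm
    rw [← hwz, this]

end Groth.Agent.S10406
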