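import Groth.Statements.S10409
import Groth.Agent.Lib.Helper51.AlgSpQuotField8
import Groth.Agent.Lib.Helper78.AlgSpBasic

set_option autoImplicit false
universe u
open CategoryTheory CategoryTheory.Limits AlgebraicGeometry Topology TopologicalSpace
open AlgSp

namespace Groth.Agent.S10409

open Groth.Agent.Lib.Helper51 Groth.Agent.Lib.Helper52 in
theorem aux {S : Scheme.{u}} (X : AlgSp.Space S) (x : AlgSp.Points X.obj) :
    (∃ p : AlgSp.FieldPt X.obj, AlgSp.Points.mk p = x ∧ Mono p.toHom) ↔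
      ∃ q : AlgSp.FieldPt X.obj, AlgSp.Points.mk q = x ∧
        ∀ (P : AlgSp.Sp S) (fst snd : P ⟶ (AlgSp.yon S).obj q.pt), IsPullback fst snd q.toHom q.toHom →
          AlgSp.RepWith @Etale fst ∧ AlgSp.RepWith @QuasiCompact fst := by
  constructor
  · rintro ⟨p, hp, hm⟩
    refine ⟨p, hp, ?_⟩
    intro P fst snd sq
    have : IsIso fst := sq.isIso_fst_of_mono
    have i1 : MorphismProperty.ContainsIdentities @Etale.{u} :=
      (inferInstance : MorphismProperty.IsMultiplicative @Etale.{u}).toContainsIdentities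
    have i2 : MorphismProperty.ContainsIdentities @QuasiCompact.{u} :=
      (inferInstance : MorphismProperty.IsMultiplicative @QuasiCompact.{u}).toContainsIdentities
    exact ⟨Groth.Agent.Lib.Helper78.AlgSpBasic.repWith_of_isIso @Etale fst,
      Groth.Agent.Lib.Helper78.AlgSpBasic.repWith_of_isIso @QuasiCompact fst⟩
  · rintro ⟨q, hq, H⟩
    have sq0 := IsPullback.of_hasPullback q.toHom q.toHom
    obtain ⟨hfe, hfq⟩ := H _ _ _ sq0
    set fst := Limits.pullback.fst q.toHom q.toHom with hfst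
    set snd := Limits.pullback.snd q.toHom q.toHom with hsnd
    have sq1 := hfe.1.isPullback (𝟙 ((AlgSp.yon S).obj q.pt))
    have hiso : IsIso (hfe.1.fst (𝟙 ((AlgSp.yon S).obj q.pt))) := sq1.isIso_fst_of_isIso
    let pr1 := hfe.1.snd (𝟙 ((AlgSp.yon S).obj q.pt))
    have hpr1 : (AlgSp.yon S).map pr1 = hfe.1.fst (𝟙 ((AlgSp.yon S).obj q.pt)) ≫ fst := by
      have := sq1.w
      rw [Category.comp_id] at this
      exact this.symm
    have het : Etale pr1.left := hfe.2 _ _ _ sq1
    have hqc : QuasiCompact pr1.left := hfq.2 _ _ _ sq1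
    have haff : IsAffine q.pt.left := inferInstanceAs (IsAffine (Spec (CommRingCat.of q.K)))
    have hc : CompactSpace ↥(hfe.1.pullback (𝟙 ((AlgSp.yon S).obj q.pt))).left :=
      QuasiCompact.compactSpace_of_compactSpace pr1.left
    have hfinset : Finite ↥(hfe.1.pullback (𝟙 ((AlgSp.yon S).obj q.pt))).left :=
      finite_of_etale_over_field (K := q.K) pr1.left
    have hfin : IsFinite pr1.left := isFinite_of_etale_of_finite (κ := q.K) pr1.left
    let pr2 : hfe.1.pullback (𝟙 ((AlgSp.yon S).obj q.pt)) ⟶ q.pt :=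
      (AlgSp.yon S).preimage (hfe.1.fst (𝟙 ((AlgSp.yon S).obj q.pt)) ≫ snd)
    have hpr2 : (AlgSp.yon S).map pr2 = hfe.1.fst (𝟙 ((AlgSp.yon S).obj q.pt)) ≫ snd :=
      Functor.map_preimage _ _
    have sq' : IsPullback ((AlgSp.yon S).map pr1) ((AlgSp.yon S).map pr2) q.toHom q.toHom := by
      rw [hpr1, hpr2]
      refine IsPullback.of_iso sq0 (asIso (hfe.1.fst (𝟙 ((AlgSp.yon S).obj q.pt)))).symm
        (Iso.refl _) (Iso.refl _) (Iso.refl _) ?_ ?_ ?_ ?_
      · simp
      · simp
      · simp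
      · simp
    obtain ⟨k, _, ι, hιfin, strk, hk, p, hp, hmono⟩ :=
      exists_mono_of_finite_kernelPair' (K := q.K) q.str q.toHom pr1 pr2 hfin sq'
    refine ⟨fieldPtOfHom strk p, ?_, ?_⟩
    · rw [← hq]
      refine AlgSp.Points.sound ((rel_iff_toHom _ _).2
        ⟨q.K, inferInstance, q.str, Over.homMk (Spec.map (CommRingCat.ofHom ι)) hk, 𝟙 _, ?_⟩)
      rw [fieldPtOfHom_toHom]
      exact hp.trans ((congrArg (· ≫ _) ((AlgSp.yon S).map_id _)).trans (Category.id_comp _)).symm
    · rw [fieldPtOfHom_toHom]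
      exact hmono

/-- (3) ⇔ (4): for an algebraic space X over a scheme S and x ∈ |X|, there is a monomorphism Spec k ⟶ X
representing x if and only if there is a morphism Spec k' ⟶ X representing x whose
self-fibre-product has etale and quasi-compact projections to Spec k'. -/
theorem result {S : Scheme.{u}} (X : AlgSp.Space S)
    (x : AlgSp.Points X.obj) :
    (∃ p : AlgSp.FieldPt X.obj, AlgSp.Points.mk p = x ∧ Mono p.toHom) ↔
      ∃ q : AlgSp.FieldPt X.obj, AlgSp.Points.mk q = x ∧
        ∀ (P : AlgSp.Sp S) (fst snd : P ⟶ (AlgSp.yon S).obj q.pt), IsPullback fst snd q.toHom q.toHom →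
          AlgSp.RepWith @Etale fst ∧ AlgSp.RepWith @QuasiCompact fst := by
  exact aux X x

end Groth.Agent.S10409
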