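import Groth.Statements.S10410
import Groth.Agent.Lib.Helper51.AlgSpQuotField9

set_option autoImplicit false
universe u
open CategoryTheory CategoryTheory.Limits AlgebraicGeometry Topology TopologicalSpace
open AlgSp

namespace Groth.Agent.S10410

open Groth.Agent.Lib.Helper51 Groth.Agent.Lib.Helper52 in
theorem aux {S : Scheme.{u}} (X : AlgSp.Space S) (x : AlgSp.Points X.obj)
    {U : Over S} (φ : (AlgSp.yon S).obj U ⟶ X.obj) (hφ : AlgSp.RepWith @Etale φ) :
    (x ∈ Set.range (AlgSp.Points.ofPt φ) ∧ (AlgSp.Points.ofPt φ ⁻¹' {x}).Finite ∧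
        ∀ (R : Over S) (s t : R ⟶ U), IsPullback ((AlgSp.yon S).map t) ((AlgSp.yon S).map s) φ φ →
          (AlgSp.Points.ofPt ((AlgSp.yon S).map t ≫ φ) ⁻¹' {x}).Finite) ↔
      ∃ p : AlgSp.FieldPt X.obj, AlgSp.Points.mk p = x ∧ Mono p.toHom ∧
        ∀ (T : Over S) (c : T ⟶ p.pt) (snd : (AlgSp.yon S).obj T ⟶ (AlgSp.yon S).obj U),
          IsPullback ((AlgSp.yon S).map c) snd p.toHom φ → Nonempty ↥T.left ∧ IsFinite c.left := by
  constructor
  · rintro ⟨⟨u, hu⟩, hfU, hfR⟩
    obtain ⟨R, t, s, sqR⟩ := exists_isPullback_of_representable hφ.1 φ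
    have hfin : {r : ↥R.left | s.left r = u ∧ t.left r = u}.Finite := by
      refine (hfR R s t sqR).subset ?_
      rintro r ⟨-, hr⟩
      rw [Set.mem_preimage, Set.mem_singleton_iff, ofPt_yon_map_comp, hr, hu]
    obtain ⟨p, hp, hmono⟩ := exists_mono_fieldPt_of_finite_fibre φ hφ s t sqR u hfin
    refine ⟨p, hp.trans hu, hmono, ?_⟩
    intro T c snd sq
    obtain ⟨v, rfl⟩ := (AlgSp.yon S).map_surjective snd
    have hc : Etale c.left := hφ.2 p.toHom _ c sq.flip
    have hmv : Mono ((AlgSp.yon S).map v) := sq.mono_snd_of_mono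
    have hmv' : Mono v := (AlgSp.yon S).mono_of_mono_map hmv
    have hml : Mono v.left := inferInstance
    have hinj : Function.Injective v.left := v.left.injective
    have hT : Finite ↥T.left := by
      have : (Set.univ : Set ↥T.left).Finite := by
        refine Set.Finite.of_finite_image (f := v.left) (hfU.subset ?_) hinj.injOn
        rintro _ ⟨z, -, rfl⟩
        rw [Set.mem_preimage, Set.mem_singleton_iff, ← hu, ← hp]
        rw [← ofPt_eq_ofPt_of_isPullback sq z, AlgSp.Points.ofPt_toHom]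
      exact Set.finite_univ_iff.mp this
    refine ⟨?_, isFinite_of_etale_of_finite (κ := p.K) c.left⟩
    have hz : AlgSp.Points.ofPt p.toHom (IsLocalRing.closedPoint p.K) = AlgSp.Points.ofPt φ u :=
      (AlgSp.Points.ofPt_toHom p _).trans hp
    obtain ⟨z, -, -⟩ := exists_of_ofPt_eq_ofPt sq hz
    exact ⟨z⟩
  · rintro ⟨p, hp, hm, H⟩
    have := hm
    have hrep := X.property.representable_from_yon p.toHom
    obtain ⟨T, c, v, sq⟩ := exists_isPullback_of_representable hrep φ
    obtain ⟨⟨t0⟩, hcfin⟩ := H T c _ sq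
    have hT : Finite ↥T.left := finite_of_isFinite_spec_field (κ := p.K) c.left
    have hx0 : AlgSp.Points.ofPt φ (v.left t0) = x := by
      rw [← ofPt_eq_ofPt_of_isPullback sq t0, AlgSp.Points.ofPt_toHom, hp]
    have hfU : (AlgSp.Points.ofPt φ ⁻¹' {x}).Finite := by
      refine (Set.finite_range v.left).subset ?_
      intro u hu
      rw [Set.mem_preimage, Set.mem_singleton_iff, ← hp,
        ← AlgSp.Points.ofPt_toHom p (IsLocalRing.closedPoint p.K)] at hu
      obtain ⟨z, -, hz⟩ := exists_of_ofPt_eq_ofPt sq hu.symm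
      exact ⟨z, hz⟩
    refine ⟨⟨_, hx0⟩, hfU, ?_⟩
    intro R s t sqR
    have h2 : ∀ u ∈ AlgSp.Points.ofPt φ ⁻¹' {x}, ∀ u' ∈ AlgSp.Points.ofPt φ ⁻¹' {x},
        {r : ↥R.left | s.left r = u ∧ t.left r = u'}.Finite := by
      intro u hu u' hu'
      exact finite_pairs_of_mono_fieldPt X.property p φ hφ u u'
        (hu.trans hp.symm) (hu'.trans hp.symm) s t sqR
    refine (Set.Finite.biUnion hfU (fun u hu => Set.Finite.biUnion hfU (h2 u hu))).subset ?_
    intro r hr
    rw [Set.mem_preimage, Set.mem_singleton_iff, ofPt_yon_map_comp] at hr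
    have hr' : AlgSp.Points.ofPt φ (s.left r) = x := by
      rw [← ofPt_eq_ofPt_of_isPullback sqR r]; exact hr
    exact Set.mem_biUnion (x := s.left r) hr' (Set.mem_biUnion (x := t.left r) hr ⟨rfl, rfl⟩)

/-- Let X be an algebraic space over a scheme S, x ∈ |X|, and φ : U ⟶ X etale with U a scheme. Then x
lies in the image of |U| and the fibres of |U| → |X| and |U ×_X U| → |X| over x are finite, if and
only if x is represented by a monomorphism Spec k ⟶ X such that Spec k ×_X U is a nonempty scheme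
finite over k. -/
theorem result {S : Scheme.{u}} (X : AlgSp.Space S) (x : AlgSp.Points X.obj)
    {U : Over S} (φ : (AlgSp.yon S).obj U ⟶ X.obj) (hφ : AlgSp.RepWith @Etale φ) :
    (x ∈ Set.range (AlgSp.Points.ofPt φ) ∧ (AlgSp.Points.ofPt φ ⁻¹' {x}).Finite ∧
        ∀ (R : Over S) (s t : R ⟶ U), IsPullback ((AlgSp.yon S).map t) ((AlgSp.yon S).map s) φ φ →
          (AlgSp.Points.ofPt ((AlgSp.yon S).map t ≫ φ) ⁻¹' {x}).Finite) ↔
      ∃ p : AlgSp.FieldPt X.obj, AlgSp.Points.mk p = x ∧ Mono p.toHom ∧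
        ∀ (T : Over S) (c : T ⟶ p.pt) (snd : (AlgSp.yon S).obj T ⟶ (AlgSp.yon S).obj U),
          IsPullback ((AlgSp.yon S).map c) snd p.toHom φ → Nonempty ↥T.left ∧ IsFinite c.left := by
  exact aux X x φ hφ

end Groth.Agent.S10410
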