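import Groth.Statements.S10412
import Groth.Agent.Lib.Helper51.AlgSpVR

set_option autoImplicit false
universe u
open CategoryTheory CategoryTheory.Limits AlgebraicGeometry Topology TopologicalSpace
open AlgSp

namespace Groth.Agent.S10412

/-- For an algebraic space X over a scheme S the following are equivalent: (1) X has a Zariski covering
by open subspaces X_i, each X_i admitting a surjective, etale and quasi-compact morphism U_i ⟶ X_i
with U_i a scheme; (2) there are etale morphisms U_i ⟶ X from schemes, jointly surjective, such that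
for each i both projection morphisms from U_i ×_X U_i to U_i are quasi-compact. -/
theorem result {S : Scheme.{u}} (X : AlgSp.Space S) :
    (∃ (ι : Type u) (Xi : ι → AlgSp.Space S) (j : ∀ i, Xi i ⟶ X) (U : ι → Over S)
        (a : ∀ i, (AlgSp.yon S).obj (U i) ⟶ (Xi i).obj),
        AlgSp.IsZarCover (fun i => (Xi i).obj) (fun i => (j i).hom) ∧
          ∀ i, AlgSp.RepWith @Etale (a i) ∧ AlgSp.RepWith @Surjective (a i) ∧ AlgSp.RepWith @QuasiCompact (a i)) ↔
      ∃ (ι : Type u) (U : ι → Over S) (φ : ∀ i, (AlgSp.yon S).obj (U i) ⟶ X.obj),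
        (∀ i, AlgSp.RepWith @Etale (φ i)) ∧
          (∀ x : AlgSp.Points X.obj, ∃ (i : ι) (v : ↥(U i).left), AlgSp.Points.ofPt (φ i) v = x) ∧
          ∀ (i : ι) (R : Over S) (s t : R ⟶ U i), IsPullback ((AlgSp.yon S).map t) ((AlgSp.yon S).map s) (φ i) (φ i) →
            QuasiCompact s.left ∧ QuasiCompact t.left := by
  open Groth.Agent.Lib.Helper51 in
  constructor
  · rintro ⟨ι, Xi, j, U, a, hj, ha⟩
    have hmono : ∀ i, Mono (j i).hom := fun i =>
      mono_of_repWith (fun g (_ : IsOpenImmersion g) => inferInstance) (hj.1 i)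
    have hje : ∀ i, AlgSp.RepWith @Etale (j i).hom := fun i =>
      repWith_etale_of_isOpenImmersion _ (hj.1 i)
    refine ⟨ι, U, fun i => a i ≫ (j i).hom, fun i => ?_, fun x => ?_, fun i R s t sq => ?_⟩
    · exact repWith_etale_comp _ _ (ha i).1 (hje i)
    · obtain ⟨i, xi, rfl⟩ := hj.2 x
      obtain ⟨v, rfl⟩ := surjective_ofPt_of_repWith_surjective (a i) (ha i).2.1 xi
      exact ⟨i, v, (Points.map_ofPt _ _ _).symm⟩
    · have : Mono (j i).hom := hmono i
      have sq' := (isPullback_comp_mono_iff _ _ _ _ (j i).hom).1 sq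
      exact ⟨(ha i).2.2.2 _ _ _ sq', (ha i).2.2.2 _ _ _ sq'.flip⟩
  · rintro ⟨ι, U, φ, hφ, hsurj, hqc⟩
    have hopen : ∀ i, IsOpen (Set.range (Points.ofPt (φ i))) :=
      fun i => (isOpenMap_ofPt_of_etale (φ i) (hφ i)).isOpen_range
    have hfac := fun i => exists_factor_surjective_etale_of_open_image (φ i) (hφ i)
      (openSpι X.obj (Set.range (Points.ofPt (φ i))))
      (repWith_isOpenImmersion_openSpι _ (hopen i)) (range_map_openSpι _)
    choose a ha1 ha2 ha3 ha4 using hfac
    refine ⟨ι, fun i => ⟨openSp X.obj (Set.range (Points.ofPt (φ i))),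
        isAlgSpace_openSp _ (hopen i) X.property⟩,
      fun i => ObjectProperty.homMk (openSpι X.obj _), U, a, ⟨fun i => ?_, fun x => ?_⟩, fun i => ?_⟩
    · exact repWith_isOpenImmersion_openSpι _ (hopen i)
    · obtain ⟨i, v, rfl⟩ := hsurj x
      refine ⟨i, ?_⟩
      show _ ∈ Set.range (Points.map (openSpι X.obj _))
      rw [range_map_openSpι]
      exact ⟨v, rfl⟩
    · refine ⟨ha2 i, ha3 i, ?_⟩
      have hR := exists_isPullback_of_representable (hφ i).1 (φ i)
      obtain ⟨R, t, s, sq⟩ := hR
      have hs : QuasiCompact s.left := (hqc i R s t sq).1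
      have hmono : Mono (openSpι X.obj (Set.range (Points.ofPt (φ i)))) := inferInstance
      have sq' : IsPullback ((AlgSp.yon S).map t) ((AlgSp.yon S).map s) (a i) (a i) := by
        apply (isPullback_comp_mono_iff _ _ _ _ (openSpι X.obj (Set.range (Points.ofPt (φ i))))).1
        rw [ha1 i]
        exact sq
      exact repWith_quasiCompact_of_kernelPair (a i) (ha2 i) (ha3 i) s t sq' hs

end Groth.Agent.S10412
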