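import Groth.Statements.S10413
import Groth.Agent.Lib.Helper52.Points
import Mathlib.CategoryTheory.Sites.PreservesLimits

set_option autoImplicit false
universe u
open CategoryTheory CategoryTheory.Limits AlgebraicGeometry Topology TopologicalSpace
open AlgSp

namespace Groth.Agent.S10413

/-- Let S be a scheme, X and Y algebraic spaces over S, and X ⟶ Y a representable morphism. If every
point of Y can be represented by a monomorphism into Y from the spectrum of a field, then every
point of X can likewise be represented by such a monomorphism into X. -/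
theorem result {S : Scheme.{u}} {X Y : AlgSp.Space S} (f : X ⟶ Y) (hf : AlgSp.Representable f.hom)
    (hY : ∀ y : AlgSp.Points Y.obj, ∃ q : AlgSp.FieldPt Y.obj, AlgSp.Points.mk q = y ∧ Mono q.toHom)
    (x : AlgSp.Points X.obj) : ∃ p : AlgSp.FieldPt X.obj, AlgSp.Points.mk p = x ∧ Mono p.toHom := by
  classical
  obtain ⟨q, hq, hqm⟩ := hY (AlgSp.Points.map f.hom x)
  obtain ⟨T, snd, fst, sq⟩ := hf q.toHom
  let s : ↥(Spec (CommRingCat.of q.K)) := IsLocalRing.closedPoint q.K
  have hz : AlgSp.Points.map q.toHom (AlgSp.Points.ofScheme q.pt s) = AlgSp.Points.mk q := by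
    rw [← AlgSp.Points.ofPt_eq_map_ofScheme, AlgSp.Points.ofPt_toHom]
  obtain ⟨w, hw1, hw2⟩ := Groth.Agent.Lib.Helper52.exists_point_of_isPullback sq x
    (AlgSp.Points.ofScheme q.pt s) (by rw [hz, hq])
  let t := AlgSp.Points.toScheme T w
  have hwt : w = AlgSp.Points.ofScheme T t := (AlgSp.Points.ofScheme_toScheme T w).symm
  refine ⟨AlgSp.FieldPt.ofPt fst t, ?_, ?_⟩
  · change AlgSp.Points.ofPt fst t = x
    rw [AlgSp.Points.ofPt_eq_map_ofScheme, ← hwt, hw1]
  · rw [AlgSp.FieldPt.toHom_ofPt]
    have h1 : Mono fst := sq.mono_fst_of_mono hqm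
    have h2 : Mono (Over.homMk (T.left.fromSpecResidueField t) rfl :
        Over.mk (T.left.fromSpecResidueField t ≫ T.hom) ⟶ T) := by
      apply Over.mono_of_mono_left
    have h3 : Mono ((AlgSp.yon S).map (Over.homMk (T.left.fromSpecResidueField t) rfl :
        Over.mk (T.left.fromSpecResidueField t ≫ T.hom) ⟶ T)) := (AlgSp.yon S).map_mono _
    exact @mono_comp _ _ _ _ _ _ h3 _ h1

end Groth.Agent.S10413
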