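import Groth.Statements.S10417
import Groth.Agent.Lib.Helper98.AlgSpLqfFinite
import Groth.Agent.Lib.Helper78.AlgSpLocP3
import Groth.Agent.Lib.Helper78.AlgSpLocPLoft

set_option autoImplicit false
universe u
open CategoryTheory CategoryTheory.Limits AlgebraicGeometry Topology TopologicalSpace
open AlgSp

namespace Groth.Agent.S10417

open Groth.Agent.Lib.Helper31.AlgSpFlatAt Groth.Agent.Lib.Helper52 Groth.Agent.Lib.Helper51
  Groth.Agent.Lib.Helper98.AlgSpPtLocal Groth.Agent.Lib.Helper98.AlgSpLqf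
  Groth.Agent.Lib.Helper78.AlgSpFibre Groth.Agent.Lib.Helper78.AlgSpLocP
  Groth.Agent.Lib.Helper78.AlgSpLocPLoft in
/-- Let W = X ×_Y Z be a fibre product of algebraic spaces over a scheme S with projections p, q and let
x ∈ |X|, z ∈ |Z| lie over the same point of |Y|. If f : X ⟶ Y is of finite type and quasi-finite at
x, then the set of points of |W| mapping to x and to z is finite. -/
theorem result {S : Scheme.{u}} {X Y Z W : AlgSp.Space S} (f : X ⟶ Y)
    (g : Z ⟶ Y) (p : W ⟶ X) (q : W ⟶ Z) (hW : IsPullback p.hom q.hom f.hom g.hom) (x : AlgSp.Points X.obj)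
    (z : AlgSp.Points Z.obj) (hxz : AlgSp.Points.map f.hom x = AlgSp.Points.map g.hom z)
    (hft : AlgSp.IsFiniteTypeMor f.hom) (hf : AlgSp.HasAtMor (fun U _ h u => ∃ W : U.Opens, u ∈ W ∧ LocallyQuasiFinite (W.ι ≫ h) ∧ LocallyOfFiniteType (W.ι ≫ h)) f.hom x) :
    {w : AlgSp.Points W.obj | AlgSp.Points.map p.hom w = x ∧ AlgSp.Points.map q.hom w = z}.Finite := by
  induction z using Points.ind with
  | h r =>
  obtain ⟨G⟩ := exists_goodChart f.hom (𝟙 Y.obj) X.property Y.property Y.property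
  haveI : LocallyOfFiniteType G.k.left := hft.1 G.a G.b G.k G.ha G.hb G.comm_f
  haveI : Subsingleton ↥r.pt.left := inferInstanceAs (Subsingleton (PrimeSpectrum r.K))
  haveI : Subsingleton (Points ((yon S).obj r.pt)) := (Points.schemeEquiv r.pt).symm.subsingleton
  -- the fibre of `f` over the field point `r ≫ g`
  have big := IsPullback.of_hasPullback f.hom (r.toHom ≫ g.hom)
  set XK : AlgSp.Sp S := pullback f.hom (r.toHom ≫ g.hom) with hXKdef
  set fstK : XK ⟶ X.obj := pullback.fst f.hom (r.toHom ≫ g.hom) with hfstK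
  set sndK : XK ⟶ (yon S).obj r.pt := pullback.snd f.hom (r.toHom ≫ g.hom) with hsndK
  have hXK : IsAlgSpace XK :=
    isAlgSpace_of_isPullback big Y.property.diag X.property (IsAlgSpace.yon_obj r.pt)
  have wl : fstK ≫ f.hom = (sndK ≫ r.toHom) ≫ g.hom := by
    rw [Category.assoc]; exact big.w
  obtain ⟨l, hl1, hl2⟩ : ∃ l : XK ⟶ W.obj, l ≫ p.hom = fstK ∧ l ≫ q.hom = sndK ≫ r.toHom :=
    ⟨hW.lift _ _ wl, hW.lift_fst _ _ _, hW.lift_snd _ _ _⟩
  have sqL : IsPullback l sndK q.hom r.toHom :=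
    IsPullback.of_right (by rw [hl1]; exact big) hl2 hW
  -- finite type of the fibre
  have hlft : LocP @LocallyOfFiniteType sndK :=
    locP_of_isPullback etLocalST_loft big (repAll_of_isAlgSpace Y.property)
      (by obtain ⟨U, a, h1, h2⟩ := X.property.atlas; exact ⟨U, a, h1, h2⟩)
      (by obtain ⟨U, a, h1, h2⟩ := Y.property.atlas; exact ⟨U, a, h1, h2⟩) hft.1
  have hqc : IsQuasiCompactMor sndK := by
    intro Z₁ Z₁' hZ₁ hqc₁ g₁ fst₁ snd₁ sq₁
    exact hft.2 hZ₁ hqc₁ _ _ _ (sq₁.paste_horiz big)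
  let XKs : AlgSp.Space S := ⟨XK, hXK⟩
  let ptS : AlgSp.Space S := ⟨(yon S).obj r.pt, IsAlgSpace.yon_obj r.pt⟩
  let sndK' : XKs ⟶ ptS := ObjectProperty.homMk sndK
  have hfin := finite_lqfNear_fibre sndK' ⟨hlft, hqc⟩
    (Points.ofScheme r.pt (IsLocalRing.closedPoint r.K))
  refine (hfin.image (Points.map l)).subset ?_
  rintro w ⟨hw1, hw2⟩
  have hpt : Points.map r.toHom (Points.ofScheme r.pt (IsLocalRing.closedPoint r.K)) =
      Points.mk r := by
    rw [Points.map_ofPt, Category.id_comp, Points.ofPt_toHom]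
  obtain ⟨ξ, hξ1, hξ2⟩ := exists_point_of_isPullback sqL w
    (Points.ofScheme r.pt (IsLocalRing.closedPoint r.K)) (by rw [hw2, hpt])
  refine ⟨ξ, ⟨Subsingleton.elim _ _, ?_⟩, hξ1⟩
  show HasAtMor LqfNear sndK ξ
  rw [hasAtMor_baseChange_iff etLocalPt_lqfNear G
    (fun mU k'' mV sq u'' => lqfNear_baseChange_iff G.k.left mU k'' mV sq u'')
    (IsAlgSpace.yon_obj r.pt) (r.toHom ≫ g.hom) sndK (𝟙 _) fstK (r.toHom ≫ g.hom)
    IsPullback.of_id_snd big ξ]
  have : Points.map fstK ξ = x := by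
    rw [← hl1, Points.map_comp, hξ1, hw1]
  rw [this]
  exact hf

end Groth.Agent.S10417
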