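import Groth.Statements.S10420
import Groth.Agent.Lib.Helper7.AlgSpBr7
import Groth.Agent.Lib.Helper51.AlgSpPoints2

set_option autoImplicit false
universe u
open CategoryTheory CategoryTheory.Limits AlgebraicGeometry Topology TopologicalSpace
open AlgSp

namespace Groth.Agent.S10420

open Groth.Agent.Lib.Helper52 Groth.Agent.Lib.Helper51 Groth.Agent.Lib.Helper7.AlgSpBr

/-- In the fibre product `R` of a chart `U₂` with itself over a sheaf, there is at most one point
over `(u₂, u₂)` when `u₂` defines a monomorphism `Spec κ(u₂) ⟶ F`. -/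
theorem eq_of_mono_point {S : Scheme.{u}} {F : AlgSp.Sp S} {U₂ R : Over S}
    (a₂ : (AlgSp.yon S).obj U₂ ⟶ F) (p₁ p₂ : R ⟶ U₂)
    (sq : IsPullback ((AlgSp.yon S).map p₁) ((AlgSp.yon S).map p₂) a₂ a₂) (u₂ : ↥U₂.left)
    (hm : Mono (FieldPt.ofPt a₂ u₂).toHom) (r r' : ↥R.left)
    (h1 : p₁.left r = u₂) (h2 : p₂.left r = u₂) (h1' : p₁.left r' = u₂) (h2' : p₂.left r' = u₂) :
    r = r' := by
  let K : Over S := Over.mk (U₂.left.fromSpecResidueField u₂ ≫ U₂.hom)
  let ι₂ : K ⟶ U₂ := Over.homMk (U₂.left.fromSpecResidueField u₂) rfl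
  have hι : (AlgSp.yon S).map ι₂ ≫ a₂ = (FieldPt.ofPt a₂ u₂).toHom := (FieldPt.toHom_ofPt a₂ u₂).symm
  have sqP := IsPullback.of_hasPullback ((AlgSp.yon S).map p₂) ((AlgSp.yon S).map ι₂)
  have big := sqP.paste_horiz sq
  haveI : Mono ((AlgSp.yon S).map ι₂ ≫ a₂) := by rw [hι]; exact hm
  haveI hmono : Mono (pullback.fst ((AlgSp.yon S).map p₂) ((AlgSp.yon S).map ι₂) ≫
      (AlgSp.yon S).map p₁) := big.mono_fst_of_mono
  let pt : ↥K.left := (IsLocalRing.closedPoint (U₂.left.residueField u₂) :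
    ↥(Spec (U₂.left.residueField u₂)))
  have hpt : ι₂.left pt = u₂ := Scheme.fromSpecResidueField_apply _ _
  have key : ∀ ρ : ↥R.left, p₂.left ρ = u₂ → ∃ z : Points (pullback ((AlgSp.yon S).map p₂)
      ((AlgSp.yon S).map ι₂)), Points.map (pullback.fst _ _) z = Points.ofScheme R ρ := by
    intro ρ hρ
    have hc : Points.map ((AlgSp.yon S).map p₂) (Points.ofScheme R ρ) =
        Points.map ((AlgSp.yon S).map ι₂) (Points.ofScheme K pt) := by
      have e1 := Points.map_yon_map_apply p₂ ρ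
      have e2 := Points.map_yon_map_apply ι₂ pt
      rw [hρ] at e1
      rw [hpt] at e2
      exact e1.trans e2.symm
    obtain ⟨z, hz1, -⟩ := exists_point_of_isPullback sqP _ _ hc
    exact ⟨z, hz1⟩
  obtain ⟨z, hz⟩ := key r h2
  obtain ⟨z', hz'⟩ := key r' h2'
  have hzz : z = z' := by
    apply injective_map_of_mono (pullback.fst ((AlgSp.yon S).map p₂) ((AlgSp.yon S).map ι₂) ≫
      (AlgSp.yon S).map p₁)
    rw [Points.map_comp, Points.map_comp, hz, hz']
    have e1 := Points.map_yon_map_apply p₁ r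
    have e2 := Points.map_yon_map_apply p₁ r'
    rw [h1] at e1
    rw [h1'] at e2
    exact e1.trans e2.symm
  apply ofScheme_injective R
  rw [← hz, ← hz', hzz]


/-- For a decent algebraic space X over a scheme S and x ∈ |X|, the category of elementary etale
neighbourhoods (U, u) ⟶ (X, x) is cofiltered: two objects are dominated by a third and two parallel
morphisms are equalized from some object (it is nonempty by the existence of elementary etale
neighbourhoods). -/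
theorem result {S : Scheme.{u}} (X : AlgSp.Space S) (hX : AlgSp.IsDecent X.obj)
    (x : AlgSp.Points X.obj) :
    (∀ (U₁ U₂ : Over S) (a₁ : (AlgSp.yon S).obj U₁ ⟶ X.obj) (a₂ : (AlgSp.yon S).obj U₂ ⟶ X.obj) (u₁ : ↥U₁.left)
        (u₂ : ↥U₂.left), AlgSp.IsElemEtaleNbhd a₁ u₁ x → AlgSp.IsElemEtaleNbhd a₂ u₂ x →
        ∃ (U : Over S) (a : (AlgSp.yon S).obj U ⟶ X.obj) (v : ↥U.left) (h₁ : U ⟶ U₁) (h₂ : U ⟶ U₂),
          AlgSp.IsElemEtaleNbhd a v x ∧ (AlgSp.yon S).map h₁ ≫ a₁ = a ∧ (AlgSp.yon S).map h₂ ≫ a₂ = a ∧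
            h₁.left v = u₁ ∧ h₂.left v = u₂) ∧
      (∀ (U₁ U₂ : Over S) (a₁ : (AlgSp.yon S).obj U₁ ⟶ X.obj) (a₂ : (AlgSp.yon S).obj U₂ ⟶ X.obj) (u₁ : ↥U₁.left)
        (u₂ : ↥U₂.left) (b c : U₁ ⟶ U₂), AlgSp.IsElemEtaleNbhd a₁ u₁ x → AlgSp.IsElemEtaleNbhd a₂ u₂ x →
        (AlgSp.yon S).map b ≫ a₂ = a₁ → (AlgSp.yon S).map c ≫ a₂ = a₁ → b.left u₁ = u₂ → c.left u₁ = u₂ →
        ∃ (U : Over S) (a : (AlgSp.yon S).obj U ⟶ X.obj) (v : ↥U.left) (h : U ⟶ U₁),
          AlgSp.IsElemEtaleNbhd a v x ∧ (AlgSp.yon S).map h ≫ a₁ = a ∧ h.left v = u₁ ∧ h ≫ b = h ≫ c) := by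
  constructor
  · intro U₁ U₂ a₁ a₂ u₁ u₂ h₁ h₂
    obtain ⟨W, φ, ψ, sq⟩ := exists_isPullback_of_representable h₁.etale.1 a₂
    obtain ⟨w, hw1, hw2⟩ := exists_of_ofPt_eq_ofPt sq (h₁.ofPt_eq.trans h₂.ofPt_eq.symm)
    subst hw1 hw2
    have hφ : Etale φ.left := h₂.etale.2 a₁ _ φ sq.flip
    have r1 := residueFieldMap_bijective_of_mono a₁ a₂ φ ψ sq w h₂.mono
    have hnb := isElemEtaleNbhd_of_etale a₁ φ.left hφ w x h₁ r1
    let e : etOver U₁ φ.left ⟶ W := Over.homMk (𝟙 _) (by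
      show 𝟙 _ ≫ W.hom = φ.left ≫ U₁.hom
      rw [Category.id_comp, Over.w φ])
    have he1 : etOverHom U₁ φ.left = e ≫ φ := by
      apply Over.OverMorphism.ext
      show φ.left = 𝟙 _ ≫ φ.left
      rw [Category.id_comp]
    refine ⟨etOver U₁ φ.left, (AlgSp.yon S).map (etOverHom U₁ φ.left) ≫ a₁, w,
      etOverHom U₁ φ.left, e ≫ ψ, hnb, rfl, ?_, rfl, ?_⟩
    · rw [he1, Functor.map_comp, Functor.map_comp, Category.assoc, Category.assoc, sq.w]
    · show ψ.left ((𝟙 _ : W.left ⟶ W.left) w) = ψ.left w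
      rfl
  · intro U₁ U₂ a₁ a₂ u₁ u₂ b c h₁ h₂ hb hc hbu hcu
    obtain ⟨R, p₁, p₂, sqR⟩ := exists_isPullback_of_representable h₂.etale.1 a₂
    have hp₁ : Etale p₁.left := h₂.etale.2 a₂ _ p₁ sqR.flip
    -- the diagonal and the map (b, c)
    let δ : U₂ ⟶ R := (AlgSp.yon S).preimage (sqR.lift (𝟙 _) (𝟙 _) rfl)
    have hδ1 : δ ≫ p₁ = 𝟙 _ := by
      apply (AlgSp.yon S).map_injective
      rw [Functor.map_comp, Functor.map_preimage, sqR.lift_fst, CategoryTheory.Functor.map_id]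
    have hδ2 : δ ≫ p₂ = 𝟙 _ := by
      apply (AlgSp.yon S).map_injective
      rw [Functor.map_comp, Functor.map_preimage, sqR.lift_snd, CategoryTheory.Functor.map_id]
    let β : U₁ ⟶ R := (AlgSp.yon S).preimage
      (sqR.lift ((AlgSp.yon S).map b) ((AlgSp.yon S).map c) (by rw [hb, hc]))
    have hβ1 : β ≫ p₁ = b := by
      apply (AlgSp.yon S).map_injective
      rw [Functor.map_comp, Functor.map_preimage, sqR.lift_fst]
    have hβ2 : β ≫ p₂ = c := by
      apply (AlgSp.yon S).map_injective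
      rw [Functor.map_comp, Functor.map_preimage, sqR.lift_snd]
    have hδ1l : δ.left ≫ p₁.left = 𝟙 _ := by
      rw [← Over.comp_left, hδ1]; rfl
    have hδ2l : δ.left ≫ p₂.left = 𝟙 _ := by
      rw [← Over.comp_left, hδ2]; rfl
    have hβ1l : β.left ≫ p₁.left = b.left := by rw [← Over.comp_left, hβ1]
    have hβ2l : β.left ≫ p₂.left = c.left := by rw [← Over.comp_left, hβ2]
    -- the two points agree
    have hpt : β.left u₁ = δ.left u₂ := by
      apply eq_of_mono_point a₂ p₁ p₂ sqR u₂ h₂.mono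
      · rw [← Scheme.Hom.comp_apply, hβ1l, hbu]
      · rw [← Scheme.Hom.comp_apply, hβ2l, hcu]
      · rw [← Scheme.Hom.comp_apply, hδ1l]; rfl
      · rw [← Scheme.Hom.comp_apply, hδ2l]; rfl
    -- δ is etale and mono
    haveI : Etale (δ.left ≫ p₁.left) := by rw [hδ1l]; infer_instance
    haveI hδe : Etale δ.left :=
      MorphismProperty.of_postcomp (W := @Etale) (W' := @Etale) δ.left p₁.left hp₁ ‹_›
    haveI hδm : Mono δ.left := mono_of_mono_fac hδ1l
    -- the open neighbourhood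
    let g : pullback β.left δ.left ⟶ U₁.left := pullback.fst β.left δ.left
    haveI hge : Etale g := inferInstanceAs (Etale (pullback.fst β.left δ.left))
    haveI hgm : Mono g := inferInstanceAs (Mono (pullback.fst β.left δ.left))
    haveI hgo : IsOpenImmersion g := IsOpenImmersion.of_flat_of_mono g
    obtain ⟨w, hw1, hw2⟩ := Scheme.Pullback.exists_preimage_pullback (f := β.left) (g := δ.left)
      u₁ u₂ hpt
    have hres : Function.Bijective (g.residueFieldMap w) :=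
      (ConcreteCategory.isIso_iff_bijective _).mp inferInstance
    have h₁' : AlgSp.IsElemEtaleNbhd a₁ (g w) x := by rw [show g w = u₁ from hw1]; exact h₁
    have hnb := isElemEtaleNbhd_of_etale a₁ g hge w x h₁' hres
    refine ⟨etOver U₁ g, (AlgSp.yon S).map (etOverHom U₁ g) ≫ a₁, w, etOverHom U₁ g, hnb, rfl,
      hw1, ?_⟩
    apply Over.OverMorphism.ext
    show g ≫ b.left = g ≫ c.left
    have hcond : g ≫ β.left = pullback.snd β.left δ.left ≫ δ.left := pullback.condition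
    rw [← hβ1l, ← hβ2l, ← Category.assoc, ← Category.assoc, hcond, Category.assoc, Category.assoc,
      hδ1l, hδ2l]

end Groth.Agent.S10420
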