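import Groth.Statements.S10422
import Mathlib.LinearAlgebra.Matrix.Rank
import Mathlib.LinearAlgebra.TensorProduct.Finiteness
import Mathlib.RingTheory.TensorProduct.Maps
import Mathlib.RingTheory.TensorProduct.Nontrivial
import Mathlib.RingTheory.Ideal.Quotient.Basic
import Mathlib.RingTheory.Spectrum.Prime.RingHom

set_option autoImplicit false
universe u
open Topology TopologicalSpace TensorProduct
open AlgSp

namespace Groth.Agent.S10422

open TensorProduct

/-- Amalgamation of two field extensions of `k`. -/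
theorem exists_amalg {k L₁ L₂ : Type u} [Field k] [Field L₁] [Field L₂] (φ₁ : k →+* L₁)
    (φ₂ : k →+* L₂) :
    ∃ (Ω : Type u) (_ : Field Ω) (i₁ : L₁ →+* Ω) (i₂ : L₂ →+* Ω), i₁.comp φ₁ = i₂.comp φ₂ := by
  letI := φ₁.toAlgebra
  letI := φ₂.toAlgebra
  have : Nontrivial (L₁ ⊗[k] L₂) :=
    Algebra.TensorProduct.nontrivial_of_algebraMap_injective_of_isDomain k L₁ L₂
      (algebraMap k L₁).injective (algebraMap k L₂).injective
  obtain ⟨m, hm⟩ := Ideal.exists_maximal (L₁ ⊗[k] L₂)
  letI : Field ((L₁ ⊗[k] L₂) ⧸ m) := Ideal.Quotient.field m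
  refine ⟨(L₁ ⊗[k] L₂) ⧸ m, inferInstance,
    (Ideal.Quotient.mk m).comp (Algebra.TensorProduct.includeLeft (R := k) (S := k)).toRingHom,
    (Ideal.Quotient.mk m).comp (Algebra.TensorProduct.includeRight (R := k)).toRingHom, ?_⟩
  ext x
  change Ideal.Quotient.mk m ((algebraMap k L₁ x) ⊗ₜ[k] (1 : L₂)) =
    Ideal.Quotient.mk m ((1 : L₁) ⊗ₜ[k] (algebraMap k L₂ x))
  rw [Algebra.algebraMap_eq_smul_one, Algebra.algebraMap_eq_smul_one, TensorProduct.smul_tmul]

/-- Simultaneous amalgamation of finitely many field extensions of `k`. -/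
theorem exists_amalg_fin {k : Type u} [Field k] (K : ℕ → Type u) [∀ n, Field (K n)]
    [∀ n, Algebra k (K n)] (N : ℕ) :
    ∃ (L : Type u) (_ : Field L) (ι : k →+* L) (τ : ∀ j : Fin N, K j →+* L),
      ∀ j, (τ j).comp (algebraMap k (K j)) = ι := by
  induction N with
  | zero => exact ⟨k, inferInstance, RingHom.id k, fun j => j.elim0, fun j => j.elim0⟩
  | succ N ih =>
    obtain ⟨L, _, ι, τ, hτ⟩ := ih
    obtain ⟨Ω, _, i₁, i₂, h12⟩ := exists_amalg ι (algebraMap k (K N))
    refine ⟨Ω, inferInstance, i₁.comp ι,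
      Fin.lastCases (motive := fun j : Fin (N + 1) => K j →+* Ω) i₂ (fun j => i₁.comp (τ j)), ?_⟩
    intro j
    refine Fin.lastCases ?_ (fun j => ?_) j
    · rw [Fin.lastCases_last]
      exact h12.symm
    · rw [Fin.lastCases_castSucc, RingHom.comp_assoc]
      exact congrArg _ (hτ j)

/-- Let A be a ring, k a field, (p_n) a sequence of primes of A which are pairwise distinct, and k →
κ(p_n) field embeddings. Then the closure in Spec(A ⊗ A) of the image of ∐_{n ≠ m} Spec(κ(p_n) ⊗_k
κ(p_m)) meets the diagonal. Here κ(p_n) is any A-algebra K_n which is a field whose structure map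
has kernel p_n and whose elements are quotients of images of elements of A. -/
theorem result (A : Type u) [CommRing A] (k : Type u) [Field k]
    (p : ℕ → PrimeSpectrum A) (hp : Function.Injective p) (K : ℕ → Type u) [∀ n, Field (K n)]
    [∀ n, Algebra A (K n)] [∀ n, Algebra k (K n)]
    (hker : ∀ n, RingHom.ker (algebraMap A (K n)) = (p n).asIdeal)
    (hfrac : ∀ n (x : K n), ∃ a b : A, algebraMap A (K n) b ≠ 0 ∧ x * algebraMap A (K n) b = algebraMap A (K n) a) :
    (closure (⋃ (n : ℕ) (m : ℕ) (_ : n ≠ m),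
        Set.range (PrimeSpectrum.comap
          (Algebra.TensorProduct.lift
            ((Algebra.TensorProduct.includeLeft (R := k) (S := ℤ) (A := K n) (B := K m)).toRingHom.toIntAlgHom.comp
              (Algebra.ofId A (K n)).toRingHom.toIntAlgHom)
            ((Algebra.TensorProduct.includeRight (R := k) (A := K n) (B := K m)).toRingHom.toIntAlgHom.comp
              (Algebra.ofId A (K m)).toRingHom.toIntAlgHom)
            (fun _ _ => Commute.all _ _)).toRingHom)) ∩
      Set.range (PrimeSpectrum.comap (Algebra.TensorProduct.lmul' (S := A) ℤ).toRingHom)).Nonempty := by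
  classical
  by_contra hne
  rw [Set.not_nonempty_iff_eq_empty] at hne
  -- notation for the maps
  set Φ : ∀ n m : ℕ, (A ⊗[ℤ] A) →+* (K n ⊗[k] K m) := fun n m =>
    (Algebra.TensorProduct.lift
      ((Algebra.TensorProduct.includeLeft (R := k) (S := ℤ) (A := K n) (B := K m)).toRingHom.toIntAlgHom.comp
        (Algebra.ofId A (K n)).toRingHom.toIntAlgHom)
      ((Algebra.TensorProduct.includeRight (R := k) (A := K n) (B := K m)).toRingHom.toIntAlgHom.comp
        (Algebra.ofId A (K m)).toRingHom.toIntAlgHom)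
      (fun _ _ => Commute.all _ _)).toRingHom with hΦ
  have hΦ_tmul : ∀ n m (a b : A), Φ n m (a ⊗ₜ[ℤ] b) =
      algebraMap A (K n) a ⊗ₜ[k] algebraMap A (K m) b := by
    intro n m a b
    simp only [hΦ]
    change (Algebra.TensorProduct.lift _ _ _) (a ⊗ₜ[ℤ] b) = _
    rw [Algebra.TensorProduct.lift_tmul]
    change (algebraMap A (K n) a ⊗ₜ[k] (1 : K m)) * ((1 : K n) ⊗ₜ[k] algebraMap A (K m) b) = _
    rw [Algebra.TensorProduct.tmul_mul_tmul, mul_one, one_mul]
  set Img : Set (PrimeSpectrum (A ⊗[ℤ] A)) :=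
    ⋃ (n : ℕ) (m : ℕ) (_ : n ≠ m), Set.range (PrimeSpectrum.comap (Φ n m)) with hImg
  have hsurj : Function.Surjective (Algebra.TensorProduct.lmul' (S := A) ℤ).toRingHom := by
    intro a
    exact ⟨a ⊗ₜ 1, by simp⟩
  change closure Img ∩ Set.range (PrimeSpectrum.comap (Algebra.TensorProduct.lmul' (S := A) ℤ).toRingHom) = ∅ at hne
  rw [← PrimeSpectrum.zeroLocus_vanishingIdeal_eq_closure,
    _root_.range_comap_of_surjective _ _ hsurj, ← PrimeSpectrum.zeroLocus_sup,
    PrimeSpectrum.zeroLocus_empty_iff_eq_top, Ideal.eq_top_iff_one, Submodule.mem_sup] at hne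
  obtain ⟨f, hf, g, hg, hfg⟩ := hne
  have hmul : Algebra.TensorProduct.lmul' (S := A) ℤ f = 1 := by
    have h1 := congrArg (Algebra.TensorProduct.lmul' (S := A) ℤ) hfg
    rw [map_add, map_one] at h1
    have h2 : Algebra.TensorProduct.lmul' (S := A) ℤ g = 0 := hg
    rw [h2, add_zero] at h1
    exact h1
  obtain ⟨Sf, hSf⟩ := TensorProduct.exists_finset f
  -- amalgamate the first `Sf.card + 1` fields
  obtain ⟨L, _, ι, τ, hτ⟩ := exists_amalg_fin (k := k) K (Sf.card + 1)
  letI : Algebra k L := ι.toAlgebra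
  let τ' : ∀ j : Fin (Sf.card + 1), K j →ₐ[k] L := fun j =>
    { τ j with commutes' := fun x => RingHom.congr_fun (hτ j) x }
  -- vanishing of f on image points
  have hvanish : ∀ j l : Fin (Sf.card + 1), j ≠ l →
      ∑ i ∈ Sf, τ j (algebraMap A (K j) i.1) * τ l (algebraMap A (K l) i.2) = 0 := by
    intro j l hjl
    let ρ : (K j ⊗[k] K l) →ₐ[k] L :=
      Algebra.TensorProduct.lift (τ' j) (τ' l) (fun _ _ => Commute.all _ _)
    have hprime : (RingHom.ker ρ.toRingHom).IsPrime := RingHom.ker_isPrime _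
    let P : PrimeSpectrum (K j ⊗[k] K l) := ⟨RingHom.ker ρ.toRingHom, hprime⟩
    have hmem : PrimeSpectrum.comap (Φ j l) P ∈ Img := by
      rw [hImg]
      simp only [Set.mem_iUnion]
      exact ⟨j, l, fun h => hjl (Fin.ext h), P, rfl⟩
    have h1 : f ∈ (PrimeSpectrum.comap (Φ j l) P).asIdeal :=
      (PrimeSpectrum.mem_vanishingIdeal _ _).1 hf _ hmem
    have h2 : ρ (Φ j l f) = 0 := h1
    rw [hSf, map_sum, map_sum] at h2
    rw [← h2]
    refine Finset.sum_congr rfl (fun i _ => ?_)
    rw [hΦ_tmul, Algebra.TensorProduct.lift_tmul]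
    rfl
  have hdiag : ∀ j : Fin (Sf.card + 1),
      ∑ i ∈ Sf, τ j (algebraMap A (K j) i.1) * τ j (algebraMap A (K j) i.2) = 1 := by
    intro j
    have h1 : ∑ i ∈ Sf, i.1 * i.2 = (1 : A) := by
      rw [← hmul, hSf, map_sum]
      refine Finset.sum_congr rfl (fun i _ => ?_)
      rw [Algebra.TensorProduct.lmul'_apply_tmul]
    have h2 := congrArg (fun a => τ j (algebraMap A (K j) a)) h1
    simp only [map_sum, map_mul, map_one] at h2
    exact h2
  -- the matrix identity
  let P : Matrix (Fin (Sf.card + 1)) Sf L := fun j i => τ j (algebraMap A (K j) i.1.1)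
  let Q : Matrix Sf (Fin (Sf.card + 1)) L := fun i l => τ l (algebraMap A (K l) i.1.2)
  have hPQ : P * Q = 1 := by
    ext j l
    rw [Matrix.mul_apply, Finset.sum_coe_sort Sf
      (fun i => τ j (algebraMap A (K j) i.1) * τ l (algebraMap A (K l) i.2))]
    by_cases hjl : j = l
    · subst hjl
      rw [Matrix.one_apply_eq]
      exact hdiag j
    · rw [Matrix.one_apply_ne hjl]
      exact hvanish j l hjl
  have h1 : (P * Q).rank ≤ Sf.card := by
    refine (Matrix.rank_mul_le_left P Q).trans ?_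
    refine (Matrix.rank_le_card_width P).trans ?_
    simp
  rw [hPQ, Matrix.rank_one] at h1
  simp at h1

end Groth.Agent.S10422
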