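import Groth.Statements.S10424
import Groth.Agent.Lib.Helper38.UnivBddSp
import Groth.Agent.S7437
open CategoryTheory.Limits

set_option autoImplicit false
universe u
open CategoryTheory CategoryTheory.Limits AlgebraicGeometry Topology TopologicalSpace
open AlgSp

namespace Groth.Agent.S10424

/-- Let X be an algebraic space over a scheme S, V ⟶ U a morphism of schemes over S and U ⟶ X a
morphism. Suppose that the fibres of V ⟶ U and of U ⟶ X are universally bounded. Then V ⟶ X also has
universally bounded fibres. -/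
theorem result {S : Scheme.{u}} (X : AlgSp.Space S) {U V : Over S} (f : V ⟶ U)
    (g : (AlgSp.yon S).obj U ⟶ X.obj) (hf : W4dec.HasUnivBddFibres ((AlgSp.yon S).map f)) (hg : W4dec.HasUnivBddFibres g) :
    W4dec.HasUnivBddFibres ((AlgSp.yon S).map f ≫ g) := by
  obtain ⟨n, hn⟩ := hf
  obtain ⟨m, hm⟩ := hg
  refine ⟨n * m, ?_⟩
  intro q T c snd hpb
  obtain ⟨T1, c1, fst1, sq1⟩ := X.property.representable_from_yon g q.toHom
  obtain ⟨u1, rfl⟩ := (AlgSp.yon S).map_surjective fst1
  obtain ⟨hfin1, hrank1⟩ := hm q T1 c1 _ sq1.flip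
  obtain ⟨v, rfl⟩ := (AlgSp.yon S).map_surjective snd
  have hw : (AlgSp.yon S).map (v ≫ f) ≫ g = (AlgSp.yon S).map c ≫ q.toHom := by
    rw [Functor.map_comp, Category.assoc]
    exact hpb.w.symm
  obtain ⟨c', hc'⟩ := (AlgSp.yon S).map_surjective (sq1.lift _ _ hw)
  have e1 : (AlgSp.yon S).map c' ≫ (AlgSp.yon S).map u1 = (AlgSp.yon S).map v ≫ (AlgSp.yon S).map f := by
    rw [hc', sq1.lift_fst, Functor.map_comp]
  have e2 : (AlgSp.yon S).map c' ≫ (AlgSp.yon S).map c1 = (AlgSp.yon S).map c := by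
    rw [hc', sq1.lift_snd]
  have e2' : c' ≫ c1 = c := (AlgSp.yon S).map_injective (by rw [Functor.map_comp, e2])
  have sqtop : IsPullback ((AlgSp.yon S).map v) ((AlgSp.yon S).map c') ((AlgSp.yon S).map f)
      ((AlgSp.yon S).map u1) := by
    refine IsPullback.of_bot ?_ e1.symm sq1
    rw [e2]
    exact hpb.flip
  have sqsch : IsPullback v.left c'.left f.left u1.left :=
    Groth.Agent.Lib.Helper51.isPullback_left_of_yon sqtop
  have hf' : BddFib.FibreDegLE f.left n := Groth.Agent.Lib.Helper38.fibreDegLE_of_degFibresLE f n hn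
  have hc'deg : BddFib.FibreDegLE c'.left n :=
    Groth.Agent.S7437.result f.left u1.left c'.left v.left sqsch n hf'
  let pt : Spec (CommRingCat.of q.K) := default
  have hc1deg : BddFib.FiniteOfDegLE (CommRingCat.of q.K) c1.left m :=
    Groth.Agent.Lib.Helper38.finiteOfDegLE_of_isFinite_of_le (K := q.K) c1.left pt (hrank1 pt)
  have hcomp := Groth.Agent.Lib.Helper38.finiteOfDegLE_comp c'.left c1.left hc1deg hc'deg
  have e3 : c'.left ≫ c1.left = c.left := by rw [← e2']; rfl
  rw [e3] at hcomp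
  exact Groth.Agent.Lib.Helper38.isFinite_and_finrank_le_of_finiteOfDegLE c.left hcomp

end Groth.Agent.S10424
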