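import Groth.Statements.S10426
import Groth.Agent.Lib.Helper38.UnivBddSp
import Groth.Agent.Lib.Helper52.Points
open CategoryTheory.Limits

set_option autoImplicit false
universe u
open CategoryTheory CategoryTheory.Limits AlgebraicGeometry Topology TopologicalSpace
open AlgSp

namespace Groth.Agent.S10426

/-- Let S be a scheme, X and Y algebraic spaces over S, and g : Y ⟶ X a representable morphism; let U be
a scheme, f : U ⟶ X a morphism, and f′ : U ×_X Y ⟶ Y its base change. Assume the image of |U| → |X|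
is contained in the image of |Y| → |X| and that f′ has universally bounded fibres. Then the morphism
f also has universally bounded fibres. -/
theorem result {S : Scheme.{u}} {X Y : AlgSp.Space S} (g : Y ⟶ X)
    (hg : AlgSp.Representable g.hom) {U V : Over S} (f : (AlgSp.yon S).obj U ⟶ X.obj)
    (fst : (AlgSp.yon S).obj V ⟶ (AlgSp.yon S).obj U) (f' : (AlgSp.yon S).obj V ⟶ Y.obj) (h : IsPullback fst f' f g.hom)
    (him : Set.range (AlgSp.Points.ofPt f) ⊆ Set.range (AlgSp.Points.map g.hom)) (hf' : W4dec.HasUnivBddFibres f') :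
    W4dec.HasUnivBddFibres f := by
  obtain ⟨n, hn⟩ := hf'
  refine ⟨n, ?_⟩
  intro q T c snd hpb
  obtain ⟨v, rfl⟩ := (AlgSp.yon S).map_surjective snd
  by_cases hemp : IsEmpty T.left
  · -- empty fibre
    refine Groth.Agent.Lib.Helper38.isFinite_and_finrank_le_of_finiteOfDegLE (K := q.K) c.left ?_
    refine ⟨inferInstance, ?_, ?_⟩
    · letI := BddFib.secAlgebra (CommRingCat.of q.K) c.left
      exact Module.Finite.of_surjective (0 : q.K →ₗ[q.K] Γ(T.left, ⊤))
        (fun x => ⟨0, Subsingleton.elim _ _⟩)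
    · letI := BddFib.secAlgebra (CommRingCat.of q.K) c.left
      rw [Module.finrank_zero_of_subsingleton]
      exact Nat.zero_le _
  rw [not_isEmpty_iff] at hemp
  obtain ⟨t⟩ := hemp
  have h1 : AlgSp.Points.ofPt f (v.left t) = AlgSp.Points.mk q := by
    rw [← Groth.Agent.Lib.Helper52.ofPt_yon_map_comp, ← hpb.w,
      Groth.Agent.Lib.Helper52.ofPt_yon_map_comp, AlgSp.Points.ofPt_toHom]
  obtain ⟨y, hy⟩ := him ⟨v.left t, rfl⟩
  rw [h1] at hy
  induction y using AlgSp.Points.ind with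
  | h y =>
  rw [AlgSp.Points.map_mk] at hy
  obtain ⟨Ω, _, w, a0, b, hab0⟩ :=
    (Groth.Agent.Lib.Helper52.rel_iff_toHom _ _).1 (AlgSp.Points.mk_eq_mk_iff.1 hy)
  obtain ⟨a, ha⟩ : ∃ a : Over.mk w ⟶ y.pt, a = a0 := ⟨a0, rfl⟩
  have hab : (AlgSp.yon S).map a ≫ (y.toHom ≫ g.hom) = (AlgSp.yon S).map b ≫ q.toHom := by
    rw [ha]
    exact (congrArg (fun k : (AlgSp.yon S).obj y.pt ⟶ X.obj => (AlgSp.yon S).map a0 ≫ k)
      (AlgSp.FieldPt.toHom_map g.hom y)).symm.trans hab0
  -- the base change of `T` to `Ω`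
  let TΩ : Over S := Over.mk (pullback.snd c.left b.left ≫ w)
  let cΩ : TΩ ⟶ Over.mk w := Over.homMk (pullback.snd c.left b.left) rfl
  have hpr : pullback.fst c.left b.left ≫ T.hom = pullback.snd c.left b.left ≫ w := by
    rw [← Over.w c, ← Category.assoc, pullback.condition, Category.assoc]
    congr 1
    exact Over.w b
  let pr : TΩ ⟶ T := Over.homMk (pullback.fst c.left b.left) hpr
  have sqO : IsPullback pr cΩ c b :=
    IsPullback.of_map_of_faithful (Over.forget S) (IsPullback.of_hasPullback c.left b.left)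
  have sqY := sqO.map (AlgSp.yon S)
  have big : IsPullback ((AlgSp.yon S).map cΩ) ((AlgSp.yon S).map pr ≫ (AlgSp.yon S).map v)
      ((AlgSp.yon S).map b ≫ q.toHom) f := sqY.flip.paste_vert hpb
  rw [← hab, ← Category.assoc] at big
  have hw' : ((AlgSp.yon S).map pr ≫ (AlgSp.yon S).map v) ≫ f =
      ((AlgSp.yon S).map cΩ ≫ ((AlgSp.yon S).map a ≫ y.toHom)) ≫ g.hom := by
    rw [Category.assoc _ _ g.hom]
    exact big.w.symm
  obtain ⟨l, hl⟩ : ∃ l, l = h.lift _ _ hw' := ⟨_, rfl⟩
  have e1 : l ≫ fst = (AlgSp.yon S).map pr ≫ (AlgSp.yon S).map v := by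
    rw [hl]
    exact h.lift_fst _ _ _
  have e2 : l ≫ f' = (AlgSp.yon S).map cΩ ≫ ((AlgSp.yon S).map a ≫ y.toHom) := by
    rw [hl]
    exact h.lift_snd _ _ _
  have sql : IsPullback l ((AlgSp.yon S).map cΩ) f' ((AlgSp.yon S).map a ≫ y.toHom) := by
    refine IsPullback.of_right ?_ e2 h
    rw [e1]
    exact big.flip
  let y' : AlgSp.FieldPt Y.obj := Groth.Agent.Lib.Helper52.fieldPtOfHom w ((AlgSp.yon S).map a ≫ y.toHom)
  have hy' : y'.toHom = (AlgSp.yon S).map a ≫ y.toHom :=
    Groth.Agent.Lib.Helper52.fieldPtOfHom_toHom _ _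
  rw [← hy'] at sql
  obtain ⟨hfinΩ, hrankΩ⟩ := hn y' TΩ cΩ _ sql.flip
  have hfinΩ' : IsFinite (pullback.snd c.left b.left) := hfinΩ
  let pt : Spec (CommRingCat.of Ω) := default
  have hdegΩ : BddFib.FiniteOfDegLE (CommRingCat.of Ω) (pullback.snd c.left b.left) n :=
    Groth.Agent.Lib.Helper38.finiteOfDegLE_of_isFinite_of_le (K := Ω) _ pt (hrankΩ pt)
  have hb : Spec.map (Spec.preimage b.left) = b.left := Spec.map_preimage _
  have sqS : IsPullback (pullback.fst c.left b.left) (pullback.snd c.left b.left) c.left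
      (Spec.map (Spec.preimage b.left)) := by
    rw [hb]
    exact IsPullback.of_hasPullback c.left b.left
  have hdeg := Groth.Agent.Lib.Helper38.finiteOfDegLE_of_isPullback_descent (K := q.K) (L := Ω)
    (Spec.preimage b.left) sqS hdegΩ
  exact Groth.Agent.Lib.Helper38.isFinite_and_finrank_le_of_finiteOfDegLE c.left hdeg

end Groth.Agent.S10426
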