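import Groth.Statements.S10427
import Groth.Agent.Lib.Helper38.UnivBddSp
open CategoryTheory.Limits

set_option autoImplicit false
universe u
open CategoryTheory CategoryTheory.Limits AlgebraicGeometry Topology TopologicalSpace
open AlgSp

namespace Groth.Agent.S10427

/-- Let X be an algebraic space over a scheme S and U ⟶ V ⟶ X with U, V schemes, U ⟶ V surjective and
flat. If U ⟶ X has universally bounded fibres, then so does V ⟶ X. -/
theorem result {S : Scheme.{u}} (X : AlgSp.Space S) {U V : Over S} (f : U ⟶ V)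
    [Surjective f.left] [Flat f.left] (h : (AlgSp.yon S).obj V ⟶ X.obj) (hg : W4dec.HasUnivBddFibres ((AlgSp.yon S).map f ≫ h)) :
    W4dec.HasUnivBddFibres h := by
  obtain ⟨n, hn⟩ := hg
  refine ⟨n, ?_⟩
  intro q T c snd hpb
  obtain ⟨T', c', fst', sq'⟩ := X.property.representable_from_yon ((AlgSp.yon S).map f ≫ h) q.toHom
  obtain ⟨u', rfl⟩ := (AlgSp.yon S).map_surjective fst'
  obtain ⟨hfin', hrank'⟩ := hn q T' c' _ sq'.flip
  obtain ⟨v, rfl⟩ := (AlgSp.yon S).map_surjective snd
  have hw : (AlgSp.yon S).map c' ≫ q.toHom = (AlgSp.yon S).map (u' ≫ f) ≫ h := by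
    rw [Functor.map_comp, Category.assoc]
    exact sq'.w.symm
  obtain ⟨d, hd⟩ := (AlgSp.yon S).map_surjective (hpb.lift _ _ hw)
  have e1 : (AlgSp.yon S).map d ≫ (AlgSp.yon S).map c = (AlgSp.yon S).map c' := by
    rw [hd, hpb.lift_fst]
  have e2 : (AlgSp.yon S).map d ≫ (AlgSp.yon S).map v = (AlgSp.yon S).map u' ≫ (AlgSp.yon S).map f := by
    rw [hd, hpb.lift_snd, Functor.map_comp]
  have e1' : d ≫ c = c' := (AlgSp.yon S).map_injective (by rw [Functor.map_comp, e1])
  have sqtop : IsPullback ((AlgSp.yon S).map u') ((AlgSp.yon S).map d) ((AlgSp.yon S).map f)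
      ((AlgSp.yon S).map v) := by
    refine IsPullback.of_bot ?_ e2.symm hpb.flip
    rw [e1]
    exact sq'
  have sqsch : IsPullback u'.left d.left f.left v.left :=
    Groth.Agent.Lib.Helper51.isPullback_left_of_yon sqtop
  have hdflat : Flat d.left := MorphismProperty.of_isPullback sqsch (inferInstance : Flat f.left)
  have hdsurj : Surjective d.left :=
    MorphismProperty.of_isPullback sqsch (inferInstance : Surjective f.left)
  let pt : Spec (CommRingCat.of q.K) := default
  have hc'deg : BddFib.FiniteOfDegLE (CommRingCat.of q.K) c'.left n :=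
    Groth.Agent.Lib.Helper38.finiteOfDegLE_of_isFinite_of_le (K := q.K) c'.left pt (hrank' pt)
  have e3 : c'.left = d.left ≫ c.left := by rw [← e1']; rfl
  rw [e3] at hc'deg
  have hcdeg := Groth.Agent.Lib.Helper38.finiteOfDegLE_of_flat_surjective d.left c.left hc'deg
  exact Groth.Agent.Lib.Helper38.isFinite_and_finrank_le_of_finiteOfDegLE c.left hcdeg

end Groth.Agent.S10427
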