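import Groth.Statements.S10428
import Groth.Agent.Lib.Helper52.Points
import Groth.Agent.Lib.Helper52.FiniteOverField

set_option autoImplicit false
universe u
open CategoryTheory CategoryTheory.Limits AlgebraicGeometry Topology TopologicalSpace
open AlgSp

namespace Groth.Agent.S10428

/-- Let X be an algebraic space over a scheme S and φ : U ⟶ X a morphism from a scheme with universally
bounded fibres. Then for some integer n, every fibre of |U| → |X| contains at most n elements. -/
theorem result {S : Scheme.{u}} (X : AlgSp.Space S) {U : Over S}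
    (φ : (AlgSp.yon S).obj U ⟶ X.obj) (hφ : W4dec.HasUnivBddFibres φ) :
    ∃ n : ℕ, ∀ x : AlgSp.Points X.obj, (AlgSp.Points.ofPt φ ⁻¹' {x}).encard ≤ n := by
  classical
  obtain ⟨n, hn⟩ := hφ
  refine ⟨n, ?_⟩
  intro x
  induction x using AlgSp.Points.ind with
  | h q =>
  obtain ⟨T, c, fst, sq⟩ := X.property.representable_from_yon φ q.toHom
  obtain ⟨sndU, rfl⟩ := (AlgSp.yon S).map_surjective fst
  obtain ⟨hfin, hrank⟩ := hn q T c ((AlgSp.yon S).map sndU) sq.flip
  obtain ⟨hF, hcard⟩ := Groth.Agent.Lib.Helper52.encard_le_of_finite_over_field c.left n hrank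
  let s : ↥(Spec (CommRingCat.of q.K)) := IsLocalRing.closedPoint q.K
  have hz : AlgSp.Points.map q.toHom (AlgSp.Points.ofScheme q.pt s) = AlgSp.Points.mk q := by
    rw [← AlgSp.Points.ofPt_eq_map_ofScheme, AlgSp.Points.ofPt_toHom]
  have hsub : AlgSp.Points.ofPt φ ⁻¹' {AlgSp.Points.mk q} ⊆ Set.range sndU.left := by
    intro u hu
    have hu' : AlgSp.Points.ofPt φ u = AlgSp.Points.mk q := hu
    obtain ⟨w, hw1, hw2⟩ := Groth.Agent.Lib.Helper52.exists_point_of_isPullback sq
      (AlgSp.Points.ofScheme U u) (AlgSp.Points.ofScheme q.pt s)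
      (by rw [hz, ← AlgSp.Points.ofPt_eq_map_ofScheme, hu'])
    refine ⟨AlgSp.Points.toScheme T w, ?_⟩
    have h1 : w = AlgSp.Points.ofScheme T (AlgSp.Points.toScheme T w) :=
      (AlgSp.Points.ofScheme_toScheme T w).symm
    have h2 : AlgSp.Points.toScheme U (AlgSp.Points.map ((AlgSp.yon S).map sndU) w) = u := by
      rw [hw1, AlgSp.Points.toScheme_ofScheme]
    rw [h1, ← AlgSp.Points.ofPt_eq_map_ofScheme, AlgSp.Points.toScheme_ofPt] at h2
    exact h2
  calc (AlgSp.Points.ofPt φ ⁻¹' {AlgSp.Points.mk q}).encard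
      ≤ (Set.range sndU.left).encard := Set.encard_le_encard hsub
    _ ≤ (Set.univ : Set ↥T.left).encard := by
        rw [← Set.image_univ]; exact Set.encard_image_le _ _
    _ = (Nat.card ↥T.left : ℕ∞) := by
        rw [Set.encard_univ, ENat.card_eq_coe_natCard]
    _ ≤ n := by exact_mod_cast hcard

end Groth.Agent.S10428
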