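import Groth.Statements.S7441
import Groth.Agent.Lib.Helper38.BddFibZMT

set_option autoImplicit false
universe u
open CategoryTheory AlgebraicGeometry
open BddFib

namespace Groth.Agent.S7441

/-- Let `f : X → Y` be locally quasi-finite (locally of finite type with discrete fibres) with `X`
quasi-compact. Then the fibres of `f` are universally bounded. -/
theorem result {X Y : Scheme.{u}} (f : X ⟶ Y) [LocallyQuasiFinite f]
    [LocallyOfFiniteType f] [CompactSpace X] : BddFib.UnivBounded f := by
  choose W hW n hxW hn using Groth.Agent.Lib.Helper38.exists_affineOpen_fibreDegLE f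
  obtain ⟨t, ht⟩ := CompactSpace.elim_nhds_subcover (fun x => (W x : Set X))
    (fun x => (W x).2.mem_nhds (hxW x))
  refine ⟨∑ i : t, n i, ?_⟩
  refine Groth.Agent.Lib.Helper38.fibreDegLE_of_finite_cover f (ι := t)
    (fun i => Spec Γ(X, W i)) (fun i => (hW i).fromSpec) ?_ (fun i => n i) (fun i => hn i)
  intro x
  have hx : x ∈ ⋃ y ∈ t, (W y : Set X) := by rw [ht]; trivial
  simp only [Set.mem_iUnion] at hx
  obtain ⟨y, hy, hxy⟩ := hx
  have hx' : x ∈ Set.range (hW y).fromSpec := by rw [(hW y).range_fromSpec]; exact hxy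
  obtain ⟨z, hz⟩ := hx'
  exact ⟨⟨y, hy⟩, z, hz⟩

end Groth.Agent.S7441
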