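import Groth.Statements.S10429
import Groth.Agent.Lib.Helper38.UnivBddSp2
import Groth.Agent.Lib.Helper52.Points
import Groth.Agent.Lib.Helper51.EtaleQF
import Groth.Agent.S10424
import Groth.Agent.S7441
open CategoryTheory.Limits

set_option autoImplicit false
universe u
open CategoryTheory CategoryTheory.Limits AlgebraicGeometry Topology TopologicalSpace
open AlgSp

namespace Groth.Agent.S10429

/-- For an algebraic space X over a scheme S, if there are etale morphisms U_i ⟶ X from schemes with ∐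
U_i ⟶ X surjective and each U_i ⟶ X with universally bounded fibres, then every etale morphism U ⟶ X
from an affine scheme has universally bounded fibres (the converse implication is immediate). -/
theorem result {S : Scheme.{u}} (X : AlgSp.Space S) {ι : Type u} (U : ι → Over S)
    (φ : ∀ i, (AlgSp.yon S).obj (U i) ⟶ X.obj) (hφ : ∀ i, AlgSp.RepWith @Etale (φ i))
    (hsurj : ∀ x : AlgSp.Points X.obj, ∃ (i : ι) (v : ↥(U i).left), AlgSp.Points.ofPt (φ i) v = x)
    (hb : ∀ i, W4dec.HasUnivBddFibres (φ i)) {V : Over S} [IsAffine V.left] (ψ : (AlgSp.yon S).obj V ⟶ X.obj)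
    (hψ : AlgSp.RepWith @Etale ψ) : W4dec.HasUnivBddFibres ψ := by
  classical
  -- the fibre products `V ×_X U_i`
  have hrep : ∀ i, ∃ (P : Over S) (a : P ⟶ V) (b' : P ⟶ U i),
      IsPullback ((AlgSp.yon S).map b') ((AlgSp.yon S).map a) (φ i) ψ := by
    intro i
    obtain ⟨P, a, b, sq⟩ := X.property.representable_from_yon (φ i) ψ
    obtain ⟨b', rfl⟩ := (AlgSp.yon S).map_surjective b
    exact ⟨P, a, b', sq⟩
  choose P a b' sq using hrep
  have haet : ∀ i, Etale (a i).left := fun i =>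
    ((AlgSp.repWith_iff @Etale (φ i)).mp (hφ i)).2 ψ _ (a i) (sq i)
  have hbet : ∀ i, Etale (b' i).left := fun i =>
    ((AlgSp.repWith_iff @Etale ψ).mp hψ).2 (φ i) _ (b' i) (sq i).flip
  -- joint surjectivity onto `V`
  have hcovP : ∀ v : V.left, ∃ (i : ι) (p : (P i).left), (a i).left p = v := by
    intro v
    obtain ⟨i, u, hu⟩ := hsurj (AlgSp.Points.ofPt ψ v)
    have hmem : AlgSp.Points.ofPt ψ v ∈ Set.range (AlgSp.Points.map (φ i)) :=
      ⟨AlgSp.Points.ofScheme (U i) u, by rw [← AlgSp.Points.ofPt_eq_map_ofScheme, hu]⟩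
    obtain ⟨p, hp⟩ := (Groth.Agent.Lib.Helper52.ofPt_mem_range_map_iff (sq i) v).mp hmem
    exact ⟨i, p, hp⟩
  -- affine charts of the `P i`
  let J := Σ i : ι, (P i).left.affineCover.I₀
  let m : ∀ k : J, (P k.1).left.affineCover.X k.2 ⟶ V.left := fun k =>
    (P k.1).left.affineCover.f k.2 ≫ (a k.1).left
  have hmet : ∀ k : J, Etale (m k) := fun k => by
    haveI := haet k.1
    exact inferInstanceAs (Etale ((P k.1).left.affineCover.f k.2 ≫ (a k.1).left))
  have hopen : ∀ k : J, IsOpen (Set.range (m k)) := fun k => by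
    haveI := hmet k
    exact (m k).isOpenMap.isOpen_range
  have hcovJ : (Set.univ : Set V.left) ⊆ ⋃ k : J, Set.range (m k) := by
    intro v _
    obtain ⟨i, p, hp⟩ := hcovP v
    obtain ⟨j, y, hy⟩ := (P i).left.affineCover.exists_eq p
    refine Set.mem_iUnion.mpr ⟨⟨i, j⟩, y, ?_⟩
    show ((P i).left.affineCover.f j ≫ (a i).left) y = v
    rw [Scheme.Hom.comp_apply, hy, hp]
  obtain ⟨t, ht⟩ := isCompact_univ.elim_finite_subcover _ hopen hcovJ
  -- the finite family
  let W : t → Over S := fun k => Over.mk ((P k.1.1).left.affineCover.f k.1.2 ≫ (P k.1.1).hom)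
  let γ : ∀ k : t, W k ⟶ P k.1.1 := fun k => Over.homMk ((P k.1.1).left.affineCover.f k.1.2) rfl
  refine Groth.Agent.Lib.Helper38.hasUnivBddFibres_of_finite_flat_family X ψ W
    (fun k => γ k ≫ a k.1.1) ?_ ?_ ?_
  · intro k
    haveI := hmet k.1
    exact inferInstanceAs (Flat (m k.1))
  · intro v
    obtain ⟨k, hk, y, hy⟩ : ∃ k ∈ t, ∃ y, m k y = v := by
      have := ht (Set.mem_univ v)
      simpa only [Set.mem_iUnion, Set.mem_range, exists_prop] using this
    exact ⟨⟨k, hk⟩, y, hy⟩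
  · intro k
    have e1 : (AlgSp.yon S).map (γ k ≫ a k.1.1) ≫ ψ =
        (AlgSp.yon S).map (γ k ≫ b' k.1.1) ≫ φ k.1.1 := by
      rw [Functor.map_comp, Functor.map_comp, Category.assoc, Category.assoc, (sq k.1.1).w]
    rw [e1]
    refine Groth.Agent.S10424.result X (γ k ≫ b' k.1.1) (φ k.1.1) ?_ (hb k.1.1)
    haveI := hbet k.1.1
    have het : Etale (γ k ≫ b' k.1.1).left :=
      inferInstanceAs (Etale ((P k.1.1).left.affineCover.f k.1.2 ≫ (b' k.1.1).left))
    haveI : CompactSpace (W k).left :=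
      inferInstanceAs (CompactSpace ((P k.1.1).left.affineCover.X k.1.2))
    obtain ⟨n, hn⟩ := Groth.Agent.S7441.result (γ k ≫ b' k.1.1).left
    exact ⟨n, Groth.Agent.Lib.Helper38.degFibresLE_of_fibreDegLE _ n hn⟩

end Groth.Agent.S10429
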