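import Groth.Statements.S10431
import Groth.Agent.S10429
import Groth.Agent.S10425
import Groth.Agent.Lib.Helper51.AlgSpPoints
open CategoryTheory.Limits

set_option autoImplicit false
universe u
open CategoryTheory CategoryTheory.Limits AlgebraicGeometry Topology TopologicalSpace
open AlgSp

namespace Groth.Agent.S10431

/-- Let S be a scheme, X and Y algebraic spaces over S, and X ⟶ Y a representable morphism. If every
etale morphism from an affine scheme to Y has universally bounded fibres, then so does every etale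
morphism from an affine scheme to X. -/
theorem result {S : Scheme.{u}} {X Y : AlgSp.Space S} (f : X ⟶ Y)
    (hf : AlgSp.Representable f.hom)
    (hY : ∀ (V : Over S) (ψ : (AlgSp.yon S).obj V ⟶ Y.obj), IsAffine V.left → AlgSp.RepWith @Etale ψ → W4dec.HasUnivBddFibres ψ)
    (U : Over S) (φ : (AlgSp.yon S).obj U ⟶ X.obj) (hU : IsAffine U.left) (hφ : AlgSp.RepWith @Etale φ) :
    W4dec.HasUnivBddFibres φ := by
  obtain ⟨A, p, hpet, hpsurj⟩ := Y.property.atlas
  -- affine charts of the atlas of `Y`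
  let ι := A.left.affineCover.I₀
  let Aj : ι → Over S := fun j => Over.mk (A.left.affineCover.f j ≫ A.hom)
  let α : ∀ j, Aj j ⟶ A := fun j => Over.homMk (A.left.affineCover.f j) rfl
  let pj : ∀ j, (AlgSp.yon S).obj (Aj j) ⟶ Y.obj := fun j => (AlgSp.yon S).map (α j) ≫ p
  have hpjet : ∀ j, AlgSp.RepWith @Etale (pj j) := fun j => by
    refine MorphismProperty.comp_mem _ _ _ ?_ hpet
    rw [AlgSp.repWith_yon_map_iff]
    exact inferInstanceAs (Etale (A.left.affineCover.f j))
  have hpjb : ∀ j, W4dec.HasUnivBddFibres (pj j) := fun j =>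
    hY (Aj j) (pj j) (inferInstanceAs (IsAffine (A.left.affineCover.X j))) (hpjet j)
  -- the schemes `A_j ×_Y X`
  have hrep : ∀ j, ∃ (Xj : Over S) (s : Xj ⟶ Aj j) (t : (AlgSp.yon S).obj Xj ⟶ X.obj),
      IsPullback t ((AlgSp.yon S).map s) f.hom (pj j) := fun j => by
    obtain ⟨Xj, s, t, sq⟩ := hf (pj j)
    exact ⟨Xj, s, t, sq⟩
  choose Xj s t sq using hrep
  have htb : ∀ j, W4dec.HasUnivBddFibres (t j) := fun j =>
    Groth.Agent.S10425.result f hf (pj j) (hpjb j) _ (t j) (sq j).flip
  have htet : ∀ j, AlgSp.RepWith @Etale (t j) := fun j =>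
    MorphismProperty.of_isPullback (sq j).flip (hpjet j)
  have hsurj : ∀ x : AlgSp.Points X.obj, ∃ (j : ι) (v : ↥(Xj j).left),
      AlgSp.Points.ofPt (t j) v = x := by
    intro x
    obtain ⟨a, ha⟩ := Groth.Agent.Lib.Helper51.surjective_ofPt_of_repWith_surjective p hpsurj
      (AlgSp.Points.map f.hom x)
    obtain ⟨j, a', ha'⟩ := A.left.affineCover.exists_eq a
    have h1 : AlgSp.Points.ofPt (pj j) a' = AlgSp.Points.map f.hom x := by
      rw [Groth.Agent.Lib.Helper52.ofPt_yon_map_comp]
      show AlgSp.Points.ofPt p (A.left.affineCover.f j a') = _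
      rw [ha', ha]
    obtain ⟨w, hw1, hw2⟩ := Groth.Agent.Lib.Helper52.exists_point_of_isPullback (sq j) x
      (AlgSp.Points.ofScheme (Aj j) a') (by rw [← AlgSp.Points.ofPt_eq_map_ofScheme, h1])
    refine ⟨j, AlgSp.Points.toScheme (Xj j) w, ?_⟩
    rw [AlgSp.Points.ofPt_eq_map_ofScheme, AlgSp.Points.ofScheme_toScheme, hw1]
  haveI := hU
  exact Groth.Agent.S10429.result X Xj t htet hsurj htb φ hφ

end Groth.Agent.S10431
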