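import Groth.Statements.S10440
import Mathlib
import Groth.Agent.Lib.Helper33.HensEtLocal
import Groth.Agent.Lib.Helper30.AlgSpLoc

set_option autoImplicit false
universe u
open CategoryTheory CategoryTheory.Limits AlgebraicGeometry Topology TopologicalSpace
open AlgSp

namespace Groth.Agent.S10440

set_option backward.isDefEq.respectTransparency.types false
set_option maxHeartbeats 800000

open Groth.Agent.Lib.Helper33.HensEtLocal in
/-- If the field point of `U'` at `u'` is a monomorphism into `F`, the residue field extension of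
`g : U' ⟶ U` at `u'` is trivial. -/
theorem residueFieldMap_surjective_of_mono {S : Scheme.{u}} {F : AlgSp.Sp S} {U U' : Over S}
    (a : (AlgSp.yon S).obj U ⟶ F) (g : U' ⟶ U) (u' : ↥U'.left)
    (hmono : Mono (AlgSp.FieldPt.ofPt ((AlgSp.yon S).map g ≫ a) u').toHom) :
    Function.Surjective (g.left.residueFieldMap u').hom := by
  -- the morphism Spec κ(u') ⟶ Spec κ(u) over S
  let r : Spec (U'.left.residueField u') ⟶ Spec (U.left.residueField (g.left u')) :=
    Spec.map (g.left.residueFieldMap u')
  have hr : r ≫ U.left.fromSpecResidueField (g.left u') = U'.left.fromSpecResidueField u' ≫ g.left :=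
    Scheme.Hom.SpecMap_residueFieldMap_fromSpecResidueField g.left u'
  have hw : r ≫ (U.left.fromSpecResidueField (g.left u') ≫ U.hom) =
      U'.left.fromSpecResidueField u' ≫ U'.hom := by
    rw [← Category.assoc, hr, Category.assoc, Over.w g]
  let m : (AlgSp.FieldPt.ofPt ((AlgSp.yon S).map g ≫ a) u').pt ⟶
      (AlgSp.FieldPt.ofPt a (g.left u')).pt := Over.homMk r hw
  have hm : m ≫ (Over.homMk (U.left.fromSpecResidueField (g.left u')) rfl :
      (AlgSp.FieldPt.ofPt a (g.left u')).pt ⟶ U) =
      (Over.homMk (U'.left.fromSpecResidueField u') rfl :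
        (AlgSp.FieldPt.ofPt ((AlgSp.yon S).map g ≫ a) u').pt ⟶ U') ≫ g := by
    apply Over.OverMorphism.ext
    exact hr
  have hcomp : (AlgSp.yon S).map m ≫ (AlgSp.FieldPt.ofPt a (g.left u')).toHom =
      (AlgSp.FieldPt.ofPt ((AlgSp.yon S).map g ≫ a) u').toHom := by
    rw [AlgSp.FieldPt.toHom_ofPt, AlgSp.FieldPt.toHom_ofPt, ← Category.assoc, ← Category.assoc]
    congr 1
    rw [← Functor.map_comp, ← Functor.map_comp]
    exact congrArg ((AlgSp.yon S).map) hm
  have hm1 : Mono ((AlgSp.yon S).map m) := by
    rw [← hcomp] at hmono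
    haveI := hmono
    exact mono_of_mono _ (AlgSp.FieldPt.ofPt a (g.left u')).toHom
  have hm2 : Mono m := (AlgSp.yon S).mono_of_mono_map hm1
  have hm3 : Mono r := by
    have : Mono m.left := inferInstance
    exact this
  -- epi of rings
  have hepi : Epi (g.left.residueFieldMap u') := by
    refine ⟨fun {D} h1 h2 h12 => ?_⟩
    apply Spec.map_injective
    rw [← cancel_mono r]
    change Spec.map h1 ≫ Spec.map _ = Spec.map h2 ≫ Spec.map _
    rw [← Spec.map_comp, ← Spec.map_comp, h12]
  letI : Algebra (U.left.residueField (g.left u')) (U'.left.residueField u') :=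
    (g.left.residueFieldMap u').hom.toAlgebra
  have hepi' : Algebra.IsEpi (U.left.residueField (g.left u')) (U'.left.residueField u') :=
    CommRingCat.epi_iff_epi.mp hepi
  exact surjective_of_isEpi_field _ _

open Groth.Agent.Lib.Helper33.HensEtLocal in
/-- A henselization of the local ring of `X'` at `x'` is a henselization of the local ring of `X` at
`f x'` when `f` is étale with trivial residue field extension at `x'`. -/
theorem hens_of_etale {X' X : Scheme.{u}} (f : X' ⟶ X) [Etale f] (x' : X')
    (hres : Function.Surjective (f.residueFieldMap x').hom)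
    (R : Type u) [CommRing R] [IsLocalRing R] [Algebra ↥(X'.presheaf.stalk x') R]
    [IsLocalHom (algebraMap ↥(X'.presheaf.stalk x') R)]
    [Hensel.IsHenselization ↥(X'.presheaf.stalk x') R] :
    letI : Algebra ↥(X.presheaf.stalk (f.base x')) R :=
      ((algebraMap ↥(X'.presheaf.stalk x') R).comp (f.stalkMap x').hom).toAlgebra
    ∃ (_ : IsLocalHom (algebraMap ↥(X.presheaf.stalk (f.base x')) R)),
      Hensel.IsHenselization ↥(X.presheaf.stalk (f.base x')) R := by
  obtain ⟨_, ⟨V, hV, rfl⟩, hxV, -⟩ :=
    X.isBasis_affineOpens.exists_subset_of_mem_open (Set.mem_univ (f x')) isOpen_univ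
  obtain ⟨_, ⟨V', hV', rfl⟩, hxV', hV'V⟩ :=
    X'.isBasis_affineOpens.exists_subset_of_mem_open (show x' ∈ (f ⁻¹ᵁ V : Set X') from hxV)
      (f ⁻¹ᵁ V).isOpen
  have e : V' ≤ f ⁻¹ᵁ V := hV'V
  have hφ0 : (f.appLE V V' e).hom.Etale :=
    HasRingHomProperty.appLE (P := @Etale) f inferInstance ⟨V, hV⟩ ⟨V', hV'⟩ e
  letI : Algebra Γ(X, V) Γ(X', V') := (f.appLE V V' e).hom.toAlgebra
  haveI : Algebra.Etale Γ(X, V) Γ(X', V') := hφ0
  letI := TopCat.Presheaf.algebra_section_stalk X.presheaf ⟨f x', hxV⟩
  letI := TopCat.Presheaf.algebra_section_stalk X'.presheaf ⟨x', hxV'⟩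
  haveI := hV.isLocalization_stalk ⟨f x', hxV⟩
  haveI := hV'.isLocalization_stalk ⟨x', hxV'⟩
  haveI : (hV'.primeIdealOf ⟨x', hxV'⟩).asIdeal.LiesOver (hV.primeIdealOf ⟨f x', hxV⟩).asIdeal := by
    refine ⟨?_⟩
    have := IsAffineOpen.comap_primeIdealOf_appLE (f := f) V hV V' hV' e hxV'
    exact congrArg PrimeSpectrum.asIdeal this.symm
  have hcompat : (f.stalkMap x').hom.comp (algebraMap Γ(X, V) ↥(X.presheaf.stalk (f x'))) =
      (algebraMap Γ(X', V') ↥(X'.presheaf.stalk x')).comp (algebraMap Γ(X, V) Γ(X', V')) := by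
    ext c
    simp only [RingHom.algebraMap_toAlgebra, RingHom.coe_comp, Function.comp_apply]
    change (f.stalkMap x').hom ((X.presheaf.germ V (f x') hxV).hom c) =
      (X'.presheaf.germ V' x' hxV').hom ((f.appLE V V' e).hom c)
    simp only [Scheme.Hom.germ_stalkMap_apply, Scheme.Hom.appLE,
      homOfLE_leOfHom, CommRingCat.hom_comp, RingHom.coe_comp, Function.comp_apply,
      X'.presheaf.germ_res_apply]
  have hres' : ∀ b : ↥(X'.presheaf.stalk x'), ∃ a : ↥(X.presheaf.stalk (f x')),
      b - (f.stalkMap x').hom a ∈ IsLocalRing.maximalIdeal ↥(X'.presheaf.stalk x') := by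
    intro b
    obtain ⟨y, hy⟩ := hres (IsLocalRing.residue _ b)
    obtain ⟨a, rfl⟩ := IsLocalRing.residue_surjective y
    refine ⟨a, ?_⟩
    rw [← IsLocalRing.residue_eq_zero_iff, map_sub, sub_eq_zero, ← hy]
    exact (IsLocalRing.ResidueField.map_residue (f.stalkMap x').hom a)
  exact isHenselization_comp_of_etale Γ(X, V) Γ(X', V') (hV.primeIdealOf ⟨f x', hxV⟩).asIdeal
    (hV'.primeIdealOf ⟨x', hxV'⟩).asIdeal ↥(X.presheaf.stalk (f x')) ↥(X'.presheaf.stalk x')
    (f.stalkMap x').hom hcompat hres' R

/-- For a decent algebraic space X over a scheme S and x ∈ |X|, let g : (U', u') ⟶ (U, u) be a morphism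
of elementary etale neighbourhoods of (X, x). If R is a henselization of O_{U', u'} then, through
the local ring map O_{U, u} ⟶ O_{U', u'} induced by g, R is a henselization of O_{U, u} as well.
(The published statement identifies the henselian local ring at x, defined as the colimit of global
sections over all elementary etale neighbourhoods, with the henselization of O_{U, u}; that ring is
not a separate construction here, and this row states the resulting independence of the
henselization from the chosen neighbourhood.) -/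
theorem result {S : Scheme.{u}} (X : AlgSp.Space S)
    (hX : AlgSp.IsDecent X.obj) (x : AlgSp.Points X.obj) {U U' : Over S}
    (a : (AlgSp.yon S).obj U ⟶ X.obj) (a' : (AlgSp.yon S).obj U' ⟶ X.obj) (g : U' ⟶ U) (u' : ↥U'.left)
    (hg : (AlgSp.yon S).map g ≫ a = a') (ha : AlgSp.IsElemEtaleNbhd a (g.left.base u') x)
    (ha' : AlgSp.IsElemEtaleNbhd a' u' x) (R : Type u) [CommRing R] [IsLocalRing R]
    [Algebra ↥(U'.left.presheaf.stalk u') R] [IsLocalHom (algebraMap ↥(U'.left.presheaf.stalk u') R)]
    [Hensel.IsHenselization ↥(U'.left.presheaf.stalk u') R] :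
    letI : Algebra ↥(U.left.presheaf.stalk (g.left.base u')) R :=
      ((algebraMap ↥(U'.left.presheaf.stalk u') R).comp (g.left.stalkMap u').hom).toAlgebra
    ∃ (_ : IsLocalHom (algebraMap ↥(U.left.presheaf.stalk (g.left.base u')) R)),
      Hensel.IsHenselization ↥(U.left.presheaf.stalk (g.left.base u')) R := by
  have hget : Etale g.left :=
    Groth.Agent.Lib.Helper30.etale_of_comp_repWith_etale g a ha.etale (by rw [hg]; exact ha'.etale)
  have hmono : Mono (AlgSp.FieldPt.ofPt ((AlgSp.yon S).map g ≫ a) u').toHom := by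
    rw [hg]; exact ha'.mono
  have hres := residueFieldMap_surjective_of_mono a g u' hmono
  exact hens_of_etale g.left u' hres R

end Groth.Agent.S10440
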