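import Groth.Statements.S10441
import Groth.Agent.Lib.Helper7.AlgSpBr8

set_option autoImplicit false
universe u
open CategoryTheory CategoryTheory.Limits AlgebraicGeometry Topology TopologicalSpace
open AlgSp

namespace Groth.Agent.S10441

/-- For a decent algebraic space X over a scheme S and x ∈ |X|, fix an elementary etale neighbourhood
(U₀, u₀) of (X, x) and a henselization R of O_{U₀, u₀} (a model of the henselian local ring at x).
The following are equivalent: (1) O_{U, u} has exactly one minimal prime whenever (U, u) is an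
elementary etale neighbourhood of (X, x); (2) a unique irreducible component of U passes through u
for all such (U, u); (3) O_{U, u} is unibranch for all such (U, u); (4) R has exactly one minimal
prime. -/
theorem result {S : Scheme.{u}} (X : AlgSp.Space S)
    (hX : AlgSp.IsDecent X.obj) (x : AlgSp.Points X.obj) {U₀ : Over S}
    (a₀ : (AlgSp.yon S).obj U₀ ⟶ X.obj) (u₀ : ↥U₀.left) (h₀ : AlgSp.IsElemEtaleNbhd a₀ u₀ x)
    (R : Type u) [CommRing R] [IsLocalRing R] [Algebra ↥(U₀.left.presheaf.stalk u₀) R]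
    [IsLocalHom (algebraMap ↥(U₀.left.presheaf.stalk u₀) R)] [Hensel.IsHenselization ↥(U₀.left.presheaf.stalk u₀) R] :
    ((∀ (U : Over S) (a : (AlgSp.yon S).obj U ⟶ X.obj) (u : ↥U.left), AlgSp.IsElemEtaleNbhd a u x →
        CAlgX.HasUniqueMinimalPrime ↥(U.left.presheaf.stalk u)) ↔
      (∀ (U : Over S) (a : (AlgSp.yon S).obj U ⟶ X.obj) (u : ↥U.left), AlgSp.IsElemEtaleNbhd a u x →
        {Z : Set ↥U.left | Z ∈ irreducibleComponents ↥U.left ∧ u ∈ Z}.encard = 1)) ∧
    ((∀ (U : Over S) (a : (AlgSp.yon S).obj U ⟶ X.obj) (u : ↥U.left), AlgSp.IsElemEtaleNbhd a u x →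
        {Z : Set ↥U.left | Z ∈ irreducibleComponents ↥U.left ∧ u ∈ Z}.encard = 1) ↔
      (∀ (U : Over S) (a : (AlgSp.yon S).obj U ⟶ X.obj) (u : ↥U.left), AlgSp.IsElemEtaleNbhd a u x →
        CAlg2.IsUnibranch ↥(U.left.presheaf.stalk u))) ∧
    ((∀ (U : Over S) (a : (AlgSp.yon S).obj U ⟶ X.obj) (u : ↥U.left), AlgSp.IsElemEtaleNbhd a u x →
        CAlg2.IsUnibranch ↥(U.left.presheaf.stalk u)) ↔ CAlgX.HasUniqueMinimalPrime R) := by
  have F1 : ∀ (U : Over S) (a : (AlgSp.yon S).obj U ⟶ X.obj) (u : ↥U.left),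
      AlgSp.IsElemEtaleNbhd a u x →
      Brnch.numBranchesAt U.left u = Brnch.numBranchesAt U₀.left u₀ := fun U a u hu =>
    Groth.Agent.Lib.Helper7.AlgSpBr.numBranchesAt_elem_eq a a₀ u u₀ x hu h₀
  have F2 : ENat.card (minimalPrimes R) = Brnch.numBranchesAt U₀.left u₀ :=
    Groth.Agent.Lib.Helper37.Hz.Branches.card_minimalPrimes_eq_numBranches
      ↥(U₀.left.presheaf.stalk u₀) R
  have F3 : ∀ (U : Over S) (a : (AlgSp.yon S).obj U ⟶ X.obj) (u : ↥U.left),
      AlgSp.IsElemEtaleNbhd a u x →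
      {Z : Set ↥U.left | Z ∈ irreducibleComponents ↥U.left ∧ u ∈ Z}.encard ≤
        Brnch.numBranchesAt U₀.left u₀ := fun U a u hu => by
    rw [← F1 U a u hu]
    exact Groth.Agent.Lib.Helper7.AlgSpBr.encard_components_le_numBranchesAt U.left u
  have F6 : ∀ (U : Over S) (u : ↥U.left),
      1 ≤ {Z : Set ↥U.left | Z ∈ irreducibleComponents ↥U.left ∧ u ∈ Z}.encard := fun U u => by
    rw [Groth.Agent.Lib.Helper7.BrCount.encard_eq_card_minimalPrimes]
    exact Groth.Agent.Lib.Helper7.AlgSpBr.one_le_card_minimalPrimes _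
  -- Q2 ↔ b = 1
  have hQ2 : (∀ (U : Over S) (a : (AlgSp.yon S).obj U ⟶ X.obj) (u : ↥U.left),
        AlgSp.IsElemEtaleNbhd a u x →
        {Z : Set ↥U.left | Z ∈ irreducibleComponents ↥U.left ∧ u ∈ Z}.encard = 1) ↔
      Brnch.numBranchesAt U₀.left u₀ = 1 := by
    constructor
    · intro h1
      apply le_antisymm
      · exact Groth.Agent.Lib.Helper7.AlgSpBr.numBranchesAt_le_of_elem x 1
          (fun U a u hu => (h1 U a u hu).le) a₀ u₀ h₀
      · rw [← h1 U₀ a₀ u₀ h₀]
        exact F3 U₀ a₀ u₀ h₀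
    · intro hb U a u hu
      apply le_antisymm
      · rw [← hb]
        exact F3 U a u hu
      · exact F6 U u
  -- Q3 ↔ b = 1
  have hQ3 : (∀ (U : Over S) (a : (AlgSp.yon S).obj U ⟶ X.obj) (u : ↥U.left),
        AlgSp.IsElemEtaleNbhd a u x → CAlg2.IsUnibranch ↥(U.left.presheaf.stalk u)) ↔
      Brnch.numBranchesAt U₀.left u₀ = 1 := by
    constructor
    · intro h1
      exact Groth.Agent.Lib.Helper97.NormRed.numBranches_eq_one_iff.mpr (h1 U₀ a₀ u₀ h₀)
    · intro hb U a u hu
      apply Groth.Agent.Lib.Helper97.NormRed.numBranches_eq_one_iff.mp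
      have := F1 U a u hu
      rw [hb] at this
      exact this
  refine ⟨?_, hQ2.trans hQ3.symm, hQ3.trans ?_⟩
  · constructor
    · intro h1 U a u hu
      rw [Groth.Agent.Lib.Helper7.BrCount.encard_eq_card_minimalPrimes]
      exact (Groth.Agent.Lib.Helper7.AlgSpBr.hasUniqueMinimalPrime_iff_card _).mp (h1 U a u hu)
    · intro h1 U a u hu
      have := h1 U a u hu
      rw [Groth.Agent.Lib.Helper7.BrCount.encard_eq_card_minimalPrimes] at this
      exact (Groth.Agent.Lib.Helper7.AlgSpBr.hasUniqueMinimalPrime_iff_card _).mpr this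
  · rw [← F2]
    exact (Groth.Agent.Lib.Helper7.AlgSpBr.hasUniqueMinimalPrime_iff_card R).symm

end Groth.Agent.S10441
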