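import Groth.Statements.S10442
import Groth.Agent.Lib.Helper7.AlgSpBr8

set_option autoImplicit false
universe u
open CategoryTheory CategoryTheory.Limits AlgebraicGeometry Topology TopologicalSpace
open AlgSp

namespace Groth.Agent.S10442

/-- For a decent algebraic space X over a scheme S, x ∈ |X| and n ≥ 1, fix an elementary etale
neighbourhood (U₀, u₀) of (X, x) and a henselization R of O_{U₀, u₀} (a model of the henselian local
ring at x). The following are equivalent: (1) over all elementary etale neighbourhoods (U, u) of (X,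
x), O_{U, u} has at most n minimal primes, with the value n attained; (2) the same for the number of
irreducible components of U through u; (3) the same for the branch number of U at u; (4) R has
exactly n minimal primes. -/
theorem result {S : Scheme.{u}} (X : AlgSp.Space S)
    (hX : AlgSp.IsDecent X.obj) (x : AlgSp.Points X.obj) (n : ℕ) (hn : 1 ≤ n) {U₀ : Over S}
    (a₀ : (AlgSp.yon S).obj U₀ ⟶ X.obj) (u₀ : ↥U₀.left) (h₀ : AlgSp.IsElemEtaleNbhd a₀ u₀ x)
    (R : Type u) [CommRing R] [IsLocalRing R] [Algebra ↥(U₀.left.presheaf.stalk u₀) R]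
    [IsLocalHom (algebraMap ↥(U₀.left.presheaf.stalk u₀) R)] [Hensel.IsHenselization ↥(U₀.left.presheaf.stalk u₀) R] :
    (((∀ (U : Over S) (a : (AlgSp.yon S).obj U ⟶ X.obj) (u : ↥U.left), AlgSp.IsElemEtaleNbhd a u x →
        (minimalPrimes ↥(U.left.presheaf.stalk u)).encard ≤ n) ∧
      (∃ (U : Over S) (a : (AlgSp.yon S).obj U ⟶ X.obj) (u : ↥U.left), AlgSp.IsElemEtaleNbhd a u x ∧
        (minimalPrimes ↥(U.left.presheaf.stalk u)).encard = n)) ↔
     ((∀ (U : Over S) (a : (AlgSp.yon S).obj U ⟶ X.obj) (u : ↥U.left), AlgSp.IsElemEtaleNbhd a u x →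
        {Z : Set ↥U.left | Z ∈ irreducibleComponents ↥U.left ∧ u ∈ Z}.encard ≤ n) ∧
      (∃ (U : Over S) (a : (AlgSp.yon S).obj U ⟶ X.obj) (u : ↥U.left), AlgSp.IsElemEtaleNbhd a u x ∧
        {Z : Set ↥U.left | Z ∈ irreducibleComponents ↥U.left ∧ u ∈ Z}.encard = n))) ∧
    (((∀ (U : Over S) (a : (AlgSp.yon S).obj U ⟶ X.obj) (u : ↥U.left), AlgSp.IsElemEtaleNbhd a u x →
        {Z : Set ↥U.left | Z ∈ irreducibleComponents ↥U.left ∧ u ∈ Z}.encard ≤ n) ∧
      (∃ (U : Over S) (a : (AlgSp.yon S).obj U ⟶ X.obj) (u : ↥U.left), AlgSp.IsElemEtaleNbhd a u x ∧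
        {Z : Set ↥U.left | Z ∈ irreducibleComponents ↥U.left ∧ u ∈ Z}.encard = n)) ↔
     ((∀ (U : Over S) (a : (AlgSp.yon S).obj U ⟶ X.obj) (u : ↥U.left), AlgSp.IsElemEtaleNbhd a u x →
        Brnch.numBranchesAt U.left u ≤ n) ∧
      (∃ (U : Over S) (a : (AlgSp.yon S).obj U ⟶ X.obj) (u : ↥U.left), AlgSp.IsElemEtaleNbhd a u x ∧
        Brnch.numBranchesAt U.left u = n))) ∧
    (((∀ (U : Over S) (a : (AlgSp.yon S).obj U ⟶ X.obj) (u : ↥U.left), AlgSp.IsElemEtaleNbhd a u x →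
        Brnch.numBranchesAt U.left u ≤ n) ∧
      (∃ (U : Over S) (a : (AlgSp.yon S).obj U ⟶ X.obj) (u : ↥U.left), AlgSp.IsElemEtaleNbhd a u x ∧
        Brnch.numBranchesAt U.left u = n)) ↔
     (minimalPrimes R).encard = n) := by
  have F1 : ∀ (U : Over S) (a : (AlgSp.yon S).obj U ⟶ X.obj) (u : ↥U.left),
      AlgSp.IsElemEtaleNbhd a u x →
      Brnch.numBranchesAt U.left u = Brnch.numBranchesAt U₀.left u₀ := fun U a u hu =>
    Groth.Agent.Lib.Helper7.AlgSpBr.numBranchesAt_elem_eq a a₀ u u₀ x hu h₀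
  have F2 : ENat.card (minimalPrimes R) = Brnch.numBranchesAt U₀.left u₀ :=
    Groth.Agent.Lib.Helper37.Hz.Branches.card_minimalPrimes_eq_numBranches
      ↥(U₀.left.presheaf.stalk u₀) R
  have F3 : ∀ (U : Over S) (a : (AlgSp.yon S).obj U ⟶ X.obj) (u : ↥U.left),
      AlgSp.IsElemEtaleNbhd a u x →
      {Z : Set ↥U.left | Z ∈ irreducibleComponents ↥U.left ∧ u ∈ Z}.encard ≤
        Brnch.numBranchesAt U₀.left u₀ := fun U a u hu => by
    rw [← F1 U a u hu]
    exact Groth.Agent.Lib.Helper7.AlgSpBr.encard_components_le_numBranchesAt U.left u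
  -- P2 ↔ b = n
  have hP2 : ((∀ (U : Over S) (a : (AlgSp.yon S).obj U ⟶ X.obj) (u : ↥U.left),
        AlgSp.IsElemEtaleNbhd a u x →
        {Z : Set ↥U.left | Z ∈ irreducibleComponents ↥U.left ∧ u ∈ Z}.encard ≤ n) ∧
      (∃ (U : Over S) (a : (AlgSp.yon S).obj U ⟶ X.obj) (u : ↥U.left),
        AlgSp.IsElemEtaleNbhd a u x ∧
        {Z : Set ↥U.left | Z ∈ irreducibleComponents ↥U.left ∧ u ∈ Z}.encard = n)) ↔
      Brnch.numBranchesAt U₀.left u₀ = n := by
    constructor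
    · rintro ⟨h1, U₁, a₁, u₁, hu₁, hc⟩
      apply le_antisymm
      · exact Groth.Agent.Lib.Helper7.AlgSpBr.numBranchesAt_le_of_elem x n h1 a₀ u₀ h₀
      · rw [← hc]
        exact F3 U₁ a₁ u₁ hu₁
    · intro hb
      refine ⟨fun U a u hu => ?_, ?_⟩
      · rw [← hb]
        exact F3 U a u hu
      · obtain ⟨U, a, u, hu, hc⟩ :=
          Groth.Agent.Lib.Helper7.AlgSpBr.exists_elem_le_encard x a₀ u₀ h₀ n (by rw [hb])
        refine ⟨U, a, u, hu, le_antisymm ?_ hc⟩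
        rw [← hb]
        exact F3 U a u hu
  -- P3 ↔ b = n
  have hP3 : ((∀ (U : Over S) (a : (AlgSp.yon S).obj U ⟶ X.obj) (u : ↥U.left),
        AlgSp.IsElemEtaleNbhd a u x → Brnch.numBranchesAt U.left u ≤ n) ∧
      (∃ (U : Over S) (a : (AlgSp.yon S).obj U ⟶ X.obj) (u : ↥U.left),
        AlgSp.IsElemEtaleNbhd a u x ∧ Brnch.numBranchesAt U.left u = n)) ↔
      Brnch.numBranchesAt U₀.left u₀ = n := by
    constructor
    · rintro ⟨-, U₁, a₁, u₁, hu₁, hc⟩
      rw [← F1 U₁ a₁ u₁ hu₁]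
      exact hc
    · intro hb
      refine ⟨fun U a u hu => ?_, ⟨U₀, a₀, u₀, h₀, hb⟩⟩
      rw [F1 U a u hu, hb]
  refine ⟨?_, hP2.trans hP3.symm, hP3.trans ?_⟩
  · constructor
    · rintro ⟨h1, U₁, a₁, u₁, hu₁, hc⟩
      refine ⟨fun U a u hu => ?_, ⟨U₁, a₁, u₁, hu₁, ?_⟩⟩
      · rw [Groth.Agent.Lib.Helper7.BrCount.encard_eq_card_minimalPrimes]
        exact h1 U a u hu
      · rw [Groth.Agent.Lib.Helper7.BrCount.encard_eq_card_minimalPrimes]
        exact hc
    · rintro ⟨h1, U₁, a₁, u₁, hu₁, hc⟩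
      refine ⟨fun U a u hu => ?_, ⟨U₁, a₁, u₁, hu₁, ?_⟩⟩
      · have := h1 U a u hu
        rw [Groth.Agent.Lib.Helper7.BrCount.encard_eq_card_minimalPrimes] at this
        exact this
      · rw [Groth.Agent.Lib.Helper7.BrCount.encard_eq_card_minimalPrimes] at hc
        exact hc
  · rw [← F2]
    rfl

end Groth.Agent.S10442
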