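import Groth.Statements.S9684
import Groth.Agent.Lib.Helper73.SchemeDimFormula

set_option autoImplicit false
universe u
open CategoryTheory CategoryTheory.Limits AlgebraicGeometry
open Cyc

namespace Groth.Agent.S9684

open Groth.Agent.Lib.Helper73.SchemeDim Groth.Agent.Lib.Helper73.RelHt

/-- Let S be a locally Noetherian scheme whose local rings are universally catenary, δ a dimension
function on S, and f : X ⟶ S locally of finite type. Then the function δ_X(x) = δ(f x) + trdeg_{κ(f
x)} κ(x) is a dimension function on X. -/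
theorem result {X S : Scheme.{u}} (f : X ⟶ S)
    [LocallyOfFiniteType f] (δ : ↥S → ℤ) (hS : Cyc.IsSetup S δ) (δX : ↥X → ℤ)
    (hδ : Cyc.DeltaCompat f δX δ) : Cyc.IsDimFun X δX := by
  obtain ⟨hnoeth, hcat, hdim⟩ := hS
  haveI := hnoeth
  intro x y hxy hne
  obtain ⟨nx, hnx, hδx⟩ := hδ x
  obtain ⟨ny, hny, hδy⟩ := hδ y
  have hfxy : f.base x ⤳ f.base y := hxy.map f.continuous
  have hDF := (relHt_add_trdeg_aux f hxy nx ny hnx hny).2 (hcat _)
  have hfin : relHt (f.base y) (f.base x) < ⊤ := relHt_lt_top hfxy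
  obtain ⟨r, hr⟩ := ENat.ne_top_iff_exists.mp hfin.ne
  have hδS : δ (f.base x) = δ (f.base y) + r := eq_add_relHt_of_dimFun δ hdim hfxy r hr.symm
  rw [← hr] at hDF
  have hfin' : relHt y x ≠ ⊤ := by
    intro htop
    rw [htop, top_add] at hDF
    exact ENat.coe_ne_top _ (by exact_mod_cast hDF.symm)
  obtain ⟨m, hm⟩ := ENat.ne_top_iff_exists.mp hfin'
  rw [← hm] at hDF
  have hnat : m + ny = r + nx := by exact_mod_cast hDF
  have hkey : δX x = δX y + m := by
    rw [hδx, hδy, hδS]
    have : (m : ℤ) + ny = r + nx := by exact_mod_cast hnat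
    linarith
  have hlt : y < x := by
    rw [lt_iff_le_not_ge]
    exact ⟨hxy, fun h => hne (eq_of_le_of_le h hxy)⟩
  constructor
  · have h1 : 1 ≤ relHt y x := one_le_relHt hlt
    rw [← hm] at h1
    have h2 : 1 ≤ m := by exact_mod_cast h1
    have : (1 : ℤ) ≤ m := by exact_mod_cast h2
    linarith
  · intro himm
    have h1 : relHt y x = 1 := by
      refine relHt_eq_one hlt ?_
      intro z hyz hzx
      rcases himm z hzx.le hyz.le with h | h
      · exact lt_irrefl _ (h ▸ hzx)
      · exact lt_irrefl _ (h ▸ hyz)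
    rw [← hm] at h1
    have h2 : m = 1 := by exact_mod_cast h1
    rw [hkey, h2]
    simp

end Groth.Agent.S9684
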