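import Groth.Statements.S10444
import Groth.Agent.Lib.Helper31.AlgSpFibreRel2

set_option autoImplicit false
universe u
open CategoryTheory CategoryTheory.Limits AlgebraicGeometry Topology TopologicalSpace
open AlgSp

namespace Groth.Agent.S10444

open Groth.Agent.Lib.Helper31.AlgSpFibreRel Groth.Agent.Lib.Helper98.AlgSpLqf
  Groth.Agent.Lib.Helper31.AlgSpOverField in

/-- Take f : X ⟶ Y locally of finite type between algebraic spaces over a scheme S, a field-valued point
Spec k ⟶ Y whose class y ∈ |Y| lies in the image of |f|, the fibre product X_k = Spec k ×_Y X, and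
the fibre F = |f|⁻¹(y) ⊆ |X| with the induced topology. Numbering the conditions (1) F finite, (2) F
discrete, (3) dim F = 0, (4) |X_k| finite, (5) |X_k| discrete, (6) dim |X_k| = 0, (7) dim X_k = 0,
(8) f quasi-finite at all points over y: (5) ⇔ (7) ⇔ (8); (5) ⇒ (6), with the converse when X_k is
decent; (4) ⇒ (5) when X_k is decent; (4) ⇒ (1); (2) ⇒ (3); if Y is decent then (2) ⇔ (5); if X and
Y are decent then (3) ⇒ (2) and (1) ⇒ (2). (The published statement asserts (5) ⇔ (6) for every f
and (2) ⇔ (3) whenever Y is decent, and does not exclude an empty fibre; for the quotient of the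
affine line over a field of characteristic zero by an infinite cyclic group of translations, mapping
to the point, the space of points is infinite and indiscrete, so (3) and (6) hold while (2) and (5)
fail, and for y outside the image (5) holds while (6) and (7) fail; hence the decency hypotheses on
those two converses and the hypothesis that y is in the image. Finiteness of |X_k| for an arbitrary
field k in the class of y is not derived here from (1).) -/
theorem result {S : Scheme.{u}} {X Y : AlgSp.Space S} (f : X ⟶ Y)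
    (hf : AlgSp.LocP @LocallyOfFiniteType f.hom) (r : AlgSp.FieldPt Y.obj)
    (hy : AlgSp.Points.mk r ∈ Set.range (AlgSp.Points.map f.hom)) (Xk : AlgSp.Space S) (fst : Xk ⟶ X)
    (snd : Xk.obj ⟶ (AlgSp.yon S).obj r.pt) (hsq : IsPullback fst.hom snd f.hom r.toHom) :
    (DiscreteTopology (AlgSp.Points Xk.obj) ↔ AlgSp.dim Xk.obj = 0) ∧
    (AlgSp.dim Xk.obj = 0 ↔
      ∀ x : AlgSp.Points X.obj, AlgSp.Points.map f.hom x = AlgSp.Points.mk r → AlgSp.HasAtMor (fun U _ h u => ∃ W : U.Opens, u ∈ W ∧ LocallyQuasiFinite (W.ι ≫ h) ∧ LocallyOfFiniteType (W.ι ≫ h)) f.hom x) ∧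
    (DiscreteTopology (AlgSp.Points Xk.obj) → topologicalKrullDim (AlgSp.Points Xk.obj) = 0) ∧
    (AlgSp.IsDecent Xk.obj → topologicalKrullDim (AlgSp.Points Xk.obj) = 0 →
      DiscreteTopology (AlgSp.Points Xk.obj)) ∧
    (AlgSp.IsDecent Xk.obj → Finite (AlgSp.Points Xk.obj) → DiscreteTopology (AlgSp.Points Xk.obj)) ∧
    (Finite (AlgSp.Points Xk.obj) → (AlgSp.Points.map f.hom ⁻¹' {AlgSp.Points.mk r}).Finite) ∧
    (DiscreteTopology ↥(AlgSp.Points.map f.hom ⁻¹' {AlgSp.Points.mk r}) → topologicalKrullDim ↥(AlgSp.Points.map f.hom ⁻¹' {AlgSp.Points.mk r}) = 0) ∧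
    (AlgSp.IsDecent Y.obj → (DiscreteTopology ↥(AlgSp.Points.map f.hom ⁻¹' {AlgSp.Points.mk r}) ↔ DiscreteTopology (AlgSp.Points Xk.obj))) ∧
    (AlgSp.IsDecent Y.obj → AlgSp.IsDecent X.obj →
      (topologicalKrullDim ↥(AlgSp.Points.map f.hom ⁻¹' {AlgSp.Points.mk r}) = 0 → DiscreteTopology ↥(AlgSp.Points.map f.hom ⁻¹' {AlgSp.Points.mk r})) ∧
        ((AlgSp.Points.map f.hom ⁻¹' {AlgSp.Points.mk r}).Finite → DiscreteTopology ↥(AlgSp.Points.map f.hom ⁻¹' {AlgSp.Points.mk r}))) := by
  haveI hne : Nonempty (Points Xk.obj) := nonempty_fibre f r hsq hy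
  haveI hneF : Nonempty ↥(AlgSp.Points.map f.hom ⁻¹' {AlgSp.Points.mk r}) := by
    obtain ⟨x, hx⟩ := hy
    exact ⟨⟨x, hx⟩⟩
  have h1 := discrete_iff_dim f hf r hsq
  have h0 := discrete_iff_lqf f hf r hsq
  refine ⟨h1, h1.symm.trans h0, ?_, ?_, ?_, ?_, ?_, ?_, ?_⟩
  · intro hdisc
    exact le_antisymm (topologicalKrullDim_zero_of_discreteTopology _)
      (topologicalKrullDim_nonneg_of_nonempty _)
  · intro hd hdim
    exact discrete_of_decent_of_dim f hf r hsq hd hdim
  · intro hd hfin
    exact discrete_of_decent_of_finite f hf r hsq hd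
  · intro hfin
    rw [← range_map_fst f r hsq]
    exact Set.finite_range _
  · intro hdisc
    exact le_antisymm (topologicalKrullDim_zero_of_discreteTopology _)
      (topologicalKrullDim_nonneg_of_nonempty _)
  · intro hY
    obtain ⟨r', Xk', fst', snd', sq', e, hr', -⟩ := exists_fibreHomeo_of_isDecent' f r hY
    have h0' := discrete_iff_lqf f hf r' sq'
    rw [hr'] at h0'
    have hXk' : DiscreteTopology (Points Xk') ↔ DiscreteTopology (Points Xk.obj) := h0'.trans h0.symm
    rw [← hXk']
    exact ⟨fun h => e.isEmbedding.discreteTopology, fun h => e.symm.isEmbedding.discreteTopology⟩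
  · intro hY hX
    obtain ⟨r', Xk', fst', snd', sq', e, hr', hd⟩ := exists_fibreHomeo_of_isDecent' f r hY
    constructor
    · intro hdim
      have hdim' : topologicalKrullDim (Points Xk') = 0 := by
        rw [← hdim]
        exact IsHomeomorph.topologicalKrullDim_eq _ e.isHomeomorph
      haveI := discrete_of_decent_of_dim f hf r' sq' (hd hX) hdim'
      exact e.symm.isEmbedding.discreteTopology
    · intro hfin
      haveI : Finite ↥(AlgSp.Points.map f.hom ⁻¹' {AlgSp.Points.mk r}) := hfin
      haveI : Finite (Points Xk') := Finite.of_equiv _ e.symm.toEquiv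
      haveI := discrete_of_decent_of_finite f hf r' sq' (hd hX)
      exact e.symm.isEmbedding.discreteTopology

end Groth.Agent.S10444
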