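import Groth.Statements.S10445
import Groth.Agent.Lib.Helper31.AlgSpFibreRel

set_option autoImplicit false
universe u
open CategoryTheory CategoryTheory.Limits AlgebraicGeometry Topology TopologicalSpace
open AlgSp

namespace Groth.Agent.S10445

open Groth.Agent.Lib.Helper31.AlgSpFibreRel Groth.Agent.Lib.Helper98.AlgSpLqf in

/-- Take f : X ⟶ Y locally of finite type between algebraic spaces over a scheme S, a field-valued point
Spec k ⟶ Y with class y, the fibre product X_k = Spec k ×_Y X, x ∈ |X| over y, x̃ ∈ |X_k| over x,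
and F = |f|⁻¹(y) with the induced topology. Numbering the conditions (1) dim_x F = 0, (2) x isolated
in F, (3) x closed in F with no proper generization in F, (4) dim_{x̃} |X_k| = 0, (5) x̃ isolated in
|X_k|, (6) x̃ closed in |X_k| with no proper generization, (7) dim_{x̃}(X_k) = 0 (local dimension of
an etale chart), (8) f quasi-finite at x: (5) ⇔ (6) ⇔ (7) ⇔ (8); (4) ⇔ (5) when X_k is decent; (2) ⇔
(5) and (3) ⇔ (6) when Y is decent; (1) ⇔ (2) when X and Y are decent. -/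
theorem result {S : Scheme.{u}} {X Y : AlgSp.Space S} (f : X ⟶ Y)
    (hf : AlgSp.LocP @LocallyOfFiniteType f.hom) (r : AlgSp.FieldPt Y.obj) (Xk : AlgSp.Space S) (fst : Xk ⟶ X)
    (snd : Xk.obj ⟶ (AlgSp.yon S).obj r.pt) (hsq : IsPullback fst.hom snd f.hom r.toHom)
    (x : AlgSp.Points X.obj) (hx : x ∈ (AlgSp.Points.map f.hom ⁻¹' {AlgSp.Points.mk r})) (xt : AlgSp.Points Xk.obj)
    (hxt : AlgSp.Points.map fst.hom xt = x) :
    ((IsOpen ({xt} : Set (AlgSp.Points Xk.obj)) ↔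
      IsClosed ({xt} : Set (AlgSp.Points Xk.obj)) ∧ ∀ x' : AlgSp.Points Xk.obj, x' ⤳ xt → x' = xt) ∧
    (IsOpen ({xt} : Set (AlgSp.Points Xk.obj)) ↔ AlgSp.HasAt (fun U u => FlatMor.localDim ↥U u = 0) Xk.obj xt) ∧
    (AlgSp.HasAt (fun U u => FlatMor.localDim ↥U u = 0) Xk.obj xt ↔ AlgSp.HasAtMor (fun U _ h u => ∃ W : U.Opens, u ∈ W ∧ LocallyQuasiFinite (W.ι ≫ h) ∧ LocallyOfFiniteType (W.ι ≫ h)) f.hom x) ∧
    (AlgSp.IsDecent Xk.obj →
      (FlatMor.localDim (AlgSp.Points Xk.obj) xt = 0 ↔ IsOpen ({xt} : Set (AlgSp.Points Xk.obj)))) ∧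
    (AlgSp.IsDecent Y.obj →
      (IsOpen ({(⟨x, hx⟩ : ↥(AlgSp.Points.map f.hom ⁻¹' {AlgSp.Points.mk r}))} : Set ↥(AlgSp.Points.map f.hom ⁻¹' {AlgSp.Points.mk r})) ↔ IsOpen ({xt} : Set (AlgSp.Points Xk.obj))) ∧
      ((IsClosed ({(⟨x, hx⟩ : ↥(AlgSp.Points.map f.hom ⁻¹' {AlgSp.Points.mk r}))} : Set ↥(AlgSp.Points.map f.hom ⁻¹' {AlgSp.Points.mk r})) ∧ ∀ x' : ↥(AlgSp.Points.map f.hom ⁻¹' {AlgSp.Points.mk r}), x' ⤳ (⟨x, hx⟩ : ↥(AlgSp.Points.map f.hom ⁻¹' {AlgSp.Points.mk r})) → x' = (⟨x, hx⟩ : ↥(AlgSp.Points.map f.hom ⁻¹' {AlgSp.Points.mk r}))) ↔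
        IsClosed ({xt} : Set (AlgSp.Points Xk.obj)) ∧ ∀ x' : AlgSp.Points Xk.obj, x' ⤳ xt → x' = xt)) ∧
    (AlgSp.IsDecent Y.obj → AlgSp.IsDecent X.obj →
      (FlatMor.localDim ↥(AlgSp.Points.map f.hom ⁻¹' {AlgSp.Points.mk r}) (⟨x, hx⟩ : ↥(AlgSp.Points.map f.hom ⁻¹' {AlgSp.Points.mk r})) = 0 ↔ IsOpen ({(⟨x, hx⟩ : ↥(AlgSp.Points.map f.hom ⁻¹' {AlgSp.Points.mk r}))} : Set ↥(AlgSp.Points.map f.hom ⁻¹' {AlgSp.Points.mk r}))))) := by
  have hlqf : IsOpen ({xt} : Set (AlgSp.Points Xk.obj)) ↔ HasAtMor LqfNear f.hom x := by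
    rw [← hxt]; exact isOpen_iff_lqf f hf r hsq xt
  -- the decent case: transfer through the homeomorphism
  have hdec : AlgSp.IsDecent Y.obj →
      ∃ (r' : FieldPt Y.obj) (Xk' : Sp S) (fst' : Xk' ⟶ X.obj)
        (snd' : Xk' ⟶ (AlgSp.yon S).obj r'.pt) (_ : IsPullback fst' snd' f.hom r'.toHom)
        (e : Points Xk' ≃ₜ ↥(Points.map f.hom ⁻¹' {Points.mk r})) (xt' : Points Xk'),
        e xt' = ⟨x, hx⟩ ∧ Points.map fst' xt' = x ∧ (IsDecent X.obj → IsDecent Xk') := by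
    intro hY
    obtain ⟨r', Xk', fst', snd', sq', e, he, hd⟩ := exists_fibreHomeo_of_isDecent f r hY
    refine ⟨r', Xk', fst', snd', sq', e, e.symm ⟨x, hx⟩, e.apply_symm_apply _, ?_, hd⟩
    rw [← he, e.apply_symm_apply]
  refine ⟨isOpen_iff_closed_noGen f hf r hsq xt, isOpen_iff_hasAt f hf r hsq xt, ?_,
    fun hd => localDim_points_iff_isOpen f hf r hsq hd xt, fun hY => ?_, fun hY hX => ?_⟩
  · rw [← hxt]; exact hasAt_localDim_iff_lqf f hf r hsq xt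
  · obtain ⟨r', Xk', fst', snd', sq', e, xt', hp, hx', -⟩ := hdec hY
    have hlqf' : IsOpen ({xt'} : Set (Points Xk')) ↔ HasAtMor LqfNear f.hom x := by
      rw [← hx']; exact isOpen_iff_lqf f hf r' sq' xt'
    have hopen : IsOpen ({xt'} : Set (Points Xk')) ↔ IsOpen ({xt} : Set (AlgSp.Points Xk.obj)) :=
      hlqf'.trans hlqf.symm
    constructor
    · rw [← hp, homeo_isOpen_singleton]
      exact hopen
    · rw [← hp, homeo_isClosed_singleton, homeo_noGen, ← isOpen_iff_closed_noGen f hf r' sq' xt',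
        ← isOpen_iff_closed_noGen f hf r hsq xt]
      exact hopen
  · obtain ⟨r', Xk', fst', snd', sq', e, xt', hp, hx', hd⟩ := hdec hY
    rw [← hp, homeo_localDim, homeo_isOpen_singleton]
    exact localDim_points_iff_isOpen f hf r' sq' (hd hX) xt'

end Groth.Agent.S10445
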