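import Groth.Statements.S10451
import Groth.Agent.Lib.Helper30.AlgSpLqfField
import Groth.Agent.Lib.Helper51.AlgSpSchImProper
-- import your own Groth.Agent.* helpers here

set_option autoImplicit false
universe u
open CategoryTheory CategoryTheory.Limits AlgebraicGeometry Topology TopologicalSpace
open AlgSp

namespace Groth.Agent.S10451


/-- Let k be a field and X an algebraic space locally of finite type over k with dim X = 0. Then X is a
separated scheme and every quasi-compact open of X is affine. -/
theorem result (k : Type u) [Field k]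
    (X : AlgSp.Space (Spec (CommRingCat.of k))) (p : X.obj ⟶ (AlgSp.yon (Spec (CommRingCat.of k))).obj (Over.mk (𝟙 _)))
    (hp : AlgSp.LocP @LocallyOfFiniteType p) (hd : AlgSp.dim X.obj = 0) :
    ∃ (U : Over (Spec (CommRingCat.of k))) (_ : (AlgSp.yon (Spec (CommRingCat.of k))).obj U ≅ X.obj), U.left.IsSeparated ∧
      ∀ V : U.left.Opens, IsCompact (V : Set ↥U.left) → IsAffineOpen V := by
  have hX := X.property
  haveI hArt : IsLocallyArtinian (Over.mk (𝟙 (Spec (CommRingCat.of k)))).left :=
    inferInstanceAs (IsLocallyArtinian (Spec (CommRingCat.of k)))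
  haveI hAff : IsAffine (Over.mk (𝟙 (Spec (CommRingCat.of k)))).left :=
    inferInstanceAs (IsAffine (Spec (CommRingCat.of k)))
  have hqf : AlgSp.LocP (@LocallyQuasiFinite ⊓ @LocallyOfFiniteType) p := by
    intro A B a b h ha hb comm
    have hlft : LocallyOfFiniteType h.left := hp a b h ha hb comm
    refine ⟨?_, hlft⟩
    haveI := hlft
    have hdimA : topologicalKrullDim ↥A.left ≤ 0 := by
      rw [← hd]
      unfold AlgSp.dim
      exact le_iSup_of_le A <| le_iSup_of_le a <| le_iSup_of_le ha le_rfl
    obtain ⟨gb, hgb⟩ := (AlgSp.yon (Spec (CommRingCat.of k))).map_surjective b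
    haveI : Etale gb.left := (AlgSp.repWith_yon_map_iff _ _).1 (hgb ▸ hb)
    haveI : LocallyOfFiniteType (h.left ≫ gb.left) := inferInstance
    haveI : IsLocallyNoetherian A.left :=
      LocallyOfFiniteType.isLocallyNoetherian (h.left ≫ gb.left)
    haveI : IsLocallyArtinian A.left := IsLocallyArtinian.of_topologicalKrullDim_le_zero hdimA
    change LocallyQuasiFinite h.left
    rw [locallyQuasiFinite_iff_isDiscrete_preimage_singleton]
    intro y
    exact isDiscrete_iff_discreteTopology.2 inferInstance
  obtain ⟨U, ⟨e⟩⟩ := Groth.Agent.Lib.Helper30.LqfField.exists_iso_yon_of_lqf_field hX k (𝟙 _) p hqf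
  refine ⟨U, e, ?_, ?_⟩
  all_goals
    obtain ⟨g, hg⟩ := (AlgSp.yon (Spec (CommRingCat.of k))).map_surjective (e.hom ≫ p)
    have hge : AlgSp.RepWith @Etale e.hom :=
      MorphismProperty.of_isIso (AlgSp.RepWith (S := Spec (CommRingCat.of k)) @Etale) e.hom
    have hgP := hqf e.hom (𝟙 _) g hge (AlgSp.repWith_id _ _) (by rw [Category.comp_id, hg])
    have hgl : g.left = U.hom := by
      have := Over.w g
      simpa using this
  · have hsep : AlgSp.IsSeparatedMor p :=
      Groth.Agent.Lib.Helper30.LqfField.isSeparatedMor_of_lqf_field hX k (𝟙 _) p hqf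
    have hsep' : AlgSp.IsSeparatedMor ((AlgSp.yon (Spec (CommRingCat.of k))).map g) := by
      rw [hg]
      exact Groth.Agent.Lib.Helper51.KerAt.isSeparatedMor_comp _ _
        (Groth.Agent.Lib.Helper51.KerAt.isSeparatedMor_of_mono _) hsep
    have h3 : IsSeparated g.left := (AlgSp.isSeparatedMor_yon_map_iff g).1 hsep'
    exact (HasAffineProperty.iff_of_isAffine (P := @IsSeparated)).1 h3
  · rw [hgl] at hgP
    haveI : LocallyQuasiFinite U.hom := hgP.1
    intro V hVc
    haveI : CompactSpace ↥(V.toScheme) := isCompact_iff_compactSpace.1 hVc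
    haveI : QuasiCompact (V.ι ≫ U.hom) := quasiCompact_of_compactSpace _
    haveI : IsFinite (V.ι ≫ U.hom) := IsFinite.of_locallyQuasiFinite _
    exact isAffine_of_isAffineHom (V.ι ≫ U.hom)

end Groth.Agent.S10451
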