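import Groth.Statements.S10650
import Groth.Agent.Lib.Helper30.AlgSpFiniteProper
import Groth.Agent.Lib.Helper31.AlgSpWhere
import Groth.Agent.Lib.Helper78.AlgSpMisc

set_option autoImplicit false
set_option maxHeartbeats 1600000
universe u
open CategoryTheory CategoryTheory.Limits AlgebraicGeometry
open AlgSp

namespace Groth.Agent.S10650

open Groth.Agent.Lib.Helper31.AlgSpFlatAt Groth.Agent.Lib.Helper52 Groth.Agent.Lib.Helper51
  Groth.Agent.Lib.Helper98.AlgSpPtLocal Groth.Agent.Lib.Helper30.Near in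
/-- For a proper morphism f : X ⟶ Y of algebraic spaces over S and a point y of |Y| such that f is
quasi-finite at every point of |X| lying over y (for each such point some etale chart diagram
through it has top arrow locally quasi-finite and locally of finite type on an open neighbourhood),
there is an open subspace V of Y containing y such that the base change X ×_Y V ⟶ V is finite. -/
theorem result {S : Scheme.{u}} {X Y : AlgSp.Space S} (f : X ⟶ Y) (y : AlgSp.Points Y.obj)
    (hf : AlgSp.IsProperMor f.hom)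
    (hq : ∀ x : AlgSp.Points X.obj, AlgSp.Points.map f.hom x = y →
      AlgSp.HasAtMor (fun U _ h u => ∃ W : U.Opens, u ∈ W ∧ LocallyQuasiFinite (W.ι ≫ h) ∧ LocallyOfFiniteType (W.ι ≫ h)) f.hom x) :
    ∃ (V : AlgSp.Space S) (j : V ⟶ Y), AlgSp.RepWith @IsOpenImmersion j.hom ∧
      y ∈ Set.range (AlgSp.Points.map j.hom) ∧
        ∀ (P : AlgSp.Space S) (fst : P ⟶ X) (snd : P ⟶ V), IsPullback fst.hom snd.hom f.hom j.hom →
          AlgSp.IsFiniteMor snd.hom := by
  have hX := X.property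
  have hY := Y.property
  obtain ⟨hsep, ⟨hlft, hqc⟩, huc⟩ := hf
  have hE := Groth.Agent.Lib.Helper78.AlgSpLocPLqf.etLocalST_lqf.{u}
  -- the quasi-finite locus
  obtain ⟨G⟩ := exists_goodChart f.hom (𝟙 Y.obj) hX hY hY
  have hopen : IsOpen {x : Points X.obj | HasAtMor (Near (@LocallyQuasiFinite ⊓ @LocallyOfFiniteType))
      f.hom x} :=
    isOpen_hasAtMor (etLocalPt_near hE) G (isOpen_near _ _)
  obtain ⟨Qf, hQf⟩ : ∃ Qf : Set (Points X.obj), Qf = {x : Points X.obj |
      HasAtMor (Near (@LocallyQuasiFinite ⊓ @LocallyOfFiniteType)) f.hom x} := ⟨_, rfl⟩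
  rw [← hQf] at hopen
  have hclosed : IsClosed (Points.map f.hom '' Qfᶜ) :=
    (Groth.Agent.Lib.Helper30.isClosedMap_of_isUnivClosedMor hY huc) _ hopen.isClosed_compl
  obtain ⟨C, hC⟩ : ∃ C : Set (Points Y.obj), C = Points.map f.hom '' Qfᶜ := ⟨_, rfl⟩
  rw [← hC] at hclosed
  have hyC : y ∉ C := by
    rw [hC]
    rintro ⟨x, hx, hxy⟩
    apply hx
    rw [hQf]
    exact Groth.Agent.Lib.Helper78.AlgSpMisc.hasAtMor_mono
      (fun U V h u ⟨W, hu, h1, h2⟩ => ⟨W, hu, h1, h2⟩) (hq x hxy)
  have hW : IsOpen Cᶜ := hclosed.isOpen_compl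
  have hVsp : AlgSp.IsAlgSpace (openSp Y.obj Cᶜ) := isAlgSpace_openSp Cᶜ hW hY
  have hjrep : AlgSp.RepWith @IsOpenImmersion (openSpι Y.obj Cᶜ) :=
    repWith_isOpenImmersion_openSpι Cᶜ hW
  refine ⟨⟨openSp Y.obj Cᶜ, hVsp⟩, ObjectProperty.homMk (openSpι Y.obj Cᶜ), hjrep, ?_, ?_⟩
  · show y ∈ Set.range (Points.map (openSpι Y.obj Cᶜ))
    rw [range_map_openSpι]
    exact hyC
  · intro P fst snd sq
    replace sq : IsPullback fst.hom snd.hom f.hom (openSpι Y.obj Cᶜ) := sq
    have hsep' : AlgSp.IsSeparatedMor snd.hom :=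
      MorphismProperty.of_isPullback
        (P := (AlgSp.RepWith (S := S) @IsClosedImmersion).diagonal) sq hsep
    have hlft' : AlgSp.LocP @LocallyOfFiniteType snd.hom :=
      Groth.Agent.Lib.Helper78.AlgSpLocP.locP_of_isPullback
        Groth.Agent.Lib.Helper78.AlgSpLocPLoft.etLocalST_loft sq
        (Groth.Agent.Lib.Helper78.AlgSpFibre.repAll_of_isAlgSpace hY) hX.atlas hY.atlas hlft
    have hqc' : AlgSp.IsQuasiCompactMor snd.hom := by
      intro Z Z' hZ hZq g a b sqZ
      exact hqc hZ hZq (g ≫ openSpι Y.obj Cᶜ) (a ≫ fst.hom) b (sqZ.paste_horiz sq)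
    have huc' : AlgSp.IsUnivClosedMor snd.hom :=
      Groth.Agent.Lib.Helper30.isUnivClosedMor_snd_of_isPullback sq huc
    refine Groth.Agent.Lib.Helper30.ZMT.isFiniteMor_of_isProperMor_of_lqf P.property hVsp snd.hom
      ⟨hsep', ⟨hlft', hqc'⟩, huc'⟩ ?_
    -- locally quasi-finite
    have hιrep : AlgSp.RepWith @IsOpenImmersion (openSpι X.obj Qf) :=
      repWith_isOpenImmersion_openSpι Qf hopen
    have hιmono : Mono (openSpι X.obj Qf) :=
      mono_of_repWith (fun g (_ : IsOpenImmersion g) => inferInstance) hιrep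
    have hfqf : AlgSp.LocP (@LocallyQuasiFinite ⊓ @LocallyOfFiniteType) (openSpι X.obj Qf ≫ f.hom) :=
      locP_openSpι_comp hE f.hom Qf hopen (fun x hx => by rw [hQf] at hx; exact hx)
    have hrange : Set.range (Points.map fst.hom) ⊆ Set.range (Points.map (openSpι X.obj Qf)) := by
      rw [range_map_openSpι]
      rintro _ ⟨x', rfl⟩
      by_contra hcon
      have h1 : Points.map f.hom (Points.map fst.hom x') ∈ C := by
        rw [hC]; exact ⟨_, hcon, rfl⟩
      have h2 : Points.map (openSpι Y.obj Cᶜ) (Points.map snd.hom x') ∈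
          Set.range (Points.map (openSpι Y.obj Cᶜ)) := ⟨_, rfl⟩
      rw [range_map_openSpι, ← Points.map_comp, ← sq.w, Points.map_comp] at h2
      exact h2 h1
    obtain ⟨k, hk⟩ := exists_factor_of_range_subset (openSpι X.obj Qf) hιrep fst.hom hrange
    have sq' : IsPullback k snd.hom (openSpι X.obj Qf ≫ f.hom) (openSpι Y.obj Cᶜ) := by
      have w : k ≫ openSpι X.obj Qf ≫ f.hom = snd.hom ≫ openSpι Y.obj Cᶜ := by
        rw [← Category.assoc, hk]; exact sq.w
      refine ⟨⟨w⟩, ⟨PullbackCone.IsLimit.mk _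
        (fun s => sq.lift (s.fst ≫ openSpι X.obj Qf) s.snd (by
          rw [Category.assoc]; exact s.condition)) ?_ ?_ ?_⟩⟩
      · intro s
        rw [← cancel_mono (openSpι X.obj Qf), Category.assoc, hk]
        exact sq.lift_fst _ _ _
      · intro s
        exact sq.lift_snd _ _ _
      · intro s m h1 h2
        apply sq.hom_ext
        · rw [sq.lift_fst, ← hk, ← Category.assoc, h1]
        · rw [sq.lift_snd, h2]
    exact Groth.Agent.Lib.Helper78.AlgSpLocP.locP_of_isPullback hE sq'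
      (Groth.Agent.Lib.Helper78.AlgSpFibre.repAll_of_isAlgSpace hY)
      (isAlgSpace_openSp Qf hopen hX).atlas hY.atlas hfqf

end Groth.Agent.S10650
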