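import Groth.Statements.S10465
import Groth.Agent.Lib.Helper30.AlgSpQC
import Groth.Agent.Lib.Helper78.AlgSpFibre
import Mathlib.RingTheory.Flat.Basic
import Mathlib.RingTheory.Ideal.Quotient.Basic
-- import your own Groth.Agent.* helpers here

set_option autoImplicit false
universe u
open CategoryTheory CategoryTheory.Limits AlgebraicGeometry Topology TopologicalSpace
open AlgSp

namespace Groth.Agent.S10465

open Groth.Agent.Lib.Helper30 Groth.Agent.Lib.Helper52
open TensorProduct

set_option backward.isDefEq.respectTransparency false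

/-- A common field extension of two field extensions of `k`. -/
theorem exists_compositum (k K k' : Type u) [Field k] [Field K] [Field k'] [Algebra k K]
    [Algebra k k'] :
    ∃ (L : Type u) (_ : Field L) (_ : Algebra k L) (_ : Algebra K L) (_ : Algebra k' L),
      IsScalarTower k K L ∧ IsScalarTower k k' L := by
  have hnt : Nontrivial (K ⊗[k] k') :=
    Algebra.TensorProduct.nontrivial_of_algebraMap_injective_of_flat_left (R := k) (A := K)
      (B := k') (algebraMap k k').injective
  obtain ⟨m, hm⟩ := Ideal.exists_maximal (K ⊗[k] k')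
  let _ : Field ((K ⊗[k] k') ⧸ m) := Ideal.Quotient.field m
  let φ : k' →+* (K ⊗[k] k') ⧸ m :=
    (Ideal.Quotient.mk m).comp (Algebra.TensorProduct.includeRight (R := k) (A := K) (B := k')).toRingHom
  let _ : Algebra k' ((K ⊗[k] k') ⧸ m) := φ.toAlgebra
  refine ⟨(K ⊗[k] k') ⧸ m, inferInstance, inferInstance, inferInstance, inferInstance,
    inferInstance, ?_⟩
  refine IsScalarTower.of_algebraMap_eq fun x => ?_
  show algebraMap k ((K ⊗[k] k') ⧸ m) x = φ (algebraMap k k' x)
  show Ideal.Quotient.mk m (algebraMap k (K ⊗[k] k') x) = Ideal.Quotient.mk m _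
  congr 1
  rw [Algebra.TensorProduct.algebraMap_apply]
  show algebraMap k K x ⊗ₜ[k] (1 : k') = (1 : K) ⊗ₜ[k] algebraMap k k' x
  rw [Algebra.algebraMap_eq_smul_one, Algebra.algebraMap_eq_smul_one, TensorProduct.smul_tmul]

/-- The sheaf of `Spec K` over `Spec k`. -/
noncomputable abbrev spK (k : Type u) [Field k] (K : Type u) [Field K] [Algebra k K] :
    AlgSp.Sp (Spec (CommRingCat.of k)) :=
  (AlgSp.yon (Spec (CommRingCat.of k))).obj
    (Over.mk (Spec.map (CommRingCat.ofHom (algebraMap k K))))

theorem surjective_map_spK (k : Type u) [Field k] (K L : Type u) [Field K] [Field L] [Algebra k K]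
    [Algebra k L] [Algebra K L] [IsScalarTower k K L] :
    ∃ φ : spK k L ⟶ spK k K, Function.Surjective (Points.map φ) := by
  let g : (Over.mk (Spec.map (CommRingCat.ofHom (algebraMap k L))) : Over (Spec (CommRingCat.of k))) ⟶
      Over.mk (Spec.map (CommRingCat.ofHom (algebraMap k K))) :=
    Over.homMk (Spec.map (CommRingCat.ofHom (algebraMap K L))) (by
      show Spec.map _ ≫ Spec.map _ = Spec.map _
      rw [← Spec.map_comp, ← CommRingCat.ofHom_comp, ← IsScalarTower.algebraMap_eq])
  refine ⟨(AlgSp.yon _).map g, fun y => ?_⟩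
  obtain ⟨t, rfl⟩ := (Points.schemeHomeo _).surjective y
  have hne : Nonempty ↥(Spec (CommRingCat.of L)) := inferInstance
  obtain ⟨s⟩ := hne
  refine ⟨Points.schemeHomeo _ s, ?_⟩
  rw [Points.map_yon_map_apply]
  congr 1
  exact @Subsingleton.elim _ (inferInstanceAs (Subsingleton (PrimeSpectrum K))) _ _

/-- For a field extension k'/k and an algebraic space X over k, geometric connectedness of X over k is
equivalent to geometric connectedness of its base change X_{k'} over k' (the base changes of X_{k'}
to extensions K of k' being the base changes X_K of X, geometric connectedness of X_{k'} over k'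
reads: |X_K| is connected for every field K over k'). -/
theorem result (k : Type u) [Field k] (X : AlgSp.Space (Spec (CommRingCat.of k))) (k' : Type u) [Field k'] [Algebra k k'] :
    (∀ (K : Type u) [Field K] [Algebra k K], ConnectedSpace (AlgSp.Points (X.obj ⨯ (AlgSp.yon (Spec (CommRingCat.of k))).obj (Over.mk (Spec.map (CommRingCat.ofHom (algebraMap k K))))))) ↔
      ∀ (K : Type u) [Field K] [Algebra k K] [Algebra k' K] [IsScalarTower k k' K],
        ConnectedSpace (AlgSp.Points (X.obj ⨯ (AlgSp.yon (Spec (CommRingCat.of k))).obj (Over.mk (Spec.map (CommRingCat.ofHom (algebraMap k K)))))) := by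
  constructor
  · intro h K _ _ _ _
    exact h K
  · intro h K _ _
    obtain ⟨L, hL1, hL2, hL3, hL4, hL5, hL6⟩ := exists_compositum k K k'
    have hc := h L
    obtain ⟨φ, hφ⟩ := surjective_map_spK k K L
    have sq := Groth.Agent.Lib.Helper78.AlgSpFibre.isPullback_prod_snd_with_id φ X.obj
    have hs : Function.Surjective (Points.map (prod.map (𝟙 X.obj) φ)) :=
      surjective_map_snd_of_isPullback sq hφ
    have hcont : Continuous (Points.map (prod.map (𝟙 X.obj) φ)) := Points.continuous_map _
    have hpre : PreconnectedSpace (Points (X.obj ⨯ spK k K)) := by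
      constructor
      rw [← hs.range_eq]
      exact isPreconnected_range hcont
    have hne : Nonempty (Points (X.obj ⨯ spK k K)) := by
      obtain ⟨x⟩ := hc.toNonempty
      exact ⟨Points.map (prod.map (𝟙 X.obj) φ) x⟩
    exact { toPreconnectedSpace := hpre, toNonempty := hne }

end Groth.Agent.S10465
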