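import Groth.Statements.S10476
import Groth.Agent.Lib.Helper53.GeomRedBC

set_option autoImplicit false
universe u
open CategoryTheory CategoryTheory.Limits AlgebraicGeometry Topology TopologicalSpace
open AlgSp

namespace Groth.Agent.S10476

/-- (1) ⇔ (2): let k be a field of characteristic p > 0 and X an algebraic space over k. Then X is
geometrically reduced over k exactly when X_K is reduced for all field extensions K of k. -/
theorem result (k : Type u) [Field k] (p : ℕ) [Fact p.Prime] [CharP k p]
    (X : AlgSp.Space (Spec (CommRingCat.of k))) :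
    (∀ x : AlgSp.Points X.obj, (∃ (U : Over (Spec (CommRingCat.of k))) (a : (AlgSp.yon (Spec (CommRingCat.of k))).obj U ⟶ X.obj) (u : ↥U.left),
      AlgSp.RepWith @Etale a ∧ AlgSp.Points.ofPt a u = x ∧ FBase.IsGeomReducedAt U.hom u)) ↔
      ∀ (K : Type u) [Field K] [Algebra k K], AlgSp.EtaleLocally (fun U => IsReduced U) (X.obj ⨯ (AlgSp.yon (Spec (CommRingCat.of k))).obj (Over.mk (Spec.map (CommRingCat.ofHom (algebraMap k K))))) := by
  obtain ⟨U, a, ha, has⟩ := X.property.atlas
  rw [Groth.Agent.Helper53.GeomRedBC.geomReduced_iff_chart a ha has,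
    Groth.Agent.Helper53.GeomRedBC.forall_isGeomReducedAt_iff]
  constructor
  · intro h K _ _
    exact (Groth.Agent.Helper53.GeomRedBC.isReducedSp_prod_iff K a ha has).2 (h K)
  · intro h K _ _
    exact (Groth.Agent.Helper53.GeomRedBC.isReducedSp_prod_iff K a ha has).1 (h K)

end Groth.Agent.S10476
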