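import Groth.Statements.S10477
import Groth.Agent.Lib.Helper53.GeomRedBC
import Groth.Agent.S2521

set_option autoImplicit false
universe u
open CategoryTheory CategoryTheory.Limits AlgebraicGeometry Topology TopologicalSpace
open AlgSp

namespace Groth.Agent.S10477

/-- (6) ⇒ (2): let k be a field of characteristic p > 0 with algebraic closure k̄ and X an algebraic
space over k. If X_{k̄} is reduced, then X_K is reduced for every field extension K of k. -/
theorem result (k : Type u) [Field k] (p : ℕ) [Fact p.Prime] [CharP k p]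
    (X : AlgSp.Space (Spec (CommRingCat.of k))) (kbar : Type u) [Field kbar] [Algebra k kbar] [IsAlgClosure k kbar]
    (h : AlgSp.EtaleLocally (fun U => IsReduced U) (X.obj ⨯ (AlgSp.yon (Spec (CommRingCat.of k))).obj (Over.mk (Spec.map (CommRingCat.ofHom (algebraMap k kbar))))))
    (K : Type u) [Field K] [Algebra k K] : AlgSp.EtaleLocally (fun U => IsReduced U) (X.obj ⨯ (AlgSp.yon (Spec (CommRingCat.of k))).obj (Over.mk (Spec.map (CommRingCat.ofHom (algebraMap k K))))) := by
  obtain ⟨U, a, ha, has⟩ := X.property.atlas
  have h1 := (Groth.Agent.Helper53.GeomRedBC.isReducedSp_prod_iff kbar a ha has).1 h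
  refine (Groth.Agent.Helper53.GeomRedBC.isReducedSp_prod_iff K a ha has).2 ?_
  have hg : ∀ u : ↥U.left, FBase.IsGeomReducedAt U.hom u := by
    intro u
    have : IsAlgClosed kbar := IsAlgClosure.isAlgClosed k
    obtain ⟨x', hx'⟩ := Groth.Agent.Helper53.GeomRedBC.surjective_bcπ kbar U u
    apply Groth.Agent.S2521.result U.hom u x' hx'
    unfold FBase.IsReducedAt
    infer_instance
  exact (Groth.Agent.Helper53.GeomRedBC.forall_isGeomReducedAt_iff U).1 hg K

end Groth.Agent.S10477
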