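import Groth.Statements.S10478
import Groth.Agent.Lib.Helper53.GeomRedBC
import Groth.Agent.S1610

set_option autoImplicit false
universe u
open CategoryTheory CategoryTheory.Limits AlgebraicGeometry Topology TopologicalSpace
open AlgSp

namespace Groth.Agent.S10478

/-- (3) ⇒ (2): let k be a field of characteristic p > 0 and X an algebraic space over k. If X_{k'} is
reduced whenever k' is a finite purely inseparable extension of k, then X_K is reduced for every
field extension K of k. -/
theorem result (k : Type u) [Field k] (p : ℕ) [Fact p.Prime]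
    [CharP k p] (X : AlgSp.Space (Spec (CommRingCat.of k)))
    (h : ∀ (k' : Type u) [Field k'] [Algebra k k'], Module.Finite k k' → IsPurelyInseparable k k' →
      AlgSp.EtaleLocally (fun U => IsReduced U) (X.obj ⨯ (AlgSp.yon (Spec (CommRingCat.of k))).obj (Over.mk (Spec.map (CommRingCat.ofHom (algebraMap k k'))))))
    (K : Type u) [Field K] [Algebra k K] : AlgSp.EtaleLocally (fun U => IsReduced U) (X.obj ⨯ (AlgSp.yon (Spec (CommRingCat.of k))).obj (Over.mk (Spec.map (CommRingCat.ofHom (algebraMap k K))))) := by
  obtain ⟨U, a, ha, has⟩ := X.property.atlas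
  refine (Groth.Agent.Helper53.GeomRedBC.isReducedSp_prod_iff K a ha has).2 ?_
  have hg : ∀ u : ↥U.left, FBase.IsGeomReducedAt U.hom u := by
    intro u
    let _ : U.left.Over (Spec (CommRingCat.of k)) := ⟨U.hom⟩
    refine (Groth.Agent.S1610.result k p U.left u).2 ?_
    intro k' _ _ _ _ x' _
    have hred : IsReduced (FBase.bc U.hom k') :=
      (Groth.Agent.Helper53.GeomRedBC.isReducedSp_prod_iff k' a ha has).1
        (h k' inferInstance inferInstance)
    exact @AlgebraicGeometry.isReduced_stalk_of_isReduced (FBase.bc U.hom k') hred x'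
  exact (Groth.Agent.Helper53.GeomRedBC.forall_isGeomReducedAt_iff U).1 hg K

end Groth.Agent.S10478
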