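import Groth.Statements.S10479
import Groth.Agent.Lib.Helper53.GeomRedBC

set_option autoImplicit false
universe u
open CategoryTheory CategoryTheory.Limits AlgebraicGeometry Topology TopologicalSpace
open AlgSp

namespace Groth.Agent.S10479

/-- Let k be a field, X an algebraic space over k, K/k a field extension, x a point of X and x' a point
of X_K lying over x. Then X is geometrically reduced at x (over k) if and only if X_K is
geometrically reduced at x' (over K). -/
theorem result (k : Type u) [Field k] (X : AlgSp.Space (Spec (CommRingCat.of k))) (K : Type u) [Field K] [Algebra k K]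
    (x : AlgSp.Points X.obj) (x' : AlgSp.Points (X.obj ⨯ (AlgSp.yon (Spec (CommRingCat.of k))).obj (Over.mk (Spec.map (CommRingCat.ofHom (algebraMap k K))))))
    (hx' : AlgSp.Points.map (Limits.prod.fst : (X.obj ⨯ (AlgSp.yon (Spec (CommRingCat.of k))).obj (Over.mk (Spec.map (CommRingCat.ofHom (algebraMap k K))))) ⟶ X.obj) x' = x) :
    (∃ (U : Over (Spec (CommRingCat.of k))) (a : (AlgSp.yon (Spec (CommRingCat.of k))).obj U ⟶ X.obj) (u : ↥U.left),
      AlgSp.RepWith @Etale a ∧ AlgSp.Points.ofPt a u = x ∧ FBase.IsGeomReducedAt U.hom u) ↔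
      ∃ (U' : Over (Spec (CommRingCat.of k))) (a' : (AlgSp.yon (Spec (CommRingCat.of k))).obj U' ⟶ (X.obj ⨯ (AlgSp.yon (Spec (CommRingCat.of k))).obj (Over.mk (Spec.map (CommRingCat.ofHom (algebraMap k K))))))
        (q : U' ⟶ Over.mk (Spec.map (CommRingCat.ofHom (algebraMap k K)))) (u' : ↥U'.left),
        AlgSp.RepWith @Etale a' ∧ a' ≫ Limits.prod.snd = (AlgSp.yon (Spec (CommRingCat.of k))).map q ∧
          AlgSp.Points.ofPt a' u' = x' ∧ FBase.IsGeomReducedAt q.left u' := by
  obtain ⟨U, a, ha, has⟩ := X.property.atlas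
  have hae := Groth.Agent.Helper53.GeomRedBC.repWith_prodChart
    (Groth.Agent.Helper53.GeomRedBC.spK K) @Etale a ha
  have has' := Groth.Agent.Helper53.GeomRedBC.repWith_prodChart
    (Groth.Agent.Helper53.GeomRedBC.spK K) @Surjective a has
  obtain ⟨u'', hu''⟩ := Groth.Agent.Lib.Helper51.surjective_ofPt_of_repWith_surjective
    (Groth.Agent.Helper53.GeomRedBC.prodChart (Groth.Agent.Helper53.GeomRedBC.spK K) a) has' x'
  have hux : AlgSp.Points.ofPt a
      ((prod.fst : U ⨯ Groth.Agent.Helper53.GeomRedBC.spK K ⟶ U).left u'') = x := by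
    rw [← Groth.Agent.Lib.Helper52.ofPt_yon_map_comp,
      ← Groth.Agent.Helper53.GeomRedBC.prodChart_fst, ← AlgSp.Points.map_ofPt, hu'', hx']
  have hQ : Groth.Agent.Helper53.GeomRedEt.EtInvOver (S := Spec (CommRingCat.of k))
      (fun U u => FBase.IsGeomReducedAt U.hom u) :=
    Groth.Agent.Helper53.GeomRedEt.etInvOver_isGeomReducedAt
  have hQT : Groth.Agent.Helper53.GeomRedBC.EtInvOverT (S := Spec (CommRingCat.of k))
      (Groth.Agent.Helper53.GeomRedBC.spK K)
      (fun U q u => FBase.IsGeomReducedAt (k := K) q.left u) :=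
    Groth.Agent.Helper53.GeomRedBC.etInvOverT_isGeomReducedAt (k := k) K
  constructor
  · rintro ⟨U₀, a₀, u₀, ha₀, hu₀, hq⟩
    have h1 : FBase.IsGeomReducedAt U.hom
        ((prod.fst : U ⨯ Groth.Agent.Helper53.GeomRedBC.spK K ⟶ U).left u'') :=
      (Groth.Agent.Helper53.GeomRedEt.iff_of_ofPt_eq hQ a₀ ha₀ a ha u₀ _ (hu₀.trans hux.symm)).1 hq
    exact ⟨U ⨯ Groth.Agent.Helper53.GeomRedBC.spK K,
      Groth.Agent.Helper53.GeomRedBC.prodChart (Groth.Agent.Helper53.GeomRedBC.spK K) a,
      prod.snd, u'', hae, Groth.Agent.Helper53.GeomRedBC.prodChart_snd _ a, hu'',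
      (Groth.Agent.Helper53.GeomRedBC.isGeomReducedAt_prod_snd_iff K U u'').2 h1⟩
  · rintro ⟨U', a', q, u', ha', hq', hu', hred⟩
    have h1 := (Groth.Agent.Helper53.GeomRedBC.iff_of_ofPt_eq_T
      (Q := fun U q u => FBase.IsGeomReducedAt (k := K) q.left u) hQT prod.snd a' ha'
      (Groth.Agent.Helper53.GeomRedBC.prodChart (Groth.Agent.Helper53.GeomRedBC.spK K) a) hae q
      prod.snd hq' (Groth.Agent.Helper53.GeomRedBC.prodChart_snd _ a) u' u''
      (hu'.trans hu''.symm)).1 hred
    exact ⟨U, a, _, ha, hux,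
      (Groth.Agent.Helper53.GeomRedBC.isGeomReducedAt_prod_snd_iff K U u'').1 h1⟩

end Groth.Agent.S10479
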