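import Groth.Statements.S10481
import Groth.Agent.Lib.Helper53.GeomRedEt

set_option autoImplicit false
universe u
open CategoryTheory CategoryTheory.Limits AlgebraicGeometry Topology TopologicalSpace
open AlgSp

namespace Groth.Agent.S10481

/-- Let k be a field, f : X ⟶ Y a morphism of algebraic spaces over k and x a point of X at which f is
etale. Then X is geometrically reduced at x if and only if Y is geometrically reduced at the image
of x. -/
theorem result (k : Type u) [Field k] {X Y : AlgSp.Space (Spec (CommRingCat.of k))} (f : X ⟶ Y)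
    (x : AlgSp.Points X.obj)
    (he : AlgSp.HasAtMor (fun U _ h u => ∃ W : U.Opens, u ∈ W ∧ Etale (W.ι ≫ h)) f.hom x) :
    (∃ (U : Over (Spec (CommRingCat.of k))) (a : (AlgSp.yon (Spec (CommRingCat.of k))).obj U ⟶ X.obj) (u : ↥U.left),
      AlgSp.RepWith @Etale a ∧ AlgSp.Points.ofPt a u = x ∧ FBase.IsGeomReducedAt U.hom u) ↔ (∃ (U : Over (Spec (CommRingCat.of k))) (a : (AlgSp.yon (Spec (CommRingCat.of k))).obj U ⟶ Y.obj) (u : ↥U.left),
      AlgSp.RepWith @Etale a ∧ AlgSp.Points.ofPt a u = (AlgSp.Points.map f.hom x) ∧ FBase.IsGeomReducedAt U.hom u) := by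
  obtain ⟨U, V, a, b, h, u, ha, hb, comm, hu, W, huW, hWe⟩ := he
  have hQ : Groth.Agent.Helper53.GeomRedEt.EtInvOver (S := Spec (CommRingCat.of k))
      (fun U u => FBase.IsGeomReducedAt U.hom u) :=
    Groth.Agent.Helper53.GeomRedEt.etInvOver_isGeomReducedAt
  -- the open neighbourhood as a scheme over `k`
  obtain ⟨W', hW'⟩ : ∃ W' : Over (Spec (CommRingCat.of k)), W' = Over.mk (W.ι ≫ U.hom) := ⟨_, rfl⟩
  subst hW'
  let j : Over.mk (W.ι ≫ U.hom) ⟶ U := Over.homMk W.ι rfl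
  have hj : Etale j.left := by
    change Etale W.ι
    infer_instance
  have hjh : Etale (j ≫ h).left := by
    change Etale (W.ι ≫ h.left)
    exact hWe
  have key : FBase.IsGeomReducedAt U.hom u ↔ FBase.IsGeomReducedAt V.hom (h.left u) := by
    have h1 := @hQ _ _ j hj (⟨u, huW⟩ : ↥W)
    have h2 := @hQ _ _ (j ≫ h) hjh (⟨u, huW⟩ : ↥W)
    exact h1.symm.trans h2
  have hpt : AlgSp.Points.ofPt b (h.left u) = AlgSp.Points.map f.hom x := by
    rw [← hu, AlgSp.Points.map_ofPt, comm, Groth.Agent.Lib.Helper52.ofPt_yon_map_comp]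
  constructor
  · rintro ⟨U₀, a₀, u₀, ha₀, hu₀, hq⟩
    refine ⟨V, b, h.left u, hb, hpt, key.1 ?_⟩
    exact (Groth.Agent.Helper53.GeomRedEt.iff_of_ofPt_eq hQ a₀ ha₀ a ha u₀ u (hu₀.trans hu.symm)).1 hq
  · rintro ⟨V₀, b₀, v₀, hb₀, hv₀, hq⟩
    refine ⟨U, a, u, ha, hu, key.2 ?_⟩
    exact (Groth.Agent.Helper53.GeomRedEt.iff_of_ofPt_eq hQ b₀ hb₀ b hb v₀ (h.left u)
      (hv₀.trans hpt.symm)).1 hq

end Groth.Agent.S10481
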