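import Groth.Statements.S10482
import Groth.Agent.Lib.Helper53.LqfDim
import Groth.Agent.S10347

set_option autoImplicit false
universe u
open CategoryTheory CategoryTheory.Limits AlgebraicGeometry Topology TopologicalSpace
open AlgSp

namespace Groth.Agent.S10482

/-- (1) ⇔ (2): let k be a field and X an algebraic space over k. Then X is locally quasi-finite over k
if and only if X is locally of finite type over k of dimension at most 0. (The published statement
says dimension 0; dimension at most 0 is used so that the empty space, whose dimension is the bottom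
element, is covered by both sides.) -/
theorem result (k : Type u) [Field k] (X : AlgSp.Space (Spec (CommRingCat.of k))) (p : X.obj ⟶ (AlgSp.yon (Spec (CommRingCat.of k))).obj (Over.mk (𝟙 _))) :
    AlgSp.LocP (@LocallyQuasiFinite ⊓ @LocallyOfFiniteType : MorphismProperty Scheme.{u}) p ↔ AlgSp.LocP @LocallyOfFiniteType p ∧ AlgSp.dim X.obj ≤ 0 := by
  constructor
  · intro h
    refine ⟨fun U V a b g ha hb c => (h a b g ha hb c).2, ?_⟩
    have h1 := Groth.Agent.S10347.result (X := X)
      (Y := ⟨(AlgSp.yon (Spec (CommRingCat.of k))).obj (Over.mk (𝟙 _)), AlgSp.IsAlgSpace.yon_obj _⟩)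
      (ObjectProperty.homMk p) h
    exact h1.trans (Groth.Agent.Helper53.LqfDim.dim_yon_field_le k)
  · rintro ⟨h1, h2⟩ U V a b g ha hb c
    have hlft : LocallyOfFiniteType g.left := h1 a b g ha hb c
    have hd : topologicalKrullDim ↥U.left ≤ 0 := by
      refine le_trans ?_ h2
      unfold AlgSp.dim
      exact le_iSup_of_le U (le_iSup_of_le a (le_iSup_of_le ha le_rfl))
    exact ⟨Groth.Agent.Helper53.LqfDim.lqf_of_dim_le_zero g.left hd, hlft⟩

end Groth.Agent.S10482
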