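import Groth.Statements.S10486
import Groth.Agent.Lib.Helper51.AlgSpIntGen

set_option autoImplicit false
universe u
open CategoryTheory CategoryTheory.Limits AlgebraicGeometry Topology TopologicalSpace
open AlgSp

namespace Groth.Agent.S10486

/-- (1) ⇔ (5): let f : X ⟶ Y be a dominant morphism locally of finite type between integral algebraic
spaces over a scheme S, with generic points x and y. Then the transcendence degree of x over y is 0
if and only if x is the only point of X mapping to y. -/
theorem result {S : Scheme.{u}} {X Y : AlgSp.Space S} (hXi : AlgSp.IsIntegralSp X.obj) (hYi : AlgSp.IsIntegralSp Y.obj)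
    (f : X ⟶ Y) (hft : AlgSp.LocP @LocallyOfFiniteType f.hom) (hd : AlgSp.IsDominantMor f.hom)
    (x : AlgSp.Points X.obj) (hx : IsGenericPoint x (Set.univ : Set (AlgSp.Points X.obj)))
    (y : AlgSp.Points Y.obj) (hy : IsGenericPoint y (Set.univ : Set (AlgSp.Points Y.obj))) :
    AlgSp.HasAtMor (fun _ _ h u => Dual3.resTrdeg h u = 0) f.hom x ↔ (∀ x' : AlgSp.Points X.obj, AlgSp.Points.map f.hom x' = y → x' = x) := by
  exact (Groth.Agent.Lib.Helper51.IntGen.hasAtMor_resTrdeg_zero_iff_lqfNear X.property f.hom hft x
    (Groth.Agent.Lib.Helper51.IntGen.codimZero_of_isGenericPoint X.property hXi.2.1 x hx)).trans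
    (Groth.Agent.Lib.Helper51.IntGen.lqfNear_iff_unique X.property Y.property hXi.2.1 hYi.2.1 f.hom hft hd x hx y hy)

end Groth.Agent.S10486
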