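import Groth.Statements.S10490
import Groth.Agent.S1550
import Groth.Agent.Lib.Helper21.ResMap
import Groth.Agent.Lib.Helper51.AlgSpPoints
import Groth.Agent.Lib.Helper53.AlgSpMisc

set_option autoImplicit false
universe u
open CategoryTheory CategoryTheory.Limits AlgebraicGeometry Topology TopologicalSpace
open AlgSp

namespace Groth.Agent.S10490

/-- Let k be a field and X an algebraic space smooth over k. Then the points of X which are images of
morphisms Spec k' ⟶ X over k with k' a finite separable extension of k form a dense subset of |X|. -/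
theorem result (k : Type u) [Field k] (X : AlgSp.Space (Spec (CommRingCat.of k))) (p : X.obj ⟶ (AlgSp.yon (Spec (CommRingCat.of k))).obj (Over.mk (𝟙 _))) (hp : AlgSp.LocP @Smooth p) :
    Dense {x : AlgSp.Points X.obj | ∃ (k' : Type u) (_ : Field k') (_ : Algebra k k'),
      Module.Finite k k' ∧ Algebra.IsSeparable k k' ∧
        ∃ v : X.obj.obj.obj (Opposite.op (Over.mk (Spec.map (CommRingCat.ofHom (algebraMap k k'))))),
          AlgSp.Points.mk ⟨k', Spec.map (CommRingCat.ofHom (algebraMap k k')), v⟩ = x} := by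
  obtain ⟨U, a, ha, has⟩ := X.property.atlas
  obtain ⟨g, hg⟩ := (AlgSp.yon (Spec (CommRingCat.of k))).map_surjective (a ≫ p)
  have hid : AlgSp.RepWith @Etale (𝟙 ((AlgSp.yon (Spec (CommRingCat.of k))).obj
      (Over.mk (𝟙 (Spec (CommRingCat.of k)))))) := by
    rw [← (AlgSp.yon (Spec (CommRingCat.of k))).map_id]
    exact (AlgSp.repWith_yon_map_iff _ _).2 (by dsimp; infer_instance)
  have hsm : Smooth g.left :=
    hp a (𝟙 _) g ha hid (by rw [hg, Category.comp_id])
  have hgl : g.left = U.hom := by
    have := Over.w g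
    simpa using this
  rw [hgl] at hsm
  let _ : U.left.Over (Spec (CommRingCat.of k)) := ⟨U.hom⟩
  have : Smooth (U.left ↘ Spec (CommRingCat.of k)) := hsm
  have hD := Groth.Agent.S1550.result k U.left
  have hsurj := Groth.Agent.Lib.Helper51.surjective_ofPt_of_repWith_surjective a has
  refine (hsurj.denseRange.dense_image (AlgSp.Points.continuous_ofPt a) hD).mono ?_
  rintro _ ⟨u, ⟨-, hfin, hsep⟩, rfl⟩
  obtain ⟨v, hv⟩ := Groth.Agent.Helper53.AlgSpMisc.exists_of_str_eq (F := X.obj) (U.left.residueField u)
    (U.left.fromSpecResidueField u ≫ U.hom)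
    (Spec.map (CommRingCat.ofHom (Curv2.resMap k U.left u)))
    (Groth.Agent.Lib.Helper21.SpecMap_resMap k U.left u)
    (AlgSp.FieldPt.ofPt a u).val
  exact ⟨U.left.residueField u, inferInstance, Curv2.resAlgebra k U.left u, hfin, hsep, v, hv⟩

end Groth.Agent.S10490
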