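import Groth.Statements.S10491
import Groth.Agent.Lib.Helper53.LocFinIrr
import Groth.Agent.Lib.Helper51.AlgSpPoints

set_option autoImplicit false
universe u
open CategoryTheory CategoryTheory.Limits AlgebraicGeometry Topology TopologicalSpace
open AlgSp

namespace Groth.Agent.S10491

/-- Let X be an algebraic space over a scheme S which is locally Noetherian, and T ⊂ |X| a closed
subset. Then every point of |X| has a neighbourhood meeting only finitely many irreducible
components of T. -/
theorem result {S : Scheme.{u}} (X : AlgSp.Space S)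
    (hX : AlgSp.IsLocNoethSp X.obj) (T : Set (AlgSp.Points X.obj)) (hT : IsClosed T) :
    LocallyFinite (fun Z : ↥(irreducibleComponents ↥T) => ((↑) : ↥T → AlgSp.Points X.obj) '' (Z : Set ↥T)) := by
  obtain ⟨U, p, hpe, hps, hN⟩ := hX
  refine Groth.Agent.Helper53.LocFinIrr.locallyFinite_irreducibleComponents T (fun x => ?_)
  obtain ⟨u, rfl⟩ := Groth.Agent.Lib.Helper51.surjective_ofPt_of_repWith_surjective p hps x
  obtain ⟨W, hW, huW, -⟩ := exists_isAffineOpen_mem_and_subset
    (show u ∈ (⊤ : U.left.Opens) from trivial)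
  have hWN : IsNoetherianRing Γ(U.left, W) := hN.component_noetherian ⟨W, hW⟩
  have hWsp : NoetherianSpace (W : Set ↥U.left) :=
    noetherianSpace_of_isAffineOpen W hW
  refine ⟨Points.ofPt p '' (W : Set ↥U.left), ?_, ⟨u, huW, rfl⟩, ?_⟩
  · exact Groth.Agent.Lib.Helper51.isOpenMap_ofPt_of_etale p hpe _ W.isOpen
  · rw [Set.image_eq_range]
    exact NoetherianSpace.range _ ((Points.continuous_ofPt p).comp continuous_subtype_val)

end Groth.Agent.S10491
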