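import Groth.Statements.S10494
import Groth.Agent.Lib.Helper78.GsectDomain

set_option autoImplicit false
universe u
open CategoryTheory CategoryTheory.Limits AlgebraicGeometry Topology TopologicalSpace
open AlgSp

namespace Groth.Agent.S10494

/-- Let X be an integral algebraic space over a scheme S. Then Γ(X, O_X) is a domain. -/
theorem result {S : Scheme.{u}} (X : AlgSp.Space S)
    (hX : AlgSp.IsIntegralSp X.obj) : IsDomain ↥(AlgSp.gsectEt (AlgSp.OEt X.obj)) := by
  haveI := hX.2.2
  exact Groth.Agent.Lib.Helper78.GsectDomain.isDomain_gsectEt hX.1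

end Groth.Agent.S10494
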