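import Groth.Statements.S10507
import Groth.Agent.Lib.Helper30.AlgSpFpqc3
import Groth.Agent.Lib.Helper78.AlgSpLocPFlat
import Groth.Agent.Lib.Helper78.AlgSpLocP2
-- import your own Groth.Agent.* helpers here

set_option autoImplicit false
universe u
open CategoryTheory CategoryTheory.Limits AlgebraicGeometry
open AlgSp

namespace Groth.Agent.S10507

open Groth.Agent.Lib.Helper30

set_option backward.isDefEq.respectTransparency false


/-- If `{X_i ⟶ X}` is an fpqc covering of the algebraic space `X` by algebraic spaces and each `X_i` has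
an fpqc covering `{X_ij ⟶ X_i}` by algebraic spaces, then the composites `X_ij ⟶ X_i ⟶ X`, indexed
by the pairs `(i, j)`, form an fpqc covering of `X`. -/
theorem result {S : Scheme.{u}} (X : AlgSp.Space S) {ι : Type u}
    (Xi : ι → AlgSp.Space S) (g : ∀ i, Xi i ⟶ X) (κ : ι → Type u) (Xij : ∀ i, κ i → AlgSp.Space S)
    (gij : ∀ i j, Xij i j ⟶ Xi i)
    (h : AlgSp.IsFpqcCover (fun i => (Xi i).obj) (fun i => (g i).hom))
    (hij : ∀ i, AlgSp.IsFpqcCover (fun j => (Xij i j).obj) (fun j => (gij i j).hom)) :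
    AlgSp.IsFpqcCover (fun r : Σ i, κ i => (Xij r.1 r.2).obj) (fun r => (gij r.1 r.2 ≫ g r.1).hom) := by
  refine ⟨fun r => ?_, ?_⟩
  · exact Groth.Agent.Lib.Helper78.AlgSpLocP.locP_comp
      Groth.Agent.Lib.Helper78.AlgSpLocPFlat.etLocalST_flat (gij r.1 r.2).hom (g r.1).hom
      (Xi r.1).property.atlas ((hij r.1).1 r.2) (h.1 r.1)
  · intro Z hZ t
    obtain ⟨m, W, c, hW, hc, hsurj, hl⟩ := h.2 Z hZ t
    refine stdFpqcLift_trans _ _ Z t W c hc hsurj fun j => ?_
    obtain ⟨i, l, hl⟩ := hl j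
    obtain ⟨n, W', c', hW', hc', hsurj', hl'⟩ := (hij i).2 (W j) (hW j) l
    refine ⟨n, W', c', hW', hc', hsurj', fun k => ?_⟩
    obtain ⟨k', l', hl'⟩ := hl' k
    refine ⟨⟨i, k'⟩, l', ?_⟩
    show l' ≫ (gij i k').hom ≫ (g i).hom = _
    rw [← Category.assoc, hl', Category.assoc, hl]

end Groth.Agent.S10507
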