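import Groth.Statements.S10508
import Groth.Agent.Lib.Helper30.AlgSpFpqc3
import Groth.Agent.Lib.Helper30.AlgSpLoc
import Groth.Agent.Lib.Helper78.AlgSpLocPFlat
import Groth.Agent.Lib.Helper78.AlgSpLocP3
import Groth.Agent.Lib.Helper78.AlgSpLocP4
import Groth.Agent.S10505
-- import your own Groth.Agent.* helpers here

set_option autoImplicit false
universe u
open CategoryTheory CategoryTheory.Limits AlgebraicGeometry
open AlgSp

namespace Groth.Agent.S10508

open Groth.Agent.Lib.Helper30 Groth.Agent.Lib.Helper51 Groth.Agent.Lib.Helper52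

set_option backward.isDefEq.respectTransparency false


/-- Let `X` be an algebraic space over `S`, `{X_i ⟶ X}` a family of morphisms of algebraic spaces and
`h_U ⟶ X` a representable etale, representable surjective map from a scheme `U` over `S`, with
pullback squares of sheaves exhibiting algebraic spaces `U_i` as `U ×_X X_i`. Then `{X_i ⟶ X}` is an
fpqc covering of `X` if and only if `{U_i ⟶ h_U}` is an fpqc covering of `h_U`. -/
theorem result {S : Scheme.{u}} (X : AlgSp.Space S) {ι : Type u}
    (Xi : ι → AlgSp.Space S) (g : ∀ i, Xi i ⟶ X) {U : Over S} (p : (AlgSp.yon S).obj U ⟶ X.obj)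
    (hp : AlgSp.RepWith @Etale p) (hps : AlgSp.RepWith @Surjective p)
    (Ui : ι → AlgSp.Space S) (q : ∀ i, (Ui i).obj ⟶ (AlgSp.yon S).obj U) (p' : ∀ i, Ui i ⟶ Xi i)
    (sq : ∀ i, IsPullback (q i) (p' i).hom p (g i).hom) :
    AlgSp.IsFpqcCover (fun i => (Xi i).obj) (fun i => (g i).hom) ↔
      AlgSp.IsFpqcCover (fun i => (Ui i).obj) q := by
  constructor
  · intro h
    refine ⟨fun i => ?_, ?_⟩
    · exact Groth.Agent.Lib.Helper78.AlgSpLocP.locP_of_isPullback
        Groth.Agent.Lib.Helper78.AlgSpLocPFlat.etLocalST_flat (sq i).flip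
        (Groth.Agent.Lib.Helper78.AlgSpFibre.repAll_of_isAlgSpace X.property)
        (Xi i).property.atlas X.property.atlas (h.1 i)
    · intro Z hZ t
      obtain ⟨m, W, c, hW, hc, hsurj, hl⟩ := h.2 Z hZ (t ≫ p)
      refine ⟨m, W, c, hW, hc, hsurj, fun j => ?_⟩
      obtain ⟨i, l, hl⟩ := hl j
      have hw : ((AlgSp.yon S).map (c j) ≫ t) ≫ p = l ≫ (g i).hom := by
        rw [hl, Category.assoc]
      exact ⟨i, (sq i).lift _ _ hw, (sq i).lift_fst _ _ hw⟩
  · intro hU
    refine ⟨fun i => ?_, ?_⟩
    · exact Groth.Agent.Lib.Helper78.AlgSpLocP.locP_of_target_cover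
        Groth.Agent.Lib.Helper78.AlgSpLocPFlat.etLocalST_flat (g i).hom (Xi i).property.atlas p hp hps
        (p' i).hom (q i) (sq i).flip (hU.1 i)
    · intro Z hZ t
      -- the one-member covering `{p}` is fppf, hence fpqc
      have hpfl : AlgSp.LocP @Flat p :=
        locP_of_repWith @Etale @Flat (fun k i hk hi => by
          have : Etale k := hk
          have : Etale i := hi
          infer_instance) hp
      have hpfp : AlgSp.LocP @LocallyOfFinitePresentation p :=
        locP_of_repWith @Etale @LocallyOfFinitePresentation (fun k i hk hi => by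
          have : Etale k := hk
          have : Etale i := hi
          infer_instance) hp
      have hcov : AlgSp.IsFppfCover
          (fun _ : PUnit.{u + 1} => ((⟨(AlgSp.yon S).obj U, AlgSp.IsAlgSpace.yon_obj U⟩ :
            AlgSp.Space S)).obj)
          (fun _ => (ObjectProperty.homMk p : (⟨(AlgSp.yon S).obj U,
            AlgSp.IsAlgSpace.yon_obj U⟩ : AlgSp.Space S) ⟶ X).hom) :=
        ⟨fun _ => ⟨hpfl, hpfp⟩, fun x => ⟨PUnit.unit, surjective_map_of_repWith_surjective hps x⟩⟩
      have hfpqc := Groth.Agent.S10505.result X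
        (fun _ : PUnit.{u + 1} => (⟨(AlgSp.yon S).obj U, AlgSp.IsAlgSpace.yon_obj U⟩ :
          AlgSp.Space S)) (fun _ => ObjectProperty.homMk p) hcov
      obtain ⟨m, W, c, hW, hc, hsurj, hl⟩ := hfpqc.2 Z hZ t
      refine stdFpqcLift_trans _ _ Z t W c hc hsurj fun j => ?_
      obtain ⟨_, l, hl⟩ := hl j
      change l ≫ p = _ at hl
      obtain ⟨n, W', c', hW', hc', hsurj', hl'⟩ := hU.2 (W j) (hW j) l
      refine ⟨n, W', c', hW', hc', hsurj', fun k => ?_⟩
      obtain ⟨i, l', hl'⟩ := hl' k
      refine ⟨i, l' ≫ (p' i).hom, ?_⟩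
      rw [Category.assoc, ← (sq i).w, ← Category.assoc, hl', Category.assoc, hl]

end Groth.Agent.S10508
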