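import Groth.Statements.S10509
import Groth.Agent.S0412
import Groth.Agent.Lib.Helper78.AlgSpLocP2
import Groth.Agent.Lib.Helper51.AlgSpCharts

set_option autoImplicit false
universe u
open CategoryTheory CategoryTheory.Limits AlgebraicGeometry
open AlgSp

namespace Groth.Agent.S10509

/-- A smooth covering of an algebraic space `X` over `S` by algebraic spaces can be refined by an etale
covering of `X` by algebraic spaces: there is an etale covering `{U_j ⟶ X}` each member of which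
factors through some member of the given smooth covering. -/
theorem result {S : Scheme.{u}} (X : AlgSp.Space S) {ι : Type u}
    (Xi : ι → AlgSp.Space S) (g : ∀ i, Xi i ⟶ X)
    (h : AlgSp.IsSmCover (fun i => (Xi i).obj) (fun i => (g i).hom)) :
    ∃ (κ : Type u) (U : κ → AlgSp.Space S) (c : ∀ j, U j ⟶ X),
      AlgSp.IsEtCover (fun j => (U j).obj) (fun j => (c j).hom) ∧
      ∀ j, ∃ (i : ι) (r : U j ⟶ Xi i), r ≫ g i = c j := by
  obtain ⟨A, a, ha, has⟩ := X.property.atlas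
  choose T aT haT haTs using fun i => (Xi i).property.atlas
  have sq := fun i => ha.rep.isPullback' (aT i ≫ (g i).hom)
  have hτ₂e : ∀ i, Etale (ha.rep.snd (aT i ≫ (g i).hom)).left :=
    fun i => ha.property _ _ _ (sq i)
  have hτ₂aT : ∀ i, AlgSp.RepWith @Etale
      ((AlgSp.yon S).map (ha.rep.snd (aT i ≫ (g i).hom)) ≫ aT i) := fun i =>
    (AlgSp.RepWith (S := S) @Etale).comp_mem _ _
      ((AlgSp.repWith_yon_map_iff _ _).2 (hτ₂e i)) (haT i)
  have hτ₁sm : ∀ i, Smooth (ha.rep.fst' (aT i ≫ (g i).hom)).left := by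
    intro i
    refine h.1 i ((AlgSp.yon S).map (ha.rep.snd (aT i ≫ (g i).hom)) ≫ aT i) a
      (ha.rep.fst' (aT i ≫ (g i).hom)) (hτ₂aT i) ha ?_
    rw [Category.assoc]; exact (sq i).w.symm
  have hsurjA : ∀ p : A.left, ∃ i, p ∈ Set.range (ha.rep.fst' (aT i ≫ (g i).hom)).left := by
    intro p
    obtain ⟨i, ξ, hξ⟩ := h.2 (AlgSp.Points.ofPt a p)
    obtain ⟨t, ht⟩ := Groth.Agent.Lib.Helper51.surjective_ofPt_of_repWith_surjective
      (aT i) (haTs i) ξ
    have hxt : AlgSp.Points.ofPt a p = AlgSp.Points.ofPt (aT i ≫ (g i).hom) t := by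
      rw [← hξ, ← ht, AlgSp.Points.ofPt_eq_map_ofScheme (aT i),
        AlgSp.Points.ofPt_eq_map_ofScheme (aT i ≫ (g i).hom), AlgSp.Points.map_comp]
    obtain ⟨w, hw1, -⟩ := Groth.Agent.Lib.Helper51.exists_of_ofPt_eq_ofPt (sq i) hxt
    exact ⟨i, w, hw1⟩
  choose i hi using hsurjA
  have key : ∀ p : A.left, ∃ (S' : Scheme.{u}) (gp : S' ⟶ A.left) (s' : S'), Etale gp ∧
      gp s' = p ∧ ∃ hp : S' ⟶ (ha.rep.pullback (aT (i p) ≫ (g (i p)).hom)).left,
        hp ≫ (ha.rep.fst' (aT (i p) ≫ (g (i p)).hom)).left = gp := by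
    intro p
    have := hτ₁sm (i p)
    exact Groth.Agent.S0412.result _ p (hi p)
  choose S' gp s' hgpe hgps hp hhp using key
  let U' : A.left → Over S := fun p => Over.mk (gp p ≫ A.hom)
  let gO : ∀ p, U' p ⟶ A := fun p => Over.homMk (gp p) rfl
  let hO : ∀ p, U' p ⟶ ha.rep.pullback (aT (i p) ≫ (g (i p)).hom) := fun p =>
    Over.homMk (hp p) (by
      have hw := Over.w (ha.rep.fst' (aT (i p) ≫ (g (i p)).hom))
      show hp p ≫ (ha.rep.pullback (aT (i p) ≫ (g (i p)).hom)).hom = gp p ≫ A.hom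
      rw [← hw, ← Category.assoc, hhp p])
  have ehO : ∀ p, hO p ≫ ha.rep.fst' (aT (i p) ≫ (g (i p)).hom) = gO p := by
    intro p
    apply Over.OverMorphism.ext
    exact hhp p
  refine ⟨A.left, fun p => (AlgSp.ofScheme S).obj (U' p),
    fun p => ObjectProperty.homMk ((AlgSp.yon S).map (gO p) ≫ a), ⟨?_, ?_⟩, ?_⟩
  · intro p V φ hφ
    have h1 : AlgSp.RepWith @Etale ((AlgSp.yon S).map (gO p)) :=
      (AlgSp.repWith_yon_map_iff _ _).2 (hgpe p)
    exact (AlgSp.RepWith (S := S) @Etale).comp_mem _ _ hφ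
      ((AlgSp.RepWith (S := S) @Etale).comp_mem _ _ h1 ha)
  · intro x
    obtain ⟨p, hp'⟩ := Groth.Agent.Lib.Helper51.surjective_ofPt_of_repWith_surjective a has x
    refine ⟨p, AlgSp.Points.ofScheme (U' p) (s' p), ?_⟩
    show AlgSp.Points.map ((AlgSp.yon S).map (gO p) ≫ a) (AlgSp.Points.ofScheme (U' p) (s' p)) = x
    rw [← AlgSp.Points.ofPt_eq_map_ofScheme, Groth.Agent.Lib.Helper52.ofPt_yon_map_comp]
    show AlgSp.Points.ofPt a ((gp p) (s' p)) = x
    rw [hgps p, hp']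
  · intro p
    refine ⟨i p, ObjectProperty.homMk ((AlgSp.yon S).map (hO p) ≫
      (AlgSp.yon S).map (ha.rep.snd (aT (i p) ≫ (g (i p)).hom)) ≫ aT (i p)), ?_⟩
    apply ObjectProperty.hom_ext
    show ((AlgSp.yon S).map (hO p) ≫
      (AlgSp.yon S).map (ha.rep.snd (aT (i p) ≫ (g (i p)).hom)) ≫ aT (i p)) ≫ (g (i p)).hom =
      (AlgSp.yon S).map (gO p) ≫ a
    calc ((AlgSp.yon S).map (hO p) ≫
          (AlgSp.yon S).map (ha.rep.snd (aT (i p) ≫ (g (i p)).hom)) ≫ aT (i p)) ≫ (g (i p)).hom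
        = (AlgSp.yon S).map (hO p) ≫
          ((AlgSp.yon S).map (ha.rep.snd (aT (i p) ≫ (g (i p)).hom)) ≫
            (aT (i p) ≫ (g (i p)).hom)) := by simp only [Category.assoc]
      _ = (AlgSp.yon S).map (hO p) ≫
          ((AlgSp.yon S).map (ha.rep.fst' (aT (i p) ≫ (g (i p)).hom)) ≫ a) := by
          rw [(sq (i p)).w]
      _ = (AlgSp.yon S).map (gO p) ≫ a := by
          rw [← Category.assoc, ← Functor.map_comp, ehO p]

end Groth.Agent.S10509
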