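import Groth.Statements.S1051
-- import your own Groth.Agent.* helpers here

set_option autoImplicit false
universe v u
open CategoryTheory
open CohDer

namespace Groth.Agent.S1051


section Helpers

open CategoryTheory.Pretriangulated CategoryTheory.Limits

variable {D : Type u} [Category.{v} D] [Preadditive D] [Limits.HasZeroObject D] [HasShift D ℤ]
    [∀ n : ℤ, (shiftFunctor D n).Additive] [Pretriangulated D]

/-- Stage `k` of the construction of a Postnikov system. -/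
structure Stage (X : ChainComplex D ℕ) (n : ℕ) (k : ℕ) where
  Y : D
  a : Y ⟶ X.X k
  V : ∀ (i : ℕ) (m : ℤ), m = (i : ℤ) - k - 2 → k + 2 < i → i ≤ n →
    ∀ φ : (shiftFunctor D m).obj (X.X i) ⟶ Y, φ = 0
  L : k < n → ∃ b : X.X (k + 1) ⟶ Y, b ≫ a = X.d (k + 1) k
  U : k + 2 ≤ n → ∀ e : X.X (k + 2) ⟶ Y, e ≫ a = 0 → e = 0

variable (X : ChainComplex D ℕ) (n : ℕ)
    (hX : ∀ (i j : ℕ) (m : ℤ), m = (i : ℤ) - j - 2 → j + 2 < i → i ≤ n →
      ∀ φ : (shiftFunctor D m).obj (X.X i) ⟶ X.X j, φ = 0)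

include hX in
lemma step_total (k : ℕ) (S : Stage X n k) :
    ∃ (S' : Stage X n (k + 1)) (b : X.X (k + 1) ⟶ S.Y)
      (c : S.Y ⟶ (shiftFunctor D (1 : ℤ)).obj S'.Y),
      k < n → (Triangle.mk S'.a b c ∈ distinguishedTriangles ∧ b ≫ S.a = X.d (k + 1) k) := by
  by_cases h : k < n
  · obtain ⟨b, hb⟩ := S.L h
    obtain ⟨Y', a', c, hT⟩ := distinguished_cocone_triangle₁ b
    have key : ∀ {Z : D} (e : Z ⟶ Y'), e ≫ a' = 0 →
        (∀ g : (shiftFunctor D (1 : ℤ)).obj Z ⟶ S.Y, g = 0) → e = 0 := by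
      intro Z e he hg
      obtain ⟨g, hg'⟩ : ∃ g : (shiftFunctor D (1 : ℤ)).obj Z ⟶ S.Y,
          (shiftFunctor D (1 : ℤ)).map e = g ≫ c :=
        Triangle.coyoneda_exact₁ _ hT ((shiftFunctor D (1 : ℤ)).map e) (by
          show (shiftFunctor D (1 : ℤ)).map e ≫ (shiftFunctor D (1 : ℤ)).map a' = 0
          rw [← Functor.map_comp, he, Functor.map_zero])
      apply (shiftFunctor D (1 : ℤ)).map_injective
      rw [hg', hg g, zero_comp, Functor.map_zero]
    refine ⟨{ Y := Y', a := a', V := ?_, L := ?_, U := ?_ }, b, c, fun _ => ⟨hT, hb⟩⟩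
    · intro i m hm hi hin φ
      apply key φ (hX i (k + 1) m hm hi hin _)
      intro g
      have h0 := S.V i (m + 1) (by rw [hm]; push_cast; ring) (by lia) hin
        ((shiftFunctorAdd' D m 1 (m + 1) rfl).hom.app (X.X i) ≫ g)
      rw [← cancel_epi ((shiftFunctorAdd' D m 1 (m + 1) rfl).hom.app (X.X i)), h0, comp_zero]
    · intro h'
      have h0 : X.d (k + 1 + 1) (k + 1) ≫ b = 0 :=
        S.U (by lia) _ (by rw [Category.assoc, hb, X.d_comp_d])
      obtain ⟨g, hg⟩ := Triangle.coyoneda_exact₂ _ hT (X.d (k + 1 + 1) (k + 1)) h0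
      exact ⟨g, hg.symm⟩
    · intro h' e he
      apply key e he
      intro g
      exact S.V (k + 1 + 2) 1 (by push_cast; ring) (by lia) (by lia) g
  · refine ⟨⟨X.X (k + 1), 𝟙 _, ?_, ?_, ?_⟩, 0, 0, fun h' => absurd h' h⟩
    · intro i m _ hi hin
      lia
    · intro h'
      lia
    · intro h'
      lia

end Helpers

open CategoryTheory.Pretriangulated in
/-- Let X be a chain complex in a triangulated category D and n a natural number; consider the finite
complex Xₙ → Xₙ₋₁ → … → X₀. If every morphism Xᵢ[i - j - 2] ⟶ Xⱼ with j + 2 < i ≤ n vanishes, then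
there is a Postnikov system for it: objects Yₖ (k ≤ n), an isomorphism Y₀ ⟶ X₀, and for each k < n a
distinguished triangle Yₖ₊₁ ⟶ Xₖ₊₁ ⟶ Yₖ ⟶ Yₖ₊₁[1] such that Xₖ₊₁ ⟶ Yₖ ⟶ Xₖ is the differential of X. -/
theorem result {D : Type u} [Category.{v} D] [Preadditive D] [Limits.HasZeroObject D] [HasShift D ℤ]
    [∀ n : ℤ, (shiftFunctor D n).Additive] [Pretriangulated D] [IsTriangulated D]
    (X : ChainComplex D ℕ) (n : ℕ)
    (hX : ∀ i j : ℕ, j + 2 < i → i ≤ n → ∀ φ : (shiftFunctor D ((i : ℤ) - j - 2)).obj (X.X i) ⟶ X.X j, φ = 0) :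
    ∃ (Y : ℕ → D) (a : ∀ k, Y k ⟶ X.X k) (b : ∀ k, X.X (k + 1) ⟶ Y k) (c : ∀ k, Y k ⟶ (shiftFunctor D (1 : ℤ)).obj (Y (k + 1))),
      IsIso (a 0) ∧ ∀ k, k < n → Triangle.mk (a (k + 1)) (b k) (c k) ∈ distinguishedTriangles ∧ b k ≫ a k = X.d (k + 1) k := by
  have hX' : ∀ (i j : ℕ) (m : ℤ), m = (i : ℤ) - j - 2 → j + 2 < i → i ≤ n →
      ∀ φ : (shiftFunctor D m).obj (X.X i) ⟶ X.X j, φ = 0 := by
    rintro i j m rfl hi hin φ
    exact hX i j hi hin φ
  let stage0 : Stage X n 0 :=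
    { Y := X.X 0
      a := 𝟙 _
      V := fun i m hm hi hin φ => by
        have := hX' i 0 m hm hi hin (φ ≫ 𝟙 _)
        rwa [Category.comp_id] at this
      L := fun _ => ⟨X.d (0 + 1) 0, Category.comp_id _⟩
      U := fun _ e he => by rwa [Category.comp_id] at he }
  let f : ∀ k, Stage X n k := fun k =>
    Nat.rec stage0 (fun k S => (step_total X n hX' k S).choose) k
  have hf : ∀ k, ∃ (b : X.X (k + 1) ⟶ (f k).Y)
      (c : (f k).Y ⟶ (shiftFunctor D (1 : ℤ)).obj (f (k + 1)).Y),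
      k < n → (Triangle.mk (f (k + 1)).a b c ∈ distinguishedTriangles ∧
        b ≫ (f k).a = X.d (k + 1) k) := fun k =>
    (step_total X n hX' k (f k)).choose_spec
  choose b c hbc using hf
  refine ⟨fun k => (f k).Y, fun k => (f k).a, b, c, ?_, hbc⟩
  show IsIso (𝟙 (X.X 0))
  infer_instance

end Groth.Agent.S1051
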