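import Groth.Statements.S1052
import Groth.Agent.Lib.Helper32.K0Der
import Groth.Agent.Lib.QCoh.CohKernel
import Groth.Agent.Lib.QCoh.Helper74_IsoLocus

set_option autoImplicit false
universe u
open CategoryTheory CategoryTheory.Limits AlgebraicGeometry
attribute [local instance] HasDerivedCategory.standard
open KZero

namespace Groth.Agent.S1052

/-- the object property "coherent" -/
abbrev PCoh (X : Scheme.{u}) : ObjectProperty X.Modules := fun M : X.Modules => Coh.IsCoh M

instance cohClosedIso (X : Scheme.{u}) : (PCoh X).IsClosedUnderIsomorphisms where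
  of_iso e h := Groth.Agent.Lib.QCoh.isCoh_of_iso e h

instance cohContainsZero (X : Scheme.{u}) : (PCoh X).ContainsZero where
  exists_zero := ⟨cokernel (𝟙 (Coh.structureModule X)), isZero_cokernel_of_epi _,
    Groth.Agent.Lib.QCoh.isCoh_cokernel
      (Groth.Agent.Lib.QCoh.IsoLocus74.isCoh_structureModule X)
      (Groth.Agent.Lib.QCoh.IsoLocus74.isCoh_structureModule X) _⟩

instance cohClosedKernels (X : Scheme.{u}) [IsLocallyNoetherian X] :
    (PCoh X).IsClosedUnderKernels where
  kernels_le := by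
    rintro _ ⟨f, k, hk, hf⟩
    exact Groth.Agent.Lib.QCoh.isCoh_of_iso
      ((kernelIsKernel f).conePointUniqueUpToIso hk)
      (Groth.Agent.Lib.QCoh.isCoh_kernel hf.1 hf.2 f)

theorem result (X : Scheme.{u}) [IsNoetherian X] :
    ∃ φ : KZero.K0sub (fun M : X.Modules => Coh.IsCoh M) ≃+
        KZero.K0tr (fun K : DCoh.D X => DCoh.IsCohD K ∧ ∃ a b : ℤ, K.IsGE a ∧ K.IsLE b),
      ∀ F : X.Modules, Coh.IsCoh F →
        φ (KZero.clSub (fun M : X.Modules => Coh.IsCoh M) F) =
          KZero.clTr (fun K : DCoh.D X => DCoh.IsCohD K ∧ ∃ a b : ℤ, K.IsGE a ∧ K.IsLE b) (DCoh.inD X F) := by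
  exact Groth.Agent.Lib.Helper32.K0Der.main_sub (PCoh X)
    (fun K : DCoh.D X => DCoh.IsCohD K ∧ ∃ a b : ℤ, K.IsGE a ∧ K.IsLE b) (fun K => Iff.rfl)

end Groth.Agent.S1052
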