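import Groth.Statements.S1053
import Mathlib.Algebra.Homology.DerivedCategory.KProjective
-- import your own Groth.Agent.* helpers here

set_option autoImplicit false
universe w v u
open CategoryTheory CategoryTheory.Limits
open CohDer

namespace Groth.Agent.S1053

/-- a chain map from a complex concentrated in degrees `≥ n` to one concentrated in degrees `≤ n-1`
vanishes -/
lemma hom_eq_zero_of_strictly {A : Type u} [Category.{v} A] [Abelian A]
    (P L : CochainComplex A ℤ) (n m : ℤ) (hmn : m < n) [P.IsStrictlyGE n] [L.IsStrictlyLE m]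
    (ψ : P ⟶ L) : ψ = 0 := by
  ext i
  by_cases hi : i < n
  · exact (P.isZero_of_isStrictlyGE n i hi).eq_of_src _ _
  · exact (L.isZero_of_isStrictlyLE m i (by omega)).eq_of_tgt _ _

/-- Let P and K be cochain complexes in an abelian category with P bounded, consisting of projective
objects and zero in degrees below n, and with Hⁱ(K) = 0 for all i ≥ n. Then every morphism P ⟶ K in
the homotopy category and every morphism P ⟶ K in the derived category is zero. -/
theorem result {A : Type u} [Category.{v} A] [Abelian A] [HasDerivedCategory.{w} A]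
    (P K : CochainComplex A ℤ) (n b : ℤ) [P.IsStrictlyGE n] [P.IsStrictlyLE b] (hP : ∀ i : ℤ, Projective (P.X i))
    (hK : ∀ i : ℤ, n ≤ i → IsZero (K.homology i)) :
    (∀ φ : (HomotopyCategory.quotient A (ComplexShape.up ℤ)).obj P ⟶ (HomotopyCategory.quotient A (ComplexShape.up ℤ)).obj K, φ = 0) ∧
    (∀ φ : DerivedCategory.Q.obj P ⟶ DerivedCategory.Q.obj K, φ = 0) := by
  have hKP : P.IsKProjective := CochainComplex.isKProjective_of_projective P b
  have hKle : K.IsLE (n - 1) := by
    rw [CochainComplex.isLE_iff]
    intro i hi
    rw [HomologicalComplex.exactAt_iff_isZero_homology]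
    exact hK i (by omega)
  -- first: morphisms in the homotopy category vanish after applying Qh
  have key : ∀ φ : (HomotopyCategory.quotient A (ComplexShape.up ℤ)).obj P ⟶
      (HomotopyCategory.quotient A (ComplexShape.up ℤ)).obj K, φ = 0 := by
    intro φ
    apply (CochainComplex.IsKProjective.Qh_map_bijective P _).injective
    rw [Functor.map_zero]
    -- the truncation `K.truncLE (n-1) ⟶ K` is a quasi-isomorphism
    let ι := K.ιTruncLE (n - 1)
    have hι : IsIso (DerivedCategory.Qh.map ((HomotopyCategory.quotient A (ComplexShape.up ℤ)).map ι)) := by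
      have : IsIso (DerivedCategory.Q.map ι) := inferInstance
      exact ((MorphismProperty.isomorphisms _).arrow_mk_iso_iff
        (Arrow.isoMk ((DerivedCategory.quotientCompQhIso A).app _)
          ((DerivedCategory.quotientCompQhIso A).app _)
          ((DerivedCategory.quotientCompQhIso A).hom.naturality ι).symm)).mpr this
    obtain ⟨ψ', hψ'⟩ := (CochainComplex.IsKProjective.Qh_map_bijective P _).surjective
      (DerivedCategory.Qh.map φ ≫ inv (DerivedCategory.Qh.map ((HomotopyCategory.quotient A (ComplexShape.up ℤ)).map ι)))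
    obtain ⟨ψ, rfl⟩ := (HomotopyCategory.quotient A (ComplexShape.up ℤ)).map_surjective ψ'
    have hψ : ψ = 0 := hom_eq_zero_of_strictly P (K.truncLE (n - 1)) n (n - 1) (by omega) ψ
    rw [hψ, Functor.map_zero, Functor.map_zero] at hψ'
    have := congrArg (· ≫ DerivedCategory.Qh.map ((HomotopyCategory.quotient A (ComplexShape.up ℤ)).map ι)) hψ'
    simpa using this.symm
  refine ⟨key, ?_⟩
  intro φ
  -- transport along `quotient ⋙ Qh ≅ Q`
  let e := DerivedCategory.quotientCompQhIso A
  have h1 : e.hom.app P ≫ φ ≫ e.inv.app K = 0 := by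
    obtain ⟨ψ', hψ'⟩ := (CochainComplex.IsKProjective.Qh_map_bijective P _).surjective
      (e.hom.app P ≫ φ ≫ e.inv.app K)
    rw [← hψ', key ψ', Functor.map_zero]
  have h2 := congrArg (fun x => e.inv.app P ≫ x ≫ e.hom.app K) h1
  simpa using h2

end Groth.Agent.S1053
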