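import Groth.Statements.S10534
import Groth.Agent.S10614
import Groth.Agent.S10521
import Groth.Agent.S10526
import Groth.Agent.S10546

set_option autoImplicit false
universe u
open CategoryTheory CategoryTheory.Limits AlgebraicGeometry
open AlgSp

namespace Groth.Agent.S10534

/-- The property of morphisms of algebraic spaces over S given by f is a closed immersion (representable
by closed immersions of schemes) is fpqc local on the base: for an fpqc covering of an algebraic
space Y by algebraic spaces Y_i, a morphism f : X ⟶ Y of algebraic spaces and cartesian squares X_i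
= Y_i ×_Y X, f has the property if and only if every X_i ⟶ Y_i has it. -/
theorem result (S : Scheme.{u}) :
    AlgSp.IsLocalOnBase (AlgSp.IsFpqcCover (S := S)) (AlgSp.RepWith @IsClosedImmersion) := by
  intro ι Y Yi g hY hYi hcov X f hX Xi p q hXi sq
  have h1 := Groth.Agent.S10521.result S Yi g hY hYi hcov f hX Xi p q hXi sq
  have h2 := Groth.Agent.S10526.result S Yi g hY hYi hcov f hX Xi p q hXi sq
  have h3 := Groth.Agent.S10546.result S Yi g hY hYi hcov f hX Xi p q hXi sq
  have e0 := (Groth.Agent.S10614.result (X := ⟨X, hX⟩) (Y := ⟨Y, hY⟩) (ObjectProperty.homMk f)).2.2.1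
  have ei : ∀ i, _ := fun i => (Groth.Agent.S10614.result (X := ⟨Xi i, hXi i⟩) (Y := ⟨Yi i, hYi i⟩)
    (ObjectProperty.homMk (p i))).2.2.1
  constructor
  · intro hf i
    obtain ⟨ha, hb, hc⟩ := e0.1 hf
    exact (ei i).2 ⟨h1.1 ha i, h2.1 hb i, h3.1 hc i⟩
  · intro hp
    refine e0.2 ⟨h1.2 fun i => ((ei i).1 (hp i)).1, h2.2 fun i => ((ei i).1 (hp i)).2.1,
      h3.2 fun i => ((ei i).1 (hp i)).2.2⟩

end Groth.Agent.S10534
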