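import Groth.Statements.S10545
import Groth.Agent.Lib.Helper78.AlgSpLqfDesc
import Groth.Agent.S10540
import Groth.Agent.S10530
import Groth.Agent.S10527
import Groth.Agent.S10294
-- import your own Groth.Agent.* helpers here

set_option autoImplicit false
universe u
open CategoryTheory CategoryTheory.Limits AlgebraicGeometry
open AlgSp

namespace Groth.Agent.S10545


/-- The property of morphisms of algebraic spaces over S given by f is finite locally free
(representable by finite, flat, locally finitely presented morphisms of schemes) is fpqc local on
the base: for an fpqc covering of an algebraic space Y by algebraic spaces Y_i, a morphism f : X ⟶ Y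
of algebraic spaces and cartesian squares X_i = Y_i ×_Y X, f has the property if and only if every
X_i ⟶ Y_i has it. -/
theorem result (S : Scheme.{u}) :
    AlgSp.IsLocalOnBase (AlgSp.IsFpqcCover (S := S)) AlgSp.IsFinLocFreeMor := by
  have hand := Groth.Agent.Lib.Helper78.AlgSpLqfDesc.isLocalOnBase_and
    (Groth.Agent.S10540.result S) (Groth.Agent.Lib.Helper78.AlgSpLqfDesc.isLocalOnBase_and
      (Groth.Agent.S10530.result S) (Groth.Agent.S10527.result S))
  intro ι Y Yi g hY hYi hcov X f hX Xi p q hXi sq
  rw [Groth.Agent.S10294.finLocFree_iff hX hY f]
  refine Iff.trans (hand Yi g hY hYi hcov f hX Xi p q hXi sq) ?_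
  exact forall_congr' fun i => (Groth.Agent.S10294.finLocFree_iff (hXi i) (hYi i) (p i)).symm

end Groth.Agent.S10545
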