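import Groth.Statements.S10547
import Groth.Agent.S10505
import Groth.Agent.Lib.Helper30.AlgSpFppfDesc
import Groth.Agent.Lib.Helper30.AlgSpCoprod5
import Groth.Agent.Lib.Helper30.AlgSpFpqc2
-- import your own Groth.Agent.* helpers here

set_option autoImplicit false
universe u
open CategoryTheory CategoryTheory.Limits AlgebraicGeometry
open AlgSp

namespace Groth.Agent.S10547

open Groth.Agent.Lib.Helper30 Groth.Agent.Lib.Helper51 Groth.Agent.Lib.Helper52
open Groth.Agent.Lib.Helper30.AffDesc Groth.Agent.Lib.Helper30.Coprod

set_option backward.isDefEq.respectTransparency false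
set_option maxHeartbeats 800000


/-- The property of morphisms of algebraic spaces over S given by immersions (representable by
immersions of schemes) is fppf local on the base: for an fppf covering of an algebraic space Y by
algebraic spaces Y_i (each Y_i ⟶ Y flat and locally of finite presentation, jointly surjective on
points), a morphism f : X ⟶ Y of algebraic spaces and cartesian squares X_i = Y_i ×_Y X, f is an
immersion if and only if every X_i ⟶ Y_i is. -/
theorem result (S : Scheme.{u}) :
    AlgSp.IsLocalOnBase (AlgSp.IsFppfCover (S := S)) (AlgSp.RepWith @IsImmersion) := by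
  intro ι Y Yi g hY hYi hcov X f hX Xi p q hXi sq
  constructor
  · intro hf i
    exact MorphismProperty.of_isPullback (sq i) hf
  · intro hp
    refine repWith_of_forall_exists @IsImmersion ?_
    intro T t
    choose U u l hl hufl hufp hsurj using fun i =>
      Groth.Agent.S10505.exists_fppf_chart_of_base_change (hYi i) hY (g i) (hcov.1 i).1
        (hcov.1 i).2 T t
    let v : sigmaOver U ⟶ T := Over.homMk (Sigma.desc (fun i => (u i).left)) (by
      apply Sigma.hom_ext
      intro i
      simp [sigmaOver])
    have hv : ∀ i, sigmaOverι U i ≫ v = u i := fun i => by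
      apply Over.OverMorphism.ext
      simp [v, sigmaOverι]
    have hflat : Flat v.left :=
      IsZariskiLocalAtSource.sigmaDesc (P := @Flat) hufl
    have hlfp : LocallyOfFinitePresentation v.left :=
      IsZariskiLocalAtSource.sigmaDesc (P := @LocallyOfFinitePresentation) hufp
    have hsurjv : Surjective v.left := by
      refine ⟨fun z => ?_⟩
      obtain ⟨i, hi⟩ := hcov.2 (Points.ofPt t z)
      obtain ⟨x, hx⟩ := hsurj i z hi
      refine ⟨(sigmaOverι U i).left x, ?_⟩
      have h1 : (sigmaOverι U i).left ≫ v.left = (u i).left :=
        congrArg CommaMorphism.left (hv i)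
      rw [← Scheme.Hom.comp_apply, h1]
      exact hx
    have key : AlgSp.RepWith @IsImmersion (pullback.snd f t) := by
      refine repWith_isImmersion_of_fppf_cover (pullback.snd f t) (sigmaOver U)
        ((AlgSp.yon S).map v) ((AlgSp.repWith_yon_map_iff _ _).2 hflat)
        ((AlgSp.repWith_yon_map_iff _ _).2 hlfp) ((AlgSp.repWith_yon_map_iff _ _).2 hsurjv)
        (pullback.fst _ _) (pullback.snd _ _) (IsPullback.of_hasPullback _ _) ?_
      have sqB : IsPullback
          (pullback.fst (pullback.snd f t) ((AlgSp.yon S).map v) ≫ pullback.fst f t)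
          (pullback.snd (pullback.snd f t) ((AlgSp.yon S).map v)) f
          ((AlgSp.yon S).map v ≫ t) :=
        (IsPullback.of_hasPullback (pullback.snd f t) ((AlgSp.yon S).map v)).paste_horiz
          (IsPullback.of_hasPullback f t)
      refine Groth.Agent.Lib.Helper30.Coprod.repWith_of_cofan @IsImmersion (yonCofan U)
        (yonCofan_isColimit U).some _
        (fun i => pullback (pullback.snd (pullback.snd f t) ((AlgSp.yon S).map v))
          ((AlgSp.yon S).map (sigmaOverι U i)))
        (fun i => pullback.snd _ _) (fun i => pullback.fst _ _)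
        (fun i => (IsPullback.of_hasPullback _ _).flip) (fun i => ?_)
      have hli : l i ≫ g i = (AlgSp.yon S).map (sigmaOverι U i) ≫ (AlgSp.yon S).map v ≫ t := by
        rw [hl i, ← Category.assoc, ← Functor.map_comp, hv i]
      obtain ⟨k, -, sqk⟩ := isPullback_lift_cover (sq i) sqB hli
        (IsPullback.of_hasPullback (pullback.snd (pullback.snd f t) ((AlgSp.yon S).map v))
          ((AlgSp.yon S).map (sigmaOverι U i)))
      exact MorphismProperty.of_isPullback sqk (hp i)
    obtain ⟨W, w, fstW, sqW⟩ := key.1 (𝟙 _)
    have hw : IsImmersion w.left := key.2 (𝟙 _) fstW w sqW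
    refine ⟨W, w, fstW ≫ pullback.fst f t, ?_, hw⟩
    have h2 := sqW.paste_horiz (IsPullback.of_hasPullback f t)
    rw [Category.id_comp] at h2
    exact h2

end Groth.Agent.S10547
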