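import Groth.Statements.S10551
import Groth.Agent.Lib.Helper30.AlgSpFpqc2
import Groth.Agent.Lib.Helper30.AlgSpLoc
-- import your own Groth.Agent.* helpers here

set_option autoImplicit false
universe u
open CategoryTheory CategoryTheory.Limits AlgebraicGeometry
open AlgSp

namespace Groth.Agent.S10551

open Groth.Agent.Lib.Helper30 Groth.Agent.Lib.Helper51 Groth.Agent.Lib.Helper52

set_option backward.isDefEq.respectTransparency false

theorem isOpenMap_of_isUnivOpenMor {S : Scheme.{u}} {X Y : AlgSp.Sp S} (hY : AlgSp.IsAlgSpace Y)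
    {f : X ⟶ Y} (hf : AlgSp.IsUnivOpenMor f) : IsOpenMap (Points.map f) :=
  hf hY (𝟙 Y) (𝟙 X) f IsPullback.of_id_fst

theorem isOpenMap_of_jointly_surjective {S : Scheme.{u}} {ι : Type u} {X Y : AlgSp.Sp S}
    (Xi : ι → AlgSp.Sp S) (g : ∀ i, Xi i ⟶ X)
    (hs : ∀ x : Points X, ∃ i, x ∈ Set.range (Points.map (g i))) (f : X ⟶ Y)
    (H : ∀ i, IsOpenMap (Points.map (g i ≫ f))) : IsOpenMap (Points.map f) := by
  intro U hU
  have e : Points.map f '' U = ⋃ i, Points.map (g i ≫ f) '' (Points.map (g i) ⁻¹' U) := by
    ext y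
    simp only [Set.mem_image, Set.mem_iUnion, Set.mem_preimage]
    constructor
    · rintro ⟨x, hx, rfl⟩
      obtain ⟨i, w, rfl⟩ := hs x
      exact ⟨i, w, hx, Points.map_comp _ _ _⟩
    · rintro ⟨i, w, hw, rfl⟩
      exact ⟨_, hw, (Points.map_comp _ _ _).symm⟩
  rw [e]
  exact isOpen_iUnion fun i => H i _ (hU.preimage (Points.continuous_map (g i)))


/-- The property of morphisms of algebraic spaces over S given by f is open (the induced map on spaces
of points is open) is fppf local on the source: for a morphism f : X ⟶ Y of algebraic spaces and a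
fppf covering of X by algebraic spaces X_i, f has the property if and only if every composite X_i ⟶
X ⟶ Y has it. -/
theorem result (S : Scheme.{u}) :
    AlgSp.IsLocalOnSource (AlgSp.IsFppfCover (S := S)) AlgSp.IsOpenMor := by
  intro ι X Xi g hX hXi hcov Y f hY
  constructor
  · intro hf i
    have hgi : IsOpenMap (Points.map (g i)) :=
      isOpenMap_of_isUnivOpenMor hX
        (isUnivOpenMor_of_locP_flat_lfp (hXi i) hX (g i) (hcov.1 i).1 (hcov.1 i).2)
    show IsOpenMap (Points.map (g i ≫ f))
    have : Points.map (g i ≫ f) = Points.map f ∘ Points.map (g i) :=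
      funext (Points.map_comp (g i) f)
    rw [this]
    exact IsOpenMap.comp hf hgi
  · intro H
    exact isOpenMap_of_jointly_surjective Xi g hcov.2 f H

end Groth.Agent.S10551
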