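import Groth.Statements.S10552
import Groth.Agent.S10551
-- import your own Groth.Agent.* helpers here

set_option autoImplicit false
universe u
open CategoryTheory CategoryTheory.Limits AlgebraicGeometry
open AlgSp

namespace Groth.Agent.S10552

open Groth.Agent.Lib.Helper30 Groth.Agent.Lib.Helper51 Groth.Agent.Lib.Helper52

set_option backward.isDefEq.respectTransparency false


/-- The property of morphisms of algebraic spaces over S given by f is universally open (every base
change along a morphism from an algebraic space is open on points) is fppf local on the source: for
a morphism f : X ⟶ Y of algebraic spaces and a fppf covering of X by algebraic spaces X_i, f has the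
property if and only if every composite X_i ⟶ X ⟶ Y has it. -/
theorem result (S : Scheme.{u}) :
    AlgSp.IsLocalOnSource (AlgSp.IsFppfCover (S := S)) AlgSp.IsUnivOpenMor := by
  intro ι X Xi g hX hXi hcov Y f hY
  constructor
  · intro hf i
    exact isUnivOpenMor_comp hX hY
      (isUnivOpenMor_of_locP_flat_lfp (hXi i) hX (g i) (hcov.1 i).1 (hcov.1 i).2) hf
  · intro H Z Z' hZ g' fst snd sq'
    refine Groth.Agent.S10551.isOpenMap_of_jointly_surjective
      (fun i => pullback (g i) fst) (fun i => pullback.snd (g i) fst) ?_ snd ?_
    · intro x
      obtain ⟨i, w, hw⟩ := hcov.2 (Points.map fst x)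
      obtain ⟨y, _, hy⟩ := exists_point_of_isPullback (IsPullback.of_hasPullback (g i) fst) w x hw
      exact ⟨i, y, hy⟩
    · intro i
      have big := ((IsPullback.of_hasPullback (g i) fst).flip.paste_horiz sq'.flip).flip
      exact H i hZ g' _ _ big

end Groth.Agent.S10552
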