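import Groth.Statements.S10559
import Groth.Agent.S10553
import Groth.Agent.S10554

set_option autoImplicit false
universe u
open CategoryTheory CategoryTheory.Limits AlgebraicGeometry
open AlgSp

namespace Groth.Agent.S10559

/-- Let f : X ⟶ Y and q : Y ⟶ B be morphisms of algebraic spaces over S. If f is surjective and smooth
and f ≫ q is smooth, then q is smooth; if f is surjective and etale and f ≫ q is etale, then q is
etale. (The syntomic case of the published statement is not included.) -/
theorem result {S : Scheme.{u}} {X Y B : AlgSp.Space S} (f : X ⟶ Y) (q : Y ⟶ B)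
    (hs : AlgSp.IsSurjectiveMor f.hom) :
    (AlgSp.LocP @Smooth f.hom → AlgSp.LocP @Smooth (f ≫ q).hom → AlgSp.LocP @Smooth q.hom) ∧
    (AlgSp.IsEtaleMor f.hom → AlgSp.IsEtaleMor (f ≫ q).hom → AlgSp.IsEtaleMor q.hom) := by
  refine ⟨fun hsm h => ?_, fun het h => ?_⟩
  · have hcov : AlgSp.IsSmCover (S := S) (ι := PUnit.{u + 1}) (X := Y.obj) (fun _ => X.obj)
        (fun _ => f.hom) := ⟨fun _ => hsm, fun x => ⟨PUnit.unit, hs x⟩⟩
    exact (Groth.Agent.S10553.result S (ι := PUnit.{u + 1}) (X := Y.obj) (fun _ => X.obj)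
      (fun _ => f.hom) Y.property (fun _ => X.property) hcov q.hom B.property).2 (fun _ => h)
  · have hcov : AlgSp.IsEtCover (S := S) (ι := PUnit.{u + 1}) (X := Y.obj) (fun _ => X.obj)
        (fun _ => f.hom) := ⟨fun _ => het, fun x => ⟨PUnit.unit, hs x⟩⟩
    exact (Groth.Agent.S10554.result S (ι := PUnit.{u + 1}) (X := Y.obj) (fun _ => X.obj)
      (fun _ => f.hom) Y.property (fun _ => X.property) hcov q.hom B.property).2 (fun _ => h)

end Groth.Agent.S10559
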