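import Groth.Statements.S10560
import Groth.Agent.Lib.Helper98.AlgSpSrcDesc
import Groth.Agent.Lib.Helper78.AlgSpMisc
import Groth.Agent.S0114
import Groth.Agent.S0115
import Groth.Agent.S2806

set_option autoImplicit false
universe u
open CategoryTheory CategoryTheory.Limits AlgebraicGeometry
open AlgSp

namespace Groth.Agent.S10560

/-- Étaleness descends along fppf coverings of the source (étale analogue of S0115, via helper35's
S2806 and S0114). -/
theorem etale_of_fppf_comp {X Y S : Scheme.{u}} (f : X ⟶ Y) (q : Y ⟶ S) [Surjective f] [Flat f]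
    [LocallyOfFinitePresentation f] [Etale (f ≫ q)] : Etale q := by
  have hfq : LocallyOfFinitePresentation (f ≫ q) := inferInstance
  have hq : LocallyOfFinitePresentation q := Groth.Agent.S0114.result f q
  have key : ∀ y : Y, ∃ V : Y.Opens, y ∈ V ∧ Etale (V.ι ≫ q) := by
    intro y
    obtain ⟨x, rfl⟩ := f.surjective y
    exact Groth.Agent.S2806.result q (f ≫ q) f rfl x (Flat.stalkMap f x)
      ⟨⊤, trivial, inferInstance⟩
  choose V hyV hV using key
  refine IsZariskiLocalAtSource.of_iSup_eq_top (P := @Etale) V ?_ hV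
  rw [eq_top_iff]
  intro y _
  exact TopologicalSpace.Opens.mem_iSup.mpr ⟨y, hyV y⟩

/-- Let f : X ⟶ Y and q : Y ⟶ B be morphisms of algebraic spaces over S with f surjective, flat and
locally of finite presentation. If f ≫ q is smooth then q is smooth; if f ≫ q is etale then q is
etale. -/
theorem result {S : Scheme.{u}} {X Y B : AlgSp.Space S} (f : X ⟶ Y) (q : Y ⟶ B)
    (hs : AlgSp.IsSurjectiveMor f.hom) (hfl : AlgSp.LocP @Flat f.hom)
    (hfp : AlgSp.LocP @LocallyOfFinitePresentation f.hom) :
    (AlgSp.LocP @Smooth (f ≫ q).hom → AlgSp.LocP @Smooth q.hom) ∧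
    (AlgSp.IsEtaleMor (f ≫ q).hom → AlgSp.IsEtaleMor q.hom) := by
  have hQ : ∀ _ : PUnit.{u + 1}, AlgSp.LocP (@Flat ⊓ @LocallyOfFinitePresentation) f.hom :=
    fun _ U V a b h ha hb comm => ⟨hfl a b h ha hb comm, hfp a b h ha hb comm⟩
  have hsurj : ∀ x : AlgSp.Points Y.obj, ∃ _ : PUnit.{u + 1},
      x ∈ Set.range (AlgSp.Points.map f.hom) := fun x => ⟨PUnit.unit, hs x⟩
  refine ⟨fun h => ?_, fun h => ?_⟩
  · refine Groth.Agent.Lib.Helper98.AlgSpSrcDesc.locP_of_cover
      (P := @Smooth) (Q := @Flat ⊓ @LocallyOfFinitePresentation) ?_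
      (fun _ : PUnit.{u + 1} => X.obj) (fun _ => f.hom) (fun _ => X.property) hQ hsurj q.hom
      (fun _ => h)
    intro A B' C e h' he hs' H'
    have : Flat e := he.1
    have : LocallyOfFinitePresentation e := he.2
    have : Surjective e := hs'
    have : Smooth (e ≫ h') := H'
    exact Groth.Agent.S0115.result e h'
  · rw [Groth.Agent.Lib.Helper78.AlgSpMisc.isEtaleMor_iff_locP B.property] at h ⊢
    refine Groth.Agent.Lib.Helper98.AlgSpSrcDesc.locP_of_cover
      (P := @Etale) (Q := @Flat ⊓ @LocallyOfFinitePresentation) ?_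
      (fun _ : PUnit.{u + 1} => X.obj) (fun _ => f.hom) (fun _ => X.property) hQ hsurj q.hom
      (fun _ => h)
    intro A B' C e h' he hs' H'
    have : Flat e := he.1
    have : LocallyOfFinitePresentation e := he.2
    have : Surjective e := hs'
    have : Etale (e ≫ h') := H'
    exact etale_of_fppf_comp e h'

end Groth.Agent.S10560
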