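import Groth.Statements.S2470
import Groth.Agent.Lib.Helper29.RegHom
import Groth.Agent.S11564

set_option autoImplicit false
universe u
open EGA41

namespace Groth.Agent.S2470


open IsLocalRing Groth.Agent.Lib.Helper29 in
theorem exists_nat_dim (R : Type u) [CommRing R] [IsLocalRing R] [IsNoetherianRing R] :
    ∃ n : ℕ, ringKrullDim R = (n : WithBot ℕ∞) := by
  obtain ⟨n, hn⟩ := CMLib.exists_nat_supportDim R R
  exact ⟨n, by rw [← Module.supportDim_self_eq_ringKrullDim]; exact hn⟩

open IsLocalRing in
theorem dim_le_edim (R : Type u) [CommRing R] [IsLocalRing R] [IsNoetherianRing R] {n : ℕ}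
    (hn : ringKrullDim R = (n : WithBot ℕ∞)) :
    n ≤ Module.finrank (ResidueField R) (CotangentSpace R) := by
  have h := ringKrullDim_le_spanFinrank_maximalIdeal R
  rw [hn, spanFinrank_maximalIdeal_eq_finrank_cotangentSpace] at h
  exact_mod_cast h

open IsLocalRing in
theorem regular_iff_nat (R : Type u) [CommRing R] [IsLocalRing R] [IsNoetherianRing R] {n : ℕ}
    (hn : ringKrullDim R = (n : WithBot ℕ∞)) :
    IsRegularLocalRing R ↔ Module.finrank (ResidueField R) (CotangentSpace R) = n := by
  rw [IsRegularLocalRing.iff_finrank_cotangentSpace, hn]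
  constructor
  · intro h
    exact_mod_cast h
  · intro h
    exact_mod_cast h

open IsLocalRing in
/-- Let A → B be a local homomorphism of Noetherian local rings with maximal ideals 𝔪, 𝔫 and residue
fields k, k', and let B₀ = B/𝔪B be the closed fibre. The following are equivalent: (a) B is regular
and the canonical map (𝔪/𝔪²) ⊗_k k' → 𝔫/𝔫² is injective — stated here through dimensions, as
rank_{k'} 𝔫/𝔫² = rank_k 𝔪/𝔪² + rank_{k'} of the cotangent space of B₀, which is equivalent since the
cokernel of that map is the cotangent space of B₀; (c) B and B₀ are regular and B is flat over A;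
(d) A and B₀ are regular and B is flat over A; (e) A and B₀ are regular and dim B = dim A + dim B₀.
(Condition (b) of the source, on regular systems of parameters, is not stated.) -/
theorem result {A B : Type u} [CommRing A] [IsLocalRing A] [IsNoetherianRing A] [CommRing B] [IsLocalRing B] [IsNoetherianRing B]
    [Algebra A B] [IsLocalHom (algebraMap A B)] [IsLocalRing (B ⧸ (maximalIdeal A).map (algebraMap A B))] :
    [IsRegularLocalRing B ∧
       Module.finrank (ResidueField B) (CotangentSpace B) =
         Module.finrank (ResidueField A) (CotangentSpace A) +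
           Module.finrank (ResidueField (B ⧸ (maximalIdeal A).map (algebraMap A B))) (CotangentSpace (B ⧸ (maximalIdeal A).map (algebraMap A B))),
     IsRegularLocalRing B ∧ IsRegularLocalRing (B ⧸ (maximalIdeal A).map (algebraMap A B)) ∧ Module.Flat A B,
     IsRegularLocalRing A ∧ IsRegularLocalRing (B ⧸ (maximalIdeal A).map (algebraMap A B)) ∧ Module.Flat A B,
     IsRegularLocalRing A ∧ IsRegularLocalRing (B ⧸ (maximalIdeal A).map (algebraMap A B)) ∧
       ringKrullDim B = ringKrullDim A + ringKrullDim (B ⧸ (maximalIdeal A).map (algebraMap A B))].TFAE := by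
  obtain ⟨dA, hdA⟩ := exists_nat_dim A
  obtain ⟨dB, hdB⟩ := exists_nat_dim B
  obtain ⟨dF, hdF⟩ := exists_nat_dim (B ⧸ (maximalIdeal A).map (algebraMap A B))
  have hle := Groth.Agent.Lib.Helper29.RegHom.ringKrullDim_le_add A B
  rw [hdA, hdB, hdF] at hle
  have hle' : dB ≤ dA + dF := by exact_mod_cast hle
  have h1 := dim_le_edim A hdA
  have h2 := dim_le_edim B hdB
  have h3 := dim_le_edim _ hdF
  have hedim := Groth.Agent.Lib.Helper29.RegHom.finrank_cotangentSpace_le_add A B
  have rA := regular_iff_nat A hdA
  have rB := regular_iff_nat B hdB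
  have rF := regular_iff_nat _ hdF
  have hdimeq : ringKrullDim B = ringKrullDim A +
      ringKrullDim (B ⧸ (maximalIdeal A).map (algebraMap A B)) ↔ dB = dA + dF := by
    rw [hdA, hdB, hdF]
    constructor
    · intro h
      exact_mod_cast h
    · intro h
      exact_mod_cast h
  tfae_have 1 → 4 := by
    rintro ⟨hB, he⟩
    rw [rB] at hB
    rw [rA, rF, hdimeq]
    omega
  tfae_have 4 → 3 := by
    rintro ⟨hA, hF, hd⟩
    refine ⟨hA, hF, ?_⟩
    have hB : IsRegularLocalRing B := by
      rw [rB]
      rw [rA] at hA
      rw [rF] at hF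
      rw [hdimeq] at hd
      omega
    exact Groth.Agent.Lib.Helper29.RegHom.flat_of_regular_of_isCM A B
      (Groth.Agent.S5671.isCM_of_regular B) hd
  tfae_have 3 → 2 := by
    rintro ⟨hA, hF, hflat⟩
    refine ⟨?_, hF, hflat⟩
    have e := Groth.Agent.S11564.result A B
    have hd := Groth.Agent.Lib.Helper29.RegHom.ringKrullDim_eq_add A B
    rw [hdimeq] at hd
    rw [rB]
    rw [rA] at hA
    rw [rF] at hF
    omega
  tfae_have 2 → 1 := by
    rintro ⟨hB, hF, hflat⟩
    refine ⟨hB, ?_⟩
    rw [Groth.Agent.S11564.result A B, add_comm]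
  tfae_finish

end Groth.Agent.S2470
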