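import Groth.Statements.S10563
import Mathlib
import Groth.Agent.S0116
import Groth.Agent.S0565
import Groth.Agent.S2470
import Groth.Agent.Lib.Helper78.AlgSpReduced

set_option autoImplicit false
universe u
open CategoryTheory CategoryTheory.Limits AlgebraicGeometry
open AlgSp

namespace Groth.Agent.S10563

open AlgSp Groth.Agent.Lib.Helper78.AlgSpBasic in
/-- ring level: a flat, formally unramified, essentially finite type local extension of a regular
local ring is regular (closed fibre is a field; S2470 (d) ⇒ (c)). -/
theorem isRegularLocalRing_of_flat_unramified (A B : Type u) [CommRing A] [CommRing B]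
    [IsRegularLocalRing A] [IsLocalRing B] [IsNoetherianRing B] [Algebra A B]
    [IsLocalHom (algebraMap A B)] [Module.Flat A B] [Algebra.FormallyUnramified A B]
    [Algebra.EssFiniteType A B] : IsRegularLocalRing B := by
  have hF : IsField (B ⧸ (IsLocalRing.maximalIdeal A).map (algebraMap A B)) :=
    Algebra.FormallyUnramified.isField_quotient_map_maximalIdeal
  have hnt : Nontrivial (B ⧸ (IsLocalRing.maximalIdeal A).map (algebraMap A B)) := hF.nontrivial
  have hloc : IsLocalRing (B ⧸ (IsLocalRing.maximalIdeal A).map (algebraMap A B)) :=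
    .of_surjective' _ Ideal.Quotient.mk_surjective
  have hdom : IsDomain (B ⧸ (IsLocalRing.maximalIdeal A).map (algebraMap A B)) := hF.isDomain
  have hpid : IsPrincipalIdealRing (B ⧸ (IsLocalRing.maximalIdeal A).map (algebraMap A B)) :=
    hF.isPrincipalIdealRing
  have hreg0 : IsRegularLocalRing (B ⧸ (IsLocalRing.maximalIdeal A).map (algebraMap A B)) :=
    inferInstance
  have hiff := (Groth.Agent.S2470.result (A := A) (B := B)).out 2 1
  have h := hiff.1 ⟨inferInstance, hreg0, inferInstance⟩
  exact h.1

/-- the property of schemes in the statement. -/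
abbrev Reg (U : Scheme.{u}) : Prop :=
  IsLocallyNoetherian U ∧ ∀ u : ↥U, IsRegularLocalRing ↥(U.presheaf.stalk u)

/-- a scheme étale over a regular scheme is regular. -/
theorem reg_of_etale {W U : Scheme.{u}} (h : W ⟶ U) [Etale h] (hU : Reg U) : Reg W := by
  have : IsLocallyNoetherian U := hU.1
  have hW : IsLocallyNoetherian W := LocallyOfFiniteType.isLocallyNoetherian h
  refine ⟨hW, fun w => ?_⟩
  have : IsRegularLocalRing ↥(U.presheaf.stalk (h w)) := hU.2 (h w)
  algebraize [(h.stalkMap w).hom]
  have : IsLocalHom (algebraMap (U.presheaf.stalk (h w)) (W.presheaf.stalk w)) :=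
    inferInstanceAs <| IsLocalHom (h.stalkMap w).hom
  have : Algebra.EssFiniteType (U.presheaf.stalk (h w)) (W.presheaf.stalk w) := by
    rw [← RingHom.essFiniteType_algebraMap, RingHom.algebraMap_toAlgebra]
    exact LocallyOfFiniteType.stalkMap h w
  have : Algebra.FormallyUnramified (U.presheaf.stalk (h w)) (W.presheaf.stalk w) := by
    rw [← RingHom.formallyUnramified_algebraMap, RingHom.algebraMap_toAlgebra]
    exact FormallyUnramified.stalkMap h w
  have : Module.Flat (U.presheaf.stalk (h w)) (W.presheaf.stalk w) := Flat.stalkMap h w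
  exact isRegularLocalRing_of_flat_unramified (U.presheaf.stalk (h w)) (W.presheaf.stalk w)

/-- regularity descends along fppf surjective morphisms of schemes. -/
theorem reg_of_fppf_surjective {X Y : Scheme.{u}} (f : X ⟶ Y) [Flat f]
    [LocallyOfFinitePresentation f] [Surjective f] (hX : Reg X) : Reg Y := by
  have : IsLocallyNoetherian X := hX.1
  have hY : IsLocallyNoetherian Y := Groth.Agent.S0116.result f
  refine ⟨hY, fun y => ?_⟩
  obtain ⟨x, rfl⟩ := f.surjective y
  have : IsRegularLocalRing ↥(X.presheaf.stalk x) := hX.2 x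
  algebraize [(f.stalkMap x).hom]
  have : IsLocalHom (algebraMap (Y.presheaf.stalk (f x)) (X.presheaf.stalk x)) :=
    inferInstanceAs <| IsLocalHom (f.stalkMap x).hom
  have : Module.Flat (Y.presheaf.stalk (f x)) (X.presheaf.stalk x) := Flat.stalkMap f x
  exact Groth.Agent.S0565.result (Y.presheaf.stalk (f x)) (X.presheaf.stalk x)

open AlgSp Groth.Agent.Lib.Helper78.AlgSpBasic in
/-- every étale chart of a regular algebraic space is regular. -/
theorem reg_of_chart {S : Scheme.{u}} {X : Sp S} (hX : EtaleLocally Reg X) {U : Over S}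
    (a : (yon S).obj U ⟶ X) (ha : RepWith @Etale a) : Reg U.left := by
  obtain ⟨U', a', ha', ha's, hU'⟩ := hX
  have sq := ha'.rep.isPullback' a
  have h1 : Etale (ha'.rep.snd a).left := ha'.property _ _ _ sq
  have h1s : Surjective (ha'.rep.snd a).left := ha's.property _ _ _ sq
  have h2 : Etale (ha'.rep.fst' a).left := ha.property _ _ _ sq.flip
  have hW : Reg (ha'.rep.pullback a).left := reg_of_etale (ha'.rep.fst' a).left hU'
  exact reg_of_fppf_surjective (ha'.rep.snd a).left hW

/-- Let f : X ⟶ Y be a morphism of algebraic spaces over S which is locally of finite presentation, flat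
and surjective. If X is regular (etale locally a locally Noetherian scheme all of whose local rings
are regular local rings) then Y is regular. -/
theorem result {S : Scheme.{u}} {X Y : AlgSp.Space S} (f : X ⟶ Y)
    (hfp : AlgSp.LocP @LocallyOfFinitePresentation f.hom) (hfl : AlgSp.LocP @Flat f.hom)
    (hs : AlgSp.IsSurjectiveMor f.hom)
    (hX : AlgSp.EtaleLocally (fun U => IsLocallyNoetherian U ∧ ∀ u : ↥U, IsRegularLocalRing ↥(U.presheaf.stalk u)) X.obj) :
    AlgSp.EtaleLocally (fun U => IsLocallyNoetherian U ∧ ∀ u : ↥U, IsRegularLocalRing ↥(U.presheaf.stalk u)) Y.obj := by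
  obtain ⟨V, b, hb, hbs⟩ := Y.property.atlas
  obtain ⟨U₀, a₀, ha₀, ha₀s⟩ := X.property.atlas
  obtain ⟨U, j, h, sq, ha, -⟩ :=
    Groth.Agent.Lib.Helper78.AlgSpBasic.exists_chart_diagram f.hom a₀ ha₀ b hb
  have comm : ((AlgSp.yon S).map j ≫ a₀) ≫ f.hom = (AlgSp.yon S).map h ≫ b := by
    rw [Category.assoc]; exact sq.w.symm
  have hU : Reg U.left := reg_of_chart hX _ ha
  have : Flat h.left := hfl _ b h ha hb comm
  have : LocallyOfFinitePresentation h.left := hfp _ b h ha hb comm
  have : Surjective h.left :=
    Groth.Agent.Lib.Helper78.AlgSpReduced.surjective_of_chart_diagram f.hom hs a₀ ha₀s b j h sq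
  exact ⟨V, b, hb, hbs, reg_of_fppf_surjective h.left hU⟩

end Groth.Agent.S10563
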