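import Groth.Statements.S10564
import Groth.Agent.Lib.Helper78.AlgSpReduced

set_option autoImplicit false
universe u
open CategoryTheory CategoryTheory.Limits AlgebraicGeometry
open AlgSp

namespace Groth.Agent.S10564

/-- For a smooth morphism f : X ⟶ Y of algebraic spaces over S, reducedness of Y implies reducedness of
X, and when f is moreover surjective, reducedness of X implies reducedness of Y. -/
theorem result {S : Scheme.{u}} {X Y : AlgSp.Space S} (f : X ⟶ Y) (hf : AlgSp.LocP @Smooth f.hom) :
    (AlgSp.IsReducedSp Y.obj → AlgSp.IsReducedSp X.obj) ∧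
    (AlgSp.IsSurjectiveMor f.hom → AlgSp.IsReducedSp X.obj → AlgSp.IsReducedSp Y.obj) := by
  refine ⟨fun hY => ?_, fun hs hX => ?_⟩
  · exact Groth.Agent.Lib.Helper78.AlgSpReduced.isReducedSp_of_smooth X.property Y.property
      f.hom hf hY
  · refine Groth.Agent.Lib.Helper78.AlgSpReduced.isReducedSp_of_flat_of_surjective X.property
      Y.property f.hom ?_ hs hX
    refine Groth.Agent.Lib.Helper78.AlgSpMisc.locP_mono ?_ hf
    intro A B g hg
    have : Smooth g := hg
    exact (inferInstance : Flat g)

end Groth.Agent.S10564
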