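import Groth.Statements.S10568
import Groth.Agent.Lib.Helper78.AlgSpEtGraph

set_option autoImplicit false
universe u
open CategoryTheory CategoryTheory.Limits AlgebraicGeometry
open AlgSp AlgSp.IsEtaleSmoothLocalST

namespace Groth.Agent.S10568

/-- A property P of morphisms of algebraic spaces over S, local on source-and-target in the etale-smooth
sense, is (1) etale local on the source, (2) smooth local on the base, (3) stable under
postcomposition with etale morphisms: whenever g : Y ⟶ Z is etale and f : X ⟶ Y has P, the composite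
f ≫ g has P, and (4) conversely, if g : Y ⟶ Z is etale and f ≫ g has P then f has P. -/
theorem result {S : Scheme.{u}} {P : MorphismProperty (AlgSp.Sp S)}
    (hP : AlgSp.IsEtaleSmoothLocalST P) :
    AlgSp.IsLocalOnSource (AlgSp.IsEtCover (S := S)) P ∧
    AlgSp.IsLocalOnBase (AlgSp.IsSmCover (S := S)) P ∧
    (∀ ⦃X Y Z : AlgSp.Space S⦄ (f : X ⟶ Y) (g : Y ⟶ Z), P f.hom → AlgSp.IsEtaleMor g.hom → P (f ≫ g).hom) ∧
    (∀ ⦃X Y Z : AlgSp.Space S⦄ (f : X ⟶ Y) (g : Y ⟶ Z), AlgSp.IsEtaleMor g.hom → P (f ≫ g).hom → P f.hom) := by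
  have graph : ∀ ⦃X Y Z : AlgSp.Space S⦄ (f : X ⟶ Y) (g : Y ⟶ Z), AlgSp.IsEtaleMor g.hom →
      ∃ (W : AlgSp.Sp S) (p : W ⟶ X.obj) (q : W ⟶ Y.obj) (e : X.obj ⟶ W),
        IsPullback p q (f ≫ g).hom g.hom ∧ e ≫ p = 𝟙 _ ∧ e ≫ q = f.hom ∧ AlgSp.IsAlgSpace W ∧
          AlgSp.IsEtaleMor e := by
    intro X Y Z f g hg
    have sq := IsPullback.of_hasPullback (f ≫ g).hom g.hom
    have hw : 𝟙 X.obj ≫ (f ≫ g).hom = f.hom ≫ g.hom := by rw [Category.id_comp]; rfl
    obtain ⟨hW, he⟩ := Groth.Agent.Lib.Helper78.AlgSpSmLocal.isEtaleMor_graph X.property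
      Y.property Z.property f.hom g.hom hg sq (pullback.lift (𝟙 _) f.hom hw)
      (pullback.lift_fst _ _ _)
    exact ⟨_, _, _, pullback.lift (𝟙 _) f.hom hw, sq, pullback.lift_fst _ _ _,
      pullback.lift_snd _ _ _, hW, he⟩
  refine ⟨?_, ?_, ?_, ?_⟩
  · intro ι X Xi g hX hXi hcov Y f hY
    constructor
    · intro hf i
      exact hP.precomp (hXi i) hX hY (g i) f (hcov.1 i) hf
    · intro H
      rw [hP.locality hX hY f]
      intro x
      obtain ⟨i, v, hv⟩ := hcov.2 x
      have sq : IsPullback (𝟙 X) f f (𝟙 Y) :=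
        IsPullback.of_horiz_isIso ⟨by rw [Category.id_comp, Category.comp_id]⟩
      refine ⟨Y, X, Xi i, 𝟙 Y, 𝟙 X, f, g i, v, hY, hX, hXi i,
        Groth.Agent.Lib.Helper78.AlgSpSmLocal.locP_smooth_id hY, sq, hcov.1 i, ?_, H i⟩
      rw [Category.comp_id]; exact hv
  · intro ι Y Yi g hY hYi hcov X f hX Xi p q hXi sq
    constructor
    · intro hf i
      exact hP.baseChange hX hY (hXi i) (hYi i) f (g i) (p i) (q i) (sq i) (hcov.1 i) hf
    · intro H
      rw [hP.locality hX hY f]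
      intro x
      obtain ⟨i, y', hy'⟩ := hcov.2 (AlgSp.Points.map f x)
      obtain ⟨v, hv1, hv2⟩ :=
        Groth.Agent.Lib.Helper52.exists_point_of_isPullback (sq i) x y' hy'.symm
      refine ⟨Yi i, Xi i, Xi i, g i, q i, p i, 𝟙 _, v, hYi i, hXi i, hXi i, hcov.1 i, sq i,
        Groth.Agent.Lib.Helper78.AlgSpSmLocal.isEtaleMor_id _, ?_, ?_⟩
      · rw [Category.id_comp]; exact hv1
      · rw [Category.id_comp]; exact H i
  · intro X Y Z f g hf hg
    obtain ⟨W, p, q, e, sq, he1, he2, hW, he⟩ := graph f g hg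
    rw [hP.locality X.property Z.property]
    intro x
    refine ⟨Y.obj, W, X.obj, g.hom, p, q, e, x, Y.property, hW, X.property,
      Groth.Agent.Lib.Helper78.AlgSpSmLocal.locP_smooth_of_isEtaleMor Z.property hg, sq, he, ?_, ?_⟩
    · rw [he1]; exact AlgSp.Points.map_id x
    · rw [he2]; exact hf
  · intro X Y Z f g hg hfg
    obtain ⟨W, p, q, e, sq, he1, he2, hW, he⟩ := graph f g hg
    have hq : P q := hP.baseChange X.property Z.property hW Y.property (f ≫ g).hom g.hom q p sq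
      (Groth.Agent.Lib.Helper78.AlgSpSmLocal.locP_smooth_of_isEtaleMor Z.property hg) hfg
    have := hP.precomp X.property hW Y.property e q he hq
    rwa [he2] at this

end Groth.Agent.S10568
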