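import Groth.Statements.S10571
import Groth.Agent.Lib.Helper78.AlgSpCoprod5
import Groth.Agent.Lib.Helper78.AlgSpFibre

set_option autoImplicit false
universe u
open CategoryTheory CategoryTheory.Limits AlgebraicGeometry
open AlgSp

namespace Groth.Agent.S10571

/-- Suppose a property P of morphisms between algebraic spaces over S satisfies: (1) if finitely many
morphisms X_i ⟶ Y_i have P then so does the induced morphism ∐ X_i ⟶ ∐ Y_i, (2) f : X ⟶ Y has P
exactly when, for each affine scheme Z and each h_Z ⟶ Y, the base change h_Z ×_Y X ⟶ h_Z has P, and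
(3) for every surjective flat morphism of affine schemes Z' ⟶ Z over S and every f : X ⟶ h_Z, if the
base change h_{Z'} ×_{h_Z} X ⟶ h_{Z'} has P then f has P. Under these hypotheses, P is local on the
base for the fpqc topology. (The published statement asks (1) only for two morphisms; its proof
applies (1) to a disjoint union indexed by a finite set that may be empty, and with (1) for two
morphisms only the property that holds for no morphism satisfies all three hypotheses without being
fpqc local on the base, as the empty covering of the empty algebraic space shows. This row asks (1)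
for all finite families, the empty one included.) -/
theorem result {S : Scheme.{u}} (P : MorphismProperty (AlgSp.Sp S))
    (h1 : ∀ ⦃ι : Type u⦄ [Finite ι] (Xi Yi : ι → AlgSp.Sp S) (fi : ∀ i, Xi i ⟶ Yi i)
      (cX : Cofan Xi) (cY : Cofan Yi) (hcX : IsColimit cX) (hcY : IsColimit cY) (m : cX.pt ⟶ cY.pt),
      (∀ i, AlgSp.IsAlgSpace (Xi i)) → (∀ i, AlgSp.IsAlgSpace (Yi i)) →
      AlgSp.IsAlgSpace cX.pt → AlgSp.IsAlgSpace cY.pt →
      (∀ i, cX.inj i ≫ m = fi i ≫ cY.inj i) → (∀ i, P (fi i)) → P m)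
    (h2 : ∀ ⦃X Y : AlgSp.Sp S⦄, AlgSp.IsAlgSpace X → AlgSp.IsAlgSpace Y → ∀ (f : X ⟶ Y),
      P f ↔ ∀ (Z : Over S), IsAffine Z.left → ∀ (g : (AlgSp.yon S).obj Z ⟶ Y) (W : AlgSp.Sp S)
        (fst : W ⟶ X) (snd : W ⟶ (AlgSp.yon S).obj Z), AlgSp.IsAlgSpace W → IsPullback fst snd f g → P snd)
    (h3 : ∀ ⦃Z Z' : Over S⦄ (c : Z' ⟶ Z), IsAffine Z.left → IsAffine Z'.left → Surjective c.left → Flat c.left →
      ∀ ⦃X X' : AlgSp.Sp S⦄ (f : X ⟶ (AlgSp.yon S).obj Z) (fst : X' ⟶ X) (f' : X' ⟶ (AlgSp.yon S).obj Z'),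
        AlgSp.IsAlgSpace X → AlgSp.IsAlgSpace X' → IsPullback fst f' f ((AlgSp.yon S).map c) → P f' → P f) :
    AlgSp.IsLocalOnBase (AlgSp.IsFpqcCover (S := S)) P := by
  intro ι Y Yi g hY hYi hcov X f hX Xi p q hXi hsq
  constructor
  · intro hPf i
    rw [h2 (hXi i) (hYi i) (p i)]
    intro Z hZ g' W fst snd hW sqW
    exact (h2 hX hY f).1 hPf Z hZ (g' ≫ g i) W (fst ≫ q i) snd hW (sqW.paste_horiz (hsq i))
  · intro hp
    rw [h2 hX hY f]
    intro Z hZ h W fst snd hW sqW
    obtain ⟨m, Wj, c, hWaff, hcfl, hcsurj, hlift⟩ := hcov.2 Z hZ h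
    choose i l hl using hlift
    -- reindex by a type in the universe `u`
    let κ := ULift.{u} (Fin m)
    let Wk : κ → Over S := fun k => Wj k.down
    let ck : ∀ k : κ, Wk k ⟶ Z := fun k => c k.down
    let Z' : Over S := Groth.Agent.Lib.Helper78.AlgSpCoprod.sigmaOver Wk
    let cZ : Z' ⟶ Z := Groth.Agent.Lib.Helper78.AlgSpCoprod.sigmaOverDesc Wk ck
    have hZ' : IsAffine Z'.left := by
      have : ∀ k : κ, IsAffine (Wk k).left := fun k => hWaff k.down
      change IsAffine (∐ fun k => (Wk k).left)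
      infer_instance
    have hcZfl : Flat cZ.left := by
      have : ∀ k : κ, Flat (ck k).left := fun k => hcfl k.down
      change Flat (Sigma.desc fun k => (ck k).left)
      infer_instance
    have hcZs : Surjective cZ.left := by
      change Surjective (Sigma.desc fun k => (ck k).left)
      apply Surjective.sigmaDesc_of_union_range_eq_univ
      rw [Set.eq_univ_iff_forall]
      intro z
      obtain ⟨j, hj⟩ := hcsurj z
      exact Set.mem_iUnion.2 ⟨⟨j⟩, hj⟩
    obtain ⟨hcY⟩ := Groth.Agent.Lib.Helper78.AlgSpCoprod.isColimit_yon_sigmaOver Wk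
    have hyonZ : AlgSp.IsAlgSpace ((AlgSp.yon S).obj Z) := AlgSp.IsAlgSpace.yon_obj Z
    have hyonZ' : AlgSp.IsAlgSpace ((AlgSp.yon S).obj Z') := AlgSp.IsAlgSpace.yon_obj Z'
    -- base change to `Z'`
    let W' := pullback snd ((AlgSp.yon S).map cZ)
    have sqW' : IsPullback (pullback.fst snd ((AlgSp.yon S).map cZ))
        (pullback.snd snd ((AlgSp.yon S).map cZ)) snd ((AlgSp.yon S).map cZ) :=
      IsPullback.of_hasPullback _ _
    have hW' : AlgSp.IsAlgSpace W' :=
      Groth.Agent.Lib.Helper78.AlgSpFibre.isAlgSpace_of_isPullback sqW' hyonZ.diag hW hyonZ'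
    refine h3 cZ hZ hZ' hcZs hcZfl snd (pullback.fst snd ((AlgSp.yon S).map cZ))
      (pullback.snd snd ((AlgSp.yon S).map cZ)) hW hW' sqW' ?_
    -- the pieces
    let ιk : ∀ k : κ, Wk k ⟶ Z' := fun k => Groth.Agent.Lib.Helper78.AlgSpCoprod.sigmaOverι Wk k
    let A : κ → AlgSp.Sp S := fun k =>
      pullback (pullback.snd snd ((AlgSp.yon S).map cZ)) ((AlgSp.yon S).map (ιk k))
    let a : ∀ k, A k ⟶ W' := fun k => pullback.fst _ _
    let b : ∀ k, A k ⟶ (AlgSp.yon S).obj (Wk k) := fun k => pullback.snd _ _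
    have sqA : ∀ k, IsPullback (a k) (b k) (pullback.snd snd ((AlgSp.yon S).map cZ))
        ((AlgSp.yon S).map (ιk k)) := fun k => IsPullback.of_hasPullback _ _
    have hA : ∀ k, AlgSp.IsAlgSpace (A k) := fun k =>
      Groth.Agent.Lib.Helper78.AlgSpFibre.isAlgSpace_of_isPullback (sqA k) hyonZ'.diag hW'
        (AlgSp.IsAlgSpace.yon_obj _)
    obtain ⟨hcX⟩ := Groth.Agent.Lib.Helper78.SheafCoprod.isColimit_of_isPullback (J := AlgSp.J S) hcY
      (Cofan.mk W' a) b (pullback.snd snd ((AlgSp.yon S).map cZ)) sqA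
    refine h1 A (fun k => (AlgSp.yon S).obj (Wk k)) b (Cofan.mk W' a) _ hcX hcY _ hA
      (fun k => AlgSp.IsAlgSpace.yon_obj _) hW' hyonZ' (fun k => (sqA k).w) ?_
    intro k
    -- `b k` is a base change of `p (i k.down)`
    have hιc : ιk k ≫ cZ = ck k := Groth.Agent.Lib.Helper78.AlgSpCoprod.sigmaOverι_desc Wk ck k
    have big : IsPullback (a k ≫ pullback.fst snd ((AlgSp.yon S).map cZ) ≫ fst) (b k) f
        (l k.down ≫ g (i k.down)) := by
      have h1' := ((sqA k).flip.paste_vert sqW'.flip).flip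
      have h2' := h1'.paste_horiz sqW
      rw [← Functor.map_comp, hιc, Category.assoc] at h2'
      rw [hl k.down]
      exact h2'
    let r : A k ⟶ Xi (i k.down) := (hsq (i k.down)).lift
      (a k ≫ pullback.fst snd ((AlgSp.yon S).map cZ) ≫ fst) (b k ≫ l k.down)
      (by rw [big.w, Category.assoc])
    have sqr : IsPullback r (b k) (p (i k.down)) (l k.down) := by
      refine IsPullback.of_right ?_ ((hsq (i k.down)).lift_snd _ _ _) (hsq (i k.down))
      rw [(hsq (i k.down)).lift_fst]
      exact big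
    exact (h2 (hXi _) (hYi _) (p (i k.down))).1 (hp _) (Wk k) (hWaff k.down) (l k.down) (A k) r (b k)
      (hA k) sqr

end Groth.Agent.S10571
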