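import Groth.Statements.S10573
import Groth.Agent.Lib.Helper30.AlgSpFpqc2
-- import your own Groth.Agent.* helpers here

set_option autoImplicit false
universe u
open CategoryTheory CategoryTheory.Limits AlgebraicGeometry
open AlgSp

namespace Groth.Agent.S10573

open Groth.Agent.Lib.Helper30 Groth.Agent.Lib.Helper51 Groth.Agent.Lib.Helper52

set_option backward.isDefEq.respectTransparency false

/-- An fpqc covering is jointly surjective on points. -/
theorem exists_mem_range_of_isFpqcCover {S : Scheme.{u}} {ι : Type u} {T : AlgSp.Sp S}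
    (Ti : ι → AlgSp.Sp S) (g : ∀ i, Ti i ⟶ T) (hg : AlgSp.IsFpqcCover Ti g) (x : Points T) :
    ∃ i, x ∈ Set.range (Points.map (g i)) := by
  obtain ⟨⟨⟨W', w⟩, hW', i, l, hl⟩, z, rfl⟩ := (jointlyQuot_fpqc Ti g hg (𝟙 T)).surj x
  refine ⟨i, Points.map l z, ?_⟩
  change l ≫ g i = w ≫ 𝟙 T at hl
  rw [Category.comp_id] at hl
  change _ = Points.map w z
  rw [← Points.map_comp, hl]


/-- Let {g_i : T_i ⟶ T} be a family of algebraic spaces over S forming an fpqc covering, and let W_i ⊂
|T_i| be open subsets (open subspaces) such that for all i, j the two projections T_i ×_T T_j ⟶ T_i,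
T_j pull W_i and W_j back to the same subset of |T_i ×_T T_j|. Then there is a unique open subset W
⊂ |T| with g_i⁻¹(W) = W_i for every i. -/
theorem result {S : Scheme.{u}} {ι : Type u} {T : AlgSp.Space S}
    (Ti : ι → AlgSp.Space S) (g : ∀ i, Ti i ⟶ T)
    (hg : AlgSp.IsFpqcCover (fun i => (Ti i).obj) (fun i => (g i).hom))
    (Wi : ∀ i, Set (AlgSp.Points (Ti i).obj)) (hW : ∀ i, IsOpen (Wi i))
    (hc : ∀ i j, AlgSp.Points.map (pullback.fst (g i).hom (g j).hom) ⁻¹' Wi i =
      AlgSp.Points.map (pullback.snd (g i).hom (g j).hom) ⁻¹' Wi j) :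
    ∃! W : TopologicalSpace.Opens (AlgSp.Points T.obj), ∀ i, AlgSp.Points.map (g i).hom ⁻¹' (W : Set (AlgSp.Points T.obj)) = Wi i := by
  have hq := jointlyQuot_fpqc (fun i => (Ti i).obj) (fun i => (g i).hom) hg (𝟙 T.obj)
  have hA : ∀ i, AlgSp.Points.map (g i).hom ⁻¹'
      (⋃ j, AlgSp.Points.map (g j).hom '' Wi j) = Wi i := by
    intro i
    ext x
    constructor
    · intro hx
      obtain ⟨j, y, hy, hyx⟩ := Set.mem_iUnion.1 hx
      obtain ⟨w, hw1, hw2⟩ := exists_point_of_isPullback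
        (IsPullback.of_hasPullback (g i).hom (g j).hom) x y hyx.symm
      have : w ∈ AlgSp.Points.map (pullback.snd (g i).hom (g j).hom) ⁻¹' Wi j := by
        show AlgSp.Points.map _ w ∈ Wi j
        rw [hw2]; exact hy
      rw [← hc i j] at this
      have h' : AlgSp.Points.map (pullback.fst (g i).hom (g j).hom) w ∈ Wi i := this
      rwa [hw1] at h'
    · intro hx
      exact Set.mem_iUnion.2 ⟨i, x, hx, rfl⟩
  have hopen : IsOpen (⋃ j, AlgSp.Points.map (g j).hom '' Wi j) := by
    refine hq.coind _ ?_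
    rintro ⟨⟨W', w⟩, hW', i, l, hl⟩
    change l ≫ (g i).hom = w ≫ 𝟙 T.obj at hl
    rw [Category.comp_id] at hl
    change IsOpen (AlgSp.Points.map w ⁻¹' _)
    have e : AlgSp.Points.map w ⁻¹' (⋃ j, AlgSp.Points.map (g j).hom '' Wi j) =
        AlgSp.Points.map l ⁻¹' Wi i := by
      rw [← hA i, ← hl]
      ext z
      simp only [Set.mem_preimage]
      rw [AlgSp.Points.map_comp]
    rw [e]
    exact (hW i).preimage (AlgSp.Points.continuous_map l)
  refine ⟨⟨_, hopen⟩, hA, ?_⟩
  intro W' hW'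
  ext x
  obtain ⟨i, y, rfl⟩ := exists_mem_range_of_isFpqcCover _ _ hg x
  have h1 : AlgSp.Points.map (g i).hom y ∈ (W' : Set _) ↔ y ∈ Wi i := by
    rw [← hW' i]; rfl
  have h2 : AlgSp.Points.map (g i).hom y ∈ (⋃ j, AlgSp.Points.map (g j).hom '' Wi j) ↔
      y ∈ Wi i := by
    rw [← hA i]; rfl
  exact h1.trans h2.symm

end Groth.Agent.S10573
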