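import Groth.Statements.S10579
import Groth.Agent.Lib.Helper7.AlgSpBr6

set_option autoImplicit false
universe u
open CategoryTheory CategoryTheory.Limits AlgebraicGeometry
open AlgSp

namespace Groth.Agent.S10579

/-- Let f : X ⟶ Y be a morphism of algebraic spaces over S and x ∈ |X|. If X is geometrically unibranch
at x and f is flat at x, then Y is geometrically unibranch at the image point f(x). Here an
algebraic space is geometrically unibranch at a point when for every etale chart from a scheme U and
every point u of U over it the local ring of U at u is geometrically unibranch. -/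
theorem result {S : Scheme.{u}} {X Y : AlgSp.Space S} (f : X ⟶ Y) (x : AlgSp.Points X.obj)
    (hf : AlgSp.IsFlatAtMor f.hom x)
    (hX : ∀ (U : Over S) (a : (AlgSp.yon S).obj U ⟶ X.obj) (v : ↥U.left), AlgSp.RepWith @Etale a →
      AlgSp.Points.ofPt a v = x → CAlg2.IsGeomUnibranch ↥(U.left.presheaf.stalk v))
    (V : Over S) (b : (AlgSp.yon S).obj V ⟶ Y.obj) (w : ↥V.left) (hb : AlgSp.RepWith @Etale b)
    (hw : AlgSp.Points.ofPt b w = AlgSp.Points.map f.hom x) :
    CAlg2.IsGeomUnibranch ↥(V.left.presheaf.stalk w) := by
  obtain ⟨W, a, φ, w', ha, hsq, hw1, hw2⟩ :=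
    Groth.Agent.Lib.Helper7.AlgSpBr.exists_chart_diagram X.property f.hom x b w hb hw
  have hfl := hf a b φ w' ha hb hsq hw1
  have hgu := hX W a w' ha hw1
  have := Groth.Agent.Lib.Helper7.AlgSpBr.isGeomUnibranch_stalk_of_flat_stalkMap φ.left w' hfl hgu
  rw [hw2] at this
  exact this

end Groth.Agent.S10579
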