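import Groth.Statements.S10580
import Groth.Agent.Lib.Helper78.AlgSpSrcTau
import Groth.Agent.Lib.Helper78.AlgSpMisc

set_option autoImplicit false
universe u
open CategoryTheory CategoryTheory.Limits AlgebraicGeometry
open AlgSp

namespace Groth.Agent.S10580

/-- Let P be a property of morphisms of schemes and P_spaces the induced property of morphisms of
algebraic spaces over S (P on every etale chart diagram). For τ one of fpqc, fppf, smooth, etale: if
P is τ local on the source for morphisms of schemes, then P_spaces is τ local on the source for
morphisms of algebraic spaces. (The published statement assumes P etale local on the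
source-and-target, which is what makes the chart-wise property the right notion; the implication
itself holds for every P and is stated that way. The syntomic case is not included. τ-locality on
the source for schemes is taken in the form that includes invariance of P under isomorphisms, which
the published definition requires implicitly.) -/
theorem result (S : Scheme.{u}) (P : MorphismProperty Scheme.{u}) :
    (P.IsLocalAtSource Scheme.fpqcPrecoverage → AlgSp.IsLocalOnSource (AlgSp.IsFpqcCover (S := S)) (AlgSp.LocP P)) ∧
    (P.IsLocalAtSource Scheme.fppfPrecoverage → AlgSp.IsLocalOnSource (AlgSp.IsFppfCover (S := S)) (AlgSp.LocP P)) ∧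
    (P.IsLocalAtSource (Scheme.precoverage @Smooth) → AlgSp.IsLocalOnSource (AlgSp.IsSmCover (S := S)) (AlgSp.LocP P)) ∧
    (P.IsLocalAtSource Scheme.etalePrecoverage → AlgSp.IsLocalOnSource (AlgSp.IsEtCover (S := S)) (AlgSp.LocP P)) := by
  refine ⟨fun hP => ?_, fun hP => ?_, fun hP => ?_, fun hP => ?_⟩
  · exact Groth.Agent.Lib.Helper78.AlgSpSrcTau.isLocalOnSource_fpqc P
  · have : P.IsLocalAtSource
        (Scheme.precoverage (@Flat ⊓ @LocallyOfFinitePresentation : MorphismProperty Scheme.{u})) := hP
    exact Groth.Agent.Lib.Helper78.AlgSpSrcTau.isLocalOnSource_of_precoverage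
      (@Flat ⊓ @LocallyOfFinitePresentation) (fun _ _ f (hf : Etale f) => ⟨inferInstance, inferInstance⟩) P _
      (fun X' X f hX hf => fun U V a b h ha hb comm =>
        ⟨hf.1 a b h ha hb comm, hf.2 a b h ha hb comm⟩)
  · exact Groth.Agent.Lib.Helper78.AlgSpSrcTau.isLocalOnSource_of_precoverage
      @Smooth (fun _ _ f (hf : Etale f) => (inferInstance : Smooth f)) P (LocP @Smooth) (fun _ _ f _ hf => hf)
  · have : P.IsLocalAtSource (Scheme.precoverage (@Etale : MorphismProperty Scheme.{u})) := hP
    exact Groth.Agent.Lib.Helper78.AlgSpSrcTau.isLocalOnSource_of_precoverage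
      @Etale le_rfl P IsEtaleMor
      (fun X' X f hX hf => (Groth.Agent.Lib.Helper78.AlgSpMisc.isEtaleMor_iff_locP hX f).1 hf)

end Groth.Agent.S10580
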