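import Groth.Statements.S10582
import Groth.Agent.Lib.Helper78.AlgSpFpqcSingle
import Groth.Agent.S10532

set_option autoImplicit false
universe u
open CategoryTheory CategoryTheory.Limits AlgebraicGeometry
open AlgSp

namespace Groth.Agent.S10582

/-- A monomorphism of algebraic spaces that is quasi-compact, flat and surjective is an isomorphism. -/
theorem result {S : Scheme.{u}} {X Y : AlgSp.Space S} (f : X ⟶ Y)
    (hqc : AlgSp.IsQuasiCompactMor f.hom) (hflat : AlgSp.LocP @Flat f.hom) (hsurj : AlgSp.IsSurjectiveMor f.hom)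
    [Mono f.hom] : IsIso f.hom := by
  have hcov := Groth.Agent.Lib.Helper78.AlgSpFpqcSingle.isFpqcCover_single X.property Y.property
    f.hom hqc hflat hsurj
  have sq : IsPullback (𝟙 X.obj) (𝟙 X.obj) f.hom f.hom := (IsKernelPair.id_of_mono f.hom)
  have key := Groth.Agent.S10532.result S (fun _ : PUnit.{u + 1} => X.obj) (fun _ => f.hom)
    Y.property (fun _ => X.property) hcov f.hom X.property (fun _ => X.obj) (fun _ => 𝟙 X.obj)
    (fun _ => 𝟙 X.obj) (fun _ => X.property) (fun _ => sq)
  exact key.2 (fun _ => (inferInstance : IsIso (𝟙 X.obj)))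

end Groth.Agent.S10582
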