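import Groth.Statements.S10591
import Groth.Agent.Lib.Helper31.AlgSpThickCart

set_option autoImplicit false
universe u
open CategoryTheory CategoryTheory.Limits AlgebraicGeometry
open AlgSp

namespace Groth.Agent.S10591

open Groth.Agent.Lib.Helper31.AlgSpFlatAt Groth.Agent.Lib.Helper78.AlgSpLocP Groth.Agent.Lib.Helper78 in

/-- Consider a morphism (f, f') from the thickening X ⊂ X' to the thickening Y ⊂ Y' of algebraic spaces
over S, meaning: i : X ⟶ X' and j : Y ⟶ Y' are thickenings (representable, every base change to a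
scheme a surjective closed immersion) and i ≫ f' = f ≫ j. Assume moreover that the square is
cartesian (X = Y ×_{Y'} X') and that i is a finite order thickening (for one n, on every affine
etale scheme chart of X' the (n+1)-st power of the ideal of the base change of X vanishes). Then f
is locally of finite type of relative dimension d, resp. locally of finite type, resp. locally
quasi-finite, resp. unramified, if and only if f' is (relative dimension d at a point: some chart
diagram through the point has fibre of local dimension d there) (all in the etale-local sense,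
locally quasi-finite and unramified including locally of finite type). -/
theorem result {S : Scheme.{u}} {X X' Y Y' : AlgSp.Space S} (i : X ⟶ X') (j : Y ⟶ Y')
    (f : X ⟶ Y) (f' : X' ⟶ Y')
    (hi : AlgSp.IsThickMor i.hom)
    (hj : AlgSp.IsThickMor j.hom) (w : i ≫ f' = f ≫ j)
    (hcart : IsPullback i.hom f.hom f'.hom j.hom)
    (hfo : AlgSp.IsFinThickMor i.hom) (d : ℕ) :
    ((AlgSp.LocP @LocallyOfFiniteType f.hom ∧
        ∀ x, AlgSp.HasAtMor (fun _ _ h u => FlatMor.fibreDimAt h u = (d : WithBot ℕ∞)) f.hom x) ↔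
      (AlgSp.LocP @LocallyOfFiniteType f'.hom ∧
        ∀ x', AlgSp.HasAtMor (fun _ _ h u => FlatMor.fibreDimAt h u = (d : WithBot ℕ∞)) f'.hom x')) ∧
    (AlgSp.LocP @LocallyOfFiniteType f.hom ↔ AlgSp.LocP @LocallyOfFiniteType f'.hom) ∧
    (AlgSp.LocP (@LocallyQuasiFinite ⊓ @LocallyOfFiniteType) f.hom ↔
      AlgSp.LocP (@LocallyQuasiFinite ⊓ @LocallyOfFiniteType) f'.hom) ∧
    (AlgSp.LocP (@LocallyOfFiniteType ⊓ @FormallyUnramified) f.hom ↔
      AlgSp.LocP (@LocallyOfFiniteType ⊓ @FormallyUnramified) f'.hom) := by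
  have lft_lift : ∀ {A A' B B' : Scheme.{u}} (iA : A ⟶ A') (iB : B ⟶ B') (g : A ⟶ B)
      (g' : A' ⟶ B'), thick iA → thick iB → IsPullback iA g g' iB → IsNilpotent iA.ker →
      (@LocallyOfFiniteType : MorphismProperty Scheme.{u}) g →
      (@LocallyOfFiniteType : MorphismProperty Scheme.{u}) g' := by
    intro A A' B B' iA iB g g' hA hB sq hnil hg
    have : IsClosedImmersion iB := hB.1
    exact locallyOfFiniteType_of_isPullback_of_isNilpotent_ker sq hnil hg
  have key : ∀ {P : MorphismProperty Scheme.{u}} (hP : EtLocalST P)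
      [IsZariskiLocalAtSource P] [P.IsStableUnderBaseChange]
      (hlift : ∀ {A A' B B' : Scheme.{u}} (iA : A ⟶ A') (iB : B ⟶ B') (g : A ⟶ B)
        (g' : A' ⟶ B'), thick iA → thick iB → IsPullback iA g g' iB → IsNilpotent iA.ker →
        P g → P g'), LocP P f.hom ↔ LocP P f'.hom := fun hP _ _ hlift =>
    locP_iff_of_finThick_cartesian hP hlift X'.property Y'.property i.hom j.hom f.hom f'.hom
      hfo hj hcart
  have h2 := key AlgSpLocPLoft.etLocalST_loft lft_lift
  refine ⟨?_, h2, key AlgSpLocPLqf.etLocalST_lqf ?_,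
    key (AlgSpLocPUnram.etLocalST_inf AlgSpLocPLoft.etLocalST_loft AlgSpLocPUnram.etLocalST_fu) ?_⟩
  · constructor
    · rintro ⟨h1, h3⟩
      exact ⟨h2.1 h1, (hasAtMor_fibreDim_iff_of_thick_cartesian X'.property Y'.property i.hom
        j.hom f.hom f'.hom hi hj hcart (h2.1 h1) d).1 h3⟩
    · rintro ⟨h1, h3⟩
      exact ⟨h2.2 h1, (hasAtMor_fibreDim_iff_of_thick_cartesian X'.property Y'.property i.hom
        j.hom f.hom f'.hom hi hj hcart h1 d).2 h3⟩
  · intro A A' B B' iA iB g g' hA hB sq hnil hg
    exact AlgSpThickLocP.lqf_lift iA iB g g' hA hB sq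
      (lft_lift iA iB g g' hA hB sq hnil hg.2) hg
  · intro A A' B B' iA iB g g' hA hB sq hnil hg
    exact AlgSpThickLocP.unram_lift iA iB g g' hA hB sq
      (lft_lift iA iB g g' hA hB sq hnil hg.1) hg

end Groth.Agent.S10591
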