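import Groth.Statements.S10592
import Groth.Agent.Lib.Helper53.ThickGlobal
import Groth.Agent.S10591

set_option autoImplicit false
universe u
open CategoryTheory CategoryTheory.Limits AlgebraicGeometry
open AlgSp

namespace Groth.Agent.S10592

/-- Consider a morphism (f, f') from the thickening X ⊂ X' to the thickening Y ⊂ Y' of algebraic spaces
over S, meaning: i : X ⟶ X' and j : Y ⟶ Y' are thickenings (representable, every base change to a
scheme a surjective closed immersion) and i ≫ f' = f ≫ j. Assume moreover that the square is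
cartesian (X = Y ×_{Y'} X') and that i is a finite order thickening (for one n, on every affine
etale scheme chart of X' the (n+1)-st power of the ideal of the base change of X vanishes). Then f
is a closed immersion, resp. proper, resp. finite, resp. an immersion, if and only if f' is
(immersions of algebraic spaces being the representable ones). -/
theorem result {S : Scheme.{u}} {X X' Y Y' : AlgSp.Space S} (i : X ⟶ X') (j : Y ⟶ Y')
    (f : X ⟶ Y) (f' : X' ⟶ Y')
    (hi : AlgSp.IsThickMor i.hom)
    (hj : AlgSp.IsThickMor j.hom) (w : i ≫ f' = f ≫ j)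
    (hcart : IsPullback i.hom f.hom f'.hom j.hom)
    (hfo : AlgSp.IsFinThickMor i.hom) :
    (AlgSp.RepWith @IsClosedImmersion f.hom ↔ AlgSp.RepWith @IsClosedImmersion f'.hom) ∧
    (AlgSp.IsProperMor f.hom ↔ AlgSp.IsProperMor f'.hom) ∧
    (AlgSp.IsFiniteMor f.hom ↔ AlgSp.IsFiniteMor f'.hom) ∧
    (AlgSp.RepWith @IsImmersion f.hom ↔ AlgSp.RepWith @IsImmersion f'.hom) := by
  have t := Groth.Agent.S10591.result i j f f' hi hj w hcart hfo 0
  refine ⟨Groth.Agent.Helper53.ThickGlobal.closedImm_iff i j f f' hi hj w t.2.2.2,
    Groth.Agent.Helper53.ThickGlobal.proper_iff i j f f' hi hj w t.2.1,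
    Groth.Agent.Helper53.ThickGlobal.finite_iff i j f f' hi hj w t.2.1 t.2.2.1, ⟨?_, ?_⟩⟩
  · intro hf
    refine Groth.Agent.Helper53.ThickGlobal.immersion_of_immersion i j f f' hi hj hcart ?_ hf
    intro U U' jU g g' ι' hfac hjU wU hnew hg
    have tU := Groth.Agent.S10591.result i jU g g' hi hjU wU hnew hfo 0
    exact (Groth.Agent.Helper53.ThickGlobal.closedImm_iff i jU g g' hi hjU wU tU.2.2.2).1 hg
  · intro hf'
    have : (AlgSp.RepWith (S := S) @IsImmersion).IsStableUnderBaseChange :=
      AlgSp.repWith_isStableUnderBaseChange _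
    exact MorphismProperty.of_isPullback (P := AlgSp.RepWith (S := S) @IsImmersion) hcart hf'

end Groth.Agent.S10592
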