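import Groth.Statements.S10594
import Groth.Agent.Lib.Helper53.ThickGlobal
import Groth.Agent.S10593
import Groth.Agent.S9952
import Groth.Agent.S9953

set_option autoImplicit false
universe u
open CategoryTheory CategoryTheory.Limits AlgebraicGeometry
open AlgSp

namespace Groth.Agent.S10594

/-- Consider a morphism (f, f') from the thickening X ⊂ X' to the thickening Y ⊂ Y' of algebraic spaces
over S, meaning: i : X ⟶ X' and j : Y ⟶ Y' are thickenings (representable, every base change to a
scheme a surjective closed immersion) and i ≫ f' = f ≫ j. Assume moreover that the square is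
cartesian (X = Y ×_{Y'} X') and that f and f' are locally of finite type. Then f is finite, resp. a
closed immersion, resp. an immersion, resp. proper, if and only if f' is (immersions of algebraic
spaces being the representable ones). -/
theorem result {S : Scheme.{u}} {X X' Y Y' : AlgSp.Space S} (i : X ⟶ X') (j : Y ⟶ Y')
    (f : X ⟶ Y) (f' : X' ⟶ Y')
    (hi : AlgSp.IsThickMor i.hom)
    (hj : AlgSp.IsThickMor j.hom) (w : i ≫ f' = f ≫ j)
    (hcart : IsPullback i.hom f.hom f'.hom j.hom)
    (hft : AlgSp.LocP @LocallyOfFiniteType f.hom) (hft' : AlgSp.LocP @LocallyOfFiniteType f'.hom) :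
    (AlgSp.IsFiniteMor f.hom ↔ AlgSp.IsFiniteMor f'.hom) ∧
    (AlgSp.RepWith @IsClosedImmersion f.hom ↔ AlgSp.RepWith @IsClosedImmersion f'.hom) ∧
    (AlgSp.RepWith @IsImmersion f.hom ↔ AlgSp.RepWith @IsImmersion f'.hom) ∧
    (AlgSp.IsProperMor f.hom ↔ AlgSp.IsProperMor f'.hom) := by
  have t := Groth.Agent.S10593.result i j f f' hi hj w hcart hft hft'
  have hlft : AlgSp.LocP @LocallyOfFiniteType f.hom ↔ AlgSp.LocP @LocallyOfFiniteType f'.hom :=
    ⟨fun _ => hft', fun _ => hft⟩
  refine ⟨Groth.Agent.Helper53.ThickGlobal.finite_iff i j f f' hi hj w hlft t.1,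
    Groth.Agent.Helper53.ThickGlobal.closedImm_iff i j f f' hi hj w t.2, ⟨?_, ?_⟩,
    Groth.Agent.Helper53.ThickGlobal.proper_iff i j f f' hi hj w hlft⟩
  · intro hf
    refine Groth.Agent.Helper53.ThickGlobal.immersion_of_immersion i j f f' hi hj hcart ?_ hf
    intro U U' jU g g' ι' hfac hjU wU hnew hg
    have hg'lft : AlgSp.LocP @LocallyOfFiniteType g'.hom :=
      Groth.Agent.S9952.result g' ι' (by rw [hfac]; exact hft')
    have hglft : AlgSp.LocP @LocallyOfFiniteType g.hom :=
      Groth.Agent.S9953.result g
        (Groth.Agent.Helper53.ThickGlobal.repWith_isImmersion_of_isClosedImmersion hg)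
    have tU := Groth.Agent.S10593.result i jU g g' hi hjU wU hnew hglft hg'lft
    exact (Groth.Agent.Helper53.ThickGlobal.closedImm_iff i jU g g' hi hjU wU tU.2).1 hg
  · intro hf'
    have : (AlgSp.RepWith (S := S) @IsImmersion).IsStableUnderBaseChange :=
      AlgSp.repWith_isStableUnderBaseChange _
    exact MorphismProperty.of_isPullback (P := AlgSp.RepWith (S := S) @IsImmersion) hcart hf'

end Groth.Agent.S10594
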