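import Groth.Statements.S10599
import Groth.Agent.Lib.Helper31.AlgSpThickGen

set_option autoImplicit false
universe u
open CategoryTheory CategoryTheory.Limits AlgebraicGeometry
open AlgSp

namespace Groth.Agent.S10599

open Groth.Agent.Lib.Helper31.AlgSpFlatAt Groth.Agent.Lib.Helper78.AlgSpLocP Groth.Agent.Lib.Helper78 in

/-- Let iB : B ⟶ B' be a thickening of algebraic spaces over S (representable, every base change to a
scheme a surjective closed immersion), f' : X' ⟶ Y' a morphism of algebraic spaces over B' (via g' :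
Y' ⟶ B') with Y' locally of finite type over B' and X' flat and locally of finite presentation over
B', and f : X ⟶ Y, g : Y ⟶ B its base change to B (both squares to iB cartesian, iX ≫ f' = f ≫ iY).
Then f is locally of finite type of relative dimension d, resp. flat, resp. locally quasi-finite,
smooth, unramified, etale, if and only if f' is (etale-local sense; locally quasi-finite and
unramified include locally of finite type). -/
theorem result {S : Scheme.{u}} {X X' Y Y' B B' : AlgSp.Space S} (iX : X ⟶ X') (iY : Y ⟶ Y') (iB : B ⟶ B')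
    (f : X ⟶ Y) (f' : X' ⟶ Y') (g : Y ⟶ B) (g' : Y' ⟶ B')
    (hcX : IsPullback iX.hom (f ≫ g).hom (f' ≫ g').hom iB.hom) (hcY : IsPullback iY.hom g.hom g'.hom iB.hom)
    (w : iX ≫ f' = f ≫ iY)
    (hB : AlgSp.IsThickMor iB.hom)
    (hg' : AlgSp.LocP @LocallyOfFiniteType g'.hom)
    (hflat : AlgSp.LocP @Flat (f' ≫ g').hom) (hfp : AlgSp.LocP @LocallyOfFinitePresentation (f' ≫ g').hom) (d : ℕ) :
    ((AlgSp.LocP @LocallyOfFiniteType f.hom ∧
        ∀ x, AlgSp.HasAtMor (fun _ _ h u => FlatMor.fibreDimAt h u = (d : WithBot ℕ∞)) f.hom x) ↔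
      (AlgSp.LocP @LocallyOfFiniteType f'.hom ∧
        ∀ x', AlgSp.HasAtMor (fun _ _ h u => FlatMor.fibreDimAt h u = (d : WithBot ℕ∞)) f'.hom x')) ∧
    (AlgSp.LocP @Flat f.hom ↔ AlgSp.LocP @Flat f'.hom) ∧
    (AlgSp.LocP (@LocallyQuasiFinite ⊓ @LocallyOfFiniteType) f.hom ↔
      AlgSp.LocP (@LocallyQuasiFinite ⊓ @LocallyOfFiniteType) f'.hom) ∧
    (AlgSp.LocP @Smooth f.hom ↔ AlgSp.LocP @Smooth f'.hom) ∧
    (AlgSp.LocP (@LocallyOfFiniteType ⊓ @FormallyUnramified) f.hom ↔
      AlgSp.LocP (@LocallyOfFiniteType ⊓ @FormallyUnramified) f'.hom) ∧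
    (AlgSp.IsEtaleMor f.hom ↔ AlgSp.IsEtaleMor f'.hom) := by
  have w' : iX.hom ≫ f'.hom = f.hom ≫ iY.hom := congrArg (fun φ => φ.hom) w
  have sqX : IsPullback iX.hom f.hom f'.hom iY.hom := IsPullback.of_bot hcX w' hcY
  have hiY : IsThickMor iY.hom :=
    MorphismProperty.of_isPullback (P := RepWith (S := S) thick) hcY.flip hB
  have hiX : IsThickMor iX.hom :=
    MorphismProperty.of_isPullback (P := RepWith (S := S) thick) hcX.flip hB
  have hlfp' : LocP @LocallyOfFinitePresentation f'.hom :=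
    locP_lfp_of_comp f'.hom g'.hom X'.property Y'.property B'.property hfp hg'
  have hlft' : LocP @LocallyOfFiniteType f'.hom :=
    AlgSpMisc.locP_mono (fun _ _ h (hh : LocallyOfFinitePresentation h) =>
      (inferInstance : LocallyOfFiniteType h)) hlfp'
  have down : ∀ {P : MorphismProperty Scheme.{u}} (hP : EtLocalST P)
      [P.IsStableUnderBaseChange], LocP P f'.hom → LocP P f.hom :=
    fun hP _ hf' => locP_of_isPullback hP sqX (AlgSpFibre.repAll_of_isAlgSpace Y'.property)
      X'.property.atlas Y'.property.atlas hf'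
  have hlft : LocP @LocallyOfFiniteType f.hom := down AlgSpLocPLoft.etLocalST_loft hlft'
  have flatUp : LocP @Flat f.hom → LocP @Flat f'.hom := fun hf =>
    (locP_flat_of_thickening iX.hom iY.hom iB.hom f.hom f'.hom g.hom g'.hom X'.property Y'.property
      B'.property B.property hcX hcY w' hB hg' hflat hfp hf).1
  have cart : ∀ {P R : MorphismProperty Scheme.{u}} (hP : EtLocalST P)
      [P.IsStableUnderBaseChange]
      (hlift : ∀ {A A' B B' : Scheme.{u}} (iA : A ⟶ A') (iB : B ⟶ B') (g : A ⟶ B) (g' : A' ⟶ B'),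
        thick iA → thick iB → IsPullback iA g g' iB → R g' → P g → P g'),
      LocP R f'.hom → (LocP P f.hom ↔ LocP P f'.hom) := fun hP _ hlift hR =>
    AlgSpThickLocP.locP_iff_of_thick_cartesian hP hlift X'.property Y'.property iX.hom iY.hom
      f.hom f'.hom hiX hiY sqX hR
  refine ⟨?_, ⟨flatUp, down AlgSpLocPFlat.etLocalST_flat⟩,
    cart AlgSpLocPLqf.etLocalST_lqf AlgSpThickLocP.lqf_lift hlft', ?_,
    cart (AlgSpLocPUnram.etLocalST_inf AlgSpLocPLoft.etLocalST_loft AlgSpLocPUnram.etLocalST_fu)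
      AlgSpThickLocP.unram_lift hlft', ?_⟩
  · have := hasAtMor_fibreDim_iff_of_thick_cartesian X'.property Y'.property iX.hom
        iY.hom f.hom f'.hom hiX hiY sqX hlft' d
    exact ⟨fun h => ⟨hlft', this.1 h.2⟩, fun h => ⟨hlft, this.2 h.2⟩⟩
  · refine ⟨fun hf => ?_, down AlgSpLocPSmooth.etLocalST_smooth⟩
    have hfl' : LocP @Flat f'.hom := flatUp (AlgSpMisc.locP_mono
      (fun _ _ h (hh : Smooth h) => (inferInstance : Flat h)) hf)
    refine (cart (R := @Flat ⊓ @LocallyOfFinitePresentation) AlgSpLocPSmooth.etLocalST_smooth ?_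
      (locP_inf hfl' hlfp')).1 hf
    intro A A' B B' iA iB g g' _ hB sq hR hg
    have : Flat g' := hR.1
    have : LocallyOfFinitePresentation g' := hR.2
    exact smooth_of_isPullback_thick sq hB hg
  · rw [AlgSpMisc.isEtaleMor_iff_locP Y.property, AlgSpMisc.isEtaleMor_iff_locP Y'.property]
    refine ⟨fun hf => ?_, down AlgSpLocPSmooth.etLocalST_etale⟩
    have hfl' : LocP @Flat f'.hom := flatUp (AlgSpMisc.locP_mono
      (fun _ _ h (hh : Etale h) => (inferInstance : Flat h)) hf)
    refine (cart (R := @Flat ⊓ @LocallyOfFinitePresentation) AlgSpLocPSmooth.etLocalST_etale ?_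
      (locP_inf hfl' hlfp')).1 hf
    intro A A' B B' iA iB g g' _ hB sq hR hg
    have : Flat g' := hR.1
    have : LocallyOfFinitePresentation g' := hR.2
    exact etale_of_isPullback_thick sq hB hg

end Groth.Agent.S10599
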