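import Groth.Statements.S10611
import Groth.Agent.S10587
import Groth.Agent.S10589
import Groth.Agent.S10599
import Groth.Agent.S10649

set_option autoImplicit false
universe u
open CategoryTheory CategoryTheory.Limits AlgebraicGeometry
open AlgSp

namespace Groth.Agent.S10611

/-- Let iB : B ⟶ B' be a thickening of algebraic spaces over S (representable, every base change to a
scheme a surjective closed immersion), f' : X' ⟶ Y' a morphism of algebraic spaces over B' (via g' :
Y' ⟶ B') with Y' locally of finite type over B' and X' flat and locally of finite presentation over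
B', and f : X ⟶ Y, g : Y ⟶ B its base change to B (both squares to iB cartesian, iX ≫ f' = f ≫ iY).
Then f is proper if and only if f' is proper, and f is finite if and only if f' is finite. (The
published statement lists nine further properties with the same equivalence: representable by
schemes, quasi-compact, universally closed, separated, quasi-separated, surjective, universally
injective, affine and universally open. Since iX and iY are again thickenings and X = Y ×_{Y'} X',
those cases follow from the corresponding statements for morphisms of thickenings and are not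
restated here.) -/
theorem result {S : Scheme.{u}} {X X' Y Y' B B' : AlgSp.Space S} (iX : X ⟶ X') (iY : Y ⟶ Y') (iB : B ⟶ B')
    (f : X ⟶ Y) (f' : X' ⟶ Y') (g : Y ⟶ B) (g' : Y' ⟶ B')
    (hcX : IsPullback iX.hom (f ≫ g).hom (f' ≫ g').hom iB.hom) (hcY : IsPullback iY.hom g.hom g'.hom iB.hom)
    (w : iX ≫ f' = f ≫ iY)
    (hB : AlgSp.IsThickMor iB.hom)
    (hg' : AlgSp.LocP @LocallyOfFiniteType g'.hom)
    (hflat : AlgSp.LocP @Flat (f' ≫ g').hom) (hfp : AlgSp.LocP @LocallyOfFinitePresentation (f' ≫ g').hom) :
    (AlgSp.IsProperMor f.hom ↔ AlgSp.IsProperMor f'.hom) ∧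
    (AlgSp.IsFiniteMor f.hom ↔ AlgSp.IsFiniteMor f'.hom) := by
  have w' : iX.hom ≫ f'.hom = f.hom ≫ iY.hom := congrArg (fun φ => φ.hom) w
  have sqX : IsPullback iX.hom f.hom f'.hom iY.hom := IsPullback.of_bot hcX w' hcY
  have hiY : AlgSp.IsThickMor iY.hom := MorphismProperty.of_isPullback hcY.flip hB
  have hiX : AlgSp.IsThickMor iX.hom := MorphismProperty.of_isPullback hcX.flip hB
  have hlfp' : AlgSp.LocP @LocallyOfFinitePresentation f'.hom :=
    Groth.Agent.Lib.Helper31.AlgSpFlatAt.locP_lfp_of_comp f'.hom g'.hom X'.property Y'.property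
      B'.property hfp hg'
  have hlft' : AlgSp.LocP @LocallyOfFiniteType f'.hom :=
    Groth.Agent.Lib.Helper78.AlgSpMisc.locP_mono (fun _ _ h (hh : LocallyOfFinitePresentation h) =>
      (inferInstance : LocallyOfFiniteType h)) hlfp'
  have hlft : AlgSp.LocP @LocallyOfFiniteType f.hom :=
    Groth.Agent.Lib.Helper78.AlgSpLocP.locP_of_isPullback
      Groth.Agent.Lib.Helper78.AlgSpLocPLoft.etLocalST_loft sqX
      (Groth.Agent.Lib.Helper78.AlgSpFibre.repAll_of_isAlgSpace Y'.property)
      X'.property.atlas Y'.property.atlas hlft'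
  have t1 := Groth.Agent.S10587.result iX iY f f' hiX hiY w
  have t2 := Groth.Agent.S10589.result iX iY f f' hiX hiY w
  have t3 := Groth.Agent.S10599.result iX iY iB f f' g g' hcX hcY w hB hg' hflat hfp 0
  have hproper : AlgSp.IsProperMor f.hom ↔ AlgSp.IsProperMor f'.hom := by
    unfold AlgSp.IsProperMor AlgSp.IsFiniteTypeMor
    rw [t2.1, t1.2.1, t1.2.2.1, iff_true_intro hlft, iff_true_intro hlft']
  refine ⟨hproper, ?_⟩
  have e := (Groth.Agent.S10649.result f).out 0 1
  have e' := (Groth.Agent.S10649.result f').out 0 1
  rw [e, e', hproper, t3.2.2.1]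

end Groth.Agent.S10611
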