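import Groth.Statements.S10600
import Groth.Agent.Lib.Helper53.DeformComb
import Groth.Agent.S10611
import Groth.Agent.S10613
import Groth.Agent.S10599

set_option autoImplicit false
universe u
open CategoryTheory CategoryTheory.Limits AlgebraicGeometry
open AlgSp

namespace Groth.Agent.S10600

/-- Let iB : B ⟶ B' be a thickening of algebraic spaces over S (representable, every base change to a
scheme a surjective closed immersion), f' : X' ⟶ Y' a morphism of algebraic spaces over B' (via g' :
Y' ⟶ B') with Y' locally of finite type over B' and X' flat and locally of finite presentation over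
B', and f : X ⟶ Y, g : Y ⟶ B its base change to B (both squares to iB cartesian, iX ≫ f' = f ≫ iY).
Then f is an isomorphism, resp. an open immersion, resp. a monomorphism, resp. finite locally free,
resp. finite locally free of degree d, if and only if f' is. -/
theorem result {S : Scheme.{u}} {X X' Y Y' B B' : AlgSp.Space S} (iX : X ⟶ X') (iY : Y ⟶ Y') (iB : B ⟶ B')
    (f : X ⟶ Y) (f' : X' ⟶ Y') (g : Y ⟶ B) (g' : Y' ⟶ B')
    (hcX : IsPullback iX.hom (f ≫ g).hom (f' ≫ g').hom iB.hom) (hcY : IsPullback iY.hom g.hom g'.hom iB.hom)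
    (w : iX ≫ f' = f ≫ iY)
    (hB : AlgSp.IsThickMor iB.hom)
    (hg' : AlgSp.LocP @LocallyOfFiniteType g'.hom)
    (hflat : AlgSp.LocP @Flat (f' ≫ g').hom) (hfp : AlgSp.LocP @LocallyOfFinitePresentation (f' ≫ g').hom) :
    (IsIso f.hom ↔ IsIso f'.hom) ∧
    (AlgSp.RepWith @IsOpenImmersion f.hom ↔ AlgSp.RepWith @IsOpenImmersion f'.hom) ∧
    (Mono f.hom ↔ Mono f'.hom) ∧
    (AlgSp.IsFinLocFreeMor f.hom ↔ AlgSp.IsFinLocFreeMor f'.hom) ∧
    (∀ d : ℕ, AlgSp.IsFinLocFreeOfDegMor d f.hom ↔ AlgSp.IsFinLocFreeOfDegMor d f'.hom) := by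
  have w' : iX.hom ≫ f'.hom = f.hom ≫ iY.hom := congrArg (fun φ => φ.hom) w
  have sqX : IsPullback iX.hom f.hom f'.hom iY.hom := IsPullback.of_bot hcX w' hcY
  have hiY : AlgSp.IsThickMor iY.hom := MorphismProperty.of_isPullback hcY.flip hB
  have hiX : AlgSp.IsThickMor iX.hom := MorphismProperty.of_isPullback hcX.flip hB
  have hlfp' : AlgSp.LocP @LocallyOfFinitePresentation f'.hom :=
    Groth.Agent.Lib.Helper31.AlgSpFlatAt.locP_lfp_of_comp f'.hom g'.hom X'.property Y'.property
      B'.property hfp hg'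
  have hlft' : AlgSp.LocP @LocallyOfFiniteType f'.hom :=
    Groth.Agent.Lib.Helper78.AlgSpMisc.locP_mono (fun _ _ h (hh : LocallyOfFinitePresentation h) =>
      (inferInstance : LocallyOfFiniteType h)) hlfp'
  have hlft : AlgSp.LocP @LocallyOfFiniteType f.hom :=
    Groth.Agent.Lib.Helper78.AlgSpLocP.locP_of_isPullback
      Groth.Agent.Lib.Helper78.AlgSpLocPLoft.etLocalST_loft sqX
      (Groth.Agent.Lib.Helper78.AlgSpFibre.repAll_of_isAlgSpace Y'.property)
      X'.property.atlas Y'.property.atlas hlft'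
  have hlfp : AlgSp.LocP @LocallyOfFinitePresentation f.hom :=
    Groth.Agent.Lib.Helper78.AlgSpLocP.locP_of_isPullback
      Groth.Agent.Lib.Helper78.AlgSpLocPLofp.etLocalST_lofp sqX
      (Groth.Agent.Lib.Helper78.AlgSpFibre.repAll_of_isAlgSpace Y'.property)
      X'.property.atlas Y'.property.atlas hlfp'
  have t1 := Groth.Agent.S10587.result iX iY f f' hiX hiY w
  have t3 := Groth.Agent.S10599.result iX iY iB f f' g g' hcX hcY w hB hg' hflat hfp 0
  have hE : AlgSp.IsEtaleMor f.hom → AlgSp.IsEtaleMor f'.hom := t3.2.2.2.2.2.1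
  have hFin := (Groth.Agent.S10611.result iX iY iB f f' g g' hcX hcY w hB hg' hflat hfp).2
  have hFLF := Groth.Agent.Helper53.DeformComb.finLocFree_iff f f' hFin t3.2.1
    (iff_of_true hlfp hlfp')
  have hmono : Mono f.hom ↔ Mono f'.hom := by
    constructor
    · intro hm
      have s := Groth.Agent.S10613.result f
      have s' := Groth.Agent.S10613.result f'
      have h1 := s.1.1 (s.2.1.2 ⟨hlft, hm⟩)
      exact (s'.1.2 ⟨t3.2.2.2.2.1.1 h1.1, t1.2.2.2.1.1 h1.2⟩).2
    · intro hm
      exact MorphismProperty.of_isPullback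
        (P := MorphismProperty.monomorphisms (AlgSp.Sp S)) sqX
        (MorphismProperty.monomorphisms.infer_property _)
  exact ⟨Groth.Agent.Helper53.DeformComb.isIso_iff iX iY f f' hiX hiY sqX hE,
    Groth.Agent.Helper53.DeformComb.openImm_iff iX iY f f' hiX hiY sqX hE,
    hmono, hFLF,
    fun d => Groth.Agent.Helper53.DeformComb.finLocFreeOfDeg_iff iX iY f f' hiY sqX hFLF d⟩

end Groth.Agent.S10600
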