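import Groth.Statements.S10605
import Groth.Agent.S10534
import Groth.Agent.Lib.Helper53.ThickFpqc

set_option autoImplicit false
universe u
open CategoryTheory CategoryTheory.Limits AlgebraicGeometry
open AlgSp

namespace Groth.Agent.S10605

/-- The property of a morphism of algebraic spaces over S of being a thickening (representable, every
base change to a scheme a surjective closed immersion) is local on the base for the fpqc topology.
(The published statement also claims the same for first order thickenings; this row states only the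
thickening clause.) -/
theorem result {S : Scheme.{u}} :
    AlgSp.IsLocalOnBase (S := S) AlgSp.IsFpqcCover
      AlgSp.IsThickMor := by
  intro ι Y Yi g hY hYi hcov X f hX Xi p q hXi sq
  have h1 := Groth.Agent.S10534.result S Yi g hY hYi hcov f hX Xi p q hXi sq
  rw [Groth.Agent.Helper53.ThickFpqc.isThickMor_iff]
  constructor
  · rintro ⟨ha, hb⟩ i
    rw [Groth.Agent.Helper53.ThickFpqc.isThickMor_iff]
    refine ⟨h1.1 ha i, ?_⟩
    intro y
    obtain ⟨x, hx⟩ := hb (AlgSp.Points.map (g i) y)
    obtain ⟨w, -, hw⟩ := Groth.Agent.Lib.Helper52.exists_point_of_isPullback (sq i) x y hx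
    exact ⟨w, hw⟩
  · intro hp
    refine ⟨h1.2 fun i => ((Groth.Agent.Helper53.ThickFpqc.isThickMor_iff _).1 (hp i)).1, ?_⟩
    intro y
    obtain ⟨i, yi, rfl⟩ :=
      Groth.Agent.Helper53.ThickFpqc.exists_mem_range_of_isFpqcCover Yi g hcov y
    obtain ⟨xi, rfl⟩ := ((Groth.Agent.Helper53.ThickFpqc.isThickMor_iff _).1 (hp i)).2 yi
    refine ⟨AlgSp.Points.map (q i) xi, ?_⟩
    rw [← AlgSp.Points.map_comp, ← AlgSp.Points.map_comp, (sq i).w]

end Groth.Agent.S10605
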