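import Groth.Statements.S10609
import Groth.Agent.Lib.Helper31.AlgSpFlatLocusBC

set_option autoImplicit false
universe u
open CategoryTheory CategoryTheory.Limits AlgebraicGeometry
open AlgSp

namespace Groth.Agent.S10609

open Groth.Agent.Lib.Helper31.AlgSpFlatAt in

/-- Let f : X ⟶ Y and h : Y ⟶ Z be morphisms of algebraic spaces over S with X locally of finite
presentation and flat over Z and Y locally of finite type over Z. Then the set of points of X at
which f is flat is open in the space of points of X, and its formation commutes with base change: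
for Z' ⟶ Z and pullback squares Y' = Y ×_Z Z', X' = X ×_Y Y', the set of points of X' at which X' ⟶
Y' is flat is the inverse image of that set under the map on points of X' ⟶ X. -/
theorem result {S : Scheme.{u}} {X Y Z : AlgSp.Space S} (f : X ⟶ Y) (h : Y ⟶ Z)
    (hfp : AlgSp.LocP @LocallyOfFinitePresentation (f ≫ h).hom) (hfl : AlgSp.LocP @Flat (f ≫ h).hom)
    (hft : AlgSp.LocP @LocallyOfFiniteType h.hom) :
    IsOpen {x : AlgSp.Points X.obj | AlgSp.IsFlatAtMor f.hom x} ∧
    ∀ (X' Y' Z' : AlgSp.Space S) (g : Z' ⟶ Z) (f' : X' ⟶ Y') (h' : Y' ⟶ Z') (pX : X' ⟶ X) (pY : Y' ⟶ Y),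
      IsPullback pY.hom h'.hom h.hom g.hom → IsPullback pX.hom f'.hom f.hom pY.hom →
      {x' : AlgSp.Points X'.obj | AlgSp.IsFlatAtMor f'.hom x'} =
        AlgSp.Points.map pX.hom ⁻¹' {x : AlgSp.Points X.obj | AlgSp.IsFlatAtMor f.hom x} := by
  obtain ⟨G⟩ := exists_goodChart f.hom h.hom X.property Y.property Z.property
  have hfp' : LocP @LocallyOfFinitePresentation (f.hom ≫ h.hom) := hfp
  have hfl' : LocP @Flat (f.hom ≫ h.hom) := hfl
  refine ⟨isOpen_isFlatAtMor G hfp' hfl' hft, ?_⟩
  intro X' Y' Z' g f' h' pX pY sqY sqX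
  ext x'
  exact isFlatAtMor_baseChange_iff G hfp' hfl' hft Z'.property g.hom f'.hom h'.hom pX.hom pY.hom
    sqY sqX x'

end Groth.Agent.S10609
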