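import Groth.Statements.S10622
import Groth.Agent.Lib.Helper78.AlgSpFDesc
import Groth.Agent.Lib.Helper78.AlgSpInfBridge3
import Groth.Agent.Lib.Helper78.AlgSpBasic

set_option autoImplicit false
universe u
open CategoryTheory CategoryTheory.Limits AlgebraicGeometry
open AlgSp

namespace Groth.Agent.S10622

/-- For a morphism f : X ⟶ Y of algebraic spaces over S, these conditions are equivalent: f is formally
etale (lifting along square-zero thickenings of affine schemes); for every scheme U with a
representable etale U ⟶ X, every scheme V with a representable etale V ⟶ Y and every compatible U ⟶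
V, the morphism of schemes U ⟶ V is formally etale; and this holds as soon as it holds for one such
diagram in which both charts are moreover surjective. -/
theorem result {S : Scheme.{u}} {X Y : AlgSp.Space S} (f : X ⟶ Y) :
    (AlgSp.IsFormallyEtaleMor f.hom ↔ AlgSp.LocP @MoreMor.IsFormallyEtaleHom f.hom) ∧
    (∀ (U V : Over S) (a : (AlgSp.yon S).obj U ⟶ X.obj) (b : (AlgSp.yon S).obj V ⟶ Y.obj) (h : U ⟶ V),
      AlgSp.RepWith @Etale a → AlgSp.RepWith @Surjective a → AlgSp.RepWith @Etale b → AlgSp.RepWith @Surjective b →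
      a ≫ f.hom = (AlgSp.yon S).map h ≫ b → MoreMor.IsFormallyEtaleHom h.left → AlgSp.IsFormallyEtaleMor f.hom) := by
  open Groth.Agent.Lib.Helper78.AlgSpFEtale Groth.Agent.Lib.Helper78.AlgSpInfSq
    Groth.Agent.Lib.Helper78.AlgSpInfBridge Groth.Agent.Lib.Helper78.AlgSpFDesc in
  have one : ∀ (U V : Over S) (a : (AlgSp.yon S).obj U ⟶ X.obj) (b : (AlgSp.yon S).obj V ⟶ Y.obj) (h : U ⟶ V),
      AlgSp.RepWith @Etale a → AlgSp.RepWith @Surjective a → AlgSp.RepWith @Etale b →
      a ≫ f.hom = (AlgSp.yon S).map h ≫ b → MoreMor.IsFormallyEtaleHom h.left → AlgSp.IsFormallyEtaleMor f.hom := by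
    intro U V a b h ha has hb comm hh
    have h1 : AlgSp.IsFormallyEtaleMor ((AlgSp.yon S).map h ≫ b) :=
      (Groth.Agent.S10619.result _ b).2.1 (isFormallyEtaleMor_yon_of_isFormallyEtaleHom h hh)
        (isFormallyEtaleMor_of_repWith_etale hb)
    rw [← comm] at h1
    exact isFormallyEtaleMor_of_etale_cover a ha has f.hom h1
  refine ⟨⟨fun hf => ?_, fun hL => ?_⟩, fun U V a b h ha has hb _ comm hh => one U V a b h ha has hb comm hh⟩
  · intro U V a b h ha hb comm
    have h1 : AlgSp.IsFormallyEtaleMor (a ≫ f.hom) :=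
      (Groth.Agent.S10619.result a f.hom).2.1 (isFormallyEtaleMor_of_repWith_etale ha) hf
    rw [comm] at h1
    have h2 : AlgSp.IsFormallyEtaleMor ((AlgSp.yon S).map h) :=
      (Groth.Agent.S10618.result ((AlgSp.yon S).map h) b
        (isFormallyUnramifiedMor_of_isFormallyEtaleMor (isFormallyEtaleMor_of_repWith_etale hb))).2.1 h1
    exact isFormallyEtaleHom_of_isFormallyEtaleMor_yon h h2
  · obtain ⟨U₀, a₀, ha₀, ha₀s⟩ := X.property.atlas
    obtain ⟨V, b, hb, hbs⟩ := Y.property.atlas
    obtain ⟨U, j, h, sq, hae, has⟩ :=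
      Groth.Agent.Lib.Helper78.AlgSpBasic.exists_chart_diagram f.hom a₀ ha₀ b hb
    have comm : ((AlgSp.yon S).map j ≫ a₀) ≫ f.hom = (AlgSp.yon S).map h ≫ b := by
      rw [Category.assoc]; exact sq.w.symm
    exact one U V _ b h hae (has ha₀s hbs) hb comm (hL _ b h hae hb comm)

end Groth.Agent.S10622
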