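import Groth.Statements.S10627
import Groth.Agent.Lib.Helper78.AlgSpFEtale
import Groth.Agent.Lib.Helper78.AlgSpInfBridge
import Groth.Agent.S10618
import Groth.Agent.S10619
import Groth.Agent.S1489

set_option autoImplicit false
universe u
open CategoryTheory CategoryTheory.Limits AlgebraicGeometry
open AlgSp

namespace Groth.Agent.S10627

/-- A morphism f : X ⟶ Y of algebraic spaces over S is etale if and only if it is locally of finite
presentation and formally etale (lifting sense). -/
theorem result {S : Scheme.{u}} {X Y : AlgSp.Space S} (f : X ⟶ Y) :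
    AlgSp.IsEtaleMor f.hom ↔ AlgSp.LocP @LocallyOfFinitePresentation f.hom ∧ AlgSp.IsFormallyEtaleMor f.hom := by
  open Groth.Agent.Lib.Helper78.AlgSpFEtale Groth.Agent.Lib.Helper78.AlgSpInfSq
    Groth.Agent.Lib.Helper78.AlgSpInfBridge Groth.Agent.Lib.Helper78.AlgSpMisc in
  constructor
  · intro hf
    have hL : AlgSp.LocP @Etale f.hom := (isEtaleMor_iff_locP Y.property f.hom).1 hf
    refine ⟨locP_mono ?_ hL, isFormallyEtaleMor_of_isEtaleMor X.property Y.property hf⟩
    intro A B g hg
    have : Etale g := hg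
    exact (inferInstance : LocallyOfFinitePresentation g)
  · rintro ⟨hfp, hfe⟩
    refine (isEtaleMor_iff_locP Y.property f.hom).2 ?_
    intro U V a b h ha hb comm
    have hae : AlgSp.IsFormallyEtaleMor a :=
      isFormallyEtaleMor_of_isEtaleMor (AlgSp.IsAlgSpace.yon_obj U) X.property
        (Groth.Agent.Lib.Helper30.isEtaleMor_of_repWith_etale ha)
    have hbe : AlgSp.IsFormallyEtaleMor b :=
      isFormallyEtaleMor_of_isEtaleMor (AlgSp.IsAlgSpace.yon_obj V) Y.property
        (Groth.Agent.Lib.Helper30.isEtaleMor_of_repWith_etale hb)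
    have h1 : AlgSp.IsFormallyEtaleMor (a ≫ f.hom) := (Groth.Agent.S10619.result a f.hom).2.1 hae hfe
    rw [comm] at h1
    have h2 : AlgSp.IsFormallyEtaleMor ((AlgSp.yon S).map h) :=
      (Groth.Agent.S10618.result ((AlgSp.yon S).map h) b
        (isFormallyUnramifiedMor_of_isFormallyEtaleMor hbe)).2.1 h1
    have h3 := isFormallyEtaleHom_of_isFormallyEtaleMor_yon h h2
    have h4 : LocallyOfFinitePresentation h.left := hfp a b h ha hb comm
    exact (Groth.Agent.S1489.result h.left).2 ⟨h4, h3⟩

end Groth.Agent.S10627
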