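import Groth.Statements.S10636
import Groth.Agent.Lib.Helper78.AffClosed
import Groth.Agent.Lib.Helper78.AlgSpFOBaseChange

set_option autoImplicit false
universe u
open CategoryTheory CategoryTheory.Limits AlgebraicGeometry
open AlgSp

namespace Groth.Agent.S10636

/-- Take a formally unramified morphism h : Z ⟶ X of algebraic spaces over S and let (i : Z ⟶ Z', h' :
Z' ⟶ X) be a universal first order thickening of Z over X. Then h' is formally unramified. -/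
theorem result {S : Scheme.{u}} {Z Z' X : AlgSp.Space S} (h : Z ⟶ X)
    (hh : AlgSp.IsFormallyUnramifiedMor h.hom) (i : Z ⟶ Z') (h' : Z' ⟶ X) (HU : AlgSp.IsUnivFOThick h.hom i.hom h'.hom) :
    AlgSp.IsFormallyUnramifiedMor h'.hom := by
  open Groth.Agent.Lib.Helper78.AffClosed Groth.Agent.Lib.Helper78.AlgSpLiftGlue
    Groth.Agent.Lib.Helper78.AlgSpFOBaseChange in
  intro sq l₁ l₂ h1 h2 h1' h2'
  have hI2 : sq.I ^ 2 = ⊥ := sq.sq_zero
  -- the closed subscheme of T' on which l₁ factors through Z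
  have sqk := HU.1.1.1.isPullback l₁
  haveI : IsClosedImmersion (HU.1.1.1.snd l₁).left := (HU.1.1.2 l₁ _ _ sqk).1
  obtain ⟨J, Ψ, hΨ, hJz⟩ := exists_ideal_of_closedImmersion sq.str (HU.1.1.1.snd l₁)
  have hJ2 : J ^ 2 = ⊥ := hJz (ker_mul_ker_eq_bot_of_isFOThickMor Z'.property HU.1 l₁ _ _ sqk)
  let a₁ : (AlgSp.yon S).obj (TK sq.str J) ⟶ Z.obj := (AlgSp.yon S).map Ψ.inv ≫ HU.1.1.1.fst l₁
  have ha₁ : a₁ ≫ i.hom = (AlgSp.yon S).map (ιK sq.str J) ≫ l₁ := by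
    rw [Category.assoc, sqk.w, ← Category.assoc, ← Functor.map_comp, ← hΨ, ← Category.assoc,
      Iso.inv_hom_id, Category.id_comp]
  -- the ideals
  have hIJ₀ : sq.I ≤ sq.I ⊔ J := le_sup_left
  have hJJ₀ : J ≤ sq.I ⊔ J := le_sup_right
  have hK₀ : (sq.I ⊔ J) ^ 2 ≤ sq.I ⊔ J := Ideal.pow_le_self (by norm_num)
  have hKJ : (sq.I ⊔ J) ^ 2 ≤ J := by
    rw [pow_two, Ideal.sup_mul, Ideal.mul_sup, Ideal.mul_sup, ← pow_two, ← pow_two, hI2, hJ2]
    simp only [bot_sup_eq, sup_bot_eq, sup_le_iff]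
    refine ⟨?_, ?_⟩
    · exact Ideal.mul_le_right
    · exact Ideal.mul_le_left
  -- restrictions agree on T, hence on T₀
  have hres : (AlgSp.yon S).map (ιK sq.str (sq.I ⊔ J)) ≫ l₂ =
      (AlgSp.yon S).map (ιK sq.str (sq.I ⊔ J)) ≫ l₁ := by
    rw [← fac_ι sq.str hIJ₀, Functor.map_comp, Category.assoc, Category.assoc]
    congr 1
    exact h1'.trans h1.symm
  have hcomp : i.hom ≫ h'.hom = h.hom := HU.2.1
  -- the universal property on T₀ ⊂ T''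
  have hFO := isFOThickMor_fac sq.str hK₀ le_rfl
  let a₀ : (AlgSp.yon S).obj (TK sq.str (sq.I ⊔ J)) ⟶ Z.obj := (AlgSp.yon S).map (fac sq.str hJJ₀) ≫ a₁
  have ha₀ : a₀ ≫ i.hom = (AlgSp.yon S).map (ιK sq.str (sq.I ⊔ J)) ≫ l₁ := by
    rw [Category.assoc, ha₁, ← Category.assoc, ← Functor.map_comp, fac_ι]
  have comm0 : (AlgSp.yon S).map (fac sq.str hK₀) ≫ ((AlgSp.yon S).map (ιK sq.str ((sq.I ⊔ J) ^ 2)) ≫ sq.bot) =
      a₀ ≫ h.hom := by
    rw [← hcomp, ← Category.assoc a₀, ha₀, Category.assoc, h2, ← Category.assoc, ← Functor.map_comp,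
      fac_ι]
  obtain ⟨m, -, hmu⟩ := HU.2.2 (AlgSp.IsAlgSpace.yon_obj _) (AlgSp.IsAlgSpace.yon_obj _) _ a₀ _ hFO comm0
  have e1 : (AlgSp.yon S).map (ιK sq.str ((sq.I ⊔ J) ^ 2)) ≫ l₁ = m := by
    refine hmu _ ⟨?_, by rw [Category.assoc, h2]⟩
    rw [← Category.assoc, ← Functor.map_comp, fac_ι, ha₀]
  have e2 : (AlgSp.yon S).map (ιK sq.str ((sq.I ⊔ J) ^ 2)) ≫ l₂ = m := by
    refine hmu _ ⟨?_, by rw [Category.assoc, h2']⟩
    rw [← Category.assoc, ← Functor.map_comp, fac_ι, ha₀, hres]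
  -- hence l₂ restricted to T₁ factors through Z in the same way as l₁
  have hres₁ : (AlgSp.yon S).map (ιK sq.str J) ≫ l₂ = a₁ ≫ i.hom := by
    rw [ha₁, ← fac_ι sq.str hKJ, Functor.map_comp, Category.assoc, Category.assoc, e1, e2]
  -- the universal property on T₁ ⊂ T'
  have hFO₁ : AlgSp.IsFOThickMor ((AlgSp.yon S).map (ιK sq.str J)) :=
    isFOThickMor_yon_map _
      (Groth.Agent.Lib.Helper61.ThickBC.isFirstOrderThickening_SpecMap_mk J hJ2).2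
  have comm1 : (AlgSp.yon S).map (ιK sq.str J) ≫ sq.bot = a₁ ≫ h.hom := by
    rw [← hcomp, ← Category.assoc a₁, ha₁, Category.assoc, h2]
  obtain ⟨L, -, hLu⟩ := HU.2.2 (AlgSp.IsAlgSpace.yon_obj _) (AlgSp.IsAlgSpace.yon_obj _) _ a₁ _ hFO₁ comm1
  rw [hLu l₁ ⟨ha₁.symm, h2⟩, hLu l₂ ⟨hres₁, h2'⟩]

end Groth.Agent.S10636
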