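import Groth.Statements.S10638
import Groth.Agent.Lib.Helper78.UnivThickEt
import Groth.Agent.S10619
import Groth.Agent.S10618
import Groth.Agent.S10631
import Groth.Agent.Lib.Helper30.AlgSpUnram

set_option autoImplicit false
universe u
open CategoryTheory CategoryTheory.Limits AlgebraicGeometry
open AlgSp

namespace Groth.Agent.S10638

/-- Take a formally unramified morphism h : Z ⟶ X of algebraic spaces over S with universal first order
thickening (iZ : Z ⟶ Z', hZ' : Z' ⟶ X). Let v : V ⟶ Z and w : U ⟶ X be etale morphisms of algebraic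
spaces and ψ : V ⟶ U with ψ ≫ w = v ≫ h. Then ψ is formally unramified, and for a universal first
order thickening (iV : V ⟶ V', hV' : V' ⟶ U) of V over U, every e' : V' ⟶ Z' with iV ≫ e' = v ≫ iZ
and e' ≫ hZ' = hV' ≫ w (there is exactly one) is etale. (The published statement also identifies the
conormal sheaf of V over U with the restriction of that of Z over X; this row omits that clause.) -/
theorem result {S : Scheme.{u}} {Z X Z' V U V' : AlgSp.Space S} (h : Z ⟶ X)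
    (hh : AlgSp.IsFormallyUnramifiedMor h.hom) (iZ : Z ⟶ Z') (hZ' : Z' ⟶ X) (HZ : AlgSp.IsUnivFOThick h.hom iZ.hom hZ'.hom)
    (v : V ⟶ Z) (w : U ⟶ X) (hv : AlgSp.IsEtaleMor v.hom) (hw : AlgSp.IsEtaleMor w.hom) (ψ : V ⟶ U)
    (c : ψ ≫ w = v ≫ h) :
    AlgSp.IsFormallyUnramifiedMor ψ.hom ∧
    ∀ (iV : V ⟶ V') (hV' : V' ⟶ U), AlgSp.IsUnivFOThick ψ.hom iV.hom hV'.hom →
      ∀ e' : V' ⟶ Z', iV ≫ e' = v ≫ iZ → e' ≫ hZ' = hV' ≫ w → AlgSp.IsEtaleMor e'.hom := by
  open Groth.Agent.Lib.Helper78.AlgSpInfSq Groth.Agent.Lib.Helper78.UnivThickEt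
    Groth.Agent.Lib.Helper51 in
  have hwFE : AlgSp.IsFormallyEtaleMor w.hom :=
    Groth.Agent.Lib.Helper78.AlgSpFEtale.isFormallyEtaleMor_of_isEtaleMor U.property X.property hw
  have hvFE : AlgSp.IsFormallyEtaleMor v.hom :=
    Groth.Agent.Lib.Helper78.AlgSpFEtale.isFormallyEtaleMor_of_isEtaleMor V.property Z.property hv
  have hc : ψ.hom ≫ w.hom = v.hom ≫ h.hom := congrArg (fun f => f.hom) c
  have hψ : AlgSp.IsFormallyUnramifiedMor ψ.hom := by
    have h1 : AlgSp.IsFormallyUnramifiedMor (v.hom ≫ h.hom) :=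
      (Groth.Agent.S10619.result v.hom h.hom).2.2
        (isFormallyUnramifiedMor_of_isFormallyEtaleMor hvFE) hh
    rw [← hc] at h1
    exact (Groth.Agent.S10618.result ψ.hom w.hom
      (isFormallyUnramifiedMor_of_isFormallyEtaleMor hwFE)).1 h1
  refine ⟨hψ, ?_⟩
  intro iV hV' HV e' he1 he2
  have he1' : iV.hom ≫ e'.hom = v.hom ≫ iZ.hom := congrArg (fun f => f.hom) he1
  have he2' : e'.hom ≫ hZ'.hom = hV'.hom ≫ w.hom := congrArg (fun f => f.hom) he2
  have HVX : AlgSp.IsUnivFOThick (ψ.hom ≫ w.hom) iV.hom (hV'.hom ≫ w.hom) :=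
    Groth.Agent.S10631.result ψ w iV hV' HV hwFE
  refine isEtaleMor_of_locP Z'.property ?_
  intro A B a b g ha hb hab
  have sqA := HV.1.1.1.isPullback a
  have sqB := HZ.1.1.1.isPullback b
  have hcomm : (HV.1.1.1.fst a ≫ v.hom) ≫ iZ.hom =
      (AlgSp.yon S).map (HV.1.1.1.snd a ≫ g) ≫ b := by
    rw [Category.assoc, ← he1', ← Category.assoc, sqA.w, Category.assoc, hab,
      (AlgSp.yon S).map_comp, Category.assoc]
  obtain ⟨g₀, hg₀⟩ := (AlgSp.yon S).map_surjective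
    (sqB.lift (HV.1.1.1.fst a ≫ v.hom) ((AlgSp.yon S).map (HV.1.1.1.snd a ≫ g)) hcomm)
  have hg₀1 : (AlgSp.yon S).map g₀ ≫ HZ.1.1.1.fst b = HV.1.1.1.fst a ≫ v.hom := by
    rw [hg₀, sqB.lift_fst]
  have hg₀2 : g₀ ≫ HZ.1.1.1.snd b = HV.1.1.1.snd a ≫ g := by
    apply (AlgSp.yon S).map_injective
    rw [(AlgSp.yon S).map_comp, hg₀, sqB.lift_snd]
  have hfA : AlgSp.RepWith @Etale (HV.1.1.1.fst a) := MorphismProperty.of_isPullback sqA.flip ha
  have hfB : AlgSp.RepWith @Etale (HZ.1.1.1.fst b) := MorphismProperty.of_isPullback sqB.flip hb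
  have hg₀e : Etale g₀.left :=
    (isEtaleMor_iff_locP Z.property).1 hv (HV.1.1.1.fst a) (HZ.1.1.1.fst b) g₀ hfA hfB hg₀1.symm
  have HA := isUnivFOThick_of_etale_pullback (AlgSp.IsAlgSpace.yon_obj A) V'.property
    (HV.1.1.1.fst a) (ψ.hom ≫ w.hom) iV.hom (hV'.hom ≫ w.hom) HVX
    ((AlgSp.yon S).map (HV.1.1.1.snd a)) a
    (Groth.Agent.Lib.Helper30.isEtaleMor_of_repWith_etale ha) sqA
  have HB := isUnivFOThick_of_etale_pullback (AlgSp.IsAlgSpace.yon_obj B) Z'.property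
    (HZ.1.1.1.fst b) h.hom iZ.hom hZ'.hom HZ
    ((AlgSp.yon S).map (HZ.1.1.1.snd b)) b
    (Groth.Agent.Lib.Helper30.isEtaleMor_of_repWith_etale hb) sqB
  rw [← HA.2.1] at HA
  rw [← HB.2.1] at HB
  refine etale_of_isUnivFOThick (HV.1.1.1.snd a) (HZ.1.1.1.snd b) _ _ HA HB g g₀ hg₀2 hg₀e ?_
  rw [← Category.assoc, ← hab, Category.assoc, he2']

end Groth.Agent.S10638
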