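import Groth.Statements.S10640
import Groth.Agent.Lib.Helper98.AlgSpUnram
import Groth.Agent.Lib.Helper31.AlgSpWhere
import Groth.Agent.Lib.Helper30.AlgSpWhereUnr
import Groth.Agent.S9938

set_option autoImplicit false
set_option maxHeartbeats 1600000
universe u
open CategoryTheory CategoryTheory.Limits AlgebraicGeometry
open AlgSp

namespace Groth.Agent.S10640

open Groth.Agent.Lib.Helper31.AlgSpFlatAt Groth.Agent.Lib.Helper52 Groth.Agent.Lib.Helper51
  Groth.Agent.Lib.Helper98.AlgSpPtLocal Groth.Agent.Lib.Helper98.AlgSpUnram in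
/-- For morphisms f : X ⟶ Y, p : X ⟶ Z and q : Y ⟶ Z of algebraic spaces over S with f ≫ q = p, write XX
= X ×_Y X with projections pr0, pr1, and assume that p is closed and locally of finite type and that
the composite XX ⟶ X ⟶ Z (through pr1 and p) is closed as well. Then there is an open subspace W of
Z with the following property: a morphism of algebraic spaces g : Z' ⟶ Z factors through W exactly
when the base change X' ⟶ Y' of f along g is unramified and universally injective. Here the base
change of f along g is any f' : X' ⟶ Y' obtained from pullback squares Y' = Y ×_Z Z' and X' = X ×_Y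
Y' of algebraic spaces over S, and W ⊂ Z is given as a representable open immersion w : W ⟶ Z. -/
theorem result {S : Scheme.{u}} {X Y Z : AlgSp.Space S}
    (f : X ⟶ Y) (p : X ⟶ Z) (q : Y ⟶ Z) (hc : f ≫ q = p)
    (XX : AlgSp.Space S) (pr0 pr1 : XX ⟶ X) (hXX : IsPullback pr0.hom pr1.hom f.hom f.hom)
    (hp1 : AlgSp.LocP @LocallyOfFiniteType p.hom) (hp2 : AlgSp.IsClosedMor p.hom)
    (hp3 : AlgSp.IsClosedMor (pr1 ≫ p).hom) :
    ∃ (W : AlgSp.Space S) (w : W ⟶ Z), AlgSp.RepWith @IsOpenImmersion w.hom ∧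
      ∀ (Z' : AlgSp.Space S) (g : Z' ⟶ Z),
        (∃ k : Z' ⟶ W, k ≫ w = g) ↔
          ∀ (Y' : AlgSp.Space S) (gY : Y' ⟶ Y) (q' : Y' ⟶ Z'),
            IsPullback gY.hom q'.hom q.hom g.hom →
            ∀ (X' : AlgSp.Space S) (gX : X' ⟶ X) (f' : X' ⟶ Y'),
              IsPullback gX.hom f'.hom f.hom gY.hom →
                (AlgSp.LocP (@LocallyOfFiniteType ⊓ @FormallyUnramified) f'.hom ∧ AlgSp.IsUnivInjectiveMor f'.hom) := by
  subst hc
  obtain ⟨G⟩ := exists_goodChart f.hom q.hom X.property Y.property Z.property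
  have hkl : LocallyOfFiniteType (G.k.left ≫ G.l.left) :=
    hp1 G.a G.c (G.k ≫ G.l) G.ha G.hc G.comm_fh
  haveI : LocallyOfFiniteType G.k.left := locallyOfFiniteType_of_comp G.k.left G.l.left
  have hbc : ∀ {U'' V'' : Scheme.{u}} (mU : U'' ⟶ G.U.left) (k'' : U'' ⟶ V'') (mV : V'' ⟶ G.V.left),
      IsPullback mU k'' G.k.left mV → ∀ u'' : U'', UnrNear _ _ k'' u'' ↔ UnrNear _ _ G.k.left (mU u'') :=
    fun mU k'' mV sq u'' => unrNear_baseChange_iff G.k.left mU k'' mV sq u''
  have hopen : IsOpen {x : Points X.obj | HasAtMor UnrNear f.hom x} :=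
    isOpen_hasAtMor etLocalPt_unrNear G (isOpen_unrNear _)
  -- the diagonal
  let d : X.obj ⟶ XX.obj := hXX.lift (𝟙 _) (𝟙 _) rfl
  have d0 : d ≫ pr0.hom = 𝟙 _ := hXX.lift_fst _ _ _
  have d1 : d ≫ pr1.hom = 𝟙 _ := hXX.lift_snd _ _ _
  have hDopen : IsOpen (Points.map d '' {x : Points X.obj | HasAtMor UnrNear f.hom x}) :=
    Groth.Agent.Lib.Helper30.WhereUnr.isOpen_image_diagonal_of_unrNear X.property Y.property f.hom
      hXX d d0 d1 _ hopen (fun x hx => hx)
  have hclosed1 : IsClosed (Points.map (f ≫ q).hom '' {x : Points X.obj | HasAtMor UnrNear f.hom x}ᶜ) :=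
    hp2 _ hopen.isClosed_compl
  have hclosed2 : IsClosed (Points.map (pr1 ≫ f ≫ q).hom ''
      (Points.map d '' {x : Points X.obj | HasAtMor UnrNear f.hom x})ᶜ) :=
    hp3 _ hDopen.isClosed_compl
  obtain ⟨W, w, hw, hW⟩ := exists_open_where Z _ (hclosed1.union hclosed2)
  refine ⟨W, w, hw, fun Z' g => (hW Z' g).trans ?_⟩
  constructor
  · intro H Y' gY q' sqY X' gX f' sqX
    have hunr : ∀ x', HasAtMor UnrNear f'.hom x' := by
      intro x'
      rw [hasAtMor_baseChange_iff etLocalPt_unrNear G hbc Z'.property g.hom f'.hom q'.hom gX.hom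
        gY.hom sqY sqX x']
      by_contra hcon
      apply H (Points.map q'.hom (Points.map f'.hom x'))
      left
      refine ⟨Points.map gX.hom x', hcon, ?_⟩
      have e : gX.hom ≫ (f ≫ q).hom = (f'.hom ≫ q'.hom) ≫ g.hom := by
        change gX.hom ≫ f.hom ≫ q.hom = _
        rw [← Category.assoc, sqX.w, Category.assoc, sqY.w, Category.assoc]
      rw [← Points.map_comp, ← Points.map_comp, ← Points.map_comp, e, Category.assoc]
    refine ⟨(locP_unram_iff X'.property Y'.property f'.hom).2 hunr, ?_⟩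
    rw [(Groth.Agent.S9938.result f').2]
    intro ξ'
    have hXX' := IsPullback.of_hasPullback f'.hom f'.hom
    have wX : (pullback.fst f'.hom f'.hom ≫ gX.hom) ≫ f.hom =
        (pullback.snd f'.hom f'.hom ≫ gX.hom) ≫ f.hom := by
      rw [Category.assoc, Category.assoc, sqX.w, ← Category.assoc, ← Category.assoc, hXX'.w]
    let gXX : pullback f'.hom f'.hom ⟶ XX.obj := hXX.lift _ _ wX
    have g0 : gXX ≫ pr0.hom = pullback.fst f'.hom f'.hom ≫ gX.hom := hXX.lift_fst _ _ _
    have g1 : gXX ≫ pr1.hom = pullback.snd f'.hom f'.hom ≫ gX.hom := hXX.lift_snd _ _ _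
    have hd : pullback.diagonal f'.hom ≫ gXX = gX.hom ≫ d := by
      apply hXX.hom_ext
      · rw [Category.assoc, g0, ← Category.assoc, pullback.diagonal_fst, Category.id_comp,
          Category.assoc, d0, Category.comp_id]
      · rw [Category.assoc, g1, ← Category.assoc, pullback.diagonal_snd, Category.id_comp,
          Category.assoc, d1, Category.comp_id]
    have sqD := Groth.Agent.Lib.Helper30.WhereUnr.isPullback_diagonal_baseChange sqX hXX hXX' gXX g0 g1
      d d0 (pullback.diagonal f'.hom) (pullback.diagonal_fst _) hd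
    -- the image of ξ' in XX lies in the image of the diagonal
    have hmem : Points.map gXX ξ' ∈ Points.map d '' {x : Points X.obj | HasAtMor UnrNear f.hom x} := by
      by_contra hcon
      apply H (Points.map (pullback.snd f'.hom f'.hom ≫ f'.hom ≫ q'.hom) ξ')
      right
      refine ⟨Points.map gXX ξ', hcon, ?_⟩
      have e : gXX ≫ (pr1 ≫ f ≫ q).hom = (pullback.snd f'.hom f'.hom ≫ f'.hom ≫ q'.hom) ≫ g.hom := by
        change gXX ≫ pr1.hom ≫ f.hom ≫ q.hom = _
        rw [← Category.assoc, g1, Category.assoc, ← Category.assoc gX.hom, sqX.w, Category.assoc,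
          sqY.w, Category.assoc, Category.assoc]
      rw [← Points.map_comp, ← Points.map_comp, e]
    obtain ⟨x, _, hx⟩ := hmem
    obtain ⟨x', hx'1, _⟩ := exists_point_of_isPullback sqD ξ' x hx.symm
    exact ⟨x', hx'1⟩
  · intro H z'
    -- build the base change
    have sqY := IsPullback.of_hasPullback q.hom g.hom
    let Y' : AlgSp.Space S := ⟨pullback q.hom g.hom,
      Groth.Agent.Lib.Helper78.AlgSpFibre.isAlgSpace_of_isPullback sqY Z.property.diag Y.property
        Z'.property⟩
    let gY : Y' ⟶ Y := ObjectProperty.homMk (pullback.fst q.hom g.hom)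
    let q' : Y' ⟶ Z' := ObjectProperty.homMk (pullback.snd q.hom g.hom)
    have sqX := IsPullback.of_hasPullback f.hom gY.hom
    let X' : AlgSp.Space S := ⟨pullback f.hom gY.hom,
      Groth.Agent.Lib.Helper78.AlgSpFibre.isAlgSpace_of_isPullback sqX Y.property.diag X.property
        Y'.property⟩
    let gX : X' ⟶ X := ObjectProperty.homMk (pullback.fst f.hom gY.hom)
    let f' : X' ⟶ Y' := ObjectProperty.homMk (pullback.snd f.hom gY.hom)
    replace sqX : IsPullback gX.hom f'.hom f.hom gY.hom := sqX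
    replace sqY : IsPullback gY.hom q'.hom q.hom g.hom := sqY
    obtain ⟨hun', hinj'⟩ := H Y' gY q' sqY X' gX f' sqX
    have hunr' : ∀ x', HasAtMor UnrNear f'.hom x' :=
      (locP_unram_iff X'.property Y'.property f'.hom).1 hun'
    have hsurj : AlgSp.IsSurjectiveMor (pullback.diagonal f'.hom) :=
      (Groth.Agent.S9938.result f').2.1 hinj'
    have big : IsPullback gX.hom (f'.hom ≫ q'.hom) (f.hom ≫ q.hom) g.hom := sqX.paste_vert sqY
    rintro (⟨x, hx, hxz⟩ | ⟨ξ, hξ, hξz⟩)
    · obtain ⟨x', hx'1, hx'2⟩ := exists_point_of_isPullback big x z' hxz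
      apply hx
      show HasAtMor UnrNear f.hom x
      rw [← hx'1, ← hasAtMor_baseChange_iff etLocalPt_unrNear G hbc Z'.property g.hom f'.hom q'.hom
        gX.hom gY.hom sqY sqX x']
      exact hunr' x'
    · have hXX' := IsPullback.of_hasPullback f'.hom f'.hom
      have wX : (pullback.fst f'.hom f'.hom ≫ gX.hom) ≫ f.hom =
          (pullback.snd f'.hom f'.hom ≫ gX.hom) ≫ f.hom := by
        rw [Category.assoc, Category.assoc, sqX.w, ← Category.assoc, ← Category.assoc, hXX'.w]
      let gXX : pullback f'.hom f'.hom ⟶ XX.obj := hXX.lift _ _ wX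
      have g0 : gXX ≫ pr0.hom = pullback.fst f'.hom f'.hom ≫ gX.hom := hXX.lift_fst _ _ _
      have g1 : gXX ≫ pr1.hom = pullback.snd f'.hom f'.hom ≫ gX.hom := hXX.lift_snd _ _ _
      have hd : pullback.diagonal f'.hom ≫ gXX = gX.hom ≫ d := by
        apply hXX.hom_ext
        · rw [Category.assoc, g0, ← Category.assoc, pullback.diagonal_fst, Category.id_comp,
            Category.assoc, d0, Category.comp_id]
        · rw [Category.assoc, g1, ← Category.assoc, pullback.diagonal_snd, Category.id_comp,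
            Category.assoc, d1, Category.comp_id]
      -- `XX' = XX ×_Z Z'`
      have L1 : IsPullback gXX (pullback.snd f'.hom f'.hom) pr1.hom gX.hom :=
        Groth.Agent.Lib.Helper30.WhereUnr.isPullback_kernelPair_baseChange sqX hXX.flip hXX'.flip
          gXX g1 g0
      have sqZ : IsPullback gXX (pullback.snd f'.hom f'.hom ≫ f'.hom ≫ q'.hom)
          (pr1.hom ≫ f.hom ≫ q.hom) g.hom := L1.paste_vert big
      obtain ⟨ξ', hξ'1, _⟩ := exists_point_of_isPullback sqZ ξ z' hξz
      obtain ⟨x', hx'⟩ := hsurj ξ'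
      apply hξ
      refine ⟨Points.map gX.hom x', ?_, ?_⟩
      · show HasAtMor UnrNear f.hom (Points.map gX.hom x')
        rw [← hasAtMor_baseChange_iff etLocalPt_unrNear G hbc Z'.property g.hom f'.hom q'.hom
          gX.hom gY.hom sqY sqX x']
        exact hunr' x'
      · rw [← Points.map_comp, ← hd, Points.map_comp, hx', hξ'1]

end Groth.Agent.S10640
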