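import Groth.Statements.S10641
import Groth.Agent.S10640
import Groth.Agent.S10614
import Groth.Agent.S10278
import Groth.Agent.Lib.Helper30.AlgSpProper
import Groth.Agent.Lib.Helper78.AlgSpFibre
-- import your own Groth.Agent.* helpers here

set_option autoImplicit false
universe u
open CategoryTheory CategoryTheory.Limits AlgebraicGeometry
open AlgSp

namespace Groth.Agent.S10641


/-- For morphisms f : X ⟶ Y, p : X ⟶ Z and q : Y ⟶ Z of algebraic spaces over S with f ≫ q = p, where p
is universally closed and locally of finite type and q is separated, there is an open subspace W of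
Z with the following property: a morphism of algebraic spaces g : Z' ⟶ Z factors through W exactly
when the base change X' ⟶ Y' of f along g is a closed immersion (representable, and a closed
immersion on every represented pullback). Here the base change of f along g is any f' : X' ⟶ Y'
obtained from pullback squares Y' = Y ×_Z Z' and X' = X ×_Y Y' of algebraic spaces over S, and W ⊂ Z
is given as a representable open immersion w : W ⟶ Z. -/
theorem result {S : Scheme.{u}} {X Y Z : AlgSp.Space S}
    (f : X ⟶ Y) (p : X ⟶ Z) (q : Y ⟶ Z) (hc : f ≫ q = p)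
    (hp1 : AlgSp.LocP @LocallyOfFiniteType p.hom) (hp2 : AlgSp.IsUnivClosedMor p.hom)
    (hq : AlgSp.IsSeparatedMor q.hom) :
    ∃ (W : AlgSp.Space S) (w : W ⟶ Z), AlgSp.RepWith @IsOpenImmersion w.hom ∧
      ∀ (Z' : AlgSp.Space S) (g : Z' ⟶ Z),
        (∃ k : Z' ⟶ W, k ≫ w = g) ↔
          ∀ (Y' : AlgSp.Space S) (gY : Y' ⟶ Y) (q' : Y' ⟶ Z'),
            IsPullback gY.hom q'.hom q.hom g.hom →
            ∀ (X' : AlgSp.Space S) (gX : X' ⟶ X) (f' : X' ⟶ Y'),
              IsPullback gX.hom f'.hom f.hom gY.hom →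
                AlgSp.RepWith @IsClosedImmersion f'.hom := by
  have hfuc : AlgSp.IsUnivClosedMor f.hom := ((Groth.Agent.S10278.result f p q hc hq).1 hp2).1
  have hXX0 := IsPullback.of_hasPullback f.hom f.hom
  let XX : AlgSp.Space S := ⟨pullback f.hom f.hom,
    Groth.Agent.Lib.Helper78.AlgSpFibre.isAlgSpace_of_isPullback hXX0 Y.property.diag X.property
      X.property⟩
  let pr0 : XX ⟶ X := ObjectProperty.homMk (pullback.fst f.hom f.hom)
  let pr1 : XX ⟶ X := ObjectProperty.homMk (pullback.snd f.hom f.hom)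
  have hXX : IsPullback pr0.hom pr1.hom f.hom f.hom := hXX0
  have hpc : AlgSp.IsClosedMor p.hom :=
    Groth.Agent.Lib.Helper30.isClosedMap_of_isUnivClosedMor Z.property hp2
  have hpr1 : IsClosedMap (AlgSp.Points.map pr1.hom) := hfuc X.property f.hom pr0.hom pr1.hom hXX
  have hp3 : AlgSp.IsClosedMor (pr1 ≫ p).hom := by
    show IsClosedMap (AlgSp.Points.map (pr1.hom ≫ p.hom))
    have : AlgSp.Points.map (pr1.hom ≫ p.hom) = AlgSp.Points.map p.hom ∘ AlgSp.Points.map pr1.hom :=
      funext (AlgSp.Points.map_comp _ _)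
    rw [this]
    exact IsClosedMap.comp hpc hpr1
  obtain ⟨W, w, hw, hW⟩ := Groth.Agent.S10640.result f p q hc XX pr0 pr1 hXX hp1 hpc hp3
  refine ⟨W, w, hw, fun Z' g => (hW Z' g).trans ?_⟩
  constructor
  · intro H Y' gY q' sqY X' gX f' sqX
    obtain ⟨h1, h2⟩ := H Y' gY q' sqY X' gX f' sqX
    exact (Groth.Agent.S10614.result f').2.1.2
      ⟨Groth.Agent.Lib.Helper30.isUnivClosedMor_snd_of_isPullback sqX hfuc, h1, h2⟩
  · intro H Y' gY q' sqY X' gX f' sqX
    have := (Groth.Agent.S10614.result f').2.1.1 (H Y' gY q' sqY X' gX f' sqX)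
    exact ⟨this.2.1, this.2.2⟩

end Groth.Agent.S10641
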