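import Groth.Statements.S10643
import Groth.Agent.Lib.Helper31.AlgSpWhere2

set_option autoImplicit false
universe u
open CategoryTheory CategoryTheory.Limits AlgebraicGeometry
open AlgSp

namespace Groth.Agent.S10643

open Groth.Agent.Lib.Helper31.AlgSpFlatAt Groth.Agent.Lib.Helper52 in

/-- For morphisms f : X ⟶ Y, p : X ⟶ Z and q : Y ⟶ Z of algebraic spaces over S with f ≫ q = p, where p
is flat, closed and locally of finite presentation and q is closed and locally of finite type, there
is an open subspace W of Z with the following property: a morphism of algebraic spaces g : Z' ⟶ Z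
factors through W exactly when the base change X' ⟶ Y' of f along g is flat and surjective (on
points). Here the base change of f along g is any f' : X' ⟶ Y' obtained from pullback squares Y' = Y
×_Z Z' and X' = X ×_Y Y' of algebraic spaces over S, and W ⊂ Z is given as a representable open
immersion w : W ⟶ Z. -/
theorem result {S : Scheme.{u}} {X Y Z : AlgSp.Space S}
    (f : X ⟶ Y) (p : X ⟶ Z) (q : Y ⟶ Z) (hc : f ≫ q = p)
    (hp1 : AlgSp.LocP @LocallyOfFinitePresentation p.hom) (hp2 : AlgSp.LocP @Flat p.hom)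
    (hp3 : AlgSp.IsClosedMor p.hom) (hq1 : AlgSp.LocP @LocallyOfFiniteType q.hom)
    (hq2 : AlgSp.IsClosedMor q.hom) :
    ∃ (W : AlgSp.Space S) (w : W ⟶ Z), AlgSp.RepWith @IsOpenImmersion w.hom ∧
      ∀ (Z' : AlgSp.Space S) (g : Z' ⟶ Z),
        (∃ k : Z' ⟶ W, k ≫ w = g) ↔
          ∀ (Y' : AlgSp.Space S) (gY : Y' ⟶ Y) (q' : Y' ⟶ Z'),
            IsPullback gY.hom q'.hom q.hom g.hom →
            ∀ (X' : AlgSp.Space S) (gX : X' ⟶ X) (f' : X' ⟶ Y'),
              IsPullback gX.hom f'.hom f.hom gY.hom →
                (AlgSp.IsSurjectiveMor f'.hom ∧ AlgSp.LocP @Flat f'.hom) := by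
  subst hc
  obtain ⟨G⟩ := exists_goodChart f.hom q.hom X.property Y.property Z.property
  have hfp : LocP @LocallyOfFinitePresentation (f.hom ≫ q.hom) := hp1
  have hfl : LocP @Flat (f.hom ≫ q.hom) := hp2
  have hopen := isOpen_isFlatAtMor G hfp hfl hq1
  have hopen2 := isOpen_image_isFlatAtMor G hfp hfl hq1
  set T : Set (Points X.obj) := {x : Points X.obj | IsFlatAtMor f.hom x} with hT
  have hclosed1 : IsClosed (Points.map (f ≫ q).hom '' Tᶜ) := hp3 _ hopen.isClosed_compl
  have hclosed2 : IsClosed (Points.map q.hom '' (Points.map f.hom '' T)ᶜ) :=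
    hq2 _ hopen2.isClosed_compl
  obtain ⟨W, w, hw, hW⟩ := exists_open_where Z _ (hclosed1.union hclosed2)
  refine ⟨W, w, hw, fun Z' g => (hW Z' g).trans ?_⟩
  constructor
  · intro H Y' gY q' sqY X' gX f' sqX
    have hflat : ∀ x' : Points X'.obj, IsFlatAtMor f.hom (Points.map gX.hom x') := by
      intro x'
      by_contra hcon
      apply H (Points.map q'.hom (Points.map f'.hom x'))
      refine Or.inl ⟨Points.map gX.hom x', hcon, ?_⟩
      have e : gX.hom ≫ (f ≫ q).hom = (f'.hom ≫ q'.hom) ≫ g.hom := by
        change gX.hom ≫ f.hom ≫ q.hom = _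
        rw [← Category.assoc, sqX.w, Category.assoc, sqY.w, Category.assoc]
      rw [← Points.map_comp, ← Points.map_comp, ← Points.map_comp, e, Category.assoc]
    constructor
    · intro y'
      have hy : Points.map gY.hom y' ∈ Points.map f.hom '' T := by
        by_contra hcon
        apply H (Points.map q'.hom y')
        refine Or.inr ⟨Points.map gY.hom y', hcon, ?_⟩
        rw [← Points.map_comp, ← Points.map_comp, sqY.w]
      obtain ⟨x, -, hx⟩ := hy
      obtain ⟨x', -, hx'⟩ := exists_point_of_isPullback sqX x y' hx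
      exact ⟨x', hx'⟩
    · rw [locP_flat_iff_forall_isFlatAtMor]
      intro x'
      rw [isFlatAtMor_baseChange_iff G hfp hfl hq1 Z'.property g.hom f'.hom q'.hom gX.hom gY.hom sqY
        sqX x']
      exact hflat x'
  · intro H z'
    -- build the base change
    have sqY := IsPullback.of_hasPullback q.hom g.hom
    let Y' : AlgSp.Space S := ⟨pullback q.hom g.hom,
      Groth.Agent.Lib.Helper78.AlgSpFibre.isAlgSpace_of_isPullback sqY Z.property.diag Y.property
        Z'.property⟩
    let gY : Y' ⟶ Y := ObjectProperty.homMk (pullback.fst q.hom g.hom)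
    let q' : Y' ⟶ Z' := ObjectProperty.homMk (pullback.snd q.hom g.hom)
    have sqX := IsPullback.of_hasPullback f.hom gY.hom
    let X' : AlgSp.Space S := ⟨pullback f.hom gY.hom,
      Groth.Agent.Lib.Helper78.AlgSpFibre.isAlgSpace_of_isPullback sqX Y.property.diag X.property
        Y'.property⟩
    let gX : X' ⟶ X := ObjectProperty.homMk (pullback.fst f.hom gY.hom)
    let f' : X' ⟶ Y' := ObjectProperty.homMk (pullback.snd f.hom gY.hom)
    obtain ⟨hsurj, hfl'⟩ := H Y' gY q' sqY X' gX f' sqX
    have key : ∀ x' : Points X'.obj, IsFlatAtMor f.hom (Points.map gX.hom x') := by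
      intro x'
      rw [← isFlatAtMor_baseChange_iff G hfp hfl hq1 Z'.property g.hom f'.hom q'.hom gX.hom
        gY.hom sqY sqX x']
      exact (locP_flat_iff_forall_isFlatAtMor f'.hom).1 hfl' x'
    have big : IsPullback gX.hom (f'.hom ≫ q'.hom) (f.hom ≫ q.hom) g.hom := sqX.paste_vert sqY
    rintro (⟨x, hx, hxz⟩ | ⟨y, hy, hyz⟩)
    · obtain ⟨x', hx'1, hx'2⟩ := exists_point_of_isPullback big x z' hxz
      apply hx
      show IsFlatAtMor f.hom x
      rw [← hx'1]
      exact key x'
    · obtain ⟨y', hy'1, hy'2⟩ := exists_point_of_isPullback sqY y z' hyz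
      obtain ⟨x', rfl⟩ := hsurj y'
      apply hy
      refine ⟨Points.map gX.hom x', key x', ?_⟩
      have e : gX.hom ≫ f.hom = f'.hom ≫ gY.hom := sqX.w
      rw [← hy'1, ← Points.map_comp, ← Points.map_comp]
      exact congrArg (fun φ => Points.map φ x') e

end Groth.Agent.S10643
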