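import Groth.Statements.S10644
import Groth.Agent.S10641
import Groth.Agent.S10643
import Groth.Agent.Lib.Helper30.AlgSpWhereIso
import Groth.Agent.Lib.Helper30.AlgSpProper
-- import your own Groth.Agent.* helpers here

set_option autoImplicit false
universe u
open CategoryTheory CategoryTheory.Limits AlgebraicGeometry
open AlgSp

namespace Groth.Agent.S10644


/-- For morphisms f : X ⟶ Y, p : X ⟶ Z and q : Y ⟶ Z of algebraic spaces over S with f ≫ q = p, where p
is flat, universally closed and locally of finite presentation and q is closed, separated and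
locally of finite type, there is an open subspace W of Z with the following property: a morphism of
algebraic spaces g : Z' ⟶ Z factors through W exactly when the base change X' ⟶ Y' of f along g is
an isomorphism. Here the base change of f along g is any f' : X' ⟶ Y' obtained from pullback squares
Y' = Y ×_Z Z' and X' = X ×_Y Y' of algebraic spaces over S, and W ⊂ Z is given as a representable
open immersion w : W ⟶ Z. -/
theorem result {S : Scheme.{u}} {X Y Z : AlgSp.Space S}
    (f : X ⟶ Y) (p : X ⟶ Z) (q : Y ⟶ Z) (hc : f ≫ q = p)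
    (hp1 : AlgSp.LocP @LocallyOfFinitePresentation p.hom) (hp2 : AlgSp.LocP @Flat p.hom)
    (hp3 : AlgSp.IsUnivClosedMor p.hom) (hq1 : AlgSp.LocP @LocallyOfFiniteType q.hom)
    (hq2 : AlgSp.IsClosedMor q.hom) (hq3 : AlgSp.IsSeparatedMor q.hom) :
    ∃ (W : AlgSp.Space S) (w : W ⟶ Z), AlgSp.RepWith @IsOpenImmersion w.hom ∧
      ∀ (Z' : AlgSp.Space S) (g : Z' ⟶ Z),
        (∃ k : Z' ⟶ W, k ≫ w = g) ↔
          ∀ (Y' : AlgSp.Space S) (gY : Y' ⟶ Y) (q' : Y' ⟶ Z'),
            IsPullback gY.hom q'.hom q.hom g.hom →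
            ∀ (X' : AlgSp.Space S) (gX : X' ⟶ X) (f' : X' ⟶ Y'),
              IsPullback gX.hom f'.hom f.hom gY.hom →
                IsIso f'.hom := by
  have hlft : AlgSp.LocP @LocallyOfFiniteType p.hom :=
    Groth.Agent.Lib.Helper78.AlgSpMisc.locP_mono
      (fun _ _ g (hg : LocallyOfFinitePresentation g) => (inferInstance : LocallyOfFiniteType g)) hp1
  have hpc : AlgSp.IsClosedMor p.hom :=
    Groth.Agent.Lib.Helper30.isClosedMap_of_isUnivClosedMor Z.property hp3
  obtain ⟨W1, w1, hw1, hW1⟩ := Groth.Agent.S10641.result f p q hc hlft hp3 hq3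
  obtain ⟨W2, w2, hw2, hW2⟩ := Groth.Agent.S10643.result f p q hc hp1 hp2 hpc hq1 hq2
  obtain ⟨W, w, hw, hW⟩ := Groth.Agent.Lib.Helper30.WhereIso.exists_open_inter w1 w2 hw1 hw2
  refine ⟨W, w, hw, fun Z' g => (hW Z' g).trans ?_⟩
  rw [hW1 Z' g, hW2 Z' g]
  constructor
  · rintro ⟨H1, H2⟩ Y' gY q' sqY X' gX f' sqX
    obtain ⟨hs, hfl⟩ := H2 Y' gY q' sqY X' gX f' sqX
    exact Groth.Agent.Lib.Helper30.WhereIso.isIso_of_closedImmersion_flat_surjective X'.property
      Y'.property f'.hom (H1 Y' gY q' sqY X' gX f' sqX) hfl hs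
  · intro H
    refine ⟨fun Y' gY q' sqY X' gX f' sqX => ?_, fun Y' gY q' sqY X' gX f' sqX => ?_⟩
    · haveI : IsIso f'.hom := H Y' gY q' sqY X' gX f' sqX
      exact Groth.Agent.Lib.Helper78.AlgSpBasic.repWith_of_isIso _ f'.hom
    · haveI : IsIso f'.hom := H Y' gY q' sqY X' gX f' sqX
      exact ⟨Groth.Agent.Lib.Helper30.WhereIso.isSurjectiveMor_of_isIso f'.hom,
        Groth.Agent.Lib.Helper30.WhereIso.locP_flat_of_isIso Y'.property f'.hom⟩

end Groth.Agent.S10644
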