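import Groth.Statements.S10645
import Groth.Agent.Lib.Helper31.AlgSpWhere
import Groth.Agent.Lib.Helper31.AlgSpLciLocus

set_option autoImplicit false
universe u
open CategoryTheory CategoryTheory.Limits AlgebraicGeometry
open AlgSp

namespace Groth.Agent.S10645

open Groth.Agent.Lib.Helper31.AlgSpFlatAt Groth.Agent.Lib.Helper52 in
open Groth.Agent.Lib.Helper31.AlgSpLciLocus in
open Groth.Agent.Lib.Helper30.Near in

/-- For morphisms f : X ⟶ Y, p : X ⟶ Z and q : Y ⟶ Z of algebraic spaces over S with f ≫ q = p, where p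
is flat, closed and locally of finite presentation and q is flat and also locally of finite
presentation, there is an open subspace W of Z with the following property: a morphism of algebraic
spaces g : Z' ⟶ Z factors through W exactly when the base change X' ⟶ Y' of f along g is a local
complete intersection (Koszul) morphism, i.e. Koszul at every point etale locally on source and
target. Here the base change of f along g is any f' : X' ⟶ Y' obtained from pullback squares Y' = Y
×_Z Z' and X' = X ×_Y Y' of algebraic spaces over S, and W ⊂ Z is given as a representable open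
immersion w : W ⟶ Z. -/
theorem result {S : Scheme.{u}} {X Y Z : AlgSp.Space S}
    (f : X ⟶ Y) (p : X ⟶ Z) (q : Y ⟶ Z) (hc : f ≫ q = p)
    (hp1 : AlgSp.LocP @Flat p.hom) (hp2 : AlgSp.LocP @LocallyOfFinitePresentation p.hom)
    (hp3 : AlgSp.IsClosedMor p.hom) (hq1 : AlgSp.LocP @Flat q.hom)
    (hq2 : AlgSp.LocP @LocallyOfFinitePresentation q.hom) :
    ∃ (W : AlgSp.Space S) (w : W ⟶ Z), AlgSp.RepWith @IsOpenImmersion w.hom ∧
      ∀ (Z' : AlgSp.Space S) (g : Z' ⟶ Z),
        (∃ k : Z' ⟶ W, k ≫ w = g) ↔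
          ∀ (Y' : AlgSp.Space S) (gY : Y' ⟶ Y) (q' : Y' ⟶ Z'),
            IsPullback gY.hom q'.hom q.hom g.hom →
            ∀ (X' : AlgSp.Space S) (gX : X' ⟶ X) (f' : X' ⟶ Y'),
              IsPullback gX.hom f'.hom f.hom gY.hom →
                AlgSp.IsLCIMor f'.hom := by
  subst hc
  obtain ⟨G⟩ := exists_goodChart f.hom q.hom X.property Y.property Z.property
  have hfl : LocP @Flat (f.hom ≫ q.hom) := hp1
  have hfp : LocP @LocallyOfFinitePresentation (f.hom ≫ q.hom) := hp2
  haveI : Flat G.l.left := hq1 G.b G.c G.l G.hb G.hc G.comm_h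
  haveI : LocallyOfFinitePresentation G.l.left := hq2 G.b G.c G.l G.hb G.hc G.comm_h
  haveI : Flat (G.k.left ≫ G.l.left) := hfl G.a G.c (G.k ≫ G.l) G.ha G.hc G.comm_fh
  haveI : LocallyOfFinitePresentation (G.k.left ≫ G.l.left) :=
    hfp G.a G.c (G.k ≫ G.l) G.ha G.hc G.comm_fh
  have hopen := isOpen_hasAtMor_lci G
  have hclosed : IsClosed (Points.map (f ≫ q).hom ''
      {x : Points X.obj | HasAtMor (Near AlgSp.lci) f.hom x}ᶜ) :=
    hp3 _ hopen.isClosed_compl
  obtain ⟨W, w, hw, hW⟩ := exists_open_where Z _ hclosed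
  refine ⟨W, w, hw, fun Z' g => (hW Z' g).trans ?_⟩
  constructor
  · intro H Y' gY q' sqY X' gX f' sqX
    show LocP AlgSp.lci f'.hom
    rw [locP_lci_iff X'.property Y'.property]
    intro x'
    rw [hasAtMor_lci_baseChange_iff G Z'.property g.hom f'.hom q'.hom gX.hom gY.hom sqY sqX x']
    by_contra hcon
    apply H (Points.map q'.hom (Points.map f'.hom x'))
    refine ⟨Points.map gX.hom x', hcon, ?_⟩
    have e : gX.hom ≫ (f ≫ q).hom = (f'.hom ≫ q'.hom) ≫ g.hom := by
      change gX.hom ≫ f.hom ≫ q.hom = _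
      rw [← Category.assoc, sqX.w, Category.assoc, sqY.w, Category.assoc]
    rw [← Points.map_comp, ← Points.map_comp, ← Points.map_comp, e, Category.assoc]
  · intro H z'
    rintro ⟨x, hx, hxz⟩
    -- build the base change
    have sqY := IsPullback.of_hasPullback q.hom g.hom
    let Y' : AlgSp.Space S := ⟨pullback q.hom g.hom,
      Groth.Agent.Lib.Helper78.AlgSpFibre.isAlgSpace_of_isPullback sqY Z.property.diag Y.property
        Z'.property⟩
    let gY : Y' ⟶ Y := ObjectProperty.homMk (pullback.fst q.hom g.hom)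
    let q' : Y' ⟶ Z' := ObjectProperty.homMk (pullback.snd q.hom g.hom)
    have sqX := IsPullback.of_hasPullback f.hom gY.hom
    let X' : AlgSp.Space S := ⟨pullback f.hom gY.hom,
      Groth.Agent.Lib.Helper78.AlgSpFibre.isAlgSpace_of_isPullback sqX Y.property.diag X.property
        Y'.property⟩
    let gX : X' ⟶ X := ObjectProperty.homMk (pullback.fst f.hom gY.hom)
    let f' : X' ⟶ Y' := ObjectProperty.homMk (pullback.snd f.hom gY.hom)
    have hfl' : LocP AlgSp.lci f'.hom := H Y' gY q' sqY X' gX f' sqX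
    have big : IsPullback gX.hom (f'.hom ≫ q'.hom) (f.hom ≫ q.hom) g.hom := sqX.paste_vert sqY
    obtain ⟨x', hx'1, hx'2⟩ := exists_point_of_isPullback big x z' hxz
    apply hx
    show HasAtMor (Near AlgSp.lci) f.hom x
    rw [← hx'1, ← hasAtMor_lci_baseChange_iff G Z'.property g.hom f'.hom q'.hom gX.hom
      gY.hom sqY sqX x']
    exact (locP_lci_iff X'.property Y'.property f'.hom).1 hfl' x'

end Groth.Agent.S10645
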