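import Groth.Statements.S10651
import Groth.Agent.Lib.Helper30.AlgSpFiniteFibreNhd
import Groth.Agent.Lib.Helper51.AlgSpSchImProper
import Groth.Agent.Lib.Helper51.AlgSpClosedSub
import Groth.Agent.Lib.Helper51.AlgSpPoints2
-- import your own Groth.Agent.* helpers here

set_option autoImplicit false
set_option maxHeartbeats 1600000
universe u
open CategoryTheory CategoryTheory.Limits AlgebraicGeometry
open AlgSp

namespace Groth.Agent.S10651


/-- Consider morphisms h : X ⟶ Y, f : X ⟶ B, g : Y ⟶ B of algebraic spaces over S with h ≫ g = f, a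
point b of |B| and a field point k of B in the class of b. Assume f is proper, g is separated and
locally of finite type, and either (a) for the fibres X_k ⟶ Y_k of h over k (pullbacks in fppf
sheaves) the image of |X_k| in |Y_k| is finite, or (b) the image in |Y| of the fibre of |X| ⟶ |B|
over b is finite and B is decent. Then over some open subspace B' of B containing b the base change
X_{B'} ⟶ Y_{B'} of h lands in a closed subspace Z of Y_{B'} that is finite over B' (it factors
through Z). -/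
theorem result {S : Scheme.{u}} {X Y B : AlgSp.Space S} (h : X ⟶ Y) (f : X ⟶ B) (g : Y ⟶ B) (hc : h ≫ g = f)
    (b : AlgSp.Points B.obj) (k : AlgSp.FieldPt B.obj) (hk : AlgSp.Points.mk k = b)
    (hf : AlgSp.IsProperMor f.hom) (hg1 : AlgSp.IsSeparatedMor g.hom) (hg2 : AlgSp.LocP @LocallyOfFiniteType g.hom)
    (h3 : (∀ (Yk : AlgSp.Sp S) (gY : Yk ⟶ Y.obj) (sY : Yk ⟶ (AlgSp.yon S).obj k.pt),
            IsPullback gY sY g.hom k.toHom →
            ∀ (Xk : AlgSp.Sp S) (gX : Xk ⟶ X.obj) (hk' : Xk ⟶ Yk), IsPullback gX hk' h.hom gY →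
              (Set.range (AlgSp.Points.map hk')).Finite) ∨
          ((AlgSp.Points.map h.hom '' (AlgSp.Points.map f.hom ⁻¹' {b})).Finite ∧ AlgSp.IsDecent B.obj)) :
    ∃ (B' : AlgSp.Space S) (j : B' ⟶ B), AlgSp.RepWith @IsOpenImmersion j.hom ∧
      b ∈ Set.range (AlgSp.Points.map j.hom) ∧
        ∀ (YB : AlgSp.Space S) (gY : YB ⟶ Y) (sY : YB ⟶ B'), IsPullback gY.hom sY.hom g.hom j.hom →
          ∀ (XB : AlgSp.Space S) (gX : XB ⟶ X) (hB : XB ⟶ YB), IsPullback gX.hom hB.hom h.hom gY.hom →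
            ∃ (Z : AlgSp.Space S) (i : Z ⟶ YB) (e : XB ⟶ Z), AlgSp.RepWith @IsClosedImmersion i.hom ∧
              AlgSp.IsFiniteMor (i ≫ sY).hom ∧ e ≫ i = hB := by
  have hX := X.property
  have hY := Y.property
  have hB := B.property
  obtain ⟨Z, hZ, i, hZi⟩ := Groth.Agent.Lib.Helper51.ClosedSub.exists_isSchImage hX hY h.hom
  obtain ⟨h', fac⟩ := hZi.2.1
  have hfc' : h.hom ≫ g.hom = f.hom := by rw [← hc]; rfl
  have hfc : AlgSp.IsProperMor (h.hom ≫ g.hom) := by rw [hfc']; exact hf
  obtain ⟨hprop, hsurj⟩ := Groth.Agent.Lib.Helper51.KerAt.schImage_proper_of_proper_source hX hY hZ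
    hB h.hom g.hom hfc hg1 hg2 i hZi h' fac
  haveI : Mono i := Groth.Agent.Lib.Helper51.ClosedSub.mono_of_repWith_isClosedImmersion i hZi.1
  obtain ⟨Z', hZ'⟩ : ∃ Z' : AlgSp.Space S, Z'.obj = Z := ⟨⟨Z, hZ⟩, rfl⟩
  subst hZ'
  obtain ⟨ig, hig⟩ : ∃ ig : Z' ⟶ B, ig.hom = i ≫ g.hom := ⟨ObjectProperty.homMk (i ≫ g.hom), rfl⟩
  -- a field point in the class of `b` over which the fibre of `Z` is finite
  obtain ⟨p, hpb, hpfin⟩ : ∃ p : AlgSp.FieldPt B.obj, AlgSp.Points.mk p = b ∧
      Finite (AlgSp.Points (pullback (i ≫ g.hom) p.toHom)) := by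
    rcases h3 with h3a | ⟨h3b, hdec⟩
    · refine ⟨k, hk, ?_⟩
      have sqYk := IsPullback.of_hasPullback g.hom k.toHom
      have sqXk := IsPullback.of_hasPullback h.hom (pullback.fst g.hom k.toHom)
      have hfinr := h3a _ _ _ sqYk _ _ _ sqXk
      have sqZk := IsPullback.of_hasPullback (i ≫ g.hom) k.toHom
      have hw1 : (pullback.fst (i ≫ g.hom) k.toHom ≫ i) ≫ g.hom =
          pullback.snd (i ≫ g.hom) k.toHom ≫ k.toHom := by
        rw [Category.assoc]; exact sqZk.w
      obtain ⟨ι, hι1, hι2⟩ : ∃ ι : pullback (i ≫ g.hom) k.toHom ⟶ pullback g.hom k.toHom,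
          ι ≫ pullback.fst g.hom k.toHom = pullback.fst (i ≫ g.hom) k.toHom ≫ i ∧
          ι ≫ pullback.snd g.hom k.toHom = pullback.snd (i ≫ g.hom) k.toHom :=
        ⟨sqYk.lift _ _ hw1, sqYk.lift_fst _ _ _, sqYk.lift_snd _ _ _⟩
      have sqZY : IsPullback (pullback.fst (i ≫ g.hom) k.toHom) ι i
          (pullback.fst g.hom k.toHom) := by
        refine IsPullback.of_bot ?_ hι1.symm sqYk
        rw [hι2]; exact sqZk
      haveI : Mono ι := MorphismProperty.of_isPullback
        (P := MorphismProperty.monomorphisms (AlgSp.Sp S)) sqZY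
        (MorphismProperty.monomorphisms.infer_property i)
      have hw2 : (pullback.fst h.hom (pullback.fst g.hom k.toHom) ≫ h') ≫ i =
          pullback.snd h.hom (pullback.fst g.hom k.toHom) ≫ pullback.fst g.hom k.toHom := by
        rw [Category.assoc, fac]; exact sqXk.w
      obtain ⟨ρ, hρ1, hρ2⟩ : ∃ ρ : pullback h.hom (pullback.fst g.hom k.toHom) ⟶
          pullback (i ≫ g.hom) k.toHom,
          ρ ≫ pullback.fst (i ≫ g.hom) k.toHom =
            pullback.fst h.hom (pullback.fst g.hom k.toHom) ≫ h' ∧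
          ρ ≫ ι = pullback.snd h.hom (pullback.fst g.hom k.toHom) :=
        ⟨sqZY.lift _ _ hw2, sqZY.lift_fst _ _ _, sqZY.lift_snd _ _ _⟩
      have sqXZ : IsPullback (pullback.fst h.hom (pullback.fst g.hom k.toHom)) ρ h'
          (pullback.fst (i ≫ g.hom) k.toHom) := by
        refine IsPullback.of_bot ?_ hρ1.symm sqZY
        rw [hρ2, fac]; exact sqXk
      have hρs : AlgSp.IsSurjectiveMor ρ :=
        Groth.Agent.Lib.Helper78.AlgSpFpqcSingle.isSurjectiveMor_of_isPullback sqXZ hsurj
      have hinj := Groth.Agent.Lib.Helper51.injective_map_of_mono ι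
      have hrange : Set.range (AlgSp.Points.map ι) ⊆
          Set.range (AlgSp.Points.map (pullback.snd h.hom (pullback.fst g.hom k.toHom))) := by
        rintro _ ⟨z, rfl⟩
        obtain ⟨x, rfl⟩ := hρs z
        exact ⟨x, by rw [← hρ2, AlgSp.Points.map_comp]⟩
      haveI : Finite (Set.range (AlgSp.Points.map ι)) := (hfinr.subset hrange).to_subtype
      exact Finite.of_injective_finite_range hinj
    · obtain ⟨p, hp, hmono, -⟩ := hdec b
      refine ⟨p, hp, ?_⟩
      haveI := hmono
      have sqZp := IsPullback.of_hasPullback (i ≫ g.hom) p.toHom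
      have hinj : Function.Injective
          (AlgSp.Points.map (pullback.fst (i ≫ g.hom) p.toHom ≫ i)) :=
        Groth.Agent.Lib.Helper51.injective_map_of_mono _
      have hpt : ∀ t : AlgSp.Points ((AlgSp.yon S).obj p.pt),
          AlgSp.Points.map p.toHom t = AlgSp.Points.mk p := by
        intro t
        rw [← AlgSp.Points.ofScheme_toScheme p.pt t, ← AlgSp.Points.ofPt_eq_map_ofScheme]
        exact AlgSp.Points.ofPt_toHom p _
      have hrange : Set.range (AlgSp.Points.map (pullback.fst (i ≫ g.hom) p.toHom ≫ i)) ⊆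
          AlgSp.Points.map h.hom '' (AlgSp.Points.map f.hom ⁻¹' {b}) := by
        rintro _ ⟨z, rfl⟩
        obtain ⟨x, hx⟩ := hsurj (AlgSp.Points.map (pullback.fst (i ≫ g.hom) p.toHom) z)
        refine ⟨x, ?_, ?_⟩
        · change AlgSp.Points.map f.hom x = b
          have e1 : f.hom = h' ≫ (i ≫ g.hom) := by rw [← Category.assoc, fac, hfc']
          rw [e1, AlgSp.Points.map_comp, hx, ← AlgSp.Points.map_comp, sqZp.w,
            AlgSp.Points.map_comp, hpt, hp]
        · rw [← fac, AlgSp.Points.map_comp, hx, ← AlgSp.Points.map_comp]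
      haveI : Finite (Set.range (AlgSp.Points.map (pullback.fst (i ≫ g.hom) p.toHom ≫ i))) :=
        (h3b.subset hrange).to_subtype
      exact Finite.of_injective_finite_range hinj
  have hprop' : AlgSp.IsProperMor ig.hom := by rw [hig]; exact hprop
  have sqp : IsPullback (pullback.fst (i ≫ g.hom) p.toHom) (pullback.snd (i ≫ g.hom) p.toHom)
      ig.hom p.toHom := by rw [hig]; exact IsPullback.of_hasPullback _ _
  obtain ⟨B', j, hj, hbj, hfinite⟩ :=
    Groth.Agent.Lib.Helper30.FinFib.exists_open_finite_of_proper_of_finite_fibre ig hprop' p _ _ _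
      sqp hpfin
  refine ⟨B', j, hj, hpb ▸ hbj, ?_⟩
  intro YB gY sY sqY XB gX hB' sqX
  have sqZB := IsPullback.of_hasPullback i gY.hom
  have hZB : AlgSp.IsAlgSpace (pullback i gY.hom) :=
    Groth.Agent.Lib.Helper30.isAlgSpace_of_isPullback hY.diag Z'.property YB.property sqZB
  have hw : (gX.hom ≫ h') ≫ i = hB'.hom ≫ gY.hom := by
    rw [Category.assoc, fac]; exact sqX.w
  refine ⟨⟨pullback i gY.hom, hZB⟩, ObjectProperty.homMk (pullback.snd i gY.hom),
    ObjectProperty.homMk (sqZB.lift _ _ hw), MorphismProperty.of_isPullback sqZB hZi.1, ?_, ?_⟩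
  · have big : IsPullback (pullback.fst i gY.hom) (pullback.snd i gY.hom ≫ sY.hom) ig.hom
        j.hom := by
      rw [hig]; exact sqZB.paste_vert sqY
    exact hfinite ⟨pullback i gY.hom, hZB⟩ (ObjectProperty.homMk (pullback.fst i gY.hom))
      (ObjectProperty.homMk (pullback.snd i gY.hom ≫ sY.hom)) big
  · apply ObjectProperty.hom_ext
    exact sqZB.lift_snd _ _ hw

end Groth.Agent.S10651
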