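import Groth.Statements.S1240
import Mathlib
import Groth.Agent.Lib.Helper21.FlatFibreDim
import Groth.Agent.Lib.Helper21.ValTrdegSch
import Groth.Agent.Lib.Helper21.OpenGeneralizing
-- import your own Groth.Agent.* helpers here

set_option autoImplicit false
universe u
open FlatMor

namespace Groth.Agent.S1240
open Groth.Agent.Lib.Helper21 Groth.Agent.Lib.Helper21.FieldDim Groth.Agent.Lib.Helper21.FlatFibreDim Groth.Agent.Lib.Helper21.ValTrdeg Groth.Agent.Lib.Helper21.OpenGeneralizing CategoryTheory.Limits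

open AlgebraicGeometry CategoryTheory in
/-- Let f : X → S be flat and locally of finite type and U ⊆ S a dense open such that the fibres of f at
points over U have local dimension at most e everywhere. If f is locally of finite presentation, or
U is retrocompact in S, then every fibre of f has local dimension at most e at every point. -/
theorem result {X S : Scheme.{u}} (f : X ⟶ S) [Flat f] [LocallyOfFiniteType f]
    (U : S.Opens) (hU : Dense (U : Set S)) (e : ℕ)
    (hle : ∀ x : X, f.base x ∈ U → FlatMor.fibreDimAt f x ≤ e)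
    (h : LocallyOfFinitePresentation f ∨ IsRetrocompact (U : Set S)) (x : X) :
    FlatMor.fibreDimAt f x ≤ e := by
  rw [fibreDimAt_le_iff]
  intro ξ _ _
  rcases h with h | h
  · haveI := h
    obtain ⟨x₁, hsp, hf₁, hmax⟩ := exists_maximal_in_fibre f ξ
    have h1 : tdR f ξ ≤ tdR f x₁ := tdR_le_of_specializes f hsp hf₁
    obtain ⟨Ω, hxΩ, hΩ⟩ := exists_open_lift f x₁ hmax
    have hopen : IsOpen (f '' (Ω : Set X)) := f.isOpenMap _ Ω.isOpen
    obtain ⟨s, hsN, hsU⟩ := hU.inter_open_nonempty _ hopen ⟨f x₁, x₁, hxΩ, rfl⟩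
    obtain ⟨z, hz, rfl⟩ := hsN
    obtain ⟨x'', -, hx''f, hx''d⟩ := hΩ z hz
    have h2 := hle x'' (by rw [hx''f]; exact hsU)
    have h3 := (tdR_le_fibreDimAt f x'').trans h2
    have h4 : tdR f x'' ≤ e := by exact_mod_cast h3
    have h5 : tdR f ξ ≤ e := by omega
    exact_mod_cast h5
  · obtain ⟨s', hs'U, hs'sp⟩ := exists_specializes_of_retrocompact U hU h (f ξ)
    obtain ⟨A, _, _, _, φ, hφm, hφη⟩ := exists_valuationRing_of_specializes hs'sp
    set m : Spec (CommRingCat.of A) := IsLocalRing.closedPoint A with hm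
    set η : Spec (CommRingCat.of A) := (⟨⊥, Ideal.isPrime_bot⟩ : PrimeSpectrum A) with hη
    have hφη' : φ η = s' := hφη η rfl
    have hcond : ∀ z : ↑(pullback f φ), f (pullback.fst f φ z) = φ (pullback.snd f φ z) := by
      intro z
      exact congrArg (fun k : pullback f φ ⟶ S => k z) (pullback.condition (f := f) (g := φ))
    obtain ⟨w', hw'1, hw'2, hw'td⟩ := exists_tdR_snd_eq f φ ξ m hφm.symm
    have hηm : η ⤳ m := (PrimeSpectrum.le_iff_specializes _ _).mp bot_le
    have hgen := Flat.generalizingMap (pullback.snd f φ)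
    obtain ⟨ζ, hζsp, hζη⟩ := hgen (a := w') (b := η) (by rw [hw'2]; exact hηm)
    have h3 : tdR (pullback.snd f φ) w' ≤ tdR (pullback.snd f φ) ζ :=
      tdR_le_of_valuation' (R := CommRingCat.of A) (pullback.snd f φ) hζsp
    have h4 := tdR_snd_le f φ ζ
    have h5 : f (pullback.fst f φ ζ) = s' := by rw [hcond, hζη, hφη']
    have h6 := hle (pullback.fst f φ ζ) (by rw [h5]; exact hs'U)
    have h7 := (tdR_le_fibreDimAt f (pullback.fst f φ ζ)).trans h6
    have h8 : tdR f (pullback.fst f φ ζ) ≤ e := by exact_mod_cast h7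
    have h9 : tdR f ξ ≤ e := by omega
    exact_mod_cast h9

end Groth.Agent.S1240
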