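import Groth.Statements.S10653
import Groth.Agent.S1240
import Groth.Agent.Lib.Helper31.AlgSpFibreDim
import Groth.Agent.Lib.Helper98.AlgSpFibreDimLocal
import Groth.Agent.Lib.Helper78.AlgSpLargestOpen

set_option autoImplicit false
universe u
open CategoryTheory CategoryTheory.Limits AlgebraicGeometry
open AlgSp

namespace Groth.Agent.S10653

open Groth.Agent.Lib.Helper31.AlgSpFlatAt Groth.Agent.Lib.Helper98.AlgSpPtLocal
  Groth.Agent.Lib.Helper98.AlgSpFibreDimLocal Groth.Agent.Lib.Helper52 Groth.Agent.Lib.Helper51 in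

/-- For a flat morphism f : X ⟶ Y of algebraic spaces over S which is locally of finite type, and an
open subspace j : V ⟶ Y with |V| dense in |Y| such that the base change X ×_Y V ⟶ V has relative
dimension at most d (at every point some etale chart diagram has top arrow with local fibre
dimension at most d): if either j is quasi-compact or f is locally of finite presentation, then f
has relative dimension at most d at every point of |X|. -/
theorem result {S : Scheme.{u}} {X Y V : AlgSp.Space S} (f : X ⟶ Y) (j : V ⟶ Y) (d : ℕ)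
    (hf1 : AlgSp.LocP @Flat f.hom) (hf2 : AlgSp.LocP @LocallyOfFiniteType f.hom)
    (hj1 : AlgSp.RepWith @IsOpenImmersion j.hom) (hj2 : Dense (Set.range (AlgSp.Points.map j.hom)))
    (P : AlgSp.Space S) (fst : P ⟶ X) (snd : P ⟶ V) (hP : IsPullback fst.hom snd.hom f.hom j.hom)
    (hV : ∀ x, AlgSp.HasAtMor (fun _ _ h u => FlatMor.fibreDimAt h u ≤ (d : WithBot ℕ∞)) snd.hom x)
    (h : AlgSp.LocP @LocallyOfFinitePresentation f.hom ∨ AlgSp.IsQuasiCompactMor j.hom) :
    ∀ x, AlgSp.HasAtMor (fun _ _ h u => FlatMor.fibreDimAt h u ≤ (d : WithBot ℕ∞)) f.hom x := by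
  intro x
  have hQ := etLocalPt_fibreDim.{u} (fun t => t ≤ (d : WithBot ℕ∞))
  obtain ⟨U, V₀, a, b, k, u, ha, hb, comm, rfl⟩ := exists_chart_at f.hom X.property Y.property x
  haveI : Flat k.left := hf1 a b k ha hb comm
  haveI : LocallyOfFiniteType k.left := hf2 a b k ha hb comm
  -- the pullback of `j` along `b`
  have sqj := hj1.1.isPullback b
  set ι := hj1.1.snd b with hι
  set φ := hj1.1.fst b with hφ
  haveI hιo : IsOpenImmersion ι.left := hj1.2 b _ _ sqj
  let W : V₀.left.Opens := ι.left.opensRange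
  have hWmem : ∀ v : V₀.left, v ∈ W ↔ Points.ofPt b v ∈ Set.range (Points.map j.hom) := by
    intro v
    rw [ofPt_mem_range_map_iff sqj v]
    rfl
  have hWd : Dense (W : Set V₀.left) := by
    have : (W : Set V₀.left) = Points.ofPt b ⁻¹' Set.range (Points.map j.hom) := by
      ext v
      exact hWmem v
    rw [this]
    exact hj2.preimage (isOpenMap_ofPt_of_etale b hb)
  -- étale-ness of `fst` and `j`
  have hje : RepWith @Etale j.hom :=
    Groth.Agent.Lib.Helper78.AlgSpLargestOpen.repWith_mono'
      (fun _ _ g (hg : IsOpenImmersion g) => (inferInstance : Etale g)) hj1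
  have hfste : RepWith @Etale fst.hom :=
    MorphismProperty.of_isPullback (P := RepWith (S := S) @Etale) hP.flip hje
  have hle : ∀ u' : U.left, k.left u' ∈ W → FlatMor.fibreDimAt k.left u' ≤ (d : WithBot ℕ∞) := by
    intro u' hu'
    obtain ⟨w', hw'⟩ := hu'
    have hmap : Points.map f.hom (Points.ofPt a u') = Points.map j.hom (Points.ofPt φ w') := by
      rw [Points.map_ofPt, Points.map_ofPt, comm, sqj.w, ofPt_yon_map_comp, ofPt_yon_map_comp, hw']
    obtain ⟨p, hp1, hp2⟩ := exists_point_of_isPullback hP _ _ hmap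
    obtain ⟨U₁, V₁, a₁, b₁, h₁, u₁, ha₁, hb₁, comm₁, hu₁, hd₁⟩ := hV p
    have ha₁' : RepWith @Etale (a₁ ≫ fst.hom) :=
      (RepWith (S := S) @Etale).comp_mem _ _ ha₁ hfste
    have hb₁' : RepWith @Etale (b₁ ≫ j.hom) :=
      (RepWith (S := S) @Etale).comp_mem _ _ hb₁ hje
    have comm₁' : (a₁ ≫ fst.hom) ≫ f.hom = (yon S).map h₁ ≫ b₁ ≫ j.hom := by
      rw [Category.assoc, hP.w, ← Category.assoc, comm₁, Category.assoc]
    have hpt : Points.ofPt (a₁ ≫ fst.hom) u₁ = Points.ofPt a u' := by
      rw [← Points.map_ofPt, hu₁, hp1]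
    exact transfer hQ f.hom (a₁ ≫ fst.hom) (b₁ ≫ j.hom) h₁ ha₁' hb₁' comm₁' u₁ hd₁ a b k ha hb comm
      u' hpt
  have hcase : LocallyOfFinitePresentation k.left ∨ IsRetrocompact (W : Set V₀.left) := by
    rcases h with h | h
    · exact Or.inl (h a b k ha hb comm)
    · right
      intro K hKc hKo
      let Ko : V₀.left.Opens := ⟨K, hKo⟩
      let K' : Over S := Over.mk (Ko.ι ≫ V₀.hom)
      let ιK : K' ⟶ V₀ := Over.homMk Ko.ι rfl
      haveI : CompactSpace ↥K'.left := isCompact_iff_compactSpace.mp hKc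
      have hZq : IsQuasiCompactSp ((yon S).obj K') :=
        ⟨K', 𝟙 _, repWith_id _ K', repWith_id _ K', inferInstance⟩
      have sqK := hj1.1.isPullback ((yon S).map ιK ≫ b)
      have hTq : IsQuasiCompactSp ((yon S).obj (hj1.1.pullback ((yon S).map ιK ≫ b))) :=
        h (IsAlgSpace.yon_obj K') hZq _ _ _ sqK
      haveI hTc : CompactSpace ↥(hj1.1.pullback ((yon S).map ιK ≫ b)).left := by
        have := compactSpace_points_of_isQuasiCompactSp hTq
        exact (Points.schemeHomeo _).symm.compactSpace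
      have hset : (W : Set V₀.left) ∩ K =
          Set.range (fun t => Ko.ι ((hj1.1.snd ((yon S).map ιK ≫ b)).left t)) := by
        ext v
        constructor
        · rintro ⟨hvW, hvK⟩
          have h1 : Points.ofPt ((yon S).map ιK ≫ b) (⟨v, hvK⟩ : Ko) ∈
              Set.range (Points.map j.hom) := by
            rw [ofPt_yon_map_comp]
            exact (hWmem v).1 hvW
          rw [ofPt_mem_range_map_iff sqK] at h1
          obtain ⟨t, ht⟩ := h1
          refine ⟨t, ?_⟩
          change Ko.ι ((hj1.1.snd ((yon S).map ιK ≫ b)).left t) = v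
          rw [ht]; rfl
        · rintro ⟨t, rfl⟩
          refine ⟨?_, ((hj1.1.snd ((yon S).map ιK ≫ b)).left t).2⟩
          rw [SetLike.mem_coe, hWmem]
          have h1 : Points.ofPt ((yon S).map ιK ≫ b)
              ((hj1.1.snd ((yon S).map ιK ≫ b)).left t) ∈ Set.range (Points.map j.hom) :=
            (ofPt_mem_range_map_iff sqK _).2 ⟨t, rfl⟩
          rw [ofPt_yon_map_comp] at h1
          exact h1
      rw [hset]
      exact isCompact_range (Ko.ι.continuous.comp
        (hj1.1.snd ((yon S).map ιK ≫ b)).left.continuous)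
  exact ⟨U, V₀, a, b, k, u, ha, hb, comm, rfl,
    Groth.Agent.S1240.result k.left W hWd d hle hcase u⟩

end Groth.Agent.S10653
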