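import Groth.Statements.S10654
import Groth.Agent.S10653
import Groth.Agent.Lib.Helper30.AlgSpFiniteProper
import Groth.Agent.Lib.Helper73.QFAt
import Groth.Agent.Lib.Helper21.FlatQF
import Groth.Agent.Lib.Helper98.AlgSpFibreDimLocal
import Groth.Agent.Lib.Helper51.AlgSpValSchIm

set_option autoImplicit false
universe u
open CategoryTheory CategoryTheory.Limits AlgebraicGeometry
open AlgSp

namespace Groth.Agent.S10654

open Groth.Agent.Lib.Helper52 Groth.Agent.Lib.Helper51
  Groth.Agent.Lib.Helper98.AlgSpPtLocal Groth.Agent.Lib.Helper98.AlgSpFibreDimLocal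


/-- For a flat proper morphism f : X ⟶ Y of algebraic spaces over S and an open subspace j : V ⟶ Y with
|V| dense in |Y| such that the base change X ×_Y V ⟶ V is finite: f is finite over all of Y,
provided either j is quasi-compact or f is locally of finite presentation. -/
theorem result {S : Scheme.{u}} {X Y V : AlgSp.Space S} (f : X ⟶ Y) (j : V ⟶ Y)
    (hf1 : AlgSp.LocP @Flat f.hom) (hf2 : AlgSp.IsProperMor f.hom)
    (hj1 : AlgSp.RepWith @IsOpenImmersion j.hom) (hj2 : Dense (Set.range (AlgSp.Points.map j.hom)))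
    (P : AlgSp.Space S) (fst : P ⟶ X) (snd : P ⟶ V) (hP : IsPullback fst.hom snd.hom f.hom j.hom)
    (hV : AlgSp.IsFiniteMor snd.hom)
    (h : AlgSp.LocP @LocallyOfFinitePresentation f.hom ∨ AlgSp.IsQuasiCompactMor j.hom) :
    AlgSp.IsFiniteMor f.hom := by
  have hlft : LocP @LocallyOfFiniteType f.hom := hf2.2.1.1
  haveI hstabE : (AlgSp.RepWith (S := S) @Etale).IsStableUnderBaseChange :=
    AlgSp.repWith_isStableUnderBaseChange _
  have hV0 : ∀ x', HasAtMor (fun _ _ h u => FlatMor.fibreDimAt h u ≤ ((0 : ℕ) : WithBot ℕ∞))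
      snd.hom x' := by
    intro x'
    obtain ⟨V', b, hb, hbs⟩ := V.property.atlas
    obtain ⟨v', hv'⟩ := surjective_ofPt_of_repWith_surjective b hbs (Points.map snd.hom x')
    obtain ⟨O, hO, hv'O⟩ : ∃ O : V'.left.Opens, IsAffineOpen O ∧ v' ∈ O := by
      obtain ⟨O, hO, hv, -⟩ := TopologicalSpace.Opens.isBasis_iff_nbhd.mp
        V'.left.isBasis_affineOpens (TopologicalSpace.Opens.mem_top v')
      exact ⟨O, hO, hv⟩
    let Z : Over S := Over.mk (O.ι ≫ V'.hom)
    let ι : Z ⟶ V' := Over.homMk O.ι rfl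
    have hιe : Etale ι.left := (inferInstance : Etale O.ι)
    have hb'' : RepWith @Etale ((yon S).map ι ≫ b) :=
      (RepWith (S := S) @Etale).comp_mem _ _ ((repWith_yon_map_iff _ _).2 hιe) hb
    have hZ : IsAffine Z.left := hO
    obtain ⟨W, i, fstW, sqW, hW, hi⟩ := hV hZ ((yon S).map ι ≫ b)
    obtain ⟨w, hw1, hw2⟩ := KerAt.exists_scheme_point_of_isPullback sqW x' (⟨v', hv'O⟩ : O) (by
      rw [← hv', ofPt_yon_map_comp]
      rfl)
    have hfe : RepWith @Etale fstW := MorphismProperty.of_isPullback sqW.flip hb''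
    refine ⟨W, Z, fstW, (yon S).map ι ≫ b, i, w, hfe, hb'', sqW.w, hw2, ?_⟩
    haveI : IsFinite i.left := hi
    have := (Groth.Agent.Lib.Helper73.QFAt.quasiFiniteAt_iff_fibreDimAt_eq_zero i.left w).1
      (i.left.quasiFiniteAt w)
    show FlatMor.fibreDimAt i.left w ≤ ((0 : ℕ) : WithBot ℕ∞)
    rw [this]
    simp
  have h0 := Groth.Agent.S10653.result f j 0 hf1 hlft hj1 hj2 P fst snd hP hV0 h
  have hqf : LocP (@LocallyQuasiFinite ⊓ @LocallyOfFiniteType) f.hom := by
    intro U V a b hh ha hb comm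
    haveI : LocallyOfFiniteType hh.left := hlft a b hh ha hb comm
    refine ⟨?_, inferInstance⟩
    rw [← Scheme.Hom.quasiFiniteLocus_eq_top_iff]
    ext u
    simp only [TopologicalSpace.Opens.coe_top, Set.mem_univ, iff_true]
    show hh.left.QuasiFiniteAt u
    rw [Groth.Agent.Lib.Helper73.QFAt.quasiFiniteAt_iff_fibreDimAt_eq_zero]
    have h1 := (hasAtMor_iff_of_chart
      (etLocalPt_fibreDim (fun d => d ≤ ((0 : ℕ) : WithBot ℕ∞))) f.hom a b hh ha hb comm u).1 (h0 _)
    refine le_antisymm (by simpa using h1) ?_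
    exact Groth.Agent.Lib.Helper21.FlatQF.localDim_nonneg _
  exact Groth.Agent.Lib.Helper30.ZMT.isFiniteMor_of_isProperMor_of_lqf X.property Y.property f.hom
    hf2 hqf

end Groth.Agent.S10654
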