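import Groth.Statements.S10660
import Mathlib
import Groth.Agent.S2103
import Groth.Agent.Lib.Helper22.KoszulH1
-- import your own Groth.Agent.* helpers here

set_option autoImplicit false
universe u
open CategoryTheory CategoryTheory.Limits AlgebraicGeometry
open AlgSp

namespace Groth.Agent.S10660

section PRE

lemma seq_mono (k k' : RegImm.Kind)
    (h : ∀ (R : Type u) [CommRing R] (rs : List R), k.Seq R rs → k'.Seq R rs)
    {Z X : Scheme.{u}} (i : Z ⟶ X) (hi : RegImm.IsRegularImmersion k i) :
    RegImm.IsRegularImmersion k' i := by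
  refine ⟨hi.1, fun z => ?_⟩
  obtain ⟨U, hU, hcl, rs, hrs, hker⟩ := hi.2 z
  exact ⟨U, hU, hcl, rs, h _ rs hrs, hker⟩

lemma regImmMor_mono (k k' : RegImm.Kind)
    (h : ∀ (R : Type u) [CommRing R] (rs : List R), k.Seq R rs → k'.Seq R rs)
    {S : Scheme.{u}} {F G : AlgSp.Sp S} (f : F ⟶ G) (hf : AlgSp.IsRegImmMor k f) :
    AlgSp.IsRegImmMor k' f := by
  refine ⟨hf.1, fun V W b fst snd hb sq => ?_⟩
  exact seq_mono k k' h _ (hf.2 b fst snd hb sq)

end PRE

/-- For an immersion i : Z ⟶ X of algebraic spaces over S: if i is a Koszul-regular immersion then it is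
an H_1-regular immersion, and if it is an H_1-regular immersion then it is a quasi-regular immersion
(all in the representable, etale-local-on-the-target sense). -/
theorem result {S : Scheme.{u}} {Z X : AlgSp.Space S} (i : Z ⟶ X) (hi : AlgSp.RepWith @IsImmersion i.hom) :
    (AlgSp.IsRegImmMor RegImm.Kind.koszul i.hom → AlgSp.IsRegImmMor RegImm.Kind.h1 i.hom) ∧
      (AlgSp.IsRegImmMor RegImm.Kind.h1 i.hom → AlgSp.IsRegImmMor RegImm.Kind.quasi i.hom) := by
  refine ⟨regImmMor_mono _ _ (fun R _ rs h => ?_) i.hom, regImmMor_mono _ _ (fun R _ rs h => ?_) i.hom⟩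
  · exact Groth.Agent.Lib.Helper22.KoszulH1.isH1Regular_of_isKoszulRegularSeq rs h
  · exact Groth.Agent.S2103.result rs.get h

end Groth.Agent.S10660
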