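import Groth.Statements.S8905
import Mathlib
import Groth.Agent.S15821
import Groth.Agent.S2103
import Groth.Agent.Lib.Helper22.KoszulH1
-- import your own Groth.Agent.* helpers here

set_option autoImplicit false
universe u
open CategoryTheory CategoryTheory.Limits AlgebraicGeometry TopologicalSpace
open SDiv

namespace Groth.Agent.S8905

section PRE

lemma seq_mono (k k' : RegImm.Kind)
    (h : ∀ (R : Type u) [CommRing R] (rs : List R), k.Seq R rs → k'.Seq R rs)
    {Z X : Scheme.{u}} (i : Z ⟶ X) (hi : RegImm.IsRegularImmersion k i) :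
    RegImm.IsRegularImmersion k' i := by
  refine ⟨hi.1, fun z => ?_⟩
  obtain ⟨U, hU, hcl, rs, hrs, hker⟩ := hi.2 z
  exact ⟨U, hU, hcl, rs, h _ rs hrs, hker⟩

end PRE

/-- Let i : Z ⟶ X be an immersion of schemes. If i is a regular immersion then it is Koszul-regular; if
Koszul-regular then H_1-regular; if H_1-regular then quasi-regular. -/
theorem result {Z X : Scheme.{u}} (i : Z ⟶ X) :
    (RegImm.IsRegularImmersion RegImm.Kind.regular i → RegImm.IsRegularImmersion RegImm.Kind.koszul i) ∧
      (RegImm.IsRegularImmersion RegImm.Kind.koszul i → RegImm.IsRegularImmersion RegImm.Kind.h1 i) ∧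
      (RegImm.IsRegularImmersion RegImm.Kind.h1 i → RegImm.IsRegularImmersion RegImm.Kind.quasi i) := by
  refine ⟨seq_mono _ _ (fun R _ rs h => ?_) i, seq_mono _ _ (fun R _ rs h => ?_) i,
    seq_mono _ _ (fun R _ rs h => ?_) i⟩
  · exact (Groth.Agent.S15821.result R rs
      (RingTheory.Sequence.IsRegular.toIsWeaklyRegular h)).1
  · exact Groth.Agent.Lib.Helper22.KoszulH1.isH1Regular_of_isKoszulRegularSeq rs h
  · exact Groth.Agent.S2103.result rs.get h

end Groth.Agent.S8905
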