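import Groth.Statements.S10661
import Groth.Agent.S5003
import Groth.Agent.S8905
import Groth.Agent.Lib.Helper31.AlgSpFibFlat4

set_option autoImplicit false
universe u
open CategoryTheory CategoryTheory.Limits AlgebraicGeometry
open AlgSp

namespace Groth.Agent.S10661

/-- For an immersion i : Z ⟶ X of algebraic spaces over S with X locally Noetherian (some etale
surjective chart is a locally Noetherian scheme), the three conditions Koszul-regular immersion,
H_1-regular immersion and quasi-regular immersion on i are equivalent. -/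
theorem result {S : Scheme.{u}} {Z X : AlgSp.Space S} (i : Z ⟶ X) (hi : AlgSp.RepWith @IsImmersion i.hom)
    (hX : AlgSp.IsLocNoethSp X.obj) :
    (AlgSp.IsRegImmMor RegImm.Kind.koszul i.hom ↔ AlgSp.IsRegImmMor RegImm.Kind.h1 i.hom) ∧
      (AlgSp.IsRegImmMor RegImm.Kind.h1 i.hom ↔ AlgSp.IsRegImmMor RegImm.Kind.quasi i.hom) := by
  have key : ∀ k₁ k₂ : RegImm.Kind,
      (∀ {V W : Scheme.{u}} [IsLocallyNoetherian V] (j : W ⟶ V),
        RegImm.IsRegularImmersion k₁ j → RegImm.IsRegularImmersion k₂ j) →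
      AlgSp.IsRegImmMor k₁ i.hom → AlgSp.IsRegImmMor k₂ i.hom := by
    intro k₁ k₂ hk h
    refine ⟨h.1, fun V W b fst snd hb sq => ?_⟩
    haveI : IsLocallyNoetherian V.left :=
      Groth.Agent.Lib.Helper31.AlgSpFibFlat.isLocallyNoetherian_of_etale_chart hX b hb
    exact hk snd.left (h.2 b fst snd hb sq)
  have hqk : ∀ {V W : Scheme.{u}} [IsLocallyNoetherian V] (j : W ⟶ V),
      RegImm.IsRegularImmersion RegImm.Kind.quasi j →
        RegImm.IsRegularImmersion RegImm.Kind.koszul j := fun j h =>
    (Groth.Agent.S8905.result j).1 ((Groth.Agent.S5003.result j).2 h)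
  refine ⟨⟨key _ _ fun j h => (Groth.Agent.S8905.result j).2.1 h,
      key _ _ fun j h => hqk j ((Groth.Agent.S8905.result j).2.2 h)⟩,
    ⟨key _ _ fun j h => (Groth.Agent.S8905.result j).2.2 h,
      key _ _ fun j h => (Groth.Agent.S8905.result j).2.1 (hqk j h)⟩⟩

end Groth.Agent.S10661
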