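import Groth.Statements.S10662
import Groth.Agent.Lib.Helper31.RegImmEtDesc
import Groth.Agent.Lib.Helper30.AlgSpImmDesc
import Groth.Agent.Lib.Helper51.AlgSpPoints

set_option autoImplicit false
universe u
open CategoryTheory CategoryTheory.Limits AlgebraicGeometry
open AlgSp

namespace Groth.Agent.S10662


/-- Let k be one of the kinds Koszul-regular, H_1-regular, quasi-regular; let i : Z ⟶ X be a regular
immersion of algebraic spaces over S of kind k and g : X' ⟶ X a flat morphism of algebraic spaces.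
Then the base change Z ×_X X' ⟶ X' (any pullback square of algebraic spaces) is a regular immersion
of kind k. -/
theorem result {S : Scheme.{u}} (k : RegImm.Kind) (hk : k = RegImm.Kind.koszul ∨ k = RegImm.Kind.h1 ∨ k = RegImm.Kind.quasi)
    {Z X X' : AlgSp.Space S} (i : Z ⟶ X) (g : X' ⟶ X)
    (hi : AlgSp.IsRegImmMor k i.hom) (hg : AlgSp.LocP @Flat g.hom)
    (P : AlgSp.Space S) (fst : P ⟶ Z) (i' : P ⟶ X') (sq : IsPullback fst.hom i'.hom i.hom g.hom) :
    AlgSp.IsRegImmMor k i'.hom := by
  have hkne : k ≠ RegImm.Kind.regular := by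
    rcases hk with rfl | rfl | rfl <;> (intro h; cases h)
  obtain ⟨hrep, hloc⟩ := hi
  obtain ⟨U, c, hc, hcs⟩ := X.property.atlas
  refine ⟨MorphismProperty.of_isPullback sq hrep, ?_⟩
  intro V W b fst' snd' hb sq'
  obtain ⟨T, τU, τV, sqT⟩ :=
    Groth.Agent.Lib.Helper51.exists_isPullback_of_representable hc.1 (b ≫ g.hom)
  haveI : Etale τV.left := hc.2 (b ≫ g.hom) _ τV sqT
  haveI : Surjective τV.left := hcs.2 (b ≫ g.hom) _ τV sqT
  have hτb : RepWith @Etale ((yon S).map τV ≫ b) :=
    (AlgSp.RepWith (S := S) @Etale).comp_mem _ _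
      ((repWith_yon_map_iff _ _).2 (inferInstance : Etale τV.left)) hb
  haveI : Flat τU.left :=
    hg ((yon S).map τV ≫ b) c τU hτb hc (by rw [Category.assoc]; exact sqT.w.symm)
  -- the base change of `i` to the atlas
  have sqZ := hrep.isPullback c
  have hregU : RegImm.IsRegularImmersion k (hrep.snd c).left :=
    hloc c (hrep.fst c) (hrep.snd c) hc sqZ
  -- the base change of `snd'` to `T`
  obtain ⟨WT, ρ, σ, sqWo, sqWs⟩ := Groth.Agent.Lib.Helper30.isPullback_over' snd' τV
  have sqWy := sqWo.map (yon S)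
  have big : IsPullback (((yon S).map ρ ≫ fst') ≫ fst.hom) ((yon S).map σ) i.hom
      (((yon S).map τV ≫ b) ≫ g.hom) := (sqWy.paste_horiz sq').paste_horiz sq
  have hbot : ((yon S).map τV ≫ b) ≫ g.hom = (yon S).map τU ≫ c := by
    rw [Category.assoc]; exact sqT.w.symm
  rw [hbot] at big
  have wl : (((yon S).map ρ ≫ fst') ≫ fst.hom) ≫ i.hom =
      ((yon S).map σ ≫ (yon S).map τU) ≫ c := by
    rw [big.w, Category.assoc]
  obtain ⟨lam, hlam⟩ := (yon S).map_surjective (sqZ.lift _ _ wl)
  have hl1 : (yon S).map lam ≫ hrep.fst c = ((yon S).map ρ ≫ fst') ≫ fst.hom := by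
    rw [hlam]; exact sqZ.lift_fst _ _ _
  have hl2 : (yon S).map lam ≫ (yon S).map (hrep.snd c) = (yon S).map σ ≫ (yon S).map τU := by
    rw [hlam]; exact sqZ.lift_snd _ _ _
  have sqL : IsPullback ((yon S).map lam) ((yon S).map σ) ((yon S).map (hrep.snd c))
      ((yon S).map τU) := by
    refine IsPullback.of_right ?_ hl2 sqZ
    rw [hl1]; exact big
  have e₁ : lam ≫ hrep.snd c = σ ≫ τU := (yon S).map_injective (by
    rw [Functor.map_comp, Functor.map_comp]; exact hl2)
  have sqL' : IsPullback lam σ (hrep.snd c) τU := IsPullback.of_map (yon S) e₁ sqL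
  have sqL'' : IsPullback lam.left σ.left (hrep.snd c).left τU.left := sqL'.map (Over.forget S)
  have hregT : RegImm.IsRegularImmersion k σ.left :=
    Groth.Agent.Lib.Helper91.RegBC.isRegularImmersion_of_isPullback_of_flat sqL'' k hregU
  -- `snd'` is an immersion
  haveI : IsImmersion σ.left := hregT.1
  have himm : RepWith @IsImmersion ((yon S).map snd') :=
    Groth.Agent.Lib.Helper30.AffDesc.repWith_isImmersion_of_etale_cover ((yon S).map snd') T
      ((yon S).map τV)
      ((repWith_yon_map_iff _ _).2 (inferInstance : Etale τV.left))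
      ((repWith_yon_map_iff _ _).2 (inferInstance : Surjective τV.left))
      ((yon S).map ρ) ((yon S).map σ) sqWy
      ((repWith_yon_map_iff _ _).2 (inferInstance : IsImmersion σ.left))
  haveI : IsImmersion snd'.left := (repWith_yon_map_iff _ _).1 himm
  exact Groth.Agent.Lib.Helper31.RegImmEtDesc.isRegularImmersion_of_etale_cover k hkne snd'.left
    τV.left σ.left ρ.left sqWs hregT

end Groth.Agent.S10662
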