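import Groth.Statements.S10664
import Groth.Agent.Lib.Helper98.AlgSpLci
import Groth.Agent.S8656

set_option autoImplicit false
universe u
open CategoryTheory CategoryTheory.Limits AlgebraicGeometry
open AlgSp

namespace Groth.Agent.S10664

/-- For a local complete intersection (Koszul) morphism f : X ⟶ Y of algebraic spaces over S, a smooth g
: P ⟶ Y, an etale e : U ⟶ X and a representable immersion i : U ⟶ P with i ≫ g = e ≫ f, the
immersion i is Koszul-regular as an immersion of algebraic spaces. -/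
theorem result {S : Scheme.{u}} {X Y P U : AlgSp.Space S} (f : X ⟶ Y) (g : P ⟶ Y) (e : U ⟶ X) (i : U ⟶ P)
    (hc : i ≫ g = e ≫ f) (hf : AlgSp.IsLCIMor f.hom) (hg : AlgSp.LocP @Smooth g.hom)
    (he : AlgSp.IsEtaleMor e.hom) (hi : AlgSp.RepWith @IsImmersion i.hom) :
    AlgSp.IsRegImmMor RegImm.Kind.koszul i.hom := by
  refine ⟨hi.1, fun V W b fst snd hb sq => ?_⟩
  haveI : IsImmersion snd.left := hi.2 b fst snd sq
  suffices hl : ∀ z, Synt.IsKoszulAt snd.left z from
    Groth.Agent.S8656.result snd.left hl (𝟙 V.left) snd.left (Category.comp_id _)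
  have hfst : AlgSp.RepWith @Etale fst := MorphismProperty.of_isPullback sq.flip hb
  have hc' : i.hom ≫ g.hom = e.hom ≫ f.hom := congrArg (fun m => m.hom) hc
  refine Groth.Agent.Lib.Helper98.AlgSpLci.lci_of_smooth_chart Y.property.atlas g.hom hg snd b hb ?_
  intro T c W' pr₁ k hc1 hpr hcomm
  haveI : Etale pr₁.left := hpr
  have ha' : AlgSp.RepWith @Etale ((AlgSp.yon S).map pr₁ ≫ fst ≫ e.hom) :=
    (AlgSp.RepWith (S := S) @Etale).comp_mem _ _
      ((AlgSp.repWith_yon_map_iff _ _).2 (inferInstance : Etale pr₁.left)) (he fst hfst)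
  refine hf ((AlgSp.yon S).map pr₁ ≫ fst ≫ e.hom) c k ha' hc1 ?_
  rw [← hcomm, Functor.map_comp, Category.assoc, Category.assoc, Category.assoc, ← hc',
    ← Category.assoc fst, sq.w, Category.assoc]

end Groth.Agent.S10664
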