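import Groth.Statements.S9773
import Mathlib
import Groth.Agent.S15821
-- import your own Groth.Agent.* helpers here

set_option autoImplicit false
universe u
open FlatMor

namespace Groth.Agent.S9773

section PRE
open AlgebraicGeometry CategoryTheory Limits

lemma koszulSeq {R : Type u} [CommRing R] (k : RegImm.Kind)
    (hk : k = RegImm.Kind.regular ∨ k = RegImm.Kind.koszul) (rs : List R) (h : k.Seq R rs) :
    RegImm.Kind.koszul.Seq R rs := by
  rcases hk with rfl | rfl
  · exact (Groth.Agent.S15821.result R rs h.toIsWeaklyRegular).1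
  · exact h

lemma isClosedImmersion_restrict_of_iso {Z' Z X : Scheme.{u}} (f : Z' ⟶ Z) [IsIso f] (i : Z ⟶ X)
    (U : X.Opens) (h : IsClosedImmersion (i ∣_ U)) : IsClosedImmersion ((f ≫ i) ∣_ U) := by
  rw [morphismRestrict_comp]
  haveI := h
  exact IsClosedImmersion.comp (f ∣_ i ⁻¹ᵁ U) (i ∣_ U)

lemma main {Z X : Scheme.{u}} (i : Z ⟶ X) (k : RegImm.Kind)
    (hk : k = RegImm.Kind.regular ∨ k = RegImm.Kind.koszul) (hi : RegImm.IsRegularImmersion k i) (z : Z) :
    Synt.IsKoszulAt i z := by
  obtain ⟨himm, hat⟩ := hi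
  haveI := himm
  haveI : IsIso (⊤ : Z.Opens).ι := by rw [← Scheme.topIso_hom]; infer_instance
  refine ⟨⊤, X, (⊤ : Z.Opens).ι ≫ i, 𝟙 X, trivial, ?_, ⟨inferInstance, ?_⟩, inferInstance, by simp⟩
  · infer_instance
  · intro z'
    obtain ⟨U, hzU, hcl, rs, hrs, hker⟩ := hat ((⊤ : Z.Opens).ι z')
    refine ⟨U, by simpa using hzU, ?_, rs, koszulSeq k hk rs hrs, ?_⟩
    · exact isClosedImmersion_restrict_of_iso _ i U.1 hcl
    · rw [← hker]
      have e : ((⊤ : Z.Opens).ι ≫ i).app U.1 = i.app U.1 ≫ (⊤ : Z.Opens).ι.app (i ⁻¹ᵁ U.1) :=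
        Scheme.Hom.comp_app _ _ _
      rw [e]
      have hinj : Function.Injective (((⊤ : Z.Opens).ι.app (i ⁻¹ᵁ U.1)).hom) :=
        ((ConcreteCategory.isIso_iff_bijective _).mp inferInstance).1
      ext x
      rw [RingHom.mem_ker, RingHom.mem_ker]
      change ((⊤ : Z.Opens).ι.app (i ⁻¹ᵁ U.1)).hom ((i.app U.1).hom x) = 0 ↔ _
      constructor
      · intro h
        exact hinj (by rw [h, map_zero])
      · intro h
        rw [h, map_zero]

end PRE

open AlgebraicGeometry CategoryTheory Limits in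
/-- A regular immersion of schemes, and likewise a Koszul-regular immersion, is a local complete
intersection morphism (Koszul at every point). -/
theorem result {Z X : Scheme.{u}} (i : Z ⟶ X) (k : RegImm.Kind)
    (hk : k = RegImm.Kind.regular ∨ k = RegImm.Kind.koszul) (hi : RegImm.IsRegularImmersion k i) (z : Z) :
    Synt.IsKoszulAt i z := by
  exact main i k hk hi z

end Groth.Agent.S9773
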