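import Groth.Statements.S10665
import Groth.Agent.S8661
import Groth.Agent.S9773
import Groth.Agent.Lib.Helper9.RootLCI2
import Groth.Agent.Lib.Helper30.AlgSpLoc

set_option autoImplicit false
universe u
open CategoryTheory CategoryTheory.Limits AlgebraicGeometry
open AlgSp

namespace Groth.Agent.S10665

/-- A Koszul-regular immersion between algebraic spaces over S (representable, Koszul-regular immersion
on every etale scheme chart of the target) is a local complete intersection morphism (Koszul at
every point, etale locally on source and target). -/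
theorem result {S : Scheme.{u}} {X Y : AlgSp.Space S} (i : X ⟶ Y) (hi : AlgSp.IsRegImmMor RegImm.Kind.koszul i.hom) :
    AlgSp.IsLCIMor i.hom := by
  obtain ⟨hrep, hK⟩ := hi
  intro U V a b h ha hb hw
  have sq := hrep.isPullback b
  have hKs : RegImm.IsRegularImmersion RegImm.Kind.koszul (hrep.snd b).left :=
    hK b (hrep.fst b) (hrep.snd b) hb sq
  have hfst : AlgSp.RepWith @Etale (hrep.fst b) := MorphismProperty.of_isPullback sq.flip hb
  have he1 : (AlgSp.yon S).map (hrep.lift a h hw) ≫ hrep.fst b = a := hrep.lift_fst a h hw
  have he2 : hrep.lift a h hw ≫ hrep.snd b = h := hrep.lift_snd a h hw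
  haveI : Etale (hrep.lift a h hw).left :=
    Groth.Agent.Lib.Helper30.etale_of_comp_repWith_etale (hrep.lift a h hw) (hrep.fst b) hfst
      (by rw [he1]; exact ha)
  have hh : h.left = (hrep.lift a h hw).left ≫ (hrep.snd b).left := by
    rw [← Over.comp_left, he2]
  show ∀ x, Synt.IsKoszulAt h.left x
  rw [hh]
  exact Groth.Agent.S8661.result (hrep.lift a h hw).left (hrep.snd b).left
    (fun x => Groth.Agent.Lib.Helper9.RootLCI2.isKoszulAt_of_smooth _ x)
    (fun y => Groth.Agent.S9773.result _ RegImm.Kind.koszul (Or.inr rfl) hKs y)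

end Groth.Agent.S10665
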