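import Groth.Statements.S10666
import Groth.Agent.Lib.Helper98.AlgSpLci

set_option autoImplicit false
universe u
open CategoryTheory CategoryTheory.Limits AlgebraicGeometry
open AlgSp

namespace Groth.Agent.S10666

/-- For morphisms f : X ⟶ Y, p : X ⟶ Z, q : Y ⟶ Z of algebraic spaces over S with f ≫ q = p: if q is
smooth and p is a local complete intersection morphism, then so is f. -/
theorem result {S : Scheme.{u}} {X Y Z : AlgSp.Space S} (f : X ⟶ Y) (p : X ⟶ Z) (q : Y ⟶ Z) (hc : f ≫ q = p)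
    (hq : AlgSp.LocP @Smooth q.hom) (hp : AlgSp.IsLCIMor p.hom) :
    AlgSp.IsLCIMor f.hom := by
  subst hc
  intro U V a b h ha hb hw
  refine Groth.Agent.Lib.Helper98.AlgSpLci.lci_of_smooth_chart Z.property.atlas q.hom hq h b hb ?_
  intro T c W' pr₁ k hc1 hpr hcomm
  haveI : Etale pr₁.left := hpr
  have ha' : AlgSp.RepWith @Etale ((AlgSp.yon S).map pr₁ ≫ a) :=
    (AlgSp.RepWith (S := S) @Etale).comp_mem _ _
      ((AlgSp.repWith_yon_map_iff _ _).2 (inferInstance : Etale pr₁.left)) ha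
  refine hp ((AlgSp.yon S).map pr₁ ≫ a) c k ha' hc1 ?_
  show ((AlgSp.yon S).map pr₁ ≫ a) ≫ f.hom ≫ q.hom = _
  rw [← hcomm, Functor.map_comp, Category.assoc, Category.assoc, ← Category.assoc a, hw,
    Category.assoc]

end Groth.Agent.S10666
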