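import Groth.Statements.S10668
import Groth.Agent.Lib.Helper31.AlgSpLciLocus

set_option autoImplicit false
universe u
open CategoryTheory CategoryTheory.Limits AlgebraicGeometry
open AlgSp

namespace Groth.Agent.S10668

open Groth.Agent.Lib.Helper31.AlgSpFlatAt Groth.Agent.Lib.Helper52 in
open Groth.Agent.Lib.Helper31.AlgSpLciLocus in
open Groth.Agent.Lib.Helper30.Near in

/-- For morphisms f : X ⟶ Y, p : X ⟶ Z and q : Y ⟶ Z of algebraic spaces over S with f ≫ q = p and p, q
both flat and locally of finite presentation, any morphism of algebraic spaces g : Z' ⟶ Z and any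
base change f' : X' ⟶ Y' of f along g (pullback squares Y' = Y ×_Z Z', X' = X ×_Y Y'), the set of
points of |X'| at which f' is Koszul (a local complete intersection morphism on some open subspace
through the point) is the inverse image under |X'| ⟶ |X| of the set of points at which f is Koszul.
(The published statement also records that the points at which f is Koszul form an open subspace of
X; with the open-neighbourhood form of being Koszul at a point used here that set is a union of
images of open subspaces, and this row states only its compatibility with base change.) -/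
theorem result {S : Scheme.{u}} {X Y Z : AlgSp.Space S} (f : X ⟶ Y) (p : X ⟶ Z) (q : Y ⟶ Z) (hc : f ≫ q = p)
    (hp1 : AlgSp.LocP @Flat p.hom) (hp2 : AlgSp.LocP @LocallyOfFinitePresentation p.hom)
    (hq1 : AlgSp.LocP @Flat q.hom) (hq2 : AlgSp.LocP @LocallyOfFinitePresentation q.hom)
    {Z' Y' X' : AlgSp.Space S} (g : Z' ⟶ Z) (gY : Y' ⟶ Y) (q' : Y' ⟶ Z') (hY : IsPullback gY.hom q'.hom q.hom g.hom)
    (gX : X' ⟶ X) (f' : X' ⟶ Y') (hX : IsPullback gX.hom f'.hom f.hom gY.hom) :
    {x' | AlgSp.LocPNear AlgSp.lci f'.hom x'} =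
      AlgSp.Points.map gX.hom ⁻¹' {x | AlgSp.LocPNear AlgSp.lci f.hom x} := by
  subst hc
  obtain ⟨G⟩ := exists_goodChart f.hom q.hom X.property Y.property Z.property
  have hfl : LocP @Flat (f.hom ≫ q.hom) := hp1
  have hfp : LocP @LocallyOfFinitePresentation (f.hom ≫ q.hom) := hp2
  haveI : Flat G.l.left := hq1 G.b G.c G.l G.hb G.hc G.comm_h
  haveI : LocallyOfFinitePresentation G.l.left := hq2 G.b G.c G.l G.hb G.hc G.comm_h
  haveI : Flat (G.k.left ≫ G.l.left) := hfl G.a G.c (G.k ≫ G.l) G.ha G.hc G.comm_fh
  haveI : LocallyOfFinitePresentation (G.k.left ≫ G.l.left) :=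
    hfp G.a G.c (G.k ≫ G.l) G.ha G.hc G.comm_fh
  ext x'
  show AlgSp.LocPNear AlgSp.lci f'.hom x' ↔ AlgSp.LocPNear AlgSp.lci f.hom (AlgSp.Points.map gX.hom x')
  rw [locPNear_lci_iff X'.property Y'.property, locPNear_lci_iff X.property Y.property]
  exact hasAtMor_lci_baseChange_iff G Z'.property g.hom f'.hom q'.hom gX.hom gY.hom hY hX x'

end Groth.Agent.S10668
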