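import Groth.Statements.S10677
import Groth.Agent.Lib.Helper30.AlgSpFiniteProper
import Groth.Agent.Lib.Helper30.AlgSpAffTested2
import Groth.Agent.Lib.Helper31.AlgSpWhere
import Groth.Agent.Lib.Helper78.AlgSpMisc
import Groth.Agent.Lib.Helper51.AlgSpSchImProper
import Groth.Agent.S10272
import Groth.Agent.S10267
import Mathlib.AlgebraicGeometry.ZariskisMainTheorem

set_option autoImplicit false
set_option maxHeartbeats 1600000
set_option backward.isDefEq.respectTransparency false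
universe u
open CategoryTheory CategoryTheory.Limits AlgebraicGeometry
open AlgSp

namespace Groth.Agent.S10677

open Groth.Agent.Lib.Helper31.AlgSpFlatAt Groth.Agent.Lib.Helper52 Groth.Agent.Lib.Helper51
  Groth.Agent.Lib.Helper98.AlgSpPtLocal Groth.Agent.Lib.Helper30.Near in
/-- For a separated morphism f : X ⟶ Y of algebraic spaces over S which is locally of finite type and a
point x of |X| with image y at which f is quasi-finite (some etale chart diagram through x has top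
arrow locally quasi-finite and locally of finite type on an open neighbourhood), there are an etale
morphism a : U ⟶ Y and a point u of |U| over y such that for the base change P = U ×_Y X there is an
open and closed subspace V ⊂ P, finite over U, containing a point mapping to x in |X| and to u in
|U|. -/
theorem result {S : Scheme.{u}} {X Y : AlgSp.Space S} (f : X ⟶ Y) (x : AlgSp.Points X.obj)
    (hf1 : AlgSp.LocP @LocallyOfFiniteType f.hom) (hf2 : AlgSp.IsSeparatedMor f.hom)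
    (hf3 : AlgSp.HasAtMor (fun U _ h u => ∃ W : U.Opens, u ∈ W ∧ LocallyQuasiFinite (W.ι ≫ h) ∧ LocallyOfFiniteType (W.ι ≫ h)) f.hom x) :
    ∃ (U : AlgSp.Space S) (a : U ⟶ Y) (u : AlgSp.Points U.obj), AlgSp.IsEtaleMor a.hom ∧
      AlgSp.Points.map a.hom u = AlgSp.Points.map f.hom x ∧
      ∀ (P : AlgSp.Space S) (prX : P ⟶ X) (prU : P ⟶ U), IsPullback prX.hom prU.hom f.hom a.hom →
        ∃ (V : AlgSp.Space S) (jV : V ⟶ P), AlgSp.RepWith @IsOpenImmersion jV.hom ∧ AlgSp.RepWith @IsClosedImmersion jV.hom ∧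
          AlgSp.IsFiniteMor (jV ≫ prU).hom ∧
          ∃ v : AlgSp.Points V.obj, AlgSp.Points.map (jV ≫ prX).hom v = x ∧ AlgSp.Points.map (jV ≫ prU).hom v = u := by
  have hX := X.property
  have hY := Y.property
  have hE := Groth.Agent.Lib.Helper78.AlgSpLocPLqf.etLocalST_lqf.{u}
  -- (A) the quasi-finite locus
  obtain ⟨G⟩ := exists_goodChart f.hom (𝟙 Y.obj) hX hY hY
  have hopen : IsOpen {x : Points X.obj | HasAtMor (Near (@LocallyQuasiFinite ⊓ @LocallyOfFiniteType))
      f.hom x} :=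
    isOpen_hasAtMor (etLocalPt_near hE) G (isOpen_near _ _)
  obtain ⟨Qf, hQf⟩ : ∃ Qf : Set (Points X.obj), Qf = {x : Points X.obj |
      HasAtMor (Near (@LocallyQuasiFinite ⊓ @LocallyOfFiniteType)) f.hom x} := ⟨_, rfl⟩
  rw [← hQf] at hopen
  have hxQ : x ∈ Qf := by
    rw [hQf]
    exact Groth.Agent.Lib.Helper78.AlgSpMisc.hasAtMor_mono
      (fun U V h u ⟨W, hu, h1, h2⟩ => ⟨W, hu, h1, h2⟩) hf3
  have hXQ : AlgSp.IsAlgSpace (openSp X.obj Qf) := isAlgSpace_openSp Qf hopen hX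
  have hιrep : AlgSp.RepWith @IsOpenImmersion (openSpι X.obj Qf) :=
    repWith_isOpenImmersion_openSpι Qf hopen
  have hιmono : Mono (openSpι X.obj Qf) :=
    mono_of_repWith (fun g (_ : IsOpenImmersion g) => inferInstance) hιrep
  have hgqf : AlgSp.LocP (@LocallyQuasiFinite ⊓ @LocallyOfFiniteType) (openSpι X.obj Qf ≫ f.hom) :=
    locP_openSpι_comp hE f.hom Qf hopen (fun x hx => by rw [hQf] at hx; exact hx)
  have hgsep : AlgSp.IsSeparatedMor (openSpι X.obj Qf ≫ f.hom) :=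
    Groth.Agent.Lib.Helper51.KerAt.isSeparatedMor_comp _ _
      (Groth.Agent.Lib.Helper51.KerAt.isSeparatedMor_of_mono _) hf2
  have hgrep : AlgSp.Representable (openSpι X.obj Qf ≫ f.hom) :=
    Groth.Agent.Lib.Helper30.ZMT.representable_of_sep_lqf hXQ hY _ hgsep hgqf
  obtain ⟨x₀, hx₀⟩ : ∃ x₀ : Points (openSp X.obj Qf), Points.map (openSpι X.obj Qf) x₀ = x := by
    have : x ∈ Set.range (Points.map (openSpι X.obj Qf)) := by
      rw [range_map_openSpι]; exact hxQ
    exact this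
  obtain ⟨ι, hι⟩ : ∃ ι : openSp X.obj Qf ⟶ X.obj, ι = openSpι X.obj Qf := ⟨_, rfl⟩
  rw [← hι] at hιrep hιmono hgqf hgsep hgrep hx₀
  -- (B) an etale chart of Y and the scheme W = XQ ×_Y B
  obtain ⟨B, b, hb, hbs⟩ := hY.atlas
  obtain ⟨b₀, hb₀⟩ := surjective_ofPt_of_repWith_surjective b hbs (Points.map f.hom x)
  have sqW := hgrep.isPullback b
  obtain ⟨W, hWdef⟩ : ∃ W : Over S, W = hgrep.pullback b := ⟨_, rfl⟩
  obtain ⟨gW, hgW⟩ : ∃ gW : hgrep.pullback b ⟶ B, gW = hgrep.snd b := ⟨_, rfl⟩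
  obtain ⟨pW, hpW⟩ : ∃ pW : (AlgSp.yon S).obj (hgrep.pullback b) ⟶ openSp X.obj Qf,
    pW = hgrep.fst b := ⟨_, rfl⟩
  rw [← hgW, ← hpW] at sqW
  have hgWloc : AlgSp.LocP (@LocallyQuasiFinite ⊓ @LocallyOfFiniteType) ((AlgSp.yon S).map gW) :=
    Groth.Agent.Lib.Helper78.AlgSpLocP.locP_of_isPullback hE sqW
      (Groth.Agent.Lib.Helper78.AlgSpFibre.repAll_of_isAlgSpace hY) hXQ.atlas hY.atlas hgqf
  have hgW2 := AlgSp.locP_yon_map hgWloc
  haveI : LocallyQuasiFinite gW.left := hgW2.1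
  haveI : LocallyOfFiniteType gW.left := hgW2.2
  haveI : IsSeparated gW.left := by
    rw [← AlgSp.isSeparatedMor_yon_map_iff]
    exact MorphismProperty.of_isPullback
      (P := (AlgSp.RepWith (S := S) @IsClosedImmersion).diagonal) sqW hgsep
  obtain ⟨w, hw1, hw2⟩ : ∃ w : ↥(hgrep.pullback b).left, Points.ofPt pW w = x₀ ∧
      gW.left w = b₀ := by
    have h : Points.map (ι ≫ f.hom) x₀ = Points.map b (Points.ofScheme B b₀) := by
      rw [Points.map_comp, hx₀, ← Points.ofPt_eq_map_ofScheme, hb₀]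
    obtain ⟨w', hw1, hw2⟩ := exists_point_of_isPullback sqW x₀ (Points.ofScheme B b₀) h
    obtain ⟨w, rfl⟩ := (Points.schemeEquiv (hgrep.pullback b)).surjective w'
    change Points.map _ (Points.ofScheme _ w) = _ at hw1
    change Points.map _ (Points.ofScheme _ w) = _ at hw2
    refine ⟨w, ?_, ?_⟩
    · rw [Points.ofPt_eq_map_ofScheme]; exact hw1
    · have := Points.map_yon_map_apply gW w
      change Points.map ((AlgSp.yon S).map gW) (Points.ofScheme _ w) =
        Points.ofScheme B (gW.left w) at this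
      rw [hw2] at this
      exact ((Points.schemeEquiv B).injective this).symm
  -- (C) the etale splitting for schemes
  obtain ⟨U₀, e, he, hb₀e, V₀, W₀, v, hcompl, hfin, hv⟩ :=
    exists_etale_isCompl_of_quasiFiniteAt gW.left hw2 (gW.left.quasiFiniteAt w)
  -- (D) package the scheme-level data over S
  obtain ⟨TO, UO, V, tU, tW, eO, iV, vv, sqO, heO, hiV, hfinV, hvv1, hvv2⟩ :
      ∃ (TO UO V : Over S) (tU : TO ⟶ UO) (tW : TO ⟶ hgrep.pullback b) (eO : UO ⟶ B)
        (iV : V ⟶ TO) (vv : ↥V.left), IsPullback tU tW eO gW ∧ Etale eO.left ∧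
        IsOpenImmersion iV.left ∧ IsFinite (iV ≫ tU).left ∧ tW.left (iV.left vv) = w ∧
        eO.left ((iV ≫ tU).left vv) = b₀ := by
    have hw' : pullback.snd gW.left e ≫ e ≫ B.hom =
        pullback.fst gW.left e ≫ (hgrep.pullback b).hom := by
      rw [← Over.w gW, ← Category.assoc, ← Category.assoc, pullback.condition]
    have sqO := Groth.Agent.Lib.Helper30.isPullback_over gW (pullback.fst gW.left e) e
      (pullback.snd gW.left e) (IsPullback.of_hasPullback gW.left e).flip hw'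
    refine ⟨Over.mk _, Over.mk _, Over.mk (V₀.ι ≫ pullback.fst gW.left e ≫ (hgrep.pullback b).hom),
      Over.homMk _ hw', Over.homMk _ rfl, Over.homMk e rfl, Over.homMk V₀.ι rfl, v, sqO, he,
      (inferInstance : IsOpenImmersion V₀.ι), hfin, hv, ?_⟩
    change e ((V₀.ι ≫ pullback.snd gW.left e) v) = b₀
    rw [Scheme.Hom.comp_apply, ← Scheme.Hom.comp_apply (pullback.snd gW.left e) e,
      ← pullback.condition, Scheme.Hom.comp_apply]
    change gW.left (pullback.fst gW.left e (v : ↥(pullback gW.left e))) = b₀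
    rw [hv, hw2]
  clear hcompl hfin hv W₀ v
  have hae : AlgSp.RepWith @Etale ((AlgSp.yon S).map eO ≫ b) :=
    (AlgSp.RepWith (S := S) @Etale).comp_mem _ _ ((AlgSp.repWith_yon_map_iff _ _).2 heO) hb
  refine ⟨⟨(AlgSp.yon S).obj UO, AlgSp.IsAlgSpace.yon_obj UO⟩,
    ObjectProperty.homMk ((AlgSp.yon S).map eO ≫ b), Points.ofScheme UO ((iV ≫ tU).left vv),
    AlgSp.isEtaleMor_of_repWith _ hae, ?_, ?_⟩
  · show Points.map ((AlgSp.yon S).map eO ≫ b) (Points.ofScheme UO ((iV ≫ tU).left vv)) = _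
    rw [← Points.ofPt_eq_map_ofScheme, ofPt_yon_map_comp, hvv2, hb₀]
  intro P prX prU sqP
  replace sqP : IsPullback prX.hom prU.hom f.hom ((AlgSp.yon S).map eO ≫ b) := sqP
  -- the scheme TO represents XQ ×_Y UO
  have sqT : IsPullback ((AlgSp.yon S).map tW ≫ pW) ((AlgSp.yon S).map tU) (ι ≫ f.hom)
      ((AlgSp.yon S).map eO ≫ b) := (sqO.map (AlgSp.yon S)).flip.paste_horiz sqW
  have hkw : (((AlgSp.yon S).map tW ≫ pW) ≫ ι) ≫ f.hom =
      (AlgSp.yon S).map tU ≫ (AlgSp.yon S).map eO ≫ b := by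
    rw [Category.assoc]; exact sqT.w
  obtain ⟨k, hk1, hk2⟩ : ∃ k : (AlgSp.yon S).obj TO ⟶ P.obj,
      k ≫ prX.hom = ((AlgSp.yon S).map tW ≫ pW) ≫ ι ∧ k ≫ prU.hom = (AlgSp.yon S).map tU :=
    ⟨sqP.lift _ _ hkw, sqP.lift_fst _ _ _, sqP.lift_snd _ _ _⟩
  have sqk : IsPullback k ((AlgSp.yon S).map tW ≫ pW) prX.hom ι := by
    refine IsPullback.of_right ?_ hk1 sqP.flip
    rw [hk2]; exact sqT.flip
  have hkrep : AlgSp.RepWith @IsOpenImmersion k := MorphismProperty.of_isPullback sqk.flip hιrep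
  have hjVrep : AlgSp.RepWith @IsOpenImmersion ((AlgSp.yon S).map iV ≫ k) :=
    (AlgSp.RepWith (S := S) @IsOpenImmersion).comp_mem _ _
      ((AlgSp.repWith_yon_map_iff _ _).2 hiV) hkrep
  obtain ⟨VS, hVS⟩ : ∃ VS : AlgSp.Space S, VS = ⟨(AlgSp.yon S).obj V, AlgSp.IsAlgSpace.yon_obj V⟩ :=
    ⟨_, rfl⟩
  obtain ⟨jV, hjV⟩ : ∃ jV : (⟨(AlgSp.yon S).obj V, AlgSp.IsAlgSpace.yon_obj V⟩ : AlgSp.Space S) ⟶ P,
      jV.hom = (AlgSp.yon S).map iV ≫ k := ⟨ObjectProperty.homMk _, rfl⟩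
  have hcomp : (jV ≫ prU).hom = (AlgSp.yon S).map (iV ≫ tU) := by
    show jV.hom ≫ prU.hom = _
    rw [hjV, Category.assoc, hk2, ← Functor.map_comp]
  have hfinrepU : AlgSp.RepWith @IsFinite ((AlgSp.yon S).map (iV ≫ tU)) :=
    (AlgSp.repWith_yon_map_iff _ _).2 hfinV
  have hfinU : AlgSp.IsFiniteMor (jV ≫ prU).hom := by
    rw [hcomp]
    exact Groth.Agent.Lib.Helper30.affTested_of_repWith @IsFinite
      (fun i hi => by have : IsFinite i := hi; infer_instance) hfinrepU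
  have hsepU : AlgSp.IsSeparatedMor prU.hom :=
    MorphismProperty.of_isPullback
      (P := (AlgSp.RepWith (S := S) @IsClosedImmersion).diagonal) sqP hf2
  have hfinj : AlgSp.IsFiniteMor jV.hom := (Groth.Agent.S10272.result jV prU hsepU).1 hfinU
  have hfinjrep : AlgSp.RepWith @IsFinite jV.hom := (Groth.Agent.S10267.result jV).2.1 hfinj
  refine ⟨_, jV, hjV ▸ hjVrep, ?_, hfinU, Points.ofScheme V vv, ?_, ?_⟩
  · refine ⟨hfinjrep.1, fun _ _ g fst snd sq => ?_⟩
    have h1 : IsFinite snd.left := hfinjrep.2 g fst snd sq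
    have h2 : IsOpenImmersion snd.left := (hjV ▸ hjVrep).2 g fst snd sq
    exact (IsClosedImmersion.iff_isFinite_and_mono snd.left).2 ⟨h1, inferInstance⟩
  · show Points.map (jV.hom ≫ prX.hom) (Points.ofScheme V vv) = x
    rw [hjV, Category.assoc, hk1, ← Points.ofPt_eq_map_ofScheme, ofPt_yon_map_comp,
      Category.assoc, ofPt_yon_map_comp, hvv1, ← Points.map_ofPt, hw1, hx₀]
  · rw [hcomp]
    exact Points.map_yon_map_apply (iV ≫ tU) vv

end Groth.Agent.S10677
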