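import Groth.Statements.S10678
import Groth.Agent.Lib.Helper98.AlgSpLqf
import Groth.Agent.Lib.Helper78.AlgSpFibre
import Groth.Agent.Lib.Helper29.TopDimLocal

set_option autoImplicit false
universe u
open CategoryTheory CategoryTheory.Limits AlgebraicGeometry
open AlgSp

namespace Groth.Agent.S10678

open Groth.Agent.Lib.Helper31.AlgSpFlatAt Groth.Agent.Lib.Helper52 Groth.Agent.Lib.Helper51
  Groth.Agent.Lib.Helper98.AlgSpPtLocal Groth.Agent.Lib.Helper98.AlgSpLqf
  Groth.Agent.Lib.Helper98.AlgSpFibreDimLocal Groth.Agent.Lib.Helper29 in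
/-- For a morphism f : X ⟶ Y of finite type between algebraic spaces over S, a point y of |Y| and any
field point k of Y in the class of y, with fibre X_k (pullback in fppf sheaves): the dimension of
X_k (supremum of the dimensions of its etale scheme charts) is -∞ exactly when y lies outside the
image of |X|, and for every natural number d it is at most d exactly when f has relative dimension
at most d at every point of |X| over y (some etale chart diagram through the point whose top arrow
has local fibre dimension at most d there). -/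
theorem result {S : Scheme.{u}} {X Y : AlgSp.Space S} (f : X ⟶ Y) (hf : AlgSp.IsFiniteTypeMor f.hom)
    (y : AlgSp.Points Y.obj) (k : AlgSp.FieldPt Y.obj) (hk : AlgSp.Points.mk k = y)
    (Xk : AlgSp.Sp S) (fst : Xk ⟶ X.obj) (snd : Xk ⟶ (AlgSp.yon S).obj k.pt) (h : IsPullback fst snd f.hom k.toHom) :
    (AlgSp.dim Xk = ⊥ ↔ y ∉ Set.range (AlgSp.Points.map f.hom)) ∧
      ∀ d : ℕ, (AlgSp.dim Xk ≤ d ↔
        ∀ x : AlgSp.Points X.obj, AlgSp.Points.map f.hom x = y →
          AlgSp.HasAtMor (fun _ _ h u => FlatMor.fibreDimAt h u ≤ (d : WithBot ℕ∞)) f.hom x) := by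
  obtain ⟨G⟩ := exists_goodChart f.hom (𝟙 Y.obj) X.property Y.property Y.property
  haveI : LocallyOfFiniteType G.k.left := hf.1 G.a G.b G.k G.ha G.hb G.comm_f
  have hXk : IsAlgSpace Xk :=
    Groth.Agent.Lib.Helper78.AlgSpFibre.isAlgSpace_of_isPullback h Y.property.diag X.property
      (IsAlgSpace.yon_obj k.pt)
  haveI : Subsingleton ↥k.pt.left := inferInstanceAs (Subsingleton (PrimeSpectrum k.K))
  have hpt : ∀ t : Points ((yon S).obj k.pt), Points.map k.toHom t = y := by
    intro t
    obtain ⟨s, rfl⟩ := (Points.schemeEquiv k.pt).surjective t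
    show Points.map k.toHom (Points.ofPt (𝟙 _) s) = y
    rw [Points.map_ofPt, Category.id_comp, Points.ofPt_toHom, hk]
  have hlift : ∀ x : Points X.obj, Points.map f.hom x = y →
      ∃ x' : Points Xk, Points.map fst x' = x := by
    intro x hx
    obtain ⟨x', h1, -⟩ := exists_point_of_isPullback h x
      (Points.ofScheme k.pt (IsLocalRing.closedPoint k.K)) (by rw [hx, hpt])
    exact ⟨x', h1⟩
  have hover : ∀ x' : Points Xk, Points.map f.hom (Points.map fst x') = y := by
    intro x'
    rw [← Points.map_comp, h.w, Points.map_comp, hpt]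
  have hdimle : ∀ (U : Over S) (a : (yon S).obj U ⟶ Xk) (_ : RepWith @Etale a),
      topologicalKrullDim ↥U.left ≤ AlgSp.dim Xk := fun U a ha =>
    le_iSup_of_le U (le_iSup_of_le a (le_iSup_of_le ha le_rfl))
  constructor
  · constructor
    · rintro hbot ⟨x, hx⟩
      obtain ⟨x', -⟩ := hlift x hx
      obtain ⟨U, a, ha, has⟩ := hXk.atlas
      obtain ⟨u, -⟩ := surjective_ofPt_of_repWith_surjective a has x'
      have hle := hdimle U a ha
      rw [hbot, le_bot_iff] at hle
      have hne : (0 : WithBot ℕ∞) ≤ topologicalKrullDim ↥U.left := by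
        haveI : Nonempty (TopologicalSpace.IrreducibleCloseds ↥U.left) :=
          ⟨⟨closure {u}, isIrreducible_singleton.closure, isClosed_closure⟩⟩
        exact Order.krullDim_nonneg
      rw [hle] at hne
      exact absurd hne (by simp)
    · intro hy
      unfold AlgSp.dim
      simp only [iSup_eq_bot]
      intro U a ha
      haveI : IsEmpty ↥U.left := ⟨fun u => hy ⟨Points.map fst (Points.ofPt a u), hover _⟩⟩
      haveI : IsEmpty (TopologicalSpace.IrreducibleCloseds ↥U.left) := ⟨fun Z => by
        obtain ⟨z, -⟩ := Z.isIrreducible'.nonempty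
        exact isEmptyElim z⟩
      show Order.krullDim (TopologicalSpace.IrreducibleCloseds ↥U.left) = ⊥
      exact Order.krullDim_eq_bot
  · intro d
    have key : ∀ x' : Points Xk,
        HasAtMor (fun _ _ h u => FlatMor.fibreDimAt h u ≤ (d : WithBot ℕ∞)) snd x' ↔
          HasAtMor (fun _ _ h u => FlatMor.fibreDimAt h u ≤ (d : WithBot ℕ∞)) f.hom
            (Points.map fst x') := fun x' =>
      hasAtMor_baseChange_iff (Q := fun _ _ h u => FlatMor.fibreDimAt h u ≤ (d : WithBot ℕ∞))
        (etLocalPt_fibreDim (fun e => e ≤ (d : WithBot ℕ∞))) G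
        (fun mU k'' mV sq u'' => by rw [fibreDimAt_baseChange G.k.left mU k'' mV sq u''])
        (IsAlgSpace.yon_obj k.pt) k.toHom snd (𝟙 _) fst k.toHom IsPullback.of_id_snd h x'
    have hchart : ∀ (U : Over S) (a : (yon S).obj U ⟶ Xk) (_ : RepWith @Etale a) (u : U.left),
        HasAtMor (fun _ _ h u => FlatMor.fibreDimAt h u ≤ (d : WithBot ℕ∞)) snd (Points.ofPt a u) ↔
          FlatMor.localDim ↥U.left u ≤ (d : WithBot ℕ∞) := by
      intro U a ha u
      let hh : U ⟶ k.pt := (yon S).preimage (a ≫ snd)
      have hhh : (yon S).map hh = a ≫ snd := (yon S).map_preimage _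
      have h1 : RepWith @Etale (𝟙 ((yon S).obj k.pt)) := by
        rw [← (yon S).map_id]; exact (repWith_yon_map_iff _ _).2 (by dsimp; infer_instance)
      have comm : a ≫ snd = (yon S).map hh ≫ 𝟙 _ := by rw [hhh, Category.comp_id]
      have h2 := hasAtMor_iff_of_chart
        (Q := fun _ _ h u => FlatMor.fibreDimAt h u ≤ (d : WithBot ℕ∞))
        (etLocalPt_fibreDim (fun e => e ≤ (d : WithBot ℕ∞))) snd a (𝟙 _) hh ha h1 comm u
      rw [h2, fibreDimAt_eq_localDim_of_subsingleton]
    constructor
    · intro hdim x hx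
      obtain ⟨x', rfl⟩ := hlift x hx
      rw [← key]
      obtain ⟨U, a, ha, has⟩ := hXk.atlas
      obtain ⟨u, rfl⟩ := surjective_ofPt_of_repWith_surjective a has x'
      rw [hchart U a ha u]
      exact (localDim_le_dim u).trans ((hdimle U a ha).trans hdim)
    · intro H
      unfold AlgSp.dim
      refine iSup_le fun U => iSup_le fun a => iSup_le fun ha => ?_
      rw [topologicalKrullDim_eq_iSup_localDim]
      refine iSup_le fun u => ?_
      rw [← hchart U a ha u, key]
      exact H _ (hover _)

end Groth.Agent.S10678
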