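import Groth.Statements.S10679
import Groth.Agent.Lib.Helper31.FlatFibreDimImage
import Groth.Agent.Lib.Helper31.AlgSpFlatLocus
import Groth.Agent.Lib.Helper98.AlgSpFibreDimLocal
import Groth.Agent.Lib.Helper51.AlgSpValSchIm
import Groth.Agent.S10678

set_option autoImplicit false
universe u
open CategoryTheory CategoryTheory.Limits AlgebraicGeometry
open AlgSp

namespace Groth.Agent.S10679

open Groth.Agent.Lib.Helper31.AlgSpFlatAt Groth.Agent.Lib.Helper52 Groth.Agent.Lib.Helper51
  Groth.Agent.Lib.Helper98.AlgSpPtLocal Groth.Agent.Lib.Helper98.AlgSpFibreDimLocal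

theorem preimage_image_chart {S : Scheme.{u}} {X Y Z : AlgSp.Sp S} {f : X ⟶ Y} {h : Y ⟶ Z}
    (G : GoodChart f h) (T : Set (Points X)) :
    Points.ofPt G.b ⁻¹' (Points.map f '' T) = G.k.left '' (Points.ofPt G.a ⁻¹' T) := by
  ext v
  constructor
  · rintro ⟨x, hx, hxv⟩
    obtain ⟨u₁, rfl⟩ := surjective_ofPt_of_repWith_surjective G.a₁ G.ha₁s x
    obtain ⟨p, hp1, hp2⟩ := KerAt.exists_scheme_point_of_isPullback G.sqU
      (Points.ofScheme G.U₁ u₁) v (by
        rw [← hxv, Points.ofPt_eq_map_ofScheme G.a₁ u₁]
        rfl)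
    refine ⟨p, ?_, hp1⟩
    show Points.ofPt G.a p ∈ T
    have : Points.ofPt G.a p = Points.ofPt G.a₁ u₁ := by
      rw [Points.ofPt_eq_map_ofScheme G.a₁ u₁, ← hp2]
      rfl
    rw [this]
    exact hx
  · rintro ⟨u, hu, rfl⟩
    refine ⟨Points.ofPt G.a u, hu, ?_⟩
    rw [Points.map_ofPt, G.comm_f, ofPt_yon_map_comp]


/-- For a flat morphism f : X ⟶ Y of algebraic spaces over S which is of finite presentation, the fibre
dimension function on |Y|, y ↦ dimension of X_k for a field point k in the class of y, is lower
semi-continuous: for every d the set of y such that every fibre X_k over y (k a field point in the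
class of y, X_k any pullback in fppf sheaves) has dimension greater than d is open. -/
theorem result {S : Scheme.{u}} {X Y : AlgSp.Space S} (f : X ⟶ Y)
    (hf1 : AlgSp.LocP @Flat f.hom) (hf2 : AlgSp.IsFinitePresentationMor f.hom) (d : WithBot ℕ∞) :
    IsOpen {y : AlgSp.Points Y.obj | ∀ (k : AlgSp.FieldPt Y.obj), AlgSp.Points.mk k = y →
      ∀ (Xk : AlgSp.Sp S) (fst : Xk ⟶ X.obj) (snd : Xk ⟶ (AlgSp.yon S).obj k.pt),
        IsPullback fst snd f.hom k.toHom → d < AlgSp.dim Xk} := by
  obtain ⟨G⟩ := exists_goodChart f.hom (𝟙 Y.obj) X.property Y.property Y.property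
  haveI hk1 : Flat G.k.left := hf1 G.a G.b G.k G.ha G.hb G.comm_f
  haveI hk2 : LocallyOfFinitePresentation G.k.left := hf2.1 G.a G.b G.k G.ha G.hb G.comm_f
  have hft : IsFiniteTypeMor f.hom :=
    ⟨fun U V a b h ha hb comm => by
      haveI : LocallyOfFinitePresentation h.left := hf2.1 a b h ha hb comm
      infer_instance, hf2.2.1⟩
  have hq := isQuotientMap_ofPt G.b G.hb G.hbs
  have hD : IsOpen (Set.range (Points.map f.hom)) := by
    rw [← Set.image_univ, ← hq.isOpen_preimage, preimage_image_chart G, Set.preimage_univ,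
      Set.image_univ]
    exact G.k.left.isOpenMap.isOpen_range
  have hC : ∀ m : ℕ, IsOpen (Points.map f.hom '' {x : Points X.obj |
      ¬ HasAtMor (fun _ _ h u => FlatMor.fibreDimAt h u ≤ (m : WithBot ℕ∞)) f.hom x}) := by
    intro m
    rw [← hq.isOpen_preimage, preimage_image_chart G]
    have : Points.ofPt G.a ⁻¹' {x : Points X.obj |
        ¬ HasAtMor (fun _ _ h u => FlatMor.fibreDimAt h u ≤ (m : WithBot ℕ∞)) f.hom x} =
        {u : G.U.left | ¬ FlatMor.fibreDimAt G.k.left u ≤ (m : WithBot ℕ∞)} := by
      ext u
      exact not_congr (hasAtMor_iff_of_chart (etLocalPt_fibreDim (fun d => d ≤ (m : WithBot ℕ∞)))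
        f.hom G.a G.b G.k G.ha G.hb G.comm_f u)
    rw [this]
    exact Groth.Agent.Lib.Helper31.FlatFibreDimImage.isOpen_image_not_fibreDimAt_le G.k.left m
  induction d using WithBot.recBotCoe with
  | bot =>
    convert hD using 1
    ext y
    simp only [Set.mem_ofPred_eq]
    constructor
    · intro hy
      obtain ⟨k, hk⟩ := Points.mk_surjective y
      have sq := IsPullback.of_hasPullback f.hom k.toHom
      have hlt := hy k hk _ _ _ sq
      have key := Groth.Agent.S10678.result f hft y k hk _ _ _ sq
      by_contra hn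
      rw [key.1.2 hn] at hlt
      exact lt_irrefl _ hlt
    · intro hy k hk Xk fst snd sq
      have key := Groth.Agent.S10678.result f hft y k hk Xk fst snd sq
      rw [bot_lt_iff_ne_bot]
      intro h0
      exact key.1.1 h0 hy
  | coe a =>
    induction a using ENat.recTopCoe with
    | top =>
      convert isOpen_empty using 1
      ext y
      simp only [Set.mem_ofPred_eq, Set.mem_empty_iff_false, iff_false]
      intro hy
      obtain ⟨k, hk⟩ := Points.mk_surjective y
      have sq := IsPullback.of_hasPullback f.hom k.toHom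
      have hlt := hy k hk _ _ _ sq
      exact not_top_lt hlt
    | coe m =>
      convert hC m using 1
      ext y
      simp only [Set.mem_ofPred_eq, Set.mem_image]
      constructor
      · intro hy
        obtain ⟨k, hk⟩ := Points.mk_surjective y
        have sq := IsPullback.of_hasPullback f.hom k.toHom
        have hlt := hy k hk _ _ _ sq
        have key := Groth.Agent.S10678.result f hft y k hk _ _ _ sq
        by_contra hn
        push Not at hn
        refine not_le.mpr hlt ((key.2 m).2 ?_)
        intro x hx
        by_contra hx'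
        exact hn x hx' hx
      · rintro ⟨x, hx, hxy⟩ k hk Xk fst snd sq
        have key := Groth.Agent.S10678.result f hft y k hk Xk fst snd sq
        rw [← not_le]
        intro hle
        exact hx ((key.2 m).1 hle x hxy)

end Groth.Agent.S10679
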