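import Groth.Statements.S10680
import Groth.Agent.S10678
import Groth.Agent.S10308

set_option autoImplicit false
universe u
open CategoryTheory CategoryTheory.Limits AlgebraicGeometry
open AlgSp

namespace Groth.Agent.S10680

/-- For a proper morphism f : X ⟶ Y between algebraic spaces over S the fibre dimension function on |Y|
is upper semi-continuous: for every d the set of y such that every fibre X_k over y (k a field point
in the class of y, X_k any pullback in fppf sheaves) has dimension less than d is open. -/
theorem result {S : Scheme.{u}} {X Y : AlgSp.Space S} (f : X ⟶ Y) (hf : AlgSp.IsProperMor f.hom) (d : WithBot ℕ∞) :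
    IsOpen {y : AlgSp.Points Y.obj | ∀ (k : AlgSp.FieldPt Y.obj), AlgSp.Points.mk k = y →
      ∀ (Xk : AlgSp.Sp S) (fst : Xk ⟶ X.obj) (snd : Xk ⟶ (AlgSp.yon S).obj k.pt),
        IsPullback fst snd f.hom k.toHom → AlgSp.dim Xk < d} := by
  have hft : IsFiniteTypeMor f.hom := hf.2.1
  have hclosed : IsClosedMap (Points.map f.hom) :=
    hf.2.2 Y.property (𝟙 Y.obj) (𝟙 X.obj) f.hom IsPullback.of_id_fst
  -- the two kinds of open conditions on `y`
  have hD : IsOpen {y : Points Y.obj | y ∉ Set.range (Points.map f.hom)} := by
    have : IsClosed (Set.range (Points.map f.hom)) := by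
      rw [← Set.image_univ]; exact hclosed _ isClosed_univ
    exact this.isOpen_compl
  have hC : ∀ m : ℕ, IsOpen {y : Points Y.obj | ∀ x : Points X.obj, Points.map f.hom x = y →
      HasAtMor (fun _ _ h u => FlatMor.fibreDimAt h u ≤ (m : WithBot ℕ∞)) f.hom x} := by
    intro m
    have hO := Groth.Agent.S10308.result f hft.1 m
    have hcl := hclosed _ hO.isClosed_compl
    convert hcl.isOpen_compl using 1
    ext y
    simp only [Set.mem_ofPred_eq, Set.mem_compl_iff, Set.mem_image, not_exists, not_and]
    constructor
    · intro H x hx hxy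
      exact hx (H x hxy)
    · intro H x hxy
      by_contra hx
      exact H x hx hxy
  have hset : {y : Points Y.obj | ∀ (k : FieldPt Y.obj), Points.mk k = y →
      ∀ (Xk : AlgSp.Sp S) (fst : Xk ⟶ X.obj) (snd : Xk ⟶ (yon S).obj k.pt),
        IsPullback fst snd f.hom k.toHom → AlgSp.dim Xk < d} =
      ({y : Points Y.obj | y ∉ Set.range (Points.map f.hom)} ∩ {_y : Points Y.obj | ⊥ < d}) ∪
        ⋃ m : ℕ, ({_y : Points Y.obj | ((m : ℕ) : WithBot ℕ∞) < d} ∩
          {y : Points Y.obj | ∀ x : Points X.obj, Points.map f.hom x = y →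
            HasAtMor (fun _ _ h u => FlatMor.fibreDimAt h u ≤ (m : WithBot ℕ∞)) f.hom x}) := by
    ext y
    simp only [Set.mem_ofPred_eq, Set.mem_union, Set.mem_inter_iff, Set.mem_iUnion]
    constructor
    · intro hy
      obtain ⟨k, hk⟩ := Points.mk_surjective y
      have sq := IsPullback.of_hasPullback f.hom k.toHom
      have hlt := hy k hk _ _ _ sq
      have key := Groth.Agent.S10678.result f hft y k hk _ _ _ sq
      generalize hdim : AlgSp.dim (pullback f.hom k.toHom) = D at hlt key
      induction D using WithBot.recBotCoe with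
      | bot => exact Or.inl ⟨key.1.1 rfl, hlt⟩
      | coe a =>
        induction a using ENat.recTopCoe with
        | top => exact absurd hlt (not_top_lt)
        | coe m => exact Or.inr ⟨m, hlt, (key.2 m).1 le_rfl⟩
    · rintro (⟨h1, h2⟩ | ⟨m, h1, h2⟩) k hk Xk fst snd sq
      · have key := Groth.Agent.S10678.result f hft y k hk Xk fst snd sq
        rw [key.1.2 h1]; exact h2
      · have key := Groth.Agent.S10678.result f hft y k hk Xk fst snd sq
        exact lt_of_le_of_lt ((key.2 m).2 h2) h1
  rw [hset]
  exact (hD.inter isOpen_const).union (isOpen_iUnion fun m => isOpen_const.inter (hC m))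

end Groth.Agent.S10680
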