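import Groth.Statements.S10686
import Mathlib
import Groth.Agent.Lib.Helper78.AlgSpReduced
import Groth.Agent.Lib.Helper78.AlgSpFibre
import Groth.Agent.Lib.Helper30.AlgSpLoc
import Groth.Agent.Lib.Helper51.AlgSpPoints

set_option autoImplicit false
universe u
open CategoryTheory CategoryTheory.Limits AlgebraicGeometry
open AlgSp

namespace Groth.Agent.S10686

set_option backward.isDefEq.respectTransparency.types false
set_option maxHeartbeats 800000

section Aux

variable {S : Scheme.{u}}

/-- restriction of a field point along a morphism from another field spectrum over `S`. -/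
noncomputable def restrictPt {F : AlgSp.Sp S} (k : AlgSp.FieldPt F) (k' : Type u) [Field k']
    (w : Spec (CommRingCat.of k') ⟶ S) (m : Over.mk w ⟶ k.pt) : AlgSp.FieldPt F :=
  ⟨k', w, F.obj.map m.op k.val⟩

theorem restrictPt_toHom {F : AlgSp.Sp S} (k : AlgSp.FieldPt F) (k' : Type u) [Field k']
    (w : Spec (CommRingCat.of k') ⟶ S) (m : Over.mk w ⟶ k.pt) :
    (restrictPt k k' w m).toHom = (AlgSp.yon S).map m ≫ k.toHom := by
  unfold AlgSp.FieldPt.toHom
  exact ((AlgSp.J S).uliftYonedaEquiv_symm_naturality_left m F k.val).symm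

theorem mk_restrictPt {F : AlgSp.Sp S} (k : AlgSp.FieldPt F) (k' : Type u) [Field k']
    (w : Spec (CommRingCat.of k') ⟶ S) (m : Over.mk w ⟶ k.pt) :
    AlgSp.Points.mk (restrictPt k k' w m) = AlgSp.Points.mk k := by
  refine AlgSp.Points.sound ⟨k', inferInstance, w, 𝟙 _, m, ?_⟩
  change F.obj.map (𝟙 (Over.mk w)).op (F.obj.map m.op k.val) = F.obj.map m.op k.val
  simp

/-- a morphism between spectra of fields is flat and surjective. -/
theorem flat_surjective_of_fields {K L : Type u} [Field K] [Field L]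
    (g : Spec (CommRingCat.of L) ⟶ Spec (CommRingCat.of K)) : Flat g ∧ Surjective g := by
  constructor
  · rw [← Spec.map_preimage g]
    rw [HasRingHomProperty.Spec_iff (P := @Flat)]
    let φ : K →+* L := (Spec.preimage g).hom
    algebraize [φ]
    change (algebraMap K L).Flat
    rw [RingHom.flat_algebraMap_iff]
    infer_instance
  · refine ⟨fun x => ?_⟩
    have : Subsingleton ↥(Spec (CommRingCat.of K)) :=
      inferInstanceAs (Subsingleton (PrimeSpectrum K))
    have : Nonempty ↥(Spec (CommRingCat.of L)) :=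
      inferInstanceAs (Nonempty (PrimeSpectrum L))
    obtain ⟨z⟩ := this
    exact ⟨z, Subsingleton.elim _ _⟩

/-- Reducedness of the fibre over `k` follows from reducedness of the fibre over a field extension. -/
theorem reduced_descent {X Y : AlgSp.Space S} (f : X ⟶ Y) (k : AlgSp.FieldPt Y.obj)
    (Ω : Type u) [Field Ω] (w : Spec (CommRingCat.of Ω) ⟶ S) (β : Over.mk w ⟶ k.pt)
    (hΩ : ∀ (P : AlgSp.Sp S) (a : P ⟶ X.obj) (b : P ⟶ (AlgSp.yon S).obj (Over.mk w)),
      IsPullback a b f.hom ((AlgSp.yon S).map β ≫ k.toHom) → AlgSp.IsReducedSp P)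
    (Xk : AlgSp.Sp S) (a : Xk ⟶ X.obj) (b : Xk ⟶ (AlgSp.yon S).obj k.pt)
    (hP : IsPullback a b f.hom k.toHom) : AlgSp.IsReducedSp Xk := by
  have sq2 : IsPullback (pullback.fst b ((AlgSp.yon S).map β)) (pullback.snd b ((AlgSp.yon S).map β))
      b ((AlgSp.yon S).map β) := IsPullback.of_hasPullback _ _
  have big := sq2.paste_horiz hP
  have hPred := hΩ _ _ _ big
  obtain ⟨hfl, hsu⟩ := flat_surjective_of_fields β.left
  have hβfl : AlgSp.RepWith @Flat ((AlgSp.yon S).map β) := (AlgSp.repWith_yon_map_iff _ β).2 hfl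
  have hβsu : AlgSp.RepWith @Surjective ((AlgSp.yon S).map β) :=
    (AlgSp.repWith_yon_map_iff _ β).2 hsu
  have hπfl : AlgSp.RepWith @Flat (pullback.fst b ((AlgSp.yon S).map β)) :=
    MorphismProperty.of_isPullback sq2.flip hβfl
  have hπsu : AlgSp.RepWith @Surjective (pullback.fst b ((AlgSp.yon S).map β)) :=
    MorphismProperty.of_isPullback sq2.flip hβsu
  have hXk : AlgSp.IsAlgSpace Xk :=
    Groth.Agent.Lib.Helper78.AlgSpFibre.isAlgSpace_of_isPullback hP Y.property.diag X.property
      (AlgSp.IsAlgSpace.yon_obj _)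
  have hPalg : AlgSp.IsAlgSpace (pullback b ((AlgSp.yon S).map β)) :=
    Groth.Agent.Lib.Helper78.AlgSpFibre.isAlgSpace_of_isPullback sq2
      (AlgSp.IsAlgSpace.yon_obj _).diag hXk (AlgSp.IsAlgSpace.yon_obj _)
  have hloc : AlgSp.LocP @Flat (pullback.fst b ((AlgSp.yon S).map β)) :=
    Groth.Agent.Lib.Helper30.locP_of_repWith @Flat @Flat
      (fun k i hk hi => by
        haveI := hk; haveI := hi; infer_instance) hπfl
  exact Groth.Agent.Lib.Helper78.AlgSpReduced.isReducedSp_of_flat_of_surjective hPalg hXk _ hloc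
    (Groth.Agent.Lib.Helper51.surjective_map_of_repWith_surjective hπsu) hPred

end Aux

/-- For a morphism f : X ⟶ Y between algebraic spaces over S and a point y of |Y|, write X_k for the
fibre (pullback in fppf sheaves) over a field point k of Y and call X_k geometrically reduced when
for every field homomorphism k ⟶ k' the base change X_{k'} is reduced (some etale surjective scheme
chart reduced). The following are equivalent: (1) X_k is geometrically reduced for some k in the
class of y; (2) X_k is geometrically reduced for every k in the class of y; (3) X_k is reduced for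
every k in the class of y. -/
theorem result {S : Scheme.{u}} {X Y : AlgSp.Space S} (f : X ⟶ Y) (y : AlgSp.Points Y.obj) :
    [∃ (k : AlgSp.FieldPt Y.obj), AlgSp.Points.mk k = y ∧
        ∀ (k' : Type u) [Field k'] (φ : k.K →+* k') (Xk' : AlgSp.Sp S) (a : Xk' ⟶ X.obj)
          (b : Xk' ⟶ (AlgSp.yon S).obj (Over.mk (Spec.map (CommRingCat.ofHom φ) ≫ k.str))),
          IsPullback a b f.hom ((AlgSp.yon S).map (Over.homMk (Spec.map (CommRingCat.ofHom φ)) rfl :
            Over.mk (Spec.map (CommRingCat.ofHom φ) ≫ k.str) ⟶ k.pt) ≫ k.toHom) →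
          AlgSp.EtaleLocally (fun U => IsReduced U) Xk',
      ∀ (k : AlgSp.FieldPt Y.obj), AlgSp.Points.mk k = y →
        ∀ (k' : Type u) [Field k'] (φ : k.K →+* k') (Xk' : AlgSp.Sp S) (a : Xk' ⟶ X.obj)
          (b : Xk' ⟶ (AlgSp.yon S).obj (Over.mk (Spec.map (CommRingCat.ofHom φ) ≫ k.str))),
          IsPullback a b f.hom ((AlgSp.yon S).map (Over.homMk (Spec.map (CommRingCat.ofHom φ)) rfl :
            Over.mk (Spec.map (CommRingCat.ofHom φ) ≫ k.str) ⟶ k.pt) ≫ k.toHom) →
          AlgSp.EtaleLocally (fun U => IsReduced U) Xk',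
      ∀ (k : AlgSp.FieldPt Y.obj), AlgSp.Points.mk k = y →
        ∀ (Xk : AlgSp.Sp S) (a : Xk ⟶ X.obj) (b : Xk ⟶ (AlgSp.yon S).obj k.pt), IsPullback a b f.hom k.toHom →
          AlgSp.EtaleLocally (fun U => IsReduced U) Xk].TFAE := by
  tfae_have 3 → 2 := by
    intro h3 k hk k' _ φ Xk' a b hP
    refine h3 (restrictPt k k' (Spec.map (CommRingCat.ofHom φ) ≫ k.str)
      (Over.homMk (Spec.map (CommRingCat.ofHom φ)) rfl)) ?_ Xk' a b ?_
    · rw [mk_restrictPt]; exact hk
    · rw [restrictPt_toHom]; exact hP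
  tfae_have 2 → 1 := by
    intro h2
    obtain ⟨k, rfl⟩ : ∃ k, AlgSp.Points.mk k = y := Quotient.exists_rep y
    exact ⟨k, rfl, h2 k rfl⟩
  tfae_have 1 → 3 := by
    rintro ⟨k0, hk0, h1⟩ k hk Xk a b hP
    obtain ⟨Ω, _, w, α, β, hαβ⟩ := AlgSp.Points.mk_eq_mk_iff.mp (hk0.trans hk.symm)
    refine reduced_descent f k Ω w β ?_ Xk a b hP
    intro P aP bP hPP
    -- the field map `k0.K → Ω`
    let φ0 : k0.K →+* Ω := (Spec.preimage α.left).hom
    have hφ0 : Spec.map (CommRingCat.ofHom φ0) = α.left := Spec.map_preimage α.left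
    have hw : Spec.map (CommRingCat.ofHom φ0) ≫ k0.str = w := by
      rw [hφ0]; exact Over.w α
    let e : Over.mk w ≅ Over.mk (Spec.map (CommRingCat.ofHom φ0) ≫ k0.str) :=
      Over.isoMk (Iso.refl _) (by simpa using hw)
    have hα : α = e.hom ≫ (Over.homMk (Spec.map (CommRingCat.ofHom φ0)) rfl :
        Over.mk (Spec.map (CommRingCat.ofHom φ0) ≫ k0.str) ⟶ k0.pt) := by
      apply Over.OverMorphism.ext
      simp [e, hφ0]
    have hbot : (AlgSp.yon S).map β ≫ k.toHom = (AlgSp.yon S).map e.hom ≫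
        ((AlgSp.yon S).map (Over.homMk (Spec.map (CommRingCat.ofHom φ0)) rfl :
          Over.mk (Spec.map (CommRingCat.ofHom φ0) ≫ k0.str) ⟶ k0.pt) ≫ k0.toHom) := by
      rw [← Category.assoc, ← Functor.map_comp, ← hα, ← restrictPt_toHom k Ω w β,
        ← restrictPt_toHom k0 Ω w α]
      exact congrArg (fun v : Y.obj.obj.obj (Opposite.op (Over.mk w)) =>
        (show (AlgSp.yon S).obj (Over.mk w) ⟶ Y.obj from
          (⟨Ω, w, v⟩ : AlgSp.FieldPt Y.obj).toHom)) hαβ.symm
    refine h1 Ω φ0 P aP (bP ≫ (AlgSp.yon S).map e.hom) ?_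
    refine IsPullback.of_iso hPP (Iso.refl _) (Iso.refl _) ((AlgSp.yon S).mapIso e) (Iso.refl _)
      (by simp) (by simp) (by simp) ?_
    simp only [Iso.refl_hom, Category.comp_id, Functor.mapIso_hom]
    exact hbot
  tfae_finish

end Groth.Agent.S10686
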