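import Groth.Statements.S10687
import Mathlib
import Groth.Agent.Lib.Helper33.AlgSpFibNoeth
import Groth.Agent.Lib.Helper33.GorAtComp
import Groth.Agent.Lib.Helper31.AlgSpFlatLocus

set_option maxHeartbeats 800000
set_option backward.isDefEq.respectTransparency.types false

set_option autoImplicit false
universe u
open CategoryTheory CategoryTheory.Limits AlgebraicGeometry
open AlgSp

namespace Groth.Agent.S10687

/-- For morphisms f : X ⟶ Y and g : Y ⟶ Z between algebraic spaces over S whose fibres, and those of f ≫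
g, are locally Noetherian, and a point x of |X|: (1) if g is Gorenstein at the image of x and f is
Gorenstein at x itself, then so is f ≫ g at x; (2) if f ≫ g is Gorenstein at x and f is flat there,
then f is Gorenstein at x and g at the image of x. Here f is Gorenstein at x when in every etale
chart diagram through x the top arrow is Gorenstein at the point over x (flat there, with Gorenstein
local ring of its fibre), and the fibres of a morphism are locally Noetherian when every fibre over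
a field point (pullback in fppf sheaves) is a locally Noetherian algebraic space. -/
theorem result {S : Scheme.{u}} {X Y Z : AlgSp.Space S} (f : X ⟶ Y) (g : Y ⟶ Z)
    (hf : ∀ (k : AlgSp.FieldPt Y.obj) (Xk : AlgSp.Sp S) (a : Xk ⟶ X.obj) (b : Xk ⟶ (AlgSp.yon S).obj k.pt),
        IsPullback a b f.hom k.toHom → AlgSp.IsLocNoethSp Xk)
    (hg : ∀ (k : AlgSp.FieldPt Z.obj) (Xk : AlgSp.Sp S) (a : Xk ⟶ Y.obj) (b : Xk ⟶ (AlgSp.yon S).obj k.pt),
        IsPullback a b g.hom k.toHom → AlgSp.IsLocNoethSp Xk)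
    (hfg : ∀ (k : AlgSp.FieldPt Z.obj) (Xk : AlgSp.Sp S) (a : Xk ⟶ X.obj) (b : Xk ⟶ (AlgSp.yon S).obj k.pt),
        IsPullback a b (f ≫ g).hom k.toHom → AlgSp.IsLocNoethSp Xk)
    (x : AlgSp.Points X.obj) :
    (AlgSp.LocPAt (fun h u => Dual3.IsGorensteinAt h u) f.hom x → AlgSp.LocPAt (fun h u => Dual3.IsGorensteinAt h u) g.hom (AlgSp.Points.map f.hom x) →
        AlgSp.LocPAt (fun h u => Dual3.IsGorensteinAt h u) (f ≫ g).hom x) ∧
      (AlgSp.LocPAt (fun h u => Dual3.IsGorensteinAt h u) (f ≫ g).hom x → AlgSp.IsFlatAtMor f.hom x →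
        AlgSp.LocPAt (fun h u => Dual3.IsGorensteinAt h u) f.hom x ∧ AlgSp.LocPAt (fun h u => Dual3.IsGorensteinAt h u) g.hom (AlgSp.Points.map f.hom x)) := by
  obtain ⟨G⟩ := Groth.Agent.Lib.Helper31.AlgSpFlatAt.exists_goodChart f.hom g.hom
    X.property Y.property Z.property
  obtain ⟨u, rfl⟩ := Groth.Agent.Lib.Helper51.surjective_ofPt_of_repWith_surjective G.a G.has x
  have hfx : AlgSp.Points.map f.hom (AlgSp.Points.ofPt G.a u) =
      AlgSp.Points.ofPt G.b (G.k.left u) := by
    rw [AlgSp.Points.map_ofPt, G.comm_f, Groth.Agent.Lib.Helper52.ofPt_yon_map_comp]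
  have e1 := Groth.Agent.Lib.Helper33.GorAtEtale.locPAt_gorenstein_iff_of_chart f.hom G.a G.b G.k
    G.ha G.hb G.comm_f u
  have e2 := Groth.Agent.Lib.Helper33.GorAtEtale.locPAt_gorenstein_iff_of_chart g.hom G.b G.c G.l
    G.hb G.hc G.comm_h (G.k.left u)
  have e3 := Groth.Agent.Lib.Helper33.GorAtEtale.locPAt_gorenstein_iff_of_chart (f ≫ g).hom
    G.a G.c (G.k ≫ G.l) G.ha G.hc G.comm_fh u
  have e4 := Groth.Agent.Lib.Helper31.AlgSpFlatAt.isFlatAtMor_iff_of_chart f.hom G.a G.b G.k
    G.ha G.hb G.comm_f u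
  rw [hfx, e1, e2, e3, e4, Groth.Agent.Lib.Helper33.GorAtEtale.isGorensteinAt_iff_gorAt,
    Groth.Agent.Lib.Helper33.GorAtEtale.isGorensteinAt_iff_gorAt,
    Groth.Agent.Lib.Helper33.GorAtEtale.isGorensteinAt_iff_gorAt]
  constructor
  · intro h1 h2
    haveI := Groth.Agent.Lib.Helper33.AlgSpFibNoeth.isNoetherianRing_fibre_of_chart (f ≫ g).hom hfg
      G.a G.c (G.k ≫ G.l) G.ha G.hc G.comm_fh u
    exact (Groth.Agent.Lib.Helper33.GorAtComp.gorAt_comp_iff G.k.left G.l.left u h1.1).2 ⟨h1, h2⟩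
  · intro h3 hfl
    haveI : IsNoetherianRing (G.U.left.presheaf.stalk u ⧸
        Groth.Agent.Lib.Helper33.GorAtEtale.fibIdeal (G.k.left ≫ G.l.left) u) := h3.2.1
    exact (Groth.Agent.Lib.Helper33.GorAtComp.gorAt_comp_iff G.k.left G.l.left u hfl).1 h3

end Groth.Agent.S10687
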