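import Groth.Statements.S10688
import Mathlib
import Groth.Agent.Lib.Helper33.AlgSpBCChart
import Groth.Agent.S3625

set_option maxHeartbeats 1600000
set_option backward.isDefEq.respectTransparency.types false

set_option autoImplicit false
universe u
open CategoryTheory CategoryTheory.Limits AlgebraicGeometry
open AlgSp

namespace Groth.Agent.S10688

/-- For a morphism f : X ⟶ Y between algebraic spaces over S with locally Noetherian fibres, g : Y' ⟶ Y
locally of finite type, f' : X' ⟶ Y' the base change (a pullback square of algebraic spaces) with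
projection g' : X' ⟶ X, and x' a point of |X'| with image x: (1) if f is Gorenstein at x then so is
f' at x'; (2) when f is flat at x, Gorensteinness of f' at x' implies that of f at x; (3) the same
conclusion holds if instead g is flat at the image of x' and f' is Gorenstein at x'. Here f is
Gorenstein at x when in every etale chart diagram through x the top arrow is Gorenstein at the point
over x (flat there, with Gorenstein local ring of its fibre), and the fibres of a morphism are
locally Noetherian when every fibre over a field point (pullback in fppf sheaves) is a locally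
Noetherian algebraic space. -/
theorem result {S : Scheme.{u}} {X Y X' Y' : AlgSp.Space S} (f : X ⟶ Y) (g : Y' ⟶ Y) (g' : X' ⟶ X) (f' : X' ⟶ Y')
    (hsq : IsPullback g'.hom f'.hom f.hom g.hom)
    (hf : ∀ (k : AlgSp.FieldPt Y.obj) (Xk : AlgSp.Sp S) (a : Xk ⟶ X.obj) (b : Xk ⟶ (AlgSp.yon S).obj k.pt),
        IsPullback a b f.hom k.toHom → AlgSp.IsLocNoethSp Xk)
    (hg : AlgSp.LocP @LocallyOfFiniteType g.hom) (x' : AlgSp.Points X'.obj) :
    (AlgSp.LocPAt (fun h u => Dual3.IsGorensteinAt h u) f.hom (AlgSp.Points.map g'.hom x') → AlgSp.LocPAt (fun h u => Dual3.IsGorensteinAt h u) f'.hom x') ∧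
      (AlgSp.IsFlatAtMor f.hom (AlgSp.Points.map g'.hom x') → AlgSp.LocPAt (fun h u => Dual3.IsGorensteinAt h u) f'.hom x' →
        AlgSp.LocPAt (fun h u => Dual3.IsGorensteinAt h u) f.hom (AlgSp.Points.map g'.hom x')) ∧
      (AlgSp.IsFlatAtMor g.hom (AlgSp.Points.map f'.hom x') → AlgSp.LocPAt (fun h u => Dual3.IsGorensteinAt h u) f'.hom x' →
        AlgSp.LocPAt (fun h u => Dual3.IsGorensteinAt h u) f.hom (AlgSp.Points.map g'.hom x')) := by
  obtain ⟨V, b, hb, hbs⟩ := Y.property.atlas
  -- chart of `f`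
  obtain ⟨U₀, U, a₀, p₁, h, ha₀, ha₀s, sqU, hae, hcomm, hsurj⟩ :=
    Groth.Agent.Lib.Helper33.AlgSpBCChart.chart_setup f V b hb
  -- chart of `g`
  obtain ⟨V₀, V', c₀, r₁, k, hc₀, hc₀s, sqV, hce, hck, hcsurj⟩ :=
    Groth.Agent.Lib.Helper33.AlgSpBCChart.chart_setup g V b hb
  -- the cube
  obtain ⟨U', q₁, h', a', sqS, ha'g, ha'f, ha'e, ha's⟩ :=
    Groth.Agent.Lib.Helper33.AlgSpBCChart.exists_cube f.hom g.hom g'.hom f'.hom hsq a₀ b
      ((AlgSp.yon S).map r₁ ≫ c₀) p₁ h k sqU hck ha₀ hce
  obtain ⟨u', rfl⟩ := Groth.Agent.Lib.Helper51.surjective_ofPt_of_repWith_surjective a'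
    (ha's ha₀s (hcsurj hbs)) x'
  have hx : AlgSp.Points.map g'.hom (AlgSp.Points.ofPt a' u') =
      AlgSp.Points.ofPt ((AlgSp.yon S).map p₁ ≫ a₀) (q₁.left u') := by
    rw [AlgSp.Points.map_ofPt, ha'g, Groth.Agent.Lib.Helper52.ofPt_yon_map_comp]
  have hy : AlgSp.Points.map f'.hom (AlgSp.Points.ofPt a' u') =
      AlgSp.Points.ofPt ((AlgSp.yon S).map r₁ ≫ c₀) (h'.left u') := by
    rw [AlgSp.Points.map_ofPt, ha'f, Groth.Agent.Lib.Helper52.ofPt_yon_map_comp]
  rw [hx, hy,
    Groth.Agent.Lib.Helper33.GorAtEtale.locPAt_gorenstein_iff_of_chart f.hom _ b h hae hb hcomm,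
    Groth.Agent.Lib.Helper33.GorAtEtale.locPAt_gorenstein_iff_of_chart f'.hom a' _ h' ha'e hce ha'f,
    Groth.Agent.Lib.Helper31.AlgSpFlatAt.isFlatAtMor_iff_of_chart f.hom _ b h hae hb hcomm,
    Groth.Agent.Lib.Helper31.AlgSpFlatAt.isFlatAtMor_iff_of_chart g.hom _ b k hce hb hck]
  haveI : LocallyOfFiniteType k.left := hg _ b k hce hb hck
  exact Groth.Agent.S3625.result U.left V.left U'.left V'.left h.left k.left h'.left q₁.left sqS
    (fun y => Groth.Agent.Lib.Helper33.AlgSpBCChart.isLocallyNoetherian_fiber_of_chart f hf a₀ b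
      p₁ h ha₀ sqU y) u'

end Groth.Agent.S10688
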