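import Groth.Statements.S10690
import Mathlib
import Groth.Agent.Lib.Helper33.AlgSpFibChart
import Groth.Agent.Lib.Helper33.FibreBC

set_option maxHeartbeats 1600000
set_option backward.isDefEq.respectTransparency.types false

set_option autoImplicit false
universe u
open CategoryTheory CategoryTheory.Limits AlgebraicGeometry
open AlgSp

namespace Groth.Agent.S10690

open Groth.Agent.Lib.Helper31.AlgSpFibFlat Groth.Agent.Lib.Helper33.GorAtEtale in
/-- Setup shared by the implications: the base-change chart `U' = U₁ ×_Y V` of an atlas of `X`. -/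
theorem chart_setup {S : Scheme.{u}} {X Y : AlgSp.Space S} (f : X ⟶ Y)
    (V : Over S) (b : (AlgSp.yon S).obj V ⟶ Y.obj) (hb : AlgSp.RepWith @Etale b) :
    ∃ (U₁ U' : Over S) (a₁ : (AlgSp.yon S).obj U₁ ⟶ X.obj) (p₁ : U' ⟶ U₁) (p₂ : U' ⟶ V),
      AlgSp.RepWith @Etale a₁ ∧ AlgSp.RepWith @Surjective a₁ ∧
      IsPullback ((AlgSp.yon S).map p₁) ((AlgSp.yon S).map p₂) (a₁ ≫ f.hom) b ∧
      AlgSp.RepWith @Etale ((AlgSp.yon S).map p₁ ≫ a₁) ∧
      ((AlgSp.yon S).map p₁ ≫ a₁) ≫ f.hom = (AlgSp.yon S).map p₂ ≫ b ∧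
      (AlgSp.RepWith @Surjective b → AlgSp.RepWith @Surjective ((AlgSp.yon S).map p₁ ≫ a₁)) := by
  obtain ⟨U₁, a₁, ha₁, ha₁s⟩ := X.property.atlas
  have sqU := (hb.rep.isPullback' (a₁ ≫ f.hom)).flip
  have hp₁e : Etale (hb.rep.snd (a₁ ≫ f.hom)).left := hb.property _ _ _ sqU.flip
  refine ⟨U₁, _, a₁, hb.rep.snd (a₁ ≫ f.hom), hb.rep.fst' (a₁ ≫ f.hom), ha₁, ha₁s, sqU, ?_, ?_, ?_⟩
  · exact (AlgSp.RepWith (S := S) @Etale).comp_mem _ _ ((AlgSp.repWith_yon_map_iff _ _).2 hp₁e) ha₁
  · rw [Category.assoc]; exact sqU.w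
  · intro hbs
    have hp₁s : Surjective (hb.rep.snd (a₁ ≫ f.hom)).left := hbs.property _ _ _ sqU.flip
    exact (AlgSp.RepWith (S := S) @Surjective).comp_mem _ _
      ((AlgSp.repWith_yon_map_iff _ _).2 hp₁s) ha₁s

/-- For a morphism f : X ⟶ Y between algebraic spaces over S whose fibres are locally Noetherian, the
following are equivalent: (1) f is Gorenstein at every point of |X|; (2) f is flat and for some
scheme V with a representable etale surjective b : h_V ⟶ Y every fibre of X ×_Y V ⟶ V over a point v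
of V (pullback along the residue field point of v) is a Gorenstein algebraic space (some etale
surjective scheme chart is a Gorenstein scheme); (3) f is flat and the same holds for every scheme V
with a representable etale b : h_V ⟶ Y. Here f is Gorenstein at x when in every etale chart diagram
through x the top arrow is Gorenstein at the point over x (flat there, with Gorenstein local ring of
its fibre), and the fibres of a morphism are locally Noetherian when every fibre over a field point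
(pullback in fppf sheaves) is a locally Noetherian algebraic space. (The published statement also
characterises being Gorenstein at a single point through strict henselizations; that part is stated
separately and not included here.) -/
theorem result {S : Scheme.{u}} {X Y : AlgSp.Space S} (f : X ⟶ Y)
    (hf : ∀ (k : AlgSp.FieldPt Y.obj) (Xk : AlgSp.Sp S) (a : Xk ⟶ X.obj) (b : Xk ⟶ (AlgSp.yon S).obj k.pt),
        IsPullback a b f.hom k.toHom → AlgSp.IsLocNoethSp Xk) :
    [∀ x : AlgSp.Points X.obj, AlgSp.LocPAt (fun h u => Dual3.IsGorensteinAt h u) f.hom x,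
      AlgSp.LocP @Flat f.hom ∧ ∃ (V : Over S) (b : (AlgSp.yon S).obj V ⟶ Y.obj),
        AlgSp.RepWith @Etale b ∧ AlgSp.RepWith @Surjective b ∧
          ∀ (v : ↥V.left) (Xv : AlgSp.Sp S) (a : Xv ⟶ X.obj)
            (c : Xv ⟶ (AlgSp.yon S).obj (Over.mk (V.left.fromSpecResidueField v ≫ V.hom))),
            IsPullback a c f.hom ((AlgSp.yon S).map (Over.homMk (V.left.fromSpecResidueField v) rfl :
              Over.mk (V.left.fromSpecResidueField v ≫ V.hom) ⟶ V) ≫ b) →
            AlgSp.EtaleLocally Dual3.IsGorenstein Xv,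
      AlgSp.LocP @Flat f.hom ∧ ∀ (V : Over S) (b : (AlgSp.yon S).obj V ⟶ Y.obj), AlgSp.RepWith @Etale b →
          ∀ (v : ↥V.left) (Xv : AlgSp.Sp S) (a : Xv ⟶ X.obj)
            (c : Xv ⟶ (AlgSp.yon S).obj (Over.mk (V.left.fromSpecResidueField v ≫ V.hom))),
            IsPullback a c f.hom ((AlgSp.yon S).map (Over.homMk (V.left.fromSpecResidueField v) rfl :
              Over.mk (V.left.fromSpecResidueField v ≫ V.hom) ⟶ V) ≫ b) →
            AlgSp.EtaleLocally Dual3.IsGorenstein Xv].TFAE := by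
  haveI hstabE : (AlgSp.RepWith (S := S) @Etale).IsStableUnderBaseChange :=
    AlgSp.repWith_isStableUnderBaseChange _
  haveI hstabS : (AlgSp.RepWith (S := S) @Surjective).IsStableUnderBaseChange :=
    AlgSp.repWith_isStableUnderBaseChange _
  tfae_have 1 → 3 := by
    intro H
    refine ⟨?_, ?_⟩
    · intro U V a b h ha hb hcomm
      rw [Flat.iff_flat_stalkMap]
      intro u
      exact (H (AlgSp.Points.ofPt a u) a b h u ha hb hcomm rfl).1
    · intro V b hb v Xv a c hpb
      obtain ⟨U₁, U', a₁, p₁, p₂, ha₁, ha₁s, sqU, hae, hcomm, -⟩ := chart_setup f V b hb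
      obtain ⟨a'', sqa⟩ := Groth.Agent.Lib.Helper33.AlgSpFibChart.exists_fibre_chart f.hom a₁ b
        p₁ p₂ sqU v a c hpb
      have ha''e : AlgSp.RepWith @Etale a'' :=
        MorphismProperty.of_isPullback (P := AlgSp.RepWith (S := S) @Etale) sqa.flip ha₁
      have ha''s : AlgSp.RepWith @Surjective a'' :=
        MorphismProperty.of_isPullback (P := AlgSp.RepWith (S := S) @Surjective) sqa.flip ha₁s
      have hN : AlgSp.IsLocNoethSp Xv := by
        refine hf (AlgSp.FieldPt.ofPt b v) Xv a c ?_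
        rw [AlgSp.FieldPt.toHom_ofPt]
        exact hpb
      have hT : IsLocallyNoetherian (p₂.left.fiber v) :=
        Groth.Agent.Lib.Helper31.AlgSpFibFlat.isLocallyNoetherian_of_etale_chart hN a'' ha''e
      refine ⟨Groth.Agent.Lib.Helper31.AlgSpFibFlat.fibOver p₂ v, a'', ha''e, ha''s, hT, ?_⟩
      intro t
      have hG : Dual3.IsGorensteinAt p₂.left ((p₂.left.fiberι v).base t) :=
        H _ _ b p₂ _ hae hb hcomm rfl
      obtain ⟨e⟩ := Groth.Agent.Lib.Helper33.FibreBC.nonempty_stalk_fiber_equiv p₂.left v t _ rfl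
      exact Groth.Agent.Lib.Helper33.GorTransfer.gorenstein_of_ringEquiv e.symm hG.2
  tfae_have 3 → 2 := by
    rintro ⟨hfl, H⟩
    obtain ⟨V, b, hb, hbs⟩ := Y.property.atlas
    exact ⟨hfl, V, b, hb, hbs, H V b hb⟩
  tfae_have 2 → 1 := by
    rintro ⟨hfl, V, b, hb, hbs, H⟩ x
    obtain ⟨U₁, U', a₁, p₁, p₂, ha₁, ha₁s, sqU, hae, hcomm, hsurj⟩ := chart_setup f V b hb
    obtain ⟨u', rfl⟩ := Groth.Agent.Lib.Helper51.surjective_ofPt_of_repWith_surjective _ (hsurj hbs) x
    rw [Groth.Agent.Lib.Helper33.GorAtEtale.locPAt_gorenstein_iff_of_chart f.hom _ b p₂ hae hb hcomm u']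
    haveI : Flat p₂.left := hfl _ b p₂ hae hb hcomm
    refine ⟨AlgebraicGeometry.Flat.stalkMap p₂.left u', ?_⟩
    -- the fibre through u'
    set v := p₂.left.base u' with hv
    have hX : IsPullback (pullback.fst f.hom ((AlgSp.yon S).map
        (Groth.Agent.Lib.Helper31.AlgSpFibFlat.ptι V v) ≫ b)) (pullback.snd f.hom _) f.hom _ :=
      IsPullback.of_hasPullback _ _
    obtain ⟨a'', sqa⟩ := Groth.Agent.Lib.Helper33.AlgSpFibChart.exists_fibre_chart f.hom a₁ b
      p₁ p₂ sqU v _ _ hX
    have ha''e : AlgSp.RepWith @Etale a'' :=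
      MorphismProperty.of_isPullback (P := AlgSp.RepWith (S := S) @Etale) sqa.flip ha₁
    have hN : AlgSp.IsLocNoethSp (pullback f.hom ((AlgSp.yon S).map
        (Groth.Agent.Lib.Helper31.AlgSpFibFlat.ptι V v) ≫ b)) := by
      refine hf (AlgSp.FieldPt.ofPt b v) _ (pullback.fst f.hom _) (pullback.snd f.hom _) ?_
      rw [AlgSp.FieldPt.toHom_ofPt]
      exact hX
    haveI hT : IsLocallyNoetherian (p₂.left.fiber v) :=
      Groth.Agent.Lib.Helper31.AlgSpFibFlat.isLocallyNoetherian_of_etale_chart hN a'' ha''e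
    obtain ⟨T₀, p₀, hp₀, hp₀s, hG₀⟩ := H v _ (pullback.fst f.hom _) (pullback.snd f.hom _) hX
    -- chart of chart
    obtain ⟨t₀, ht₀⟩ := Groth.Agent.Lib.Helper51.surjective_ofPt_of_repWith_surjective p₀ hp₀s
      (AlgSp.Points.ofPt a'' (p₂.left.asFiber u'))
    obtain ⟨W, φ, ψ, sq⟩ :=
      Groth.Agent.Lib.Helper51.exists_isPullback_of_representable ha''e.rep p₀
    haveI hψ : Etale ψ.left := ha''e.property p₀ _ ψ sq
    haveI hφ : Etale φ.left := hp₀.property a'' _ φ sq.flip
    obtain ⟨w, hw1, hw2⟩ := Groth.Agent.Lib.Helper51.exists_of_ofPt_eq_ofPt sq ht₀.symm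
    haveI : IsLocallyNoetherian T₀.left := hG₀.1
    haveI : IsLocallyNoetherian W.left := LocallyOfFiniteType.isLocallyNoetherian ψ.left
    haveI : IsLocallyNoetherian (Groth.Agent.Lib.Helper31.AlgSpFibFlat.fibOver p₂ v).left := hT
    have hW : LocCoh.IsGorensteinLocalRing (W.left.presheaf.stalk w) :=
      (Groth.Agent.Lib.Helper33.EtaleStalk.gor_cm_stalk_iff_of_etale ψ.left w).1.2 (hG₀.2 _)
    have hU := (Groth.Agent.Lib.Helper33.EtaleStalk.gor_cm_stalk_iff_of_etale φ.left w).1.1 hW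
    rw [hw1] at hU
    exact hU
  tfae_finish

end Groth.Agent.S10690
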