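import Groth.Statements.S10691
import Mathlib
import Groth.Agent.Lib.Helper33.EtaleStalk
import Groth.Agent.Lib.Helper33.GorHens
import Groth.Agent.Lib.Helper31.AlgSpFibFlat4

set_option maxHeartbeats 800000
set_option backward.isDefEq.respectTransparency.types false

set_option autoImplicit false
universe u
open CategoryTheory CategoryTheory.Limits AlgebraicGeometry
open AlgSp

namespace Groth.Agent.S10691

/-- For locally Noetherian algebraic spaces X, Y over S and a flat morphism f : X ⟶ Y, with X Gorenstein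
(some etale surjective scheme chart is a Gorenstein scheme): f is Gorenstein at every point of |X|,
and for every point x of |X| the etale local ring of Y at a geometric point over f(x), presented as
a strict henselization R of the local ring of an etale scheme chart V of Y at a point v over f(x),
is a Gorenstein local ring. Here f is Gorenstein at x when in every etale chart diagram through x
the top arrow is Gorenstein at the point over x (flat there, with Gorenstein local ring of its
fibre), and the fibres of a morphism are locally Noetherian when every fibre over a field point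
(pullback in fppf sheaves) is a locally Noetherian algebraic space. -/
theorem result {S : Scheme.{u}} {X Y : AlgSp.Space S} (f : X ⟶ Y) (hf : AlgSp.LocP @Flat f.hom)
    (hX1 : AlgSp.IsLocNoethSp X.obj) (hY1 : AlgSp.IsLocNoethSp Y.obj)
    (hX2 : AlgSp.EtaleLocally Dual3.IsGorenstein X.obj) :
    (∀ x : AlgSp.Points X.obj, AlgSp.LocPAt (fun h u => Dual3.IsGorensteinAt h u) f.hom x) ∧
      ∀ (x : AlgSp.Points X.obj) (V : Over S) (b : (AlgSp.yon S).obj V ⟶ Y.obj), AlgSp.RepWith @Etale b →
        ∀ (v : ↥V.left), AlgSp.Points.ofPt b v = AlgSp.Points.map f.hom x →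
          ∀ (R : Type u) [CommRing R] [IsLocalRing R] [Algebra ↥(V.left.presheaf.stalk v) R]
            [IsLocalHom (algebraMap ↥(V.left.presheaf.stalk v) R)]
            [Hensel.IsStrictHenselization ↥(V.left.presheaf.stalk v) R],
            LocCoh.IsGorensteinLocalRing R := by
  have key : ∀ ⦃U V : Over S⦄ (a : (AlgSp.yon S).obj U ⟶ X.obj) (b : (AlgSp.yon S).obj V ⟶ Y.obj)
      (h : U ⟶ V) (u : ↥U.left), AlgSp.RepWith @Etale a → AlgSp.RepWith @Etale b →
      a ≫ f.hom = (AlgSp.yon S).map h ≫ b →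
      Dual3.IsGorensteinAt h.left u ∧ IsLocallyNoetherian V.left ∧
        LocCoh.IsGorensteinLocalRing (V.left.presheaf.stalk (h.left u)) := by
    intro U V a b h u ha hb hcomm
    haveI : IsLocallyNoetherian U.left :=
      Groth.Agent.Lib.Helper31.AlgSpFibFlat.isLocallyNoetherian_of_etale_chart hX1 a ha
    haveI : IsLocallyNoetherian V.left :=
      Groth.Agent.Lib.Helper31.AlgSpFibFlat.isLocallyNoetherian_of_etale_chart hY1 b hb
    haveI : Flat h.left := hf a b h ha hb hcomm
    obtain ⟨U₀, p, hp, hps, hG⟩ := hX2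
    obtain ⟨u₀, hu₀⟩ := Groth.Agent.Lib.Helper51.surjective_ofPt_of_repWith_surjective p hps
      (AlgSp.Points.ofPt a u)
    obtain ⟨W, φ, ψ, sq⟩ := Groth.Agent.Lib.Helper51.exists_isPullback_of_representable ha.rep p
    haveI hψ : Etale ψ.left := ha.property p _ ψ sq
    haveI hφ : Etale φ.left := hp.property a _ φ sq.flip
    obtain ⟨w, hw1, hw2⟩ := Groth.Agent.Lib.Helper51.exists_of_ofPt_eq_ofPt sq hu₀.symm
    haveI : IsLocallyNoetherian U₀.left := hG.1
    haveI : IsLocallyNoetherian W.left := LocallyOfFiniteType.isLocallyNoetherian φ.left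
    have hW : LocCoh.IsGorensteinLocalRing (W.left.presheaf.stalk w) :=
      (Groth.Agent.Lib.Helper33.EtaleStalk.gor_cm_stalk_iff_of_etale ψ.left w).1.2 (hG.2 _)
    have hU : LocCoh.IsGorensteinLocalRing (U.left.presheaf.stalk (φ.left w)) :=
      (Groth.Agent.Lib.Helper33.EtaleStalk.gor_cm_stalk_iff_of_etale φ.left w).1.1 hW
    subst hw1
    have := (Groth.Agent.Lib.Helper33.GorFibre.gorenstein_stalk_iff' h.left (φ.left w)
      (AlgebraicGeometry.Flat.stalkMap h.left (φ.left w))).1 hU
    exact ⟨⟨AlgebraicGeometry.Flat.stalkMap h.left (φ.left w), this.2⟩, inferInstance, this.1⟩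
  refine ⟨fun x U V a b h u ha hb hcomm _ => (key a b h u ha hb hcomm).1, ?_⟩
  intro x V b hb v hv R _ _ _ _ _
  obtain ⟨U₀, a₀, ha₀, ha₀s⟩ := X.property.atlas
  obtain ⟨u₀, hu₀⟩ := Groth.Agent.Lib.Helper51.surjective_ofPt_of_repWith_surjective a₀ ha₀s x
  obtain ⟨W, φ, ψ, sq⟩ :=
    Groth.Agent.Lib.Helper51.exists_isPullback_of_representable hb.rep (a₀ ≫ f.hom)
  haveI hψ : Etale ψ.left := hb.property (a₀ ≫ f.hom) _ ψ sq
  have hpt : AlgSp.Points.ofPt b v = AlgSp.Points.ofPt (a₀ ≫ f.hom) u₀ := by
    rw [hv, ← hu₀, AlgSp.Points.map_ofPt]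
  obtain ⟨w, hw1, hw2⟩ := Groth.Agent.Lib.Helper51.exists_of_ofPt_eq_ofPt sq hpt
  have ha' : AlgSp.RepWith @Etale ((AlgSp.yon S).map ψ ≫ a₀) :=
    (AlgSp.RepWith (S := S) @Etale).comp_mem _ _ ((AlgSp.repWith_yon_map_iff _ _).2 hψ) ha₀
  have hcomm : ((AlgSp.yon S).map ψ ≫ a₀) ≫ f.hom = (AlgSp.yon S).map φ ≫ b := by
    rw [Category.assoc]; exact sq.w.symm
  obtain ⟨-, hNv, hGv⟩ := key _ b φ w ha' hb hcomm
  subst hw1
  haveI := hNv
  exact (Groth.Agent.Lib.Helper33.GorHens.gorenstein_iff_of_isStrictHenselization _ R).2 hGv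

end Groth.Agent.S10691
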