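import Groth.Statements.S10692
import Groth.Agent.S10679
import Groth.Agent.S10680
import Groth.Agent.Lib.Helper73.FibreDimGen
import Groth.Agent.Lib.Helper30.AlgSpMor
import Groth.Agent.S10308
import Groth.Agent.S10678

set_option autoImplicit false
universe u
open CategoryTheory CategoryTheory.Limits AlgebraicGeometry
open AlgSp

namespace Groth.Agent.S10692

open Groth.Agent.Lib.Helper31.AlgSpFlatAt Groth.Agent.Lib.Helper52 Groth.Agent.Lib.Helper51
  Groth.Agent.Lib.Helper98.AlgSpPtLocal Groth.Agent.Lib.Helper98.AlgSpFibreDimLocal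

theorem lt_succ_iff' (x : WithBot ℕ∞) (n : ℕ) :
    x < ((n + 1 : ℕ) : WithBot ℕ∞) ↔ x ≤ (n : WithBot ℕ∞) := by
  induction x using WithBot.recBotCoe with
  | bot => simp
  | coe a =>
    induction a using ENat.recTopCoe with
    | top =>
      constructor
      · intro h; exact absurd h not_top_lt
      · intro h
        have : ((⊤ : ℕ∞) : WithBot ℕ∞) ≤ ((n : ℕ∞) : WithBot ℕ∞) := h
        rw [WithBot.coe_le_coe, top_le_iff] at this
        exact absurd this (ENat.natCast_ne_top n)
    | coe k =>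
      have h1 : (((k : ℕ∞) : WithBot ℕ∞) < ((n + 1 : ℕ) : WithBot ℕ∞)) ↔ k < n + 1 := by
        exact_mod_cast Iff.rfl
      have h2 : (((k : ℕ∞) : WithBot ℕ∞) ≤ ((n : ℕ) : WithBot ℕ∞)) ↔ k ≤ n := by
        exact_mod_cast Iff.rfl
      rw [h1, h2]; omega

theorem lt_iff_succ_le' (x : WithBot ℕ∞) (n : ℕ) :
    (n : WithBot ℕ∞) < x ↔ ((n + 1 : ℕ) : WithBot ℕ∞) ≤ x := by
  induction x using WithBot.recBotCoe with
  | bot => simp
  | coe a =>
    induction a using ENat.recTopCoe with
    | top =>
      constructor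
      · intro _; exact le_top
      · intro _
        have : ((n : ℕ∞) : WithBot ℕ∞) < ((⊤ : ℕ∞) : WithBot ℕ∞) := by
          rw [WithBot.coe_lt_coe]; exact ENat.natCast_lt_top n
        exact this
    | coe k =>
      have h1 : (((n : ℕ) : WithBot ℕ∞) < ((k : ℕ∞) : WithBot ℕ∞)) ↔ n < k := by
        exact_mod_cast Iff.rfl
      have h2 : (((n + 1 : ℕ) : WithBot ℕ∞) ≤ ((k : ℕ∞) : WithBot ℕ∞)) ↔ n + 1 ≤ k := by
        exact_mod_cast Iff.rfl
      rw [h1, h2]; omega

theorem lt_zero_iff' (x : WithBot ℕ∞) : x < ((0 : ℕ) : WithBot ℕ∞) ↔ x = ⊥ := by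
  induction x using WithBot.recBotCoe with
  | bot => simp
  | coe a =>
    constructor
    · intro h
      have : ((a : ℕ∞) : WithBot ℕ∞) < ((0 : ℕ∞) : WithBot ℕ∞) := by exact_mod_cast h
      rw [WithBot.coe_lt_coe] at this
      exact absurd this not_lt_zero
    · intro h; exact absurd h (WithBot.coe_ne_bot)

theorem zero_le_iff' (x : WithBot ℕ∞) : ((0 : ℕ) : WithBot ℕ∞) ≤ x ↔ ⊥ < x := by
  induction x using WithBot.recBotCoe with
  | bot => simp
  | coe a =>
    constructor
    · intro _; exact WithBot.bot_lt_coe a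
    · intro _
      have : ((0 : ℕ∞) : WithBot ℕ∞) ≤ ((a : ℕ∞) : WithBot ℕ∞) := WithBot.coe_le_coe.mpr zero_le
      exact_mod_cast this

theorem dim_ne_top {S : Scheme.{u}} {X Y : AlgSp.Space S} (f : X ⟶ Y)
    (hft : AlgSp.IsFiniteTypeMor f.hom) (y : AlgSp.Points Y.obj) (k : AlgSp.FieldPt Y.obj)
    (hk : AlgSp.Points.mk k = y) (Xk : AlgSp.Sp S) (fst : Xk ⟶ X.obj)
    (snd : Xk ⟶ (AlgSp.yon S).obj k.pt) (sq : IsPullback fst snd f.hom k.toHom) :
    AlgSp.dim Xk ≠ ⊤ := by
  obtain ⟨G⟩ := exists_goodChart f.hom (𝟙 Y.obj) X.property Y.property Y.property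
  haveI : LocallyOfFiniteType G.k.left := hft.1 G.a G.b G.k G.ha G.hb G.comm_f
  let W : ℕ → Set (Points X.obj) := fun m =>
    {x | HasAtMor (fun _ _ h u => FlatMor.fibreDimAt h u ≤ (m : WithBot ℕ∞)) f.hom x}
  have hWo : ∀ m, IsOpen (W m) := fun m => Groth.Agent.S10308.result f hft.1 m
  have hWiff : ∀ (m : ℕ) (u : G.U.left),
      Points.ofPt G.a u ∈ W m ↔ FlatMor.fibreDimAt G.k.left u ≤ (m : WithBot ℕ∞) := fun m u =>
    hasAtMor_iff_of_chart (etLocalPt_fibreDim (fun d => d ≤ (m : WithBot ℕ∞))) f.hom G.a G.b G.k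
      G.ha G.hb G.comm_f u
  have hWmono : ∀ m m' : ℕ, m ≤ m' → W m ⊆ W m' := by
    intro m m' hmm x hx
    obtain ⟨u, rfl⟩ := surjective_ofPt_of_repWith_surjective G.a G.has x
    rw [hWiff] at hx ⊢
    exact hx.trans (by exact_mod_cast hmm)
  have hWcov : ∀ x, ∃ m, x ∈ W m := by
    intro x
    obtain ⟨u, rfl⟩ := surjective_ofPt_of_repWith_surjective G.a G.has x
    obtain ⟨ζ, n, -, -, -, hn⟩ :=
      Groth.Agent.Lib.Helper73.SchemeDim.exists_specializes_trdeg_eq_fibreDimAt G.k.left u
    exact ⟨n, (hWiff n u).2 hn.le⟩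
  haveI : CompactSpace ↥k.pt.left := inferInstanceAs (CompactSpace (Spec (CommRingCat.of k.K)))
  have hqc : IsQuasiCompactSp Xk :=
    hft.2 (IsAlgSpace.yon_obj k.pt) (Groth.Agent.Lib.Helper30.isQuasiCompactSp_yon_obj k.pt)
      k.toHom fst snd sq
  haveI : CompactSpace (Points Xk) := compactSpace_points_of_isQuasiCompactSp hqc
  have hcov : (Set.univ : Set (Points Xk)) ⊆ ⋃ m : ℕ, Points.map fst ⁻¹' W m := by
    intro z _
    obtain ⟨m, hm⟩ := hWcov (Points.map fst z)
    exact Set.mem_iUnion.mpr ⟨m, hm⟩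
  obtain ⟨t, ht⟩ := isCompact_univ.elim_finite_subcover _
    (fun m => (hWo m).preimage (Points.continuous_map fst)) hcov
  have hpt : ∀ t : Points ((yon S).obj k.pt), Points.map k.toHom t = y := by
    intro t
    obtain ⟨s, rfl⟩ := (Points.schemeEquiv k.pt).surjective t
    show Points.map k.toHom (Points.ofPt (𝟙 _) s) = y
    rw [Points.map_ofPt, Category.id_comp, Points.ofPt_toHom, hk]
  have key := (Groth.Agent.S10678.result f hft y k hk Xk fst snd sq).2 (t.sup id)
  have hle : AlgSp.dim Xk ≤ ((t.sup id : ℕ) : WithBot ℕ∞) := by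
    rw [key]
    intro x hx
    obtain ⟨x', hx'1, -⟩ := exists_point_of_isPullback sq x
      (Points.ofScheme k.pt (IsLocalRing.closedPoint k.K)) (by rw [hx, hpt])
    obtain ⟨N, hNt, hz⟩ := Set.mem_iUnion₂.mp (ht (Set.mem_univ x'))
    have hz' : Points.map fst x' ∈ W N := hz
    rw [hx'1] at hz'
    exact hWmono N (t.sup id) (Finset.le_sup (f := id) hNt) hz'
  intro htop
  rw [htop] at hle
  have : ((⊤ : ℕ∞) : WithBot ℕ∞) ≤ (((t.sup id : ℕ) : ℕ∞) : WithBot ℕ∞) := hle
  rw [WithBot.coe_le_coe, top_le_iff] at this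
  exact ENat.natCast_ne_top _ this


/-- For a proper flat morphism f : X ⟶ Y between algebraic spaces over S which is of finite
presentation, the fibre dimension function on |Y| is locally constant: for every d the set of y such
that every fibre X_k over y (k a field point in the class of y, X_k any pullback in fppf sheaves)
has dimension exactly d is open. -/
theorem result {S : Scheme.{u}} {X Y : AlgSp.Space S} (f : X ⟶ Y) (hf1 : AlgSp.IsProperMor f.hom)
    (hf2 : AlgSp.LocP @Flat f.hom) (hf3 : AlgSp.IsFinitePresentationMor f.hom) (d : WithBot ℕ∞) :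
    IsOpen {y : AlgSp.Points Y.obj | ∀ (k : AlgSp.FieldPt Y.obj), AlgSp.Points.mk k = y →
      ∀ (Xk : AlgSp.Sp S) (fst : Xk ⟶ X.obj) (snd : Xk ⟶ (AlgSp.yon S).obj k.pt),
        IsPullback fst snd f.hom k.toHom → AlgSp.dim Xk = d} := by
  have hft : IsFiniteTypeMor f.hom := hf1.2.1
  induction d using WithBot.recBotCoe with
  | bot =>
    convert Groth.Agent.S10680.result f hf1 ((0 : ℕ) : WithBot ℕ∞) using 1
    ext y
    simp only [Set.mem_ofPred_eq]
    refine forall_congr' fun k => forall_congr' fun hk => forall_congr' fun Xk =>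
      forall_congr' fun fst => forall_congr' fun snd => forall_congr' fun sq => ?_
    exact (lt_zero_iff' _).symm
  | coe a =>
    induction a using ENat.recTopCoe with
    | top =>
      convert isOpen_empty using 1
      ext y
      simp only [Set.mem_ofPred_eq, Set.mem_empty_iff_false, iff_false]
      intro hy
      obtain ⟨k, hk⟩ := Points.mk_surjective y
      have sq := IsPullback.of_hasPullback f.hom k.toHom
      exact dim_ne_top f hft y k hk _ _ _ sq (hy k hk _ _ _ sq)
    | coe m =>
      have h1 := Groth.Agent.S10680.result f hf1 ((m + 1 : ℕ) : WithBot ℕ∞)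
      have h2 : IsOpen {y : AlgSp.Points Y.obj | ∀ (k : AlgSp.FieldPt Y.obj),
          AlgSp.Points.mk k = y →
          ∀ (Xk : AlgSp.Sp S) (fst : Xk ⟶ X.obj) (snd : Xk ⟶ (AlgSp.yon S).obj k.pt),
            IsPullback fst snd f.hom k.toHom → ((m : ℕ) : WithBot ℕ∞) ≤ AlgSp.dim Xk} := by
        cases m with
        | zero =>
          convert Groth.Agent.S10679.result f hf2 hf3 ⊥ using 1
          ext y
          simp only [Set.mem_ofPred_eq]
          refine forall_congr' fun k => forall_congr' fun hk => forall_congr' fun Xk =>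
            forall_congr' fun fst => forall_congr' fun snd => forall_congr' fun sq => ?_
          exact zero_le_iff' _
        | succ m' =>
          convert Groth.Agent.S10679.result f hf2 hf3 ((m' : ℕ) : WithBot ℕ∞) using 1
          ext y
          simp only [Set.mem_ofPred_eq]
          refine forall_congr' fun k => forall_congr' fun hk => forall_congr' fun Xk =>
            forall_congr' fun fst => forall_congr' fun snd => forall_congr' fun sq => ?_
          exact (lt_iff_succ_le' _ _).symm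
      convert h1.inter h2 using 1
      ext y
      simp only [Set.mem_ofPred_eq, Set.mem_inter_iff]
      constructor
      · intro hy
        refine ⟨fun k hk Xk fst snd sq => ?_, fun k hk Xk fst snd sq => ?_⟩
        · rw [lt_succ_iff']
          exact (hy k hk Xk fst snd sq).le
        · exact (hy k hk Xk fst snd sq).ge
      · rintro ⟨ha, hb⟩ k hk Xk fst snd sq
        exact le_antisymm ((lt_succ_iff' _ _).1 (ha k hk Xk fst snd sq)) (hb k hk Xk fst snd sq)

end Groth.Agent.S10692
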