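import Groth.Statements.S10695
import Groth.Agent.Lib.Helper78.ElemDist

set_option autoImplicit false
universe u
open CategoryTheory CategoryTheory.Limits AlgebraicGeometry
open AlgSp

namespace Groth.Agent.S10695

/-- Suppose `(U ⊂ W, f : V → W)`, a square of algebraic spaces over `S`, is elementary distinguished
(`j` an open immersion, `f` etale and an isomorphism over the reduced closed complement of `U`) and
let `P` with its two projections be a fibre product `U ×_W V`. Then `W` is the pushout of `U` and
`V` along `P` among algebraic spaces over `S`. -/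
theorem result {S : Scheme.{u}} {U V W P : AlgSp.Space S} (j : U ⟶ W) (f : V ⟶ W)
    (hsq : AlgSp.IsElemDistSq j.hom f.hom) (p : P ⟶ U) (q : P ⟶ V)
    (hP : IsPullback p.hom q.hom j.hom f.hom) : IsPushout p q j f := by
  have w : p ≫ j = q ≫ f := by
    apply ObjectProperty.hom_ext
    exact hP.w
  have key : ∀ {Y : AlgSp.Space S} (a : U ⟶ Y) (b : V ⟶ Y), p ≫ a = q ≫ b →
      ∃! c : W.obj ⟶ Y.obj, j.hom ≫ c = a.hom ∧ f.hom ≫ c = b.hom := fun {Y} a b hab =>
    Groth.Agent.Lib.Helper78.ElemDist.existsUnique_desc U.property V.property W.property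
      j.hom f.hom hsq p.hom q.hom hP a.hom b.hom (congrArg (fun m => m.hom) hab)
  refine ⟨⟨w⟩, ⟨PushoutCocone.IsColimit.mk _
    (fun s => ObjectProperty.homMk (key s.inl s.inr s.condition).exists.choose) ?_ ?_ ?_⟩⟩
  · intro s
    apply ObjectProperty.hom_ext
    exact (key s.inl s.inr s.condition).exists.choose_spec.1
  · intro s
    apply ObjectProperty.hom_ext
    exact (key s.inl s.inr s.condition).exists.choose_spec.2
  · intro s m h1 h2
    apply ObjectProperty.hom_ext
    exact (key s.inl s.inr s.condition).unique
      ⟨congrArg (fun m => m.hom) h1, congrArg (fun m => m.hom) h2⟩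
      (key s.inl s.inr s.condition).exists.choose_spec

end Groth.Agent.S10695
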