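import Groth.Statements.S10702
import Groth.Agent.Lib.Helper30.AlgSpOpenImm
-- import your own Groth.Agent.* helpers here

set_option autoImplicit false
universe u
open CategoryTheory CategoryTheory.Limits AlgebraicGeometry
open AlgSp

namespace Groth.Agent.S10702

open Groth.Agent.Lib.Helper30 Groth.Agent.Lib.Helper51 Groth.Agent.Lib.Helper52

set_option backward.isDefEq.respectTransparency false

/-- Cancellation of pullback squares along an étale surjective morphism of sheaves (with source an
algebraic space). -/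
theorem isPullback_of_isPullback_comp {S : Scheme.{u}} {A B C D E F : AlgSp.Sp S}
    (hB : AlgSp.IsAlgSpace B) (ac : A ⟶ C) (ab : A ⟶ B)
    (cd : C ⟶ D) (bd : B ⟶ D) (ce : C ⟶ E) (df : D ⟶ F) (ef : E ⟶ F)
    (hl : IsPullback ac ab cd bd) (hcomm : cd ≫ df = ce ≫ ef)
    (hout : IsPullback (ac ≫ ce) ab ef (bd ≫ df)) (hsurj : AlgSp.IsSurjectiveMor bd)
    (het : AlgSp.IsEtaleMor bd) : IsPullback ce cd ef df := by
  obtain ⟨U, u, hue, hus⟩ := hB.atlas
  have hc'e : AlgSp.RepWith @Etale (u ≫ bd) := het u hue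
  have hc's : AlgSp.RepWith @Surjective (u ≫ bd) := by
    refine repWith_surjective_of_surjective_map hc'e.1 ?_
    intro x
    obtain ⟨y, rfl⟩ := hsurj x
    obtain ⟨z, rfl⟩ := surjective_map_of_repWith_surjective hus y
    exact ⟨z, Points.map_comp _ _ _⟩
  -- base change to `U`
  have sqU := IsPullback.of_hasPullback ab u
  have sq1 : IsPullback (pullback.fst ab u ≫ ac) (pullback.snd ab u) cd (u ≫ bd) :=
    sqU.paste_horiz hl
  have sq2 : IsPullback (pullback.fst ab u ≫ ac ≫ ce) (pullback.snd ab u) ef (u ≫ bd ≫ df) :=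
    sqU.paste_horiz hout
  have sqP := IsPullback.of_hasPullback ef df
  let θ : C ⟶ pullback ef df := pullback.lift ce cd hcomm.symm
  have hθ1 : θ ≫ pullback.fst ef df = ce := pullback.lift_fst _ _ _
  have hθ2 : θ ≫ pullback.snd ef df = cd := pullback.lift_snd _ _ _
  have hψ : IsPullback ((pullback.fst ab u ≫ ac) ≫ θ) (pullback.snd ab u)
      (pullback.snd ef df) (u ≫ bd) := by
    refine IsPullback.of_right (h₁₂ := pullback.fst ef df) (h₂₂ := df) (v₁₃ := ef) ?_ ?_ sqP
    · rw [Category.assoc, hθ1, Category.assoc, Category.assoc]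
      exact sq2
    · rw [Category.assoc, hθ2]
      exact sq1.w
  have htop : IsPullback (pullback.fst ab u ≫ ac) (𝟙 _) θ ((pullback.fst ab u ≫ ac) ≫ θ) := by
    refine IsPullback.of_bot (v₂₁ := pullback.snd ab u) (v₂₂ := pullback.snd ef df)
      (h₃₁ := u ≫ bd) ?_ ?_ hψ
    · rw [Category.id_comp, hθ2]
      exact sq1
    · rw [Category.id_comp]
  have hψe : AlgSp.RepWith @Etale ((pullback.fst ab u ≫ ac) ≫ θ) :=
    MorphismProperty.of_isPullback hψ.flip hc'e
  have hψs : AlgSp.RepWith @Surjective ((pullback.fst ab u ≫ ac) ≫ θ) :=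
    MorphismProperty.of_isPullback hψ.flip hc's
  have hmono : Mono θ := mono_of_etale_cover htop hψe hψs
  have hepi' : Epi ((pullback.fst ab u ≫ ac) ≫ θ) := epi_of_repWith_etale_surjective _ hψe hψs
  have hepi : Epi θ := epi_of_epi (pullback.fst ab u ≫ ac) θ
  have hiso : IsIso θ := isIso_of_mono_of_epi θ
  exact IsPullback.of_iso_pullback ⟨hcomm.symm⟩ (asIso θ) hθ1 hθ2

/-- Consider a commutative diagram of algebraic spaces over `S` with top row `A → C → E`, bottom row `B
→ D → F` and vertical maps `A → B`, `C → D`, `E → F`. If the left square and the outer rectangle are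
cartesian and `B → D` is surjective etale, then the right square is cartesian. -/
theorem result {S : Scheme.{u}} {A B C D E F : AlgSp.Space S} (ac : A ⟶ C) (ab : A ⟶ B)
    (cd : C ⟶ D) (bd : B ⟶ D) (ce : C ⟶ E) (df : D ⟶ F) (ef : E ⟶ F)
    (hl : IsPullback ac.hom ab.hom cd.hom bd.hom) (hcomm : cd ≫ df = ce ≫ ef)
    (hout : IsPullback (ac ≫ ce).hom ab.hom ef.hom (bd ≫ df).hom) (hsurj : AlgSp.IsSurjectiveMor bd.hom)
    (het : AlgSp.IsEtaleMor bd.hom) : IsPullback ce.hom cd.hom ef.hom df.hom := by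
  exact isPullback_of_isPullback_comp B.property ac.hom ab.hom cd.hom bd.hom ce.hom df.hom ef.hom hl
    (congrArg (fun k => k.hom) hcomm) hout hsurj het

end Groth.Agent.S10702
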