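import Groth.Statements.S10721
import Mathlib
-- import your own Groth.Agent.* helpers here

set_option autoImplicit false
universe u
open TensorProduct
open EtAlg

namespace Groth.Agent.S10721

open TensorProduct

/-- core: an `f`-power torsion module `C` with `C ⊗ R' = 0` vanishes, when `R/f^n ≅ R'/f^n`. -/
theorem eq_zero_of_tensor (R : Type u) [CommRing R] (R' : Type u) [CommRing R'] [Algebra R R'] (f : R)
    (hq : EtGlue.QuotPowBijective R R' f) (C : Type u) [AddCommGroup C] [Module R C]
    (htors : ∀ c : C, ∃ n : ℕ, f ^ n • c = 0) (hsub : Subsingleton (C ⊗[R] R')) (c : C) : c = 0 := by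
  classical
  -- finite submodule trick
  have hPfg : (Submodule.span R {c}).FG := Submodule.fg_span_singleton c
  let t : (Submodule.span R {c}) ⊗[R] R' := ⟨c, Submodule.mem_span_singleton_self c⟩ ⊗ₜ[R] 1
  have ht : LinearMap.rTensor R' (Submodule.span R {c}).subtype t = 0 := Subsingleton.elim _ _
  obtain ⟨Q, hPQ, hQfg, hQ0⟩ := TensorProduct.eq_zero_of_fg_of_subtype_eq_zero hPfg ht
  have hcQ : c ∈ Q := hPQ (Submodule.mem_span_singleton_self c)
  have hQ0' : (⟨c, hcQ⟩ : Q) ⊗ₜ[R] (1 : R') = 0 := by
    have : LinearMap.rTensor R' (Submodule.inclusion hPQ) t = (⟨c, hcQ⟩ : Q) ⊗ₜ[R] (1 : R') := by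
      simp only [t, LinearMap.rTensor_tmul]
      rfl
    rw [← this, hQ0]
  -- uniform exponent on Q
  obtain ⟨S, hS⟩ := hQfg
  choose nn hnn using htors
  obtain ⟨N, hN⟩ : ∃ N : ℕ, ∀ x ∈ Q, f ^ N • x = 0 := by
    refine ⟨∑ s ∈ S, nn s, ?_⟩
    intro x hx
    rw [← hS] at hx
    induction hx using Submodule.span_induction with
    | mem y hy =>
      have hy' : y ∈ S := hy
      rw [← Finset.add_sum_erase S nn hy', pow_add, mul_comm, mul_smul, hnn, smul_zero]
    | zero => exact smul_zero _
    | add y z _ _ hy hz => rw [smul_add, hy, hz, add_zero]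
    | smul a y _ hy => rw [smul_comm, hy, smul_zero]
  have hbij := hq (N + 1) (Nat.succ_pos N)
  -- lifting elements of R' to R modulo f^(N+1)
  have hlift : ∀ r' : R', ∃ r : R, algebraMap R R' r - r' ∈
      Ideal.map (algebraMap R R') (Ideal.span {f ^ (N + 1)}) := by
    intro r'
    obtain ⟨rbar, hrbar⟩ := hbij.2 (Ideal.Quotient.mk _ r')
    obtain ⟨r, rfl⟩ := Ideal.Quotient.mk_surjective rbar
    refine ⟨r, ?_⟩
    rw [Ideal.quotientMap_mk] at hrbar
    exact Ideal.Quotient.eq.mp hrbar
  choose lift hlift using hlift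
  have hwd : ∀ r : R, algebraMap R R' r ∈
      Ideal.map (algebraMap R R') (Ideal.span {f ^ (N + 1)}) → ∀ x : Q, r • x = 0 := by
    intro r hr x
    have h0 : Ideal.quotientMap (Ideal.map (algebraMap R R') (Ideal.span {f ^ (N + 1)}))
        (algebraMap R R') Ideal.le_comap_map (Ideal.Quotient.mk _ r) = 0 := by
      rw [Ideal.quotientMap_mk]
      exact Ideal.Quotient.eq_zero_iff_mem.mpr hr
    have h1 : Ideal.Quotient.mk (Ideal.span {f ^ (N + 1)}) r = 0 := by
      apply hbij.1
      rw [h0, map_zero]
    obtain ⟨r0, hr0⟩ := Ideal.mem_span_singleton'.mp (Ideal.Quotient.eq_zero_iff_mem.mp h1)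
    apply Subtype.ext
    rw [← hr0, Submodule.coe_smul, mul_smul, pow_succ, mul_smul, Submodule.coe_zero]
    rw [smul_comm (f ^ N) f, hN x x.2, smul_zero, smul_zero]
  have hkey : ∀ r1 r2 : R, algebraMap R R' r1 - algebraMap R R' r2 ∈
      Ideal.map (algebraMap R R') (Ideal.span {f ^ (N + 1)}) → ∀ x : Q, r1 • x = r2 • x := by
    intro r1 r2 h x
    rw [← sub_eq_zero, ← sub_smul]
    exact hwd _ (by rwa [map_sub]) x
  let ρ : Q ⊗[R] R' →ₗ[R] Q := TensorProduct.lift (LinearMap.mk₂ R (fun (x : Q) (r' : R') => lift r' • x)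
    (fun x1 x2 r' => smul_add _ _ _)
    (fun a x r' => smul_comm _ _ _)
    (fun x r1 r2 => by
      rw [← add_smul]
      apply hkey
      have : algebraMap R R' (lift (r1 + r2)) - algebraMap R R' (lift r1 + lift r2) =
          (algebraMap R R' (lift (r1 + r2)) - (r1 + r2)) - (algebraMap R R' (lift r1) - r1) -
            (algebraMap R R' (lift r2) - r2) := by rw [map_add]; ring
      rw [this]
      exact Ideal.sub_mem _ (Ideal.sub_mem _ (hlift _) (hlift _)) (hlift _))
    (fun a x r' => by
      rw [← mul_smul]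
      apply hkey
      have : algebraMap R R' (lift (a • r')) - algebraMap R R' (a * lift r') =
          (algebraMap R R' (lift (a • r')) - a • r') -
            algebraMap R R' a * (algebraMap R R' (lift r') - r') := by
        rw [map_mul, Algebra.smul_def]; ring
      rw [this]
      exact Ideal.sub_mem _ (hlift _) (Ideal.mul_mem_left _ _ (hlift _))))
  have hρ : ρ ((⟨c, hcQ⟩ : Q) ⊗ₜ[R] (1 : R')) = (⟨c, hcQ⟩ : Q) := by
    show lift 1 • (⟨c, hcQ⟩ : Q) = ⟨c, hcQ⟩
    rw [hkey (lift 1) 1 (by rw [map_one]; exact hlift 1), one_smul]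
  rw [hQ0', map_zero] at hρ
  exact (congrArg Subtype.val hρ).symm

/-- Glueing along a glueing pair detects closed immersions of affine schemes, stated for coordinate
rings. Let `(R → R', f)` be a glueing pair and `φ : A → B` a homomorphism of `R`-algebras with `A`,
`B` glueable as `R`-modules (so `Spec A`, `Spec B` are affine and glueable over `Spec R`). Then `φ`
is surjective (a closed immersion on spectra) if and only if `A_f → B_f` and `R' ⊗_R A → R' ⊗_R B`
are surjective. -/
theorem result (R : Type u) [CommRing R] (R' : Type u) [CommRing R'] [Algebra R R'] (f : R)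
    (hRR' : EtGlue.IsGlueingPair R R' f) (A B : Type u) [CommRing A] [Algebra R A] [CommRing B] [Algebra R B]
    (hA : EtGlue.IsGlueable R R' f A) (hB : EtGlue.IsGlueable R R' f B) (φ : A →ₐ[R] B) :
    Function.Surjective φ ↔
      Function.Surjective (Localization.awayMap φ.toRingHom (algebraMap R A f)) ∧ Function.Surjective (Algebra.TensorProduct.map (AlgHom.id R R') φ).toRingHom := by
  constructor
  · intro hφ
    refine ⟨?_, ?_⟩
    · rw [Localization.awayMap_surjective_iff]
      intro b
      obtain ⟨a, ha⟩ := hφ b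
      exact ⟨a, 0, by rw [pow_zero, one_mul]; exact ha⟩
    · intro y
      induction y using TensorProduct.induction_on with
      | zero => exact ⟨0, map_zero _⟩
      | tmul r' b =>
        obtain ⟨a, rfl⟩ := hφ b
        exact ⟨r' ⊗ₜ[R] a, by simp⟩
      | add y z hy hz =>
        obtain ⟨y', rfl⟩ := hy
        obtain ⟨z', rfl⟩ := hz
        exact ⟨y' + z', map_add _ _ _⟩
  · rintro ⟨hloc, hten⟩
    rw [Localization.awayMap_surjective_iff] at hloc
    -- the cokernel
    let C := B ⧸ (LinearMap.range φ.toLinearMap)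
    have htors : ∀ c : C, ∃ n : ℕ, f ^ n • c = 0 := by
      intro c
      obtain ⟨b, rfl⟩ := Submodule.Quotient.mk_surjective _ c
      obtain ⟨a, m, ham⟩ := hloc b
      refine ⟨m, ?_⟩
      rw [← Submodule.Quotient.mk_smul, Submodule.Quotient.mk_eq_zero]
      refine ⟨a, ?_⟩
      show φ a = f ^ m • b
      have h1 : φ.toRingHom a = φ a := rfl
      have h2 : φ.toRingHom (algebraMap R A f) = algebraMap R B f := φ.commutes f
      rw [h1, h2] at ham
      rw [ham, Algebra.smul_def, map_pow]
    have hsub : Subsingleton (C ⊗[R] R') := by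
      let g : R' ⊗[R] B →ₗ[R] C ⊗[R] R' :=
        (TensorProduct.comm R R' C).toLinearMap ∘ₗ
          (LinearMap.lTensor R' (LinearMap.range φ.toLinearMap).mkQ)
      have hg0 : ∀ y : R' ⊗[R] B, g y = 0 := by
        intro y
        obtain ⟨x, rfl⟩ := hten y
        induction x using TensorProduct.induction_on with
        | zero => simp
        | tmul r' a =>
          have : (LinearMap.range φ.toLinearMap).mkQ (φ a) = 0 := by
            rw [Submodule.mkQ_apply, Submodule.Quotient.mk_eq_zero]
            exact ⟨a, rfl⟩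
          simp [g, this]
        | add x y hx hy =>
          rw [map_add, map_add, hx, hy, add_zero]
      refine ⟨fun x y => ?_⟩
      have h0 : ∀ z : C ⊗[R] R', z = 0 := by
        intro z
        induction z using TensorProduct.induction_on with
        | zero => rfl
        | tmul c r' =>
          obtain ⟨b, rfl⟩ := Submodule.Quotient.mk_surjective _ c
          have := hg0 (r' ⊗ₜ[R] b)
          simp only [g, LinearMap.coe_comp, LinearEquiv.coe_coe, Function.comp_apply,
            LinearMap.lTensor_tmul, TensorProduct.comm_tmul, Submodule.mkQ_apply] at this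
          exact this
        | add x y hx hy => rw [hx, hy, add_zero]
      rw [h0 x, h0 y]
    intro b
    have := eq_zero_of_tensor R R' f hRR'.1 C htors hsub (Submodule.Quotient.mk b)
    rw [Submodule.Quotient.mk_eq_zero] at this
    obtain ⟨a, ha⟩ := this
    exact ⟨a, ha⟩

end Groth.Agent.S10721
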