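import Groth.Statements.S10722
import Groth.Agent.Lib.Helper10.BLRing

set_option autoImplicit false
universe u
open TensorProduct
open EtAlg

namespace Groth.Agent.S10722

/-- Glueing along a glueing pair detects finite type morphisms of affine schemes, stated for coordinate
rings. Let `(R → R', f)` be a glueing pair and `φ : A → B` a homomorphism of `R`-algebras with `A`,
`B` glueable as `R`-modules (so `Spec A`, `Spec B` are affine and glueable over `Spec R`). Then `φ`
is of finite type if and only if `A_f → B_f` and `R' ⊗_R A → R' ⊗_R B` are. -/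
theorem result (R : Type u) [CommRing R] (R' : Type u) [CommRing R'] [Algebra R R'] (f : R)
    (hRR' : EtGlue.IsGlueingPair R R' f) (A B : Type u) [CommRing A] [Algebra R A] [CommRing B] [Algebra R B]
    (hA : EtGlue.IsGlueable R R' f A) (hB : EtGlue.IsGlueable R R' f B) (φ : A →ₐ[R] B) :
    φ.toRingHom.FiniteType ↔ (Localization.awayMap φ.toRingHom (algebraMap R A f)).FiniteType ∧ (Algebra.TensorProduct.map (AlgHom.id R R') φ).toRingHom.FiniteType := by
  constructor
  · intro h
    refine ⟨?_, ?_⟩
    · exact RingHom.localization_away_map_finiteType A B _ _ φ.toRingHom (algebraMap R A f) h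
    · exact Groth.Agent.Lib.Helper10.BLRing.tensorMap_of_isStableUnderBaseChange
        RingHom.finiteType_isStableUnderBaseChange φ h
  · rintro ⟨h1, h2⟩
    exact Groth.Agent.Lib.Helper10.BLRing.finiteType_of_awayMap_of_tensorMap hRR'.1 φ h1 h2

end Groth.Agent.S10722
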