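import Groth.Statements.S10723
import Groth.Agent.Lib.Helper10.BLFP

set_option autoImplicit false
universe u
open TensorProduct
open EtAlg

namespace Groth.Agent.S10723

/-- Glueing along a glueing pair detects morphisms of affine schemes that are flat and of finite
presentation, stated for coordinate rings. Let `(R → R', f)` be a glueing pair and `φ : A → B` a
homomorphism of `R`-algebras with `A`, `B` glueable as `R`-modules (so `Spec A`, `Spec B` are affine
and glueable over `Spec R`). Then `φ` is flat and of finite presentation if and only if `A_f → B_f`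
and `R' ⊗_R A → R' ⊗_R B` are. -/
theorem result (R : Type u) [CommRing R] (R' : Type u) [CommRing R'] [Algebra R R'] (f : R)
    (hRR' : EtGlue.IsGlueingPair R R' f) (A B : Type u) [CommRing A] [Algebra R A] [CommRing B] [Algebra R B]
    (hA : EtGlue.IsGlueable R R' f A) (hB : EtGlue.IsGlueable R R' f B) (φ : A →ₐ[R] B) :
    (φ.toRingHom.Flat ∧ φ.toRingHom.FinitePresentation) ↔
      ((Localization.awayMap φ.toRingHom (algebraMap R A f)).Flat ∧ (Localization.awayMap φ.toRingHom (algebraMap R A f)).FinitePresentation) ∧
        ((Algebra.TensorProduct.map (AlgHom.id R R') φ).toRingHom.Flat ∧ (Algebra.TensorProduct.map (AlgHom.id R R') φ).toRingHom.FinitePresentation) := by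
  constructor
  · rintro ⟨hf, hp⟩
    refine ⟨⟨?_, ?_⟩, ⟨?_, ?_⟩⟩
    · exact RingHom.Flat.propertyIsLocal.localizationAwayPreserves φ.toRingHom (algebraMap R A f)
        _ _ hf
    · exact RingHom.finitePresentation_isLocal.localizationAwayPreserves φ.toRingHom
        (algebraMap R A f) _ _ hp
    · exact Groth.Agent.Lib.Helper10.BLRing.tensorMap_of_isStableUnderBaseChange
        RingHom.Flat.isStableUnderBaseChange φ hf
    · exact Groth.Agent.Lib.Helper10.BLRing.tensorMap_of_isStableUnderBaseChange
        RingHom.finitePresentation_isStableUnderBaseChange φ hp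
  · rintro ⟨⟨h1f, h1p⟩, ⟨h2f, h2p⟩⟩
    have hflat : φ.toRingHom.Flat :=
      Groth.Agent.Lib.Helper10.BLRing.flat_of_awayMap_of_tensorMap hRR'.1 hA φ h1f h2f
    have hft : φ.toRingHom.FiniteType :=
      Groth.Agent.Lib.Helper10.BLRing.finiteType_of_awayMap_of_tensorMap hRR'.1 φ
        (RingHom.FiniteType.of_finitePresentation h1p) (RingHom.FiniteType.of_finitePresentation h2p)
    refine ⟨hflat, ?_⟩
    letI : Algebra A B := φ.toRingHom.toAlgebra
    haveI : IsScalarTower R A B := IsScalarTower.of_algebraMap_eq' φ.comp_algebraMap.symm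
    haveI : Module.Flat A B := hflat
    have hft' : Algebra.FiniteType A B := hft
    obtain ⟨n, π, hπ⟩ := Algebra.FiniteType.iff_quotient_mvPolynomial''.mp hft'
    have hφ : IsScalarTower.toAlgHom R A B = φ := AlgHom.ext (fun _ => rfl)
    have hker := Groth.Agent.Lib.Helper10.BLFP.ker_fg_of_glueing (R' := R') hRR'.1 π hπ h1p
      (by rw [hφ]; exact h2p)
    show Algebra.FinitePresentation A B
    exact Algebra.FinitePresentation.of_surjective hπ hker

end Groth.Agent.S10723
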