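import Groth.Statements.S10727
import Groth.Agent.Lib.Helper10.BLGlueAlg

set_option autoImplicit false
universe u
open TensorProduct
open EtAlg

namespace Groth.Agent.S10727

/-- Glueing affine schemes along a glueing pair, stated for their coordinate rings. Let `(R → R', f)` be
a glueing pair, `A₁` an `R`-algebra in which `f` is invertible, `A'` an `R'`-algebra and `φ : A'_f ≅
R' ⊗_R A₁` an isomorphism of `R'`-algebras. Then there is an `R`-algebra `A`, glueable as an
`R`-module, with isomorphisms `A_f ≅ A₁` of `R`-algebras and `R' ⊗_R A ≅ A'` of `R'`-algebras under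
which `φ` is the canonical identification `(R' ⊗_R A)_f = R' ⊗_R A_f`. (The published statement is
that base change is an equivalence between affine schemes over `Spec R` that are glueable and
triples of affine schemes over `Spec R_f`, `Spec R'_f`, `Spec R'` with cartesian squares; this row
states only that every such triple arises, on coordinate rings.) -/
theorem result (R : Type u) [CommRing R] (R' : Type u) [CommRing R'] [Algebra R R']
    (f : R) (hRR' : EtGlue.IsGlueingPair R R' f) (A₁ : Type u) [CommRing A₁] [Algebra R A₁]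
    (h₁ : IsUnit (algebraMap R A₁ f)) (A' : Type u) [CommRing A'] [Algebra R A'] [Algebra R' A']
    [IsScalarTower R R' A'] (φ : Localization.Away (algebraMap R A' f) ≃ₐ[R'] R' ⊗[R] A₁) :
    ∃ (A : Type u) (_ : CommRing A) (_ : Algebra R A) (_ : EtGlue.IsGlueable R R' f A)
      (e₁ : Localization.Away (algebraMap R A f) ≃ₐ[R] A₁) (e' : R' ⊗[R] A ≃ₐ[R'] A'),
      ∀ a : A, φ (algebraMap A' (Localization.Away (algebraMap R A' f)) (e' ((1 : R') ⊗ₜ[R] a))) =
        (1 : R') ⊗ₜ[R] e₁ (algebraMap A (Localization.Away (algebraMap R A f)) a) := by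
  classical
  let β : A' →ₐ[R'] R' ⊗[R] A₁ :=
    φ.toAlgHom.comp (IsScalarTower.toAlgHom R' A' (Localization.Away (algebraMap R A' f)))
  have hβ : ∀ x' : A', β x' = φ (algebraMap A' (Localization.Away (algebraMap R A' f)) x') :=
    fun _ => rfl
  have hfA' : algebraMap R A' f = algebraMap R' A' (algebraMap R R' f) :=
    IsScalarTower.algebraMap_apply R R' A' f
  have hβ1 : ∀ x' : A', β x' = 0 → ∃ n : ℕ, (algebraMap R R' f) ^ n • x' = 0 := by
    intro x' h
    rw [hβ] at h
    have h' : algebraMap A' (Localization.Away (algebraMap R A' f)) x' = 0 := by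
      apply φ.injective
      rw [map_zero]
      exact h
    rw [IsLocalization.map_eq_zero_iff (Submonoid.powers (algebraMap R A' f))] at h'
    obtain ⟨⟨_, n, rfl⟩, hn⟩ := h'
    refine ⟨n, ?_⟩
    rw [Algebra.smul_def, map_pow, ← hfA']
    exact hn
  have hβ2 : ∀ w : R' ⊗[R] A₁, ∃ (n : ℕ) (x' : A'), β x' = (algebraMap R R' f) ^ n • w := by
    intro w
    obtain ⟨x', ⟨_, n, rfl⟩, hx'⟩ :=
      IsLocalization.exists_mk'_eq (Submonoid.powers (algebraMap R A' f)) (φ.symm w)
    refine ⟨n, x', ?_⟩
    rw [hβ]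
    have h1 : algebraMap A' (Localization.Away (algebraMap R A' f)) x' =
        (algebraMap R R' f) ^ n • φ.symm w := by
      rw [← hx', Algebra.smul_def, IsScalarTower.algebraMap_apply R' A'
        (Localization.Away (algebraMap R A' f)), map_pow, ← hfA']
      exact (IsLocalization.mk'_spec' (Localization.Away (algebraMap R A' f)) x'
        (⟨(algebraMap R A' f) ^ n, n, rfl⟩ : Submonoid.powers (algebraMap R A' f))).symm
    rw [h1, map_smul, AlgEquiv.apply_symm_apply]
  let A := Groth.Agent.Lib.Helper10.BL.glueAlg A' A₁ β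
  letI algA : Algebra A A₁ := (Groth.Agent.Lib.Helper10.BL.glueAlgSnd A' A₁ β).toRingHom.toAlgebra
  haveI hloc : IsLocalization (Submonoid.powers (algebraMap R A f)) A₁ :=
    Groth.Agent.Lib.Helper10.BL.glueAlg_isLocalization h₁ hβ1 hβ2
  haveI : IsScalarTower R A A₁ := IsScalarTower.of_algebraMap_eq (fun r =>
    ((Groth.Agent.Lib.Helper10.BL.glueAlgSnd A' A₁ β).commutes r).symm)
  refine ⟨A, inferInstance, inferInstance,
    Groth.Agent.Lib.Helper10.BL.glueAlg_isGlueable h₁ hRR',
    (IsLocalization.algEquiv (Submonoid.powers (algebraMap R A f))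
      (Localization.Away (algebraMap R A f)) A₁).restrictScalars R,
    AlgEquiv.ofBijective (Groth.Agent.Lib.Helper10.BL.glueAlgPsi A' A₁ β)
      (Groth.Agent.Lib.Helper10.BL.glueAlgPsi_bijective h₁ hβ1 hβ2 hRR'), ?_⟩
  intro a
  rw [AlgEquiv.coe_ofBijective, Groth.Agent.Lib.Helper10.BL.glueAlgPsi_tmul, one_smul, ← hβ,
    Groth.Agent.Lib.Helper10.BL.beta_glueAlgFst]
  congr 1
  rw [AlgEquiv.restrictScalars_apply, AlgEquiv.commutes]
  rfl

end Groth.Agent.S10727
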