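import Groth.Statements.S1075
import Groth.Agent.Lib.Helper6.ProdCx

set_option autoImplicit false
universe w v u
open CategoryTheory CategoryTheory.Limits
open CohDer

namespace Groth.Agent.S1075

/-- In D(A), for A abelian with enough injectives and countable products, every sequence of
bounded-below objects has a product, so derived limits of such sequences exist. -/
theorem result {A : Type u} [Category.{v} A] [Abelian A] [HasDerivedCategory.{w} A]
    [HasLimitsOfShape (Discrete ℕ) A] [EnoughInjectives A]
    (K : ℕ → DerivedCategory A) (hK : ∀ n, ∃ a : ℤ, (K n).IsGE a) : HasProduct K := by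
  have h : ∀ n, ∃ (I : CochainComplex A ℤ), I.IsKInjective ∧
      Nonempty (K n ≅ DerivedCategory.Q.obj I) := by
    intro n
    obtain ⟨a, ha⟩ := hK n
    obtain ⟨I, hI, hI', ⟨e⟩⟩ := Groth.Agent.Lib.Helper6.ThickInj.exists_iso_Q_injective (K n) a
    exact ⟨I, CochainComplex.isKInjective_of_injective I a, ⟨e⟩⟩
  choose I hI e using h
  haveI := Groth.Agent.Lib.Helper6.ProdCx.hasProduct_Q I hI
  exact hasLimit_of_iso (F := Discrete.functor (fun n => DerivedCategory.Q.obj (I n)))
    (Discrete.natIso (fun n => (e n.as).some.symm))

end Groth.Agent.S1075
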