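import Groth.Statements.S10760
import Groth.Agent.Lib.Helper30.AlgSpThickSep
import Groth.Agent.S10587
import Groth.Agent.S10589
import Groth.Agent.S10277
import Groth.Agent.S10276
-- import your own Groth.Agent.* helpers here

set_option autoImplicit false
universe u
open CategoryTheory CategoryTheory.Limits AlgebraicGeometry
open AlgSp

namespace Groth.Agent.S10760

open Groth.Agent.Lib.Helper30 Groth.Agent.Lib.Helper51 Groth.Agent.Lib.Helper52

set_option backward.isDefEq.respectTransparency false

instance thick_containsIdentities : (AlgSp.thick.{u}).ContainsIdentities where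
  id_mem X := ⟨inferInstanceAs (IsClosedImmersion (𝟙 X)), inferInstanceAs (Surjective (𝟙 X))⟩

theorem isThickMor_id {S : Scheme.{u}} (Y : AlgSp.Sp S) : AlgSp.IsThickMor (𝟙 Y) :=
  Groth.Agent.Lib.Helper78.AlgSpBasic.repWith_of_isIso AlgSp.thick (𝟙 Y)

/-- The projection from the fibre product of two closed subspaces with the same support is a
thickening. -/
theorem isThickMor_snd_of_range_eq {S : Scheme.{u}} {Z Z' X W : AlgSp.Sp S} {i : Z ⟶ X}
    {i' : Z' ⟶ X} {p : W ⟶ Z} {t : W ⟶ Z'} (sq : IsPullback p t i i')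
    (hi : AlgSp.RepWith @IsClosedImmersion i)
    (hsub : Set.range (AlgSp.Points.map i') ⊆ Set.range (AlgSp.Points.map i)) :
    AlgSp.IsThickMor t := by
  have h1 : AlgSp.RepWith @IsClosedImmersion t := MorphismProperty.of_isPullback sq hi
  have hs : Function.Surjective (AlgSp.Points.map t) := by
    intro z'
    obtain ⟨z, hz⟩ := hsub ⟨z', rfl⟩
    obtain ⟨w, -, hw⟩ := exists_point_of_isPullback sq z z' hz
    exact ⟨w, hw⟩
  have h2 : AlgSp.RepWith @Surjective t := repWith_surjective_of_surjective_map h1.1 hs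
  exact ⟨h1.1, fun U V g fst snd sq' => ⟨h1.2 g fst snd sq', h2.2 g fst snd sq'⟩⟩

/-- Let f : X ⟶ Y be a morphism of algebraic spaces over S that is locally of finite type, and let i : Z
⟶ X, i' : Z' ⟶ X be closed subspaces (representable closed immersions) with the same image in |X|.
If the composite Z ⟶ Y is proper, then so is Z' ⟶ Y. (That properness of every closed subspace with
support T implies properness of the reduced one, and that this implies properness of some closed
subspace with support T, is immediate.) -/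
theorem result {S : Scheme.{u}} {X Y Z Z' : AlgSp.Space S}
    (f : X ⟶ Y) (hf : AlgSp.LocP @LocallyOfFiniteType f.hom)
    (i : Z ⟶ X) (i' : Z' ⟶ X)
    (hi : AlgSp.RepWith @IsClosedImmersion i.hom) (hi' : AlgSp.RepWith @IsClosedImmersion i'.hom)
    (heq : Set.range (AlgSp.Points.map i.hom) = Set.range (AlgSp.Points.map i'.hom))
    (hZ : AlgSp.IsProperMor (i ≫ f).hom) :
    AlgSp.IsProperMor (i' ≫ f).hom := by
  have sq := IsPullback.of_hasPullback i.hom i'.hom
  have hW : AlgSp.IsAlgSpace (pullback i.hom i'.hom) :=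
    isAlgSpace_of_isPullback X.property.diag Z.property Z'.property sq
  let W : AlgSp.Space S := ⟨pullback i.hom i'.hom, hW⟩
  let p : W ⟶ Z := ObjectProperty.homMk (pullback.fst i.hom i'.hom)
  let t : W ⟶ Z' := ObjectProperty.homMk (pullback.snd i.hom i'.hom)
  have ht : AlgSp.IsThickMor t.hom := isThickMor_snd_of_range_eq sq hi heq.symm.subset
  have hp : AlgSp.RepWith @IsClosedImmersion p.hom := MorphismProperty.of_isPullback sq.flip hi'
  have hpw : p ≫ i = t ≫ i' := ObjectProperty.hom_ext _ sq.w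
  have hWY : AlgSp.IsProperMor (p ≫ (i ≫ f)).hom :=
    Groth.Agent.S10276.result p (i ≫ f) (Groth.Agent.S10277.result p hp) hZ
  have hw : t ≫ (i' ≫ f) = (p ≫ (i ≫ f)) ≫ 𝟙 Y := by
    rw [Category.comp_id, ← Category.assoc, ← hpw, Category.assoc]
  have hid : AlgSp.IsThickMor (𝟙 Y : Y ⟶ Y).hom := isThickMor_id Y.obj
  obtain ⟨hsep, ⟨hlft, hqc⟩, huc⟩ := hWY
  have h87 := Groth.Agent.S10587.result t (𝟙 Y) (p ≫ (i ≫ f)) (i' ≫ f) ht hid hw
  have h89 := Groth.Agent.S10589.result t (𝟙 Y) (p ≫ (i ≫ f)) (i' ≫ f) ht hid hw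
  refine ⟨h89.1.1 hsep, ⟨?_, h87.2.1.1 hqc⟩, h87.2.2.1.1 huc⟩
  have hi'l : AlgSp.LocP @LocallyOfFiniteType i'.hom := by
    refine locP_of_repWith @IsClosedImmersion @LocallyOfFiniteType ?_ hi'
    intro A B C k j hk hj
    have : Etale k := hk
    have : IsClosedImmersion j := hj
    show LocallyOfFiniteType (k ≫ j)
    infer_instance
  exact Groth.Agent.Lib.Helper78.AlgSpLocP.locP_comp
    Groth.Agent.Lib.Helper78.AlgSpLocPLoft.etLocalST_loft i'.hom f.hom X.property.atlas hi'l hf

end Groth.Agent.S10760
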