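import Groth.Statements.S10761
import Groth.Agent.S10275
import Groth.Agent.S10276
import Groth.Agent.Lib.Helper52.Points
-- import your own Groth.Agent.* helpers here

set_option autoImplicit false
universe u
open CategoryTheory CategoryTheory.Limits AlgebraicGeometry
open AlgSp

namespace Groth.Agent.S10761

open Groth.Agent.Lib.Helper30 Groth.Agent.Lib.Helper51 Groth.Agent.Lib.Helper52

set_option backward.isDefEq.respectTransparency false

theorem range_map_of_isPullback {S : Scheme.{u}} {W X Y Z : AlgSp.Sp S} {p : W ⟶ X} {q : W ⟶ Z}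
    {f : X ⟶ Y} {g : Z ⟶ Y} (sq : IsPullback p q f g) :
    Set.range (AlgSp.Points.map q) = AlgSp.Points.map g ⁻¹' Set.range (AlgSp.Points.map f) := by
  ext z
  constructor
  · rintro ⟨w, rfl⟩
    refine ⟨AlgSp.Points.map p w, ?_⟩
    rw [← AlgSp.Points.map_comp, ← AlgSp.Points.map_comp, sq.w]
  · rintro ⟨x, hx⟩
    obtain ⟨w, -, hw⟩ := exists_point_of_isPullback sq x z hx
    exact ⟨w, hw⟩

/-- Let X' = Y' ×_Y X be a cartesian square of algebraic spaces over S (g' : X' ⟶ X and f' : X' ⟶ Y' the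
projections) with f : X ⟶ Y locally of finite type, let i : Z ⟶ X be a closed subspace with Z ⟶ Y
proper, and let Z' ⟶ X' be its base change (a cartesian square Z' = Z ×_X X'). Then Z' ⟶ Y' is
proper and the image of |Z'| in |X'| is the inverse image of the image of |Z| under |g'|; that is,
the inverse image of a closed subset proper over Y is proper over Y'. -/
theorem result {S : Scheme.{u}} {X Y X' Y' Z Z' : AlgSp.Space S}
    (f : X ⟶ Y) (g : Y' ⟶ Y) (f' : X' ⟶ Y') (g' : X' ⟶ X)
    (hsq : IsPullback g'.hom f'.hom f.hom g.hom)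
    (hf : AlgSp.LocP @LocallyOfFiniteType f.hom)
    (i : Z ⟶ X) (hi : AlgSp.RepWith @IsClosedImmersion i.hom) (hZ : AlgSp.IsProperMor (i ≫ f).hom)
    (i' : Z' ⟶ X') (q : Z' ⟶ Z) (hsq' : IsPullback q.hom i'.hom i.hom g'.hom) :
    AlgSp.IsProperMor (i' ≫ f').hom ∧
      Set.range (AlgSp.Points.map i'.hom) = AlgSp.Points.map g'.hom ⁻¹' Set.range (AlgSp.Points.map i.hom) := by
  have big : IsPullback q.hom (i' ≫ f').hom (i ≫ f).hom g.hom := hsq'.paste_vert hsq
  exact ⟨Groth.Agent.S10275.result (i ≫ f) g q (i' ≫ f') big hZ, range_map_of_isPullback hsq'⟩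

end Groth.Agent.S10761
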