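import Groth.Statements.S10787
import Groth.Agent.Lib.Helper2.ArtColim

set_option autoImplicit false
universe u
open CategoryTheory CategoryTheory.Limits
open CAlg

namespace Groth.Agent.S10787

open Groth.Agent.Lib.Helper2 in
/-- The family of torsion pieces. -/
def Tfam {A : Type u} [CommRing A] {J : Type u} [AddCommGroup J] [Module A J] {ι : Type u}
    (Efam : ι → Submodule A J) (p : ι → Ideal A) (i : ι) (n : ℕ) : Submodule A J :=
  (Submodule.torsionBySet A ↥(Efam i) ((p i ^ n : Ideal A) : Set A)).map (Efam i).subtype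


/-- Let A be a Noetherian ring and J an injective A-module (an injective object of QCoh of the affine
scheme Spec A, through the equivalence with A-modules). Then J is a filtered colimit of A-modules
each of which is a finite module over some Artinian A-algebra B, the A-module structure being
restricted from B; these are the modules underlying pushforwards to Spec A of coherent sheaves on
spectra of Artinian rings. -/
theorem result (A : Type u) [CommRing A] [IsNoetherianRing A]
    (J : Type u) [AddCommGroup J] [Module A J] [Module.Injective A J] :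
    ∃ (ι : Type u) (_ : SmallCategory ι) (_ : IsFiltered ι) (D : ι ⥤ ModuleCat.{u} A)
      (c : Cocone D) (_ : IsColimit c), Nonempty (c.pt ≅ ModuleCat.of A J) ∧
      ∀ i : ι, ∃ (B : Type u) (_ : CommRing B) (_ : Algebra A B) (_ : IsArtinianRing B)
        (_ : Module B (D.obj i)) (_ : IsScalarTower A B (D.obj i)), Module.Finite B (D.obj i) := by
  classical
  obtain ⟨ι, Efam, hint, hE⟩ := Groth.Agent.S0307.result A J inferInstance
  choose p hp f hf using fun i =>
    Groth.Agent.Lib.Helper2.exists_isInjectiveHull_quotient_prime_of_indecomposable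
      (hE i).1 (hE i).2
  have hT : ∀ i, Monotone (Tfam Efam p i) := by
    intro i n n' hnn'
    apply Submodule.map_mono
    apply Submodule.torsionBySet_le_torsionBySet_of_subset
    exact SetLike.coe_subset_coe.mpr (Ideal.pow_le_pow_right hnn')
  have hTE : ∀ i n, Tfam Efam p i n ≤ Efam i := by
    intro i n
    rintro _ ⟨x, _, rfl⟩
    exact x.2
  have hTcover : ∀ i, ∀ x ∈ Efam i, ∃ n, x ∈ Tfam Efam p i n := by
    intro i x hx
    haveI := hp i
    obtain ⟨n, hn⟩ := Groth.Agent.Lib.Helper2.isPowerTorsion_of_isInjectiveHull_quotient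
      (p i) (f i) (hf i) ⟨x, hx⟩
    refine ⟨n, ⟨x, hx⟩, ?_, rfl⟩
    rw [SetLike.mem_coe, Submodule.mem_torsionBySet_iff]
    intro a
    exact hn a.1 a.2
  have hcover : ∀ x : J, ∃ a, x ∈ Groth.Agent.Lib.Helper2.ArtColim.Dsub (Tfam Efam p) a := by
    intro x
    have hx : x ∈ ⨆ i, Efam i := by rw [hint.submodule_iSup_eq_top]; trivial
    refine Submodule.iSup_induction Efam
      (motive := fun x => ∃ a, x ∈ Groth.Agent.Lib.Helper2.ArtColim.Dsub (Tfam Efam p) a)
      hx ?_ ?_ ?_
    · intro i x hx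
      obtain ⟨n, hn⟩ := hTcover i x hx
      exact ⟨⟨{i}, n⟩, Submodule.mem_iSup_of_mem i
        (Submodule.mem_iSup_of_mem (Finset.mem_singleton_self i) hn)⟩
    · exact ⟨⟨∅, 0⟩, Submodule.zero_mem _⟩
    · rintro x y ⟨a, ha⟩ ⟨b, hb⟩
      obtain ⟨c, hac, hbc⟩ : ∃ c, a ≤ c ∧ b ≤ c :=
        ⟨⟨a.s ∪ b.s, max a.n b.n⟩, ⟨Finset.subset_union_left, le_max_left _ _⟩,
          ⟨Finset.subset_union_right, le_max_right _ _⟩⟩
      exact ⟨c, Submodule.add_mem _
        (Groth.Agent.Lib.Helper2.ArtColim.Dsub_mono hT hac ha)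
        (Groth.Agent.Lib.Helper2.ArtColim.Dsub_mono hT hbc hb)⟩
  obtain ⟨hcol⟩ := Groth.Agent.Lib.Helper2.ArtColim.nonempty_isColimit
    (Groth.Agent.Lib.Helper2.ArtColim.Dsub_mono hT) hcover
  refine ⟨Groth.Agent.Lib.Helper2.ArtColim.Idx ι, inferInstance, inferInstance,
    Groth.Agent.Lib.Helper2.ArtColim.diag (Groth.Agent.Lib.Helper2.ArtColim.Dsub_mono hT),
    Groth.Agent.Lib.Helper2.ArtColim.cocone _, hcol, ⟨Iso.refl _⟩, ?_⟩
  intro a
  have hstruct : ∀ i : ↥a.s, ∃ (B : Type u) (_ : CommRing B) (_ : Algebra A B)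
      (_ : IsArtinianRing B) (_ : Module B ↥(Tfam Efam p i.1 a.n))
      (_ : IsScalarTower A B ↥(Tfam Efam p i.1 a.n)),
      Module.Finite B ↥(Tfam Efam p i.1 a.n) := by
    intro i
    haveI := hp i.1
    obtain ⟨B, b1, b2, b3, b4, b5, b6⟩ :=
      Groth.Agent.Lib.Helper2.ArtColim.exists_artinian_structure_tors (p i.1) (f i.1) (hf i.1) a.n
    obtain ⟨c1, c2, c3⟩ := Groth.Agent.Lib.Helper2.ArtColim.exists_module_of_linearEquiv B
      (Submodule.equivMapOfInjective (Efam i.1).subtype (Submodule.injective_subtype _)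
        (Submodule.torsionBySet A ↥(Efam i.1) ((p i.1 ^ a.n : Ideal A) : Set A))).symm
    exact ⟨B, b1, b2, b3, c1, c2, c3⟩
  obtain ⟨B, b1, b2, b3, b4, b5, b6⟩ := Groth.Agent.Lib.Helper2.ArtColim.exists_artinian_pi
    (fun i : ↥a.s => ↥(Tfam Efam p i.1 a.n)) hstruct
  have hindep : iSupIndep (fun i => Tfam Efam p i a.n) :=
    hint.submodule_iSupIndep.mono (fun i => hTE i a.n)
  obtain ⟨e⟩ := Groth.Agent.Lib.Helper2.ArtColim.nonempty_linearEquiv_biSup
    (fun i => Tfam Efam p i a.n) hindep a.s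
  obtain ⟨c1, c2, c3⟩ := Groth.Agent.Lib.Helper2.ArtColim.exists_module_of_linearEquiv B e
  exact ⟨B, b1, b2, b3, c1, c2, c3⟩

end Groth.Agent.S10787
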