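import Groth.Statements.S1079
import Mathlib.CategoryTheory.Triangulated.Opposite.Pretriangulated
import Mathlib.CategoryTheory.Limits.Shapes.Opposites.Products

set_option autoImplicit false
universe v u
open CategoryTheory CategoryTheory.Limits
open CohDer

namespace Groth.Agent.S1079

section aux

open CategoryTheory.Pretriangulated

variable {D : Type u} [Category.{v} D] [Preadditive D] [Limits.HasZeroObject D] [HasShift D ℤ]
    [∀ n : ℤ, (shiftFunctor D n).Additive] [Pretriangulated D]

/-- the case of countable coproducts -/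
theorem isIdempotentComplete_of_coproducts [HasColimitsOfShape (Discrete ℕ) D] :
    IsIdempotentComplete D := by
  refine ⟨fun X e he => ?_⟩
  let S : D := ∐ (fun _ : ℕ => X)
  let ι : ∀ n : ℕ, X ⟶ S := fun n => Sigma.ι (fun _ : ℕ => X) n
  -- the map `1 - shift ∘ e`
  let sh : S ⟶ S := Sigma.desc (fun n => e ≫ ι (n + 1))
  have hsh : ∀ n, ι n ≫ sh = e ≫ ι (n + 1) := fun n => Sigma.ι_desc _ n
  let φ : S ⟶ S := 𝟙 S - sh
  -- its retraction
  let r : S ⟶ S := Sigma.desc (fun k => (𝟙 X - e) ≫ ι k - ∑ n ∈ Finset.range k, e ≫ ι n)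
  have hr : ∀ k, ι k ≫ r = (𝟙 X - e) ≫ ι k - ∑ n ∈ Finset.range k, e ≫ ι n :=
    fun k => Sigma.ι_desc _ k
  have hφr : φ ≫ r = 𝟙 S := by
    refine Sigma.hom_ext _ _ fun k => ?_
    change ι k ≫ (𝟙 S - sh) ≫ r = ι k ≫ 𝟙 S
    rw [Preadditive.sub_comp, Preadditive.comp_sub, Category.id_comp, ← Category.assoc, hsh,
      Category.assoc, hr, hr, Finset.sum_range_succ, Category.comp_id]
    simp only [Preadditive.comp_sub, Preadditive.sub_comp, Preadditive.comp_add,
      Preadditive.comp_sum, Category.id_comp, ← Category.assoc, he]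
    abel
  obtain ⟨Y, j, c, hT⟩ := distinguished_cocone_triangle φ
  have hc : c = 0 := by
    have h1 : c ≫ (shiftFunctor D (1 : ℤ)).map φ = 0 := comp_distTriang_mor_zero₃₁ _ hT
    have h2 : (shiftFunctor D (1 : ℤ)).map φ ≫ (shiftFunctor D (1 : ℤ)).map r = 𝟙 _ := by
      rw [← Functor.map_comp, hφr, CategoryTheory.Functor.map_id]
    calc c = c ≫ (shiftFunctor D (1 : ℤ)).map φ ≫ (shiftFunctor D (1 : ℤ)).map r := by
          rw [h2, Category.comp_id]
      _ = 0 := by rw [← Category.assoc, h1, zero_comp]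
  have hj : Epi j := (Triangle.mor₃_eq_zero_iff_epi₂ _ hT).1 hc
  have hφj : φ ≫ j = 0 := comp_distTriang_mor_zero₁₂ _ hT
  have hw : ∀ n, ι n ≫ j = e ≫ ι (n + 1) ≫ j := by
    intro n
    have := congrArg (ι n ≫ ·) hφj
    simp only [φ, Preadditive.sub_comp, Preadditive.comp_sub, Category.id_comp, comp_zero] at this
    rw [sub_eq_zero] at this
    rw [this, ← Category.assoc, hsh, Category.assoc]
  have hA : ∀ n, e ≫ ι n ≫ j = ι n ≫ j := by
    intro n
    rw [hw n, ← Category.assoc, he]
  have hB : ∀ n, ι n ≫ j = ι 0 ≫ j := by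
    intro n
    induction n with
    | zero => rfl
    | succ n ih => rw [← ih, hw n, hA]
  -- the map `g`
  let g : S ⟶ X := Sigma.desc (fun _ => e)
  have hg : ∀ n, ι n ≫ g = e := fun n => Sigma.ι_desc _ n
  have hφg : φ ≫ g = 0 := by
    refine Sigma.hom_ext _ _ fun k => ?_
    change ι k ≫ (𝟙 S - sh) ≫ g = ι k ≫ 0
    rw [Preadditive.sub_comp, Preadditive.comp_sub, Category.id_comp, ← Category.assoc, hsh,
      Category.assoc, hg, hg, he, sub_self, comp_zero]
  obtain ⟨gbar, hgbar⟩ : ∃ gbar : Y ⟶ X, g = j ≫ gbar := Triangle.yoneda_exact₂ _ hT g hφg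
  refine ⟨Y, gbar, ι 0 ≫ j, ?_, ?_⟩
  · rw [← cancel_epi j, ← Category.assoc, ← hgbar, Category.comp_id]
    refine Sigma.hom_ext _ _ fun n => ?_
    change ι n ≫ g ≫ ι 0 ≫ j = ι n ≫ j
    rw [← Category.assoc, hg, hA]
    exact (hB n).symm
  · rw [Category.assoc, ← hgbar, hg]

end aux

/-- A pretriangulated category which has countable coproducts, or countable products, is Karoubian
(idempotent complete). -/
theorem result {D : Type u} [Category.{v} D] [Preadditive D] [Limits.HasZeroObject D] [HasShift D ℤ]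
    [∀ n : ℤ, (shiftFunctor D n).Additive] [Pretriangulated D]
    (h : HasColimitsOfShape (Discrete ℕ) D ∨ HasLimitsOfShape (Discrete ℕ) D) : IsIdempotentComplete D := by
  open CategoryTheory.Pretriangulated.Opposite in
  rcases h with h | h
  · exact isIdempotentComplete_of_coproducts
  · rw [← Idempotents.isIdempotentComplete_iff_opposite]
    have : HasColimitsOfShape (Discrete ℕ) Dᵒᵖ := hasCoproductsOfShape_opposite ℕ
    exact isIdempotentComplete_of_coproducts

end Groth.Agent.S1079
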