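import Groth.Statements.S1686
import Groth.Agent.Lib.Helper73.EffCartierDim
-- import your own Groth.Agent.* helpers here

set_option autoImplicit false
universe u
open CategoryTheory CategoryTheory.Limits AlgebraicGeometry TopologicalSpace
open SDiv

namespace Groth.Agent.S1686

/-- Let D be the closed subscheme of an effective Cartier divisor on a scheme S and d a point of D with
image s in S. If the local dimension of S at s is finite, then the local dimension of D at d is
strictly smaller. -/
theorem result (S : Scheme.{u}) (𝓘 : S.IdealSheafData) (h𝓘 : BlowUp.IsEffCartierIdeal 𝓘) (d : ↥𝓘.subscheme)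
    (hfin : FlatMor.localDim ↥S (𝓘.subschemeι d) ≠ ⊤) :
    FlatMor.localDim ↥𝓘.subscheme d < FlatMor.localDim ↥S (𝓘.subschemeι d) := by
  have hle : FlatMor.localDim ↥𝓘.subscheme d + 1 ≤ FlatMor.localDim ↥S (𝓘.subschemeι d) := by
    unfold FlatMor.localDim
    refine le_iInf fun U => ?_
    exact Groth.Agent.Lib.Helper73.EffCartierDim.localDim_subscheme_add_one_le 𝓘 h𝓘 d U.1 U.2
  have h0 : (0 : WithBot ℕ∞) ≤ FlatMor.localDim ↥𝓘.subscheme d := by
    unfold FlatMor.localDim
    refine le_iInf fun U => ?_
    have : Nonempty (U.1 : Set 𝓘.subscheme) := ⟨⟨d, U.2⟩⟩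
    exact Groth.Agent.Lib.Helper29.topologicalKrullDim_nonneg
  generalize FlatMor.localDim ↥𝓘.subscheme d = x at hle h0 ⊢
  generalize FlatMor.localDim ↥S (𝓘.subschemeι d) = y at hle hfin ⊢
  induction x with
  | bot => simp at h0
  | coe a =>
    induction y with
    | bot => simp at hle
    | coe b =>
      norm_cast at hle hfin ⊢
      have ha : a ≠ ⊤ := by
        rintro rfl
        simp at hle
        exact hfin hle
      exact (ENat.add_one_le_iff ha).mp hle

end Groth.Agent.S1686
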