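import Groth.Statements.S10794
import Groth.Agent.S1686
import Groth.Agent.Lib.Helper31.AlgSpLocalDim

set_option autoImplicit false
universe u
open CategoryTheory CategoryTheory.Limits AlgebraicGeometry Topology TopologicalSpace
open AlgSp

namespace Groth.Agent.S10794

open Groth.Agent.Lib.Helper31.AlgSpFlatAt Groth.Agent.Lib.Helper52 Groth.Agent.Lib.Helper51 in
/-- Let X be an algebraic space over a scheme S, D ⟶ X an effective Cartier divisor (one-chart sense)
and x a point of |D|. If the dimension of X at the image of x is d, in the sense that some etale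
scheme chart of X has local dimension d at a point over it, and d is finite, then the dimension of D
at x is strictly smaller: some etale scheme chart of D has local dimension less than d at a point
over x. -/
theorem result {S : Scheme.{u}} (X D : AlgSp.Space S) (i : D ⟶ X)
    (hD : AlgSp.IsEffCartierSub i.hom) (x : AlgSp.Points D.obj) (d : WithBot ℕ∞)
    (hd : AlgSp.HasAt (fun U u => FlatMor.localDim ↥U u = d) X.obj (AlgSp.Points.map i.hom x)) (hfin : d ≠ ⊤) :
    AlgSp.HasAt (fun V v => FlatMor.localDim ↥V v < d) D.obj x := by
  obtain ⟨hcl, V, φ, I, fst, hφ, hφs, sq, hI⟩ := hD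
  have hfst : RepWith @Etale fst := MorphismProperty.of_isPullback sq.flip hφ
  have hfsts : RepWith @Surjective fst := MorphismProperty.of_isPullback sq.flip hφs
  obtain ⟨v', rfl⟩ := surjective_ofPt_of_repWith_surjective fst hfsts x
  have hpt : Points.map i.hom (Points.ofPt fst v') = Points.ofPt φ (I.subschemeι v') := by
    rw [Points.map_ofPt, sq.w, ofPt_yon_map_comp]; rfl
  rw [hpt] at hd
  have hd' := (hasAt_localDim_iff_of_chart d φ hφ (I.subschemeι v')).1 hd
  refine ⟨_, fst, v', hfst, rfl, ?_⟩
  rw [← hd']
  exact Groth.Agent.S1686.result V.left I hI v' (by rw [hd']; exact hfin)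

end Groth.Agent.S10794
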