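import Groth.Statements.S1662
import Groth.Agent.Lib.BlowUp.Helper18_FlatSub
import Groth.Agent.Lib.BlowUp.Helper18_FlatNak
import Groth.Agent.Lib.Helper35.PullbackChart

set_option autoImplicit false
universe u
open CategoryTheory CategoryTheory.Limits AlgebraicGeometry
open Divisors

namespace Groth.Agent.S1662

/-- Let f : X → S, D an effective Cartier divisor on X such that D → S is flat, and g : S' → S any
morphism. Then the inverse image of D in X ×_S S' is an effective Cartier divisor. -/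
theorem result {X S S' : Scheme.{u}} (f : X ⟶ S) (D : X.IdealSheafData) (hD : BlowUp.IsEffCartierIdeal D)
    [Flat (D.subschemeι ≫ f)] (g : S' ⟶ S) :
    BlowUp.IsEffCartierIdeal (D.comap (pullback.fst f g)) := by
  intro x'
  have H : IsPullback (pullback.fst f g) (pullback.snd f g) f g := IsPullback.of_hasPullback f g
  obtain ⟨U, hU, hxU, -⟩ := TopologicalSpace.Opens.isBasis_iff_nbhd.1 S.isBasis_affineOpens
    (TopologicalSpace.Opens.mem_top (f (pullback.fst f g x')))
  obtain ⟨V', hxV, hVU, t, ht, hIt⟩ :=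
    Groth.Agent.Lib.BlowUp.exists_le_of_isEffCartierIdeal hD (pullback.fst f g x') (f ⁻¹ᵁ U) hxU
  obtain ⟨V, hV⟩ := V'
  have hxU'0 : pullback.snd f g x' ∈ g ⁻¹ᵁ U := by
    change g (pullback.snd f g x') ∈ U
    have h1 : g (pullback.snd f g x') = f (pullback.fst f g x') := by
      rw [← Scheme.Hom.comp_apply, ← Scheme.Hom.comp_apply, pullback.condition]
    rw [h1]; exact hxU
  obtain ⟨U', hU', hxU', hU'U⟩ := TopologicalSpace.Opens.isBasis_iff_nbhd.1 S'.isBasis_affineOpens
    hxU'0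
  have F1 := Groth.Agent.Lib.BlowUp.flat_quotient_of_flat_subschemeι_comp f D inferInstance
    ⟨U, hU⟩ ⟨V, hV⟩ hVU
  rw [hIt] at F1
  let W' : (pullback f g).Opens := pullback.fst f g ⁻¹ᵁ V ⊓ pullback.snd f g ⁻¹ᵁ U'
  have hW' : IsAffineOpen W' :=
    Groth.Agent.Lib.Helper35.isAffineOpen_pullback_chart H hU'U hVU rfl hU hU' hV
  have hpush := Groth.Agent.Lib.Helper35.isPushout_appLE_of_isAffineOpen H (UT := U') hU'U hVU
    (UY := W') rfl hU hU' hV
  have hW'V : W' ≤ pullback.fst f g ⁻¹ᵁ V := inf_le_left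
  refine ⟨⟨W', hW'⟩, ⟨hxV, hxU'⟩, ((pullback.fst f g).appLE V W' hW'V).hom t, ?_, ?_⟩
  · let a : Γ(S, U) →+* Γ(X, V) := (f.appLE U V hVU).hom
    let b : Γ(S, U) →+* Γ(S', U') := (g.appLE U U' hU'U).hom
    let c : Γ(X, V) →+* Γ(pullback f g, W') := ((pullback.fst f g).appLE V W' hW'V).hom
    let d : Γ(S', U') →+* Γ(pullback f g, W') :=
      ((pullback.snd f g).appLE U' W' inf_le_right).hom
    have hw : c.comp a = d.comp b := congrArg CommRingCat.Hom.hom hpush.w
    let _ : Algebra Γ(S, U) Γ(X, V) := a.toAlgebra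
    let _ : Algebra Γ(S, U) Γ(S', U') := b.toAlgebra
    let _ : Algebra Γ(X, V) Γ(pullback f g, W') := c.toAlgebra
    let _ : Algebra Γ(S', U') Γ(pullback f g, W') := d.toAlgebra
    let _ : Algebra Γ(S, U) Γ(pullback f g, W') := (c.comp a).toAlgebra
    have : IsScalarTower Γ(S, U) Γ(X, V) Γ(pullback f g, W') :=
      IsScalarTower.of_algebraMap_eq' rfl
    have : IsScalarTower Γ(S, U) Γ(S', U') Γ(pullback f g, W') :=
      IsScalarTower.of_algebraMap_eq' hw
    have : Algebra.IsPushout Γ(S, U) Γ(X, V) Γ(S', U') Γ(pullback f g, W') :=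
      CommRingCat.isPushout_iff_isPushout.mp hpush
    exact Groth.Agent.Lib.BlowUp.map_mem_nonZeroDivisors_of_isPushout (A := Γ(S, U))
      (A' := Γ(S', U')) (B' := Γ(pullback f g, W')) t ht F1
  · rw [Groth.Agent.Lib.Helper20.ideal_comap (pullback.fst f g) D ⟨W', hW'⟩ ⟨V, hV⟩ hW'V, hIt,
      Ideal.map_span, Set.image_singleton]

end Groth.Agent.S1662
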