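import Groth.Statements.S10797
import Mathlib
import Groth.Agent.S1662
import Groth.Agent.Lib.Helper78.EffCartierDesc
import Groth.Agent.Lib.Helper31.AlgSpBCChart

set_option autoImplicit false
universe u
open CategoryTheory CategoryTheory.Limits AlgebraicGeometry Topology TopologicalSpace
open AlgSp

namespace Groth.Agent.S10797

open Groth.Agent.Lib.Helper78.EffCartierDesc Groth.Agent.Lib.Helper78.EffCartierSp
  Groth.Agent.Lib.Helper31.AlgSpFlatAt in

/-- Let f : X ⟶ Y be a morphism of algebraic spaces over a scheme S and D ⟶ X an effective Cartier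
divisor (one-chart sense) such that the composite D ⟶ Y is flat. Then for every morphism g : Y' ⟶ Y
and every pullback square exhibiting X' as Y' ×_Y X with projection g' : X' ⟶ X, the inverse image
of D under g' (the projection to X' from any pullback of D ⟶ X along g') is an effective Cartier
divisor on X'. (The published statement takes g to be a morphism from a scheme Y'; this row allows
Y' to be an algebraic space, to which the same etale-local reduction to schemes applies.) -/
theorem result {S : Scheme.{u}} (X Y D Y' X' D' : AlgSp.Space S)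
    (f : X ⟶ Y) (i : D ⟶ X) (hD : AlgSp.IsEffCartierSub i.hom) (hflat : AlgSp.LocP @Flat (i ≫ f).hom)
    (g : Y' ⟶ Y) (g' : X' ⟶ X) (f' : X' ⟶ Y') (hX' : IsPullback g'.hom f'.hom f.hom g.hom)
    (k : D' ⟶ D) (i' : D' ⟶ X') (hD' : IsPullback k.hom i'.hom i.hom g'.hom) :
    AlgSp.IsEffCartierSub i'.hom := by
  obtain ⟨G⟩ := exists_goodChart f.hom (𝟙 Y.obj) X.property Y.property Y.property
  have sqY : IsPullback g.hom (𝟙 Y'.obj) (𝟙 Y.obj) g.hom := IsPullback.of_id_snd
  obtain ⟨U'', V'', a'', b'', k'', mU, mV, ha''e, ha''s, hb''e, hb''s, comm', hmU, hmV, sqS⟩ :=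
    exists_baseChange_chart G Y'.property g.hom f'.hom (𝟙 _) g'.hom g.hom sqY hX'
  -- the ideal on `G.U`
  obtain ⟨I, fstU, sqU⟩ := exists_ideal_of_repWith i.hom hD.1 G.a
  have hI := isEffCartierIdeal_of_isEffCartierSub i.hom hD G.a G.ha I fstU sqU
  have hfstUe : RepWith @Etale fstU := MorphismProperty.of_isPullback sqU.flip G.ha
  have hcomm0 : fstU ≫ (i ≫ f).hom = (yon S).map (subι G.U I ≫ G.k) ≫ G.b := by
    change fstU ≫ i.hom ≫ f.hom = _
    rw [← Category.assoc, sqU.w, Category.assoc, G.comm_f, (yon S).map_comp, Category.assoc]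
  haveI hfl : Flat (I.subschemeι ≫ G.k.left) := hflat fstU G.b (subι G.U I ≫ G.k) hfstUe G.hb hcomm0
  -- scheme level
  have hI'' : BlowUp.IsEffCartierIdeal (I.comap mU.left) := by
    have h1 := Groth.Agent.S1662.result G.k.left I hI mV.left
    have h2 := Groth.Agent.Lib.BlowUp.isEffCartierIdeal_comap_of_flat sqS.isoPullback.hom _ h1
    rwa [← Scheme.IdealSheafData.comap_comp, sqS.isoPullback_hom_fst] at h2
  have big : IsPullback ((yon S).map (subMap mU I) ≫ fstU)
      ((yon S).map (subι U'' (I.comap mU.left))) i.hom ((yon S).map mU ≫ G.a) :=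
    (isPullback_yon_subMap mU I).paste_horiz sqU
  have hcond : ((yon S).map (subMap mU I) ≫ fstU) ≫ i.hom =
      ((yon S).map (subι U'' (I.comap mU.left)) ≫ a'') ≫ g'.hom := by
    rw [Category.assoc _ _ g'.hom, hmU]; exact big.w
  refine ⟨MorphismProperty.of_isPullback hD' hD.1, U'', a'', I.comap mU.left,
    hD'.lift _ _ hcond, ha''e, ha''s, ?_, hI''⟩
  refine IsPullback.of_right ?_ (hD'.lift_snd _ _ hcond) hD'
  rw [hD'.lift_fst, hmU]
  exact big

end Groth.Agent.S10797
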