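import Groth.Statements.S1685
import Mathlib
import Groth.Agent.Lib.Helper91.SkQuot
import Groth.Agent.Lib.Helper91.SubschemeStalk
import Groth.Agent.Lib.Helper70.AffineStalk

set_option autoImplicit false
universe u
open CategoryTheory CategoryTheory.Limits AlgebraicGeometry TopologicalSpace
open SDiv

namespace Groth.Agent.S1685

/-- Let X be a locally Noetherian scheme all of whose local rings satisfy Serre's condition (S_k), and
let D be the closed subscheme of an effective Cartier divisor. Then all local rings of D satisfy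
(S_{k-1}). -/
theorem result (X : Scheme.{u}) [IsLocallyNoetherian X] (k : ℕ)
    (hX : ∀ x : ↥X, min (k : WithBot ℕ∞) (ringKrullDim (X.presheaf.stalk x)) ≤
      ((LocCoh.depth (X.presheaf.stalk x) (X.presheaf.stalk x) : ℕ∞) : WithBot ℕ∞))
    (𝓘 : X.IdealSheafData) (h𝓘 : BlowUp.IsEffCartierIdeal 𝓘) (d : ↥𝓘.subscheme) :
    min ((k - 1 : ℕ) : WithBot ℕ∞) (ringKrullDim (𝓘.subscheme.presheaf.stalk d)) ≤
      ((LocCoh.depth (𝓘.subscheme.presheaf.stalk d) (𝓘.subscheme.presheaf.stalk d) : ℕ∞) : WithBot ℕ∞) := by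
  obtain ⟨U, hxU, f₀, hf₀, hI⟩ := h𝓘 (𝓘.subschemeι d)
  letI ax : Algebra Γ(X, U.1) (X.presheaf.stalk (𝓘.subschemeι d)) :=
    TopCat.Presheaf.algebra_section_stalk X.presheaf ⟨𝓘.subschemeι d, hxU⟩
  haveI lx : IsLocalization.AtPrime (X.presheaf.stalk (𝓘.subschemeι d))
      (U.2.primeIdealOf ⟨𝓘.subschemeι d, hxU⟩).asIdeal := U.2.isLocalization_stalk ⟨_, hxU⟩
  set f := algebraMap Γ(X, U.1) (X.presheaf.stalk (𝓘.subschemeι d)) f₀ with hf
  have hJ : (𝓘.ideal U).map (X.presheaf.germ U.1 (𝓘.subschemeι d) hxU).hom = Ideal.span {f} := by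
    rw [hI, Ideal.map_span, Set.image_singleton]
    rfl
  have hfnzd : f ∈ nonZeroDivisors (X.presheaf.stalk (𝓘.subschemeι d)) :=
    IsLocalization.map_nonZeroDivisors_le
      (U.2.primeIdealOf ⟨𝓘.subschemeι d, hxU⟩).asIdeal.primeCompl
      (X.presheaf.stalk (𝓘.subschemeι d)) (Submonoid.mem_map_of_mem _ hf₀)
  have hfm : f ∈ IsLocalRing.maximalIdeal (X.presheaf.stalk (𝓘.subschemeι d)) := by
    have hle := (Groth.Agent.Lib.Helper70.mem_support_iff_le_primeIdealOf 𝓘 U _ hxU).mp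
      (Groth.Agent.Lib.Helper91.SubschemeStalk.mem_support 𝓘 d)
    have hf₀p : f₀ ∈ (U.2.primeIdealOf ⟨𝓘.subschemeι d, hxU⟩).asIdeal := by
      apply hle
      rw [hI]
      exact Ideal.subset_span rfl
    rw [← IsLocalization.AtPrime.map_eq_maximalIdeal
      (U.2.primeIdealOf ⟨𝓘.subschemeι d, hxU⟩).asIdeal]
    exact Ideal.mem_map_of_mem _ hf₀p
  let e : (X.presheaf.stalk (𝓘.subschemeι d) ⧸ Ideal.span {f}) ≃+* 𝓘.subscheme.presheaf.stalk d :=
    (Ideal.quotEquivOfEq hJ.symm).trans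
      (Groth.Agent.Lib.Helper91.SubschemeStalk.stalkEquiv 𝓘 U d hxU)
  haveI hloc : IsLocalRing (X.presheaf.stalk (𝓘.subschemeι d) ⧸ Ideal.span {f}) :=
    e.symm.isLocalRing
  haveI : IsNoetherianRing (𝓘.subscheme.presheaf.stalk d) := isNoetherianRing_of_ringEquiv _ e
  have hmain := Groth.Agent.Lib.Helper91.SkQuot.sk_quotient hfm hfnzd k (hX (𝓘.subschemeι d))
  rw [← ringKrullDim_eq_of_ringEquiv e,
    ← Groth.Agent.Lib.Helper49.Serre.depth_eq_of_ringEquiv e]
  exact hmain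

end Groth.Agent.S1685
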