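import Groth.Statements.S10799
import Mathlib
import Groth.Agent.S1685
import Groth.Agent.Lib.Helper78.EffCartierDesc
import Groth.Agent.Lib.Helper49.Serre3

set_option autoImplicit false
universe u
open CategoryTheory CategoryTheory.Limits AlgebraicGeometry Topology TopologicalSpace
open AlgSp

namespace Groth.Agent.S10799

open Groth.Agent.Lib.Helper78.EffCartierDesc in

/-- Let X be an algebraic space over a scheme S which is locally Noetherian and normal in the
etale-local sense: some etale surjective chart of X from a locally Noetherian scheme all of whose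
local rings are integrally closed domains. Let D ⟶ X be an effective Cartier divisor (one-chart
sense). Then D is (S_1): some etale surjective chart of D from a locally Noetherian scheme all of
whose local rings O satisfy min(1, dim O) ≤ depth O. -/
theorem result {S : Scheme.{u}} (X D : AlgSp.Space S)
    (hX : AlgSp.EtaleLocally (fun U => IsLocallyNoetherian U ∧ Pi1.IsNormalScheme U) X.obj)
    (i : D ⟶ X) (hD : AlgSp.IsEffCartierSub i.hom) :
    AlgSp.EtaleLocally (fun V => IsLocallyNoetherian V ∧ ∀ v : ↥V,
        min ((1 : ℕ) : WithBot ℕ∞) (ringKrullDim ↥(V.presheaf.stalk v)) ≤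
          ((LocCoh.depth ↥(V.presheaf.stalk v) ↥(V.presheaf.stalk v) : ℕ∞) : WithBot ℕ∞)) D.obj := by
  obtain ⟨U0, φ0, hφe, hφs, hN, hnorm⟩ := hX
  obtain ⟨I, fst, sq⟩ := exists_ideal_of_repWith i.hom hD.1 φ0
  have hI := isEffCartierIdeal_of_isEffCartierSub i.hom hD φ0 hφe I fst sq
  haveI : IsLocallyNoetherian U0.left := hN
  have hS2 : ∀ x : ↥U0.left, min ((2 : ℕ) : WithBot ℕ∞) (ringKrullDim ↥(U0.left.presheaf.stalk x)) ≤
      ((LocCoh.depth ↥(U0.left.presheaf.stalk x) ↥(U0.left.presheaf.stalk x) : ℕ∞) : WithBot ℕ∞) := by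
    intro x
    haveI := (hnorm x).1
    haveI := (hnorm x).2
    exact Groth.Agent.Lib.Helper49.Serre.min_two_le_depth_of_isIntegrallyClosed
      (R := ↥(U0.left.presheaf.stalk x))
  refine ⟨_, fst, ?_, ?_, ?_, ?_⟩
  · exact MorphismProperty.of_isPullback (P := RepWith (S := S) @Etale) sq.flip hφe
  · exact MorphismProperty.of_isPullback (P := RepWith (S := S) @Surjective) sq.flip hφs
  · exact LocallyOfFiniteType.isLocallyNoetherian I.subschemeι
  · intro v
    exact Groth.Agent.S1685.result U0.left 2 hS2 I hI v

end Groth.Agent.S10799
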