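import Groth.Statements.S10811
import Groth.Agent.Lib.Helper7.WeakAss1

set_option autoImplicit false
universe u
open CategoryTheory CategoryTheory.Limits AlgebraicGeometry Topology TopologicalSpace
open AlgSp

namespace Groth.Agent.S10811

open Groth.Agent.Lib.Helper7.WeakAss

/-- Let X be an algebraic space over a scheme S and 0 ⟶ F₁ ⟶ F₂ ⟶ F₃ ⟶ 0 a short exact sequence of
quasi-coherent O_X-modules on the small etale site of X. Then the weakly associated points satisfy
WeakAss(F₂) ⊆ WeakAss(F₁) ∪ WeakAss(F₃) and WeakAss(F₁) ⊆ WeakAss(F₂). -/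
theorem result {S : Scheme.{u}} (X : AlgSp.Space S)
    (C : ShortComplex (AlgSp.ModEt X.obj)) (hC : C.ShortExact)
    [C.X₁.IsQuasicoherent] [C.X₂.IsQuasicoherent] [C.X₃.IsQuasicoherent] :
    AlgSp.WeakAssEt C.X₂ ⊆ AlgSp.WeakAssEt C.X₁ ∪ AlgSp.WeakAssEt C.X₃ ∧
      AlgSp.WeakAssEt C.X₁ ⊆ AlgSp.WeakAssEt C.X₂ := by
  classical
  constructor
  · rintro x ⟨E, hE, u, hx, s, hs⟩
    by_cases h : AlgSp.annSect (secMap C.g E s) ≤ AlgSp.primeAtPt E.obj.left.left u
    · right
      refine ⟨E, hE, u, hx, secMap C.g E s, mem_minimalPrimes_of_le hs ?_ h⟩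
      intro a ha
      rw [AlgSp.mem_annSect_iff] at ha ⊢
      rw [← map_smul, ha, map_zero]
    · left
      obtain ⟨a, haI, hap⟩ := SetLike.not_le_iff_exists.mp h
      rw [AlgSp.mem_annSect_iff, ← map_smul] at haI
      obtain ⟨t, ht⟩ := secMap_exact C hC E _ haI
      refine ⟨E, hE, u, hx, t, mem_minimalPrimes_of_le hs ?_ ?_⟩
      · intro b hb
        rw [AlgSp.mem_annSect_iff] at hb ⊢
        apply secMap_f_injective C hC E
        rw [map_smul, ht, map_zero, ← mul_smul, ← map_mul, mul_comm, map_mul, mul_smul, hb, smul_zero]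
      · intro b hb
        rw [AlgSp.mem_annSect_iff] at hb
        have h1 : b * a ∈ AlgSp.annSect s := by
          rw [AlgSp.mem_annSect_iff, map_mul, mul_smul, ← ht, ← map_smul, hb, map_zero]
        have h2 := hs.1.2 h1
        exact (hs.1.1.mem_or_mem h2).resolve_right hap
  · rintro x ⟨E, hE, u, hx, s, hs⟩
    refine ⟨E, hE, u, hx, secMap C.f E s, ?_⟩
    have : AlgSp.annSect (secMap C.f E s) = AlgSp.annSect s := by
      ext a
      rw [AlgSp.mem_annSect_iff, AlgSp.mem_annSect_iff, ← map_smul]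
      constructor
      · intro h
        exact secMap_f_injective C hC E (by rw [h, map_zero])
      · intro h
        rw [h, map_zero]
    rw [this]
    exact hs

end Groth.Agent.S10811
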