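import Groth.Statements.S10821
import Groth.Agent.Lib.Helper14.PD5

set_option autoImplicit false
universe u
open AlgebraicGeometry Topology TopologicalSpace
open Variety

namespace Groth.Agent.S10821

namespace PDe
open Groth.Agent.Lib.Helper14.PD5 Groth.Agent.Lib.Helper14.PD3 Groth.Agent.Lib.Helper14.PD2
open Groth.Agent.Lib.Helper14.PD1

theorem main (k : Type u) [Field k] (n : ℕ)
    (Z : TopologicalSpace.IrreducibleCloseds (ProjectiveSpectrum (CohB1.polyGrading n k))) :
    Order.coheight Z = 1 ↔
      ∃ (d : ℕ) (f : MvPolynomial (Fin (n + 1)) k), f.IsHomogeneous d ∧ Irreducible f ∧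
        (Z : Set (ProjectiveSpectrum (CohB1.polyGrading n k))) =
          ProjectiveSpectrum.zeroLocus (CohB1.polyGrading n k) ({f} : Set (MvPolynomial (Fin (n + 1)) k)) := by
  obtain ⟨x, hx⟩ := exists_point_of_irreducible Z.isClosed Z.isIrreducible
  rw [coheight_eq_height Z x hx, height_eq_one_iff]
  constructor
  · rintro ⟨d, f, hfh, hf, hxf⟩
    refine ⟨d, f, hfh, hf, ?_⟩
    rw [hx, ← zeroLocus_eq_Ici, hxf, ProjectiveSpectrum.zeroLocus_span]
  · rintro ⟨d, f, hfh, hf, hZ⟩
    refine ⟨d, f, hfh, hf, ?_⟩
    exact eq_of_zeroLocus_eq x f d hfh hf (hZ.symm.trans hx)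

end PDe


/-- For a field k and an irreducible closed subset Z of projective n-space over k, Z has codimension 1
(the longest chain of irreducible closed subsets strictly above Z has length 1) if and only if Z is
the zero set V_+(f) of an irreducible homogeneous polynomial f in n + 1 variables. -/
theorem result (k : Type u) [Field k] (n : ℕ)
    (Z : TopologicalSpace.IrreducibleCloseds (ProjectiveSpectrum (CohB1.polyGrading n k))) :
    Order.coheight Z = 1 ↔
      ∃ (d : ℕ) (f : MvPolynomial (Fin (n + 1)) k), f.IsHomogeneous d ∧ Irreducible f ∧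
        (Z : Set (ProjectiveSpectrum (CohB1.polyGrading n k))) =
          ProjectiveSpectrum.zeroLocus (CohB1.polyGrading n k) ({f} : Set (MvPolynomial (Fin (n + 1)) k)) :=
  PDe.main k n Z

end Groth.Agent.S10821
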