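import Groth.Statements.S10825
import Mathlib
-- import your own Groth.Agent.* helpers here

set_option autoImplicit false
universe u
open Topology
open CAlg

namespace Groth.Agent.S10825

/-- An injective integral ring homomorphism preserves Krull dimension
(same argument as in S10843 / S13904). -/
theorem krullDim_eq_of_isIntegral_of_injective {R S : Type*} [CommRing R] [CommRing S]
    (f : R →+* S) (hf : f.IsIntegral) (hinj : Function.Injective f) :
    ringKrullDim R = ringKrullDim S := by
  algebraize [f]
  apply le_antisymm
  · unfold ringKrullDim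
    refine iSup_le fun l => ?_
    have hker : (⊥ : Ideal S).comap (algebraMap R S) ≤ l.head.asIdeal := by
      have hinj' : Function.Injective (algebraMap R S) := hinj
      rw [← RingHom.ker_eq_comap_bot, (RingHom.injective_iff_ker_eq_bot _).mp hinj']
      exact bot_le
    obtain ⟨P, -, hP, hPl⟩ := Ideal.exists_ideal_over_prime_of_isIntegral l.head.asIdeal ⊥ hker
    have : P.LiesOver l.head.asIdeal := ⟨hPl.symm⟩
    obtain ⟨L, hL, -, -⟩ := Ideal.exists_ltSeries_of_hasGoingUp l P
    rw [← hL]
    exact Order.LTSeries.length_le_krullDim L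
  · unfold ringKrullDim
    refine Order.krullDim_le_of_strictMono (PrimeSpectrum.comap (algebraMap R S)) ?_
    intro P Q hPQ
    have := Ideal.IsIntegral.comap_lt_comap (R := R) (I := P.asIdeal) (J := Q.asIdeal) hPQ
    exact this

/-- the dimension of a closed subset of a prime spectrum. -/
theorem dim_zeroLocus {R : Type*} [CommRing R] (I : Ideal R) :
    topologicalKrullDim ↥(PrimeSpectrum.zeroLocus (I : Set R)) = ringKrullDim (R ⧸ I) := by
  have hemb := PrimeSpectrum.isClosedEmbedding_comap_of_surjective (R ⧸ I) (Ideal.Quotient.mk I)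
    Ideal.Quotient.mk_surjective
  let e : PrimeSpectrum (R ⧸ I) ≃ₜ ↥(PrimeSpectrum.zeroLocus (I : Set R)) :=
    hemb.isEmbedding.toHomeomorph.trans (Homeomorph.setCongr (by
      rw [_root_.range_comap_of_surjective _ _ Ideal.Quotient.mk_surjective,
        Ideal.mk_ker]))
  rw [← PrimeSpectrum.topologicalKrullDim_eq_ringKrullDim]
  exact (IsHomeomorph.topologicalKrullDim_eq e e.isHomeomorph).symm

section

variable {A B K L : Type u} [CommRing A] [IsDomain A] [CommRing B] [IsDomain B] [Algebra A B]
    [Field K] [Field L] [Algebra A K] [IsFractionRing A K] [Algebra B L] [IsFractionRing B L]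
    [Algebra A L] [Algebra K L] [IsScalarTower A B L] [IsScalarTower A K L]
    [FiniteDimensional K L] [Algebra.IsIntegral A B] [IsIntegrallyClosed A]

open IntermediateField in
omit [IsDomain B] in
/-- the norm of `b` lies in `bB`. -/
theorem algebraMap_mem_span (b : B) (a : A)
    (ha : algebraMap A K a = Algebra.norm K (algebraMap B L b)) :
    algebraMap A B a ∈ Ideal.span {b} := by
  set b' := algebraMap B L b with hb'def
  have hb' : IsIntegral A b' :=
    (Algebra.IsIntegral.isIntegral (R := A) b).map (IsScalarTower.toAlgHom A B L)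
  have hmin : minpoly K b' = (minpoly A b').map (algebraMap A K) :=
    minpoly.isIntegrallyClosed_eq_field_fractions' K hb'
  set μ := minpoly A b' with hμ
  have hc0 : algebraMap A B (μ.coeff 0) ∈ Ideal.span {b} := by
    have h0 : Polynomial.aeval b μ = 0 := by
      apply IsFractionRing.injective B L
      rw [map_zero, ← Polynomial.aeval_algebraMap_apply]
      exact minpoly.aeval A b'
    have h1 := congrArg (Polynomial.aeval b) (Polynomial.divX_mul_X_add μ)
    rw [map_add, map_mul, Polynomial.aeval_X, Polynomial.aeval_C, h0] at h1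
    have : algebraMap A B (μ.coeff 0) = -(Polynomial.aeval b μ.divX) * b := by
      linear_combination h1
    rw [this]
    exact Ideal.mul_mem_left _ _ (Ideal.mem_span_singleton_self b)
  have hKb' : IsIntegral K b' := hb'.tower_top
  let pb := IntermediateField.adjoin.powerBasis hKb'
  have hnorm : Algebra.norm K b' =
      ((-1) ^ pb.dim * algebraMap A K (μ.coeff 0)) ^ Module.finrank K⟮b'⟯ L := by
    rw [Algebra.norm_eq_norm_adjoin K b']
    congr 1
    have := Algebra.PowerBasis.norm_gen_eq_coeff_zero_minpoly pb
    rw [IntermediateField.adjoin.powerBasis_gen] at this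
    rw [this, IntermediateField.minpoly_gen, hmin, Polynomial.coeff_map]
  have ha' : a = ((-1) ^ pb.dim * μ.coeff 0) ^ Module.finrank K⟮b'⟯ L := by
    apply IsFractionRing.injective A K
    rw [ha, hnorm]
    simp
  have hpos : 0 < Module.finrank K⟮b'⟯ L := Module.finrank_pos
  obtain ⟨m, hm⟩ := Nat.exists_eq_succ_of_ne_zero hpos.ne'
  rw [ha', hm, pow_succ, map_mul, map_mul]
  exact Ideal.mul_mem_left _ _ (Ideal.mul_mem_left _ _ hc0)

omit [IsDomain A] [IsDomain B] [IsFractionRing B L] in
/-- elements of `A ∩ bB` have a power in `aA`. -/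
theorem pow_mem_span (b : B) (a : A)
    (ha : algebraMap A K a = Algebra.norm K (algebraMap B L b)) (x : A)
    (hx : algebraMap A B x ∈ Ideal.span {b}) :
    x ^ Module.finrank K L ∈ Ideal.span {a} := by
  obtain ⟨β, hβ⟩ := Ideal.mem_span_singleton'.mp hx
  have h1 : algebraMap A L x = algebraMap B L β * algebraMap B L b := by
    rw [← map_mul, hβ, ← IsScalarTower.algebraMap_apply]
  have h2 : Algebra.norm K (algebraMap A L x) = (algebraMap A K x) ^ Module.finrank K L := by
    rw [IsScalarTower.algebraMap_apply A K L, Algebra.norm_algebraMap]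
  have hβint : IsIntegral A (Algebra.norm K (algebraMap B L β)) :=
    Algebra.isIntegral_norm K
      ((Algebra.IsIntegral.isIntegral (R := A) β).map (IsScalarTower.toAlgHom A B L))
  obtain ⟨y, hy⟩ := IsIntegrallyClosed.isIntegral_iff.mp hβint
  rw [Ideal.mem_span_singleton']
  refine ⟨y, ?_⟩
  apply IsFractionRing.injective A K
  rw [map_mul, map_pow, hy, ha, ← map_mul, ← h1, h2]

end

/-- Let A → B be an injective integral homomorphism of integral domains with fraction fields K and L, L
a finite extension of K, and A integrally closed. For b in B the norm N_{L/K}(b) lies in A; if a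
denotes this element of A, then the image of the closed set V(b) of Spec B under Spec B → Spec A is
exactly V(a), and V(b) and V(a) have the same dimension. -/
theorem result
    (A B K L : Type u) [CommRing A] [IsDomain A] [CommRing B] [IsDomain B] [Algebra A B]
    [Field K] [Field L] [Algebra A K] [IsFractionRing A K] [Algebra B L] [IsFractionRing B L]
    [Algebra A L] [Algebra K L] [IsScalarTower A B L] [IsScalarTower A K L]
    [FiniteDimensional K L] [Algebra.IsIntegral A B] [IsIntegrallyClosed A]
    (hinj : Function.Injective (algebraMap A B))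
    (b : B) (a : A) (ha : algebraMap A K a = Algebra.norm K (algebraMap B L b)) :
    PrimeSpectrum.comap (algebraMap A B) '' PrimeSpectrum.zeroLocus ({b} : Set B) =
        PrimeSpectrum.zeroLocus ({a} : Set A) ∧
      topologicalKrullDim ↥(PrimeSpectrum.zeroLocus ({b} : Set B)) =
        topologicalKrullDim ↥(PrimeSpectrum.zeroLocus ({a} : Set A)) := by
  have hn : Module.finrank K L ≠ 0 := (Module.finrank_pos (R := K) (M := L)).ne'
  -- the key set equality in `Spec A`
  have hset : PrimeSpectrum.zeroLocus
      (((Ideal.span {b}).comap (algebraMap A B) : Ideal A) : Set A) =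
      PrimeSpectrum.zeroLocus ({a} : Set A) := by
    ext p
    simp only [PrimeSpectrum.mem_zeroLocus, Set.singleton_subset_iff, SetLike.mem_coe]
    constructor
    · intro h
      exact h (algebraMap_mem_span (K := K) (L := L) b a ha)
    · intro h x hx
      have h1 := pow_mem_span (K := K) (L := L) b a ha x hx
      have h2 : x ^ Module.finrank K L ∈ p.asIdeal :=
        ((Ideal.span_singleton_le_iff_mem _).mpr h) h1
      exact p.isPrime.mem_of_pow_mem _ h2
  constructor
  · ext p
    constructor
    · rintro ⟨q, hq, rfl⟩
      rw [← hset]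
      intro x hx
      have hbq : b ∈ q.asIdeal := by
        simpa [PrimeSpectrum.mem_zeroLocus] using hq
      show algebraMap A B x ∈ q.asIdeal
      exact ((Ideal.span_singleton_le_iff_mem _).mpr hbq) hx
    · intro hp
      rw [← hset] at hp
      obtain ⟨Q, hQ, hQprime, hQp⟩ :=
        Ideal.exists_ideal_over_prime_of_isIntegral p.asIdeal (Ideal.span {b}) hp
      refine ⟨⟨Q, hQprime⟩, ?_, ?_⟩
      · simp only [PrimeSpectrum.mem_zeroLocus, Set.singleton_subset_iff, SetLike.mem_coe]
        exact hQ (Ideal.mem_span_singleton_self b)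
      · ext1
        exact hQp
  · rw [← hset, ← PrimeSpectrum.zeroLocus_span ({b} : Set B), dim_zeroLocus, dim_zeroLocus]
    symm
    refine krullDim_eq_of_isIntegral_of_injective
      (Ideal.quotientMap (Ideal.span {b}) (algebraMap A B) le_rfl) ?_ Ideal.quotientMap_injective
    exact (algebraMap_isIntegral_iff.mpr inferInstance).quotient

end Groth.Agent.S10825
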