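import Groth.Statements.S4365
import Mathlib

set_option autoImplicit false
universe u
open FinCond

namespace Groth.Agent.S4365

open AlgebraicGeometry CategoryTheory

/-- A field essentially of finite type over `K` embeds in any algebraically closed extension
of infinite transcendence degree. -/
theorem exists_algHom (K L Ω : Type u) [Field K] [Field L] [Field Ω] [Algebra K L] [Algebra K Ω]
    [IsAlgClosed Ω] (t : ℕ → Ω) (ht : AlgebraicIndependent K t)
    [Algebra.EssFiniteType K L] : Nonempty (L →ₐ[K] Ω) := by
  classical
  obtain ⟨s, hs⟩ := (inferInstance : Algebra.EssFiniteType K L).cond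
  haveI : Algebra.IsAlgebraic (Algebra.adjoin K (s : Set L)) L :=
    IsLocalization.isAlgebraic (S := L) ((IsUnit.submonoid L).comap
      (algebraMap (Algebra.adjoin K (s : Set L)) L))
  obtain ⟨u, hus, hu⟩ := exists_isTranscendenceBasis_subset (R := K) (s : Set L)
  haveI : Finite u := (s.finite_toSet.subset hus).to_subtype
  obtain ⟨e, he⟩ := Countable.exists_injective_nat u
  have hte : AlgebraicIndependent K (t ∘ e) := ht.comp e he
  -- the subalgebra generated by the transcendence basis
  set A₀ := Algebra.adjoin K (Set.range ((↑) : u → L)) with hA₀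
  let φ₀ : A₀ →ₐ[K] Ω := (MvPolynomial.aeval (t ∘ e)).comp hu.1.aevalEquiv.symm.toAlgHom
  have hφ₀ : Function.Injective φ₀ := by
    have h1 : Function.Injective (MvPolynomial.aeval (R := K) (t ∘ e)) := hte
    exact h1.comp hu.1.aevalEquiv.symm.injective
  haveI : Algebra.IsAlgebraic A₀ L := hu.isAlgebraic
  letI : Algebra A₀ Ω := φ₀.toRingHom.toAlgebra
  haveI : IsScalarTower K A₀ Ω := IsScalarTower.of_algebraMap_eq fun x => (φ₀.commutes x).symm
  haveI : FaithfulSMul A₀ Ω := (faithfulSMul_iff_algebraMap_injective A₀ Ω).mpr hφ₀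
  let σ : L →ₐ[A₀] Ω := IsAlgClosed.lift
  exact ⟨σ.restrictScalars K⟩

theorem exists_closedPoint {P : Scheme.{u}} [JacobsonSpace P] [Nonempty P] :
    ∃ p : P, IsClosed ({p} : Set P) := by
  by_contra h
  push_neg at h
  have h0 : closedPoints P = ∅ := by
    ext p
    simp only [mem_closedPoints_iff, Set.mem_empty_iff_false, iff_false]
    exact h p
  have h1 := closure_closedPoints (X := P)
  rw [h0, closure_empty] at h1
  obtain ⟨p⟩ := ‹Nonempty P›
  have : p ∈ (∅ : Set P) := h1 ▸ Set.mem_univ p
  exact this

theorem essFiniteType_residue {Y : Scheme.{u}} (K : Type u) [Field K]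
    (pY : Y ⟶ Spec (CommRingCat.of K)) [LocallyOfFiniteType pY] (y₀ : Y) :
    (Spec.preimage (Y.fromSpecResidueField y₀ ≫ pY)).hom.EssFiniteType := by
  have key : Spec.preimage (Y.fromSpecResidueField y₀ ≫ pY) =
      (((Scheme.ΓSpecIso (CommRingCat.of K)).inv ≫
        (Spec (CommRingCat.of K)).presheaf.germ ⊤ (pY y₀) (TopologicalSpace.Opens.mem_top _)) ≫ pY.stalkMap y₀) ≫
          Y.residue y₀ := by
    apply Spec.map_injective
    rw [Spec.map_preimage, Spec.map_comp, Spec.map_comp, Scheme.fromSpecResidueField,
      Category.assoc]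
    congr 1
    rw [← Scheme.SpecMap_stalkMap_fromSpecStalk, Spec.fromSpecStalk_eq]
  rw [key]
  simp only [CommRingCat.hom_comp]
  refine RingHom.EssFiniteType.comp (RingHom.EssFiniteType.comp
    (RingHom.EssFiniteType.comp ?_ ?_) (LocallyOfFiniteType.stalkMap pY y₀)) ?_
  · apply RingHom.FiniteType.essFiniteType
    exact RingHom.FiniteType.of_surjective _
      (Scheme.ΓSpecIso (CommRingCat.of K)).symm.commRingCatIsoToRingEquiv.surjective
  · letI := (Spec (CommRingCat.of K)).presheaf.algebra_section_stalk
      (U := ⊤) ⟨pY y₀, TopologicalSpace.Opens.mem_top _⟩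
    have := (isAffineOpen_top (Spec (CommRingCat.of K))).isLocalization_stalk ⟨pY y₀, TopologicalSpace.Opens.mem_top _⟩
    exact Algebra.EssFiniteType.of_isLocalization _
      ((isAffineOpen_top (Spec (CommRingCat.of K))).primeIdealOf ⟨pY y₀, TopologicalSpace.Opens.mem_top _⟩).asIdeal.primeCompl
  · apply RingHom.FiniteType.essFiniteType
    exact RingHom.FiniteType.of_surjective _ (Ideal.Quotient.mk_surjective)

open AlgebraicGeometry in
open CategoryTheory in
/-- Let K be a field, X and Y schemes locally of finite type over K, f : X -> Y a K-morphism and Ω an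
algebraically closed extension field of K of infinite transcendence degree over K (there is an
algebraically independent sequence in Ω). Then f is surjective if and only if the map it induces
from the K-points of X with values in Ω to those of Y is surjective, i.e. every K-morphism Spec Ω ->
Y factors through f. (The published proposition assumes X and Y of finite type over K, and a later
remark of the same text extends it to X and Y locally of finite type over K, the form stated here.) -/
theorem result
    (K Ω : Type u) [Field K] [Field Ω] [IsAlgClosed Ω] [Algebra K Ω]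
    (t : ℕ → Ω) (ht : AlgebraicIndependent K t)
    {X Y : Scheme.{u}} (pX : X ⟶ Spec (CommRingCat.of K)) (pY : Y ⟶ Spec (CommRingCat.of K))
    [LocallyOfFiniteType pX] [LocallyOfFiniteType pY] (f : X ⟶ Y) (hf : f ≫ pY = pX) :
    Surjective f ↔ ∀ y : Spec (CommRingCat.of Ω) ⟶ Y,
      y ≫ pY = Spec.map (CommRingCat.ofHom (algebraMap K Ω)) →
        ∃ x : Spec (CommRingCat.of Ω) ⟶ X, x ≫ f = y := by
  have hflft : LocallyOfFiniteType f := by
    have : LocallyOfFiniteType (f ≫ pY) := hf ▸ inferInstance
    exact locallyOfFiniteType_of_comp f pY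
  constructor
  · intro hsurj y hy
    have h1 : LocallyOfFiniteType (Limits.pullback.snd f y) := inferInstance
    have h2 : Surjective (Limits.pullback.snd f y) := inferInstance
    have hne : Nonempty ↥(Limits.pullback f y) :=
      ⟨((Limits.pullback.snd f y).surjective default).choose⟩
    have hJ : JacobsonSpace ↥(Limits.pullback f y) :=
      LocallyOfFiniteType.jacobsonSpace (Limits.pullback.snd f y)
    obtain ⟨p, hp⟩ := exists_closedPoint (P := Limits.pullback f y)
    refine ⟨pointOfClosedPoint (Limits.pullback.snd f y) p hp ≫ Limits.pullback.fst f y, ?_⟩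
    rw [Category.assoc, Limits.pullback.condition, ← Category.assoc, pointOfClosedPoint_comp,
      Category.id_comp]
  · intro h
    refine ⟨fun y₀ => ?_⟩
    set ψ := Spec.preimage (Y.fromSpecResidueField y₀ ≫ pY) with hψ
    letI alg : Algebra K (Y.residueField y₀) := ψ.hom.toAlgebra
    haveI : Algebra.EssFiniteType K (Y.residueField y₀) := essFiniteType_residue K pY y₀
    obtain ⟨σ⟩ := exists_algHom K (Y.residueField y₀) Ω t ht
    let y : Spec (CommRingCat.of Ω) ⟶ Y :=
      Spec.map (CommRingCat.ofHom σ.toRingHom) ≫ Y.fromSpecResidueField y₀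
    have hy : y ≫ pY = Spec.map (CommRingCat.ofHom (algebraMap K Ω)) := by
      rw [Category.assoc, ← Spec.map_preimage (Y.fromSpecResidueField y₀ ≫ pY), ← Spec.map_comp]
      congr 1
      ext a
      exact σ.commutes a
    obtain ⟨x, hx⟩ := h y hy
    refine ⟨x default, ?_⟩
    rw [← Scheme.Hom.comp_apply, hx, Scheme.Hom.comp_apply]
    exact Scheme.fromSpecResidueField_apply _ _

end Groth.Agent.S4365
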