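import Groth.Statements.S10828
import Groth.Agent.S4365
import Mathlib

set_option autoImplicit false
universe u
open CategoryTheory AlgebraicGeometry
open Variety

namespace Groth.Agent.S10828

section
variable (k K : Type u) [Field k] [Field K] [Algebra k K] {X : Scheme.{u}}
  (f : X ⟶ Spec (CommRingCat.of k))

/-- structure map `k → κ(x)` -/
noncomputable def ψ (x : X) : CommRingCat.of k ⟶ X.residueField x :=
  Spec.preimage (X.fromSpecResidueField x ≫ f)

lemma map_ψ (x : X) : Spec.map (ψ k f x) = X.fromSpecResidueField x ≫ f := Spec.map_preimage _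

lemma point_decomp (p : Spec (CommRingCat.of K) ⟶ X)
    (hp : p ≫ f = Spec.map (CommRingCat.ofHom (algebraMap k K))) :
    ∃ φ : X.residueField (p (IsLocalRing.closedPoint K)) ⟶ CommRingCat.of K,
      p = Spec.map φ ≫ X.fromSpecResidueField _ ∧
      ψ k f _ ≫ φ = CommRingCat.ofHom (algebraMap k K) := by
  refine ⟨X.descResidueField (Scheme.stalkClosedPointTo p),
    (Scheme.descResidueField_stalkClosedPointTo_fromSpecResidueField K X p).symm, ?_⟩
  apply Spec.map_injective
  rw [Spec.map_comp, map_ψ, ← Category.assoc,
    Scheme.descResidueField_stalkClosedPointTo_fromSpecResidueField K X p, hp]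

variable [IsAlgClosure k K]

lemma key (x : X) (φ φ' : X.residueField x ⟶ CommRingCat.of K)
    (hφ : ψ k f x ≫ φ = CommRingCat.ofHom (algebraMap k K))
    (hφ' : ψ k f x ≫ φ' = CommRingCat.ofHom (algebraMap k K)) :
    ∃ σ : K ≃ₐ[k] K, φ' = φ ≫ CommRingCat.ofHom σ.toRingHom := by
  haveI : IsAlgClosed K := IsAlgClosure.isAlgClosed k
  haveI : Algebra.IsAlgebraic k K := IsAlgClosure.isAlgebraic
  letI alg1 : Algebra k (X.residueField x) := (ψ k f x).hom.toAlgebra
  letI alg2 : Algebra (X.residueField x) K := φ.hom.toAlgebra
  haveI : IsScalarTower k (X.residueField x) K := IsScalarTower.of_algebraMap_eq fun a => by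
    have := congrArg (fun g => g.hom a) hφ
    exact this.symm
  let φ'a : X.residueField x →ₐ[k] K :=
    { φ'.hom with
      commutes' := fun a => by
        have := congrArg (fun g => g.hom a) hφ'
        exact this }
  haveI : Algebra.IsAlgebraic (X.residueField x) K := Algebra.IsAlgebraic.tower_top (K := k) _
  obtain ⟨τ, hτ⟩ := IsAlgClosed.surjective_domRestrict_of_isAlgebraic
    (K := k) (L := X.residueField x) (M := K) (E := K) φ'a
  refine ⟨AlgEquiv.ofBijective τ (Algebra.IsAlgebraic.algHom_bijective τ), ?_⟩
  ext a
  have := congrArg (fun g => g a) hτ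
  exact this.symm

end

/-- Let k be a field, K an algebraic closure of k with its group G of k-automorphisms, and X a k-scheme
locally of finite type. The map sending a K-valued point of X over k to its image point identifies
the closed points of X with the G-orbits in X(K): a point is closed if and only if it is the image
of some K-valued point, and two K-valued points have the same image if and only if one is obtained
from the other by composing with Spec of a k-automorphism of K. -/
theorem result (k K : Type u) [Field k] [Field K]
    [Algebra k K] [IsAlgClosure k K] {X : Scheme.{u}} (f : X ⟶ Spec (CommRingCat.of k))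
    [LocallyOfFiniteType f] :
    (∀ x : X, IsClosed ({x} : Set X) ↔
        ∃ p : Spec (CommRingCat.of K) ⟶ X, p ≫ f = Spec.map (CommRingCat.ofHom (algebraMap k K)) ∧
          p.base (IsLocalRing.closedPoint K) = x) ∧
      ∀ p q : Spec (CommRingCat.of K) ⟶ X,
        p ≫ f = Spec.map (CommRingCat.ofHom (algebraMap k K)) →
        q ≫ f = Spec.map (CommRingCat.ofHom (algebraMap k K)) →
          (p.base (IsLocalRing.closedPoint K) = q.base (IsLocalRing.closedPoint K) ↔
            ∃ σ : K ≃ₐ[k] K, q = Spec.map (CommRingCat.ofHom σ.toRingHom) ≫ p) := by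
  haveI : IsAlgClosed K := IsAlgClosure.isAlgClosed k
  haveI : Algebra.IsAlgebraic k K := IsAlgClosure.isAlgebraic
  haveI : JacobsonSpace X := LocallyOfFiniteType.jacobsonSpace f
  constructor
  · intro x
    constructor
    · intro hx
      have h1 : IsClosedImmersion (X.fromSpecResidueField x) :=
        isClosed_singleton_iff_isClosedImmersion.mp hx
      have h2 : LocallyOfFiniteType (X.fromSpecResidueField x ≫ f) := inferInstance
      have h3 : IsFinite (X.fromSpecResidueField x ≫ f) :=
        isFinite_iff_locallyOfFiniteType_of_jacobsonSpace.mpr h2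
      have h4 : IsIntegralHom (Spec.map (ψ k f x)) := by
        rw [map_ψ]; infer_instance
      rw [IsIntegralHom.SpecMap_iff] at h4
      letI alg1 : Algebra k (X.residueField x) := (ψ k f x).hom.toAlgebra
      haveI : Algebra.IsIntegral k (X.residueField x) := ⟨h4⟩
      let σ : X.residueField x →ₐ[k] K := IsAlgClosed.lift
      refine ⟨Spec.map (CommRingCat.ofHom σ.toRingHom) ≫ X.fromSpecResidueField x, ?_, ?_⟩
      · rw [Category.assoc, ← map_ψ k f x, ← Spec.map_comp]
        congr 1
        ext a
        exact σ.commutes a
      · exact Scheme.fromSpecResidueField_apply x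
          ((Spec.map (CommRingCat.ofHom σ.toRingHom)) (IsLocalRing.closedPoint K))
    · rintro ⟨p, hp, rfl⟩
      obtain ⟨φ, hφ1, hφ2⟩ := point_decomp k K f p hp
      generalize hxdef : p (IsLocalRing.closedPoint K) = x at φ hφ1 hφ2 ⊢
      letI alg1 : Algebra k (X.residueField x) := (ψ k f x).hom.toAlgebra
      haveI : Algebra.EssFiniteType k (X.residueField x) :=
        Groth.Agent.S4365.essFiniteType_residue k f x
      let φa : X.residueField x →ₐ[k] K :=
        { φ.hom with
          commutes' := fun a => by
            have := congrArg (fun g => g.hom a) hφ2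
            exact this }
      haveI : Algebra.IsAlgebraic k (X.residueField x) :=
        Algebra.IsAlgebraic.of_injective φa φa.injective
      haveI : Module.Finite k (X.residueField x) := Algebra.finite_of_essFiniteType_of_isAlgebraic
      have h1 : IsFinite (Spec.map (ψ k f x)) := by
        rw [IsFinite.SpecMap_iff]
        exact (inferInstance : Module.Finite k (X.residueField x))
      have h2 : LocallyOfFiniteType (X.fromSpecResidueField x ≫ f) := by
        rw [← map_ψ]; infer_instance
      have h3 : LocallyOfFiniteType (X.fromSpecResidueField x) :=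
        locallyOfFiniteType_of_comp _ f
      exact isClosed_singleton_iff_locallyOfFiniteType.mpr h3
  · intro p q hp hq
    constructor
    · intro hpq
      obtain ⟨φ, hφ1, hφ2⟩ := point_decomp k K f p hp
      obtain ⟨φ', hφ'1, hφ'2⟩ := point_decomp k K f q hq
      have gen : ∀ (x y : X) (hxy : x = y) (φ : X.residueField x ⟶ CommRingCat.of K)
          (φ' : X.residueField y ⟶ CommRingCat.of K),
          ψ k f x ≫ φ = CommRingCat.ofHom (algebraMap k K) →
          ψ k f y ≫ φ' = CommRingCat.ofHom (algebraMap k K) →
          ∃ σ : K ≃ₐ[k] K, Spec.map φ' ≫ X.fromSpecResidueField y =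
            Spec.map (CommRingCat.ofHom σ.toRingHom) ≫ Spec.map φ ≫ X.fromSpecResidueField x := by
        rintro x y rfl φ φ' h1 h2
        obtain ⟨σ, hσ⟩ := key k K f x φ φ' h1 h2
        refine ⟨σ, ?_⟩
        rw [hσ, Spec.map_comp, Category.assoc]
      obtain ⟨σ, hσ⟩ := gen _ _ hpq φ φ' hφ2 hφ'2
      refine ⟨σ, ?_⟩
      rw [← hφ1, ← hφ'1] at hσ
      exact hσ
    · rintro ⟨σ, rfl⟩
      exact congrArg p (Subsingleton.elim (IsLocalRing.closedPoint K)
        ((Spec.map (CommRingCat.ofHom σ.toRingHom)) (IsLocalRing.closedPoint K)))

end Groth.Agent.S10828
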