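import Groth.Statements.S10830
-- import your own Groth.Agent.* helpers here

set_option autoImplicit false
universe u
open Topology TopologicalSpace
open TopDim

namespace Groth.Agent.S10830

/-- In an irreducible topological space X of finite Krull dimension, every proper closed subset Y has
strictly smaller Krull dimension than X. -/
theorem result (X : Type u) [TopologicalSpace X]
    [IrreducibleSpace X] (hfin : topologicalKrullDim X ≠ ⊤) (Y : Set X) (hY : IsClosed Y) (hYX : Y ≠ Set.univ) :
    topologicalKrullDim ↥Y < topologicalKrullDim X := by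
  classical
  -- the top irreducible closed subset of `X`
  let T : IrreducibleCloseds X := ⟨Set.univ, IrreducibleSpace.isIrreducible_univ X, isClosed_univ⟩
  by_contra hlt
  rw [not_lt] at hlt
  -- `dim X` is a natural number
  have hne : Nonempty (IrreducibleCloseds X) := ⟨T⟩
  have h0 : (0 : WithBot ℕ∞) ≤ topologicalKrullDim X := Order.krullDim_nonneg
  obtain ⟨n, hn⟩ : ∃ n : ℕ, topologicalKrullDim X = (n : WithBot ℕ∞) := by
    cases h : topologicalKrullDim X with
    | bot => rw [h] at h0; simp at h0
    | coe m =>
      cases m with
      | top => exact absurd h hfin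
      | coe n => exact ⟨n, rfl⟩
  -- a chain of length `n` in `Y`
  have hnY : (n : WithBot ℕ∞) ≤ Order.krullDim (IrreducibleCloseds ↥Y) := by
    rw [← hn]; exact hlt
  obtain ⟨l, hl⟩ := Order.le_krullDim_iff.1 hnY
  -- push it to `X` and add `univ` on top
  let l' : LTSeries (IrreducibleCloseds X) :=
    l.map (IrreducibleCloseds.map Subtype.val continuous_subtype_val)
      (IrreducibleCloseds.map_strictMono_of_isInducing IsInducing.subtypeVal)
  have hlast : l'.last < T := by
    have hsub : ((l'.last : IrreducibleCloseds X) : Set X) ⊆ Y := by
      change closure (Subtype.val '' _) ⊆ Y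
      refine closure_minimal ?_ hY
      rintro _ ⟨y, -, rfl⟩
      exact y.2
    refine lt_of_le_of_ne (fun x _ => Set.mem_univ x) ?_
    intro h
    apply hYX
    apply Set.eq_univ_of_univ_subset
    have : ((l'.last : IrreducibleCloseds X) : Set X) = Set.univ := by rw [h]; rfl
    rw [← this]; exact hsub
  have h1 : ((l'.snoc T hlast).length : WithBot ℕ∞) ≤ topologicalKrullDim X :=
    Order.LTSeries.length_le_krullDim _
  rw [hn] at h1
  have h2 : (l'.snoc T hlast).length = n + 1 := by
    simp [l', hl]
  rw [h2] at h1
  have h3 : (n + 1 : ℕ) ≤ n := by exact_mod_cast h1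
  omega

end Groth.Agent.S10830
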