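import Groth.Statements.S10831
-- import your own Groth.Agent.* helpers here

set_option autoImplicit false
universe u
open Topology TopologicalSpace
open TopDim

namespace Groth.Agent.S10831

/-- The preimage in a subspace `Y` of an irreducible closed subset `W ⊆ Y` of `X`. -/
def restr {X : Type u} [TopologicalSpace X] (Y : Set X) (W : IrreducibleCloseds X)
    (hW : (W : Set X) ⊆ Y) : IrreducibleCloseds ↥Y where
  carrier := Subtype.val ⁻¹' (W : Set X)
  isIrreducible' := by
    obtain ⟨x, hx⟩ := W.isIrreducible.nonempty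
    refine ⟨⟨⟨x, hW hx⟩, hx⟩, ?_⟩
    intro U V hU hV hUne hVne
    obtain ⟨U', hU', rfl⟩ := isOpen_induced_iff.1 hU
    obtain ⟨V', hV', rfl⟩ := isOpen_induced_iff.1 hV
    obtain ⟨a, ha1, ha2⟩ := hUne
    obtain ⟨b, hb1, hb2⟩ := hVne
    obtain ⟨c, hc1, hc2, hc3⟩ := W.isIrreducible.isPreirreducible U' V' hU' hV'
      ⟨a.1, ha1, ha2⟩ ⟨b.1, hb1, hb2⟩
    exact ⟨⟨c, hW hc1⟩, hc1, hc2, hc3⟩
  isClosed' := W.isClosed.preimage continuous_subtype_val

theorem restr_strictMono {X : Type u} [TopologicalSpace X] (Y : Set X) (Z : IrreducibleCloseds X)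
    (hZ : (Z : Set X) ⊆ Y) :
    StrictMono (fun W : Set.Iic Z => restr Y W.1 (fun x hx => hZ (W.2 hx))) := by
  intro W₁ W₂ h
  have hle : (W₁.1 : Set X) ⊆ (W₂.1 : Set X) := h.le
  refine lt_of_le_of_ne (fun y hy => hle hy) ?_
  intro heq
  apply h.ne
  apply Subtype.ext
  apply IrreducibleCloseds.ext
  apply Set.Subset.antisymm hle
  intro x hx
  have hxY : x ∈ Y := hZ (W₂.2 hx)
  have h2 : (⟨x, hxY⟩ : ↥Y) ∈ (restr Y W₂.1 (fun x hx => hZ (W₂.2 hx)) : Set ↥Y) := hx
  have heq' : restr Y W₁.1 (fun x hx => hZ (W₁.2 hx)) = restr Y W₂.1 (fun x hx => hZ (W₂.2 hx)) :=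
    heq
  rw [← heq'] at h2
  exact h2

/-- The Krull dimension of a topological space is the supremum of the Krull dimensions of its
irreducible components. -/
theorem result (X : Type u) [TopologicalSpace X] :
    topologicalKrullDim X = ⨆ Y ∈ irreducibleComponents X, topologicalKrullDim ↥Y := by
  apply le_antisymm
  · unfold topologicalKrullDim
    rw [Order.krullDim_eq_iSup_height]
    apply iSup_le
    intro Z
    obtain ⟨Y, hY, hZY⟩ :=
      exists_mem_irreducibleComponents_subset_of_isIrreducible (Z : Set X) Z.isIrreducible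
    rw [Order.height_eq_krullDim_Iic]
    refine le_trans (Order.krullDim_le_of_strictMono _ (restr_strictMono Y Z hZY)) ?_
    exact le_iSup₂ (f := fun (Y : Set X) (_ : Y ∈ irreducibleComponents X) =>
      Order.krullDim (IrreducibleCloseds ↥Y)) Y hY
  · exact iSup₂_le fun Y _ => topologicalKrullDim_subspace_le X Y

end Groth.Agent.S10831
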