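import Groth.Statements.S10832
import Mathlib
import Groth.Agent.S2256
-- import your own Groth.Agent.* helpers here

set_option autoImplicit false
universe u
open CategoryTheory AlgebraicGeometry Topology
open Variety

namespace Groth.Agent.S10832
open CategoryTheory AlgebraicGeometry Limits TopologicalSpace Topology Opposite


lemma germ_bijective_of_discrete (X : Scheme.{u}) [DiscreteTopology X] :
    Function.Bijective (fun s : Γ(X, ⊤) => fun x : X => X.presheaf.germ ⊤ x trivial s) := by
  constructor
  · intro s t hst
    apply TopCat.Presheaf.section_ext X.sheaf ⊤ s t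
    intro x hx
    exact congrFun hst x
  · intro t
    have hex : ∀ x : X, ∃ (U : X.Opens) (m : x ∈ U) (s : Γ(X, U)), X.presheaf.germ U x m s = t x :=
      fun x => TopCat.Presheaf.exists_germ_eq X.presheaf (t x)
    choose U m s hs using hex
    let W : X → X.Opens := fun x => ⟨{x}, isOpen_discrete _⟩
    have hWU : ∀ x, W x ≤ U x := by
      intro x y hy
      rw [Set.mem_singleton_iff.mp hy]
      exact m x
    let sf : ∀ x, Γ(X, W x) := fun x => X.presheaf.map (homOfLE (hWU x)).op (s x)
    have hcompat : TopCat.Presheaf.IsCompatible X.sheaf.1 W sf := by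
      intro x y
      by_cases hxy : x = y
      · subst hxy
        rfl
      · have hbot : W x ⊓ W y = ⊥ := by
          ext z
          simp only [Opens.coe_inf, Opens.coe_bot, Set.mem_inter_iff, Set.mem_empty_iff_false,
            iff_false, not_and]
          intro h1 h2
          exact hxy ((Set.mem_singleton_iff.mp h1).symm.trans (Set.mem_singleton_iff.mp h2))
        haveI : Subsingleton Γ(X, W x ⊓ W y) := by rw [hbot]; infer_instance
        exact @Subsingleton.elim Γ(X, W x ⊓ W y) _ _ _
    have hcover : (⊤ : X.Opens) ≤ iSup W := by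
      intro x _
      exact Opens.mem_iSup.mpr ⟨x, rfl⟩
    obtain ⟨g, hg, -⟩ : ∃! g : Γ(X, ⊤), ∀ x, X.presheaf.map (homOfLE le_top : W x ⟶ ⊤).op g = sf x :=
      X.sheaf.existsUnique_gluing' W ⊤ (fun i => homOfLE le_top) hcover sf hcompat
    refine ⟨g, ?_⟩
    funext x
    have hxW : x ∈ W x := Set.mem_singleton x
    change X.presheaf.germ ⊤ x trivial g = t x
    rw [← hs x]
    have h1 : X.presheaf.germ ⊤ x trivial g =
        X.presheaf.germ (W x) x hxW (X.presheaf.map (homOfLE le_top : W x ⟶ ⊤).op g) := by
      rw [TopCat.Presheaf.germ_res_apply]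
    have h2 : X.presheaf.germ (U x) x (m x) (s x) =
        X.presheaf.germ (W x) x hxW (sf x) := by
      simp only [sf]
      rw [TopCat.Presheaf.germ_res_apply]
    rw [h1, h2, hg x]


/-- For a nonempty scheme X of finite type over a field k the following are equivalent: X has Krull
dimension 0; X is affine with ring of global sections finite over k and equal to the product of all
its local rings via the germ maps; the underlying space of X is discrete; the underlying space of X
is finite. -/
theorem result (k : Type u) [Field k] {X : Scheme.{u}} [Nonempty X]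
    (f : X ⟶ Spec (CommRingCat.of k)) [LocallyOfFiniteType f] [QuasiCompact f] :
    [topologicalKrullDim ↥X = 0,
      IsAffine X ∧ f.appTop.hom.Finite ∧
        Function.Bijective (fun s : Γ(X, ⊤) => fun x : X => X.presheaf.germ ⊤ x trivial s),
      DiscreteTopology ↥X,
      Finite ↥X].TFAE := by
  haveI : IsLocallyNoetherian X := LocallyOfFiniteType.isLocallyNoetherian f
  haveI : CompactSpace X := (quasiCompact_iff_compactSpace f).mp inferInstance
  haveI hk : IsLocallyArtinian (Spec (CommRingCat.of k)) :=
    Scheme.isLocallyArtinianScheme_Spec.mpr inferInstance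
  have h43 : Finite X → DiscreteTopology X := by
    intro hfin
    haveI : LocallyQuasiFinite f :=
      LocallyQuasiFinite.of_finite_preimage_singleton f fun x => Set.toFinite _
    haveI : IsLocallyArtinian X := IsLocallyArtinian.of_locallyQuasiFinite f
    infer_instance
  tfae_have 1 → 3 := by
    intro h
    haveI : IsLocallyArtinian X := IsLocallyArtinian.of_topologicalKrullDim_le_zero h.le
    infer_instance
  tfae_have 3 → 1 := by
    intro h
    apply le_antisymm (topologicalKrullDim_zero_of_discreteTopology X)
    obtain ⟨x⟩ := ‹Nonempty X›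
    haveI : Nonempty (IrreducibleCloseds X) :=
      ⟨⟨closure {x}, isIrreducible_singleton.closure, isClosed_closure⟩⟩
    exact Order.krullDim_nonneg
  tfae_have 3 → 4 := by
    intro h
    exact finite_of_compact_of_discrete
  tfae_have 4 → 2 := by
    intro h
    haveI := h43 h
    obtain ⟨h1, h2⟩ := Groth.Agent.S2256.result k X f h
    exact ⟨h1, h2, germ_bijective_of_discrete X⟩
  tfae_have 2 → 4 := by
    rintro ⟨h1, h2, -⟩
    letI := f.appTop.hom.toAlgebra
    haveI : Module.Finite (Γ(Spec (CommRingCat.of k), ⊤)) Γ(X, ⊤) := h2
    letI : Field Γ(Spec (CommRingCat.of k), ⊤) :=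
      (Scheme.ΓSpecIso (CommRingCat.of k)).commRingCatIsoToRingEquiv.isField
        (Field.toIsField k) |>.toField
    haveI : IsArtinianRing Γ(X, ⊤) := IsArtinianRing.of_finite (Γ(Spec (CommRingCat.of k), ⊤)) _
    haveI : Finite (Spec Γ(X, ⊤)) := inferInstanceAs (Finite (PrimeSpectrum Γ(X, ⊤)))
    exact Finite.of_equiv _ X.isoSpec.hom.homeomorph.toEquiv.symm
  tfae_finish

end Groth.Agent.S10832
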