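import Groth.Statements.S10833
import Mathlib
import Groth.Agent.Lib.Helper73.DimField
-- import your own Groth.Agent.* helpers here

set_option autoImplicit false
universe u
open Variety

namespace Groth.Agent.S10833

open Groth.Agent.Lib.Helper73.DimFormula Cardinal

theorem trdeg_eq_of_algEquiv {k A B : Type u} [Field k] [CommRing A] [CommRing B] [Algebra k A]
    [Algebra k B] (e : A ≃ₐ[k] B) : Algebra.trdeg k A = Algebra.trdeg k B :=
  e.trdeg_eq

theorem trdeg_covBy (k A : Type u) [Field k] [CommRing A] [IsDomain A] [Algebra k A]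
    [Algebra.FiniteType k A] (p p' : PrimeSpectrum A) (h : p ⋖ p') :
    Algebra.trdeg k (A ⧸ p.asIdeal) = Algebra.trdeg k (A ⧸ p'.asIdeal) + 1 := by
  have hle : p.asIdeal ≤ p'.asIdeal := h.lt.le
  haveI : Algebra.FiniteType k (A ⧸ p.asIdeal) :=
    Algebra.FiniteType.of_surjective (Ideal.Quotient.mkₐ k p.asIdeal)
      (Ideal.Quotient.mkₐ_surjective k p.asIdeal)
  set q : Ideal (A ⧸ p.asIdeal) := p'.asIdeal.map (Ideal.Quotient.mkₐ k p.asIdeal) with hq
  have hq' : q = p'.asIdeal.map (Ideal.Quotient.mk p.asIdeal) := rfl
  haveI hqprime : q.IsPrime := by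
    rw [hq']
    apply Ideal.map_isPrime_of_surjective Ideal.Quotient.mk_surjective
    rw [Ideal.mk_ker]; exact hle
  have hcomap : q.comap (Ideal.Quotient.mk p.asIdeal) = p'.asIdeal := by
    rw [hq', Ideal.comap_map_of_surjective _ Ideal.Quotient.mk_surjective, ← RingHom.ker_eq_comap_bot,
      Ideal.mk_ker, sup_eq_left.2 hle]
  have hheight : q.height = 1 := by
    rw [show q.height = Order.height (⟨q, hqprime⟩ : PrimeSpectrum (A ⧸ p.asIdeal)) from
      PrimeSpectrum.height_eq_orderHeight ⟨q, hqprime⟩]
    apply le_antisymm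
    · have : Order.height (⟨q, hqprime⟩ : PrimeSpectrum (A ⧸ p.asIdeal)) ≤ ((1 : ℕ) : ℕ∞) := by
        rw [Order.height_le_coe_iff]
        intro y hy
        -- y < q, so comap y is strictly between or equal p
        let P : PrimeSpectrum A := ⟨y.asIdeal.comap (Ideal.Quotient.mk p.asIdeal), inferInstance⟩
        have hpP : p ≤ P := by
          change p.asIdeal ≤ y.asIdeal.comap (Ideal.Quotient.mk p.asIdeal)
          intro a ha
          rw [Ideal.mem_comap, Ideal.Quotient.eq_zero_iff_mem.2 ha]
          exact zero_mem _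
        have hPp' : P < p' := by
          have hylt : y.asIdeal < q := hy
          change y.asIdeal.comap (Ideal.Quotient.mk p.asIdeal) < p'.asIdeal
          rw [← hcomap]
          refine lt_of_le_of_ne (Ideal.comap_mono hylt.le) ?_
          intro heq
          have := congrArg (Ideal.map (Ideal.Quotient.mk p.asIdeal)) heq
          rw [Ideal.map_comap_of_surjective _ Ideal.Quotient.mk_surjective,
            Ideal.map_comap_of_surjective _ Ideal.Quotient.mk_surjective] at this
          exact hylt.ne this
        have hPeq : P = p := by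
          by_contra hne
          exact h.2 (lt_of_le_of_ne hpP (Ne.symm hne)) hPp'
        have hy0 : y.asIdeal = ⊥ := by
          have h1 : y.asIdeal.comap (Ideal.Quotient.mk p.asIdeal) = p.asIdeal :=
            congrArg PrimeSpectrum.asIdeal hPeq
          have := congrArg (Ideal.map (Ideal.Quotient.mk p.asIdeal)) h1
          rw [Ideal.map_comap_of_surjective _ Ideal.Quotient.mk_surjective,
            Ideal.map_quotient_self] at this
          exact this
        have hmin : IsMin y := by
          intro z hz
          have : z.asIdeal ≤ y.asIdeal := hz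
          rw [hy0] at this
          change y.asIdeal ≤ z.asIdeal
          rw [hy0]; exact bot_le
        rw [Order.height_eq_zero.2 hmin]
        exact Nat.cast_pos.2 Nat.one_pos
      simpa using this
    · rw [Order.one_le_iff_pos, Order.height_pos]
      intro hmin
      have hbot : (⟨⊥, Ideal.isPrime_bot⟩ : PrimeSpectrum (A ⧸ p.asIdeal)) ≤ ⟨q, hqprime⟩ := by
        change (⊥ : Ideal _) ≤ q; exact bot_le
      have := hmin hbot
      have hq0 : q = ⊥ := le_bot_iff.1 this
      have : p'.asIdeal ≤ p.asIdeal := by
        rw [← hcomap, hq0, ← RingHom.ker_eq_comap_bot, Ideal.mk_ker]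
      exact h.lt.not_ge this
  have hform := height_add_trdeg_eq_of_field k (A ⧸ p.asIdeal) q
  have e : ((A ⧸ p.asIdeal) ⧸ q) ≃ₐ[k] A ⧸ p'.asIdeal := DoubleQuot.quotQuotEquivQuotOfLEₐ k hle
  rw [hheight, trdeg_eq_of_algEquiv e] at hform
  rw [← hform, add_comm]
  simp

/-- Let k be a field and A a k-algebra of finite type that is an integral domain. Then every chain of
prime ideals of A admitting no refinement — it starts at the zero ideal, ends at a maximal ideal,
and no prime ideal lies strictly between two consecutive members — has length equal to the Krull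
dimension of A. -/
theorem result (k A : Type u) [Field k] [CommRing A]
    [IsDomain A] [Algebra k A] [Algebra.FiniteType k A] (c : LTSeries (PrimeSpectrum A))
    (h0 : c.head.asIdeal = ⊥) (hmax : c.last.asIdeal.IsMaximal)
    (hsat : ∀ i : Fin c.length, c i.castSucc ⋖ c i.succ) :
    (c.length : WithBot ℕ∞) = ringKrullDim A := by
  have key : ∀ j : ℕ, ∀ hj : j ≤ c.length,
      Algebra.trdeg k (A ⧸ (c ⟨j, Nat.lt_succ_of_le hj⟩).asIdeal) + (j : Cardinal.{u}) =
        Algebra.trdeg k (A ⧸ c.head.asIdeal) := by
    intro j
    induction j with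
    | zero => intro hj; rw [Nat.cast_zero, add_zero]; rfl
    | succ j ih =>
      intro hj
      have hj' : j < c.length := hj
      have h1 := trdeg_covBy k A _ _ (hsat ⟨j, hj'⟩)
      have h2 := ih hj'.le
      simp only [Fin.castSucc_mk, Fin.succ_mk] at h1
      rw [h1] at h2
      rw [← h2]
      push_cast
      rw [add_assoc, add_comm (1 : Cardinal.{u})]
  have h1 := key c.length le_rfl
  haveI := hmax
  have hlast : (c ⟨c.length, Nat.lt_succ_of_le le_rfl⟩) = c.last := rfl
  rw [hlast, trdeg_quotient_eq_zero_of_isMaximal k A c.last.asIdeal, zero_add] at h1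
  have e0 : (A ⧸ c.head.asIdeal) ≃ₐ[k] A := by
    rw [h0]
    exact AlgEquiv.quotientBot k A
  rw [trdeg_eq_of_algEquiv e0] at h1
  obtain ⟨n, hn1, hn2, -, -⟩ := exists_trdeg_eq_ringKrullDim k A
  rw [hn1] at h1
  have : c.length = n := by exact_mod_cast h1
  rw [hn2, this]

end Groth.Agent.S10833
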