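import Groth.Statements.S10834
import Groth.Agent.Lib.Helper49.CMQuot
-- import your own Groth.Agent.* helpers here

set_option autoImplicit false
universe u
open CAlg

namespace Groth.Agent.S10834

/-- Let A be a Noetherian ring whose localizations at all prime ideals are regular local rings, and f an
element of A generating a prime ideal, so that A/(f) is an integral domain (an integral hypersurface
in the regular affine scheme Spec A). Then A/(f) is normal (integrally closed in its fraction field)
if and only if it is regular in codimension 1, i.e. its localization at every prime at which the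
local ring has dimension 1 is a regular local ring. -/
theorem result (A : Type u) [CommRing A]
    [IsNoetherianRing A] (hreg : ∀ (p : Ideal A) (_ : p.IsPrime), IsRegularLocalRing (Localization.AtPrime p))
    (f : A) (hf : (Ideal.span ({f} : Set A)).IsPrime) :
    IsIntegrallyClosed (A ⧸ Ideal.span ({f} : Set A)) ↔
      ∀ q : PrimeSpectrum (A ⧸ Ideal.span ({f} : Set A)),
        ringKrullDim (Localization.AtPrime q.asIdeal) = 1 →
          IsRegularLocalRing (Localization.AtPrime q.asIdeal) := by
  classical
  set R := A ⧸ Ideal.span ({f} : Set A) with hRdef
  have hdomR : IsDomain R := (Ideal.Quotient.isDomain_iff_prime _).mpr hf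
  -- S2 holds
  have hS2 : LocCoh.HasSk 2 R R := by
    rw [Groth.Agent.Lib.Helper49.Serre.hasSk_self_iff]
    intro q hq
    have h := Groth.Agent.Lib.Helper49.CMQuot.isCM_localization_quotient_span A hreg f q
    rw [← h, IsLocalization.AtPrime.ringKrullDim_eq_height q]
    exact min_le_right _ _
  have hserre := Groth.Agent.Lib.Helper49.Serre.serre_criterion R
  constructor
  · intro hic q hdim
    have h1 : ∀ (p : Ideal R) [p.IsPrime], IsDomain (Localization.AtPrime p) ∧
        IsIntegrallyClosed (Localization.AtPrime p) := by
      intro p hp
      refine ⟨inferInstance, ?_⟩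
      exact isIntegrallyClosed_of_isLocalization (Localization.AtPrime p) p.primeCompl p.primeCompl_le_nonZeroDivisors
    have hRk := (hserre.mp h1).1
    apply hRk q.asIdeal
    have : ((q.asIdeal.height : ℕ∞) : WithBot ℕ∞) = 1 := by
      rw [← IsLocalization.AtPrime.ringKrullDim_eq_height q.asIdeal (Localization.AtPrime q.asIdeal)]
      exact hdim
    have h2 : q.asIdeal.height = 1 := by exact_mod_cast this
    rw [h2]
    rfl
  · intro h
    have hRk : LocCoh.HasRk 1 R := by
      intro p hp hht
      by_cases h0 : p.height = 0
      · have hpbot : p = ⊥ := by
          have := Ideal.height_eq_zero_iff.mp h0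
          rw [IsDomain.minimalPrimes_eq_singleton_bot] at this
          exact this
        apply Groth.Agent.Lib.Helper49.Serre.isRegularLocalRing_of_maximalIdeal_eq_bot
        rw [← IsLocalization.AtPrime.map_eq_maximalIdeal p (Localization.AtPrime p)]
        have : p.map (algebraMap R (Localization.AtPrime p)) ≤ ⊥ := by
          rw [Ideal.map_le_iff_le_comap]
          intro x hx
          rw [hpbot] at hx
          rw [Ideal.mem_bot.mp hx]
          exact Ideal.zero_mem _
        exact le_antisymm this bot_le
      · have h1 : p.height = 1 := by
          apply le_antisymm hht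
          exact Order.one_le_iff_ne_zero.mpr h0
        apply h ⟨p, hp⟩
        rw [IsLocalization.AtPrime.ringKrullDim_eq_height p (Localization.AtPrime p), h1]
        rfl
    have h1 := hserre.mpr ⟨hRk, hS2⟩
    apply IsIntegrallyClosed.of_localization_maximal
    intro p _ hpmax
    exact (h1 p).2

end Groth.Agent.S10834
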