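import Groth.Statements.S10837
import Mathlib.AlgebraicGeometry.Morphisms.UnderlyingMap
import Mathlib.AlgebraicGeometry.Morphisms.UniversallyOpen
-- import your own Groth.Agent.* helpers here

set_option autoImplicit false
universe u
open CategoryTheory AlgebraicGeometry Topology
open Mor

namespace Groth.Agent.S10837

/-- Ring-theoretic core: if `Spec S → Spec R` is an open map then generalizations lift. -/
theorem generalizingMap_comap_of_isOpenMap {R S : Type*} [CommRing R] [CommRing S] (φ : R →+* S)
    (h : IsOpenMap (PrimeSpectrum.comap φ)) : GeneralizingMap (PrimeSpectrum.comap φ) := by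
  intro p q' hq'
  -- the multiplicative set
  let T : Submonoid S := p.asIdeal.primeCompl ⊔ (q'.asIdeal.primeCompl.map φ)
  have hdisj : Disjoint ((q'.asIdeal.map φ : Ideal S) : Set S) (T : Set S) := by
    rw [Set.disjoint_left]
    intro x hxI hxT
    obtain ⟨g, hg, z, hz, rfl⟩ := Submonoid.mem_sup.mp hxT
    obtain ⟨b, hb, rfl⟩ := hz
    -- D(g) is an open neighbourhood of p
    have hopen : IsOpen (PrimeSpectrum.comap φ '' (PrimeSpectrum.basicOpen g : Set (PrimeSpectrum S))) :=
      h _ (PrimeSpectrum.basicOpen g).2
    have hmem : PrimeSpectrum.comap φ p ∈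
        PrimeSpectrum.comap φ '' (PrimeSpectrum.basicOpen g : Set (PrimeSpectrum S)) :=
      ⟨p, hg, rfl⟩
    obtain ⟨P', hP', hP'q⟩ := hopen.stableUnderGeneralization hq' hmem
    have hle : q'.asIdeal.map φ ≤ P'.asIdeal := by
      rw [Ideal.map_le_iff_le_comap, ← hP'q]
      rfl
    have := hle hxI
    rcases P'.2.mem_or_mem this with h1 | h1
    · exact hP' h1
    · apply hb
      rw [← hP'q]
      exact h1
  obtain ⟨P, hP, hIP, hPT⟩ := Ideal.exists_le_prime_disjoint _ _ hdisj
  refine ⟨⟨P, hP⟩, ?_, ?_⟩
  · change (⟨P, hP⟩ : PrimeSpectrum S) ⤳ p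
    rw [← PrimeSpectrum.le_iff_specializes]
    intro x hx
    by_contra hxp
    exact Set.disjoint_left.mp hPT hx (Submonoid.mem_sup_left (show x ∈ p.asIdeal.primeCompl from hxp))
  · ext x
    constructor
    · intro hx
      by_contra hxq
      exact Set.disjoint_left.mp hPT hx
        (Submonoid.mem_sup_right (Submonoid.mem_map_of_mem φ (show x ∈ q'.asIdeal.primeCompl from hxq)))
    · intro hx
      exact hIP (Ideal.mem_map_of_mem φ hx)

/-- For a morphism of schemes f : X → Y which is open as a map of topological spaces, generalizations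
lift along f: every generalization of f(x) is the image of a generalization of x. -/
theorem result {X Y : Scheme.{u}} (f : X ⟶ Y) (hf : IsOpenMap f.base) :
    GeneralizingMap f.base := by
  change topologically GeneralizingMap f
  replace hf : topologically IsOpenMap f := hf
  wlog hY : ∃ R, Y = Spec R
  · rw [IsZariskiLocalAtTarget.iff_of_openCover (P := topologically GeneralizingMap) Y.affineCover]
    intro i
    dsimp only [Scheme.Cover.pullbackHom]
    refine this _ ?_ ⟨_, rfl⟩
    exact IsZariskiLocalAtTarget.of_isPullback (P := topologically IsOpenMap)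
      (iY := Y.affineCover.f i) (IsPullback.of_hasPullback ..) hf
  obtain ⟨R, rfl⟩ := hY
  wlog hX : ∃ S, X = Spec S
  · rw [IsZariskiLocalAtSource.iff_of_openCover (P := topologically GeneralizingMap) X.affineCover]
    intro i
    refine this _ _ ?_ ⟨_, rfl⟩
    exact IsZariskiLocalAtSource.comp (P := topologically IsOpenMap) hf _
  obtain ⟨S, rfl⟩ := hX
  obtain ⟨φ, rfl⟩ := Spec.map_surjective f
  exact generalizingMap_comap_of_isOpenMap φ.hom hf

end Groth.Agent.S10837
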