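import Groth.Statements.S10838
import Groth.Agent.S10837
-- import your own Groth.Agent.* helpers here

set_option autoImplicit false
universe u
open CategoryTheory AlgebraicGeometry Topology
open Mor

namespace Groth.Agent.S10838

open TopologicalSpace in
/-- A continuous surjective generalizing map onto a quasi-sober space does not lower dimension. -/
theorem topologicalKrullDim_le_of_generalizingMap {X Z : Type*} [TopologicalSpace X]
    [TopologicalSpace Z] [QuasiSober Z] (g : X → Z) (hc : Continuous g) (hg : GeneralizingMap g)
    (hs : Function.Surjective g) :
    topologicalKrullDim Z ≤ topologicalKrullDim X := by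
  have key : ∀ p : LTSeries (IrreducibleCloseds Z), ∀ x : X,
      IsGenericPoint (g x) (p.head : Set Z) →
      ∃ q : LTSeries (IrreducibleCloseds X), q.length = p.length ∧
        (q.head : Set X) = closure {x} := by
    intro p
    induction p using RelSeries.inductionOn with
    | singleton a =>
      intro x hx
      exact ⟨RelSeries.singleton _ ⟨closure {x}, isIrreducible_singleton.closure, isClosed_closure⟩,
        rfl, rfl⟩
    | cons p a ha ih =>
      intro x hx
      rw [RelSeries.head_cons] at hx
      obtain ⟨η, hη⟩ := QuasiSober.sober p.head.isIrreducible p.head.isClosed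
      have hlt : (a : Set Z) ⊂ (p.head : Set Z) := ha
      have hspec : η ⤳ g x := by
        rw [specializes_iff_mem_closure, hη.def]
        exact hlt.subset hx.mem
      obtain ⟨x', hx'x, hx'⟩ := hg hspec
      obtain ⟨q, hql, hqh⟩ := ih x' (by rw [hx']; exact hη)
      have hrel : (⟨closure {x}, isIrreducible_singleton.closure, isClosed_closure⟩ :
          IrreducibleCloseds X) < q.head := by
        change (closure {x} : Set X) ⊂ (q.head : Set X)
        rw [hqh]
        refine ⟨hx'x.closure_subset, fun hsub => ?_⟩
        have h1 : x ⤳ x' := by
          rw [specializes_iff_mem_closure]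
          exact hsub (subset_closure rfl)
        have h2 : g x ⤳ g x' := h1.map hc
        rw [hx'] at h2
        apply hlt.2
        rw [← hη.def, ← hx.def]
        exact h2.closure_subset
      exact ⟨q.cons _ hrel, by simp [hql], rfl⟩
  unfold topologicalKrullDim
  refine iSup_le fun p => ?_
  obtain ⟨η, hη⟩ := QuasiSober.sober p.head.isIrreducible p.head.isClosed
  obtain ⟨x, rfl⟩ := hs η
  obtain ⟨q, hql, -⟩ := key p x hη
  rw [← hql]
  exact Order.LTSeries.length_le_krullDim q

/-- For a morphism of schemes f : X → Y which is open as a map of topological spaces, the Krull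
dimension of the image f(X) (with the subspace topology from Y) is at most the Krull dimension of X. -/
theorem result {X Y : Scheme.{u}} (f : X ⟶ Y) (hf : IsOpenMap f.base) :
    topologicalKrullDim ↥(Set.range f.base) ≤ topologicalKrullDim ↥X := by
  have hopen : IsOpen (Set.range f.base) := hf.isOpen_range
  have : QuasiSober ↥(Set.range f.base) := hopen.isOpenEmbedding_subtypeVal.quasiSober
  have hgen : GeneralizingMap f.base := Groth.Agent.S10837.result f hf
  refine topologicalKrullDim_le_of_generalizingMap (Set.rangeFactorization f.base)
    (f.base.hom.continuous.subtype_mk _) ?_ Set.rangeFactorization_surjective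
  intro x y hy
  obtain ⟨x', hx'x, hx'⟩ := hgen (a := x) (b := y.1) ((subtype_specializes_iff _ _).mp hy)
  exact ⟨x', hx'x, Subtype.ext hx'⟩

end Groth.Agent.S10838
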