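import Groth.Statements.S10839
-- import your own Groth.Agent.* helpers here

set_option autoImplicit false
universe u
open CategoryTheory AlgebraicGeometry Topology
open Variety

namespace Groth.Agent.S10839

open TopologicalSpace in
/-- A chain of irreducible closed subsets of the source of a non-surjective closed embedding into
an irreducible space can be extended by the whole space. -/
theorem exists_ltSeries_succ_of_isClosedEmbedding {X Y : Type*} [TopologicalSpace X]
    [TopologicalSpace Y] [IrreducibleSpace X] (f : Y → X) (hf : IsClosedEmbedding f)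
    (hns : ¬ Function.Surjective f) (l : LTSeries (IrreducibleCloseds Y)) :
    ∃ l' : LTSeries (IrreducibleCloseds X), l'.length = l.length + 1 := by
  let top : IrreducibleCloseds X := ⟨Set.univ, IrreducibleSpace.isIrreducible_univ X, isClosed_univ⟩
  let l₁ : LTSeries (IrreducibleCloseds X) :=
    l.map (IrreducibleCloseds.map f hf.continuous)
      (IrreducibleCloseds.map_strictMono_of_isInducing hf.isInducing)
  have hlt : l₁.last < top := by
    change (l₁.last : Set X) ⊂ Set.univ
    rw [Set.ssubset_univ_iff]
    intro hEq
    apply hns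
    rw [← Set.range_eq_univ]
    apply Set.eq_univ_of_univ_subset
    rw [← hEq]
    change closure (f '' (l.last : Set Y)) ⊆ Set.range f
    rw [(hf.isClosedMap _ l.last.isClosed).closure_eq]
    exact Set.image_subset_range _ _
  exact ⟨l₁.snoc top hlt, by simp [l₁]⟩

/-- A closed immersion i : Y → X into an integral scheme X with dim X = dim Y < ∞ is an isomorphism. -/
theorem result {X Y : Scheme.{u}} (i : Y ⟶ X)
    [IsClosedImmersion i] [IsIntegral X] (hfin : topologicalKrullDim ↥X ≠ ⊤)
    (hdim : topologicalKrullDim ↥X = topologicalKrullDim ↥Y) : IsIso i := by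
  have hemb : IsClosedEmbedding i.base := i.isClosedEmbedding
  have hsurj : Function.Surjective i.base := by
    by_contra hns
    have : Nonempty (TopologicalSpace.IrreducibleCloseds X) :=
      ⟨⟨Set.univ, IrreducibleSpace.isIrreducible_univ X, isClosed_univ⟩⟩
    have hXne : (0 : WithBot ℕ∞) ≤ topologicalKrullDim X := by
      unfold topologicalKrullDim
      exact Order.krullDim_nonneg
    obtain ⟨n, hn⟩ : ∃ n : ℕ, topologicalKrullDim X = (n : WithBot ℕ∞) := by
      have h1 : topologicalKrullDim X ≠ ⊥ := fun h => by
        rw [h] at hXne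
        simp at hXne
      obtain ⟨m, hm⟩ := WithBot.ne_bot_iff_exists.mp h1
      have h2 : m ≠ ⊤ := fun h => hfin (by rw [← hm, h]; rfl)
      obtain ⟨n, hn⟩ := ENat.ne_top_iff_exists.mp h2
      exact ⟨n, by rw [← hm, ← hn]; rfl⟩
    have hY : (n : WithBot ℕ∞) ≤ topologicalKrullDim Y := by rw [← hdim, hn]
    obtain ⟨l, hl⟩ := Order.le_krullDim_iff.mp hY
    obtain ⟨l', hl'⟩ := exists_ltSeries_succ_of_isClosedEmbedding i.base hemb hns l
    have h3 := Order.LTSeries.length_le_krullDim l'
    change _ ≤ topologicalKrullDim X at h3
    rw [hn, hl', hl] at h3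
    have h4 : (n + 1 : ℕ) ≤ n := by exact_mod_cast h3
    omega
  have : Surjective i := ⟨hsurj⟩
  exact isIso_of_isClosedImmersion_of_surjective i

end Groth.Agent.S10839
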