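import Groth.Statements.S10840
import Groth.Agent.Lib.Helper14.PD6

set_option autoImplicit false
universe u
open AlgebraicGeometry Topology
open Variety

namespace Groth.Agent.S10840

namespace PDg
open Groth.Agent.Lib.Helper14.PD1 Groth.Agent.Lib.Helper14.PD2 Groth.Agent.Lib.Helper14.PD3
open Groth.Agent.Lib.Helper14.PD4 Groth.Agent.Lib.Helper14.PD5 Groth.Agent.Lib.Helper14.PD6
open Groth.Agent.Lib.Helper87.HilbFnG Groth.Agent.Lib.Helper87.HilbFnE
open Groth.Agent.Lib.Helper87.HilbFnI
open MvPolynomial Order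

variable {k : Type u} [Field k]

attribute [local instance] MvPolynomial.gradedAlgebra

local notation "𝒜" => homogeneousSubmodule (Fin (2 + 1)) k

/-- the generic point of the plane -/
noncomputable def gen : ProjectiveSpectrum 𝒜 :=
  mkPt ⊥ Ideal.isPrime_bot (Ideal.IsHomogeneous.bot 𝒜) (fun h => by
    rw [irrelevant_eq_irr] at h
    have h1 : (X 0 : MvPolynomial (Fin (2 + 1)) k) ∈ irr k (Fin (2 + 1)) :=
      mem_irr_of_isHomogeneous (isHomogeneous_X k 0) le_rfl
    have h2 := h h1
    rw [Ideal.mem_bot] at h2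
    exact X_ne_zero 0 h2)

theorem dim_le_of_relevant (z : ProjectiveSpectrum 𝒜) : z.asHomogeneousIdeal.toIdeal.height ≤ 2 := by
  haveI := z.isPrime
  obtain ⟨h, dq, hh, hdq, hS⟩ := dim_eq_height_add (k := k) z.asHomogeneousIdeal.toIdeal
  obtain ⟨e, he⟩ := one_le_dim_of_relevant z.asHomogeneousIdeal.isHomogeneous z.not_irrelevant_le
  rw [ringKrullDim_mvPolynomial_field] at hS
  rw [he] at hdq
  have e1 : e + 1 = dq := by exact_mod_cast hdq
  have e2 : 2 + 1 = h + dq := by exact_mod_cast hS
  rw [hh]
  have : h ≤ 2 := by omega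
  exact_mod_cast this

theorem main (n m : ℕ)
    (f g : MvPolynomial (Fin (2 + 1)) k) (hf : f.IsHomogeneous n) (hg : g.IsHomogeneous m)
    (hn : 0 < n) (hm : 0 < m) (hf0 : f ≠ 0) (hg0 : g ≠ 0) :
    topologicalKrullDim ↥(ProjectiveSpectrum.zeroLocus 𝒜
        ({f, g} : Set (MvPolynomial (Fin (2 + 1)) k))) = 0 ↔ IsRelPrime f g := by
  set W := ProjectiveSpectrum.zeroLocus 𝒜 ({f, g} : Set (MvPolynomial (Fin (2 + 1)) k)) with hW
  have hWc : IsClosed W := ProjectiveSpectrum.isClosed_zeroLocus 𝒜 _
  have hfW : ∀ y ∈ W, f ∈ y.asHomogeneousIdeal.toIdeal := fun y hy => hy (by simp)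
  have hgW : ∀ y ∈ W, g ∈ y.asHomogeneousIdeal.toIdeal := fun y hy => hy (by simp)
  have hIh : (Ideal.span {f}).IsHomogeneous 𝒜 := by
    refine Ideal.homogeneous_span _ _ ?_
    intro z hz
    rw [Set.mem_singleton_iff] at hz
    subst hz
    exact ⟨n, hf⟩
  constructor
  · intro hdim h hhf hhg
    by_contra hu
    have hh0 : h ≠ 0 := by
      rintro rfl
      exact hf0 (zero_dvd_iff.mp hhf)
    obtain ⟨h', hh'irr, hh'h⟩ := WfDvdMonoid.exists_irreducible_factor hu hh0
    have hh'prime : Prime h' := UniqueFactorizationMonoid.irreducible_iff_prime.mp hh'irr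
    set q := Ideal.span {h'} with hq
    haveI hqp : q.IsPrime := (Ideal.span_singleton_prime hh'irr.ne_zero).mpr hh'prime
    have hfq : f ∈ q := Ideal.mem_span_singleton.mpr (hh'h.trans hhf)
    have hgq : g ∈ q := Ideal.mem_span_singleton.mpr (hh'h.trans hhg)
    have hht : q.height ≤ 1 := Ideal.height_span_singleton_le_one hh'irr.not_isUnit
    have hqmin := mem_minimalPrimes_of_height hf0 hfq hht
    have hqh := isHomogeneous_of_mem_minimalPrimes hIh hqmin
    have hdq := (minimal_principal hf0 hqmin).2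
    have hrel : ¬ (HomogeneousIdeal.irrelevant 𝒜).toIdeal ≤ q :=
      relevant_of_dim hqh 1 (by rw [hdq])
    set x := mkPt q hqp hqh hrel with hx
    have hxW : x ∈ W := by
      intro a ha
      rcases ha with rfl | ha
      · exact hfq
      · rw [Set.mem_singleton_iff] at ha
        subst ha
        exact hgq
    have hsub : {w : ProjectiveSpectrum 𝒜 | x ≤ w} ⊆ W := fun w hw => mem_of_le specOrd hWc hxW hw
    have hmono := topologicalKrullDim_mono hsub
    obtain ⟨e, he, htop⟩ := exists_nat_dim_point x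
    have he' : ((e + 1 : ℕ) : WithBot ℕ∞) = ((2 : ℕ) : WithBot ℕ∞) := by
      rw [← he]
      exact hdq
    have : e + 1 = 2 := by exact_mod_cast he'
    rw [htop, hdim] at hmono
    have h1 : ((e : ℕ) : WithBot ℕ∞) ≤ ((0 : ℕ) : WithBot ℕ∞) := hmono
    have : e ≤ 0 := by exact_mod_cast h1
    omega
  · intro hrel
    rw [topologicalKrullDim_subtype_eq specOrd hWc]
    apply le_antisymm
    · rw [krullDim_nonpos_iff_forall_isMax]
      intro y z hyz
      by_contra hzy
      have hlt : y < z := lt_of_le_not_ge hyz hzy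
      have hlt' : y.1.asHomogeneousIdeal.toIdeal < z.1.asHomogeneousIdeal.toIdeal := hlt
      haveI := y.1.isPrime
      haveI := z.1.isPrime
      have h1 := Ideal.height_add_one_le_of_lt_of_isPrime hlt'
      have h2 := dim_le_of_relevant z.1
      have hht : y.1.asHomogeneousIdeal.toIdeal.height ≤ 1 := by
        by_contra hc
        push Not at hc
        have h3 : (2 : ℕ∞) ≤ y.1.asHomogeneousIdeal.toIdeal.height := by
          have := Order.add_one_le_of_lt hc
          calc (2 : ℕ∞) = 1 + 1 := by norm_num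
            _ ≤ _ := this
        have h4 : (2 : ℕ∞) + 1 ≤ 2 := (add_le_add_left h3 1).trans (h1.trans h2)
        exact absurd h4 (by norm_num)
      have hy0 : y.1.asHomogeneousIdeal.toIdeal ≠ ⊥ := by
        intro h
        have := hfW y.1 y.2
        rw [h, Ideal.mem_bot] at this
        exact hf0 this
      obtain ⟨h, hh, hyh⟩ := exists_prime_generator hy0 hht
      have hhf : h ∣ f := Ideal.mem_span_singleton.mp (hyh ▸ hfW y.1 y.2)
      have hhg : h ∣ g := Ideal.mem_span_singleton.mp (hyh ▸ hgW y.1 y.2)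
      exact hh.not_isUnit (hrel hhf hhg)
    · haveI : Nonempty ↥W := by
        have hcod := (codim_le (gen (k := k)) 2 ![f, g] ![n, m]
          (by intro i; fin_cases i <;> simpa) (by intro i; fin_cases i <;> simpa)).2
        obtain ⟨e, he, htop⟩ := exists_nat_dim_point (gen (k := k))
        have hbot : (gen (k := k)).asHomogeneousIdeal.toIdeal = ⊥ := rfl
        have hdimS : ringKrullDim (MvPolynomial (Fin (2 + 1)) k ⧸ (⊥ : Ideal (MvPolynomial (Fin (2 + 1)) k)))
            = ((2 + 1 : ℕ) : WithBot ℕ∞) := by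
          rw [ringKrullDim_eq_of_ringEquiv (RingEquiv.quotientBot _), ringKrullDim_mvPolynomial_field]
        rw [hbot, hdimS] at he
        have he2 : 2 + 1 = e + 1 := by exact_mod_cast he
        have hle : ((2 : ℕ) : WithBot ℕ∞) ≤ topologicalKrullDim
            ↥{y : ProjectiveSpectrum 𝒜 | gen (k := k) ≤ y} := by
          rw [htop]
          have : 2 ≤ e := by omega
          exact_mod_cast this
        obtain ⟨w, -, hw⟩ := hcod hle
        refine ⟨⟨w, ?_⟩⟩
        intro a ha
        apply hw
        rcases ha with rfl | ha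
        · exact ⟨0, rfl⟩
        · rw [Set.mem_singleton_iff] at ha
          subst ha
          exact ⟨1, rfl⟩
      exact krullDim_nonneg

end PDg


/-- For a field k and nonzero homogeneous polynomials f, g of positive degrees in three variables, the
common zero set V_+(f, g) in the projective plane over k is zero-dimensional as a topological
subspace exactly when f and g are coprime, i.e. their only common divisors are the non-zero
constants. -/
theorem result (k : Type u) [Field k] (n m : ℕ)
    (f g : MvPolynomial (Fin 3) k) (hf : f.IsHomogeneous n) (hg : g.IsHomogeneous m)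
    (hn : 0 < n) (hm : 0 < m) (hf0 : f ≠ 0) (hg0 : g ≠ 0) :
    topologicalKrullDim ↥(ProjectiveSpectrum.zeroLocus (CohB1.polyGrading 2 k)
        ({f, g} : Set (MvPolynomial (Fin 3) k))) = 0 ↔ IsRelPrime f g :=
  PDg.main n m f g hf hg hn hm hf0 hg0

end Groth.Agent.S10840
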