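import Groth.Statements.S10841
import Mathlib
import Groth.Agent.Lib.Helper21.FlatFibreDimField
-- import your own Groth.Agent.* helpers here

set_option autoImplicit false
universe u
open CategoryTheory AlgebraicGeometry Topology
open Variety

namespace Groth.Agent.S10841

/-- Let k be a field, X an irreducible scheme of finite type over k, and f : Y → X a morphism over k
from a scheme Y of finite type over k whose image contains the generic point of X. Then dim Y ≥ dim
X. -/
theorem result (k : Type u) [Field k] {X Y : Scheme.{u}}
    (p : X ⟶ Spec (CommRingCat.of k)) (q : Y ⟶ Spec (CommRingCat.of k))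
    [LocallyOfFiniteType p] [QuasiCompact p] [LocallyOfFiniteType q] [QuasiCompact q]
    [IrreducibleSpace ↥X] (f : Y ⟶ X) (hf : f ≫ p = q)
    (hη : genericPoint ↥X ∈ Set.range f.base) :
    topologicalKrullDim ↥X ≤ topologicalKrullDim ↥Y := by
  have hlft : LocallyOfFiniteType f :=
    Groth.Agent.Lib.Helper21.FieldDim.locallyOfFiniteType_of_comp_eq q p f hf
  obtain ⟨y, hy⟩ := hη
  have h1 := Groth.Agent.Lib.Helper21.FieldDim.td_eq_add_tdR q p f hf y
  have h2 : topologicalKrullDim X = Groth.Agent.Lib.Helper21.FieldDim.td p (genericPoint X) :=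
    Groth.Agent.Lib.Helper21.FieldDim.dim_eq_td_genericPoint p
  have h3 := Groth.Agent.Lib.Helper21.FieldDim.td_le_dim q y
  rw [h2]
  refine le_trans ?_ h3
  have h4 : Groth.Agent.Lib.Helper21.FieldDim.td p (genericPoint X) ≤
      Groth.Agent.Lib.Helper21.FieldDim.td q y := by
    rw [h1, hy]
    omega
  exact_mod_cast h4

end Groth.Agent.S10841
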