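import Groth.Statements.S10842
import Mathlib.AlgebraicGeometry.AffineScheme
import Mathlib.RingTheory.IntegralClosure.IntegrallyClosed
import Mathlib.RingTheory.Localization.LocalizationLocalization
-- import your own Groth.Agent.* helpers here

set_option autoImplicit false
universe u
open CategoryTheory AlgebraicGeometry
open Variety

namespace Groth.Agent.S10842

/-- Normality of a stalk passes to generalizations. -/
theorem normal_stalk_of_specializes (X : Scheme.{u}) {x y : X} (h : x ⤳ y)
    (hy : IsDomain (X.presheaf.stalk y) ∧ IsIntegrallyClosed (X.presheaf.stalk y)) :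
    IsDomain (X.presheaf.stalk x) ∧ IsIntegrallyClosed (X.presheaf.stalk x) := by
  obtain ⟨hyd, hyc⟩ := hy
  obtain ⟨U, hU, hyU, -⟩ := exists_isAffineOpen_mem_and_subset (U := ⊤) (x := y) (by simp)
  have hxU : x ∈ U := h.mem_open U.isOpen hyU
  let R := Γ(X, U)
  let algy : Algebra R (X.presheaf.stalk y) := X.presheaf.algebra_section_stalk ⟨y, hyU⟩
  let algx : Algebra R (X.presheaf.stalk x) := X.presheaf.algebra_section_stalk ⟨x, hxU⟩
  let algyx : Algebra (X.presheaf.stalk y) (X.presheaf.stalk x) :=
    (X.presheaf.stalkSpecializes h).hom.toAlgebra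
  have tower : IsScalarTower R (X.presheaf.stalk y) (X.presheaf.stalk x) := by
    refine IsScalarTower.of_algebraMap_eq' ?_
    change (X.presheaf.germ U x hxU).hom =
      (X.presheaf.stalkSpecializes h).hom.comp (X.presheaf.germ U y hyU).hom
    rw [← CommRingCat.hom_comp, TopCat.Presheaf.germ_stalkSpecializes]
  let py := (hU.primeIdealOf ⟨y, hyU⟩).asIdeal
  let px := (hU.primeIdealOf ⟨x, hxU⟩).asIdeal
  have locy : IsLocalization.AtPrime (X.presheaf.stalk y) py := hU.isLocalization_stalk ⟨y, hyU⟩
  have locx : IsLocalization.AtPrime (X.presheaf.stalk x) px := hU.isLocalization_stalk ⟨x, hxU⟩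
  have hle : py.primeCompl ≤ px.primeCompl := by
    intro r hr
    have h1 : IsUnit (algebraMap R (X.presheaf.stalk y) r) :=
      (IsLocalization.AtPrime.isUnit_to_map_iff (X.presheaf.stalk y) py r).mpr hr
    have h2 : IsUnit (algebraMap R (X.presheaf.stalk x) r) := by
      rw [IsScalarTower.algebraMap_apply R (X.presheaf.stalk y) (X.presheaf.stalk x)]
      exact h1.map _
    exact (IsLocalization.AtPrime.isUnit_to_map_iff (X.presheaf.stalk x) px r).mp h2
  have loc : IsLocalization (px.primeCompl.map (algebraMap R (X.presheaf.stalk y)))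
      (X.presheaf.stalk x) :=
    IsLocalization.isLocalization_of_submonoid_le (X.presheaf.stalk y) (X.presheaf.stalk x)
      py.primeCompl px.primeCompl hle
  have hN : px.primeCompl.map (algebraMap R (X.presheaf.stalk y)) ≤
      nonZeroDivisors (X.presheaf.stalk y) := by
    rintro n ⟨r, hr, rfl⟩
    apply mem_nonZeroDivisors_of_ne_zero
    intro h0
    have h2 : IsUnit (algebraMap R (X.presheaf.stalk x) r) :=
      (IsLocalization.AtPrime.isUnit_to_map_iff (X.presheaf.stalk x) px r).mpr hr
    rw [IsScalarTower.algebraMap_apply R (X.presheaf.stalk y) (X.presheaf.stalk x)] at h2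
    have h0' : (algebraMap R (X.presheaf.stalk y)) r = 0 := h0
    rw [h0', map_zero] at h2
    exact not_isUnit_zero h2
  exact ⟨IsLocalization.isDomain_of_le_nonZeroDivisors (X.presheaf.stalk x) hN,
    isIntegrallyClosed_of_isLocalization (X.presheaf.stalk x) _ hN⟩

/-- A quasi-compact scheme whose local rings at all closed points are integrally closed domains is
normal, i.e. all of its local rings are integrally closed domains. -/
theorem result (X : Scheme.{u}) [CompactSpace ↥X]
    (h : ∀ x : X, IsClosed ({x} : Set X) →
      IsDomain (X.presheaf.stalk x) ∧ IsIntegrallyClosed (X.presheaf.stalk x)) :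
    Pi1.IsNormalScheme X := by
  intro x
  obtain ⟨y, hy, hyc⟩ := IsClosed.exists_closed_singleton (isClosed_closure (s := ({x} : Set X)))
    ⟨x, subset_closure rfl⟩
  have hxy : x ⤳ y := specializes_iff_mem_closure.mpr hy
  exact normal_stalk_of_specializes X hxy (h y hyc)

end Groth.Agent.S10842
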