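import Groth.Statements.S10844
import Groth.Agent.Lib.QCoh.Helper18_PullbackSupport
import Groth.Agent.Lib.QCoh.Helper18_Ass
import Groth.Agent.Lib.QCoh.Coherent

set_option autoImplicit false
universe u
open RepF

namespace Groth.Agent.S10844

open AlgebraicGeometry CategoryTheory in
/-- For a scheme S and a homomorphism v : E → F of quasi-coherent O_S-modules with F of finite type,
there is an open subscheme U of S such that a morphism of schemes f : T → S factors through U (its
image lies in U) if and only if the pulled-back homomorphism f^*v : f^*E → f^*F is an epimorphism. -/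
theorem result {S : Scheme.{u}} {E F : S.Modules}
    [Coh.IsQCoh E] [Coh.IsQCoh F] (hF : CohB1.IsFT F) (v : E ⟶ F) :
    ∃ U : S.Opens, ∀ (T : Scheme.{u}) (f : T ⟶ S),
      Set.range f.base ⊆ (U : Set S) ↔ Epi ((Scheme.Modules.pullback f).map v) := by
  have hE : E.IsQuasicoherent := ‹Coh.IsQCoh E›
  have hFq : F.IsQuasicoherent := ‹Coh.IsQCoh F›
  have hFt : F.IsFiniteType := hF
  have hCq : (CategoryTheory.Limits.cokernel v).IsQuasicoherent :=
    Groth.Agent.Lib.QCoh.isQuasicoherent_cokernel v
  have hCt : (CategoryTheory.Limits.cokernel v).IsFiniteType :=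
    Groth.Agent.Lib.QCoh.isFiniteType_of_epi (CategoryTheory.Limits.cokernel.π v)
  have hcl : IsClosed (CohB1.support (CategoryTheory.Limits.cokernel v)) :=
    Groth.Agent.Lib.QCoh.isClosed_support_of_isFT _ hCt
  refine ⟨⟨(CohB1.support (CategoryTheory.Limits.cokernel v))ᶜ, hcl.isOpen_compl⟩, fun T f => ?_⟩
  have hpres : CategoryTheory.Limits.PreservesColimitsOfSize.{0, 0}
      (AlgebraicGeometry.Scheme.Modules.pullback f) :=
    (AlgebraicGeometry.Scheme.Modules.pullbackPushforwardAdjunction f).leftAdjoint_preservesColimits
  have h1 : CategoryTheory.Epi ((AlgebraicGeometry.Scheme.Modules.pullback f).map v) ↔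
      CategoryTheory.Limits.IsZero ((AlgebraicGeometry.Scheme.Modules.pullback f).obj
        (CategoryTheory.Limits.cokernel v)) := by
    have e := CategoryTheory.Limits.PreservesCokernel.iso
      (AlgebraicGeometry.Scheme.Modules.pullback f) v
    constructor
    · intro h
      exact (CategoryTheory.Limits.isZero_cokernel_of_epi _).of_iso e
    · intro h
      exact CategoryTheory.Preadditive.epi_of_isZero_cokernel _ (h.of_iso e.symm)
  rw [h1, Groth.Agent.Lib.QCoh.isZero_iff_forall_stalk_subsingleton]
  have hs := Groth.Agent.Lib.QCoh.support_pullback f (CategoryTheory.Limits.cokernel v)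
  constructor
  · intro hr x
    by_contra hx
    have hx' : x ∈ CohB1.support ((AlgebraicGeometry.Scheme.Modules.pullback f).obj
        (CategoryTheory.Limits.cokernel v)) := hx
    rw [hs] at hx'
    exact hr ⟨x, rfl⟩ hx'
  · rintro h y ⟨x, rfl⟩ hy
    have hx' : x ∈ CohB1.support ((AlgebraicGeometry.Scheme.Modules.pullback f).obj
        (CategoryTheory.Limits.cokernel v)) := by
      rw [hs]
      exact hy
    exact hx' (h x)

end Groth.Agent.S10844
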