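import Groth.Statements.S10849
import Mathlib
-- import your own Groth.Agent.* helpers here

set_option autoImplicit false
universe u
open VbP1

namespace Groth.Agent.S10849

open scoped Polynomial LaurentPolynomial
open Matrix

section helpers
variable (k : Type u) [Field k]

/-- the substitution `T ↦ T⁻¹` on polynomials -/
noncomputable def phi : k[X] →+* k[T;T⁻¹] :=
  ((LaurentPolynomial.invert (R := k)).toRingEquiv.toRingHom).comp Polynomial.toLaurent

theorem phi_apply (p : k[X]) :
    phi k p = LaurentPolynomial.invert (Polynomial.toLaurent p) := rfl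

theorem isUnit_of_mul_eq_X_pow (g : k[X]) (hg : g.coeff 0 ≠ 0) :
    ∀ (m : ℕ) (h : k[X]), g * h = Polynomial.X ^ m → IsUnit g := by
  intro m
  induction m with
  | zero => intro h hh; rw [pow_zero] at hh; exact IsUnit.of_mul_eq_one h hh
  | succ m ih =>
    intro h hh
    have hX : (Polynomial.X : k[X]) ∣ g * h := ⟨Polynomial.X ^ m, by rw [hh, pow_succ, mul_comm]⟩
    rcases (Polynomial.prime_X).dvd_or_dvd hX with h1 | h1
    · exact absurd (Polynomial.X_dvd_iff.mp h1) hg
    · obtain ⟨h2, rfl⟩ := h1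
      apply ih h2
      have : g * h2 * Polynomial.X = Polynomial.X ^ m * Polynomial.X := by
        rw [← pow_succ, ← hh]; ring
      exact mul_right_cancel₀ Polynomial.X_ne_zero this

theorem step (n : ℕ) (M : Matrix (Fin n) (Fin n) k[T;T⁻¹])
    (P Q : Matrix (Fin n) (Fin n) k[X]) (e : Fin n → ℤ)
    (hP : IsUnit P) (hQ : Q.det ≠ 0) (h0 : (Q.det).eval 0 = 0)
    (hM : M * P.map Polynomial.toLaurent
      = Q.map (phi k) * diagonal (fun i => LaurentPolynomial.T (e i))) :
    ∃ (P' Q' : Matrix (Fin n) (Fin n) k[X]) (e' : Fin n → ℤ),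
      IsUnit P' ∧ Q'.det ≠ 0 ∧ Q'.det.natDegree + 1 = Q.det.natDegree ∧
      M * P'.map Polynomial.toLaurent
        = Q'.map (phi k) * diagonal (fun i => LaurentPolynomial.T (e' i)) := by
  classical
  have hdet0 : (Q.map (Polynomial.evalRingHom (0 : k))).det = 0 := by
    rw [← RingHom.mapMatrix_apply, ← RingHom.map_det]
    simpa using h0
  obtain ⟨c, hc0, hc⟩ := Matrix.exists_mulVec_eq_zero_iff.mpr hdet0
  have hS : (Finset.univ.filter (fun i => c i ≠ 0)).Nonempty := by
    by_contra hne
    rw [Finset.not_nonempty_iff_eq_empty] at hne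
    apply hc0
    funext i
    by_contra hi
    have : i ∈ Finset.univ.filter (fun i => c i ≠ 0) := by simpa using hi
    rw [hne] at this
    simp at this
  obtain ⟨i0, hi0S, hmax⟩ := Finset.exists_max_image _ e hS
  have hci0 : c i0 ≠ 0 := by simpa using hi0S
  have hmax' : ∀ i, c i ≠ 0 → e i ≤ e i0 := fun i hi => hmax i (by simpa using hi)
  obtain ⟨w, hw⟩ : ∃ w : Fin n → k[X],
      w = fun i => Polynomial.C (c i) * Polynomial.X ^ (e i0 - e i).toNat := ⟨_, rfl⟩
  obtain ⟨E, hE⟩ : ∃ E : Matrix (Fin n) (Fin n) k[X],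
      E = (1 : Matrix (Fin n) (Fin n) k[X]).updateCol i0 w := ⟨_, rfl⟩
  obtain ⟨Cm, hCm⟩ : ∃ Cm : Matrix (Fin n) (Fin n) k[X],
      Cm = (1 : Matrix (Fin n) (Fin n) k[X]).updateCol i0 (fun i => Polynomial.C (c i)) :=
    ⟨_, rfl⟩
  obtain ⟨Δ, hΔ⟩ : ∃ Δ : Matrix (Fin n) (Fin n) k[X],
      Δ = diagonal (fun j => if j = i0 then Polynomial.X else 1) := ⟨_, rfl⟩
  obtain ⟨Q', hQ'⟩ : ∃ Q' : Matrix (Fin n) (Fin n) k[X],
      Q' = Matrix.of (fun i j => if j = i0 then Polynomial.divX ((Q * Cm) i i0) else Q i j) :=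
    ⟨_, rfl⟩
  have hdetE : E.det = Polynomial.C (c i0) := by
    rw [hE, ← Matrix.cramer_apply, Matrix.cramer_one, hw]
    simp
  have hdetC : Cm.det = Polynomial.C (c i0) := by
    rw [hCm, ← Matrix.cramer_apply, Matrix.cramer_one]
    simp
  have hQC : Q * Cm = Q' * Δ := by
    refine Matrix.ext fun i j => ?_
    rw [hΔ, Matrix.mul_diagonal]
    by_cases hj : j = i0
    · subst hj
      simp only [hQ', Matrix.of_apply, if_true]
      have hcoeff : ((Q * Cm) i j).coeff 0 = 0 := by
        rw [Matrix.mul_apply]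
        simp only [hCm, Matrix.updateCol_self]
        rw [Polynomial.finsetSum_coeff]
        have := congrFun hc i
        simp only [Matrix.mulVec, dotProduct, Matrix.map_apply, Pi.zero_apply] at this
        rw [← this]
        apply Finset.sum_congr rfl
        intro l _
        rw [Polynomial.mul_coeff_zero, Polynomial.coeff_C_zero,
          Polynomial.coeff_zero_eq_eval_zero]
        rfl
      have := Polynomial.divX_mul_X_add ((Q * Cm) i j)
      rw [hcoeff, map_zero, add_zero] at this
      exact this.symm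
    · simp only [hQ', Matrix.of_apply, if_neg hj, mul_one]
      rw [Matrix.mul_apply]
      have : ∀ l, Cm l j = (1 : Matrix (Fin n) (Fin n) k[X]) l j := fun l => by
        rw [hCm, Matrix.updateCol_ne hj]
      simp only [this]
      rw [← Matrix.mul_apply, Matrix.mul_one]
  have hdetQ : Q.det * Polynomial.C (c i0) = Q'.det * Polynomial.X := by
    have := congrArg Matrix.det hQC
    rw [Matrix.det_mul, Matrix.det_mul, hdetC, hΔ, Matrix.det_diagonal] at this
    rw [this]
    congr 1
    simp
  have hQ'ne : Q'.det ≠ 0 := by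
    intro h
    rw [h, zero_mul] at hdetQ
    exact mul_ne_zero hQ (Polynomial.C_ne_zero.mpr hci0) hdetQ
  have key1 : diagonal (fun i => (LaurentPolynomial.T (e i) : k[T;T⁻¹]))
        * E.map Polynomial.toLaurent
      = Cm.map (phi k) * diagonal (fun i => LaurentPolynomial.T (e i)) := by
    refine Matrix.ext fun i j => ?_
    rw [Matrix.diagonal_mul, Matrix.mul_diagonal, Matrix.map_apply, Matrix.map_apply]
    by_cases hj : j = i0
    · subst hj
      rw [hE, hCm, Matrix.updateCol_self, Matrix.updateCol_self, hw]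
      simp only [phi_apply, Polynomial.toLaurent_C_mul_X_pow, Polynomial.toLaurent_C,
        LaurentPolynomial.invert_C]
      by_cases hci : c i = 0
      · simp [hci]
      · have hle := hmax' i hci
        have h1 : ((e j - e i).toNat : ℤ) = e j - e i := Int.toNat_of_nonneg (by omega)
        rw [h1, ← mul_assoc, mul_comm (LaurentPolynomial.T (e i)), mul_assoc,
          ← LaurentPolynomial.T_add]
        congr 2
        ring
    · rw [hE, hCm, Matrix.updateCol_ne hj, Matrix.updateCol_ne hj]
      by_cases hij : i = j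
      · subst hij
        simp [phi_apply]
      · simp [Matrix.one_apply_ne hij]
  have key2 : Δ.map (phi k) * diagonal (fun i => (LaurentPolynomial.T (e i) : k[T;T⁻¹]))
      = diagonal (fun i => LaurentPolynomial.T (Function.update e i0 (e i0 - 1) i)) := by
    rw [hΔ, Matrix.diagonal_map (map_zero _), Matrix.diagonal_mul_diagonal]
    congr 1
    funext j
    by_cases hj : j = i0
    · subst hj
      simp only [if_true, Function.update_self, phi_apply, Polynomial.toLaurent_X,
        LaurentPolynomial.invert_T]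
      rw [← LaurentPolynomial.T_add]
      congr 1
      ring
    · simp only [if_neg hj, Function.update_of_ne hj, map_one, one_mul]
  refine ⟨P * E, Q', Function.update e i0 (e i0 - 1), ?_, hQ'ne, ?_, ?_⟩
  · refine hP.mul ((Matrix.isUnit_iff_isUnit_det E).mpr ?_)
    rw [hdetE]
    exact Polynomial.isUnit_C.mpr (IsUnit.mk0 _ hci0)
  · have h1 := congrArg Polynomial.natDegree hdetQ
    rw [Polynomial.natDegree_mul_C hci0, Polynomial.natDegree_mul_X hQ'ne] at h1
    exact h1.symm
  · rw [Matrix.map_mul, ← Matrix.mul_assoc, hM, Matrix.mul_assoc, key1, ← Matrix.mul_assoc,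
      ← Matrix.map_mul, hQC, Matrix.map_mul, Matrix.mul_assoc, key2]

theorem reduce (n : ℕ) (M : Matrix (Fin n) (Fin n) k[T;T⁻¹]) :
    ∀ (N : ℕ) (P Q : Matrix (Fin n) (Fin n) k[X]) (e : Fin n → ℤ),
      IsUnit P → Q.det ≠ 0 → Q.det.natDegree = N →
      M * P.map Polynomial.toLaurent
        = Q.map (phi k) * diagonal (fun i => LaurentPolynomial.T (e i)) →
      ∃ (P' Q' : Matrix (Fin n) (Fin n) k[X]) (e' : Fin n → ℤ),
        IsUnit P' ∧ (Q'.det).eval 0 ≠ 0 ∧
        M * P'.map Polynomial.toLaurent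
          = Q'.map (phi k) * diagonal (fun i => LaurentPolynomial.T (e' i)) := by
  intro N
  induction N with
  | zero =>
    intro P Q e hP hQ hN hM
    by_cases h0 : (Q.det).eval 0 = 0
    · obtain ⟨P', Q', e', hP', hQ', hdeg, hM'⟩ := step k n M P Q e hP hQ h0 hM
      omega
    · exact ⟨P, Q, e, hP, h0, hM⟩
  | succ N ih =>
    intro P Q e hP hQ hN hM
    by_cases h0 : (Q.det).eval 0 = 0
    · obtain ⟨P', Q', e', hP', hQ', hdeg, hM'⟩ := step k n M P Q e hP hQ h0 hM
      exact ih P' Q' e' hP' hQ' (by omega) hM'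
    · exact ⟨P, Q, e, hP, h0, hM⟩

end helpers

/-- Let k be a field and n a natural number. For every invertible n × n matrix A with entries in the
Laurent polynomial ring k[T, T⁻¹] there are matrices P and Q over k[T], invertible over k[T], and
integers d_1 ≥ d_2 ≥ … ≥ d_n (indexed by Fin n, antitone) such that A = P · diag(T^{d_i}) · Q⁻,
where Q⁻ is obtained from Q by the substitution T ↦ T⁻¹ (so Q⁻ is invertible over k[T⁻¹]). -/
theorem result (k : Type u) [Field k] (n : ℕ)
    (A : Matrix (Fin n) (Fin n) (LaurentPolynomial k)) (hA : IsUnit A) :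
    ∃ (P Q : Matrix (Fin n) (Fin n) (Polynomial k)) (d : Fin n → ℤ),
      IsUnit P ∧ IsUnit Q ∧ Antitone d ∧
        A = P.map Polynomial.toLaurent * Matrix.diagonal (fun i => LaurentPolynomial.T (d i)) *
          (Q.map Polynomial.toLaurent).map LaurentPolynomial.invert := by
  classical
  obtain ⟨M, hAM, hMA⟩ : ∃ M, A * M = 1 ∧ M * A = 1 :=
    ⟨(↑hA.unit⁻¹ : Matrix (Fin n) (Fin n) (LaurentPolynomial k)), hA.mul_val_inv, hA.val_inv_mul⟩
  have hMunit : IsUnit M := ⟨⟨M, A, hMA, hAM⟩, rfl⟩
  choose nn ff hff using fun i j =>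
    LaurentPolynomial.exists_T_pow (LaurentPolynomial.invert (M i j))
  obtain ⟨N0, hN0⟩ : ∃ N0 : ℕ, N0 = Finset.univ.sup (fun p : Fin n × Fin n => nn p.1 p.2) :=
    ⟨_, rfl⟩
  have hle : ∀ i j, nn i j ≤ N0 := fun i j => by
    rw [hN0]
    exact Finset.le_sup (f := fun p : Fin n × Fin n => nn p.1 p.2) (Finset.mem_univ (i, j))
  obtain ⟨Q0, hQ0⟩ : ∃ Q0 : Matrix (Fin n) (Fin n) (Polynomial k),
      Q0 = Matrix.of (fun i j => ff i j * Polynomial.X ^ (N0 - nn i j)) := ⟨_, rfl⟩
  have hM0 : M * (1 : Matrix (Fin n) (Fin n) (Polynomial k)).map Polynomial.toLaurent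
      = Q0.map (phi k) * Matrix.diagonal (fun _ => LaurentPolynomial.T (N0 : ℤ)) := by
    rw [Matrix.map_one _ (map_zero _) (map_one _), Matrix.mul_one]
    refine Matrix.ext fun i j => ?_
    rw [Matrix.mul_diagonal, Matrix.map_apply, hQ0, Matrix.of_apply, phi_apply]
    have h1 : Polynomial.toLaurent (ff i j * Polynomial.X ^ (N0 - nn i j))
        = LaurentPolynomial.invert (M i j) * LaurentPolynomial.T (N0 : ℤ) := by
      rw [map_mul, hff, Polynomial.toLaurent_X_pow, mul_assoc, ← LaurentPolynomial.T_add]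
      congr 2
      have := hle i j
      omega
    rw [h1, map_mul, LaurentPolynomial.involutive_invert, LaurentPolynomial.invert_T, mul_assoc,
      ← LaurentPolynomial.T_add, neg_add_cancel, LaurentPolynomial.T_zero, mul_one]
  have hQ0det : Q0.det ≠ 0 := by
    intro h
    have h2 := congrArg Matrix.det hM0
    rw [Matrix.map_one _ (map_zero _) (map_one _), Matrix.mul_one, Matrix.det_mul,
      ← RingHom.mapMatrix_apply, ← RingHom.map_det, h, map_zero, zero_mul] at h2
    exact ((Matrix.isUnit_iff_isUnit_det M).mp hMunit).ne_zero h2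
  obtain ⟨P', Q', e', hP', hQ'0, hM'⟩ :=
    reduce k n M _ 1 Q0 (fun _ => (N0 : ℤ)) isUnit_one hQ0det rfl hM0
  have hQ'unit : IsUnit Q'.det := by
    have e1 : (P'.map Polynomial.toLaurent).det = Polynomial.toLaurent P'.det := by
      rw [RingHom.map_det, RingHom.mapMatrix_apply]
    have e2 : (Q'.map (phi k)).det = phi k Q'.det := by
      rw [RingHom.map_det, RingHom.mapMatrix_apply]
    have h2 := congrArg Matrix.det hM'
    rw [Matrix.det_mul, Matrix.det_mul, e1, e2] at h2
    have hu : IsUnit (M.det * Polynomial.toLaurent P'.det) :=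
      ((Matrix.isUnit_iff_isUnit_det M).mp hMunit).mul
        (((Matrix.isUnit_iff_isUnit_det P').mp hP').map _)
    rw [h2] at hu
    have hu2 : IsUnit (phi k Q'.det) := isUnit_of_mul_isUnit_left hu
    have hu3 : IsUnit (Polynomial.toLaurent Q'.det) := by
      have := hu2.map (LaurentPolynomial.invert (R := k))
      rwa [phi_apply, LaurentPolynomial.involutive_invert] at this
    obtain ⟨h, hh⟩ := hu3.exists_right_inv
    obtain ⟨m, h', hh'⟩ := LaurentPolynomial.exists_T_pow h
    apply isUnit_of_mul_eq_X_pow k Q'.det (by rwa [Polynomial.coeff_zero_eq_eval_zero]) m h'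
    apply Polynomial.toLaurent_injective
    rw [map_mul, hh', ← mul_assoc, hh, one_mul, Polynomial.toLaurent_X_pow]
  have hQ'U : IsUnit Q' := (Matrix.isUnit_iff_isUnit_det Q').mpr hQ'unit
  obtain ⟨Qi, hQQi, hQiQ⟩ : ∃ Qi, Q' * Qi = 1 ∧ Qi * Q' = 1 :=
    ⟨(↑hQ'U.unit⁻¹ : Matrix (Fin n) (Fin n) (Polynomial k)), hQ'U.mul_val_inv, hQ'U.val_inv_mul⟩
  have hQiU : IsUnit Qi := ⟨⟨Qi, Q', hQiQ, hQQi⟩, rfl⟩
  have hfact : A = P'.map Polynomial.toLaurent
      * Matrix.diagonal (fun i => LaurentPolynomial.T (-e' i)) * Qi.map (phi k) := by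
    have h1 : P'.map Polynomial.toLaurent
        = A * (Q'.map (phi k) * Matrix.diagonal (fun i => LaurentPolynomial.T (e' i))) := by
      rw [← hM', ← Matrix.mul_assoc, hAM, Matrix.one_mul]
    have h2 : Matrix.diagonal (fun i => (LaurentPolynomial.T (e' i) : LaurentPolynomial k))
        * Matrix.diagonal (fun i => LaurentPolynomial.T (-e' i)) = 1 := by
      rw [Matrix.diagonal_mul_diagonal]
      have : (fun i => (LaurentPolynomial.T (e' i) : LaurentPolynomial k)
          * LaurentPolynomial.T (-e' i)) = fun _ => 1 := by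
        funext i
        rw [← LaurentPolynomial.T_add, add_neg_cancel, LaurentPolynomial.T_zero]
      rw [this, Matrix.diagonal_one]
    have h3 : Q'.map (phi k) * Qi.map (phi k) = 1 := by
      rw [← Matrix.map_mul, hQQi, Matrix.map_one _ (map_zero _) (map_one _)]
    rw [h1]
    calc A = A * (Q'.map (phi k) * (Matrix.diagonal
              (fun i => (LaurentPolynomial.T (e' i) : LaurentPolynomial k))
              * Matrix.diagonal (fun i => LaurentPolynomial.T (-e' i))) * Qi.map (phi k)) := by
            rw [h2, Matrix.mul_one, h3, Matrix.mul_one]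
      _ = _ := by simp only [Matrix.mul_assoc]
  obtain ⟨σ, hσ⟩ : ∃ σ : Equiv.Perm (Fin n), σ = Tuple.sort e' := ⟨_, rfl⟩
  have hmono : Monotone (e' ∘ σ) := by rw [hσ]; exact Tuple.monotone_sort e'
  refine ⟨P'.submatrix id σ, Qi.submatrix σ id, fun i => -e' (σ i), ?_, ?_, ?_, ?_⟩
  · exact (Matrix.isUnit_submatrix_equiv (Equiv.refl _) σ).mpr hP'
  · exact (Matrix.isUnit_submatrix_equiv σ (Equiv.refl _)).mpr hQiU
  · intro i j hij
    simp only [neg_le_neg_iff]
    exact hmono hij
  · refine hfact.trans ?_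
    have e1 : (P'.submatrix id σ).map Polynomial.toLaurent
        = (P'.map Polynomial.toLaurent).submatrix id σ := rfl
    have e2 : ((Qi.submatrix σ id).map Polynomial.toLaurent).map LaurentPolynomial.invert
        = (Qi.map (phi k)).submatrix σ id := rfl
    have e3 : Matrix.diagonal (fun i => (LaurentPolynomial.T (-e' (σ i)) : LaurentPolynomial k))
        = (Matrix.diagonal (fun i => LaurentPolynomial.T (-e' i))).submatrix σ σ := by
      rw [Matrix.submatrix_diagonal_equiv]
      rfl
    rw [e1, e2, e3, Matrix.submatrix_mul_equiv, Matrix.submatrix_mul_equiv,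
      Matrix.submatrix_id_id]

end Groth.Agent.S10849
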