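import Groth.Statements.S10850
import Groth.Agent.Lib.Helper38.AutH

set_option autoImplicit false
universe u
open ProjAut

namespace Groth.Agent.S10850

open AlgebraicGeometry CategoryTheory in
/-- Let k be a field and n a natural number. There is a surjective group homomorphism from GL_{n+1}(k)
onto the group of automorphisms of projective n-space P^n_k over Spec k whose kernel is the subgroup
of invertible scalar matrices; so the automorphism group of P^n_k over k is isomorphic to
PGL_{n+1}(k). (Only the existence of a surjective homomorphism with this kernel is asserted here;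
the published statement is about the homomorphism induced by linear substitutions of the homogeneous
coordinates.) -/
theorem result
    (k : Type u) [Field k] (n : ℕ) :
    ∃ φ : Matrix.GeneralLinearGroup (Fin (n + 1)) k →* Aut (Over.mk (CohB1.ProjSpace.toSpec n k)),
      Function.Surjective φ ∧
        φ.ker = (Units.map (Matrix.scalar (Fin (n + 1)) : k →+* Matrix (Fin (n + 1)) (Fin (n + 1)) k).toMonoidHom).range := by
  classical
  refine ⟨Groth.Agent.Lib.Helper38.AutB.phi k n, ?_, ?_⟩
  · intro e
    have hgh : e.hom.left ≫ e.inv.left = 𝟙 _ := by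
      rw [← Over.comp_left, e.hom_inv_id]; rfl
    have hg : e.hom.left ≫ CohB1.ProjSpace.toSpec n k = CohB1.ProjSpace.toSpec n k := Over.w e.hom
    obtain ⟨A, hA⟩ : ∃ A : Matrix.GeneralLinearGroup (Fin (n + 1)) k,
        e.hom.left = Groth.Agent.Lib.Helper38.AutB.pmap k n A := by
      rcases Nat.eq_zero_or_pos n with rfl | hn
      · exact ⟨1, Groth.Agent.Lib.Helper38.AutG.eq_pmap_one_of_zero k _ hg⟩
      · exact Groth.Agent.Lib.Helper38.AutG.exists_pmap_eq k n hn _ _ hgh hg
    refine ⟨A, ?_⟩
    apply Iso.ext
    apply Over.OverMorphism.ext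
    exact hA.symm
  · ext A
    rw [MonoidHom.mem_ker, Groth.Agent.Lib.Helper38.AutB.phi_eq_one_iff, MonoidHom.mem_range]
    constructor
    · intro h
      obtain ⟨r, hr⟩ := Groth.Agent.Lib.Helper38.AutB.exists_scalar_of_pmap_eq_id k n A h
      have hr0 : r ≠ 0 := by
        rintro rfl
        have h1 : (A : Matrix (Fin (n + 1)) (Fin (n + 1)) k) = 0 := by rw [hr]; simp
        have h2 := A.isUnit
        rw [h1] at h2
        exact not_isUnit_zero h2
      refine ⟨Units.mk0 r hr0, Units.ext ?_⟩
      rw [Units.coe_map]
      exact hr.symm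
    · rintro ⟨c, rfl⟩
      exact Groth.Agent.Lib.Helper38.AutD.pmap_scalar k n _ c.val (by rw [Units.coe_map]; rfl)

end Groth.Agent.S10850
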