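import Groth.Statements.S10851
import Mathlib.RingTheory.KrullDimension.Zero
-- import your own Groth.Agent.* helpers here

set_option autoImplicit false
universe u
open Mero

namespace Groth.Agent.S10851

open AlgebraicGeometry in
/-- Let X be a locally Noetherian scheme and D a divisor on X (a global section of K_X^×/O_X^×). Then
the support of D has codimension at least 1 in X: for every point z at which the germ of D is
non-trivial, the local ring O_{X,z} has Krull dimension at least 1. -/
theorem result {X : Scheme.{u}} [IsLocallyNoetherian X]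
    (D : Mero.Divisor X) (z : X) (hz : z ∈ Mero.supp D) :
    (1 : WithBot ℕ∞) ≤ ringKrullDim (X.presheaf.stalk z) := by
  by_contra hlt
  apply hz
  have hdim : Ring.KrullDimLE 0 (X.presheaf.stalk z) := by
    rw [Ring.krullDimLE_iff]
    rw [not_le] at hlt
    generalize ringKrullDim (X.presheaf.stalk z) = d at hlt ⊢
    induction d using WithBot.recBotCoe with
    | bot => exact bot_le
    | coe m =>
      have h1 : m < 1 := by exact_mod_cast hlt
      have h2 : m = 0 := Order.lt_one_iff.mp h1
      subst h2
      rfl
  have hunits : Mero.regStalk X z ≤ IsUnit.submonoid (X.presheaf.stalk z) := by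
    intro g hg
    have hnzd := Mero.regStalk_le_nonZeroDivisors z hg
    by_contra hnu
    have hnil : IsNilpotent g := Ring.KrullDimLE.isNilpotent_iff_mem_nonunits.mpr hnu
    obtain ⟨n, hn⟩ := hnil
    have hmem : g ^ n ∈ nonZeroDivisors (X.presheaf.stalk z) := pow_mem hnzd n
    rw [hn] at hmem
    exact zero_notMem_nonZeroDivisors hmem
  let e : X.presheaf.stalk z ≃ₐ[X.presheaf.stalk z] Mero.KStalk X z :=
    IsLocalization.atUnits (X.presheaf.stalk z) (Mero.regStalk X z) hunits
  obtain ⟨u, hu⟩ := QuotientGroup.mk_surjective (D.1 z)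
  rw [← hu, QuotientGroup.eq_one_iff]
  refine ⟨Units.map (e.symm : Mero.KStalk X z →* X.presheaf.stalk z) u, ?_⟩
  ext
  simp only [Units.coe_map, MonoidHom.coe_coe, RingHom.toMonoidHom_eq_coe]
  have h1 := e.apply_symm_apply (u : Mero.KStalk X z)
  have h2 := e.commutes (e.symm (u : Mero.KStalk X z))
  rw [← h2]
  exact h1

end Groth.Agent.S10851
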