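import Groth.Statements.S10853
import Mathlib
-- import your own Groth.Agent.* helpers here

set_option autoImplicit false
universe u
open FinCond

namespace Groth.Agent.S10853

section helpers
open AlgebraicGeometry CategoryTheory Opposite TopologicalSpace

variable {X : Scheme.{u}} {R A : CommRingCat.{u}}

/-- a section whose germ at `x` vanishes restricts to zero on a neighbourhood -/
lemma exists_res_eq_zero {W : X.Opens} {x : X} (hxW : x ∈ W) (s : Γ(X, W))
    (hs : X.presheaf.germ W x hxW s = 0) :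
    ∃ (V : X.Opens) (_ : x ∈ V) (i : V ≤ W), X.presheaf.map (homOfLE i).op s = 0 := by
  have h0 : X.presheaf.germ W x hxW s = X.presheaf.germ W x hxW 0 := by rw [hs, map_zero]
  obtain ⟨V, hxV, iU, iV, h⟩ := X.presheaf.germ_eq x hxW hxW s 0 h0
  refine ⟨V, hxV, iU.le, ?_⟩
  rw [map_zero] at h
  exact h

/-- finitely many sections with vanishing germs vanish on a common neighbourhood -/
lemma exists_res_eq_zero_finset {ι : Type*} (t : Finset ι) {W : X.Opens} {x : X} (hxW : x ∈ W)
    (s : ι → Γ(X, W)) (hs : ∀ j ∈ t, X.presheaf.germ W x hxW (s j) = 0) :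
    ∃ (V : X.Opens) (_ : x ∈ V) (i : V ≤ W), ∀ j ∈ t, X.presheaf.map (homOfLE i).op (s j) = 0 := by
  classical
  induction t using Finset.induction_on with
  | empty => exact ⟨W, hxW, le_rfl, fun j hj => absurd hj (Finset.notMem_empty j)⟩
  | insert a t ha ih =>
    obtain ⟨V₁, hxV₁, i₁, h₁⟩ := ih (fun j hj => hs j (Finset.mem_insert_of_mem hj))
    obtain ⟨V₂, hxV₂, i₂, h₂⟩ := exists_res_eq_zero hxW (s a) (hs a (Finset.mem_insert_self a t))
    refine ⟨V₁ ⊓ V₂, ⟨hxV₁, hxV₂⟩, inf_le_left.trans i₁, ?_⟩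
    intro j hj
    rcases Finset.mem_insert.mp hj with rfl | hj
    · have : homOfLE (inf_le_left.trans i₁ : V₁ ⊓ V₂ ≤ W) =
          homOfLE (inf_le_right : V₁ ⊓ V₂ ≤ V₂) ≫ homOfLE i₂ := rfl
      rw [this, op_comp, X.presheaf.map_comp, CommRingCat.comp_apply, h₂, map_zero]
    · have : homOfLE (inf_le_left.trans i₁ : V₁ ⊓ V₂ ≤ W) =
          homOfLE (inf_le_left : V₁ ⊓ V₂ ≤ V₁) ≫ homOfLE i₁ := rfl
      rw [this, op_comp, X.presheaf.map_comp, CommRingCat.comp_apply, h₁ j hj, map_zero]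

/-- finitely many germs can be represented on a common neighbourhood inside `U` -/
lemma exists_sections_finite {n : ℕ} {U : X.Opens} {x : X} (hxU : x ∈ U)
    (t : Fin n → X.presheaf.stalk x) :
    ∃ (W : X.Opens) (hxW : x ∈ W) (_ : W ≤ U) (a : Fin n → Γ(X, W)),
      ∀ i, X.presheaf.germ W x hxW (a i) = t i := by
  choose W hxW a ha using fun i => X.presheaf.exists_germ_eq (t i)
  have H : x ∈ Finset.univ.inf W ⊓ U := by
    rw [← SetLike.mem_coe, TopologicalSpace.Opens.coe_inf, TopologicalSpace.Opens.coe_finset_inf]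
    exact ⟨by simpa using fun i ↦ hxW i, hxU⟩
  refine ⟨Finset.univ.inf W ⊓ U, H, inf_le_right,
    fun i => X.presheaf.map (homOfLE (inf_le_left.trans (Finset.inf_le (Finset.mem_univ i)))).op
      (a i), fun i => ?_⟩
  exact (X.presheaf.germ_res_apply _ _ _ _).trans (ha i)

lemma exists_lift_of_finitePresentation {U : X.Opens} {x : X} (hxU : x ∈ U)
    (φ : A ⟶ X.presheaf.stalk x) (φRA : R ⟶ A) (φRX : R ⟶ Γ(X, U))
    (hφRA : RingHom.FinitePresentation φRA.hom)
    (e : φRA ≫ φ = φRX ≫ X.presheaf.germ U x hxU) :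
    ∃ (V : X.Opens) (hxV : x ∈ V) (φ' : A ⟶ Γ(X, V)) (i : V ≤ U), IsAffineOpen V ∧
      φ = φ' ≫ X.presheaf.germ V x hxV ∧ φRX ≫ X.presheaf.map i.hom.op = φRA ≫ φ' := by
  let _ := φRA.hom.toAlgebra
  obtain ⟨n, f, hf, s, hs⟩ := (hφRA : Algebra.FinitePresentation R A)
  -- represent the images of the variables
  obtain ⟨W, hxW, hWU, a, ha⟩ := exists_sections_finite hxU (fun i => φ (f (MvPolynomial.X i)))
  -- the evaluation map to Γ(X, W)
  let ρ : R →+* Γ(X, W) := (φRX ≫ X.presheaf.map (homOfLE hWU).op).hom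
  let ψ₀ : MvPolynomial (Fin n) R →+* Γ(X, W) := MvPolynomial.eval₂Hom ρ a
  have hψ₀ : (X.presheaf.germ W x hxW).hom.comp ψ₀ = φ.hom.comp f.toRingHom := by
    apply MvPolynomial.ringHom_ext
    · intro r
      have h1 : ψ₀ (MvPolynomial.C r) = ρ r := MvPolynomial.eval₂Hom_C _ _ _
      have h2 : f (MvPolynomial.C r) = φRA r := f.commutes r
      have h3 := congrArg (fun g => g.hom r) e
      simp only [CommRingCat.comp_apply] at h3
      show X.presheaf.germ W x hxW (ψ₀ (MvPolynomial.C r)) = φ (f (MvPolynomial.C r))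
      rw [h1, h2, h3]
      exact X.presheaf.germ_res_apply _ _ _ _
    · intro i
      have h1 : ψ₀ (MvPolynomial.X i) = a i := MvPolynomial.eval₂Hom_X' _ _ _
      show X.presheaf.germ W x hxW (ψ₀ (MvPolynomial.X i)) = φ (f (MvPolynomial.X i))
      rw [h1, ha]
  -- generators of the kernel die on a neighbourhood
  have hgerm : ∀ g ∈ s, X.presheaf.germ W x hxW (ψ₀ g) = 0 := by
    intro g hg
    have h1 := congrArg (fun h => h g) hψ₀
    simp only [RingHom.comp_apply] at h1
    have h2 : f.toRingHom g = 0 := by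
      have : g ∈ RingHom.ker f.toRingHom := by rw [← hs]; exact Ideal.subset_span hg
      exact this
    rw [h2, map_zero] at h1
    exact h1
  obtain ⟨V₁, hxV₁, iV₁, hV₁⟩ := exists_res_eq_zero_finset s hxW (fun g => ψ₀ g) hgerm
  obtain ⟨_, ⟨V, hV, rfl⟩, hxV, iVV₁⟩ :=
    X.isBasis_affineOpens.exists_subset_of_mem_open hxV₁ V₁.2
  have iVW : V ≤ W := (show V ≤ V₁ from iVV₁).trans iV₁
  let ψ : MvPolynomial (Fin n) R →+* Γ(X, V) := (X.presheaf.map (homOfLE iVW).op).hom.comp ψ₀
  have hker : RingHom.ker f.toRingHom ≤ RingHom.ker ψ := by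
    rw [← hs, Ideal.span_le]
    intro g hg
    show ψ g = 0
    have : homOfLE iVW = homOfLE (show V ≤ V₁ from iVV₁) ≫ homOfLE iV₁ := rfl
    show X.presheaf.map (homOfLE iVW).op (ψ₀ g) = 0
    rw [this, op_comp, X.presheaf.map_comp, CommRingCat.comp_apply, hV₁ g hg, map_zero]
  let φ'₀ : A →+* Γ(X, V) := RingHom.liftOfSurjective f.toRingHom hf ⟨ψ, hker⟩
  have hφ'₀ : ∀ q, φ'₀ (f q) = ψ q := fun q =>
    RingHom.liftOfRightInverse_comp_apply _ _ _ ⟨ψ, hker⟩ q
  refine ⟨V, hxV, CommRingCat.ofHom φ'₀, iVW.trans hWU, hV, ?_, ?_⟩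
  · ext b
    obtain ⟨q, rfl⟩ := hf b
    show φ (f q) = X.presheaf.germ V x hxV (φ'₀ (f q))
    rw [hφ'₀]
    have h1 := congrArg (fun h => h q) hψ₀
    simp only [RingHom.comp_apply] at h1
    show φ (f q) = X.presheaf.germ V x hxV (X.presheaf.map (homOfLE iVW).op (ψ₀ q))
    rw [X.presheaf.germ_res_apply]
    exact h1.symm
  · ext r
    show X.presheaf.map (iVW.trans hWU).hom.op (φRX r) = φ'₀ (φRA r)
    have h2 : f (MvPolynomial.C r) = φRA r := f.commutes r
    rw [← h2, hφ'₀]
    show _ = X.presheaf.map (homOfLE iVW).op (ψ₀ (MvPolynomial.C r))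
    have h1 : ψ₀ (MvPolynomial.C r) = ρ r := MvPolynomial.eval₂Hom_C _ _ _
    rw [h1]
    show _ = X.presheaf.map (homOfLE iVW).op (X.presheaf.map (homOfLE hWU).op (φRX r))
    have hcomp : X.presheaf.map (iVW.trans hWU).hom.op =
        X.presheaf.map (homOfLE hWU).op ≫ X.presheaf.map (homOfLE iVW).op := by
      rw [← X.presheaf.map_comp]; rfl
    rw [hcomp]
    rfl


end helpers

set_option backward.isDefEq.respectTransparency.types false in
open AlgebraicGeometry CategoryTheory in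
/-- Let S be a scheme, X an S-scheme and Y an S-scheme locally of finite presentation over S. Let x be a
point of X and y a point of Y over the same point of S, and let φ : O_{Y,y} → O_{X,x} be a local
homomorphism compatible with the two homomorphisms from the local ring of S. Then there exist an
open neighbourhood U of x and an S-morphism U → Y whose composite with the canonical morphism Spec
O_{X,x} → U equals Spec φ followed by the canonical morphism Spec O_{Y,y} → Y (so it sends x to y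
and induces φ on local rings). No condition is imposed on X or S. (The published statement assumes
only that Y is locally of finite presentation over S at the point y; this row assumes it
everywhere.) -/
theorem result
    {X Y S : Scheme.{u}} (sX : X ⟶ S) (sY : Y ⟶ S) [LocallyOfFinitePresentation sY]
    {x : X} {y : Y} (e : sX x = sY y)
    (φ : Y.presheaf.stalk y ⟶ X.presheaf.stalk x) [IsLocalHom φ.hom]
    (h : sY.stalkMap y ≫ φ =
      S.presheaf.stalkSpecializes (Inseparable.of_eq e).specializes ≫ sX.stalkMap x) :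
    ∃ (U : X.Opens) (hxU : x ∈ U) (f : U.toScheme ⟶ Y),
      Spec.map φ ≫ Y.fromSpecStalk y = U.fromSpecStalkOfMem x hxU ≫ f ∧
        f ≫ sY = U.ι ≫ sX := by
  obtain ⟨_, ⟨U, hU, rfl⟩, hxU, -⟩ :=
    S.isBasis_affineOpens.exists_subset_of_mem_open (Set.mem_univ (sX x)) isOpen_univ
  have hyU : sY y ∈ U := e ▸ hxU
  obtain ⟨_, ⟨V : Y.Opens, hV, rfl⟩, hyV, iVU⟩ :=
    Y.isBasis_affineOpens.exists_subset_of_mem_open hyU (sY ⁻¹ᵁ U).2
  have : sY.appLE U V iVU ≫ Y.presheaf.germ V y hyV ≫ φ =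
      sX.app U ≫ X.presheaf.germ (sX ⁻¹ᵁ U) x hxU := by
    rw [Scheme.Hom.appLE, Category.assoc, Y.presheaf.germ_res_assoc,
      ← Scheme.Hom.germ_stalkMap_assoc, h]
    simp
  obtain ⟨W, hxW, φ', i, hW, h₁, h₂⟩ :=
    exists_lift_of_finitePresentation (R := Γ(S, U)) (A := Γ(Y, V)) (U := sX ⁻¹ᵁ U) (x := x) hxU
    (Y.presheaf.germ _ y hyV ≫ φ) (sY.appLE U V iVU) (sX.app U)
    (sY.finitePresentation_appLE hU hV _) this
  refine ⟨W, hxW, W.toSpecΓ ≫ Spec.map φ' ≫ hV.fromSpec, ?_, ?_⟩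
  · rw [W.fromSpecStalkOfMem_toSpecΓ_assoc x hxW, ← Spec.map_comp_assoc, ← h₁,
      Spec.map_comp, Category.assoc, ← IsAffineOpen.fromSpecStalk,
      IsAffineOpen.fromSpecStalk_eq_fromSpecStalk]
  · simp only [Category.assoc]
    rw [← IsAffineOpen.SpecMap_appLE_fromSpec sY hU hV iVU, ← Spec.map_comp_assoc, ← h₂,
      ← Scheme.Hom.appLE, ← hW.isoSpec_hom, IsAffineOpen.SpecMap_appLE_fromSpec sX hU hW i,
      ← Iso.eq_inv_comp, IsAffineOpen.isoSpec_inv_ι_assoc]

end Groth.Agent.S10853
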