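import Groth.Statements.S9217
-- import your own Groth.Agent.* helpers here
import Mathlib
import Groth.Agent.S10853
import Groth.Agent.S4364
import Groth.Agent.S2121
import Groth.Agent.Lib.Helper67.ExtendVal
import Groth.Agent.Lib.Helper67.PseudoMor

set_option autoImplicit false
universe u
open CategoryTheory AlgebraicGeometry
open Lim

namespace Groth.Agent.S9217

open CategoryTheory.Limits

set_option backward.isDefEq.respectTransparency.types false in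
lemma spread_out' {X Y S : Scheme.{u}} (sX : X ⟶ S) (sY : Y ⟶ S)
    [LocallyOfFinitePresentation sY] {x : X}
    (φ : Spec (X.presheaf.stalk x) ⟶ Y)
    (h : φ ≫ sY = X.fromSpecStalk x ≫ sX) :
    ∃ (U : X.Opens) (hxU : x ∈ U) (f : U.toScheme ⟶ Y),
      φ = U.fromSpecStalkOfMem x hxU ≫ f ∧ f ≫ sY = U.ι ≫ sX := by
  have := Groth.Agent.S10853.result sX sY ?_ (Scheme.stalkClosedPointTo φ) ?_
  · simpa only [Scheme.Spec_stalkClosedPointTo_fromSpecStalk] using this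
  · rw [← Scheme.Hom.comp_apply, h, Scheme.Hom.comp_apply, Scheme.fromSpecStalk_closedPoint]
  · apply Spec.map_injective
    rw [← cancel_mono (S.fromSpecStalk _)]
    simpa only [Spec.map_comp, Category.assoc, Scheme.SpecMap_stalkMap_fromSpecStalk,
      Scheme.Spec_stalkClosedPointTo_fromSpecStalk_assoc,
      Scheme.SpecMap_stalkSpecializes_fromSpecStalk]

set_option backward.isDefEq.respectTransparency.types false in
lemma spread_out_unique' {X Y S : Scheme.{u}} (sX : X ⟶ S) (sY : Y ⟶ S)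
    [LocallyOfFiniteType sY] (f g : X ⟶ Y) (hf : f ≫ sY = sX) (hg : g ≫ sY = sX) {x : X}
    (e : X.fromSpecStalk x ≫ f = X.fromSpecStalk x ≫ g) :
    ∃ (U : X.Opens), x ∈ U ∧ U.ι ≫ f = U.ι ≫ g := by
  fapply Groth.Agent.S4364.result sX sY f g hf hg
  · simpa using congr($e (IsLocalRing.closedPoint _))
  · apply Spec.map_injective
    rw [← cancel_mono (Y.fromSpecStalk _)]
    simpa [Scheme.SpecMap_stalkSpecializes_fromSpecStalk]

/-- a global section vanishing on an open `O` and at the stalk of the only possible point outside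
`O` vanishes -/
lemma section_eq_zero {T : Scheme.{u}} (t : T) (O : T.Opens) (hO : ∀ z : T, z ∉ O → z = t)
    (s : Γ(T, ⊤)) (h1 : O.ι.appTop.hom s = 0)
    (h2 : (T.presheaf.germ ⊤ t trivial).hom s = 0) : s = 0 := by
  obtain ⟨N, hxN, iN, hN⟩ := Groth.Agent.S10853.exists_res_eq_zero (X := T)
    (W := ⊤) (x := t) trivial s h2
  refine T.IsSheaf.section_ext fun z hz ↦ ?_
  by_cases hzO : z ∈ O
  · have e : O.ι ''ᵁ ⊤ = O := O.ι_image_top
    exact ⟨O.ι ''ᵁ ⊤, le_top, by rw [e]; exact hzO, by rw [map_zero]; exact h1⟩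
  · refine ⟨N, iN, (hO z hzO) ▸ hxN, ?_⟩
    rw [map_zero]
    exact hN

/-- morphisms to an affine scheme agreeing on `O` and on the local scheme at `t` agree -/
lemma hom_ext_affine {T Z : Scheme.{u}} [IsAffine Z] (t : T) (O : T.Opens)
    (hO : ∀ z : T, z ∉ O → z = t) (k₁ k₂ : T ⟶ Z) (h1 : O.ι ≫ k₁ = O.ι ≫ k₂)
    (h2 : T.fromSpecStalk t ≫ k₁ = T.fromSpecStalk t ≫ k₂) : k₁ = k₂ := by
  apply ext_of_isAffine
  ext b
  rw [← sub_eq_zero]
  apply section_eq_zero t O hO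
  · have h3 := congrArg Scheme.Hom.appTop h1
    rw [Scheme.Hom.comp_appTop, Scheme.Hom.comp_appTop] at h3
    have h4 := congrArg (fun φ => φ.hom b) h3
    simp only [CommRingCat.hom_comp, RingHom.comp_apply] at h4
    rw [map_sub, sub_eq_zero]
    exact h4
  · have h4 : k₁.appTop ≫ T.presheaf.germ ⊤ t trivial = k₂.appTop ≫ T.presheaf.germ ⊤ t trivial := by
      apply Spec.map_injective
      rw [Spec.map_comp, Spec.map_comp, ← Scheme.fromSpecStalk_toSpecΓ, Category.assoc,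
        Category.assoc, ← Scheme.toSpecΓ_naturality, ← Scheme.toSpecΓ_naturality,
        ← Category.assoc, ← Category.assoc, h2]
    have h5 := congrArg (fun φ => φ.hom b) h4
    simp only [CommRingCat.hom_comp, RingHom.comp_apply] at h5
    rw [map_sub, sub_eq_zero]
    exact h5

lemma hom_ext_of_compl_point {X Z : Scheme.{u}} (x : X) (U : X.Opens)
    (hU : ∀ z : X, z ∉ U → z = x) (g₁ g₂ : X ⟶ Z) (h1 : U.ι ≫ g₁ = U.ι ≫ g₂)
    (h2 : X.fromSpecStalk x ≫ g₁ = X.fromSpecStalk x ≫ g₂) : g₁ = g₂ := by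
  apply Scheme.hom_ext_of_forall
  intro z
  by_cases hz : z ∈ U
  · exact ⟨U, hz, h1⟩
  obtain rfl := hU z hz
  have hpt : g₁ z = g₂ z := by
    have := congr($h2 (IsLocalRing.closedPoint _))
    simpa using this
  obtain ⟨_, ⟨V', hV', rfl⟩, hxV', -⟩ :=
    Z.isBasis_affineOpens.exists_subset_of_mem_open (Set.mem_univ (g₁ z)) isOpen_univ
  replace hxV' : g₁ z ∈ (V' : Z.Opens) := hxV'
  obtain ⟨V'', hV''⟩ : ∃ V'' : Z.Opens, V'' = V' := ⟨_, rfl⟩
  rw [← hV''] at hxV' hV'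
  clear hV'' V'
  rename' V'' => V'
  haveI : IsAffine (V' : Scheme.{u}) := hV'
  obtain ⟨W, hWdef⟩ : ∃ W : X.Opens, W = g₁ ⁻¹ᵁ V' ⊓ g₂ ⁻¹ᵁ V' := ⟨_, rfl⟩
  have hxW : z ∈ W := by
    rw [hWdef]
    exact ⟨hxV', by change g₂ z ∈ V'; rw [← hpt]; exact hxV'⟩
  refine ⟨W, hxW, ?_⟩
  have hWle : W ≤ g₁ ⁻¹ᵁ V' ⊓ g₂ ⁻¹ᵁ V' := hWdef.le
  obtain ⟨x', hx'⟩ : ∃ x' : (W : Scheme.{u}), W.ι x' = z := ⟨⟨z, hxW⟩, rfl⟩
  have hr₁ : Set.range (W.ι ≫ g₁) ⊆ Set.range V'.ι := by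
    rintro _ ⟨w, rfl⟩
    rw [Scheme.Opens.range_ι, Scheme.Hom.comp_apply]
    exact (hWle w.2).1
  have hr₂ : Set.range (W.ι ≫ g₂) ⊆ Set.range V'.ι := by
    rintro _ ⟨w, rfl⟩
    rw [Scheme.Opens.range_ι, Scheme.Hom.comp_apply]
    exact (hWle w.2).2
  obtain ⟨k₁, hk₁⟩ : ∃ k₁ : (W : Scheme.{u}) ⟶ V', k₁ ≫ V'.ι = W.ι ≫ g₁ :=
    ⟨IsOpenImmersion.lift V'.ι (W.ι ≫ g₁) hr₁, IsOpenImmersion.lift_fac _ _ _⟩
  obtain ⟨k₂, hk₂⟩ : ∃ k₂ : (W : Scheme.{u}) ⟶ V', k₂ ≫ V'.ι = W.ι ≫ g₂ :=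
    ⟨IsOpenImmersion.lift V'.ι (W.ι ≫ g₂) hr₂, IsOpenImmersion.lift_fac _ _ _⟩
  have hk : k₁ = k₂ := by
    refine hom_ext_affine (T := (W : Scheme.{u})) x' (W.ι ⁻¹ᵁ U)
      ?_ k₁ k₂ ?_ ?_
    · intro z' hz'
      have h3 : W.ι z' ∉ U := hz'
      apply W.ι.isOpenEmbedding.injective
      rw [hx']
      exact hU _ h3
    · rw [← cancel_mono V'.ι, Category.assoc, Category.assoc, hk₁, hk₂]
      have hr : Set.range ((W.ι ⁻¹ᵁ U).ι ≫ W.ι) ⊆ Set.range U.ι := by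
        rintro _ ⟨w, rfl⟩
        rw [Scheme.Opens.range_ι, Scheme.Hom.comp_apply]
        exact w.2
      have hm : IsOpenImmersion.lift U.ι ((W.ι ⁻¹ᵁ U).ι ≫ W.ι) hr ≫ U.ι =
          (W.ι ⁻¹ᵁ U).ι ≫ W.ι := IsOpenImmersion.lift_fac _ _ _
      rw [← Category.assoc, ← Category.assoc, ← hm, Category.assoc, Category.assoc, h1]
    · rw [← cancel_mono V'.ι, Category.assoc, Category.assoc, hk₁, hk₂]
      have h4 : (W : Scheme.{u}).fromSpecStalk x' ≫ W.ι =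
          Spec.map (W.ι.stalkMap x') ≫ X.fromSpecStalk (W.ι x') :=
        (Scheme.SpecMap_stalkMap_fromSpecStalk W.ι (x := x')).symm
      rw [← Category.assoc, ← Category.assoc, h4, Category.assoc, Category.assoc]
      congr 1
      subst hx'
      exact h2
  rw [← hk₁, ← hk₂, hk]

theorem exists_specializes_of_mem_closure_range' {X Y : Scheme.{u}} (f : X ⟶ Y)
    (z : Y) (V : Y.Opens) (hV : IsAffineOpen V) (hzV : z ∈ V)
    (hc : IsCompact ((f ⁻¹ᵁ V : X.Opens) : Set X))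
    (hz : z ∈ closure (Set.range f)) : ∃ x : X, f x ⤳ z := by
  obtain ⟨R, g, hg⟩ := isCompact_iff_exists.mp hc
  have hrange : Set.range (g ≫ f) ⊆ Set.range hV.fromSpec := by
    rintro _ ⟨r, rfl⟩
    rw [hV.range_fromSpec]
    have : g r ∈ (f ⁻¹ᵁ V : Set X) := hg ▸ ⟨r, rfl⟩
    exact this
  let h : Spec R ⟶ Spec Γ(Y, V) := IsOpenImmersion.lift hV.fromSpec (g ≫ f) hrange
  have hh : h ≫ hV.fromSpec = g ≫ f := IsOpenImmersion.lift_fac _ _ _
  obtain ⟨z', rfl⟩ : z ∈ Set.range hV.fromSpec := by rw [hV.range_fromSpec]; exact hzV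
  have hz' : z' ∈ closure (Set.range h) := by
    rw [mem_closure_iff]
    intro N hN hzN
    have hopen : IsOpen (hV.fromSpec '' N) := hV.fromSpec.isOpenEmbedding.isOpenMap N hN
    obtain ⟨y, hy1, x, rfl⟩ := mem_closure_iff.mp hz _ hopen ⟨z', hzN, rfl⟩
    obtain ⟨n, hn, hn'⟩ := hy1
    have hx : x ∈ ((f ⁻¹ᵁ V : X.Opens) : Set X) := by
      change f x ∈ (V : Set Y)
      rw [← hn', ← hV.range_fromSpec]; exact ⟨n, rfl⟩
    rw [← hg] at hx
    obtain ⟨r, rfl⟩ := hx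
    refine ⟨h r, ?_, r, rfl⟩
    have : hV.fromSpec (h r) = hV.fromSpec n := by
      rw [← Scheme.Hom.comp_apply, hh, hn']; rfl
    rw [hV.fromSpec.isOpenEmbedding.injective this]
    exact hn
  obtain ⟨φ, hφ⟩ : ∃ φ, Spec.map φ = h := ⟨Spec.preimage h, Spec.map_preimage h⟩
  rw [← hφ] at hz'
  obtain ⟨r, hr⟩ := Groth.Agent.S2121.exists_specializes_spec φ z' hz'
  refine ⟨g r, ?_⟩
  have : f (g r) = hV.fromSpec (h r) := by
    rw [← Scheme.Hom.comp_apply, ← Scheme.Hom.comp_apply, hh]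
  rw [this, ← hφ]
  exact hr.map hV.fromSpec.continuous

open Groth.Agent.Lib.Helper67.PseudoMor in
/-- If two `S`-morphisms on a compact open `T` inside an affine open `W ∋ x`, to `Y` locally of
finite type over `S`, agree on `Spec` of the local ring at every point of `T` generizing `x`, they
agree on `T ∩ V'` for some open neighbourhood `V'` of `x`. -/
lemma exists_nhd_agree {X Y S : Scheme.{u}} (sY : Y ⟶ S) [LocallyOfFiniteType sY]
    (T : X.Opens) (sT : (T : Scheme.{u}) ⟶ S) (a b : (T : Scheme.{u}) ⟶ Y)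
    (ha : a ≫ sY = sT) (hb : b ≫ sY = sT) (x : X)
    (W : X.Opens) (hW : IsAffineOpen W) (hxW : x ∈ W) (hTW : T ≤ W)
    (hTc : IsCompact (T : Set X))
    (H : ∀ z : (T : Scheme.{u}), T.ι z ⤳ x →
      (T : Scheme.{u}).fromSpecStalk z ≫ a = (T : Scheme.{u}).fromSpecStalk z ≫ b) :
    ∃ V' : X.Opens, x ∈ V' ∧ ∀ (T' : X.Opens) (hle : T' ≤ T), T' ≤ V' →
      X.homOfLE hle ≫ a = X.homOfLE hle ≫ b := by
  -- the good locus
  let G : Set X := {y | ∃ N' : X.Opens, y ∈ N' ∧ ∃ hN : N' ≤ T, X.homOfLE hN ≫ a = X.homOfLE hN ≫ b}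
  have hGopen : IsOpen G := by
    rw [isOpen_iff_forall_mem_open]
    rintro y ⟨N', hyN', hN, hab⟩
    exact ⟨N', fun y' hy' => ⟨N', hy', hN, hab⟩, N'.isOpen, hyN'⟩
  -- generizations of `x` in `T` are good
  have hgood : ∀ z : (T : Scheme.{u}), T.ι z ⤳ x → T.ι z ∈ G := by
    intro z hz
    obtain ⟨O, hzO, hO⟩ := spread_out_unique' sT sY a b ha hb (H z hz)
    refine ⟨T.ι ''ᵁ O, ⟨z, hzO, rfl⟩, T.ι.image_le_opensRange O |>.trans (by simp), ?_⟩
    have e : ∀ hN : T.ι ''ᵁ O ≤ T, X.homOfLE hN = (T.ι.isoImage O).inv ≫ O.ι := by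
      intro hN
      rw [← cancel_mono T.ι, Category.assoc, Scheme.homOfLE_ι, Scheme.Hom.isoImage_inv_ι]
    rw [e, Category.assoc, Category.assoc, hO]
  -- the bad closed subset of `T`
  let C : TopologicalSpace.Closeds (T : Scheme.{u}) :=
    ⟨T.ι ⁻¹' Gᶜ, (hGopen.isClosed_compl).preimage T.ι.continuous⟩
  let I := Scheme.IdealSheafData.vanishingIdeal C
  let c : I.subscheme ⟶ X := I.subschemeι ≫ T.ι
  have hrange : Set.range c = (T : Set X) ∩ Gᶜ := by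
    rw [Scheme.Hom.comp_base, TopCat.coe_comp, Set.range_comp,
      Scheme.IdealSheafData.range_subschemeι, Scheme.IdealSheafData.coe_support_vanishingIdeal]
    change T.ι '' (T.ι ⁻¹' Gᶜ) = _
    rw [Set.image_preimage_eq_inter_range, Scheme.Opens.range_ι, Set.inter_comm]
  haveI : CompactSpace (T : Scheme.{u}) := isCompact_iff_compactSpace.mp hTc
  haveI : CompactSpace I.subscheme := I.subschemeι.isClosedEmbedding.compactSpace
  have hcomp : IsCompact ((c ⁻¹ᵁ W : I.subscheme.Opens) : Set I.subscheme) := by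
    have : (c ⁻¹ᵁ W : I.subscheme.Opens) = ⊤ := by
      ext w
      simp only [TopologicalSpace.Opens.coe_top, Set.mem_univ, iff_true]
      have : c w ∈ Set.range c := ⟨w, rfl⟩
      rw [hrange] at this
      exact hTW this.1
    rw [this]
    exact isCompact_univ
  have hx : x ∉ closure ((T : Set X) ∩ Gᶜ) := by
    intro hx
    rw [← hrange] at hx
    obtain ⟨c', hc'⟩ := exists_specializes_of_mem_closure_range' c x W hW hxW hcomp hx
    have hmem : c c' ∈ (T : Set X) ∩ Gᶜ := hrange ▸ ⟨c', rfl⟩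
    have hcT : c c' ∈ Set.range T.ι := by rw [Scheme.Opens.range_ι]; exact hmem.1
    obtain ⟨z, hz⟩ := hcT
    exact hmem.2 (hz ▸ hgood z (hz ▸ hc'))
  refine ⟨⟨(closure ((T : Set X) ∩ Gᶜ))ᶜ, isClosed_closure.isOpen_compl⟩, hx, ?_⟩
  intro T' hle hT'
  apply agree_of_locally_agree hle a b
  intro z hz
  by_contra hzG
  exact hT' hz (subset_closure ⟨hle hz, hzG⟩)

lemma exists_affine_nhd {X : Scheme.{u}} (x : X) (W₀ : X.Opens) (hx : x ∈ W₀) :
    ∃ W : X.Opens, IsAffineOpen W ∧ x ∈ W ∧ W ≤ W₀ := by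
  obtain ⟨_, ⟨W, hW, rfl⟩, hxW, hWW₀⟩ :=
    X.isBasis_affineOpens.exists_subset_of_mem_open hx W₀.isOpen
  exact ⟨W, hW, hxW, hWW₀⟩


open Groth.Agent.Lib.Helper67.PseudoMor in

/-- Let S be a scheme, X and Y schemes over S with Y locally of finite presentation over S, and x a
closed point of X such that the inclusion of U = X - {x} in X is quasi-compact; let V be the
complement of the closed point in Spec O_{X,x}, i.e. the preimage of U under the canonical morphism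
Spec O_{X,x} → X. Then restriction is a bijection from the S-morphisms X → Y to the pairs (a, b) of
S-morphisms a : U → Y, b : Spec O_{X,x} → Y which agree on V: two morphisms X → Y with the same
restrictions to U and to Spec O_{X,x} are equal, and every such compatible pair of S-morphisms is
the pair of restrictions of an S-morphism X → Y. -/
theorem result {X Y S : Scheme.{u}} (p : X ⟶ S) (q : Y ⟶ S) [LocallyOfFinitePresentation q]
    (x : X) (U : X.Opens) (hU : (U : Set X) = {x}ᶜ) [QuasiCompact U.ι] :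
    (∀ g₁ g₂ : X ⟶ Y, U.ι ≫ g₁ = U.ι ≫ g₂ → X.fromSpecStalk x ≫ g₁ = X.fromSpecStalk x ≫ g₂ → g₁ = g₂) ∧
    (∀ (a : (U : Scheme.{u}) ⟶ Y) (b : Spec (X.presheaf.stalk x) ⟶ Y), a ≫ q = U.ι ≫ p →
      b ≫ q = X.fromSpecStalk x ≫ p → ((X.fromSpecStalk x) ⁻¹ᵁ U).ι ≫ b = ((X.fromSpecStalk x) ∣_ U) ≫ a →
        ∃ g : X ⟶ Y, g ≫ q = p ∧ U.ι ≫ g = a ∧ X.fromSpecStalk x ≫ g = b) := by
  have hU' : ∀ z : X, z ∉ U → z = x := by
    intro z hz
    by_contra hne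
    apply hz
    change z ∈ (U : Set X)
    rw [hU]
    exact hne
  refine ⟨fun g₁ g₂ h1 h2 => hom_ext_of_compl_point x U hU' g₁ g₂ h1 h2, ?_⟩
  intro a b ha hb hab
  -- spread out `b`
  obtain ⟨W₀, hxW₀, b₀, hb₀, hb₀q⟩ := spread_out' p q b hb
  obtain ⟨W, hW, hxW, hWW₀⟩ := exists_affine_nhd x W₀ hxW₀
  obtain ⟨bW, hbW⟩ : ∃ bW : (W : Scheme.{u}) ⟶ Y, bW = X.homOfLE hWW₀ ≫ b₀ := ⟨_, rfl⟩
  have hbW1 : b = W.fromSpecStalkOfMem x hxW ≫ bW := by
    rw [hbW, ← Category.assoc, fromSpecStalkOfMem_homOfLE hWW₀ x hxW, hb₀]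
  have hbWq : bW ≫ q = W.ι ≫ p := by
    rw [hbW, Category.assoc, hb₀q, ← Category.assoc, Scheme.homOfLE_ι]
  -- pullback form of the compatibility
  have hP : pullback.fst (X.fromSpecStalk x) U.ι ≫ W.fromSpecStalkOfMem x hxW ≫ bW =
      pullback.snd (X.fromSpecStalk x) U.ι ≫ a := by
    rw [← hbW1]
    have hpb := (isPullback_morphismRestrict (X.fromSpecStalk x) U).flip
    rw [← hpb.isoPullback_inv_fst, ← hpb.isoPullback_inv_snd, Category.assoc, Category.assoc, hab]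
  obtain ⟨a', ha'⟩ : ∃ a' : ((U ⊓ W : X.Opens) : Scheme.{u}) ⟶ Y,
      a' = X.homOfLE (inf_le_left : U ⊓ W ≤ U) ≫ a := ⟨_, rfl⟩
  obtain ⟨b', hb'⟩ : ∃ b' : ((U ⊓ W : X.Opens) : Scheme.{u}) ⟶ Y,
      b' = X.homOfLE (inf_le_right : U ⊓ W ≤ W) ≫ bW := ⟨_, rfl⟩
  have ha'q : a' ≫ q = (U ⊓ W).ι ≫ p := by
    rw [ha', Category.assoc, ha, ← Category.assoc, Scheme.homOfLE_ι]
  have hb'q : b' ≫ q = (U ⊓ W).ι ≫ p := by
    rw [hb', Category.assoc, hbWq, ← Category.assoc, Scheme.homOfLE_ι]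
  have H : ∀ z : ((U ⊓ W : X.Opens) : Scheme.{u}), (U ⊓ W).ι z ⤳ x →
      ((U ⊓ W : X.Opens) : Scheme.{u}).fromSpecStalk z ≫ b' =
        ((U ⊓ W : X.Opens) : Scheme.{u}).fromSpecStalk z ≫ a' := by
    intro z hz
    rw [ha', hb']
    exact agree_on_fromSpecStalk U W a bW x hxW hP z hz
  have hTc : IsCompact ((U ⊓ W : X.Opens) : Set X) := by
    have h1 : IsCompact ((U.ι ⁻¹ᵁ W : (U : Scheme.{u}).Opens) : Set (U : Scheme.{u})) :=
      U.ι.isCompact_preimage hW.isCompact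
    have h2 := h1.image U.ι.continuous
    have h3 : U.ι '' ((U.ι ⁻¹ᵁ W : (U : Scheme.{u}).Opens) : Set (U : Scheme.{u})) =
        ((U ⊓ W : X.Opens) : Set X) := by
      change U.ι '' (U.ι ⁻¹' (W : Set X)) = _
      rw [Set.image_preimage_eq_inter_range, Scheme.Opens.range_ι, Set.inter_comm]
      rfl
    rwa [h3] at h2
  obtain ⟨V', hxV', hV'⟩ := exists_nhd_agree q (U ⊓ W) ((U ⊓ W).ι ≫ p) b' a' hb'q ha'q x W hW hxW
    inf_le_right hTc H
  obtain ⟨bW', hbW'⟩ : ∃ bW' : ((W ⊓ V' : X.Opens) : Scheme.{u}) ⟶ Y,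
      bW' = X.homOfLE (inf_le_left : W ⊓ V' ≤ W) ≫ bW := ⟨_, rfl⟩
  have hglue : X.homOfLE (inf_le_left : U ⊓ (W ⊓ V') ≤ U) ≫ a =
      X.homOfLE (inf_le_right : U ⊓ (W ⊓ V') ≤ W ⊓ V') ≫ bW' := by
    have hle : U ⊓ (W ⊓ V') ≤ U ⊓ W := inf_le_inf_left U inf_le_left
    have h1 := hV' (U ⊓ (W ⊓ V')) hle (inf_le_right.trans inf_le_right)
    rw [ha', hb', Scheme.homOfLE_homOfLE_assoc, Scheme.homOfLE_homOfLE_assoc] at h1
    rw [hbW', Scheme.homOfLE_homOfLE_assoc]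
    exact h1.symm
  obtain ⟨U'', h₁, h₂, f', hf'1, hf'2, hext⟩ :=
    Groth.Agent.Lib.Helper67.ExtendVal.exists_glue₂ U (W ⊓ V') a bW' hglue
  have htop : U'' = ⊤ := by
    rw [eq_top_iff]
    intro z _
    by_cases hz : z ∈ U
    · exact h₁ hz
    · rw [hU' z hz]
      exact h₂ ⟨hxW, hxV'⟩
  subst htop
  have hι : ∀ (O : X.Opens) (hO : O ≤ ⊤), O.ι ≫ X.topIso.inv = X.homOfLE hO := by
    intro O hO
    rw [← Scheme.homOfLE_ι X hO, Category.assoc, Scheme.ι_toIso_inv, Category.comp_id]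
  have hg1 : U.ι ≫ X.topIso.inv ≫ f' = a := by
    rw [← Category.assoc, hι U h₁, hf'1]
  have hg2 : X.fromSpecStalk x ≫ X.topIso.inv ≫ f' = b := by
    rw [← Scheme.Opens.fromSpecStalkOfMem_ι (W ⊓ V') x ⟨hxW, hxV'⟩, Category.assoc,
      ← Category.assoc (W ⊓ V').ι, hι (W ⊓ V') h₂, hf'2, hbW', ← Category.assoc,
      fromSpecStalkOfMem_homOfLE inf_le_left x ⟨hxW, hxV'⟩, ← hbW1]
  refine ⟨X.topIso.inv ≫ f', ?_, hg1, hg2⟩
  apply hom_ext_of_compl_point x U hU'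
  · rw [← Category.assoc, hg1, ha]
  · rw [← Category.assoc, hg2, hb]

end Groth.Agent.S9217
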