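import Groth.Statements.S7629
-- import your own Groth.Agent.* helpers here
import Mathlib
import Groth.Agent.S9217
import Groth.Agent.Lib.Helper61.FunFieldMor

set_option autoImplicit false
universe u
open CategoryTheory CategoryTheory.Limits AlgebraicGeometry
open Variety

namespace Groth.Agent.S7629

lemma fromSpecStalkOfMem_closedPoint {X : Scheme.{u}} (U : X.Opens) (x : X) (h : x ∈ U) :
    U.fromSpecStalkOfMem x h (IsLocalRing.closedPoint _) = ⟨x, h⟩ := by
  apply U.ι.isOpenEmbedding.injective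
  rw [← Scheme.Hom.comp_apply, Scheme.Opens.fromSpecStalkOfMem_ι,
    Scheme.fromSpecStalk_closedPoint]
  rfl

lemma isDominant_fromSpecStalkOfMem {X : Scheme.{u}} [IrreducibleSpace X] (U : X.Opens)
    (h : genericPoint X ∈ U) : IsDominant (U.fromSpecStalkOfMem (genericPoint X) h) := by
  constructor
  intro y
  have h1 : (⟨genericPoint X, h⟩ : U) ∈ Set.range (U.fromSpecStalkOfMem (genericPoint X) h) :=
    ⟨IsLocalRing.closedPoint _, fromSpecStalkOfMem_closedPoint U _ h⟩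
  have h2 : y ∈ closure ({⟨genericPoint X, h⟩} : Set U) := by
    rw [U.ι.isOpenEmbedding.isInducing.closure_eq_preimage_closure_image]
    simp only [Set.image_singleton, Set.mem_preimage]
    have : closure ({genericPoint X} : Set X) = Set.univ := genericPoint_spec X
    have e : U.ι ⟨genericPoint X, h⟩ = genericPoint X := rfl
    rw [e, this]
    trivial
  exact closure_mono (Set.singleton_subset_iff.mpr h1) h2

/-- restrict a morphism from an open to a smaller open with values in an open. -/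
lemma exists_restrict {X Y : Scheme.{u}} (U : X.Opens) (V : Y.Opens) (f : (U : Scheme.{u}) ⟶ Y)
    (U' : X.Opens) (hU'U : U' ≤ U)
    (H : ∀ x : (U' : Scheme.{u}), (X.homOfLE hU'U ≫ f) x ∈ V) :
    ∃ f₁ : (U' : Scheme.{u}) ⟶ (V : Scheme.{u}), f₁ ≫ V.ι = X.homOfLE hU'U ≫ f := by
  refine ⟨IsOpenImmersion.lift V.ι (X.homOfLE hU'U ≫ f) ?_, IsOpenImmersion.lift_fac _ _ _⟩
  rintro _ ⟨x, rfl⟩
  rw [Scheme.Opens.range_ι]
  exact H x

lemma fromSpecStalk_genericPoint_apply {Y : Scheme.{u}} [IrreducibleSpace Y]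
    (c : Spec (Y.presheaf.stalk (genericPoint Y))) :
    Y.fromSpecStalk (genericPoint Y) c = genericPoint Y := by
  have h1 : Y.fromSpecStalk (genericPoint Y) c ∈ Set.range (Y.fromSpecStalk (genericPoint Y)) :=
    ⟨c, rfl⟩
  rw [Scheme.range_fromSpecStalk] at h1
  exact (h1.antisymm (genericPoint_specializes _)).eq

/-- The value at the generic point of a spread-out germ. -/
lemma apply_genericPoint {X Y : Scheme.{u}} [IrreducibleSpace X] [IrreducibleSpace Y]
    (U : X.Opens) (hξU : genericPoint X ∈ U) (f : (U : Scheme.{u}) ⟶ Y)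
    (a : Spec (X.presheaf.stalk (genericPoint X)) ⟶ Spec (Y.presheaf.stalk (genericPoint Y)))
    (hf1 : a ≫ Y.fromSpecStalk (genericPoint Y) = U.fromSpecStalkOfMem (genericPoint X) hξU ≫ f) :
    f ⟨genericPoint X, hξU⟩ = genericPoint Y := by
  have h1 := congr($hf1 (IsLocalRing.closedPoint _))
  rw [Scheme.Hom.comp_apply, Scheme.Hom.comp_apply, fromSpecStalkOfMem_closedPoint,
    fromSpecStalk_genericPoint_apply] at h1
  exact h1.symm


/-- The abstract core: two integral separated `S`-schemes with mutually inverse germs of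
`S`-morphisms at the generic points have isomorphic nonempty opens. -/
lemma core {X Y S : Scheme.{u}} (sX : X ⟶ S) (sY : Y ⟶ S) [IsIntegral X] [IsIntegral Y]
    [IsSeparated sX] [IsSeparated sY]
    [LocallyOfFinitePresentation sX] [LocallyOfFinitePresentation sY]
    (a : Spec (X.presheaf.stalk (genericPoint X)) ⟶ Spec (Y.presheaf.stalk (genericPoint Y)))
    (b : Spec (Y.presheaf.stalk (genericPoint Y)) ⟶ Spec (X.presheaf.stalk (genericPoint X)))
    (hab : a ≫ b = 𝟙 _) (hba : b ≫ a = 𝟙 _)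
    (ha : a ≫ Y.fromSpecStalk (genericPoint Y) ≫ sY = X.fromSpecStalk (genericPoint X) ≫ sX)
    (hb : b ≫ X.fromSpecStalk (genericPoint X) ≫ sX = Y.fromSpecStalk (genericPoint Y) ≫ sY) :
    ∃ (U : X.Opens) (V : Y.Opens), (U : Set ↥X).Nonempty ∧
      ∃ φ : (U : Scheme.{u}) ≅ (V : Scheme.{u}), φ.hom ≫ V.ι ≫ sY = U.ι ≫ sX := by
  obtain ⟨U, hξU, f, hf1, hf2⟩ := Groth.Agent.S9217.spread_out' sX sY
    (a ≫ Y.fromSpecStalk (genericPoint Y)) (by rw [Category.assoc, ha])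
  obtain ⟨V, hηV, g, hg1, hg2⟩ := Groth.Agent.S9217.spread_out' sY sX
    (b ≫ X.fromSpecStalk (genericPoint X)) (by rw [Category.assoc, hb])
  -- values at generic points
  have hfξ : f ⟨genericPoint X, hξU⟩ = genericPoint Y := apply_genericPoint U hξU f a hf1
  have hgη : g ⟨genericPoint Y, hηV⟩ = genericPoint X := apply_genericPoint V hηV g b hg1
  -- the open U'
  obtain ⟨U', hU'def⟩ : ∃ U' : X.Opens, U' = U.ι ''ᵁ (f ⁻¹ᵁ V) := ⟨_, rfl⟩
  have hU'U : U' ≤ U := by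
    rw [hU'def]; exact U.ι.image_le_opensRange _ |>.trans (by rw [U.opensRange_ι])
  have hξU' : genericPoint X ∈ U' := by
    rw [hU'def]
    refine ⟨⟨genericPoint X, hξU⟩, ?_, rfl⟩
    show f _ ∈ V
    rw [hfξ]; exact hηV
  have hU'V : ∀ x : (U' : Scheme.{u}), (X.homOfLE hU'U ≫ f) x ∈ V := by
    intro x
    have hx : x.1 ∈ U.ι ''ᵁ (f ⁻¹ᵁ V) := hU'def ▸ x.2
    obtain ⟨x₀, hx₀, hx₀'⟩ := hx
    have : X.homOfLE hU'U x = x₀ := by
      apply U.ι.isOpenEmbedding.injective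
      rw [← Scheme.Hom.comp_apply, X.homOfLE_ι]
      exact hx₀'.symm
    rw [Scheme.Hom.comp_apply, this]
    exact hx₀
  obtain ⟨f₁, hf₁⟩ := exists_restrict U V f U' hU'U hU'V
  -- `f₁` on the generic germ
  have hdf₁ : U'.fromSpecStalkOfMem (genericPoint X) hξU' ≫ f₁ =
      a ≫ V.fromSpecStalkOfMem (genericPoint Y) hηV := by
    rw [← cancel_mono V.ι, Category.assoc, hf₁, Category.assoc,
      Scheme.Opens.fromSpecStalkOfMem_ι, hf1]
    rw [← Category.assoc]
    congr 1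
    rw [← cancel_mono U.ι, Category.assoc, X.homOfLE_ι, Scheme.Opens.fromSpecStalkOfMem_ι,
      Scheme.Opens.fromSpecStalkOfMem_ι]
  have hf₁S : f₁ ≫ V.ι ≫ sY = U'.ι ≫ sX := by
    rw [← Category.assoc, hf₁, Category.assoc, hf2, ← Category.assoc, X.homOfLE_ι]
  -- `f₁ ≫ g` is the inclusion
  haveI : IsIntegral (U' : Scheme.{u}) :=
    haveI : Nonempty (U' : Scheme.{u}) := ⟨⟨_, hξU'⟩⟩
    inferInstance
  have hh₁ : f₁ ≫ g = U'.ι := by
    haveI := isDominant_fromSpecStalkOfMem U' hξU'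
    refine ext_of_isDominant_of_isSeparated sX ?_ (U'.fromSpecStalkOfMem (genericPoint X) hξU') ?_
    · rw [Category.assoc, hg2, hf₁S]
    · rw [← Category.assoc, hdf₁, Category.assoc, ← hg1, ← Category.assoc, hab,
        Category.id_comp, Scheme.Opens.fromSpecStalkOfMem_ι]
  -- the open V'
  obtain ⟨V', hV'def⟩ : ∃ V' : Y.Opens, V' = V.ι ''ᵁ (g ⁻¹ᵁ U') := ⟨_, rfl⟩
  have hV'V : V' ≤ V := by
    rw [hV'def]; exact V.ι.image_le_opensRange _ |>.trans (by rw [V.opensRange_ι])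
  have hηV' : genericPoint Y ∈ V' := by
    rw [hV'def]
    refine ⟨⟨genericPoint Y, hηV⟩, ?_, rfl⟩
    show g _ ∈ U'
    rw [hgη]; exact hξU'
  have hV'U : ∀ y : (V' : Scheme.{u}), (Y.homOfLE hV'V ≫ g) y ∈ U' := by
    intro y
    have hy : y.1 ∈ V.ι ''ᵁ (g ⁻¹ᵁ U') := hV'def ▸ y.2
    obtain ⟨y₀, hy₀, hy₀'⟩ := hy
    have : Y.homOfLE hV'V y = y₀ := by
      apply V.ι.isOpenEmbedding.injective
      rw [← Scheme.Hom.comp_apply, Y.homOfLE_ι]
      exact hy₀'.symm
    rw [Scheme.Hom.comp_apply, this]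
    exact hy₀
  -- g₁ : V' ⟶ U'
  obtain ⟨g₁, hg₁⟩ : ∃ g₁ : (V' : Scheme.{u}) ⟶ (U' : Scheme.{u}),
      g₁ ≫ U'.ι = Y.homOfLE hV'V ≫ g := by
    refine ⟨IsOpenImmersion.lift U'.ι (Y.homOfLE hV'V ≫ g) ?_, IsOpenImmersion.lift_fac _ _ _⟩
    rintro _ ⟨y, rfl⟩
    rw [Scheme.Opens.range_ι]
    exact hV'U y
  -- f₂ : U' ⟶ V'
  obtain ⟨f₂, hf₂⟩ : ∃ f₂ : (U' : Scheme.{u}) ⟶ (V' : Scheme.{u}),
      f₂ ≫ V'.ι = f₁ ≫ V.ι := by
    refine ⟨IsOpenImmersion.lift V'.ι (f₁ ≫ V.ι) ?_, IsOpenImmersion.lift_fac _ _ _⟩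
    rintro _ ⟨x, rfl⟩
    rw [Scheme.Opens.range_ι, hV'def]
    refine ⟨f₁ x, ?_, rfl⟩
    show g (f₁ x) ∈ U'
    rw [← Scheme.Hom.comp_apply, hh₁]
    exact x.2
  have hf₂' : f₂ ≫ Y.homOfLE hV'V = f₁ := by
    rw [← cancel_mono V.ι, Category.assoc, Y.homOfLE_ι, hf₂]
  have h12 : f₂ ≫ g₁ = 𝟙 _ := by
    rw [← cancel_mono U'.ι, Category.assoc, hg₁, ← Category.assoc, hf₂', hh₁, Category.id_comp]
  haveI : IsIntegral (V' : Scheme.{u}) :=
    haveI : Nonempty (V' : Scheme.{u}) := ⟨⟨_, hηV'⟩⟩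
    inferInstance
  have hg₁S : g₁ ≫ U'.ι ≫ sX = V'.ι ≫ sY := by
    rw [← Category.assoc, hg₁, Category.assoc, hg2, ← Category.assoc, Y.homOfLE_ι]
  have hdg₁ : V'.fromSpecStalkOfMem (genericPoint Y) hηV' ≫ g₁ =
      b ≫ U'.fromSpecStalkOfMem (genericPoint X) hξU' := by
    rw [← cancel_mono U'.ι, Category.assoc, hg₁, Category.assoc,
      Scheme.Opens.fromSpecStalkOfMem_ι, hg1]
    rw [← Category.assoc]
    congr 1
    rw [← cancel_mono V.ι, Category.assoc, Y.homOfLE_ι, Scheme.Opens.fromSpecStalkOfMem_ι,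
      Scheme.Opens.fromSpecStalkOfMem_ι]
  have h21 : g₁ ≫ f₂ = 𝟙 _ := by
    rw [← cancel_mono V'.ι, Category.id_comp, Category.assoc]
    haveI := isDominant_fromSpecStalkOfMem V' hηV'
    refine ext_of_isDominant_of_isSeparated sY ?_ (V'.fromSpecStalkOfMem (genericPoint Y) hηV') ?_
    · rw [Category.assoc, Category.assoc, reassoc_of% hf₂, hf₁S, hg₁S]
    · rw [hf₂, ← Category.assoc, hdg₁, Category.assoc, ← Category.assoc _ f₁, hdf₁,
        Category.assoc, Scheme.Opens.fromSpecStalkOfMem_ι, ← Category.assoc, hba,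
        Category.id_comp, Scheme.Opens.fromSpecStalkOfMem_ι]
  refine ⟨U', V', ⟨_, hξU'⟩, ⟨f₂, g₁, h12, h21⟩, ?_⟩
  show f₂ ≫ V'.ι ≫ sY = U'.ι ≫ sX
  rw [← Category.assoc, hf₂, Category.assoc, hf₁S]

/-- (2) ⇒ (3): let X and Y be varieties over a field k (integral, separated, of finite type) and suppose
the function fields k(X) and k(Y) are isomorphic as k-algebras. Then there are nonempty open
subschemes U ⊆ X and V ⊆ Y which are isomorphic as schemes over k. -/
theorem result (k : Type u) [Field k] (X : Scheme.{u}) [X.Over (Spec (CommRingCat.of k))] [IsIntegral X] [IsSeparated (X ↘ (Spec (CommRingCat.of k)))] [LocallyOfFiniteType (X ↘ (Spec (CommRingCat.of k)))] [QuasiCompact (X ↘ (Spec (CommRingCat.of k)))]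
    (Y : Scheme.{u}) [Y.Over (Spec (CommRingCat.of k))] [IsIntegral Y] [IsSeparated (Y ↘ (Spec (CommRingCat.of k)))] [LocallyOfFiniteType (Y ↘ (Spec (CommRingCat.of k)))] [QuasiCompact (Y ↘ (Spec (CommRingCat.of k)))]
    (e : X.functionField ≅ Y.functionField)
    (he : e.hom.hom.comp (Curv2.stalkMap k X (genericPoint X)) = Curv2.stalkMap k Y (genericPoint Y)) :
    ∃ (U : X.Opens) (V : Y.Opens), (U : Set ↥X).Nonempty ∧
      ∃ φ : (U : Scheme.{u}) ≅ (V : Scheme.{u}), φ.hom ≫ V.ι ≫ (Y ↘ (Spec (CommRingCat.of k))) = U.ι ≫ (X ↘ (Spec (CommRingCat.of k))) := by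
  haveI : LocallyOfFinitePresentation (X ↘ Spec (CommRingCat.of k)) :=
    LocallyOfFinitePresentation.iff_locallyOfFiniteType.mpr inferInstance
  haveI : LocallyOfFinitePresentation (Y ↘ Spec (CommRingCat.of k)) :=
    LocallyOfFinitePresentation.iff_locallyOfFiniteType.mpr inferInstance
  have he' : CommRingCat.ofHom (Curv2.stalkMap k X (genericPoint X)) ≫ e.hom =
      CommRingCat.ofHom (Curv2.stalkMap k Y (genericPoint Y)) := by
    ext t
    exact congr($he t)
  refine core (X ↘ Spec (CommRingCat.of k)) (Y ↘ Spec (CommRingCat.of k))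
    (Spec.map e.inv) (Spec.map e.hom) ?_ ?_ ?_ ?_
  · rw [← Spec.map_comp, e.hom_inv_id, Spec.map_id]
  · rw [← Spec.map_comp, e.inv_hom_id, Spec.map_id]
  · rw [Groth.Agent.Lib.Helper61.FunFieldMor.fromSpecStalk_comp_over,
      Groth.Agent.Lib.Helper61.FunFieldMor.fromSpecStalk_comp_over, ← Spec.map_comp, ← he',
      Category.assoc, e.hom_inv_id]
    exact congrArg Spec.map (Category.comp_id _)
  · rw [Groth.Agent.Lib.Helper61.FunFieldMor.fromSpecStalk_comp_over,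
      Groth.Agent.Lib.Helper61.FunFieldMor.fromSpecStalk_comp_over, ← Spec.map_comp, he']

end Groth.Agent.S7629
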