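import Groth.Statements.S10854
-- import your own Groth.Agent.* helpers here
import Mathlib
import Groth.Agent.S9217
import Groth.Agent.S7629

set_option autoImplicit false
universe u
open FinCond

namespace Groth.Agent.S10854

open CategoryTheory CategoryTheory.Limits AlgebraicGeometry

/-- two morphisms from an open that agree on the germ at `x` agree near `x` (lft target). -/
lemma unique_near {X Y S : Scheme.{u}} (sX : X ⟶ S) (sY : Y ⟶ S) [LocallyOfFiniteType sY]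
    (T : X.Opens) (x : X) (hxT : x ∈ T) (p q : (T : Scheme.{u}) ⟶ Y)
    (hp : p ≫ sY = T.ι ≫ sX) (hq : q ≫ sY = T.ι ≫ sX)
    (e : T.fromSpecStalkOfMem x hxT ≫ p = T.fromSpecStalkOfMem x hxT ≫ q) :
    ∃ T' : X.Opens, x ∈ T' ∧ ∃ hle : T' ≤ T, X.homOfLE hle ≫ p = X.homOfLE hle ≫ q := by
  have e' : (T : Scheme.{u}).fromSpecStalk ⟨x, hxT⟩ ≫ p =
      (T : Scheme.{u}).fromSpecStalk ⟨x, hxT⟩ ≫ q := by
    unfold Scheme.Opens.fromSpecStalkOfMem at e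
    rw [Category.assoc, Category.assoc] at e
    exact (cancel_epi _).mp e
  obtain ⟨W, hxW, hW⟩ := Groth.Agent.S9217.spread_out_unique' (T.ι ≫ sX) sY p q hp hq e'
  refine ⟨T.ι ''ᵁ W, ⟨⟨x, hxT⟩, hxW, rfl⟩, ?_, ?_⟩
  · exact (T.ι.image_le_opensRange _).trans (by rw [T.opensRange_ι])
  · have key : X.homOfLE ((T.ι.image_le_opensRange W).trans (by rw [T.opensRange_ι])) =
        (T.ι.isoImage W).inv ≫ W.ι := by
      rw [← cancel_mono T.ι, X.homOfLE_ι, Category.assoc, Iso.eq_inv_comp,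
        Scheme.Hom.isoImage_hom_ι]
    rw [key, Category.assoc, Category.assoc, hW]

open Groth.Agent.S7629 in
/-- pointed core: mutually inverse germs of `S`-morphisms at `x`, `y` spread to an isomorphism of
open neighbourhoods. -/
lemma core' {X Y S : Scheme.{u}} (sX : X ⟶ S) (sY : Y ⟶ S)
    [LocallyOfFinitePresentation sX] [LocallyOfFinitePresentation sY] {x : X} {y : Y}
    (a : Spec (X.presheaf.stalk x) ⟶ Spec (Y.presheaf.stalk y))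
    (b : Spec (Y.presheaf.stalk y) ⟶ Spec (X.presheaf.stalk x))
    (hab : a ≫ b = 𝟙 _) (hba : b ≫ a = 𝟙 _)
    (hac : a (IsLocalRing.closedPoint _) = IsLocalRing.closedPoint _)
    (hbc : b (IsLocalRing.closedPoint _) = IsLocalRing.closedPoint _)
    (ha : a ≫ Y.fromSpecStalk y ≫ sY = X.fromSpecStalk x ≫ sX)
    (hb : b ≫ X.fromSpecStalk x ≫ sX = Y.fromSpecStalk y ≫ sY) :
    ∃ (U : X.Opens) (hxU : x ∈ U) (V : Y.Opens) (f : U.toScheme ⟶ V.toScheme), IsIso f ∧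
      a ≫ Y.fromSpecStalk y = U.fromSpecStalkOfMem x hxU ≫ f ≫ V.ι ∧
        f ≫ V.ι ≫ sY = U.ι ≫ sX := by
  -- Stage 1
  obtain ⟨U₀, hxU₀, f₀, hf1, hf2⟩ := Groth.Agent.S9217.spread_out' sX sY
    (a ≫ Y.fromSpecStalk y) (by rw [Category.assoc, ha])
  obtain ⟨V₀, hyV₀, g₀, hg1, hg2⟩ := Groth.Agent.S9217.spread_out' sY sX
    (b ≫ X.fromSpecStalk x) (by rw [Category.assoc, hb])
  have hf₀x : f₀ ⟨x, hxU₀⟩ = y := by
    have h1 := congr($hf1 (IsLocalRing.closedPoint _))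
    rw [Scheme.Hom.comp_apply, Scheme.Hom.comp_apply, fromSpecStalkOfMem_closedPoint, hac,
      Scheme.fromSpecStalk_closedPoint] at h1
    exact h1.symm
  have hg₀y : g₀ ⟨y, hyV₀⟩ = x := by
    have h1 := congr($hg1 (IsLocalRing.closedPoint _))
    rw [Scheme.Hom.comp_apply, Scheme.Hom.comp_apply, fromSpecStalkOfMem_closedPoint, hbc,
      Scheme.fromSpecStalk_closedPoint] at h1
    exact h1.symm
  -- Stage 2
  obtain ⟨U₁, hU₁def⟩ : ∃ U₁ : X.Opens, U₁ = U₀.ι ''ᵁ (f₀ ⁻¹ᵁ V₀) := ⟨_, rfl⟩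
  have hU₁U₀ : U₁ ≤ U₀ := by
    rw [hU₁def]; exact (U₀.ι.image_le_opensRange _).trans (by rw [U₀.opensRange_ι])
  have hxU₁ : x ∈ U₁ := by
    rw [hU₁def]
    refine ⟨⟨x, hxU₀⟩, ?_, rfl⟩
    show f₀ _ ∈ V₀
    rw [hf₀x]; exact hyV₀
  have hU₁V : ∀ z : (U₁ : Scheme.{u}), (X.homOfLE hU₁U₀ ≫ f₀) z ∈ V₀ := by
    intro z
    have hz : z.1 ∈ U₀.ι ''ᵁ (f₀ ⁻¹ᵁ V₀) := hU₁def ▸ z.2
    obtain ⟨z₀, hz₀, hz₀'⟩ := hz
    have : X.homOfLE hU₁U₀ z = z₀ := by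
      apply U₀.ι.isOpenEmbedding.injective
      rw [← Scheme.Hom.comp_apply, X.homOfLE_ι]
      exact hz₀'.symm
    rw [Scheme.Hom.comp_apply, this]
    exact hz₀
  obtain ⟨f₁, hf₁⟩ := exists_restrict U₀ V₀ f₀ U₁ hU₁U₀ hU₁V
  have hdf₁ : U₁.fromSpecStalkOfMem x hxU₁ ≫ f₁ = a ≫ V₀.fromSpecStalkOfMem y hyV₀ := by
    rw [← cancel_mono V₀.ι, Category.assoc, hf₁, Category.assoc,
      Scheme.Opens.fromSpecStalkOfMem_ι, hf1, ← Category.assoc]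
    congr 1
    rw [← cancel_mono U₀.ι, Category.assoc, X.homOfLE_ι, Scheme.Opens.fromSpecStalkOfMem_ι,
      Scheme.Opens.fromSpecStalkOfMem_ι]
  have hf₁S : f₁ ≫ V₀.ι ≫ sY = U₁.ι ≫ sX := by
    rw [← Category.assoc, hf₁, Category.assoc, hf2, ← Category.assoc, X.homOfLE_ι]
  obtain ⟨U₂, hxU₂, hU₂U₁, hU₂⟩ := unique_near sX sX U₁ x hxU₁ (f₁ ≫ g₀) U₁.ι
    (by rw [Category.assoc, hg2, hf₁S]) rfl
    (by rw [← Category.assoc, hdf₁, Category.assoc, ← hg1, ← Category.assoc, hab,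
        Category.id_comp, Scheme.Opens.fromSpecStalkOfMem_ι])
  obtain ⟨f₂, hf₂def⟩ : ∃ f₂ : (U₂ : Scheme.{u}) ⟶ (V₀ : Scheme.{u}),
      f₂ = X.homOfLE hU₂U₁ ≫ f₁ := ⟨_, rfl⟩
  have hU₂U₀ : U₂ ≤ U₀ := hU₂U₁.trans hU₁U₀
  have hF2 : f₂ ≫ V₀.ι = X.homOfLE hU₂U₀ ≫ f₀ := by
    rw [hf₂def, Category.assoc, hf₁, ← Category.assoc, X.homOfLE_homOfLE]
  have hstar : f₂ ≫ g₀ = U₂.ι := by
    rw [hf₂def, Category.assoc, hU₂, X.homOfLE_ι]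
  have hf₂S : f₂ ≫ V₀.ι ≫ sY = U₂.ι ≫ sX := by
    rw [← Category.assoc, hF2, Category.assoc, hf2, ← Category.assoc, X.homOfLE_ι]
  have hdf₂ : U₂.fromSpecStalkOfMem x hxU₂ ≫ f₂ = a ≫ V₀.fromSpecStalkOfMem y hyV₀ := by
    rw [hf₂def, ← Category.assoc,
      Groth.Agent.Lib.Helper67.PseudoMor.fromSpecStalkOfMem_homOfLE hU₂U₁ x hxU₂, hdf₁]
  -- Stage 3
  obtain ⟨V₁, hV₁def⟩ : ∃ V₁ : Y.Opens, V₁ = V₀.ι ''ᵁ (g₀ ⁻¹ᵁ U₂) := ⟨_, rfl⟩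
  have hV₁V₀ : V₁ ≤ V₀ := by
    rw [hV₁def]; exact (V₀.ι.image_le_opensRange _).trans (by rw [V₀.opensRange_ι])
  have hyV₁ : y ∈ V₁ := by
    rw [hV₁def]
    refine ⟨⟨y, hyV₀⟩, ?_, rfl⟩
    show g₀ _ ∈ U₂
    rw [hg₀y]; exact hxU₂
  have hV₁U : ∀ z : (V₁ : Scheme.{u}), (Y.homOfLE hV₁V₀ ≫ g₀) z ∈ U₂ := by
    intro z
    have hz : z.1 ∈ V₀.ι ''ᵁ (g₀ ⁻¹ᵁ U₂) := hV₁def ▸ z.2
    obtain ⟨z₀, hz₀, hz₀'⟩ := hz
    have : Y.homOfLE hV₁V₀ z = z₀ := by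
      apply V₀.ι.isOpenEmbedding.injective
      rw [← Scheme.Hom.comp_apply, Y.homOfLE_ι]
      exact hz₀'.symm
    rw [Scheme.Hom.comp_apply, this]
    exact hz₀
  obtain ⟨g₁, hg₁⟩ := exists_restrict V₀ U₂ g₀ V₁ hV₁V₀ hV₁U
  have hdg₁ : V₁.fromSpecStalkOfMem y hyV₁ ≫ g₁ = b ≫ U₂.fromSpecStalkOfMem x hxU₂ := by
    rw [← cancel_mono U₂.ι, Category.assoc, hg₁, Category.assoc,
      Scheme.Opens.fromSpecStalkOfMem_ι, hg1, ← Category.assoc]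
    congr 1
    rw [← cancel_mono V₀.ι, Category.assoc, Y.homOfLE_ι, Scheme.Opens.fromSpecStalkOfMem_ι,
      Scheme.Opens.fromSpecStalkOfMem_ι]
  have hg₁S : g₁ ≫ U₂.ι ≫ sX = V₁.ι ≫ sY := by
    rw [← Category.assoc, hg₁, Category.assoc, hg2, ← Category.assoc, Y.homOfLE_ι]
  obtain ⟨V₂, hyV₂, hV₂V₁, hV₂⟩ := unique_near sY sY V₁ y hyV₁ (g₁ ≫ f₂ ≫ V₀.ι) V₁.ι
    (by rw [Category.assoc, Category.assoc, hf₂S, hg₁S]) rfl
    (by rw [← Category.assoc, hdg₁, Category.assoc, ← Category.assoc _ f₂, hdf₂,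
        Category.assoc, Scheme.Opens.fromSpecStalkOfMem_ι, ← Category.assoc, hba,
        Category.id_comp, Scheme.Opens.fromSpecStalkOfMem_ι])
  obtain ⟨g₂, hg₂def⟩ : ∃ g₂ : (V₂ : Scheme.{u}) ⟶ (U₂ : Scheme.{u}),
      g₂ = Y.homOfLE hV₂V₁ ≫ g₁ := ⟨_, rfl⟩
  have hV₂V₀ : V₂ ≤ V₀ := hV₂V₁.trans hV₁V₀
  have hG2 : g₂ ≫ U₂.ι = Y.homOfLE hV₂V₀ ≫ g₀ := by
    rw [hg₂def, Category.assoc, hg₁, ← Category.assoc, Y.homOfLE_homOfLE]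
  have hstar2 : g₂ ≫ f₂ ≫ V₀.ι = V₂.ι := by
    rw [hg₂def, Category.assoc, hV₂, Y.homOfLE_ι]
  -- Stage 4
  obtain ⟨U₃, hU₃def⟩ : ∃ U₃ : X.Opens, U₃ = U₂.ι ''ᵁ ((f₂ ≫ V₀.ι) ⁻¹ᵁ V₂) := ⟨_, rfl⟩
  have hU₃U₂ : U₃ ≤ U₂ := by
    rw [hU₃def]; exact (U₂.ι.image_le_opensRange _).trans (by rw [U₂.opensRange_ι])
  have hxU₃ : x ∈ U₃ := by
    rw [hU₃def]
    refine ⟨⟨x, hxU₂⟩, ?_, rfl⟩
    show (f₂ ≫ V₀.ι) _ ∈ V₂
    rw [hF2, Scheme.Hom.comp_apply]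
    have : X.homOfLE hU₂U₀ ⟨x, hxU₂⟩ = ⟨x, hxU₀⟩ := by
      apply U₀.ι.isOpenEmbedding.injective
      rw [← Scheme.Hom.comp_apply, X.homOfLE_ι]
      rfl
    rw [this, hf₀x]
    exact hyV₂
  -- pointwise description of `U₃`
  have hU₃pt : ∀ u : (U₃ : Scheme.{u}), (f₂ ≫ V₀.ι) (X.homOfLE hU₃U₂ u) ∈ V₂ := by
    intro u
    have hu : u.1 ∈ U₂.ι ''ᵁ ((f₂ ≫ V₀.ι) ⁻¹ᵁ V₂) := hU₃def ▸ u.2
    obtain ⟨u₀, hu₀, hu₀'⟩ := hu
    have : X.homOfLE hU₃U₂ u = u₀ := by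
      apply U₂.ι.isOpenEmbedding.injective
      rw [← Scheme.Hom.comp_apply, X.homOfLE_ι]
      exact hu₀'.symm
    rw [this]
    exact hu₀
  obtain ⟨V₃, hV₃def⟩ : ∃ V₃ : Y.Opens, V₃ = V₂.ι ''ᵁ (g₂ ⁻¹ᵁ (U₂.ι ⁻¹ᵁ U₃)) := ⟨_, rfl⟩
  have hV₃V₂ : V₃ ≤ V₂ := by
    rw [hV₃def]; exact (V₂.ι.image_le_opensRange _).trans (by rw [V₂.opensRange_ι])
  have hV₃pt : ∀ v : (V₃ : Scheme.{u}), U₂.ι (g₂ (Y.homOfLE hV₃V₂ v)) ∈ U₃ := by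
    intro v
    have hv : v.1 ∈ V₂.ι ''ᵁ (g₂ ⁻¹ᵁ (U₂.ι ⁻¹ᵁ U₃)) := hV₃def ▸ v.2
    obtain ⟨v₀, hv₀, hv₀'⟩ := hv
    have : Y.homOfLE hV₃V₂ v = v₀ := by
      apply V₂.ι.isOpenEmbedding.injective
      rw [← Scheme.Hom.comp_apply, Y.homOfLE_ι]
      exact hv₀'.symm
    rw [this]
    exact hv₀
  -- f₃
  obtain ⟨f₃, hf₃⟩ : ∃ f₃ : (U₃ : Scheme.{u}) ⟶ (V₃ : Scheme.{u}),
      f₃ ≫ V₃.ι = X.homOfLE hU₃U₂ ≫ f₂ ≫ V₀.ι := by
    refine ⟨IsOpenImmersion.lift V₃.ι (X.homOfLE hU₃U₂ ≫ f₂ ≫ V₀.ι) ?_,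
      IsOpenImmersion.lift_fac _ _ _⟩
    rintro _ ⟨u, rfl⟩
    rw [Scheme.Opens.range_ι, hV₃def]
    have hw := hU₃pt u
    refine ⟨⟨(f₂ ≫ V₀.ι) (X.homOfLE hU₃U₂ u), hw⟩, ?_, ?_⟩
    · show U₂.ι (g₂ _) ∈ U₃
      have h1 : U₂.ι (g₂ ⟨(f₂ ≫ V₀.ι) (X.homOfLE hU₃U₂ u), hw⟩) =
          U₂.ι (X.homOfLE hU₃U₂ u) := by
        rw [← Scheme.Hom.comp_apply, hG2, Scheme.Hom.comp_apply]
        have h2 : Y.homOfLE hV₂V₀ ⟨(f₂ ≫ V₀.ι) (X.homOfLE hU₃U₂ u), hw⟩ =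
            f₂ (X.homOfLE hU₃U₂ u) := by
          apply V₀.ι.isOpenEmbedding.injective
          rw [← Scheme.Hom.comp_apply, Y.homOfLE_ι]
          rfl
        rw [h2, ← Scheme.Hom.comp_apply, hstar]
      rw [h1, ← Scheme.Hom.comp_apply, X.homOfLE_ι]
      exact u.2
    · rfl
  -- g₃
  obtain ⟨g₃, hg₃⟩ : ∃ g₃ : (V₃ : Scheme.{u}) ⟶ (U₃ : Scheme.{u}),
      g₃ ≫ U₃.ι = Y.homOfLE hV₃V₂ ≫ g₂ ≫ U₂.ι := by
    refine ⟨IsOpenImmersion.lift U₃.ι (Y.homOfLE hV₃V₂ ≫ g₂ ≫ U₂.ι) ?_,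
      IsOpenImmersion.lift_fac _ _ _⟩
    rintro _ ⟨v, rfl⟩
    rw [Scheme.Opens.range_ι]
    exact hV₃pt v
  have h1 : f₃ ≫ Y.homOfLE hV₃V₂ ≫ Y.homOfLE hV₂V₀ = X.homOfLE hU₃U₂ ≫ f₂ := by
    rw [← cancel_mono V₀.ι, Category.assoc, Category.assoc, Y.homOfLE_ι, Y.homOfLE_ι, hf₃,
      Category.assoc]
  have h2 : g₃ ≫ X.homOfLE hU₃U₂ = Y.homOfLE hV₃V₂ ≫ g₂ := by
    rw [← cancel_mono U₂.ι, Category.assoc, X.homOfLE_ι, hg₃, Category.assoc]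
  have h12 : f₃ ≫ g₃ = 𝟙 _ := by
    rw [← cancel_mono U₃.ι, Category.assoc, hg₃, hG2, Category.id_comp, ← Category.assoc,
      ← Category.assoc, Category.assoc f₃, h1, Category.assoc, hstar, X.homOfLE_ι]
  have h21 : g₃ ≫ f₃ = 𝟙 _ := by
    rw [← cancel_mono V₃.ι, Category.assoc, hf₃, Category.id_comp, ← Category.assoc, h2,
      Category.assoc, hstar2, Y.homOfLE_ι]
  refine ⟨U₃, hxU₃, V₃, f₃, ⟨g₃, h12, h21⟩, ?_, ?_⟩
  · rw [hf₃, hF2, ← Category.assoc, ← Category.assoc,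
      Groth.Agent.Lib.Helper67.PseudoMor.fromSpecStalkOfMem_homOfLE hU₃U₂ x hxU₃,
      Groth.Agent.Lib.Helper67.PseudoMor.fromSpecStalkOfMem_homOfLE hU₂U₀ x hxU₂, hf1]
  · rw [← Category.assoc, hf₃, Category.assoc, Category.assoc, hf₂S, X.homOfLE_ι_assoc]

open AlgebraicGeometry CategoryTheory in
/-- Let S be a scheme and X, Y two S-schemes locally of finite presentation over S. Let x be a point of
X and y a point of Y over the same point of S, and let φ : O_{Y,y} → O_{X,x} be an isomorphism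
compatible with the two homomorphisms from the local ring of S. Then there exist open neighbourhoods
U of x and V of y and an S-isomorphism f : U → V whose composite with Spec O_{X,x} → U and V → Y
equals Spec φ followed by Spec O_{Y,y} → Y. (The published statement assumes the finiteness
conditions only at the points x and y; this row assumes them everywhere.) -/
theorem result
    {X Y S : Scheme.{u}} (sX : X ⟶ S) (sY : Y ⟶ S)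
    [LocallyOfFinitePresentation sX] [LocallyOfFinitePresentation sY]
    {x : X} {y : Y} (e : sX x = sY y)
    (φ : Y.presheaf.stalk y ⟶ X.presheaf.stalk x) [IsIso φ]
    (h : sY.stalkMap y ≫ φ =
      S.presheaf.stalkSpecializes (Inseparable.of_eq e).specializes ≫ sX.stalkMap x) :
    ∃ (U : X.Opens) (hxU : x ∈ U) (V : Y.Opens) (f : U.toScheme ⟶ V.toScheme), IsIso f ∧
      Spec.map φ ≫ Y.fromSpecStalk y = U.fromSpecStalkOfMem x hxU ≫ f ≫ V.ι ∧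
        f ≫ V.ι ≫ sY = U.ι ≫ sX := by
  have ha : Spec.map φ ≫ Y.fromSpecStalk y ≫ sY = X.fromSpecStalk x ≫ sX := by
    rw [← Scheme.SpecMap_stalkMap_fromSpecStalk, ← Scheme.SpecMap_stalkMap_fromSpecStalk,
      ← Category.assoc, ← Spec.map_comp, h, Spec.map_comp, Category.assoc,
      Scheme.SpecMap_stalkSpecializes_fromSpecStalk]
  refine core' sX sY (Spec.map φ) (Spec.map (inv φ)) ?_ ?_ ?_ ?_ ha ?_
  · rw [← Spec.map_comp, IsIso.inv_hom_id, Spec.map_id]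
  · rw [← Spec.map_comp, IsIso.hom_inv_id, Spec.map_id]
  · haveI : IsLocalHom φ.hom := isLocalHom_of_isIso φ
    exact IsLocalRing.comap_closedPoint φ.hom
  · haveI : IsLocalHom (inv φ).hom := isLocalHom_of_isIso (inv φ)
    exact IsLocalRing.comap_closedPoint (inv φ).hom
  · rw [← ha, ← Category.assoc, ← Spec.map_comp, IsIso.hom_inv_id, Spec.map_id, Category.id_comp]

end Groth.Agent.S10854
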