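import Groth.Statements.S10856
import Mathlib
-- import your own Groth.Agent.* helpers here

set_option autoImplicit false
universe u
open Mero

namespace Groth.Agent.S10856


section Aux

open AlgebraicGeometry CategoryTheory TopologicalSpace Opposite

variable {X : Scheme.{u}}

theorem res_res {U V W : X.Opens} (i : V ⟶ W) (j : U ⟶ V) (k : U ⟶ W)
    (s : Γ(X, W)) :
    X.presheaf.map j.op (X.presheaf.map i.op s) = X.presheaf.map k.op s := by
  obtain rfl : k = j ≫ i := Subsingleton.elim _ _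
  rw [op_comp, Functor.map_comp]
  rfl

theorem algebraMap_eq_mk (x : X) (r : X.presheaf.stalk x) :
    algebraMap (X.presheaf.stalk x) (Mero.KStalk X x) r = LocalizedModule.mk r 1 := rfl

theorem mk_mem_range_iff (x : X) (A : X.presheaf.stalk x) (B : Mero.regStalk X x) :
    (LocalizedModule.mk A B : Mero.KStalk X x) ∈
        (algebraMap (X.presheaf.stalk x) (Mero.KStalk X x)).range ↔
      ∃ T : X.presheaf.stalk x, A = (B : X.presheaf.stalk x) * T := by
  constructor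
  · rintro ⟨T, hT⟩
    refine ⟨T, ?_⟩
    rw [algebraMap_eq_mk] at hT
    obtain ⟨u, hu⟩ := LocalizedModule.mk_eq.mp hT
    simp only [Submonoid.smul_def, smul_eq_mul, Submonoid.coe_one, one_mul] at hu
    exact ((mul_cancel_left_mem_nonZeroDivisors
      (Mero.regStalk_le_nonZeroDivisors x u.2)).mp hu).symm
  · rintro ⟨T, hT⟩
    refine ⟨T, ?_⟩
    rw [algebraMap_eq_mk, LocalizedModule.mk_eq]
    refine ⟨1, ?_⟩
    simp only [Submonoid.smul_def, smul_eq_mul, Submonoid.coe_one, one_mul]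
    exact hT.symm

theorem isOpen_dom (f : Γ(Mero.kmod X, ⊤)) :
    IsOpen {x : X | f.1 ⟨x, Opens.mem_top x⟩ ∈
      (algebraMap (X.presheaf.stalk x) (Mero.KStalk X x)).range} := by
  rw [isOpen_iff_forall_mem_open]
  intro x hx
  obtain ⟨W, mW, i, a, b, w⟩ := f.2 ⟨x, Opens.mem_top x⟩
  have hfW : ∀ (y : X) (hy : y ∈ W), f.1 ⟨y, Opens.mem_top y⟩ =
      LocalizedModule.mk (X.presheaf.germ W y hy a) (Mero.regGerm ⟨y, hy⟩ b) :=
    fun y hy => w ⟨y, hy⟩
  have hx' : f.1 ⟨x, Opens.mem_top x⟩ ∈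
      (algebraMap (X.presheaf.stalk x) (Mero.KStalk X x)).range := hx
  rw [hfW x mW, mk_mem_range_iff] at hx'
  obtain ⟨T, hT⟩ := hx'
  obtain ⟨W', hW'W, mW', t', ht'⟩ := X.presheaf.exists_le_germ_eq T mW
  have heq : X.presheaf.germ W' x mW' (X.presheaf.map (homOfLE hW'W).op a) =
      X.presheaf.germ W' x mW' (X.presheaf.map (homOfLE hW'W).op b.1 * t') := by
    rw [map_mul, TopCat.Presheaf.germ_res_apply, TopCat.Presheaf.germ_res_apply, ht']
    exact hT
  obtain ⟨W'', mW'', i1, i2, e⟩ := X.presheaf.germ_eq x mW' mW' _ _ heq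
  refine ⟨(W'' : Set X), ?_, W''.isOpen, mW''⟩
  intro y hy
  have hyW' : y ∈ W' := i1.le hy
  have hyW : y ∈ W := hW'W hyW'
  show f.1 ⟨y, Opens.mem_top y⟩ ∈
    (algebraMap (X.presheaf.stalk y) (Mero.KStalk X y)).range
  rw [hfW y hyW, mk_mem_range_iff]
  refine ⟨X.presheaf.germ W' y hyW' t', ?_⟩
  have e' := congrArg (X.presheaf.germ W'' y hy) e
  simp only [map_mul, TopCat.Presheaf.germ_res_apply] at e'
  exact e'

theorem basicOpen_subset_dom (f : Γ(Mero.kmod X, ⊤)) (W : X.Opens) (a : Γ(X, W))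
    (b : Mero.regSub X W)
    (hfW : ∀ (y : X) (hy : y ∈ W), f.1 ⟨y, Opens.mem_top y⟩ =
      LocalizedModule.mk (X.presheaf.germ W y hy a) (Mero.regGerm ⟨y, hy⟩ b))
    (y : X) (hy : y ∈ X.basicOpen b.1) :
    f.1 ⟨y, Opens.mem_top y⟩ ∈ (algebraMap (X.presheaf.stalk y) (Mero.KStalk X y)).range := by
  have hyW : y ∈ W := X.basicOpen_le b.1 hy
  have hu : IsUnit (X.presheaf.germ W y hyW b.1) := (X.mem_basicOpen b.1 y hyW).mp hy
  rw [hfW y hyW, mk_mem_range_iff]
  obtain ⟨v, hv⟩ := hu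
  refine ⟨↑v⁻¹ * X.presheaf.germ W y hyW a, ?_⟩
  show _ = X.presheaf.germ W y hyW b.1 * _
  rw [← hv, ← mul_assoc, Units.mul_inv, one_mul]

end Aux

open AlgebraicGeometry CategoryTheory TopologicalSpace in
/-- Let X be a scheme and f a global section of the sheaf of meromorphic functions K_X. The domain of
definition of f, i.e. the set of points x whose value f_x ∈ K_{X,x} lies in the image of the local
ring O_{X,x}, is the underlying set of an open subscheme D of X, and D is schematically dense in X: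
for every open subset V of X the restriction map from sections of O_X over V to sections over V ∩ D
is injective. -/
theorem result {X : Scheme.{u}} (f : Γ(Mero.kmod X, ⊤)) :
    ∃ D : X.Opens,
      (D : Set X) = {x | f.1 ⟨x, Opens.mem_top x⟩ ∈ (algebraMap (X.presheaf.stalk x) (Mero.KStalk X x)).range} ∧
        ∀ V : X.Opens, Function.Injective (X.presheaf.map (homOfLE (inf_le_left : V ⊓ D ≤ V)).op) := by
  obtain ⟨D, hD⟩ : ∃ D : X.Opens, (D : Set X) = {x | f.1 ⟨x, Opens.mem_top x⟩ ∈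
      (algebraMap (X.presheaf.stalk x) (Mero.KStalk X x)).range} := ⟨⟨_, isOpen_dom f⟩, rfl⟩
  refine ⟨D, hD, ?_⟩
  intro V
  rw [injective_iff_map_eq_zero]
  intro s hs
  have hloc : ∀ (x : X) (hx : x ∈ V), X.presheaf.germ V x hx s = X.presheaf.germ V x hx 0 := by
    intro x hx
    rw [map_zero]
    obtain ⟨W, mW, i, a, b, w⟩ := f.2 ⟨x, Opens.mem_top x⟩
    have hfW : ∀ (y : X) (hy : y ∈ W), f.1 ⟨y, Opens.mem_top y⟩ =
        LocalizedModule.mk (X.presheaf.germ W y hy a) (Mero.regGerm ⟨y, hy⟩ b) :=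
      fun y hy => w ⟨y, hy⟩
    obtain ⟨W₀, hW₀aff, mW₀, hW₀sub⟩ :=
      exists_isAffineOpen_mem_and_subset (x := x) (U := W ⊓ V) ⟨mW, hx⟩
    have hW₀W : W₀ ≤ W := fun y hy => (hW₀sub hy).1
    have hW₀V : W₀ ≤ V := fun y hy => (hW₀sub hy).2
    obtain ⟨b₀, hb₀e⟩ : ∃ b₀ : Γ(X, W₀), b₀ = X.presheaf.map (homOfLE hW₀W).op b.1 := ⟨_, rfl⟩
    obtain ⟨s₀, hs₀e⟩ : ∃ s₀ : Γ(X, W₀), s₀ = X.presheaf.map (homOfLE hW₀V).op s := ⟨_, rfl⟩
    have hb₀ : b₀ ∈ Mero.regSub X W₀ := by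
      rw [hb₀e]; exact Mero.regSub_res _ b.2
    have hsub : X.basicOpen b₀ ≤ X.basicOpen b.1 := by
      rw [hb₀e, Scheme.basicOpen_res]; exact inf_le_right
    have hle : X.basicOpen b₀ ≤ V ⊓ D := by
      intro y hy
      refine ⟨hW₀V (X.basicOpen_le b₀ hy), ?_⟩
      have : y ∈ (D : Set X) := by
        rw [hD]
        exact basicOpen_subset_dom f W a b hfW y (hsub hy)
      exact this
    have h0 : algebraMap Γ(X, W₀) Γ(X, X.basicOpen b₀) s₀ = 0 := by
      show X.presheaf.map (homOfLE (X.basicOpen_le b₀)).op s₀ = 0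
      rw [hs₀e, res_res (homOfLE hW₀V) (homOfLE (X.basicOpen_le b₀))
        (homOfLE (hle.trans inf_le_left)) s,
        ← res_res (homOfLE (inf_le_left : V ⊓ D ≤ V)) (homOfLE hle)
        (homOfLE (hle.trans inf_le_left)) s, hs, map_zero]
    haveI := hW₀aff.isLocalization_basicOpen b₀
    obtain ⟨⟨_, n, rfl⟩, hm⟩ := (IsLocalization.map_eq_zero_iff (Submonoid.powers b₀)
      Γ(X, X.basicOpen b₀) s₀).mp h0
    have hm' : b₀ ^ n * s₀ = 0 := hm
    have hg := congrArg (X.presheaf.germ W₀ x mW₀) hm'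
    rw [map_mul, map_pow, map_zero] at hg
    have hnzd : (X.presheaf.germ W₀ x mW₀ b₀) ^ n ∈ nonZeroDivisors (X.presheaf.stalk x) :=
      pow_mem (hb₀ ⟨x, mW₀⟩) n
    have hs₀ : X.presheaf.germ W₀ x mW₀ s₀ = 0 := (mem_nonZeroDivisors_iff_left.mp hnzd) _ hg
    rw [hs₀e, TopCat.Presheaf.germ_res_apply] at hs₀
    exact hs₀
  exact TopCat.Presheaf.section_ext X.sheaf V s 0 hloc

end Groth.Agent.S10856
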