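import Groth.Statements.S10857
import Groth.Agent.Lib.QCoh.Helper18_PullbackSupport
import Groth.Agent.Lib.QCoh.Helper18_StalkLinear
import Groth.Agent.Lib.QCoh.Coherent

set_option autoImplicit false
universe u
open QCohSup

namespace Groth.Agent.S10857

section helpers

open AlgebraicGeometry CategoryTheory CategoryTheory.Limits TopologicalSpace Opposite
open Groth.Agent.Lib.QCoh

variable {X : Scheme.{u}}

/-- the stalk functor on `O_X`-modules preserves colimits -/
instance stalkFunctor_preservesColimits (x : X) :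
    PreservesColimitsOfSize.{u, u} (stalkFunctor X x) := by
  classical
  have h1 : PreservesColimitsOfSize.{u, u} (SheafOfModules.toSheaf.{u} X.ringCatSheaf) :=
    inferInstance
  have h2 : PreservesColimitsOfSize.{u, u} (TopCat.Sheaf.forget Ab.{u} X.toTopCat ⋙
      TopCat.Presheaf.stalkFunctor Ab.{u} x) :=
    (stalkSkyscraperSheafAdjunction (C := Ab.{u}) (X := X.toTopCat) x).leftAdjoint_preservesColimits
  exact @comp_preservesColimits _ _ _ _ _ _ (SheafOfModules.toSheaf.{u} X.ringCatSheaf)
    (TopCat.Sheaf.forget Ab.{u} X.toTopCat ⋙ TopCat.Presheaf.stalkFunctor Ab.{u} x) h1 h2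

lemma stalkMap_comp_apply {M N P : X.Modules} (φ : M ⟶ N) (ψ : N ⟶ P) (x : X)
    (m : M.presheaf.stalk x) : stalkMap (φ ≫ ψ) x m = stalkMap ψ x (stalkMap φ x m) := by
  change (stalkFunctor X x).map (φ ≫ ψ) m = _
  rw [Functor.map_comp]
  rfl

lemma stalkMap_zero_apply {M N : X.Modules} (x : X) (m : M.presheaf.stalk x) :
    stalkMap (0 : M ⟶ N) x m = 0 := by
  change (stalkFunctor X x).map (0 : M ⟶ N) m = 0
  rw [Functor.map_zero]
  rfl

/-- if `φ` is surjective on the stalk at `x`, the stalk of its cokernel at `x` vanishes -/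
lemma subsingleton_stalk_cokernel {M N : X.Modules} (φ : M ⟶ N) (x : X)
    (h : Function.Surjective (stalkMap φ x)) :
    Subsingleton ((cokernel φ).presheaf.stalk x) := by
  have h0 : ∀ c : (cokernel φ).presheaf.stalk x, c = 0 := by
    intro c
    obtain ⟨b, rfl⟩ := stalkMap_surjective_of_epi (cokernel.π φ) x c
    obtain ⟨m, rfl⟩ := h b
    rw [← stalkMap_comp_apply, cokernel.condition, stalkMap_zero_apply]
  exact ⟨fun a b => (h0 a).trans (h0 b).symm⟩

variable {J : Type u} [SmallCategory J] [IsFiltered J] (D : J ⥤ X.Modules)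
  (c : Cocone D) (hc : IsColimit c)

include hc in
/-- every element of the stalk of a colimit comes from some stage -/
lemma exists_rep_stalk (x : X) (a : c.pt.presheaf.stalk x) :
    ∃ (j : J) (t : (D.obj j).presheaf.stalk x), stalkMap (c.ι.app j) x t = a := by
  have h := isColimitOfPreserves (stalkFunctor X x) hc
  exact Concrete.isColimit_exists_rep (D ⋙ stalkFunctor X x) h a

include hc in
/-- finitely many elements of the stalk of a filtered colimit come from a common stage -/
lemma exists_rep_stalk_finite (x : X) {ι : Type*} [Finite ι] (a : ι → c.pt.presheaf.stalk x) :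
    ∃ (j : J), ∀ i, ∃ (t : (D.obj j).presheaf.stalk x), stalkMap (c.ι.app j) x t = a i := by
  classical
  haveI := Fintype.ofFinite ι
  choose j t ht using fun i => exists_rep_stalk D c hc x (a i)
  obtain ⟨S, hS⟩ := IsFiltered.sup_objs_exists (Finset.univ.image j)
  refine ⟨S, fun i => ?_⟩
  obtain ⟨f⟩ := hS (Finset.mem_image_of_mem j (Finset.mem_univ i))
  refine ⟨stalkMap (D.map f) x (t i), ?_⟩
  rw [← stalkMap_comp_apply, c.w f, ht]

omit [IsFiltered J] in
/-- the cokernels of the stages form a system of quotients -/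
lemma subsingleton_stalk_cokernel_of_hom {F : X.Modules} (u : c.pt ⟶ F) {j j' : J} (f : j ⟶ j')
    (y : X) (h : Subsingleton ((cokernel (c.ι.app j ≫ u)).presheaf.stalk y)) :
    Subsingleton ((cokernel (c.ι.app j' ≫ u)).presheaf.stalk y) := by
  have hw : (c.ι.app j ≫ u) ≫ cokernel.π (c.ι.app j' ≫ u) = 0 := by
    rw [← c.w f, Category.assoc, Category.assoc, ← Category.assoc (c.ι.app j') u,
      cokernel.condition, comp_zero]
  let d : cokernel (c.ι.app j ≫ u) ⟶ cokernel (c.ι.app j' ≫ u) :=
    cokernel.desc _ (cokernel.π (c.ι.app j' ≫ u)) hw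
  have hd : cokernel.π (c.ι.app j ≫ u) ≫ d = cokernel.π (c.ι.app j' ≫ u) := cokernel.π_desc _ _ _
  haveI : Epi (cokernel.π (c.ι.app j ≫ u) ≫ d) := by rw [hd]; infer_instance
  haveI : Epi d := epi_of_epi (cokernel.π (c.ι.app j ≫ u)) d
  exact (stalkMap_surjective_of_epi d y).subsingleton

include hc in
/-- pointwise statement: some stage already surjects onto the stalk `F_x` -/
lemma exists_surjective_stalk (F : X.Modules) [F.IsQuasicoherent] [F.IsFiniteType]
    (u : c.pt ⟶ F) [Epi u] (x : X) :
    ∃ j : J, Function.Surjective (stalkMap (c.ι.app j ≫ u) x) := by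
  classical
  haveI := finite_stalk F x
  obtain ⟨n, b, hb⟩ := Module.Finite.exists_fin (R := X.presheaf.stalk x)
    (M := F.presheaf.stalk x)
  choose a ha using fun k => stalkMap_surjective_of_epi u x (b k)
  obtain ⟨j, hj⟩ := exists_rep_stalk_finite D c hc x a
  choose t ht using hj
  refine ⟨j, ?_⟩
  have hle : Submodule.span (X.presheaf.stalk x) (Set.range b) ≤
      LinearMap.range (stalkMapₗ (c.ι.app j ≫ u) x) := by
    rw [Submodule.span_le]
    rintro _ ⟨k, rfl⟩
    refine ⟨t k, ?_⟩
    rw [stalkMapₗ_apply, stalkMap_comp_apply, ht, ha]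
  rw [hb, top_le_iff, LinearMap.range_eq_top] at hle
  exact hle

end helpers

open AlgebraicGeometry CategoryTheory CategoryTheory.Limits in
/-- Take a quasi-compact scheme X, a finite-type quasi-coherent O_X-module F, and G a quasi-coherent
O_X-module which is the colimit of a filtered diagram of quasi-coherent O_X-modules G_j. A
homomorphism u : G → F is an epimorphism if and only if there is an index j₀ such that for every
index j admitting a map from j₀ the composite G_j → G → F is an epimorphism. -/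
theorem result {X : Scheme.{u}} [CompactSpace X]
    {J : Type u} [SmallCategory J] [IsFiltered J] (D : J ⥤ X.Modules) [∀ j, Coh.IsQCoh (D.obj j)]
    (c : Cocone D) (hc : IsColimit c) [Coh.IsQCoh c.pt]
    (F : X.Modules) [Coh.IsQCoh F] (hF : CohB1.IsFT F) (u : c.pt ⟶ F) :
    Epi u ↔ ∃ j₀ : J, ∀ j : J, Nonempty (j₀ ⟶ j) → Epi (c.ι.app j ≫ u) := by
  classical
  constructor
  · intro hu
    haveI : F.IsFiniteType := hF
    -- the pointwise stages and open neighbourhoods
    choose jx hjx using fun x : X => exists_surjective_stalk D c hc F u x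
    have hft : ∀ j : J, CohB1.IsFT (cokernel (c.ι.app j ≫ u)) := fun j =>
      Groth.Agent.Lib.QCoh.isFiniteType_of_epi (cokernel.π (c.ι.app j ≫ u))
    have hcl : ∀ j : J, IsClosed (CohB1.support (cokernel (c.ι.app j ≫ u))) := fun j =>
      Groth.Agent.Lib.QCoh.isClosed_support_of_isFT _ (hft j)
    have hmem : ∀ x : X, x ∈ (CohB1.support (cokernel (c.ι.app (jx x) ≫ u)))ᶜ := fun x =>
      (Groth.Agent.Lib.QCoh.notMem_support_iff _ x).2
        (subsingleton_stalk_cokernel (c.ι.app (jx x) ≫ u) x (hjx x))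
    obtain ⟨T, hT⟩ := isCompact_univ.elim_finite_subcover
      (fun x : X => (CohB1.support (cokernel (c.ι.app (jx x) ≫ u)))ᶜ)
      (fun x => (hcl (jx x)).isOpen_compl)
      (fun x _ => Set.mem_iUnion.2 ⟨x, hmem x⟩)
    obtain ⟨j₀, hj₀⟩ := IsFiltered.sup_objs_exists (T.image jx)
    refine ⟨j₀, fun j hj => ?_⟩
    obtain ⟨g⟩ := hj
    have hz : IsZero (cokernel (c.ι.app j ≫ u)) := by
      apply Groth.Agent.Lib.QCoh.isZero_of_forall_stalk_subsingleton
      intro y
      obtain ⟨x, hxT, hyx⟩ : ∃ x ∈ T, y ∈ (CohB1.support (cokernel (c.ι.app (jx x) ≫ u)))ᶜ := by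
        have := hT (Set.mem_univ y)
        simpa using this
      obtain ⟨f⟩ := hj₀ (Finset.mem_image_of_mem jx hxT)
      exact subsingleton_stalk_cokernel_of_hom D c u (f ≫ g) y
        ((Groth.Agent.Lib.QCoh.notMem_support_iff _ y).1 hyx)
    exact Preadditive.epi_of_isZero_cokernel _ hz
  · rintro ⟨j₀, h⟩
    haveI := h j₀ ⟨𝟙 j₀⟩
    exact epi_of_epi (c.ι.app j₀) u

end Groth.Agent.S10857
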