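import Groth.Statements.S10863
import Mathlib

set_option autoImplicit false
universe u
open CAlg

namespace Groth.Agent.S10863
open TensorProduct IsLocalRing
set_option linter.style.haveILetI false
set_option linter.unusedSectionVars false

variable (K B Ω : Type*) [Field K] [CommRing B] [Algebra K B] [Module.Finite K B] [Field Ω] [Algebra K Ω] [IsAlgClosed Ω]

/-- projection to the residue field at a maximal ideal -/
noncomputable abbrev proj (m : MaximalSpectrum B) : B →ₐ[K] ResidueField (Localization.AtPrime m.asIdeal) :=
  IsScalarTower.toAlgHom K B _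

lemma ker_proj (m : MaximalSpectrum B) : RingHom.ker (proj K B m) = m.asIdeal := by
  ext x
  rw [RingHom.mem_ker]
  have h1 : (proj K B m) x = residue _ (algebraMap B (Localization.AtPrime m.asIdeal) x) := rfl
  rw [h1, residue_eq_zero_iff]
  have := IsLocalization.AtPrime.under_maximalIdeal (Localization.AtPrime m.asIdeal) m.asIdeal
  rw [← Ideal.mem_comap]
  change x ∈ Ideal.under B (maximalIdeal (Localization.AtPrime m.asIdeal)) ↔ _
  rw [this]

lemma proj_surjective (m : MaximalSpectrum B) : Function.Surjective (proj K B m) := by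
  haveI := m.isMaximal
  intro y
  obtain ⟨z, hz⟩ := (IsLocalization.AtPrime.equivQuotMaximalIdeal m.asIdeal
    (Localization.AtPrime m.asIdeal)).surjective y
  obtain ⟨x, rfl⟩ := Ideal.Quotient.mk_surjective z
  exact ⟨x, hz⟩

theorem card_hom :
    Nat.card (B →ₐ[K] Ω) = ∑ᶠ m : MaximalSpectrum B,
      Field.finSepDegree K (ResidueField (Localization.AtPrime m.asIdeal)) := by
  classical
  haveI : IsArtinianRing B := IsArtinianRing.of_finite K B
  haveI : Finite (MaximalSpectrum B) := inferInstance
  haveI := Fintype.ofFinite (MaximalSpectrum B)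
  have hfin : ∀ m : MaximalSpectrum B, Module.Finite K (ResidueField (Localization.AtPrime m.asIdeal)) :=
    fun m => Module.Finite.of_surjective (proj K B m).toLinearMap (proj_surjective K B m)
  have halg : ∀ m : MaximalSpectrum B, Algebra.IsAlgebraic K (ResidueField (Localization.AtPrime m.asIdeal)) :=
    fun m => haveI := hfin m; Algebra.IsAlgebraic.of_finite _ _
  have hcard : ∀ m : MaximalSpectrum B,
      Field.finSepDegree K (ResidueField (Localization.AtPrime m.asIdeal)) =
        Nat.card (ResidueField (Localization.AtPrime m.asIdeal) →ₐ[K] Ω) :=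
    fun m => haveI := halg m; Field.finSepDegree_eq_of_isAlgClosed K _ Ω
  have hfinite : ∀ m : MaximalSpectrum B,
      Finite (ResidueField (Localization.AtPrime m.asIdeal) →ₐ[K] Ω) := by
    intro m
    haveI := hfin m
    infer_instance
  rw [finsum_eq_sum_of_fintype]
  simp_rw [hcard]
  rw [← Nat.card_sigma]
  symm
  let F : (Σ m : MaximalSpectrum B, (ResidueField (Localization.AtPrime m.asIdeal) →ₐ[K] Ω)) →
      (B →ₐ[K] Ω) := fun x => x.2.comp (proj K B x.1)
  have hker : ∀ x, RingHom.ker (F x) = x.1.asIdeal := by
    rintro ⟨m, φ⟩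
    ext b
    rw [RingHom.mem_ker, ← ker_proj K B m, RingHom.mem_ker]
    change φ (proj K B m b) = 0 ↔ _
    rw [map_eq_zero_iff φ φ.toRingHom.injective]
  apply Nat.card_congr
  refine Equiv.ofBijective F ⟨?_, ?_⟩
  · rintro ⟨m, φ⟩ ⟨m', φ'⟩ h
    have hm : m = m' := by
      apply MaximalSpectrum.ext
      rw [← hker ⟨m, φ⟩, ← hker ⟨m', φ'⟩, h]
    subst hm
    congr 1
    apply AlgHom.ext
    intro y
    obtain ⟨b, rfl⟩ := proj_surjective K B m y
    exact DFunLike.congr_fun h b
  · intro h
    haveI : (RingHom.ker h).IsPrime := RingHom.ker_isPrime _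
    have hmax : (RingHom.ker h).IsMaximal := IsArtinianRing.isMaximal_of_isPrime _
    let m : MaximalSpectrum B := ⟨RingHom.ker h, hmax⟩
    let e := Ideal.quotientKerAlgEquivOfSurjective (proj_surjective K B m)
    have hk : ∀ a ∈ RingHom.ker (proj K B m), h a = 0 := by
      intro a ha
      rw [ker_proj] at ha
      exact ha
    refine ⟨⟨m, (Ideal.Quotient.liftₐ _ h hk).comp e.symm.toAlgHom⟩, ?_⟩
    apply AlgHom.ext
    intro b
    change (Ideal.Quotient.liftₐ _ h hk) (e.symm (proj K B m b)) = h b
    have : e.symm (proj K B m b) = Ideal.Quotient.mk _ b := by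
      rw [AlgEquiv.symm_apply_eq]
      rfl
    rw [this]
    rfl



/-- homs out of a finite local algebra factor through the residue field. -/
theorem card_hom_local (k A Ω : Type*) [Field k] [CommRing A] [Algebra k A] [Module.Finite k A]
    [IsLocalRing A] [Field Ω] [Algebra k Ω] :
    Nat.card (ResidueField A →ₐ[k] Ω) = Nat.card (A →ₐ[k] Ω) := by
  haveI : IsArtinianRing A := IsArtinianRing.of_finite k A
  let G : (ResidueField A →ₐ[k] Ω) → (A →ₐ[k] Ω) :=
    fun φ => φ.comp (IsScalarTower.toAlgHom k A (ResidueField A))
  apply Nat.card_congr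
  refine Equiv.ofBijective G ⟨?_, ?_⟩
  · intro φ φ' h
    apply AlgHom.ext
    intro y
    obtain ⟨a, rfl⟩ := IsLocalRing.residue_surjective y
    exact DFunLike.congr_fun h a
  · intro g
    haveI : (RingHom.ker g).IsPrime := RingHom.ker_isPrime _
    have hmax : (RingHom.ker g).IsMaximal := IsArtinianRing.isMaximal_of_isPrime _
    have hker : RingHom.ker g = maximalIdeal A := IsLocalRing.eq_maximalIdeal hmax
    have hk : ∀ a ∈ maximalIdeal A, g a = 0 := by
      intro a ha
      rw [← hker] at ha
      exact ha
    refine ⟨Ideal.Quotient.liftₐ (maximalIdeal A) g hk, ?_⟩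
    apply AlgHom.ext
    intro a
    rfl

/-- base change adjunction for homs into a `k'`-algebra. -/
theorem card_hom_baseChange (k k' A Ω : Type*) [Field k] [Field k'] [Algebra k k'] [CommRing A]
    [Algebra k A] [Field Ω] [Algebra k Ω] [Algebra k' Ω] [IsScalarTower k k' Ω] :
    Nat.card (A →ₐ[k] Ω) = Nat.card (k' ⊗[k] A →ₐ[k'] Ω) := by
  let T : (A →ₐ[k] Ω) → (k' ⊗[k] A →ₐ[k'] Ω) :=
    fun g => Algebra.TensorProduct.lift (Algebra.ofId k' Ω) g (fun _ _ => Commute.all _ _)
  apply Nat.card_congr
  refine Equiv.ofBijective T ⟨?_, ?_⟩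
  · intro g g' h
    have h1 := Algebra.TensorProduct.lift_comp_includeRight (Algebra.ofId k' Ω) g
      (fun _ _ => Commute.all _ _)
    have h2 := Algebra.TensorProduct.lift_comp_includeRight (Algebra.ofId k' Ω) g'
      (fun _ _ => Commute.all _ _)
    rw [← h1, ← h2]
    change (AlgHom.restrictScalars k (T g)).comp _ = (AlgHom.restrictScalars k (T g')).comp _
    rw [h]
  · intro h
    refine ⟨(h.restrictScalars k).comp Algebra.TensorProduct.includeRight, ?_⟩
    apply Algebra.TensorProduct.ext
    · apply AlgHom.ext
      intro c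
      simp only [T, AlgHom.comp_apply, Algebra.TensorProduct.includeLeft_apply, Algebra.TensorProduct.lift_tmul, map_one, mul_one]
      rw [Algebra.ofId_apply, ← h.commutes c, Algebra.TensorProduct.algebraMap_apply]
      rfl
    · rw [Algebra.TensorProduct.lift_comp_includeRight]

end Groth.Agent.S10863

namespace Groth.Agent.S10863

open TensorProduct in
/-- Let k be a field, A a finite-dimensional local k-algebra with residue field κ, and k' a field
extension of k. Then the separable degree of κ over k equals the sum over the maximal ideals m' of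
k' ⊗_k A (the points of the base-changed finite scheme lying over the given point) of the separable
degrees over k' of their residue fields. -/
theorem result (k A k' : Type u) [Field k] [CommRing A] [Algebra k A]
    [Module.Finite k A] [IsLocalRing A] [Field k'] [Algebra k k'] :
    Field.finSepDegree k (IsLocalRing.ResidueField A) =
      ∑ᶠ m : MaximalSpectrum (k' ⊗[k] A),
        Field.finSepDegree k' (IsLocalRing.ResidueField (Localization.AtPrime m.asIdeal)) := by

  classical
  set_option linter.style.haveILetI false in
  haveI : Algebra.IsAlgebraic k (IsLocalRing.ResidueField A) := by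
    haveI : Module.Finite k (IsLocalRing.ResidueField A) :=
      Module.Finite.of_surjective (IsScalarTower.toAlgHom k A (IsLocalRing.ResidueField A)).toLinearMap
        IsLocalRing.residue_surjective
    exact Algebra.IsAlgebraic.of_finite _ _
  rw [Field.finSepDegree_eq_of_isAlgClosed k _ (AlgebraicClosure k'),
    Groth.Agent.S10863.card_hom_local k A (AlgebraicClosure k'),
    Groth.Agent.S10863.card_hom_baseChange k k' A (AlgebraicClosure k')]
  exact Groth.Agent.S10863.card_hom k' (k' ⊗[k] A) (AlgebraicClosure k')

end Groth.Agent.S10863
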