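import Groth.Statements.S10868
import Mathlib
-- import your own Groth.Agent.* helpers here

set_option autoImplicit false
universe u
open Mor

namespace Groth.Agent.S10868

open CategoryTheory AlgebraicGeometry in
/-- f : X → Y is a finite morphism exactly when it is proper and quasi-affine (quasi-compact, with the
inverse image of every affine open subscheme of Y a quasi-affine scheme). -/
theorem result {X Y : Scheme.{u}} (f : X ⟶ Y) :
    IsFinite f ↔ IsProper f ∧ Mor2.IsQuasiAffine f := by
  constructor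
  · intro hf
    refine ⟨inferInstance, inferInstance, fun V hV => ?_⟩
    have : IsAffine (f ⁻¹ᵁ V : Scheme.{u}) := hV.preimage f
    infer_instance
  · rintro ⟨hprop, hqc, hqa⟩
    rw [IsFinite.iff_isProper_and_isAffineHom]
    refine ⟨hprop, ⟨fun V hV => ?_⟩⟩
    have hX' : Scheme.IsQuasiAffine (f ⁻¹ᵁ V : Scheme.{u}) := hqa V hV
    have : IsAffine (V : Scheme.{u}) := hV
    -- the composite X' → Spec Γ(X') → Spec Γ(V) is proper
    have hnat := Scheme.toSpecΓ_naturality (f ∣_ V)
    have h1 : IsProper ((f ⁻¹ᵁ V : Scheme.{u}).toSpecΓ ≫ Spec.map (f ∣_ V).appTop) := by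
      rw [← hnat]
      infer_instance
    have h2 : IsProper (f ⁻¹ᵁ V : Scheme.{u}).toSpecΓ := IsProper.of_comp _ (Spec.map (f ∣_ V).appTop)
    have h3 : IsClosedImmersion (f ⁻¹ᵁ V : Scheme.{u}).toSpecΓ :=
      (IsClosedImmersion.iff_isProper_and_mono _).mpr ⟨h2, inferInstance⟩
    exact isAffine_of_isAffineHom (f ⁻¹ᵁ V : Scheme.{u}).toSpecΓ

end Groth.Agent.S10868
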