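import Groth.Statements.S10869
import Groth.Agent.Lib.Ample.Helper50_CounitGG
import Groth.Agent.Lib.BlowUp.GlobGenSpan

set_option autoImplicit false
universe u
open Coh

namespace Groth.Agent.S10869

section helpers

open AlgebraicGeometry CategoryTheory CategoryTheory.Limits TopologicalSpace Opposite
open Groth.Agent.Lib.QCoh Groth.Agent.Lib.Ample Groth.Agent.Lib.Ample.Counit Scheme.Modules
open Groth.Agent.Lib.BlowUp.GlobGenSpan

variable {X S : Scheme.{u}}

/-- If `F|_A` is globally generated, sections of `F` over an affine open of `A` are spanned by the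
restrictions of sections over `A`. -/
lemma span_eq_top_of_isGloballyGenerated (F : X.Modules) [F.IsQuasicoherent] (A : X.Opens)
    (hgg : Curv2.IsGloballyGenerated (F.restrict A.ι)) (W : (A : Scheme.{u}).Opens)
    (hW : IsAffineOpen W) (hle : A.ι ''ᵁ W ≤ A) :
    Submodule.span Γ(X, A.ι ''ᵁ W)
      (Set.range (fun m : Γ(F, A) => F.presheaf.map (homOfLE hle).op m)) = ⊤ := by
  have : (F.restrict A.ι).IsQuasicoherent := isQuasicoherent_restrict A.ι F
  rw [eq_top_iff]
  intro y _
  have hAtop : A ≤ A.ι ''ᵁ (⊤ : (A : Scheme.{u}).Opens) := fun z hz => ⟨⟨z, hz⟩, trivial, rfl⟩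
  have key : ∀ z : Γ(F.restrict A.ι, W),
      z ∈ Submodule.span Γ((A : Scheme.{u}), W) (Set.range (resTop' (F.restrict A.ι) W)) →
      (show Γ(F, A.ι ''ᵁ W) from z) ∈ Submodule.span Γ(X, A.ι ''ᵁ W)
          (Set.range (fun m : Γ(F, A) => F.presheaf.map (homOfLE hle).op m)) := by
    intro z hz
    induction hz using Submodule.span_induction with
    | mem z hz =>
      obtain ⟨m', rfl⟩ := hz
      refine Submodule.subset_span ⟨F.presheaf.map (homOfLE hAtop).op m', ?_⟩
      exact map_map_apply F _ _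
        (homOfLE (show A.ι ''ᵁ W ≤ A.ι ''ᵁ (⊤ : (A : Scheme.{u}).Opens) from
          fun z ⟨y, _, hy⟩ => ⟨y, trivial, hy⟩)) m'
    | zero => exact Submodule.zero_mem _
    | add x y _ _ hx hy => exact Submodule.add_mem _ hx hy
    | smul r x _ hx =>
      have e : (show Γ(F, A.ι ''ᵁ W) from (r • x)) =
          (show Γ(X, A.ι ''ᵁ W) from (A.ι.appIso W).inv.hom r) •
            (show Γ(F, A.ι ''ᵁ W) from x) := rfl
      have e2 : (A.ι.appIso W).inv.hom r = r := by
        rw [Scheme.Opens.ι_appIso]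
        rfl
      rw [e, e2]
      exact Submodule.smul_mem _ (show Γ(X, A.ι ''ᵁ W) from r) hx
  exact key y (mem_span_of_isGloballyGenerated (F.restrict A.ι) hgg hW y)

/-- local global generation over the affine opens of the base makes the counit an epimorphism -/
theorem epi_counit_of_isGloballyGenerated (f : X ⟶ S) (F : X.Modules) [F.IsQuasicoherent]
    (h : ∀ U : S.Opens, IsAffineOpen U → Curv2.IsGloballyGenerated (F.restrict (f ⁻¹ᵁ U).ι)) :
    Epi ((pullbackPushforwardAdjunction f).counit.app F) := by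
  let I := Σ U : S.affineOpens, (((f ⁻¹ᵁ U.1 : X.Opens) : Scheme.{u})).affineOpens
  have hBV : ∀ p : I, (f ⁻¹ᵁ p.1.1).ι ''ᵁ p.2.1 ≤ f ⁻¹ᵁ p.1.1 := by
    rintro p _ ⟨y, -, rfl⟩
    exact y.2
  refine epi_counit_of_isBasis f F (fun p : I => (f ⁻¹ᵁ p.1.1).ι ''ᵁ p.2.1) ?_
    (fun p : I => p.1.1) hBV
    (fun p => span_eq_top_of_isGloballyGenerated F (f ⁻¹ᵁ p.1.1) (h p.1.1 p.1.2) p.2.1 p.2.2 (hBV p))
  rw [Opens.isBasis_iff_nbhd]
  intro O x hxO
  obtain ⟨U, hU, hxU, -⟩ := Opens.isBasis_iff_nbhd.1 S.isBasis_affineOpens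
    (show f.base x ∈ (⊤ : S.Opens) from trivial)
  have hxA : x ∈ f ⁻¹ᵁ U := hxU
  obtain ⟨W, hW, hxW, hWO⟩ := Opens.isBasis_iff_nbhd.1
    (((f ⁻¹ᵁ U : X.Opens) : Scheme.{u})).isBasis_affineOpens
    (show (⟨x, hxA⟩ : (f ⁻¹ᵁ U : X.Opens)) ∈ (f ⁻¹ᵁ U).ι ⁻¹ᵁ O from hxO)
  refine ⟨(f ⁻¹ᵁ U).ι ''ᵁ W, ⟨⟨⟨U, hU⟩, ⟨W, hW⟩⟩, rfl⟩, ⟨⟨x, hxA⟩, hxW, rfl⟩, ?_⟩
  rintro _ ⟨y, hy, rfl⟩
  exact hWO hy

end helpers

open CategoryTheory AlgebraicGeometry in
/-- For f : X → S quasi-compact and quasi-separated and F a quasi-coherent O_X-module, the counit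
f^*f_*F → F is an epimorphism iff F is a quotient of f^*G for some quasi-coherent O_S-module G, iff
the restriction of F to the inverse image of every affine open of S is globally generated. -/
theorem result {X S : Scheme.{u}} (f : X ⟶ S) [QuasiCompact f] [QuasiSeparated f]
    (F : X.Modules) (hF : Coh.IsQCoh F) :
    (Epi ((Scheme.Modules.pullbackPushforwardAdjunction f).counit.app F) ↔
      ∃ G : S.Modules, Coh.IsQCoh G ∧ ∃ φ : (Scheme.Modules.pullback f).obj G ⟶ F, Epi φ) ∧
    (Epi ((Scheme.Modules.pullbackPushforwardAdjunction f).counit.app F) ↔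
      ∀ U : S.Opens, IsAffineOpen U → Curv2.IsGloballyGenerated (F.restrict (f ⁻¹ᵁ U).ι)) := by
  haveI : F.IsQuasicoherent := hF
  refine ⟨⟨fun h => ?_, ?_⟩, ⟨fun h U hU => ?_, fun h => ?_⟩⟩
  · exact ⟨(Scheme.Modules.pushforward f).obj F,
      Groth.Agent.Lib.QCoh.isQuasicoherent_pushforward_of_qcqs f F, _, h⟩
  · rintro ⟨G, -, φ, hφ⟩
    have e : (Scheme.Modules.pullback f).map
        ((Scheme.Modules.pullbackPushforwardAdjunction f).homEquiv G F φ) ≫
          (Scheme.Modules.pullbackPushforwardAdjunction f).counit.app F = φ := by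
      have h1 := ((Scheme.Modules.pullbackPushforwardAdjunction f).homEquiv G F).symm_apply_apply φ
      rw [Adjunction.homEquiv_counit] at h1
      exact h1
    haveI : Epi ((Scheme.Modules.pullback f).map
        ((Scheme.Modules.pullbackPushforwardAdjunction f).homEquiv G F φ) ≫
          (Scheme.Modules.pullbackPushforwardAdjunction f).counit.app F) := by rw [e]; exact hφ
    exact epi_of_epi ((Scheme.Modules.pullback f).map
        ((Scheme.Modules.pullbackPushforwardAdjunction f).homEquiv G F φ)) _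
  · exact Groth.Agent.Lib.Ample.Counit.isGloballyGenerated_restrict_of_epi_counit f F h U hU
  · exact epi_counit_of_isGloballyGenerated f F h

end Groth.Agent.S10869
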