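import Groth.Statements.S10871
import Mathlib
-- import your own Groth.Agent.* helpers here

set_option autoImplicit false
universe u
open AlgebraicGeometry
open Curves

namespace Groth.Agent.S10871
open CategoryTheory AlgebraicGeometry Limits TopologicalSpace Topology Opposite


open scoped nonZeroDivisors in
lemma alg (A : Type u) [CommRing A] [IsDedekindDomain A] (I : Ideal A) (hI : I ≠ ⊥)
    (p : Ideal A) [p.IsPrime] :
    ∃ a ∈ I, ∃ c, c ∉ p ∧ ∀ x ∈ I, c * x ∈ Ideal.span {a} := by
  let K := FractionRing A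
  have hinv : (I : FractionalIdeal A⁰ K) * (I : FractionalIdeal A⁰ K)⁻¹ = 1 :=
    FractionalIdeal.coe_ideal_mul_inv I hI
  have hex : ∃ a ∈ I, ∃ b ∈ (I : FractionalIdeal A⁰ K)⁻¹, a • b ∉ (p : FractionalIdeal A⁰ K) := by
    by_contra hcon
    push Not at hcon
    have hle : (I : FractionalIdeal A⁰ K) * (I : FractionalIdeal A⁰ K)⁻¹ ≤ (p : FractionalIdeal A⁰ K) := by
      rw [FractionalIdeal.mul_le]
      intro i hi j hj
      obtain ⟨a, ha, rfl⟩ := (FractionalIdeal.mem_coeIdeal _).mp hi
      have := hcon a ha j hj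
      rwa [Algebra.smul_def] at this
    rw [hinv] at hle
    have h1 : (1 : K) ∈ (p : FractionalIdeal A⁰ K) := hle (FractionalIdeal.one_mem_one _)
    obtain ⟨y, hy, hy1⟩ := (FractionalIdeal.mem_coeIdeal _).mp h1
    have : y = 1 := IsFractionRing.injective A K (by rw [hy1, map_one])
    exact (Ideal.IsPrime.ne_top inferInstance) ((Ideal.eq_top_iff_one p).mpr (this ▸ hy))
  obtain ⟨a, ha, b, hb, hab⟩ := hex
  have hmem : ∀ x ∈ I, ∃ y : A, algebraMap A K y = x • b := by
    intro x hx
    have h1 : algebraMap A K x * b ∈ (I : FractionalIdeal A⁰ K) * (I : FractionalIdeal A⁰ K)⁻¹ :=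
      FractionalIdeal.mul_mem_mul ((FractionalIdeal.mem_coeIdeal _).mpr ⟨x, hx, rfl⟩) hb
    rw [hinv, FractionalIdeal.mem_one_iff] at h1
    obtain ⟨y, hy⟩ := h1
    exact ⟨y, by rw [hy, Algebra.smul_def]⟩
  obtain ⟨c, hc⟩ := hmem a ha
  refine ⟨a, ha, c, ?_, ?_⟩
  · intro hcp
    apply hab
    rw [← hc]
    exact (FractionalIdeal.mem_coeIdeal _).mpr ⟨c, hcp, rfl⟩
  · intro x hx
    obtain ⟨y, hy⟩ := hmem x hx
    rw [Ideal.mem_span_singleton']
    refine ⟨y, IsFractionRing.injective A K ?_⟩
    rw [map_mul, map_mul, hy, hc, Algebra.smul_def, Algebra.smul_def]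
    ring



/-- Every open subscheme of the spectrum of a Dedekind domain is affine. -/
theorem result (A : Type u) [CommRing A] [IsDedekindDomain A]
    (U : (Spec (CommRingCat.of A)).Opens) : IsAffineOpen U := by
  let Us : Set (PrimeSpectrum A) := show Set (PrimeSpectrum A) from (U : Set (Spec (CommRingCat.of A)))
  have hUs : IsOpen Us := U.isOpen
  set I : Ideal A := PrimeSpectrum.vanishingIdeal Usᶜ with hIdef
  have hzl : PrimeSpectrum.zeroLocus (I : Set A) = Usᶜ := by
    rw [hIdef, PrimeSpectrum.zeroLocus_vanishingIdeal_eq_closure,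
      hUs.isClosed_compl.closure_eq]
  have hmemU : ∀ q : PrimeSpectrum A, q ∈ Us ↔ ∃ x ∈ I, x ∉ q.asIdeal := by
    intro q
    have : q ∈ Us ↔ q ∉ PrimeSpectrum.zeroLocus (I : Set A) := by
      rw [hzl]; simp
    rw [this, PrimeSpectrum.mem_zeroLocus, Set.not_subset]
    rfl
  by_cases hI : I = ⊥
  · have hU : U = ⊥ := by
      ext q
      simp only [Opens.coe_bot, Set.mem_empty_iff_false, iff_false, SetLike.mem_coe]
      intro hq
      obtain ⟨x, hx, hxq⟩ := (hmemU q).mp hq
      rw [hI, Ideal.mem_bot] at hx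
      exact hxq (hx ▸ q.asIdeal.zero_mem)
    rw [hU]
    exact isAffineOpen_bot _
  · suffices IsAffineHom U.ι from isAffine_of_isAffineHom U.ι
    apply isAffineHom_of_forall_exists_isAffineOpen
    intro x
    haveI := x.isPrime
    obtain ⟨a, ha, c, hc, hca⟩ := alg A I hI x.asIdeal
    refine ⟨PrimeSpectrum.basicOpen c, hc, IsAffineOpen.Spec_basicOpen (R := CommRingCat.of A) c, ?_⟩
    rw [← U.ι.isAffineOpen_iff_of_isOpenImmersion, Scheme.Hom.image_preimage_eq_opensRange_inf,
      Scheme.Opens.opensRange_ι]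
    have heq : U ⊓ PrimeSpectrum.basicOpen c = PrimeSpectrum.basicOpen (c * a) := by
      ext q
      simp only [Opens.coe_inf, Set.mem_inter_iff, SetLike.mem_coe]
      haveI := q.isPrime
      constructor
      · rintro ⟨hqU, hcq⟩
        replace hcq : c ∉ q.asIdeal := hcq
        show c * a ∉ q.asIdeal
        intro hmem
        obtain ⟨y, hy, hyq⟩ := (hmemU q).mp hqU
        rcases Ideal.IsPrime.mem_or_mem inferInstance hmem with h | h
        · exact hcq h
        · have h1 : c * y ∈ q.asIdeal := by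
            obtain ⟨z, hz⟩ := Ideal.mem_span_singleton'.mp (hca y hy)
            rw [← hz]
            exact q.asIdeal.mul_mem_left _ h
          rcases Ideal.IsPrime.mem_or_mem inferInstance h1 with h | h
          · exact hcq h
          · exact hyq h
      · intro hmem
        replace hmem : c * a ∉ q.asIdeal := hmem
        refine ⟨(hmemU q).mpr ⟨a, ha, fun h => hmem (q.asIdeal.mul_mem_left _ h)⟩,
          fun h => hmem (q.asIdeal.mul_mem_right _ h)⟩
    rw [heq]
    exact IsAffineOpen.Spec_basicOpen (R := CommRingCat.of A) (c * a)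

end Groth.Agent.S10871
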