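import Groth.Statements.S12419
import Groth.Agent.Lib.Helper57.LocalFlat
import Groth.Agent.Lib.Helper7.NilFlatInj
-- import your own Groth.Agent.* helpers here

set_option autoImplicit false
universe u
open TensorProduct
open CAlg

namespace Groth.Agent.S12419

/-- Let A → B be a local homomorphism of Noetherian local rings, m the maximal ideal of A, and φ : A →
A' a ring homomorphism to a semi-local Noetherian ring A' with Jacobson radical r', such that
φ⁻¹(r') = m and such that every power m^n contains φ⁻¹(r'^N) for some N. Then B is flat over A if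
and only if A' ⊗_A B is flat over A'. (Given φ⁻¹(r') = m, the condition on powers says that the
m-adic topology of A is induced by the r'-adic topology of A', equivalently that the induced
homomorphism of adic completions is injective, which is how the published statement phrases this
hypothesis.) -/
theorem result (A B A' : Type u) [CommRing A] [CommRing B]
    [CommRing A'] [IsNoetherianRing A] [IsLocalRing A] [IsNoetherianRing B] [IsLocalRing B]
    [Algebra A B] [IsLocalHom (algebraMap A B)] [IsNoetherianRing A'] [Finite (MaximalSpectrum A')]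
    [Algebra A A']
    (hrad : (Ideal.jacobson (⊥ : Ideal A')).comap (algebraMap A A') = IsLocalRing.maximalIdeal A)
    (htop : ∀ n : ℕ, ∃ N : ℕ,
      ((Ideal.jacobson (⊥ : Ideal A')) ^ N).comap (algebraMap A A') ≤ (IsLocalRing.maximalIdeal A) ^ n) :
    Module.Flat A B ↔ Module.Flat A' (A' ⊗[A] B) := by
  constructor
  · intro h
    infer_instance
  · intro h
    apply Groth.Agent.Lib.Helper57.flat_of_flat_mod_powers (IsLocalRing.maximalIdeal A) B ?_ ?_
    · -- ideal separatedness
      intro 𝔞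
      have : Module.Finite A 𝔞 := Module.Finite.iff_fg.mpr (IsNoetherian.noetherian 𝔞)
      have hle : (IsLocalRing.maximalIdeal A).map (algebraMap A B) ≤
          (⊥ : Ideal B).jacobson := by
        rw [IsLocalRing.jacobson_eq_maximalIdeal ⊥ bot_ne_top, Ideal.map_le_iff_le_comap]
        intro x hx
        exact _root_.map_nonunit (algebraMap A B) x hx
      have hH : IsHausdorff ((IsLocalRing.maximalIdeal A).map (algebraMap A B)) (B ⊗[A] 𝔞) :=
        IsHausdorff.of_le_jacobson _ _ hle
      refine ⟨fun x hx => hH.haus' x (fun n => ?_)⟩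
      have hxn := hx n
      rw [SModEq.zero] at hxn ⊢
      refine Submodule.smul_induction_on hxn ?_ ?_
      · intro r hr y _
        have : r • y = (algebraMap A B r) • y := (algebraMap_smul B r y).symm
        rw [this]
        refine Submodule.smul_mem_smul ?_ Submodule.mem_top
        rw [← Ideal.map_pow]
        exact Ideal.mem_map_of_mem _ hr
      · intro y z hy hz
        exact add_mem hy hz
    · intro n hn
      obtain ⟨N, hN⟩ := htop n
      set m := IsLocalRing.maximalIdeal A with hm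
      set r' := Ideal.jacobson (⊥ : Ideal A') with hr'
      let 𝔫 : Ideal A := (r' ^ N).comap (algebraMap A A')
      have h𝔫n : 𝔫 ≤ m ^ n := hN
      have hmN : m ^ N ≤ 𝔫 := by
        calc m ^ N = (r'.comap (algebraMap A A')) ^ N := by rw [hrad]
          _ ≤ (r' ^ N).comap (algebraMap A A') := Ideal.le_comap_pow _ N
      have h𝔫m : 𝔫 ≤ m := h𝔫n.trans (Ideal.pow_le_self hn.ne')
      -- algebra structures
      let algÃ : Algebra (A ⧸ 𝔫) (A' ⧸ r' ^ N) :=
        (Ideal.quotientMap (r' ^ N) (algebraMap A A') le_rfl).toAlgebra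
      have : IsScalarTower A (A ⧸ 𝔫) (A' ⧸ r' ^ N) :=
        IsScalarTower.of_algebraMap_eq (fun x => rfl)
      have hinj : Function.Injective (algebraMap (A ⧸ 𝔫) (A' ⧸ r' ^ N)) :=
        Ideal.quotientMap_injective
      -- the maximal ideal of `A ⧸ 𝔫`
      let I : Ideal (A ⧸ 𝔫) := m.map (Ideal.Quotient.mk 𝔫)
      have hInil : IsNilpotent I := by
        refine ⟨N, ?_⟩
        rw [← Ideal.map_pow, Ideal.zero_eq_bot]
        exact Ideal.map_mk_eq_bot_of_le hmN
      have hImax : I.IsMaximal :=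
        Ideal.IsMaximal.map_of_surjective_of_ker_le Ideal.Quotient.mk_surjective
          (by rw [Ideal.mk_ker]; exact h𝔫m)
      let : Field ((A ⧸ 𝔫) ⧸ I) := Ideal.Quotient.field I
      have h1 : Module.Flat ((A ⧸ 𝔫) ⧸ I) (((A ⧸ 𝔫) ⧸ I) ⊗[A ⧸ 𝔫] ((A ⧸ 𝔫) ⊗[A] B)) := by
        have : Module.Free ((A ⧸ 𝔫) ⧸ I) (((A ⧸ 𝔫) ⧸ I) ⊗[A ⧸ 𝔫] ((A ⧸ 𝔫) ⊗[A] B)) :=
          Module.Free.of_divisionRing _ _
        exact Module.Flat.of_free
      have h2a : Module.Flat (A' ⧸ r' ^ N) ((A' ⧸ r' ^ N) ⊗[A] B) :=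
        Groth.Agent.Lib.Helper7.NilFlat.flat_baseChange_of_tower A A' (A' ⧸ r' ^ N) B
      have h2 : Module.Flat (A' ⧸ r' ^ N) ((A' ⧸ r' ^ N) ⊗[A ⧸ 𝔫] ((A ⧸ 𝔫) ⊗[A] B)) :=
        Groth.Agent.Lib.Helper7.NilFlat.flat_tensor_tensor_of_tower A (A ⧸ 𝔫) (A' ⧸ r' ^ N) B
      have hflatÃ : Module.Flat (A ⧸ 𝔫) ((A ⧸ 𝔫) ⊗[A] B) :=
        Groth.Agent.Lib.Helper7.NilFlat.flat_of_injective_baseChange hinj I hInil _ h1 h2
      -- base change to `A ⧸ m ^ n`
      let : Algebra (A ⧸ 𝔫) (A ⧸ m ^ n) := (Ideal.Quotient.factor h𝔫n).toAlgebra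
      have : IsScalarTower A (A ⧸ 𝔫) (A ⧸ m ^ n) :=
        IsScalarTower.of_algebraMap_eq (fun x => rfl)
      exact Groth.Agent.Lib.Helper7.NilFlat.flat_baseChange_of_tower A (A ⧸ 𝔫) (A ⧸ m ^ n) B

end Groth.Agent.S12419
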