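import Groth.Statements.S10876
import Groth.Agent.S12419
-- import your own Groth.Agent.* helpers here

set_option autoImplicit false
universe u
open TensorProduct
open CAlg

namespace Groth.Agent.S10876

/-- Descent of flatness along finite injective maps: let A → B be a local homomorphism of Noetherian
local rings and A → A' an injective ring homomorphism making A' a finite A-module. Then B is A-flat
if and only if the base change A' ⊗_A B is A'-flat. -/
theorem result (A B A' : Type u) [CommRing A] [CommRing B]
    [CommRing A'] [IsNoetherianRing A] [IsLocalRing A] [IsNoetherianRing B] [IsLocalRing B]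
    [Algebra A B] [IsLocalHom (algebraMap A B)] [Algebra A A'] [Module.Finite A A']
    (hinj : Function.Injective (algebraMap A A')) :
    Module.Flat A B ↔ Module.Flat A' (A' ⊗[A] B) := by
  have hint : Algebra.IsIntegral A A' := inferInstance
  have hnoeth : IsNoetherianRing A' := IsNoetherianRing.of_finite A A'
  have hnontriv : Nontrivial A' := hinj.nontrivial
  -- every maximal ideal of `A'` lies over the maximal ideal of `A`
  have hover : ∀ M : Ideal A', M.IsMaximal →
      M.comap (algebraMap A A') = IsLocalRing.maximalIdeal A := by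
    intro M hM
    have : (M.comap (algebraMap A A')).IsMaximal :=
      Ideal.isMaximal_comap_of_isIntegral_of_isMaximal M
    exact IsLocalRing.eq_maximalIdeal this
  have hfinite : Finite (MaximalSpectrum A') := by
    have hfin := Algebra.QuasiFinite.finite_primesOver (R := A) (S := A')
      (IsLocalRing.maximalIdeal A)
    have := hfin.to_subtype
    let φ : MaximalSpectrum A' → ((IsLocalRing.maximalIdeal A).primesOver A') := fun M =>
      ⟨M.asIdeal, ⟨M.isMaximal.isPrime, ⟨(hover _ M.isMaximal).symm⟩⟩⟩
    refine Finite.of_injective φ ?_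
    intro M M' h
    have : M.asIdeal = M'.asIdeal := congrArg Subtype.val h
    exact MaximalSpectrum.ext this
  -- the Jacobson radical
  have hrad : (Ideal.jacobson (⊥ : Ideal A')).comap (algebraMap A A') =
      IsLocalRing.maximalIdeal A := by
    apply le_antisymm
    · apply IsLocalRing.le_maximalIdeal
      intro htop
      rw [Ideal.comap_eq_top_iff, Ideal.jacobson_eq_top_iff] at htop
      exact bot_ne_top htop
    · intro x hx
      rw [Ideal.mem_comap, Ideal.jacobson, Ideal.mem_sInf]
      rintro M ⟨-, hM⟩
      have h1 := hover M hM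
      rw [← h1] at hx
      exact hx
  -- the radical of `𝔪 A'`
  have hle_rad : Ideal.jacobson (⊥ : Ideal A') ≤
      ((IsLocalRing.maximalIdeal A).map (algebraMap A A')).radical := by
    rw [Ideal.radical_eq_sInf]
    apply le_sInf
    rintro J ⟨hJ, hJprime⟩
    have hJc : J.comap (algebraMap A A') = IsLocalRing.maximalIdeal A := by
      have h1 : IsLocalRing.maximalIdeal A ≤ J.comap (algebraMap A A') :=
        Ideal.map_le_iff_le_comap.mp hJ
      have h2 : (J.comap (algebraMap A A')).IsPrime := Ideal.comap_isPrime _ _
      exact ((IsLocalRing.maximalIdeal.isMaximal A).eq_of_le h2.ne_top h1).symm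
    have hJmax : J.IsMaximal :=
      Ideal.isMaximal_of_isIntegral_of_isMaximal_comap (R := A) J
        (hJc ▸ IsLocalRing.maximalIdeal.isMaximal A)
    exact sInf_le ⟨bot_le, hJmax⟩
  obtain ⟨e, he⟩ := Ideal.exists_pow_le_of_le_radical_of_fg hle_rad
    (IsNoetherian.noetherian _)
  -- Artin–Rees
  obtain ⟨c, hc⟩ := Ideal.exists_pow_inf_eq_pow_smul (IsLocalRing.maximalIdeal A)
    (LinearMap.range (Algebra.linearMap A A'))
  have htop : ∀ n : ℕ, ∃ N : ℕ,
      ((Ideal.jacobson (⊥ : Ideal A')) ^ N).comap (algebraMap A A') ≤
        (IsLocalRing.maximalIdeal A) ^ n := by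
    intro n
    refine ⟨e * (n + c), ?_⟩
    intro x hx
    rw [Ideal.mem_comap, pow_mul] at hx
    have h1 : algebraMap A A' x ∈
        ((IsLocalRing.maximalIdeal A).map (algebraMap A A')) ^ (n + c) :=
      Ideal.pow_right_mono he (n + c) hx
    rw [← Ideal.map_pow] at h1
    have h2 : algebraMap A A' x ∈
        ((IsLocalRing.maximalIdeal A) ^ (n + c) • (⊤ : Submodule A A')) ⊓
          LinearMap.range (Algebra.linearMap A A') := by
      refine ⟨?_, ⟨x, rfl⟩⟩
      rw [Ideal.smul_top_eq_map]
      exact h1
    rw [hc (n + c) (by omega), Nat.add_sub_cancel] at h2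
    have h3 : (IsLocalRing.maximalIdeal A) ^ n •
        ((IsLocalRing.maximalIdeal A) ^ c • (⊤ : Submodule A A') ⊓
          LinearMap.range (Algebra.linearMap A A')) ≤
        Submodule.map (Algebra.linearMap A A') ((IsLocalRing.maximalIdeal A) ^ n) := by
      rw [Submodule.smul_le]
      rintro a ha _ ⟨-, ⟨y, rfl⟩⟩
      refine ⟨a * y, Ideal.mul_mem_right _ _ ha, ?_⟩
      simp [Algebra.smul_def]
    obtain ⟨z, hz, hzx⟩ := h3 h2
    have : z = x := hinj hzx
    rw [← this]
    exact hz
  exact Groth.Agent.S12419.result A B A' hrad htop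

end Groth.Agent.S10876
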