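import Groth.Statements.S10877
import Mathlib
-- import your own Groth.Agent.* helpers here

set_option autoImplicit false
universe u
open CategoryTheory AlgebraicGeometry
open FlatMor

namespace Groth.Agent.S10877
open CategoryTheory AlgebraicGeometry Limits TopologicalSpace Topology Opposite


/-- equalizer of two morphisms over a separated base morphism, as a closed immersion -/
lemma exists_eq_closed {Z X S : Scheme.{u}} (p : X ⟶ S) [IsSeparated p] (a b : Z ⟶ X)
    (hab : a ≫ p = b ≫ p) :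
    ∃ (E : Scheme.{u}) (e : E ⟶ Z), IsClosedImmersion e ∧ e ≫ a = e ≫ b ∧
      ∀ (T : Scheme.{u}) (z : T ⟶ Z), z ≫ a = z ≫ b → ∃ z' : T ⟶ E, z' ≫ e = z := by
  refine ⟨pullback (pullback.lift a b hab) (pullback.diagonal p), pullback.fst _ _,
    MorphismProperty.pullback_fst _ _ inferInstance, ?_, ?_⟩
  · have h := pullback.condition (f := pullback.lift a b hab) (g := pullback.diagonal p)
    have h1 := congr($h ≫ pullback.fst p p)
    have h2 := congr($h ≫ pullback.snd p p)
    simp only [Category.assoc, pullback.lift_fst, pullback.lift_snd, pullback.diagonal_fst,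
      pullback.diagonal_snd, Category.comp_id] at h1 h2
    rw [h1, h2]
  · intro T z hz
    refine ⟨pullback.lift z (z ≫ a) ?_, pullback.lift_fst _ _ _⟩
    apply pullback.hom_ext
    · simp only [Category.assoc, pullback.lift_fst, pullback.diagonal_fst, Category.comp_id]
    · simp only [Category.assoc, pullback.lift_snd, pullback.diagonal_snd, Category.comp_id, hz]

/-- two points of opens `U₁, U₂` with the same image are equal, when `f` is separated and an open
immersion on `U₁` and `U₂`, and `U₂` is dense -/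
lemma eq_of_eq {X Y : Scheme.{u}} (f : X ⟶ Y) [IsSeparated f] (U₁ U₂ : X.Opens)
    (hd : Dense (U₂ : Set X)) [IsOpenImmersion (U₁.ι ≫ f)] [IsOpenImmersion (U₂.ι ≫ f)]
    (x₁ x₂ : X) (h₁ : x₁ ∈ U₁) (h₂ : x₂ ∈ U₂) (h : f x₁ = f x₂) : x₁ = x₂ := by
  set g₁ := U₁.ι ≫ f
  set g₂ := U₂.ι ≫ f
  obtain ⟨z, hz₁, hz₂⟩ := Scheme.Pullback.exists_preimage_pullback (f := g₁) (g := g₂)
    ⟨x₁, h₁⟩ ⟨x₂, h₂⟩ h
  set a : pullback g₁ g₂ ⟶ X := pullback.fst g₁ g₂ ≫ U₁.ι
  set b : pullback g₁ g₂ ⟶ X := pullback.snd g₁ g₂ ≫ U₂.ι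
  have hab : a ≫ f = b ≫ f := by
    simp only [a, b, Category.assoc]; exact pullback.condition
  obtain ⟨E, e, he, hee, hE⟩ := exists_eq_closed f a b hab
  -- the morphism from the intersection
  let d : (U₁ ⊓ U₂).toScheme ⟶ pullback g₁ g₂ :=
    pullback.lift (X.homOfLE inf_le_left) (X.homOfLE inf_le_right) (by simp [g₁, g₂])
  have hda : d ≫ a = (U₁ ⊓ U₂).ι := by
    simp only [d, a]
    rw [pullback.lift_fst_assoc, Scheme.homOfLE_ι]
  have hdb : d ≫ b = (U₁ ⊓ U₂).ι := by
    simp only [d, b]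
    rw [pullback.lift_snd_assoc, Scheme.homOfLE_ι]
  obtain ⟨d', hd'⟩ := hE _ d (hda.trans hdb.symm)
  have hdense : DenseRange d := by
    rw [DenseRange, dense_iff_inter_open]
    intro O hO ⟨o, ho⟩
    have hopen : IsOpen (U₁.ι '' (pullback.fst g₁ g₂ '' O)) :=
      U₁.ι.isOpenEmbedding.isOpenMap _ ((pullback.fst g₁ g₂).isOpenEmbedding.isOpenMap _ hO)
    obtain ⟨u, ⟨_, ⟨o', ho', rfl⟩, rfl⟩, hu₂⟩ := hd.inter_open_nonempty _ hopen
      ⟨_, ⟨_, ⟨o, ho, rfl⟩, rfl⟩⟩
    have hu₁ : (U₁.ι (pullback.fst g₁ g₂ o')) ∈ U₁ := (pullback.fst g₁ g₂ o').2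
    let w : (U₁ ⊓ U₂).toScheme := ⟨U₁.ι (pullback.fst g₁ g₂ o'), ⟨hu₁, hu₂⟩⟩
    refine ⟨o', ho', w, ?_⟩
    apply (pullback.fst g₁ g₂).isOpenEmbedding.injective
    apply U₁.ι.isOpenEmbedding.injective
    rw [← Scheme.Hom.comp_apply, ← Scheme.Hom.comp_apply, ← Scheme.Hom.comp_apply]
    change (d ≫ a) w = _
    rw [hda]
    rfl
  have hsurj : Function.Surjective e := by
    have h1 : DenseRange e := by
      refine Dense.mono ?_ hdense
      rintro _ ⟨w, rfl⟩
      exact ⟨d' w, by rw [← Scheme.Hom.comp_apply, hd']⟩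
    have h2 := e.isClosedEmbedding.isClosed_range
    rw [← Set.range_eq_univ, ← h2.closure_eq]
    exact h1.closure_range
  obtain ⟨z', rfl⟩ := hsurj z
  have h3 : a (e z') = b (e z') := by
    rw [← Scheme.Hom.comp_apply, ← Scheme.Hom.comp_apply, hee]
  have h4 : a (e z') = x₁ := by
    simp only [a, Scheme.Hom.comp_apply]
    rw [hz₁]; rfl
  have h5 : b (e z') = x₂ := by
    simp only [b, Scheme.Hom.comp_apply]
    rw [hz₂]; rfl
  rw [← h4, ← h5, h3]


/-- A separated morphism f : X → Y, with X having finitely many irreducible components, which restricts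
to an open immersion on each member of a cover of X by dense open subsets, is an open immersion. -/
theorem result {X Y : Scheme.{u}} (f : X ⟶ Y) [IsSeparated f]
    (hfin : (irreducibleComponents (X : Type u)).Finite) {ι : Type u} (U : ι → X.Opens)
    (hU : ⨆ i, U i = ⊤) (hd : ∀ i, Dense (U i : Set X)) (h : ∀ i, IsOpenImmersion ((U i).ι ≫ f)) :
    IsOpenImmersion f := by
  have hcov : ∀ x : X, ∃ i, x ∈ U i := fun x => by
    have : x ∈ ⨆ i, U i := hU ▸ Opens.mem_top x
    exact Opens.mem_iSup.mp this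
  have hinj : Function.Injective f := by
    intro x₁ x₂ hx
    obtain ⟨i, hi⟩ := hcov x₁
    obtain ⟨j, hj⟩ := hcov x₂
    haveI := h i
    haveI := h j
    exact eq_of_eq f (U i) (U j) (hd j) x₁ x₂ hi hj hx
  have hopen : IsOpenMap f := by
    intro O hO
    rw [isOpen_iff_mem_nhds]
    rintro _ ⟨x, hxO, rfl⟩
    obtain ⟨i, hi⟩ := hcov x
    haveI := h i
    have h1 : IsOpen (((U i).ι ≫ f) '' ((U i).ι ⁻¹' O)) :=
      ((U i).ι ≫ f).isOpenEmbedding.isOpenMap _ (hO.preimage (U i).ι.continuous)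
    refine Filter.mem_of_superset (h1.mem_nhds ⟨⟨x, hi⟩, hxO, rfl⟩) ?_
    rintro _ ⟨u, hu, rfl⟩
    exact ⟨(U i).ι u, hu, rfl⟩
  have hemb : IsOpenEmbedding f :=
    IsOpenEmbedding.of_continuous_injective_isOpenMap f.continuous hinj hopen
  haveI : ∀ x, IsIso (f.stalkMap x) := by
    intro x
    obtain ⟨i, hi⟩ := hcov x
    haveI := h i
    let x' : (U i).toScheme := ⟨x, hi⟩
    have h1 : IsIso (((U i).ι ≫ f).stalkMap x') := inferInstance
    rw [Scheme.Hom.stalkMap_comp] at h1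
    exact @IsIso.of_isIso_comp_right _ _ _ _ _ (f.stalkMap ((U i).ι x')) ((U i).ι.stalkMap x')
      inferInstance h1
  exact IsOpenImmersion.of_isIso_stalkMap f hemb

end Groth.Agent.S10877
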