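import Groth.Statements.S10878
import Mathlib
-- import your own Groth.Agent.* helpers here

set_option autoImplicit false
universe u
open CategoryTheory AlgebraicGeometry
open FlatMor

namespace Groth.Agent.S10878
open CategoryTheory AlgebraicGeometry Limits TopologicalSpace Topology Opposite


/-- equalizer of two morphisms over a separated base morphism, as a closed immersion -/
lemma exists_eq_closed {Z X S : Scheme.{u}} (p : X ⟶ S) [IsSeparated p] (a b : Z ⟶ X)
    (hab : a ≫ p = b ≫ p) :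
    ∃ (E : Scheme.{u}) (e : E ⟶ Z), IsClosedImmersion e ∧ e ≫ a = e ≫ b ∧
      ∀ (T : Scheme.{u}) (z : T ⟶ Z), z ≫ a = z ≫ b → ∃ z' : T ⟶ E, z' ≫ e = z := by
  refine ⟨pullback (pullback.lift a b hab) (pullback.diagonal p), pullback.fst _ _,
    MorphismProperty.pullback_fst _ _ inferInstance, ?_, ?_⟩
  · have h := pullback.condition (f := pullback.lift a b hab) (g := pullback.diagonal p)
    have h1 := congr($h ≫ pullback.fst p p)
    have h2 := congr($h ≫ pullback.snd p p)
    simp only [Category.assoc, pullback.lift_fst, pullback.lift_snd, pullback.diagonal_fst,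
      pullback.diagonal_snd, Category.comp_id] at h1 h2
    rw [h1, h2]
  · intro T z hz
    refine ⟨pullback.lift z (z ≫ a) ?_, pullback.lift_fst _ _ _⟩
    apply pullback.hom_ext
    · simp only [Category.assoc, pullback.lift_fst, pullback.diagonal_fst, Category.comp_id]
    · simp only [Category.assoc, pullback.lift_snd, pullback.diagonal_snd, Category.comp_id, hz]

lemma eq_of_eq {X Y : Scheme.{u}} (f : X ⟶ Y) [IsSeparated f] (U₁ U₂ : X.Opens)
    (hd : Dense (U₂ : Set X)) [IsPreimmersion (U₁.ι ≫ f)] [IsPreimmersion (U₂.ι ≫ f)]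
    (hopen : IsOpen ((U₁.ι ≫ f) ⁻¹' Set.range (U₂.ι ≫ f)))
    (x₁ x₂ : X) (h₁ : x₁ ∈ U₁) (h₂ : x₂ ∈ U₂) (h : f x₁ = f x₂) : x₁ = x₂ := by
  set g₁ := U₁.ι ≫ f
  set g₂ := U₂.ι ≫ f
  obtain ⟨z, hz₁, hz₂⟩ := Scheme.Pullback.exists_preimage_pullback (f := g₁) (g := g₂)
    ⟨x₁, h₁⟩ ⟨x₂, h₂⟩ h
  set a : pullback g₁ g₂ ⟶ X := pullback.fst g₁ g₂ ≫ U₁.ι
  set b : pullback g₁ g₂ ⟶ X := pullback.snd g₁ g₂ ≫ U₂.ι
  have hab : a ≫ f = b ≫ f := by
    simp only [a, b, Category.assoc]; exact pullback.condition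
  obtain ⟨E, e, he, hee, hE⟩ := exists_eq_closed f a b hab
  haveI : IsPreimmersion (pullback.fst g₁ g₂) := MorphismProperty.pullback_fst _ _ inferInstance
  have hfst : IsOpenEmbedding (pullback.fst g₁ g₂) :=
    ⟨(pullback.fst g₁ g₂).isEmbedding, by rw [Scheme.Pullback.range_fst]; exact hopen⟩
  -- the morphism from the intersection
  let d : (U₁ ⊓ U₂).toScheme ⟶ pullback g₁ g₂ :=
    pullback.lift (X.homOfLE inf_le_left) (X.homOfLE inf_le_right) (by simp [g₁, g₂])
  have hda : d ≫ a = (U₁ ⊓ U₂).ι := by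
    simp only [d, a]
    rw [pullback.lift_fst_assoc, Scheme.homOfLE_ι]
  have hdb : d ≫ b = (U₁ ⊓ U₂).ι := by
    simp only [d, b]
    rw [pullback.lift_snd_assoc, Scheme.homOfLE_ι]
  obtain ⟨d', hd'⟩ := hE _ d (hda.trans hdb.symm)
  have hdense : DenseRange d := by
    rw [DenseRange, dense_iff_inter_open]
    intro O hO ⟨o, ho⟩
    have hopen : IsOpen (U₁.ι '' (pullback.fst g₁ g₂ '' O)) :=
      U₁.ι.isOpenEmbedding.isOpenMap _ (hfst.isOpenMap _ hO)
    obtain ⟨u, ⟨_, ⟨o', ho', rfl⟩, rfl⟩, hu₂⟩ := hd.inter_open_nonempty _ hopen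
      ⟨_, ⟨_, ⟨o, ho, rfl⟩, rfl⟩⟩
    have hu₁ : (U₁.ι (pullback.fst g₁ g₂ o')) ∈ U₁ := (pullback.fst g₁ g₂ o').2
    let w : (U₁ ⊓ U₂).toScheme := ⟨U₁.ι (pullback.fst g₁ g₂ o'), ⟨hu₁, hu₂⟩⟩
    refine ⟨o', ho', w, ?_⟩
    apply hfst.injective
    apply U₁.ι.isOpenEmbedding.injective
    rw [← Scheme.Hom.comp_apply, ← Scheme.Hom.comp_apply, ← Scheme.Hom.comp_apply]
    change (d ≫ a) w = _
    rw [hda]
    rfl
  have hsurj : Function.Surjective e := by
    have h1 : DenseRange e := by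
      refine Dense.mono ?_ hdense
      rintro _ ⟨w, rfl⟩
      exact ⟨d' w, by rw [← Scheme.Hom.comp_apply, hd']⟩
    have h2 := e.isClosedEmbedding.isClosed_range
    rw [← Set.range_eq_univ, ← h2.closure_eq]
    exact h1.closure_range
  obtain ⟨z', rfl⟩ := hsurj z
  have h3 : a (e z') = b (e z') := by
    rw [← Scheme.Hom.comp_apply, ← Scheme.Hom.comp_apply, hee]
  have h4 : a (e z') = x₁ := by
    simp only [a, Scheme.Hom.comp_apply]
    rw [hz₁]; rfl
  have h5 : b (e z') = x₂ := by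
    simp only [b, Scheme.Hom.comp_apply]
    rw [hz₂]; rfl
  rw [← h4, ← h5, h3]


/-- A separated morphism f : X → Y, with X having finitely many irreducible components, which restricts
to an immersion on each member of a cover of X by dense open subsets, is an immersion. -/
theorem result {X Y : Scheme.{u}} (f : X ⟶ Y) [IsSeparated f]
    (hfin : (irreducibleComponents (X : Type u)).Finite) {ι : Type u} (U : ι → X.Opens)
    (hU : ⨆ i, U i = ⊤) (hd : ∀ i, Dense (U i : Set X)) (h : ∀ i, IsImmersion ((U i).ι ≫ f)) :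
    IsImmersion f := by
  have hcov : ∀ x : X, ∃ i, x ∈ U i := fun x => by
    have : x ∈ ⨆ i, U i := hU ▸ Opens.mem_top x
    exact Opens.mem_iSup.mp this
  set Z := closure (Set.range f) with hZ
  have hrange : ∀ i, Set.range ((U i).ι ≫ f) = f '' (U i : Set X) := by
    intro i
    ext y
    constructor
    · rintro ⟨u, rfl⟩
      exact ⟨u.1, u.2, rfl⟩
    · rintro ⟨x, hx, rfl⟩
      exact ⟨⟨x, hx⟩, rfl⟩
  have hcl : ∀ i, closure (Set.range ((U i).ι ≫ f)) = Z := by
    intro i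
    rw [hrange]
    apply subset_antisymm (closure_mono (Set.image_subset_range _ _))
    have h1 := image_closure_subset_closure_image (s := (U i : Set X)) f.continuous
    rw [(hd i).closure_eq, Set.image_univ] at h1
    exact closure_minimal h1 isClosed_closure
  have hWo : ∀ i, IsOpen (coborder (Set.range ((U i).ι ≫ f))) := fun i =>
    ((h i).isLocallyClosed_range).isOpen_coborder
  have hW : ∀ i, coborder (Set.range ((U i).ι ≫ f)) ∩ Z = Set.range ((U i).ι ≫ f) := by
    intro i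
    rw [← hcl i, coborder_inter_closure]
  have hpre : ∀ j, f ⁻¹' (Set.range ((U j).ι ≫ f)) =
      f ⁻¹' (coborder (Set.range ((U j).ι ≫ f))) := by
    intro j
    ext x
    constructor
    · intro hx
      rw [Set.mem_preimage, ← hW j] at hx
      exact hx.1
    · intro hx
      rw [Set.mem_preimage, ← hW j]
      exact ⟨hx, subset_closure ⟨x, rfl⟩⟩
  have hinj : Function.Injective f := by
    intro x₁ x₂ hx
    obtain ⟨i, hi⟩ := hcov x₁
    obtain ⟨j, hj⟩ := hcov x₂
    haveI := h i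
    haveI := h j
    refine eq_of_eq f (U i) (U j) (hd j) ?_ x₁ x₂ hi hj hx
    have : ((U i).ι ≫ f) ⁻¹' Set.range ((U j).ι ≫ f) =
        (U i).ι ⁻¹' (f ⁻¹' (Set.range ((U j).ι ≫ f))) := rfl
    rw [this, hpre j]
    exact ((hWo j).preimage f.continuous).preimage (U i).ι.continuous
  have hpreU : ∀ i, f ⁻¹' (coborder (Set.range ((U i).ι ≫ f))) ⊆ (U i : Set X) := by
    intro i x hx
    rw [← hpre i] at hx
    obtain ⟨u, hu⟩ := hx
    have : (U i).ι u = x := hinj hu
    rw [← this]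
    exact u.2
  have hemb : IsEmbedding f := by
    refine ⟨isInducing_iff_nhds.mpr fun x => ?_, hinj⟩
    obtain ⟨i, hi⟩ := hcov x
    haveI := h i
    let x' : (U i).toScheme := ⟨x, hi⟩
    have h1 : Filter.map (U i).ι (𝓝 x') = 𝓝 x := (U i).ι.isOpenEmbedding.map_nhds_eq x'
    have h2 : 𝓝 x' = Filter.comap ((U i).ι ≫ f) (𝓝 (f x)) :=
      (((U i).ι ≫ f).isEmbedding.isInducing.nhds_eq_comap x')
    have h3 : ⇑((U i).ι ≫ f) = f ∘ (U i).ι := rfl
    rw [← h1, h2, h3, ← Filter.comap_comap, Filter.map_comap, Scheme.Opens.range_ι,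
      inf_eq_left, Filter.le_principal_iff]
    exact ⟨_, (hWo i).mem_nhds (subset_coborder ⟨⟨x, hi⟩, rfl⟩), hpreU i⟩
  have hlc : IsLocallyClosed (Set.range f) := by
    have : Set.range f = (⋃ i, coborder (Set.range ((U i).ι ≫ f))) ∩ Z := by
      ext y
      constructor
      · rintro ⟨x, rfl⟩
        obtain ⟨i, hi⟩ := hcov x
        exact ⟨Set.mem_iUnion.mpr ⟨i, subset_coborder ⟨⟨x, hi⟩, rfl⟩⟩, subset_closure ⟨x, rfl⟩⟩
      · rintro ⟨hy, hyZ⟩
        obtain ⟨i, hi⟩ := Set.mem_iUnion.mp hy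
        have : y ∈ Set.range ((U i).ι ≫ f) := by rw [← hW i]; exact ⟨hi, hyZ⟩
        obtain ⟨u, rfl⟩ := this
        exact ⟨(U i).ι u, rfl⟩
    rw [this]
    exact (isOpen_iUnion hWo).isLocallyClosed.inter isClosed_closure.isLocallyClosed
  haveI : SurjectiveOnStalks f :=
    IsZariskiLocalAtSource.of_iSup_eq_top (P := @SurjectiveOnStalks) U hU
      (fun i => by haveI := h i; infer_instance)
  haveI : IsPreimmersion f := ⟨hemb⟩
  exact ⟨hlc⟩

end Groth.Agent.S10878
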