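import Groth.Statements.S9159
-- import your own Groth.Agent.* helpers here
import Mathlib
import Groth.Agent.Lib.Helper62.DimLoc8
import Groth.Agent.Lib.Helper29.RegHom
import Groth.Agent.Lib.Helper33.CMFlatLocal
import Groth.Agent.Lib.Helper73.DimField
import Groth.Agent.Lib.Helper73.Chevalley

set_option autoImplicit false
universe u
open CAlg

namespace Groth.Agent.S9159

open CAlg

open IsLocalRing

theorem isLocalHom_atPrime {P S : Type u} [CommRing P] [CommRing S] [Algebra P S]
    (q : Ideal S) [q.IsPrime] (p : Ideal P) [p.IsPrime] [q.LiesOver p]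
    [Algebra (Localization.AtPrime p) (Localization.AtPrime q)]
    [Localization.AtPrime.IsLiesOverAlgebra p q] :
    IsLocalHom (algebraMap (Localization.AtPrime p) (Localization.AtPrime q)) := by
  rw [Localization.AtPrime.IsLiesOverAlgebra.algebraMap_eq]
  exact Localization.isLocalHom_localRingHom _ _ _ _

/-- primes of the closed fibre of a quasi-finite localisation: Krull dimension zero. -/
theorem dim_fibre_eq_zero {P S : Type u} [CommRing P] [CommRing S] [Algebra P S]
    [Algebra.QuasiFinite P S] (q : Ideal S) [q.IsPrime] (p : Ideal P) [p.IsPrime] [q.LiesOver p]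
    [Algebra (Localization.AtPrime p) (Localization.AtPrime q)]
    [Localization.AtPrime.IsLiesOverAlgebra p q] :
    ringKrullDim (Localization.AtPrime q ⧸ (maximalIdeal (Localization.AtPrime p)).map
      (algebraMap (Localization.AtPrime p) (Localization.AtPrime q))) = 0 := by
  haveI := isLocalHom_atPrime q p
  set I := (maximalIdeal (Localization.AtPrime p)).map
      (algebraMap (Localization.AtPrime p) (Localization.AtPrime q)) with hI
  have hIle : I ≤ maximalIdeal (Localization.AtPrime q) :=
    IsLocalRing.map_maximalIdeal_le _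
  haveI : Nontrivial (Localization.AtPrime q ⧸ I) :=
    Ideal.Quotient.nontrivial_iff.mpr (fun h => (IsLocalRing.maximalIdeal.isMaximal _).ne_top
      (top_le_iff.mp (h ▸ hIle)))
  rw [← ringKrullDimZero_iff_ringKrullDim_eq_zero,
    Ideal.krullDimLE_zero_quotient_iff_forall_minimalPrimes_isMaximal]
  intro J hJ
  haveI : J.IsPrime := hJ.1.1
  have hIJ : I ≤ J := hJ.1.2
  set J' : Ideal S := J.comap (algebraMap S (Localization.AtPrime q)) with hJ'
  haveI : J'.IsPrime := Ideal.comap_isPrime _ _
  have hJ'q : J' ≤ q := by
    have h1 : J ≤ maximalIdeal (Localization.AtPrime q) := IsLocalRing.le_maximalIdeal hJ.1.1.ne_top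
    have h2 := Ideal.comap_mono (f := algebraMap S (Localization.AtPrime q)) h1
    have h3 : (maximalIdeal (Localization.AtPrime q)).comap (algebraMap S (Localization.AtPrime q)) = q :=
      Localization.AtPrime.comap_maximalIdeal
    rwa [h3] at h2
  have hunder : J'.under P = q.under P := by
    apply le_antisymm (Ideal.comap_mono hJ'q)
    intro x hx
    have hxp : x ∈ p := by rw [Ideal.LiesOver.over (p := p) (P := q)]; exact hx
    show algebraMap P S x ∈ J'
    rw [hJ', Ideal.mem_comap]
    apply hIJ
    have : algebraMap S (Localization.AtPrime q) (algebraMap P S x) =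
        algebraMap (Localization.AtPrime p) (Localization.AtPrime q)
          (algebraMap P (Localization.AtPrime p) x) := by
      rw [← IsScalarTower.algebraMap_apply, ← IsScalarTower.algebraMap_apply]
    rw [this]
    apply Ideal.mem_map_of_mem
    rw [← Localization.AtPrime.map_eq_maximalIdeal]
    exact Ideal.mem_map_of_mem _ hxp
  have hJq : J' = q := Algebra.QuasiFinite.eq_of_le_of_under_eq (R := P) J' q hJ'q hunder
  have : J = maximalIdeal (Localization.AtPrime q) := by
    have hmap : Ideal.map (algebraMap S (Localization.AtPrime q)) J' = J :=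
      IsLocalization.map_comap q.primeCompl _ J
    have h3 : Ideal.map (algebraMap S (Localization.AtPrime q)) J' =
        Ideal.map (algebraMap S (Localization.AtPrime q)) q := congrArg _ hJq
    rw [← hmap, h3, Localization.AtPrime.map_eq_maximalIdeal]
  rw [this]
  exact IsLocalRing.maximalIdeal.isMaximal _

lemma exists_nat_of_ne {x : WithBot ℕ∞} (h1 : x ≠ ⊥) (h2 : x ≠ ⊤) : ∃ n : ℕ, x = n := by
  induction x using WithBot.recBotCoe with
  | bot => exact absurd rfl h1
  | coe y =>
    induction y using ENat.recTopCoe with
    | top => exact absurd rfl h2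
    | coe n => exact ⟨n, rfl⟩

theorem exists_nat_ringKrullDim (R : Type*) [CommRing R] [IsNoetherianRing R] [IsLocalRing R] :
    ∃ n : ℕ, ringKrullDim R = n := exists_nat_of_ne ringKrullDim_ne_bot ringKrullDim_ne_top

/-- A Noetherian local ring of dimension zero is Cohen–Macaulay. -/
theorem isCM_of_dim_zero (R : Type u) [CommRing R] [IsNoetherianRing R] [IsLocalRing R]
    (h : ringKrullDim R = 0) : LocCoh.IsCohenMacaulayLocalRing R := by
  rw [Groth.Agent.Lib.Helper33.CMFlatLocal.cm_iff_aux]
  have h1 := Groth.Agent.Lib.Helper29.DepthLib.depth_le_supportDim R R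
  rw [Module.supportDim_self_eq_ringKrullDim, h] at h1
  rw [h]
  have h2 : LocCoh.depth R R ≤ 0 := by exact_mod_cast h1
  have h3 : LocCoh.depth R R = 0 := le_antisymm h2 zero_le
  rw [h3]; rfl

open Groth.Agent.Lib.Helper73.DimFormula in

/-- Fix a field k, a k-algebra S of finite type, and a quasi-finite map of k-algebras k[y_1, …, y_d] →
S. A prime q of S has S_q flat over k[y_1, …, y_d] exactly when S_q is Cohen–Macaulay and Spec S has
local dimension d at q. -/
theorem result (k S : Type u) [Field k] [CommRing S]
    [Algebra k S] [Algebra.FiniteType k S] (d : ℕ) [Algebra (MvPolynomial (Fin d) k) S]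
    [IsScalarTower k (MvPolynomial (Fin d) k) S] [Algebra.QuasiFinite (MvPolynomial (Fin d) k) S]
    (q : Ideal S) [q.IsPrime] :
    Module.Flat (MvPolynomial (Fin d) k) (Localization.AtPrime q) ↔
      (LocCoh.IsCohenMacaulayLocalRing (Localization.AtPrime q) ∧
        FlatMor.localDim (PrimeSpectrum S) ⟨q, inferInstance⟩ = (d : WithBot ℕ∞)) := by
  classical
  set P := MvPolynomial (Fin d) k with hP
  set p : Ideal P := q.under P with hp
  haveI : p.IsPrime := Ideal.IsPrime.under P q
  haveI : q.LiesOver p := ⟨rfl⟩
  letI := Localization.AtPrime.algebraOfLiesOver p q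
  haveI := isLocalHom_atPrime q p
  haveI : Algebra.FiniteType P S := Algebra.FiniteType.of_restrictScalars_finiteType k P S
  haveI : IsNoetherianRing S := Algebra.FiniteType.isNoetherianRing k S
  haveI : IsRegularRing P := inferInstance
  haveI : IsRegularLocalRing (Localization.AtPrime p) := inferInstance
  have hflat : Module.Flat P (Localization.AtPrime q) ↔
      Module.Flat (Localization.AtPrime p) (Localization.AtPrime q) :=
    (Module.flat_iff_of_isLocalization (Localization.AtPrime p) p.primeCompl _).symm
  have hF := dim_fibre_eq_zero q p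
  obtain ⟨a, ha⟩ := exists_nat_ringKrullDim (Localization.AtPrime p)
  obtain ⟨b, hb⟩ := exists_nat_ringKrullDim (Localization.AtPrime q)
  obtain ⟨m, hm1, hm2, -, -⟩ := exists_trdeg_eq_ringKrullDim k (P ⧸ p)
  obtain ⟨n, hn1, hn2, -, -⟩ := exists_trdeg_eq_ringKrullDim k (S ⧸ q)
  have hnm : n = m := by
    haveI : Algebra.QuasiFiniteAt P q := inferInstance
    have h0 : Algebra.trdeg (P ⧸ p) (S ⧸ q) = 0 :=
      trdeg_quotient_eq_zero_of_quasiFiniteAt q q le_rfl p
    haveI : Nontrivial (P ⧸ p) := Ideal.Quotient.nontrivial_iff.mpr (Ideal.IsPrime.ne_top inferInstance)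
    haveI : Algebra.IsAlgebraic (P ⧸ p) (S ⧸ q) := (trdeg_eq_zero_iff).mp h0
    have h1 : Algebra.trdeg k (S ⧸ q) = Algebra.trdeg k (P ⧸ p) := trdeg_eq_of_isAlgebraic_top k
    rw [hn1, hm1] at h1
    exact_mod_cast h1
  have ham : a + m = d := by
    have h1 := HtTrdeg.mvPolynomial k d p
    have h2 : ringKrullDim (Localization.AtPrime p) = p.height :=
      IsLocalization.AtPrime.ringKrullDim_eq_height p (Localization.AtPrime p)
    rw [ha] at h2
    have h3 : p.height = (a : ℕ∞) := by exact_mod_cast h2.symm
    rw [h3, hm1] at h1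
    exact_mod_cast h1
  have hloc : FlatMor.localDim (PrimeSpectrum S) ⟨q, inferInstance⟩ = ((b + n : ℕ) : WithBot ℕ∞) := by
    rw [Groth.Agent.Lib.Helper62.DimLoc.localDim_eq_ringKrullDim_add k S q, hb, hn2]
    norm_cast
  rw [hflat, hloc]
  constructor
  · intro hfl
    have hdim := Groth.Agent.Lib.Helper29.RegHom.ringKrullDim_eq_add
      (Localization.AtPrime p) (Localization.AtPrime q)
    rw [hF, add_zero, ha, hb] at hdim
    have hba : b = a := by exact_mod_cast hdim
    refine ⟨?_, ?_⟩
    · haveI : Nontrivial (Localization.AtPrime q ⧸ (maximalIdeal (Localization.AtPrime p)).map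
          (algebraMap (Localization.AtPrime p) (Localization.AtPrime q))) :=
        Ideal.Quotient.nontrivial_iff.mpr (fun h => (IsLocalRing.maximalIdeal.isMaximal _).ne_top
          (top_le_iff.mp (h ▸ IsLocalRing.map_maximalIdeal_le
            (algebraMap (Localization.AtPrime p) (Localization.AtPrime q)))))
      haveI : IsLocalRing (Localization.AtPrime q ⧸ (maximalIdeal (Localization.AtPrime p)).map
          (algebraMap (Localization.AtPrime p) (Localization.AtPrime q))) :=
        IsLocalRing.of_surjective' (Ideal.Quotient.mk _) Ideal.Quotient.mk_surjective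
      rw [Groth.Agent.Lib.Helper33.CMFlatLocal.cm_flat_local_iff (Localization.AtPrime p)
        (Localization.AtPrime q) _ rfl]
      refine ⟨?_, isCM_of_dim_zero _ hF⟩
      exact { supportDim_eq_depth := Groth.Agent.S5671.isCM_of_regular _ }
    · have : b + n = d := by omega
      exact_mod_cast this
  · rintro ⟨hcm, hld⟩
    have hbn : b + n = d := by exact_mod_cast hld
    have hba : b = a := by omega
    apply Groth.Agent.Lib.Helper29.RegHom.flat_of_regular_of_isCM (Localization.AtPrime p)
      (Localization.AtPrime q) hcm.supportDim_eq_depth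
    rw [hF, add_zero, ha, hb, hba]

end Groth.Agent.S9159
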