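import Groth.Statements.S10882
-- import your own Groth.Agent.* helpers here
import Mathlib
import Groth.Agent.Lib.Helper21.FlatFibreDimField
import Groth.Agent.Lib.Helper21.FibreTd
import Groth.Agent.Lib.Helper29.RegHom
import Groth.Agent.Lib.Helper67.FibreStalk
import Groth.Agent.S9159

set_option autoImplicit false
universe u
open CategoryTheory AlgebraicGeometry
open FlatMor

namespace Groth.Agent.S10882

open CategoryTheory CategoryTheory.Limits AlgebraicGeometry

open Groth.Agent.Lib.Helper21.FieldDim Groth.Agent.Lib.Helper67.FibreStalk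

/-- irreducible components correspond under a homeomorphism, preserving dimension. -/
theorem dim_irreducibleComponents_of_homeomorph {α β : Type*} [TopologicalSpace α] [TopologicalSpace β]
    (h : α ≃ₜ β) (D : WithBot ℕ∞)
    (hβ : ∀ Z ∈ irreducibleComponents β, topologicalKrullDim Z = D) :
    ∀ Z ∈ irreducibleComponents α, topologicalKrullDim Z = D := by
  intro Z hZ
  have h1 : h '' Z ∈ irreducibleComponents β :=
    image_mem_irreducibleComponents_of_isPreirreducible_fiber h h.continuous h.isOpenMap
      (fun x => (Set.subsingleton_singleton.preimage h.injective).isPreirreducible) h.surjective hZ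
  rw [← hβ _ h1]
  exact (h.image Z).isHomeomorph.topologicalKrullDim_eq

theorem flat_stalkMap (k : Type u) [Field k] {X Y : Scheme.{u}}
    (q : Y ⟶ Spec (CommRingCat.of k)) [LocallyOfFiniteType q] (f : X ⟶ Y) [LocallyOfFiniteType (f ≫ q)]
    (hY : ∀ y : Y, IsRegularLocalRing (Y.presheaf.stalk y))
    (hX : ∀ x : X, LocCoh.IsCohenMacaulayLocalRing (X.presheaf.stalk x))
    (e d : ℕ) (hde : d ≤ e)
    (hXe : ∀ Z ∈ irreducibleComponents (X : Type u), topologicalKrullDim Z = e)
    (hYd : ∀ Z ∈ irreducibleComponents (Y : Type u), topologicalKrullDim Z = d)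
    (hfib : ∀ y : Y, ∀ Z ∈ irreducibleComponents (f.base ⁻¹' {y}), topologicalKrullDim Z = (e - d : ℕ))
    (x : X) : (f.stalkMap x).hom.Flat := by
  haveI : LocallyOfFiniteType f := locallyOfFiniteType_of_comp f q
  haveI : IsLocallyNoetherian X := LocallyOfFiniteType.isLocallyNoetherian (f ≫ q)
  haveI : IsLocallyNoetherian Y := LocallyOfFiniteType.isLocallyNoetherian q
  -- dimension bookkeeping
  have h1 := localDim_eq_of_equidim (f ≫ q) _ hXe x
  rw [localDim_eq_stalk_add_td (f ≫ q) x] at h1
  have h2 := localDim_eq_of_equidim q _ hYd (f x)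
  rw [localDim_eq_stalk_add_td q (f x)] at h2
  have hF : ∀ Z ∈ irreducibleComponents (f.fiber (f x)), topologicalKrullDim Z = ((e - d : ℕ) : WithBot ℕ∞) :=
    dim_irreducibleComponents_of_homeomorph (f.fiberHomeo (f x)) _ (hfib (f x))
  have h3 := localDim_eq_of_equidim (fibStr f (f x)) _ hF (f.asFiber x)
  rw [localDim_eq_stalk_add_td (fibStr f (f x)) (f.asFiber x), td_fibStr, f.fiberι_asFiber] at h3
  have h4 := td_eq_add_tdR (f ≫ q) q f rfl x
  haveI : IsLocallyNoetherian (f.fiber (f x)) :=
    LocallyOfFiniteType.isLocallyNoetherian (fibStr f (f x))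
  obtain ⟨a, ha⟩ := Groth.Agent.S9159.exists_nat_ringKrullDim (X.presheaf.stalk x)
  obtain ⟨b, hb⟩ := Groth.Agent.S9159.exists_nat_ringKrullDim (Y.presheaf.stalk (f x))
  obtain ⟨c, hc⟩ := Groth.Agent.S9159.exists_nat_ringKrullDim
    ((f.fiber (f x)).presheaf.stalk (f.asFiber x))
  rw [ha] at h1
  rw [hb] at h2
  rw [hc] at h3
  have h1' : a + td (f ≫ q) x = e := by exact_mod_cast h1
  have h2' : b + td q (f x) = d := by exact_mod_cast h2
  have h3' : c + tdR f x = e - d := by exact_mod_cast h3
  have habc : a = b + c := by omega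
  obtain ⟨eqv⟩ := nonempty_ringEquiv f x
  have hc' : ringKrullDim (X.presheaf.stalk x ⧸ fibreIdeal f x) = c := by
    rw [ringKrullDim_eq_of_ringEquiv eqv, hc]
  letI : Algebra (Y.presheaf.stalk (f x)) (X.presheaf.stalk x) := (f.stalkMap x).hom.toAlgebra
  haveI : IsLocalHom (algebraMap (Y.presheaf.stalk (f x)) (X.presheaf.stalk x)) := by
    rw [RingHom.algebraMap_toAlgebra]; infer_instance
  haveI := hY (f x)
  have := Groth.Agent.Lib.Helper29.RegHom.flat_of_regular_of_isCM (Y.presheaf.stalk (f x))
    (X.presheaf.stalk x) (hX x).supportDim_eq_depth (by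
      rw [ha, hb]
      have : ringKrullDim (X.presheaf.stalk x ⧸ (IsLocalRing.maximalIdeal (Y.presheaf.stalk (f x))).map
          (algebraMap (Y.presheaf.stalk (f x)) (X.presheaf.stalk x))) = c := hc'
      rw [this, habc]; norm_cast)
  exact this

/-- Let X and Y be schemes locally of finite type over a field k and f : X → Y a k-morphism, with Y
regular (all local rings regular), X Cohen–Macaulay (all local rings Cohen–Macaulay), X
equidimensional of dimension e, Y equidimensional of dimension d ≤ e, and all fibres of f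
equidimensional of dimension e − d (every irreducible component of every fibre has dimension e − d).
Then f is flat. -/
theorem result (k : Type u) [Field k] {X Y : Scheme.{u}}
    (q : Y ⟶ Spec (CommRingCat.of k)) [LocallyOfFiniteType q] (f : X ⟶ Y) [LocallyOfFiniteType (f ≫ q)]
    (hY : ∀ y : Y, IsRegularLocalRing (Y.presheaf.stalk y))
    (hX : ∀ x : X, LocCoh.IsCohenMacaulayLocalRing (X.presheaf.stalk x))
    (e d : ℕ) (hde : d ≤ e)
    (hXe : ∀ Z ∈ irreducibleComponents (X : Type u), topologicalKrullDim Z = e)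
    (hYd : ∀ Z ∈ irreducibleComponents (Y : Type u), topologicalKrullDim Z = d)
    (hfib : ∀ y : Y, ∀ Z ∈ irreducibleComponents (f.base ⁻¹' {y}), topologicalKrullDim Z = (e - d : ℕ)) :
    Flat f := by
  rw [Flat.iff_flat_stalkMap]
  exact fun x => flat_stalkMap k q f hY hX e d hde hXe hYd hfib x

end Groth.Agent.S10882
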