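import Groth.Statements.S10883
import Mathlib
import Groth.Agent.Lib.Helper52.DetD

set_option autoImplicit false
universe u
open CAlgX

namespace Groth.Agent.S10883

/-- Let k be a field and 0 < r < min(n, m), and let B be the coordinate ring of the affine determinantal
scheme of n × m matrices of rank at most r over k (polynomial ring on the entries of the generic
matrix modulo its (r+1) × (r+1) minors). A prime P of B is a smooth point over k (the localization
B_P is formally smooth over k) exactly when it corresponds to a matrix of rank exactly r, i.e. when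
P does not contain the image of the ideal generated by the r × r minors. -/
theorem result (k : Type u) [Field k] (n m r : ℕ) (hr0 : 0 < r)
    (hr : r < min n m)
    (P : PrimeSpectrum (MvPolynomial (Fin n × Fin m) k ⧸ CAlgX.minorIdeal (Matrix.of fun (i : Fin n) (j : Fin m) => (MvPolynomial.X (i, j) : MvPolynomial (Fin n × Fin m) k)) (r + 1))) :
    P ∈ Algebra.smoothLocus k (MvPolynomial (Fin n × Fin m) k ⧸ CAlgX.minorIdeal (Matrix.of fun (i : Fin n) (j : Fin m) => (MvPolynomial.X (i, j) : MvPolynomial (Fin n × Fin m) k)) (r + 1)) ↔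
      ¬ (CAlgX.minorIdeal (Matrix.of fun (i : Fin n) (j : Fin m) => (MvPolynomial.X (i, j) : MvPolynomial (Fin n × Fin m) k)) r).map
          (Ideal.Quotient.mk (CAlgX.minorIdeal (Matrix.of fun (i : Fin n) (j : Fin m) => (MvPolynomial.X (i, j) : MvPolynomial (Fin n × Fin m) k)) (r + 1))) ≤ P.asIdeal := by
  classical
  have hr' : r + 1 ≤ min n m := hr
  have main : ∀ P' : PrimeSpectrum (Groth.Agent.Lib.Helper52.DetC.B k n m r),
      P' ∈ Algebra.smoothLocus k (Groth.Agent.Lib.Helper52.DetC.B k n m r) ↔
        ¬ (Groth.Agent.Lib.Helper52.DetC.Ir k n m r).map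
          (Ideal.Quotient.mk (Groth.Agent.Lib.Helper52.DetC.Ir k n m (r + 1))) ≤ P'.asIdeal := by
    intro P'
    constructor
    · intro hs hle
      have hs' : Algebra.FormallySmooth k (Localization.AtPrime P'.asIdeal) := hs
      exact Groth.Agent.Lib.Helper52.DetD.not_formallySmooth hr' P'.asIdeal hle hs'
    · intro hnle
      change Algebra.FormallySmooth k (Localization.AtPrime P'.asIdeal)
      have hex : ∃ (f : Fin r → Fin n) (g : Fin r → Fin m),
          Ideal.Quotient.mk (Groth.Agent.Lib.Helper52.DetC.Ir k n m (r + 1))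
            ((Groth.Agent.Lib.Helper52.DetB.Xm k n m).submatrix f g).det ∉ P'.asIdeal := by
        by_contra hcon
        apply hnle
        change (Ideal.span (Set.range fun fg : (Fin r → Fin n) × (Fin r → Fin m) =>
            ((Groth.Agent.Lib.Helper52.DetB.Xm k n m).submatrix fg.1 fg.2).det)).map
          (Ideal.Quotient.mk (Groth.Agent.Lib.Helper52.DetC.Ir k n m (r + 1))) ≤ P'.asIdeal
        rw [Ideal.map_span, Ideal.span_le]
        rintro _ ⟨_, ⟨⟨f, g⟩, rfl⟩, rfl⟩
        by_contra hfg
        exact hcon ⟨f, g, hfg⟩
      obtain ⟨f, g, hfg⟩ := hex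
      exact Groth.Agent.Lib.Helper52.DetC.formallySmooth_of_minor_notMem P'.asIdeal f g hfg
  exact main P

end Groth.Agent.S10883
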