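import Groth.Statements.S10884
import Mathlib
import Groth.Agent.Lib.Helper21.DominantMaximal
-- import your own Groth.Agent.* helpers here

set_option autoImplicit false
universe u
open CategoryTheory AlgebraicGeometry
open Variety

namespace Groth.Agent.S10884

/-- Let Y be a scheme of finite type over a field k and f : X → Y a dominant morphism of finite type all
of whose non-empty fibres have dimension r. Then dim X = r + dim Y. -/
theorem result (k : Type u) [Field k] {X Y : Scheme.{u}}
    (q : Y ⟶ Spec (CommRingCat.of k)) [LocallyOfFiniteType q] [QuasiCompact q]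
    (f : X ⟶ Y) [LocallyOfFiniteType f] [QuasiCompact f] (hdom : DenseRange f.base) (r : ℕ)
    (hfib : ∀ y : Y, (f.base ⁻¹' {y}).Nonempty → topologicalKrullDim (f.base ⁻¹' {y}) = r) :
    topologicalKrullDim X = (r : WithBot ℕ∞) + topologicalKrullDim Y := by
  have hlftp : LocallyOfFiniteType (f ≫ q) := inferInstance
  have hln : IsLocallyNoetherian X := LocallyOfFiniteType.isLocallyNoetherian (f ≫ q)
  have hfib' : ∀ x : X, topologicalKrullDim (f.fiber (f x)) = r := by
    intro x
    rw [← Groth.Agent.Lib.Helper21.FieldDim.dim_preimage_singleton]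
    exact hfib (f x) ⟨x, rfl⟩
  apply le_antisymm
  · exact Groth.Agent.Lib.Helper21.FieldDim.dim_le_add_of_fibre_le (f ≫ q) q f rfl r
      (fun x => (hfib' x).le)
  · refine Groth.Agent.Lib.Helper21.FieldDim.add_dim_le_of_maximal_fibres (f ≫ q) q f rfl r ?_
    intro η hη
    obtain ⟨x, rfl⟩ := Groth.Agent.Lib.Helper21.FieldDim.mem_range_of_maximal_of_denseRange f
      hdom hη
    exact (hfib' x).ge

end Groth.Agent.S10884
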