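import Groth.Statements.S10885
import Groth.Agent.Lib.Helper21.FieldDim
import Groth.Agent.Lib.Helper73.FieldDim2
import Groth.Agent.Lib.Helper73.FibreDimGen2
import Groth.Agent.Lib.Helper73.IrredDim
-- import your own Groth.Agent.* helpers here

set_option autoImplicit false
universe u
open CategoryTheory AlgebraicGeometry
open Variety

namespace Groth.Agent.S10885
open Groth.Agent.Lib.Helper73.SchemeDim Groth.Agent.Lib.Helper21.FieldDim

/-- Let Y be a scheme of finite type over a field k, r ≥ 0, and f : X → Y a morphism of finite type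
whose fibre over every maximal point of Y has dimension at least r. Then dim X ≥ r + dim Y. -/
theorem result (k : Type u) [Field k] {X Y : Scheme.{u}}
    (q : Y ⟶ Spec (CommRingCat.of k)) [LocallyOfFiniteType q] [QuasiCompact q]
    (f : X ⟶ Y) [LocallyOfFiniteType f] [QuasiCompact f] (r : ℕ)
    (hfib : ∀ η : Y, (∀ y : Y, y ⤳ η → y = η) → (r : WithBot ℕ∞) ≤ topologicalKrullDim (f.base ⁻¹' {η})) :
    (r : WithBot ℕ∞) + topologicalKrullDim Y ≤ topologicalKrullDim X := by
  obtain ⟨D', h1, h2⟩ := exists_sub_bound (topologicalKrullDim X) r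
  have hY : topologicalKrullDim Y ≤ D' := by
    rw [dim_le_iff q]
    intro y
    apply h1
    obtain ⟨η, hηmax, hηy⟩ := exists_maximal_specializes y
    have h3 : td q y ≤ td q η := td_le_of_specializes q hηy
    have h4 : (r : WithBot ℕ∞) ≤ topologicalKrullDim (f.fiber η) := by
      rw [(f.fiberHomeo η).isHomeomorph.topologicalKrullDim_eq]
      exact hfib η hηmax
    obtain ⟨x, hxη, hx⟩ := (natCast_le_topologicalKrullDim_fiber_iff f η r).mp h4
    obtain ⟨ζ, m, -, hζf, hm, hF⟩ := exists_specializes_trdeg_eq_fibreDimAt f x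
    rw [hF] at hx
    have hrm : r ≤ m := by exact_mod_cast hx
    have hζη : f.base ζ = η := hζf.trans hxη
    have hadd := Groth.Agent.Lib.Helper73.FieldDim.trdeg_residueFieldMap_comp_add f q ζ
    have h5 : trdegAt q (f.base ζ) = td q η := by rw [hζη]; exact trdegAt_eq_td q η
    have h6 : trdegAt (f ≫ q) ζ = td (f ≫ q) ζ := trdegAt_eq_td (f ≫ q) ζ
    change trdegAt q (f.base ζ) + _ = trdegAt (f ≫ q) ζ at hadd
    rw [h5, h6, hm] at hadd
    have h7 : td q η + m = td (f ≫ q) ζ := by exact_mod_cast hadd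
    have h8 := td_le_dim (f ≫ q) ζ
    refine le_trans ?_ h8
    rw [← h7]
    have : td q y + r ≤ td q η + m := by omega
    exact_mod_cast this
  calc (r : WithBot ℕ∞) + topologicalKrullDim Y ≤ (r : WithBot ℕ∞) + D' := by gcongr
    _ = D' + r := add_comm _ _
    _ ≤ _ := h2

end Groth.Agent.S10885
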