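import Groth.Statements.S10886
import Mathlib
-- import your own Groth.Agent.* helpers here

set_option autoImplicit false
universe u
open CategoryTheory AlgebraicGeometry
open Curves

namespace Groth.Agent.S10886

open TopologicalSpace Topology in
/-- In a Noetherian, sober, T0, irreducible space of Krull dimension ≤ 1, every proper closed subset
is a finite set of closed points. -/
lemma finite_of_isClosed_ne_univ {X : Type*} [TopologicalSpace X] [NoetherianSpace X] [QuasiSober X]
    [T0Space X] [IrreducibleSpace X] (h : topologicalKrullDim X ≤ 1) (Z : Set X) (hZ : IsClosed Z)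
    (hne : Z ≠ Set.univ) : Z.Finite ∧ ∀ x ∈ Z, IsClosed ({x} : Set X) := by
  obtain ⟨S, hSf, hSc, hSi, hSU⟩ := NoetherianSpace.exists_finite_set_isClosed_irreducible hZ
  have hmm := (Order.krullDim_le_one_iff (α := IrreducibleCloseds X)).mp h
  -- each irreducible closed proper subset is a closed singleton
  have key : ∀ t ∈ S, ∃ c : X, t = {c} := by
    intro t ht
    have htne : t ≠ Set.univ := by
      intro htu
      apply hne
      rw [hSU]
      apply Set.eq_univ_of_univ_subset
      rw [← htu]
      exact Set.subset_sUnion_of_mem ht
    let C : IrreducibleCloseds X := ⟨t, hSi t ht, hSc t ht⟩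
    let T : IrreducibleCloseds X := ⟨Set.univ, (IrreducibleSpace.isIrreducible_univ X), isClosed_univ⟩
    have hCT : C < T := by
      refine lt_of_le_of_ne (fun x _ => Set.mem_univ x) ?_
      intro hh
      apply htne
      have := congrArg (fun (Z : IrreducibleCloseds X) => (Z : Set X)) hh
      exact this
    have hmin : IsMin C := by
      rcases hmm C with h1 | h1
      · exact h1
      · exact absurd (h1 hCT.le) (not_le_of_gt hCT)
    obtain ⟨c, hc⟩ := QuasiSober.sober (hSi t ht) (hSc t ht)
    refine ⟨c, ?_⟩
    apply Set.eq_singleton_iff_unique_mem.mpr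
    refine ⟨?_, ?_⟩
    · rw [← hc.def]; exact subset_closure rfl
    · intro y hy
      let Y : IrreducibleCloseds X := ⟨closure {y}, isIrreducible_singleton.closure, isClosed_closure⟩
      have hYC : Y ≤ C := by
        intro z hz
        exact (hSc t ht).closure_subset_iff.mpr (Set.singleton_subset_iff.mpr hy) hz
      have hCY : C ≤ Y := hmin hYC
      have h1 : c ∈ closure {y} := hCY (show c ∈ t by rw [← hc.def]; exact subset_closure rfl)
      have h2 : y ∈ closure {c} := by rw [hc.def]; exact hy
      have s1 : y ⤳ c := specializes_iff_mem_closure.mpr h1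
      have s2 : c ⤳ y := specializes_iff_mem_closure.mpr h2
      exact (s1.antisymm s2).eq
  constructor
  · rw [hSU]
    apply Set.Finite.sUnion hSf
    intro t ht
    obtain ⟨c, rfl⟩ := key t ht
    exact Set.finite_singleton c
  · intro x hx
    rw [hSU] at hx
    obtain ⟨t, ht, hxt⟩ := hx
    obtain ⟨c, rfl⟩ := key t ht
    have : x = c := hxt
    subst this
    exact hSc _ ht


/-- In an irreducible Noetherian scheme of dimension one every constructible subset is either a finite
set of closed points or the complement of such a set; in particular it is open or closed. -/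
theorem result {X : Scheme.{u}} [IsNoetherian X]
    [IrreducibleSpace X] (hX : topologicalKrullDim X = 1) (s : Set X) (hs : Topology.IsConstructible s) :
    (s.Finite ∧ (∀ x ∈ s, IsClosed ({x} : Set X))) ∨ (sᶜ.Finite ∧ ∀ x ∈ sᶜ, IsClosed ({x} : Set X)) := by
  have hdim : topologicalKrullDim X ≤ 1 := hX.le
  induction hs using Topology.IsConstructible.empty_union_induction with
  | open_retrocompact U hUo hUc =>
    by_cases hU : U = ∅
    · left
      subst hU
      simp
    · right
      apply finite_of_isClosed_ne_univ hdim Uᶜ hUo.isClosed_compl
      intro h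
      apply hU
      rw [← compl_compl U, h, Set.compl_univ]
  | union s hs t ht ihs iht =>
    rcases ihs with ⟨h1, h2⟩ | ⟨h1, h2⟩
    · rcases iht with ⟨h3, h4⟩ | ⟨h3, h4⟩
      · left
        refine ⟨h1.union h3, ?_⟩
        rintro x (hx | hx)
        · exact h2 x hx
        · exact h4 x hx
      · right
        refine ⟨h3.subset (Set.compl_subset_compl.mpr Set.subset_union_right), ?_⟩
        intro x hx
        exact h4 x (fun hxt => hx (Or.inr hxt))
    · right
      refine ⟨h1.subset (Set.compl_subset_compl.mpr Set.subset_union_left), ?_⟩
      intro x hx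
      exact h2 x (fun hxs => hx (Or.inl hxs))
  | compl s hs ih =>
    rcases ih with h | h
    · right; rwa [compl_compl]
    · left; exact h

end Groth.Agent.S10886
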