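import Groth.Statements.S10888
import Groth.Agent.Lib.Helper38.IsoNearFibreFP
import Groth.Agent.Lib.Helper38.ClosedImmNhd
import Groth.Prelude.Def_ega3

set_option autoImplicit false
universe u
open CategoryTheory AlgebraicGeometry
open FlatMor

namespace Groth.Agent.S10888

/-- Let g : X → S and h : Y → S be proper and of finite presentation with g flat, and f : X → Y a
morphism over S. Then the locus U of points of S over which the fibre morphism X_s → Y_s is an
isomorphism is an open subset of S, and f restricts to an isomorphism over U. -/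
theorem result {X Y S : Scheme.{u}} (g : X ⟶ S) (h : Y ⟶ S)
    [IsProper g] [LocallyOfFinitePresentation g] [Flat g] [IsProper h] [LocallyOfFinitePresentation h]
    (f : X ⟶ Y) (w : f ≫ h = g) :
    ∃ U : S.Opens, (∀ s : S, s ∈ U ↔ ∃ e : g.fiber s ≅ h.fiber s, e.hom ≫ h.fiberι s = g.fiberι s ≫ f) ∧
      IsIso (f ∣_ (h ⁻¹ᵁ U)) := by
  subst w
  let U : S.Opens := ⨆ U' : {U' : S.Opens // IsIso (f ∣_ (h ⁻¹ᵁ U'))}, U'.1
  have hU : IsIso (f ∣_ (h ⁻¹ᵁ U)) := by
    have e : h ⁻¹ᵁ U = ⨆ U' : {U' : S.Opens // IsIso (f ∣_ (h ⁻¹ᵁ U'))}, h ⁻¹ᵁ U'.1 :=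
      Scheme.Hom.preimage_iSup h _
    have h1 : IsIso (f ∣_ ⨆ U' : {U' : S.Opens // IsIso (f ∣_ (h ⁻¹ᵁ U'))}, h ⁻¹ᵁ U'.1) :=
      Groth.Agent.Lib.Helper38.morphismRestrict_iSup
        (P := MorphismProperty.isomorphisms Scheme) f _ (fun U' => U'.2)
    exact (MorphismProperty.arrow_mk_iso_iff (MorphismProperty.isomorphisms Scheme)
      (morphismRestrictEq f e)).mpr h1
  refine ⟨U, fun s => ⟨?_, ?_⟩, hU⟩
  · intro hs
    obtain ⟨U', hsU'⟩ := TopologicalSpace.Opens.mem_iSup.mp hs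
    have hiso' : IsIso (f ∣_ (h ⁻¹ᵁ U'.1)) := U'.2
    have hrange : Set.range (h.fiberι s) ⊆ h ⁻¹ᵁ U'.1 := by
      rintro _ ⟨y', rfl⟩
      show h (h.fiberι s y') ∈ U'.1
      have : h.fiberι s y' ∈ Set.range (h.fiberι s) := ⟨y', rfl⟩
      rw [Scheme.Hom.range_fiberι] at this
      rw [this]
      exact hsU'
    obtain ⟨z', fst', -, -, sq'⟩ :=
      Groth.Agent.Lib.Helper38.isPullback_morphismRestrict_of_isPullback f (h ⁻¹ᵁ U'.1)
        (h.fiberι s) hrange
        (Groth.Agent.Lib.Helper38.isPullback_fiberMapOver f (f ≫ h) h rfl s)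
    have hfs : IsIso (CohIII.fiberMapOver f (f ≫ h) h rfl s) :=
      MorphismProperty.of_isPullback (P := MorphismProperty.isomorphisms Scheme) sq' hiso'
    exact ⟨asIso (CohIII.fiberMapOver f (f ≫ h) h rfl s),
      Groth.Agent.Lib.Helper38.fiberMapOver_fiberι f (f ≫ h) h rfl s⟩
  · rintro ⟨e, he⟩
    haveI hmono : Mono (h.fiberι s) :=
      (inferInstance : Mono (Limits.pullback.fst h (S.fromSpecResidueField s)))
    have heq : e.hom = CohIII.fiberMapOver f (f ≫ h) h rfl s := by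
      rw [← cancel_mono (h.fiberι s), he, Groth.Agent.Lib.Helper38.fiberMapOver_fiberι]
    haveI : IsIso (CohIII.fiberMapOver f (f ≫ h) h rfl s) := heq ▸ inferInstance
    obtain ⟨U', hsU', hiso⟩ :=
      Groth.Agent.Lib.Helper38.exists_isIso_near_fibre_of_finitePresentation f h s
    exact TopologicalSpace.Opens.mem_iSup.mpr ⟨⟨U', hiso⟩, hsU'⟩


end Groth.Agent.S10888
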