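import Groth.Statements.S10889
import Mathlib
import Groth.Agent.Lib.Helper21.FlatQF2
-- import your own Groth.Agent.* helpers here

set_option autoImplicit false
universe u
open CategoryTheory AlgebraicGeometry
open FlatMor

namespace Groth.Agent.S10889

/-- Let f : X → Y be proper, flat and of finite presentation, and let V be the set of points of Y whose
fibre is (non-empty and) zero-dimensional. Then V is a clopen subset of Y, and over every open
subset of V the restriction of f is finite, hence finite locally free. -/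
theorem result {X Y : Scheme.{u}} (f : X ⟶ Y) [IsProper f] [Flat f]
    [LocallyOfFinitePresentation f] :
    IsClopen {y : Y | topologicalKrullDim (f.base ⁻¹' {y}) = 0} ∧
      ∀ U : Y.Opens, (U : Set Y) ⊆ {y : Y | topologicalKrullDim (f.base ⁻¹' {y}) = 0} → IsFinite (f ∣_ U) := by
  refine ⟨Groth.Agent.Lib.Helper21.FlatQF.isClopen_dim_zero f, ?_⟩
  intro U hU
  have : LocallyQuasiFinite (f ∣_ U) := by
    rw [← Scheme.Hom.quasiFiniteLocus_eq_top_iff]
    ext x'
    simp only [TopologicalSpace.Opens.coe_top, Set.mem_univ, iff_true]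
    show (f ∣_ U).QuasiFiniteAt x'
    have hx : f ((f ⁻¹ᵁ U).ι x') ∈ U := by
      have : (f ⁻¹ᵁ U).ι x' ∈ Set.range (f ⁻¹ᵁ U).ι := ⟨x', rfl⟩
      rw [Scheme.Opens.range_ι] at this
      exact this
    have h1 : f.QuasiFiniteAt ((f ⁻¹ᵁ U).ι x') :=
      ((Groth.Agent.Lib.Helper21.FlatQF.dim_preimage_eq_zero_iff f _).mp (hU hx)).2 _ rfl
    have h2 : ((f ⁻¹ᵁ U).ι ≫ f).QuasiFiniteAt x' :=
      Scheme.Hom.quasiFiniteAt_comp_iff_of_isOpenImmersion.mpr h1
    have key : ∀ (φ : ((f ⁻¹ᵁ U : X.Opens) : Scheme.{u}) ⟶ Y), φ = (f ∣_ U) ≫ U.ι →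
        φ.QuasiFiniteAt x' → ((f ∣_ U) ≫ U.ι).QuasiFiniteAt x' := by
      intro φ hφ h
      subst hφ
      exact h
    have h3 := key _ (morphismRestrict_ι f U).symm h2
    exact Scheme.Hom.quasiFiniteAt_comp_iff.mp h3
  exact IsFinite.of_isProper_of_locallyQuasiFinite (f ∣_ U)

end Groth.Agent.S10889
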