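import Groth.Statements.S10890
import Mathlib
import Groth.Agent.Lib.Helper45.FittingMatrix

set_option autoImplicit false
universe u
open CAlgX

namespace Groth.Agent.S10890

open Groth.Agent.Lib.Helper45 Groth.Agent.Lib.Helper45.Fitting


/-- (i) ⇔ (ii): let R be a local ring, A an n × m matrix over R regarded as a linear map R^m → R^n, and
1 ≤ r ≤ n. Then the image of A is a direct summand of R^n of rank r if and only if every (r+1) ×
(r+1) minor of A is zero and the r × r minors of A generate the unit ideal. (The printed statement
is over an arbitrary ring with 'direct summand of rank r'; its proof localises at once, and this row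
states the local case, where a direct summand of R^n is free and its rank is its finrank.) -/
theorem result (R : Type u) [CommRing R] [IsLocalRing R] (n m r : ℕ)
    (hr : 1 ≤ r) (hrn : r ≤ n) (A : Matrix (Fin n) (Fin m) R) :
    (∃ N' : Submodule R (Fin n → R), IsCompl (LinearMap.range (Matrix.mulVecLin A)) N' ∧
        Module.finrank R (LinearMap.range (Matrix.mulVecLin A)) = r) ↔
      (CAlgX.minorIdeal A (r + 1) = ⊥ ∧ CAlgX.minorIdeal A r = ⊤) := by
  set P := LinearMap.range (Matrix.mulVecLin A) with hP
  have hnt : Nontrivial R := inferInstance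
  constructor
  · rintro ⟨N', hcompl, hrank⟩
    obtain ⟨hPfree, hPfin, hNfree, hNfin, hadd⟩ := summand_free P N' hcompl
    rw [Module.finrank_fin_fun, hrank] at hadd
    let E := Submodule.quotientEquivOfIsCompl P N' hcompl
    have hMfree : Module.Free R ((Fin n → R) ⧸ P) := Module.Free.of_equiv E.symm
    have hMfin : Module.Finite R ((Fin n → R) ⧸ P) := Module.Finite.equiv E.symm
    have hMrank : Module.finrank R ((Fin n → R) ⧸ P) = n - r := by
      rw [E.finrank_eq]; omega
    let b := Module.finBasisOfFinrankEq R ((Fin n → R) ⧸ P) hMrank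
    have hb := fun k => fitt_of_basis b k
    constructor
    · by_cases hlt : r + 1 ≤ n
      · have := (hb (n - r - 1)).1 (by omega)
        rw [fitt_coker_eq_minorIdeal] at this
        rwa [show n - (n - r - 1) = r + 1 by omega] at this
      · exact minorIdeal_eq_bot_of_lt A (by omega)
    · have := (hb (n - r)).2 le_rfl
      rw [fitt_coker_eq_minorIdeal] at this
      rwa [show n - (n - r) = r by omega] at this
  · rintro ⟨h1, h2⟩
    obtain ⟨ρ, hρ⟩ : ∃ ρ, ρ = n - r := ⟨_, rfl⟩
    have hF : Fitt.ideal R ((Fin n → R) ⧸ P) ρ = ⊤ := by
      rw [fitt_coker_eq_minorIdeal, show n - ρ = r by omega, h2]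
    obtain ⟨g, hg⟩ := exists_span_of_fitt_eq_top (R := R) (M := (Fin n → R) ⧸ P) ρ hF
    have hli : LinearIndependent R g := by
      cases ρ with
      | zero => exact linearIndependent_empty_type
      | succ ρ' =>
        apply linearIndependent_of_fitt_eq_bot g hg
        rw [fitt_coker_eq_minorIdeal, show n - ρ' = r + 1 by omega, h1]
    let b := Module.Basis.mk hli hg.ge
    have hMfree : Module.Free R ((Fin n → R) ⧸ P) := Module.Free.of_basis b
    have hMrank : Module.finrank R ((Fin n → R) ⧸ P) = ρ := by
      rw [Module.finrank_eq_card_basis b]; simp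
    obtain ⟨N', hcompl⟩ := exists_isCompl_of_projective_quotient P
    refine ⟨N', hcompl, ?_⟩
    obtain ⟨hPfree, hPfin, hNfree, hNfin, hadd⟩ := summand_free P N' hcompl
    rw [Module.finrank_fin_fun] at hadd
    let E := Submodule.quotientEquivOfIsCompl P N' hcompl
    rw [E.finrank_eq] at hMrank
    omega

end Groth.Agent.S10890
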