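import Groth.Statements.S10891
import Mathlib
-- import your own Groth.Agent.* helpers here

set_option autoImplicit false
universe u
open CAlg

namespace Groth.Agent.S10891

section
variable {k : Type u} [Field k]

/-- the diagonal automorphism -/
noncomputable def σ (ζ : k) (a : ℕ) : MvPolynomial (Fin 2) k →ₐ[k] MvPolynomial (Fin 2) k :=
  MvPolynomial.aeval (fun i : Fin 2 => if i = 0 then MvPolynomial.C ζ⁻¹ * MvPolynomial.X 0
        else MvPolynomial.C (ζ⁻¹ ^ a) * (MvPolynomial.X 1 : MvPolynomial (Fin 2) k))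

lemma σ_X0 (ζ : k) (a : ℕ) : σ ζ a (MvPolynomial.X 0) = MvPolynomial.C ζ⁻¹ * MvPolynomial.X 0 := by
  simp [σ]

lemma σ_X1 (ζ : k) (a : ℕ) : σ ζ a (MvPolynomial.X 1) = MvPolynomial.C (ζ⁻¹ ^ a) * MvPolynomial.X 1 := by
  simp [σ]

lemma σ_mon (ζ : k) (a : ℕ) (i j : ℕ) :
    σ ζ a (MvPolynomial.X 0 ^ i * MvPolynomial.X 1 ^ j) =
      MvPolynomial.C (ζ⁻¹ ^ (i + a * j)) * (MvPolynomial.X 0 ^ i * MvPolynomial.X 1 ^ j) := by
  rw [map_mul, map_pow, map_pow, σ_X0, σ_X1, mul_pow, mul_pow, ← map_pow, ← map_pow, ← pow_mul,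
    pow_add, map_mul]
  ring

lemma monomial_eq (m : Fin 2 →₀ ℕ) (c : k) :
    MvPolynomial.monomial m c = MvPolynomial.C c * (MvPolynomial.X 0 ^ (m 0) * MvPolynomial.X 1 ^ (m 1)) := by
  rw [MvPolynomial.monomial_eq, Finsupp.prod_fintype _ _ (fun i => pow_zero _), Fin.prod_univ_two]

lemma σ_monomial (ζ : k) (a : ℕ) (m : Fin 2 →₀ ℕ) (c : k) :
    σ ζ a (MvPolynomial.monomial m c) = MvPolynomial.monomial m (ζ⁻¹ ^ (m 0 + a * m 1) * c) := by
  rw [monomial_eq, map_mul, σ_mon, monomial_eq, MvPolynomial.algHom_C, map_mul,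
    MvPolynomial.algebraMap_eq]
  ring

lemma coeff_σ (ζ : k) (a : ℕ) (p : MvPolynomial (Fin 2) k) (m : Fin 2 →₀ ℕ) :
    MvPolynomial.coeff m (σ ζ a p) = ζ⁻¹ ^ (m 0 + a * m 1) * MvPolynomial.coeff m p := by
  induction p using MvPolynomial.induction_on' with
  | monomial n c =>
    rw [σ_monomial, MvPolynomial.coeff_monomial, MvPolynomial.coeff_monomial]
    split_ifs with h
    · subst h; rfl
    · simp
  | add p q hp hq => rw [map_add, MvPolynomial.coeff_add, hp, hq, MvPolynomial.coeff_add, mul_add]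

end

/-- Let k be a field containing a primitive r-th root of unity ζ and 0 < a < r. The cyclic group of r-th
roots of unity acts on k[X, Y] through the generator X ↦ ζ⁻¹ X, Y ↦ ζ^(−a) Y, and the ring of
invariants of this action is generated as a k-algebra by the monomials X^i Y^j with 0 ≤ i, j ≤ r,
(i, j) ≠ (r, r) and i + a·j ≡ 0 (mod r). (The printed statement writes n for the order of the group,
which the surrounding section calls r.) -/
theorem result (k : Type u) [Field k] (r a : ℕ) (ha : 0 < a) (har : a < r)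
    (ζ : k) (hζ : IsPrimitiveRoot ζ r) (p : MvPolynomial (Fin 2) k) :
    MvPolynomial.aeval (fun i : Fin 2 => if i = 0 then MvPolynomial.C ζ⁻¹ * MvPolynomial.X 0
        else MvPolynomial.C (ζ⁻¹ ^ a) * (MvPolynomial.X 1 : MvPolynomial (Fin 2) k)) p = p ↔
      p ∈ Algebra.adjoin k {q : MvPolynomial (Fin 2) k | ∃ i j : ℕ, i ≤ r ∧ j ≤ r ∧ ¬ (i = r ∧ j = r) ∧
        r ∣ i + a * j ∧ q = MvPolynomial.X 0 ^ i * MvPolynomial.X 1 ^ j} := by
  change σ ζ a p = p ↔ _
  have hr : 0 < r := by omega
  set G : Set (MvPolynomial (Fin 2) k) := {q : MvPolynomial (Fin 2) k | ∃ i j : ℕ, i ≤ r ∧ j ≤ r ∧ ¬ (i = r ∧ j = r) ∧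
        r ∣ i + a * j ∧ q = MvPolynomial.X 0 ^ i * MvPolynomial.X 1 ^ j} with hG
  have hinv : ∀ n : ℕ, r ∣ n → ζ⁻¹ ^ n = 1 := by
    intro n hn
    rw [inv_pow, (hζ.pow_eq_one_iff_dvd n).mpr hn, inv_one]
  constructor
  · intro hp
    -- each monomial in the support satisfies the divisibility
    have hsupp : ∀ m ∈ p.support, r ∣ m 0 + a * m 1 := by
      intro m hm
      have hc : MvPolynomial.coeff m p ≠ 0 := MvPolynomial.mem_support_iff.mp hm
      have h1 := coeff_σ ζ a p m
      rw [hp] at h1
      have h2 : ζ⁻¹ ^ (m 0 + a * m 1) = 1 := by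
        have : (ζ⁻¹ ^ (m 0 + a * m 1) - 1) * MvPolynomial.coeff m p = 0 := by
          rw [sub_mul, one_mul, ← h1, sub_self]
        rcases mul_eq_zero.mp this with h | h
        · exact sub_eq_zero.mp h
        · exact absurd h hc
      rw [inv_pow, inv_eq_one] at h2
      exact (hζ.pow_eq_one_iff_dvd _).mp h2
    have hmon : ∀ N i j : ℕ, i + j ≤ N → r ∣ i + a * j →
        (MvPolynomial.X 0 ^ i * MvPolynomial.X 1 ^ j : MvPolynomial (Fin 2) k) ∈ Algebra.adjoin k G := by
      intro N
      induction N with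
      | zero =>
        intro i j hij hd
        have hi : i = 0 := by omega
        have hj : j = 0 := by omega
        subst hi; subst hj
        simpa using Subalgebra.one_mem _
      | succ N ih =>
        intro i j hij hd
        by_cases hi : r ≤ i
        · have h1 : (MvPolynomial.X 0 ^ r * MvPolynomial.X 1 ^ 0 : MvPolynomial (Fin 2) k) ∈ Algebra.adjoin k G :=
            Algebra.subset_adjoin ⟨r, 0, le_refl _, Nat.zero_le _, by omega, by simp, rfl⟩
          have h2 := ih (i - r) j (by omega) (by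
            have : i - r + a * j + r = i + a * j := by omega
            exact (Nat.dvd_add_left (dvd_refl r)).mp (this ▸ hd))
          have := Subalgebra.mul_mem _ h1 h2
          convert this using 1
          rw [pow_zero, mul_one, ← mul_assoc, ← pow_add]
          congr 2; omega
        · by_cases hj : r ≤ j
          · have h1 : (MvPolynomial.X 0 ^ 0 * MvPolynomial.X 1 ^ r : MvPolynomial (Fin 2) k) ∈ Algebra.adjoin k G :=
              Algebra.subset_adjoin ⟨0, r, Nat.zero_le _, le_refl _, by omega, by simp, rfl⟩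
            have h2 := ih i (j - r) (by omega) (by
              have : i + a * (j - r) + a * r = i + a * j := by
                rw [add_assoc, ← mul_add]; congr 2; omega
              exact (Nat.dvd_add_left (Dvd.intro_left a rfl)).mp (this ▸ hd))
            have := Subalgebra.mul_mem _ h1 h2
            convert this using 1
            rw [pow_zero, one_mul, mul_left_comm, ← pow_add]
            congr 2; omega
          · exact Algebra.subset_adjoin ⟨i, j, by omega, by omega, by omega, hd, rfl⟩
    rw [MvPolynomial.as_sum p]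
    apply Subalgebra.sum_mem
    intro m hm
    rw [monomial_eq]
    apply Subalgebra.mul_mem
    · exact Subalgebra.algebraMap_mem _ _
    · exact hmon _ _ _ (le_refl _) (hsupp m hm)
  · intro hp
    have hle : Algebra.adjoin k G ≤ AlgHom.equalizer (σ ζ a) (AlgHom.id k _) := by
      apply Algebra.adjoin_le
      rintro q ⟨i, j, -, -, -, hd, rfl⟩
      change σ ζ a _ = _
      rw [σ_mon, hinv _ hd, map_one, one_mul]
      rfl
    exact hle hp

end Groth.Agent.S10891
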