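import Groth.Statements.S10894
import Groth.Agent.Lib.Helper48.CurveDiv
-- import your own Groth.Agent.* helpers here

set_option autoImplicit false
universe u
open CategoryTheory AlgebraicGeometry
open Curves

namespace Groth.Agent.S10894

/-- On an absolute curve C (Noetherian, local rings at closed points one-dimensional) every divisor D is
a difference of two effective divisors each supported inside the support of D (divisors are written
multiplicatively, so the difference is D₁ · D₂⁻¹). -/
theorem result {C : Scheme.{u}} [IsNoetherian C]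
    (hC : ∀ x : C, IsClosed ({x} : Set C) → ringKrullDim (C.presheaf.stalk x) = 1) (D : Mero.Divisor C) :
    ∃ D₁ D₂ : Mero.Divisor C, Mero.IsEffective D₁ ∧ Mero.IsEffective D₂ ∧ D = D₁ * D₂⁻¹ ∧
      Mero.supp D₁ ⊆ Mero.supp D ∧ Mero.supp D₂ ⊆ Mero.supp D := by
  classical
  choose φ hφ using fun x => QuotientGroup.mk_surjective (D.1 x)
  choose V hV hxV a b hab using fun x =>
    Groth.Agent.Lib.Helper48.CurveDiv.exists_rep_unit x (φ x)
  let E : ∀ x : C, Mero.regStalk C x → (Mero.KStalk C x)ˣ := fun x α =>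
    (IsLocalization.map_units (Mero.KStalk C x) α).unit
  let g₁ : ∀ x : C, Mero.Germ C x := fun x =>
    if D.1 x = 1 then 1 else QuotientGroup.mk (E x (Mero.regGerm ⟨x, hxV x⟩ (a x)))
  let g₂ : ∀ x : C, Mero.Germ C x := fun x =>
    if D.1 x = 1 then 1 else QuotientGroup.mk (E x (Mero.regGerm ⟨x, hxV x⟩ (b x)))
  have hsuppfin := Groth.Agent.Lib.Helper48.CurveDiv.finite_supp hC D
  have hnc := Groth.Agent.Lib.Helper48.CurveDiv.germ_eq_one_of_not_closed hC D
  have h₁ : g₁ ∈ Mero.divisorGroup C := by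
    apply Groth.Agent.Lib.Helper48.CurveDiv.mem_divisorGroup_of_finite hC
    · refine hsuppfin.subset ?_
      intro x hx hD
      exact hx (if_pos hD)
    · intro x hx
      exact if_pos (hnc x hx)
  have h₂ : g₂ ∈ Mero.divisorGroup C := by
    apply Groth.Agent.Lib.Helper48.CurveDiv.mem_divisorGroup_of_finite hC
    · refine hsuppfin.subset ?_
      intro x hx hD
      exact hx (if_pos hD)
    · intro x hx
      exact if_pos (hnc x hx)
  have hE1 : ∀ x : C, (QuotientGroup.mk (E x 1) : Mero.Germ C x) = 1 := by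
    intro x
    have e : E x 1 = 1 := Units.ext (map_one _)
    rw [e]
    rfl
  refine ⟨⟨g₁, h₁⟩, ⟨g₂, h₂⟩, ?_, ?_, ?_, ?_, ?_⟩
  · intro x
    by_cases hD : D.1 x = 1
    · exact ⟨1, (show g₁ x = 1 from if_pos hD).trans (hE1 x).symm⟩
    · exact ⟨Mero.regGerm ⟨x, hxV x⟩ (a x), if_neg hD⟩
  · intro x
    by_cases hD : D.1 x = 1
    · exact ⟨1, (show g₂ x = 1 from if_pos hD).trans (hE1 x).symm⟩
    · exact ⟨Mero.regGerm ⟨x, hxV x⟩ (b x), if_neg hD⟩
  · apply Subtype.ext
    funext x
    show D.1 x = g₁ x * (g₂ x)⁻¹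
    by_cases hD : D.1 x = 1
    · rw [show g₁ x = 1 from if_pos hD, show g₂ x = 1 from if_pos hD, hD, inv_one]
      exact (mul_one (1 : Mero.Germ C x)).symm
    · rw [show g₁ x = QuotientGroup.mk (E x (Mero.regGerm ⟨x, hxV x⟩ (a x))) from if_neg hD,
        show g₂ x = QuotientGroup.mk (E x (Mero.regGerm ⟨x, hxV x⟩ (b x))) from if_neg hD, ← hφ x]
      show (QuotientGroup.mk (φ x) : Mero.Germ C x) =
        QuotientGroup.mk (E x (Mero.regGerm ⟨x, hxV x⟩ (a x)) *
          (E x (Mero.regGerm ⟨x, hxV x⟩ (b x)))⁻¹)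
      congr 1
      rw [eq_mul_inv_iff_mul_eq]
      apply Units.ext
      show (φ x : Mero.KStalk C x) *
          LocalizedModule.mk (C.presheaf.germ (V x) x (hxV x) (b x).1) 1 =
        LocalizedModule.mk (C.presheaf.germ (V x) x (hxV x) (a x).1) 1
      rw [hab x]
      refine LocalizedModule.mk_mul_mk.trans ?_
      rw [LocalizedModule.mk_eq]
      refine ⟨1, ?_⟩
      simp only [Submonoid.smul_def, smul_eq_mul, Submonoid.coe_one, one_mul, mul_one]
      exact mul_comm _ _
  · intro x hx hD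
    exact hx (if_pos hD)
  · intro x hx hD
    exact hx (if_pos hD)

end Groth.Agent.S10894
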