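import Groth.Statements.S10895
import Mathlib
-- import your own Groth.Agent.* helpers here

set_option autoImplicit false
universe u
open CategoryTheory AlgebraicGeometry
open FlatMor

namespace Groth.Agent.S10895
open CategoryTheory AlgebraicGeometry Limits TopologicalSpace Topology Opposite


lemma local_ker_eq_bot {R S : Type u} [CommRing R] [CommRing S] [IsLocalRing R] [Nontrivial S]
    (ψ : R →+* S) (hs : Function.Surjective ψ) (hflat : ψ.Flat) : RingHom.ker ψ = ⊥ := by
  set J := RingHom.ker ψ with hJ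
  have hpure : J.Pure := by
    algebraize [ψ]
    have e : (R ⧸ J) ≃ₐ[R] S := Ideal.quotientKerAlgEquivOfSurjective (f := Algebra.ofId R S) hs
    exact Module.Flat.of_linearEquiv e.toLinearEquiv
  rw [eq_bot_iff]
  intro x hx
  obtain ⟨y, hy, hxy⟩ := Ideal.exists_eq_mul_of_pure hx
  have hne : J ≠ ⊤ := RingHom.ker_ne_top ψ
  have hyu : IsUnit (1 - y) := by
    have : y ∈ IsLocalRing.maximalIdeal R := IsLocalRing.le_maximalIdeal hne hy
    have h1 := IsLocalRing.isUnit_one_sub_self_of_mem_nonunits y this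
    exact h1
  have : x * (1 - y) = 0 := by rw [mul_sub, mul_one, ← hxy, sub_self]
  exact (hyu.mul_left_eq_zero).mp this

lemma alg {A B : Type u} [CommRing A] [CommRing B] (φ : A →+* B) (hφ : Function.Surjective φ)
    (hI : (RingHom.ker φ).FG) (q : Ideal B) [q.IsPrime] (p : Ideal A) [p.IsPrime]
    (hpq : p = q.comap φ)
    (hflat : (Localization.localRingHom p q φ hpq).Flat) :
    ∃ r ∉ p, ∀ a ∈ RingHom.ker φ, r * a = 0 := by
  subst hpq
  have hψ := RingHom.surjective_localRingHom_of_surjective φ hφ q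
  have hker := local_ker_eq_bot _ hψ hflat
  have key : ∀ a ∈ RingHom.ker φ, ∃ t ∉ q.comap φ, t * a = 0 := by
    intro a ha
    have h0 : algebraMap A (Localization.AtPrime (q.comap φ)) a = 0 := by
      have : algebraMap A (Localization.AtPrime (q.comap φ)) a ∈
          RingHom.ker (Localization.localRingHom (q.comap φ) q φ rfl) := by
        rw [RingHom.mem_ker, Localization.localRingHom_to_map, (RingHom.mem_ker).mp ha, map_zero]
      rw [hker] at this
      exact this
    obtain ⟨⟨t, ht⟩, h⟩ := (IsLocalization.map_eq_zero_iff (q.comap φ).primeCompl _ _).mp h0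
    exact ⟨t, ht, h⟩
  obtain ⟨s, hs⟩ := hI
  classical
  choose! t ht ht0 using key
  refine ⟨∏ i ∈ s, t i, ?_, ?_⟩
  · intro hmem
    obtain ⟨i, hi, hti⟩ := (Ideal.IsPrime.prod_mem_iff).mp hmem
    exact ht i (hs ▸ Ideal.subset_span hi) hti
  · intro a ha
    rw [← hs] at ha
    refine Submodule.span_induction ?_ ?_ ?_ ?_ ha
    · intro x hx
      rw [← Finset.prod_erase_mul s t hx, mul_assoc, ht0 x (hs ▸ Ideal.subset_span hx), mul_zero]
    · simp
    · intro x y _ _ hx hy
      rw [mul_add, hx, hy, add_zero]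
    · intro c x _ hx
      rw [smul_eq_mul, mul_left_comm, hx, mul_zero]

lemma app_injective_of_eq {X Y : Scheme.{u}} (f : X ⟶ Y) (V W : Y.Opens) (h : W = V)
    (hV : Function.Injective (f.app V)) : Function.Injective (f.app W) := by
  subst h; exact hV

set_option backward.isDefEq.respectTransparency false in
theorem aux {X Y : Scheme.{u}} (f : X ⟶ Y) [IsClosedImmersion f]
    [LocallyOfFinitePresentation f] (x : X) (hflat : (f.stalkMap x).hom.Flat) :
    ∃ V : Y.Opens, f.base x ∈ V ∧ IsIso (f ∣_ V) := by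
  obtain ⟨U, hU, hfx, _⟩ := Opens.isBasis_iff_nbhd.mp Y.isBasis_affineOpens (Opens.mem_top <| f x)
  have hV : IsAffineOpen (f ⁻¹ᵁ U) := hU.preimage f
  have hxV : x ∈ f ⁻¹ᵁ U := hfx
  have happ : f.appLE U (f ⁻¹ᵁ U) le_rfl = f.app U := by simp [Scheme.Hom.appLE]
  have hsurj : Function.Surjective (f.appLE U (f ⁻¹ᵁ U) le_rfl).hom := by
    rw [happ]
    exact f.app_surjective U hU
  have hfp : (f.appLE U (f ⁻¹ᵁ U) le_rfl).hom.FinitePresentation :=
    f.finitePresentation_appLE hU hV le_rfl
  have hker : (RingHom.ker (f.appLE U (f ⁻¹ᵁ U) le_rfl).hom).FG := by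
    algebraize [(f.appLE U (f ⁻¹ᵁ U) le_rfl).hom]
    exact Algebra.FinitePresentation.ker_fG_of_surjective (Algebra.ofId _ _) hsurj
  have hflat' := (RingHom.Flat.respectsIso.arrow_mk_iso_iff
    (IsAffineOpen.arrowStalkMapIso f U hU _ hV le_rfl hxV)).mp hflat
  obtain ⟨r, hr, hr0⟩ := alg _ hsurj hker _ _
    (congr($(IsAffineOpen.comap_primeIdealOf_appLE U hU _ hV le_rfl hxV).1).symm) hflat'
  have hrV : f x ∈ Y.basicOpen r := by
    rw [Scheme.mem_basicOpen _ _ _ hfx]
    letI := Y.presheaf.algebra_section_stalk ⟨f x, hfx⟩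
    haveI := hU.isLocalization_stalk ⟨f x, hfx⟩
    exact (IsLocalization.AtPrime.isUnit_to_map_iff (Y.presheaf.stalk (f x))
      (hU.primeIdealOf ⟨f x, hfx⟩).asIdeal r).mpr hr
  refine ⟨Y.basicOpen r, hrV, ?_⟩
  haveI : IsAffine (Y.basicOpen r) := hU.basicOpen r
  apply IsClosedImmersion.isIso_of_injective_of_isAffine
  rw [morphismRestrict_appTop]
  have hinj : Function.Injective (f.app (Y.basicOpen r)) := by
    have h1 := f.ker.map_ideal_basicOpen ⟨U, hU⟩ r
    rw [Scheme.Hom.ker_apply, Scheme.Hom.ker_apply] at h1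
    have h2 : (RingHom.ker (f.app U).hom).map
        (Y.presheaf.map (homOfLE <| Y.basicOpen_le r).op).hom = ⊥ := by
      rw [eq_bot_iff, Ideal.map_le_iff_le_comap]
      intro a ha
      rw [← happ] at ha
      have h3 := hr0 a ha
      rw [Ideal.mem_comap, Ideal.mem_bot]
      have hu : IsUnit ((Y.presheaf.map (homOfLE <| Y.basicOpen_le r).op).hom r) :=
        RingedSpace.isUnit_res_basicOpen _ r
      rw [← hu.mul_right_eq_zero, ← map_mul, h3, map_zero]
    rw [h2] at h1
    exact (RingHom.injective_iff_ker_eq_bot _).mpr h1.symm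
  have := app_injective_of_eq f (Y.basicOpen r) ((Y.basicOpen r).ι ''ᵁ ⊤) (by simp) hinj
  intro s t hst
  apply this
  exact (ConcreteCategory.bijective_of_isIso (X.presheaf.map (eqToHom
    (image_morphismRestrict_preimage f (Y.basicOpen r) ⊤)).op)).1 hst


/-- A closed immersion of finite presentation which is flat at a point x is an isomorphism over some
open neighbourhood of the image of x. -/
theorem result {X Y : Scheme.{u}} (f : X ⟶ Y) [IsClosedImmersion f]
    [LocallyOfFinitePresentation f] (x : X) (hflat : (f.stalkMap x).hom.Flat) :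
    ∃ V : Y.Opens, f.base x ∈ V ∧ IsIso (f ∣_ V) := by
  exact aux f x hflat

end Groth.Agent.S10895
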