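import Groth.Statements.S10898
-- import your own Groth.Agent.* helpers here

set_option autoImplicit false
universe u
open Polynomial
open WDiv

namespace Groth.Agent.S10898

theorem comap_C_map_C {A : Type*} [CommRing A] (I : Ideal A) :
    (I.map (C : A →+* A[X])).comap (C : A →+* A[X]) = I := by
  ext a
  rw [Ideal.mem_comap, Ideal.mem_map_C_iff]
  constructor
  · intro h
    simpa using h 0
  · intro h n
    rw [coeff_C]
    split_ifs
    · exact h
    · exact I.zero_mem

theorem height_le_height_map_C {A : Type*} [CommRing A] (p : Ideal A) [p.IsPrime] :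
    p.height ≤ (p.map (C : A →+* A[X])).height := by
  have hstrict : StrictMono (fun q : PrimeSpectrum A =>
      (⟨q.asIdeal.map (C : A →+* A[X]), Ideal.isPrime_map_C_of_isPrime⟩ : PrimeSpectrum A[X])) := by
    intro q q' hqq'
    refine lt_of_le_of_ne ?_ ?_
    · exact Ideal.map_mono (le_of_lt hqq')
    · intro heq
      apply ne_of_lt hqq'
      have h2 : q.asIdeal.map (C : A →+* A[X]) = q'.asIdeal.map (C : A →+* A[X]) :=
        congrArg PrimeSpectrum.asIdeal heq
      ext1
      rw [← comap_C_map_C q.asIdeal, ← comap_C_map_C q'.asIdeal, h2]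
  have := Order.height_le_height_apply_of_strictMono _ hstrict (⟨p, inferInstance⟩ : PrimeSpectrum A)
  rwa [← PrimeSpectrum.height_eq_orderHeight, ← PrimeSpectrum.height_eq_orderHeight] at this

/-- Let A be a Noetherian integral domain and P a prime ideal of height 1 of the polynomial ring A[X].
Then either P meets A in 0 only, or its contraction p = P ∩ A is a prime of height 1 of A and P is
the extension p·A[X]. (The published lemma also assumes A regular in codimension 1; that hypothesis
is not used for this assertion.) -/
theorem result (A : Type u) [CommRing A] [IsDomain A]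
    [IsNoetherianRing A] (P : Ideal A[X]) [P.IsPrime] (hP : P.height = 1) :
    P.comap (C : A →+* A[X]) = ⊥ ∨
      ((P.comap (C : A →+* A[X])).height = 1 ∧ P = (P.comap (C : A →+* A[X])).map C) := by
  by_cases hp : P.comap (C : A →+* A[X]) = ⊥
  · exact Or.inl hp
  right
  set p := P.comap (C : A →+* A[X]) with hpdef
  have : p.IsPrime := Ideal.comap_isPrime _ _
  have hQP : p.map (C : A →+* A[X]) ≤ P := Ideal.map_comap_le
  have hQ0 : p.map (C : A →+* A[X]) ≠ ⊥ := by
    intro h0
    apply hp
    rw [← comap_C_map_C p, h0]
    ext a
    simp [Ideal.mem_comap]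
  have hQeq : p.map (C : A →+* A[X]) = P := by
    by_contra hne
    have hlt : p.map (C : A →+* A[X]) < P := lt_of_le_of_ne hQP hne
    have h1 := Ideal.height_add_one_le_of_lt_of_isPrime hlt
    rw [hP] at h1
    have h2 : (p.map (C : A →+* A[X])).height = 0 := by
      generalize (p.map (C : A →+* A[X])).height = m at h1
      induction m using ENat.recTopCoe with
      | top => simp at h1
      | coe m =>
        have h3 : m + 1 ≤ 1 := by exact_mod_cast h1
        have h4 : m = 0 := by omega
        rw [h4]
        rfl
    exact hQ0 (Ideal.height_eq_zero_iff_eq_bot.mp h2)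
  refine ⟨?_, hQeq.symm⟩
  apply le_antisymm
  · calc p.height ≤ (p.map (C : A →+* A[X])).height := height_le_height_map_C p
      _ = 1 := by rw [hQeq, hP]
  · rw [Order.one_le_iff_pos, pos_iff_ne_zero]
    intro h0
    exact hp (Ideal.height_eq_zero_iff_eq_bot.mp h0)

end Groth.Agent.S10898
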