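import Groth.Statements.S10899
import Mathlib
import Groth.Agent.S10898
-- import your own Groth.Agent.* helpers here

set_option autoImplicit false
universe u
open Polynomial
open WDiv

namespace Groth.Agent.S10899


open Polynomial Ideal IsLocalRing in
/-- Regularity of `R[X]_p` from regularity of `R_q`, `q = p ∩ R` (copied from Mathlib's proof of
`Polynomial.isRegularRing_of_isRegularRing`, for a single prime). -/
theorem regular_loc (R : Type u) [CommRing R] [IsNoetherianRing R] (p : Ideal R[X]) [hp : p.IsPrime]
    (h : IsRegularLocalRing (Localization.AtPrime (p.comap (C : R →+* R[X])))) :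
    IsRegularLocalRing (Localization.AtPrime p) := by
  let q := p.comap (C : R →+* R[X])
  let S := (Localization.AtPrime q)[X]
  let pc := Submonoid.map Polynomial.C.toMonoidHom q.primeCompl
  let : Algebra R[X] S := Polynomial.algebra R (Localization.AtPrime q)
  have : IsLocalization pc S := Polynomial.isLocalization _ _
  let pS := p.map (algebraMap R[X] S)
  have disj : Disjoint (pc : Set R[X]) (p : Set R[X]) := by
    simpa [pc, q] using! Set.disjoint_image_left.mpr
      (Set.disjoint_compl_left_iff_subset.mpr (fun _ a ↦ a))
  have : pS.IsPrime := IsLocalization.isPrime_of_isPrime_disjoint pc _ _ ‹_› disj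
  have : IsLocalization.AtPrime (Localization.AtPrime pS) p := by
    convert IsLocalization.isLocalization_isLocalization_atPrime_isLocalization pc
      (Localization.AtPrime pS) pS
    exact (IsLocalization.under_map_of_isPrime_disjoint pc _ ‹_› disj).symm
  have := h
  have eq : comap C pS = maximalIdeal (Localization.AtPrime q) := by
    rw [← IsLocalization.map_under q.primeCompl _ (comap C pS),
      ← IsLocalization.map_under q.primeCompl _ (maximalIdeal (Localization.AtPrime q))]
    simp only [comap_comap, S, pS]
    rw [← Polynomial.algebraMap_eq (R := Localization.AtPrime q),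
      ← IsScalarTower.algebraMap_eq R (Localization.AtPrime q) (Localization.AtPrime q)[X],
      IsScalarTower.algebraMap_eq R R[X] (Localization.AtPrime q)[X], ← comap_comap,
      ← Ideal.under_def R[X], IsLocalization.under_map_of_isPrime_disjoint pc _ ‹_› disj]
    simp [q, IsLocalization.AtPrime.under_maximalIdeal (Localization.AtPrime q) q]
  have := Polynomial.isRegularLocalRing_localization_atPrime_of_comap_eq_maximalIdeal _ pS eq
  let e : Localization.AtPrime pS ≃+* Localization.AtPrime p :=
    (IsLocalization.algEquiv p.primeCompl
      (Localization.AtPrime pS) (Localization.AtPrime p)).toRingEquiv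
  exact IsRegularLocalRing.of_ringEquiv (R := Localization.AtPrime pS) e


theorem reg_of_bot (A : Type u) [CommRing A] [IsDomain A] [IsNoetherianRing A]
    (q : Ideal A) [q.IsPrime] (h : q = ⊥) : IsRegularLocalRing (Localization.AtPrime q) := by
  have hmax : IsLocalRing.maximalIdeal (Localization.AtPrime q) = ⊥ := by
    rw [← Localization.AtPrime.map_eq_maximalIdeal]
    subst h
    exact Ideal.map_bot
  rw [isRegularLocalRing_iff, hmax]
  have hdim : ringKrullDim (Localization.AtPrime q) = 0 := by
    rw [IsLocalization.AtPrime.ringKrullDim_eq_height q]
    have : q.height = 0 := by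
      rw [Ideal.height_eq_zero_iff_eq_bot]
      exact h
    rw [this]
    rfl
  rw [hdim]
  simp

/-- Let A be a Noetherian integral domain which is regular in codimension 1, i.e. whose localization at
every prime ideal of height 1 is a discrete valuation ring. Then the polynomial ring A[X] is regular
in codimension 1 as well: its localization at every prime ideal of height 1 is a discrete valuation
ring. -/
theorem result (A : Type u) [CommRing A]
    [IsDomain A] [IsNoetherianRing A]
    (hR1 : ∀ (p : Ideal A) [p.IsPrime], p.height = 1 → IsDiscreteValuationRing (Localization.AtPrime p))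
    (P : Ideal A[X]) [P.IsPrime] (hP : P.height = 1) :
    IsDiscreteValuationRing (Localization.AtPrime P) := by
  have hq : IsRegularLocalRing (Localization.AtPrime (P.comap (C : A →+* A[X]))) := by
    rcases Groth.Agent.S10898.result A P hP with h0 | ⟨h1, -⟩
    · exact reg_of_bot A _ h0
    · have := hR1 (P.comap (C : A →+* A[X])) h1
      infer_instance
  have hreg := regular_loc A P hq
  have hdim : ringKrullDim (Localization.AtPrime P) = 1 := by
    rw [IsLocalization.AtPrime.ringKrullDim_eq_height P, hP]
    rfl
  have hfin := (IsRegularLocalRing.iff_finrank_cotangentSpace (Localization.AtPrime P)).mp hreg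
  rw [hdim] at hfin
  have hfin' : Module.finrank (IsLocalRing.ResidueField (Localization.AtPrime P))
      (IsLocalRing.CotangentSpace (Localization.AtPrime P)) = 1 := by
    exact_mod_cast hfin
  have hnf : ¬ IsField (Localization.AtPrime P) := by
    intro hf
    have := ringKrullDim_eq_zero_of_isField hf
    rw [hdim] at this
    exact one_ne_zero this
  exact ((IsDiscreteValuationRing.TFAE (Localization.AtPrime P) hnf).out 0 5).mpr hfin'

end Groth.Agent.S10899
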