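import Groth.Statements.S10902
import Groth.Agent.Lib.Helper86.KaehlerField
import Groth.Agent.Lib.Helper73.DimField
import Mathlib.RingTheory.LocalRing.Module
import Mathlib.RingTheory.Unramified.LocalRing
-- import your own Groth.Agent.* helpers here

set_option autoImplicit false
universe u
open TensorProduct
open SmVar

namespace Groth.Agent.S10902

section Aux

open scoped IntermediateField.algebraAdjoinAdjoin

/-- Upper semicontinuity of the fibre rank of a finite module along a specialization. -/
theorem finrank_fiber_le (A : Type u) [CommRing A] (M : Type u) [AddCommGroup M] [Module A M]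
    [Module.Finite A M] (q P : Ideal A) [q.IsPrime] [P.IsPrime] (hqP : q ≤ P) :
    Module.finrank q.ResidueField (q.ResidueField ⊗[A] M) ≤
      Module.finrank P.ResidueField (P.ResidueField ⊗[A] M) := by
  classical
  haveI : Nontrivial A := ⟨⟨0, 1, fun h => (inferInstance : P.IsPrime).ne_top (by
    rw [Ideal.eq_top_iff_one, ← h]; exact P.zero_mem)⟩⟩
  have hkey : ∀ x : P.ResidueField ⊗[A] M, x ∈
      Submodule.span P.ResidueField (Set.range fun m : M => (1 : P.ResidueField) ⊗ₜ[A] m) := by
    intro x
    induction x using TensorProduct.induction_on with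
    | zero => exact Submodule.zero_mem _
    | tmul a m =>
      have : a ⊗ₜ[A] m = a • ((1 : P.ResidueField) ⊗ₜ[A] m) := by
        rw [TensorProduct.smul_tmul', smul_eq_mul, mul_one]
      rw [this]
      exact Submodule.smul_mem _ _ (Submodule.subset_span ⟨m, rfl⟩)
    | add x y hx hy => exact Submodule.add_mem _ hx hy
  have hspan : (⊤ : Submodule P.ResidueField (P.ResidueField ⊗[A] M)) ≤
      Submodule.span P.ResidueField (Set.range fun m : M => (1 : P.ResidueField) ⊗ₜ[A] m) :=
    fun x _ => hkey x
  let b := Module.Basis.ofSpan hspan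
  haveI : Finite ((linearIndepOn_empty P.ResidueField id).extend
      (Set.empty_subset (Set.range fun m : M => (1 : P.ResidueField) ⊗ₜ[A] m))) :=
    Module.Finite.finite_basis b
  letI : Fintype ((linearIndepOn_empty P.ResidueField id).extend
      (Set.empty_subset (Set.range fun m : M => (1 : P.ResidueField) ⊗ₜ[A] m))) := Fintype.ofFinite _
  have hb : ∀ i, ∃ m : M, (1 : P.ResidueField) ⊗ₜ[A] m = b i := fun i =>
    Module.Basis.ofSpan_subset hspan ⟨i, rfl⟩
  choose m hm using hb
  let φ := Fintype.linearCombination A m
  have hmφ : ∀ i, m i ∈ LinearMap.range φ := fun i =>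
    ⟨Pi.single i 1, by simp [φ, Fintype.linearCombination_apply_single]⟩
  -- the fibre of the cokernel at `P` vanishes
  have hsubP : Subsingleton (P.ResidueField ⊗[A] (M ⧸ LinearMap.range φ)) := by
    let g := LinearMap.baseChange P.ResidueField (LinearMap.range φ).mkQ
    have hg0 : g = 0 := by
      apply b.ext
      intro i
      rw [← hm i, LinearMap.baseChange_tmul, LinearMap.zero_apply]
      have : (LinearMap.range φ).mkQ (m i) = 0 := by
        rw [Submodule.mkQ_apply, Submodule.Quotient.mk_eq_zero]
        exact hmφ i
      rw [this, TensorProduct.tmul_zero]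
    have hgs : Function.Surjective g := by
      have := LinearMap.lTensor_surjective P.ResidueField (Submodule.mkQ_surjective (LinearMap.range φ))
      intro y
      obtain ⟨x, hx⟩ := this y
      exact ⟨x, by rw [← hx]; rfl⟩
    refine ⟨fun y z => ?_⟩
    obtain ⟨y', rfl⟩ := hgs y
    obtain ⟨z', rfl⟩ := hgs z
    rw [hg0, LinearMap.zero_apply, LinearMap.zero_apply]
  have hnotP : (⟨P, inferInstance⟩ : PrimeSpectrum A) ∉ Module.support A (M ⧸ LinearMap.range φ) := by
    intro h
    have := (Module.mem_support_iff_nontrivial_residueField_tensorProduct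
      (R := A) (M := M ⧸ LinearMap.range φ) ⟨P, inferInstance⟩).mp h
    exact not_subsingleton _ hsubP
  have hnotq : (⟨q, inferInstance⟩ : PrimeSpectrum A) ∉ Module.support A (M ⧸ LinearMap.range φ) := by
    intro h
    exact hnotP (Module.mem_support_mono (p := ⟨q, inferInstance⟩) (q := ⟨P, inferInstance⟩) hqP h)
  have hsubq : Subsingleton (q.ResidueField ⊗[A] (M ⧸ LinearMap.range φ)) := by
    by_contra hcon
    rw [not_subsingleton_iff_nontrivial] at hcon
    exact hnotq ((Module.mem_support_iff_nontrivial_residueField_tensorProduct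
      (R := A) (M := M ⧸ LinearMap.range φ) ⟨q, inferInstance⟩).mpr hcon)
  -- the fibre at `q` is spanned by the images of the `m i`
  have hsurj : Function.Surjective (LinearMap.baseChange q.ResidueField φ) := by
    have hex := lTensor_exact q.ResidueField (LinearMap.exact_map_mkQ_range φ)
      (Submodule.mkQ_surjective (LinearMap.range φ))
    intro x
    have : (LinearMap.lTensor q.ResidueField (LinearMap.range φ).mkQ) x = 0 := Subsingleton.elim _ _
    obtain ⟨y, hy⟩ := (hex x).mp this
    exact ⟨y, by rw [← hy]; rfl⟩
  calc Module.finrank q.ResidueField (q.ResidueField ⊗[A] M)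
      ≤ Module.finrank q.ResidueField (q.ResidueField ⊗[A] (_ → A)) :=
        LinearMap.finrank_le_finrank_of_surjective hsurj
    _ = Module.finrank A (_ → A) := Module.finrank_baseChange
    _ = Fintype.card _ := Module.finrank_fintype_fun_eq_card A
    _ = Module.finrank P.ResidueField (P.ResidueField ⊗[A] M) :=
        (Module.finrank_eq_card_basis b).symm

/-- For a finitely generated field extension, the transcendence degree is at most the dimension
of the module of differentials. -/
theorem trdeg_le_finrank_kaehler (k F : Type u) [Field k] [Field F] [Algebra k F]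
    [Algebra.EssFiniteType k F] :
    Algebra.trdeg k F ≤ (Module.finrank F (Ω[F⁄k]) : Cardinal.{u}) := by
  classical
  have hspan : (⊤ : Submodule F (Ω[F⁄k])) ≤
      Submodule.span F (Set.range (KaehlerDifferential.D k F)) :=
    (KaehlerDifferential.span_range_derivation k F).ge
  let b := Module.Basis.ofSpan hspan
  haveI : Finite ((linearIndepOn_empty F id).extend
      (Set.empty_subset (Set.range (KaehlerDifferential.D k F)))) :=
    Module.Finite.finite_basis b
  letI : Fintype ((linearIndepOn_empty F id).extend
      (Set.empty_subset (Set.range (KaehlerDifferential.D k F)))) := Fintype.ofFinite _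
  have hb : ∀ i, ∃ x : F, KaehlerDifferential.D k F x = b i := fun i =>
    Module.Basis.ofSpan_subset hspan ⟨i, rfl⟩
  choose x hx using hb
  have hsp : Submodule.span F (KaehlerDifferential.D k F '' (Set.range x)) = ⊤ := by
    rw [eq_top_iff, ← b.span_eq]
    apply Submodule.span_mono
    rintro _ ⟨i, rfl⟩
    exact ⟨x i, ⟨i, rfl⟩, hx i⟩
  haveI hsep : Algebra.IsSeparable (IntermediateField.adjoin k (Set.range x)) F :=
    Groth.Agent.Lib.Helper86.isSeparable_of_span_D_eq_top (IntermediateField.adjoin k (Set.range x))
      (Set.range x) (IntermediateField.subset_adjoin k (Set.range x)) hsp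
  haveI : Algebra.IsAlgebraic (IntermediateField.adjoin k (Set.range x)) F := inferInstance
  haveI : Algebra.IsAlgebraic (Algebra.adjoin k (Set.range x))
      (IntermediateField.adjoin k (Set.range x)) :=
    IsLocalization.isAlgebraic _ (nonZeroDivisors (Algebra.adjoin k (Set.range x)))
  haveI : Algebra.IsAlgebraic (Algebra.adjoin k (Set.range x)) F :=
    Algebra.IsAlgebraic.trans (Algebra.adjoin k (Set.range x))
      (IntermediateField.adjoin k (Set.range x)) F
  obtain ⟨t, hts, ht⟩ := exists_isTranscendenceBasis_subset (R := k) (Set.range x)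
  rw [← ht.cardinalMk_eq_trdeg]
  calc Cardinal.mk t ≤ Cardinal.mk (Set.range x) := Cardinal.mk_le_mk_of_subset hts
    _ ≤ Cardinal.mk _ := Cardinal.mk_range_le
    _ = (Fintype.card _ : Cardinal) := Cardinal.mk_fintype _
    _ = (Module.finrank F (Ω[F⁄k]) : Cardinal) := by rw [Module.finrank_eq_card_basis b]

/-- `κ(q) ⊗ Ω[A/k] → Ω[κ(q)/k]` is surjective. -/
theorem mapBaseChange_residueField_surjective (k A : Type u) [CommRing k] [CommRing A]
    [Algebra k A] (q : Ideal A) [q.IsPrime] :
    Function.Surjective (KaehlerDifferential.mapBaseChange k A q.ResidueField) := by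
  haveI : Algebra.FormallyUnramified A (Localization.AtPrime q) :=
    Algebra.FormallyUnramified.of_isLocalization q.primeCompl
  haveI : Algebra.FormallyUnramified A q.ResidueField :=
    Algebra.FormallyUnramified.comp A (Localization.AtPrime q) q.ResidueField
  intro x
  have hex := KaehlerDifferential.exact_mapBaseChange_map k A q.ResidueField
  have : KaehlerDifferential.map k A q.ResidueField q.ResidueField x = 0 := Subsingleton.elim _ _
  exact (hex x).mp this

end Aux

/-- Let k be a field and A a k-algebra of finite type (X = Spec A a k-scheme of finite type), P a prime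
ideal of A, and suppose P contains a prime q with dim A/q ≥ n, i.e. the point P lies on an
irreducible component of X of dimension at least n. Then the fibre at P of the sheaf of
differentials of X over k has dimension at least n over the residue field: dim_{κ(P)} (κ(P) ⊗_A
Ω_{A/k}) ≥ n. (The published statement asks every irreducible component of X to have dimension ≥ n
and concludes this at every point.) -/
theorem result (k : Type u) [Field k]
    (A : Type u) [CommRing A] [Algebra k A] [Algebra.FiniteType k A] (n : ℕ)
    (P : Ideal A) [P.IsPrime] (q : Ideal A) [q.IsPrime] (hqP : q ≤ P)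
    (hq : (n : WithBot ℕ∞) ≤ ringKrullDim (A ⧸ q)) :
    n ≤ Module.finrank P.ResidueField (P.ResidueField ⊗[A] (Ω[A⁄k])) := by
  haveI : Algebra.FiniteType k (A ⧸ q) :=
    Algebra.FiniteType.of_surjective (Ideal.Quotient.mkₐ k q) (Ideal.Quotient.mkₐ_surjective k q)
  obtain ⟨N, hN1, hN2, -, -⟩ :=
    Groth.Agent.Lib.Helper73.DimFormula.exists_trdeg_eq_ringKrullDim k (A ⧸ q)
  have hnN : n ≤ N := by
    rw [hN2] at hq
    exact_mod_cast hq
  haveI : IsScalarTower k (A ⧸ q) q.ResidueField := IsScalarTower.of_algebraMap_eq' (by
    rw [IsScalarTower.algebraMap_eq k A q.ResidueField,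
      IsScalarTower.algebraMap_eq A (A ⧸ q) q.ResidueField, RingHom.comp_assoc,
      ← IsScalarTower.algebraMap_eq k A (A ⧸ q)])
  haveI : Algebra.IsAlgebraic (A ⧸ q) q.ResidueField :=
    IsLocalization.isAlgebraic q.ResidueField (nonZeroDivisors (A ⧸ q))
  have h1 : Algebra.trdeg k q.ResidueField = N := by
    rw [← hN1]
    exact Groth.Agent.Lib.Helper73.DimFormula.trdeg_eq_of_isAlgebraic_top k (A := A ⧸ q)
      (B := q.ResidueField)
  haveI : Algebra.EssFiniteType A (Localization.AtPrime q) :=
    Algebra.EssFiniteType.of_isLocalization _ q.primeCompl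
  haveI : Algebra.EssFiniteType A q.ResidueField :=
    Algebra.EssFiniteType.comp A (Localization.AtPrime q) q.ResidueField
  haveI : Algebra.EssFiniteType k q.ResidueField := Algebra.EssFiniteType.comp k A q.ResidueField
  have h2 := trdeg_le_finrank_kaehler k q.ResidueField
  have h3 : Module.finrank q.ResidueField (Ω[q.ResidueField⁄k]) ≤
      Module.finrank q.ResidueField (q.ResidueField ⊗[A] (Ω[A⁄k])) :=
    LinearMap.finrank_le_finrank_of_surjective (mapBaseChange_residueField_surjective k A q)
  have h4 := finrank_fiber_le A (Ω[A⁄k]) q P hqP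
  rw [h1] at h2
  have h5 : N ≤ Module.finrank q.ResidueField (Ω[q.ResidueField⁄k]) := by exact_mod_cast h2
  omega

end Groth.Agent.S10902
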