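import Groth.Statements.S9442
import Groth.Agent.Lib.Helper62.SmoothReg4
import Groth.Agent.Lib.Helper25.SepSmooth
import Mathlib.RingTheory.RingHom.Surjective
import Mathlib.RingTheory.RegularLocalRing.Polynomial
import Mathlib.RingTheory.Smooth.Fiber

set_option autoImplicit false
universe u
open CAlg

namespace Groth.Agent.S9442

/-- For a finite type algebra S over a field k and a prime q of S with κ(q) separable over k, S is
smooth over k at q if and only if S_q is a regular local ring. -/
theorem result (k : Type u) [Field k]
    (S : Type u) [CommRing S] [Algebra k S] [Algebra.FiniteType k S] (q : Ideal S) [q.IsPrime]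
    [Algebra.IsGeometricallyReduced k q.ResidueField] :
    Algebra.IsSmoothAt k q ↔ IsRegularLocalRing (Localization.AtPrime q) := by
  obtain ⟨n, f₀, hf₀⟩ := Algebra.FiniteType.iff_quotient_mvPolynomial''.mp
    (inferInstance : Algebra.FiniteType k S)
  let Q : Ideal (MvPolynomial (Fin n) k) := q.comap f₀.toRingHom
  let T := Localization.AtPrime Q
  let fP : T →+* Localization.AtPrime q := Localization.localRingHom Q q f₀.toRingHom rfl
  have hfP : Function.Surjective fP :=
    RingHom.surjective_localRingHom_of_surjective f₀.toRingHom hf₀ q
  algebraize [fP]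
  have : IsScalarTower k T (Localization.AtPrime q) := by
    refine IsScalarTower.of_algebraMap_eq fun x => ?_
    rw [IsScalarTower.algebraMap_apply k (MvPolynomial (Fin n) k) T, RingHom.algebraMap_toAlgebra]
    change _ = Localization.localRingHom Q q f₀.toRingHom rfl _
    rw [Localization.localRingHom_to_map]
    change _ = algebraMap S _ (f₀ _)
    rw [f₀.commutes, ← IsScalarTower.algebraMap_apply]
  have : Algebra.FormallyEtale (MvPolynomial (Fin n) k) T := .of_isLocalization Q.primeCompl
  have : Algebra.FormallySmooth k T := .comp _ (MvPolynomial (Fin n) k) _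
  have : Module.Free T Ω[T⁄k] :=
    .of_equiv (KaehlerDifferential.tensorKaehlerEquivOfFormallyEtale k (MvPolynomial (Fin n) k) T)
  have : Algebra.EssFiniteType k q.ResidueField := Algebra.EssFiniteType.comp k S q.ResidueField
  have : Algebra.FormallySmooth k (IsLocalRing.ResidueField (Localization.AtPrime q)) :=
    Groth.Agent.Lib.Helper25.formallySmooth_of_isGeometricallyReduced k q.ResidueField
  exact Groth.Agent.Lib.Helper62.SmoothReg.formallySmooth_iff_isRegularLocalRing T
    (Localization.AtPrime q) hfP

end Groth.Agent.S9442
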