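import Groth.Statements.S12290
import Groth.Agent.Lib.Helper62.CotTLoc5
import Groth.Agent.Lib.Helper62.CotTSmooth
import Groth.Agent.S9442
import Groth.Agent.S12284
import Mathlib.RingTheory.Smooth.Locus
import Mathlib.RingTheory.LocalProperties.Submodule

set_option autoImplicit false
universe u w m
open scoped TensorProduct
open DefT

namespace Groth.Agent.S12290

open Groth.Agent.Lib.Helper62.CotTLoc Groth.Agent.Lib.Helper62.CotTSmooth in
/-- regular at all primes iff formally smooth. -/
theorem regular_iff_formallySmooth
    (k B : Type u) [Field k] [IsAlgClosed k] [CommRing B] [Algebra k B] [Algebra.FiniteType k B] :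
    (∀ (p : Ideal B) [p.IsPrime], IsRegularLocalRing (Localization.AtPrime p)) ↔
      Algebra.FormallySmooth k B := by
  haveI : Algebra.FinitePresentation k B := Algebra.FinitePresentation.of_finiteType.mp inferInstance
  rw [← Algebra.smoothLocus_eq_univ_iff, Set.eq_univ_iff_forall]
  constructor
  · intro h p
    haveI : Algebra.IsGeometricallyReduced k p.asIdeal.ResidueField :=
      isGeometricallyReduced_of_isAlgClosed k _
    exact (Groth.Agent.S9442.result k B p.asIdeal).mpr (h p.asIdeal)
  · intro h p _
    haveI : Algebra.IsGeometricallyReduced k p.ResidueField :=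
      isGeometricallyReduced_of_isAlgClosed k _
    exact (Groth.Agent.S9442.result k B p).mp (h ⟨p, inferInstance⟩)

open Groth.Agent.Lib.Helper62.CotTLoc in
/-- `T²(B/k, M) = 0` if `B` is regular and `T¹(B/k, -) = 0`. -/
theorem subsingleton_T2_of_regular'
    (k B : Type u) [Field k] [CommRing B] [Algebra k B] [Algebra.FiniteType k B]
    (hreg : ∀ (p : Ideal B) [p.IsPrime], IsRegularLocalRing (Localization.AtPrime p))
    (hT1 : ∀ (M : Type u) [AddCommGroup M] [Module B M],
      Subsingleton (CotT.T1 (CotT.canon k B) M))
    (M : Type u) [AddCommGroup M] [Module B M] :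
    Subsingleton (CotT.T2 (CotT.canon k B) M) := by
  let N : MaximalSpectrum B → Type u := fun m => LocalizedModule m.asIdeal.primeCompl M
  have hN : ∀ m, Subsingleton (CotT.T2 (CotT.canon k B) (N m)) := by
    intro m
    haveI := hreg m.asIdeal
    exact (subsingleton_T2_at_regular k B m.asIdeal (N m)).2
  have hPi : Subsingleton (CotT.T2 (CotT.canon k B) (∀ m, N m)) :=
    subsingleton_T2_pi (CotT.canon k B) N hN
  let f : M →ₗ[B] (∀ m, N m) :=
    LinearMap.pi fun m => LocalizedModule.mkLinearMap m.asIdeal.primeCompl M
  have hf : Function.Injective f := by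
    rw [injective_iff_map_eq_zero]
    intro x hx
    apply Module.eq_zero_of_localization_maximal
      (fun (P : Ideal B) [P.IsMaximal] => LocalizedModule P.primeCompl M)
      (fun (P : Ideal B) [P.IsMaximal] => LocalizedModule.mkLinearMap P.primeCompl M)
    intro P hP
    exact congrFun hx ⟨P, hP⟩
  obtain ⟨-, -, -, -, δ₀, δ₁, -, -, -, h4⟩ := Groth.Agent.S12284.result k B B (CotT.CanonRels k B)
    (CotT.canon k B) M (∀ m, N m) ((∀ m, N m) ⧸ LinearMap.range f) f
    (LinearMap.range f).mkQ hf (Submodule.mkQ_surjective _)
    (by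
      intro y
      rw [Submodule.mkQ_apply, Submodule.Quotient.mk_eq_zero]
      rfl)
  haveI := hT1 ((∀ m, N m) ⧸ LinearMap.range f)
  refine ⟨fun x y => ?_⟩
  suffices ∀ x : CotT.T2 (CotT.canon k B) M, x = 0 by rw [this x, this y]
  intro x
  obtain ⟨z, rfl⟩ := (h4 x).mp (Subsingleton.elim _ _)
  rw [Subsingleton.elim z 0, map_zero]

/-- Let k be an algebraically closed field and B a finitely generated k-algebra, X = Spec B. Then X is
nonsingular (localizing B at any prime ideal gives a regular local ring) exactly when T^1(B/k, M)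
vanishes for every B-module M; and when X is nonsingular, T^2(B/k, M) vanishes too, for every
B-module M. Here T^1, T^2 are computed from the choice-free presentation of B over k. -/
theorem result
    (k B : Type u) [Field k] [IsAlgClosed k] [CommRing B] [Algebra k B] [Algebra.FiniteType k B] :
    ((∀ (p : Ideal B) [p.IsPrime], IsRegularLocalRing (Localization.AtPrime p)) ↔
      ∀ (M : Type u) [AddCommGroup M] [Module B M], Subsingleton (CotT.T1 (CotT.canon k B) M)) ∧
    ((∀ (p : Ideal B) [p.IsPrime], IsRegularLocalRing (Localization.AtPrime p)) →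
      ∀ (M : Type u) [AddCommGroup M] [Module B M], Subsingleton (CotT.T2 (CotT.canon k B) M)) := by
  have h1 : (∀ (p : Ideal B) [p.IsPrime], IsRegularLocalRing (Localization.AtPrime p)) ↔
      ∀ (M : Type u) [AddCommGroup M] [Module B M], Subsingleton (CotT.T1 (CotT.canon k B) M) := by
    rw [Groth.Agent.Lib.Helper62.CotTSmooth.subsingleton_T1_iff_formallySmooth k B]
    exact regular_iff_formallySmooth k B
  exact ⟨h1, fun hreg M _ _ => subsingleton_T2_of_regular' k B hreg (h1.mp hreg) M⟩

end Groth.Agent.S12290
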