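import Groth.Statements.S10909
import Groth.Agent.S12290
import Groth.Agent.S11311
import Groth.Agent.S0558
import Groth.Agent.Lib.Helper73.DimField
import Mathlib.RingTheory.Spectrum.Prime.FreeLocus
import Mathlib.RingTheory.LocalProperties.Reduced

set_option autoImplicit false
set_option linter.style.haveILetI false
set_option linter.unusedSectionVars false
universe u
open TensorProduct
open SmVar

namespace Groth.Agent.S10909

section dim

variable {R : Type u} [CommRing R]

/-- order iso between the prime spectra of `R/I` and `R` for `I ≤ nilradical R`. -/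
noncomputable def specQuotOrderIso (I : Ideal R) (hI : I ≤ nilradical R) :
    PrimeSpectrum (R ⧸ I) ≃o PrimeSpectrum R where
  toEquiv := Equiv.ofBijective _ (PrimeSpectrum.comap_quotientMk_bijective_of_le_nilradical hI)
  map_rel_iff' := by
    intro p q
    exact Ideal.comap_le_comap_iff_of_surjective _ Ideal.Quotient.mk_surjective _ _

lemma height_comap_quotientMk (I : Ideal R) (hI : I ≤ nilradical R) (q : Ideal (R ⧸ I))
    [hq : q.IsPrime] : (q.comap (Ideal.Quotient.mk I)).height = q.height := by
  have h1 := PrimeSpectrum.height_eq_orderHeight (⟨q, hq⟩ : PrimeSpectrum (R ⧸ I))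
  have h2 := PrimeSpectrum.height_eq_orderHeight (specQuotOrderIso I hI ⟨q, hq⟩)
  have h3 := Order.height_orderIso (specQuotOrderIso I hI) ⟨q, hq⟩
  rw [h3, ← h1] at h2
  exact h2

lemma ringKrullDim_quotient_of_le_nilradical (I : Ideal R) (hI : I ≤ nilradical R) :
    ringKrullDim (R ⧸ I) = ringKrullDim R :=
  Order.krullDim_eq_of_orderIso (specQuotOrderIso I hI)

end dim

section ft

variable (k A : Type u) [Field k] [CommRing A] [Algebra k A] [Algebra.FiniteType k A]

include k in
lemma ringKrullDim_localization_of_isMaximal (hirr : (nilradical A).IsPrime) (m : Ideal A)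
    [m.IsMaximal] : ringKrullDim (Localization.AtPrime m) = ringKrullDim A := by
  haveI := hirr
  obtain ⟨d, -, hdim, hmax, -⟩ :=
    Groth.Agent.Lib.Helper73.DimFormula.exists_trdeg_eq_ringKrullDim k (A ⧸ nilradical A)
  have hle : nilradical A ≤ m := nilradical_le_prime m
  haveI hm' : (m.map (Ideal.Quotient.mk (nilradical A))).IsMaximal :=
    Ideal.IsMaximal.map_of_surjective_of_ker_le Ideal.Quotient.mk_surjective
      (by rw [Ideal.mk_ker]; exact hle)
  have h1 := height_comap_quotientMk (nilradical A) le_rfl (m.map (Ideal.Quotient.mk (nilradical A)))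
  rw [Ideal.comap_map_mk hle, hmax _] at h1
  rw [IsLocalization.AtPrime.ringKrullDim_eq_height m, h1,
    ← ringKrullDim_quotient_of_le_nilradical (nilradical A) le_rfl, hdim]
  rfl

lemma bijective_algebraMap_residueField [IsAlgClosed k] (m : Ideal A) [m.IsMaximal] :
    Function.Bijective (algebraMap k (IsLocalRing.ResidueField (Localization.AtPrime m))) := by
  haveI : Algebra.FiniteType k m.ResidueField :=
    Algebra.FiniteType.of_surjective (IsScalarTower.toAlgHom k A m.ResidueField)
      m.algebraMap_residueField_surjective
  haveI : Module.Finite k m.ResidueField := finite_of_finite_type_of_isJacobsonRing k _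
  exact IsAlgClosed.algebraMap_bijective_of_isIntegral (K := m.ResidueField)

lemma finrank_kaehler_localization (p : Ideal A) [hp : p.IsPrime] :
    Module.finrank (Localization.AtPrime p) (Ω[Localization.AtPrime p⁄k]) =
      Module.rankAtStalk (Ω[A⁄k]) ⟨p, hp⟩ := by
  rw [Module.rankAtStalk_eq_finrank_tensorProduct]
  exact (KaehlerDifferential.tensorKaehlerEquivOfFormallyEtale k A
    (Localization.AtPrime p)).finrank_eq.symm

end ft

/-- Let k be an algebraically closed field and A a k-algebra of finite type with irreducible spectrum
(the nilradical of A is prime) and Krull dimension n; X = Spec A is then an irreducible separated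
k-scheme of finite type of dimension n. Then X is a nonsingular variety — A is reduced and every
localization of A at a prime is a regular local ring — if and only if the module of Kähler
differentials Ω_{A/k} is locally free of rank n: projective, with fibre κ(P) ⊗_A Ω_{A/k} of
dimension n at every prime P. -/
theorem result (k : Type u) [Field k]
    [IsAlgClosed k] (A : Type u) [CommRing A] [Algebra k A] [Algebra.FiniteType k A]
    (hirr : (nilradical A).IsPrime) (n : ℕ) (hn : ringKrullDim A = n) :
    (IsReduced A ∧ IsRegularRing A) ↔
      (Module.Projective A (Ω[A⁄k]) ∧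
        ∀ (P : Ideal A) [P.IsPrime],
          Module.finrank P.ResidueField (P.ResidueField ⊗[A] Ω[A⁄k]) = n) := by
  haveI := hirr
  haveI : IsNoetherianRing A := Algebra.FiniteType.isNoetherianRing k A
  haveI : Algebra.FinitePresentation k A := Algebra.FinitePresentation.of_finiteType.mp inferInstance
  have hlocal : ∀ (m : Ideal A) [m.IsMaximal],
      ((Module.Free (Localization.AtPrime m) (Ω[Localization.AtPrime m⁄k]) ∧
          Module.finrank (Localization.AtPrime m) (Ω[Localization.AtPrime m⁄k]) = n) →
        IsRegularLocalRing (Localization.AtPrime m)) ∧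
      (PerfectField k → IsRegularLocalRing (Localization.AtPrime m) →
        Module.Free (Localization.AtPrime m) (Ω[Localization.AtPrime m⁄k]) ∧
          Module.finrank (Localization.AtPrime m) (Ω[Localization.AtPrime m⁄k]) = n) := by
    intro m _
    haveI : Algebra.EssFiniteType k (Localization.AtPrime m) :=
      Algebra.EssFiniteType.comp k A (Localization.AtPrime m)
    exact Groth.Agent.S11311.result k (Localization.AtPrime m)
      (bijective_algebraMap_residueField k A m) n
      (by rw [ringKrullDim_localization_of_isMaximal k A hirr m, hn])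
  have hrank : Module.Projective A (Ω[A⁄k]) → ∀ (P Q : Ideal A) [hP : P.IsPrime] [hQ : Q.IsPrime],
      Module.rankAtStalk (Ω[A⁄k]) ⟨P, hP⟩ = Module.rankAtStalk (Ω[A⁄k]) ⟨Q, hQ⟩ := by
    intro hproj P Q hP hQ
    rw [← Module.rankAtStalk_eq_of_le_of_finite_of_flat' (Ω[A⁄k]) (nilradical_le_prime P),
      ← Module.rankAtStalk_eq_of_le_of_finite_of_flat' (Ω[A⁄k]) (nilradical_le_prime Q)]
  constructor
  · rintro ⟨-, hreg⟩
    haveI : Algebra.FormallySmooth k A :=
      (Groth.Agent.S12290.regular_iff_formallySmooth k A).mp fun p _ => inferInstance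
    refine ⟨inferInstance, fun P hP => ?_⟩
    obtain ⟨m, hm, -⟩ := Ideal.exists_le_maximal P hP.ne_top
    have h1 := ((hlocal m).2 inferInstance inferInstance).2
    rw [finrank_kaehler_localization k A m] at h1
    rw [← h1]
    exact (Ideal.finrank_fiber_eq_rankAtStalk (M := Ω[A⁄k]) P).trans
      (hrank inferInstance P m)
  · rintro ⟨hproj, hfib⟩
    have hregm : ∀ (m : Ideal A) [m.IsMaximal], IsRegularLocalRing (Localization.AtPrime m) := by
      intro m _
      apply (hlocal m).1
      haveI : Module.Projective (Localization.AtPrime m) (Ω[Localization.AtPrime m⁄k]) :=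
        Module.Projective.of_equiv (KaehlerDifferential.tensorKaehlerEquivOfFormallyEtale k A
          (Localization.AtPrime m))
      haveI : Algebra.EssFiniteType k (Localization.AtPrime m) :=
        Algebra.EssFiniteType.comp k A (Localization.AtPrime m)
      refine ⟨Module.free_of_flat_of_isLocalRing, ?_⟩
      rw [finrank_kaehler_localization k A m, ← hfib m]
      exact (Ideal.finrank_fiber_eq_rankAtStalk (M := Ω[A⁄k]) m).symm
    have hsm : Algebra.FormallySmooth k A := by
      rw [← Algebra.smoothLocus_eq_univ_iff, Set.eq_univ_iff_forall]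
      intro p
      obtain ⟨m, hm, hpm⟩ := Ideal.exists_le_maximal p.asIdeal p.2.ne_top
      have h1 : (⟨m, hm.isPrime⟩ : PrimeSpectrum A) ∈ Algebra.smoothLocus k A :=
        (Groth.Agent.Lib.Helper62.SmoothReg.isSmoothAt_iff_isRegularLocalRing_of_perfectField
          k A m).mpr (hregm m)
      have h2 : p ⤳ ⟨m, hm.isPrime⟩ := (PrimeSpectrum.le_iff_specializes _ _).mp hpm
      exact h2.mem_open Algebra.isOpen_smoothLocus h1
    refine ⟨?_, ?_⟩
    · apply isReduced_ofLocalizationMaximal
      intro m hm
      haveI := hregm m
      haveI : IsDomain (Localization.AtPrime m) := Groth.Agent.S0558.result _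
      infer_instance
    · rw [isRegularRing_iff]
      exact (Groth.Agent.S12290.regular_iff_formallySmooth k A).mpr hsm

end Groth.Agent.S10909
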