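import Groth.Statements.S10911
import Mathlib
import Groth.Agent.Lib.Helper45.OrdOpen

set_option autoImplicit false
universe u
open CategoryTheory CategoryTheory.Limits AlgebraicGeometry TopologicalSpace
open WDiv

namespace Groth.Agent.S10911
open CategoryTheory AlgebraicGeometry TopologicalSpace
open Groth.Agent.Lib.Helper45.OrdOpen
set_option linter.style.haveILetI false

theorem main11 (X : Scheme.{u}) [IsIntegral X]
    [IsNoetherian X] [X.IsSeparated]
    (hR1 : ∀ x : ↥X, Order.coheight x = 1 → IsDiscreteValuationRing ↑(X.presheaf.stalk x))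
    (z : ↥X) (hz : Order.coheight z = 1) (U : X.Opens) (hU : (U : Set ↥X) = (closure {z})ᶜ)
    [Nonempty U]
    (D : ↥X → ℤ) (hD : ∀ x, Order.coheight x ≠ 1 → D x = 0) (hfin : {x | D x ≠ 0}.Finite)
    (g : ↑(U : Scheme.{u}).functionField) (hg : g ≠ 0)
    (h : ∀ u : ↥(U : Scheme.{u}), Order.coheight u = 1 → Scheme.ord g u = D u.1) :
    ∃ (m : ℤ) (f : ↑X.functionField), f ≠ 0 ∧ Scheme.ord f z = D z - m ∧
      ∀ x : ↥X, x ≠ z → Order.coheight x = 1 → Scheme.ord f x = D x := by
  have hco : ∀ u : ↥(U : Scheme.{u}), Order.coheight (U.ι u) = Order.coheight u :=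
    fun u => coheight_eq_of_isOpenImmersion U.ι
  obtain ⟨f, rfl⟩ := exists_preimage U.ι g
  refine ⟨D z - Scheme.ord f z, f, ?_, by ring, ?_⟩
  · rintro rfl
    exact hg (map_zero _)
  · intro x hxz hx
    have hxU : x ∈ U := by
      change x ∈ (U : Set X)
      rw [hU, Set.mem_compl_iff, ← specializes_iff_mem_closure]
      intro hspec
      have hlt : x < z := ⟨hspec, fun h' => hxz (h'.antisymm hspec).eq⟩
      have h1 := Order.coheight_strictAnti hlt (by rw [hz]; exact ENat.one_lt_top)
      rw [hz, hx] at h1
      exact lt_irrefl _ h1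
    let u : ↥(U : Scheme.{u}) := ⟨x, hxU⟩
    have hu : Order.coheight u = 1 := by rw [← hco u]; exact hx
    haveI : IsDiscreteValuationRing (X.presheaf.stalk (U.ι u)) := hR1 _ ((hco u).trans hu)
    have := h u hu
    rw [ord_fieldMap U.ι u hu f] at this
    exact this

end Groth.Agent.S10911

namespace Groth.Agent.S10911

/-- Let X be an integral Noetherian separated scheme which is regular in codimension 1 (local rings at
points of coheight 1 are discrete valuation rings), z a point of coheight 1 (generic point of a
prime divisor Z), and U the open subscheme complementary to the closure of z. Let D be a Weil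
divisor on X, an integer-valued function on its points with finite support inside the points of
coheight 1. If the restriction of D to U is the divisor of a nonzero rational function on U, then D
differs from an integer multiple of Z by a principal divisor on X: there are an integer m and a
nonzero rational function f on X with ord_z(f) = D(z) − m and ord_x(f) = D(x) for every other point
x of coheight 1. In other words, the sequence ℤ → Cl X → Cl(X − Z), whose first map sends m to the
class of m·Z and whose second map is restriction, is exact at Cl X. -/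
theorem result (X : Scheme.{u}) [IsIntegral X]
    [IsNoetherian X] [X.IsSeparated]
    (hR1 : ∀ x : ↥X, Order.coheight x = 1 → IsDiscreteValuationRing ↑(X.presheaf.stalk x))
    (z : ↥X) (hz : Order.coheight z = 1) (U : X.Opens) (hU : (U : Set ↥X) = (closure {z})ᶜ)
    [Nonempty U]
    (D : ↥X → ℤ) (hD : ∀ x, Order.coheight x ≠ 1 → D x = 0) (hfin : {x | D x ≠ 0}.Finite)
    (g : ↑(U : Scheme.{u}).functionField) (hg : g ≠ 0)
    (h : ∀ u : ↥(U : Scheme.{u}), Order.coheight u = 1 → Scheme.ord g u = D u.1) :
    ∃ (m : ℤ) (f : ↑X.functionField), f ≠ 0 ∧ Scheme.ord f z = D z - m ∧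
      ∀ x : ↥X, x ≠ z → Order.coheight x = 1 → Scheme.ord f x = D x := by

  exact Groth.Agent.S10911.main11 X hR1 z hz U hU D hD hfin g hg h

end Groth.Agent.S10911
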