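import Groth.Statements.S10912
import Mathlib
import Groth.Agent.Lib.Helper45.OrdOpen

set_option autoImplicit false
universe u
open CategoryTheory CategoryTheory.Limits AlgebraicGeometry TopologicalSpace
open WDiv

namespace Groth.Agent.S10912
open CategoryTheory AlgebraicGeometry TopologicalSpace
open Groth.Agent.Lib.Helper45.OrdOpen
set_option linter.style.haveILetI false

theorem main12 (X : Scheme.{u}) [IsIntegral X]
    [IsNoetherian X] [X.IsSeparated]
    (hR1 : ∀ x : ↥X, Order.coheight x = 1 → IsDiscreteValuationRing ↑(X.presheaf.stalk x))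
    (U : X.Opens) [Nonempty U] (hcod : ∀ x : ↥X, x ∉ U → 2 ≤ Order.coheight x)
    (D : ↥X → ℤ) (hD : ∀ x, Order.coheight x ≠ 1 → D x = 0) (hfin : {x | D x ≠ 0}.Finite) :
    (∃ f : ↑X.functionField, f ≠ 0 ∧ ∀ x : ↥X, Order.coheight x = 1 → Scheme.ord f x = D x) ↔
      ∃ g : ↑(U : Scheme.{u}).functionField, g ≠ 0 ∧
        ∀ u : ↥(U : Scheme.{u}), Order.coheight u = 1 → Scheme.ord g u = D u.1 := by
  have hco : ∀ u : ↥(U : Scheme.{u}), Order.coheight (U.ι u) = Order.coheight u :=
    fun u => coheight_eq_of_isOpenImmersion U.ι
  constructor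
  · rintro ⟨f, hf0, hf⟩
    refine ⟨fieldMap U.ι f, fieldMap_ne_zero U.ι hf0, ?_⟩
    intro u hu
    haveI : IsDiscreteValuationRing (X.presheaf.stalk (U.ι u)) := hR1 _ ((hco u).trans hu)
    rw [ord_fieldMap U.ι u hu f, hf _ ((hco u).trans hu)]
    rfl
  · rintro ⟨g, hg0, hg⟩
    obtain ⟨f, rfl⟩ := exists_preimage U.ι g
    refine ⟨f, ?_, ?_⟩
    · rintro rfl
      exact hg0 (map_zero _)
    · intro x hx
      have hxU : x ∈ U := by
        by_contra h
        have := hcod x h
        rw [hx] at this
        exact absurd this (by decide)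
      let u : ↥(U : Scheme.{u}) := ⟨x, hxU⟩
      have hu : Order.coheight u = 1 := by rw [← hco u]; exact hx
      haveI : IsDiscreteValuationRing (X.presheaf.stalk (U.ι u)) := hR1 _ ((hco u).trans hu)
      have := hg u hu
      rw [ord_fieldMap U.ι u hu f] at this
      exact this


end Groth.Agent.S10912

namespace Groth.Agent.S10912

/-- Let X be an integral Noetherian separated scheme which is regular in codimension 1, and U a nonempty
open subscheme whose complement has codimension at least 2: every point not in U has coheight ≥ 2 in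
the specialization order. Then restriction identifies the divisor class groups of X and U;
concretely, since all points of coheight 1 lie in U, a Weil divisor D on X (integer-valued function
with finite support inside the coheight-1 points) is the divisor of a nonzero rational function on X
if and only if its restriction to U is the divisor of a nonzero rational function on U. -/
theorem result (X : Scheme.{u}) [IsIntegral X]
    [IsNoetherian X] [X.IsSeparated]
    (hR1 : ∀ x : ↥X, Order.coheight x = 1 → IsDiscreteValuationRing ↑(X.presheaf.stalk x))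
    (U : X.Opens) [Nonempty U] (hcod : ∀ x : ↥X, x ∉ U → 2 ≤ Order.coheight x)
    (D : ↥X → ℤ) (hD : ∀ x, Order.coheight x ≠ 1 → D x = 0) (hfin : {x | D x ≠ 0}.Finite) :
    (∃ f : ↑X.functionField, f ≠ 0 ∧ ∀ x : ↥X, Order.coheight x = 1 → Scheme.ord f x = D x) ↔
      ∃ g : ↑(U : Scheme.{u}).functionField, g ≠ 0 ∧
        ∀ u : ↥(U : Scheme.{u}), Order.coheight u = 1 → Scheme.ord g u = D u.1 := by

  exact Groth.Agent.S10912.main12 X hR1 U hcod D hD hfin

end Groth.Agent.S10912
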