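import Groth.Statements.S10930
import Groth.Agent.Lib.Helper73.GenSm0
-- import your own Groth.Agent.* helpers here

set_option autoImplicit false
universe u
open CategoryTheory CategoryTheory.Limits AlgebraicGeometry
open Variety

namespace Groth.Agent.S10930

/-- Let k be an algebraically closed field of characteristic zero, X and Y varieties over k (integral,
separated and of finite type over k) with X nonsingular, i.e. smooth over k, and f : X → Y a
k-morphism. Then there is a nonempty open subscheme V of Y such that the restriction f⁻¹(V) → V of f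
is smooth. -/
theorem result (k : Type u) [Field k] [IsAlgClosed k] [CharZero k]
    {X Y : Scheme.{u}} (qX : X ⟶ Spec (CommRingCat.of k)) (qY : Y ⟶ Spec (CommRingCat.of k))
    [LocallyOfFiniteType qX] [QuasiCompact qX] [IsSeparated qX] [Smooth qX]
    [LocallyOfFiniteType qY] [QuasiCompact qY] [IsSeparated qY]
    [IsIntegral X] [IsIntegral Y] (f : X ⟶ Y) (hf : f ≫ qY = qX) :
    ∃ V : Y.Opens, (V : Set ↥Y).Nonempty ∧ Smooth (f ∣_ V) := by
  have : LocallyOfFiniteType (f ≫ qY) := hf ▸ inferInstance
  have : LocallyOfFiniteType f := locallyOfFiniteType_of_comp f qY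
  have : QuasiCompact (f ≫ qY) := hf ▸ inferInstance
  have : QuasiCompact f := QuasiCompact.of_comp f qY
  have : IsLocallyNoetherian Y := LocallyOfFiniteType.isLocallyNoetherian qY
  have : IsLocallyNoetherian X := LocallyOfFiniteType.isLocallyNoetherian qX
  have : LocallyOfFinitePresentation f :=
    LocallyOfFinitePresentation.iff_locallyOfFiniteType.mpr inferInstance
  have : CompactSpace X := QuasiCompact.compactSpace_of_compactSpace qX
  have : CompactSpace Y := QuasiCompact.compactSpace_of_compactSpace qY
  have : IsNoetherian X := {}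
  have : IsNoetherian Y := {}
  have : QuasiSeparatedSpace X := inferInstance
  have : QuasiSeparatedSpace Y := inferInstance
  -- points over the generic point are smooth points
  have hB : ∀ x : X, f x = genericPoint Y → x ∈ f.smoothLocus := by
    intro x hx
    have : CharZero (Y.presheaf.stalk (f x)) :=
      Groth.Agent.Lib.Helper73.GenSm.charZero_stalk k qY (f x)
    let : X.Over (Spec (CommRingCat.of k)) := ⟨qX⟩
    have : Smooth (X ↘ (Spec (CommRingCat.of k))) := ‹Smooth qX›
    exact Groth.Agent.Lib.Helper73.GenSm.mem_smoothLocus_of_generic_charZero f x hx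
      (Groth.Agent.S1535.result k X x)
  -- the image of the non-smooth locus is constructible and misses the generic point
  have hZ : Topology.IsConstructible ((f.smoothLocus : Set X)ᶜ) :=
    ((TopologicalSpace.NoetherianSpace.isCompact _).isConstructible f.smoothLocus.2).compl
  have hT : Topology.IsConstructible (f '' ((f.smoothLocus : Set X)ᶜ)) := f.isConstructible_image hZ
  have hη : genericPoint Y ∉ f '' ((f.smoothLocus : Set X)ᶜ) := by
    rintro ⟨z, hz, hfz⟩
    exact hz (hB z hfz)
  obtain ⟨U, hU, hηU, h | h⟩ :=
    Groth.Agent.Lib.Helper21.FieldDim.exists_open_inter_closure_subset_or hT (genericPoint Y)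
  · exact absurd (h ⟨subset_closure rfl, hηU⟩) hη
  · refine ⟨⟨U, hU⟩, ⟨genericPoint Y, hηU⟩, ?_⟩
    rw [← Scheme.Hom.smoothLocus_eq_top_iff, ← top_le_iff]
    rintro z -
    rw [Scheme.Hom.mem_smoothLocus]
    rw [RingHom.FormallySmooth.respectsIso.arrow_mk_iso_iff
      (morphismRestrictStalkMap f ⟨U, hU⟩ z)]
    have hz : f z.1 ∈ U := z.2
    have hcl : f z.1 ∈ closure ({genericPoint Y} : Set Y) := by
      rw [(genericPoint_spec Y).def]
      trivial
    have h1 : f z.1 ∉ f '' ((f.smoothLocus : Set X)ᶜ) := h ⟨hcl, hz⟩
    by_contra hns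
    exact h1 ⟨z.1, hns, rfl⟩

end Groth.Agent.S10930
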