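import Groth.Statements.S10927
import Groth.Agent.Lib.Helper73.ActTrans
import Groth.Agent.S10930
import Groth.Agent.S2535
-- import your own Groth.Agent.* helpers here

set_option autoImplicit false
universe u
open CategoryTheory CategoryTheory.Limits MonoidalCategory CartesianMonoidalCategory MonObj GrpObj AlgebraicGeometry
open Variety

namespace Groth.Agent.S10927

/-- Let k be an algebraically closed field of characteristic zero, G a group variety over k (an
integral, separated k-group scheme of finite type) and X a homogeneous space for G: a k-variety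
(integral, separated, of finite type over k) with an action of G such that G(k) acts transitively on
X(k). Then for every k-point x of X the orbit map G → X, g ↦ g · x, is smooth. -/
theorem result (k : Type u) [Field k] [IsAlgClosed k] [CharZero k]
    (G X : Over (Spec (CommRingCat.of k))) [GrpObj G] (a : AlgGrp.Action G X)
    [IsIntegral G.left] [IsSeparated G.hom] [LocallyOfFiniteType G.hom] [QuasiCompact G.hom]
    [IsIntegral X.left] [IsSeparated X.hom] [LocallyOfFiniteType X.hom] [QuasiCompact X.hom]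
    (htrans : ∀ x x' : 𝟙_ (Over (Spec (CommRingCat.of k))) ⟶ X,
      ∃ σ : 𝟙_ (Over (Spec (CommRingCat.of k))) ⟶ G, CartesianMonoidalCategory.lift σ x ≫ a.act = x')
    (x : 𝟙_ (Over (Spec (CommRingCat.of k))) ⟶ X) :
    Smooth (a.orbitMap x).left := by
  -- `G` is smooth
  have : PerfectField k := PerfectField.ofCharZero
  have : GeometricallyReduced G.hom := Groth.Agent.S2535.geometricallyReduced_of_perfectField G.hom
  have : GrpObj (Over.mk G.hom) := ‹GrpObj G›
  have hGsm : Smooth G.hom := AlgebraicGeometry.smooth_of_grpObj G.hom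
  have hw : (a.orbitMap x).left ≫ X.hom = G.hom := Over.w (a.orbitMap x)
  obtain ⟨V, ⟨v0, hv0⟩, hVsm⟩ := Groth.Agent.S10930.result k G.hom X.hom (a.orbitMap x).left hw
  have : LocallyOfFiniteType ((a.orbitMap x).left ≫ X.hom) := hw ▸ inferInstance
  have : LocallyOfFiniteType (a.orbitMap x).left := locallyOfFiniteType_of_comp _ X.hom
  have : IsLocallyNoetherian X.left := LocallyOfFiniteType.isLocallyNoetherian X.hom
  have : LocallyOfFinitePresentation (a.orbitMap x).left :=
    LocallyOfFinitePresentation.iff_locallyOfFiniteType.mpr inferInstance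
  rw [← Scheme.Hom.smoothLocus_eq_top_iff, ← top_le_iff]
  by_contra hne
  have : JacobsonSpace G.left := LocallyOfFiniteType.jacobsonSpace G.hom
  have : JacobsonSpace X.left := LocallyOfFiniteType.jacobsonSpace X.hom
  have hne' : (((a.orbitMap x).left.smoothLocus : Set G.left)ᶜ).Nonempty := by
    rw [Set.nonempty_compl]
    intro h
    exact hne (fun z _ => (Set.eq_univ_iff_forall.mp h) z)
  obtain ⟨g0, hg0, hg0c⟩ := nonempty_inter_closedPoints hne'
    (a.orbitMap x).left.smoothLocus.2.isClosed_compl.isLocallyClosed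
  obtain ⟨v, hv, hvc⟩ := nonempty_inter_closedPoints ⟨v0, hv0⟩ V.2.isLocallyClosed
  let x' : 𝟙_ (Over (Spec (CommRingCat.of k))) ⟶ X :=
    Over.homMk (pointOfClosedPoint X.hom v hvc) (pointOfClosedPoint_comp _ _ _)
  obtain ⟨σ, hσ⟩ := htrans x x'
  let τ : 𝟙_ (Over (Spec (CommRingCat.of k))) ⟶ G :=
    Over.homMk (pointOfClosedPoint G.hom g0 hg0c) (pointOfClosedPoint_comp _ _ _)
  have hunit : toUnit (𝟙_ (Over (Spec (CommRingCat.of k)))) = 𝟙 _ := toUnit_unique _ _
  have hσ' : σ ≫ a.orbitMap x = x' := by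
    rw [AlgGrp.Action.comp_orbitMap, hunit, Category.id_comp, hσ]
  have hg1V : (a.orbitMap x).left (σ.left (IsLocalRing.closedPoint k)) ∈ V := by
    have h1 := congrArg (fun m => m.left (IsLocalRing.closedPoint k)) hσ'
    have h2 : x'.left (IsLocalRing.closedPoint k) = v := pointOfClosedPoint_apply _ _ _ _
    have h3 : (σ ≫ a.orbitMap x).left (IsLocalRing.closedPoint k) =
        (a.orbitMap x).left (σ.left (IsLocalRing.closedPoint k)) := rfl
    rw [← h3]
    exact (h1.trans h2) ▸ hv
  have hg1 : ((a.orbitMap x).left.stalkMap (σ.left (IsLocalRing.closedPoint k))).hom.FormallySmooth := by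
    have htop := Scheme.Hom.smoothLocus_eq_top ((a.orbitMap x).left ∣_ V)
    have hz : (⟨σ.left (IsLocalRing.closedPoint k), hg1V⟩ : ↥((a.orbitMap x).left ⁻¹ᵁ V)) ∈
        ((a.orbitMap x).left ∣_ V).smoothLocus := by
      rw [htop]
      trivial
    exact (RingHom.FormallySmooth.respectsIso.arrow_mk_iso_iff
      (morphismRestrictStalkMap (a.orbitMap x).left V
        ⟨σ.left (IsLocalRing.closedPoint k), hg1V⟩)).mp hz
  have hL : σ ≫ (Groth.Agent.Lib.Helper73.ActTrans.mulLeft (τ * σ⁻¹)).hom = τ := by
    rw [Groth.Agent.Lib.Helper73.ActTrans.comp_mulLeft_hom, hunit, Category.id_comp,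
      inv_mul_cancel_right]
  have hpt : (Groth.Agent.Lib.Helper73.ActTrans.mulLeft (τ * σ⁻¹)).hom.left
      (σ.left (IsLocalRing.closedPoint k)) = g0 := by
    have h1 := congrArg (fun m => m.left (IsLocalRing.closedPoint k)) hL
    have h2 : τ.left (IsLocalRing.closedPoint k) = g0 := pointOfClosedPoint_apply _ _ _ _
    exact h1.trans h2
  have heq : (Groth.Agent.Lib.Helper73.ActTrans.mulLeft (τ * σ⁻¹)).hom.left ≫ (a.orbitMap x).left =
      (a.orbitMap x).left ≫ (Groth.Agent.Lib.Helper73.ActTrans.actIso a (τ * σ⁻¹)).hom.left := by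
    have h1 := congrArg (fun m => m.left)
      (Groth.Agent.Lib.Helper73.ActTrans.mulLeft_orbitMap a (τ * σ⁻¹) x)
    exact h1
  have : IsIso (Groth.Agent.Lib.Helper73.ActTrans.mulLeft (τ * σ⁻¹)).hom.left :=
    inferInstanceAs (IsIso ((Over.forget _).map
      (Groth.Agent.Lib.Helper73.ActTrans.mulLeft (τ * σ⁻¹)).hom))
  have : IsIso (Groth.Agent.Lib.Helper73.ActTrans.actIso a (τ * σ⁻¹)).hom.left :=
    inferInstanceAs (IsIso ((Over.forget _).map
      (Groth.Agent.Lib.Helper73.ActTrans.actIso a (τ * σ⁻¹)).hom))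
  have hfin := Groth.Agent.Lib.Helper73.ActTrans.formallySmooth_stalkMap_of_equivariant
    (a.orbitMap x).left (Groth.Agent.Lib.Helper73.ActTrans.mulLeft (τ * σ⁻¹)).hom.left
    (Groth.Agent.Lib.Helper73.ActTrans.actIso a (τ * σ⁻¹)).hom.left heq _ hg1
  rw [hpt] at hfin
  exact hg0 hfin

end Groth.Agent.S10927
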