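import Groth.Statements.S10929
import Mathlib

set_option autoImplicit false
universe u
open CategoryTheory CategoryTheory.Limits AlgebraicGeometry
open Variety

namespace Groth.Agent.S10929

/-- Let k be an algebraically closed field of characteristic zero, X and Y integral schemes of finite
type over k and f : X → Y a dominant k-morphism. Then there is a nonempty open subscheme U of X such
that f restricted to U is a smooth morphism U → Y. -/
theorem result (k : Type u) [Field k] [IsAlgClosed k] [CharZero k]
    {X Y : Scheme.{u}} (qX : X ⟶ Spec (CommRingCat.of k)) (qY : Y ⟶ Spec (CommRingCat.of k))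
    [LocallyOfFiniteType qX] [QuasiCompact qX] [LocallyOfFiniteType qY] [QuasiCompact qY]
    [IsIntegral X] [IsIntegral Y] (f : X ⟶ Y) (hf : f ≫ qY = qX) (hdom : DenseRange f.base) :
    ∃ U : X.Opens, (U : Set ↥X).Nonempty ∧ Smooth (U.ι ≫ f) := by
  haveI : IsLocallyNoetherian Y := LocallyOfFiniteType.isLocallyNoetherian qY
  haveI : LocallyOfFiniteType f := by
    haveI : LocallyOfFiniteType (f ≫ qY) := by rw [hf]; infer_instance
    exact locallyOfFiniteType_of_comp f qY
  haveI : LocallyOfFinitePresentation f :=
    LocallyOfFinitePresentation.iff_locallyOfFiniteType.mpr inferInstance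
  -- the generic point maps to the generic point
  have hsp : ∀ x : X, f.base x ∈ closure ({f.base (genericPoint X)} : Set Y) := fun x =>
    specializes_iff_mem_closure.mp ((genericPoint_specializes x).map f.continuous)
  have hgen : f.base (genericPoint X) = genericPoint Y := by
    have h1 : closure ({f.base (genericPoint X)} : Set Y) = Set.univ := by
      apply Set.eq_univ_of_univ_subset
      rw [← hdom.closure_eq]
      refine closure_minimal ?_ isClosed_closure
      rintro _ ⟨x, rfl⟩
      exact hsp x
    have h2 : IsGenericPoint (f.base (genericPoint X)) (Set.univ : Set Y) := h1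
    exact h2.eq (genericPoint_spec Y)
  -- the local ring at `f η` is a field of characteristic zero
  have hfield : IsField (Y.presheaf.stalk (f.base (genericPoint X))) := by
    rw [hgen]
    exact Field.toIsField Y.functionField
  letI : Field (Y.presheaf.stalk (f.base (genericPoint X))) := hfield.toField
  let ψ : k →+* Y.presheaf.stalk (f.base (genericPoint X)) :=
    (Y.presheaf.germ ⊤ (f.base (genericPoint X)) trivial).hom.comp
      ((qY.appTop).hom.comp (Scheme.ΓSpecIso (CommRingCat.of k)).inv.hom)
  haveI : CharZero (Y.presheaf.stalk (f.base (genericPoint X))) :=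
    charZero_of_injective_ringHom ψ.injective
  have hmem : genericPoint X ∈ f.smoothLocus := by
    have := LocallyOfFiniteType.stalkMap f (genericPoint X)
    rw [Scheme.Hom.mem_smoothLocus]
    algebraize [(f.stalkMap (genericPoint X)).hom]
    letI : Field (X.presheaf.stalk (genericPoint X)) :=
      inferInstanceAs (Field X.functionField)
    exact Algebra.FormallySmooth.of_perfectField
  refine ⟨f.smoothLocus, ⟨_, hmem⟩, ?_⟩
  rw [← Scheme.Hom.smoothLocus_eq_top_iff, ← Scheme.Hom.preimage_smoothLocus_eq]
  ext x
  simp only [Scheme.Hom.mem_preimage, TopologicalSpace.Opens.coe_top, Set.mem_univ, iff_true]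
  exact x.2

end Groth.Agent.S10929
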