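import Groth.Statements.S10932
import Groth.Agent.S0563
import Groth.Agent.Lib.Helper33.ExtRing
-- import your own Groth.Agent.* helpers here

set_option autoImplicit false
universe u
open CategoryTheory
open CAlg

namespace Groth.Agent.S10932


theorem descend (A : Type u) [CommRing A] [IsRegularLocalRing A]
    (n : ℕ) (hn : ringKrullDim A = n) (M : Type u) [AddCommGroup M] [Module A M] [Module.Finite A M]
    (h : ∀ j : ℕ, 1 ≤ j → j ≤ n →
      Subsingleton (Abelian.Ext (ModuleCat.of A M) (ModuleCat.of A A) j)) :
    ∀ k : ℕ, k ≤ n → HasProjectiveDimensionLT (ModuleCat.of A M) (n + 1 - k) := by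
  intro k
  induction k with
  | zero =>
    intro _
    exact Groth.Agent.S0563.result A n hn M
  | succ k ih =>
    intro hk
    have h1 := ih (by omega)
    have e1 : n + 1 - k = (n - k) + 1 := by omega
    have e2 : n + 1 - (k + 1) = n - k := by omega
    rw [e1] at h1
    rw [e2]
    exact Groth.Agent.Lib.Helper33.hasProjectiveDimensionLT_of_ext_self (ModuleCat.of A M) (n - k)
      (h (n - k) (by omega) (by omega))

/-- Let A be a (Noetherian) regular local ring of Krull dimension n and M a finitely generated A-module
such that Ext^j_A(M, A) = 0 for every j with 1 ≤ j ≤ n. Then M is projective, hence a free A-module. -/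
theorem result (A : Type u) [CommRing A] [IsRegularLocalRing A]
    (n : ℕ) (hn : ringKrullDim A = n) (M : Type u) [AddCommGroup M] [Module A M] [Module.Finite A M]
    (h : ∀ j : ℕ, 1 ≤ j → j ≤ n →
      Subsingleton (Abelian.Ext (ModuleCat.of A M) (ModuleCat.of A A) j)) :
    Module.Free A M := by
  have h1 := descend A n hn M h n le_rfl
  have e : n + 1 - n = 1 := by omega
  rw [e, ← projective_iff_hasProjectiveDimensionLT_one, ← IsProjective.iff_projective] at h1
  exact Module.free_of_flat_of_isLocalRing

end Groth.Agent.S10932
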