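import Groth.Statements.S10933
import Groth.Agent.S0563
import Groth.Agent.S0561
import Groth.Agent.Lib.Helper33.ExtRing
-- import your own Groth.Agent.* helpers here

set_option autoImplicit false
universe u
open CategoryTheory
open CAlg

namespace Groth.Agent.S10933


theorem descend (A : Type u) [CommRing A] [IsNoetherianRing A]
    (M : Type u) [AddCommGroup M] [Module A M] [Module.Finite A M] (d : ℕ)
    (h : ∀ j : ℕ, d < j → Subsingleton (Abelian.Ext (ModuleCat.of A M) (ModuleCat.of A A) j)) :
    ∀ k : ℕ, HasProjectiveDimensionLT (ModuleCat.of A M) (d + 1 + k) →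
      HasProjectiveDimensionLT (ModuleCat.of A M) (d + 1) := by
  intro k
  induction k with
  | zero => exact fun h0 => h0
  | succ k ih =>
    intro h1
    apply ih
    have h1' : HasProjectiveDimensionLT (ModuleCat.of A M) ((d + 1 + k) + 1) := h1
    exact Groth.Agent.Lib.Helper33.hasProjectiveDimensionLT_of_ext_self (ModuleCat.of A M)
      (d + 1 + k) (h (d + 1 + k) (by omega))

/-- Let A be a (Noetherian) regular local ring, M a finitely generated A-module and d a natural number.
Then the projective dimension of M equals d if and only if Ext^j_A(M, A) = 0 for every j > d and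
Ext^d_A(M, A) ≠ 0. (Projective dimension valued in WithBot ℕ∞, the zero module having projective
dimension ⊥.) -/
theorem result (A : Type u) [CommRing A] [IsRegularLocalRing A]
    (M : Type u) [AddCommGroup M] [Module A M] [Module.Finite A M] (d : ℕ) :
    projectiveDimension (ModuleCat.of A M) = (d : WithBot ℕ∞) ↔
      ((∀ j : ℕ, d < j → Subsingleton (Abelian.Ext (ModuleCat.of A M) (ModuleCat.of A A) j)) ∧
        Nontrivial (Abelian.Ext (ModuleCat.of A M) (ModuleCat.of A A) d)) := by
  constructor
  · intro hpd
    have h1 : HasProjectiveDimensionLT (ModuleCat.of A M) (d + 1) :=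
      (projectiveDimension_le_iff _ d).mp (le_of_eq hpd)
    refine ⟨fun j hj => HasProjectiveDimensionLT.subsingleton (ModuleCat.of A M) (d + 1) j (by omega) _, ?_⟩
    by_contra hnt
    rw [not_nontrivial_iff_subsingleton] at hnt
    have h2 : HasProjectiveDimensionLT (ModuleCat.of A M) d :=
      Groth.Agent.Lib.Helper33.hasProjectiveDimensionLT_of_ext_self (ModuleCat.of A M) d hnt
    have h3 := projectiveDimension_lt_iff.mpr h2
    rw [hpd] at h3
    exact lt_irrefl _ h3
  · rintro ⟨h1, h2⟩
    have hn : ringKrullDim A = ((IsLocalRing.maximalIdeal A).spanFinrank : ℕ) := by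
      rw [← IsRegularLocalRing.spanFinrank_maximalIdeal]
    set n := (IsLocalRing.maximalIdeal A).spanFinrank
    have h3 : HasProjectiveDimensionLT (ModuleCat.of A M) (n + 1) :=
      Groth.Agent.S0563.result A n hn M
    have h4 : HasProjectiveDimensionLT (ModuleCat.of A M) (d + 1 + n) :=
      hasProjectiveDimensionLT_of_ge _ (n + 1) (d + 1 + n) (by omega)
    have h5 := descend A M d h1 n h4
    apply le_antisymm ((projectiveDimension_le_iff _ d).mpr h5)
    rw [← not_lt]
    intro hlt
    have h6 := projectiveDimension_lt_iff.mp hlt
    have := HasProjectiveDimensionLT.subsingleton (ModuleCat.of A M) d d le_rfl (ModuleCat.of A A)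
    exact not_subsingleton _ this

end Groth.Agent.S10933
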