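import Groth.Statements.S10937
import Groth.Agent.Lib.QCoh.Helper50_OmegaFT
import Groth.Agent.Lib.QCoh.Helper74_LocFreeDeg
import Groth.Agent.Lib.QCoh.Helper74_LocFreeBasis
import Groth.Agent.Lib.Helper73.CotSm

set_option autoImplicit false
universe u
open CategoryTheory CategoryTheory.Limits AlgebraicGeometry
open Variety


section S10937helpers
set_option linter.style.haveILetI false
open TopologicalSpace TensorProduct

namespace Groth.Agent.S10937
open Groth.Agent.Lib.QCoh


/-- **(a) ⇒ (b)**: for `f` smooth of relative dimension `n`, `Ω_{X/Y}` is locally free of rank `n`. -/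
theorem isFinLocFreeOfRank_omega_of_smooth {X Y : Scheme.{u}} (f : X ⟶ Y) [QuasiSeparated f]
    (n : ℕ) [SmoothOfRelativeDimension n f] : FlatMod.IsFinLocFreeOfRank n (Omega.sheaf f) := by
  apply isFinLocFreeOfRank_of_openImmersions
  intro x
  obtain ⟨V, hV, U, hU, hxU, e, hstd⟩ :=
    SmoothOfRelativeDimension.exists_isStandardSmoothOfRelativeDimension (n := n) (f := f) x
  letI : Algebra Γ(Y, V) Γ(X, U) := (f.appLE V U e).hom.toAlgebra
  have hstd' : Algebra.IsStandardSmoothOfRelativeDimension n Γ(Y, V) Γ(X, U) := hstd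
  haveI : Nontrivial Γ(X, U) := RingHom.domain_nontrivial (X.presheaf.germ U x hxU).hom
  have hrank := Algebra.IsStandardSmoothOfRelativeDimension.rank_kaehlerDifferential
    (R := Γ(Y, V)) (S := Γ(X, U)) n
  haveI : Algebra.IsStandardSmooth Γ(Y, V) Γ(X, U) :=
    Algebra.IsStandardSmoothOfRelativeDimension.isStandardSmooth n
  haveI hfin : Module.Finite Γ(X, U) (Ω[Γ(X, U)⁄Γ(Y, V)]) := inferInstance
  have hfr : Module.finrank Γ(X, U) (Ω[Γ(X, U)⁄Γ(Y, V)]) = n :=
    Module.finrank_eq_of_rank_eq hrank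
  let b := Module.finBasisOfFinrankEq Γ(X, U) (Ω[Γ(X, U)⁄Γ(Y, V)]) hfr
  let T : Ω[Γ(X, U)⁄Γ(Y, V)] ≃ₗ[Γ(X, U)] Γ(Omega.sheaf f, U) :=
    LinearEquiv.ofBijective (OmAff.toSect f V U e).hom (OmAffGen.bijective_toSect f hU hV e)
  let b1 := b.map T
  let b2 : Module.Basis (Fin n) (Localization.Away (1 : Γ(X, U)))
      (LocalizedModule (Submonoid.powers (1 : Γ(X, U))) Γ(Omega.sheaf f, U)) :=
    b1.ofIsLocalizedModule _ (Submonoid.powers (1 : Γ(X, U))) (LocalizedModule.mkLinearMap _ _)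
  refine ⟨_, Spec.map (CommRingCat.ofHom (algebraMap Γ(X, U) (Localization.Away (1 : Γ(X, U))))) ≫
    hU.fromSpec, inferInstance, ?_, ⟨trivAwayOfBasis (Omega.sheaf f) hU 1 b2⟩⟩
  have h1 : (1 : Γ(X, U)) ∉ (hU.primeIdealOf ⟨x, hxU⟩).asIdeal :=
    fun h => (hU.primeIdealOf ⟨x, hxU⟩).isPrime.ne_top ((Ideal.eq_top_iff_one _).2 h)
  have h2 : hU.primeIdealOf ⟨x, hxU⟩ ∈
      (Spec.map (CommRingCat.ofHom (algebraMap Γ(X, U)
        (Localization.Away (1 : Γ(X, U)))))).opensRange := by
    rw [Scheme.Hom.opensRange_localizationAway (1 : Γ(X, U))]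
    exact h1
  obtain ⟨w, hw⟩ := h2
  refine ⟨w, ?_⟩
  change hU.fromSpec (Spec.map (CommRingCat.ofHom
    (algebraMap Γ(X, U) (Localization.Away (1 : Γ(X, U))))) w) = x
  rw [hw, hU.fromSpec_primeIdealOf]



/-- **ring-level core** (`K → R → A`): if `A` is formally smooth over `K`, and the modules of
differentials `Ω[R⁄K]`, `Ω[A⁄K]`, `Ω[A⁄R]` are finite projective of constant ranks `a`, `a + n`,
`n`, then `A` is formally smooth over `R`. -/
theorem formallySmooth_of_rank (K R A : Type u) [CommRing K] [CommRing R] [CommRing A]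
    [Algebra K R] [Algebra K A] [Algebra R A] [IsScalarTower K R A]
    [Algebra.FormallySmooth K A]
    [Module.Finite R (Ω[R⁄K])] [Module.Projective R (Ω[R⁄K])]
    [Module.Finite A (Ω[A⁄K])]
    [Module.Finite A (Ω[A⁄R])] [Module.Projective A (Ω[A⁄R])]
    (a n : ℕ)
    (h1 : ∀ p : PrimeSpectrum R, Module.rankAtStalk (Ω[R⁄K]) p = a)
    (h2 : ∀ p : PrimeSpectrum A, Module.rankAtStalk (Ω[A⁄K]) p = a + n)
    (h3 : ∀ p : PrimeSpectrum A, Module.rankAtStalk (Ω[A⁄R]) p = n) :
    Algebra.FormallySmooth R A := by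
  let φ : A ⊗[R] Ω[R⁄K] →ₗ[A] Ω[A⁄K] := KaehlerDifferential.mapBaseChange K R A
  let ψ : Ω[A⁄K] →ₗ[A] Ω[A⁄R] := KaehlerDifferential.map K R A A
  have hψ : Function.Surjective ψ := KaehlerDifferential.map_surjective K R A
  have hex : Function.Exact φ ψ := KaehlerDifferential.exact_mapBaseChange_map K R A
  obtain ⟨s, hs⟩ := Module.projective_lifting_property ψ LinearMap.id hψ
  let Φ : (A ⊗[R] Ω[R⁄K]) × Ω[A⁄R] →ₗ[A] Ω[A⁄K] := φ.coprod s
  have hΦ : Function.Surjective Φ := by
    intro b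
    have hb : ψ (b - s (ψ b)) = 0 := by
      rw [map_sub]
      have : ψ (s (ψ b)) = ψ b := congr($hs (ψ b))
      rw [this, sub_self]
    obtain ⟨c, hc⟩ := (hex _).mp hb
    refine ⟨(c, ψ b), ?_⟩
    change φ c + s (ψ b) = b
    rw [hc]; abel
  haveI : Module.Projective A (Ω[A⁄K]) := inferInstance
  have hbij : Function.Bijective Φ := by
    refine Module.bijective_of_surjective_of_rankAtStalk_eq hΦ fun m _ => ?_
    rw [Module.rankAtStalk_prod, Pi.add_apply, Module.rankAtStalk_baseChange, h1, h2, h3]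
  have hφ : Function.Injective φ := by
    intro x y hxy
    have : Φ (x, 0) = Φ (y, 0) := by
      change φ x + s 0 = φ y + s 0
      rw [hxy]
    exact congrArg Prod.fst (hbij.1 this)
  refine ⟨inferInstance, ?_⟩
  -- `H¹(L_{A/R}) = 0`
  have hδ : Function.Injective (Algebra.H1Cotangent.δ K R A) := by
    rw [← LinearMap.ker_eq_bot, LinearMap.exact_iff.mp (Algebra.H1Cotangent.exact_map_δ K R A)]
    rw [LinearMap.range_eq_bot]
    refine LinearMap.ext fun x => ?_
    rw [Subsingleton.elim x 0, map_zero]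
    rfl
  refine ⟨fun x y => hδ ?_⟩
  have h0 : ∀ z, Algebra.H1Cotangent.δ K R A z = 0 := by
    intro z
    apply hφ
    rw [map_zero]
    exact (Algebra.H1Cotangent.exact_δ_mapBaseChange K R A _).mpr ⟨z, rfl⟩
  rw [h0 x, h0 y]



/-- the cotangent space of the local ring of `Spec k` at its point is trivial. -/
theorem subsingleton_cotangentSpace_Spec_field (k : Type u) [Field k]
    (s : Spec (CommRingCat.of k)) :
    Subsingleton (IsLocalRing.CotangentSpace ((Spec (CommRingCat.of k)).presheaf.stalk s)) := by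
  haveI : Subsingleton ↥(Spec (CommRingCat.of k)) :=
    inferInstanceAs (Subsingleton (PrimeSpectrum k))
  have hs : s = genericPoint (Spec (CommRingCat.of k)) := Subsingleton.elim _ _
  subst hs
  have hF : IsField ((Spec (CommRingCat.of k)).presheaf.stalk
      (genericPoint (Spec (CommRingCat.of k)))) :=
    Field.toIsField (Spec (CommRingCat.of k)).functionField
  have hm : IsLocalRing.maximalIdeal ((Spec (CommRingCat.of k)).presheaf.stalk
      (genericPoint (Spec (CommRingCat.of k)))) = ⊥ :=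
    IsLocalRing.isField_iff_maximalIdeal_eq.mp hF
  change Subsingleton (IsLocalRing.maximalIdeal _).Cotangent
  rw [Ideal.cotangent_subsingleton_iff, hm]
  exact Ideal.bot_mul ⊥

/-- an integral smooth `k`-scheme of dimension `d` is smooth of relative dimension `d` over `k`. -/
theorem smoothOfRelativeDimension_structure (k : Type u) [Field k] [IsAlgClosed k]
    {X : Scheme.{u}} (q : X ⟶ Spec (CommRingCat.of k)) [IsIntegral X] [LocallyOfFiniteType q]
    [Smooth q] (d : ℕ) (hd : topologicalKrullDim ↥X = d) : SmoothOfRelativeDimension d q := by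
  haveI : Smooth (𝟙 (Spec (CommRingCat.of k))) := inferInstance
  haveI : LocallyOfFiniteType (𝟙 (Spec (CommRingCat.of k))) := inferInstance
  have h0 : topologicalKrullDim ↥(Spec (CommRingCat.of k)) = ((0 : ℕ) : WithBot ℕ∞) := by
    change topologicalKrullDim (PrimeSpectrum k) = _
    rw [PrimeSpectrum.topologicalKrullDim_eq_ringKrullDim, ringKrullDim_eq_zero_of_field]
    rfl
  refine Groth.Agent.Lib.Helper73.CotSm.smoothOfRelativeDimension_of_cotangentMapAt_injective k
    q (𝟙 _) q (Category.comp_id q) d 0 h0 (by simpa using hd) fun x _ => ?_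
  haveI := subsingleton_cotangentSpace_Spec_field k (q.base x)
  exact Function.injective_of_subsingleton _


/-- sections of `Ω_{X/Y}` locally free of rank `n`: the module of differentials of every affine
chart is finite projective of constant rank `n`. -/
theorem kaehler_appLE_facts {X Y : Scheme.{u}} (f : X ⟶ Y) [QuasiSeparated f] (n : ℕ)
    (hΩ : FlatMod.IsFinLocFreeOfRank n (Omega.sheaf f)) {U : X.Opens} {V : Y.Opens}
    (hU : IsAffineOpen U) (hV : IsAffineOpen V) (e : U ≤ f ⁻¹ᵁ V) :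
    letI : Algebra Γ(Y, V) Γ(X, U) := (f.appLE V U e).hom.toAlgebra
    (∀ p : PrimeSpectrum Γ(X, U), Module.rankAtStalk (Ω[Γ(X, U)⁄Γ(Y, V)]) p = n) ∧
      Module.Finite Γ(X, U) (Ω[Γ(X, U)⁄Γ(Y, V)]) ∧
      Module.Projective Γ(X, U) (Ω[Γ(X, U)⁄Γ(Y, V)]) := by
  letI : Algebra Γ(Y, V) Γ(X, U) := (f.appLE V U e).hom.toAlgebra
  let T : Ω[Γ(X, U)⁄Γ(Y, V)] ≃ₗ[Γ(X, U)] Γ(Omega.sheaf f, U) :=
    LinearEquiv.ofBijective (OmAff.toSect f V U e).hom (OmAffGen.bijective_toSect f hU hV e)
  obtain ⟨hfin, hproj⟩ :=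
    finite_projective_Γ_of_isAffineOpen (isFinLocFree_of_isFinLocFreeOfRank hΩ) hU
  refine ⟨fun p => ?_, Module.Finite.equiv T.symm, Module.Projective.of_equiv T.symm⟩
  rw [congrFun (Module.rankAtStalk_eq_of_equiv T) p]
  exact rankAtStalk_Γ_of_isFinLocFreeOfRank hΩ hU p

open Groth.Agent.Lib.Helper73.SmoothFibreDim in
/-- **(b) ⇒ (a)**. -/
theorem main (k : Type u) [Field k] [IsAlgClosed k]
    {X Y : Scheme.{u}} (qX : X ⟶ Spec (CommRingCat.of k)) (qY : Y ⟶ Spec (CommRingCat.of k))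
    [IsIntegral X] [IsSeparated qX] [LocallyOfFiniteType qX] [Smooth qX]
    [IsIntegral Y] [IsSeparated qY] [LocallyOfFiniteType qY] [Smooth qY]
    (f : X ⟶ Y) (hf : f ≫ qY = qX) (n dY : ℕ) (hY : topologicalKrullDim ↥Y = dY)
    (hX : topologicalKrullDim ↥X = ((dY + n : ℕ) : WithBot ℕ∞))
    [QuasiSeparated f]
    (hΩ : FlatMod.IsFinLocFreeOfRank n (Omega.sheaf f)) : SmoothOfRelativeDimension n f := by
  haveI hsX : SmoothOfRelativeDimension (dY + n) qX :=
    smoothOfRelativeDimension_structure k qX _ hX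
  haveI hsY : SmoothOfRelativeDimension dY qY := smoothOfRelativeDimension_structure k qY _ hY
  have hΩX := isFinLocFreeOfRank_omega_of_smooth qX (dY + n)
  have hΩY := isFinLocFreeOfRank_omega_of_smooth qY dY
  haveI : IsLocallyNoetherian Y := LocallyOfFiniteType.isLocallyNoetherian qY
  haveI : LocallyOfFiniteType (f ≫ qY) := by rw [hf]; infer_instance
  haveI : LocallyOfFiniteType f := locallyOfFiniteType_of_comp f qY
  haveI : LocallyOfFinitePresentation f :=
    LocallyOfFinitePresentation.iff_locallyOfFiniteType.mpr inferInstance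
  haveI hsm : Smooth f := by
    refine ⟨fun {V} hV {U} hU e => ?_⟩
    let T : (Spec (CommRingCat.of k)).Opens := ⊤
    have hT : IsAffineOpen T := isAffineOpen_top _
    have eY : V ≤ qY ⁻¹ᵁ T := le_top
    have eX : U ≤ qX ⁻¹ᵁ T := le_top
    letI a1 : Algebra Γ(Spec (CommRingCat.of k), T) Γ(Y, V) := (qY.appLE T V eY).hom.toAlgebra
    letI a2 : Algebra Γ(Y, V) Γ(X, U) := (f.appLE V U e).hom.toAlgebra
    letI a3 : Algebra Γ(Spec (CommRingCat.of k), T) Γ(X, U) := (qX.appLE T U eX).hom.toAlgebra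
    haveI : IsScalarTower Γ(Spec (CommRingCat.of k), T) Γ(Y, V) Γ(X, U) := by
      refine IsScalarTower.of_algebraMap_eq' ?_
      change (qX.appLE T U eX).hom = (f.appLE V U e).hom.comp (qY.appLE T V eY).hom
      rw [← CommRingCat.hom_comp, Scheme.Hom.appLE_comp_appLE]
      subst hf
      rfl
    have hsmX : Algebra.Smooth Γ(Spec (CommRingCat.of k), T) Γ(X, U) :=
      qX.smooth_appLE hT hU eX
    haveI := hsmX.formallySmooth
    obtain ⟨h1r, h1f, h1p⟩ := kaehler_appLE_facts qY dY hΩY hV hT eY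
    obtain ⟨h2r, h2f, h2p⟩ := kaehler_appLE_facts qX (dY + n) hΩX hU hT eX
    obtain ⟨h3r, h3f, h3p⟩ := kaehler_appLE_facts f n hΩ hU hV e
    have hfs := formallySmooth_of_rank Γ(Spec (CommRingCat.of k), T) Γ(Y, V) Γ(X, U) dY n
      h1r h2r h3r
    have hfp : Algebra.FinitePresentation Γ(Y, V) Γ(X, U) := f.finitePresentation_appLE hV hU e
    exact (⟨hfs, hfp⟩ : Algebra.Smooth Γ(Y, V) Γ(X, U))
  constructor
  intro x
  obtain ⟨m, V, hV, U, hU, hxU, e, hstd⟩ := exists_smoothOfRelDimAt f x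
  letI : Algebra Γ(Y, V) Γ(X, U) := (f.appLE V U e).hom.toAlgebra
  have hstd' : Algebra.IsStandardSmoothOfRelativeDimension m Γ(Y, V) Γ(X, U) := hstd
  haveI : Nontrivial Γ(X, U) := RingHom.domain_nontrivial (X.presheaf.germ U x hxU).hom
  have hrank := Algebra.IsStandardSmoothOfRelativeDimension.rank_kaehlerDifferential
    (R := Γ(Y, V)) (S := Γ(X, U)) m
  haveI : Algebra.IsStandardSmooth Γ(Y, V) Γ(X, U) :=
    Algebra.IsStandardSmoothOfRelativeDimension.isStandardSmooth m
  have hfr : Module.finrank Γ(X, U) (Ω[Γ(X, U)⁄Γ(Y, V)]) = m :=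
    Module.finrank_eq_of_rank_eq hrank
  obtain ⟨h3r, -, -⟩ := kaehler_appLE_facts f n hΩ hU hV e
  have hmn : m = n := by
    have h := h3r (hU.primeIdealOf ⟨x, hxU⟩)
    rw [Module.rankAtStalk_eq_finrank_of_free, hfr] at h
    exact h
  subst hmn
  exact ⟨V, hV, U, hU, hxU, e, hstd⟩

end Groth.Agent.S10937
end S10937helpers

namespace Groth.Agent.S10937

/-- (a)⇔(b): let k be an algebraically closed field, X and Y nonsingular varieties over k (integral,
separated, of finite type and smooth over k) with dim Y = dY and dim X = dY + n, and f : X → Y a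
k-morphism. Then f is smooth of relative dimension n if and only if Ω_{X/Y} (the conormal sheaf of
the diagonal of f) is locally free of rank n. -/
theorem result (k : Type u) [Field k] [IsAlgClosed k]
    {X Y : Scheme.{u}} (qX : X ⟶ Spec (CommRingCat.of k)) (qY : Y ⟶ Spec (CommRingCat.of k))
    [IsIntegral X] [IsSeparated qX] [LocallyOfFiniteType qX] [QuasiCompact qX] [Smooth qX]
    [IsIntegral Y] [IsSeparated qY] [LocallyOfFiniteType qY] [QuasiCompact qY] [Smooth qY]
    (f : X ⟶ Y) (hf : f ≫ qY = qX) (n dY : ℕ) (hY : topologicalKrullDim ↥Y = dY)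
    (hX : topologicalKrullDim ↥X = ((dY + n : ℕ) : WithBot ℕ∞)) :
    SmoothOfRelativeDimension n f ↔ FlatMod.IsFinLocFreeOfRank n (Omega.sheaf f) := by

  haveI : QuasiSeparated (f ≫ qY) := by rw [hf]; infer_instance
  haveI : QuasiSeparated f := QuasiSeparated.of_comp f qY
  constructor
  · intro h
    exact Groth.Agent.S10937.isFinLocFreeOfRank_omega_of_smooth f n
  · intro h
    exact Groth.Agent.S10937.main k qX qY f hf n dY hY hX h

end Groth.Agent.S10937
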