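import Groth.Statements.S17413
import Groth.Agent.Lib.Helper73.CotSm
import Groth.Agent.Lib.Helper21.DominantMaximal
import Groth.Agent.S10929

set_option autoImplicit false
universe u
open CategoryTheory AlgebraicGeometry
open Prym5

section S17413helpers
set_option linter.style.haveILetI false
open CategoryTheory.Limits TopologicalSpace IsLocalRing
namespace Groth.Agent.S17413
open Groth.Agent.Lib.Helper73.CotInj Groth.Agent.Lib.Helper29.CotQuot Groth.Agent.Lib.Helper29.RegHom


/-- a local homomorphism `A → B` of Noetherian local rings with `B` regular, surjective on residue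
fields and with injective cotangent map: `A` is regular. -/
theorem isRegularLocalRing_of_cotInjective (A B : Type u) [CommRing A] [IsLocalRing A]
    [IsNoetherianRing A] [CommRing B] [IsLocalRing B] [IsNoetherianRing B] [Algebra A B]
    [IsLocalHom (algebraMap A B)] [IsRegularLocalRing B] (hinj : CotInjective A B)
    (hs : ResSurjective A B) : IsRegularLocalRing A := by
  classical
  haveI := isLocalRing_fibre A B
  obtain ⟨ι, _, x, hx, hcard, hmin⟩ := exists_minimal_generators A
  have hli := linearIndependent_of_cotInjective x hinj hs hmin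
  have hmle : (maximalIdeal A).map (algebraMap A B) ≤ maximalIdeal B :=
    IsLocalRing.map_maximalIdeal_le (algebraMap A B)
  have e2 := finrank_cotangentSpace_quotient_add ((maximalIdeal A).map (algebraMap A B)) hmle
  rw [imageCot_map_eq_span x hx, finrank_span_eq_card hli, hcard] at e2
  have hB : ((Module.finrank (ResidueField B) (CotangentSpace B) : ℕ) : WithBot ℕ∞) =
      ringKrullDim B := (IsRegularLocalRing.iff_finrank_cotangentSpace B).mp inferInstance
  have hle := ringKrullDim_le_add A B
  have hfib : ringKrullDim (B ⧸ (maximalIdeal A).map (algebraMap A B)) ≤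
      ((Module.finrank (ResidueField (B ⧸ (maximalIdeal A).map (algebraMap A B)))
        (CotangentSpace (B ⧸ (maximalIdeal A).map (algebraMap A B))) : ℕ) : WithBot ℕ∞) := by
    rw [← spanFinrank_maximalIdeal_eq_finrank_cotangentSpace]
    exact ringKrullDim_le_spanFinrank_maximalIdeal _
  rw [← hB, ← e2] at hle
  have h1 : ((Module.finrank (ResidueField A) (CotangentSpace A) +
      Module.finrank (ResidueField (B ⧸ (maximalIdeal A).map (algebraMap A B)))
        (CotangentSpace (B ⧸ (maximalIdeal A).map (algebraMap A B))) : ℕ) : WithBot ℕ∞) ≤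
      ((Module.finrank (ResidueField (B ⧸ (maximalIdeal A).map (algebraMap A B)))
        (CotangentSpace (B ⧸ (maximalIdeal A).map (algebraMap A B))) : ℕ) : WithBot ℕ∞) +
        ringKrullDim A := by
    rw [add_comm (Module.finrank (ResidueField A) (CotangentSpace A))]
    refine hle.trans ?_
    rw [add_comm]
    exact add_le_add_left hfib _
  have h0 := natCast_le_of_add_le h1
  exact IsRegularLocalRing.of_spanFinrank_maximalIdeal_le _ (by
    rw [spanFinrank_maximalIdeal_eq_finrank_cotangentSpace]
    exact h0)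



/-- **(⇐)** -/
theorem isDominant_of_cotInjective (k : Type u) [Field k] [IsAlgClosed k] {X Y : Scheme.{u}}
    (qX : X ⟶ Spec (CommRingCat.of k)) (qY : Y ⟶ Spec (CommRingCat.of k))
    [LocallyOfFiniteType qX] [LocallyOfFiniteType qY] [IsIntegral Y] (f : X ⟶ Y)
    (hf : f ≫ qY = qX) (P : X) (hP : IsClosed ({P} : Set X))
    (hreg : IsRegularLocalRing (X.presheaf.stalk P))
    (hinj : ∀ a ∈ maximalIdeal (Y.presheaf.stalk (f P)),
      (f.stalkMap P).hom a ∈ maximalIdeal (X.presheaf.stalk P) ^ 2 →
        a ∈ maximalIdeal (Y.presheaf.stalk (f P)) ^ 2) : IsDominant f := by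
  haveI : IsLocallyNoetherian Y := LocallyOfFiniteType.isLocallyNoetherian qY
  haveI : IsLocallyNoetherian X := LocallyOfFiniteType.isLocallyNoetherian qX
  letI := (f.stalkMap P).hom.toAlgebra
  haveI : IsLocalHom (algebraMap (Y.presheaf.stalk (f P)) (X.presheaf.stalk P)) :=
    inferInstanceAs (IsLocalHom (f.stalkMap P).hom)
  have hci : CotInjective (Y.presheaf.stalk (f P)) (X.presheaf.stalk P) := hinj
  have hrs : ResSurjective (Y.presheaf.stalk (f P)) (X.presheaf.stalk P) :=
    Groth.Agent.Lib.Helper73.CotSm.resSurjective_of_isClosed k qX qY f hf P hP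
  haveI hA : IsRegularLocalRing (Y.presheaf.stalk (f P)) :=
    isRegularLocalRing_of_cotInjective _ _ hci hrs
  obtain ⟨-, hflat, -⟩ := isRegularLocalRing_fibre_and_flat_of_cotInjective _ _ hci hrs
  haveI : Module.FaithfullyFlat (Y.presheaf.stalk (f P)) (X.presheaf.stalk P) :=
    Module.FaithfullyFlat.of_flat_of_isLocalHom
  -- the generic point of `Y` is hit
  have hη : genericPoint Y ∈ Set.range (Y.fromSpecStalk (f P)) := by
    rw [Scheme.range_fromSpecStalk]
    exact genericPoint_specializes _
  obtain ⟨p, hp⟩ := hη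
  obtain ⟨q, hq⟩ := PrimeSpectrum.comap_surjective_of_faithfullyFlat
    (A := Y.presheaf.stalk (f P)) (B := X.presheaf.stalk P) p
  have hmem : genericPoint Y ∈ Set.range f := by
    let q' : ↥(Spec (X.presheaf.stalk P)) := q
    refine ⟨X.fromSpecStalk P q', ?_⟩
    have h1 := congr($(Scheme.SpecMap_stalkMap_fromSpecStalk (f := f) (x := P)) q')
    rw [Scheme.Hom.comp_apply, Scheme.Hom.comp_apply] at h1
    rw [← h1, ← hp]
    congr 1
  refine ⟨?_⟩
  rw [DenseRange, dense_iff_closure_eq]
  apply Set.eq_univ_of_univ_subset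
  rw [← (genericPoint_spec Y).def]
  exact closure_mono (Set.singleton_subset_iff.mpr hmem)



/-- ring isomorphisms of local rings respect powers of the maximal ideal. -/
theorem mem_maximalIdeal_pow_iff {R R' : Type u} [CommRing R] [CommRing R'] [IsLocalRing R]
    [IsLocalRing R'] (e : R ≃+* R') (n : ℕ) (x : R) :
    e x ∈ maximalIdeal R' ^ n ↔ x ∈ maximalIdeal R ^ n := by
  have hm : (maximalIdeal R).map (e : R →+* R') = maximalIdeal R' := by
    have hloc : IsLocalHom (e.symm : R' →+* R) := ⟨fun a ha => by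
      have := ha.map (e : R →+* R')
      simpa using this⟩
    have h1 : (maximalIdeal R).comap (e.symm : R' →+* R) = maximalIdeal R' :=
      ((IsLocalRing.local_hom_TFAE (e.symm : R' →+* R)).out 0 4).mp hloc
    rw [← h1]
    exact (Ideal.comap_symm (e : R ≃+* R')).symm
  rw [← hm, ← Ideal.map_pow]
  constructor
  · intro h
    obtain ⟨y, hy, hyx⟩ := (Ideal.mem_map_of_equiv e _).mp h
    rwa [← e.injective hyx]
  · intro h
    exact Ideal.mem_map_of_mem _ h

/-- transfer of injectivity of cotangent maps along isomorphisms. -/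
theorem cotInj_transfer {A A' B B' : CommRingCat.{u}} [IsLocalRing A] [IsLocalRing A']
    [IsLocalRing B] [IsLocalRing B'] (φ : A ⟶ B) (φ' : A' ⟶ B') (α : A ⟶ A') (β : B ⟶ B')
    [IsIso α] [IsIso β] (h : φ ≫ β = α ≫ φ')
    (H : ∀ a ∈ maximalIdeal A', φ'.hom a ∈ maximalIdeal B' ^ 2 → a ∈ maximalIdeal A' ^ 2) :
    ∀ a ∈ maximalIdeal A, φ.hom a ∈ maximalIdeal B ^ 2 → a ∈ maximalIdeal A ^ 2 := by
  intro a ha h2
  let eα : A ≃+* A' := (asIso α).commRingCatIsoToRingEquiv
  let eβ : B ≃+* B' := (asIso β).commRingCatIsoToRingEquiv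
  have h3 : eβ (φ.hom a) ∈ maximalIdeal B' ^ 2 := (mem_maximalIdeal_pow_iff eβ 2 _).mpr h2
  have h4 : eβ (φ.hom a) = φ'.hom (eα a) := congr($h a)
  rw [h4] at h3
  have h5 : eα a ∈ maximalIdeal A' := by
    have := (mem_maximalIdeal_pow_iff eα 1 a).mpr (by simpa using ha)
    simpa using this
  exact (mem_maximalIdeal_pow_iff eα 2 a).mp (H _ h5 h3)


theorem smooth_ι_comp_of_le_smoothLocus {X Y : Scheme.{u}} (f : X ⟶ Y)
    [LocallyOfFinitePresentation f] (W : X.Opens) (hW : W ≤ f.smoothLocus) :
    Smooth (W.ι ≫ f) := by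
  rw [← Scheme.Hom.smoothLocus_eq_top_iff, ← Scheme.Hom.preimage_smoothLocus_eq, ← top_le_iff]
  rintro ⟨x, hx⟩ -
  exact hW hx

theorem isRegularLocalRing_stalk_of_mem_smoothLocus (k : Type u) [Field k] {X : Scheme.{u}}
    (qX : X ⟶ Spec (CommRingCat.of k)) [LocallyOfFinitePresentation qX] (P : X)
    (hP : P ∈ qX.smoothLocus) : IsRegularLocalRing (X.presheaf.stalk P) := by
  let W : X.Opens := qX.smoothLocus
  haveI : Smooth (W.ι ≫ qX) := smooth_ι_comp_of_le_smoothLocus qX W le_rfl
  letI : (W : Scheme.{u}).Over (Spec (CommRingCat.of k)) := ⟨W.ι ≫ qX⟩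
  haveI : Smooth ((W : Scheme.{u}) ↘ Spec (CommRingCat.of k)) := ‹Smooth (W.ι ≫ qX)›
  let P' : (W : Scheme.{u}) := ⟨P, hP⟩
  haveI := Groth.Agent.S1535.result k (W : Scheme.{u}) P'
  haveI : IsIso (W.ι.stalkMap P') := inferInstance
  exact IsRegularLocalRing.of_ringEquiv (asIso (W.ι.stalkMap P')).commRingCatIsoToRingEquiv.symm


/-- cotangent-injectivity is insensitive to restriction along open immersions. -/
theorem cotInj_of_comm {X Y X' Y' : Scheme.{u}} (f : X ⟶ Y) (f' : X' ⟶ Y') (i : X' ⟶ X)
    (j : Y' ⟶ Y) [IsOpenImmersion i] [IsOpenImmersion j] (h : f' ≫ j = i ≫ f) (x' : X')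
    (H : ∀ a ∈ maximalIdeal (Y'.presheaf.stalk (f' x')),
      (f'.stalkMap x').hom a ∈ maximalIdeal (X'.presheaf.stalk x') ^ 2 →
        a ∈ maximalIdeal (Y'.presheaf.stalk (f' x')) ^ 2) :
    ∀ a ∈ maximalIdeal (Y.presheaf.stalk (f (i x'))),
      (f.stalkMap (i x')).hom a ∈ maximalIdeal (X.presheaf.stalk (i x')) ^ 2 →
        a ∈ maximalIdeal (Y.presheaf.stalk (f (i x'))) ^ 2 := by
  have e1 := Scheme.Hom.stalkMap_congr_hom (i ≫ f) (f' ≫ j) h.symm x'
  have e2 := Scheme.Hom.stalkMap_comp i f x'
  have e3 := Scheme.Hom.stalkMap_comp f' j x'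
  rw [e2, e3] at e1
  have hpt : f (i x') = j (f' x') := by
    rw [← Scheme.Hom.comp_apply, ← Scheme.Hom.comp_apply, h]
  exact cotInj_transfer (f.stalkMap (i x')) (f'.stalkMap x')
    ((Y.presheaf.stalkCongr (.of_eq hpt)).hom ≫ j.stalkMap (f' x')) (i.stalkMap x')
    (by rw [e1, Category.assoc]; rfl) H


set_option maxHeartbeats 800000 in
/-- **(⇒)** -/
theorem exists_point_of_isDominant (k : Type u) [Field k] [IsAlgClosed k] [CharZero k]
    {X Y : Scheme.{u}} (qX : X ⟶ Spec (CommRingCat.of k)) (qY : Y ⟶ Spec (CommRingCat.of k))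
    [LocallyOfFiniteType qX] [QuasiCompact qX] [LocallyOfFiniteType qY] [QuasiCompact qY]
    [AlgebraicGeometry.IsReduced X] [IsIntegral Y] (f : X ⟶ Y) (hf : f ≫ qY = qX)
    [IsDominant f] :
    ∃ P : X, IsClosed ({P} : Set X) ∧ IsRegularLocalRing (X.presheaf.stalk P) ∧
      ∀ a ∈ maximalIdeal (Y.presheaf.stalk (f P)),
        (f.stalkMap P).hom a ∈ maximalIdeal (X.presheaf.stalk P) ^ 2 →
          a ∈ maximalIdeal (Y.presheaf.stalk (f P)) ^ 2 := by
  haveI : IsLocallyNoetherian Y := LocallyOfFiniteType.isLocallyNoetherian qY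
  haveI : IsLocallyNoetherian X := LocallyOfFiniteType.isLocallyNoetherian qX
  haveI : CompactSpace X := QuasiCompact.compactSpace_of_compactSpace qX
  haveI : IsNoetherian X := { }
  haveI : LocallyOfFiniteType (f ≫ qY) := by rw [hf]; infer_instance
  haveI : LocallyOfFiniteType f := locallyOfFiniteType_of_comp f qY
  haveI : LocallyOfFinitePresentation f :=
    LocallyOfFinitePresentation.iff_locallyOfFiniteType.mpr inferInstance
  haveI : LocallyOfFinitePresentation qX :=
    LocallyOfFinitePresentation.iff_locallyOfFiniteType.mpr inferInstance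
  haveI : LocallyOfFinitePresentation qY :=
    LocallyOfFinitePresentation.iff_locallyOfFiniteType.mpr inferInstance
  haveI : JacobsonSpace X := LocallyOfFiniteType.jacobsonSpace qX
  -- (1) the generic point of `Y` is hit
  obtain ⟨x, hx⟩ := Groth.Agent.Lib.Helper21.FieldDim.mem_range_of_maximal_of_denseRange f
    (Scheme.Hom.denseRange f) (η := genericPoint Y) (fun z _ => genericPoint_specializes z)
  -- (2) an integral open around the generic point of the component of `x`
  let U : X.Opens :=
    ⟨(⋃₀ (irreducibleComponents X \ {irreducibleComponent x}))ᶜ, by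
      rw [Set.sUnion_eq_biUnion, isOpen_compl_iff]
      exact TopologicalSpace.NoetherianSpace.finite_irreducibleComponents.sdiff.isClosed_biUnion
        fun W hW ↦ isClosed_of_mem_irreducibleComponents W hW.1⟩
  have hU : closure (U : Set X) = irreducibleComponent x :=
    closure_sUnion_irreducibleComponents_sdiff_singleton
      TopologicalSpace.NoetherianSpace.finite_irreducibleComponents
      _ (irreducibleComponent_mem_irreducibleComponents x)
  haveI : IsIntegral U :=
    haveI : IrreducibleSpace U := isIrreducible_iff_irreducibleSpace.mp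
      (isIrreducible_iff_closure.mp (hU ▸ isIrreducible_irreducibleComponent))
    isIntegral_of_irreducibleSpace_of_isReduced _
  let ξ : X := U.ι (genericPoint U)
  have hξx : ξ ⤳ x := ((genericPoint_spec U).image U.ι.continuous).specializes (y := x)
    (by rw [Set.image_univ, U.range_ι, hU]; exact mem_irreducibleComponent)
  have hfξ : f ξ = genericPoint Y := by
    have h1 : f ξ ⤳ f x := hξx.map f.continuous
    rw [hx] at h1
    exact (h1.antisymm (genericPoint_specializes _)).eq
  -- (3) smoothness of `f` at `ξ`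
  have hdense : DenseRange (U.ι ≫ f).base := by
    refine Dense.mono (s₁ := {genericPoint Y}) ?_
      (dense_iff_closure_eq.mpr (genericPoint_spec Y).def)
    rw [Set.singleton_subset_iff]
    exact ⟨genericPoint U, hfξ⟩
  haveI : QuasiCompact (U.ι ≫ qX) := inferInstance
  obtain ⟨V, hVne, hVsm⟩ := Groth.Agent.S10929.result k (U.ι ≫ qX) qY (U.ι ≫ f)
    (by rw [Category.assoc, hf]) hdense
  have hgV : genericPoint U ∈ V := by
    exact ((genericPoint_spec U).mem_open_set_iff V.2).mpr (by simpa using hVne)
  have hξsm : ξ ∈ f.smoothLocus := by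
    have h1 : (V.ι ≫ U.ι ≫ f).smoothLocus = ⊤ := Scheme.Hom.smoothLocus_eq_top _
    have h2 : (⟨genericPoint U, hgV⟩ : V) ∈ (V.ι ≫ U.ι ≫ f).smoothLocus := by
      rw [h1]; trivial
    rw [← Scheme.Hom.preimage_smoothLocus_eq] at h2
    have h3 : genericPoint U ∈ (U.ι ≫ f).smoothLocus := h2
    rw [← Scheme.Hom.preimage_smoothLocus_eq] at h3
    exact h3
  -- (4) a closed point in the good locus
  let RX : X.Opens := qX.smoothLocus
  let RY : Y.Opens := qY.smoothLocus
  have hRX : Dense (RX : Set X) := Scheme.Hom.dense_smoothLocus_of_perfectField qX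
  have hRY : Dense (RY : Set Y) := Scheme.Hom.dense_smoothLocus_of_perfectField qY
  have hgRY : genericPoint Y ∈ RY :=
    ((genericPoint_spec Y).mem_open_set_iff RY.2).mpr (by simpa using hRY.nonempty)
  let T : X.Opens := f.smoothLocus ⊓ f ⁻¹ᵁ RY
  have hξT : ξ ∈ T := ⟨hξsm, show f ξ ∈ RY by rw [hfξ]; exact hgRY⟩
  let T₁ : X.Opens := T ⊓ RX
  have hT₁ne : (T₁ : Set X).Nonempty := by
    obtain ⟨z, hz1, hz2⟩ := hRX.inter_open_nonempty _ T.2 ⟨ξ, hξT⟩
    exact ⟨z, hz1, hz2⟩
  obtain ⟨P, hPT₁, hPcl⟩ := nonempty_inter_closedPoints hT₁ne T₁.2.isLocallyClosed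
  refine ⟨P, hPcl, isRegularLocalRing_stalk_of_mem_smoothLocus k qX P hPT₁.2, ?_⟩
  -- (5) restrict to `T₁ → RY`
  have e : T₁ ≤ f ⁻¹ᵁ RY := fun z hz => hz.1.2
  let f₁ : (T₁ : Scheme.{u}) ⟶ (RY : Scheme.{u}) := f.resLE RY T₁ e
  have hf₁ : f₁ ≫ RY.ι = T₁.ι ≫ f := Scheme.Hom.resLE_comp_ι f e
  haveI : Smooth (RY.ι ≫ qY) := smooth_ι_comp_of_le_smoothLocus qY RY le_rfl
  haveI : Smooth (T₁.ι ≫ f) := smooth_ι_comp_of_le_smoothLocus f T₁ (fun z hz => hz.1.1)
  haveI : Smooth f₁ := by
    have h : Smooth (f₁ ≫ RY.ι) := by rw [hf₁]; infer_instance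
    haveI : MorphismProperty.HasOfPostcompProperty @Smooth.{u}
        (MorphismProperty.monomorphisms Scheme.{u}) :=
      MorphismProperty.IsStableUnderBaseChange.hasOfPostcompProperty_monomorphisms
    exact MorphismProperty.of_postcomp (W := @Smooth)
      (W' := MorphismProperty.monomorphisms Scheme.{u}) f₁ RY.ι
      (inferInstanceAs (Mono RY.ι)) h
  let P' : (T₁ : Scheme.{u}) := ⟨P, hPT₁⟩
  haveI : IsLocallyNoetherian (T₁ : Scheme.{u}) := isLocallyNoetherian_of_isOpenImmersion T₁.ι
  haveI : IsLocallyNoetherian (RY : Scheme.{u}) := isLocallyNoetherian_of_isOpenImmersion RY.ι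
  have hci := (Groth.Agent.Lib.Helper73.CotSm.cotangentMapAt_injective_iff f₁ P').mp
    (Groth.Agent.Lib.Helper73.CotSm.cotangentMapAt_injective_of_smooth k (RY.ι ≫ qY) f₁ P')
  exact cotInj_of_comm f f₁ T₁.ι RY.ι hf₁ P' hci


end Groth.Agent.S17413
end S17413helpers

namespace Groth.Agent.S17413

/-- Let k be an algebraically closed field of characteristic zero, X a reduced scheme of finite type
over k, Y an integral scheme of finite type over k and u : X → Y a k-morphism. Then u is dominant if
and only if there is a closed point P of X such that X is regular at P and the differential of u at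
P is surjective onto the tangent space of Y at u(P); surjectivity of the differential is written
dually as injectivity of the map of cotangent spaces m_{u(P)}/m_{u(P)}² → m_P/m_P² induced by the
local homomorphism of u at P. (The published statement asks only that Y be irreducible, puts no
condition on P and concludes that the scheme-theoretic image is all of Y. Without regularity at P
the backward implication fails: the inclusion of the union of the two coordinate axes into the
affine plane induces a bijection of tangent spaces at the origin and is not dominant. Without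
reducedness of Y the forward implication fails: the reduced line inside the doubled line y² = 0 is
dominant but its differential is nowhere surjective. For Y integral and u quasi-compact, dominance
is the same as the scheme-theoretic image being Y.) -/
theorem result (k : Type u) [Field k]
    [IsAlgClosed k] [CharZero k] (X Y : Scheme.{u})
    [X.Over (Spec (CommRingCat.of k))] [Y.Over (Spec (CommRingCat.of k))]
    [LocallyOfFiniteType (X ↘ Spec (CommRingCat.of k))] [QuasiCompact (X ↘ Spec (CommRingCat.of k))]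
    [LocallyOfFiniteType (Y ↘ Spec (CommRingCat.of k))] [QuasiCompact (Y ↘ Spec (CommRingCat.of k))]
    [AlgebraicGeometry.IsReduced X] [AlgebraicGeometry.IsIntegral Y] (u : X ⟶ Y) [u.IsOver (Spec (CommRingCat.of k))] :
    IsDominant u ↔
      ∃ P : X, IsClosed ({P} : Set X) ∧ IsRegularLocalRing (X.presheaf.stalk P) ∧
        ∀ a ∈ IsLocalRing.maximalIdeal (Y.presheaf.stalk (u P)),
          (u.stalkMap P).hom a ∈ IsLocalRing.maximalIdeal (X.presheaf.stalk P) ^ 2 →
            a ∈ IsLocalRing.maximalIdeal (Y.presheaf.stalk (u P)) ^ 2 := by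
  have hf : u ≫ (Y ↘ Spec (CommRingCat.of k)) = X ↘ Spec (CommRingCat.of k) :=
    CategoryTheory.comp_over u (Spec (CommRingCat.of k))
  constructor
  · intro hdom
    exact exists_point_of_isDominant k (X ↘ Spec (CommRingCat.of k))
      (Y ↘ Spec (CommRingCat.of k)) u hf
  · rintro ⟨P, hP, hreg, hinj⟩
    exact isDominant_of_cotInjective k (X ↘ Spec (CommRingCat.of k))
      (Y ↘ Spec (CommRingCat.of k)) u hf P hP hreg hinj

end Groth.Agent.S17413
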