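import Groth.Statements.S10938
import Groth.Agent.S17413

set_option autoImplicit false
universe u
open CategoryTheory CategoryTheory.Limits AlgebraicGeometry
open Variety

section S10938helpers
set_option linter.style.haveILetI false
open CategoryTheory.Limits TopologicalSpace IsLocalRing
namespace Groth.Agent.S10938
open Groth.Agent.Lib.Helper73.CotInj

/-- the cotangent map of the local homomorphism `φ` has rank at most `r`: the classes of the
elements `φ a`, `a ∈ 𝔪_A`, lie in the span of at most `r` vectors. -/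
def RankLE {A B : Type u} [CommRing A] [CommRing B] [IsLocalRing A] [IsLocalRing B]
    (φ : A →+* B) (r : ℕ) : Prop :=
  ∃ S : Finset (CotangentSpace B), S.card ≤ r ∧
    ∀ a ∈ maximalIdeal A, ∀ h : φ a ∈ maximalIdeal B,
      (maximalIdeal B).toCotangent ⟨φ a, h⟩ ∈
        Submodule.span (ResidueField B) (S : Set (CotangentSpace B))

section ring

variable {A B : Type u} [CommRing A] [CommRing B] [IsLocalRing A] [IsLocalRing B]

/-- precomposition with a local homomorphism. -/
theorem RankLE.comp_left {A' : Type u} [CommRing A'] [IsLocalRing A'] {φ : A →+* B} {r : ℕ}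
    (h : RankLE φ r) (θ : A' →+* A) [IsLocalHom θ] : RankLE (φ.comp θ) r := by
  obtain ⟨S, hS, H⟩ := h
  refine ⟨S, hS, fun a ha h' => ?_⟩
  have ha' : θ a ∈ maximalIdeal A := by
    rw [IsLocalRing.mem_maximalIdeal, mem_nonunits_iff] at ha ⊢
    exact fun hu => ha (IsLocalHom.map_nonunit a hu)
  exact H (θ a) ha' h'

/-- cancelling a surjection on the source. -/
theorem RankLE.of_comp_surjective {A' : Type u} [CommRing A'] [IsLocalRing A'] {φ' : A' →+* B}
    {r : ℕ} (π : A →+* A') (hπ : Function.Surjective π) (h : RankLE (φ'.comp π) r) :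
    RankLE φ' r := by
  obtain ⟨S, hS, H⟩ := h
  refine ⟨S, hS, fun a' ha' h' => ?_⟩
  obtain ⟨a, rfl⟩ := hπ a'
  have ha : a ∈ maximalIdeal A := by
    rw [IsLocalRing.mem_maximalIdeal, mem_nonunits_iff] at ha' ⊢
    exact fun hu => ha' (hu.map π)
  exact H a ha h'

/-- postcomposition with a local homomorphism. -/
theorem RankLE.comp_right {B' : Type u} [CommRing B'] [IsLocalRing B'] {φ : A →+* B} {r : ℕ}
    (h : RankLE φ r) (ψ : B →+* B') [IsLocalHom ψ] : RankLE (ψ.comp φ) r := by
  classical
  obtain ⟨S, hS, H⟩ := h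
  letI := ψ.toAlgebra
  have hle : maximalIdeal B ≤ (maximalIdeal B').comap (Algebra.ofId B B') := by
    intro b hb
    rw [Ideal.mem_comap]
    change ψ b ∈ maximalIdeal B'
    rw [IsLocalRing.mem_maximalIdeal, mem_nonunits_iff] at hb ⊢
    exact fun hu => hb (IsLocalHom.map_nonunit b hu)
  let Ψ : CotangentSpace B →ₗ[B] CotangentSpace B' :=
    Ideal.mapCotangent (maximalIdeal B) (maximalIdeal B') (Algebra.ofId B B') hle
  refine ⟨S.image Ψ, (Finset.card_image_le).trans hS, fun a ha h' => ?_⟩
  have hφa : φ a ∈ maximalIdeal B := by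
    rw [IsLocalRing.mem_maximalIdeal, mem_nonunits_iff] at h' ⊢
    exact fun hu => h' (hu.map ψ)
  have h1 := H a ha hφa
  have h2 : (maximalIdeal B').toCotangent ⟨(ψ.comp φ) a, h'⟩ =
      Ψ ((maximalIdeal B).toCotangent ⟨φ a, hφa⟩) := by
    rw [Ideal.mapCotangent_toCotangent]
    rfl
  rw [h2]
  -- pass to `B`-spans
  have e1 : ((Submodule.span (ResidueField B) (S : Set (CotangentSpace B))).restrictScalars B) =
      Submodule.span B (S : Set (CotangentSpace B)) :=
    Submodule.restrictScalars_span B (ResidueField B) IsLocalRing.residue_surjective _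
  have h3 : (maximalIdeal B).toCotangent ⟨φ a, hφa⟩ ∈
      Submodule.span B (S : Set (CotangentSpace B)) := by
    rw [← e1]; exact h1
  have h4 : Ψ ((maximalIdeal B).toCotangent ⟨φ a, hφa⟩) ∈
      Submodule.span B (Ψ '' (S : Set (CotangentSpace B))) := by
    rw [← Submodule.map_span]
    exact Submodule.mem_map_of_mem h3
  have h5 : Ψ ((maximalIdeal B).toCotangent ⟨φ a, hφa⟩) ∈
      Submodule.span B' (Ψ '' (S : Set (CotangentSpace B))) :=
    Submodule.span_le_restrictScalars B B' _ h4
  have e2 : ((Submodule.span (ResidueField B') (Ψ '' (S : Set (CotangentSpace B)))).restrictScalars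
      B') = Submodule.span B' (Ψ '' (S : Set (CotangentSpace B))) :=
    Submodule.restrictScalars_span B' (ResidueField B') IsLocalRing.residue_surjective _
  rw [← e2] at h5
  rw [Finset.coe_image]
  exact h5

/-- **Lemma R**: an injective cotangent map of rank at most `r` (with surjective residue map)
bounds the embedding dimension of the source. -/
theorem finrank_cotangentSpace_le_of_rankLE (A B : Type u) [CommRing A] [IsLocalRing A]
    [IsNoetherianRing A] [CommRing B] [IsLocalRing B] [IsNoetherianRing B] [Algebra A B]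
    [IsLocalHom (algebraMap A B)] (hinj : CotInjective A B) (hs : ResSurjective A B) (r : ℕ)
    (h : RankLE (algebraMap A B) r) :
    Module.finrank (ResidueField A) (CotangentSpace A) ≤ r := by
  classical
  obtain ⟨ι, _, x, hx, hcard, hmin⟩ := exists_minimal_generators A
  have hli := linearIndependent_of_cotInjective x hinj hs hmin
  obtain ⟨S, hS, H⟩ := h
  have hsub : Set.range (imgCot (B := B) x) ≤
      Submodule.span (ResidueField B) ((S : Set (CotangentSpace B))) := by
    rintro _ ⟨i, rfl⟩
    exact H (x i) (x i).2 _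
  have h1 := linearIndependent_le_span' _ hli (S : Set (CotangentSpace B)) hsub
  rw [Cardinal.mk_fintype, Nat.cast_le] at h1
  have h2 : Fintype.card ↑(S : Set (CotangentSpace B)) = S.card := by simp
  rw [h2] at h1
  rw [← hcard]
  exact h1.trans hS

theorem ringKrullDim_le_of_rankLE (A B : Type u) [CommRing A] [IsLocalRing A]
    [IsNoetherianRing A] [CommRing B] [IsLocalRing B] [IsNoetherianRing B] [Algebra A B]
    [IsLocalHom (algebraMap A B)] (hinj : CotInjective A B) (hs : ResSurjective A B) (r : ℕ)
    (h : RankLE (algebraMap A B) r) : ringKrullDim A ≤ r := by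
  have h1 := finrank_cotangentSpace_le_of_rankLE A B hinj hs r h
  refine (ringKrullDim_le_spanFinrank_maximalIdeal A).trans ?_
  rw [spanFinrank_maximalIdeal_eq_finrank_cotangentSpace]
  exact_mod_cast h1

end ring

section square

/-- the rank bound passes from `f` at `j x'` to `g` at `x'` in a commutative square
`g ≫ ι = j ≫ f` with `ι` surjective on stalks. -/
theorem rankLE_of_square {U X Y' Y : Scheme.{u}} (j : U ⟶ X) (f : X ⟶ Y) (g : U ⟶ Y')
    (ι : Y' ⟶ Y) [SurjectiveOnStalks ι] (h : g ≫ ι = j ≫ f) (x' : U) (r : ℕ)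
    (H : RankLE (f.stalkMap (j x')).hom r) : RankLE (g.stalkMap x').hom r := by
  have e1 := Scheme.Hom.stalkMap_congr_hom (g ≫ ι) (j ≫ f) h x'
  have e2 := Scheme.Hom.stalkMap_comp j f x'
  have e3 := Scheme.Hom.stalkMap_comp g ι x'
  rw [e2, e3] at e1
  -- `φ₂`
  have h2 : RankLE ((j.stalkMap x').hom.comp (f.stalkMap (j x')).hom) r :=
    H.comp_right (j.stalkMap x').hom
  have hpt : ι (g x') = f (j x') := by
    rw [← Scheme.Hom.comp_apply, ← Scheme.Hom.comp_apply, h]
  have h3 : RankLE (((j.stalkMap x').hom.comp (f.stalkMap (j x')).hom).comp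
      (Y.presheaf.stalkCongr (.of_eq hpt)).hom.hom) r :=
    h2.comp_left _
  have e4 : ((j.stalkMap x').hom.comp (f.stalkMap (j x')).hom).comp
      (Y.presheaf.stalkCongr (.of_eq hpt)).hom.hom =
      (g.stalkMap x').hom.comp (ι.stalkMap (g x')).hom := by
    have := congrArg CommRingCat.Hom.hom e1
    simp only [CommRingCat.hom_comp] at this
    exact this.symm
  rw [e4] at h3
  exact RankLE.of_comp_surjective (ι.stalkMap (g x')).hom (ι.stalkMap_surjective (g x')) h3

end square

section integral

open Groth.Agent.S17413 Groth.Agent.Lib.Helper21.FieldDim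

set_option maxHeartbeats 800000 in
/-- **Lemma I**: a dominant morphism of integral `k`-schemes of finite type whose cotangent maps have
rank at most `r` on a dense set of closed points has target of dimension at most `r`. -/
theorem dim_le_of_rankLE_integral (k : Type u) [Field k] [IsAlgClosed k] [CharZero k]
    {U Y : Scheme.{u}} (qU : U ⟶ Spec (CommRingCat.of k)) (qY : Y ⟶ Spec (CommRingCat.of k))
    [LocallyOfFiniteType qU] [QuasiCompact qU] [LocallyOfFiniteType qY] [QuasiCompact qY]
    [IsIntegral U] [IsIntegral Y] (g : U ⟶ Y) (hg : g ≫ qY = qU) [IsDominant g] (r : ℕ)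
    (hD : ∀ W : U.Opens, (W : Set U).Nonempty → ∃ x ∈ W, IsClosed ({x} : Set U) ∧
      RankLE (g.stalkMap x).hom r) :
    topologicalKrullDim Y ≤ r := by
  haveI : IsLocallyNoetherian Y := LocallyOfFiniteType.isLocallyNoetherian qY
  haveI : IsLocallyNoetherian U := LocallyOfFiniteType.isLocallyNoetherian qU
  haveI : LocallyOfFiniteType (g ≫ qY) := by rw [hg]; infer_instance
  haveI : LocallyOfFiniteType g := locallyOfFiniteType_of_comp g qY
  haveI : LocallyOfFinitePresentation g :=
    LocallyOfFinitePresentation.iff_locallyOfFiniteType.mpr inferInstance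
  haveI : LocallyOfFinitePresentation qY :=
    LocallyOfFinitePresentation.iff_locallyOfFiniteType.mpr inferInstance
  -- generic point goes to generic point
  have hgen : g (genericPoint U) = genericPoint Y := by
    have h1 : IsGenericPoint (g (genericPoint U)) (closure (Set.range g)) := by
      have := (genericPoint_spec U).image g.continuous
      rwa [Set.image_univ] at this
    rw [(Scheme.Hom.denseRange g).closure_range] at h1
    exact h1.eq (genericPoint_spec Y)
  obtain ⟨V, hVne, hVsm⟩ := Groth.Agent.S10929.result k qU qY g hg (Scheme.Hom.denseRange g)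
  have hgV : genericPoint U ∈ V :=
    ((genericPoint_spec U).mem_open_set_iff V.2).mpr (by simpa using hVne)
  have hVle : V ≤ g.smoothLocus := by
    intro z hz
    have h1 : (V.ι ≫ g).smoothLocus = ⊤ := Scheme.Hom.smoothLocus_eq_top _
    have h2 : (⟨z, hz⟩ : V) ∈ (V.ι ≫ g).smoothLocus := by rw [h1]; trivial
    rw [← Scheme.Hom.preimage_smoothLocus_eq] at h2
    exact h2
  let RY : Y.Opens := qY.smoothLocus
  have hRY : Dense (RY : Set Y) := Scheme.Hom.dense_smoothLocus_of_perfectField qY
  have hgRY : genericPoint Y ∈ RY :=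
    ((genericPoint_spec Y).mem_open_set_iff RY.2).mpr (by simpa using hRY.nonempty)
  let T₁ : U.Opens := V ⊓ g ⁻¹ᵁ RY
  have hT₁ne : (T₁ : Set U).Nonempty :=
    ⟨genericPoint U, hgV, show g (genericPoint U) ∈ RY by rw [hgen]; exact hgRY⟩
  obtain ⟨P, hPT₁, hPcl, hrank⟩ := hD T₁ hT₁ne
  -- restrict to `T₁ → RY`
  have e : T₁ ≤ g ⁻¹ᵁ RY := fun z hz => hz.2
  let f₁ : (T₁ : Scheme.{u}) ⟶ (RY : Scheme.{u}) := g.resLE RY T₁ e
  have hf₁ : f₁ ≫ RY.ι = T₁.ι ≫ g := Scheme.Hom.resLE_comp_ι g e
  haveI : Smooth (RY.ι ≫ qY) := smooth_ι_comp_of_le_smoothLocus qY RY le_rfl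
  haveI : Smooth (T₁.ι ≫ g) := smooth_ι_comp_of_le_smoothLocus g T₁ (fun z hz => hVle hz.1)
  haveI : Smooth f₁ := by
    have h : Smooth (f₁ ≫ RY.ι) := by rw [hf₁]; infer_instance
    haveI : MorphismProperty.HasOfPostcompProperty @Smooth.{u}
        (MorphismProperty.monomorphisms Scheme.{u}) :=
      MorphismProperty.IsStableUnderBaseChange.hasOfPostcompProperty_monomorphisms
    exact MorphismProperty.of_postcomp (W := @Smooth)
      (W' := MorphismProperty.monomorphisms Scheme.{u}) f₁ RY.ι
      (inferInstanceAs (Mono RY.ι)) h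
  let P' : (T₁ : Scheme.{u}) := ⟨P, hPT₁⟩
  haveI : IsLocallyNoetherian (T₁ : Scheme.{u}) := isLocallyNoetherian_of_isOpenImmersion T₁.ι
  haveI : IsLocallyNoetherian (RY : Scheme.{u}) := isLocallyNoetherian_of_isOpenImmersion RY.ι
  have hci := (Groth.Agent.Lib.Helper73.CotSm.cotangentMapAt_injective_iff f₁ P').mp
    (Groth.Agent.Lib.Helper73.CotSm.cotangentMapAt_injective_of_smooth k (RY.ι ≫ qY) f₁ P')
  have hinj := cotInj_of_comm g f₁ T₁.ι RY.ι hf₁ P' hci
  -- the image point is closed
  have hycl : IsClosed ({g P} : Set Y) := by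
    apply isClosed_singleton_of_td_eq_zero qY
    have h1 := td_eq_add_tdR qU qY g hg P
    rw [td_eq_zero_of_isClosed_singleton qU hPcl] at h1
    omega
  letI := (g.stalkMap P).hom.toAlgebra
  haveI : IsLocalHom (algebraMap (Y.presheaf.stalk (g P)) (U.presheaf.stalk P)) :=
    inferInstanceAs (IsLocalHom (g.stalkMap P).hom)
  have hci' : CotInjective (Y.presheaf.stalk (g P)) (U.presheaf.stalk P) := hinj
  have hrs : ResSurjective (Y.presheaf.stalk (g P)) (U.presheaf.stalk P) :=
    Groth.Agent.Lib.Helper73.CotSm.resSurjective_of_isClosed k qU qY g hg P hPcl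
  have hdim := ringKrullDim_le_of_rankLE (Y.presheaf.stalk (g P)) (U.presheaf.stalk P) hci' hrs r
    hrank
  rwa [Groth.Agent.Lib.Helper73.CotSm.ringKrullDim_stalk_eq_of_isClosed k qY (g P) hycl] at hdim

end integral

section image

/-- The scheme-theoretic image of a quasi-compact morphism from a reduced scheme is reduced. -/
theorem isReduced_image {X W : Scheme.{u}} (f : W ⟶ X) [QuasiCompact f] [IsReduced W] :
    IsReduced f.image := by
  have hdom : IsSchemeTheoreticallyDominant f.toImage := by
    refine ⟨?_⟩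
    apply Scheme.IdealSheafData.ext_of_iSup_eq_top
      (fun U : X.affineOpens => (⟨f.imageι ⁻¹ᵁ U.1, U.2.preimage f.imageι⟩ : f.image.affineOpens))
    · rw [eq_top_iff]
      intro z _
      obtain ⟨_, ⟨U, hU, rfl⟩, hzU, -⟩ :=
        X.isBasis_affineOpens.exists_subset_of_mem_open (Set.mem_univ (f.imageι z)) isOpen_univ
      exact Opens.mem_iSup.2 ⟨⟨U, hU⟩, hzU⟩
    · intro U
      rw [Scheme.Hom.ker_apply]
      change RingHom.ker (f.toImage.app (f.imageι ⁻¹ᵁ U.1)).hom = ⊥
      rw [← RingHom.injective_iff_ker_eq_bot]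
      exact f.toImage_app_injective U
  exact IsSchemeTheoreticallyDominant.isReduced f.toImage

/-- The scheme-theoretic image of a quasi-compact morphism from an integral scheme is integral. -/
theorem isIntegral_image {X W : Scheme.{u}} (f : W ⟶ X) [QuasiCompact f] [IsIntegral W] :
    IsIntegral f.image := by
  have := isReduced_image f
  have hirr : IrreducibleSpace f.image := by
    rw [irreducibleSpace_def]
    have hd := (inferInstance : IsDominant f.toImage).denseRange
    rw [denseRange_iff_closure_range] at hd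
    rw [Set.top_eq_univ, ← hd, ← Set.image_univ]
    exact ((irreducibleSpace_def _).mp inferInstance |>.image _
      f.toImage.continuous.continuousOn).closure
  exact isIntegral_of_irreducibleSpace_of_isReduced f.image

end image

section middle

open Groth.Agent.Lib.Helper21.FieldDim

set_option maxHeartbeats 800000 in
/-- **Lemma M**. -/
theorem td_le_of_rankLE (k : Type u) [Field k] [IsAlgClosed k] [CharZero k]
    {X Y : Scheme.{u}} (qX : X ⟶ Spec (CommRingCat.of k)) (qY : Y ⟶ Spec (CommRingCat.of k))
    [LocallyOfFiniteType qX] [QuasiCompact qX] [LocallyOfFiniteType qY] [QuasiCompact qY]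
    (f : X ⟶ Y) (hf : f ≫ qY = qX) (r : ℕ) (D : Set X)
    (hDr : ∀ x ∈ D, IsClosed ({x} : Set X) ∧ RankLE (f.stalkMap x).hom r) (ξ : X)
    (hξ : ξ ∈ closure (D ∩ closure {ξ})) : td qY (f ξ) ≤ r := by
  haveI : IsLocallyNoetherian X := LocallyOfFiniteType.isLocallyNoetherian qX
  haveI : CompactSpace X := QuasiCompact.compactSpace_of_compactSpace qX
  haveI : IsNoetherian X := { }
  let j₀ := X.fromSpecResidueField ξ
  haveI : QuasiCompact j₀ := inferInstance
  let U : Scheme.{u} := j₀.image
  let j : U ⟶ X := j₀.imageι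
  haveI : IsIntegral U := isIntegral_image j₀
  have hrange : Set.range j = closure {ξ} := by
    rw [Scheme.IdealSheafData.range_subschemeι, Scheme.Hom.support_ker,
      Scheme.range_fromSpecResidueField]
  haveI : IsLocallyNoetherian U := LocallyOfFiniteType.isLocallyNoetherian (j ≫ qX)
  haveI : CompactSpace U := QuasiCompact.compactSpace_of_compactSpace (j ≫ qX)
  haveI : IsNoetherian U := { }
  let g₀ : U ⟶ Y := j ≫ f
  haveI : QuasiCompact g₀ := inferInstance
  let Y' : Scheme.{u} := g₀.image
  let g : U ⟶ Y' := g₀.toImage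
  let ι : Y' ⟶ Y := g₀.imageι
  have hgι : g ≫ ι = j ≫ f := g₀.toImage_imageι
  haveI : IsIntegral Y' := isIntegral_image g₀
  let qU : U ⟶ Spec (CommRingCat.of k) := j ≫ qX
  let qY' : Y' ⟶ Spec (CommRingCat.of k) := ι ≫ qY
  have hg : g ≫ qY' = qU := by
    change g ≫ ι ≫ qY = j ≫ qX
    rw [← Category.assoc, hgι, Category.assoc, hf]
  haveI : IsDominant g := inferInstanceAs (IsDominant g₀.toImage)
  -- the generic point of `U` lies over `ξ`
  have hjgen : j (genericPoint U) = ξ := by
    have h1 : IsGenericPoint (j (genericPoint U)) (closure (Set.range j)) := by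
      have := (genericPoint_spec U).image j.continuous
      rwa [Set.image_univ] at this
    rw [hrange, closure_closure] at h1
    exact h1.eq isGenericPoint_closure
  have hdim : topologicalKrullDim Y' ≤ r := by
    refine dim_le_of_rankLE_integral k qU qY' g hg r ?_
    intro W hW
    have hgW : genericPoint U ∈ W :=
      ((genericPoint_spec U).mem_open_set_iff W.2).mpr (by simpa using hW)
    obtain ⟨W₀, hW₀, hW₀W⟩ := j.isEmbedding.isInducing.isOpen_iff.mp W.2
    have hξW₀ : ξ ∈ W₀ := by
      have : genericPoint U ∈ j ⁻¹' W₀ := by rw [hW₀W]; exact hgW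
      rwa [Set.mem_preimage, hjgen] at this
    obtain ⟨x, hxW₀, hxD, hxcl⟩ := mem_closure_iff.mp hξ W₀ hW₀ hξW₀
    rw [← hrange] at hxcl
    obtain ⟨x', rfl⟩ := hxcl
    have hx'W : x' ∈ W := by
      have : x' ∈ j ⁻¹' W₀ := hxW₀
      rwa [hW₀W] at this
    obtain ⟨hcl, hrk⟩ := hDr _ hxD
    refine ⟨x', hx'W, ?_, rankLE_of_square j f g ι hgι x' r hrk⟩
    have : ({x'} : Set U) = j ⁻¹' {j x'} := by
      ext z
      simp only [Set.mem_singleton_iff, Set.mem_preimage]
      exact ⟨fun h => by rw [h], fun h => j.isEmbedding.injective h⟩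
    rw [this]
    exact hcl.preimage j.continuous
  -- conclude
  have hpt : ι (g (genericPoint U)) = f ξ := by
    rw [← Scheme.Hom.comp_apply, hgι, Scheme.Hom.comp_apply, hjgen]
  have h1 := td_eq_add_tdR qY' qY ι rfl (g (genericPoint U))
  have h2 := td_le_dim qY' (g (genericPoint U))
  rw [hpt] at h1
  have h3 : ((td qY' (g (genericPoint U)) : ℕ) : WithBot ℕ∞) ≤ (r : ℕ) := h2.trans hdim
  have h4 : td qY' (g (genericPoint U)) ≤ r := by exact_mod_cast h3
  omega

end middle

section main

open Groth.Agent.Lib.Helper21.FieldDim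

set_option maxHeartbeats 800000 in
theorem dim_closure_image_le (k : Type u) [Field k] [IsAlgClosed k] [CharZero k]
    {X Y : Scheme.{u}} (qX : X ⟶ Spec (CommRingCat.of k)) (qY : Y ⟶ Spec (CommRingCat.of k))
    [LocallyOfFiniteType qX] [QuasiCompact qX] [LocallyOfFiniteType qY] [QuasiCompact qY]
    (f : X ⟶ Y) (hf : f ≫ qY = qX) (r : ℕ) (D : Set X)
    (hDr : ∀ x ∈ D, IsClosed ({x} : Set X) ∧ RankLE (f.stalkMap x).hom r) :
    topologicalKrullDim ↥(closure (f '' D)) ≤ r := by
  haveI : IsLocallyNoetherian X := LocallyOfFiniteType.isLocallyNoetherian qX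
  haveI : CompactSpace X := QuasiCompact.compactSpace_of_compactSpace qX
  haveI : IsNoetherian X := { }
  rw [dim_le_iff_of_isLocallyClosed qY _ isClosed_closure.isLocallyClosed]
  have key : ∀ C : Closeds X, ∀ y ∈ closure (f '' (D ∩ (C : Set X))), td qY y ≤ r := by
    intro C
    apply wellFounded_lt.induction C; clear C
    intro C IH y hy
    by_cases hdense : closure (D ∩ (C : Set X)) = (C : Set X)
    · rcases eq_or_ne C ⊥ with rfl | h₀
      · simp at hy
      by_cases h₁ : IsPreirreducible (C : Set X)
      · have hirr : IsIrreducible (C : Set X) := ⟨Closeds.coe_nonempty.2 h₀, h₁⟩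
        let ξ : X := hirr.genericPoint
        have hξ : IsGenericPoint ξ (C : Set X) := hirr.isGenericPoint_genericPoint C.2
        have hξ' : closure {ξ} = (C : Set X) := hξ.def
        have h1 : td qY (f ξ) ≤ r :=
          td_le_of_rankLE k qX qY f hf r D hDr ξ (by
            rw [hξ', hdense, ← hξ']; exact subset_closure rfl)
        have h2 : f ξ ⤳ y := by
          rw [specializes_iff_mem_closure]
          have hsub : closure (f '' (D ∩ (C : Set X))) ⊆ closure {f ξ} := by
            apply closure_minimal _ isClosed_closure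
            rintro _ ⟨x, ⟨-, hxC⟩, rfl⟩
            have hsp : ξ ⤳ x := by rw [specializes_iff_mem_closure, hξ']; exact hxC
            exact specializes_iff_mem_closure.mp (hsp.map f.continuous)
          exact hsub hy
        exact (td_le_of_specializes qY h2).trans h1
      · simp only [isPreirreducible_iff_isClosed_union_isClosed, not_forall, not_or] at h₁
        obtain ⟨z₁, z₂, hz₁, hz₂, h, hz₁', hz₂'⟩ := h₁
        lift z₁ to Closeds X using hz₁
        lift z₂ to Closeds X using hz₂
        have IH₁ := IH (C ⊓ z₁) (inf_lt_left.2 hz₁')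
        have IH₂ := IH (C ⊓ z₂) (inf_lt_left.2 hz₂')
        have hsplit : D ∩ (C : Set X) =
            (D ∩ ((C ⊓ z₁ : Closeds X) : Set X)) ∪ (D ∩ ((C ⊓ z₂ : Closeds X) : Set X)) := by
          ext x
          simp only [Set.mem_inter_iff, Set.mem_union, Closeds.coe_inf, SetLike.mem_coe]
          constructor
          · rintro ⟨hxD, hxC⟩
            rcases h hxC with hx | hx
            · exact Or.inl ⟨hxD, hxC, hx⟩
            · exact Or.inr ⟨hxD, hxC, hx⟩
          · rintro (⟨hxD, hxC, -⟩ | ⟨hxD, hxC, -⟩) <;> exact ⟨hxD, hxC⟩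
        rw [hsplit, Set.image_union, closure_union] at hy
        rcases hy with hy | hy
        · exact IH₁ y hy
        · exact IH₂ y hy
    · let C' : Closeds X := ⟨closure (D ∩ (C : Set X)), isClosed_closure⟩
      have hle : C' ≤ C := by
        intro x hx
        exact closure_minimal Set.inter_subset_right C.2 hx
      have hlt : C' < C := lt_of_le_of_ne hle (fun h => hdense (congrArg (fun Z : Closeds X => (Z : Set X)) h))
      have hDC : D ∩ (C : Set X) = D ∩ (C' : Set X) := by
        ext x
        constructor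
        · rintro ⟨hxD, hxC⟩
          exact ⟨hxD, subset_closure ⟨hxD, hxC⟩⟩
        · rintro ⟨hxD, hxC'⟩
          exact ⟨hxD, hle hxC'⟩
      rw [hDC] at hy
      exact IH C' hlt y hy
  intro y hy
  have := key ⊤ y (by simpa using hy)
  exact_mod_cast this

end main

end Groth.Agent.S10938
end S10938helpers

namespace Groth.Agent.S10938

/-- Let k be an algebraically closed field of characteristic zero, X and Y schemes of finite type over
k, f : X → Y a k-morphism and r a natural number. Let X_r be the set of closed points x of X such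
that the tangent map T_x f : T_x X → T_{f(x)} Y has rank at most r — equivalently, the image of the
cotangent map m_{f(x)}/m_{f(x)}^2 → m_x/m_x^2 is contained in the span of at most r vectors over the
residue field. Then the closure of f(X_r) in Y has (topological Krull) dimension at most r. -/
theorem result (k : Type u) [Field k] [IsAlgClosed k] [CharZero k]
    {X Y : Scheme.{u}} (qX : X ⟶ Spec (CommRingCat.of k)) (qY : Y ⟶ Spec (CommRingCat.of k))
    [LocallyOfFiniteType qX] [QuasiCompact qX] [LocallyOfFiniteType qY] [QuasiCompact qY]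
    (f : X ⟶ Y) (hf : f ≫ qY = qX) (r : ℕ) :
    topologicalKrullDim ↥(closure (f.base '' {x : ↥X | IsClosed ({x} : Set ↥X) ∧
      ∃ S : Finset (IsLocalRing.CotangentSpace (X.presheaf.stalk x)), S.card ≤ r ∧
        (LinearMap.range (FixPt.cotangentMapAt f x (f.base x) rfl) : Set (IsLocalRing.CotangentSpace (X.presheaf.stalk x))) ⊆
          (Submodule.span (IsLocalRing.ResidueField (X.presheaf.stalk x))
            (S : Set (IsLocalRing.CotangentSpace (X.presheaf.stalk x))) : Set (IsLocalRing.CotangentSpace (X.presheaf.stalk x)))})) ≤ r := by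
  refine dim_closure_image_le k qX qY f hf r _ ?_
  rintro x ⟨hxcl, S, hS, hrange⟩
  refine ⟨hxcl, S, hS, fun a ha h => ?_⟩
  apply hrange
  refine ⟨(IsLocalRing.maximalIdeal _).toCotangent ⟨a, ha⟩, ?_⟩
  exact Groth.Agent.Lib.Helper73.CotSm.cotangentMapAt_toCotangent f x ⟨a, ha⟩

end Groth.Agent.S10938
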