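import Groth.Statements.S15708
-- import your own Groth.Agent.* helpers here

set_option autoImplicit false
universe u v
open CAlg

namespace Groth.Agent.S15708


theorem aux {R : Type u} {A : Type v} [CommRing R] [CommRing A]
    [Algebra R A] (𝒜 : ℕ → Submodule R A) [GradedRing 𝒜]
    (J : Ideal A) (hJ : J.IsHomogeneous 𝒜) : ∀ (P : Finset (Ideal A)),
    (∀ p ∈ P, p.IsPrime ∧ ¬ (HomogeneousIdeal.irrelevant 𝒜).toIdeal ≤ p ∧ ¬ J ≤ p) →
    ∃ (z : A) (n : ℕ), 0 < n ∧ z ∈ 𝒜 n ∧ z ∈ J ∧ ∀ p ∈ P, z ∉ p := by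
  classical
  intro P
  induction P using Finset.strongInduction with
  | H P ih =>
    intro hP
    rcases P.eq_empty_or_nonempty with rfl | ⟨p₁, hp₁⟩
    · exact ⟨0, 1, one_pos, zero_mem _, zero_mem _, by simp⟩
    have key : ∀ p ∈ P, ∃ (z : A) (n : ℕ), 0 < n ∧ z ∈ 𝒜 n ∧ z ∈ J ∧ ∀ q ∈ P.erase p, z ∉ q :=
      fun p hp => ih (P.erase p) (Finset.erase_ssubset hp)
        (fun q hq => hP q (Finset.mem_of_mem_erase hq))
    by_cases hex : ∃ p ∈ P, ∃ (z : A) (n : ℕ), 0 < n ∧ z ∈ 𝒜 n ∧ z ∈ J ∧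
        (∀ q ∈ P.erase p, z ∉ q) ∧ z ∉ p
    · obtain ⟨p, hp, z, n, hn, hz, hzJ, hzq, hzp⟩ := hex
      refine ⟨z, n, hn, hz, hzJ, fun q hq => ?_⟩
      by_cases hqp : q = p
      · subst hqp; exact hzp
      · exact hzq q (Finset.mem_erase.mpr ⟨hqp, hq⟩)
    push Not at hex
    choose! z n hn hz hzJ hzq using key
    have hzp : ∀ p ∈ P, z p ∈ p := fun p hp =>
      hex p hp (z p) (n p) (hn p hp) (hz p hp) (hzJ p hp) (hzq p hp)
    obtain ⟨hp₁prime, hp₁irr, hp₁J⟩ := hP p₁ hp₁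
    rcases (P.erase p₁).eq_empty_or_nonempty with hQe | hQne
    · -- `P = {p₁}`
      have hPeq : ∀ q ∈ P, q = p₁ := by
        intro q hq
        by_contra hne
        have : q ∈ P.erase p₁ := Finset.mem_erase.mpr ⟨hne, hq⟩
        rw [hQe] at this
        exact absurd this (Finset.notMem_empty q)
      have hnot : ¬ J ⊓ (HomogeneousIdeal.irrelevant 𝒜).toIdeal ≤ p₁ := by
        intro hle
        have := (Ideal.mul_le_inf.trans hle)
        rcases (hp₁prime.mul_le).1 this with h | h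
        · exact hp₁J h
        · exact hp₁irr h
      obtain ⟨x, hx, hxp⟩ := SetLike.not_le_iff_exists.mp hnot
      have hxJ : x ∈ J := hx.1
      have hxirr : x ∈ (HomogeneousIdeal.irrelevant 𝒜).toIdeal := hx.2
      have hcomp : ∃ i, (DirectSum.decompose 𝒜 x i : A) ∉ p₁ := by
        by_contra hall
        push Not at hall
        apply hxp
        rw [← DirectSum.sum_support_decompose 𝒜 x]
        exact Ideal.sum_mem _ (fun i _ => hall i)
      obtain ⟨i, hi⟩ := hcomp
      have hi0 : i ≠ 0 := by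
        rintro rfl
        apply hi
        have h0 : GradedRing.proj 𝒜 0 x = 0 :=
          (HomogeneousIdeal.mem_irrelevant_iff 𝒜 x).mp hxirr
        rw [GradedRing.proj_apply] at h0
        rw [h0]
        exact zero_mem _
      refine ⟨(DirectSum.decompose 𝒜 x i : A), i, Nat.pos_of_ne_zero hi0, SetLike.coe_mem _,
        hJ i hxJ, fun q hq => ?_⟩
      rw [hPeq q hq]
      exact hi
    · -- general case
      set Q := P.erase p₁ with hQ
      set w : A := ∏ p ∈ Q, z p with hw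
      set D : ℕ := ∑ p ∈ Q, n p with hD
      have hDpos : 0 < D :=
        Finset.sum_pos (fun p hp => hn p (Finset.mem_of_mem_erase hp)) hQne
      have hwD : w ∈ 𝒜 D :=
        SetLike.prod_mem_graded 𝒜 n z (fun p hp => hz p (Finset.mem_of_mem_erase hp))
      obtain ⟨q₀, hq₀⟩ := hQne
      have hwJ : w ∈ J := by
        rw [hw, ← Finset.mul_prod_erase Q z hq₀]
        exact Ideal.mul_mem_right _ _ (hzJ q₀ (Finset.mem_of_mem_erase hq₀))
      have hn₁ : 0 < n p₁ := hn p₁ hp₁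
      have hdeg1 : z p₁ ^ D ∈ 𝒜 (D * n p₁) := by
        have := SetLike.pow_mem_graded D (hz p₁ hp₁)
        simpa [smul_eq_mul] using this
      have hdeg2 : w ^ n p₁ ∈ 𝒜 (D * n p₁) := by
        have := SetLike.pow_mem_graded (n p₁) hwD
        rw [smul_eq_mul, mul_comm] at this
        exact this
      refine ⟨z p₁ ^ D + w ^ n p₁, D * n p₁, Nat.mul_pos hDpos hn₁,
        Submodule.add_mem _ hdeg1 hdeg2,
        J.add_mem (Ideal.pow_mem_of_mem J (hzJ p₁ hp₁) D hDpos)
          (Ideal.pow_mem_of_mem J hwJ (n p₁) hn₁), fun q hq hmem => ?_⟩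
      by_cases hqp : q = p₁
      · subst hqp
        have h1 : z q ^ D ∈ q := Ideal.pow_mem_of_mem q (hzp q hq) D hDpos
        have h2 : w ^ n q ∈ q := (Ideal.add_mem_iff_right q h1).mp hmem
        have h3 : w ∈ q := hp₁prime.mem_of_pow_mem _ h2
        rw [hw] at h3
        obtain ⟨p', hp'Q, hp'⟩ := (hp₁prime.prod_mem_iff).mp h3
        exact hzq p' (Finset.mem_of_mem_erase hp'Q) q
          (Finset.mem_erase.mpr ⟨fun h => (Finset.mem_erase.mp hp'Q).1 h.symm, hq⟩) hp'
      · have hqQ : q ∈ Q := Finset.mem_erase.mpr ⟨hqp, hq⟩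
        have hqprime : q.IsPrime := (hP q hq).1
        have h3 : w ∈ q := by
          rw [hw, ← Finset.mul_prod_erase Q z hqQ]
          exact Ideal.mul_mem_right _ _ (hzp q hq)
        have h2 : w ^ n p₁ ∈ q := Ideal.pow_mem_of_mem q h3 (n p₁) hn₁
        have h1 : z p₁ ^ D ∈ q := (Ideal.add_mem_iff_left q h2).mp hmem
        have h0 : z p₁ ∈ q := hqprime.mem_of_pow_mem _ h1
        exact hzq p₁ hp₁ q hqQ h0

/-- Let A be a Noetherian commutative ring graded by the natural numbers, J a homogeneous ideal, and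
p_1, ..., p_r finitely many prime ideals such that no p_i contains the irrelevant ideal A_+ and no
p_i contains J. Then there is a homogeneous element z of positive degree with z in J and z in no
p_i. -/
theorem result {R : Type u} {A : Type v} [CommRing R] [CommRing A]
    [Algebra R A] [IsNoetherianRing A] (𝒜 : ℕ → Submodule R A) [GradedRing 𝒜]
    (J : Ideal A) (hJ : J.IsHomogeneous 𝒜) (P : Finset (Ideal A))
    (hP : ∀ p ∈ P, p.IsPrime ∧ ¬ (HomogeneousIdeal.irrelevant 𝒜).toIdeal ≤ p ∧ ¬ J ≤ p) :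
    ∃ (z : A) (n : ℕ), 0 < n ∧ z ∈ 𝒜 n ∧ z ∈ J ∧ ∀ p ∈ P, z ∉ p := by
  exact aux 𝒜 J hJ P hP

end Groth.Agent.S15708
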