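import Groth.Statements.S10939
import Groth.Agent.Lib.Helper14.PD3
import Groth.Agent.S15708

set_option autoImplicit false
universe u
open CategoryTheory CategoryTheory.Limits AlgebraicGeometry
open Variety

namespace Groth.Agent.S10939

namespace HC
open Groth.Agent.Lib.Helper14.PD3 Groth.Agent.Lib.Helper14.PD2 Groth.Agent.Lib.Helper14.PD1
open MvPolynomial Order

section core
variable {k : Type u} [Field k] {σ : Type} [Finite σ]

attribute [local instance] MvPolynomial.gradedAlgebra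

local notation "𝒜" => homogeneousSubmodule σ k

omit [Finite σ] in
theorem coheight_le_of_mem {X₀ : Set (ProjectiveSpectrum 𝒜)} (hX : IsClosed X₀) (r : ℕ)
    (hdim : topologicalKrullDim ↥X₀ = r) (z : ProjectiveSpectrum 𝒜) (hz : z ∈ X₀) :
    Order.coheight z ≤ (r : ℕ∞) := by
  rw [Order.coheight_le_iff']
  intro p hp
  have hmem : ∀ i, p i ∈ X₀ := by
    intro i
    refine mem_of_le specOrd hX hz ?_
    rw [← hp]
    exact LTSeries.head_le p i
  let q : LTSeries ↥X₀ := ⟨p.length, fun i => ⟨p i, hmem i⟩, fun i => p.step i⟩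
  have h1 : (q.length : WithBot ℕ∞) ≤ krullDim ↥X₀ := LTSeries.length_le_krullDim q
  rw [← topologicalKrullDim_subtype_eq specOrd hX, hdim] at h1
  have h2 : (p.length : WithBot ℕ∞) ≤ (r : WithBot ℕ∞) := h1
  exact_mod_cast h2

theorem claim {X₀ Y₀ : Set (ProjectiveSpectrum 𝒜)} (hX : IsClosed X₀) (hY : IsClosed Y₀) (r : ℕ)
    (hdim : topologicalKrullDim ↥X₀ = r) : ∀ j : ℕ,
    ∃ h : Fin j → MvPolynomial σ k,
      (∀ i, ∃ d : ℕ, 0 < d ∧ (h i).IsHomogeneous d) ∧
      (∀ i, ∀ y ∈ Y₀, h i ∈ y.asHomogeneousIdeal.toIdeal) ∧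
      (∀ z ∈ X₀, z ∉ Y₀ → (∀ i, h i ∈ z.asHomogeneousIdeal.toIdeal) →
        Order.coheight z + (j : ℕ∞) ≤ (r : ℕ∞)) := by
  classical
  intro j
  induction j with
  | zero =>
    refine ⟨fun i => i.elim0, fun i => i.elim0, fun i => i.elim0, fun z hz _ _ => ?_⟩
    simpa using coheight_le_of_mem hX r hdim z hz
  | succ j ih =>
    obtain ⟨h, hh1, hh2, hh3⟩ := ih
    set IX := ProjectiveSpectrum.vanishingIdeal X₀ with hIX
    set IY := ProjectiveSpectrum.vanishingIdeal Y₀ with hIY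
    set J : Ideal (MvPolynomial σ k) := IX.toIdeal ⊔ Ideal.span (Set.range h) with hJ
    have hJhom : J.IsHomogeneous 𝒜 := by
      refine IX.isHomogeneous.sup (Ideal.homogeneous_span _ _ ?_)
      rintro _ ⟨i, rfl⟩
      obtain ⟨d, -, hd⟩ := hh1 i
      exact ⟨d, (mem_homogeneousSubmodule _ _).mpr hd⟩
    have hfin : J.minimalPrimes.Finite := Ideal.finite_minimalPrimes_of_isNoetherianRing _ J
    set P : Finset (Ideal (MvPolynomial σ k)) :=
      hfin.toFinset.filter (fun p => ¬ (HomogeneousIdeal.irrelevant 𝒜).toIdeal ≤ p ∧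
        ¬ IY.toIdeal ≤ p) with hP
    have hPprop : ∀ p ∈ P, p.IsPrime ∧ ¬ (HomogeneousIdeal.irrelevant 𝒜).toIdeal ≤ p ∧
        ¬ IY.toIdeal ≤ p := by
      intro p hp
      rw [hP, Finset.mem_filter, Set.Finite.mem_toFinset] at hp
      exact ⟨hp.1.1.1, hp.2⟩
    obtain ⟨g, m, hm, hgm, hgY, hgP⟩ :=
      Groth.Agent.S15708.aux 𝒜 IY.toIdeal IY.isHomogeneous P hPprop
    have hYz : ProjectiveSpectrum.zeroLocus 𝒜 (IY : Set (MvPolynomial σ k)) = Y₀ := by
      rw [hIY, ProjectiveSpectrum.zeroLocus_vanishingIdeal_eq_closure, hY.closure_eq]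
    have hXz : ProjectiveSpectrum.zeroLocus 𝒜 (IX : Set (MvPolynomial σ k)) = X₀ := by
      rw [hIX, ProjectiveSpectrum.zeroLocus_vanishingIdeal_eq_closure, hX.closure_eq]
    refine ⟨Fin.snoc h g, ?_, ?_, ?_⟩
    · intro i
      refine Fin.lastCases ?_ (fun i => ?_) i
      · rw [Fin.snoc_last]
        exact ⟨m, hm, (mem_homogeneousSubmodule _ _).mp hgm⟩
      · rw [Fin.snoc_castSucc]
        exact hh1 i
    · intro i
      refine Fin.lastCases ?_ (fun i => ?_) i
      · rw [Fin.snoc_last]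
        intro y hy
        exact (ProjectiveSpectrum.mem_vanishingIdeal _ _).mp hgY y hy
      · rw [Fin.snoc_castSucc]
        exact hh2 i
    · intro z hzX hzY hall
      have hgz : g ∈ z.asHomogeneousIdeal.toIdeal := by
        have := hall (Fin.last j)
        rwa [Fin.snoc_last] at this
      have hhz : ∀ i, h i ∈ z.asHomogeneousIdeal.toIdeal := by
        intro i
        have := hall i.castSucc
        rwa [Fin.snoc_castSucc] at this
      have hIXz : IX.toIdeal ≤ z.asHomogeneousIdeal.toIdeal := by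
        intro f hf
        exact (ProjectiveSpectrum.mem_vanishingIdeal _ _).mp hf z hzX
      have hJz : J ≤ z.asHomogeneousIdeal.toIdeal := by
        refine sup_le hIXz ?_
        rw [Ideal.span_le]
        rintro _ ⟨i, rfl⟩
        exact hhz i
      obtain ⟨w, hwz, hwmin⟩ := exists_minimal_point hJhom z hJz
      have hJw : J ≤ w.asHomogeneousIdeal.toIdeal := hwmin.1.2
      have hwX : w ∈ X₀ := by
        rw [← hXz, ProjectiveSpectrum.mem_zeroLocus]
        exact fun f hf => hJw (le_sup_left (a := IX.toIdeal) hf)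
      have hwIY : ¬ IY.toIdeal ≤ w.asHomogeneousIdeal.toIdeal := by
        intro hle
        apply hzY
        rw [← hYz, ProjectiveSpectrum.mem_zeroLocus]
        exact fun f hf => hwz (hle hf)
      have hwY : w ∉ Y₀ := by
        intro hw
        apply hwIY
        intro f hf
        exact (ProjectiveSpectrum.mem_vanishingIdeal _ _).mp hf w hw
      have hwP : w.asHomogeneousIdeal.toIdeal ∈ P := by
        rw [hP, Finset.mem_filter, Set.Finite.mem_toFinset]
        exact ⟨hwmin, w.not_irrelevant_le, hwIY⟩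
      have hgw : g ∉ w.asHomogeneousIdeal.toIdeal := hgP _ hwP
      have hlt : w < z := by
        refine lt_of_le_of_ne hwz ?_
        intro heq
        rw [heq] at hgw
        exact hgw hgz
      have hhw : ∀ i, h i ∈ w.asHomogeneousIdeal.toIdeal := by
        intro i
        exact hJw (le_sup_right (a := IX.toIdeal) (Ideal.subset_span ⟨i, rfl⟩))
      have h1 := hh3 w hwX hwY hhw
      have h2 : Order.coheight z + 1 ≤ Order.coheight w := Order.coheight_add_one_le hlt
      calc Order.coheight z + ((j + 1 : ℕ) : ℕ∞) = (Order.coheight z + 1) + (j : ℕ∞) := by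
            push_cast; ring
        _ ≤ Order.coheight w + (j : ℕ∞) := by gcongr
        _ ≤ r := h1

theorem core {X₀ Y₀ : Set (ProjectiveSpectrum 𝒜)} (hX : IsClosed X₀) (hY : IsClosed Y₀) (r : ℕ)
    (hdim : topologicalKrullDim ↥X₀ = r) :
    ∃ h : Fin (r + 1) → MvPolynomial σ k,
      (∀ i, ∃ d : ℕ, 0 < d ∧ (h i).IsHomogeneous d) ∧
      (∀ i, ∀ y ∈ Y₀, h i ∈ y.asHomogeneousIdeal.toIdeal) ∧
      (∀ z ∈ X₀, z ∉ Y₀ → ∃ i, h i ∉ z.asHomogeneousIdeal.toIdeal) := by
  obtain ⟨h, h1, h2, h3⟩ := claim hX hY r hdim (r + 1)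
  refine ⟨h, h1, h2, fun z hzX hzY => ?_⟩
  by_contra hcon
  push Not at hcon
  have := h3 z hzX hzY hcon
  have h4 : ((r + 1 : ℕ) : ℕ∞) ≤ (r : ℕ∞) := le_trans (le_add_self) this
  have : r + 1 ≤ r := by exact_mod_cast h4
  omega

end core

theorem main (k : Type u) [Field k] (n r : ℕ)
    {X Y : Scheme.{u}} (iX : X ⟶ CohB1.ProjSpace n k) (iY : Y ⟶ CohB1.ProjSpace n k)
    [IsClosedImmersion iX] [IsClosedImmersion iY] (hX : topologicalKrullDim ↥X = r) :
    ∃ (h : Fin (r + 1) → MvPolynomial (Fin (n + 1)) k) (D : Fin (r + 1) → (CohB1.ProjSpace n k).Opens),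
      (∀ j, D j = Proj.basicOpen (CohB1.polyGrading n k) (h j)) ∧
      (∀ j, ∃ d : ℕ, 0 < d ∧ (h j).IsHomogeneous d) ∧
      (∀ j, Set.range iY.base ⊆ (D j : Set ↥(CohB1.ProjSpace n k))ᶜ) ∧
      (Set.range iX.base \ Set.range iY.base ⊆ ⋃ j, (D j : Set ↥(CohB1.ProjSpace n k))) ∧
      ∀ j, IsAffineOpen (iX ⁻¹ᵁ (D j)) := by
  have hXc : IsClosed (Set.range iX.base) := iX.isClosedEmbedding.isClosed_range
  have hYc : IsClosed (Set.range iY.base) := iY.isClosedEmbedding.isClosed_range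
  have hdim : topologicalKrullDim ↥(Set.range iX.base) = r := by
    rw [← hX]
    exact ((iX.isClosedEmbedding.isEmbedding.toHomeomorph).isHomeomorph.topologicalKrullDim_eq _).symm
  obtain ⟨h, h1, h2, h3⟩ := core (k := k) (σ := Fin (n + 1))
    (X₀ := Set.range iX.base) (Y₀ := Set.range iY.base) hXc hYc r hdim
  refine ⟨h, fun j => Proj.basicOpen (CohB1.polyGrading n k) (h j), fun j => rfl, h1, ?_, ?_, ?_⟩
  · intro j y hy hyD
    exact hyD (h2 j y hy)
  · rintro z ⟨hzX, hzY⟩
    obtain ⟨i, hi⟩ := h3 z hzX hzY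
    exact Set.mem_iUnion.mpr ⟨i, hi⟩
  · intro j
    obtain ⟨d, hd, hhd⟩ := h1 j
    have hU : @IsAffineOpen (CohB1.ProjSpace n k)
        (Proj.basicOpen (CohB1.polyGrading n k) (h j)) :=
      Proj.isAffineOpen_basicOpen (CohB1.polyGrading n k) (h j)
        ((MvPolynomial.mem_homogeneousSubmodule _ _).mpr hhd) hd
    exact hU.preimage iX

end HC


/-- Let k be a field, P = P^n_k = Proj k[x_0, …, x_n], and i_X : X → P, i_Y : Y → P closed immersions
with X of dimension r. Then there are homogeneous polynomials h_1, …, h_{r+1} of positive degree,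
with basic opens D_j = D_+(h_j) and hypersurfaces H_j = P ∖ D_j, such that every H_j contains Y and
X ∖ Y = ⋃_j (X ∖ H_j), i.e. every point of X outside Y lies in some D_j; moreover each X ∖ H_j = X ∩
D_j is affine. (The published statement takes X and Y reduced; the assertion only concerns the
underlying closed sets.) -/
theorem result (k : Type u) [Field k] (n r : ℕ)
    {X Y : Scheme.{u}} (iX : X ⟶ CohB1.ProjSpace n k) (iY : Y ⟶ CohB1.ProjSpace n k)
    [IsClosedImmersion iX] [IsClosedImmersion iY] (hX : topologicalKrullDim ↥X = r) :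
    ∃ (h : Fin (r + 1) → MvPolynomial (Fin (n + 1)) k) (D : Fin (r + 1) → (CohB1.ProjSpace n k).Opens),
      (∀ j, D j = Proj.basicOpen (CohB1.polyGrading n k) (h j)) ∧
      (∀ j, ∃ d : ℕ, 0 < d ∧ (h j).IsHomogeneous d) ∧
      (∀ j, Set.range iY.base ⊆ (D j : Set ↥(CohB1.ProjSpace n k))ᶜ) ∧
      (Set.range iX.base \ Set.range iY.base ⊆ ⋃ j, (D j : Set ↥(CohB1.ProjSpace n k))) ∧
      ∀ j, IsAffineOpen (iX ⁻¹ᵁ (D j)) :=
  HC.main k n r iX iY hX

end Groth.Agent.S10939
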