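import Groth.Statements.S10940
import Groth.Agent.Lib.Helper14.PD3
import Groth.Agent.S15708

set_option autoImplicit false
universe u
open CategoryTheory CategoryTheory.Limits AlgebraicGeometry
open Variety

namespace Groth.Agent.S10940

namespace HD
open Groth.Agent.Lib.Helper14.PD3 Groth.Agent.Lib.Helper14.PD2 Groth.Agent.Lib.Helper14.PD1
open MvPolynomial Order

section core
variable {k : Type u} [Field k] {σ : Type} [Finite σ]

attribute [local instance] MvPolynomial.gradedAlgebra

local notation "𝒜" => homogeneousSubmodule σ k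

theorem claim {X₀ Y₀ : Set (ProjectiveSpectrum 𝒜)} (hX : IsClosed X₀) (hY : IsClosed Y₀) (r : ℕ)
    (hdim : krullDim ↥(X₀ \ Y₀) ≤ (r : WithBot ℕ∞)) : ∀ j : ℕ,
    ∃ h : Fin j → MvPolynomial σ k,
      (∀ i, ∃ d : ℕ, 0 < d ∧ (h i).IsHomogeneous d) ∧
      (∀ i, ∀ y ∈ Y₀, h i ∈ y.asHomogeneousIdeal.toIdeal) ∧
      (∀ z : ↥(X₀ \ Y₀), (∀ i, h i ∈ z.1.asHomogeneousIdeal.toIdeal) →
        Order.coheight z + (j : ℕ∞) ≤ (r : ℕ∞)) := by
  classical
  intro j
  induction j with
  | zero =>
    refine ⟨fun i => i.elim0, fun i => i.elim0, fun i => i.elim0, fun z _ => ?_⟩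
    have h1 : ((Order.coheight z : ℕ∞) : WithBot ℕ∞) ≤ (r : WithBot ℕ∞) :=
      (Order.coheight_le_krullDim z).trans hdim
    have h2 : Order.coheight z ≤ (r : ℕ∞) := by exact_mod_cast h1
    simpa using h2
  | succ j ih =>
    obtain ⟨h, hh1, hh2, hh3⟩ := ih
    set IX := ProjectiveSpectrum.vanishingIdeal X₀ with hIX
    set IY := ProjectiveSpectrum.vanishingIdeal Y₀ with hIY
    set J : Ideal (MvPolynomial σ k) := IX.toIdeal ⊔ Ideal.span (Set.range h) with hJ
    have hJhom : J.IsHomogeneous 𝒜 := by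
      refine IX.isHomogeneous.sup (Ideal.homogeneous_span _ _ ?_)
      rintro _ ⟨i, rfl⟩
      obtain ⟨d, -, hd⟩ := hh1 i
      exact ⟨d, (mem_homogeneousSubmodule _ _).mpr hd⟩
    have hfin : J.minimalPrimes.Finite := Ideal.finite_minimalPrimes_of_isNoetherianRing _ J
    set P : Finset (Ideal (MvPolynomial σ k)) :=
      hfin.toFinset.filter (fun p => ¬ (HomogeneousIdeal.irrelevant 𝒜).toIdeal ≤ p ∧
        ¬ IY.toIdeal ≤ p) with hP
    have hPprop : ∀ p ∈ P, p.IsPrime ∧ ¬ (HomogeneousIdeal.irrelevant 𝒜).toIdeal ≤ p ∧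
        ¬ IY.toIdeal ≤ p := by
      intro p hp
      rw [hP, Finset.mem_filter, Set.Finite.mem_toFinset] at hp
      exact ⟨hp.1.1.1, hp.2⟩
    obtain ⟨g, m, hm, hgm, hgY, hgP⟩ :=
      Groth.Agent.S15708.aux 𝒜 IY.toIdeal IY.isHomogeneous P hPprop
    have hYz : ProjectiveSpectrum.zeroLocus 𝒜 (IY : Set (MvPolynomial σ k)) = Y₀ := by
      rw [hIY, ProjectiveSpectrum.zeroLocus_vanishingIdeal_eq_closure, hY.closure_eq]
    have hXz : ProjectiveSpectrum.zeroLocus 𝒜 (IX : Set (MvPolynomial σ k)) = X₀ := by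
      rw [hIX, ProjectiveSpectrum.zeroLocus_vanishingIdeal_eq_closure, hX.closure_eq]
    refine ⟨Fin.snoc h g, ?_, ?_, ?_⟩
    · intro i
      refine Fin.lastCases ?_ (fun i => ?_) i
      · rw [Fin.snoc_last]
        exact ⟨m, hm, (mem_homogeneousSubmodule _ _).mp hgm⟩
      · rw [Fin.snoc_castSucc]
        exact hh1 i
    · intro i
      refine Fin.lastCases ?_ (fun i => ?_) i
      · rw [Fin.snoc_last]
        intro y hy
        exact (ProjectiveSpectrum.mem_vanishingIdeal _ _).mp hgY y hy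
      · rw [Fin.snoc_castSucc]
        exact hh2 i
    · rintro ⟨z, hzX, hzY⟩ hall
      have hgz : g ∈ z.asHomogeneousIdeal.toIdeal := by
        have := hall (Fin.last j)
        rwa [Fin.snoc_last] at this
      have hhz : ∀ i, h i ∈ z.asHomogeneousIdeal.toIdeal := by
        intro i
        have := hall i.castSucc
        rwa [Fin.snoc_castSucc] at this
      have hIXz : IX.toIdeal ≤ z.asHomogeneousIdeal.toIdeal := by
        intro f hf
        exact (ProjectiveSpectrum.mem_vanishingIdeal _ _).mp hf z hzX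
      have hJz : J ≤ z.asHomogeneousIdeal.toIdeal := by
        refine sup_le hIXz ?_
        rw [Ideal.span_le]
        rintro _ ⟨i, rfl⟩
        exact hhz i
      obtain ⟨w, hwz, hwmin⟩ := exists_minimal_point hJhom z hJz
      have hJw : J ≤ w.asHomogeneousIdeal.toIdeal := hwmin.1.2
      have hwX : w ∈ X₀ := by
        rw [← hXz, ProjectiveSpectrum.mem_zeroLocus]
        exact fun f hf => hJw (le_sup_left (a := IX.toIdeal) hf)
      have hwIY : ¬ IY.toIdeal ≤ w.asHomogeneousIdeal.toIdeal := by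
        intro hle
        apply hzY
        rw [← hYz, ProjectiveSpectrum.mem_zeroLocus]
        exact fun f hf => hwz (hle hf)
      have hwY : w ∉ Y₀ := by
        intro hw
        apply hwIY
        intro f hf
        exact (ProjectiveSpectrum.mem_vanishingIdeal _ _).mp hf w hw
      have hwP : w.asHomogeneousIdeal.toIdeal ∈ P := by
        rw [hP, Finset.mem_filter, Set.Finite.mem_toFinset]
        exact ⟨hwmin, w.not_irrelevant_le, hwIY⟩
      have hgw : g ∉ w.asHomogeneousIdeal.toIdeal := hgP _ hwP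
      have hlt : w < z := by
        refine lt_of_le_of_ne hwz ?_
        intro heq
        rw [heq] at hgw
        exact hgw hgz
      have hhw : ∀ i, h i ∈ w.asHomogeneousIdeal.toIdeal := by
        intro i
        exact hJw (le_sup_right (a := IX.toIdeal) (Ideal.subset_span ⟨i, rfl⟩))
      have h1 := hh3 ⟨w, hwX, hwY⟩ hhw
      have hlt' : (⟨w, hwX, hwY⟩ : ↥(X₀ \ Y₀)) < ⟨z, hzX, hzY⟩ := hlt
      have h2 : Order.coheight (⟨z, hzX, hzY⟩ : ↥(X₀ \ Y₀)) + 1 ≤
          Order.coheight (⟨w, hwX, hwY⟩ : ↥(X₀ \ Y₀)) := Order.coheight_add_one_le hlt'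
      calc Order.coheight (⟨z, hzX, hzY⟩ : ↥(X₀ \ Y₀)) + ((j + 1 : ℕ) : ℕ∞)
          = (Order.coheight (⟨z, hzX, hzY⟩ : ↥(X₀ \ Y₀)) + 1) + (j : ℕ∞) := by
            push_cast; ring
        _ ≤ Order.coheight (⟨w, hwX, hwY⟩ : ↥(X₀ \ Y₀)) + (j : ℕ∞) := by gcongr
        _ ≤ r := h1

theorem core {X₀ Y₀ : Set (ProjectiveSpectrum 𝒜)} (hX : IsClosed X₀) (hY : IsClosed Y₀) (r : ℕ)
    (hdim : krullDim ↥(X₀ \ Y₀) ≤ (r : WithBot ℕ∞)) :
    ∃ h : Fin (r + 1) → MvPolynomial σ k,
      (∀ i, ∃ d : ℕ, 0 < d ∧ (h i).IsHomogeneous d) ∧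
      (∀ i, ∀ y ∈ Y₀, h i ∈ y.asHomogeneousIdeal.toIdeal) ∧
      (∀ z ∈ X₀, z ∉ Y₀ → ∃ i, h i ∉ z.asHomogeneousIdeal.toIdeal) := by
  obtain ⟨h, h1, h2, h3⟩ := claim hX hY r hdim (r + 1)
  refine ⟨h, h1, h2, fun z hzX hzY => ?_⟩
  by_contra hcon
  push Not at hcon
  have := h3 ⟨z, hzX, hzY⟩ hcon
  have h4 : ((r + 1 : ℕ) : ℕ∞) ≤ (r : ℕ∞) := le_trans (le_add_self) this
  have : r + 1 ≤ r := by exact_mod_cast h4
  omega

end core

theorem main (k : Type u) [Field k] (n r : ℕ)
    {X : Scheme.{u}} (j : X ⟶ CohB1.ProjSpace n k) [IsImmersion j] [IsIntegral X]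
    (hX : topologicalKrullDim ↥X = r) :
    ∃ U : Fin (r + 1) → X.Opens, (∀ i, IsAffineOpen (U i)) ∧ ⨆ i, U i = ⊤ := by
  set T : Set (ProjectiveSpectrum (CohB1.polyGrading n k)) := Set.range j.base with hT
  have hTlc : IsLocallyClosed T := j.isLocallyClosed_range
  have hYc : IsClosed (closure T \ T) := by
    have := hTlc.isOpen_coborder
    unfold coborder at this
    exact isOpen_compl_iff.mp this
  have hdiff : closure T \ (closure T \ T) = T := Set.sdiff_sdiff_cancel_left subset_closure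
  -- dimension
  let e : ↥X ≃ₜ ↥T := j.isEmbedding.toHomeomorph
  have : QuasiSober ↥T := e.symm.isClosedEmbedding.quasiSober
  have hdimT : krullDim ↥T = (r : WithBot ℕ∞) := by
    rw [← topologicalKrullDim_eq ↥T ((specOrd (k := k) (σ := Fin (n + 1))).subtype T), ← hX]
    exact (e.isHomeomorph.topologicalKrullDim_eq _).symm
  have hdim : krullDim ↥(closure T \ (closure T \ T)) ≤ (r : WithBot ℕ∞) := by
    rw [hdiff, hdimT]
  obtain ⟨h, h1, h2, h3⟩ := core (k := k) (σ := Fin (n + 1)) isClosed_closure hYc r hdim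
  let D : Fin (r + 1) → (CohB1.ProjSpace n k).Opens :=
    fun i => Proj.basicOpen (CohB1.polyGrading n k) (h i)
  refine ⟨fun i => j ⁻¹ᵁ (D i), ?_, ?_⟩
  · intro i
    obtain ⟨d, hd, hhd⟩ := h1 i
    have hU : IsAffineOpen (D i) :=
      Proj.isAffineOpen_basicOpen (CohB1.polyGrading n k) (h i)
        ((MvPolynomial.mem_homogeneousSubmodule _ _).mpr hhd) hd
    have : IsAffine (D i).toScheme := hU
    have hcl : IsClosed (Set.range (j ∣_ (D i)).base) := by
      have hr : Set.range (j ∣_ (D i)).base = (Subtype.val ⁻¹' Set.range j.base : Set ↥(D i).1) := by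
        rw [morphismRestrict_base]
        exact Set.range_restrictPreimage _ _
      rw [hr]
      have hc : IsClosed ((Subtype.val : ↥(D i).1 → ↥(CohB1.ProjSpace n k)) ⁻¹'
          (closure (Set.range j.base))) :=
        isClosed_closure.preimage continuous_subtype_val
      have heq : ((Subtype.val : ↥(D i).1 → ↥(CohB1.ProjSpace n k)) ⁻¹' Set.range j.base) =
          (Subtype.val : ↥(D i).1 → ↥(CohB1.ProjSpace n k)) ⁻¹' (closure (Set.range j.base)) := by
        ext ⟨y, hy⟩
        simp only [Set.mem_preimage]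
        constructor
        · intro hyT
          exact subset_closure hyT
        · intro hyc
          by_contra hyT
          exact hy (h2 i y ⟨hyc, hyT⟩)
      rw [heq]
      exact hc
    have : IsClosedImmersion (j ∣_ (D i)) := .of_isPreimmersion _ hcl
    exact isAffine_of_isAffineHom (j ∣_ (D i))
  · rw [eq_top_iff]
    intro x _
    have hxT : j.base x ∈ closure T \ (closure T \ T) := by
      rw [hdiff]
      exact ⟨x, rfl⟩
    obtain ⟨i, hi⟩ := h3 (j.base x) hxT.1 hxT.2
    exact TopologicalSpace.Opens.mem_iSup.mpr ⟨i, hi⟩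

end HD


/-- Let k be a field and X a quasi-projective variety over k of dimension r: an integral scheme with an
immersion j : X → P^n_k. Then X admits a cover by r + 1 affine open subschemes. (Consequently the
cohomology of every quasi-coherent O_X-module vanishes above degree r; that consequence is the
general vanishing above the number of affines in a cover and is not restated here. The published
statement is for varieties over an algebraically closed field; the argument, r + 1 hypersurfaces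
through the boundary of the closure of X, works over any field, so k is an arbitrary field here.) -/
theorem result (k : Type u) [Field k] (n r : ℕ)
    {X : Scheme.{u}} (j : X ⟶ CohB1.ProjSpace n k) [IsImmersion j] [IsIntegral X]
    (hX : topologicalKrullDim ↥X = r) :
    ∃ U : Fin (r + 1) → X.Opens, (∀ i, IsAffineOpen (U i)) ∧ ⨆ i, U i = ⊤ :=
  HD.main k n r j hX

end Groth.Agent.S10940
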