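import Groth.Statements.S11322
import Mathlib
import Groth.Agent.Lib.Helper21.FlatFibreDimField
-- import your own Groth.Agent.* helpers here

set_option autoImplicit false
universe u
open CategoryTheory AlgebraicGeometry
open FlatMor

namespace Groth.Agent.S11322

/-- Let k be a field, X and Y schemes of finite type over k with Y irreducible, f : X → Y a flat
k-morphism and n a natural number. Then all irreducible components of X have dimension dim Y + n if
and only if, for each point y of Y (generic points included), all irreducible components of the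
fibre of f over y have dimension n. -/
theorem result (k : Type u) [Field k]
    {X Y : Scheme.{u}} (qX : X ⟶ Spec (CommRingCat.of k)) (qY : Y ⟶ Spec (CommRingCat.of k))
    [LocallyOfFiniteType qX] [QuasiCompact qX] [LocallyOfFiniteType qY] [QuasiCompact qY]
    [IrreducibleSpace ↥Y] (f : X ⟶ Y) (hf : f ≫ qY = qX) [Flat f] (n : ℕ) :
    (∀ Z : Set ↥X, Z ∈ irreducibleComponents ↥X → topologicalKrullDim ↥Z = topologicalKrullDim ↥Y + (n : WithBot ℕ∞)) ↔
      ∀ (y : Y) (Z : Set ↥(f.fiber y)), Z ∈ irreducibleComponents ↥(f.fiber y) →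
        topologicalKrullDim ↥Z = (n : WithBot ℕ∞) := by
  have : QuasiSober ↥Y := inferInstance
  have hdim : topologicalKrullDim ↥Y =
      ((Groth.Agent.Lib.Helper21.FieldDim.td qY (genericPoint ↥Y) : ℕ) : WithBot ℕ∞) :=
    Groth.Agent.Lib.Helper21.FieldDim.dim_eq_td_genericPoint qY
  have hY : ∀ Z ∈ irreducibleComponents (Y : Type u), topologicalKrullDim ↥Z =
      ((Groth.Agent.Lib.Helper21.FieldDim.td qY (genericPoint ↥Y) : ℕ) : WithBot ℕ∞) := by
    intro Z hZ
    rw [irreducibleComponents_eq_singleton, Set.mem_singleton_iff] at hZ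
    subst hZ
    rw [← hdim]
    exact (Homeomorph.Set.univ ↥Y).isHomeomorph.topologicalKrullDim_eq
  have key := Groth.Agent.Lib.Helper21.FieldDim.flat_equidim_iff qX qY f hf
    (Groth.Agent.Lib.Helper21.FieldDim.td qY (genericPoint ↥Y)) n hY
  rw [hdim]
  have e : ((Groth.Agent.Lib.Helper21.FieldDim.td qY (genericPoint ↥Y) : ℕ) : WithBot ℕ∞) +
      (n : WithBot ℕ∞) =
      ((Groth.Agent.Lib.Helper21.FieldDim.td qY (genericPoint ↥Y) + n : ℕ) : WithBot ℕ∞) := by
    push_cast
    rfl
  rw [e]
  exact key

end Groth.Agent.S11322
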