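import Groth.Statements.S10941
import Mathlib
import Groth.Agent.Lib.Helper21.FlatPreimageDim
import Groth.Agent.S11322
import Groth.Agent.S9358
-- import your own Groth.Agent.* helpers here

set_option autoImplicit false
universe u
open CategoryTheory CategoryTheory.Limits AlgebraicGeometry
open FlatMor

namespace Groth.Agent.S10941

/-- Let k be a field, X, Y and Y' schemes of finite type over k with Y irreducible, f : X → Y a flat
k-morphism and n a natural number such that every irreducible component of X has dimension dim Y +
n. Let g : Y' → Y be a k-morphism and f' : X ×_Y Y' → Y' the base change of f. Then for every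
irreducible closed subset V of Y', every irreducible component of the preimage of V under f' (with
the subspace topology) has dimension dim V + n. In particular (Y' = Y) every irreducible component
of f⁻¹(V) has dimension dim V + n for every irreducible closed V ⊆ Y. -/
theorem result (k : Type u) [Field k]
    {X Y Y' : Scheme.{u}} (qX : X ⟶ Spec (CommRingCat.of k)) (qY : Y ⟶ Spec (CommRingCat.of k))
    (qY' : Y' ⟶ Spec (CommRingCat.of k))
    [LocallyOfFiniteType qX] [QuasiCompact qX] [LocallyOfFiniteType qY] [QuasiCompact qY]
    [LocallyOfFiniteType qY'] [QuasiCompact qY']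
    [IrreducibleSpace ↥Y] (f : X ⟶ Y) (hf : f ≫ qY = qX) [Flat f] (n : ℕ)
    (hX : ∀ Z : Set ↥X, Z ∈ irreducibleComponents ↥X →
      topologicalKrullDim ↥Z = topologicalKrullDim ↥Y + (n : WithBot ℕ∞))
    (g : Y' ⟶ Y) (hg : g ≫ qY = qY')
    (V : Set ↥Y') (hV : IsClosed V) (hVirr : IsIrreducible V)
    (W : Set ↥((pullback.snd f g).base ⁻¹' V))
    (hW : W ∈ irreducibleComponents ↥((pullback.snd f g).base ⁻¹' V)) :
    topologicalKrullDim ↥W = topologicalKrullDim ↥V + (n : WithBot ℕ∞) := by
  have hfl := Groth.Agent.Lib.Helper21.FieldDim.locallyOfFiniteType_of_comp_eq qX qY f hf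
  -- all fibres of `f` are equidimensional of dimension `n`
  have hrel : Cyc.HasRelDim f n := fun y Z hZ =>
    (Groth.Agent.S11322.result k qX qY f hf n).mp hX y Z hZ
  -- the same for the base change
  have hrel' : Cyc.HasRelDim (pullback.snd f g) n :=
    (Groth.Agent.S9358.result f g (pullback.fst f g) (pullback.snd f g)
      (IsPullback.of_hasPullback f g) n).2.2 hrel
  exact Groth.Agent.Lib.Helper21.FieldDim.dim_irreducibleComponent_preimage_of_hasRelDim qY'
    (pullback.snd f g) n hrel' V hV hVirr _ rfl W hW

end Groth.Agent.S10941
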