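import Groth.Statements.S10944
import Mathlib
-- import your own Groth.Agent.* helpers here

set_option autoImplicit false
universe u
open CategoryTheory AlgebraicGeometry
open FlatMor

namespace Groth.Agent.S10944

lemma preimage_irreducibleComponent {X Y : Type*} [TopologicalSpace X] [TopologicalSpace Y] [QuasiSober Y]
    (f : X → Y) (hf : Continuous f) (hg : GeneralizingMap f) (Y' : Set Y) (hY' : Y' ∈ irreducibleComponents Y) :
    f ⁻¹' Y' = ⋃₀ {Z : Set X | Z ∈ irreducibleComponents X ∧ f '' Z ⊆ Y'} := by
  apply Set.Subset.antisymm
  · intro x hx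
    have hirr : IsIrreducible Y' := hY'.1
    have hcl : IsClosed Y' := isClosed_of_mem_irreducibleComponents Y' hY'
    obtain ⟨η, hη⟩ := QuasiSober.sober hirr hcl
    have hspec : η ⤳ f x := by
      rw [specializes_iff_mem_closure, hη.def]; exact hx
    obtain ⟨x', hx'x, hfx'⟩ := hg hspec
    refine ⟨irreducibleComponent x', ⟨irreducibleComponent_mem_irreducibleComponents x', ?_⟩, ?_⟩
    · have h1 : IsIrreducible (closure (f '' irreducibleComponent x')) :=
        (isIrreducible_irreducibleComponent.image f hf.continuousOn).closure
      have h2 : Y' ⊆ closure (f '' irreducibleComponent x') := by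
        rw [← hη.def]
        apply closure_minimal _ isClosed_closure
        rw [Set.singleton_subset_iff]
        apply subset_closure
        exact ⟨x', mem_irreducibleComponent, hfx'⟩
      have h3 := hY'.2 h1 h2
      exact subset_closure.trans h3
    · have : closure {x'} ⊆ irreducibleComponent x' :=
        closure_minimal (Set.singleton_subset_iff.mpr mem_irreducibleComponent) isClosed_irreducibleComponent
      exact this (specializes_iff_mem_closure.mp hx'x)
  · rintro x ⟨Z, ⟨-, hZ⟩, hxZ⟩
    exact hZ ⟨x, hxZ, rfl⟩


/-- Let f : X → Y be a flat morphism of Noetherian schemes and Y' an irreducible component of Y. Then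
f⁻¹(Y') is the union of the irreducible components Z of X with f(Z) ⊆ Y'. -/
theorem result {X Y : Scheme.{u}}
    [IsNoetherian X] [IsNoetherian Y] (f : X ⟶ Y) [Flat f]
    (Y' : Set ↥Y) (hY' : Y' ∈ irreducibleComponents ↥Y) :
    f.base ⁻¹' Y' = ⋃₀ {Z : Set ↥X | Z ∈ irreducibleComponents ↥X ∧ f.base '' Z ⊆ Y'} := by
  exact preimage_irreducibleComponent f.base f.continuous (Flat.generalizingMap f) Y' hY'

end Groth.Agent.S10944
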