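import Groth.Statements.S10947
import Groth.Agent.Lib.Cohomology.helper5_AmpleVanish
import Groth.Agent.Lib.Helper56.PullTensorC
import Groth.Agent.Lib.Proj.CohQuot
import Groth.Agent.S2357
import Groth.Agent.Lib.QCoh.Helper74_LocFree

set_option autoImplicit false
universe u
open CategoryTheory AlgebraicGeometry
open Coherent

namespace Groth.Agent.S10947

/-- Let k be a field and X a quasi-projective scheme over k, given with an immersion ι : X → P^N_k into
a projective space. If n is a natural number with H^i(X, E) = 0 for all finite locally free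
O_X-modules E and all i > n, then H^i(X, F) = 0 for all coherent O_X-modules F (quasi-coherent of
finite type) and all i > n. -/
theorem result
    (k : Type u) [Field k] (N : ℕ) {X : Scheme.{u}} (ι : X ⟶ CohB1.ProjSpace N k) [IsImmersion ι]
    (n : ℕ) (h : ∀ E : X.Modules, FlatMod.IsFinLocFree E → ∀ i : ℕ, n < i → Subsingleton (Coh.HH X E i))
    (F : X.Modules) (hF : Coh.IsCoh F) (i : ℕ) (hi : n < i) :
    Subsingleton (Coh.HH X F i) := by
  have hcov : (⨆ f : CohB1.polyGrading N k 1,
      Proj.basicOpen (CohB1.polyGrading N k) (f : MvPolynomial (Fin (N + 1)) k)) = ⊤ := by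
    rw [eq_top_iff, ← Groth.Agent.Lib.Proj.iSup_coordFinset N k]
    refine iSup_le fun i => ?_
    exact le_iSup (fun f : CohB1.polyGrading N k 1 =>
      Proj.basicOpen (CohB1.polyGrading N k) (f : MvPolynomial (Fin (N + 1)) k))
      ⟨i.1, Groth.Agent.Lib.Proj.coordFinset_deg_one N k i.1 i.2⟩
  have hNP : IsNoetherian (CohB1.ProjSpace N k) :=
    Groth.Agent.S2357.result (CohB1.polyGrading N k)
  have hNS : TopologicalSpace.NoetherianSpace (CohB1.ProjSpace N k) := inferInstance
  have hemb : Topology.IsEmbedding ι.base := ι.isEmbedding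
  have hNX : TopologicalSpace.NoetherianSpace X := Topology.IsInducing.noetherianSpace hemb.isInducing
  have hc : CompactSpace X := inferInstance
  let O1 := Twist.twistProjSpace N k 1
  let Om1 := Twist.twistProjSpace N k (-1)
  have hO1 : PicF.IsInvertible O1 :=
    Groth.Agent.Lib.Proj.isInvertible_twist (𝒜 := CohB1.polyGrading N k) hcov 1
  have hOm1 : PicF.IsInvertible Om1 :=
    Groth.Agent.Lib.Proj.isInvertible_twist (𝒜 := CohB1.polyGrading N k) hcov (-1)
  let L := (Scheme.Modules.pullback ι).obj O1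
  let L' := (Scheme.Modules.pullback ι).obj Om1
  have hL : CohB1.IsAmple L :=
    Groth.Agent.Lib.Helper56.PullTensor.isAmple_pullback_of_isEmbedding ι hemb
      (Groth.Agent.Lib.Proj.isAmple_twistProjSpace_one N k)
  have hL' : PicF.IsInvertible L' := Groth.Agent.Lib.QCoh.isInvertible_pullback ι hOm1
  have e0 : CohB1.tensorMod O1 Om1 ≅ Coh.structureModule (CohB1.ProjSpace N k) :=
    Groth.Agent.Lib.Proj.twistMulIso (𝒜 := CohB1.polyGrading N k) 1 (-1) 0 (by ring)
      (Groth.Agent.Lib.Proj.hasUnitFrac_of_cover hcov _) ≪≫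
      Groth.Agent.Lib.Proj.twistZeroIso (CohB1.polyGrading N k)
  have e : CohB1.tensorMod L L' ≅ Coh.structureModule X :=
    (Groth.Agent.Lib.Helper56.PullTensor.pullbackTensorIso ι hO1 hOm1).symm ≪≫
      (Scheme.Modules.pullback ι).mapIso e0 ≪≫ Groth.Agent.Lib.QCoh.pullbackUnitIso ι
  refine Groth.Agent.Lib.Cohomology.AmpleVanish.subsingleton_HH_of_ample X L L' hL ⟨e⟩ 0 n
    (fun m _ p hp => h _ ?_ p hp) F hF.1 i hi
  exact Groth.Agent.Lib.QCoh.isFinLocFree_of_isInvertible
    (Groth.Agent.Lib.QCoh.isInvertible_tensorPow hL' m)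

end Groth.Agent.S10947
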