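import Groth.Statements.S10953
import Mathlib
import Groth.Agent.Lib.Helper81.SepCrit
-- import your own Groth.Agent.* helpers here

set_option autoImplicit false
universe u
open RedSep

namespace Groth.Agent.S10953
open CategoryTheory AlgebraicGeometry Limits TopologicalSpace Topology



open AlgebraicGeometry CategoryTheory in
/-- For a morphism of schemes f : X → S to an affine scheme S such that any two points of X with the
same image in S lie in one common affine open subset of X, the morphism f is separated. -/
theorem result {X S : Scheme.{u}} [IsAffine S] (f : X ⟶ S)
    (h : ∀ x y : X, f x = f y → ∃ U : X.Opens, IsAffineOpen U ∧ x ∈ U ∧ y ∈ U) :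
    IsSeparated f := by
  apply Groth.Agent.Lib.Helper81.SepCrit.isSeparated_of_forall
  intro z
  left
  have e : f.base ((pullback.fst f f).base z) = f.base ((pullback.snd f f).base z) := by
    rw [← Scheme.Hom.comp_apply, ← Scheme.Hom.comp_apply, pullback.condition]
  obtain ⟨U, hU, h1, h2⟩ := h _ _ e
  haveI : IsAffine (U : Scheme.{u}) := hU
  exact ⟨U, h1, h2, inferInstance⟩

end Groth.Agent.S10953
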