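import Groth.Statements.S10954
import Groth.Agent.Lib.Cohomology.Helper1_SerreCrit2
-- import your own Groth.Agent.* helpers here

set_option autoImplicit false
universe u
open Coherent

namespace Groth.Agent.S10954

section Aux
open AlgebraicGeometry CategoryTheory CategoryTheory.Limits Opposite TopologicalSpace
open Groth.Agent.Lib.Cohomology.SerreCrit Groth.Agent.Lib.QCoh

attribute [local instance] CategoryTheory.Abelian.hasFiniteBiproducts

theorem aux (X : Scheme.{u}) [CompactSpace X]
    (h : ∀ (S : ShortComplex X.Modules) (n : ℕ)
      (j : S.X₁ ⟶ ∏ᶜ (fun _ : Fin n => Coh.structureModule X)),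
      S.ShortExact → Mono j → Coh.IsQCoh S.X₁ → Coh.IsQCoh S.X₂ → Coh.IsQCoh S.X₃ →
        Function.Surjective (S.g.val.app (op ⊤)).hom) :
    IsAffine X := by
  refine isAffine_of_surjective ?_ ?_
  · intro I
    have hepi := epi_toSubscheme I
    let S : ShortComplex X.Modules :=
      ShortComplex.mk (kernel.ι (ClSub.toSubscheme I)) (ClSub.toSubscheme I) (kernel.condition _)
    have hS : S.ShortExact :=
      { exact := ShortComplex.exact_of_f_is_kernel S (kernelIsKernel _)
        mono_f := inferInstanceAs (Mono (kernel.ι (ClSub.toSubscheme I)))
        epi_g := hepi }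
    let m : Coh.structureModule X ⟶ ∏ᶜ (fun _ : Fin 1 => Coh.structureModule X) :=
      Pi.lift (fun _ => 𝟙 _)
    have hm : Mono m := by
      have : m ≫ Pi.π (fun _ : Fin 1 => Coh.structureModule X) 0 = 𝟙 _ := Pi.lift_π _ _
      exact mono_of_mono_fac this
    have hs := h S 1 (kernel.ι (ClSub.toSubscheme I) ≫ m) hS (mono_comp _ _)
      (isQuasicoherent_kernel _) (inferInstanceAs (Coh.structureModule X).IsQuasicoherent)
      (inferInstanceAs (ClSub.quotMod I).IsQuasicoherent)
    exact hs
  · intro n f hcov
    have hepi := epi_Pb n f hcov
    let S : ShortComplex X.Modules :=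
      ShortComplex.mk (kernel.ι (Pb n f)) (Pb n f) (kernel.condition _)
    have hS : S.ShortExact :=
      { exact := ShortComplex.exact_of_f_is_kernel S (kernelIsKernel _)
        mono_f := inferInstanceAs (Mono (kernel.ι (Pb n f)))
        epi_g := hepi }
    have hs := h S n (kernel.ι (Pb n f) ≫ (biproduct.isoProduct _).hom) hS (mono_comp _ _)
      (isQuasicoherent_kernel _)
      (inferInstanceAs (⨁ fun _ : Fin n => Coh.structureModule X).IsQuasicoherent)
      (inferInstanceAs (Coh.structureModule X).IsQuasicoherent)
    exact hs

end Aux

open AlgebraicGeometry CategoryTheory CategoryTheory.Limits Opposite in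
/-- Let X be a quasi-compact scheme such that, for every short exact sequence 0 → F' → F → F'' → 0 of
quasi-coherent O_X-modules whose first term F' admits a monomorphism into a finite direct sum of
copies of O_X, taking global sections gives a surjection F(X) → F''(X). Then X is affine. (The
published statement is an equivalence of three conditions on a quasi-compact scheme; this row states
the implication from exactness of global sections on such sequences to affineness.) -/
theorem result (X : Scheme.{u}) [CompactSpace X]
    (h : ∀ (S : ShortComplex X.Modules) (n : ℕ)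
      (j : S.X₁ ⟶ ∏ᶜ (fun _ : Fin n => Coh.structureModule X)),
      S.ShortExact → Mono j → Coh.IsQCoh S.X₁ → Coh.IsQCoh S.X₂ → Coh.IsQCoh S.X₃ →
        Function.Surjective (S.g.val.app (op ⊤)).hom) :
    IsAffine X := by
  exact aux X h

end Groth.Agent.S10954
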