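import Groth.Statements.S10955
import Groth.Agent.S2788
import Mathlib.RingTheory.Etale.Kaehler
import Mathlib.RingTheory.LocalRing.Module
import Mathlib.RingTheory.Smooth.Kaehler
import Mathlib.RingTheory.Smooth.Locus

set_option autoImplicit false
universe u
open scoped TensorProduct
open Unram

namespace Groth.Agent.S10955

section Helpers

open TensorProduct KaehlerDifferential

variable (A B C T : Type u) [CommRing A] [CommRing B] [CommRing C] [CommRing T]
  [Algebra A B] [Algebra B C] [Algebra A C] [IsScalarTower A B C]
  [Algebra A T] [Algebra B T] [Algebra C T] [IsScalarTower A B T] [IsScalarTower A C T]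
  [IsScalarTower B C T]

lemma map_map (ω : Ω[B⁄A]) :
    KaehlerDifferential.map A A C T (KaehlerDifferential.map A A B C ω) =
      KaehlerDifferential.map A A B T ω := by
  have h := KaehlerDifferential.span_range_derivation A B
  have hω : ω ∈ Submodule.span B (Set.range (KaehlerDifferential.D A B)) := by rw [h]; trivial
  induction hω using Submodule.span_induction with
  | mem x hx =>
    obtain ⟨b, rfl⟩ := hx
    simp only [KaehlerDifferential.map_D, ← IsScalarTower.algebraMap_apply]
  | zero => simp
  | add x y _ _ hx hy => simp only [map_add, hx, hy]
  | smul b x _ hx =>
    calc KaehlerDifferential.map A A C T (KaehlerDifferential.map A A B C (b • x))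
        = KaehlerDifferential.map A A C T (b • KaehlerDifferential.map A A B C x) := by
          rw [LinearMap.map_smul]
      _ = KaehlerDifferential.map A A C T ((algebraMap B C b) • KaehlerDifferential.map A A B C x) := by
          rw [algebraMap_smul]
      _ = (algebraMap B C b) • KaehlerDifferential.map A A C T (KaehlerDifferential.map A A B C x) := by
          rw [LinearMap.map_smul]
      _ = b • KaehlerDifferential.map A A C T (KaehlerDifferential.map A A B C x) := by
          rw [algebraMap_smul]
      _ = b • KaehlerDifferential.map A A B T x := by rw [hx]
      _ = KaehlerDifferential.map A A B T (b • x) := by rw [LinearMap.map_smul]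

end Helpers

/-- Let A → B → C be ring homomorphisms with B and C finitely presented over A, let q be a prime ideal
of C and p its inverse image in B, and assume that C is smooth over A at q and that B is smooth over
A at p. Then C is smooth over B at q if and only if the map obtained from the canonical map C ⊗_B
Ω_{B/A} → Ω_{C/A} by tensoring over C with the residue field k(q) is injective. -/
theorem result (A B C : Type u) [CommRing A] [CommRing B]
    [CommRing C] [Algebra A B] [Algebra B C] [Algebra A C] [IsScalarTower A B C]
    [Algebra.FinitePresentation A B] [Algebra.FinitePresentation A C] (q : Ideal C) [q.IsPrime]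
    (hC : Algebra.IsSmoothAt A q) (hB : Algebra.IsSmoothAt A (q.under B)) :
    Algebra.IsSmoothAt B q ↔
      Function.Injective ((KaehlerDifferential.mapBaseChange A B C).lTensor q.ResidueField) := by
  have hS := Groth.Agent.S2788.result A B C q
  have hS' : Algebra.IsSmoothAt B q ↔
      ∃ r : KaehlerDifferential A (Localization.AtPrime q) →ₗ[Localization.AtPrime q]
            Localization.AtPrime q ⊗[B] KaehlerDifferential A B,
          r ∘ₗ KaehlerDifferential.mapBaseChange A B (Localization.AtPrime q) = LinearMap.id := by
    constructor
    · intro h
      exact (hS.mp ⟨h, hC⟩).2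
    · intro h
      exact (hS.mpr ⟨hC, h⟩).1
  rw [hS']
  have hfs : Algebra.FormallySmooth A (Localization.AtPrime q) := hC
  have hfin : Module.Finite (Localization.AtPrime q) (KaehlerDifferential A (Localization.AtPrime q)) :=
    inferInstance
  have hproj : Module.Projective (Localization.AtPrime q) (KaehlerDifferential A (Localization.AtPrime q)) :=
    inferInstance
  have hfree : Module.Free (Localization.AtPrime q) (KaehlerDifferential A (Localization.AtPrime q)) :=
    Module.free_of_flat_of_isLocalRing
  have hfinB : Module.Finite B (KaehlerDifferential A B) := inferInstance
  rw [IsLocalRing.split_injective_iff_lTensor_residueField_injective]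
  have hfe : Algebra.FormallyEtale C (Localization.AtPrime q) :=
    Algebra.FormallyEtale.of_isLocalization (Rₘ := Localization.AtPrime q) q.primeCompl
  let s1 := TensorProduct.AlgebraTensorModule.cancelBaseChange B C C q.ResidueField (KaehlerDifferential A B)
  let s2 := TensorProduct.AlgebraTensorModule.cancelBaseChange B (Localization.AtPrime q) (Localization.AtPrime q)
    q.ResidueField (KaehlerDifferential A B)
  let t1 := TensorProduct.AlgebraTensorModule.cancelBaseChange C (Localization.AtPrime q) (Localization.AtPrime q)
    q.ResidueField (KaehlerDifferential A C)
  let t2 := LinearEquiv.lTensor q.ResidueField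
    (KaehlerDifferential.tensorKaehlerEquivOfFormallyEtale A C (Localization.AtPrime q))
  have key : ∀ x : q.ResidueField ⊗[C] (C ⊗[B] KaehlerDifferential A B),
      t2 (t1.symm ((KaehlerDifferential.mapBaseChange A B C).lTensor q.ResidueField x)) =
      (KaehlerDifferential.mapBaseChange A B (Localization.AtPrime q)).lTensor q.ResidueField
        (s2.symm (s1 x)) := by
    intro x
    induction x using TensorProduct.induction_on with
    | zero => simp
    | add x y hx hy => simp only [map_add, hx, hy]
    | tmul k y =>
      induction y using TensorProduct.induction_on with
      | zero => simp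
      | add x y hx hy => simp only [TensorProduct.tmul_add, map_add, hx, hy]
      | tmul c ω =>
        simp only [s1, s2, t1, t2, LinearMap.lTensor_tmul, KaehlerDifferential.mapBaseChange_tmul,
          TensorProduct.AlgebraTensorModule.cancelBaseChange_tmul, TensorProduct.AlgebraTensorModule.cancelBaseChange_symm_tmul,
          LinearEquiv.lTensor_tmul, KaehlerDifferential.tensorKaehlerEquivOfFormallyEtale_apply,
          one_smul]
        rw [LinearMap.map_smul, map_map A B C (Localization.AtPrime q) ω,
          ← algebraMap_smul (Localization.AtPrime q) c
            (KaehlerDifferential.map A A B (Localization.AtPrime q) ω),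
          ← TensorProduct.smul_tmul, algebraMap_smul]
  have hcomp : ((KaehlerDifferential.mapBaseChange A B (Localization.AtPrime q)).lTensor q.ResidueField) ∘
      (s2.symm ∘ s1) = (t2 ∘ t1.symm) ∘
      ((KaehlerDifferential.mapBaseChange A B C).lTensor q.ResidueField) := by
    funext x
    exact (key x).symm
  have hs : Function.Bijective (s2.symm ∘ s1) := s2.symm.bijective.comp s1.bijective
  have ht : Function.Bijective (t2 ∘ t1.symm) := t2.bijective.comp t1.symm.bijective
  change Function.Injective
    ((KaehlerDifferential.mapBaseChange A B (Localization.AtPrime q)).lTensor q.ResidueField) ↔ _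
  rw [← Function.Injective.of_comp_iff' _ hs, hcomp, Function.Injective.of_comp_iff ht.injective]

end Groth.Agent.S10955
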