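import Groth.Statements.S10956
import Mathlib
-- import your own Groth.Agent.* helpers here

set_option autoImplicit false
universe u
open scoped TensorProduct
open CAlg

namespace Groth.Agent.S10956

/-- Let R be a commutative ring, A and B commutative R-algebras and T = A ⊗_R B, an A-algebra through
the left factor. There is a T-linear map r from Ω_{T/R} to T ⊗_A Ω_{A/R} sending d(a ⊗ b) to (1 ⊗ b)
⊗ da for all a in A and b in B, and together with the canonical map Ω_{T/R} → Ω_{T/A} it identifies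
Ω_{T/R} with the product (T ⊗_A Ω_{A/R}) × Ω_{T/A}. (The published statement is the isomorphism of
(Ω_{A/R} ⊗_R B) ⊕ (A ⊗_R Ω_{B/R}) with Ω_{T/R} matching the exterior differentials; it is stated
here through the canonical identifications T ⊗_A Ω_{A/R} = Ω_{A/R} ⊗_R B and Ω_{T/A} = A ⊗_R
Ω_{B/R}.) -/
theorem result (R A B : Type u) [CommRing R] [CommRing A] [CommRing B]
    [Algebra R A] [Algebra R B] :
    ∃ r : Ω[(A ⊗[R] B)⁄R] →ₗ[A ⊗[R] B] ((A ⊗[R] B) ⊗[A] Ω[A⁄R]),
      (∀ (a : A) (b : B), r (KaehlerDifferential.D R (A ⊗[R] B) (a ⊗ₜ[R] b)) =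
          ((1 : A) ⊗ₜ[R] b) ⊗ₜ[A] KaehlerDifferential.D R A a) ∧
        Function.Bijective (fun ω : Ω[(A ⊗[R] B)⁄R] =>
          (r ω, KaehlerDifferential.map R A (A ⊗[R] B) (A ⊗[R] B) ω)) := by
  let _ : Algebra B (A ⊗[R] B) := Algebra.TensorProduct.rightAlgebra
  let r : Ω[(A ⊗[R] B)⁄R] →ₗ[A ⊗[R] B] ((A ⊗[R] B) ⊗[A] Ω[A⁄R]) :=
    (KaehlerDifferential.tensorKaehlerEquiv R B A (A ⊗[R] B)).symm.toLinearMap ∘ₗ
      (KaehlerDifferential.map R B (A ⊗[R] B) (A ⊗[R] B))
  have hr : ∀ (a : A) (b : B), r (KaehlerDifferential.D R (A ⊗[R] B) (a ⊗ₜ[R] b)) =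
      ((1 : A) ⊗ₜ[R] b) ⊗ₜ[A] KaehlerDifferential.D R A a := by
    intro a b
    simp only [r, LinearMap.comp_apply, LinearEquiv.coe_coe]
    rw [KaehlerDifferential.map_D]
    change (KaehlerDifferential.tensorKaehlerEquiv R B A (A ⊗[R] B)).symm
      (KaehlerDifferential.D B (A ⊗[R] B) (a ⊗ₜ[R] b)) = _
    rw [KaehlerDifferential.tensorKaehlerEquiv_symm_D_tmul',
      Algebra.TensorProduct.right_algebraMap_apply]
  refine ⟨r, hr, ?_⟩
  -- `r` is a retraction of the base change map
  have hretr : ∀ z : (A ⊗[R] B) ⊗[A] Ω[A⁄R],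
      r (KaehlerDifferential.mapBaseChange R A (A ⊗[R] B) z) = z := by
    intro z
    induction z with
    | zero => simp
    | add x y hx hy => rw [map_add, map_add, hx, hy]
    | tmul t ω =>
      have hω : ω ∈ Submodule.span A (Set.range (KaehlerDifferential.D R A)) := by
        rw [KaehlerDifferential.span_range_derivation]; exact Submodule.mem_top
      induction hω using Submodule.span_induction generalizing t with
      | mem ω hω =>
        obtain ⟨a, rfl⟩ := hω
        rw [KaehlerDifferential.mapBaseChange_tmul, map_smul, KaehlerDifferential.map_D,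
          Algebra.TensorProduct.algebraMap_apply, Algebra.algebraMap_self, RingHom.id_apply, hr,
          TensorProduct.smul_tmul', smul_eq_mul]
        congr 1
        exact mul_one t
      | zero => simp
      | add ω ω' _ _ h h' =>
        rw [TensorProduct.tmul_add, map_add, map_add, h, h']
      | smul c ω _ h =>
        rw [← TensorProduct.smul_tmul]
        exact h _
  constructor
  · intro ω ω' h
    simp only [Prod.mk.injEq] at h
    obtain ⟨h1, h2⟩ := h
    have h3 : KaehlerDifferential.map R A (A ⊗[R] B) (A ⊗[R] B) (ω - ω') = 0 := by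
      rw [map_sub, h2, sub_self]
    obtain ⟨z, hz⟩ := (KaehlerDifferential.exact_mapBaseChange_map R A (A ⊗[R] B) _).mp h3
    have h4 : r (ω - ω') = 0 := by rw [map_sub, h1, sub_self]
    rw [← hz, hretr] at h4
    rw [h4, map_zero] at hz
    exact sub_eq_zero.mp hz.symm
  · rintro ⟨z, η⟩
    obtain ⟨ω₀, hω₀⟩ := KaehlerDifferential.map_surjective R A (A ⊗[R] B) η
    refine ⟨ω₀ + KaehlerDifferential.mapBaseChange R A (A ⊗[R] B) (z - r ω₀), ?_⟩
    simp only [Prod.mk.injEq]
    constructor
    · rw [map_add, hretr]; abel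
    · rw [map_add, hω₀]
      have := (KaehlerDifferential.exact_mapBaseChange_map R A (A ⊗[R] B) _).mpr
        ⟨z - r ω₀, rfl⟩
      rw [this, add_zero]

end Groth.Agent.S10956
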