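import Groth.Statements.S10959
import Mathlib

set_option autoImplicit false
universe u
open CategoryTheory MonoidalCategory CartesianMonoidalCategory MonObj GrpObj AlgebraicGeometry
open AbVar

namespace Groth.Agent.S10959

/-- Let K be an algebraically closed field and A an abelian variety over K (a group scheme over Spec K
with proper smooth structure morphism and irreducible underlying space). Let Z be a closed subset of
A which is not all of A, and z a K-valued point of A. Then there is a K-valued point x of A such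
that the point underlying z lies neither in the translate of Z by x nor in the translate of Z by the
inverse of x; here the translation by x is the morphism A → A given on points by a ↦ a·x, the
product of the identity and the constant map x in the group of morphisms into A. (The published
statement takes Z to be the support of an effective divisor; this row allows any closed subset other
than A.) -/
theorem result
    (K : Type u) [Field K] [IsAlgClosed K] (A : Over (Spec (CommRingCat.of K)))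
    [GrpObj A] [IsProper A.hom] [Smooth A.hom] [IrreducibleSpace A.left]
    (Z : Set A.left) (hZ : IsClosed Z) (hZne : Z ≠ Set.univ)
    (z : 𝟙_ (Over (Spec (CommRingCat.of K))) ⟶ A) :
    ∃ x : 𝟙_ (Over (Spec (CommRingCat.of K))) ⟶ A,
      Disjoint (Set.range z.left.base)
        ((𝟙 A * (toUnit A ≫ x)).left.base '' Z ∪ (𝟙 A * (toUnit A ≫ x)⁻¹).left.base '' Z) := by
  haveI : Subsingleton ↥(Spec (CommRingCat.of K)) :=
    inferInstanceAs (Subsingleton (PrimeSpectrum K))
  haveI : LocallyOfFiniteType A.hom := inferInstance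
  haveI : JacobsonSpace A.left := LocallyOfFiniteType.jacobsonSpace A.hom
  -- constant maps and translations
  let c : (𝟙_ (Over (Spec (CommRingCat.of K))) ⟶ A) → (A ⟶ A) := fun x => toUnit A ≫ x
  have hcmul : ∀ x y, c x * c y = c (x * y) := fun x y => (MonObj.comp_mul _ _ _).symm
  have hcone : c 1 = 1 := MonObj.comp_one _
  have hcinv : ∀ x, (c x)⁻¹ = c x⁻¹ := fun x => (GrpObj.comp_inv _ _).symm
  have hfc : ∀ (f : A ⟶ A) x, f ≫ c x = c x := fun f x => by
    show f ≫ toUnit A ≫ x = toUnit A ≫ x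
    rw [← Category.assoc, toUnit_unique (f ≫ toUnit A) (toUnit A)]
  have hzc : ∀ (w x : 𝟙_ (Over (Spec (CommRingCat.of K))) ⟶ A), w ≫ c x = x := fun w x => by
    show w ≫ toUnit A ≫ x = x
    rw [← Category.assoc, toUnit_unique (w ≫ toUnit A) (𝟙 _), Category.id_comp]
  let T : (𝟙_ (Over (Spec (CommRingCat.of K))) ⟶ A) → (A ⟶ A) := fun x => 𝟙 A * c x
  have hTT : ∀ x y, T x ≫ T y = T (x * y) := fun x y => by
    show T x ≫ (𝟙 A * c y) = _
    rw [MonObj.comp_mul, Category.comp_id, hfc]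
    show (𝟙 A * c x) * c y = 𝟙 A * c (x * y)
    rw [_root_.mul_assoc, hcmul]
  have hT1 : T 1 = 𝟙 A := by
    show 𝟙 A * c 1 = 𝟙 A
    rw [hcone, _root_.mul_one]
  have hzT : ∀ w x, w ≫ T x = w * x := fun w x => by
    show w ≫ (𝟙 A * c x) = _
    rw [MonObj.comp_mul, Category.comp_id, hzc]
  let L : A ⟶ A := c z * 𝟙 A
  let L' : A ⟶ A := c z * (𝟙 A)⁻¹
  have hL : ∀ f : A ⟶ A, f ≫ L = c z * f := fun f => by
    show f ≫ (c z * 𝟙 A) = _
    rw [MonObj.comp_mul, Category.comp_id, hfc]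
  have hL' : ∀ f : A ⟶ A, f ≫ L' = c z * f⁻¹ := fun f => by
    show f ≫ (c z * (𝟙 A)⁻¹) = _
    rw [MonObj.comp_mul, GrpObj.comp_inv, Category.comp_id, hfc]
  have hxL : ∀ x : 𝟙_ (Over (Spec (CommRingCat.of K))) ⟶ A, x ≫ L = z * x := fun x => by
    show x ≫ (c z * 𝟙 A) = _
    rw [MonObj.comp_mul, Category.comp_id, hzc]
  have hxL' : ∀ x : 𝟙_ (Over (Spec (CommRingCat.of K))) ⟶ A, x ≫ L' = z * x⁻¹ := fun x => by
    show x ≫ (c z * (𝟙 A)⁻¹) = _
    rw [MonObj.comp_mul, GrpObj.comp_inv, Category.comp_id, hzc]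
  -- a point outside `Z`
  obtain ⟨u, hu⟩ : ∃ u, u ∉ Z := by
    by_contra h
    push_neg at h
    exact hZne (Set.eq_univ_of_forall h)
  have hO₁ : IsOpen (L.left ⁻¹' Zᶜ) := hZ.isOpen_compl.preimage L.left.continuous
  have hO₂ : IsOpen (L'.left ⁻¹' Zᶜ) := hZ.isOpen_compl.preimage L'.left.continuous
  have hne₁ : (L.left ⁻¹' Zᶜ).Nonempty := by
    refine ⟨((c z)⁻¹ * 𝟙 A : A ⟶ A).left u, ?_⟩
    show (((c z)⁻¹ * 𝟙 A : A ⟶ A).left ≫ L.left) u ∈ Zᶜ
    rw [← Over.comp_left, hL, mul_inv_cancel_left]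
    exact hu
  have hne₂ : (L'.left ⁻¹' Zᶜ).Nonempty := by
    refine ⟨(((c z)⁻¹ * 𝟙 A)⁻¹ : A ⟶ A).left u, ?_⟩
    show ((((c z)⁻¹ * 𝟙 A)⁻¹ : A ⟶ A).left ≫ L'.left) u ∈ Zᶜ
    rw [← Over.comp_left, hL', _root_.inv_inv, mul_inv_cancel_left]
    exact hu
  obtain ⟨g, ⟨hg₁, hg₂⟩, hgc⟩ := nonempty_inter_closedPoints
    (nonempty_preirreducible_inter hO₁ hO₂ hne₁ hne₂) (hO₁.inter hO₂).isLocallyClosed
  let x : 𝟙_ (Over (Spec (CommRingCat.of K))) ⟶ A :=
    Over.homMk (pointOfClosedPoint A.hom g hgc) (pointOfClosedPoint_comp _ _ _)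
  have hxg : ∀ t, x.left t = g := fun t => pointOfClosedPoint_apply _ _ _ _
  have h1 : ∀ t, (z * x).left t ∉ Z := fun t => by
    rw [← hxL, Over.comp_left]
    show L.left (x.left t) ∉ Z
    rw [hxg]; exact hg₁
  have h2 : ∀ t, (z * x⁻¹).left t ∉ Z := fun t => by
    rw [← hxL', Over.comp_left]
    show L'.left (x.left t) ∉ Z
    rw [hxg]; exact hg₂
  refine ⟨x, ?_⟩
  rw [Set.disjoint_left]
  rintro _ ⟨t, rfl⟩ hmem
  rcases hmem with ⟨w, hw, hwz⟩ | ⟨w, hw, hwz⟩
  · -- `z t = T x w`, so `w = T x⁻¹ (z t) = (z * x⁻¹) t`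
    apply h2 t
    have : (z * x⁻¹).left t = w := by
      rw [← hzT, Over.comp_left]
      show (T x⁻¹).left (z.left t) = w
      have hz' : z.left t = (T x).left w := hwz.symm
      rw [hz']
      show ((T x).left ≫ (T x⁻¹).left) w = w
      rw [← Over.comp_left, hTT, mul_inv_cancel, hT1]; rfl
    rw [this]; exact hw
  · apply h1 t
    have hTinv : (𝟙 A * (toUnit A ≫ x)⁻¹ : A ⟶ A) = T x⁻¹ := by
      show 𝟙 A * (c x)⁻¹ = 𝟙 A * c x⁻¹
      rw [hcinv]
    have : (z * x).left t = w := by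
      rw [← hzT, Over.comp_left]
      show (T x).left (z.left t) = w
      have hz' : z.left t = (T x⁻¹).left w := by rw [← hTinv]; exact hwz.symm
      rw [hz']
      show ((T x⁻¹).left ≫ (T x).left) w = w
      rw [← Over.comp_left, hTT, inv_mul_cancel, hT1]; rfl
    rw [this]; exact hw

end Groth.Agent.S10959
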