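import Groth.Statements.S4349
import Mathlib
-- import your own Groth.Agent.* helpers here

set_option autoImplicit false
universe u
open RatFun

namespace Groth.Agent.S4349

open AlgebraicGeometry CategoryTheory CategoryTheory.Limits TopologicalSpace

instance isCofiltered_denseOpens (X : Scheme.{u}) :
    IsCofiltered ((RatFun.IsDenseOpen X).FullSubcategory) where
  cone_objs U U' := ⟨⟨U.obj ⊓ U'.obj, by
      change Dense ((U.obj : Set X) ∩ (U'.obj : Set X))
      exact Dense.inter_of_isOpen_left U.property U'.property U.obj.isOpen⟩,
    ObjectProperty.homMk (homOfLE inf_le_left), ObjectProperty.homMk (homOfLE inf_le_right), trivial⟩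
  cone_maps U U' f g := ⟨U, 𝟙 U, by
    apply ObjectProperty.hom_ext
    exact Subsingleton.elim _ _⟩
  nonempty := ⟨⟨⊤, by change Dense (Set.univ : Set X); exact dense_univ⟩⟩

theorem eq_zero_of_res_dense (X : Scheme.{u}) [IsReduced X] (V W : X.Opens) (hW : Dense (W : Set X))
    (i : W ⟶ V) (s : Γ(X, V)) (hs : X.presheaf.map i.op s = 0) : s = 0 := by
  apply AlgebraicGeometry.eq_zero_of_basicOpen_eq_bot
  by_contra hne
  have hne' : (X.basicOpen s : Set X).Nonempty := by
    rw [Set.nonempty_iff_ne_empty]
    intro h
    apply hne
    ext x
    simp [h]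
  obtain ⟨x, hxW, hxs⟩ := hW.inter_open_nonempty _ (X.basicOpen s).isOpen hne'
  have : X.basicOpen (X.presheaf.map i.op s) = W ⊓ X.basicOpen s := X.basicOpen_res s i.op
  have hx : x ∈ X.basicOpen (X.presheaf.map i.op s) := by
    rw [this]; exact ⟨hxs, hxW⟩
  rw [hs, Scheme.basicOpen_zero] at hx
  exact hx

open AlgebraicGeometry in
/-- Second assertion (in the form: sections over a dense open inject into the ring of rational
functions). Let X be a reduced scheme and V a dense open subset of X. The canonical map from the
sections of O_X over V to the ring R(X) of rational functions on X is injective. (The published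
statement also assumes X locally integral or locally Noetherian; that hypothesis serves the
quasi-coherence of the sheaf of rational functions and is not needed here.) -/
theorem result (X : Scheme.{u}) [IsReduced X]
    (V : X.Opens) (hV : Dense (V : Set X)) :
    Function.Injective (RatFun.toRing X V hV) := by
  rw [injective_iff_map_eq_zero]
  intro s hs
  have h0 : RatFun.toRing X V hV s = RatFun.toRing X V hV 0 := by rw [hs, map_zero]
  obtain ⟨k, f, g, hfg⟩ := (Concrete.colimit_rep_eq_iff_exists (F := RatFun.sectionsOnDense X)
    (i := Opposite.op ⟨V, hV⟩) (j := Opposite.op ⟨V, hV⟩) s 0).mp h0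
  have h1 : X.presheaf.map f.unop.hom.op s = 0 := by
    have h2 : (RatFun.sectionsOnDense X).map g (0 : Γ(X, V)) = 0 := map_zero _
    exact hfg.trans h2
  exact eq_zero_of_res_dense X V k.unop.obj k.unop.property f.unop.hom s h1

end Groth.Agent.S4349
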