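import Groth.Statements.S5086
import Mathlib
import Groth.Agent.Lib.Helper48.SchDense
import Groth.Agent.S12513
-- import your own Groth.Agent.* helpers here

set_option autoImplicit false
universe u
open CategoryTheory CategoryTheory.Limits AlgebraicGeometry TopologicalSpace
open Mero

namespace Groth.Agent.S5086


section Aux

open Groth.Agent.Lib.Helper48.SchDense Opposite

variable {X : Scheme.{u}}

/-- local data: a fraction `a/b` on `W` with `a = b g` germwise on `W ∩ V` -/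
def Good (V : X.Opens) (g : Γ(X, V)) (W : X.Opens) (a : Γ(X, W)) (b : Mero.regSub X W) : Prop :=
  ∀ (y : X) (hyW : y ∈ W) (hyV : y ∈ V),
    X.presheaf.germ W y hyW a = X.presheaf.germ W y hyW b.1 * X.presheaf.germ V y hyV g

theorem eq_zero_of_germ_eq_zero_on (U V : X.Opens)
    (hV : ∀ W : X.Opens, W ≤ U →
      Function.Injective ⇑(X.presheaf.map (homOfLE (inf_le_left : W ⊓ V ≤ W)).op))
    (W₁ : X.Opens) (hW₁ : W₁ ≤ U) (E : Γ(X, W₁))
    (h : ∀ (y : X) (hy : y ∈ W₁) (_ : y ∈ V), X.presheaf.germ W₁ y hy E = 0) : E = 0 := by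
  apply hV W₁ hW₁
  rw [map_zero]
  have hloc : ∀ (y : X) (hy : y ∈ W₁ ⊓ V),
      X.presheaf.germ _ y hy (X.presheaf.map (homOfLE (inf_le_left : W₁ ⊓ V ≤ W₁)).op E) =
      X.presheaf.germ _ y hy 0 := by
    intro y hy
    rw [TopCat.Presheaf.germ_res_apply, map_zero]
    exact h y hy.1 hy.2
  exact TopCat.Presheaf.section_ext X.sheaf _ _ _ hloc

theorem exists_good (U V : X.Opens)
    (hV : ∀ W : X.Opens, W ≤ U →
      Function.Injective ⇑(X.presheaf.map (homOfLE (inf_le_left : W ⊓ V ≤ W)).op))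
    (g : Γ(X, V)) (W : X.Opens) (hW : IsAffineOpen W) (hWU : W ≤ U)
    (hA : IsNoetherianRing Γ(X, W) ∨ (IsReduced Γ(X, W) ∧ (minimalPrimes Γ(X, W)).Finite)) :
    ∃ (a : Γ(X, W)) (b : Mero.regSub X W), Good V g W a b := by
  obtain ⟨t, ht, htV⟩ := exists_regular_basicOpen_le W hW hA V (hV W hWU)
  haveI := hW.isLocalization_basicOpen t
  obtain ⟨⟨a, ⟨_, n, rfl⟩⟩, hsurj⟩ := IsLocalization.surj (Submonoid.powers t)
    (X.presheaf.map (homOfLE htV).op g)
  have hsurj' : X.presheaf.map (homOfLE htV).op g *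
      X.presheaf.map (homOfLE (X.basicOpen_le t)).op (t ^ n) =
      X.presheaf.map (homOfLE (X.basicOpen_le t)).op a := hsurj
  have hreg : Mero.regSub X W = nonZeroDivisors Γ(X, W) := Groth.Agent.S12513.result X W hW
  have htn : t ^ n ∈ Mero.regSub X W := by rw [hreg]; exact pow_mem ht n
  have htreg : t ∈ Mero.regSub X W := by rw [hreg]; exact ht
  refine ⟨a, ⟨t ^ n, htn⟩, ?_⟩
  have hE : X.presheaf.map (homOfLE (inf_le_left : W ⊓ V ≤ W)).op a -
      X.presheaf.map (homOfLE (inf_le_left : W ⊓ V ≤ W)).op (t ^ n) *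
        X.presheaf.map (homOfLE (inf_le_right : W ⊓ V ≤ V)).op g = 0 := by
    apply eq_zero_of_res_basicOpen_regular (W ⊓ V)
      (X.presheaf.map (homOfLE (inf_le_left : W ⊓ V ≤ W)).op t) (Mero.regSub_res _ htreg)
    have hsub : X.basicOpen (X.presheaf.map (homOfLE (inf_le_left : W ⊓ V ≤ W)).op t) ≤
        X.basicOpen t := by
      rw [Scheme.basicOpen_res]; exact inf_le_right
    have hDW : X.basicOpen (X.presheaf.map (homOfLE (inf_le_left : W ⊓ V ≤ W)).op t) ≤ W :=
      hsub.trans (X.basicOpen_le t)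
    have hDV : X.basicOpen (X.presheaf.map (homOfLE (inf_le_left : W ⊓ V ≤ W)).op t) ≤ V :=
      hsub.trans htV
    have h1 := congrArg (X.presheaf.map (homOfLE hsub).op) hsurj'
    rw [map_mul, res_res (homOfLE htV) (homOfLE hsub) (homOfLE hDV) g,
      res_res (homOfLE (X.basicOpen_le t)) (homOfLE hsub) (homOfLE hDW) (t ^ n),
      res_res (homOfLE (X.basicOpen_le t)) (homOfLE hsub) (homOfLE hDW) a] at h1
    rw [map_sub, map_mul,
      res_res (homOfLE (inf_le_left : W ⊓ V ≤ W)) (homOfLE (X.basicOpen_le _)) (homOfLE hDW) a,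
      res_res (homOfLE (inf_le_left : W ⊓ V ≤ W)) (homOfLE (X.basicOpen_le _)) (homOfLE hDW)
        (t ^ n),
      res_res (homOfLE (inf_le_right : W ⊓ V ≤ V)) (homOfLE (X.basicOpen_le _)) (homOfLE hDV) g,
      sub_eq_zero]
    exact h1.symm.trans (mul_comm _ _)
  intro y hyW hyV
  have h2 := congrArg (X.presheaf.germ (W ⊓ V) y ⟨hyW, hyV⟩) hE
  rw [map_sub, map_mul, map_zero, TopCat.Presheaf.germ_res_apply,
    TopCat.Presheaf.germ_res_apply, TopCat.Presheaf.germ_res_apply, sub_eq_zero] at h2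
  exact h2

theorem good_compat (U V : X.Opens)
    (hV : ∀ W : X.Opens, W ≤ U →
      Function.Injective ⇑(X.presheaf.map (homOfLE (inf_le_left : W ⊓ V ≤ W)).op))
    (g : Γ(X, V)) (W W' : X.Opens) (hWU : W ≤ U) (a : Γ(X, W)) (b : Mero.regSub X W)
    (a' : Γ(X, W')) (b' : Mero.regSub X W') (h : Good V g W a b) (h' : Good V g W' a' b')
    (z : X) (hz : z ∈ W) (hz' : z ∈ W') :
    (LocalizedModule.mk (X.presheaf.germ W z hz a) (Mero.regGerm ⟨z, hz⟩ b) : Mero.KStalk X z) =
      LocalizedModule.mk (X.presheaf.germ W' z hz' a') (Mero.regGerm ⟨z, hz'⟩ b') := by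
  have hE : X.presheaf.map (homOfLE (inf_le_left : W ⊓ W' ≤ W)).op a *
        X.presheaf.map (homOfLE (inf_le_right : W ⊓ W' ≤ W')).op b'.1 -
      X.presheaf.map (homOfLE (inf_le_right : W ⊓ W' ≤ W')).op a' *
        X.presheaf.map (homOfLE (inf_le_left : W ⊓ W' ≤ W)).op b.1 = 0 := by
    apply eq_zero_of_germ_eq_zero_on U V hV (W ⊓ W') (inf_le_left.trans hWU)
    intro y hy hyV
    rw [map_sub, map_mul, map_mul, TopCat.Presheaf.germ_res_apply,
      TopCat.Presheaf.germ_res_apply, TopCat.Presheaf.germ_res_apply,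
      TopCat.Presheaf.germ_res_apply, h y hy.1 hyV, h' y hy.2 hyV]
    ring
  have h2 := congrArg (X.presheaf.germ (W ⊓ W') z ⟨hz, hz'⟩) hE
  rw [map_sub, map_mul, map_mul, map_zero, TopCat.Presheaf.germ_res_apply,
    TopCat.Presheaf.germ_res_apply, TopCat.Presheaf.germ_res_apply,
    TopCat.Presheaf.germ_res_apply, sub_eq_zero] at h2
  rw [LocalizedModule.mk_eq]
  refine ⟨1, ?_⟩
  simp only [Submonoid.smul_def, smul_eq_mul, one_mul, Submonoid.coe_one]
  exact (mul_comm _ _).trans (h2.trans (mul_comm _ _))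

end Aux

/-- Let X be a scheme which is either locally Noetherian, or reduced with locally finite set of
irreducible components (every point has an open neighbourhood meeting only finitely many irreducible
components). Let U be an open subset, V an open subset of U schematically dense in U (restriction of
functions from every open W ⊆ U to W ∩ V is injective) and g a function on V. Then there is a
section of the sheaf of meromorphic functions K_X over U whose restriction to V is g/1; with part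
(i), meromorphic functions over U are exactly the pseudo-functions on U. -/
theorem result (X : Scheme.{u})
    (hX : IsLocallyNoetherian X ∨ (IsReduced X ∧ ∀ x : ↥X, ∃ W : X.Opens, x ∈ W ∧
      {Z : Set ↥X | Z ∈ irreducibleComponents ↥X ∧ (Z ∩ (W : Set ↥X)).Nonempty}.Finite))
    (U V : X.Opens) (hVU : V ≤ U)
    (hV : ∀ W : X.Opens, W ≤ U →
      Function.Injective ⇑(X.presheaf.map (homOfLE (inf_le_left : W ⊓ V ≤ W)).op))
    (g : Γ(X, V)) :
    ∃ s : Γ(Mero.kmod X, U), (Mero.kmod X).presheaf.map (homOfLE hVU).op s = Mero.toK X V g := by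
  have hlocal : ∀ x : U, ∃ (W : X.Opens) (_ : x.1 ∈ W) (_ : W ≤ U) (a : Γ(X, W))
      (b : Mero.regSub X W), Good V g W a b := by
    intro x
    rcases hX with hN | ⟨hR, hfin⟩
    · obtain ⟨W, hWaff, hxW, hWsub⟩ :=
        exists_isAffineOpen_mem_and_subset (x := x.1) (U := U) x.2
      have hWU : W ≤ U := fun y hy => hWsub hy
      haveI := hN
      obtain ⟨a, b, hab⟩ := exists_good U V hV g W hWaff hWU
        (Or.inl (IsLocallyNoetherian.component_noetherian ⟨W, hWaff⟩))
      exact ⟨W, hxW, hWU, a, b, hab⟩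
    · obtain ⟨W₁, hxW₁, hfinW₁⟩ := hfin x.1
      obtain ⟨W, hWaff, hxW, hWsub⟩ :=
        exists_isAffineOpen_mem_and_subset (x := x.1) (U := U ⊓ W₁) ⟨x.2, hxW₁⟩
      have hWU : W ≤ U := fun y hy => (hWsub hy).1
      have hWW₁ : W ≤ W₁ := fun y hy => (hWsub hy).2
      haveI := hR
      have hfinW : (minimalPrimes Γ(X, W)).Finite := by
        apply Groth.Agent.Lib.Helper48.SchDense.finite_minimalPrimes_of_isAffineOpen W hWaff
        refine hfinW₁.subset ?_
        rintro Z ⟨hZ, y, hyZ, hyW⟩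
        exact ⟨hZ, y, hyZ, hWW₁ hyW⟩
      obtain ⟨a, b, hab⟩ := exists_good U V hV g W hWaff hWU (Or.inr ⟨inferInstance, hfinW⟩)
      exact ⟨W, hxW, hWU, a, b, hab⟩
  choose Wc hxWc hWcU ac bc hgood using hlocal
  refine ⟨⟨fun y => LocalizedModule.mk (X.presheaf.germ (Wc y) y.1 (hxWc y) (ac y))
    (Mero.regGerm ⟨y.1, hxWc y⟩ (bc y)), fun x => ⟨Wc x, hxWc x, homOfLE (hWcU x), ac x, bc x,
      fun z => ?_⟩⟩, ?_⟩
  · exact good_compat U V hV g (Wc ⟨z.1, hWcU x z.2⟩) (Wc x) (hWcU _) _ _ _ _ (hgood _)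
      (hgood x) z.1 (hxWc _) z.2
  · apply Subtype.ext
    funext y
    show (LocalizedModule.mk (X.presheaf.germ (Wc ⟨y.1, hVU y.2⟩) y.1 (hxWc ⟨y.1, hVU y.2⟩)
        (ac ⟨y.1, hVU y.2⟩))
      (Mero.regGerm (U := Wc ⟨y.1, hVU y.2⟩) ⟨y.1, hxWc ⟨y.1, hVU y.2⟩⟩ (bc ⟨y.1, hVU y.2⟩)) :
        Mero.KStalk X y.1) =
      LocalizedModule.mk (X.presheaf.germ V y.1 y.2 g) 1
    rw [LocalizedModule.mk_eq]
    refine ⟨1, ?_⟩
    simp only [Submonoid.smul_def, smul_eq_mul, one_mul, Submonoid.coe_one]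
    exact hgood _ y.1 (hxWc _) y.2

end Groth.Agent.S5086
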