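import Groth.Statements.S10961
import Mathlib
import Groth.Agent.S2316
import Groth.Agent.S2312
import Groth.Agent.S5086
-- import your own Groth.Agent.* helpers here

set_option autoImplicit false
universe u
open CategoryTheory AlgebraicGeometry TopologicalSpace
open Mero

namespace Groth.Agent.S10961


section Aux

open AlgebraicGeometry CategoryTheory TopologicalSpace Opposite
open Groth.Agent.S2316

variable (X : Scheme.{u})

theorem isOpen_Oset' (hfin : (irreducibleComponents (X : Type u)).Finite)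
    (Z : irreducibleComponents (X : Type u)) : IsOpen (Oset X Z) := by
  haveI : Finite (irreducibleComponents (X : Type u)) := hfin.to_subtype
  rw [Oset, isOpen_compl_iff]
  exact isClosed_iUnion_of_finite
    (fun Z' => isClosed_of_mem_irreducibleComponents _ Z'.1.property)

theorem eq_zero_of_germ_generic [IsReduced X] (W : X.Opens) (E : Γ(X, W))
    (h : ∀ (x : X) (hx : x ∈ W), closure ({x} : Set X) ∈ irreducibleComponents (X : Type u) →
      X.presheaf.germ W x hx E = 0) : E = 0 := by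
  rw [← basicOpen_eq_bot_iff, eq_bot_iff]
  intro z hz
  exfalso
  let Z : irreducibleComponents (X : Type u) :=
    ⟨irreducibleComponent z, irreducibleComponent_mem_irreducibleComponents z⟩
  have h1 : gp X Z ∈ X.basicOpen E :=
    gp_mem_of_inter X Z _ (X.basicOpen E).isOpen ⟨z, mem_irreducibleComponent, hz⟩
  have hW : gp X Z ∈ W := X.basicOpen_le E h1
  have hu : IsUnit (X.presheaf.germ W (gp X Z) hW E) := (X.mem_basicOpen E _ hW).mp h1
  rw [h (gp X Z) hW (by rw [(isGenericPoint_gp X Z).def]; exact Z.property)] at hu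
  exact not_isUnit_zero hu

theorem isField_stalk [IsReduced X] (x : X)
    (hx : closure ({x} : Set X) ∈ irreducibleComponents (X : Type u)) :
    IsField (X.presheaf.stalk x) := by
  have hsub : Subsingleton (PrimeSpectrum (X.presheaf.stalk x)) :=
    (Groth.Agent.S2312.result X x).mp hx
  rw [IsLocalRing.isField_iff_maximalIdeal_eq]
  have hnil : nilradical (X.presheaf.stalk x) = ⊥ := nilradical_eq_zero _
  rw [← hnil, nilradical_eq_sInf]
  apply le_antisymm
  · apply le_sInf
    intro J hJ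
    have := hsub.elim ⟨J, hJ⟩ ⟨IsLocalRing.maximalIdeal _, inferInstance⟩
    have e : J = IsLocalRing.maximalIdeal _ := congrArg PrimeSpectrum.asIdeal this
    rw [e]
  · exact sInf_le (IsLocalRing.maximalIdeal.isMaximal _).isPrime

theorem algebraMap_bijective_of_isField (x : X) (hF : IsField (X.presheaf.stalk x)) :
    Function.Bijective (algebraMap (X.presheaf.stalk x) (Mero.KStalk X x)) := by
  refine ⟨Mero.algebraMap_KStalk_injective x, ?_⟩
  intro z
  obtain ⟨⟨a, s⟩, hz⟩ := IsLocalization.surj (Mero.regStalk X x) z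
  have hz' : z * algebraMap (X.presheaf.stalk x) (Mero.KStalk X x) (s : X.presheaf.stalk x) =
      algebraMap (X.presheaf.stalk x) (Mero.KStalk X x) a := hz
  have hs0 : (s : X.presheaf.stalk x) ≠ 0 :=
    nonZeroDivisors.ne_zero (Mero.regStalk_le_nonZeroDivisors x s.2)
  obtain ⟨t, ht⟩ := hF.mul_inv_cancel hs0
  refine ⟨a * t, ?_⟩
  rw [map_mul, ← hz', mul_assoc, ← map_mul, ht, map_one, mul_one]

theorem eval_injective [IsReduced X] (U : X.Opens) (f g : Γ(Mero.kmod X, U))
    (h : ∀ (x : X) (hx : x ∈ U), closure ({x} : Set X) ∈ irreducibleComponents (X : Type u) →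
      f.1 ⟨x, hx⟩ = g.1 ⟨x, hx⟩) : f = g := by
  apply Subtype.ext
  funext x
  obtain ⟨Va, ma, ia, a, b, wa⟩ := f.2 x
  obtain ⟨Vb, mb, ib, c, d, wb⟩ := g.2 x
  have hWU : Va ⊓ Vb ≤ U := inf_le_left.trans ia.le
  have hf : ∀ (y : X) (hy : y ∈ Va), f.1 ⟨y, ia.le hy⟩ =
      LocalizedModule.mk (X.presheaf.germ Va y hy a) (Mero.regGerm ⟨y, hy⟩ b) :=
    fun y hy => wa ⟨y, hy⟩
  have hg : ∀ (y : X) (hy : y ∈ Vb), g.1 ⟨y, ib.le hy⟩ =
      LocalizedModule.mk (X.presheaf.germ Vb y hy c) (Mero.regGerm ⟨y, hy⟩ d) :=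
    fun y hy => wb ⟨y, hy⟩
  have key : ∀ (y : X) (hy : y ∈ Va ⊓ Vb),
      (f.1 ⟨y, hWU hy⟩ = g.1 ⟨y, hWU hy⟩ ↔
        X.presheaf.germ Va y hy.1 a * X.presheaf.germ Vb y hy.2 d.1 -
          X.presheaf.germ Vb y hy.2 c * X.presheaf.germ Va y hy.1 b.1 = 0) := by
    intro y hy
    have e1 : f.1 ⟨y, hWU hy⟩ = LocalizedModule.mk (X.presheaf.germ Va y hy.1 a)
        (Mero.regGerm ⟨y, hy.1⟩ b) := hf y hy.1
    have e2 : g.1 ⟨y, hWU hy⟩ = LocalizedModule.mk (X.presheaf.germ Vb y hy.2 c)
        (Mero.regGerm ⟨y, hy.2⟩ d) := hg y hy.2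
    rw [e1, e2, LocalizedModule.mk_eq, sub_eq_zero]
    constructor
    · rintro ⟨u, hu⟩
      simp only [Submonoid.smul_def, smul_eq_mul] at hu
      have hu' := (mul_cancel_left_mem_nonZeroDivisors
        (Mero.regStalk_le_nonZeroDivisors y u.2)).mp hu
      exact (mul_comm _ _).trans (hu'.trans (mul_comm _ _))
    · intro h
      refine ⟨1, ?_⟩
      simp only [Submonoid.smul_def, smul_eq_mul, one_mul, Submonoid.coe_one]
      exact (mul_comm _ _).trans (h.trans (mul_comm _ _))
  obtain ⟨E, hE⟩ : ∃ E : Γ(X, Va ⊓ Vb), ∀ (y : X) (hy : y ∈ Va ⊓ Vb),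
      X.presheaf.germ (Va ⊓ Vb) y hy E =
        X.presheaf.germ Va y hy.1 a * X.presheaf.germ Vb y hy.2 d.1 -
          X.presheaf.germ Vb y hy.2 c * X.presheaf.germ Va y hy.1 b.1 :=
    ⟨X.presheaf.map (homOfLE (inf_le_left : Va ⊓ Vb ≤ Va)).op a *
        X.presheaf.map (homOfLE (inf_le_right : Va ⊓ Vb ≤ Vb)).op d.1 -
      X.presheaf.map (homOfLE (inf_le_right : Va ⊓ Vb ≤ Vb)).op c *
        X.presheaf.map (homOfLE (inf_le_left : Va ⊓ Vb ≤ Va)).op b.1, fun y hy => by
      rw [map_sub, map_mul, map_mul, TopCat.Presheaf.germ_res_apply,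
        TopCat.Presheaf.germ_res_apply, TopCat.Presheaf.germ_res_apply,
        TopCat.Presheaf.germ_res_apply]⟩
  have hE0 : E = 0 := by
    apply eq_zero_of_germ_generic X (Va ⊓ Vb) E
    intro y hy hgen
    rw [hE y hy]
    exact (key y hy).mp (h y (hWU hy) hgen)
  have hx : x.1 ∈ Va ⊓ Vb := ⟨ma, mb⟩
  have h0 : X.presheaf.germ Va x.1 hx.1 a * X.presheaf.germ Vb x.1 hx.2 d.1 -
      X.presheaf.germ Vb x.1 hx.2 c * X.presheaf.germ Va x.1 hx.1 b.1 = 0 := by
    rw [← hE x.1 hx, hE0, map_zero]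
  exact (key x.1 hx).mpr h0

theorem eval_surjective [IsReduced X] (hfin : (irreducibleComponents (X : Type u)).Finite)
    (U : X.Opens)
    (k : ∀ x : {x : U // closure ({x.1} : Set X) ∈ irreducibleComponents (X : Type u)},
      Mero.KStalk X x.1.1) :
    ∃ s : Γ(Mero.kmod X, U), ∀ x, s.1 x.1 = k x := by
  classical
  have hgp : ∀ x : {x : U // closure ({x.1} : Set X) ∈ irreducibleComponents (X : Type u)},
      gp X ⟨closure {x.1.1}, x.2⟩ = x.1.1 := fun x =>
    (isGenericPoint_gp X ⟨closure {x.1.1}, x.2⟩).eq isGenericPoint_closure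
  have hZinj : ∀ x x' : {x : U // closure ({x.1} : Set X) ∈ irreducibleComponents (X : Type u)},
      (⟨closure {x.1.1}, x.2⟩ : irreducibleComponents (X : Type u)) = ⟨closure {x'.1.1}, x'.2⟩ →
        x = x' := by
    intro x x' h
    apply Subtype.ext
    apply Subtype.ext
    rw [← hgp x, ← hgp x', h]
  have hex : ∀ x : {x : U // closure ({x.1} : Set X) ∈ irreducibleComponents (X : Type u)},
      ∃ W : X.Opens, W ≤ U ⊓ ⟨Oset X ⟨closure {x.1.1}, x.2⟩, isOpen_Oset' X hfin _⟩ ∧
        ∃ (m : x.1.1 ∈ W) (g : Γ(X, W)),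
          algebraMap (X.presheaf.stalk x.1.1) (Mero.KStalk X x.1.1)
            (X.presheaf.germ W x.1.1 m g) = k x := by
    intro x
    obtain ⟨t, ht⟩ := (algebraMap_bijective_of_isField X x.1.1 (isField_stalk X x.1.1 x.2)).2 (k x)
    have hmem := gp_mem_Oset X ⟨closure {x.1.1}, x.2⟩
    rw [hgp x] at hmem
    have hxO : x.1.1 ∈ U ⊓ ⟨Oset X ⟨closure {x.1.1}, x.2⟩, isOpen_Oset' X hfin _⟩ :=
      ⟨x.1.2, hmem⟩
    obtain ⟨W, hW, m, g, hg⟩ := X.presheaf.exists_le_germ_eq t hxO
    exact ⟨W, hW, m, g, by rw [hg]; exact ht⟩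
  choose W hWle hWmem g hg using hex
  have hdisj : ∀ x x', x ≠ x' → W x ⊓ W x' = ⊥ := by
    intro x x' h
    rw [eq_bot_iff]
    rintro z ⟨hz, hz'⟩
    exact (Oset_disjoint X _ _ (fun e => h (hZinj x x' e)) z (hWle x hz).2 (hWle x' hz').2).elim
  have hcompat : TopCat.Presheaf.IsCompatible X.sheaf.1 W g := by
    intro x x'
    by_cases h : x = x'
    · subst h
      rw [Subsingleton.elim (Opens.infLELeft (W x) (W x)) (Opens.infLERight (W x) (W x))]
    · have : Subsingleton (Γ(X, W x ⊓ W x')) := by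
        rw [hdisj x x' h]; infer_instance
      exact @Subsingleton.elim _ this _ _
  obtain ⟨G, hG, -⟩ := X.sheaf.existsUnique_gluing W g hcompat
  have hVU : iSup W ≤ U := iSup_le (fun x => (hWle x).trans inf_le_left)
  have hV : ∀ W' : X.Opens, W' ≤ U → Function.Injective
      ⇑(X.presheaf.map (homOfLE (inf_le_left : W' ⊓ iSup W ≤ W')).op) := by
    intro W' hW'U
    rw [injective_iff_map_eq_zero]
    intro e he
    apply eq_zero_of_germ_generic X W' e
    intro z hz hzgen
    have hzV : z ∈ iSup W := Opens.mem_iSup.mpr ⟨⟨⟨z, hW'U hz⟩, hzgen⟩, hWmem _⟩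
    have h1 := congrArg (X.presheaf.germ (W' ⊓ iSup W) z ⟨hz, hzV⟩) he
    rw [TopCat.Presheaf.germ_res_apply, map_zero] at h1
    exact h1
  obtain ⟨s, hs⟩ := Groth.Agent.S5086.result X
    (Or.inr ⟨inferInstance, fun x => ⟨⊤, trivial, hfin.subset (fun Z hZ => hZ.1)⟩⟩)
    U (iSup W) hVU hV G
  refine ⟨s, fun x => ?_⟩
  have hxV : x.1.1 ∈ iSup W := Opens.mem_iSup.mpr ⟨x, hWmem x⟩
  have h1 : s.1 ⟨x.1.1, hVU hxV⟩ = (Mero.toK X (iSup W) G).1 ⟨x.1.1, hxV⟩ :=
    congrArg (fun w : Γ(Mero.kmod X, iSup W) => w.1 ⟨x.1.1, hxV⟩) hs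
  refine h1.trans ?_
  show (LocalizedModule.mk (X.presheaf.germ (iSup W) x.1.1 hxV G) 1 : Mero.KStalk X x.1.1) = k x
  rw [← hg x]
  have h2 : X.presheaf.germ (iSup W) x.1.1 hxV G =
      X.presheaf.germ (W x) x.1.1 (hWmem x) (g x) := by
    rw [← hG x]
    exact (X.presheaf.germ_res_apply (Opens.leSupr W x) x.1.1 (hWmem x) G).symm
  rw [h2]
  rfl

end Aux

/-- Let X be a reduced scheme with only finitely many irreducible components, with generic points x_1,
…, x_r, and let U be an open subset of X. Then the ring of sections over U of the sheaf of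
meromorphic functions K_X maps bijectively, by evaluation, onto the product of the rings K_{X,x_i}
over those generic points x_i that lie in U; moreover for each generic point x_i the local ring of X
at x_i is a field and maps bijectively onto K_{X,x_i}, so that K_{X,x_i} is the residue field of
x_i. (The hypothesis holds for every Noetherian scheme; for X integral it says that K_X is the
constant sheaf with value the function field.) -/
theorem result
    (X : Scheme.{u}) [IsReduced X] (hfin : (irreducibleComponents (X : Type u)).Finite) (U : X.Opens) :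
    Function.Bijective (fun s : Γ(Mero.kmod X, U) =>
      fun x : {x : U // closure ({x.1} : Set X) ∈ irreducibleComponents (X : Type u)} =>
        Mero.evalK X U x.1 s) ∧
    (∀ x : X, closure ({x} : Set X) ∈ irreducibleComponents (X : Type u) →
      IsField (X.presheaf.stalk x) ∧
        Function.Bijective (algebraMap (X.presheaf.stalk x) (Mero.KStalk X x))) := by
  refine ⟨⟨?_, ?_⟩, ?_⟩
  · intro s s' h
    apply eval_injective X U s s'
    intro x hx hgen
    exact congrFun h ⟨⟨x, hx⟩, hgen⟩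
  · intro k
    obtain ⟨s, hs⟩ := eval_surjective X hfin U k
    exact ⟨s, funext hs⟩
  · intro x hx
    have hF := isField_stalk X x hx
    exact ⟨hF, algebraMap_bijective_of_isField X x hF⟩

end Groth.Agent.S10961
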