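import Groth.Statements.S10964
import Groth.Agent.Lib.Pic.Helper50_CocycleHom
import Groth.Agent.Lib.QCoh.Helper74_LocFreeLift
open Groth.Agent.Lib.Pic.CocycleHom Groth.Agent.Lib.QCoh.Glue74

set_option autoImplicit false
universe u
open CategoryTheory AlgebraicGeometry TopologicalSpace Opposite
open PicF

namespace Groth.Agent.S10964

/-- Let X be a scheme with an open cover (U_i)_{i ∈ ι}. Let L and L' be O_X-modules with sections s_i of
L and s'_i of L' over U_i that generate there (for every open V ⊆ U_i, r ↦ r · s_i|_V is a bijection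
from functions on V onto sections of L over V, and likewise for s'_i), and let η_ij, η'_ij be the
functions on U_i ∩ U_j with s_i = η_ij · s_j and s'_i = η'_ij · s'_j there. Then L and L' are
isomorphic as O_X-modules if and only if there is a family of units u_i of the rings of functions on
the U_i with η'_ij · u_i|_{U_i ∩ U_j} = u_j|_{U_i ∩ U_j} · η_ij for all i, j. (So two invertible
modules trivialised by the cover are isomorphic exactly when their transition cocycles define the
same Čech cohomology class.) -/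
theorem result (X : Scheme.{u}) {ι : Type u} (U : ι → X.Opens)
    (hU : iSup U = ⊤) (L L' : X.Modules) (s : ∀ i : ι, Γ(L, U i)) (s' : ∀ i : ι, Γ(L', U i))
    (hs : ∀ (i : ι) (V : X.Opens) (h : V ≤ U i),
        Function.Bijective (fun r : Γ(X, V) => r • L.presheaf.map (homOfLE h).op (s i)))
    (hs' : ∀ (i : ι) (V : X.Opens) (h : V ≤ U i),
        Function.Bijective (fun r : Γ(X, V) => r • L'.presheaf.map (homOfLE h).op (s' i)))
    (η η' : ∀ i j : ι, Γ(X, U i ⊓ U j))
    (hη : ∀ i j : ι, L.presheaf.map (homOfLE (inf_le_left : U i ⊓ U j ≤ U i)).op (s i) =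
        η i j • L.presheaf.map (homOfLE (inf_le_right : U i ⊓ U j ≤ U j)).op (s j))
    (hη' : ∀ i j : ι, L'.presheaf.map (homOfLE (inf_le_left : U i ⊓ U j ≤ U i)).op (s' i) =
        η' i j • L'.presheaf.map (homOfLE (inf_le_right : U i ⊓ U j ≤ U j)).op (s' j)) :
    Nonempty (L ≅ L') ↔ ∃ u : ∀ i : ι, (Γ(X, U i))ˣ, ∀ i j : ι,
      η' i j * X.presheaf.map (homOfLE (inf_le_left : U i ⊓ U j ≤ U i)).op (u i : Γ(X, U i)) =
        X.presheaf.map (homOfLE (inf_le_right : U i ⊓ U j ≤ U j)).op (u j : Γ(X, U j)) * η i j := by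
  constructor
  · rintro ⟨e⟩
    have hu : ∀ i, ∃ a : Γ(X, U i), a • res L' le_rfl (s' i) = e.hom.app (U i) (s i) :=
      fun i => (hs' i (U i) le_rfl).2 _
    have hv : ∀ i, ∃ a : Γ(X, U i), a • res L le_rfl (s i) = e.inv.app (U i) (s' i) :=
      fun i => (hs i (U i) le_rfl).2 _
    choose a ha using hu
    choose b hb using hv
    have hab : ∀ i, a i * b i = 1 := by
      intro i
      apply (hs i (U i) le_rfl).1
      change (a i * b i) • res L le_rfl (s i) = (1 : Γ(X, U i)) • res L le_rfl (s i)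
      rw [mul_smul, hb i, one_smul, res_self]
      have h1 : e.inv.app (U i) (e.hom.app (U i) (s i)) = s i := by
        have := congrArg (fun ψ : L ⟶ L => (Scheme.Modules.Hom.app ψ (U i)) (s i)) e.hom_inv_id
        exact this
      rw [← ha i, Scheme.Modules.Hom.app_smul, res_self] at h1
      exact h1
    refine ⟨fun i => Units.mkOfMulEqOne (a i) (b i) (hab i), fun i j => ?_⟩
    have hl : U i ⊓ U j ≤ U i := inf_le_left
    have hr : U i ⊓ U j ≤ U j := inf_le_right
    change η' i j * rX hl (a i) = rX hr (a j) * η i j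
    apply (hs' j (U i ⊓ U j) hr).1
    change (η' i j * rX hl (a i)) • res L' hr (s' j) =
      (rX hr (a j) * η i j) • res L' hr (s' j)
    have h1 : e.hom.app (U i ⊓ U j) (res L hl (s i)) =
        rX hl (a i) • (η' i j • res L' hr (s' j)) := by
      change e.hom.app (U i ⊓ U j) (L.presheaf.map (homOfLE hl).op (s i)) = _
      rw [Groth.Agent.Lib.QCoh.Lift74.app_naturality_apply', ← ha i]
      change res L' hl (a i • res L' le_rfl (s' i)) = _
      rw [res_smul, res_self]
      congr 1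
      exact hη' i j
    have h2 : e.hom.app (U i ⊓ U j) (res L hl (s i)) =
        η i j • (rX hr (a j) • res L' hr (s' j)) := by
      have h3 : res L hl (s i) = η i j • res L hr (s j) := hη i j
      rw [h3, Scheme.Modules.Hom.app_smul]
      congr 1
      change e.hom.app (U i ⊓ U j) (L.presheaf.map (homOfLE hr).op (s j)) = _
      rw [Groth.Agent.Lib.QCoh.Lift74.app_naturality_apply', ← ha j]
      change res L' hr (a j • res L' le_rfl (s' j)) = _
      rw [res_smul, res_self]
    have h4 := h1.symm.trans h2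
    rw [smul_smul, smul_smul] at h4
    rw [mul_comm (η' i j), mul_comm (rX hr (a j))]
    exact h4
  · rintro ⟨u, hu⟩
    obtain ⟨Φ, hΦ⟩ := exists_hom U hU L L' s s' hs η η' hη hη' (fun i => (u i : Γ(X, U i))) hu
    have hu' : ∀ i j : ι, η i j * X.presheaf.map (homOfLE (inf_le_left : U i ⊓ U j ≤ U i)).op
        ((u i)⁻¹ : (Γ(X, U i))ˣ).1 =
        X.presheaf.map (homOfLE (inf_le_right : U i ⊓ U j ≤ U j)).op ((u j)⁻¹ : (Γ(X, U j))ˣ).1 *
          η' i j := by
      intro i j
      have h1 : rX (inf_le_left : U i ⊓ U j ≤ U i) (u i : Γ(X, U i)) *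
          rX (inf_le_left : U i ⊓ U j ≤ U i) ((u i)⁻¹ : (Γ(X, U i))ˣ).1 = 1 := by
        rw [← rX_mul, Units.mul_inv]; exact map_one _
      have h2 : rX (inf_le_right : U i ⊓ U j ≤ U j) (u j : Γ(X, U j)) *
          rX (inf_le_right : U i ⊓ U j ≤ U j) ((u j)⁻¹ : (Γ(X, U j))ˣ).1 = 1 := by
        rw [← rX_mul, Units.mul_inv]; exact map_one _
      have h3 : η' i j * rX (inf_le_left : U i ⊓ U j ≤ U i) (u i : Γ(X, U i)) =
        rX (inf_le_right : U i ⊓ U j ≤ U j) (u j : Γ(X, U j)) * η i j := hu i j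
      change η i j * rX (inf_le_left : U i ⊓ U j ≤ U i) ((u i)⁻¹ : (Γ(X, U i))ˣ).1 =
        rX (inf_le_right : U i ⊓ U j ≤ U j) ((u j)⁻¹ : (Γ(X, U j))ˣ).1 * η' i j
      linear_combination (η' i j * rX (inf_le_right : U i ⊓ U j ≤ U j) ((u j)⁻¹ : (Γ(X, U j))ˣ).1) * h1 -
        (η i j * rX (inf_le_left : U i ⊓ U j ≤ U i) ((u i)⁻¹ : (Γ(X, U i))ˣ).1) * h2 -
        (rX (inf_le_left : U i ⊓ U j ≤ U i) ((u i)⁻¹ : (Γ(X, U i))ˣ).1 *
          rX (inf_le_right : U i ⊓ U j ≤ U j) ((u j)⁻¹ : (Γ(X, U j))ˣ).1) * h3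
    obtain ⟨Ψ, hΨ⟩ := exists_hom U hU L' L s' s hs' η' η hη' hη
      (fun i => (((u i)⁻¹ : (Γ(X, U i))ˣ) : Γ(X, U i))) hu'
    have hbasis : ∀ (V : X.Opens) (x : X), x ∈ V →
        ∃ W : X.Opens, (∃ i, W ≤ U i) ∧ x ∈ W ∧ W ≤ V := by
      intro V x hx
      have hx' : x ∈ iSup U := by rw [hU]; trivial
      obtain ⟨i, hi⟩ := TopologicalSpace.Opens.mem_iSup.1 hx'
      exact ⟨V ⊓ U i, ⟨i, inf_le_right⟩, ⟨hx, hi⟩, inf_le_left⟩
    refine ⟨⟨Φ, Ψ, ?_, ?_⟩⟩
    · apply Scheme.Modules.hom_ext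
      intro V
      ext m
      change Ψ.app V (Φ.app V m) = m
      refine eq_of_good L (fun W => ∃ i, W ≤ U i) hbasis _ _ fun W hW hWV => ?_
      obtain ⟨i, hi⟩ := hW
      obtain ⟨r, hr⟩ := (hs i W hi).2 (res L hWV m)
      change L.presheaf.map (homOfLE hWV).op (Ψ.app V (Φ.app V m)) = _
      rw [← Groth.Agent.Lib.QCoh.Lift74.app_naturality_apply',
        ← Groth.Agent.Lib.QCoh.Lift74.app_naturality_apply']
      change Ψ.app W (Φ.app W (res L hWV m)) = res L hWV m
      rw [← hr]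
      change Ψ.app W (Φ.app W (r • res L hi (s i))) = r • res L hi (s i)
      rw [hΦ, hΨ, mul_assoc, ← rX_mul, Units.mul_inv]
      congr 1
      rw [show rX hi (1 : Γ(X, U i)) = 1 from map_one _, mul_one]
    · apply Scheme.Modules.hom_ext
      intro V
      ext m
      change Φ.app V (Ψ.app V m) = m
      refine eq_of_good L' (fun W => ∃ i, W ≤ U i) hbasis _ _ fun W hW hWV => ?_
      obtain ⟨i, hi⟩ := hW
      obtain ⟨r, hr⟩ := (hs' i W hi).2 (res L' hWV m)
      change L'.presheaf.map (homOfLE hWV).op (Φ.app V (Ψ.app V m)) = _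
      rw [← Groth.Agent.Lib.QCoh.Lift74.app_naturality_apply',
        ← Groth.Agent.Lib.QCoh.Lift74.app_naturality_apply']
      change Φ.app W (Ψ.app W (res L' hWV m)) = res L' hWV m
      rw [← hr]
      change Φ.app W (Ψ.app W (r • res L' hi (s' i))) = r • res L' hi (s' i)
      rw [hΨ, hΦ, mul_assoc, ← rX_mul, Units.inv_mul]
      congr 1
      rw [show rX hi (1 : Γ(X, U i)) = 1 from map_one _, mul_one]

end Groth.Agent.S10964
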