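import Groth.Statements.S10965
import Groth.Agent.Lib.Proj.SegreC
import Groth.Agent.Lib.Helper56.PullTensorB

set_option autoImplicit false
universe u
open CategoryTheory CategoryTheory.Limits AlgebraicGeometry
open RelAmple

namespace Groth.Agent.S10965

open Groth.Agent.Lib.Proj.Segre Groth.Agent.Lib.Proj.PnUP Groth.Agent.Lib.Ample Groth.Agent.Lib.QCoh
  Groth.Agent.Lib.Helper56.PullTensor Twist Scheme.Modules

lemma core {X S : Scheme.{u}} (tS : S ⟶ Spec (CommRingCat.of (ULift.{u} ℤ))) (q : X ⟶ S) (n m : ℕ)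
    (i : X ⟶ pullback (CohB1.ProjSpace.toSpec n (ULift.{u} ℤ)) tS) (hi : IsImmersion i) (hiq : i ≫ pullback.snd (CohB1.ProjSpace.toSpec n (ULift.{u} ℤ)) tS = q)
    (L L' : X.Modules)
    (eL : L ≅ (Scheme.Modules.pullback i).obj ((Scheme.Modules.pullback (pullback.fst (CohB1.ProjSpace.toSpec n (ULift.{u} ℤ)) tS)).obj
      (twist (CohB1.polyGrading n (ULift.{u} ℤ)) 1)))
    (r' : X ⟶ Proj (CohB1.polyGrading m (ULift.{u} ℤ))) (hr'q : r' ≫ (CohB1.ProjSpace.toSpec m (ULift.{u} ℤ)) = q ≫ tS)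
    (τ' : (Scheme.Modules.pullback r').obj (twist (CohB1.polyGrading m (ULift.{u} ℤ)) 1) ≅ L')
    (rZ : PP (ULift.{u} ℤ) n m ⟶ Proj (CohB1.polyGrading (n * m + n + m) (ULift.{u} ℤ)))
    (hrZ : IsClosedImmersion rZ) (hrZq : rZ ≫ (CohB1.ProjSpace.toSpec (n * m + n + m) (ULift.{u} ℤ)) = q₀ (ULift.{u} ℤ) n m)
    (eSeg : (Scheme.Modules.pullback rZ).obj
        (twist (CohB1.polyGrading (n * m + n + m) (ULift.{u} ℤ)) 1) ≅
      CohB1.tensorMod ((Scheme.Modules.pullback (p₁ (ULift.{u} ℤ) n m)).obj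
          (twist (CohB1.polyGrading n (ULift.{u} ℤ)) 1))
        ((Scheme.Modules.pullback (p₂ (ULift.{u} ℤ) n m)).obj
          (twist (CohB1.polyGrading m (ULift.{u} ℤ)) 1))) :
    ∃ j : X ⟶ pullback (CohB1.ProjSpace.toSpec (n * m + n + m) (ULift.{u} ℤ)) tS, IsImmersion j ∧ j ≫ pullback.snd (CohB1.ProjSpace.toSpec (n * m + n + m) (ULift.{u} ℤ)) tS = q ∧
      Nonempty (CohB1.tensorMod L L' ≅ (Scheme.Modules.pullback j).obj
        ((Scheme.Modules.pullback (pullback.fst (CohB1.ProjSpace.toSpec (n * m + n + m) (ULift.{u} ℤ)) tS)).obj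
          (twist (CohB1.polyGrading (n * m + n + m) (ULift.{u} ℤ)) 1))) := by
  have hr'S1 : pullback.lift r' q hr'q ≫ pullback.fst (CohB1.ProjSpace.toSpec m (ULift.{u} ℤ)) tS = r' := pullback.lift_fst _ _ _
  have hr'S2 : pullback.lift r' q hr'q ≫ pullback.snd (CohB1.ProjSpace.toSpec m (ULift.{u} ℤ)) tS = q := pullback.lift_snd _ _ _
  obtain ⟨r'S, hr'S⟩ : ∃ r'S : X ⟶ pullback (CohB1.ProjSpace.toSpec m (ULift.{u} ℤ)) tS, r'S = pullback.lift r' q hr'q := ⟨_, rfl⟩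
  rw [← hr'S] at hr'S1 hr'S2
  have hk1 : pullback.lift i r'S (hiq.trans hr'S2.symm) ≫
      pullback.fst (pullback.snd (CohB1.ProjSpace.toSpec n (ULift.{u} ℤ)) tS) (pullback.snd (CohB1.ProjSpace.toSpec m (ULift.{u} ℤ)) tS) = i := pullback.lift_fst _ _ _
  have hk2 : pullback.lift i r'S (hiq.trans hr'S2.symm) ≫
      pullback.snd (pullback.snd (CohB1.ProjSpace.toSpec n (ULift.{u} ℤ)) tS) (pullback.snd (CohB1.ProjSpace.toSpec m (ULift.{u} ℤ)) tS) = r'S := pullback.lift_snd _ _ _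
  obtain ⟨k, hk⟩ : ∃ k : X ⟶ pullback (pullback.snd (CohB1.ProjSpace.toSpec n (ULift.{u} ℤ)) tS) (pullback.snd (CohB1.ProjSpace.toSpec m (ULift.{u} ℤ)) tS),
      k = pullback.lift i r'S (hiq.trans hr'S2.symm) := ⟨_, rfl⟩
  rw [← hk] at hk1 hk2
  have hkimm : IsImmersion k := by
    have : IsImmersion (k ≫ pullback.fst (pullback.snd (CohB1.ProjSpace.toSpec n (ULift.{u} ℤ)) tS) (pullback.snd (CohB1.ProjSpace.toSpec m (ULift.{u} ℤ)) tS)) := by
      rw [hk1]; exact hi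
    exact IsImmersion.of_comp k (pullback.fst _ _)
  have hφ : IsClosedImmersion (liftBC (CohB1.ProjSpace.toSpec n (ULift.{u} ℤ)) (CohB1.ProjSpace.toSpec m (ULift.{u} ℤ)) (CohB1.ProjSpace.toSpec (n * m + n + m) (ULift.{u} ℤ)) tS rZ hrZq) :=
    MorphismProperty.of_isPullback (P := @IsClosedImmersion)
      (isPullback_liftBC (CohB1.ProjSpace.toSpec n (ULift.{u} ℤ)) (CohB1.ProjSpace.toSpec m (ULift.{u} ℤ)) (CohB1.ProjSpace.toSpec (n * m + n + m) (ULift.{u} ℤ)) tS rZ hrZq).flip hrZ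
  have hφ1 : liftBC (CohB1.ProjSpace.toSpec n (ULift.{u} ℤ)) (CohB1.ProjSpace.toSpec m (ULift.{u} ℤ)) (CohB1.ProjSpace.toSpec (n * m + n + m) (ULift.{u} ℤ)) tS rZ hrZq ≫ pullback.fst (CohB1.ProjSpace.toSpec (n * m + n + m) (ULift.{u} ℤ)) tS = prodBC (CohB1.ProjSpace.toSpec n (ULift.{u} ℤ)) (CohB1.ProjSpace.toSpec m (ULift.{u} ℤ)) tS ≫ rZ :=
    pullback.lift_fst _ _ _
  have hφ2 : liftBC (CohB1.ProjSpace.toSpec n (ULift.{u} ℤ)) (CohB1.ProjSpace.toSpec m (ULift.{u} ℤ)) (CohB1.ProjSpace.toSpec (n * m + n + m) (ULift.{u} ℤ)) tS rZ hrZq ≫ pullback.snd (CohB1.ProjSpace.toSpec (n * m + n + m) (ULift.{u} ℤ)) tS =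
      pullback.fst (pullback.snd (CohB1.ProjSpace.toSpec n (ULift.{u} ℤ)) tS) (pullback.snd (CohB1.ProjSpace.toSpec m (ULift.{u} ℤ)) tS) ≫ pullback.snd (CohB1.ProjSpace.toSpec n (ULift.{u} ℤ)) tS :=
    liftBC_snd (CohB1.ProjSpace.toSpec n (ULift.{u} ℤ)) (CohB1.ProjSpace.toSpec m (ULift.{u} ℤ)) (CohB1.ProjSpace.toSpec (n * m + n + m) (ULift.{u} ℤ)) tS rZ hrZq
  obtain ⟨φ, hφdef⟩ : ∃ φ : pullback (pullback.snd (CohB1.ProjSpace.toSpec n (ULift.{u} ℤ)) tS) (pullback.snd (CohB1.ProjSpace.toSpec m (ULift.{u} ℤ)) tS) ⟶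
      pullback (CohB1.ProjSpace.toSpec (n * m + n + m) (ULift.{u} ℤ)) tS, φ = liftBC (CohB1.ProjSpace.toSpec n (ULift.{u} ℤ)) (CohB1.ProjSpace.toSpec m (ULift.{u} ℤ)) (CohB1.ProjSpace.toSpec (n * m + n + m) (ULift.{u} ℤ)) tS rZ hrZq := ⟨_, rfl⟩
  rw [← hφdef] at hφ hφ1 hφ2
  have hp1 : prodBC (CohB1.ProjSpace.toSpec n (ULift.{u} ℤ)) (CohB1.ProjSpace.toSpec m (ULift.{u} ℤ)) tS ≫ p₁ (ULift.{u} ℤ) n m =
      pullback.fst _ _ ≫ pullback.fst (CohB1.ProjSpace.toSpec n (ULift.{u} ℤ)) tS := pullback.lift_fst _ _ _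
  have hp2 : prodBC (CohB1.ProjSpace.toSpec n (ULift.{u} ℤ)) (CohB1.ProjSpace.toSpec m (ULift.{u} ℤ)) tS ≫ p₂ (ULift.{u} ℤ) n m =
      pullback.snd _ _ ≫ pullback.fst (CohB1.ProjSpace.toSpec m (ULift.{u} ℤ)) tS := pullback.lift_snd _ _ _
  obtain ⟨π, hπ⟩ : ∃ π : pullback (pullback.snd (CohB1.ProjSpace.toSpec n (ULift.{u} ℤ)) tS) (pullback.snd (CohB1.ProjSpace.toSpec m (ULift.{u} ℤ)) tS) ⟶
      PP (ULift.{u} ℤ) n m, π = prodBC (CohB1.ProjSpace.toSpec n (ULift.{u} ℤ)) (CohB1.ProjSpace.toSpec m (ULift.{u} ℤ)) tS := ⟨_, rfl⟩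
  rw [← hπ] at hφ1 hp1 hp2
  refine ⟨k ≫ φ, inferInstance, ?_, ?_⟩
  · rw [Category.assoc, hφ2, ← Category.assoc, hk1]
    exact hiq
  · have e1 : (k ≫ φ) ≫ pullback.fst (CohB1.ProjSpace.toSpec (n * m + n + m) (ULift.{u} ℤ)) tS = (k ≫ π) ≫ rZ := by
      exact (Category.assoc _ _ _).trans ((congrArg (fun z => k ≫ z) hφ1).trans
        (Category.assoc _ _ _).symm)
    have e2 : (k ≫ π) ≫ p₁ (ULift.{u} ℤ) n m = i ≫ pullback.fst (CohB1.ProjSpace.toSpec n (ULift.{u} ℤ)) tS := by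
      exact (Category.assoc _ _ _).trans ((congrArg (fun z => k ≫ z) hp1).trans
        ((Category.assoc _ _ _).symm.trans (congrArg (fun z => z ≫ _) hk1)))
    have e3 : (k ≫ π) ≫ p₂ (ULift.{u} ℤ) n m = r' := by
      exact (Category.assoc _ _ _).trans ((congrArg (fun z => k ≫ z) hp2).trans
        ((Category.assoc _ _ _).symm.trans ((congrArg (fun z => z ≫ _) hk2).trans hr'S1)))
    have hO : ∀ j : ℕ, PicF.IsInvertible (twist (CohB1.polyGrading j (ULift.{u} ℤ)) 1) :=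
      fun j => isInvertible_O1 j _
    refine ⟨Iso.symm ?_⟩
    refine (pullbackComp (k ≫ φ) (pullback.fst (CohB1.ProjSpace.toSpec (n * m + n + m) (ULift.{u} ℤ)) tS)).app _ ≪≫ ?_
    refine (pullbackCongr e1).app _ ≪≫ ?_
    refine ((pullbackComp (k ≫ π) rZ).app _).symm ≪≫ ?_
    refine (Scheme.Modules.pullback (k ≫ π)).mapIso eSeg ≪≫ ?_
    refine pullbackTensorIso (k ≫ π) (isInvertible_pullback _ (hO n))
      (isInvertible_pullback _ (hO m)) ≪≫ ?_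
    refine tensorModCongr ?_ ?_
    · refine (pullbackComp (k ≫ π) (p₁ (ULift.{u} ℤ) n m)).app _ ≪≫ ?_
      refine (pullbackCongr e2).app _ ≪≫ ?_
      refine ((pullbackComp i (pullback.fst (CohB1.ProjSpace.toSpec n (ULift.{u} ℤ)) tS)).app _).symm ≪≫ ?_
      exact eL.symm
    · refine (pullbackComp (k ≫ π) (p₂ (ULift.{u} ℤ) n m)).app _ ≪≫ ?_
      refine (pullbackCongr e3).app _ ≪≫ ?_
      exact τ'

/-- Let S be an affine scheme, q : X → S a morphism of schemes and L an invertible O_X-module that is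
very ample relative to q, in the sense that there are n and an immersion i : X → P^n_S over S with
i^*O(1) ≅ L. If L' is a second invertible O_X-module generated by finitely many global sections s_1,
…, s_m (their germs span every stalk), then L ⊗ L' is very ample relative to q in the same sense. -/
theorem result {X S : Scheme.{u}} [IsAffine S] (q : X ⟶ S)
    (L L' : X.Modules) (hL : PicF.IsInvertible L) (hva : RelAmple.IsRelVeryAmplePn q L)
    (hL' : PicF.IsInvertible L') {m : ℕ} (s : Fin m → ProjUP.Γm L') (hs : ProjUP.GeneratedBy L' s) :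
    RelAmple.IsRelVeryAmplePn q (CohB1.tensorMod L L') := by
  classical
  obtain ⟨n, i, hi, hiq, ⟨eL⟩⟩ := hva
  -- the sections of `L'`, with a zero section added
  let τ : Fin (m + 1) → (Coh.structureModule X ⟶ L') :=
    fun j => Fin.cases 0 (fun k => homOfSec L' (s k)) j
  have hcovτ : ∀ x : X, ∃ j, x ∈ CohB1.genLocus L' (τ j) := by
    intro x
    obtain ⟨k, hk⟩ := exists_mem_genLocus_of_span_germ_eq_top hL'
      (fun k => homOfSec L' (s k)) x (by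
        have h1 := hs x
        simp only [secOf_homOfSec]
        exact h1)
    exact ⟨Fin.succ k, hk⟩
  obtain ⟨r', hr'q, τ', -⟩ := exists_toPn_iso m (q ≫ specULiftZIsTerminal.from S) τ hcovτ
  obtain ⟨rZ, hrZ, hrZq, ⟨eSeg⟩⟩ := exists_segre_ring_iso (ULift.{u} ℤ) n m
  obtain ⟨j, hj, hjq, hiso⟩ := core (specULiftZIsTerminal.from S) q n m i hi hiq L L' eL r' hr'q τ'
    rZ hrZ hrZq eSeg
  exact ⟨n * m + n + m, j, hj, hjq, hiso⟩

end Groth.Agent.S10965
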