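import Groth.Statements.S10967
import Groth.Agent.Lib.Helper24.QAffLocal
-- import your own Groth.Agent.* helpers here

set_option autoImplicit false
universe u
open CategoryTheory AlgebraicGeometry TopologicalSpace
open MoreMor

namespace Groth.Agent.S10967

/-- Quasi-affine over an affine base: call a morphism f : X → Y quasi-affine when Y has a cover by
affine opens V_i whose preimages f⁻¹(V_i) are quasi-affine schemes (quasi-compact open subschemes of
affine schemes; equivalently quasi-compact with X → Spec Γ(X, O_X) an immersion). If Y is affine and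
f is quasi-affine in this sense, then X is a quasi-affine scheme. -/
theorem result {X Y : Scheme.{u}} [IsAffine Y]
    (f : X ⟶ Y) {ι : Type u} (V : ι → Y.Opens) (hV : iSup V = ⊤) (hVa : ∀ i, IsAffineOpen (V i))
    (hq : ∀ i, Scheme.IsQuasiAffine (↑(f ⁻¹ᵁ V i) : Scheme.{u})) :
    X.IsQuasiAffine := by
  classical
  -- X is compact
  have hXc : IsCompact (Set.univ : Set X) := by
    obtain ⟨s, hs⟩ := isCompact_univ.elim_finite_subcover (fun i => (V i : Set Y))
      (fun i => (V i).isOpen) (by
        intro y _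
        have : y ∈ iSup V := by rw [hV]; trivial
        obtain ⟨i, hi⟩ := Opens.mem_iSup.mp this
        exact Set.mem_iUnion.mpr ⟨i, hi⟩)
    have h1 : (Set.univ : Set X) = ⋃ i ∈ s, ((f ⁻¹ᵁ V i : X.Opens) : Set X) := by
      refine (Set.eq_univ_of_forall fun x => ?_).symm
      obtain ⟨i, hi, hxi⟩ := Set.mem_iUnion₂.mp (hs (Set.mem_univ (f x)))
      exact Set.mem_iUnion₂.mpr ⟨i, hi, hxi⟩
    rw [h1]
    refine s.isCompact_biUnion fun i _ => ?_
    have := hq i
    exact isCompact_iff_compactSpace.mpr (inferInstance : CompactSpace (f ⁻¹ᵁ V i).toScheme)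
  have h2 : ((f ⁻¹ᵁ (⊤ : Y.Opens) : X.Opens) : Scheme.{u}).IsQuasiAffine :=
    Groth.Agent.Lib.Helper24.QAffLocal.isQuasiAffine_preimage_of_cover f V hVa hq ⊤
      (isAffineOpen_top Y) (by rw [hV]) (by simpa using hXc)
  have h3 : ((⊤ : X.Opens) : Scheme.{u}).IsQuasiAffine := h2
  exact Groth.Agent.Lib.Helper97.QAff.isQuasiAffine_of_iso (X.topIso).symm

end Groth.Agent.S10967
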