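import Groth.Statements.S10969
import Groth.Agent.Lib.Helper55.FunFld.Degree

set_option autoImplicit false
open FunFld

namespace Groth.Agent.S10969

/-- For `x` transcendental over `k` in a function field of one variable `K/k`, the degree of the divisor
of zeros of `x` equals `[K : k(x)]`. -/
theorem result (k K : Type*) [Field k] [Field K] [Algebra k K]
    (hK : FunFld.IsFunctionField k K) (x : K) (hx : Transcendental k x) :
    (∑ P ∈ (FunFld.div k x).support with 0 < FunFld.div k x P,
        FunFld.div k x P * (P.deg : ℤ)) =
      Module.finrank (IntermediateField.adjoin k ({x} : Set K)) K := by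
  rw [← Groth.Agent.Lib.Helper55.ff_deg_posPart]
  exact Groth.Agent.Lib.Helper55.ff_deg_zerosDiv hK hx

end Groth.Agent.S10969
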