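import Groth.Statements.S10973
import Groth.Agent.Lib.Helper55.FunFld.LD

set_option autoImplicit false
open FunFld

namespace Groth.Agent.S10973

/-- Two nonzero elements of a function field of one variable with the same principal divisor differ by a
constant multiple. -/
theorem result (k K : Type*) [Field k] [Field K] [Algebra k K]
    (hK : FunFld.IsFunctionField k K) (x y : K) (hx : x ≠ 0) (hy : y ≠ 0)
    (h : ∀ P : FunFld.Place k K, P.ord x = P.ord y) : ∃ c : k, x = c • y :=
  Groth.Agent.Lib.Helper55.ff_eq_smul_of_ord_eq hK hx hy h

end Groth.Agent.S10973
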