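import Groth.Statements.S11000
import Mathlib
-- import your own Groth.Agent.* helpers here

set_option autoImplicit false
universe u v
open FunFld

namespace Groth.Agent.S11000

/-- Over a perfect ground field every function field of one variable is geometric (`k' ⊗_k K` is a field
for all finite `k'/k`). -/
theorem result (k : Type u) (K : Type v) [Field k] [Field K] [Algebra k K] [PerfectField k]
    (hK : FunFld.IsFunctionField k K) : FunFld.IsGeometric k K := by
  intro k' _ _ hfin
  haveI := hfin
  obtain ⟨θ, hθ⟩ := Field.exists_primitive_element k k'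
  have hint : IsIntegral k θ := Algebra.IsIntegral.isIntegral θ
  have hadj : Algebra.adjoin k ({θ} : Set k') = ⊤ := by
    rw [← IntermediateField.adjoin_simple_toSubalgebra_of_isAlgebraic hint.isAlgebraic, hθ,
      IntermediateField.top_toSubalgebra]
  have hf_irr : Irreducible (minpoly k θ) := minpoly.irreducible hint
  have hf_monic : (minpoly k θ).Monic := minpoly.monic hint
  have hf1 : minpoly k θ ≠ 1 := minpoly.ne_one k θ
  have hF_monic : ((minpoly k θ).map (algebraMap k K)).Monic := hf_monic.map _
  have hF1 : (minpoly k θ).map (algebraMap k K) ≠ 1 := by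
    intro h
    apply hf1
    apply Polynomial.map_injective _ (algebraMap k K).injective
    rw [h, Polynomial.map_one]
  have lift_mon : ∀ g : Polynomial K, g.Monic → g ∣ (minpoly k θ).map (algebraMap k K) →
      ∃ g₀ : Polynomial k, g₀.Monic ∧ g₀.map (algebraMap k K) = g := by
    intro g hg hd
    have h1 := integralClosure.mem_lifts_of_monic_of_dvd_map K hf_monic hg hd
    have h2 : g ∈ Polynomial.lifts (algebraMap k K) := by
      rw [Polynomial.lifts_iff_coeff_lifts] at h1 ⊢
      intro n
      obtain ⟨c, hc⟩ := h1 n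
      have h3 : IsIntegral k (g.coeff n) := by rw [← hc]; exact c.2
      exact hK.2 _ h3.isAlgebraic
    obtain ⟨q, hq1, _, hq3⟩ := Polynomial.lifts_and_natDegree_eq_and_monic h2 hg
    exact ⟨q, hq3, hq1⟩
  have hF_irr : Irreducible ((minpoly k θ).map (algebraMap k K)) := by
    rw [Polynomial.irreducible_of_monic hF_monic hF1]
    intro g h hg hh hgh
    obtain ⟨g₀, hg₀, rfl⟩ := lift_mon g hg ⟨h, hgh.symm⟩
    obtain ⟨h₀, hh₀, rfl⟩ := lift_mon h hh ⟨_, ((mul_comm _ _).trans hgh).symm⟩
    have h4 : g₀ * h₀ = minpoly k θ := by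
      apply Polynomial.map_injective _ (algebraMap k K).injective
      rw [Polynomial.map_mul, hgh]
    rcases (Polynomial.irreducible_of_monic hf_monic hf1).mp hf_irr g₀ h₀ hg₀ hh₀ h4 with h5 | h5
    · left; rw [h5, Polynomial.map_one]
    · right; rw [h5, Polynomial.map_one]
  haveI : Fact (Irreducible ((minpoly k θ).map (algebraMap k K))) := ⟨hF_irr⟩
  let i : K →+* TensorProduct k k' K :=
    (Algebra.TensorProduct.includeRight : K →ₐ[k] TensorProduct k k' K).toRingHom
  let j : k' →+* TensorProduct k k' K :=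
    (Algebra.TensorProduct.includeLeft : k' →ₐ[k] TensorProduct k k' K).toRingHom
  have h6 : i.comp (algebraMap k K) = j.comp (algebraMap k k') := by
    ext c
    show (1 : k') ⊗ₜ[k] (algebraMap k K c) = (algebraMap k k' c) ⊗ₜ[k] (1 : K)
    rw [Algebra.algebraMap_eq_smul_one, Algebra.algebraMap_eq_smul_one, TensorProduct.smul_tmul]
  have hroot : Polynomial.eval₂ i (θ ⊗ₜ[k] (1 : K)) ((minpoly k θ).map (algebraMap k K)) = 0 := by
    rw [Polynomial.eval₂_map, h6]
    have h7 := Polynomial.hom_eval₂ (minpoly k θ) (algebraMap k k') j θ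
    have h8 : j θ = θ ⊗ₜ[k] (1 : K) := rfl
    rw [h8] at h7
    rw [← h7, ← Polynomial.aeval_def, minpoly.aeval, map_zero]
  let φ : AdjoinRoot ((minpoly k θ).map (algebraMap k K)) →+* TensorProduct k k' K :=
    AdjoinRoot.lift i (θ ⊗ₜ[k] (1 : K)) hroot
  have hinj : Function.Injective φ := φ.injective
  have hsurj : Function.Surjective φ := by
    intro z
    induction z using TensorProduct.induction_on with
    | zero => exact ⟨0, map_zero φ⟩
    | tmul x c =>
      have hx : x ∈ Algebra.adjoin k ({θ} : Set k') := by rw [hadj]; trivial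
      rw [Algebra.adjoin_singleton_eq_range_aeval] at hx
      obtain ⟨p, rfl⟩ := hx
      refine ⟨AdjoinRoot.of _ c * AdjoinRoot.mk _ (p.map (algebraMap k K)), ?_⟩
      have h7 := Polynomial.hom_eval₂ p (algebraMap k k') j θ
      have h8 : j θ = θ ⊗ₜ[k] (1 : K) := rfl
      rw [h8] at h7
      rw [map_mul, AdjoinRoot.lift_of, AdjoinRoot.lift_mk, Polynomial.eval₂_map, h6, ← h7,
        ← Polynomial.aeval_def]
      show ((1 : k') ⊗ₜ[k] c) * ((Polynomial.aeval θ p) ⊗ₜ[k] (1 : K)) = _
      rw [Algebra.TensorProduct.tmul_mul_tmul, one_mul, mul_one]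
      rfl
    | add a b ha hb =>
      obtain ⟨u, rfl⟩ := ha
      obtain ⟨v, rfl⟩ := hb
      exact ⟨u + v, map_add φ u v⟩
  exact (RingEquiv.ofBijective φ ⟨hinj, hsurj⟩).symm.toMulEquiv.isField (Field.toIsField _)

end Groth.Agent.S11000
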