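import Groth.Statements.S11016
import Groth.Agent.Lib.Helper55.FunFld.LDiv

set_option autoImplicit false
open FunFld

namespace Groth.Agent.S11016

/-- `L(D) ≠ 0` iff there is an effective divisor linearly equivalent to `D`. -/
theorem result (k K : Type*) [Field k] [Field K] [Algebra k K]
    (hK : FunFld.IsFunctionField k K) (D : FunFld.Divisor k K) :
    FunFld.L D ≠ ⊥ ↔ ∃ x : K, x ≠ 0 ∧ 0 ≤ D + FunFld.div k x :=
  Groth.Agent.Lib.Helper55.ff_L_ne_bot_iff hK D

end Groth.Agent.S11016
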