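import Groth.Statements.S11017
-- import your own Groth.Agent.* helpers here

set_option autoImplicit false
open FunFld

namespace Groth.Agent.S11017

/-- For a Weil differential `ω` with divisor `C`, `ord_P [ω] ≥ e` iff `ω` kills every repartition
concentrated at `P` with `P`-component of order at least `-e`. -/
theorem result (k K : Type*) [Field k] [Field K] [Algebra k K] (ω : Module.Dual k (FunFld.adele k K)) (C : FunFld.Divisor k K) (hω : FunFld.IsDivOf ω C)
    (P : FunFld.Place k K) (e : ℤ) :
    e ≤ C P ↔ ∀ (a : FunFld.Place k K → K) (ha : a ∈ FunFld.adele k K),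
      (∀ Q, Q ≠ P → a Q = 0) → P.1 (a P) ≤ WithZero.exp e → ω ⟨a, ha⟩ = 0 := by
  classical
  have hWDC : ω ∈ FunFld.WD C := (hω C).mpr le_rfl
  constructor
  · intro he a ha h0 hP
    -- lower `C` at `P` to `e`
    have hE : C.update P e ≤ C := by
      intro Q
      by_cases hQ : Q = P
      · subst hQ; simpa using he
      · simp [Finsupp.update_apply, hQ]
    have hWDE : ω ∈ FunFld.WD (C.update P e) := (hω _).mpr hE
    rw [FunFld.WD, Submodule.mem_dualAnnihilator] at hWDE
    apply hWDE
    rw [FunFld.ADK, Submodule.mem_comap]
    apply Submodule.mem_sup_left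
    intro Q
    by_cases hQ : Q = P
    · subst hQ; simpa using hP
    · change Q.1 (a Q) ≤ _
      rw [h0 Q hQ]; simp
  · intro h
    by_contra hlt
    push Not at hlt
    have hWDE : ω ∈ FunFld.WD (C.update P e) := by
      rw [FunFld.WD, Submodule.mem_dualAnnihilator]
      intro b hb
      rw [FunFld.ADK, Submodule.mem_comap, Submodule.mem_sup] at hb
      obtain ⟨a', ha', z', ⟨z, rfl⟩, hsum⟩ := hb
      -- the part of `a'` concentrated at `P`
      let aP : FunFld.Place k K → K := fun Q => if Q = P then a' P else 0
      have haP : aP ∈ FunFld.adele k K := by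
        change ∀ᶠ Q : FunFld.Place k K in Filter.cofinite, Q.1 (aP Q) ≤ 1
        rw [Filter.eventually_cofinite]
        refine (Set.finite_singleton P).subset ?_
        intro Q hQ
        by_contra hne
        apply hQ
        have : aP Q = 0 := if_neg hne
        rw [this]; simp
      have h1 : ω ⟨aP, haP⟩ = 0 := by
        apply h aP haP
        · intro Q hQ; exact if_neg hQ
        · have : aP P = a' P := if_pos rfl
          rw [this]
          have := ha' P
          simpa using this
      have h2 : ω (b - ⟨aP, haP⟩) = 0 := by
        rw [FunFld.WD, Submodule.mem_dualAnnihilator] at hWDC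
        apply hWDC
        rw [FunFld.ADK, Submodule.mem_comap, Submodule.mem_sup]
        refine ⟨a' - aP, ?_, FunFld.diag k K z, ⟨z, rfl⟩, ?_⟩
        · intro Q
          by_cases hQ : Q = P
          · subst hQ
            have : (a' - aP) Q = 0 := by simp [aP]
            rw [this]; simp
          · have : (a' - aP) Q = a' Q := by simp [aP, hQ]
            rw [this]
            have := ha' Q
            simpa [Finsupp.update_apply, hQ, Function.update_of_ne hQ] using this
        · change a' - aP + (FunFld.diag k K) z = (b : FunFld.Place k K → K) - aP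
          have hsum' : (b : FunFld.Place k K → K) = a' + (FunFld.diag k K) z := hsum.symm
          rw [hsum']; abel
      have : b = ⟨aP, haP⟩ + (b - ⟨aP, haP⟩) := by abel
      rw [this, map_add, h1, h2, add_zero]
    have := (hω _).mp hWDE P
    simp at this
    omega

end Groth.Agent.S11017
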