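import Groth.Statements.S11026
import Groth.Agent.Lib.Helper63.SepVar

set_option autoImplicit false
universe u v
open FunFld

namespace Groth.Agent.S11026

/-- A weakly separable finite extension `K'/k'` of a geometric function field `K/k` (the map `Ω_{K/k} →
Ω_{K'/k'}` injective) is separable over the compositum `k'K`. -/
theorem result (k k' : Type u) (K K' : Type v) [Field k] [Field k'] [Field K] [Field K']
    [Algebra k k'] [Algebra k K] [Algebra K K'] [Algebra k' K'] [Algebra k K']
    [IsScalarTower k k' K'] [IsScalarTower k K K'] [FiniteDimensional K K']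
    (hK : FunFld.IsFunctionField k K) (hg : FunFld.IsGeometric k K)
    (hK' : FunFld.IsFunctionField k' K') (hg' : FunFld.IsGeometric k' K')
    (hw : Function.Injective (KaehlerDifferential.map k k' K K')) :
    Algebra.IsSeparable (IntermediateField.adjoin K (Set.range (algebraMap k' K'))) K' := by
  classical
  -- a separating element of `K/k`
  obtain ⟨x, hx⟩ := Groth.Agent.Lib.Helper63.SepVar.exists_D_ne_zero hK hg
  have hx' : KaehlerDifferential.D k' K' (algebraMap K K' x) ≠ 0 := by
    intro h0
    apply hx
    apply hw
    rw [KaehlerDifferential.map_D, h0, map_zero]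
  have hsep := Groth.Agent.Lib.Helper63.SepVar.isSeparable_of_D_ne_zero hK' hg' hx'
  -- the inclusion `k'(x) ⊆ K k'`
  set K₁ : IntermediateField K K' := IntermediateField.adjoin K (Set.range (algebraMap k' K'))
    with hK₁
  set E : IntermediateField k' K' := IntermediateField.adjoin k' ({algebraMap K K' x} : Set K')
    with hE
  have hle : ∀ z : K', z ∈ E → z ∈ K₁ := by
    intro z hz
    induction hz using IntermediateField.adjoin_induction with
    | mem y hy =>
      rw [Set.mem_singleton_iff] at hy
      rw [hy]
      exact K₁.algebraMap_mem x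
    | algebraMap c => exact IntermediateField.subset_adjoin K _ ⟨c, rfl⟩
    | add a b _ _ ha hb => exact add_mem ha hb
    | inv a _ ha => exact inv_mem ha
    | mul a b _ _ ha hb => exact mul_mem ha hb
  let ι : E →+* K₁ :=
    { toFun := fun z => ⟨z.1, hle z.1 z.2⟩
      map_one' := rfl
      map_mul' := fun _ _ => rfl
      map_zero' := rfl
      map_add' := fun _ _ => rfl }
  letI : Algebra E K₁ := ι.toAlgebra
  haveI : IsScalarTower E K₁ K' := IsScalarTower.of_algebraMap_eq (fun _ => rfl)
  exact Algebra.isSeparable_tower_top_of_isSeparable E K₁ K'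

end Groth.Agent.S11026
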