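import Groth.Statements.S11032
import Groth.Agent.Lib.Helper63.Conorm

set_option autoImplicit false
open FunFld

namespace Groth.Agent.S11032

/-- For a finite extension `K'/K` of function fields, `deg N*(D) = ([K':K]/[k':k]) deg D` (equivalently,
with degrees over `k`, `deg_k N*(D) = [K':K] deg_k D`) and `[x]_{K'} = N*([x]_K)` for `x ∈ K`. -/
theorem result (k K K' : Type*) [Field k] [Field K] [Field K'] [Algebra k K] [Algebra K K'] [Algebra k K']
    [IsScalarTower k K K'] [FiniteDimensional K K'] (hK : FunFld.IsFunctionField k K) (hg : FunFld.IsGeometric k K) (D : FunFld.Divisor k K) (x : K) :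
    (FunFld.conorm K' D).deg = Module.finrank K K' * D.deg ∧
    FunFld.div k (algebraMap K K' x) = FunFld.conorm K' (FunFld.div k x) := by
  rw [Groth.Agent.Lib.Helper63.FunFldExt.conorm_eq_conormHom,
    Groth.Agent.Lib.Helper63.FunFldExt.conorm_eq_conormHom]
  exact ⟨Groth.Agent.Lib.Helper63.Conorm.deg_conormHom hK D,
    Groth.Agent.Lib.Helper63.Conorm.div_algebraMap hK x⟩

end Groth.Agent.S11032
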