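import Groth.Statements.S11037
import Groth.Agent.Lib.Helper55.FunFld.ClassNum
open Groth.Agent.Lib.Helper55

set_option autoImplicit false
open FunFld

namespace Groth.Agent.S11037

/-- Over a finite constant field with `q` elements the degree-zero divisor classes modulo principal
divisors form a finite group, of order `h`; and for `n ≥ 2g - 1` the number `a(n)` of effective
divisors of degree `n` is `h (q^(n-g+1) - 1)/(q - 1)` when `n` is the degree of some divisor, and
`0` otherwise. -/
theorem result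
    (k K : Type*) [Field k] [Finite k] [Field K] [Algebra k K]
    (hK : FunFld.IsFunctionField k K) :
    Finite ((FunFld.degHom k K).ker ⧸ (FunFld.prinDivs k K).addSubgroupOf (FunFld.degHom k K).ker) ∧
    ∀ n : ℕ, 2 * FunFld.genus k K ≤ n + 1 →
      ((∃ D : FunFld.Divisor k K, D.deg = n) →
        ((Nat.card k : ℤ) - 1) * (FunFld.effDivCount k K n : ℤ) =
          (FunFld.classNum k K : ℤ) * ((Nat.card k : ℤ) ^ (n + 1 - FunFld.genus k K) - 1)) ∧
      ((¬ ∃ D : FunFld.Divisor k K, D.deg = n) → FunFld.effDivCount k K n = 0) := by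
  refine ⟨ff_finite_classGroup hK, fun n hn => ⟨?_, ?_⟩⟩
  · rintro ⟨D₀, hD₀⟩
    have h := ff_effDivCount_eq hK D₀ n hD₀ hn
    have hq : 1 ≤ Nat.card k := Nat.card_pos
    have hq2 : 1 ≤ Nat.card k ^ (n + 1 - FunFld.genus k K) := Nat.one_le_pow _ _ hq
    have h' := congrArg (fun m : ℕ => (m : ℤ)) h
    simp only [Nat.cast_mul, Nat.cast_sub hq, Nat.cast_sub hq2, Nat.cast_pow, Nat.cast_one] at h'
    exact h'
  · intro hno
    unfold FunFld.effDivCount
    have : IsEmpty {D : FunFld.Divisor k K // 0 ≤ D ∧ D.deg = (n : ℤ)} :=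
      ⟨fun D => hno ⟨D.1, D.2.2⟩⟩
    exact Nat.card_of_isEmpty

end Groth.Agent.S11037
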