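import Groth.Statements.S11043
import Mathlib.RingTheory.Polynomial.Cyclotomic.Basic
-- import your own Groth.Agent.* helpers here

set_option autoImplicit false
open FunFld

namespace Groth.Agent.S11043

/-- A product over `range (m * e)` of a function that is `m`-periodic. -/
theorem prod_range_mul_periodic {M : Type*} [CommMonoid M] (g : ℕ → M) (m : ℕ)
    (hg : ∀ i, g (m + i) = g i) (e : ℕ) :
    ∏ i ∈ Finset.range (m * e), g i = (∏ i ∈ Finset.range m, g i) ^ e := by
  have hg' : ∀ j i, g (m * j + i) = g i := by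
    intro j
    induction j with
    | zero => intro i; simp
    | succ j ih =>
      intro i
      rw [Nat.mul_succ, Nat.add_assoc, ih, hg]
  induction e with
  | zero => simp
  | succ e ih =>
    rw [Nat.mul_succ, Finset.prod_range_add, ih, pow_succ]
    congr 1
    exact Finset.prod_congr rfl fun i _ => hg' e i

/-- The product over the `n`-th roots of unity as a product over powers of a primitive root. -/
theorem prod_nthRootsFinset_eq_prod_range {R M : Type*} [CommRing R] [IsDomain R] [CommMonoid M]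
    {ζ : R} {n : ℕ} (hn : 0 < n) (hζ : IsPrimitiveRoot ζ n) (f : R → M) :
    ∏ θ ∈ Polynomial.nthRootsFinset n (1 : R), f θ = ∏ i ∈ Finset.range n, f (ζ ^ i) := by
  symm
  refine Finset.prod_bij (fun i _ => ζ ^ i) ?_ ?_ ?_ ?_
  · intro i _
    rw [Polynomial.mem_nthRootsFinset hn, ← pow_mul, mul_comm, pow_mul, hζ.pow_eq_one, one_pow]
  · intro i hi j hj hij
    exact hζ.pow_inj (Finset.mem_range.mp hi) (Finset.mem_range.mp hj) hij
  · intro θ hθ
    rw [Polynomial.mem_nthRootsFinset hn] at hθ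
    have : NeZero n := ⟨hn.ne'⟩
    obtain ⟨i, hi, rfl⟩ := hζ.eq_pow_of_pow_eq_one hθ
    exact ⟨i, Finset.mem_range.mpr hi, rfl⟩
  · intro i _
    rfl

theorem key (n d : ℕ) (hn : 0 < n) (hd : 0 < d) (z : ℂ) :
    ∏ θ ∈ Polynomial.nthRootsFinset n (1 : ℂ), (1 - θ ^ d * z) =
      (1 - z ^ (n / Nat.gcd n d)) ^ Nat.gcd n d := by
  have hζ : IsPrimitiveRoot (Complex.exp (2 * Real.pi * Complex.I / n)) n :=
    Complex.isPrimitiveRoot_exp n hn.ne'
  set ζ := Complex.exp (2 * Real.pi * Complex.I / n) with hζdef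
  have he : 0 < Nat.gcd n d := Nat.gcd_pos_of_pos_left d hn
  have hm : 0 < n / Nat.gcd n d := Nat.div_pos (Nat.le_of_dvd hn (Nat.gcd_dvd_left n d)) he
  have hξ : IsPrimitiveRoot (ζ ^ d) (n / Nat.gcd n d) := by
    have h1 := IsPrimitiveRoot.orderOf (ζ ^ d)
    rwa [orderOf_pow' ζ hd.ne', ← hζ.eq_orderOf] at h1
  rw [prod_nthRootsFinset_eq_prod_range hn hζ]
  have hnm : n = (n / Nat.gcd n d) * Nat.gcd n d := (Nat.div_mul_cancel (Nat.gcd_dvd_left n d)).symm
  have h2 : ∏ i ∈ Finset.range n, (1 - (ζ ^ i) ^ d * z) =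
      ∏ i ∈ Finset.range ((n / Nat.gcd n d) * Nat.gcd n d), (1 - (ζ ^ d) ^ i * z) := by
    rw [← hnm]
    refine Finset.prod_congr rfl fun i _ => ?_
    rw [← pow_mul, ← pow_mul, mul_comm i d]
  rw [h2, prod_range_mul_periodic (fun i => 1 - (ζ ^ d) ^ i * z) (n / Nat.gcd n d)]
  · congr 1
    rw [← prod_nthRootsFinset_eq_prod_range hm hξ (fun μ => 1 - μ * z),
      ← hξ.pow_sub_pow_eq_prod_sub_mul 1 z hm, one_pow]
  · intro i
    show 1 - (ζ ^ d) ^ (n / Nat.gcd n d + i) * z = 1 - (ζ ^ d) ^ i * z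
    rw [pow_add, hξ.pow_eq_one, one_mul]

/-- For positive integers `n`, `d` with `e = gcd(n, d)`, in `ℂ[t]` one has `(1 - t^{nd/e})^e = ∏_{θⁿ =
1} (1 - (θ t)^d)`, the product over the complex `n`-th roots of unity. -/
theorem result (n d : ℕ) (hn : 0 < n) (hd : 0 < d) :
    ((1 : Polynomial ℂ) - Polynomial.X ^ (n * d / Nat.gcd n d)) ^ Nat.gcd n d =
      ∏ θ ∈ Polynomial.nthRootsFinset n (1 : ℂ),
        (1 - Polynomial.C (θ ^ d) * Polynomial.X ^ d) := by
  apply Polynomial.funext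
  intro t
  simp only [Polynomial.eval_pow, Polynomial.eval_sub, Polynomial.eval_one, Polynomial.eval_X,
    Polynomial.eval_prod, Polynomial.eval_mul, Polynomial.eval_C]
  rw [key n d hn hd (t ^ d), ← pow_mul]
  congr 3
  rw [mul_comm n d, Nat.mul_div_assoc d (Nat.gcd_dvd_left n d)]

end Groth.Agent.S11043
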