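import Groth.Statements.S11049
import Mathlib.LinearAlgebra.Isomorphisms
import Mathlib.RingTheory.Finiteness.Finsupp
import Mathlib.LinearAlgebra.FiniteDimensional.Lemmas
import Mathlib.Algebra.Algebra.Bilinear
import Mathlib.RingTheory.Ideal.Span
-- import your own Groth.Agent.* helpers here

set_option autoImplicit false
open CAlg

namespace Groth.Agent.S11049

/-- Pure linear algebra: if `J ≤ A`, `J ≤ B` are subspaces of `M` with `M/A`, `M/B` finite-dimensional
and `B/J ≅ M/A`, then `dim M/B = dim A/J`. -/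
theorem lemmaA {k M : Type*} [Field k] [AddCommGroup M] [Module k M] (J A B : Submodule k M)
    (hJA : J ≤ A) (hJB : J ≤ B) [Module.Finite k (M ⧸ A)] [Module.Finite k (M ⧸ B)]
    (e : (M ⧸ A) ≃ₗ[k] ↥(B.map J.mkQ)) :
    Module.finrank k (M ⧸ B) = Module.finrank k ↥(A.map J.mkQ) := by
  have : Module.Finite k ↥(B.map J.mkQ) := Module.Finite.equiv e
  have : Module.Finite k ((M ⧸ J) ⧸ B.map J.mkQ) :=
    Module.Finite.equiv (Submodule.quotientQuotientEquivQuotient J B hJB).symm
  have : Module.Finite k (M ⧸ J) := Module.Finite.of_submodule_quotient (B.map J.mkQ)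
  have h1 := Submodule.finrank_quotient_add_finrank (A.map J.mkQ)
  have h2 := Submodule.finrank_quotient_add_finrank (B.map J.mkQ)
  have h3 : Module.finrank k ((M ⧸ J) ⧸ A.map J.mkQ) = Module.finrank k (M ⧸ A) :=
    LinearEquiv.finrank_eq (Submodule.quotientQuotientEquivQuotient J A hJA)
  have h4 : Module.finrank k ((M ⧸ J) ⧸ B.map J.mkQ) = Module.finrank k (M ⧸ B) :=
    LinearEquiv.finrank_eq (Submodule.quotientQuotientEquivQuotient J B hJB)
  have h5 : Module.finrank k (M ⧸ A) = Module.finrank k ↥(B.map J.mkQ) := e.finrank_eq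
  omega

/-- For `k`-algebras `S ⊆ R` with `R` an integral domain and a nonzero `x ∈ S`, if `R/S` and `R/Rx` are
finite-dimensional over `k` then `dim_k R/Rx = dim_k S/Sx`. (The published statement allows `x = 0`;
then `R` is a field finite over `k` and the two sides are `dim_k R` and `dim_k S`, which differ for
`S = k ⊊ R`; the published proof multiplies by `x` as an injection, so `x ≠ 0` is assumed here.) -/
theorem result
    (k R : Type*) [Field k] [CommRing R]
    [IsDomain R] [Algebra k R] (S : Subalgebra k R) (x : S) (hx : (x : R) ≠ 0)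
    [Module.Finite k (R ⧸ Subalgebra.toSubmodule S)]
    [Module.Finite k (R ⧸ Ideal.span {(x : R)})] :
    Module.finrank k (R ⧸ Ideal.span {(x : R)}) = Module.finrank k (S ⧸ Ideal.span {x}) := by
  classical
  -- multiplication by `x`
  set μ : R →ₗ[k] R := LinearMap.mulLeft k (x : R) with hμ
  have hμinj : Function.Injective μ := fun a b hab => mul_left_cancel₀ hx hab
  set Sk : Submodule k R := Subalgebra.toSubmodule S with hSk
  set Ix : Submodule k R := (Ideal.span {(x : R)}).restrictScalars k with hIx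
  set J : Submodule k R := Sk.map μ with hJ
  have hJA : J ≤ Sk := by
    rw [hJ, Submodule.map_le_iff_le_comap]
    intro s hs
    exact S.mul_mem x.2 hs
  have hJB : J ≤ Ix := by
    rw [hJ, Submodule.map_le_iff_le_comap]
    intro s _
    show (x : R) * s ∈ Ideal.span {(x : R)}
    exact Ideal.mul_mem_right _ _ (Ideal.mem_span_singleton_self _)
  have : Module.Finite k (R ⧸ Ix) :=
    Module.Finite.equiv (Submodule.Quotient.restrictScalarsEquiv k (Ideal.span {(x : R)})).symm
  have : Module.Finite k (R ⧸ Sk) := by rw [hSk]; infer_instance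
  -- `B/J ≅ R/S`
  set f : R →ₗ[k] R ⧸ J := J.mkQ ∘ₗ μ with hf
  have hker : LinearMap.ker f = Sk := by
    rw [hf, LinearMap.ker_comp, Submodule.ker_mkQ, hJ, Submodule.comap_map_eq_of_injective hμinj]
  have hrange : LinearMap.range f = Ix.map J.mkQ := by
    rw [hf, LinearMap.range_comp]
    congr 1
    ext r
    simp only [LinearMap.mem_range, hμ, LinearMap.mulLeft_apply, hIx,
      Submodule.restrictScalars_mem, Ideal.mem_span_singleton']
    constructor
    · rintro ⟨a, rfl⟩; exact ⟨a, mul_comm _ _⟩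
    · rintro ⟨a, rfl⟩; exact ⟨a, mul_comm _ _⟩
  let e : (R ⧸ Sk) ≃ₗ[k] ↥(Ix.map J.mkQ) :=
    (Submodule.quotEquivOfEq _ _ hker.symm).trans
      (f.quotKerEquivRange.trans (LinearEquiv.ofEq _ _ hrange))
  have key := lemmaA J Sk Ix hJA hJB e
  -- `A/J ≅ S/Sx`
  set g : S →ₗ[k] R ⧸ J := J.mkQ ∘ₗ S.val.toLinearMap with hg
  have hgker : LinearMap.ker g = (Ideal.span {x}).restrictScalars k := by
    ext s
    rw [hg, LinearMap.mem_ker, LinearMap.comp_apply, Submodule.mkQ_apply,
      Submodule.Quotient.mk_eq_zero, Submodule.restrictScalars_mem, Ideal.mem_span_singleton', hJ,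
      Submodule.mem_map]
    constructor
    · rintro ⟨r, hr, hrs⟩
      refine ⟨⟨r, hr⟩, ?_⟩
      apply Subtype.ext
      have h1 : (x : R) * r = (s : R) := hrs
      show r * (x : R) = (s : R)
      rw [mul_comm]; exact h1
    · rintro ⟨a, rfl⟩
      exact ⟨a, a.2, by simp [hμ, mul_comm]⟩
  have hgrange : LinearMap.range g = Sk.map J.mkQ := by
    rw [hg, LinearMap.range_comp]
    congr 1
    ext r
    simp [hSk]
  have e2 : (S ⧸ Ideal.span {x}) ≃ₗ[k] ↥(Sk.map J.mkQ) :=
    (Submodule.Quotient.restrictScalarsEquiv k (Ideal.span {x})).symm.trans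
      ((Submodule.quotEquivOfEq _ _ hgker.symm).trans
        (g.quotKerEquivRange.trans (LinearEquiv.ofEq _ _ hgrange)))
  rw [← (Submodule.Quotient.restrictScalarsEquiv k (Ideal.span {(x : R)})).finrank_eq]
  rw [e2.finrank_eq]
  exact key

end Groth.Agent.S11049
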