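import Groth.Statements.S1108
import Groth.Agent.Lib.Helper48.DualInv
import Groth.Agent.Lib.Ample.FinGen
import Groth.Agent.Lib.Ample.Basis
import Groth.Agent.Lib.QCoh.TensorColim
-- import your own Groth.Agent.* helpers here

set_option autoImplicit false
universe u
open CategoryTheory AlgebraicGeometry
open Perf

namespace Groth.Agent.S1108

/-- A scheme X admitting an ample invertible O_X-module has the resolution property: every
quasi-coherent O_X-module of finite type is a quotient of a finite locally free O_X-module. -/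
theorem result (X : Scheme.{u}) (L : X.Modules) (hL : CohB1.IsAmple L) : PerfAux.HasResolutionProperty X := by
  intro M hMq hMt
  haveI : M.IsQuasicoherent := hMq
  haveI : M.IsFiniteType := hMt
  haveI : QuasiSeparatedSpace X := Groth.Agent.Lib.Ample.Basis.quasiSeparatedSpace_of_isAmple hL
  obtain ⟨n₀, hn₀⟩ := Groth.Agent.Lib.Ample.exists_finite_epi_free_tensorPow_of_isAmple hL M
  obtain ⟨ι, hι, t, ht⟩ := hn₀ n₀ le_rfl
  have hP : PicF.IsInvertible (CohB1.tensorPow L n₀) :=
    Groth.Agent.Lib.QCoh.isInvertible_tensorPow hL.1 n₀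
  obtain ⟨N, hN, ⟨ev⟩⟩ := Groth.Agent.Lib.Helper48.DualInv.exists_inverse hP
  obtain ⟨n, ⟨σ⟩⟩ := Finite.exists_equiv_fin ι
  have freeIso : FlatMod.freeMod X n ≅ Groth.Agent.Lib.QCoh.freeModule X ι :=
    Limits.Sigma.whiskerEquiv (f := fun _ : Fin n => Coh.structureModule X)
      (g := fun _ : ι => SheafOfModules.unit X.ringCatSheaf) σ.symm (fun _ => Iso.refl _)
  have hfree : FlatMod.IsFinLocFree (Groth.Agent.Lib.QCoh.freeModule X ι) :=
    Groth.Agent.Lib.QCoh.isFinLocFree_of_iso freeIso (Groth.Agent.Lib.QCoh.isFinLocFree_freeMod X n)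
  refine ⟨CohB1.tensorMod (Groth.Agent.Lib.QCoh.freeModule X ι) N,
    Groth.Agent.Lib.QCoh.tensorModMap (Groth.Agent.Lib.Ample.homOfFamily _ t) (𝟙 N) ≫
      (Groth.Agent.Lib.QCoh.tensorModAssoc M (CohB1.tensorPow L n₀) N).hom ≫
      (Groth.Agent.Lib.QCoh.tensorModCongr (Iso.refl M) ev).hom ≫
      (Groth.Agent.Lib.QCoh.tensorModRightUnitor M).hom,
    Groth.Agent.Lib.Helper48.DualInv.isFinLocFree_tensorMod hfree hN, ?_⟩
  haveI := ht
  haveI : Epi (Groth.Agent.Lib.QCoh.tensorModMap (Groth.Agent.Lib.Ample.homOfFamily _ t) (𝟙 N)) :=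
    Groth.Agent.Lib.QCoh.epi_tensorModMap_id _ N
  infer_instance

end Groth.Agent.S1108
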