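import Groth.Statements.S11080
-- import your own Groth.Agent.* helpers here

set_option autoImplicit false
universe u
open CAlg

namespace Groth.Agent.S11080

/-- Valuation rings over a curve: let A be a Dedekind domain with fraction field K. A valuation subring
O of K contains A and is different from K if and only if O is the valuation ring of the v-adic
valuation of K at some nonzero prime v of A (equivalently O is the local ring of A at a maximal
ideal, a discrete valuation ring). (The published statement takes A to be the coordinate ring of a
nonsingular affine curve over an algebraically closed field, which is such a Dedekind domain; its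
proof uses only that the local rings of A at nonzero primes are discrete valuation rings and that
nonzero primes are maximal.) -/
theorem result (A K : Type u) [CommRing A]
    [IsDedekindDomain A] [Field K] [Algebra A K] [IsFractionRing A K] (O : ValuationSubring K) :
    ((algebraMap A K).range ≤ O.toSubring ∧ O ≠ ⊤) ↔
      ∃ v : IsDedekindDomain.HeightOneSpectrum A, O = (v.valuation K).valuationSubring := by
  classical
  constructor
  · rintro ⟨hA, hO⟩
    -- the prime `p = m_O ∩ A`
    have hmem : ∀ a : A, algebraMap A K a ∈ O := fun a => hA ⟨a, rfl⟩
    let φ : A →+* O := (algebraMap A K).codRestrict O.toSubring hmem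
    let p : Ideal A := (IsLocalRing.maximalIdeal O).comap φ
    have hp_prime : p.IsPrime := Ideal.comap_isPrime φ _
    have hinj : Function.Injective (algebraMap A K) := IsFractionRing.injective A K
    have hp_ne : p ≠ ⊥ := by
      intro hbot
      apply hO
      rw [eq_top_iff]
      intro x _
      obtain ⟨a, s, hs, rfl⟩ := IsFractionRing.div_surjective (A := A) x
      have hs0 : s ≠ 0 := nonZeroDivisors.ne_zero hs
      have hsp : s ∉ p := by
        rw [hbot]
        simpa using hs0
      have hunit : IsUnit (φ s) := by
        by_contra hnu
        exact hsp ((IsLocalRing.mem_maximalIdeal _).2 hnu)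
      obtain ⟨u, hu⟩ := hunit
      have h1 : ((u⁻¹ : Oˣ) : O) * φ s = 1 := by rw [← hu]; exact u.inv_mul
      have h2 : (((u⁻¹ : Oˣ) : O) : K) * algebraMap A K s = 1 := by
        have := congrArg (fun z : O => (z : K)) h1
        exact this
      have h3 : (algebraMap A K s)⁻¹ = (((u⁻¹ : Oˣ) : O) : K) := by
        have hsK : algebraMap A K s ≠ 0 := fun h => hs0 (hinj (by simpa using h))
        field_simp
        rw [mul_comm]; exact h2.symm
      rw [div_eq_mul_inv, h3]
      exact O.mul_mem _ _ (hmem a) (SetLike.coe_mem _)
    let v : IsDedekindDomain.HeightOneSpectrum A := ⟨p, hp_prime, hp_ne⟩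
    refine ⟨v, ?_⟩
    have hle : (v.valuation K).valuationSubring ≤ O := by
      intro x hx
      have hx' : v.valuation K x ≤ 1 := hx
      obtain ⟨n, d, hnd⟩ := v.exists_primeCompl_mul_eq_of_integer x hx'
      have hdp : (d : A) ∉ p := d.2
      have hunit : IsUnit (φ d) := by
        by_contra hnu
        exact hdp ((IsLocalRing.mem_maximalIdeal _).2 hnu)
      obtain ⟨u, hu⟩ := hunit
      have h1 : φ d * ((u⁻¹ : Oˣ) : O) = 1 := by rw [← hu]; exact u.mul_inv
      have h2 : algebraMap A K d * (((u⁻¹ : Oˣ) : O) : K) = 1 := by
        have := congrArg (fun z : O => (z : K)) h1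
        exact this
      have h3 : x = algebraMap A K n * (((u⁻¹ : Oˣ) : O) : K) := by
        rw [← hnd, mul_assoc, h2, mul_one]
      rw [h3]
      exact O.mul_mem _ _ (hmem n) (SetLike.coe_mem _)
    rw [← IsDedekindDomain.HeightOneSpectrum.valuationSubringAtPrime_eq_valuationSubring] at hle ⊢
    exact (ValuationSubring.eq_of_le_of_ne_top _ hle hO).symm
  · rintro ⟨v, rfl⟩
    refine ⟨?_, ?_⟩
    · rintro _ ⟨a, rfl⟩
      exact v.valuation_le_one a
    · simp only [ne_eq, Valuation.valuationSubring_eq_top_iff, not_not]
      infer_instance

end Groth.Agent.S11080
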