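import Groth.Statements.S11084
import Groth.Agent.S11080
import Mathlib.NumberTheory.RatFunc.Ostrowski

set_option autoImplicit false
universe u
open CAlg

namespace Groth.Agent.S11084

/-- Let k be a field and O a valuation subring of the field of rational functions k(x). Then O contains
the constants k and is different from k(x) if and only if O is the valuation ring of the P-adic
valuation at a nonzero prime P of the polynomial ring k[x], or O is the valuation ring of the
valuation at infinity (given by the degree). (The published statement has k algebraically closed, so
that these valuation rings correspond to the points of the projective line; the published proof does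
not use that k is algebraically closed. The published statement also asserts that distinct points
give distinct valuation rings, which this row does not state, and counts k(x) itself among the
valuation rings containing k; this row excludes it.) -/
theorem result (k : Type u) [Field k] [DecidableEq (RatFunc k)]
    (O : ValuationSubring (RatFunc k)) :
    ((algebraMap k (RatFunc k)).range ≤ O.toSubring ∧ O ≠ ⊤) ↔
      ((∃ v : IsDedekindDomain.HeightOneSpectrum (Polynomial k), O = (v.valuation (RatFunc k)).valuationSubring) ∨
        O = (RatFunc.inftyValuation k).valuationSubring) := by
  classical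
  constructor
  · rintro ⟨hk, hO⟩
    -- `O.valuation` is trivial on `k`
    have hkmem : ∀ c : k, algebraMap k (RatFunc k) c ∈ O := fun c => hk ⟨c, rfl⟩
    have htriv : (O.valuation).IsTrivialOn k := by
      refine ⟨fun c hc => ?_⟩
      apply le_antisymm
      · exact (O.valuation_le_one_iff _).2 (hkmem c)
      · have h1 : O.valuation (algebraMap k (RatFunc k) c⁻¹) ≤ 1 :=
          (O.valuation_le_one_iff _).2 (hkmem c⁻¹)
        have h2 : O.valuation (algebraMap k (RatFunc k) c) * O.valuation (algebraMap k (RatFunc k) c⁻¹) = 1 := by
          rw [← map_mul, ← map_mul, mul_inv_cancel₀ hc, map_one, map_one]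
        have h0 : O.valuation (algebraMap k (RatFunc k) c) ≠ 0 := by
          intro h
          rw [h, zero_mul] at h2
          exact zero_ne_one h2
        calc (1 : O.ValueGroup) = O.valuation (algebraMap k (RatFunc k) c) * O.valuation (algebraMap k (RatFunc k) c⁻¹) := h2.symm
          _ ≤ O.valuation (algebraMap k (RatFunc k) c) * 1 := by gcongr
          _ = _ := mul_one _
    rcases le_or_gt (O.valuation (RatFunc.X : RatFunc k)) 1 with hX | hX
    · left
      have hXmem : (RatFunc.X : RatFunc k) ∈ O := (O.valuation_le_one_iff _).1 hX
      have hpoly : (algebraMap (Polynomial k) (RatFunc k)).range ≤ O.toSubring := by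
        rintro _ ⟨p, rfl⟩
        induction p using Polynomial.induction_on' with
        | add p q hp hq =>
          rw [map_add]
          exact O.toSubring.add_mem hp hq
        | monomial n a =>
          rw [← Polynomial.C_mul_X_pow_eq_monomial, map_mul, map_pow, RatFunc.algebraMap_C, RatFunc.algebraMap_X]
          exact O.toSubring.mul_mem (hkmem a) (O.toSubring.pow_mem hXmem n)
      exact (Groth.Agent.S11080.result (Polynomial k) (RatFunc k) O).1 ⟨hpoly, hO⟩
    · right
      have hequiv := RatFunc.valuation_isEquiv_inftyValuation_of_one_lt_valuation_X (v := O.valuation) hX
      have := (Valuation.isEquiv_iff_valuationSubring _ _).1 hequiv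
      rw [ValuationSubring.valuationSubring_valuation] at this
      exact this
  · rintro (⟨v, rfl⟩ | rfl)
    · have h := (Groth.Agent.S11080.result (Polynomial k) (RatFunc k) (v.valuation (RatFunc k)).valuationSubring).2 ⟨v, rfl⟩
      refine ⟨?_, h.2⟩
      rintro _ ⟨c, rfl⟩
      apply h.1
      exact ⟨Polynomial.C c, by simp⟩
    · refine ⟨?_, ?_⟩
      · rintro _ ⟨c, rfl⟩
        show RatFunc.inftyValuation k (algebraMap k (RatFunc k) c) ≤ 1
        by_cases hc : c = 0
        · simp [hc]
        · rw [RatFunc.algebraMap_eq_C, RatFunc.inftyValuation.C k hc]
      · simp only [ne_eq, Valuation.valuationSubring_eq_top_iff, not_not]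
        infer_instance

end Groth.Agent.S11084
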