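import Groth.Statements.S11086
import Mathlib
-- import your own Groth.Agent.* helpers here

set_option autoImplicit false
universe u
attribute [local instance] FractionRing.liftAlgebra
open CAlg

namespace Groth.Agent.S11086
open nonZeroDivisors IsLocalization Algebra Submodule Module

section core
variable (A K : Type*) {L : Type u} (B : Type*) [CommRing A] [Field K] [CommRing B] [Field L]
variable [Algebra A K] [Algebra B L] [Algebra A B] [Algebra K L] [Algebra A L]
variable [IsScalarTower A K L] [IsScalarTower A B L]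
variable [IsDomain A] [IsFractionRing A K]
  [FiniteDimensional K L] [Algebra.IsSeparable K L] [IsIntegralClosure B A L]
variable [IsIntegrallyClosed A] [IsDedekindDomain B] [IsTorsionFree A B] [IsFractionRing B L]

theorem mem_diff_iff (d : B) : d ∈ differentIdeal A B ↔
    ∀ m ∈ Submodule.traceDual A K (1 : Submodule B L), algebraMap B L d * m ∈ (1 : Submodule B L) := by
  have h1 := coeSubmodule_differentIdeal A K (L := L) B
  have h2 : d ∈ differentIdeal A B ↔ algebraMap B L d ∈ coeSubmodule L (differentIdeal A B) := by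
    rw [IsLocalization.mem_coeSubmodule]
    constructor
    · intro h; exact ⟨d, h, rfl⟩
    · rintro ⟨y, hy, hyd⟩
      rwa [← IsFractionRing.injective B L hyd]
  rw [h2, h1, Submodule.mem_div_iff_forall_mul_mem]

theorem traceDual_fg : (Submodule.traceDual A K (1 : Submodule B L)).FG := by
  rw [← FractionalIdeal.coe_dual_one A K L B]
  exact FractionalIdeal.fg_of_isNoetherianRing le_rfl _

end core

section loc
variable {A : Type*} {K : Type*} {L : Type u} {B : Type*} [CommRing A] [Field K] [CommRing B] [Field L]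
variable [Algebra A K] [Algebra B L] [Algebra A B] [Algebra K L] [Algebra A L]
variable [IsScalarTower A K L] [IsScalarTower A B L]
variable (S : Submonoid A)
variable {Aₛ Bₛ : Type*} [CommRing Aₛ] [CommRing Bₛ] [Algebra A Aₛ] [Algebra B Bₛ] [Algebra Aₛ Bₛ]
    [Algebra A Bₛ] [IsScalarTower A Aₛ Bₛ] [IsScalarTower A B Bₛ]
    [IsLocalization S Aₛ] [IsLocalization (Algebra.algebraMapSubmonoid B S) Bₛ]
variable [Algebra Aₛ K] [IsScalarTower A Aₛ K] [Algebra Bₛ L] [IsScalarTower B Bₛ L]
  [Algebra Aₛ L] [IsScalarTower Aₛ K L] [IsScalarTower Aₛ Bₛ L]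

/-- Claim 1a -/
theorem mem_traceDual_loc_of_smul (hS : S ≤ A⁰) [IsDomain A] [IsFractionRing A K] (s : A) (hs : s ∈ S) (x : L)
    (hx : s • x ∈ Submodule.traceDual A K (1 : Submodule B L)) :
    x ∈ Submodule.traceDual Aₛ K (1 : Submodule Bₛ L) := by
  rw [Submodule.mem_traceDual] at hx ⊢
  intro a ha
  rw [Submodule.mem_one] at ha
  obtain ⟨b', rfl⟩ := ha
  obtain ⟨b, t, rfl⟩ := IsLocalization.exists_mk'_eq (Algebra.algebraMapSubmonoid B S) b'
  obtain ⟨t₀, ht₀, ht⟩ := t.2
  obtain ⟨c, hc⟩ := hx (algebraMap B L b) (Submodule.mem_one.mpr ⟨b, rfl⟩)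
  -- Tr((s•x) * b) = c
  rw [traceForm_apply] at hc ⊢
  have hst : algebraMap A K (s * t₀) ≠ 0 := by
    have : s * t₀ ∈ A⁰ := hS (S.mul_mem hs ht₀)
    exact IsFractionRing.to_map_ne_zero_of_mem_nonZeroDivisors this
  have key : (s * t₀) • (x * algebraMap Bₛ L (IsLocalization.mk' Bₛ b t)) =
      (s • x) * algebraMap B L b := by
    have e1 : algebraMap Bₛ L (IsLocalization.mk' Bₛ b t) * algebraMap B L (t : B) = algebraMap B L b := by
      rw [IsScalarTower.algebraMap_apply B Bₛ L, ← map_mul, IsLocalization.mk'_spec,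
        ← IsScalarTower.algebraMap_apply]
    rw [← e1, ← ht, ← IsScalarTower.algebraMap_apply A B L, Algebra.smul_def, Algebra.smul_def,
      map_mul]
    ring
  have h2 : algebraMap A K (s * t₀) * Algebra.trace K L (x * algebraMap Bₛ L (IsLocalization.mk' Bₛ b t)) =
      algebraMap A K c := by
    rw [hc, ← key, ← smul_eq_mul (a := algebraMap A K (s * t₀)), ← map_smul, algebraMap_smul]
  refine ⟨IsLocalization.mk' Aₛ c ⟨s * t₀, S.mul_mem hs ht₀⟩, ?_⟩
  have h3 : algebraMap Aₛ K (IsLocalization.mk' Aₛ c ⟨s * t₀, S.mul_mem hs ht₀⟩) * algebraMap A K (s * t₀) =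
      algebraMap A K c := by
    rw [IsScalarTower.algebraMap_apply A Aₛ K, ← map_mul]
    rw [show (algebraMap A Aₛ (s * t₀)) = algebraMap A Aₛ ((⟨s * t₀, S.mul_mem hs ht₀⟩ : S) : A) from rfl,
      IsLocalization.mk'_spec, ← IsScalarTower.algebraMap_apply]
  apply mul_right_cancel₀ hst
  rw [h3, ← h2, mul_comm]

/-- Claim 1b -/
theorem exists_smul_mem_traceDual [Module.Finite A B] (x : L)
    (hx : x ∈ Submodule.traceDual Aₛ K (1 : Submodule Bₛ L)) :
    ∃ s ∈ S, s • x ∈ Submodule.traceDual A K (1 : Submodule B L) := by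
  classical
  rw [Submodule.mem_traceDual] at hx
  obtain ⟨G, hG⟩ := (Module.Finite.fg_top : (⊤ : Submodule A B).FG)
  -- for each generator, Tr(x g) is in the range of Aₛ
  have h1 : ∀ g : B, ∃ a' : Aₛ, algebraMap Aₛ K a' = Algebra.trace K L (x * algebraMap B L g) := by
    intro g
    have := hx (algebraMap B L g) (Submodule.mem_one.mpr ⟨algebraMap B Bₛ g, by
      rw [← IsScalarTower.algebraMap_apply]⟩)
    rw [traceForm_apply] at this
    exact this
  choose a' ha' using h1
  obtain ⟨s, hs⟩ := IsLocalization.exist_integer_multiples_of_finset S (G.image a')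
  refine ⟨s, s.2, ?_⟩
  rw [Submodule.mem_traceDual]
  -- the A-linear map b ↦ Tr((s•x) b)
  let φ : B →ₗ[A] K :=
    ((Algebra.trace K L).restrictScalars A).comp
      ((LinearMap.mulLeft A ((s : A) • x)).comp (Algebra.linearMap B L |>.restrictScalars A))
  have hφ : ∀ b, φ b = Algebra.trace K L ((s : A) • x * algebraMap B L b) := fun b => rfl
  have hle : Submodule.span A (G : Set B) ≤ (1 : Submodule A K).comap φ := by
    rw [Submodule.span_le]
    intro g hg
    rw [SetLike.mem_coe, Submodule.mem_comap, hφ, Submodule.mem_one]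
    obtain ⟨c, hc⟩ := hs (a' g) (Finset.mem_image_of_mem _ hg)
    refine ⟨c, ?_⟩
    rw [smul_mul_assoc, LinearMap.map_smul_of_tower, ← ha', IsScalarTower.algebraMap_apply A Aₛ K, hc,
      Algebra.smul_def, map_mul, ← IsScalarTower.algebraMap_apply A Aₛ K, Algebra.smul_def]
  intro a ha
  rw [Submodule.mem_one] at ha
  obtain ⟨b, rfl⟩ := ha
  have hb : b ∈ Submodule.span A (G : Set B) := by rw [hG]; trivial
  have := hle hb
  rw [Submodule.mem_comap, hφ, Submodule.mem_one] at this
  obtain ⟨c, hc⟩ := this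
  exact ⟨c, by rw [traceForm_apply, hc]⟩


variable [IsDomain A] [IsFractionRing A K]
  [FiniteDimensional K L] [Algebra.IsSeparable K L] [IsIntegralClosure B A L]
variable [IsIntegrallyClosed A] [IsDedekindDomain B] [IsTorsionFree A B] [IsFractionRing B L]
variable [IsDomain Aₛ] [IsFractionRing Aₛ K] [IsIntegralClosure Bₛ Aₛ L]
variable [IsIntegrallyClosed Aₛ] [IsDedekindDomain Bₛ] [IsTorsionFree Aₛ Bₛ] [IsFractionRing Bₛ L]
variable [Module.Finite A B]

include K L in
/-- Claim 2a -/
theorem map_mem_diff (hS : S ≤ A⁰) (d : B) (hd : d ∈ differentIdeal A B) :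
    algebraMap B Bₛ d ∈ differentIdeal Aₛ Bₛ := by
  rw [mem_diff_iff A K (L := L) B] at hd
  rw [mem_diff_iff Aₛ K (L := L) Bₛ]
  intro m' hm'
  obtain ⟨s, hs, hsm⟩ := exists_smul_mem_traceDual (A := A) (B := B) S m' hm'
  have := hd _ hsm
  rw [Submodule.mem_one] at this ⊢
  obtain ⟨b, hb⟩ := this
  have hsB : algebraMap A B s ∈ Algebra.algebraMapSubmonoid B S := ⟨s, hs, rfl⟩
  refine ⟨IsLocalization.mk' Bₛ b ⟨algebraMap A B s, hsB⟩, ?_⟩
  have hs0 : algebraMap A L s ≠ 0 := by
    rw [IsScalarTower.algebraMap_apply A K L]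
    exact (map_ne_zero _).mpr (IsFractionRing.to_map_ne_zero_of_mem_nonZeroDivisors (hS hs))
  apply mul_right_cancel₀ hs0
  rw [← IsScalarTower.algebraMap_apply B Bₛ L, mul_assoc, mul_comm m', ← Algebra.smul_def s m', ← hb,
    IsScalarTower.algebraMap_apply A B L, IsScalarTower.algebraMap_apply B Bₛ L,
    IsScalarTower.algebraMap_apply B Bₛ L, ← map_mul]
  congr 1
  exact IsLocalization.mk'_spec Bₛ b ⟨algebraMap A B s, hsB⟩

include K L in
/-- Claim 2b -/
theorem exists_smul_mem_diff (hS : S ≤ A⁰) (b : B) (hb : algebraMap B Bₛ b ∈ differentIdeal Aₛ Bₛ) :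
    ∃ s ∈ S, s • b ∈ differentIdeal A B := by
  classical
  rw [mem_diff_iff Aₛ K (L := L) Bₛ] at hb
  obtain ⟨G, hG⟩ := traceDual_fg A K (L := L) B
  have hGM : ∀ m ∈ G, m ∈ Submodule.traceDual A K (1 : Submodule B L) := fun m hm => by
    rw [← hG]; exact Submodule.subset_span hm
  have h1 : ∀ m : L, m ∈ G → ∃ b' : Bₛ, algebraMap Bₛ L b' = algebraMap B L b * m := by
    intro m hm
    have hm' : m ∈ Submodule.traceDual Aₛ K (1 : Submodule Bₛ L) :=
      mem_traceDual_loc_of_smul (A := A) (B := B) S hS 1 S.one_mem m (by rw [one_smul]; exact hGM m hm)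
    have := hb m hm'
    rw [Submodule.mem_one, ← IsScalarTower.algebraMap_apply] at this
    exact this
  have h1' : ∀ m : L, ∃ b' : Bₛ, m ∈ G → algebraMap Bₛ L b' = algebraMap B L b * m := by
    intro m
    by_cases hm : m ∈ G
    · obtain ⟨b', hb'⟩ := h1 m hm
      exact ⟨b', fun _ => hb'⟩
    · exact ⟨0, fun h => absurd h hm⟩
  choose b' hb' using h1'
  obtain ⟨t, ht⟩ := IsLocalization.exist_integer_multiples_of_finset
    (Algebra.algebraMapSubmonoid B S) (G.image b')
  obtain ⟨s, hs, hst⟩ := t.2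
  refine ⟨s, hs, ?_⟩
  rw [mem_diff_iff A K (L := L) B]
  intro m hm
  rw [← hG] at hm
  refine Submodule.span_induction (p := fun m _ => algebraMap B L (s • b) * m ∈ (1 : Submodule B L))
    ?_ ?_ ?_ ?_ hm
  · intro m hmG
    obtain ⟨c, hc⟩ := ht (b' m) (Finset.mem_image_of_mem _ hmG)
    rw [Submodule.mem_one]
    refine ⟨c, ?_⟩
    rw [IsScalarTower.algebraMap_apply B Bₛ L, hc, Algebra.smul_def, map_mul, hb' m hmG, ← hst,
      ← IsScalarTower.algebraMap_apply B Bₛ L, Algebra.smul_def, map_mul]
    ring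
  · rw [mul_zero]; exact Submodule.zero_mem _
  · intro x y _ _ hx hy
    rw [mul_add]; exact Submodule.add_mem _ hx hy
  · intro r x _ hx
    rw [mul_smul_comm]; exact Submodule.smul_mem _ r hx

include K L in
theorem core (hS : S ≤ A⁰) :
    Ideal.map (algebraMap B Bₛ) (differentIdeal A B) = differentIdeal Aₛ Bₛ := by
  apply le_antisymm
  · rw [Ideal.map_le_iff_le_comap]
    intro d hd
    exact map_mem_diff (K := K) (L := L) S hS d hd
  · intro x hx
    obtain ⟨b, t, rfl⟩ := IsLocalization.exists_mk'_eq (Algebra.algebraMapSubmonoid B S) x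
    have h1 : algebraMap B Bₛ b ∈ differentIdeal Aₛ Bₛ := by
      rw [← IsLocalization.mk'_spec Bₛ b t]
      exact Ideal.mul_mem_right _ _ hx
    obtain ⟨s, hs, hsb⟩ := exists_smul_mem_diff (K := K) (L := L) S hS b h1
    have hsB : algebraMap A B s ∈ Algebra.algebraMapSubmonoid B S := ⟨s, hs, rfl⟩
    have h2 : IsLocalization.mk' Bₛ b t =
        IsLocalization.mk' Bₛ (1 : B) (t * ⟨algebraMap A B s, hsB⟩) * algebraMap B Bₛ (s • b) := by
      rw [mul_comm, IsLocalization.mul_mk'_eq_mk'_of_mul, mul_one, Algebra.smul_def,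
        mul_comm (algebraMap A B s) b]
      exact (IsLocalization.mk'_cancel (M := Algebra.algebraMapSubmonoid B S) (S := Bₛ) b t
        ⟨algebraMap A B s, hsB⟩).symm
    rw [h2]
    exact Ideal.mul_mem_left _ _ (Ideal.mem_map_of_mem _ hsb)

end loc

/-- Let A be a Dedekind domain, B a Dedekind domain which is a finitely generated torsion-free A-algebra
with fraction field separable over that of A (the integral closure of A in a finite separable
extension), and S a submonoid of A consisting of non-zero-divisors. Let A_S and B_S be localizations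
of A at S and of B at the image of S, with B_S an algebra over A_S compatibly with A and B (so A_S
is integrally closed and B_S is a Dedekind domain, torsion-free over A_S). Then the ideal of B_S
generated by the different of B over A is the different of B_S over A_S. -/
theorem result (A B : Type u) [CommRing A] [CommRing B]
    [IsDedekindDomain A] [IsDedekindDomain B] [Algebra A B] [Module.Finite A B] [Module.IsTorsionFree A B]
    [Algebra.IsSeparable (FractionRing A) (FractionRing B)]
    (S : Submonoid A) (hS : S ≤ nonZeroDivisors A)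
    (Aₛ Bₛ : Type u) [CommRing Aₛ] [CommRing Bₛ] [Algebra A Aₛ] [Algebra B Bₛ] [Algebra Aₛ Bₛ]
    [Algebra A Bₛ] [IsScalarTower A Aₛ Bₛ] [IsScalarTower A B Bₛ]
    [IsLocalization S Aₛ] [IsLocalization (Algebra.algebraMapSubmonoid B S) Bₛ]
    [IsDomain Aₛ] [IsIntegrallyClosed Aₛ] [IsDedekindDomain Bₛ] [Module.IsTorsionFree Aₛ Bₛ] :
    Ideal.map (algebraMap B Bₛ) (differentIdeal A B) = differentIdeal Aₛ Bₛ := by
  have hinjAB : Function.Injective (algebraMap A B) := FaithfulSMul.algebraMap_injective A B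
  -- algebra structure `Aₛ → Frac A`
  have hu1 : ∀ s : S, IsUnit (algebraMap A (FractionRing A) s) := fun s =>
    (IsFractionRing.to_map_ne_zero_of_mem_nonZeroDivisors (hS s.2)).isUnit
  letI algAK : Algebra Aₛ (FractionRing A) := (IsLocalization.lift (M := S) hu1).toAlgebra
  haveI : IsScalarTower A Aₛ (FractionRing A) := IsScalarTower.of_algebraMap_eq fun x =>
    (IsLocalization.lift_eq (M := S) hu1 x).symm
  -- algebra structure `Bₛ → Frac B`
  have hu2 : ∀ t : Algebra.algebraMapSubmonoid B S, IsUnit (algebraMap B (FractionRing B) t) := by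
    rintro ⟨t, s, hs, rfl⟩
    have h0 : algebraMap A B s ≠ 0 := by
      rw [Ne, ← map_zero (algebraMap A B), hinjAB.eq_iff]
      exact nonZeroDivisors.ne_zero (hS hs)
    exact ((map_ne_zero_iff _ (IsFractionRing.injective B (FractionRing B))).mpr h0).isUnit
  letI algBL : Algebra Bₛ (FractionRing B) :=
    (IsLocalization.lift (M := Algebra.algebraMapSubmonoid B S) hu2).toAlgebra
  haveI : IsScalarTower B Bₛ (FractionRing B) := IsScalarTower.of_algebraMap_eq fun x =>
    (IsLocalization.lift_eq (M := Algebra.algebraMapSubmonoid B S) hu2 x).symm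
  letI algAL : Algebra Aₛ (FractionRing B) :=
    ((algebraMap (FractionRing A) (FractionRing B)).comp (algebraMap Aₛ (FractionRing A))).toAlgebra
  haveI : IsScalarTower Aₛ (FractionRing A) (FractionRing B) := IsScalarTower.of_algebraMap_eq' rfl
  haveI : IsScalarTower Aₛ Bₛ (FractionRing B) := by
    refine IsScalarTower.of_algebraMap_eq' ?_
    apply IsLocalization.ringHom_ext S
    ext x
    simp only [RingHom.comp_apply]
    change algebraMap (FractionRing A) (FractionRing B) (algebraMap Aₛ (FractionRing A) (algebraMap A Aₛ x)) = _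
    rw [← IsScalarTower.algebraMap_apply A Aₛ (FractionRing A),
      ← IsScalarTower.algebraMap_apply A (FractionRing A) (FractionRing B),
      ← IsScalarTower.algebraMap_apply A Aₛ Bₛ, IsScalarTower.algebraMap_apply A B Bₛ,
      ← IsScalarTower.algebraMap_apply B Bₛ (FractionRing B),
      ← IsScalarTower.algebraMap_apply A B (FractionRing B)]
  haveI : IsFractionRing Aₛ (FractionRing A) :=
    IsFractionRing.isFractionRing_of_isDomain_of_isLocalization S Aₛ (FractionRing A)
  haveI : IsFractionRing Bₛ (FractionRing B) :=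
    IsFractionRing.isFractionRing_of_isDomain_of_isLocalization (Algebra.algebraMapSubmonoid B S) Bₛ
      (FractionRing B)
  haveI : Module.Finite Aₛ Bₛ := Module.Finite.of_isLocalization A B S
  haveI : Algebra.IsIntegral Aₛ Bₛ := Algebra.IsIntegral.of_finite Aₛ Bₛ
  haveI : Algebra.IsIntegral A B := Algebra.IsIntegral.of_finite A B
  haveI : IsIntegralClosure Bₛ Aₛ (FractionRing B) := IsIntegralClosure.of_isIntegrallyClosed _ _ _
  haveI : IsIntegralClosure B A (FractionRing B) := IsIntegralClosure.of_isIntegrallyClosed _ _ _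
  exact core (K := FractionRing A) (L := FractionRing B) S hS

end Groth.Agent.S11086
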