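import Groth.Statements.S11087
-- import your own Groth.Agent.* helpers here
import Mathlib
import Groth.Agent.S11091
import Groth.Agent.Lib.Helper37.HenselFinite

set_option autoImplicit false
universe u
attribute [local instance] FractionRing.liftAlgebra
open CAlg

namespace Groth.Agent.S11087

/-- Let A be a complete discrete valuation ring and K a perfect field contained in A such that K → A →
A/m is bijective. Let B be a Dedekind domain which is a finite torsion-free A-algebra with fraction
field separable over that of A (the integral closure of A in a finite separable extension of its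
fraction field). Then for every maximal ideal M of B and every b in B there is exactly one element c
of B which is algebraic over K and congruent to b modulo M; in other words the algebraic closure of
K in B is a subfield mapping isomorphically onto B/M. -/
theorem result (K A B : Type u) [Field K]
    [PerfectField K] [CommRing A] [IsDomain A] [IsDiscreteValuationRing A]
    [IsAdicComplete (IsLocalRing.maximalIdeal A) A]
    [Algebra K A] (hK : Function.Bijective ((IsLocalRing.residue A).comp (algebraMap K A)))
    [CommRing B] [IsDedekindDomain B] [Algebra A B] [Module.Finite A B] [Module.IsTorsionFree A B]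
    [Algebra.IsSeparable (FractionRing A) (FractionRing B)] [Algebra K B] [IsScalarTower K A B]
    (M : Ideal B) [M.IsMaximal] (b : B) :
    ∃! c : B, IsAlgebraic K c ∧ b - c ∈ M := by
  classical
  obtain ⟨M₀, hM₀, huniq⟩ := Groth.Agent.S11091.result A B
  have hMuniq : ∀ N : Ideal B, N.IsMaximal → N = M := fun N hN =>
    (huniq N hN).trans (huniq M inferInstance).symm
  have hloc : IsLocalRing B :=
    IsLocalRing.of_unique_max_ideal ⟨M, inferInstance, fun N hN => hMuniq N hN⟩
  have hMmax : IsLocalRing.maximalIdeal B = M := hMuniq _ (IsLocalRing.maximalIdeal.isMaximal B)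
  have hhA : HenselianLocalRing A := Groth.Agent.Lib.Helper37.henselianLocalRing_of_henselianRing A
  have hhB : HenselianLocalRing B := Groth.Agent.Lib.Helper37.henselianLocalRing_of_finite A B
  -- a set-theoretic section of `A → K`
  have hsec : ∀ a : A, ∃ k : K, a - algebraMap K A k ∈ IsLocalRing.maximalIdeal A := by
    intro a
    obtain ⟨k, hk⟩ := hK.2 (IsLocalRing.residue A a)
    refine ⟨k, ?_⟩
    rw [RingHom.comp_apply] at hk
    rw [← IsLocalRing.residue_eq_zero_iff, map_sub, hk, sub_self]
  -- `m` maps into `M`
  have hmM : ∀ a ∈ IsLocalRing.maximalIdeal A, algebraMap A B a ∈ M := by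
    intro a ha
    have hunder : (M.under A).IsMaximal := Ideal.isMaximal_comap_of_isIntegral_of_isMaximal M
    have := IsLocalRing.eq_maximalIdeal hunder
    rw [← this] at ha
    exact ha
  -- `B ⧸ M` is finite over `K`
  have hfin : Module.Finite K (B ⧸ M) := by
    obtain ⟨S, hS⟩ := (Module.Finite.fg_top : (⊤ : Submodule A B).FG)
    refine ⟨⟨S.image (Ideal.Quotient.mk M), ?_⟩⟩
    rw [eq_top_iff]
    rintro z -
    obtain ⟨y, rfl⟩ := Ideal.Quotient.mk_surjective z
    have hy : y ∈ Submodule.span A (S : Set B) := by rw [hS]; trivial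
    induction hy using Submodule.span_induction with
    | mem y hy =>
      apply Submodule.subset_span
      rw [Finset.coe_image]
      exact ⟨y, hy, rfl⟩
    | zero => rw [map_zero]; exact Submodule.zero_mem _
    | add y z _ _ hy hz => rw [map_add]; exact Submodule.add_mem _ hy hz
    | smul a y _ hy =>
      obtain ⟨k, hk⟩ := hsec a
      have h1 : Ideal.Quotient.mk M (a • y) = k • Ideal.Quotient.mk M y := by
        have e1 : a • y = algebraMap A B a * y := Algebra.smul_def a y
        have e2 : k • Ideal.Quotient.mk M y = Ideal.Quotient.mk M (algebraMap K B k * y) := by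
          rw [map_mul, Algebra.smul_def, Ideal.Quotient.mk_algebraMap]
        rw [e1, e2, Ideal.Quotient.eq, ← sub_mul, IsScalarTower.algebraMap_apply K A B, ← map_sub]
        exact M.mul_mem_right _ (hmM _ hk)
      rw [h1]
      exact Submodule.smul_mem _ _ hy
  let _instF : Field (B ⧸ M) := Ideal.Quotient.field M
  have hsep : Algebra.IsSeparable K (B ⧸ M) := inferInstance
  have hint : IsIntegral K (Ideal.Quotient.mk M b) := Algebra.IsIntegral.isIntegral _
  obtain ⟨g, hg⟩ : ∃ g, g = minpoly K (Ideal.Quotient.mk M b) := ⟨_, rfl⟩
  have hgmonic : g.Monic := hg ▸ minpoly.monic hint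
  have hgsep : g.Separable := hg ▸ Algebra.IsSeparable.isSeparable K _
  have hgroot : Polynomial.aeval (Ideal.Quotient.mk M b) g = 0 := hg ▸ minpoly.aeval K _
  have hmk : ∀ q : Polynomial K, Ideal.Quotient.mk M ((q.map (algebraMap K B)).eval b) =
      Polynomial.aeval (Ideal.Quotient.mk M b) q := by
    intro q
    rw [Polynomial.eval_map, Polynomial.hom_eval₂, Polynomial.aeval_def]
    rfl
  have h1 : (g.map (algebraMap K B)).eval b ∈ IsLocalRing.maximalIdeal B := by
    rw [hMmax, ← Ideal.Quotient.eq_zero_iff_mem, hmk, hgroot]
  have h2 : IsUnit ((g.map (algebraMap K B)).derivative.eval b) := by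
    rw [← IsLocalRing.notMem_maximalIdeal, hMmax, ← Ideal.Quotient.eq_zero_iff_mem,
      Polynomial.derivative_map, hmk]
    exact hgsep.aeval_derivative_ne_zero hgroot
  obtain ⟨c, hc, hcb⟩ := HenselianLocalRing.is_henselian (g.map (algebraMap K B))
    (hgmonic.map _) b h1 h2
  rw [hMmax] at hcb
  refine ⟨c, ⟨⟨g, hgmonic.ne_zero, ?_⟩, ?_⟩, ?_⟩
  · rw [Polynomial.aeval_def, ← Polynomial.eval_map]
    exact hc
  · have := M.neg_mem hcb
    rwa [neg_sub] at this
  · rintro c' ⟨hc'alg, hc'b⟩
    by_contra hne
    have hc_alg : IsAlgebraic K c := ⟨g, hgmonic.ne_zero, by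
      rw [Polynomial.aeval_def, ← Polynomial.eval_map]; exact hc⟩
    have hd_alg : IsAlgebraic K (c' - c) := hc'alg.sub hc_alg
    have hd0 : c' - c ≠ 0 := sub_ne_zero.mpr hne
    have hdM : c' - c ∈ M := by
      have e : c' - c = (c - b) - (c' - b) + (c' - c) + (c' - c) - ((c - b) - (c' - b) + (c' - c)) := by ring
      have h3 : (b - c) - (b - c') ∈ M := M.sub_mem (by
        have := M.neg_mem hcb; rwa [neg_sub] at this) hc'b
      have e2 : (b - c) - (b - c') = c' - c := by ring
      rwa [e2] at h3
    have hdint : IsIntegral K (c' - c) := hd_alg.isIntegral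
    have hcoeff := minpoly.coeff_zero_ne_zero hdint hd0
    have hroot := minpoly.aeval K (c' - c)
    rw [← Polynomial.X_mul_divX_add (minpoly K (c' - c)), map_add, map_mul, Polynomial.aeval_X,
      Polynomial.aeval_C] at hroot
    have hmem : algebraMap K B ((minpoly K (c' - c)).coeff 0) ∈ M := by
      have : algebraMap K B ((minpoly K (c' - c)).coeff 0) =
          -((c' - c) * Polynomial.aeval (c' - c) (minpoly K (c' - c)).divX) := by
        linear_combination hroot
      rw [this]
      exact M.neg_mem (M.mul_mem_right _ hdM)
    have hunit : IsUnit (algebraMap K B ((minpoly K (c' - c)).coeff 0)) :=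
      (isUnit_iff_ne_zero.mpr hcoeff).map _
    exact (Ideal.IsMaximal.ne_top inferInstance) (Ideal.eq_top_of_isUnit_mem M hmem hunit)

end Groth.Agent.S11087
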