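import Groth.Statements.S11088
-- import your own Groth.Agent.* helpers here
import Mathlib
import Groth.Agent.S11091

set_option autoImplicit false
universe u
attribute [local instance] FractionRing.liftAlgebra
open CAlg

namespace Groth.Agent.S11088

/-- Let A be a complete discrete valuation ring with maximal ideal m and B a Dedekind domain which is a
finite torsion-free A-algebra with fraction field separable over that of A (the integral closure of
A in a finite separable extension). Then for every maximal ideal M of B, with f the degree of B/M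
over A/m, and every nonzero x in B, the multiplicity of m in the ideal generated by the norm of x
equals f times the multiplicity of M in the ideal generated by x: v(N(x)) = f · w(x). -/
theorem result (A B : Type u) [CommRing A] [IsDomain A] [IsDiscreteValuationRing A]
    [IsAdicComplete (IsLocalRing.maximalIdeal A) A]
    [CommRing B] [IsDedekindDomain B] [Algebra A B] [Module.Finite A B] [Module.IsTorsionFree A B]
    [Algebra.IsSeparable (FractionRing A) (FractionRing B)]
    (M : Ideal B) [M.IsMaximal] (x : B) (hx : x ≠ 0) :
    emultiplicity (IsLocalRing.maximalIdeal A) (Ideal.span {Algebra.intNorm A B x}) =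
      (M.inertiaDeg A : ℕ∞) * emultiplicity M (Ideal.span {x}) := by
  classical
  have hdvrA : IsDedekindDomain A := inferInstance
  obtain ⟨m, hm⟩ : ∃ m, m = IsLocalRing.maximalIdeal A := ⟨_, rfl⟩
  rw [← hm]
  have hmmax : m.IsMaximal := hm ▸ IsLocalRing.maximalIdeal.isMaximal A
  -- uniqueness of the maximal ideal of `B`
  obtain ⟨M₀, hM₀, huniq⟩ := Groth.Agent.S11091.result A B
  have hMuniq : ∀ N : Ideal B, N.IsMaximal → N = M := fun N hN =>
    (huniq N hN).trans (huniq M inferInstance).symm
  have hm0 : m ≠ ⊥ := hm ▸ IsDiscreteValuationRing.not_a_field A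
  have hinj : Function.Injective (algebraMap A B) := FaithfulSMul.algebraMap_injective A B
  -- `M` lies over `m`
  have hunder : M.under A = m := by
    have : (M.under A).IsMaximal := Ideal.isMaximal_comap_of_isIntegral_of_isMaximal M
    rw [hm]
    exact IsLocalRing.eq_maximalIdeal this
  have hlies : M.LiesOver m := ⟨hunder.symm⟩
  have hM0 : M ≠ ⊥ := by
    intro h
    apply hm0
    rw [← hunder, h]
    exact Ideal.under_bot A B
  -- every nonzero ideal of `B` is a power of `M`
  have hpow : ∀ I : Ideal B, I ≠ ⊥ → ∃ w : ℕ, I = M ^ w := by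
    intro I hI
    refine ⟨Multiset.card (UniqueFactorizationMonoid.normalizedFactors I), ?_⟩
    have h1 := Ideal.prod_normalizedFactors_eq_self hI
    have h2 : UniqueFactorizationMonoid.normalizedFactors I =
        Multiset.replicate (Multiset.card (UniqueFactorizationMonoid.normalizedFactors I)) M := by
      rw [Multiset.eq_replicate]
      refine ⟨rfl, fun q hq => ?_⟩
      have hqp := UniqueFactorizationMonoid.prime_of_normalized_factor q hq
      have hq0 : q ≠ ⊥ := hqp.ne_zero
      have hqprime : q.IsPrime := Ideal.isPrime_of_prime hqp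
      exact hMuniq q (hqprime.isMaximal hq0)
    rw [h2, Multiset.prod_replicate] at h1
    exact h1.symm
  have hMunit : ¬ IsUnit M := by
    rw [Ideal.isUnit_iff]
    exact Ideal.IsMaximal.ne_top inferInstance
  have hmunit : ¬ IsUnit m := by
    rw [Ideal.isUnit_iff]
    exact hmmax.ne_top
  -- `span {x} = M ^ w`
  have hx0 : Ideal.span {x} ≠ ⊥ := by
    rwa [Ne, Ideal.span_singleton_eq_bot]
  obtain ⟨w, hw⟩ := hpow _ hx0
  -- `relNorm M = m ^ s`
  obtain ⟨s, hs⟩ := Ideal.exists_relNorm_eq_pow_of_isPrime M m
  have hnorm : Ideal.span {Algebra.intNorm A B x} = m ^ (s * w) := by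
    rw [← Ideal.relNorm_singleton A x, hw, map_pow, hs, ← pow_mul]
  rw [hnorm, hw, emultiplicity_pow_self (by rwa [Ideal.zero_eq_bot]) hmunit,
    emultiplicity_pow_self (by rwa [Ideal.zero_eq_bot]) hMunit]
  -- `s = f`
  have hmap0 : Ideal.map (algebraMap A B) m ≠ ⊥ := Ideal.map_ne_bot_of_ne_bot hm0
  obtain ⟨e, he⟩ := hpow _ hmap0
  have he0 : e ≠ 0 := by
    rintro rfl
    rw [pow_zero, Ideal.one_eq_top] at he
    have hle : Ideal.map (algebraMap A B) m ≤ M := by
      rw [Ideal.map_le_iff_le_comap]
      exact hunder.symm.le
    rw [he] at hle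
    exact Ideal.IsMaximal.ne_top inferInstance (top_le_iff.mp hle)
  have h1 := Ideal.relNorm_algebraMap B m
  rw [he, map_pow, hs, ← pow_mul] at h1
  have hse : s * e = Module.finrank A B :=
    pow_injective_of_not_isUnit hmunit (by rwa [Ideal.zero_eq_bot]) h1
  -- the unique prime over `m`
  have hprimes : ∀ q : m.primesOver B, q.1 = M := by
    intro q
    have hqprime : q.1.IsPrime := q.2.1
    have hqlies : q.1.LiesOver m := q.2.2
    have hq0 : q.1 ≠ ⊥ := by
      intro h
      apply hm0
      rw [hqlies.over, h]
      exact Ideal.under_bot A B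
    exact hMuniq q.1 (hqprime.isMaximal hq0)
  let _inst : Unique (m.primesOver B) :=
    { default := ⟨M, inferInstance, hlies⟩
      uniq := fun q => Subtype.ext (hprimes q) }
  have hsum := Ideal.sum_ramification_inertia_eq_finrank m B
  rw [Fintype.sum_unique] at hsum
  have hdef : ((default : m.primesOver B) : Ideal B) = M := rfl
  rw [hdef] at hsum
  have hram : M.ramificationIdx A = e := by
    rw [Ideal.IsDedekindDomain.ramificationIdx_eq_multiplicity m M hmap0, he]
    exact multiplicity_pow_self (by rwa [Ideal.zero_eq_bot]) hMunit e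
  rw [hram, ← hse] at hsum
  have hsf : M.inertiaDeg A = s := by
    have := Nat.eq_of_mul_eq_mul_left (Nat.pos_of_ne_zero he0) (hsum.trans (mul_comm s e))
    exact this
  rw [hsf]
  push_cast
  rfl

end Groth.Agent.S11088
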