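import Groth.Statements.S11089
-- import your own Groth.Agent.* helpers here
import Mathlib
import Groth.Agent.S11091
import Groth.Agent.Lib.Helper37.HenselFinite

set_option autoImplicit false
universe u
attribute [local instance] FractionRing.liftAlgebra
open CAlg

namespace Groth.Agent.S11089

/-- Let A be a complete discrete valuation ring containing a field K with K → A → A/m bijective, and B a
Dedekind domain which is a finite torsion-free A-algebra of rank m with fraction field separable
over that of A (the integral closure of A in a finite separable extension E of F = Frac A). If the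
extension is totally ramified — the maximal ideal M of B has ramification index m — and m is a unit
in A, then some uniformizer u of B (an element of M not in M²) satisfies u^m ∈ A and generates E
over F: its minimal polynomial over A has degree m. -/
theorem result (K A B : Type u) [Field K]
    [CommRing A] [IsDomain A] [IsDiscreteValuationRing A]
    [IsAdicComplete (IsLocalRing.maximalIdeal A) A]
    [Algebra K A] (hK : Function.Bijective ((IsLocalRing.residue A).comp (algebraMap K A)))
    [CommRing B] [IsDedekindDomain B] [Algebra A B] [Module.Finite A B] [Module.IsTorsionFree A B]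
    [Algebra.IsSeparable (FractionRing A) (FractionRing B)]
    (M : Ideal B) [M.IsMaximal] (hram : M.ramificationIdx A = Module.finrank A B)
    (hm : IsUnit ((Module.finrank A B : ℕ) : A)) :
    ∃ u : B, u ∈ M ∧ u ∉ M ^ 2 ∧ u ^ Module.finrank A B ∈ (algebraMap A B).range ∧
      (minpoly A u).natDegree = Module.finrank A B := by
  classical
  obtain ⟨n, hn⟩ : ∃ n, n = Module.finrank A B := ⟨_, rfl⟩
  rw [← hn] at hram hm ⊢
  have hdvrA : IsDedekindDomain A := inferInstance
  obtain ⟨m, hmdef⟩ : ∃ m, m = IsLocalRing.maximalIdeal A := ⟨_, rfl⟩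
  have hmmax : m.IsMaximal := hmdef ▸ IsLocalRing.maximalIdeal.isMaximal A
  obtain ⟨M₀, hM₀, huniq⟩ := Groth.Agent.S11091.result A B
  have hMuniq : ∀ N : Ideal B, N.IsMaximal → N = M := fun N hN =>
    (huniq N hN).trans (huniq M inferInstance).symm
  have hm0 : m ≠ ⊥ := hmdef ▸ IsDiscreteValuationRing.not_a_field A
  have hunder : M.under A = m := by
    have : (M.under A).IsMaximal := Ideal.isMaximal_comap_of_isIntegral_of_isMaximal M
    rw [hmdef]
    exact IsLocalRing.eq_maximalIdeal this
  have hlies : M.LiesOver m := ⟨hunder.symm⟩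
  have hM0 : M ≠ ⊥ := by
    intro h
    apply hm0
    rw [← hunder, h]
    exact Ideal.under_bot A B
  have hpow : ∀ I : Ideal B, I ≠ ⊥ → ∃ w : ℕ, I = M ^ w := by
    intro I hI
    refine ⟨Multiset.card (UniqueFactorizationMonoid.normalizedFactors I), ?_⟩
    have h1 := Ideal.prod_normalizedFactors_eq_self hI
    have h2 : UniqueFactorizationMonoid.normalizedFactors I =
        Multiset.replicate (Multiset.card (UniqueFactorizationMonoid.normalizedFactors I)) M := by
      rw [Multiset.eq_replicate]
      refine ⟨rfl, fun q hq => ?_⟩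
      have hqp := UniqueFactorizationMonoid.prime_of_normalized_factor q hq
      have hq0 : q ≠ ⊥ := hqp.ne_zero
      have hqprime : q.IsPrime := Ideal.isPrime_of_prime hqp
      exact hMuniq q (hqprime.isMaximal hq0)
    rw [h2, Multiset.prod_replicate] at h1
    exact h1.symm
  have hMtop : M ≠ ⊤ := Ideal.IsMaximal.ne_top inferInstance
  have hMunit : ¬ IsUnit M := by
    rw [Ideal.isUnit_iff]
    exact hMtop
  have hn0 : n ≠ 0 := by
    rintro rfl
    rw [Nat.cast_zero] at hm
    exact not_isUnit_zero hm
  have hloc : IsLocalRing B :=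
    IsLocalRing.of_unique_max_ideal ⟨M, inferInstance, fun N hN => hMuniq N hN⟩
  have hMmax : IsLocalRing.maximalIdeal B = M := hMuniq _ (IsLocalRing.maximalIdeal.isMaximal B)
  have hhA : HenselianLocalRing A := Groth.Agent.Lib.Helper37.henselianLocalRing_of_henselianRing A
  have hhB : HenselianLocalRing B := Groth.Agent.Lib.Helper37.henselianLocalRing_of_finite A B
  -- `m B = M ^ n`
  have hmap0 : Ideal.map (algebraMap A B) m ≠ ⊥ := Ideal.map_ne_bot_of_ne_bot hm0
  obtain ⟨e, he⟩ := hpow _ hmap0
  have hram' : M.ramificationIdx A = e := by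
    rw [Ideal.IsDedekindDomain.ramificationIdx_eq_multiplicity m M hmap0, he]
    exact multiplicity_pow_self (by rwa [Ideal.zero_eq_bot]) hMunit e
  have hen : e = n := hram'.symm.trans hram
  -- inertia degree one
  have hprimes : ∀ q : m.primesOver B, q.1 = M := by
    intro q
    have hqprime : q.1.IsPrime := q.2.1
    have hqlies : q.1.LiesOver m := q.2.2
    have hq0 : q.1 ≠ ⊥ := by
      intro h
      apply hm0
      rw [hqlies.over, h]
      exact Ideal.under_bot A B
    exact hMuniq q.1 (hqprime.isMaximal hq0)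
  let _inst : Unique (m.primesOver B) :=
    { default := ⟨M, inferInstance, hlies⟩
      uniq := fun q => Subtype.ext (hprimes q) }
  have hsum := Ideal.sum_ramification_inertia_eq_finrank m B
  rw [Fintype.sum_unique] at hsum
  have hdef : ((default : m.primesOver B) : Ideal B) = M := rfl
  rw [hdef, hram, ← hn] at hsum
  have hf1 : M.inertiaDeg A = 1 := by
    have : n * M.inertiaDeg A = n * 1 := by rw [hsum, mul_one]
    exact Nat.eq_of_mul_eq_mul_left (Nat.pos_of_ne_zero hn0) this
  -- residues
  have hres : ∀ y : B, ∃ a : A, y - algebraMap A B a ∈ M := by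
    intro y
    rw [Ideal.inertiaDeg_eq_of_isMaximal m M] at hf1
    let _i1 : Field (A ⧸ m) := Ideal.Quotient.field m
    let _i2 : Field (B ⧸ M) := Ideal.Quotient.field M
    have h1 := (finrank_eq_one_iff_of_nonzero' (1 : B ⧸ M) one_ne_zero).mp hf1
      (Ideal.Quotient.mk M y)
    obtain ⟨c, hc⟩ := h1
    obtain ⟨a, rfl⟩ := Ideal.Quotient.mk_surjective c
    refine ⟨a, ?_⟩
    rw [← Ideal.Quotient.eq, ← hc, Algebra.smul_def, mul_one, Ideal.Quotient.algebraMap_mk_of_liesOver]
  -- uniformizers
  obtain ⟨ϖ, hϖ⟩ := IsDiscreteValuationRing.exists_irreducible A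
  have hmϖ : m = Ideal.span {ϖ} := by
    rw [hmdef]; exact (IsDiscreteValuationRing.irreducible_iff_uniformizer ϖ).mp hϖ
  have hM2 : ¬ M ≤ M ^ 2 := by
    intro hle
    have h1 : M ^ 2 ∣ M ^ 1 := by rw [pow_one]; exact Ideal.dvd_iff_le.mpr hle
    rw [pow_dvd_pow_iff (by rwa [Ideal.zero_eq_bot]) hMunit] at h1
    omega
  obtain ⟨π, hπM, hπM2⟩ := SetLike.not_le_iff_exists.mp hM2
  have hπ0 : π ≠ 0 := by
    rintro rfl
    exact hπM2 (Ideal.zero_mem _)
  obtain ⟨w, hw⟩ := hpow (Ideal.span {π}) (by rwa [Ne, Ideal.span_singleton_eq_bot])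
  have hw1 : w = 1 := by
    rcases Nat.lt_trichotomy w 1 with h | h | h
    · have hw0 : w = 0 := by omega
      rw [hw0, pow_zero, Ideal.one_eq_top] at hw
      exfalso
      apply hMtop
      rw [eq_top_iff, ← hw, Ideal.span_singleton_le_iff_mem]
      exact hπM
    · exact h
    · exfalso
      apply hπM2
      have h1 : M ^ w ≤ M ^ 2 := Ideal.pow_le_pow_right h
      exact h1 (hw ▸ Ideal.mem_span_singleton_self π)
  rw [hw1, pow_one] at hw
  have hspan : Ideal.span {algebraMap A B ϖ} = Ideal.span {π ^ n} := by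
    rw [← Ideal.span_singleton_pow, hw, ← hen, ← he, hmϖ, Ideal.map_span, Set.image_singleton]
  obtain ⟨ε, hε⟩ := Ideal.span_singleton_eq_span_singleton.mp hspan
  -- residue of `ε`
  obtain ⟨a, ha⟩ := hres (ε : B)
  have haM : algebraMap A B a ∉ M := by
    intro h
    have := M.add_mem ha h
    rw [sub_add_cancel] at this
    exact hMtop (Ideal.eq_top_of_isUnit_mem M this ε.isUnit)
  have ham : a ∉ m := by
    intro h
    apply haM
    have : a ∈ M.under A := hunder ▸ h
    exact this
  -- Hensel
  obtain ⟨t, ht⟩ : ∃ t : B, t = algebraMap A B a * ((ε⁻¹ : Bˣ) : B) := ⟨_, rfl⟩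
  have ht1 : 1 - t ∈ M := by
    have : 1 - t = ((ε : B) - algebraMap A B a) * ((ε⁻¹ : Bˣ) : B) := by
      rw [ht, sub_mul, Units.mul_inv]
    rw [this]
    exact M.mul_mem_right _ ha
  have hnB : IsUnit ((n : ℕ) : B) := by
    have := hm.map (algebraMap A B)
    rwa [map_natCast] at this
  have h1 : (Polynomial.X ^ n - Polynomial.C t : Polynomial B).eval 1 ∈ IsLocalRing.maximalIdeal B := by
    rw [hMmax, Polynomial.eval_sub, Polynomial.eval_pow, Polynomial.eval_X, Polynomial.eval_C, one_pow]
    exact ht1
  have h2 : IsUnit ((Polynomial.X ^ n - Polynomial.C t : Polynomial B).derivative.eval 1) := by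
    rw [Polynomial.derivative_sub, Polynomial.derivative_C, sub_zero, Polynomial.derivative_X_pow,
      Polynomial.eval_mul, Polynomial.eval_pow, Polynomial.eval_X, one_pow, mul_one,
      Polynomial.eval_C]
    exact hnB
  obtain ⟨η, hη, hη1⟩ := HenselianLocalRing.is_henselian _ (Polynomial.monic_X_pow_sub_C t hn0) 1 h1 h2
  rw [hMmax] at hη1
  rw [Polynomial.IsRoot, Polynomial.eval_sub, Polynomial.eval_pow, Polynomial.eval_X,
    Polynomial.eval_C, sub_eq_zero] at hη
  have hηM : η ∉ M := by
    intro h
    have := M.sub_mem h hη1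
    rw [sub_sub_cancel] at this
    exact hMtop ((Ideal.eq_top_iff_one M).mpr this)
  have hηu : IsUnit η := by
    rw [← IsLocalRing.notMem_maximalIdeal, hMmax]; exact hηM
  have hun : (η * π) ^ n = algebraMap A B (a * ϖ) := by
    rw [mul_pow, hη, ← hε, ht, map_mul]
    have : algebraMap A B a * ((ε⁻¹ : Bˣ) : B) * (algebraMap A B ϖ * (ε : B)) =
        algebraMap A B a * algebraMap A B ϖ * ((ε : B) * ((ε⁻¹ : Bˣ) : B)) := by ring
    rw [this, Units.mul_inv, mul_one]
  refine ⟨η * π, M.mul_mem_left _ hπM, ?_, ⟨a * ϖ, hun.symm⟩, ?_⟩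
  · intro h
    apply hπM2
    obtain ⟨η', hη'⟩ := hηu.exists_left_inv
    have := (M ^ 2).mul_mem_left η' h
    rwa [← mul_assoc, hη', one_mul] at this
  · -- the minimal polynomial
    obtain ⟨E, hE⟩ : ∃ E : Polynomial A, E = Polynomial.X ^ n - Polynomial.C (a * ϖ) := ⟨_, rfl⟩
    have hEmonic : E.Monic := hE ▸ Polynomial.monic_X_pow_sub_C _ hn0
    have hEdeg : E.natDegree = n := hE ▸ Polynomial.natDegree_X_pow_sub_C
    have hEroot : Polynomial.aeval (η * π) E = 0 := by
      rw [hE, map_sub, map_pow, Polynomial.aeval_X, Polynomial.aeval_C, hun, sub_self]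
    have hEis : E.IsEisensteinAt m := by
      refine ⟨?_, ?_, ?_⟩
      · rw [hEmonic.leadingCoeff]
        exact fun h => hmmax.ne_top ((Ideal.eq_top_iff_one m).mpr h)
      · intro i hi
        rw [hEdeg] at hi
        rw [hE, Polynomial.coeff_sub, Polynomial.coeff_X_pow, if_neg (by omega), zero_sub,
          Polynomial.coeff_C]
        split_ifs
        · rw [hmϖ]
          exact neg_mem (Ideal.mul_mem_left _ _ (Ideal.mem_span_singleton_self ϖ))
        · rw [neg_zero]; exact Ideal.zero_mem _
      · rw [hE, Polynomial.coeff_sub, Polynomial.coeff_X_pow, if_neg (by omega), zero_sub,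
          Polynomial.coeff_C, if_pos rfl, hmϖ, Ideal.span_singleton_pow, Ideal.neg_mem_iff,
          Ideal.mem_span_singleton]
        intro hdvd
        rw [pow_two] at hdvd
        have hϖ0 : ϖ ≠ 0 := hϖ.ne_zero
        have : ϖ ∣ a := by
          obtain ⟨c, hc⟩ := hdvd
          refine ⟨c, ?_⟩
          apply mul_right_cancel₀ hϖ0
          rw [hc]; ring
        apply ham
        rw [hmϖ, Ideal.mem_span_singleton]
        exact this
    have hEirr : Irreducible E :=
      hEis.irreducible hmmax.isPrime hEmonic.isPrimitive (by rw [hEdeg]; omega)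
    have hint : IsIntegral A (η * π) := Algebra.IsIntegral.isIntegral _
    obtain ⟨c, hc⟩ := minpoly.isIntegrallyClosed_dvd hint hEroot
    rcases hEirr.isUnit_or_isUnit hc with h | h
    · exact absurd h (minpoly.not_isUnit A (η * π))
    · have hc0 : c.natDegree = 0 := Polynomial.natDegree_eq_zero_of_isUnit h
      have := congrArg Polynomial.natDegree hc
      rw [Polynomial.natDegree_mul (minpoly.ne_zero hint) h.ne_zero, hc0, add_zero, hEdeg] at this
      exact this.symm

end Groth.Agent.S11089
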