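import Groth.Statements.S4270
import Groth.Agent.Lib.Helper48.AmpleFam
import Groth.Agent.Lib.Ample.Helper50_Basis
import Groth.Agent.Lib.QCoh.Helper74_LocFreeBiprod
-- import your own Groth.Agent.* helpers here

set_option autoImplicit false
universe u
open CategoryTheory CategoryTheory.Limits AlgebraicGeometry
attribute [local instance] HasDerivedCategory.standard
open KSix

namespace Groth.Agent.S4270

open Groth.Agent.Lib.Ample Groth.Agent.Lib.QCoh CohB1 Groth.Agent.Lib.Helper48
  Groth.Agent.Lib.Helper48.AmpleFam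

/-- A scheme admitting an ample family of invertible modules has the resolution property: every
quasi-coherent module of finite type is a quotient of a finite locally free module. -/
theorem result (X : Scheme.{u}) (hX : MoreMor.HasAmpleFamily X) :
    PerfAux.HasResolutionProperty X := by
  classical
  obtain ⟨hc, hfam⟩ := hX
  haveI : CompactSpace X := hc
  choose L n s hLinv hn hxs haff using hfam
  haveI : QuasiSeparatedSpace X := quasiSeparatedSpace_of_cover_genLocus fun x =>
    ⟨_, s x, isInvertible_tensorPow (hLinv x) (n x), hxs x, haff x⟩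
  intro F hFq hFt
  haveI : F.IsQuasicoherent := hFq
  haveI : F.IsFiniteType := hFt
  have key : ∀ x : X, ∃ k₀ : ℕ, ∀ k, k₀ ≤ k →
      GenOn (tensorMod F (tensorPow (L x) (0 + n x * k)))
        (genLocus (tensorPow (L x) (n x)) (s x)) := by
    intro x
    have hM : PicF.IsInvertible (tensorPow (L x) (n x)) := isInvertible_tensorPow (hLinv x) _
    have hLr : PicF.IsInvertible (tensorPow (L x) 0) := isInvertible_tensorPow (hLinv x) _
    haveI hLrq : (tensorPow (L x) 0).IsQuasicoherent := isQuasicoherent_of_isInvertible hLr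
    haveI hLrt : (tensorPow (L x) 0).IsFiniteType := isFiniteType_of_isInvertible hLr
    haveI hGq : (tensorMod F (tensorPow (L x) 0)).IsQuasicoherent :=
      isQuasicoherent_tensorMod _ _
    haveI hGt : (tensorMod F (tensorPow (L x) 0)).IsFiniteType := isFiniteType_tensorMod _ _
    obtain ⟨k₀, hk₀⟩ := exists_genOn_twistIter (tensorMod F (tensorPow (L x) 0)) hM (s x)
      (finite_Γ_of_isAffineOpen (haff x) _)
    exact ⟨k₀, fun k hk => (hk₀ k hk).of_iso (twistIterPowIso F (L x) 0 (n x) k)⟩
  choose k₀ hk₀ using key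
  obtain ⟨P, hPdef⟩ : ∃ P : X → X.Modules, ∀ x, P x = tensorPow (L x) (0 + n x * k₀ x) :=
    ⟨_, fun x => rfl⟩
  have hPinv : ∀ x, PicF.IsInvertible (P x) := fun x => by
    rw [hPdef]; exact isInvertible_tensorPow (hLinv x) _
  have hgen : ∀ x, GenOn (tensorMod F (P x)) (genLocus (tensorPow (L x) (n x)) (s x)) :=
    fun x => by
      rw [hPdef]; exact hk₀ x (k₀ x) le_rfl
  obtain ⟨Q, hQ, hev, hq, S, T, hS, hT⟩ := exists_data F P hPinv
    (fun x => genLocus (tensorPow (L x) (n x)) (s x)) haff hxs hgen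
  have ev : ∀ x, tensorMod (P x) (Q x) ≅ Coh.structureModule X := fun x => (hev x).some
  have hind : ∀ R : Finset (Σ x : X, Γ(tensorMod F (P x), ⊤)),
      ∃ (E : X.Modules) (ρ : E ⟶ F), FlatMod.IsFinLocFree E ∧
        ∀ r ∈ R, ∃ κ : Q r.1 ⟶ E, κ ≫ ρ = rho F (P r.1) (Q r.1) (ev r.1) r.2 := by
    intro R
    induction R using Finset.induction_on with
    | empty =>
      exact ⟨Coh.structureModule X, 0, isFinLocFree_structureModule X,
        fun r hr => by simp at hr⟩
    | insert a R' ha ih =>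
      obtain ⟨E, ρ, hE, hρ⟩ := ih
      refine ⟨Q a.1 ⊞ E, biprod.desc (rho F (P a.1) (Q a.1) (ev a.1) a.2) ρ,
        isFinLocFree_biprod (isFinLocFree_of_isInvertible (hQ a.1)) hE, ?_⟩
      intro r hr
      rcases Finset.mem_insert.1 hr with rfl | hr'
      · exact ⟨biprod.inl, biprod.inl_desc _ _⟩
      · obtain ⟨κ, hκ⟩ := hρ r hr'
        exact ⟨κ ≫ biprod.inr, by rw [Category.assoc, biprod.inr_desc, hκ]⟩
  obtain ⟨E, ρ, hE, hρ⟩ := hind (T.sigma S)
  exact ⟨E, ρ, hE, epi_of_factor F P Q hQ ev hq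
    (fun x => genLocus (tensorPow (L x) (n x)) (s x)) haff S hS T hT ρ
    (fun x hxT t ht => hρ ⟨x, t⟩ (Finset.mem_sigma.2 ⟨hxT, ht⟩))⟩

end Groth.Agent.S4270
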