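import Groth.Statements.S11090
-- import your own Groth.Agent.* helpers here
import Groth.Agent.Lib.Helper40.GrpKer
import Groth.Agent.Lib.Helper40.FpqcCovOver
import Groth.Agent.Lib.Helper51.EtaleReduced

set_option autoImplicit false
universe u
open CategoryTheory CategoryTheory.Limits MonoidalCategory CartesianMonoidalCategory MonObj GrpObj AlgebraicGeometry
open AbVar

namespace Groth.Agent.S11090

/-- Let k be an algebraically closed field and E, E′, E″ elliptic curves over k, i.e. group schemes over
Spec k whose underlying schemes are proper, smooth, integral and one-dimensional. Let φ : E → E′ be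
a homomorphism which is finite, surjective and étale (a separable isogeny) and ψ : E → E″ a
homomorphism such that every k-valued point of E sent to the unit by φ is sent to the unit by ψ.
Then there is a unique homomorphism ρ : E′ → E″ with ψ = ρ ∘ φ. (The published statement prints ψ as
a map from E″ to E and calls it an isogeny; its proof treats ψ as a map from E to E″, as here, and
this row allows any homomorphism ψ, the extra case of trivial ψ being immediate.) -/
theorem result (k : Type u) [Field k] [IsAlgClosed k]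
    (E E' E'' : Over (Spec (CommRingCat.of k)))
    [GrpObj E] [IsProper E.hom] [Smooth E.hom] [IsIntegral E.left] (hE : topologicalKrullDim E.left = 1)
    [GrpObj E'] [IsProper E'.hom] [Smooth E'.hom] [IsIntegral E'.left] (hE' : topologicalKrullDim E'.left = 1)
    [GrpObj E''] [IsProper E''.hom] [Smooth E''.hom] [IsIntegral E''.left] (hE'' : topologicalKrullDim E''.left = 1)
    (φ : E ⟶ E') [IsMonHom φ] [IsFinite φ.left] [Surjective φ.left] [Etale φ.left]
    (ψ : E ⟶ E'') [IsMonHom ψ]
    (hker : ∀ P : 𝟙_ (Over (Spec (CommRingCat.of k))) ⟶ E, P ≫ φ = η[E'] → P ≫ ψ = η[E'']) :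
    ∃! ρ : E' ⟶ E'', IsMonHom ρ ∧ φ ≫ ρ = ψ := by
  -- the kernel of φ
  obtain ⟨N, i, hi⟩ : ∃ (N : Over (Spec (CommRingCat.of k))) (i : N ⟶ E),
      AlgGrp.IsKernel i φ := by
    refine ⟨Limits.pullback φ η[E'], pullback.fst φ η[E'], ?_⟩
    have h := IsPullback.of_hasPullback φ η[E']
    have e : toUnit (Limits.pullback φ η[E']) = pullback.snd φ η[E'] := toUnit_unique _ _
    unfold AlgGrp.IsKernel
    rw [e]
    exact h
  have sqN : IsPullback i.left N.hom φ.left η[E'].left := hi.map (Over.forget _)
  haveI hNet : Etale N.hom := MorphismProperty.of_isPullback (P := @Etale) sqN inferInstance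
  haveI hNred : IsReduced N.left := Groth.Agent.Lib.Helper51.isReduced_of_etale N.hom
  -- ψ kills the kernel
  have hkill : i ≫ ψ = toUnit N ≫ η[E''] := by
    ext
    haveI : LocallyOfFiniteType ((i ≫ ψ).left ≫ E''.hom) := by
      rw [Over.w]
      infer_instance
    refine AlgebraicGeometry.ext_of_apply_eq E''.hom Set.univ isOpen_univ.isLocallyClosed
      dense_univ ?_ ?_
    · intro x _ hx
      have hP₀ : pointOfClosedPoint N.hom x hx ≫ N.hom = 𝟙 _ := pointOfClosedPoint_comp N.hom x hx
      obtain ⟨P, hP⟩ : ∃ P : 𝟙_ (Over (Spec (CommRingCat.of k))) ⟶ N,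
          P.left = pointOfClosedPoint N.hom x hx := ⟨Over.homMk (pointOfClosedPoint N.hom x hx) hP₀, rfl⟩
      have h1 : (P ≫ i) ≫ φ = η[E'] := by
        rw [Category.assoc, hi.w, ← Category.assoc, toUnit_unique (P ≫ toUnit N) (𝟙 _),
          Category.id_comp]
      have hk := hker (P ≫ i) h1
      obtain ⟨a, ha⟩ : ∃ a, a = (toUnit N).left x := ⟨_, rfl⟩
      have hx' : P.left a = x := by
        rw [hP]
        exact pointOfClosedPoint_apply N.hom x hx a
      calc (i ≫ ψ).left x = (i ≫ ψ).left (P.left a) := by rw [hx']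
        _ = (P ≫ i ≫ ψ).left a := (Scheme.Hom.comp_apply _ _ _).symm
        _ = η[E''].left a := by rw [← Category.assoc, hk]
        _ = η[E''].left ((toUnit N).left x) := by rw [ha]
        _ = (toUnit N ≫ η[E'']).left x := (Scheme.Hom.comp_apply _ _ _).symm
    · rw [Over.w, Over.w]
  -- φ is an fpqc covering
  haveI : Flat φ.left := inferInstance
  haveI : QuasiCompact φ.left := inferInstance
  have hcov : Groth.Agent.Lib.Helper40.FpqcCov.IsCov φ.left :=
    (Groth.Agent.Lib.Helper40.FpqcCov.IsQCov.of_quasiCompact φ.left).isCov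
  haveI hepi : Epi φ := Groth.Agent.Lib.Helper40.FpqcCov.epi_of_isCov_left hcov
  haveI hepi2 : Epi (φ ⊗ₘ φ) := Groth.Agent.Lib.Helper40.FpqcCov.epi_of_isCov_left
    (Groth.Agent.Lib.Helper40.FpqcCov.isCov_tensorHom hcov hcov)
  obtain ⟨ρ, hρ⟩ := Groth.Agent.Lib.Helper40.FpqcCov.exists_desc_over hcov ψ (by
    intro R a b hab
    obtain ⟨c, hc⟩ := Groth.Agent.Lib.Helper40.GrpKer.exists_eq_mul_of_comp_eq hi a b hab
    have h1 : (c ≫ i) ≫ ψ = 1 := by
      rw [Category.assoc, hkill, ← Category.assoc, toUnit_unique (c ≫ toUnit N) (toUnit R),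
        Hom.one_def]
    rw [hc, MonObj.mul_comp, h1, _root_.mul_one])
  have hρmon : IsMonHom ρ := by
    constructor
    · rw [← IsMonHom.one_hom φ, Category.assoc, hρ, IsMonHom.one_hom ψ]
    · rw [← cancel_epi (φ ⊗ₘ φ), ← Category.assoc, ← IsMonHom.mul_hom φ, Category.assoc, hρ,
        ← Category.assoc, MonoidalCategory.tensorHom_comp_tensorHom, hρ, IsMonHom.mul_hom ψ]
  refine ⟨ρ, ⟨hρmon, hρ⟩, ?_⟩
  rintro ρ' ⟨-, hρ'⟩
  rw [← cancel_epi φ, hρ, hρ']

end Groth.Agent.S11090
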