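import Groth.Statements.S11092
import Groth.Agent.Lib.Helper86.KaehlerField
import Mathlib.RingTheory.Flat.Basic
import Mathlib.LinearAlgebra.Dimension.FreeAndStrongRankCondition

set_option autoImplicit false
universe u v
open CAlg

namespace Groth.Agent.S11092

/-- Let k be an algebraically closed field, K a field finitely generated over k admitting a one-element
transcendence basis over k (a function field of dimension one), and L a finite extension field of K
with the compatible k-algebra structure. Then the K-linear map from the Kähler differentials of K
over k to those of L over k induced by the inclusion is either the zero map or injective, and it is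
injective if and only if L is separable over K. (The published statement takes K ⊆ L to be the
function fields of two elliptic curves related by a nonzero homomorphism; its proof uses only that
they are function fields of dimension one over k.) -/
theorem result (k : Type u) (K L : Type v)
    [Field k] [IsAlgClosed k] [Field K] [Field L] [Algebra k K] [Algebra k L] [Algebra K L]
    [IsScalarTower k K L] (hK : (⊤ : IntermediateField k K).FG)
    (hx : ∃ x : K, IsTranscendenceBasis k (fun _ : Unit => x)) [FiniteDimensional K L] :
    (KaehlerDifferential.map k k K L = 0 ∨ Function.Injective (KaehlerDifferential.map k k K L)) ∧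
      (Function.Injective (KaehlerDifferential.map k k K L) ↔ Algebra.IsSeparable K L) := by
  have hessK : Algebra.EssFiniteType k K := IntermediateField.fg_top_iff.mp hK
  have hessL : Algebra.EssFiniteType k L := Algebra.EssFiniteType.comp k K L
  obtain ⟨x, hx⟩ := hx
  have hxL : IsTranscendenceBasis k (algebraMap K L ∘ fun _ : Unit => x) := hx.algebraMap_comp
  have hrK : Module.rank K (Ω[K⁄k]) = 1 := by
    simpa using Groth.Agent.Lib.Helper86.lift_rank_kaehlerDifferential_eq _ hx
  have hrL : Module.rank L (Ω[L⁄k]) = 1 := by
    simpa using Groth.Agent.Lib.Helper86.lift_rank_kaehlerDifferential_eq _ hxL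
  obtain ⟨v₀, hv₀, hgenK⟩ := rank_eq_one_iff.1 hrK
  set f := KaehlerDifferential.map k k K L with hf
  -- zero or injective
  have h01 : f v₀ ≠ 0 → Function.Injective f := by
    intro hne
    rw [injective_iff_map_eq_zero]
    intro w hw
    obtain ⟨c, rfl⟩ := hgenK w
    rw [map_smul] at hw
    rcases smul_eq_zero.1 hw with h | h
    · rw [h, zero_smul]
    · exact absurd h hne
  have hzero : f v₀ = 0 → f = 0 := by
    intro h0
    refine LinearMap.ext fun w => ?_
    obtain ⟨c, rfl⟩ := hgenK w
    rw [map_smul, h0, smul_zero, LinearMap.zero_apply]
  refine ⟨?_, ?_⟩
  · by_cases h0 : f v₀ = 0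
    · exact Or.inl (hzero h0)
    · exact Or.inr (h01 h0)
  · constructor
    · intro hinj
      -- some `D x` has nonzero image
      have hne : f ≠ 0 := by
        intro h0
        apply hv₀
        apply hinj
        rw [h0, LinearMap.zero_apply, map_zero]
      have hex : ∃ y : K, KaehlerDifferential.D k L (algebraMap K L y) ≠ 0 := by
        by_contra hall
        push Not at hall
        apply hne
        apply LinearMap.ext_on (KaehlerDifferential.span_range_derivation k K)
        rintro _ ⟨y, rfl⟩
        rw [hf, KaehlerDifferential.map_D, hall y, LinearMap.zero_apply]
      obtain ⟨y, hy⟩ := hex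
      apply Groth.Agent.Lib.Helper86.isSeparable_of_span_D_algebraMap_eq_top (k := k) ({y} : Set K)
      rw [Set.image_singleton]
      have hfr : Module.finrank L (Ω[L⁄k]) = 1 := Module.rank_eq_one_iff_finrank_eq_one.1 hrL
      exact (finrank_eq_one_iff_of_nonzero _ hy).1 hfr
    · intro hsep
      have : Algebra.FormallyEtale K L := Algebra.FormallyEtale.of_isSeparable K L
      have h1 : Function.Injective (TensorProduct.mk K L (Ω[K⁄k]) 1) :=
        Module.Flat.tensorProduct_mk_injective K (Ω[K⁄k]) L
      have h2 : Function.Injective (KaehlerDifferential.tensorKaehlerEquivOfFormallyEtale k K L) :=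
        (KaehlerDifferential.tensorKaehlerEquivOfFormallyEtale k K L).injective
      have h3 : ∀ w, f w = KaehlerDifferential.tensorKaehlerEquivOfFormallyEtale k K L
          (TensorProduct.mk K L (Ω[K⁄k]) 1 w) := by
        intro w
        rw [KaehlerDifferential.tensorKaehlerEquivOfFormallyEtale_apply, TensorProduct.mk_apply,
          KaehlerDifferential.mapBaseChange_tmul, one_smul]
      intro a b hab
      rw [h3, h3] at hab
      exact h1 (h2 hab)

end Groth.Agent.S11092
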