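import Groth.Statements.S11095
import Mathlib

set_option autoImplicit false
universe u
open CAlg

namespace Groth.Agent.S11095

open Polynomial IntermediateField

lemma minpoly_eq_map {K₀ F₀ Ω : Type*} [Field K₀] [Field F₀] [Field Ω] [Algebra K₀ F₀]
    [Algebra F₀ Ω] [Algebra K₀ Ω] [IsScalarTower K₀ F₀ Ω]
    (h : algebraicClosure K₀ F₀ = ⊥) (β : Ω) (hβ : IsIntegral K₀ β) :
    minpoly F₀ β = (minpoly K₀ β).map (algebraMap K₀ F₀) := by
  have hβ' : IsIntegral F₀ β := hβ.tower_top
  have hd : minpoly F₀ β ∣ (minpoly K₀ β).map (algebraMap K₀ F₀) :=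
    minpoly.dvd_map_of_isScalarTower K₀ F₀ β
  have hl := integralClosure.mem_lifts_of_monic_of_dvd_map F₀ (minpoly.monic hβ)
    (minpoly.monic hβ') hd
  have hl' : minpoly F₀ β ∈ lifts (algebraMap K₀ F₀) := by
    rw [lifts_iff_coeff_lifts] at hl ⊢
    intro n
    obtain ⟨⟨y, hy⟩, hy'⟩ := hl n
    have hy2 : y ∈ algebraicClosure K₀ F₀ := hy
    rw [h, IntermediateField.mem_bot] at hy2
    obtain ⟨z, rfl⟩ := hy2
    exact ⟨z, hy'⟩
  obtain ⟨g₀, hg₀, hdeg, hmon⟩ := lifts_and_degree_eq_and_monic hl' (minpoly.monic hβ')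
  have h0 : aeval β g₀ = 0 := by
    have := minpoly.aeval F₀ β
    rw [← hg₀, aeval_map_algebraMap] at this
    exact this
  have hd2 : minpoly K₀ β ∣ g₀ := minpoly.dvd K₀ β h0
  have hd3 : (minpoly K₀ β).map (algebraMap K₀ F₀) ∣ minpoly F₀ β := by
    rw [← hg₀]; exact Polynomial.map_dvd _ hd2
  exact eq_of_monic_of_associated (minpoly.monic hβ') ((minpoly.monic hβ).map _)
    (associated_of_dvd_dvd hd hd3)


lemma disj_simple {K₀ F₀ Ω : Type*} [Field K₀] [Field F₀] [Field Ω] [Algebra K₀ F₀]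
    [Algebra F₀ Ω] [Algebra K₀ Ω] [IsScalarTower K₀ F₀ Ω]
    (h : algebraicClosure K₀ F₀ = ⊥) (β : Ω) (hβ : IsIntegral K₀ β) :
    (IsScalarTower.toAlgHom K₀ F₀ Ω).range.LinearDisjoint (K₀⟮β⟯).toSubalgebra := by
  have hdeg : (minpoly F₀ β).natDegree = (minpoly K₀ β).natDegree := by
    rw [minpoly_eq_map h β hβ, natDegree_map]
  have hli : LinearIndependent F₀ (fun i : Fin (minpoly K₀ β).natDegree => β ^ (i : ℕ)) :=
    (linearIndependent_pow (K := F₀) β).comp (Fin.cast hdeg.symm) (Fin.cast_injective _)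
  refine Subalgebra.LinearDisjoint.of_basis_right _ _ (IntermediateField.adjoin.powerBasis hβ).basis ?_
  rw [Fintype.linearIndependent_iff]
  intro g hg i
  choose x hx using fun i => (g i).2
  have h1 : ∑ i, x i • β ^ (i : ℕ) = 0 := by
    rw [← hg]
    refine Finset.sum_congr rfl fun i _ => ?_
    simp only [Function.comp_apply, PowerBasis.coe_basis, IntermediateField.adjoin.powerBasis_gen]
    rw [Algebra.smul_def, Subalgebra.smul_def, smul_eq_mul]
    congr 1
    · exact hx i
  have h2 := (Fintype.linearIndependent_iff.mp hli) x h1 i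
  apply Subtype.ext
  rw [← hx i, h2]
  simp
/-- Let K₀ be a perfect field, K an algebraic extension of K₀ and F₀ a field extension of K₀ such that
K₀ is algebraically closed in F₀. Then the K₀-algebra F₀ ⊗ K is a field; consequently F₀ and K,
embedded in it by x ↦ x ⊗ 1 and y ↦ 1 ⊗ y, are linearly disjoint over K₀. -/
theorem result (K₀ F₀ K : Type u)
    [Field K₀] [PerfectField K₀] [Field F₀] [Algebra K₀ F₀] [Field K] [Algebra K₀ K]
    [Algebra.IsAlgebraic K₀ K] (h : algebraicClosure K₀ F₀ = ⊥) :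
    IsField (TensorProduct K₀ F₀ K) := by
  let Ω := AlgebraicClosure F₀
  let fa : F₀ →ₐ[K₀] Ω := IsScalarTower.toAlgHom K₀ F₀ Ω
  let fb : K →ₐ[K₀] Ω := IsAlgClosed.lift
  have hdis : fa.range.LinearDisjoint fb.range := by
    have hint : Algebra.IsIntegral K₀ fb.range := by
      refine ⟨fun y => ?_⟩
      obtain ⟨y, z, rfl⟩ := y
      have hz : IsIntegral K₀ z := Algebra.IsIntegral.isIntegral z
      have := hz.map fb
      exact (isIntegral_algHom_iff fb.range.val Subtype.val_injective).1 this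
    refine Subalgebra.LinearDisjoint.of_linearDisjoint_finite_right fa.range fb.range
      (fun B' hB' _ => ?_)
    have halgB : ∀ x ∈ (B' : Set Ω), IsAlgebraic K₀ x := by
      intro x hx
      obtain ⟨z, rfl⟩ := hB' hx
      exact (Algebra.IsAlgebraic.isAlgebraic z).algHom fb
    let E' : IntermediateField K₀ Ω := IntermediateField.adjoin K₀ (B' : Set Ω)
    have hE' : E'.toSubalgebra = B' := by
      rw [IntermediateField.adjoin_toSubalgebra_of_isAlgebraic halgB, Algebra.adjoin_eq]
    have : Module.Finite K₀ E'.toSubalgebra := by rw [hE']; infer_instance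
    have : FiniteDimensional K₀ E' := ‹Module.Finite K₀ E'.toSubalgebra›
    obtain ⟨α, hα⟩ := Field.exists_primitive_element K₀ E'
    have hE'' : E' = K₀⟮(α : Ω)⟯ := by
      rw [← IntermediateField.lift_adjoin_simple, hα, IntermediateField.lift_top]
    have hαint : IsIntegral K₀ (α : Ω) := by
      have := Algebra.IsIntegral.isIntegral (R := K₀) α
      exact this.map E'.val
    rw [← hE', hE'']
    exact disj_simple h _ hαint
  have : IsDomain (TensorProduct K₀ F₀ K) :=
    hdis.isDomain_of_injective fa.toRingHom.injective fb.toRingHom.injective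
  exact Algebra.TensorProduct.isField_of_isAlgebraic K₀ F₀ K (Or.inr inferInstance)

end Groth.Agent.S11095
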