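import Groth.Statements.S1110
import Groth.Agent.Lib.QCoh.Helper50_SubExtQcqs
import Groth.Agent.Lib.QCoh.Helper43_PushQcqs
import Groth.Agent.Lib.QCoh.Helper74_LocFreeBiprod
import Groth.Agent.Lib.QCoh.Helper50_AffineDict
import Groth.Agent.Lib.QCoh.AffineOpen
import Groth.Agent.Lib.Helper22.QCohLoc
-- import your own Groth.Agent.* helpers here

set_option autoImplicit false
universe u
open CategoryTheory AlgebraicGeometry
open Perf

namespace Groth.Agent.S1110

section Aux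

open Groth.Agent.Lib.QCoh Groth.Agent.Lib.Helper22 TopologicalSpace Opposite Limits

variable {X Y : Scheme.{u}}

/-- one section of `f_* M` over an affine open is hit from a finite locally free module -/
theorem exists_hit (f : X ⟶ Y) [IsAffineHom f] [CompactSpace ↥Y] [QuasiSeparatedSpace ↥Y]
    (hY : PerfAux.HasResolutionProperty Y) (M : X.Modules) [M.IsQuasicoherent]
    (V : Y.Opens) (hV : IsAffineOpen V) (m : Γ(M, f ⁻¹ᵁ V)) :
    ∃ (E : Y.Modules) (ψ : E ⟶ (Scheme.Modules.pushforward f).obj M), FlatMod.IsFinLocFree E ∧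
      ∃ z : Γ(E, V), ψ.app V z = m := by
  haveI : ((Scheme.Modules.pushforward f).obj M).IsQuasicoherent :=
    isQuasicoherent_pushforward_of_qcqs f M
  obtain ⟨G', i', _, hq, ht, g, hg⟩ := SubExtQ.exists_subsheaf_through_section
    ((Scheme.Modules.pushforward f).obj M) V hV.isCompact
    (show Γ((Scheme.Modules.pushforward f).obj M, V) from m)
  obtain ⟨E, π, hE, hπ⟩ := hY G' hq ht
  haveI := hπ
  haveI : E.IsQuasicoherent := isQuasicoherent_of_isFinLocFree hE
  haveI : G'.IsQuasicoherent := hq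
  obtain ⟨z, hz⟩ := surjective_app_of_epi π hV g
  refine ⟨E, π ≫ i', hE, z, ?_⟩
  show i'.app V (π.app V z) = m
  rw [hz]
  exact hg

/-- finitely many sections of `f_* M` over affine opens are hit from one finite locally free module -/
theorem exists_hit_finset (f : X ⟶ Y) [IsAffineHom f] [CompactSpace ↥Y] [QuasiSeparatedSpace ↥Y]
    (hY : PerfAux.HasResolutionProperty Y) (M : X.Modules) [M.IsQuasicoherent]
    (T : Finset (Σ V : Y.affineOpens, Γ(M, f ⁻¹ᵁ V.1))) :
    ∃ (E : Y.Modules) (ψ : E ⟶ (Scheme.Modules.pushforward f).obj M), FlatMod.IsFinLocFree E ∧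
      ∀ t ∈ T, ∃ z : Γ(E, t.1.1), ψ.app t.1.1 z = t.2 := by
  classical
  induction T using Finset.induction_on with
  | empty =>
    exact ⟨Coh.structureModule Y, 0, isFinLocFree_structureModule Y, fun t ht => by simp at ht⟩
  | insert t T _ ih =>
    obtain ⟨E, ψ, hE, hψ⟩ := ih
    obtain ⟨E', ψ', hE', z', hz'⟩ := exists_hit f hY M t.1.1 t.1.2 t.2
    refine ⟨E' ⊞ E, biprod.desc ψ' ψ, isFinLocFree_biprod hE' hE, fun s hs => ?_⟩
    rcases Finset.mem_insert.mp hs with rfl | hs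
    · refine ⟨(biprod.inl : E' ⟶ E' ⊞ E).app _ z', ?_⟩
      have h := congrArg (fun φ : E' ⟶ (Scheme.Modules.pushforward f).obj M => φ.app s.1.1 z')
        (biprod.inl_desc ψ' ψ)
      exact h.trans hz'
    · obtain ⟨z, hz⟩ := hψ s hs
      refine ⟨(biprod.inr : E ⟶ E' ⊞ E).app _ z, ?_⟩
      have h := congrArg (fun φ : E ⟶ (Scheme.Modules.pushforward f).obj M => φ.app s.1.1 z)
        (biprod.inr_desc ψ' ψ)
      exact h.trans hz

end Aux

/-- For an affine morphism f : X ⟶ Y over a quasi-compact, quasi-separated Y, the resolution property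
passes from Y up to X. (The source also treats quasi-affine f.) -/
theorem result {X Y : Scheme.{u}} (f : X ⟶ Y) [IsAffineHom f] [CompactSpace ↥Y] [QuasiSeparatedSpace ↥Y]
    (hY : PerfAux.HasResolutionProperty Y) : PerfAux.HasResolutionProperty X := by
  intro M hMq hMt
  haveI : M.IsQuasicoherent := hMq
  haveI : M.IsFiniteType := hMt
  classical
  -- a finite affine cover of `Y`
  obtain ⟨A, hA⟩ := isCompact_univ.elim_finite_subcover
    (fun V : Y.affineOpens => ((V.1 : Y.Opens) : Set Y)) (fun V => V.1.isOpen)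
    (fun y _ => by
      obtain ⟨V, hV, hyV, -⟩ := TopologicalSpace.Opens.isBasis_iff_nbhd.1 Y.isBasis_affineOpens
        (show y ∈ (⊤ : Y.Opens) from trivial)
      exact Set.mem_iUnion.2 ⟨⟨V, hV⟩, hyV⟩)
  have hA' : ∀ y : Y, ∃ V ∈ A, y ∈ V.1 := fun y => by
    obtain ⟨V, hVA, hyV⟩ := Set.mem_iUnion₂.1 (hA (Set.mem_univ y))
    exact ⟨V, hVA, hyV⟩
  -- finite generating sets over the preimages
  have hgen : ∀ V : Y.affineOpens, ∃ S : Finset Γ(M, f ⁻¹ᵁ V.1),
      Submodule.span Γ(X, f ⁻¹ᵁ V.1) (S : Set Γ(M, f ⁻¹ᵁ V.1)) = ⊤ := by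
    intro V
    have hU : IsAffineOpen (f ⁻¹ᵁ V.1) := V.2.preimage f
    have hfin : Module.Finite Γ(X, f ⁻¹ᵁ V.1) Γ(M, f ⁻¹ᵁ V.1) :=
      Groth.Agent.Lib.QCoh.finite_Γ_of_isAffineOpen hU M
    exact hfin.1
  choose S hS using hgen
  obtain ⟨E, ψ, hE, hψ⟩ := exists_hit_finset f hY M (A.sigma S)
  -- the adjoint morphism
  obtain ⟨ψ', hψ'⟩ : ∃ ψ' : (Scheme.Modules.pullback f).obj E ⟶ M,
      ψ = (Scheme.Modules.pullbackPushforwardAdjunction f).unit.app E ≫
        (Scheme.Modules.pushforward f).map ψ' :=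
    ⟨((Scheme.Modules.pullbackPushforwardAdjunction f).homEquiv E M).symm ψ, by
      have h := (Scheme.Modules.pullbackPushforwardAdjunction f).homEquiv_unit (X := E) (Y := M)
        (f := ((Scheme.Modules.pullbackPushforwardAdjunction f).homEquiv E M).symm ψ)
      rw [Equiv.apply_symm_apply] at h
      exact h⟩
  have hE' : FlatMod.IsFinLocFree ((Scheme.Modules.pullback f).obj E) :=
    Groth.Agent.Lib.QCoh.isFinLocFree_pullback f hE
  refine ⟨(Scheme.Modules.pullback f).obj E, ψ', hE', ?_⟩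
  have hrange : ∀ V ∈ A, ∀ x : Γ(M, f ⁻¹ᵁ V.1), ∃ w, ψ'.app (f ⁻¹ᵁ V.1) w = x := by
    intro V hVA x
    have hx : x ∈ Submodule.span Γ(X, f ⁻¹ᵁ V.1) (S V : Set Γ(M, f ⁻¹ᵁ V.1)) := by
      rw [hS V]
      trivial
    induction hx using Submodule.span_induction with
    | mem x hx =>
      obtain ⟨z, hz⟩ := hψ ⟨V, x⟩ (Finset.mem_sigma.2 ⟨hVA, hx⟩)
      refine ⟨((Scheme.Modules.pullbackPushforwardAdjunction f).unit.app E).app V.1 z, ?_⟩
      have h := congrArg (fun φ : E ⟶ (Scheme.Modules.pushforward f).obj M => φ.app V.1 z) hψ'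
      exact h.symm.trans hz
    | zero => exact ⟨0, map_zero _⟩
    | add x y _ _ hx hy =>
      obtain ⟨a, rfl⟩ := hx
      obtain ⟨b, rfl⟩ := hy
      exact ⟨a + b, map_add _ _ _⟩
    | smul r x _ hx =>
      obtain ⟨a, rfl⟩ := hx
      exact ⟨r • a, Scheme.Modules.Hom.app_smul _ _ _⟩
  refine Groth.Agent.Lib.QCoh.epi_of_surjective_of_isBasis
    (fun p : (Σ V : {V : Y.affineOpens // V ∈ A}, Γ(X, f ⁻¹ᵁ V.1.1)) => X.basicOpen p.2) ?_ ψ' ?_
  · rw [TopologicalSpace.Opens.isBasis_iff_nbhd]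
    intro U x hxU
    obtain ⟨V, hVA, hyV⟩ := hA' (f.base x)
    have hU : IsAffineOpen (f ⁻¹ᵁ V.1) := V.2.preimage f
    obtain ⟨g, hgU, hxg⟩ := hU.exists_basicOpen_le (V := U) ⟨x, hxU⟩ hyV
    exact ⟨_, ⟨⟨⟨V, hVA⟩, g⟩, rfl⟩, hxg, hgU⟩
  · rintro ⟨⟨V, hVA⟩, g⟩ y
    have hU : IsAffineOpen (f ⁻¹ᵁ V.1) := V.2.preimage f
    obtain ⟨n, x, hx⟩ := Groth.Agent.Lib.Helper22.exists_pow_smul_eq_map_of_isAffineOpen M hU g y
    obtain ⟨w, rfl⟩ := hrange V hVA x
    have hu : IsUnit (X.presheaf.map (homOfLE (X.basicOpen_le g)).op g) :=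
      RingedSpace.isUnit_res_basicOpen X.toRingedSpace g
    obtain ⟨u, hu'⟩ := hu.pow n
    refine ⟨(↑u⁻¹ : Γ(X, X.basicOpen g)) •
      ((Scheme.Modules.pullback f).obj E).presheaf.map (homOfLE (X.basicOpen_le g)).op w, ?_⟩
    rw [Scheme.Modules.Hom.app_smul, Groth.Agent.Lib.QCoh.app_naturality_apply, hx, ← hu',
      ← mul_smul, Units.inv_mul, one_smul]

end Groth.Agent.S1110
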