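import Groth.Statements.S11100
import Groth.Agent.Lib.Helper73.CotSm2
import Groth.Agent.Lib.Helper82.DVRFibre
-- import your own Groth.Agent.* helpers here

set_option autoImplicit false
universe u
open CategoryTheory AlgebraicGeometry
open Neron

namespace Groth.Agent.S11100

/-- Let R be a Dedekind domain and p : X → Spec R flat and locally of finite presentation with X regular
(all local rings regular). Then every section s of p factors through the smooth locus of p: for
every point t of Spec R, p is smooth at s(t). (The published statement is for regular arithmetic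
surfaces over a Dedekind domain with perfect residue fields; this row assumes only that X is flat,
locally of finite presentation and regular.) -/
theorem result {R : Type u} [CommRing R] [IsDedekindDomain R]
    {X : Scheme.{u}} (p : X ⟶ Spec (CommRingCat.of R)) [Flat p] [LocallyOfFinitePresentation p]
    (hreg : ∀ x : X, IsRegularLocalRing (X.presheaf.stalk x))
    (s : Spec (CommRingCat.of R) ⟶ X) (hs : s ≫ p = 𝟙 _) (t : Spec (CommRingCat.of R)) :
    s.base t ∈ p.smoothLocus := by
  have hflat : (p.stalkMap (s.base t)).hom.Flat := Flat.stalkMap p (s.base t)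
  letI := (p.stalkMap (s.base t)).hom.toAlgebra
  haveI : IsLocalHom (algebraMap ((Spec (CommRingCat.of R)).presheaf.stalk (p.base (s.base t)))
      (X.presheaf.stalk (s.base t))) :=
    inferInstanceAs (IsLocalHom (p.stalkMap (s.base t)).hom)
  haveI hA : IsRegularLocalRing ((Spec (CommRingCat.of R)).presheaf.stalk (p.base (s.base t))) :=
    Groth.Agent.Lib.Helper82.DVRFibre.isRegularLocalRing_stalk_Spec R _
  haveI hB : IsRegularLocalRing (X.presheaf.stalk (s.base t)) := hreg _
  -- the composite `A → B → A'` is bijective
  haveI : IsIso (s ≫ p) := by rw [hs]; infer_instance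
  have hiso : IsIso ((s ≫ p).stalkMap t) := inferInstance
  rw [Scheme.Hom.stalkMap_comp] at hiso
  have hbij : Function.Bijective
      ((p.stalkMap (s.base t) ≫ s.stalkMap t).hom) :=
    (ConcreteCategory.isIso_iff_bijective _).mp hiso
  let e : (Spec (CommRingCat.of R)).presheaf.stalk (p.base (s.base t)) ≃+*
      (Spec (CommRingCat.of R)).presheaf.stalk t :=
    RingEquiv.ofBijective _ hbij
  have he : ∀ a, e a = (s.stalkMap t).hom ((p.stalkMap (s.base t)).hom a) := fun a => rfl
  have hσ : ∀ b : X.presheaf.stalk (s.base t), b ∈ IsLocalRing.maximalIdeal _ →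
      (s.stalkMap t).hom b ∈ IsLocalRing.maximalIdeal _ := by
    intro b hb
    rw [IsLocalRing.mem_maximalIdeal, mem_nonunits_iff] at hb ⊢
    exact fun h => hb ((isUnit_map_iff (s.stalkMap t).hom b).mp h)
  have hci : Groth.Agent.Lib.Helper73.CotInj.CotInjective ((Spec (CommRingCat.of R)).presheaf.stalk (p.base (s.base t)))
      (X.presheaf.stalk (s.base t)) := by
    intro a ha h2
    have h3 : e a ∈ IsLocalRing.maximalIdeal ((Spec (CommRingCat.of R)).presheaf.stalk t) ^ 2 := by
      rw [he]
      have h4 := Ideal.mem_map_of_mem (s.stalkMap t).hom h2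
      rw [Ideal.map_pow] at h4
      refine Ideal.pow_right_mono ?_ 2 h4
      rw [Ideal.map_le_iff_le_comap]
      exact fun b hb => hσ b hb
    have h5 := Ideal.mem_map_of_mem e.symm h3
    rw [Ideal.map_pow, IsLocalRing.map_ringEquiv_maximalIdeal e.symm] at h5
    simpa using h5
  have hrs : Groth.Agent.Lib.Helper73.CotInj.ResSurjective ((Spec (CommRingCat.of R)).presheaf.stalk (p.base (s.base t)))
      (X.presheaf.stalk (s.base t)) := by
    intro b
    refine ⟨e.symm ((s.stalkMap t).hom b), ?_⟩
    have h0 : (s.stalkMap t).hom (b - algebraMap _ _ (e.symm ((s.stalkMap t).hom b))) = 0 := by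
      rw [map_sub, sub_eq_zero]
      change _ = e (e.symm _)
      rw [RingEquiv.apply_symm_apply]
    rw [IsLocalRing.mem_maximalIdeal, mem_nonunits_iff]
    intro hu
    have := hu.map (s.stalkMap t).hom
    rw [h0] at this
    exact not_isUnit_zero this
  obtain ⟨hreg0, -, -⟩ := Groth.Agent.Lib.Helper73.CotInj.isRegularLocalRing_fibre_and_flat_of_cotInjective _ _ hci hrs
  exact Groth.Agent.Lib.Helper73.CotSm.mem_smoothLocus_of_flat_of_regular_fibre p (s.base t)
    hflat hreg0 hrs

end Groth.Agent.S11100
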