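import Groth.Statements.S5038
import Groth.Agent.Lib.Helper35.SmoothSection
import Groth.Agent.Lib.Helper35.SpecToAffine

set_option autoImplicit false
open CategoryTheory AlgebraicGeometry
universe u
open Hensel

namespace Groth.Agent.S5038

section Helpers
set_option linter.style.haveILetI false
set_option maxHeartbeats 400000
set_option backward.isDefEq.respectTransparency.types false
open AlgebraicGeometry CategoryTheory Limits IsLocalRing
open Groth.Agent.Lib.Helper35.SpecToAffine Groth.Agent.Lib.Helper81.ToAffine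
open Groth.Agent.Lib.Helper35

theorem ringOf_congr {X : Scheme.{u}} {R : CommRingCat.{u}} {α γ : Spec R ⟶ X} (h : α = γ)
    (U : X.Opens) (e : ⊤ ≤ α ⁻¹ᵁ U) : ringOf α U e = ringOf γ U (h ▸ e) := by
  subst h; rfl

theorem ringOf_SpecMap {R R' : CommRingCat.{u}} (ψ : R ⟶ R')
    (e : ⊤ ≤ (Spec.map ψ) ⁻¹ᵁ (⊤ : (Spec R).Opens)) :
    ringOf (Spec.map ψ) ⊤ e = (Scheme.ΓSpecIso R).hom ≫ ψ := by
  unfold ringOf
  have h1 : (Spec.map ψ).appLE ⊤ ⊤ e = (Spec.map ψ).appTop := by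
    simp [Scheme.Hom.appLE, Scheme.Hom.appTop]
  rw [h1, Scheme.ΓSpecIso_naturality]

theorem aux (A : Type u) [CommRing A] [HenselianLocalRing A]
    {X : Scheme.{u}} (f : X ⟶ Spec (CommRingCat.of A)) [Smooth f]
    (u₀ : Spec (CommRingCat.of (IsLocalRing.ResidueField A)) ⟶ X)
    (h₀ : u₀ ≫ f = Spec.map (CommRingCat.ofHom (IsLocalRing.residue A))) :
    ∃ u : Spec (CommRingCat.of A) ⟶ X, u ≫ f = 𝟙 _ ∧
      Spec.map (CommRingCat.ofHom (IsLocalRing.residue A)) ≫ u = u₀ := by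
  obtain ⟨_, ⟨U, hU, rfl⟩, hxU, -⟩ := X.isBasis_affineOpens.exists_subset_of_mem_open
    (Set.mem_univ (u₀ (closedPoint (ResidueField A)))) isOpen_univ
  obtain ⟨U, rfl⟩ : ∃ U' : X.Opens, U' = U := ⟨U, rfl⟩
  replace hU : IsAffineOpen U := hU
  have e₀ : ⊤ ≤ u₀ ⁻¹ᵁ U := preimage_eq_top_of_closedPoint_mem u₀ U hxU
  have hUV : U ≤ f ⁻¹ᵁ (⊤ : (Spec (CommRingCat.of A)).Opens) := fun _ _ => trivial
  have hsm : (f.appLE ⊤ U hUV).hom.Smooth :=
    HasRingHomProperty.appLE @Smooth f ‹_› ⟨⊤, isAffineOpen_top _⟩ ⟨U, hU⟩ hUV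
  -- the algebra `A → Γ(X, U)`
  obtain ⟨φ, hφ⟩ : ∃ φ : CommRingCat.of A ⟶ Γ(X, U),
      φ = (Scheme.ΓSpecIso (CommRingCat.of A)).inv ≫ f.appLE ⊤ U hUV := ⟨_, rfl⟩
  have hφsm : φ.hom.Smooth := by
    rw [hφ, CommRingCat.hom_comp]
    exact (RingHom.Smooth.respectsIso.cancel_left_isIso
      (Scheme.ΓSpecIso (CommRingCat.of A)).inv _).mpr hsm
  letI algAB : Algebra A Γ(X, U) := φ.hom.toAlgebra
  haveI : Algebra.Smooth A Γ(X, U) := RingHom.smooth_algebraMap.mp hφsm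
  -- compatibility
  have e1 : ⊤ ≤ (u₀ ≫ f) ⁻¹ᵁ (⊤ : (Spec (CommRingCat.of A)).Opens) := fun _ _ => trivial
  have e2 : ⊤ ≤ (Spec.map (CommRingCat.ofHom (IsLocalRing.residue A))) ⁻¹ᵁ
      (⊤ : (Spec (CommRingCat.of A)).Opens) := fun _ _ => trivial
  have hcompat : φ ≫ ringOf u₀ U e₀ = CommRingCat.ofHom (IsLocalRing.residue A) := by
    rw [hφ, Category.assoc, ← ringOf_comp u₀ f ⊤ U e₀ hUV e1, ringOf_congr h₀ ⊤ e1,
      ringOf_SpecMap _ e2, Iso.inv_hom_id_assoc]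
  obtain ⟨σ, hσ1, hσ2⟩ := SmoothSection.exists_section_of_henselian A Γ(X, U)
    (ringOf u₀ U e₀).hom congr($(hcompat).hom)
  have hσ1' : φ ≫ CommRingCat.ofHom σ = 𝟙 _ := CommRingCat.hom_ext hσ1
  have hσ2' : CommRingCat.ofHom σ ≫ CommRingCat.ofHom (IsLocalRing.residue A) =
      ringOf u₀ U e₀ := CommRingCat.hom_ext hσ2
  refine ⟨toV hU (CommRingCat.ofHom σ ≫ (Scheme.ΓSpecIso _).inv), ?_, ?_⟩
  · have e3 : ⊤ ≤ (toV hU (CommRingCat.ofHom σ ≫ (Scheme.ΓSpecIso _).inv) ≫ f) ⁻¹ᵁ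
        (⊤ : (Spec (CommRingCat.of A)).Opens) := fun _ _ => trivial
    have e4 : ⊤ ≤ (𝟙 (Spec (CommRingCat.of A))) ⁻¹ᵁ
        (⊤ : (Spec (CommRingCat.of A)).Opens) := fun _ _ => trivial
    refine ext_of_ringOf (isAffineOpen_top _) _ _ e3 e4 ?_
    have e5 : ⊤ ≤ (Spec.map (𝟙 (CommRingCat.of A))) ⁻¹ᵁ
        (⊤ : (Spec (CommRingCat.of A)).Opens) := fun _ _ => trivial
    rw [ringOf_comp _ f ⊤ U (toV_preimage hU (CommRingCat.ofHom σ)) hUV e3, ringOf_toV,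
      ringOf_congr (Spec.map_id (CommRingCat.of A)).symm ⊤ e4, ringOf_SpecMap _ e5,
      Category.comp_id]
    have := congr((Scheme.ΓSpecIso (CommRingCat.of A)).hom ≫ $hσ1')
    rwa [hφ, Category.assoc, Iso.hom_inv_id_assoc, Category.comp_id] at this
  · have e6 : ⊤ ≤ (Spec.map (CommRingCat.ofHom (IsLocalRing.residue A)) ≫
        toV hU (CommRingCat.ofHom σ ≫ (Scheme.ΓSpecIso _).inv)) ⁻¹ᵁ U :=
      fun p _ => toV_preimage hU (CommRingCat.ofHom σ) (Set.mem_univ _)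
    refine ext_of_ringOf hU _ _ e6 e₀ ?_
    rw [ringOf_SpecMap_comp _ _ U (toV_preimage hU (CommRingCat.ofHom σ)) e6, ringOf_toV, hσ2']

end Helpers

/-- Let A be a henselian local ring with residue field k, S = Spec A, and f : X ⟶ S a smooth morphism.
Then the map from sections of f to k-points of the closed fibre is surjective: every u₀ : Spec k ⟶ X
lying over the closed point extends to a section u of f. -/
theorem result (A : Type u) [CommRing A] [HenselianLocalRing A]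
    {X : Scheme.{u}} (f : X ⟶ Spec (CommRingCat.of A)) [Smooth f]
    (u₀ : Spec (CommRingCat.of (IsLocalRing.ResidueField A)) ⟶ X)
    (h₀ : u₀ ≫ f = Spec.map (CommRingCat.ofHom (IsLocalRing.residue A))) :
    ∃ u : Spec (CommRingCat.of A) ⟶ X, u ≫ f = 𝟙 _ ∧
      Spec.map (CommRingCat.ofHom (IsLocalRing.residue A)) ≫ u = u₀ := by
  exact aux A f u₀ h₀

end Groth.Agent.S5038
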