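import Groth.Statements.S11108
import Groth.Agent.S5038
import Mathlib.AlgebraicGeometry.AlgClosed.Basic
import Mathlib.AlgebraicGeometry.PullbackCarrier

set_option autoImplicit false
universe u
open CategoryTheory AlgebraicGeometry
open Neron
open CategoryTheory.Limits

namespace Groth.Agent.S11108

/-- Let R be a strictly Henselian discrete valuation ring — Henselian with algebraically closed residue
field — and p : X → Spec R a smooth morphism. Then the image of the reduction map from R-valued
points of X to the special fibre is dense in the special fibre: every point of X over the closed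
point of Spec R lies in the closure of the set of points s(𝔪), s a section of p and 𝔪 the closed
point. -/
theorem result (R : Type u) [CommRing R] [IsDomain R]
    [IsDiscreteValuationRing R] [HenselianLocalRing R] [IsAlgClosed (IsLocalRing.ResidueField R)]
    {X : Scheme.{u}} (p : X ⟶ Spec (CommRingCat.of R)) [Smooth p]
    (x : X) (hx : p.base x = IsLocalRing.closedPoint R) :
    x ∈ closure {y : X | ∃ s : Spec (CommRingCat.of R) ⟶ X, s ≫ p = 𝟙 _ ∧
      s.base (IsLocalRing.closedPoint R) = y} := by
  rw [mem_closure_iff]
  intro U hU hxU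
  let U' : X.Opens := ⟨U, hU⟩
  let g : (U' : Scheme.{u}) ⟶ Spec (CommRingCat.of R) := U'.ι ≫ p
  haveI : Smooth g := inferInstanceAs (Smooth (U'.ι ≫ p))
  let r : Spec (CommRingCat.of (IsLocalRing.ResidueField R)) ⟶ Spec (CommRingCat.of R) :=
    Spec.map (CommRingCat.ofHom (IsLocalRing.residue R))
  let q : pullback g r ⟶ Spec (CommRingCat.of (IsLocalRing.ResidueField R)) := pullback.snd g r
  haveI : Smooth q := inferInstanceAs (Smooth (pullback.snd g r))
  haveI : LocallyOfFiniteType q := inferInstance
  have hpt : g.base (⟨x, hxU⟩ : U') =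
      r.base (IsLocalRing.closedPoint (IsLocalRing.ResidueField R)) := by
    have h1 : g.base (⟨x, hxU⟩ : U') = p.base x := rfl
    rw [h1, hx]
    exact (IsLocalRing.PrimeSpectrum.comap_residue R _).symm
  obtain ⟨z, -, -⟩ := Scheme.Pullback.exists_preimage_pullback (f := g) (g := r)
    (⟨x, hxU⟩ : U') (IsLocalRing.closedPoint (IsLocalRing.ResidueField R)) hpt
  haveI : JacobsonSpace ↥(pullback g r) := LocallyOfFiniteType.jacobsonSpace q
  obtain ⟨y, -, hy⟩ := nonempty_inter_closedPoints (X := ↥(pullback g r))
    (Z := Set.univ) ⟨z, trivial⟩ isOpen_univ.isLocallyClosed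
  have hy' : IsClosed ({y} : Set ↥(pullback g r)) := hy
  let u₀ : Spec (CommRingCat.of (IsLocalRing.ResidueField R)) ⟶ (U' : Scheme.{u}) :=
    pointOfClosedPoint q y hy' ≫ pullback.fst g r
  have h₀ : u₀ ≫ g = r := by
    have := pointOfClosedPoint_comp q y hy'
    calc u₀ ≫ g = pointOfClosedPoint q y hy' ≫ (pullback.fst g r ≫ g) := by
          simp only [u₀, Category.assoc]
      _ = pointOfClosedPoint q y hy' ≫ (pullback.snd g r ≫ r) := by rw [pullback.condition]
      _ = (pointOfClosedPoint q y hy' ≫ q) ≫ r := by simp only [q, Category.assoc]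
      _ = r := by rw [this, Category.id_comp]
  obtain ⟨u, hu1, -⟩ := Groth.Agent.S5038.result R g u₀ h₀
  refine ⟨(u ≫ U'.ι).base (IsLocalRing.closedPoint R), ?_, u ≫ U'.ι, ?_, rfl⟩
  · exact (u.base (IsLocalRing.closedPoint R)).2
  · rw [Category.assoc]; exact hu1

end Groth.Agent.S11108
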