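import Groth.Statements.S11115
import Groth.Agent.Lib.Helper6.PushComp
import Groth.Agent.Lib.Helper6.InjRes

set_option autoImplicit false
universe u
open CategoryTheory CategoryTheory.Limits AlgebraicGeometry
attribute [local instance] HasDerivedCategory.standard
open Perf

namespace Groth.Agent.S11115

/-- Let f : X ⟶ Y be a quasi-compact quasi-separated morphism of schemes and assume the unbounded
derived direct image Rf_* exists. If F in D(O_X) has cohomology sheaves vanishing below degree n,
then so has Rf_* F. (The published statement restricts F to complexes with quasi-coherent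
cohomology; this row allows any F.) -/
theorem result {X Y : Scheme.{u}} (f : X ⟶ Y) [QuasiCompact f] [QuasiSeparated f] [DCoh.HasRpush f]
    (F : DCoh.D X) (n : ℤ) [F.IsGE n] : ((DCoh.Rpush f).obj F).IsGE n := by
  obtain ⟨K, hK, ⟨e⟩⟩ := DerivedCategory.exists_iso_Q_obj_of_isGE F n
  haveI := hK
  obtain ⟨L, i, hL, hLinj, -, hi⟩ :=
    Groth.Agent.Lib.Helper6.InjRes.exists_mono_quasiIso_injective K n
  haveI := hL
  haveI := hLinj
  haveI := hi
  haveI : L.IsKInjective := CochainComplex.isKInjective_of_injective L n
  haveI := Groth.Agent.Lib.Helper6.PushComp.isIso_βCh_app f L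
    (Groth.Agent.Lib.Helper6.PushComp.wkc_of_isKInjective L)
  have e1 : (DCoh.Rpush f).obj F ≅
      DerivedCategory.Q.obj ((Groth.Agent.Lib.Helper6.PushComp.pushCh f).obj L) :=
    (DCoh.Rpush f).mapIso (e ≪≫ asIso (DerivedCategory.Q.map i)) ≪≫
      (asIso ((Groth.Agent.Lib.Helper6.PushComp.βCh f).app L)).symm
  haveI : ((Groth.Agent.Lib.Helper6.PushComp.pushCh f).obj L).IsStrictlyGE n := by
    rw [CochainComplex.isStrictlyGE_iff]
    intro k hk
    exact (Scheme.Modules.pushforward f).map_isZero (L.isZero_of_isStrictlyGE n k hk)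
  haveI : (DerivedCategory.Q.obj ((Groth.Agent.Lib.Helper6.PushComp.pushCh f).obj L)).IsGE n :=
    (DerivedCategory.isGE_Q_obj_iff _ n).2 inferInstance
  exact DerivedCategory.TStructure.t.isGE_of_iso e1.symm n

end Groth.Agent.S11115
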