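import Groth.Statements.S1113
import Mathlib
import Groth.Agent.S0982
-- import your own Groth.Agent.* helpers here

set_option autoImplicit false
universe w v u
open CategoryTheory CategoryTheory.Limits
open CohDer

namespace Groth.Agent.S1113

open Pretriangulated DerivedCategory
open Groth.Agent.S14388 (tt)
open Groth.Agent.S0982 (mid homologyMap_Q_eq_zero isGE_Q_of_homology)

variable {C : Type u} [Category.{v} C] [Abelian C] [HasDerivedCategory.{w} C]

/-- one step of the induction (GE version) -/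
lemma step {W X Y : DerivedCategory C} (f : X ⟶ Y) (g : Y ⟶ W) (a : ℤ)
    (hg : ((tt C).truncLTι a).app Y ≫ g = 0)
    (hf : (homologyFunctor C a).map f = 0) :
    ((tt C).truncLTι (a + 1)).app X ≫ f ≫ g = 0 := by
  obtain ⟨ψ, hψ⟩ := Triangle.yoneda_exact₂ _ ((tt C).triangleLTGE_distinguished a Y) g hg
  obtain ⟨ψ', hψ'⟩ : ∃ ψ' : ((tt C).truncGE a).obj Y ⟶ W,
    g = ((tt C).truncGEπ a).app Y ≫ ψ' := ⟨ψ, hψ⟩
  rw [hψ', ← Category.assoc, ← Category.assoc, Category.assoc _ f, mid f a hf, zero_comp]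

lemma aux {D : Type*} [Category D] {W X Y Z : D} (p : X ⟶ Y) (q : Y ⟶ Z) [IsIso q] (φ : Y ⟶ W) :
    (p ≫ q) ≫ inv q ≫ φ = p ≫ φ := by simp

/-- final step (GE version) -/
lemma final_GE {W : DerivedCategory C} (K : CochainComplex C ℤ) (m : ℤ) (g : Q.obj K ⟶ W)
    (hg : ((tt C).truncLTι m).app (Q.obj K) ≫ g = 0) :
    ∃ φ : Q.obj (K.truncGE m) ⟶ W, Q.map (K.πTruncGE m) ≫ φ = g := by
  have h := K.shortComplexTruncLE_shortExact (m - 1)
  have hT := triangleOfSES_distinguished h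
  let u : Q.obj (K.truncLE (m - 1)) ⟶ Q.obj K := Q.map (K.ιTruncLE (m - 1))
  have hz : u ≫ g = 0 := by
    rw [← (tt C).liftTruncLT_ι u (m - 1) m (by omega), Category.assoc]
    have hg' : ((tt C).truncLTι m).app (Q.obj K) ≫ g = 0 := hg
    rw [hg', comp_zero]
  obtain ⟨φ, hφ⟩ := Triangle.yoneda_exact₂ _ hT g hz
  have hφ' : g = Q.map (K.shortComplexTruncLE (m - 1)).g ≫ φ := hφ
  refine ⟨inv (Q.map (K.shortComplexTruncLEX₃ToTruncGE (m - 1) m (by omega))) ≫ φ, ?_⟩
  have e1 : Q.map (K.πTruncGE m) = Q.map (K.shortComplexTruncLE (m - 1)).g ≫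
      Q.map (K.shortComplexTruncLEX₃ToTruncGE (m - 1) m (by omega)) := by
    have := K.g_shortComplexTruncLEX₃ToTruncGE (m - 1) m (by omega)
    rw [← this]
    exact Q.map_comp _ _
  rw [hφ', e1]
  exact aux _ _ _



/-- Let K : ℕᵒᵖ ⥤ CochainComplex A ℤ be a sequence of cochain maps … → K₂ → K₁ → K₀ in an abelian
category with Hⁱ(K₀) = 0 for i < 0 and such that for every j < n the map Hʲ(Kⱼ₊₁) → Hʲ(Kⱼ) is zero.
Then in the derived category the composite Kₙ → K₀ factors through the canonical truncation Kₙ →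
τ_{≥ n}Kₙ. -/
theorem result {A : Type u} [Category.{v} A] [Abelian A] [HasDerivedCategory.{w} A]
    (K : ℕᵒᵖ ⥤ CochainComplex A ℤ) (n : ℕ)
    (h0 : ∀ i : ℤ, i < 0 → IsZero ((K.obj (Opposite.op 0)).homology i))
    (hz : ∀ j : ℕ, j < n → HomologicalComplex.homologyMap (K.map (homOfLE (Nat.le_succ j)).op) (j : ℤ) = 0) :
    ∃ φ : DerivedCategory.Q.obj ((K.obj (Opposite.op n)).truncGE (n : ℤ)) ⟶ DerivedCategory.Q.obj (K.obj (Opposite.op 0)),
      DerivedCategory.Q.map ((K.obj (Opposite.op n)).πTruncGE (n : ℤ)) ≫ φ = DerivedCategory.Q.map (K.map (homOfLE (Nat.zero_le n)).op) := by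
  have key : ∀ j : ℕ, j ≤ n → ∀ a : ℤ, a = (j : ℤ) →
      ((tt A).truncLTι a).app (Q.obj (K.obj (Opposite.op j))) ≫
        Q.map (K.map (homOfLE (Nat.zero_le j)).op) = 0 := by
    intro j
    induction j with
    | zero =>
      intro _ a ha
      have : (Q.obj (K.obj (Opposite.op 0))).IsGE 0 := isGE_Q_of_homology _ 0 h0
      have : (Q.obj (K.obj (Opposite.op 0))).IsGE a := by
        have : a = 0 := by simpa using ha
        rw [this]; infer_instance
      have hZ : IsZero (((tt A).truncLT a).obj (Q.obj (K.obj (Opposite.op 0)))) :=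
        (tt A).isZero_truncLT_obj_of_isGE a _
      exact hZ.eq_of_src _ _
    | succ j ih =>
      intro hj a ha
      have ha' : a = (j : ℤ) + 1 := by push_cast at ha; omega
      subst ha'
      have h1 := ih (by omega) (j : ℤ) rfl
      have h2 : (homologyFunctor A (j : ℤ)).map (Q.map (K.map (homOfLE (Nat.le_succ j)).op)) = 0 :=
        homologyMap_Q_eq_zero _ _ (hz j (by omega))
      have h3 := step _ _ (j : ℤ) h1 h2
      rw [← Functor.map_comp, ← Functor.map_comp] at h3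
      exact h3
  obtain ⟨φ, hφ⟩ := final_GE (K.obj (Opposite.op n)) (n : ℤ) _ (key n le_rfl _ rfl)
  exact ⟨φ, hφ⟩

end Groth.Agent.S1113
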