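import Groth.Statements.S11136
import Mathlib
import Groth.Agent.Lib.Helper24.CompTop
-- import your own Groth.Agent.* helpers here

set_option autoImplicit false
universe u v
open InvTh

namespace Groth.Agent.S11136

/-- Let a finite group G act on a Noetherian commutative ring R by ring automorphisms, with ring of
invariants A (A → R injective with image the fixed elements). When the prime spectrum of A is
connected, any two connected components of Spec R are exchanged by some element of G: for all points
x, y of Spec R there is g in G whose induced self-map of Spec R carries the connected component of x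
onto the connected component of y. -/
theorem result
    (A : Type u) (R : Type v) [CommRing A] [CommRing R] [Algebra A R] [IsNoetherianRing R]
    (G : Type u) [Group G] [Finite G] [MulSemiringAction G R] [SMulCommClass G A R]
    [Algebra.IsInvariant A R G] [FaithfulSMul A R]
    [ConnectedSpace (PrimeSpectrum A)] (x y : PrimeSpectrum R) :
    ∃ g : G, PrimeSpectrum.comap (MulSemiringAction.toRingHom G R g) '' connectedComponent x =
      connectedComponent y := by
  classical
  let π : PrimeSpectrum R → PrimeSpectrum A := PrimeSpectrum.comap (algebraMap A R)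
  let σ : G → PrimeSpectrum R → PrimeSpectrum R := fun g =>
    PrimeSpectrum.comap (MulSemiringAction.toRingHom G R g)
  have hσc : ∀ g, Continuous (σ g) := fun g => PrimeSpectrum.continuous_comap _
  have hσmul : ∀ (g h : G) (p : PrimeSpectrum R), σ g (σ h p) = σ (h * g) p := by
    intro g h p
    apply PrimeSpectrum.ext
    ext r
    simp only [σ, PrimeSpectrum.comap_asIdeal, Ideal.mem_comap, MulSemiringAction.toRingHom_apply,
      mul_smul]
  have hσone : ∀ p : PrimeSpectrum R, σ 1 p = p := by
    intro p
    apply PrimeSpectrum.ext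
    ext r
    simp only [σ, PrimeSpectrum.comap_asIdeal, Ideal.mem_comap, MulSemiringAction.toRingHom_apply,
      one_smul]
  have hσinv : ∀ (g : G) (p : PrimeSpectrum R), σ g (σ g⁻¹ p) = p := by
    intro g p
    rw [hσmul, inv_mul_cancel, hσone]
  have hσinv' : ∀ (g : G) (p : PrimeSpectrum R), σ g⁻¹ (σ g p) = p := by
    intro g p
    rw [hσmul, mul_inv_cancel, hσone]
  have hπσ : ∀ (g : G) (p : PrimeSpectrum R), π (σ g p) = π p := by
    intro g p
    apply PrimeSpectrum.ext
    ext a
    simp only [π, σ, PrimeSpectrum.comap_asIdeal, Ideal.mem_comap, MulSemiringAction.toRingHom_apply,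
      smul_algebraMap]
  have hint : Algebra.IsIntegral A R := Algebra.IsInvariant.isIntegral A R G
  have hπcl : IsClosedMap π :=
    PrimeSpectrum.isClosedMap_comap_of_isIntegral (algebraMap A R) (algebraMap_isIntegral_iff.2 hint)
  have hπsurj : Function.Surjective π := Algebra.IsIntegral.comap_surjective A R
  -- fibres are orbits
  have horb : ∀ p q : PrimeSpectrum R, π p = π q → ∃ g : G, σ g q = p := by
    intro p q hpq
    have h1 : p.asIdeal.under A = q.asIdeal.under A := congrArg PrimeSpectrum.asIdeal hpq
    obtain ⟨g, hg⟩ := Algebra.IsInvariant.exists_smul_of_under_eq A R G p.asIdeal q.asIdeal h1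
    refine ⟨g, ?_⟩
    apply PrimeSpectrum.ext
    ext r
    simp only [σ, PrimeSpectrum.comap_asIdeal, Ideal.mem_comap, MulSemiringAction.toRingHom_apply]
    rw [hg, Ideal.smul_mem_pointwise_smul_iff]
  -- image of a connected component under `σ g`
  have hcc : ∀ (g : G) (c : PrimeSpectrum R),
      σ g '' connectedComponent c = connectedComponent (σ g c) := by
    intro g c
    apply Set.Subset.antisymm ((hσc g).image_connectedComponent_subset c)
    intro z hz
    have h1 : σ g⁻¹ z ∈ connectedComponent (σ g⁻¹ (σ g c)) :=
      (hσc g⁻¹).image_connectedComponent_subset _ ⟨z, hz, rfl⟩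
    rw [hσinv'] at h1
    exact ⟨σ g⁻¹ z, h1, hσinv g z⟩
  have hNS : TopologicalSpace.NoetherianSpace (PrimeSpectrum R) := inferInstance
  have hopen : ∀ c : PrimeSpectrum R, IsOpen (connectedComponent c) := fun c =>
    Groth.Agent.Lib.Helper24.CompTop.isOpen_connectedComponent_of_noetherianSpace c
  -- the saturated clopen set `U = ⋃_g σ g '' C`
  let U : Set (PrimeSpectrum R) := ⋃ g : G, σ g '' connectedComponent x
  have hUopen : IsOpen U := isOpen_iUnion fun g => by rw [hcc]; exact hopen _
  have hUclosed : IsClosed U := by
    have : Finite G := inferInstance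
    exact isClosed_iUnion_of_finite fun g => by rw [hcc]; exact isClosed_connectedComponent
  have hUstab : ∀ (g : G) (p : PrimeSpectrum R), p ∈ U → σ g p ∈ U := by
    intro g p hp
    obtain ⟨h, c, hc, rfl⟩ := Set.mem_iUnion.1 hp
    rw [hσmul]
    exact Set.mem_iUnion.2 ⟨h * g, c, hc, rfl⟩
  have hUsat : ∀ p q : PrimeSpectrum R, π p = π q → q ∈ U → p ∈ U := by
    intro p q hpq hq
    obtain ⟨g, rfl⟩ := horb p q hpq
    exact hUstab g q hq
  have hxU : x ∈ U := Set.mem_iUnion.2 ⟨1, x, mem_connectedComponent, hσone x⟩
  have himgcl : IsClosed (π '' U) := hπcl U hUclosed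
  have himgop : IsOpen (π '' U) := by
    have h1 : (π '' U)ᶜ = π '' Uᶜ := by
      ext a
      constructor
      · intro ha
        obtain ⟨p, rfl⟩ := hπsurj a
        exact ⟨p, fun hp => ha ⟨p, hp, rfl⟩, rfl⟩
      · rintro ⟨p, hp, rfl⟩ ⟨q, hq, hqp⟩
        exact hp (hUsat p q hqp.symm hq)
    rw [← isClosed_compl_iff, h1]
    exact hπcl _ hUopen.isClosed_compl
  have huniv : π '' U = Set.univ :=
    IsClopen.eq_univ ⟨himgcl, himgop⟩ ⟨π x, x, hxU, rfl⟩
  have hyU : y ∈ U := by
    have : π y ∈ π '' U := huniv ▸ Set.mem_univ _
    obtain ⟨u, hu, huy⟩ := this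
    exact hUsat y u huy.symm hu
  obtain ⟨g, c, hc, hcy⟩ := Set.mem_iUnion.1 hyU
  refine ⟨g, ?_⟩
  change σ g '' connectedComponent x = connectedComponent y
  rw [connectedComponent_eq hc, hcc, hcy]

end Groth.Agent.S11136
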