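import Groth.Statements.S11141
import Groth.Agent.Lib.Helper56.EqNormal
import Groth.Agent.Lib.Helper56.CoactTwist

set_option autoImplicit false
universe u
open TensorProduct
open InvTh

namespace Groth.Agent.S11141

/-- Let k be a field, H a finitely generated commutative Hopf algebra over k (the coordinate ring of a
group scheme affine and of finite type over k), and S a commutative k-algebra which is
ring-isomorphic to a finite product of normal (integrally closed) domains and carries an H-comodule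
structure whose coaction S → S ⊗ H is multiplicative and unital. Then the k-subalgebra of invariants
of S, the elements s whose coaction is s ⊗ 1, is again ring-isomorphic to a finite product of normal
domains. -/
theorem result (k : Type u) [Field k]
    (H : Type u) [CommRing H] [HopfAlgebra k H] [Algebra.FiniteType k H]
    (S : Type u) [CommRing S] [Algebra k S] [HopfRep.Comod k H S]
    (hmul : ∀ x y : S, HopfRep.Comod.coact (k := k) (A := H) (x * y) =
        HopfRep.Comod.coact (k := k) (A := H) x * HopfRep.Comod.coact (k := k) (A := H) y)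
    (hone : HopfRep.Comod.coact (k := k) (A := H) (1 : S) = 1)
    {ι : Type u} [Fintype ι] (D : ι → Type u) [∀ i, CommRing (D i)] [∀ i, IsDomain (D i)]
    [∀ i, IsIntegrallyClosed (D i)] (e : S ≃+* Π i, D i)
    (A : Subalgebra k S)
    (hA : ∀ a : S, a ∈ A ↔ HopfRep.Comod.coact (k := k) (A := H) a = a ⊗ₜ[k] (1 : H)) :
    ∃ (κ : Type u) (_ : Fintype κ) (E : κ → Type u) (_ : ∀ j, CommRing (E j)) (_ : ∀ j, IsDomain (E j))
      (_ : ∀ j, IsIntegrallyClosed (E j)), Nonempty (A ≃+* Π j, E j) := by
  classical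
  -- the two ring maps
  let ρA : S →ₐ[k] S ⊗[k] H := Groth.Agent.Lib.Helper56.CoactTwist.rhoA hmul hone
  let f₁ : (Π i, D i) →+* S ⊗[k] H := (ρA : S →+* S ⊗[k] H).comp (e.symm : (Π i, D i) →+* S)
  let f₂ : (Π i, D i) →+* S ⊗[k] H :=
    (Algebra.TensorProduct.includeLeftRingHom : S →+* S ⊗[k] H).comp (e.symm : (Π i, D i) →+* S)
  have hf₁ : ∀ x, f₁ x = HopfRep.Comod.coact (k := k) (A := H) (e.symm x) := fun _ => rfl
  have hf₂ : ∀ x, f₂ x = (e.symm x) ⊗ₜ[k] (1 : H) := fun _ => rfl
  let F : Set ((Π i, D i) →+* S ⊗[k] H) := {f₁, f₂}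
  -- non-zero-divisors
  have hnzd : ∀ s ∈ nonZeroDivisors (Π i, D i), e.symm s ∈ nonZeroDivisors S := by
    intro s hs
    rw [mem_nonZeroDivisors_iff_left]
    intro x hx
    have h1 : s * e x = 0 := by
      have := congrArg e hx
      rwa [map_mul, RingEquiv.apply_symm_apply, map_zero] at this
    have h2 : e x = 0 := mem_nonZeroDivisors_iff_left.1 hs _ h1
    exact (map_eq_zero_iff e e.injective).1 h2
  have hF : ∀ f ∈ F, ∀ s ∈ nonZeroDivisors (Π i, D i), f s ∈ nonZeroDivisors (S ⊗[k] H) := by
    intro f hf s hs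
    rcases hf with rfl | rfl
    · rw [hf₁]
      exact Groth.Agent.Lib.Helper56.CoactTwist.coact_mem_nonZeroDivisors hmul hone (hnzd s hs)
    · rw [hf₂]
      exact Groth.Agent.Lib.Helper56.CoactTwist.tmul_one_mem_nonZeroDivisors (hnzd s hs)
  -- the transported subring
  let A' : Subring (Π i, D i) := Subring.comap (e.symm : (Π i, D i) →+* S) A.toSubring
  have hA'mem : ∀ a', a' ∈ A' ↔ e.symm a' ∈ A := fun _ => Iff.rfl
  have hA' : ∀ a', a' ∈ A' ↔ ∀ f ∈ F, ∀ f' ∈ F, f a' = f' a' := by
    intro a'
    rw [hA'mem, hA]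
    constructor
    · intro h f hf f' hf'
      have h12 : f₁ a' = f₂ a' := by rw [hf₁, hf₂]; exact h
      rcases hf with rfl | rfl <;> rcases hf' with rfl | rfl
      · rfl
      · exact h12
      · exact h12.symm
      · rfl
    · intro h
      have := h f₁ (Set.mem_insert _ _) f₂ (Set.mem_insert_of_mem _ rfl)
      rw [hf₁, hf₂] at this
      exact this
  obtain ⟨κ, hκ, E, hE1, hE2, hE3, ⟨iso⟩⟩ :=
    Groth.Agent.Lib.Helper56.EqNormal.main F hF A' hA'
  let eqv : A ≃+* A' :=
    { toFun := fun a => ⟨e a.1, (hA'mem _).2 (by rw [RingEquiv.symm_apply_apply]; exact a.2)⟩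
      invFun := fun a' => ⟨e.symm a'.1, (hA'mem _).1 a'.2⟩
      left_inv := fun a => Subtype.ext (e.symm_apply_apply a.1)
      right_inv := fun a' => Subtype.ext (e.apply_symm_apply a'.1)
      map_mul' := fun a b => Subtype.ext (map_mul e a.1 b.1)
      map_add' := fun a b => Subtype.ext (map_add e a.1 b.1) }
  exact ⟨κ, hκ, E, hE1, hE2, hE3, ⟨eqv.trans iso⟩⟩

end Groth.Agent.S11141
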