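import Groth.Statements.S11142
import Groth.Agent.Lib.Helper21.MaximalPoints
import Groth.Agent.Lib.Helper21.IrrCompProduct
-- import your own Groth.Agent.* helpers here

set_option autoImplicit false
universe u
open CategoryTheory AlgebraicGeometry
open FlatMor

namespace Groth.Agent.S11142

/-- For a flat morphism f : X → Y between locally Noetherian schemes, the preimage under f of any dense
open subset of Y is dense in X. -/
theorem result (X Y : Scheme.{u}) [IsLocallyNoetherian X]
    [IsLocallyNoetherian Y] (f : X ⟶ Y) [Flat f] (U : Y.Opens) (hU : Dense (U : Set Y)) :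
    Dense ((f ⁻¹ᵁ U : X.Opens) : Set X) := by
  have hgen : GeneralizingMap f := Flat.generalizingMap f
  apply Groth.Agent.Lib.Helper21.dense_of_forall_maximal_mem
  intro ξ hξ
  change f ξ ∈ U
  apply Groth.Agent.Lib.Helper21.mem_of_dense_of_maximal U hU
  intro z hz
  exact Groth.Agent.Lib.Helper21.specializes_of_generalizingMap_of_maximal hgen f.continuous hξ hz

end Groth.Agent.S11142
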