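import Groth.Statements.S15890
import Mathlib
-- import your own Groth.Agent.* helpers here

set_option autoImplicit false
universe u v
open Versch

namespace Groth.Agent.S15890
open TensorProduct

universe w


section Gen
variable (p : ℕ) [hp : Fact p.Prime] (k : Type u) [CommRing k] [CharP k p] (B : Type w) [CommRing B]
  [Algebra k B] [CharP B p]

theorem relFrob_tmul (b : B) (a : FrobAlg.Twist p k) :
    FrobAlg.relFrob p k B (b ⊗ₜ[k] a) = b ^ p * algebraMap k B ((FrobAlg.toTwist p k).symm a) := by
  simp only [FrobAlg.relFrob, RingHom.coe_comp, Function.comp_apply, AlgHom.toRingHom_eq_coe,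
    RingHom.coe_coe, Algebra.TensorProduct.lift_tmul]
  rfl

lemma pow_p_eq (z : FrobAlg.BaseChange p k B) :
    z ^ p = (FrobAlg.relFrob p k B z) ⊗ₜ[k] (1 : FrobAlg.Twist p k) := by
  have hp0 : (p : FrobAlg.BaseChange p k B) = 0 := by
    rw [← map_natCast (algebraMap k (FrobAlg.BaseChange p k B)) p, CharP.cast_eq_zero k p, map_zero]
  induction z using TensorProduct.induction_on with
  | zero => rw [zero_pow hp.out.ne_zero, map_zero, zero_tmul]
  | tmul a s =>
    rw [Algebra.TensorProduct.tmul_pow, relFrob_tmul, mul_comm, ← Algebra.smul_def,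
      TensorProduct.smul_tmul]
    congr 1
    rw [Algebra.smul_def, mul_one, FrobAlg.algebraMap_twist, map_pow, RingEquiv.apply_symm_apply]
  | add z z' hz hz' =>
    obtain ⟨r, hr⟩ := (Commute.all z z').exists_add_pow_prime_eq hp.out
    rw [hr, hp0, zero_mul, zero_mul, zero_mul, add_zero, hz, hz', map_add, add_tmul]

end Gen

section Fld
variable (p : ℕ) [hp : Fact p.Prime] (k : Type u) [Field k] [CharP k p] (B : Type w) [CommRing B]
  [Algebra k B] [CharP B p]

noncomputable local instance twistField : Field (FrobAlg.Twist p k) := inferInstanceAs (Field k)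

omit [CharP B p] in
lemma isReduced_baseChange [Algebra.FormallyUnramified k B] [Algebra.EssFiniteType k B] :
    IsReduced (FrobAlg.BaseChange p k B) := by
  have h1 : IsReduced (FrobAlg.Twist p k ⊗[k] B) :=
    Algebra.FormallyUnramified.isReduced_of_field (FrobAlg.Twist p k) _
  exact isReduced_of_injective (Algebra.TensorProduct.comm k B (FrobAlg.Twist p k))
    (AlgEquiv.injective _)

lemma relFrob_injective [Algebra.FormallyUnramified k B] [Algebra.EssFiniteType k B] :
    Function.Injective (FrobAlg.relFrob p k B) := by
  rw [injective_iff_map_eq_zero]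
  intro z hz
  have h := pow_p_eq p k B z
  rw [hz, zero_tmul] at h
  have := isReduced_baseChange p k B
  exact IsReduced.eq_zero z ⟨p, h⟩


/-- coordinate functional on the twist -/
noncomputable def coordTw {n : ℕ} (b : Module.Basis (Fin n) k B) (j : Fin n) :
    FrobAlg.BaseChange p k B →ₗ[k] FrobAlg.Twist p k :=
  (TensorProduct.lid k (FrobAlg.Twist p k)).toLinearMap ∘ₗ (b.coord j).rTensor (FrobAlg.Twist p k)

omit [CharP B p] in
lemma coordTw_tmul {n : ℕ} (b : Module.Basis (Fin n) k B) (i j : Fin n) (s : FrobAlg.Twist p k) :
    coordTw p k B b j (b i ⊗ₜ s) = if i = j then s else 0 := by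
  simp only [coordTw, LinearMap.coe_comp, LinearEquiv.coe_coe, Function.comp_apply, LinearMap.rTensor_tmul,
    Module.Basis.coord_apply, Module.Basis.repr_self, Finsupp.single_apply, TensorProduct.lid_tmul]
  split_ifs <;> simp

lemma linearIndependent_pow {n : ℕ} (b : Module.Basis (Fin n) k B)
    (hinj : Function.Injective (FrobAlg.relFrob p k B)) :
    LinearIndependent k (fun i => b i ^ p) := by
  rw [Fintype.linearIndependent_iff]
  intro c hc j
  have hz : FrobAlg.relFrob p k B (∑ i, b i ⊗ₜ[k] FrobAlg.toTwist p k (c i)) = 0 := by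
    rw [map_sum, ← hc]
    refine Finset.sum_congr rfl fun i _ => ?_
    rw [relFrob_tmul, RingEquiv.symm_apply_apply, Algebra.smul_def, mul_comm]
  have hz' := hinj (hz.trans (map_zero _).symm)
  have h1 := congrArg (coordTw p k B b j) hz'
  rw [map_sum, map_zero] at h1
  simp_rw [coordTw_tmul] at h1
  rw [Finset.sum_ite_eq' Finset.univ j, if_pos (Finset.mem_univ _)] at h1
  exact (FrobAlg.toTwist p k).injective (h1.trans (map_zero _).symm)

end Fld

section Hopf
variable (p : ℕ) [hp : Fact p.Prime] (k : Type u) [Field k] [CharP k p]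
    (A : Type v) [CommRing A] [HopfAlgebra k A] [Coalgebra.IsCocomm k A] [FiniteDimensional k A]
    (v : A →+* FrobAlg.BaseChange p k A)

omit [Coalgebra.IsCocomm k A] [FiniteDimensional k A] in
lemma decomp {n : ℕ} (a : Module.Basis (Fin n) k A) (z : FrobAlg.BaseChange p k A) :
    z = ∑ i, a i ⊗ₜ[k] Versch.evTw p k A (WithConv.toConv (a.coord i)) z := by
  induction z using TensorProduct.induction_on with
  | zero => simp
  | add z z' hz hz' =>
    conv_lhs => rw [hz, hz', ← Finset.sum_add_distrib]
    refine Finset.sum_congr rfl fun i _ => ?_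
    rw [map_add, TensorProduct.tmul_add]
  | tmul c s =>
    conv_lhs => rw [← a.sum_repr c, TensorProduct.sum_tmul]
    refine Finset.sum_congr rfl fun i _ => ?_
    rw [Versch.evTw_tmul, TensorProduct.smul_tmul, Algebra.smul_def]
    rfl

lemma v_bijective_of_basis (hv : Versch.IsVerschiebung p k A v) {n : ℕ} (a : Module.Basis (Fin n) k A)
    (Y : Module.Basis (Fin n) k (CartDual.D k A)) (hY : ∀ i, Y i = (WithConv.toConv (a.coord i)) ^ p) :
    Function.Bijective v := by
  rw [Versch.isVerschiebung_iff] at hv
  constructor
  · rw [injective_iff_map_eq_zero]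
    intro c hc
    have h1 : ∀ i, (Y i) c = 0 := by
      intro i
      have h2 := hv c (WithConv.toConv (a.coord i))
      rw [hc, map_zero] at h2
      rw [hY i]
      exact (FrobAlg.toTwist p k).injective (h2.symm.trans (map_zero _).symm)
    have h3 : ∀ y : CartDual.D k A, y c = 0 := by
      intro y
      rw [← Y.sum_repr y, CartDual.coe_apply, WithConv.ofConv_sum, LinearMap.sum_apply]
      refine Finset.sum_eq_zero fun i _ => ?_
      rw [WithConv.ofConv_smul, LinearMap.smul_apply, ← CartDual.coe_apply, h1 i, smul_zero]
    exact (Module.forall_dual_apply_eq_zero_iff k c).mp (fun φ => h3 (WithConv.toConv φ))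
  · intro z
    let Y' : Module.Basis (Fin n) k (Module.Dual k A) := Y.map (CartDual.toDual k A)
    let a' : Fin n → A := fun j => (Module.evalEquiv k A).symm (Y'.dualBasis j)
    have ha' : ∀ i j, (Y i) (a' j) = if i = j then 1 else 0 := by
      intro i j
      have h1 : (Y i) (a' j) = (Y' i) (a' j) := rfl
      rw [h1, Module.apply_evalEquiv_symm_apply, Module.Basis.dualBasis_apply_self]
    refine ⟨∑ j, (FrobAlg.toTwist p k).symm (Versch.evTw p k A (WithConv.toConv (a.coord j)) z) • a' j, ?_⟩
    refine ((decomp p k A a (v _)).trans ?_).trans (decomp p k A a z).symm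
    refine Finset.sum_congr rfl fun i _ => ?_
    congr 1
    rw [hv, ← hY i, CartDual.coe_apply, map_sum, Finset.sum_eq_single i]
    · rw [map_smul, ← CartDual.coe_apply, ha', if_pos rfl, smul_eq_mul, mul_one, RingEquiv.apply_symm_apply]
    · intro j _ hj
      rw [map_smul, ← CartDual.coe_apply, ha', if_neg (Ne.symm hj), smul_zero]
    · intro h; exact absurd (Finset.mem_univ _) h


omit [Coalgebra.IsCocomm k A] [FiniteDimensional k A] in
lemma finrank_D : Module.finrank k (CartDual.D k A) = Module.finrank k A := by
  rw [(CartDual.toDual k A).finrank_eq, Subspace.dual_finrank_eq]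

lemma bijective_of_etale (hv : Versch.IsVerschiebung p k A v) (h : Algebra.Etale k (CartDual.D k A)) :
    Function.Bijective v := by
  have hinj := relFrob_injective p k (CartDual.D k A)
  let a := Module.finBasis k A
  let X : Module.Basis (Fin (Module.finrank k A)) k (CartDual.D k A) :=
    a.dualBasis.map (CartDual.toDual k A).symm
  have hX : ∀ i, X i = WithConv.toConv (a.coord i) := by
    intro i
    simp only [X, Module.Basis.map_apply, Module.Basis.coe_dualBasis]
    rfl
  have li := linearIndependent_pow p k (CartDual.D k A) X hinj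
  have hcard : Fintype.card (Fin (Module.finrank k A)) = Module.finrank k (CartDual.D k A) := by
    rw [Fintype.card_fin, finrank_D]
  have : Nontrivial A := ⟨⟨0, 1, fun h => by
    have h1 := congrArg (Coalgebra.counit (R := k)) h
    rw [map_zero, Bialgebra.counit_one] at h1
    exact zero_ne_one h1⟩⟩
  have : Nonempty (Fin (Module.finrank k A)) := ⟨⟨0, Module.finrank_pos⟩⟩
  let Y := basisOfLinearIndependentOfCardEqFinrank li hcard
  refine v_bijective_of_basis p k A v hv a Y ?_
  intro i
  rw [coe_basisOfLinearIndependentOfCardEqFinrank, hX]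

lemma etale_of_injective (hv : Versch.IsVerschiebung p k A v) (hinj : Function.Injective v) :
    Algebra.Etale k (CartDual.D k A) := by
  rw [Versch.isVerschiebung_iff] at hv
  let W : Subspace k (Module.Dual k A) :=
    Submodule.span k (Set.range fun x : CartDual.D k A => (x ^ p).ofConv)
  have hW0 : W.dualCoannihilator = ⊥ := by
    rw [eq_bot_iff]
    intro c hc
    rw [Submodule.mem_dualCoannihilator] at hc
    have h1 : v c = v 0 := by
      rw [map_zero]
      apply Versch.evTw_injective p k A
      intro x
      rw [hv, map_zero]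
      have := hc _ (Submodule.subset_span ⟨x, rfl⟩)
      rw [CartDual.coe_apply, this, map_zero]
    exact hinj h1
  have hW : W = ⊤ := by
    rw [← Subspace.dualCoannihilator_dualAnnihilator_eq (W := W), hW0, Submodule.dualAnnihilator_bot]
  have hD : ∀ y : CartDual.D k A, KaehlerDifferential.D k (CartDual.D k A) y = 0 := by
    intro y
    have hy : y.ofConv ∈ W := by rw [hW]; trivial
    have key : ∀ φ ∈ W, KaehlerDifferential.D k (CartDual.D k A) (WithConv.toConv φ) = 0 := by
      intro φ hφ
      induction hφ using Submodule.span_induction with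
      | mem φ hφ =>
        obtain ⟨x, rfl⟩ := hφ
        rw [WithConv.toConv_ofConv, Derivation.leibniz_pow]
        rw [← Nat.cast_smul_eq_nsmul k, CharP.cast_eq_zero k p, zero_smul]
      | zero => exact map_zero _
      | add φ ψ _ _ h1 h2 => rw [WithConv.toConv_add, map_add, h1, h2, add_zero]
      | smul r φ _ h1 => rw [WithConv.toConv_smul, Derivation.map_smul, h1, smul_zero]
    exact key _ hy
  have hΩ : Subsingleton (Ω[CartDual.D k A⁄k]) := by
    have h1 : (⊤ : Submodule (CartDual.D k A) (Ω[CartDual.D k A⁄k])) = ⊥ := by
      rw [← KaehlerDifferential.span_range_derivation, Submodule.span_eq_bot]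
      rintro _ ⟨y, rfl⟩
      exact hD y
    refine ⟨fun a b => ?_⟩
    have ha : a ∈ (⊤ : Submodule (CartDual.D k A) (Ω[CartDual.D k A⁄k])) := trivial
    have hb : b ∈ (⊤ : Submodule (CartDual.D k A) (Ω[CartDual.D k A⁄k])) := trivial
    rw [h1, Submodule.mem_bot] at ha hb
    rw [ha, hb]
  have hU : Algebra.FormallyUnramified k (CartDual.D k A) := ⟨hΩ⟩
  have hE : Algebra.FormallyEtale k (CartDual.D k A) := Algebra.FormallyEtale.of_formallyUnramified_of_field k _
  have hFP : Algebra.FinitePresentation k (CartDual.D k A) :=
    Algebra.FinitePresentation.of_finiteType.mp inferInstance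
  exact { }

end Hopf

/-- Let p be a prime, k a field of characteristic p and A a finite-dimensional commutative and
cocommutative Hopf algebra over k (a finite commutative k-group scheme G = Spec A), and let v : A →
A ⊗_k k^(Frob) be the comorphism of the Verschiebung V : G^(p) → G (the ring map whose transpose
under the canonical pairing is the relative Frobenius of the dual Hopf algebra). Then G is
multiplicative, i.e. the dual Hopf algebra Hom_k(A, k) of the Cartier dual G^D is étale over k, if
and only if v is bijective, i.e. V is an isomorphism. -/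
theorem result (p : ℕ) [Fact p.Prime] (k : Type u) [Field k] [CharP k p]
    (A : Type v) [CommRing A] [HopfAlgebra k A] [Coalgebra.IsCocomm k A] [FiniteDimensional k A]
    (v : A →+* FrobAlg.BaseChange p k A) (hv : Versch.IsVerschiebung p k A v) :
    Algebra.Etale k (CartDual.D k A) ↔ Function.Bijective v := by
  exact ⟨fun h => bijective_of_etale p k A v hv h, fun h => etale_of_injective p k A v hv h.1⟩

end Groth.Agent.S15890
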