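import Groth.Statements.S16001
-- import your own Groth.Agent.* helpers here

set_option autoImplicit false
universe u
open FrobAlg

namespace Groth.Agent.S16001

section Helpers

open TensorProduct

variable (p : ℕ) [Fact p.Prime] (A : Type u) [CommRing A] [CharP A p]
  (B : Type u) [CommRing B] [Algebra A B] [CharP B p]

theorem relFrob_tmul (b : B) (a : FrobAlg.Twist p A) :
    FrobAlg.relFrob p A B (b ⊗ₜ[A] a) = b ^ p * algebraMap A B ((FrobAlg.toTwist p A).symm a) := by
  simp only [FrobAlg.relFrob, RingHom.coe_comp, Function.comp_apply, AlgHom.toRingHom_eq_coe,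
    RingHom.coe_coe, Algebra.TensorProduct.lift_tmul]
  rfl

variable {p A B}

/-- Elements of a square-zero ideal are killed by `p`-th powers. -/
theorem pow_eq_zero_of_mem_sq_zero {C : Type u} [CommRing C] (I : Ideal C) (hI : I ^ 2 = ⊥)
    {x : C} (hx : x ∈ I) : x ^ p = 0 := by
  have h2 : x ^ 2 ∈ I ^ 2 := Ideal.pow_mem_pow hx 2
  rw [hI, Ideal.mem_bot] at h2
  have hp : 2 ≤ p := (Fact.out : p.Prime).two_le
  obtain ⟨k, rfl⟩ := Nat.exists_eq_add_of_le hp
  rw [pow_add, h2, zero_mul]

end Helpers


/-- Let A be a commutative ring of prime characteristic p and B a commutative A-algebra of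
characteristic p such that the relative Frobenius B ⊗_{A,Frob} A → B, b ⊗ a ↦ b^p a, is bijective
(that is, Spec B → Spec A is relatively perfect; no finiteness condition is imposed). Then B is
formally étale over A. (The source proves that every perfect algebraic stack over an algebraic space
of characteristic p is formally étale over it; this is the case of an affine scheme over an affine
base.) -/
theorem result (p : ℕ) [Fact p.Prime] (A : Type u) [CommRing A] [CharP A p]
    (B : Type u) [CommRing B] [Algebra A B] [CharP B p]
    (h : Function.Bijective (FrobAlg.relFrob p A B)) : Algebra.FormallyEtale A B := by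
  rw [Algebra.FormallyEtale.iff_comp_bijective]
  intro C _ _ I hI
  by_cases hC : Subsingleton C
  · -- trivial target ring
    have hsub1 : Subsingleton (B →ₐ[A] C) := ⟨fun f g => AlgHom.ext fun x => Subsingleton.elim _ _⟩
    have hsub2 : Subsingleton (B →ₐ[A] C ⧸ I) :=
      ⟨fun f g => AlgHom.ext fun x => Subsingleton.elim _ _⟩
    let f0 : B →ₐ[A] C :=
      { toFun := fun _ => 0
        map_one' := Subsingleton.elim _ _
        map_mul' := fun _ _ => Subsingleton.elim _ _
        map_zero' := rfl
        map_add' := fun _ _ => Subsingleton.elim _ _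
        commutes' := fun _ => Subsingleton.elim _ _ }
    exact ⟨fun f g _ => Subsingleton.elim _ _, fun g => ⟨f0, Subsingleton.elim _ _⟩⟩
  · rw [not_subsingleton_iff_nontrivial] at hC
    have hpC : (p : C) = 0 := by
      have h1 : (p : C) = algebraMap A C (p : A) := (map_natCast _ _).symm
      rw [h1, CharP.cast_eq_zero, map_zero]
    have : CharP C p := (CharP.charP_iff_prime_eq_zero (Fact.out : p.Prime)).mpr hpC
    -- the Frobenius of `C` factors through `C ⧸ I`
    let Fbar : C ⧸ I →+* C := Ideal.Quotient.lift I (frobenius C p) (fun x hx => by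
      rw [frobenius_def]; exact pow_eq_zero_of_mem_sq_zero I hI hx)
    have hFbar : ∀ c : C, Fbar (Ideal.Quotient.mk I c) = c ^ p := fun c => by
      simp [Fbar, frobenius_def]
    have hρ := h
    let ρ : FrobAlg.BaseChange p A B ≃+* B := RingEquiv.ofBijective (FrobAlg.relFrob p A B) hρ
    -- a formula for `g ∘ ρ` for any algebra map `g`
    have hgρ : ∀ (g : B →ₐ[A] C) (x : FrobAlg.BaseChange p A B),
        ∀ (g' : B →ₐ[A] C), (∀ b, (g b) ^ p = (g' b) ^ p) →
          g (FrobAlg.relFrob p A B x) = g' (FrobAlg.relFrob p A B x) := by
      intro g x g' hgg'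
      induction x using TensorProduct.induction_on with
      | zero => simp
      | tmul b a =>
        rw [relFrob_tmul, map_mul, map_mul, map_pow, map_pow, hgg', AlgHom.commutes,
          AlgHom.commutes]
      | add x y hx hy => rw [map_add, map_add, map_add, hx, hy]
    constructor
    · -- injectivity
      intro g₁ g₂ h12
      have h12' : ∀ b, Ideal.Quotient.mk I (g₁ b) = Ideal.Quotient.mk I (g₂ b) := fun b => by
        have := congrArg (fun φ : B →ₐ[A] C ⧸ I => φ b) h12
        simpa using this
      have hpow : ∀ b, (g₁ b) ^ p = (g₂ b) ^ p := fun b => by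
        rw [← hFbar, ← hFbar, h12']
      apply AlgHom.ext
      intro b
      obtain ⟨x, rfl⟩ := hρ.2 b
      exact hgρ g₁ x g₂ hpow
    · -- surjectivity
      intro gbar
      let φ' : B →ₐ[A] FrobAlg.Target p A C :=
        { toRingHom := ((FrobAlg.toTarget p A C : C →+* FrobAlg.Target p A C).comp Fbar).comp
            (gbar : B →+* C ⧸ I)
          commutes' := fun a => by
            change FrobAlg.toTarget p A C (Fbar (gbar (algebraMap A B a))) = _
            rw [AlgHom.commutes, FrobAlg.algebraMap_target]
            have : algebraMap A (C ⧸ I) a = Ideal.Quotient.mk I (algebraMap A C a) := rfl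
            rw [this, hFbar] }
      let htil : FrobAlg.BaseChange p A B →ₐ[A] FrobAlg.Target p A C :=
        Algebra.TensorProduct.lift φ' (FrobAlg.inclHom p A C) (fun _ _ => Commute.all _ _)
      let gR : B →+* C := (((FrobAlg.toTarget p A C).symm : FrobAlg.Target p A C →+* C).comp
        (htil : FrobAlg.BaseChange p A B →+* FrobAlg.Target p A C)).comp
          (ρ.symm : B →+* FrobAlg.BaseChange p A B)
      have hgR : ∀ x : FrobAlg.BaseChange p A B,
          gR (FrobAlg.relFrob p A B x) = (FrobAlg.toTarget p A C).symm (htil x) := by
        intro x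
        change (FrobAlg.toTarget p A C).symm (htil (ρ.symm (ρ x))) = _
        rw [RingEquiv.symm_apply_apply]
      have htil_tmul : ∀ (b : B) (a : FrobAlg.Twist p A),
          (FrobAlg.toTarget p A C).symm (htil (b ⊗ₜ[A] a)) =
            Fbar (gbar b) * algebraMap A C ((FrobAlg.toTwist p A).symm a) := by
        intro b a
        simp only [htil, Algebra.TensorProduct.lift_tmul, map_mul]
        rfl
      let g : B →ₐ[A] C :=
        { toRingHom := gR
          commutes' := fun a => by
            have h1 : algebraMap A B a =
                FrobAlg.relFrob p A B ((1 : B) ⊗ₜ[A] (FrobAlg.toTwist p A a)) := by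
              rw [relFrob_tmul, one_pow, one_mul, RingEquiv.symm_apply_apply]
            change gR (algebraMap A B a) = _
            rw [h1, hgR, htil_tmul, map_one, map_one, one_mul, RingEquiv.symm_apply_apply] }
      refine ⟨g, ?_⟩
      apply AlgHom.ext
      intro b
      obtain ⟨x, rfl⟩ := hρ.2 b
      change Ideal.Quotient.mk I (gR (FrobAlg.relFrob p A B x)) = gbar (FrobAlg.relFrob p A B x)
      rw [hgR]
      induction x using TensorProduct.induction_on with
      | zero => simp
      | tmul b a =>
        rw [htil_tmul, relFrob_tmul, map_mul, map_mul, map_pow, AlgHom.commutes]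
        obtain ⟨c, hc⟩ := Ideal.Quotient.mk_surjective (gbar b)
        rw [← hc, hFbar, map_pow]
        rfl
      | add x y hx hy => simp only [map_add, hx, hy]

end Groth.Agent.S16001
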