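import Groth.Statements.S11147
import Groth.Agent.S15890
import Groth.Agent.S16001
import Mathlib
-- import your own Groth.Agent.* helpers here

set_option autoImplicit false
universe u
open FrobAlg

namespace Groth.Agent.S11147
open TensorProduct

/-- Let p be a prime and k ⊆ K fields of characteristic p such that K is finitely generated over k as a
field. Then the relative Frobenius ring homomorphism K ⊗_{k,Frob} k → K, b ⊗ a ↦ b^p a (the
Radu–André homomorphism of k → K), is bijective exactly when K is algebraic over k and every element
of K is separable over k. -/
theorem result (p : ℕ) [Fact p.Prime] (k K : Type u) [Field k]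
    [Field K] [Algebra k K] [CharP k p] [CharP K p] (hfg : (⊤ : IntermediateField k K).FG) :
    Function.Bijective (FrobAlg.relFrob p k K) ↔ Algebra.IsSeparable k K := by
  have hE : Algebra.EssFiniteType k K := IntermediateField.fg_top_iff.mp hfg
  constructor
  · intro h
    have := Groth.Agent.S16001.result p k K h
    exact (Algebra.FormallyEtale.iff_isSeparable k K).mp this
  · intro h
    have hfin : Module.Finite k K := Algebra.finite_of_essFiniteType_of_isAlgebraic
    have hU : Algebra.FormallyUnramified k K := Algebra.FormallyUnramified.of_isSeparable k K
    have hinj := Groth.Agent.S15890.relFrob_injective p k K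
    refine ⟨hinj, ?_⟩
    let b := Module.finBasis k K
    have li := Groth.Agent.S15890.linearIndependent_pow p k K b hinj
    have hspan : Submodule.span k (Set.range fun i => b i ^ p) = ⊤ :=
      li.span_eq_top_of_card_eq_finrank' (by rw [Fintype.card_fin])
    intro y
    have hy : y ∈ Submodule.span k (Set.range fun i => b i ^ p) := by rw [hspan]; trivial
    obtain ⟨c, rfl⟩ := (Submodule.mem_span_range_iff_exists_fun k).mp hy
    refine ⟨∑ i, b i ⊗ₜ[k] FrobAlg.toTwist p k (c i), ?_⟩
    rw [map_sum]
    refine Finset.sum_congr rfl fun i _ => ?_
    rw [Groth.Agent.S15890.relFrob_tmul, RingEquiv.symm_apply_apply, Algebra.smul_def, mul_comm]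

end Groth.Agent.S11147
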