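import Groth.Statements.S11153
import Groth.Agent.Lib.Helper6.BddInj

set_option autoImplicit false
universe w v u
open CategoryTheory CategoryTheory.Limits
open CohDer

namespace Groth.Agent.S11153

/-- (i) ⇔ (iii): let A be an abelian category with enough injectives and K a bounded below cochain
complex of objects of A. Then K admits a quasi-isomorphism into a bounded complex of injective
objects of A if and only if there is an integer n₀ such that Hom_{D(A)}(Y[0], K[i]) = 0 for every
object Y of A and every i > n₀. -/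
theorem result {A : Type u} [Category.{v} A] [Abelian A]
    [HasDerivedCategory.{w} A] [EnoughInjectives A]
    (K : CochainComplex A ℤ) (a : ℤ) [K.IsStrictlyGE a] :
    (∃ (I : CochainComplex A ℤ) (b c : ℤ) (f : K ⟶ I), I.IsStrictlyGE b ∧ I.IsStrictlyLE c ∧
        (∀ n : ℤ, Injective (I.X n)) ∧ QuasiIso f) ↔
      ∃ n₀ : ℤ, ∀ (Y : A) (i : ℤ), n₀ < i →
        ∀ φ : (DerivedCategory.singleFunctor A 0).obj Y ⟶ (DerivedCategory.Q.obj K)⟦i⟧, φ = 0 := by
  open Groth.Agent.Lib.Helper6 DerivedCategory in
  constructor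
  · rintro ⟨I, b, c, f, hIb, hIc, hI, hf⟩
    refine ⟨c, fun Y i hi => ?_⟩
    rw [BddInj.hom_single_eq_zero_iff]
    intro ψ
    have hKI : I.IsKInjective := CochainComplex.isKInjective_of_injective I b
    have hz := BddInj.hom_single_Q_eq_zero_of_isZero I i (I.isZero_of_isStrictlyLE c i hi) Y
      (ψ ≫ Q.map f)
    have : IsIso (Q.map f) := by rw [isIso_Q_map_iff_quasiIso]; exact hf
    rw [← cancel_mono (Q.map f), hz, zero_comp]
  · rintro ⟨n₀, h⟩
    obtain ⟨J, i, hJ, hJ', _, hi⟩ := InjRes.exists_mono_quasiIso_injective K a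
    have : IsIso (Q.map i) := by rw [isIso_Q_map_iff_quasiIso]; exact hi
    have hvan : ∀ (m : ℤ), max n₀ a < m → ∀ (F : A)
        (ψ : (singleFunctor A m).obj F ⟶ Q.obj J), ψ = 0 := by
      intro m hm F ψ
      have h1 := (BddInj.hom_single_eq_zero_iff (Q.obj K) m F).mp (h F m (by lia))
      have h2 := h1 (ψ ≫ inv (Q.map i))
      rw [← cancel_mono (inv (Q.map i)), h2, zero_comp]
    obtain ⟨I, g, hI1, hI2, hI3, hg⟩ :=
      BddInj.exists_bounded_injective_quasiIso J a (max n₀ a) (le_max_right _ _) hvan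
    exact ⟨I, a, max n₀ a, i ≫ g, hI1, hI2, hI3, inferInstance⟩

end Groth.Agent.S11153
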