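import Groth.Statements.S11161
import Groth.Agent.Lib.Helper6.ThickRes

set_option autoImplicit false
universe w w' v v' u u'
open CategoryTheory CategoryTheory.Limits
open CohDer

namespace Groth.Agent.S11161

section Aux

variable {A' : Type u'} [Category.{v'} A'] [Abelian A'] {A : Type u} [Category.{v} A] [Abelian A]
  (ι : A' ⥤ A) [ι.Additive] [PreservesFiniteLimits ι] [PreservesFiniteColimits ι]
  [ι.Full] [ι.Faithful]

omit [PreservesFiniteLimits ι] [ι.Faithful] in
lemma essImage_cokernel {X Y : A} (f : X ⟶ Y) (hX : ι.essImage X) (hY : ι.essImage Y) :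
    ι.essImage (cokernel f) := by
  obtain ⟨X', ⟨eX⟩⟩ := hX
  obtain ⟨Y', ⟨eY⟩⟩ := hY
  let f' : X' ⟶ Y' := ι.preimage (eX.hom ≫ f ≫ eY.inv)
  have hf' : ι.map f' = eX.hom ≫ f ≫ eY.inv := ι.map_preimage _
  refine ⟨cokernel f', ⟨?_⟩⟩
  exact (PreservesCokernel.iso ι f') ≪≫ cokernel.mapIso (ι.map f') f eX eY (by rw [hf']; simp)

omit [PreservesFiniteLimits ι] [PreservesFiniteColimits ι] [ι.Full] in
lemma isZero_of_isZero_obj (Y : A') (h : IsZero (ι.obj Y)) : IsZero Y := by
  rw [IsZero.iff_id_eq_zero]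
  apply ι.map_injective
  rw [ι.map_id, ι.map_zero]
  exact (IsZero.iff_id_eq_zero _).mp h

/-- lift a complex with terms in the essential image -/
noncomputable def liftCx (L : CochainComplex A ℤ) (Y : ℤ → A') (e : ∀ n, ι.obj (Y n) ≅ L.X n) :
    CochainComplex A' ℤ where
  X := Y
  d i j := ι.preimage ((e i).hom ≫ L.d i j ≫ (e j).inv)
  shape i j hij := by
    apply ι.map_injective
    rw [ι.map_preimage, L.shape i j hij, ι.map_zero, zero_comp, comp_zero]
  d_comp_d' i j k _ _ := by
    apply ι.map_injective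
    rw [ι.map_comp, ι.map_preimage, ι.map_preimage, ι.map_zero]
    simp

/-- the image of the lifted complex is the original one -/
noncomputable def liftCxIso (L : CochainComplex A ℤ) (Y : ℤ → A') (e : ∀ n, ι.obj (Y n) ≅ L.X n) :
    (ι.mapHomologicalComplex (ComplexShape.up ℤ)).obj (liftCx ι L Y e) ≅ L :=
  HomologicalComplex.Hom.isoOfComponents e (by
    intro i j _
    show (e i).hom ≫ L.d i j = ι.map (ι.preimage ((e i).hom ≫ L.d i j ≫ (e j).inv)) ≫ (e j).hom
    rw [ι.map_preimage]
    simp)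

end Aux

/-- Let ι : A' ⥤ A be an exact fully faithful functor of abelian categories whose essential image is
closed under extensions, and suppose every object of A' admits a monomorphism into an object of A'
whose image in A is injective. Then every object Z of D(A) with H^i(Z) = 0 for i < a and all
cohomology objects in the essential image of ι is isomorphic to the image under D(A') ⥤ D(A) of a
complex I of objects of A', zero in degrees < a, whose terms are injective in A. -/
theorem result {A' : Type u'} [Category.{v'} A'] [Abelian A'] [HasDerivedCategory.{w'} A']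
    {A : Type u} [Category.{v} A] [Abelian A] [HasDerivedCategory.{w} A]
    (ι : A' ⥤ A) [ι.Additive] [PreservesFiniteLimits ι] [PreservesFiniteColimits ι] [ι.Full] [ι.Faithful]
    (hext : ∀ S : ShortComplex A, S.ShortExact → ι.essImage S.X₁ → ι.essImage S.X₃ → ι.essImage S.X₂)
    (hinj : ∀ X' : A', ∃ (Y' : A') (i : X' ⟶ Y'), Mono i ∧ Injective (ι.obj Y'))
    (Z : DerivedCategory A) (a : ℤ) [Z.IsGE a]
    (hZ : ∀ i : ℤ, ι.essImage ((DerivedCategory.homologyFunctor A i).obj Z)) :
    ∃ (I : CochainComplex A' ℤ), I.IsStrictlyGE a ∧ (∀ n : ℤ, Injective (ι.obj (I.X n))) ∧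
      Nonempty (ι.mapDerivedCategory.obj (DerivedCategory.Q.obj I) ≅ Z) := by
  open ZeroObject in
  obtain ⟨K, hK, ⟨eZ⟩⟩ := DerivedCategory.exists_iso_Q_obj_of_isGE Z a
  have hKh : ∀ i, ι.essImage (K.homology i) := fun i =>
    ι.essImage.prop_of_iso (((DerivedCategory.homologyFunctor A i).mapIso eZ) ≪≫
      (DerivedCategory.homologyFunctorFactors A i).app K) (hZ i)
  have hZ0 : ι.essImage (0 : A) := ⟨0, ⟨ι.mapZeroObject⟩⟩
  have hBinj : ∀ X : A, ι.essImage X → ∃ (Y : A) (i : X ⟶ Y), Mono i ∧ ι.essImage Y ∧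
      Injective Y := by
    intro X hX
    obtain ⟨X', ⟨eX⟩⟩ := hX
    obtain ⟨Y', i', hi', hY'⟩ := hinj X'
    have : Mono (ι.map i') := inferInstance
    exact ⟨ι.obj Y', eX.inv ≫ ι.map i', inferInstance, ι.obj_mem_essImage Y', hY'⟩
  obtain ⟨L, α, hL, hLI, hα⟩ := Lib.Helper6.ThickRes.exists_resolution (fun X => ι.essImage X)
    (fun f hX hY => essImage_cokernel ι f hX hY) hext hBinj
    (fun e h => ι.essImage.prop_of_iso e h) 0 (isZero_zero A) hZ0 K a hKh
  choose Y eY using fun n => (hLI n).1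
  let e : ∀ n, ι.obj (Y n) ≅ L.X n := fun n => (eY n).some
  refine ⟨liftCx ι L Y e, ?_, ?_, ⟨?_⟩⟩
  · rw [CochainComplex.isStrictlyGE_iff]
    intro i hi
    exact isZero_of_isZero_obj ι (Y i) ((L.isZero_of_isStrictlyGE a i hi).of_iso (e i))
  · intro n
    have := (hLI n).2
    exact Injective.of_iso (e n).symm inferInstance
  · exact (ι.mapDerivedCategoryFactors).app (liftCx ι L Y e) ≪≫
      DerivedCategory.Q.mapIso (liftCxIso ι L Y e) ≪≫ (asIso (DerivedCategory.Q.map α)).symm ≪≫
      eZ.symm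

end Groth.Agent.S11161
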