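import Groth.Statements.S11174
import Groth.Agent.Lib.Helper2.HullCrit
-- import your own Groth.Agent.* helpers here

set_option autoImplicit false
universe u
open CategoryTheory
open InjHull

namespace Groth.Agent.S11174

/-- Fix a Noetherian local ring A, write m for its maximal ideal and k for its residue field, and let I
be an A-module such that (a) every element of I is killed by some power of m, (b) the A-module
Hom_A(k, I) is isomorphic to k, and (c) there is a decreasing sequence of ideals a_1 ⊇ a_2 ⊇ … of A,
cofinal with the powers of m in both directions (each a_n contains a power of m and each power of m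
contains some a_n), with length_A(A/a_n) = length_A(Hom_A(A/a_n, I)) for every n. Then I is an
injective hull of k: some A-linear map k → I is an essential injection into an injective module. -/
theorem result (A : Type u) [CommRing A] [IsLocalRing A] [IsNoetherianRing A] (I : Type u) [AddCommGroup I] [Module A I] (ha : LocCoh.IsPowerTorsion (IsLocalRing.maximalIdeal A) I) (hb : Nonempty ((IsLocalRing.ResidueField A →ₗ[A] I) ≃ₗ[A] IsLocalRing.ResidueField A)) (a : ℕ → Ideal A) (hanti : Antitone a) (hcof : ∀ n : ℕ, ∃ N : ℕ, IsLocalRing.maximalIdeal A ^ N ≤ a n) (hcof' : ∀ N : ℕ, ∃ n : ℕ, a n ≤ IsLocalRing.maximalIdeal A ^ N) (hlen : ∀ n : ℕ, Module.length A (A ⧸ a n) = Module.length A ((A ⧸ a n) →ₗ[A] I)) : ∃ f : IsLocalRing.ResidueField A →ₗ[A] I, InjHull.IsInjectiveHull f := by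
  obtain ⟨e⟩ := hb
  open Groth.Agent.Lib.Helper2 in
  have hone : ∀ r : A, IsLocalRing.residue A r = r • (1 : IsLocalRing.ResidueField A) := by
    intro r; rw [Algebra.smul_def, mul_one]; rfl
  have hext : ∀ g h : IsLocalRing.ResidueField A →ₗ[A] I, g 1 = h 1 → g = h := by
    intro g h hgh
    refine LinearMap.ext fun x => ?_
    obtain ⟨r, rfl⟩ := IsLocalRing.residue_surjective x
    rw [hone, map_smul, map_smul, hgh]
  let g : IsLocalRing.ResidueField A →ₗ[A] I := e.symm 1
  have hg1 : g 1 ≠ 0 := by
    intro h0
    have : g = 0 := hext g 0 (by rw [h0]; rfl)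
    have h1 : e g = 1 := e.apply_symm_apply 1
    rw [this, map_zero] at h1
    exact zero_ne_one h1
  have hginj := Groth.Agent.Lib.Helper2.injective_of_residueField_of_ne_zero g hg1
  refine ⟨g, Groth.Agent.Lib.Helper2.isInjectiveHull_of_length ha g hginj ?_ a hcof hcof' hlen⟩
  intro x hx
  let h : IsLocalRing.ResidueField A →ₗ[A] I :=
    Groth.Agent.Lib.Helper2.quotToOfKill (IsLocalRing.maximalIdeal A) x hx
  have hh1 : h 1 = x := Groth.Agent.Lib.Helper2.quotToOfKill_one (IsLocalRing.maximalIdeal A) x hx
  obtain ⟨r, hr⟩ := IsLocalRing.residue_surjective (e h)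
  have h2 : h = r • g := by
    apply e.injective
    rw [map_smul, e.apply_symm_apply, ← hr, hone]
  refine ⟨r • 1, ?_⟩
  rw [map_smul, ← hh1, h2, LinearMap.smul_apply]

end Groth.Agent.S11174
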