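import Groth.Statements.S11178
import Groth.Agent.Lib.Helper68.BiduTB
import Groth.Agent.Lib.Helper68.BiduUnit
import Groth.Agent.Lib.Helper68.BiduHomTerms
import Groth.Agent.Lib.Helper12.DualizingBidual
import Groth.Agent.S6954

set_option autoImplicit false
universe u
open CategoryTheory
attribute [local instance] HasDerivedCategory.standard
open Dual

namespace Groth.Agent.S11178

/-- The affine form: let A be a Noetherian ring with a dualizing complex ω, and G a cochain complex of
A-modules whose cohomology modules are finite and vanish outside a bounded range of degrees, with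
RHom_A(G, −) existing as a total right derived functor. Then G has finite Tor-dimension (G is
isomorphic in D(A) to a bounded complex of flat modules) if and only if RHom_A(G, ω) has finite
injective dimension (is isomorphic in D(A) to a bounded complex of injective modules). -/
theorem result (A : Type u) [CommRing A] [IsNoetherianRing A] (ω : Dual.D A) (hω : Dual.IsDualizing A ω) (G : DRing.Cx A) [DRing.HasRHomCx G] (hfin : ∀ i : ℤ, Module.Finite A (Dual.HD A (DRing.toD G) i)) (hbdd : ∃ a b : ℤ, ∀ i : ℤ, (i < a ∨ b < i) → Subsingleton (Dual.HD A (DRing.toD G) i)) : DRing.HasFiniteTorDimCx A (DRing.toD G) ↔ DRing.HasFiniteInjDim A ((DRing.RHomCx G).obj ω) := by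
  classical
  obtain ⟨aG, bG, hbdd⟩ := hbdd
  obtain ⟨a, b, I, hIv, hinj, ⟨e⟩⟩ :=
    Groth.Agent.Lib.Helper12.ModDual.exists_injective_model ω hω
  have hωI : Dual.IsDualizing A (DRing.toD I) :=
    Groth.Agent.Lib.Helper12.DualizingBC.isDualizing_of_iso e.symm hω
  have hGE : I.IsStrictlyGE a := by
    rw [CochainComplex.isStrictlyGE_iff]
    intro i hi
    exact hIv i (Or.inl hi)
  have hinj' : ∀ n : ℤ, Injective (I.X n) := fun n => by
    have := hinj n
    exact Module.injective_object_of_injective_module A (I.X n)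
  have hKI : I.IsKInjective := CochainComplex.isKInjective_of_injective I a
  have hGfin : ∀ i : ℤ, Module.Finite A (G.homology i) := fun i => by
    have h1 : Module.Finite A ((Groth.Agent.Lib.Helper12.HF A i).obj (DRing.toD G)) := hfin i
    exact Module.Finite.equiv (Groth.Agent.Lib.Helper12.HFQIso i G).toLinearEquiv
  have hpc : DRing.IsPseudoCoherent' A (DRing.toD G) :=
    Groth.Agent.Lib.Helper12.HomFinite.isPseudoCoherent'_of_finite_HF (DRing.toD G) bG
      (fun i hi => by
        have := hbdd i (Or.inr hi)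
        exact ModuleCat.isZero_of_subsingleton _) hfin
  let e1 : (DRing.RHomCx G).obj ω ≅ DerivedCategory.Q.obj (DRing.homCx G I) :=
    (DRing.RHomCx G).mapIso e.symm ≪≫ Groth.Agent.Lib.Helper36.RHC.rhomCxObjIso G I
  constructor
  · intro hft
    have hperf : DRing.IsPerfect A (DRing.toD G) :=
      (Groth.Agent.S6954.result A (DRing.toD G)).2 ⟨hpc, hft⟩
    obtain ⟨P, a', b', hP, hfp, ⟨eP⟩⟩ := hperf
    have hKP : P.IsKProjective :=
      Groth.Agent.Lib.Helper12.isKProjective_of_vanishesAbove P b'
        (Groth.Agent.Lib.Helper12.vanishesAbove_of_vanishesOutside hP) (fun i => (hfp i).2)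
    obtain ⟨g, hg⟩ := Groth.Agent.Lib.Helper12.exists_map_of_isKProjective P G eP.hom
    have hg' : QuasiIso g := by
      rw [← DerivedCategory.isIso_Q_map_iff_quasiIso, hg]
      infer_instance
    obtain ⟨e2⟩ := Groth.Agent.Lib.Helper36.RHR.nonempty_rhomCx_iso_of_quasiIso G P g I
    refine ⟨a - b', b - a', DRing.homCx P I,
      Groth.Agent.Lib.Helper68.Bidu.vanishesOutside_homCx P I a' b' a b hP hIv, ?_,
      ⟨e2.symm ≪≫ (DRing.RHomCx G).mapIso e⟩⟩
    intro n
    refine Groth.Agent.Lib.Helper68.Bidu.injective_cochain P I n (fun p q => ?_)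
    have := (hfp p).2
    have := hinj q
    exact Groth.Agent.Lib.Helper68.HomInjFlat.injective_linearMap_of_flat (P.X p) (I.X q)
  · rintro ⟨aJ, bJ, J, hJ, hJinj, ⟨eJ⟩⟩
    have hIfin : ∀ i : ℤ, Module.Finite A (I.homology i) := fun i => by
      have h1 : Module.Finite A ((Groth.Agent.Lib.Helper12.HF A i).obj (DRing.toD I)) :=
        hωI.finite_cohomology i
      exact Module.Finite.equiv (Groth.Agent.Lib.Helper12.HFQIso i I).toLinearEquiv
    have hunit : Groth.Agent.Lib.Helper36.BD.TB I Groth.Agent.Lib.Helper36.BD.U :=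
      Groth.Agent.Lib.Helper68.Bidu.tb_unit_of_dualizing I hωI.toEnd_bijective
        hωI.ext_self_subsingleton
    have hdev : Groth.Agent.Lib.Helper36.PInd.Dev (Groth.Agent.Lib.Helper36.BD.TB I) :=
      { retract := fun i r h hF => Groth.Agent.Lib.Helper36.BD.tb_retract _ i r h hF
        split₂ := fun S σ => Groth.Agent.Lib.Helper36.BD.tb_split₂ _ S σ
        split₃ := fun S σ => Groth.Agent.Lib.Helper36.BD.tb_split₃ _ S σ
        split₁ := fun S σ => Groth.Agent.Lib.Helper36.BD.tb_split₁ _ S σ
        contr := fun C h => Groth.Agent.Lib.Helper36.BD.tb_contr _ C h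
        unit := hunit }
    obtain ⟨P, f, hf, hP, -⟩ := Groth.Agent.Lib.Helper36.KP.exists_resolution J
    have := hP
    have := hf
    obtain ⟨g, hg⟩ := Groth.Agent.Lib.Helper12.exists_map_of_isKProjective P (DRing.homCx G I)
      (DerivedCategory.Q.map f ≫ eJ.hom ≫ e1.hom)
    have hg' : QuasiIso g := by
      rw [← DerivedCategory.isIso_Q_map_iff_quasiIso, hg]
      have : IsIso (DerivedCategory.Q.map f) :=
        (DerivedCategory.isIso_Q_map_iff_quasiIso _ f).2 hf
      infer_instance
    have h3 : IsIso (DerivedCategory.Q.map (Groth.Agent.Lib.Helper36.HCA.homCxPre g I)) :=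
      (DerivedCategory.isIso_Q_map_iff_quasiIso _ _).2
        (Groth.Agent.Lib.Helper36.RHR.quasiIso_homCxPre g I)
    have h3' : IsIso (DerivedCategory.Q.map (Groth.Agent.Lib.Helper36.HCA.homCxPre f I)) :=
      (DerivedCategory.isIso_Q_map_iff_quasiIso _ _).2
        (Groth.Agent.Lib.Helper36.RHR.quasiIso_homCxPre f I)
    have h4 : IsIso (DerivedCategory.Q.map (Groth.Agent.Lib.Helper36.BD.eta I G)) :=
      Groth.Agent.Lib.Helper68.Bidu.tb_of_finite I a b hIv hdev G hGfin
    refine ⟨a - bJ, b - aJ, DRing.homCx J I,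
      Groth.Agent.Lib.Helper68.Bidu.vanishesOutside_homCx J I aJ bJ a b hJ hIv, ?_,
      ⟨asIso (DerivedCategory.Q.map (Groth.Agent.Lib.Helper36.HCA.homCxPre f I)) ≪≫
        (asIso (DerivedCategory.Q.map (Groth.Agent.Lib.Helper36.HCA.homCxPre g I))).symm ≪≫
        (asIso (DerivedCategory.Q.map (Groth.Agent.Lib.Helper36.BD.eta I G))).symm⟩⟩
    intro n
    refine Groth.Agent.Lib.Helper68.Bidu.flat_cochain J I n aJ bJ hJ (fun p q => ?_)
    have := hJinj p
    have := hinj q
    exact Groth.Agent.Lib.Helper68.HomInjFlat.flat_linearMap_of_injective (J.X p) (I.X q)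


end Groth.Agent.S11178
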