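import Groth.Statements.S11180
import Groth.Agent.Lib.Helper63.CompletionNoeth
import Mathlib.RingTheory.AdicCompletion.LocalRing
import Mathlib.RingTheory.AdicCompletion.AsTensorProduct
import Mathlib.LinearAlgebra.TensorProduct.Quotient

set_option autoImplicit false
universe u
open scoped TensorProduct
open CAlg

namespace Groth.Agent.S11180

/-- Let A be a Noetherian ring and M an A-module. If an element m of M is such that 1 ⊗ m = 0 in B ⊗_A M
for every A-algebra B which is a complete Noetherian local ring, flat over A, then m = 0.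
(Equivalently the natural map from M to the limit of the modules B ⊗_A M over all such B is
injective.) -/
theorem result (A : Type u) [CommRing A] [IsNoetherianRing A] (M : Type u) [AddCommGroup M] [Module A M] (m : M) (h : ∀ (B : Type u) [CommRing B] [Algebra A B] [IsNoetherianRing B] [IsLocalRing B], IsAdicComplete (IsLocalRing.maximalIdeal B) B → Module.Flat A B → (1 : B) ⊗ₜ[A] m = 0) : m = 0 := by
  by_contra hm
  classical
  set I : Ideal A := LinearMap.ker (LinearMap.toSpanSingleton A M m) with hI
  have hI1 : I ≠ ⊤ := by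
    intro h1
    have h2 : (1 : A) ∈ I := h1 ▸ Submodule.mem_top
    rw [hI, LinearMap.mem_ker, LinearMap.toSpanSingleton_apply, one_smul] at h2
    exact hm h2
  obtain ⟨𝔪, h𝔪, hle⟩ := Ideal.exists_le_maximal I hI1
  haveI := h𝔪
  let A' := Localization.AtPrime 𝔪
  let B := AdicCompletion (IsLocalRing.maximalIdeal A') A'
  haveI : IsScalarTower A A' B := IsScalarTower.of_algebraMap_eq (fun _ => rfl)
  haveI : IsNoetherianRing A' := IsLocalization.isNoetherianRing 𝔪.primeCompl A' inferInstance
  haveI : IsNoetherianRing B :=
    Groth.Agent.Lib.Helper63.CompletionNoeth.isNoetherianRing_adicCompletion A' _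
  haveI : Module.Flat A' B := AdicCompletion.flat_of_isNoetherian _
  haveI : Module.Flat A A' := IsLocalization.flat A' 𝔪.primeCompl
  haveI : Module.Flat A B := Module.Flat.trans A A' B
  have h0 : (1 : B) ⊗ₜ[A] m = 0 :=
    @h B _ _ _ _ (inferInstance : IsAdicComplete (IsLocalRing.maximalIdeal B) B) inferInstance
  -- the injective map `A ⧸ I → M`
  let j : (A ⧸ I) →ₗ[A] M := Submodule.liftQ I (LinearMap.toSpanSingleton A M m) le_rfl
  have hj : Function.Injective j := by
    rw [← LinearMap.ker_eq_bot]
    exact Submodule.ker_liftQ_eq_bot _ _ _ le_rfl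
  have hjB : Function.Injective (j.lTensor B) :=
    Module.Flat.lTensor_preserves_injective_linearMap j hj
  have h1 : (1 : B) ⊗ₜ[A] (Ideal.Quotient.mk I (1 : A)) = 0 := by
    apply hjB
    rw [LinearMap.lTensor_tmul, map_zero]
    have : j (Ideal.Quotient.mk I (1 : A)) = m := by
      change Submodule.liftQ I (LinearMap.toSpanSingleton A M m) le_rfl (Submodule.Quotient.mk 1) = m
      rw [Submodule.liftQ_apply, LinearMap.toSpanSingleton_apply, one_smul]
    rw [this]
    exact h0
  have h2 := congrArg (TensorProduct.tensorQuotEquivQuotSMul B I) h1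
  rw [map_zero, TensorProduct.tensorQuotEquivQuotSMul_tmul_mk, one_smul,
    Submodule.Quotient.mk_eq_zero] at h2
  -- `I • ⊤` lies in the maximal ideal of `B`
  have hsub : (I • (⊤ : Submodule A B)) ≤ (IsLocalRing.maximalIdeal B).restrictScalars A := by
    rw [Submodule.smul_le]
    intro a ha b _
    change a • b ∈ IsLocalRing.maximalIdeal B
    rw [Algebra.smul_def]
    apply Ideal.mul_mem_right
    change algebraMap A' B (algebraMap A A' a) ∈ IsLocalRing.maximalIdeal B
    have ha' : algebraMap A A' a ∈ IsLocalRing.maximalIdeal A' :=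
      (IsLocalization.AtPrime.to_map_mem_maximal_iff A' 𝔪 a).mpr (hle ha)
    rw [IsLocalRing.mem_maximalIdeal, mem_nonunits_iff] at ha' ⊢
    exact fun hu => ha' (isUnit_of_map_unit (algebraMap A' B) _ hu)
  have h3 : (1 : B) ∈ IsLocalRing.maximalIdeal B := hsub h2
  exact (Ideal.ne_top_iff_one _).mp (IsLocalRing.maximalIdeal.isMaximal B).ne_top h3

end Groth.Agent.S11180
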