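import Groth.Statements.S7069
import Mathlib
import Groth.Agent.Lib.Helper12.DRingPCRep
import Groth.Agent.Lib.Helper12.DRingPCHomology
import Groth.Agent.Lib.Helper46.TorShift
import Groth.Agent.S5804
import Groth.Agent.S5791
import Groth.Agent.S0563

set_option autoImplicit false
universe u
attribute [local instance] HasDerivedCategory.standard
open MoreMor

namespace Groth.Agent.S7069

open CategoryTheory Groth.Agent.Lib.Helper12 Groth.Agent.Lib.Helper46.TorShift

set_option backward.isDefEq.respectTransparency false in
set_option backward.defeqAttrib.useBackward true in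
/-- `Tor_p(M, N) = 0` for `p > pd N`. -/
theorem isZero_tor_of_hasProjectiveDimensionLT {A : Type u} [CommRing A] :
    ∀ (d : ℕ) (N : Type u) [AddCommGroup N] [Module A N],
      HasProjectiveDimensionLT (ModuleCat.of A N) (d + 1) →
      ∀ (M : Type u) [AddCommGroup M] [Module A M] (p : ℕ), d < p → Limits.IsZero (T A p M N) := by
  intro d
  induction d with
  | zero =>
    intro N _ _ h M _ _ p hp
    have hproj : Projective (ModuleCat.of A N) := projective_iff_hasProjectiveDimensionLT_one.mpr h
    have : Module.Projective A N := (IsProjective.iff_projective N).mpr hproj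
    obtain ⟨n, rfl⟩ : ∃ n, p = n + 1 := ⟨p - 1, by omega⟩
    exact isZero_of_flat_right M N n
  | succ d ih =>
    intro N _ _ h M _ _ p hp
    have hπ : Function.Surjective (Finsupp.linearCombination A (id : N → N)) :=
      Finsupp.linearCombination_id_surjective A N
    have hι : Function.Injective (LinearMap.ker (Finsupp.linearCombination A (id : N → N))).subtype :=
      Submodule.injective_subtype _
    have hex : Function.Exact (LinearMap.ker (Finsupp.linearCombination A (id : N → N))).subtype
        (Finsupp.linearCombination A (id : N → N)) := LinearMap.exact_subtype_ker_map _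
    have hS := sesSC_shortExact (X := ↥(LinearMap.ker (Finsupp.linearCombination A (id : N → N))))
      (Y := N →₀ A) (Z := N) _ _ hι hex hπ
    have hFproj : Projective (sesSC (X := ↥(LinearMap.ker (Finsupp.linearCombination A (id : N → N))))
        (Y := N →₀ A) (Z := N) _ _ hex).X₂ :=
      (IsProjective.iff_projective (N →₀ A)).mp inferInstance
    have hK : HasProjectiveDimensionLT
        (ModuleCat.of A (LinearMap.ker (Finsupp.linearCombination A (id : N → N)))) (d + 1) :=
      hS.hasProjectiveDimensionLT_X₁ (d + 1) inferInstance h
    obtain ⟨n, rfl⟩ : ∃ n, p = n + 1 := ⟨p - 1, by omega⟩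
    exact isZero_right₂ (X := ↥(LinearMap.ker (Finsupp.linearCombination A (id : N → N))))
      (Y := N →₀ A) (Z := N) (N := M) _ _ hι hex hπ n (isZero_of_flat_right M (N →₀ A) n)
      (ih _ hK M n (by omega))

/-- A regular ring of finite Krull dimension `d` has global dimension at most `d`. -/
theorem hasProjectiveDimensionLT_of_isRegularRing (A : Type u) [CommRing A] [IsRegularRing A]
    (d : ℕ) (hd : ringKrullDim A ≤ d) (N : Type u) [AddCommGroup N] [Module A N] :
    HasProjectiveDimensionLT (ModuleCat.of A N) (d + 1) := by
  apply Groth.Agent.S5804.result A d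
  intro I
  rw [Groth.Agent.S5791.result A (A ⧸ I) d]
  intro p
  have hRp : IsRegularLocalRing (Localization.AtPrime p.asIdeal) := inferInstance
  have h1 : ringKrullDim (Localization.AtPrime p.asIdeal) = p.asIdeal.height :=
    IsLocalization.AtPrime.ringKrullDim_eq_height p.asIdeal _
  have h2 : (p.asIdeal.height : WithBot ℕ∞) ≤ (d : WithBot ℕ∞) :=
    (Ideal.height_le_ringKrullDim_of_isPrime).trans hd
  obtain ⟨dp, hdp⟩ : ∃ dp : ℕ, p.asIdeal.height = dp := by
    have h3 : p.asIdeal.height ≤ (d : ℕ∞) := by exact_mod_cast h2
    exact ⟨p.asIdeal.height.toNat, (ENat.natCast_toNat (ne_top_of_le_ne_top (ENat.natCast_ne_top d) h3)).symm⟩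
  have hdpd : dp ≤ d := by
    rw [hdp] at h2
    exact_mod_cast h2
  have h4 := Groth.Agent.S0563.result (Localization.AtPrime p.asIdeal) dp (by rw [h1, hdp]; rfl)
    (LocalizedModule p.asIdeal.primeCompl (A ⧸ I))
  exact hasProjectiveDimensionLT_of_ge _ (dp + 1) (d + 1) (by omega)

/-- A finite type homomorphism of commutative rings A → B, where A is a regular ring of finite Krull
dimension, is perfect: pseudo-coherent with B of finite tor dimension as an A-module. -/
theorem result (A B : Type u) [CommRing A] [CommRing B] [Algebra A B]
    [IsRegularRing A] (hdim : ringKrullDim A < ⊤) [Algebra.FiniteType A B] : MoreMor.IsPerfectHom A B := by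
  have hAN : IsNoetherianRing A := inferInstance
  constructor
  · obtain ⟨n, φ, hφ⟩ := (Algebra.FiniteType.iff_quotient_mvPolynomial'' (R := A) (S := B)).1
      inferInstance
    refine ⟨n, φ, hφ, ?_⟩
    let _ := φ.toRingHom.toAlgebra
    have hfin : Module.Finite (MvPolynomial (Fin n) A) B :=
      Module.Finite.of_surjective (Algebra.linearMap (MvPolynomial (Fin n) A) B) hφ
    exact isPseudoCoherent'_of_forall (fun m =>
      isPseudoCoherent_inD_of_finite_of_isNoetherianRing'
        (ModuleCat.of (MvPolynomial (Fin n) A) B) m)
  · by_cases hA : Subsingleton A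
    · refine ⟨0, fun N _ _ p _ => ?_⟩
      exact Module.subsingleton A _
    · rw [not_subsingleton_iff_nontrivial] at hA
      obtain ⟨d, hd⟩ : ∃ d : ℕ, ringKrullDim A ≤ d := by
        have h0 : ringKrullDim A ≠ ⊥ := by
          intro h
          have := ringKrullDim_nonneg_of_nontrivial (R := A)
          rw [h] at this
          exact absurd this (by simp)
        obtain ⟨x, hx⟩ := WithBot.ne_bot_iff_exists.mp h0
        rw [← hx] at hdim ⊢
        have hx' : x ≠ ⊤ := by
          rintro rfl
          exact lt_irrefl _ hdim
        exact ⟨x.toNat, by rw [← ENat.natCast_toNat hx']; rfl⟩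
      refine ⟨d, fun N _ _ p hp => ?_⟩
      have hN := hasProjectiveDimensionLT_of_isRegularRing A d hd N
      exact ModuleCat.subsingleton_of_isZero
        (isZero_tor_of_hasProjectiveDimensionLT d N hN B p hp)

end Groth.Agent.S7069
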