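import Groth.Statements.S11185
import Mathlib
import Groth.Agent.S7069
import Groth.Agent.Lib.Helper33.DualizingSelf

set_option autoImplicit false
universe u
open CategoryTheory
attribute [local instance] HasDerivedCategory.standard
open Dual

namespace Groth.Agent.S11185

/-- Let A be a Noetherian ring all of whose local rings A_p at primes are regular and whose Krull
dimension is finite. Then the complex A[0] is a dualizing complex for A (finite injective dimension,
finite cohomology, A → End(A[0]) bijective and no self-maps of nonzero degree). -/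
theorem result (A : Type u) [CommRing A] [IsNoetherianRing A] (hreg : ∀ p : PrimeSpectrum A, IsRegularLocalRing (Localization.AtPrime p.asIdeal)) (hdim : ringKrullDim A < ⊤) : Dual.IsDualizing A (Dual.inD A A) := by
  have hR : IsRegularRing A := by
    rw [isRegularRing_iff]
    intro p hp
    exact hreg ⟨p, hp⟩
  obtain ⟨d, hd⟩ : ∃ d : ℕ, ringKrullDim A ≤ d := by
    by_cases hbot : ringKrullDim A = ⊥
    · exact ⟨0, by rw [hbot]; exact bot_le⟩
    · obtain ⟨x, hx⟩ := WithBot.ne_bot_iff_exists.mp hbot
      have hxtop : x ≠ ⊤ := by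
        rintro rfl
        rw [← hx] at hdim
        exact lt_irrefl _ hdim
      obtain ⟨n, rfl⟩ := ENat.ne_top_iff_exists.mp hxtop
      exact ⟨n, by rw [← hx]; rfl⟩
  refine Groth.Agent.Lib.Helper33.DualizingSelf.isDualizing_inD_self A d ?_
  intro M _ _ i hi
  let t := (DerivedCategory.TStructure.t :
    Triangulated.TStructure (DerivedCategory (ModuleCat.{u} A)))
  have h2 : t.IsLE ((Dual.inD A A)⟦i⟧) (-i) := t.isLE_shift (Dual.inD A A) 0 i (-i) (by omega)
  have hpd : HasProjectiveDimensionLT (ModuleCat.of A M) (d + 1) :=
    Groth.Agent.S7069.hasProjectiveDimensionLT_of_isRegularRing A d hd M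
  refine ⟨fun f g => ?_⟩
  rw [Groth.Agent.Lib.Helper33.DerivedHomVanish.hom_single_eq_zero_of_pd' d (ModuleCat.of A M) hpd 0 (-i)
      (by omega) _ f,
    Groth.Agent.Lib.Helper33.DerivedHomVanish.hom_single_eq_zero_of_pd' d (ModuleCat.of A M) hpd 0 (-i)
      (by omega) _ g]

end Groth.Agent.S11185
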