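import Groth.Statements.S11192
import Groth.Agent.Lib.Helper28.ObsIC

set_option autoImplicit false
universe u
open CategoryTheory MonoidalCategory CartesianMonoidalCategory MonObj GrpObj AlgebraicGeometry
open scoped TensorProduct
open AGF

namespace Groth.Agent.S11192

/-- Let k be an algebraically closed field, G a linear algebraic group over k (an affine smooth group
scheme over k) and H a closed subgroup of G (a smooth closed subgroup scheme, i : H → G), with G
connected. Then the ring of global functions on G invariant under right translation by H is
integrally closed. -/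
theorem result (k : Type u) [Field k] [IsAlgClosed k]
    (G : Over (Spec (CommRingCat.of k))) [GrpObj G] [IsAffine G.left] [Smooth G.hom]
    (H : Over (Spec (CommRingCat.of k))) [GrpObj H] [Smooth H.hom] (i : H ⟶ G) [IsMonHom i]
    [IsClosedImmersion i.left] [ConnectedSpace G.left] :
    IsIntegrallyClosed ↥(AGF.rTransInv i) := by
  have h0 : IsAffine H.left := isAffine_of_isAffineHom i.left
  obtain ⟨hD, hIC⟩ := Groth.Agent.Lib.Helper28.ObsIC.gamma_normal_domain G
  apply Groth.Agent.Lib.Helper28.ObsIC.isIntegrallyClosed_of_sat
  intro c a b hb hcb
  exact Groth.Agent.Lib.Helper28.ObsIC.rTransInv_sat i c a b hb hcb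

end Groth.Agent.S11192
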