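import Groth.Statements.S11217
import Mathlib
-- import your own Groth.Agent.* helpers here

set_option autoImplicit false
universe u
open CategoryTheory MonoidalCategory CartesianMonoidalCategory MonObj GrpObj AlgebraicGeometry
open scoped TensorProduct
open AGF

namespace Groth.Agent.S11217

section helpers
open MvPolynomial

variable {k : Type u} [Field k]

lemma mkDer_eq (w : Fin 7 → MvPolynomial (Fin 7) k) (f : MvPolynomial (Fin 7) k) :
    mkDerivation k w f = ∑ i, w i * pderiv i f := by
  induction f using MvPolynomial.induction_on' with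
  | monomial s a =>
    rw [mkDerivation_monomial, Finsupp.sum_fintype _ _ (fun i => by simp), Finset.smul_sum]
    refine Finset.sum_congr rfl (fun i _ => ?_)
    rw [pderiv_monomial, smul_eq_mul, ← smul_mul_assoc, smul_monomial, smul_eq_mul, mul_comm]
  | add p q hp hq =>
    rw [map_add, hp, hq, ← Finset.sum_add_distrib]
    exact Finset.sum_congr rfl (fun i _ => by rw [map_add, mul_add])

lemma term_eq (E : Fin 7 →₀ ℕ) (i : Fin 7) (d : Fin 7 →₀ ℕ) (f : MvPolynomial (Fin 7) k)
    (hdi : 1 ≤ d i) :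
    coeff (E + (d - Finsupp.single i 1)) (monomial E 1 * pderiv i f) = coeff d f * (d i : k) := by
  have hle : Finsupp.single i 1 ≤ d := by
    rw [Finsupp.le_def]
    intro j
    by_cases hj : i = j
    · subst hj; simpa using hdi
    · simp [Finsupp.single_apply, hj]
  rw [coeff_monomial_mul, _root_.one_mul, coeff_pderiv, tsub_add_cancel_of_le hle, Finsupp.tsub_apply,
    Finsupp.single_eq_same]
  congr 1
  have h1 : (d i : k) = ((d i - 1 + 1 : ℕ) : k) := by rw [Nat.sub_add_cancel hdi]
  rw [h1, Nat.cast_add, Nat.cast_one]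

lemma term_zero (E E' ν : Fin 7 →₀ ℕ) (κ : Fin 7) (p : MvPolynomial (Fin 7) k)
    (h : E' κ + ν κ < E κ) : coeff (E' + ν) (monomial E 1 * p) = 0 := by
  rw [coeff_monomial_mul', if_neg]
  intro hle
  have := (Finsupp.le_def.mp hle) κ
  rw [Finsupp.add_apply] at this
  omega

end helpers


/-- Let k be a field of characteristic zero and m ≥ 2; in the polynomial ring k[x, y, z, s, t, u, v]
(variables 0, …, 6) let δ be the k-derivation with δ(x) = δ(y) = δ(z) = 0, δ(s) = x^(m+1), δ(t) =
y^(m+1), δ(u) = z^(m+1), δ(v) = (xyz)^m, and grade by total degree in s, t, u, v. If f is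
homogeneous of degree n ≥ 1 for this grading and δ(f) = 0, then every coefficient of f, as a
polynomial in s, t, u, v over k[x, y, z], lies in the ideal (x, y, z): every monomial of f has
positive degree in x, y, z. (The published statement allows n = 0, where the constant 1 is a
counterexample; this row assumes n ≥ 1. The published definition of the derivation gives δ(v) =
(xyz)^(m+1), for which the assertion fails: v − (yz)^(m+1)·s is killed by δ and has the monomial v
with coefficient 1; this row uses δ(v) = (xyz)^m, the exponent of the published action formula and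
of the published examples of invariants.) -/
theorem result (k : Type u) [Field k] [CharZero k] (m : ℕ) (hm : 2 ≤ m) (n : ℕ) (hn : 1 ≤ n)
    (f : MvPolynomial (Fin 7) k)
    (hf : MvPolynomial.IsWeightedHomogeneous (![0, 0, 0, 1, 1, 1, 1] : Fin 7 → ℕ) f n)
    (hδ : MvPolynomial.mkDerivation k
      (![0, 0, 0, MvPolynomial.X 0 ^ (m + 1), MvPolynomial.X 1 ^ (m + 1), MvPolynomial.X 2 ^ (m + 1),
        (MvPolynomial.X 0 * MvPolynomial.X 1 * MvPolynomial.X 2) ^ m] : Fin 7 → MvPolynomial (Fin 7) k) f = 0) :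
    ∀ d ∈ f.support, 0 < d 0 + d 1 + d 2 := by
  intro d hd
  by_contra hcon
  have hd0 : d 0 = 0 := by omega
  have hd1 : d 1 = 0 := by omega
  have hd2 : d 2 = 0 := by omega
  have hcd : MvPolynomial.coeff d f ≠ 0 := MvPolynomial.mem_support_iff.mp hd
  have hwt := hf hcd
  rw [Finsupp.weight_apply, Finsupp.sum_fintype _ _ (fun i => by simp), Fin.sum_univ_seven] at hwt
  simp at hwt
  have hpos : 1 ≤ d 3 ∨ 1 ≤ d 4 ∨ 1 ≤ d 5 ∨ 1 ≤ d 6 := by omega
  obtain ⟨w, hw⟩ : ∃ w : Fin 7 → MvPolynomial (Fin 7) k, w =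
      ![0, 0, 0, MvPolynomial.X 0 ^ (m + 1), MvPolynomial.X 1 ^ (m + 1), MvPolynomial.X 2 ^ (m + 1),
        (MvPolynomial.X 0 * MvPolynomial.X 1 * MvPolynomial.X 2) ^ m] := ⟨_, rfl⟩
  rw [← hw] at hδ
  obtain ⟨E3, hE3⟩ : ∃ E : Fin 7 →₀ ℕ, E = Finsupp.single 0 (m + 1) := ⟨_, rfl⟩
  obtain ⟨E4, hE4⟩ : ∃ E : Fin 7 →₀ ℕ, E = Finsupp.single 1 (m + 1) := ⟨_, rfl⟩
  obtain ⟨E5, hE5⟩ : ∃ E : Fin 7 →₀ ℕ, E = Finsupp.single 2 (m + 1) := ⟨_, rfl⟩
  obtain ⟨E6, hE6⟩ : ∃ E : Fin 7 →₀ ℕ,
      E = Finsupp.single 0 m + Finsupp.single 1 m + Finsupp.single 2 m := ⟨_, rfl⟩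
  have hw0 : w 0 = 0 := by rw [hw]; rfl
  have hw1 : w 1 = 0 := by rw [hw]; rfl
  have hw2 : w 2 = 0 := by rw [hw]; rfl
  have hw3 : w 3 = MvPolynomial.monomial E3 1 := by
    rw [hw, hE3]; exact MvPolynomial.X_pow_eq_monomial
  have hw4 : w 4 = MvPolynomial.monomial E4 1 := by
    rw [hw, hE4]; exact MvPolynomial.X_pow_eq_monomial
  have hw5 : w 5 = MvPolynomial.monomial E5 1 := by
    rw [hw, hE5]; exact MvPolynomial.X_pow_eq_monomial
  have hw6 : w 6 = MvPolynomial.monomial E6 1 := by
    rw [hw, hE6]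
    show (MvPolynomial.X 0 * MvPolynomial.X 1 * MvPolynomial.X 2) ^ m = _
    rw [mul_pow, mul_pow, MvPolynomial.X_pow_eq_monomial, MvPolynomial.X_pow_eq_monomial,
      MvPolynomial.X_pow_eq_monomial, MvPolynomial.monomial_mul, MvPolynomial.monomial_mul,
      _root_.mul_one, _root_.mul_one]
  have key : ∀ mu : Fin 7 →₀ ℕ,
      MvPolynomial.coeff mu (MvPolynomial.monomial E3 1 * MvPolynomial.pderiv 3 f)
      + MvPolynomial.coeff mu (MvPolynomial.monomial E4 1 * MvPolynomial.pderiv 4 f)
      + MvPolynomial.coeff mu (MvPolynomial.monomial E5 1 * MvPolynomial.pderiv 5 f)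
      + MvPolynomial.coeff mu (MvPolynomial.monomial E6 1 * MvPolynomial.pderiv 6 f) = 0 := by
    intro mu
    have h := congrArg (MvPolynomial.coeff mu) hδ
    rw [mkDer_eq, Fin.sum_univ_seven, hw0, hw1, hw2, hw3, hw4, hw5, hw6] at h
    simp only [zero_mul, zero_add, MvPolynomial.coeff_add, MvPolynomial.coeff_zero] at h
    exact h
  have hfin : ∀ i : Fin 7, 1 ≤ d i → MvPolynomial.coeff d f * (d i : k) = 0 → False := by
    intro i hi h
    rcases mul_eq_zero.mp h with h | h
    · exact hcd h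
    · have : d i = 0 := by exact_mod_cast h
      omega
  rcases hpos with h3 | h4 | h5 | h6
  · have h := key (E3 + (d - Finsupp.single 3 1))
    have t3 := term_eq E3 3 d f h3
    have t4 : MvPolynomial.coeff (E3 + (d - Finsupp.single 3 1))
        (MvPolynomial.monomial E4 1 * MvPolynomial.pderiv 4 f) = 0 :=
      term_zero _ _ _ 1 _ (by simp [hE3, hE4, Finsupp.single_apply, hd1])
    have t5 : MvPolynomial.coeff (E3 + (d - Finsupp.single 3 1))
        (MvPolynomial.monomial E5 1 * MvPolynomial.pderiv 5 f) = 0 :=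
      term_zero _ _ _ 2 _ (by simp [hE3, hE5, Finsupp.single_apply, hd2])
    have t6 : MvPolynomial.coeff (E3 + (d - Finsupp.single 3 1))
        (MvPolynomial.monomial E6 1 * MvPolynomial.pderiv 6 f) = 0 :=
      term_zero _ _ _ 1 _ (by simp [hE3, hE6, Finsupp.single_apply, hd1] <;> omega)
    rw [t3, t4, t5, t6] at h
    simp only [add_zero, zero_add] at h
    exact hfin 3 h3 h
  · have h := key (E4 + (d - Finsupp.single 4 1))
    have t4 := term_eq E4 4 d f h4
    have t3 : MvPolynomial.coeff (E4 + (d - Finsupp.single 4 1))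
        (MvPolynomial.monomial E3 1 * MvPolynomial.pderiv 3 f) = 0 :=
      term_zero _ _ _ 0 _ (by simp [hE3, hE4, Finsupp.single_apply, hd0])
    have t5 : MvPolynomial.coeff (E4 + (d - Finsupp.single 4 1))
        (MvPolynomial.monomial E5 1 * MvPolynomial.pderiv 5 f) = 0 :=
      term_zero _ _ _ 2 _ (by simp [hE4, hE5, Finsupp.single_apply, hd2])
    have t6 : MvPolynomial.coeff (E4 + (d - Finsupp.single 4 1))
        (MvPolynomial.monomial E6 1 * MvPolynomial.pderiv 6 f) = 0 :=
      term_zero _ _ _ 0 _ (by simp [hE4, hE6, Finsupp.single_apply, hd0] <;> omega)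
    rw [t3, t4, t5, t6] at h
    simp only [add_zero, zero_add] at h
    exact hfin 4 h4 h
  · have h := key (E5 + (d - Finsupp.single 5 1))
    have t5 := term_eq E5 5 d f h5
    have t3 : MvPolynomial.coeff (E5 + (d - Finsupp.single 5 1))
        (MvPolynomial.monomial E3 1 * MvPolynomial.pderiv 3 f) = 0 :=
      term_zero _ _ _ 0 _ (by simp [hE3, hE5, Finsupp.single_apply, hd0])
    have t4 : MvPolynomial.coeff (E5 + (d - Finsupp.single 5 1))
        (MvPolynomial.monomial E4 1 * MvPolynomial.pderiv 4 f) = 0 :=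
      term_zero _ _ _ 1 _ (by simp [hE4, hE5, Finsupp.single_apply, hd1])
    have t6 : MvPolynomial.coeff (E5 + (d - Finsupp.single 5 1))
        (MvPolynomial.monomial E6 1 * MvPolynomial.pderiv 6 f) = 0 :=
      term_zero _ _ _ 0 _ (by simp [hE5, hE6, Finsupp.single_apply, hd0] <;> omega)
    rw [t3, t4, t5, t6] at h
    simp only [add_zero, zero_add] at h
    exact hfin 5 h5 h
  · have h := key (E6 + (d - Finsupp.single 6 1))
    have t6 := term_eq E6 6 d f h6
    have t3 : MvPolynomial.coeff (E6 + (d - Finsupp.single 6 1))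
        (MvPolynomial.monomial E3 1 * MvPolynomial.pderiv 3 f) = 0 :=
      term_zero _ _ _ 0 _ (by simp [hE3, hE6, Finsupp.single_apply, hd0])
    have t4 : MvPolynomial.coeff (E6 + (d - Finsupp.single 6 1))
        (MvPolynomial.monomial E4 1 * MvPolynomial.pderiv 4 f) = 0 :=
      term_zero _ _ _ 1 _ (by simp [hE4, hE6, Finsupp.single_apply, hd1])
    have t5 : MvPolynomial.coeff (E6 + (d - Finsupp.single 6 1))
        (MvPolynomial.monomial E5 1 * MvPolynomial.pderiv 5 f) = 0 :=
      term_zero _ _ _ 2 _ (by simp [hE5, hE6, Finsupp.single_apply, hd2])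
    rw [t3, t4, t5, t6] at h
    simp only [add_zero, zero_add] at h
    exact hfin 6 h6 h

end Groth.Agent.S11217
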