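import Groth.Statements.S11221
import Mathlib.RingTheory.Ideal.AssociatedPrime.Localization
import Mathlib.RingTheory.Ideal.Colon

set_option autoImplicit false
universe u
open CategoryTheory MonoidalCategory CartesianMonoidalCategory MonObj GrpObj AlgebraicGeometry
open scoped TensorProduct
open AGF

namespace Groth.Agent.S11221

/-- Let R be a Noetherian integrally closed domain with fraction field K and let p be a prime ideal of R
of height one. Then there is f ∈ K which is not in R but lies in the local ring R_q ⊆ K of every
height-one prime q ≠ p (f = a/b with b ∉ q): a rational function on Spec R with a pole along V(p)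
only. (The published statement is for the coordinate ring of a normal affine variety; this row is
for any Noetherian integrally closed domain, which is all the argument uses.) -/
theorem result (R : Type u) [CommRing R] [IsDomain R] [IsNoetherianRing R] [IsIntegrallyClosed R]
    (p : Ideal R) [p.IsPrime] (hp : p.height = 1) :
    ∃ f : FractionRing R, f ∉ Set.range ⇑(algebraMap R (FractionRing R)) ∧
      ∀ q : Ideal R, q.IsPrime → q.height = 1 → q ≠ p →
        ∃ a b : R, b ∉ q ∧ f * algebraMap R (FractionRing R) b = algebraMap R (FractionRing R) a := by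
  classical
  have hpbot : p ≠ ⊥ := Ideal.ne_bot_of_height_eq_one hp
  obtain ⟨b, hbp, hb0⟩ := Submodule.exists_mem_ne_zero_of_ne_bot hpbot
  have hfin : p.FiniteHeight := ⟨Or.inr (by rw [hp]; exact ENat.one_ne_top)⟩
  have hle : Ideal.span {b} ≤ p := (Ideal.span_singleton_le_iff_mem _).mpr hbp
  have hmin : p ∈ (Ideal.span {b}).minimalPrimes := by
    apply Ideal.mem_minimalPrimes_of_height_le hle
    rw [hp]
    exact Ideal.one_le_height_span_singleton_of_mem_nonZeroDivisors
      (mem_nonZeroDivisors_of_ne_zero hb0)
  have hass : p ∈ associatedPrimes R (R ⧸ Ideal.span {b}) := by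
    apply Module.associatedPrimes.minimalPrimes_annihilator_subset_associatedPrimes
    rw [Ideal.annihilator_quotient]
    exact hmin
  obtain ⟨_, x, hx⟩ := (isAssociatedPrime_iff).mp hass
  obtain ⟨a, rfl⟩ := Ideal.Quotient.mk_surjective x
  have hmem : ∀ c : R, c ∈ p ↔ ∃ r, c * a = b * r := by
    intro c
    rw [hx, Submodule.mem_colon_singleton, Submodule.mem_bot]
    have : c • (Ideal.Quotient.mk (Ideal.span {b})) a = Ideal.Quotient.mk (Ideal.span {b}) (c * a) := by
      rw [map_mul]; rfl
    rw [this, Ideal.Quotient.eq_zero_iff_mem, Ideal.mem_span_singleton']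
    constructor
    · rintro ⟨r, hr⟩; exact ⟨r, by rw [← hr, mul_comm]⟩
    · rintro ⟨r, hr⟩; exact ⟨r, by rw [hr, mul_comm]⟩
  have hb0' : algebraMap R (FractionRing R) b ≠ 0 := by
    simpa using hb0
  refine ⟨algebraMap R (FractionRing R) a / algebraMap R (FractionRing R) b, ?_, ?_⟩
  · rintro ⟨r, hr⟩
    rw [eq_div_iff hb0', ← map_mul] at hr
    have hr' : a = b * r := by
      have := IsFractionRing.injective R (FractionRing R) hr
      rw [← this, mul_comm]
    have : (1 : R) ∈ p := by
      rw [hmem]; exact ⟨r, by rw [_root_.one_mul, hr']⟩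
    exact (Ideal.IsPrime.ne_top ‹_›) ((Ideal.eq_top_iff_one _).mpr this)
  · intro q hq hq1 hqp
    have hnle : ¬ p ≤ q := by
      intro hle'
      apply hqp
      exact (Ideal.eq_of_le_of_height_le _ hle' (by rw [hp, hq1])).symm
    obtain ⟨c, hcp, hcq⟩ := Set.not_subset.mp hnle
    obtain ⟨r, hr⟩ := (hmem c).mp hcp
    refine ⟨r, c, hcq, ?_⟩
    rw [div_mul_eq_mul_div, div_eq_iff hb0', ← map_mul, ← map_mul]
    congr 1
    rw [mul_comm a c, hr, mul_comm]

end Groth.Agent.S11221
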