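import Groth.Statements.S11223
import Mathlib

set_option autoImplicit false
universe u
open CAlg

namespace Groth.Agent.S11223

section
open MvPolynomial

attribute [local instance] MvPolynomial.gradedAlgebra

variable {k : Type u} [Field k] {n m : ℕ}

theorem decompose_eq_hc (φ : MvPolynomial (Fin n) k) (i : ℕ) :
    (DirectSum.decompose (homogeneousSubmodule (Fin n) k) φ i : MvPolynomial (Fin n) k)
      = homogeneousComponent i φ :=
  MvPolynomial.decomposition.decompose'_apply φ i

theorem exists_homog_coeffs (z : Fin m → MvPolynomial (Fin n) k) (d : Fin m → ℕ)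
    (hz : ∀ i, (z i).IsHomogeneous (d i)) {g : MvPolynomial (Fin n) k} {e : ℕ}
    (hg : g.IsHomogeneous e) (hmem : g ∈ Ideal.span (Set.range z)) :
    ∃ h : Fin m → MvPolynomial (Fin n) k, (∀ i, (h i).IsHomogeneous (e - d i)) ∧
      g = ∑ i, (if d i ≤ e then h i * z i else 0) := by
  classical
  obtain ⟨c, hc⟩ := (Ideal.mem_span_range_iff_exists_fun).mp hmem
  refine ⟨fun i => homogeneousComponent (e - d i) (c i),
    fun i => homogeneousComponent_isHomogeneous _ _, ?_⟩
  have h1 : (DirectSum.decompose (homogeneousSubmodule (Fin n) k) g e : MvPolynomial (Fin n) k)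
      = g := DirectSum.decompose_of_mem_same _ hg
  rw [← h1, ← hc, DirectSum.decompose_sum, DFinsupp.finsetSum_apply,
    AddSubmonoidClass.coe_finsetSum]
  refine Finset.sum_congr rfl (fun i _ => ?_)
  rw [DirectSum.coe_decompose_mul_of_right_mem (homogeneousSubmodule (Fin n) k) e (hz i),
    decompose_eq_hc]

theorem exists_le_of_degree (s : Fin n →₀ ℕ) (N : ℕ) (hs : n * N + 1 ≤ s.degree) :
    ∃ j, N ≤ s j := by
  by_contra hcon
  push Not at hcon
  have : s.degree ≤ n * N := by
    rw [Finsupp.degree_eq_sum]
    calc ∑ i, s i ≤ ∑ _i : Fin n, N := Finset.sum_le_sum (fun i _ => (hcon i).le)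
      _ = n * N := by simp
  omega

theorem monomial_mem_of_degree (J : Ideal (MvPolynomial (Fin n) k)) (N : ℕ)
    (hJ : ∀ j : Fin n, (X j : MvPolynomial (Fin n) k) ^ N ∈ J)
    (s : Fin n →₀ ℕ) (hs : n * N + 1 ≤ s.degree) (c : k) : monomial s c ∈ J := by
  obtain ⟨j, hj⟩ := exists_le_of_degree s N hs
  have h1 : s = Finsupp.single j N + (s - Finsupp.single j N) := by
    ext i
    by_cases hij : i = j
    · subst hij
      simp [hj]
    · simp [Finsupp.single_apply, hij, Ne.symm hij]
  have h2 : monomial s c = X j ^ N * monomial (s - Finsupp.single j N) c := by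
    rw [X_pow_eq_monomial, monomial_mul, one_mul, ← h1]
  rw [h2]
  exact J.mul_mem_right _ (hJ j)

theorem homog_mem_of_degree (J : Ideal (MvPolynomial (Fin n) k)) (N : ℕ)
    (hJ : ∀ j : Fin n, (X j : MvPolynomial (Fin n) k) ^ N ∈ J)
    {g : MvPolynomial (Fin n) k} {e : ℕ} (hg : g.IsHomogeneous e) (he : n * N + 1 ≤ e) :
    g ∈ J := by
  rw [← support_sum_monomial_coeff g]
  refine J.sum_mem (fun s hs => ?_)
  have hdeg : s.degree = e := by
    by_contra hne
    exact (mem_support_iff.mp hs) (hg.coeff_eq_zero hne)
  exact monomial_mem_of_degree J N hJ s (hdeg ▸ he) _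

end

/-- Let k be a field, let z_1, ..., z_m be homogeneous polynomials of positive degree in the polynomial
ring k[x_1, ..., x_n], and suppose the radical of the ideal (z_1, ..., z_m) is the ideal (x_1, ...,
x_n) generated by the variables. Then the polynomial ring is integral over the subalgebra generated
by z_1, ..., z_m. (The published statement is over an algebraically closed field; this row takes any
field, which its proof allows.) -/
theorem result (k : Type u) [Field k] (n m : ℕ)
    (z : Fin m → MvPolynomial (Fin n) k) (d : Fin m → ℕ) (hd : ∀ i, 0 < d i)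
    (hz : ∀ i, (z i).IsHomogeneous (d i))
    (hrad : (Ideal.span (Set.range z)).radical =
      Ideal.span (Set.range (MvPolynomial.X : Fin n → MvPolynomial (Fin n) k))) :
    Algebra.IsIntegral (Algebra.adjoin k (Set.range z)) (MvPolynomial (Fin n) k) := by
  classical
  set J : Ideal (MvPolynomial (Fin n) k) := Ideal.span (Set.range z) with hJdef
  set B : Subalgebra k (MvPolynomial (Fin n) k) := Algebra.adjoin k (Set.range z) with hB
  -- powers of variables lie in J
  have hX : ∀ j : Fin n, ∃ Nj : ℕ, (MvPolynomial.X j : MvPolynomial (Fin n) k) ^ Nj ∈ J := by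
    intro j
    have : (MvPolynomial.X j : MvPolynomial (Fin n) k) ∈ J.radical := by
      rw [hrad]
      exact Ideal.subset_span ⟨j, rfl⟩
    exact this
  choose Nj hNj using hX
  let N : ℕ := ∑ j, Nj j
  have hJ : ∀ j : Fin n, (MvPolynomial.X j : MvPolynomial (Fin n) k) ^ N ∈ J := by
    intro j
    have hle : Nj j ≤ N := Finset.single_le_sum (f := Nj) (fun _ _ => Nat.zero_le _)
      (Finset.mem_univ j)
    rw [← Nat.sub_add_cancel hle, pow_add]
    exact J.mul_mem_left _ (hNj j)
  let D : ℕ := n * N + 1
  have hfin : {s : Fin n →₀ ℕ | s.degree < D}.Finite := Finsupp.finite_of_degree_lt D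
  let T : Finset (MvPolynomial (Fin n) k) :=
    hfin.toFinset.image (fun s => MvPolynomial.monomial s (1 : k))
  let W : Submodule B (MvPolynomial (Fin n) k) := Submodule.span B (T : Set _)
  have hzB : ∀ i, z i ∈ B := fun i => Algebra.subset_adjoin ⟨i, rfl⟩
  have hmono : ∀ s : Fin n →₀ ℕ, s.degree < D → ∀ c : k, MvPolynomial.monomial s c ∈ W := by
    intro s hs c
    have h1 : MvPolynomial.monomial s (1 : k) ∈ W := by
      apply Submodule.subset_span
      rw [Finset.mem_coe, Finset.mem_image]
      exact ⟨s, hfin.mem_toFinset.mpr hs, rfl⟩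
    have h2 : MvPolynomial.monomial s c = c • MvPolynomial.monomial s (1 : k) := by
      rw [MvPolynomial.smul_monomial, smul_eq_mul, mul_one]
    rw [h2]
    exact Submodule.smul_of_tower_mem W c h1
  have hhom : ∀ e : ℕ, ∀ g : MvPolynomial (Fin n) k, g.IsHomogeneous e → g ∈ W := by
    intro e
    induction e using Nat.strong_induction_on with
    | _ e ih =>
      intro g hg
      by_cases he : e < D
      · rw [← MvPolynomial.support_sum_monomial_coeff g]
        refine W.sum_mem (fun s hs => ?_)
        have hdeg : s.degree = e := by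
          by_contra hne
          exact (MvPolynomial.mem_support_iff.mp hs) (hg.coeff_eq_zero hne)
        exact hmono s (hdeg ▸ he) _
      · have hgJ : g ∈ J := homog_mem_of_degree J N hJ hg (not_lt.mp he)
        obtain ⟨h, hh, hgh⟩ := exists_homog_coeffs z d hz hg hgJ
        rw [hgh]
        refine W.sum_mem (fun i _ => ?_)
        split_ifs with hle
        · have hlt : e - d i < e := Nat.sub_lt (lt_of_lt_of_le (hd i) hle) (hd i)
          have h1 : h i ∈ W := ih (e - d i) hlt (h i) (hh i)
          have h2 : h i * z i = (⟨z i, hzB i⟩ : B) • h i := by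
            rw [mul_comm]; rfl
          rw [h2]
          exact W.smul_mem _ h1
        · exact W.zero_mem
  have hall : ∀ g : MvPolynomial (Fin n) k, g ∈ W := by
    intro g
    rw [← MvPolynomial.sum_homogeneousComponent g]
    exact W.sum_mem (fun i _ => hhom i _ (MvPolynomial.homogeneousComponent_isHomogeneous _ _))
  have hfinite : Module.Finite B (MvPolynomial (Fin n) k) :=
    ⟨⟨T, eq_top_iff.mpr (fun g _ => hall g)⟩⟩
  exact Algebra.IsIntegral.of_finite B (MvPolynomial (Fin n) k)

end Groth.Agent.S11223
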