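import Groth.Statements.S11233
import Mathlib.Algebra.MvPolynomial.Funext
import Mathlib.LinearAlgebra.Matrix.NonsingularInverse

set_option autoImplicit false
universe u
open CAlg

namespace Groth.Agent.S11233

/-- Let k be an algebraically closed field, A an integral domain which is a k-algebra, T an m by m
matrix over A with invertible determinant, and let the additive group k^m act on the polynomial ring
A[y_1, ..., y_m] by the A-algebra maps y_s ↦ y_s + Σ_r h_r T_rs. Then the only invariant polynomials
are the constants: a polynomial fixed by all these substitutions lies in A. -/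
theorem result (k : Type u) [Field k] [IsAlgClosed k]
    (A : Type u) [CommRing A] [IsDomain A] [Algebra k A] (m : ℕ) (T : Matrix (Fin m) (Fin m) A)
    (hT : IsUnit T.det) (f : MvPolynomial (Fin m) A)
    (hf : ∀ h : Fin m → k, MvPolynomial.aeval
      (fun s : Fin m => MvPolynomial.X s + MvPolynomial.C (∑ r : Fin m, algebraMap k A (h r) * T r s)) f = f) :
    ∃ a : A, f = MvPolynomial.C a := by
  classical
  let Φ : MvPolynomial (Fin m) A →+* MvPolynomial (Fin m) (MvPolynomial (Fin m) A) :=
    MvPolynomial.eval₂Hom (MvPolynomial.C.comp MvPolynomial.C)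
      (fun s => MvPolynomial.C (MvPolynomial.X s) +
        ∑ r, MvPolynomial.X r * MvPolynomial.C (MvPolynomial.C (T r s)))
  have key : Φ f = MvPolynomial.C f := by
    apply MvPolynomial.funext_set
      (fun _ => Set.range (fun c : k => (MvPolynomial.C (algebraMap k A c) : MvPolynomial (Fin m) A)))
    · intro i
      apply Set.infinite_range_of_injective
      exact (MvPolynomial.C_injective _ _).comp (algebraMap k A).injective
    · intro x hx
      choose h hh using fun r => hx r (Set.mem_univ r)
      have e1 : (MvPolynomial.eval x) (Φ f) =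
          MvPolynomial.aeval (fun s : Fin m => MvPolynomial.X s +
            MvPolynomial.C (∑ r : Fin m, algebraMap k A (h r) * T r s)) f := by
        change ((MvPolynomial.eval x).comp Φ) f = (MvPolynomial.aeval (fun s : Fin m => MvPolynomial.X s +
            MvPolynomial.C (∑ r : Fin m, algebraMap k A (h r) * T r s)) : MvPolynomial (Fin m) A →ₐ[A] MvPolynomial (Fin m) A).toRingHom f
        congr 1
        apply MvPolynomial.ringHom_ext
        · intro a
          simp [Φ]
        · intro s
          simp [Φ, ← hh, map_sum]
      rw [e1, hf h, MvPolynomial.eval_C]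
  let ev : MvPolynomial (Fin m) (MvPolynomial (Fin m) A) →+* MvPolynomial (Fin m) A :=
    MvPolynomial.eval (fun r => - ∑ s, MvPolynomial.X s * MvPolynomial.C (T⁻¹ s r))
  have e2 : ev (Φ f) = (MvPolynomial.aeval (fun _ : Fin m => (0 : MvPolynomial (Fin m) A)) :
      MvPolynomial (Fin m) A →ₐ[A] MvPolynomial (Fin m) A).toRingHom f := by
    change (ev.comp Φ) f = _
    congr 1
    apply MvPolynomial.ringHom_ext
    · intro a
      simp [Φ, ev]
    · intro s
      have hTT : ∀ s' : Fin m, ∑ r, T⁻¹ s' r * T r s = (1 : Matrix (Fin m) (Fin m) A) s' s := by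
        intro s'
        rw [← Matrix.mul_apply, Matrix.nonsing_inv_mul T hT]
      simp only [Φ, ev, RingHom.comp_apply, MvPolynomial.eval₂Hom_X', map_add, MvPolynomial.eval_C,
        map_sum, map_mul, MvPolynomial.eval_X, AlgHom.toRingHom_eq_coe, RingHom.coe_coe,
        MvPolynomial.aeval_X]
      have : ∑ r, (-∑ s', MvPolynomial.X s' * MvPolynomial.C (T⁻¹ s' r)) * (MvPolynomial.C (T r s) : MvPolynomial (Fin m) A)
          = - ∑ s', MvPolynomial.X s' * MvPolynomial.C (∑ r, T⁻¹ s' r * T r s) := by
        simp only [neg_mul, Finset.sum_neg_distrib, Finset.sum_mul, map_sum, map_mul, Finset.mul_sum]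
        rw [Finset.sum_comm]
        congr 1
        apply Finset.sum_congr rfl; intro s' _
        apply Finset.sum_congr rfl; intro r _
        ring
      rw [this]
      simp only [hTT, Matrix.one_apply]
      simp
  rw [key] at e2
  simp only [ev, MvPolynomial.eval_C] at e2
  refine ⟨MvPolynomial.constantCoeff f, ?_⟩
  rw [e2]
  simp [MvPolynomial.aeval_zero']

end Groth.Agent.S11233
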