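import Groth.Statements.S11235
import Mathlib.RingTheory.Ideal.Quotient.Basic
import Mathlib.Algebra.Polynomial.Roots
import Mathlib.RingTheory.Ideal.Quotient.Operations
-- import your own Groth.Agent.* helpers here

set_option autoImplicit false
universe u
open CAlg

namespace Groth.Agent.S11235

/-- Let k be an algebraically closed field, A a commutative k-algebra, α ∈ k, and M a maximal ideal of
the polynomial ring A[x] containing x - α. Let I ⊆ M be an ideal whose zero set in Spec A[x] is
invariant under the automorphisms x ↦ c·x, c ∈ k nonzero (equivalently: the image of I under each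
such A-algebra automorphism has the same radical as I). Then there is a maximal ideal of A[x]
containing I and x. -/
theorem result (k : Type u) [Field k] [IsAlgClosed k]
    (A : Type u) [CommRing A] [Algebra k A] (α : k)
    (M : Ideal (Polynomial A)) (hM : M.IsMaximal)
    (hα : Polynomial.X - Polynomial.C (algebraMap k A α) ∈ M)
    (I : Ideal (Polynomial A)) (hIM : I ≤ M)
    (hI : ∀ c : kˣ, (I.map (Polynomial.aeval (R := A)
      (algebraMap k A (c : k) • (Polynomial.X : Polynomial A)))).radical = I.radical) :
    ∃ N : Ideal (Polynomial A), N.IsMaximal ∧ I ≤ N ∧ Polynomial.X ∈ N := by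
  classical
  by_cases hα0 : α = 0
  · refine ⟨M, hM, hIM, ?_⟩
    simpa [hα0] using hα
  · -- the residue field of `M`
    letI : Field (Polynomial A ⧸ M) := Ideal.Quotient.field M
    let π : Polynomial A →+* (Polynomial A ⧸ M) := Ideal.Quotient.mk M
    let φ : A →+* (Polynomial A ⧸ M) := π.comp Polynomial.C
    have hπX : π Polynomial.X = φ (algebraMap k A α) := by
      have h0 : π (Polynomial.X - Polynomial.C (algebraMap k A α)) = 0 :=
        Ideal.Quotient.eq_zero_iff_mem.mpr hα
      rw [map_sub, sub_eq_zero] at h0
      exact h0
    -- `π` after the substitution `x ↦ y`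
    have hπaeval : ∀ (y f : Polynomial A),
        π (Polynomial.aeval y f) = (f.map φ).eval (π y) := by
      intro y f
      rw [Polynomial.aeval_def, Polynomial.hom_eval₂, Polynomial.eval_map]
      rfl
    -- every `f ∈ I` maps to zero in the residue field after scaling
    have hroot : ∀ f ∈ I, ∀ c : kˣ,
        (f.map φ).eval (φ (algebraMap k A ((c : k) * α))) = 0 := by
      intro f hf c
      have h1 : Polynomial.aeval (R := A)
          (algebraMap k A (c : k) • (Polynomial.X : Polynomial A)) f ∈ M := by
        have h2 : I.map (Polynomial.aeval (R := A)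
            (algebraMap k A (c : k) • (Polynomial.X : Polynomial A))) ≤ M := by
          refine le_trans Ideal.le_radical ?_
          rw [hI c]
          exact (hM.isPrime.radical_le_iff).mpr hIM
        exact h2 (Ideal.mem_map_of_mem _ hf)
      have h3 : π (Polynomial.aeval (R := A)
          (algebraMap k A (c : k) • (Polynomial.X : Polynomial A)) f) = 0 :=
        Ideal.Quotient.eq_zero_iff_mem.mpr h1
      rw [hπaeval] at h3
      have h4 : π (algebraMap k A (c : k) • (Polynomial.X : Polynomial A)) =
          φ (algebraMap k A ((c : k) * α)) := by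
        rw [Polynomial.smul_eq_C_mul, map_mul, hπX, map_mul, map_mul]
        rfl
      rw [h4] at h3
      exact h3
    -- hence `f.map φ = 0`
    let ι : k →+* (Polynomial A ⧸ M) := φ.comp (algebraMap k A)
    have hι : Function.Injective ι := ι.injective
    have hzero : ∀ f ∈ I, f.map φ = 0 := by
      intro f hf
      apply Polynomial.eq_zero_of_infinite_isRoot
      have hinf : (ι '' ({0}ᶜ : Set k)).Infinite :=
        (Set.Finite.infinite_compl (Set.finite_singleton (0 : k))).image hι.injOn
      refine hinf.mono ?_
      rintro _ ⟨β, hβ, rfl⟩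
      have hβ0 : β ≠ 0 := hβ
      have hu : IsUnit (β * α⁻¹) := (mul_ne_zero hβ0 (inv_ne_zero hα0)).isUnit
      have := hroot f hf hu.unit
      rw [IsUnit.unit_spec, inv_mul_cancel_right₀ hα0] at this
      exact this
    -- the maximal ideal `m A[x] + (x)`
    let ψ : Polynomial A →+* (Polynomial A ⧸ M) := Polynomial.eval₂RingHom φ 0
    have hφsurj : Function.Surjective φ := by
      intro z
      obtain ⟨f, rfl⟩ := Ideal.Quotient.mk_surjective z
      refine ⟨f.eval (algebraMap k A α), ?_⟩
      have h5 := hπaeval Polynomial.X f
      rw [Polynomial.aeval_X_left_apply, hπX, Polynomial.eval_map] at h5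
      show φ (f.eval (algebraMap k A α)) = π f
      rw [h5, Polynomial.eval, Polynomial.hom_eval₂]
      simp
    have hψsurj : Function.Surjective ψ := by
      intro z
      obtain ⟨a, rfl⟩ := hφsurj z
      exact ⟨Polynomial.C a, by simp [ψ]⟩
    refine ⟨RingHom.ker ψ, RingHom.ker_isMaximal_of_surjective ψ hψsurj, ?_, ?_⟩
    · intro f hf
      rw [RingHom.mem_ker]
      show Polynomial.eval₂ φ 0 f = 0
      rw [← Polynomial.eval_map, hzero f hf, Polynomial.eval_zero]
    · rw [RingHom.mem_ker]
      simp [ψ]

end Groth.Agent.S11235
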