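import Groth.Statements.S11239
import Mathlib.LinearAlgebra.Matrix.Block
-- import your own Groth.Agent.* helpers here

set_option autoImplicit false
universe u
open AGF

namespace Groth.Agent.S11239

/-- Let X be an m × n matrix over a commutative ring, u an upper triangular n × n matrix with ones on
the diagonal, t a diagonal n × n matrix and p ≤ n. For any choice of p rows, the minor of X·t·u
formed with these rows and the first p columns equals (t_11 ⋯ t_pp) times the corresponding minor of
X: the minors on the first p columns are semi-invariant of weight ω_p under right multiplication by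
the upper triangular group. (The published statement is for the generic matrix over an algebraically
closed field; this row states the identity over any commutative ring.) -/
theorem result (R : Type u) [CommRing R] (m n p : ℕ) (hp : p ≤ n)
    (X : Matrix (Fin m) (Fin n) R) (d : Fin n → R) (u : Matrix (Fin n) (Fin n) R)
    (hu1 : ∀ i, u i i = 1) (hu0 : ∀ i j, j < i → u i j = 0) (I : Fin p → Fin m) :
    ((X * Matrix.diagonal d * u).submatrix I (Fin.castLE hp)).det =
      (∏ i : Fin p, d (Fin.castLE hp i)) * (X.submatrix I (Fin.castLE hp)).det := by
  classical
  -- the p × p upper-left block of `diagonal d * u`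
  set T : Matrix (Fin p) (Fin p) R :=
    (Matrix.diagonal d * u).submatrix (Fin.castLE hp) (Fin.castLE hp) with hT
  have key : (X * Matrix.diagonal d * u).submatrix I (Fin.castLE hp) =
      X.submatrix I (Fin.castLE hp) * T := by
    ext a b
    simp only [Matrix.submatrix_apply, Matrix.mul_apply, hT, Matrix.mul_assoc]
    -- sum over Fin n vs sum over Fin p
    have hsplit : ∀ f : Fin n → R, (∀ l : Fin n, (b : ℕ) < l → f l = 0) →
        ∑ l : Fin n, f l = ∑ l : Fin p, f (Fin.castLE hp l) := by
      intro f hf
      rw [← Finset.sum_subset (Finset.subset_univ (Finset.univ.map (Fin.castLEEmb hp)))]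
      · rw [Finset.sum_map]; rfl
      · intro l _ hl
        apply hf
        by_contra hlt
        apply hl
        simp only [Finset.mem_map, Finset.mem_univ, true_and]
        refine ⟨⟨l, ?_⟩, ?_⟩
        · have := b.2; omega
        · ext; simp
    rw [hsplit]
    intro l hl
    have : ∑ j, Matrix.diagonal d l j * u j (Fin.castLE hp b) = 0 := by
      apply Finset.sum_eq_zero
      intro j _
      by_cases hlj : l = j
      · subst hlj
        rw [hu0 l (Fin.castLE hp b) (by simpa [Fin.lt_def] using hl)]
        simp
      · simp [Matrix.diagonal_apply_ne _ hlj]
    rw [this, mul_zero]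
  rw [key, Matrix.det_mul, mul_comm]
  congr 1
  have htri : T.BlockTriangular id := by
    intro a b hab
    simp only [hT, Matrix.submatrix_apply, Matrix.mul_apply]
    apply Finset.sum_eq_zero
    intro j _
    by_cases haj : Fin.castLE hp a = j
    · subst haj
      rw [hu0 _ _ (show Fin.castLE hp b < Fin.castLE hp a from hab)]
      simp
    · simp [Matrix.diagonal_apply_ne _ haj]
  rw [Matrix.det_of_isUpperTriangular htri]
  apply Finset.prod_congr rfl
  intro a _
  simp only [hT, Matrix.submatrix_apply, Matrix.mul_apply]
  rw [Finset.sum_eq_single (Fin.castLE hp a)]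
  · simp [hu1]
  · intro j _ hj
    simp [Matrix.diagonal_apply_ne _ hj.symm]
  · simp

end Groth.Agent.S11239
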