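import Groth.Statements.S11240
-- import your own Groth.Agent.* helpers here

set_option autoImplicit false
universe u
open AGF

namespace Groth.Agent.S11240

/-- For a single root subgroup: let k be an algebraically closed field and X = (x_ab) the generic n × m
matrix over the polynomial ring k[x_ab]. Let i ≠ j be row indices and let I (rows) and J (columns)
be strictly increasing sequences of length p. The minor of X with rows I and columns J is invariant
under replacing X by (1 + b·E_ij)·X for every b ∈ k (the one-parameter unipotent group adding b
times row j to row i) if and only if j occurs in I whenever i does. (The published statement gives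
the criterion for the group generated by several such root subgroups, which is the conjunction of
these.) -/
theorem result (k : Type u) [Field k] [IsAlgClosed k] (n m p : ℕ)
    (i j : Fin n) (hij : i ≠ j) (I : Fin p ↪o Fin n) (J : Fin p ↪o Fin m) :
    (∀ b : k, ((Matrix.transvection i j (MvPolynomial.C b) *
        (Matrix.of fun a c => (MvPolynomial.X (a, c) : MvPolynomial (Fin n × Fin m) k))).submatrix I J).det =
        ((Matrix.of fun a c => (MvPolynomial.X (a, c) : MvPolynomial (Fin n × Fin m) k)).submatrix I J).det) ↔
      (i ∈ Set.range I → j ∈ Set.range I) := by
  classical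
  set Xm : Matrix (Fin n) (Fin m) (MvPolynomial (Fin n × Fin m) k) :=
    Matrix.of fun a c => (MvPolynomial.X (a, c) : MvPolynomial (Fin n × Fin m) k) with hXm
  set Y : Matrix (Fin p) (Fin p) (MvPolynomial (Fin n × Fin m) k) := Xm.submatrix I J with hY
  -- the transformed submatrix when `i = I r`
  have hupd : ∀ (b : k) (r : Fin p), I r = i →
      (Matrix.transvection i j (MvPolynomial.C b) * Xm).submatrix I J =
        Matrix.updateRow Y r (Y r + (MvPolynomial.C b : MvPolynomial (Fin n × Fin m) k) •
          (fun c => Xm j (J c))) := by
    intro b r hr
    ext a c
    by_cases har : a = r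
    · subst har
      subst hr
      simp [Matrix.updateRow_self, hY]
    · have hne : I a ≠ i := by
        intro h
        exact har (I.injective (h.trans hr.symm))
      simp [Matrix.updateRow_ne har, hne, hY]
  constructor
  · intro h ⟨r, hr⟩
    by_contra hj
    have h1 := h 1
    rw [hupd 1 r hr, Matrix.det_updateRow_add, Matrix.det_updateRow_smul,
      Matrix.updateRow_eq_self, map_one, one_mul] at h1
    have h2 : (Matrix.updateRow Y r (fun c => Xm j (J c))).det = 0 := by
      have := h1
      rw [add_eq_left] at this
      exact this
    -- evaluate at a permutation matrix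
    let I' : Fin p → Fin n := Function.update I r j
    have hI' : Function.Injective I' := by
      intro a a' haa'
      simp only [I', Function.update_apply] at haa'
      by_cases h1 : a = r <;> by_cases h2 : a' = r
      · rw [h1, h2]
      · rw [if_pos h1, if_neg h2] at haa'
        exact absurd ⟨a', haa'.symm⟩ hj
      · rw [if_neg h1, if_pos h2] at haa'
        exact absurd ⟨a, haa'⟩ hj
      · rw [if_neg h1, if_neg h2] at haa'
        exact I.injective haa'
    let v : Fin n × Fin m → k := fun x => if ∃ t, I' t = x.1 ∧ J t = x.2 then 1 else 0
    have hZ : Matrix.updateRow Y r (fun c => Xm j (J c)) = Xm.submatrix I' J := by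
      ext a c
      by_cases har : a = r
      · subst har
        simp [I']
      · simp [Matrix.updateRow_ne har, I', Function.update_of_ne har, hY]
    have h3 := congrArg (MvPolynomial.eval v) h2
    rw [hZ, RingHom.map_det, map_zero] at h3
    have h4 : (MvPolynomial.eval v).mapMatrix (Xm.submatrix I' J) = 1 := by
      ext a c
      simp only [RingHom.mapMatrix_apply, Matrix.map_apply, Matrix.submatrix_apply, hXm,
        Matrix.of_apply, MvPolynomial.eval_X, v, Matrix.one_apply]
      by_cases hac : a = c
      · subst hac
        rw [if_pos ⟨a, rfl, rfl⟩, if_pos rfl]
      · rw [if_neg hac, if_neg]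
        rintro ⟨t, ht1, ht2⟩
        exact hac ((hI' ht1).symm.trans (J.injective ht2))
    rw [h4, Matrix.det_one] at h3
    exact one_ne_zero h3
  · intro h b
    by_cases hi : i ∈ Set.range I
    · obtain ⟨r, hr⟩ := hi
      obtain ⟨s, hs⟩ := h ⟨r, hr⟩
      have hrs : r ≠ s := by
        intro hrs
        apply hij
        rw [← hr, ← hs, hrs]
      rw [hupd b r hr]
      have : (fun c => Xm j (J c)) = Y s := by
        ext c
        simp [hY, hs]
      rw [this]
      exact Matrix.det_updateRow_add_smul_self Y hrs _
    · have : (Matrix.transvection i j (MvPolynomial.C b) * Xm).submatrix I J = Y := by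
        ext a c
        have hne : I a ≠ i := fun h => hi ⟨a, h⟩
        simp [hne, hY]
      rw [this]

end Groth.Agent.S11240
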