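import Groth.Statements.S11243
import Mathlib.LinearAlgebra.RootSystem.Reduced
-- import your own Groth.Agent.* helpers here

set_option autoImplicit false
universe u v w
open RootD

namespace Groth.Agent.S11243

/-- (b), for a connected group, as a statement about its root datum: let P be a finite reduced
crystallographic root pairing over ℤ with weight lattice M, and b a base of P (simple roots,
determining the positive roots). Then there is an additive map h : M → ℤ which is positive on every
positive root (so that h strictly increases along the dominance order) and non-negative on every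
dominant weight, i.e. on every ω ∈ M pairing non-negatively with all simple coroots. (Part (c),
invariance under the component group of a disconnected group, is not stated.) -/
theorem result {ι : Type u} {M : Type v} {N : Type w}
    [Fintype ι] [AddCommGroup M] [AddCommGroup N]
    (P : RootPairing ι ℤ M N) [P.IsReduced] [P.IsCrystallographic] (b : P.Base) :
    ∃ h : M →+ ℤ, (∀ i : ι, b.IsPos i → 0 < h (P.root i)) ∧
      ∀ ω : M, (∀ j ∈ b.support, 0 ≤ P.toLinearMap ω (P.coroot j)) → 0 ≤ h ω := by
  classical
  have hN : Module.IsTorsionFree ℤ N := by
    have := Module.IsReflexive.of_isPerfPair P.toLinearMap.flip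
    infer_instance
  have hM : Module.IsTorsionFree ℤ M := by
    have := Module.IsReflexive.of_isPerfPair P.toLinearMap
    infer_instance
  -- the base of the flipped pairing and its positive roots (= positive coroots of `P`)
  let b' : P.flip.Base := b.flip
  let S : Finset ι := Finset.univ.filter (fun i => b'.IsPos i)
  let H : Module.Dual ℤ M := ∑ i ∈ S, P.coroot' i
  have hH : ∀ ω : M, H ω = ∑ i ∈ S, P.toLinearMap ω (P.coroot i) := by
    intro ω
    simp [H, LinearMap.sum_apply]
  have hmemS : ∀ i, i ∈ S ↔ b'.IsPos i := by
    intro i; simp [S]
  -- value on simple roots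
  have hsimple : ∀ j ∈ b.support, H (P.root j) = 2 := by
    intro j hj
    have hj' : j ∈ b'.support := hj
    have hjS : j ∈ S := (hmemS j).mpr (RootPairing.Base.isPos_of_mem_support hj')
    rw [hH]
    simp only [RootPairing.root_coroot_eq_pairing]
    rw [← Finset.add_sum_erase S _ hjS, RootPairing.pairing_same]
    suffices h0 : ∑ i ∈ S.erase j, P.pairing j i = 0 by rw [h0, add_zero]
    have hnegj : ¬ b'.IsPos (P.reflectionPerm j j) := by
      have := RootPairing.Base.IsPos.neg_iff_not b' j
      have hpos : b'.IsPos j := RootPairing.Base.isPos_of_mem_support hj'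
      intro hc
      exact (this.mp hc) hpos
    have hstab : ∀ i, i ∈ S.erase j → P.reflectionPerm j i ∈ S.erase j := by
      intro i hi
      rw [Finset.mem_erase] at hi ⊢
      obtain ⟨hij, hiS⟩ := hi
      have hipos : b'.IsPos i := (hmemS i).mp hiS
      refine ⟨?_, (hmemS _).mpr ?_⟩
      · intro hc
        have : i = P.reflectionPerm j j := by
          conv_lhs => rw [← P.reflectionPerm_self j i, hc]
        rw [this] at hipos
        exact hnegj hipos
      · exact RootPairing.Base.IsPos.reflectionPerm (b := b') hipos hj' hij
    have hsum : ∑ i ∈ S.erase j, P.pairing j i = ∑ i ∈ S.erase j, P.pairing j (P.reflectionPerm j i) := by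
      refine (Finset.sum_equiv (P.reflectionPerm j) ?_ ?_).symm
      · intro i
        constructor
        · exact hstab i
        · intro hi
          have := hstab _ hi
          rwa [RootPairing.reflectionPerm_self] at this
      · intro i _
        rfl
    have hneg : ∑ i ∈ S.erase j, P.pairing j (P.reflectionPerm j i) = - ∑ i ∈ S.erase j, P.pairing j i := by
      rw [← Finset.sum_neg_distrib]
      refine Finset.sum_congr rfl fun i _ => ?_
      rw [RootPairing.pairing_reflectionPerm, RootPairing.pairing_reflectionPerm_self_left]
    rw [hneg] at hsum
    omega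
  refine ⟨H.toAddMonoidHom, ?_, ?_⟩
  · intro i hi
    show 0 < H (P.root i)
    refine RootPairing.Base.IsPos.induction_on_add (b := b) hi (p := fun i => 0 < H (P.root i)) ?_ ?_
    · intro j hj
      rw [hsimple j hj]; norm_num
    · intro i j k hk hpi hj
      rw [hk, map_add, hsimple j hj]
      omega
  · intro ω hω
    show 0 ≤ H ω
    rw [hH]
    refine Finset.sum_nonneg fun i hi => ?_
    have hipos : b'.IsPos i := (hmemS i).mp hi
    obtain ⟨f, hf₀, hf₁, hf₂⟩ := b'.exists_root_eq_sum_int i
    have hfpos : 0 < f := by
      refine hf₁.resolve_right ?_
      rw [RootPairing.Base.isPos_iff, RootPairing.Base.height_eq_sum hf₂] at hipos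
      intro hneg
      have : ∑ j ∈ b'.support, f j ≤ 0 := Finset.sum_nonpos fun j _ => hneg.le j
      omega
    have hf₃ : P.coroot i = ∑ j ∈ b.support, f j • P.coroot j := hf₂
    rw [hf₃, map_sum]
    refine Finset.sum_nonneg fun j hj => ?_
    rw [map_zsmul]
    exact smul_nonneg (hfpos.le j) (hω j hj)

end Groth.Agent.S11243
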