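import Groth.Statements.S11249
import Mathlib.LinearAlgebra.Matrix.Rank
import Mathlib.LinearAlgebra.Matrix.NonsingularInverse
import Mathlib.LinearAlgebra.Matrix.Adjugate
-- import your own Groth.Agent.* helpers here

set_option autoImplicit false
universe u
open W4bk4grassmannian

namespace Groth.Agent.S11249

open W4bk4grassmannian in
theorem minors_all {K : Type u} [Field K] {d n : ℕ} (A A' : Matrix (Fin n) (Fin d) K) (c : K)
    (h : ∀ θ : Idx d n, (A.submatrix θ.1 id).det = c * (A'.submatrix θ.1 id).det)
    (f : Fin d → Fin n) :
    (A.submatrix f id).det = c * (A'.submatrix f id).det := by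
  classical
  by_cases hf : Function.Injective f
  · have hcard : (Finset.univ.image f).card = d := by
      rw [Finset.card_image_of_injective _ hf]; simp
    let θ := (Finset.univ.image f).orderEmbOfFin hcard
    have hθ : ∀ t, ∃ s, θ s = f t := by
      intro t
      have hmem : f t ∈ (↑(Finset.univ.image f) : Set (Fin n)) :=
        Finset.mem_coe.mpr (Finset.mem_image_of_mem f (Finset.mem_univ t))
      rw [← Finset.range_orderEmbOfFin _ hcard] at hmem
      exact hmem
    choose σ hσ using hθ
    have hσinj : Function.Injective σ := by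
      intro a b hab
      apply hf
      rw [← hσ a, ← hσ b, hab]
    let σ' : Equiv.Perm (Fin d) := Equiv.ofBijective σ (Finite.injective_iff_bijective.mp hσinj)
    have hfθ : f = θ ∘ σ' := by
      ext t
      simp [σ', hσ]
    have e1 : ∀ B : Matrix (Fin n) (Fin d) K,
        (B.submatrix f id).det = Equiv.Perm.sign σ' * (B.submatrix θ id).det := by
      intro B
      rw [hfθ, ← Matrix.det_permute]
      rfl
    rw [e1 A, e1 A', h ⟨θ, θ.strictMono⟩]
    ring
  · rw [Function.Injective] at hf
    push Not at hf
    obtain ⟨a, b, hab, hne⟩ := hf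
    rw [Matrix.det_zero_of_row_eq hne, Matrix.det_zero_of_row_eq hne, mul_zero]
    all_goals (ext; simp [hab])

theorem mul_adjugate_entry {K : Type u} [Field K] {d n : ℕ} (B : Matrix (Fin n) (Fin d) K)
    (f₀ : Fin d → Fin n) (i : Fin n) (j : Fin d) :
    (B * (B.submatrix f₀ id).adjugate) i j = (B.submatrix (Function.update f₀ j i) id).det := by
  classical
  have h1 : (B.submatrix (Function.update f₀ j i) id) = (B.submatrix f₀ id).updateRow j (B i) := by
    ext a b
    by_cases haj : a = j
    · subst haj
      simp
    · simp [Matrix.updateRow_ne haj, Function.update_of_ne haj]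
  rw [h1, ← Matrix.cramer_transpose_apply, Matrix.cramer_eq_adjugate_mulVec,
    ← Matrix.adjugate_transpose, Matrix.mulVec_transpose, Matrix.mul_apply_eq_vecMul]

theorem span_le {K : Type u} [Field K] {d n : ℕ} (A A' : Matrix (Fin n) (Fin d) K) (c : K)
    (h : ∀ f : Fin d → Fin n, (A.submatrix f id).det = c * (A'.submatrix f id).det)
    (f₀ : Fin d → Fin n) (h₀ : (A.submatrix f₀ id).det ≠ 0) :
    Submodule.span K (Set.range A.transpose) ≤ Submodule.span K (Set.range A'.transpose) := by
  classical
  set G := A.submatrix f₀ id with hG
  set G' := A'.submatrix f₀ id with hG'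
  have h1 : A * G.adjugate = c • (A' * G'.adjugate) := by
    ext i j
    rw [hG, mul_adjugate_entry, h, Matrix.smul_apply, hG', mul_adjugate_entry, smul_eq_mul]
  have h2 : G.det • A = (c • (A' * G'.adjugate)) * G := by
    rw [← h1, Matrix.mul_assoc, Matrix.adjugate_mul, Matrix.mul_smul, Matrix.mul_one]
  set N : Matrix (Fin d) (Fin d) K := (G.det)⁻¹ • (c • (G'.adjugate * G)) with hN
  have h3 : A = A' * N := by
    have : A = (G.det)⁻¹ • (G.det • A) := by
      rw [smul_smul, inv_mul_cancel₀ h₀, one_smul]
    rw [this, h2, hN]
    simp only [Matrix.smul_mul, Matrix.mul_smul, Matrix.mul_assoc]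
  rw [Submodule.span_le]
  rintro _ ⟨j, rfl⟩
  have : A.transpose j = ∑ l, N l j • A'.transpose l := by
    ext i
    rw [Matrix.transpose_apply, h3, Matrix.mul_apply, Finset.sum_apply]
    refine Finset.sum_congr rfl fun l _ => ?_
    simp [mul_comm]
  rw [this]
  exact Submodule.sum_mem _ fun l _ =>
    Submodule.smul_mem _ _ (Submodule.subset_span ⟨l, rfl⟩)

theorem exists_minor_ne_zero {K : Type u} [Field K] {d n : ℕ} (A : Matrix (Fin n) (Fin d) K)
    (hA : LinearIndependent K A.transpose) :
    ∃ f₀ : Fin d → Fin n, (A.submatrix f₀ id).det ≠ 0 := by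
  classical
  have hrank : A.rank = d := by
    rw [← Matrix.rank_transpose, LinearIndependent.rank_matrix (M := A.transpose) hA, Fintype.card_fin]
  have hspan : Submodule.span K (Set.range A.row) = ⊤ := by
    apply Submodule.eq_top_of_finrank_eq
    rw [← Matrix.rank_eq_finrank_span_row, hrank, Module.finrank_fin_fun]
  obtain ⟨κ, a, ha, hsp, hli⟩ := exists_linearIndependent' (K := K) A.row
  have : Fintype κ := Fintype.ofInjective a ha
  have hcard : Fintype.card κ = d := by
    rw [linearIndependent_iff_card_eq_finrank_span.mp hli, Set.finrank, hsp, hspan, finrank_top,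
      Module.finrank_fin_fun]
  let e : Fin d ≃ κ := (Fintype.equivFinOfCardEq hcard).symm
  refine ⟨a ∘ e, ?_⟩
  have hli' : LinearIndependent K (A.submatrix (a ∘ e) id).row := by
    have := hli.comp e e.injective
    exact this
  have := Matrix.linearIndependent_rows_iff_isUnit.mp hli'
  exact ((Matrix.isUnit_iff_isUnit_det _).mp this).ne_zero

open W4bk4grassmannian in
/-- Injectivity of the Plücker map, in matrix form: let K be a field, A and A' two n × d matrices over K
with linearly independent columns, and suppose there is a nonzero scalar c with det A_θ = c · det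
A'_θ for every strictly increasing d-tuple θ of row indices (A_θ the d × d submatrix on the rows θ).
Then the columns of A and of A' span the same subspace of K^n. (The published statement is over an
algebraically closed field; this row allows any field K.) -/
theorem result (K : Type u) [Field K] (d n : ℕ)
    (A A' : Matrix (Fin n) (Fin d) K) (hA : LinearIndependent K A.transpose)
    (hA' : LinearIndependent K A'.transpose) (c : K) (hc : c ≠ 0)
    (h : ∀ θ : Idx d n, (A.submatrix θ.1 id).det = c * (A'.submatrix θ.1 id).det) :
    Submodule.span K (Set.range A.transpose) = Submodule.span K (Set.range A'.transpose) := by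
  classical
  have hall := minors_all A A' c h
  obtain ⟨f₀, hf₀⟩ := exists_minor_ne_zero A hA
  have hf₀' : (A'.submatrix f₀ id).det ≠ 0 := by
    intro h0
    apply hf₀
    rw [hall f₀, h0, mul_zero]
  refine le_antisymm (span_le A A' c hall f₀ hf₀) (span_le A' A c⁻¹ ?_ f₀ hf₀')
  intro f
  rw [hall f, ← mul_assoc, inv_mul_cancel₀ hc, one_mul]

end Groth.Agent.S11249
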