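import Groth.Statements.S1125
import Groth.Agent.Lib.Helper38.ImmDescent
import Groth.Agent.S0083

set_option autoImplicit false
open CategoryTheory CategoryTheory.Limits AlgebraicGeometry Opposite
universe u
open Desc

namespace Groth.Agent.S1125

/-- If the base change of a morphism along a flat, surjective morphism locally of finite presentation is
an immersion, then the morphism is an immersion. (Single-cover form of the fppf-local statement;
Zariski-locality on the target gives the covering form.) -/
theorem result :
    MorphismProperty.DescendsAlong (@IsImmersion : MorphismProperty Scheme.{u})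
      (@Surjective ⊓ @Flat ⊓ @LocallyOfFinitePresentation : MorphismProperty Scheme.{u}) := by
  have i83 := Groth.Agent.S0083.result.{u}
  have i83' : MorphismProperty.DescendsAlong @IsClosedImmersion
      (@Surjective ⊓ @Flat ⊓ @LocallyOfFinitePresentation : MorphismProperty Scheme.{u}) :=
    inferInstance
  apply MorphismProperty.DescendsAlong.mk'
  intro X Y Z f g _ hf hg
  have hfs : Surjective f := hf.1.1
  have hff : Flat f := hf.1.2
  have hfp : LocallyOfFinitePresentation f := hf.2
  have : IsImmersion (pullback.fst f g) := hg
  exact Groth.Agent.Lib.Helper38.ImmDescent.isImmersion_of_pullback_fst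
    (@Surjective ⊓ @Flat ⊓ @LocallyOfFinitePresentation) i83' f g hf
    (f.isOpenMap.isQuotientMap f.continuous f.surjective)
    (f.isOpenMap.preimage_closure_eq_closure_preimage f.continuous _).le


end Groth.Agent.S1125
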