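import Groth.Statements.S11252
import Groth.Agent.Lib.Helper28.SmtIdeal
import Mathlib.FieldTheory.IsAlgClosed.Basic

set_option autoImplicit false
universe u
open W4bk4grassmannian

namespace Groth.Agent.S11252

open Groth.Agent.Lib.Helper28.Smt MvPolynomial

lemma idx_inj {d n r : ℕ} (τs : Fin r → Idx d n) : Function.Injective
    fun c : (Σ m : ℕ, {c : Fin m → Idx d n // Antitone c ∧ ∃ i, ∀ k, c k ≤ τs i}) =>
      (⟨c.1, c.2.1⟩ : Σ m : ℕ, Fin m → Idx d n) := by
  rintro ⟨m, c, hc⟩ ⟨m', c', hc'⟩ h
  simp only [Sigma.mk.injEq] at h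
  obtain ⟨h1, h2⟩ := h
  subst h1
  have h3 := eq_of_heq h2
  subst h3
  rfl

open W4bk4grassmannian in
/-- Standard monomial basis for a union of Schubert varieties: let K be an algebraically closed field, 0
< d < n, and I(d,n) the strictly increasing maps Fin d → Fin n ordered entrywise; S = K[X_θ : θ ∈
I(d,n)] is the Plücker polynomial ring and, for τ ∈ I(d,n), J(τ) ⊆ S is the ideal of polynomials
vanishing at the d × d row-minors of every n × d matrix over K whose minors on rows φ ≰ τ are zero
(the homogeneous ideal of the Schubert variety X(τ) ⊆ G(d,n)). Let τ_1, …, τ_r ∈ I(d,n) and let J =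
⋂_i J(τ_i) be the homogeneous ideal of the union ⋃_i X(τ_i). Then the classes in S/J of the
monomials X_{θ_1} ⋯ X_{θ_m} (m ≥ 0) along chains θ_1 ≥ ⋯ ≥ θ_m all of whose members lie below some
τ_i are linearly independent over K and span S/J. -/
theorem result (K : Type u) [Field K] [IsAlgClosed K] (d n : ℕ)
    (hd : 0 < d) (hdn : d < n) (r : ℕ) (τs : Fin r → Idx d n) :
    LinearIndependent K (fun c : (Σ m : ℕ, {c : Fin m → Idx d n // Antitone c ∧ ∃ i, ∀ k, c k ≤ τs i}) =>
        Ideal.Quotient.mk (⨅ i, schubertVanishing K d n (τs i)) (chainMon K c.2.1)) ∧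
      Submodule.span K (Set.range fun c : (Σ m : ℕ, {c : Fin m → Idx d n // Antitone c ∧ ∃ i, ∀ k, c k ≤ τs i}) =>
        Ideal.Quotient.mk (⨅ i, schubertVanishing K d n (τs i)) (chainMon K c.2.1)) = ⊤ := by
  classical
  constructor
  · rw [linearIndependent_iff']
    intro s g hg i his
    have h0 : (∑ c ∈ s, g c • chainMon K c.2.1) ∈ ⨅ i, schubertVanishing K d n (τs i) := by
      rw [← Ideal.Quotient.eq_zero_iff_mem, map_sum, ← hg]
      apply Finset.sum_congr rfl
      intro c _
      rfl
    obtain ⟨j, hj⟩ := i.2.2.2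
    have h1 : (∑ c ∈ s, g c • chainMon K c.2.1) ∈ schubertVanishing K d n (τs j) :=
      (Ideal.mem_iInf.1 h0) j
    have hev := evW_eq_zero_of_mem K (τs j) _ h1
    rw [map_sum] at hev
    have hev' : ∑ c ∈ s, g c • evW K (τs j) (chainMon K c.2.1) = 0 := by
      rw [← hev]
      apply Finset.sum_congr rfl
      intro c _
      rw [map_smul]
    exact indep K hd (τs j)
      (ι := (Σ m : ℕ, {c : Fin m → Idx d n // Antitone c ∧ ∃ i, ∀ k, c k ≤ τs i}))
      (fun c => c.1) (fun c => c.2.1) (fun c => c.2.2.1) (idx_inj τs)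
      s g hev' i his hj
  · rw [eq_top_iff]
    rintro x -
    obtain ⟨f, rfl⟩ := Ideal.Quotient.mk_surjective x
    obtain ⟨g, hg⟩ := exists_expansion K f
    have hle : plIdealTop (d := d) (n := n) K ≤ ⨅ i, schubertVanishing K d n (τs i) := by
      rw [le_iInf_iff]
      intro i
      exact plIdealTop_le_schubertVanishing K (τs i)
    have hf : Ideal.Quotient.mk (⨅ i, schubertVanishing K d n (τs i)) f =
        ∑ c ∈ g.support, g c • Ideal.Quotient.mk (⨅ i, schubertVanishing K d n (τs i))
          (chainMon K c.2.1) := by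
      have h1 := hle hg
      rw [← Ideal.Quotient.eq] at h1
      rw [h1]
      unfold Finsupp.sum
      rw [map_sum]
      apply Finset.sum_congr rfl
      intro c _
      rfl
    rw [hf]
    apply Submodule.sum_mem
    intro c _
    by_cases hP : ∃ i, ∀ k, c.2.1 k ≤ τs i
    · apply Submodule.smul_mem
      apply Submodule.subset_span
      exact ⟨⟨c.1, c.2.1, c.2.2, hP⟩, rfl⟩
    · have h0 : Ideal.Quotient.mk (⨅ i, schubertVanishing K d n (τs i)) (chainMon K c.2.1) = 0 := by
        rw [Ideal.Quotient.eq_zero_iff_mem, Ideal.mem_iInf]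
        intro i
        simp only [not_exists, not_forall] at hP
        obtain ⟨k, hk⟩ := hP i
        exact chainMon_mem_of_mem K _ c.2.1 k (X_mem_schubertVanishing K (τs i) _ hk)
      rw [h0, smul_zero]
      exact zero_mem _

end Groth.Agent.S11252
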