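import Groth.Statements.S11253
import Groth.Agent.Lib.Helper28.SmtIdeal
import Mathlib.FieldTheory.IsAlgClosed.Basic

set_option autoImplicit false
universe u
open W4bk4grassmannian

namespace Groth.Agent.S11253

open Groth.Agent.Lib.Helper28.Smt MvPolynomial

lemma isRadical_schubertVanishing (K : Type u) [Field K] (d n : ℕ) (w : Idx d n) :
    (schubertVanishing K d n w).IsRadical := by
  intro f hf
  obtain ⟨k, hk⟩ := hf
  unfold schubertVanishing at hk ⊢
  rw [Ideal.mem_iInf] at hk ⊢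
  intro A
  have h1 := hk A
  rw [Ideal.mem_iInf] at h1 ⊢
  intro hA
  have h2 := h1 hA
  rw [RingHom.mem_ker] at h2 ⊢
  rw [map_pow] at h2
  exact pow_eq_zero_iff (fun h => by
    subst h
    rw [pow_zero] at h2
    exact one_ne_zero h2) |>.1 h2

lemma le_inf_iff' {d n : ℕ} (φ w₁ w₂ : Idx d n) : φ ≤ inf w₁ w₂ ↔ φ ≤ w₁ ∧ φ ≤ w₂ := by
  constructor
  · intro h
    exact ⟨fun t => (h t).trans (min_le_left _ _), fun t => (h t).trans (min_le_right _ _)⟩
  · rintro ⟨h1, h2⟩ t
    exact le_min (h1 t) (h2 t)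

lemma plIdeal_sup (K : Type u) [CommRing K] {d n : ℕ} (w₁ w₂ : Idx d n) :
    plIdeal K w₁ ⊔ plIdeal K w₂ = plIdeal K (inf w₁ w₂) := by
  rw [plIdeal_eq_sup, plIdeal_eq_sup, plIdeal_eq_sup, sup_sup_sup_comm, sup_idem,
    ← Ideal.span_union]
  congr 2
  ext f
  constructor
  · rintro (⟨φ, hφ, rfl⟩ | ⟨φ, hφ, rfl⟩)
    · exact ⟨φ, fun h => hφ ((le_inf_iff' φ w₁ w₂).1 h).1, rfl⟩
    · exact ⟨φ, fun h => hφ ((le_inf_iff' φ w₁ w₂).1 h).2, rfl⟩
  · rintro ⟨φ, hφ, rfl⟩
    by_cases h1 : φ ≤ w₁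
    · right
      exact ⟨φ, fun h2 => hφ ((le_inf_iff' φ w₁ w₂).2 ⟨h1, h2⟩), rfl⟩
    · left
      exact ⟨φ, h1, rfl⟩

open W4bk4grassmannian in
/-- Intersections of Schubert varieties are reduced: let K be an algebraically closed field, 0 < d < n,
and I(d,n) the strictly increasing maps Fin d → Fin n ordered entrywise; S = K[X_θ : θ ∈ I(d,n)] is
the Plücker polynomial ring and, for τ ∈ I(d,n), J(τ) ⊆ S is the ideal of polynomials vanishing at
the d × d row-minors of every n × d matrix over K whose minors on rows φ ≰ τ are zero (the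
homogeneous ideal of the Schubert variety X(τ) ⊆ G(d,n)). Then for all w₁, w₂ ∈ I(d,n) the ideal
J(w₁) + J(w₂) of S is radical. -/
theorem result (K : Type u) [Field K] [IsAlgClosed K] (d n : ℕ)
    (hd : 0 < d) (hdn : d < n) (w₁ w₂ : Idx d n) :
    (schubertVanishing K d n w₁ ⊔ schubertVanishing K d n w₂).IsRadical := by
  rw [← plIdeal_eq_schubertVanishing' K hd w₁, ← plIdeal_eq_schubertVanishing' K hd w₂,
    plIdeal_sup, plIdeal_eq_schubertVanishing' K hd]
  exact isRadical_schubertVanishing K d n _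

end Groth.Agent.S11253
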