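import Groth.Statements.S11254
import Groth.Agent.Lib.Helper28.SmtIdeal
import Groth.Agent.S11268
import Mathlib.FieldTheory.IsAlgClosed.Basic

set_option autoImplicit false
universe u
open W4bk4grassmannian

namespace Groth.Agent.S11254

open Groth.Agent.Lib.Helper28.Smt MvPolynomial

open W4bk4grassmannian in
/-- Let K be an algebraically closed field, 0 < d < n, and I(d,n) the strictly increasing maps Fin d →
Fin n ordered entrywise; S = K[X_θ : θ ∈ I(d,n)] is the Plücker polynomial ring and, for τ ∈ I(d,n),
J(τ) ⊆ S is the ideal of polynomials vanishing at the d × d row-minors of every n × d matrix over K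
whose minors on rows φ ≰ τ are zero (the homogeneous ideal of the Schubert variety X(τ) ⊆ G(d,n)).
Let τ ∈ I(d,n) admit some φ < τ (X(τ) has positive dimension). Then J(τ) + (X_τ) = ⋂_φ J(φ), the
intersection over the Schubert divisors φ of τ, i.e. the φ < τ with Σ_t (φ_t - t) + 1 = Σ_t (τ_t -
t). (For the zero-dimensional Schubert variety there is no divisor and the left side is the
irrelevant ideal, so positive dimension is required at the level of ideals.) -/
theorem result (K : Type u) [Field K] [IsAlgClosed K]
    (d n : ℕ) (hd : 0 < d) (hdn : d < n) (τ : Idx d n) (hτ : ∃ φ : Idx d n, φ < τ) :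
    schubertVanishing K d n τ ⊔ Ideal.span {MvPolynomial.X τ} =
      ⨅ φ ∈ divisors τ, schubertVanishing K d n φ := by
  classical
  set I := schubertVanishing K d n τ ⊔ Ideal.span {(X τ : PlRing K d n)} with hIdef
  have hI : plIdealTop (d := d) (n := n) K ≤ I :=
    (plIdealTop_le_schubertVanishing K τ).trans le_sup_left
  have hIle : I ≤ ⨅ φ ∈ divisors τ, schubertVanishing K d n φ := by
    rw [le_iInf_iff]
    intro φ
    rw [le_iInf_iff]
    intro hφ
    have hlt : φ < τ := hφ.1
    apply sup_le
    · exact schubertVanishing_mono K hlt.le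
    · rw [Ideal.span_le, Set.singleton_subset_iff]
      exact X_mem_schubertVanishing K φ τ (not_le_of_gt hlt)
  apply le_antisymm hIle
  intro f hf
  apply mem_of_mem_iInf K hd (divisors τ) I hI hIle (fun c => ∀ k, c.2.1 k < τ) _ _ f hf
  · intro c hc
    simp only [not_forall] at hc
    obtain ⟨k, hk⟩ := hc
    apply chainMon_mem_of_mem K I c.2.1 k
    by_cases hle : c.2.1 k ≤ τ
    · have heq : c.2.1 k = τ := eq_of_le_of_not_lt hle hk
      rw [heq]
      exact Ideal.mem_sup_right (Ideal.subset_span rfl)
    · exact Ideal.mem_sup_left (X_mem_schubertVanishing K τ _ hle)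
  · rintro ⟨m, c, hc⟩ hP
    cases m with
    | zero =>
      obtain ⟨φ', hφ'⟩ := hτ
      obtain ⟨φ, hφ, -⟩ := Groth.Agent.S11268.result d n φ' τ hφ'
      exact ⟨φ, hφ, fun k => k.elim0⟩
    | succ m =>
      obtain ⟨φ, hφ, hle⟩ := Groth.Agent.S11268.result d n (c 0) τ (hP 0)
      exact ⟨φ, hφ, fun k => (hc (Fin.zero_le k)).trans hle⟩

end Groth.Agent.S11254
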