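import Groth.Statements.S11256
import Mathlib
-- import your own Groth.Agent.* helpers here

set_option autoImplicit false
universe u
open W4bk4grassmannian

namespace Groth.Agent.S11256

open MvPolynomial

section basics

variable {d n : ℕ}

/-- the sign of a permutation of `Fin d` through its inversions, in `ℤ` (as in helper28's SmtCoord) -/
lemma sign_eq_neg_one_pow_inv (σ : Equiv.Perm (Fin d)) :
    ((Equiv.Perm.sign σ : ℤˣ) : ℤ) =
      (-1) ^ (Finset.univ.filter fun p : Fin d × Fin d => p.1 < p.2 ∧ σ p.2 < σ p.1).card := by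
  rw [Equiv.Perm.sign_eq_prod_prod_Iio, Units.coe_prod]
  have h1 : ∀ j : Fin d, ((∏ i ∈ Finset.Iio j, (if σ i < σ j then (1 : ℤˣ) else -1) : ℤˣ) : ℤ)
      = ∏ i : Fin d, (if i < j ∧ σ j < σ i then (-1 : ℤ) else 1) := by
    intro j
    rw [Units.coe_prod]
    have hIio : Finset.Iio j = Finset.univ.filter (fun i : Fin d => i < j) := by
      ext i; simp
    rw [hIio, Finset.prod_filter]
    apply Finset.prod_congr rfl
    intro i _
    by_cases hij : i < j
    · have hne : σ i ≠ σ j := fun h => (ne_of_lt hij) (σ.injective h)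
      by_cases hs : σ i < σ j
      · rw [if_pos hij, if_pos hs, if_neg (fun h => absurd h.2 (not_lt.2 hs.le))]; rfl
      · have hs' : σ j < σ i := lt_of_le_of_ne (not_lt.1 hs) (Ne.symm hne)
        rw [if_pos hij, if_neg hs, if_pos ⟨hij, hs'⟩]; rfl
    · rw [if_neg hij, if_neg (fun h => hij h.1)]
  rw [Finset.prod_congr rfl (fun j _ => h1 j)]
  rw [Finset.prod_comm, ← Finset.prod_product' (f := fun i j : Fin d =>
    if i < j ∧ σ j < σ i then (-1 : ℤ) else 1), Finset.univ_product_univ, Finset.prod_ite,
    Finset.prod_const, Finset.prod_const_one, mul_one]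

lemma invCount_eq_of_strictMono (θ : Fin d → Fin n) (hθ : StrictMono θ) (σ : Equiv.Perm (Fin d)) :
    invCount d n (θ ∘ σ) =
      (Finset.univ.filter fun p : Fin d × Fin d => p.1 < p.2 ∧ σ p.2 < σ p.1).card := by
  unfold invCount
  congr 1
  ext p
  simp only [Finset.mem_filter, Finset.mem_univ, true_and, Function.comp_apply, hθ.lt_iff_lt]

/-- two injective tuples with the same image differ by a permutation -/
lemma exists_perm_of_image_eq {a b : Fin d → Fin n} (ha : Function.Injective a)
    (h : Finset.univ.image a = Finset.univ.image b) : ∃ σ : Equiv.Perm (Fin d), a = b ∘ σ := by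
  have hex : ∀ s, ∃ s', b s' = a s := by
    intro s
    have : a s ∈ Finset.univ.image b := by
      rw [← h]; exact Finset.mem_image_of_mem _ (Finset.mem_univ s)
    obtain ⟨s', _, hs'⟩ := Finset.mem_image.mp this
    exact ⟨s', hs'⟩
  choose f hf using hex
  have hinj : Function.Injective f := by
    intro s t hst
    apply ha
    rw [← hf s, ← hf t, hst]
  exact ⟨Equiv.ofBijective f (Finite.injective_iff_bijective.mp hinj),
    by funext s; exact (hf s).symm⟩

variable (K : Type u) [CommRing K]

lemma coord_comp_perm (θ : Idx d n) (τ : Equiv.Perm (Fin d)) :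
    coord K d n (θ.1 ∘ τ)
      = (((Equiv.Perm.sign τ : ℤˣ) : ℤ) : MvPolynomial (Idx d n) K) * X θ := by
  have hinj : Function.Injective (θ.1 ∘ τ) := θ.2.injective.comp τ.injective
  have hcard : (Finset.univ.image (θ.1 ∘ τ)).card = d := by
    rw [Finset.card_image_of_injective _ hinj, Finset.card_univ, Fintype.card_fin]
  unfold coord
  rw [dif_pos hcard]
  have hsort : sortIdx d n (θ.1 ∘ τ) hcard = θ := by
    apply Subtype.ext
    have hmem : ∀ x, θ.1 x ∈ Finset.univ.image (θ.1 ∘ τ) := fun x =>
      Finset.mem_image.mpr ⟨τ.symm x, Finset.mem_univ _, by simp⟩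
    have := Finset.orderEmbOfFin_unique hcard (f := θ.1) hmem θ.2
    funext t
    exact (congrFun this t).symm
  rw [hsort, invCount_eq_of_strictMono θ.1 θ.2 τ, sign_eq_neg_one_pow_inv τ, Int.cast_pow,
    Int.cast_neg, Int.cast_one]

lemma coord_eq_zero_of_not_injective (a : Fin d → Fin n) (ha : ¬ Function.Injective a) :
    coord K d n a = 0 := by
  unfold coord
  rw [dif_neg]
  intro hcard
  apply ha
  have h2 : (Finset.univ.image a).card = (Finset.univ : Finset (Fin d)).card := by
    rw [hcard, Finset.card_univ, Fintype.card_fin]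
  have := Finset.card_image_iff.mp h2
  intro x y hxy
  exact this (Finset.mem_coe.mpr (Finset.mem_univ x)) (Finset.mem_coe.mpr (Finset.mem_univ y)) hxy

lemma exists_sorted_perm (a : Fin d → Fin n) (ha : Function.Injective a) :
    ∃ (θ : Idx d n) (τ : Equiv.Perm (Fin d)), a = θ.1 ∘ τ := by
  have hcard : (Finset.univ.image a).card = d := by
    rw [Finset.card_image_of_injective _ ha, Finset.card_univ, Fintype.card_fin]
  refine ⟨sortIdx d n a hcard, ?_⟩
  apply exists_perm_of_image_eq ha
  have : (sortIdx d n a hcard).1 = fun t => (Finset.univ.image a).orderEmbOfFin hcard t := rfl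
  rw [this]
  exact (Finset.image_orderEmbOfFin_univ _ hcard).symm

end basics
section QD

variable {d n : ℕ} {K : Type u} [CommRing K]

/-- value of the signed coordinate of a tuple at `q` -/
noncomputable def Qf (q : Idx d n → K) (a : Fin d → Fin n) : K :=
  MvPolynomial.eval q (coord K d n a)

lemma Qf_comp_perm (q : Idx d n → K) (θ : Idx d n) (τ : Equiv.Perm (Fin d)) :
    Qf q (θ.1 ∘ τ) = (((Equiv.Perm.sign τ : ℤˣ) : ℤ) : K) * q θ := by
  unfold Qf
  rw [coord_comp_perm, map_mul, eval_X, map_intCast]

lemma Qf_sorted (q : Idx d n → K) (θ : Idx d n) : Qf q θ.1 = q θ := by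
  have := Qf_comp_perm q θ 1
  simpa using this

lemma Qf_not_inj (q : Idx d n → K) (a : Fin d → Fin n) (ha : ¬ Function.Injective a) :
    Qf q a = 0 := by
  unfold Qf; rw [coord_eq_zero_of_not_injective K a ha, map_zero]

lemma Qf_perm (q : Idx d n → K) (a : Fin d → Fin n) (σ : Equiv.Perm (Fin d)) :
    Qf q (a ∘ σ) = (((Equiv.Perm.sign σ : ℤˣ) : ℤ) : K) * Qf q a := by
  by_cases ha : Function.Injective a
  · obtain ⟨θ, τ, rfl⟩ := exists_sorted_perm a ha
    have : (θ.1 ∘ τ) ∘ σ = θ.1 ∘ (τ * σ : Equiv.Perm (Fin d)) := by
      funext s; simp [Equiv.Perm.mul_apply]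
    rw [this, Qf_comp_perm, Qf_comp_perm, Equiv.Perm.sign_mul]
    push_cast
    ring
  · have ha' : ¬ Function.Injective (a ∘ σ) := fun h =>
      ha ((Function.Injective.of_comp_iff' a σ.bijective).mp h)
    rw [Qf_not_inj q a ha, Qf_not_inj q _ ha', mul_zero]

/-- the minor of `A` on the rows `a` (in the given order) -/
noncomputable def Df (A : Matrix (Fin n) (Fin d) K) (a : Fin d → Fin n) : K :=
  (A.submatrix a id).det

lemma Df_perm (A : Matrix (Fin n) (Fin d) K) (a : Fin d → Fin n) (σ : Equiv.Perm (Fin d)) :
    Df A (a ∘ σ) = (((Equiv.Perm.sign σ : ℤˣ) : ℤ) : K) * Df A a := by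
  unfold Df
  have : A.submatrix (a ∘ σ) id = (A.submatrix a id).submatrix σ id := rfl
  rw [this, Matrix.det_permute]

lemma Df_not_inj (A : Matrix (Fin n) (Fin d) K) (a : Fin d → Fin n)
    (ha : ¬ Function.Injective a) : Df A a = 0 := by
  unfold Df
  rw [Function.Injective] at ha
  push Not at ha
  obtain ⟨s, t, hst, hne⟩ := ha
  refine Matrix.det_zero_of_row_eq hne ?_
  ext c
  simp only [Matrix.submatrix_apply, id_eq, hst]

lemma Qf_eq_Df (q : Idx d n → K) (A : Matrix (Fin n) (Fin d) K)
    (h : ∀ θ : Idx d n, q θ = Df A θ.1) (a : Fin d → Fin n) : Qf q a = Df A a := by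
  by_cases ha : Function.Injective a
  · obtain ⟨θ, τ, rfl⟩ := exists_sorted_perm a ha
    rw [Qf_comp_perm, Df_perm, h]
  · rw [Qf_not_inj q a ha, Df_not_inj A a ha]

lemma plucker_Df {e : ℕ} (A : Matrix (Fin n) (Fin (e + 1)) K) (i' : Fin e → Fin n)
    (j' : Fin (e + 2) → Fin n) :
    ∑ h : Fin (e + 2), (-1 : K) ^ (h.val + 1) * Df A (Fin.snoc i' (j' h))
      * Df A (j' ∘ h.succAbove) = 0 := by
  obtain ⟨c, hc⟩ : ∃ c : Fin (e + 1) → K, c = fun t =>
      (-1 : K) ^ (e + t.val) * ((A.submatrix i' id).submatrix id t.succAbove).det := ⟨_, rfl⟩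
  have step1 : ∀ x : Fin n, Df A (Fin.snoc i' x) = ∑ t, A x t * c t := by
    intro x
    unfold Df
    rw [Matrix.det_succ_row _ (Fin.last e)]
    apply Finset.sum_congr rfl
    intro t _
    have h1 : (A.submatrix (Fin.snoc i' x : Fin (e + 1) → Fin n) id) (Fin.last e) t = A x t := by
      simp [Matrix.submatrix_apply]
    have h2 : (A.submatrix (Fin.snoc i' x : Fin (e + 1) → Fin n) id).submatrix
        (Fin.last e).succAbove t.succAbove = (A.submatrix i' id).submatrix id t.succAbove := by
      ext r s
      simp [Matrix.submatrix_apply, Fin.succAbove_last]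
    rw [h1, h2, hc]
    simp only [Fin.val_last]
    ring
  have step2 : ∀ t : Fin (e + 1), ∑ h : Fin (e + 2),
      (-1 : K) ^ h.val * A (j' h) t * Df A (j' ∘ h.succAbove) = 0 := by
    intro t
    obtain ⟨C, hC⟩ : ∃ C : Matrix (Fin (e + 2)) (Fin (e + 2)) K, C = Matrix.of
        (fun h cc => (Fin.cons (A (j' h) t) (fun c' => A (j' h) c') : Fin (e + 2) → K) cc) :=
      ⟨_, rfl⟩
    have hdet : C.det = 0 := by
      refine Matrix.det_zero_of_column_eq (i := 0) (j := t.succ) (Fin.succ_ne_zero t).symm ?_
      intro k
      rw [hC]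
      simp [Matrix.of_apply, Fin.cons_zero, Fin.cons_succ]
    rw [Matrix.det_succ_column_zero] at hdet
    rw [← hdet]
    apply Finset.sum_congr rfl
    intro h _
    have h1 : C h 0 = A (j' h) t := by rw [hC]; simp [Matrix.of_apply]
    have h2 : C.submatrix h.succAbove Fin.succ = A.submatrix (j' ∘ h.succAbove) id := by
      ext r s
      rw [hC]
      simp [Matrix.submatrix_apply, Matrix.of_apply, Fin.cons_succ]
    rw [h1, h2]
    rfl
  calc ∑ h : Fin (e + 2), (-1 : K) ^ (h.val + 1) * Df A (Fin.snoc i' (j' h))
        * Df A (j' ∘ h.succAbove)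
      = ∑ h : Fin (e + 2), ∑ t, (-(c t)) * ((-1 : K) ^ h.val * A (j' h) t
          * Df A (j' ∘ h.succAbove)) := by
        apply Finset.sum_congr rfl
        intro h _
        rw [step1, Finset.mul_sum, Finset.sum_mul]
        apply Finset.sum_congr rfl
        intro t _
        rw [pow_succ]
        ring
    _ = ∑ t, (-(c t)) * ∑ h : Fin (e + 2), ((-1 : K) ^ h.val * A (j' h) t
          * Df A (j' ∘ h.succAbove)) := by
        rw [Finset.sum_comm]
        simp_rw [Finset.mul_sum]
    _ = 0 := by simp [step2]

end QD

section combi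

variable {n : ℕ}

lemma injective_of_card_image' {d : ℕ} {a : Fin d → Fin n}
    (hcard : (Finset.univ.image a).card = d) : Function.Injective a := by
  have h2 : (Finset.univ.image a).card = (Finset.univ : Finset (Fin d)).card := by
    rw [hcard, Finset.card_univ, Fintype.card_fin]
  have := Finset.card_image_iff.mp h2
  intro x y hxy
  exact this (Finset.mem_coe.mpr (Finset.mem_univ x)) (Finset.mem_coe.mpr (Finset.mem_univ y)) hxy

lemma card_image_of_inj {d : ℕ} {a : Fin d → Fin n} (ha : Function.Injective a) :
    (Finset.univ.image a).card = d := by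
  rw [Finset.card_image_of_injective _ ha, Finset.card_univ, Fintype.card_fin]

lemma exists_idx_of_card (s : Finset (Fin n)) {k : ℕ} (h : s.card = k) :
    ∃ θ : Idx k n, Finset.univ.image θ.1 = s :=
  ⟨⟨fun t => s.orderEmbOfFin h t, (s.orderEmbOfFin h).strictMono⟩,
    Finset.image_orderEmbOfFin_univ s h⟩

lemma strictMono_unique {d : ℕ} (f g : Fin d → Fin n) (hf : StrictMono f) (hg : StrictMono g)
    (h : Finset.univ.image f = Finset.univ.image g) : f = g := by
  have hcard : (Finset.univ.image g).card = d := card_image_of_inj hg.injective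
  have h1 := Finset.orderEmbOfFin_unique hcard (f := g)
    (fun x => Finset.mem_image_of_mem _ (Finset.mem_univ x)) hg
  have h2 := Finset.orderEmbOfFin_unique hcard (f := f)
    (fun x => by rw [← h]; exact Finset.mem_image_of_mem _ (Finset.mem_univ x)) hf
  rw [h1, h2]

lemma image_snoc {e : ℕ} (i' : Fin e → Fin n) (x : Fin n) :
    Finset.univ.image (Fin.snoc i' x : Fin (e + 1) → Fin n)
      = insert x (Finset.univ.image i') := by
  ext y
  simp only [Finset.mem_image, Finset.mem_univ, true_and, Finset.mem_insert]
  constructor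
  · rintro ⟨s, rfl⟩
    induction s using Fin.lastCases with
    | last => left; simp
    | cast s => right; exact ⟨s, by simp⟩
  · rintro (rfl | ⟨s, rfl⟩)
    · exact ⟨Fin.last e, by simp⟩
    · exact ⟨Fin.castSucc s, by simp⟩

lemma image_comp_succAbove {e : ℕ} (j' : Fin (e + 2) → Fin n) (hj : Function.Injective j')
    (h : Fin (e + 2)) :
    Finset.univ.image (j' ∘ h.succAbove) = (Finset.univ.image j').erase (j' h) := by
  ext y
  simp only [Finset.mem_image, Finset.mem_univ, true_and, Finset.mem_erase, Function.comp_apply]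
  constructor
  · rintro ⟨s, rfl⟩
    exact ⟨fun hh => Fin.succAbove_ne h s (hj hh), ⟨_, rfl⟩⟩
  · rintro ⟨hne, ⟨s', rfl⟩⟩
    have hs' : s' ≠ h := fun hh => hne (by rw [hh])
    obtain ⟨z, hz⟩ := Fin.exists_succAbove_eq hs'
    exact ⟨z, by rw [hz]⟩

end combi

section main

variable {n e : ℕ} {K : Type u} [Field K]

lemma eval_quadric (q : Idx (e + 1) n → K) (i' : Idx e n) (j' : Idx (e + 2) n) :
    MvPolynomial.eval q (quadric K i' j') = ∑ h : Fin (e + 2), (-1 : K) ^ (h.val + 1)
      * Qf q (Fin.snoc i'.1 (j'.1 h)) * Qf q (j'.1 ∘ h.succAbove) := by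
  unfold quadric Qf
  rw [map_sum]
  apply Finset.sum_congr rfl
  intro h _
  rw [map_mul, map_mul, map_pow, map_neg, map_one]

theorem forward (q : Idx (e + 1) n → K) (θ0 : Idx (e + 1) n) (hc : q θ0 ≠ 0)
    (hrel : ∀ (i' : Idx e n) (j' : Idx (e + 2) n), ∑ h : Fin (e + 2), (-1 : K) ^ (h.val + 1)
      * Qf q (Fin.snoc i'.1 (j'.1 h)) * Qf q (j'.1 ∘ h.succAbove) = 0) :
    ∃ A : Matrix (Fin n) (Fin (e + 1)) K, ∀ a : Fin (e + 1) → Fin n, Qf q a = q θ0 * Df A a := by
  classical
  obtain ⟨c, hcdef⟩ : ∃ c : K, c = q θ0 := ⟨_, rfl⟩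
  rw [← hcdef] at hc ⊢
  obtain ⟨A, hAdef⟩ : ∃ A : Matrix (Fin n) (Fin (e + 1)) K,
      ∀ r t, A r t = Qf q (Function.update θ0.1 t r) / c := ⟨Matrix.of fun r t => _, fun _ _ => rfl⟩
  refine ⟨A, ?_⟩
  obtain ⟨S, hSdef⟩ : ∃ S : Finset (Fin n), S = Finset.univ.image θ0.1 := ⟨_, rfl⟩
  have hScard : S.card = e + 1 := by rw [hSdef]; exact card_image_of_inj θ0.2.injective
  have hA1 : A.submatrix θ0.1 id = 1 := by
    ext s t
    rw [Matrix.submatrix_apply, id, hAdef]
    by_cases hst : s = t
    · subst hst
      rw [Function.update_eq_self, Qf_sorted, Matrix.one_apply_eq, ← hcdef]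
      exact div_self hc
    · rw [Matrix.one_apply_ne hst, Qf_not_inj, zero_div]
      intro hinj
      apply hst
      apply hinj
      rw [Function.update_self, Function.update_of_ne hst]
  have hDupd : ∀ t r, Df A (Function.update θ0.1 t r) = A r t := by
    intro t r
    unfold Df
    have : A.submatrix (Function.update θ0.1 t r) id
        = (1 : Matrix (Fin (e + 1)) (Fin (e + 1)) K).updateRow t (A r) := by
      rw [← hA1]
      ext s cc
      by_cases hs : s = t
      · subst hs; simp [Matrix.updateRow_self]
      · simp [Matrix.updateRow_ne hs, Function.update_of_ne hs]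
    rw [this, ← Matrix.cramer_transpose_apply, Matrix.transpose_one, Matrix.cramer_one]
    rfl
  -- the good tuples
  have good_perm : ∀ (b : Fin (e + 1) → Fin n) (σ : Equiv.Perm (Fin (e + 1))),
      Qf q b = c * Df A b → Qf q (b ∘ σ) = c * Df A (b ∘ σ) := by
    intro b σ hb
    rw [Qf_perm, Df_perm, hb]
    ring
  have good_of_image : ∀ (a b : Fin (e + 1) → Fin n), Function.Injective a →
      Finset.univ.image a = Finset.univ.image b → Qf q b = c * Df A b →
      Qf q a = c * Df A a := by
    intro a b ha hab hb
    obtain ⟨σ, rfl⟩ := exists_perm_of_image_eq ha hab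
    exact good_perm b σ hb
  have good_not_inj : ∀ a : Fin (e + 1) → Fin n, ¬ Function.Injective a →
      Qf q a = c * Df A a := by
    intro a ha
    rw [Qf_not_inj q a ha, Df_not_inj A a ha, mul_zero]
  have good_θ0 : Qf q θ0.1 = c * Df A θ0.1 := by
    unfold Df
    rw [Qf_sorted, hA1, Matrix.det_one, mul_one, hcdef]
  have good_upd : ∀ t r, Qf q (Function.update θ0.1 t r)
      = c * Df A (Function.update θ0.1 t r) := by
    intro t r
    rw [hDupd, hAdef, mul_div_cancel₀ _ hc]
  have main : ∀ k : ℕ, ∀ a : Fin (e + 1) → Fin n, Function.Injective a →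
      ((Finset.univ.image a) \ S).card = k → Qf q a = c * Df A a := by
    intro k
    induction k using Nat.strong_induction_on with
    | _ k ih =>
      intro a ha hk
      obtain ⟨T, hTdef⟩ : ∃ T : Finset (Fin n), T = Finset.univ.image a := ⟨_, rfl⟩
      rw [← hTdef] at hk
      have hTcard : T.card = e + 1 := by rw [hTdef]; exact card_image_of_inj ha
      rcases Nat.lt_or_ge k 2 with hk2 | hk2
      · rcases Nat.lt_or_ge k 1 with hk1 | hk1
        · -- k = 0
          have hk0 : k = 0 := by omega
          rw [hk0, Finset.card_eq_zero, Finset.sdiff_eq_empty_iff_subset] at hk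
          have hTS : T = S := Finset.eq_of_subset_of_card_le hk (by rw [hScard, hTcard])
          exact good_of_image a θ0.1 ha (by rw [← hTdef, hTS, hSdef]) good_θ0
        · -- k = 1
          have hk1' : k = 1 := by omega
          rw [hk1'] at hk
          obtain ⟨r, hr⟩ := Finset.card_eq_one.mp hk
          have hrmem : r ∈ T \ S := by rw [hr]; exact Finset.mem_singleton_self r
          rw [Finset.mem_sdiff] at hrmem
          obtain ⟨hrT, hrS⟩ := hrmem
          have hcard2 : (S \ T).card = 1 := by
            have h1 := Finset.card_sdiff_add_card_inter T S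
            have h2 := Finset.card_sdiff_add_card_inter S T
            rw [Finset.inter_comm] at h2
            omega
          obtain ⟨x, hx⟩ := Finset.card_eq_one.mp hcard2
          have hxmem : x ∈ S \ T := by rw [hx]; exact Finset.mem_singleton_self x
          rw [Finset.mem_sdiff] at hxmem
          obtain ⟨hxS, hxT⟩ := hxmem
          rw [hSdef, Finset.mem_image] at hxS
          obtain ⟨t, _, ht⟩ := hxS
          have himg : Finset.univ.image (Function.update θ0.1 t r) = T := by
            ext y
            simp only [Finset.mem_image, Finset.mem_univ, true_and]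
            constructor
            · rintro ⟨s, rfl⟩
              by_cases hs : s = t
              · subst hs; rw [Function.update_self]; exact hrT
              · rw [Function.update_of_ne hs]
                have hsS : θ0.1 s ∈ S := by
                  rw [hSdef]; exact Finset.mem_image_of_mem _ (Finset.mem_univ s)
                by_contra hnT
                have : θ0.1 s ∈ S \ T := Finset.mem_sdiff.mpr ⟨hsS, hnT⟩
                rw [hx, Finset.mem_singleton, ← ht] at this
                exact hs (θ0.2.injective this)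
            · intro hyT
              by_cases hyS : y ∈ S
              · rw [hSdef, Finset.mem_image] at hyS
                obtain ⟨s, _, hs⟩ := hyS
                refine ⟨s, ?_⟩
                have hst : s ≠ t := by
                  intro hst
                  apply hxT
                  rw [← ht, ← hst, hs]
                  exact hyT
                rw [Function.update_of_ne hst, hs]
              · have : y ∈ T \ S := Finset.mem_sdiff.mpr ⟨hyT, hyS⟩
                rw [hr, Finset.mem_singleton] at this
                exact ⟨t, by rw [Function.update_self, this]⟩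
          exact good_of_image a _ ha (by rw [himg, hTdef]) (good_upd t r)
      · -- k ≥ 2
        obtain ⟨r, hr⟩ : (T \ S).Nonempty := Finset.card_pos.mp (by omega)
        rw [Finset.mem_sdiff] at hr
        obtain ⟨hrT, hrS⟩ := hr
        have hI'card : (T.erase r).card = e := by
          rw [Finset.card_erase_of_mem hrT, hTcard]; rfl
        have hJ'card : (insert r S).card = e + 2 := by
          rw [Finset.card_insert_of_notMem hrS, hScard]
        obtain ⟨i', hi'⟩ := exists_idx_of_card (T.erase r) hI'card
        obtain ⟨j', hj'⟩ := exists_idx_of_card (insert r S) hJ'card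
        have hj'inj : Function.Injective j'.1 := j'.2.injective
        obtain ⟨hr', hhr⟩ : ∃ h, j'.1 h = r := by
          have : r ∈ Finset.univ.image j'.1 := by rw [hj']; exact Finset.mem_insert_self r S
          obtain ⟨h, _, hh⟩ := Finset.mem_image.mp this
          exact ⟨h, hh⟩
        have key : ∀ h, h ≠ hr' → Qf q (Fin.snoc i'.1 (j'.1 h)) * Qf q (j'.1 ∘ h.succAbove)
            = (c * Df A (Fin.snoc i'.1 (j'.1 h))) * (c * Df A (j'.1 ∘ h.succAbove)) := by
          intro h hne
          have hxr : j'.1 h ≠ r := fun hh => hne (hj'inj (hh.trans hhr.symm))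
          have hxS : j'.1 h ∈ S := by
            have : j'.1 h ∈ insert r S := by
              rw [← hj']; exact Finset.mem_image_of_mem _ (Finset.mem_univ h)
            exact (Finset.mem_insert.mp this).resolve_left hxr
          have g1 : Qf q (Fin.snoc i'.1 (j'.1 h)) = c * Df A (Fin.snoc i'.1 (j'.1 h)) := by
            by_cases hxT : j'.1 h ∈ T
            · apply good_not_inj
              have : j'.1 h ∈ Finset.univ.image i'.1 := by
                rw [hi']; exact Finset.mem_erase.mpr ⟨hxr, hxT⟩
              obtain ⟨s, _, hs⟩ := Finset.mem_image.mp this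
              intro hinj
              have h2 : (Fin.snoc i'.1 (j'.1 h) : Fin (e + 1) → Fin n) (Fin.castSucc s)
                  = (Fin.snoc i'.1 (j'.1 h) : Fin (e + 1) → Fin n) (Fin.last e) := by
                simp [hs]
              exact (Fin.castSucc_lt_last s).ne (hinj h2)
            · have himg : Finset.univ.image (Fin.snoc i'.1 (j'.1 h) : Fin (e + 1) → Fin n)
                  = insert (j'.1 h) (T.erase r) := by rw [image_snoc, hi']
              have hnotmem : j'.1 h ∉ T.erase r := fun hh => hxT (Finset.mem_of_mem_erase hh)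
              have hinj : Function.Injective (Fin.snoc i'.1 (j'.1 h) : Fin (e + 1) → Fin n) := by
                apply injective_of_card_image'
                rw [himg, Finset.card_insert_of_notMem hnotmem, hI'card]
              have hsd : (insert (j'.1 h) (T.erase r)) \ S = (T \ S).erase r := by
                ext y
                simp only [Finset.mem_sdiff, Finset.mem_insert, Finset.mem_erase]
                constructor
                · rintro ⟨hy | ⟨hy1, hy2⟩, hyS⟩
                  · exact absurd (hy ▸ hxS) hyS
                  · exact ⟨hy1, hy2, hyS⟩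
                · rintro ⟨hy1, hy2, hyS⟩
                  exact ⟨Or.inr ⟨hy1, hy2⟩, hyS⟩
              refine ih (k - 1) (by omega) _ hinj ?_
              rw [himg, hsd, Finset.card_erase_of_mem (Finset.mem_sdiff.mpr ⟨hrT, hrS⟩), hk]
          have g2 : Qf q (j'.1 ∘ h.succAbove) = c * Df A (j'.1 ∘ h.succAbove) := by
            have hinj : Function.Injective (j'.1 ∘ h.succAbove) :=
              hj'inj.comp (Fin.strictMono_succAbove h).injective
            have himg : Finset.univ.image (j'.1 ∘ h.succAbove) = (insert r S).erase (j'.1 h) := by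
              rw [image_comp_succAbove _ hj'inj, hj']
            have hsd : ((insert r S).erase (j'.1 h)) \ S = {r} := by
              ext y
              simp only [Finset.mem_sdiff, Finset.mem_insert, Finset.mem_erase,
                Finset.mem_singleton]
              constructor
              · rintro ⟨⟨_, hy | hy⟩, hyS⟩
                · exact hy
                · exact absurd hy hyS
              · rintro rfl
                exact ⟨⟨fun hh => hxr hh.symm, Or.inl rfl⟩, hrS⟩
            refine ih 1 (by omega) _ hinj ?_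
            rw [himg, hsd, Finset.card_singleton]
          rw [g1, g2]
        -- the distinguished term
        have hsn_img : Finset.univ.image (Fin.snoc i'.1 r : Fin (e + 1) → Fin n) = T := by
          rw [image_snoc, hi', Finset.insert_erase hrT]
        have hθ0 : j'.1 ∘ hr'.succAbove = θ0.1 := by
          apply strictMono_unique _ _ (j'.2.comp (Fin.strictMono_succAbove hr')) θ0.2
          rw [image_comp_succAbove _ hj'inj, hj', hhr, Finset.erase_insert hrS, hSdef]
        have hQ := hrel i' j'
        have hD := plucker_Df A i'.1 j'.1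
        have hD' : ∑ h : Fin (e + 2), (-1 : K) ^ (h.val + 1)
            * ((c * Df A (Fin.snoc i'.1 (j'.1 h))) * (c * Df A (j'.1 ∘ h.succAbove))) = 0 := by
          have h3 : ∀ h : Fin (e + 2), (-1 : K) ^ (h.val + 1)
              * ((c * Df A (Fin.snoc i'.1 (j'.1 h))) * (c * Df A (j'.1 ∘ h.succAbove)))
              = c ^ 2 * ((-1 : K) ^ (h.val + 1) * Df A (Fin.snoc i'.1 (j'.1 h))
                * Df A (j'.1 ∘ h.succAbove)) := by
            intro h; ring
          simp_rw [h3]
          rw [← Finset.mul_sum, hD, mul_zero]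
        have hdiff : ∑ h : Fin (e + 2), ((-1 : K) ^ (h.val + 1)
            * (Qf q (Fin.snoc i'.1 (j'.1 h)) * Qf q (j'.1 ∘ h.succAbove))
            - (-1 : K) ^ (h.val + 1) * ((c * Df A (Fin.snoc i'.1 (j'.1 h)))
              * (c * Df A (j'.1 ∘ h.succAbove)))) = 0 := by
          rw [Finset.sum_sub_distrib, hD', sub_zero, ← hQ]
          apply Finset.sum_congr rfl
          intro h _
          ring
        rw [Finset.sum_eq_single hr'] at hdiff
        · rw [hhr, hθ0, good_θ0] at hdiff
          have hDθ0 : Df A θ0.1 = 1 := by unfold Df; rw [hA1, Matrix.det_one]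
          rw [hDθ0, mul_one, ← mul_sub] at hdiff
          have hpow : (-1 : K) ^ (hr'.val + 1) ≠ 0 := pow_ne_zero _ (by norm_num)
          have h4 := (mul_eq_zero.mp hdiff).resolve_left hpow
          have h5 : Qf q (Fin.snoc i'.1 r) = c * Df A (Fin.snoc i'.1 r) := by
            have h6 : (Qf q (Fin.snoc i'.1 r) - c * Df A (Fin.snoc i'.1 r)) * c = 0 := by
              rw [← h4]; ring
            exact sub_eq_zero.mp ((mul_eq_zero.mp h6).resolve_right hc)
          exact good_of_image a _ ha (by rw [hsn_img, hTdef]) h5
        · intro h _ hne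
          rw [key h hne, sub_self]
        · intro habs
          exact absurd (Finset.mem_univ _) habs
  intro a
  by_cases ha : Function.Injective a
  · exact main _ a ha rfl
  · exact good_not_inj a ha

end main


open W4bk4grassmannian in
/-- The Grassmannian is cut out set-theoretically by the Plücker quadrics: let K be a field, e, n
natural numbers, and q : I(e+1,n) → K a nonzero vector (a point of the projective space of the
Plücker embedding of G(e+1,n)). Then q is the vector of (e+1) × (e+1) row-minors of some n × (e+1)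
matrix over K if and only if all the quadrics attached to i' ∈ I(e,n), j' ∈ I(e+2,n) (the signed
sums Σ_h (-1)^(h+1) [i', j'_h] [j' with j'_h removed], brackets of arbitrary tuples meaning signed
sorted coordinates, zero on repeated rows) vanish at q. (The published statement is over an
algebraically closed field; this row allows any field K.) -/
theorem result (K : Type u) [Field K] (e n : ℕ)
    (q : Idx (e + 1) n → K) (hq : q ≠ 0) :
    (∀ (i' : Idx e n) (j' : Idx (e + 2) n), MvPolynomial.eval q (quadric K i' j') = 0) ↔
      ∃ A : Matrix (Fin n) (Fin (e + 1)) K, ∀ θ : Idx (e + 1) n, q θ = (A.submatrix θ.1 id).det := by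
  classical
  constructor
  · intro hquad
    obtain ⟨θ0, hθ0⟩ := Function.ne_iff.mp hq
    rw [Pi.zero_apply] at hθ0
    have hrel : ∀ (i' : Idx e n) (j' : Idx (e + 2) n), ∑ h : Fin (e + 2), (-1 : K) ^ (h.val + 1)
        * Qf q (Fin.snoc i'.1 (j'.1 h)) * Qf q (j'.1 ∘ h.succAbove) = 0 := by
      intro i' j'
      rw [← eval_quadric]
      exact hquad i' j'
    obtain ⟨A, hA⟩ := forward q θ0 hθ0 hrel
    refine ⟨A.updateCol 0 (fun r => q θ0 * A r 0), fun θ => ?_⟩
    have h1 : (A.updateCol 0 (fun r => q θ0 * A r 0)).submatrix θ.1 id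
        = (A.submatrix θ.1 id).updateCol 0 (q θ0 • fun s => (A.submatrix θ.1 id) s 0) := by
      ext s t
      by_cases ht : t = 0
      · subst ht
        simp [Matrix.updateCol_self]
      · simp [Matrix.updateCol_ne ht]
    rw [h1, Matrix.det_updateCol_smul, Matrix.updateCol_eq_self, ← Qf_sorted q θ, hA θ.1]
    rfl
  · rintro ⟨A, hA⟩ i' j'
    rw [eval_quadric]
    have hQD : ∀ a, Qf q a = Df A a := Qf_eq_Df q A (fun θ => hA θ)
    simp_rw [hQD]
    exact plucker_Df A i'.1 j'.1

end Groth.Agent.S11256
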