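import Groth.Statements.S11257
import Mathlib.RingTheory.Regular.RegularSequence
import Mathlib.RingTheory.Ideal.Quotient.Operations

set_option autoImplicit false
universe u
open W4bk4grassmannian

namespace Groth.Agent.S11257

open RingTheory.Sequence Ideal

section aux

variable {A : Type u} [CommRing A]

lemma mk_mem_smul_top (I F : Ideal A) (a : A) :
    (Ideal.Quotient.mk I a : A ⧸ I) ∈ (F • ⊤ : Submodule A (A ⧸ I)) ↔ a ∈ F ⊔ I := by
  rw [Ideal.smul_top_eq_map, Submodule.restrictScalars_mem]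
  exact Ideal.mem_quotient_iff_mem_sup

lemma weaklyRegular_quot_iff (I : Ideal A) (rs : List A) :
    IsWeaklyRegular (A ⧸ I) rs ↔ ∀ i (h : i < rs.length), ∀ a : A,
      rs[i] * a ∈ ofList (rs.take i) ⊔ I → a ∈ ofList (rs.take i) ⊔ I := by
  rw [isWeaklyRegular_iff]
  apply forall_congr'
  intro i
  apply forall_congr'
  intro h
  rw [isSMulRegular_quotient_iff_mem_of_smul_mem]
  constructor
  · intro H a ha
    have := H (Ideal.Quotient.mk I a) (by
      have h1 : rs[i] • (Ideal.Quotient.mk I a : A ⧸ I) = Ideal.Quotient.mk I (rs[i] * a) := rfl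
      rw [h1, mk_mem_smul_top]
      exact ha)
    rwa [mk_mem_smul_top] at this
  · intro H x hx
    obtain ⟨a, rfl⟩ := Ideal.Quotient.mk_surjective x
    have h1 : rs[i] • (Ideal.Quotient.mk I a : A ⧸ I) = Ideal.Quotient.mk I (rs[i] * a) := rfl
    rw [h1, mk_mem_smul_top] at hx
    rw [mk_mem_smul_top]
    exact H a hx

/-- the key identity: if `x` is regular modulo `I + J` then `(I + x) ∩ (J + x) = (I ∩ J) + x` -/
lemma inf_sup_span (I J : Ideal A) (x : A)
    (hx : ∀ a, x * a ∈ I ⊔ J → a ∈ I ⊔ J) :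
    (I ⊔ Ideal.span {x}) ⊓ (J ⊔ Ideal.span {x}) = (I ⊓ J) ⊔ Ideal.span {x} := by
  apply le_antisymm
  · intro u hu
    obtain ⟨hu1, hu2⟩ := hu
    obtain ⟨i, hi, y, hy, rfl⟩ := Submodule.mem_sup.1 hu1
    obtain ⟨a, rfl⟩ := Ideal.mem_span_singleton'.1 hy
    obtain ⟨j, hj, z, hz, hjz⟩ := Submodule.mem_sup.1 hu2
    obtain ⟨b, rfl⟩ := Ideal.mem_span_singleton'.1 hz
    -- i + a x = j + b x
    have h1 : x * (b - a) ∈ I ⊔ J := by
      have : x * (b - a) = i - j := by linear_combination hjz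
      rw [this]
      exact Ideal.sub_mem _ (Ideal.mem_sup_left hi) (Ideal.mem_sup_right hj)
    obtain ⟨i₁, hi₁, j₁, hj₁, hij⟩ := Submodule.mem_sup.1 (hx _ h1)
    have hc : i - x * i₁ ∈ I ⊓ J := by
      refine ⟨Ideal.sub_mem _ hi (I.mul_mem_left _ hi₁), ?_⟩
      have : i - x * i₁ = j + x * j₁ := by linear_combination -hjz - x * hij
      rw [this]
      exact Ideal.add_mem _ hj (J.mul_mem_left _ hj₁)
    have : i + a * x = (i - x * i₁) + (a + i₁) * x := by ring
    rw [this]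
    exact Ideal.add_mem _ (Ideal.mem_sup_left hc)
      (Ideal.mem_sup_right (Ideal.mem_span_singleton'.2 ⟨_, rfl⟩))
  · exact le_inf (sup_le_sup_right inf_le_left _) (sup_le_sup_right inf_le_right _)

lemma ofList_take_succ (rs : List A) (i : ℕ) (h : i < rs.length) :
    ofList (rs.take (i + 1)) = ofList (rs.take i) ⊔ Ideal.span {rs[i]} := by
  rw [List.take_succ_eq_append_getElem h, ofList_append, ofList_singleton]

/-- main ideal-theoretic statement -/
lemma key (I J : Ideal A) (rs : List A)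
    (hIJ : ∀ i (h : i + 1 < rs.length), ∀ a : A,
      rs[i] * a ∈ ofList (rs.take i) ⊔ (I ⊔ J) → a ∈ ofList (rs.take i) ⊔ (I ⊔ J)) :
    ∀ i, i < rs.length →
      (ofList (rs.take i) ⊔ I) ⊓ (ofList (rs.take i) ⊔ J) = ofList (rs.take i) ⊔ (I ⊓ J) := by
  intro i
  induction i with
  | zero =>
    intro _
    rw [List.take_zero, ofList_nil, bot_sup_eq, bot_sup_eq, bot_sup_eq]
  | succ i ih =>
    intro h
    have hi : i < rs.length := by omega
    have ih' := ih hi
    rw [ofList_take_succ rs i hi]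
    set F := ofList (rs.take i) with hF
    have h1 := inf_sup_span (F ⊔ I) (F ⊔ J) rs[i] (by
      intro a ha
      have e : (F ⊔ I) ⊔ (F ⊔ J) = F ⊔ (I ⊔ J) := by
        rw [sup_sup_sup_comm, sup_idem]
      rw [e] at ha ⊢
      exact hIJ i h a ha)
    rw [ih'] at h1
    have e1 : F ⊔ Ideal.span {rs[i]} ⊔ I = F ⊔ I ⊔ Ideal.span {rs[i]} := by
      rw [sup_assoc, sup_assoc, sup_comm I]
    have e2 : F ⊔ Ideal.span {rs[i]} ⊔ J = F ⊔ J ⊔ Ideal.span {rs[i]} := by
      rw [sup_assoc, sup_assoc, sup_comm J]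
    have e3 : F ⊔ Ideal.span {rs[i]} ⊔ (I ⊓ J) = F ⊔ (I ⊓ J) ⊔ Ideal.span {rs[i]} := by
      rw [sup_assoc, sup_assoc, sup_comm (I ⊓ J)]
    rw [e1, e2, e3]
    exact h1

end aux

/-- Let A be a Noetherian local integral domain with maximal ideal m, I and J ideals of A, d ≥ 1, and
f_1, …, f_d ∈ m. Assume depth A/(I+J) ≥ d - 1, depth A/I ≥ d and depth A/J ≥ d (depths of the
quotients as A-modules), that f_1, …, f_d is a regular sequence on A/I and on A/J, and that f_1, …,
f_{d-1} is a regular sequence on A/(I+J). Then f_1, …, f_d is a regular sequence on A/(I ∩ J). -/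
theorem result (A : Type u) [CommRing A] [IsDomain A]
    [IsNoetherianRing A] [IsLocalRing A] (I J : Ideal A) (d : ℕ) (hd : 0 < d) (f : Fin d → A)
    (hf : ∀ k, f k ∈ IsLocalRing.maximalIdeal A)
    (hIJd : ((d - 1 : ℕ) : ℕ∞) ≤ LocCoh.depth A (A ⧸ (I ⊔ J)))
    (hId : (d : ℕ∞) ≤ LocCoh.depth A (A ⧸ I)) (hJd : (d : ℕ∞) ≤ LocCoh.depth A (A ⧸ J))
    (hI : RingTheory.Sequence.IsRegular (A ⧸ I) (List.ofFn f))
    (hJ : RingTheory.Sequence.IsRegular (A ⧸ J) (List.ofFn f))
    (hIJ : RingTheory.Sequence.IsRegular (A ⧸ (I ⊔ J)) ((List.ofFn f).take (d - 1))) :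
    RingTheory.Sequence.IsRegular (A ⧸ (I ⊓ J)) (List.ofFn f) := by
  have hmem : ∀ r ∈ List.ofFn f, r ∈ IsLocalRing.maximalIdeal A := by
    intro r hr
    rw [List.mem_ofFn] at hr
    obtain ⟨k, rfl⟩ := hr
    exact hf k
  have : Nontrivial (A ⧸ I) := hI.nontrivial
  have hIne : I ≠ ⊤ := Ideal.Quotient.nontrivial_iff.1 inferInstance
  have : Nontrivial (A ⧸ (I ⊓ J)) :=
    Ideal.Quotient.nontrivial_iff.2 (fun h => hIne (top_le_iff.1 (h ▸ inf_le_left)))
  rw [IsLocalRing.isRegular_iff_isWeaklyRegular_of_subset_maximalIdeal hmem]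
  have hI' := (weaklyRegular_quot_iff I _).1 hI.toIsWeaklyRegular
  have hJ' := (weaklyRegular_quot_iff J _).1 hJ.toIsWeaklyRegular
  have hIJ' := (weaklyRegular_quot_iff (I ⊔ J) _).1 hIJ.toIsWeaklyRegular
  set rs := List.ofFn f with hrs
  have hlen : rs.length = d := by rw [hrs, List.length_ofFn]
  have hkey := key I J rs (by
    intro i h a ha
    have hi' : i < (rs.take (d - 1)).length := by
      rw [List.length_take, hlen]; omega
    have h1 := hIJ' i hi' a
    have e1 : (rs.take (d - 1))[i] = rs[i] := by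
      rw [List.getElem_take]
    have e2 : (rs.take (d - 1)).take i = rs.take i := by
      rw [List.take_take, min_eq_left (by omega)]
    rw [e1, e2] at h1
    exact h1 ha)
  rw [weaklyRegular_quot_iff]
  intro i h a ha
  have hk := hkey i h
  rw [← hk]
  refine ⟨hI' i h a ?_, hJ' i h a ?_⟩
  · have hle : ofList (rs.take i) ⊔ (I ⊓ J) ≤ ofList (rs.take i) ⊔ I :=
      sup_le_sup_left inf_le_left _
    exact hle ha
  · have hle : ofList (rs.take i) ⊔ (I ⊓ J) ≤ ofList (rs.take i) ⊔ J :=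
      sup_le_sup_left inf_le_right _
    exact hle ha

end Groth.Agent.S11257
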