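import Groth.Statements.S1126
import Mathlib.AlgebraicGeometry.Morphisms.FlatDescent
import Mathlib.AlgebraicGeometry.Morphisms.UniversallyOpen
import Mathlib.AlgebraicGeometry.Morphisms.UniversallyInjective
-- import your own Groth.Agent.* helpers here

set_option autoImplicit false
open CategoryTheory CategoryTheory.Limits AlgebraicGeometry Opposite
universe u
open Desc

namespace Groth.Agent.S1126

open MorphismProperty in
lemma isUnivHomeo_eq : FlatMor.IsUnivHomeo.{u} =
    ((@UniversallyInjective : MorphismProperty Scheme.{u}) ⊓ @Surjective ⊓ @UniversallyOpen :
      MorphismProperty Scheme.{u}) := by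
  unfold FlatMor.IsUnivHomeo
  have : (topologically (fun f => IsHomeomorph f) : MorphismProperty Scheme.{u}) =
      topologically (Function.Injective ·) ⊓ topologically Function.Surjective ⊓
        topologically @IsOpenMap := by
    ext X Y f
    constructor
    · intro hf
      exact ⟨⟨hf.injective, hf.surjective⟩, hf.isOpenMap⟩
    · rintro ⟨⟨h1, h2⟩, h3⟩
      exact ⟨f.continuous, h3, h1, h2⟩
  rw [this, universally_inf, universally_inf, ← universallyInjective_eq,
    ← surjective_eq_topologically, ← UniversallyOpen.eq,
    IsStableUnderBaseChange.universally_eq (P := @Surjective)]

/-- If the base change of a morphism along a quasi-compact flat surjective morphism to its target is a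
universal homeomorphism, then the morphism is a universal homeomorphism. (Stated for a single
quasi-compact flat surjective base change; combined with Zariski-locality on the target this gives
the fpqc-local form.) -/
theorem result :
    MorphismProperty.DescendsAlong (FlatMor.IsUnivHomeo.{u})
      (@Surjective ⊓ @Flat ⊓ @QuasiCompact : MorphismProperty Scheme.{u}) := by
  rw [isUnivHomeo_eq]
  have h12 : MorphismProperty.DescendsAlong
      (@UniversallyInjective ⊓ @Surjective : MorphismProperty Scheme.{u})
      (@Surjective ⊓ @Flat ⊓ @QuasiCompact : MorphismProperty Scheme.{u}) := by
    apply MorphismProperty.DescendsAlong.inf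
  exact MorphismProperty.DescendsAlong.inf

end Groth.Agent.S1126
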