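import Groth.Statements.S11262
import Mathlib
-- import your own Groth.Agent.* helpers here

set_option autoImplicit false
universe u v
open W4bk4grassmannian

namespace Groth.Agent.S11262

lemma card_support_eq {L : Type*} [Fintype L] [DecidableEq L] (C : Finset L) (hC : C.Nonempty)
    (m : ℕ) (hm : 1 ≤ m) :
    ((Finset.univ.finsuppAntidiag m).filter (fun s : L →₀ ℕ => s.support = C)).card =
      (m - 1).choose (C.card - 1) := by
  classical
  have hc1 : 1 ≤ C.card := Finset.card_pos.mpr hC
  -- basic facts about members
  have hmem : ∀ s : L →₀ ℕ, s ∈ (Finset.univ.finsuppAntidiag m).filter (fun s : L →₀ ℕ => s.support = C) ↔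
      (∑ a ∈ C, s a = m ∧ s.support = C) := by
    intro s
    rw [Finset.mem_filter, Finset.mem_finsuppAntidiag]
    constructor
    · rintro ⟨⟨h1, _⟩, h2⟩
      refine ⟨?_, h2⟩
      rw [← h1]
      apply Finset.sum_subset (Finset.subset_univ _)
      intro a _ ha
      rw [← h2, Finsupp.mem_support_iff, not_not] at ha
      exact ha
    · rintro ⟨h1, h2⟩
      refine ⟨⟨?_, Finset.subset_univ _⟩, h2⟩
      rw [← h1]
      symm
      apply Finset.sum_subset (Finset.subset_univ _)
      intro a _ ha
      rw [← h2, Finsupp.mem_support_iff, not_not] at ha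
      exact ha
  by_cases hlt : m < C.card
  · rw [Nat.choose_eq_zero_of_lt (by omega), Finset.card_eq_zero, Finset.eq_empty_iff_forall_notMem]
    intro s hs
    rw [hmem] at hs
    have h1 : ∑ a ∈ C, 1 ≤ ∑ a ∈ C, s a := by
      apply Finset.sum_le_sum
      intro a ha
      rw [← hs.2, Finsupp.mem_support_iff] at ha
      omega
    rw [Finset.sum_const, smul_eq_mul, mul_one, hs.1] at h1
    omega
  · have hle : C.card ≤ m := not_lt.mp hlt
    let ind : L →₀ ℕ := Finsupp.onFinset C (fun a => if a ∈ C then 1 else 0)
      (by intro a ha; by_contra h; simp [h] at ha)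
    have hind : ∀ a, ind a = if a ∈ C then 1 else 0 := fun a => rfl
    have hcard : (C.finsuppAntidiag (m - C.card)).card = (m - 1).choose (C.card - 1) := by
      rw [Finset.card_finsuppAntidiag_nat_eq_choose]
      have e1 : C.card + (m - C.card) - 1 = m - 1 := by omega
      have e2 : m - C.card = (m - 1) - (C.card - 1) := by omega
      rw [e1, e2]
      exact Nat.choose_symm (by omega)
    rw [← hcard]
    refine Finset.card_nbij' (fun s => s - ind) (fun t => t + ind) ?_ ?_ ?_ ?_
    · intro s hs
      have hs' := (hmem s).mp (Finset.mem_coe.mp hs)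
      rw [Finset.mem_coe, Finset.mem_finsuppAntidiag]
      have hpos : ∀ a ∈ C, 1 ≤ s a := by
        intro a ha
        rw [← hs'.2, Finsupp.mem_support_iff] at ha
        omega
      constructor
      · have h1 : ∑ a ∈ C, (s - ind) a = ∑ a ∈ C, (s a - 1) := by
          refine Finset.sum_congr rfl fun a ha => ?_
          rw [Finsupp.tsub_apply, hind, if_pos ha]
        rw [h1, Finset.sum_tsub_distrib C hpos, hs'.1, Finset.sum_const, smul_eq_mul, mul_one]
      · intro a ha
        rw [Finsupp.mem_support_iff, Finsupp.tsub_apply] at ha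
        rw [← hs'.2, Finsupp.mem_support_iff]
        omega
    · intro t ht
      rw [Finset.mem_coe, Finset.mem_finsuppAntidiag] at ht
      rw [Finset.mem_coe, hmem]
      have hout : ∀ a, a ∉ C → t a = 0 := by
        intro a ha
        by_contra h
        exact ha (ht.2 (Finsupp.mem_support_iff.mpr h))
      constructor
      · have h1 : ∑ a ∈ C, (t + ind) a = ∑ a ∈ C, (t a + 1) := by
          refine Finset.sum_congr rfl fun a ha => ?_
          rw [Finsupp.add_apply, hind, if_pos ha]
        rw [h1, Finset.sum_add_distrib, ht.1, Finset.sum_const, smul_eq_mul, mul_one]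
        omega
      · ext a
        rw [Finsupp.mem_support_iff, Finsupp.add_apply, hind]
        by_cases ha : a ∈ C
        · simp [ha]
        · simp [ha, hout a ha]
    · intro s hs
      have hs' := (hmem s).mp (Finset.mem_coe.mp hs)
      ext a
      show (s - ind + ind) a = s a
      rw [Finsupp.add_apply, Finsupp.tsub_apply, hind]
      by_cases ha : a ∈ C
      · have : 1 ≤ s a := by
          rw [← hs'.2, Finsupp.mem_support_iff] at ha
          omega
        rw [if_pos ha]; omega
      · rw [if_neg ha]; omega
    · intro t _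
      show t + ind - ind = t
      exact add_tsub_cancel_right t ind

/-- Hilbert function of the Stanley–Reisner ring of a finite distributive lattice: let K be a field, L a
finite distributive lattice, R = K[x_α : α ∈ L], I ⊆ R the ideal generated by the products x_α x_β
over the incomparable (skew) pairs α, β, and m ≥ 1. Then the image in R/I of the homogeneous
polynomials of degree m has K-dimension equal to the sum, over the nonempty chains C ⊆ L, of the
binomial coefficient (m - 1 choose |C| - 1). (The published statement is that the degree of R/I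
equals the number of maximal chains of L; this row states the Hilbert function from which that
degree is read off.) -/
theorem result (K : Type u) [Field K] (L : Type v) [DistribLattice L]
    [Fintype L] (m : ℕ) (hm : 1 ≤ m) :
    Module.finrank K ((MvPolynomial.homogeneousSubmodule L K m).map
        (Ideal.Quotient.mkₐ K (Ideal.span {f : MvPolynomial L K | ∃ a b : L, ¬ a ≤ b ∧ ¬ b ≤ a ∧
          f = MvPolynomial.X a * MvPolynomial.X b})).toLinearMap) =
      ∑ᶠ C : {C : Finset L // C.Nonempty ∧ IsChain (fun a b : L => a ≤ b) (↑C : Set L)},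
        Nat.choose (m - 1) (C.1.card - 1) := by
  classical
  -- generating set as monomial image
  set T : Set (L →₀ ℕ) := {t | ∃ a b : L, ¬ a ≤ b ∧ ¬ b ≤ a ∧
    t = Finsupp.single a 1 + Finsupp.single b 1} with hT
  have hgen : {f : MvPolynomial L K | ∃ a b : L, ¬ a ≤ b ∧ ¬ b ≤ a ∧
      f = MvPolynomial.X a * MvPolynomial.X b} =
      (fun s => MvPolynomial.monomial s (1 : K)) '' T := by
    ext f
    constructor
    · rintro ⟨a, b, hab, hba, rfl⟩
      refine ⟨_, ⟨a, b, hab, hba, rfl⟩, ?_⟩
      simp only [MvPolynomial.X, MvPolynomial.monomial_mul, mul_one]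
    · rintro ⟨t, ⟨a, b, hab, hba, rfl⟩, rfl⟩
      exact ⟨a, b, hab, hba, by simp only [MvPolynomial.X, MvPolynomial.monomial_mul, mul_one]⟩
  rw [hgen]
  set I : Ideal (MvPolynomial L K) :=
    Ideal.span ((fun s => MvPolynomial.monomial s (1 : K)) '' T) with hI
  have hmemI : ∀ x : MvPolynomial L K, x ∈ I ↔ ∀ xi ∈ x.support, ∃ si ∈ T, si ≤ xi := by
    intro x; exact MvPolynomial.mem_ideal_span_monomial_image
  have hchain : ∀ d : L →₀ ℕ, (∃ si ∈ T, si ≤ d) ↔
      ¬ IsChain (fun a b : L => a ≤ b) (d.support : Set L) := by
    intro d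
    constructor
    · rintro ⟨_, ⟨a, b, hab, hba, rfl⟩, hle⟩ hch
      have hne : a ≠ b := fun h => hab (h ▸ le_refl a)
      have ha : a ∈ d.support := by
        rw [Finsupp.mem_support_iff]
        have h1 := hle a
        simp [Finsupp.single_apply, hne, hne.symm] at h1
        omega
      have hb : b ∈ d.support := by
        rw [Finsupp.mem_support_iff]
        have h1 := hle b
        simp [Finsupp.single_apply, hne, hne.symm] at h1
        omega
      rcases hch (Finset.mem_coe.mpr ha) (Finset.mem_coe.mpr hb) hne with h | h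
      · exact hab h
      · exact hba h
    · intro hnch
      rw [IsChain, Set.Pairwise] at hnch
      push Not at hnch
      obtain ⟨a, ha, b, hb, hne, hab, hba⟩ := hnch
      refine ⟨_, ⟨a, b, hab, hba, rfl⟩, ?_⟩
      have ha' : 1 ≤ d a := Nat.one_le_iff_ne_zero.mpr (Finsupp.mem_support_iff.mp ha)
      have hb' : 1 ≤ d b := Nat.one_le_iff_ne_zero.mpr (Finsupp.mem_support_iff.mp hb)
      intro x
      simp only [Finsupp.add_apply, Finsupp.single_apply]
      by_cases h1 : a = x
      · subst h1
        rw [if_pos rfl, if_neg (Ne.symm hne)]; exact ha'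
      · by_cases h2 : b = x
        · subst h2
          rw [if_neg h1, if_pos rfl]; exact hb'
        · rw [if_neg h1, if_neg h2]; exact Nat.zero_le _
  let S : Finset (L →₀ ℕ) := (Finset.univ.finsuppAntidiag m).filter
    (fun s => IsChain (fun a b : L => a ≤ b) (s.support : Set L))
  have hS : ∀ s, s ∈ S ↔ s.degree = m ∧ IsChain (fun a b : L => a ≤ b) (s.support : Set L) := by
    intro s
    simp only [S, Finset.mem_filter, Finset.mem_finsuppAntidiag, Finset.subset_univ, and_true,
      Finsupp.degree_eq_sum]
  let π := Ideal.Quotient.mkₐ K I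
  let v : S → (MvPolynomial L K ⧸ I) := fun s => π (MvPolynomial.monomial s.1 1)
  have hsm : ∀ (d : L →₀ ℕ) (r : K),
      π (MvPolynomial.monomial d r) = r • π (MvPolynomial.monomial d 1) := by
    intro d r
    rw [← map_smul, MvPolynomial.smul_monomial, smul_eq_mul, mul_one]
  have hspan : (MvPolynomial.homogeneousSubmodule L K m).map π.toLinearMap =
      Submodule.span K (Set.range v) := by
    apply le_antisymm
    · rintro _ ⟨p, hp, rfl⟩
      rw [SetLike.mem_coe, MvPolynomial.mem_homogeneousSubmodule] at hp
      rw [AlgHom.toLinearMap_apply]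
      have hp' := p.as_sum
      rw [hp', map_sum]
      refine Submodule.sum_mem _ fun d hd => ?_
      have hdeg : d.degree = m := by
        by_contra hne; exact (MvPolynomial.mem_support_iff.mp hd) (hp.coeff_eq_zero hne)
      by_cases hch : IsChain (fun a b : L => a ≤ b) (d.support : Set L)
      · rw [hsm]
        exact Submodule.smul_mem _ _
          (Submodule.subset_span ⟨⟨d, (hS d).mpr ⟨hdeg, hch⟩⟩, rfl⟩)
      · have hmem : MvPolynomial.monomial d (MvPolynomial.coeff d p) ∈ I := by
          rw [hmemI]
          intro xi hxi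
          have hxd : xi = d := by
            have h3 := MvPolynomial.support_monomial_subset hxi
            simpa using h3
          subst hxd; exact (hchain xi).mpr hch
        have h0 : π (MvPolynomial.monomial d (MvPolynomial.coeff d p)) = 0 :=
          Ideal.Quotient.eq_zero_iff_mem.mpr hmem
        rw [h0]; exact Submodule.zero_mem _
    · rw [Submodule.span_le]
      rintro _ ⟨s, rfl⟩
      exact ⟨MvPolynomial.monomial s.1 1,
        MvPolynomial.isHomogeneous_monomial 1 ((hS s.1).mp s.2).1, rfl⟩
  have hli : LinearIndependent K v := by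
    rw [Fintype.linearIndependent_iff]
    intro g hg s₀
    by_contra hne
    have h1 : π (∑ s : S, MvPolynomial.monomial s.1 (g s)) = 0 := by
      rw [map_sum, ← hg]
      refine Finset.sum_congr rfl fun s _ => ?_
      exact hsm s.1 (g s)
    have h2 : (∑ s : S, MvPolynomial.monomial s.1 (g s)) ∈ I :=
      Ideal.Quotient.eq_zero_iff_mem.mp h1
    rw [hmemI] at h2
    have hcoeff : MvPolynomial.coeff s₀.1 (∑ s : S, MvPolynomial.monomial s.1 (g s)) = g s₀ := by
      rw [MvPolynomial.coeff_sum, Finset.sum_eq_single s₀]
      · rw [MvPolynomial.coeff_monomial, if_pos rfl]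
      · intro s _ hs
        rw [MvPolynomial.coeff_monomial, if_neg]
        exact fun h => hs (Subtype.ext h)
      · intro h; exact (h (Finset.mem_univ _)).elim
    have hsupp : s₀.1 ∈ (∑ s : S, MvPolynomial.monomial s.1 (g s)).support := by
      rw [MvPolynomial.mem_support_iff, hcoeff]; exact hne
    exact ((hchain s₀.1).mp (h2 _ hsupp)) ((hS s₀.1).mp s₀.2).2
  rw [hspan, finrank_span_eq_card hli, Fintype.card_coe]
  -- combinatorics
  let chains : Finset (Finset L) := Finset.univ.filter
    (fun C : Finset L => C.Nonempty ∧ IsChain (fun a b : L => a ≤ b) (C : Set L))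
  have hfib : ∀ s ∈ S, s.support ∈ chains := by
    intro s hs
    rw [hS] at hs
    simp only [chains, Finset.mem_filter, Finset.mem_univ, true_and]
    refine ⟨?_, hs.2⟩
    rw [Finset.nonempty_iff_ne_empty, Ne, Finsupp.support_eq_empty]
    rintro rfl
    have h0 := hs.1
    rw [map_zero] at h0
    omega
  rw [Finset.card_eq_sum_card_fiberwise hfib, finsum_eq_sum_of_fintype,
    ← Finset.sum_subtype chains (by intro C; simp [chains])
      (fun C => (m - 1).choose (C.card - 1))]
  refine Finset.sum_congr rfl fun C hC => ?_
  simp only [chains, Finset.mem_filter, Finset.mem_univ, true_and] at hC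
  rw [← card_support_eq C hC.1 m hm]
  congr 1
  ext s
  simp only [Finset.mem_filter, S]
  constructor
  · rintro ⟨⟨h1, _⟩, h3⟩; exact ⟨h1, h3⟩
  · rintro ⟨h1, h3⟩; exact ⟨⟨h1, h3 ▸ hC.2⟩, h3⟩

end Groth.Agent.S11262
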