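import Groth.Statements.S11264
import Groth.Agent.Lib.Helper28.SmtDet2
import Mathlib.FieldTheory.IsAlgClosed.Basic

set_option autoImplicit false
universe u
open W4bk4grassmannian

namespace Groth.Agent.S11264

open W4bk4grassmannian in
/-- Determinantal varieties are normal Cohen–Macaulay and integral, with their dimension: let K be an
algebraically closed field, m, n ≥ 1, 1 ≤ t ≤ min(m, n), R = K[x_{ij}] the coordinate ring of m × n
matrices and I_t ⊆ R the ideal generated by the t × t minors of the generic matrix. Then R/I_t is an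
integral domain, integrally closed, Cohen–Macaulay, and of Krull dimension (t - 1)(m + n - t + 1). -/
theorem result (K : Type u) [Field K] [IsAlgClosed K] (m n t : ℕ)
    (hm : 0 < m) (hn : 0 < n) (ht : 1 ≤ t) (htm : t ≤ m) (htn : t ≤ n) :
    IsDomain (MvPolynomial (Fin m × Fin n) K ⧸ CAlgX.minorIdeal (genMatrix K m n) t) ∧
      IsIntegrallyClosed (MvPolynomial (Fin m × Fin n) K ⧸ CAlgX.minorIdeal (genMatrix K m n) t) ∧
      LocCoh.IsCohenMacaulayRing (MvPolynomial (Fin m × Fin n) K ⧸ CAlgX.minorIdeal (genMatrix K m n) t) ∧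
      ringKrullDim (MvPolynomial (Fin m × Fin n) K ⧸ CAlgX.minorIdeal (genMatrix K m n) t) =
        (((t - 1) * (m + n - t + 1) : ℕ) : WithBot ℕ∞) := by
  haveI : Infinite K := IsAlgClosed.instInfinite
  have ht' : 0 < t := ht
  refine ⟨Groth.Agent.Lib.Helper28.Smt.detRing_isDomain K hn ht' htn htm,
    Groth.Agent.Lib.Helper28.Smt.detRing_isIntegrallyClosed K hn ht' htn htm,
    Groth.Agent.Lib.Helper28.Smt.detRing_isCohenMacaulay K hn ht' htn htm, ?_⟩
  have h := Groth.Agent.Lib.Helper28.Smt.detRing_dim K hn ht' htn htm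
  rw [Nat.add_comm n m] at h
  exact h

end Groth.Agent.S11264
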