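import Groth.Statements.S2339
import Groth.Agent.Lib.Helper97.QuasiAffine
-- import your own Groth.Agent.* helpers here

set_option autoImplicit false
universe u
open CategoryTheory CategoryTheory.Limits AlgebraicGeometry
open EGA2

namespace Groth.Agent.S2339

/-- If f : X → Y is quasi-affine then so is its base change along any morphism Y' → Y. -/
theorem result {X Y Y' : Scheme.{u}} (f : X ⟶ Y) (hf : Mor2.IsQuasiAffine f) (g : Y' ⟶ Y) :
    Mor2.IsQuasiAffine (pullback.snd f g) := by
  obtain ⟨hfc, hf⟩ := hf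
  refine ⟨inferInstance, fun V' hV' => ?_⟩
  have hc := (pullback.snd f g).isCompact_preimage hV'.isCompact
  refine Groth.Agent.Lib.Helper97.QAff.isQuasiAffine_of_forall_exists_quasiAffine _ hc ?_
  intro x hx
  -- an affine open neighbourhood of `g (snd x)` in `Y`
  obtain ⟨V, hV, hgV, -⟩ := exists_isAffineOpen_mem_and_subset (X := Y)
    (x := g (pullback.snd f g x)) (U := ⊤) trivial
  have hmem : pullback.snd f g x ∈ g ⁻¹ᵁ V := hgV
  obtain ⟨h, hle, hh⟩ := hV'.exists_basicOpen_le (V := g ⁻¹ᵁ V) ⟨pullback.snd f g x, hmem⟩ hx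
  have e1 : (pullback f g).basicOpen ((pullback.snd f g).app V' h) =
      (pullback.snd f g) ⁻¹ᵁ Y'.basicOpen h := (Scheme.preimage_basicOpen (pullback.snd f g) h).symm
  refine ⟨(pullback.snd f g).app V' h, ?_, ?_⟩
  · have := hf V hV
    have := Groth.Agent.Lib.Helper97.QAff.isQuasiAffine_preimage_snd f g V (Y'.basicOpen h) hV
      (hV'.basicOpen h) hle
    exact Groth.Agent.Lib.Helper97.QAff.isQuasiAffine_of_eq e1
  · rw [e1]
    exact hh

end Groth.Agent.S2339
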