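import Groth.Statements.S1127
import Groth.Agent.Lib.Helper38.QAffDescent
import Groth.Agent.S2339

set_option autoImplicit false
open CategoryTheory CategoryTheory.Limits AlgebraicGeometry Opposite
universe u
open Desc

namespace Groth.Agent.S1127

/-- If the base change of a morphism along a quasi-compact, flat, surjective morphism is quasi-affine
(quasi-compact, with quasi-affine preimages of affine opens), then the morphism is quasi-affine.
(The published statement is the fpqc-local form; stated here for a single quasi-compact flat
surjective base change, from which that form follows by Zariski-locality on the target.) -/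
theorem result :
    MorphismProperty.DescendsAlong (fun _ _ f => Mor2.IsQuasiAffine f : MorphismProperty Scheme.{u})
      (@Surjective ⊓ @Flat ⊓ @QuasiCompact : MorphismProperty Scheme.{u}) := by
  have i79 := Groth.Agent.S0079.result.{u}
  constructor
  intro A X Y Z fst snd f g h hf hfst
  have hfs : Surjective f := hf.1.1
  have hff : Flat f := hf.1.2
  have hfq : QuasiCompact f := hf.2
  have hqc : QuasiCompact g :=
    MorphismProperty.of_isPullback_of_descendsAlong (P := @QuasiCompact)
      (Q := @Surjective ⊓ @Flat ⊓ @QuasiCompact) h hf hfst.1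
  refine ⟨hqc, fun V hV => ?_⟩
  -- an affine scheme `T` with a flat surjection onto `f ⁻¹ᵁ V`
  haveI : CompactSpace ↥(f ⁻¹ᵁ V).toScheme :=
    isCompact_iff_compactSpace.mp (QuasiCompact.isCompact_preimage (f := f) _ V.isOpen hV.isCompact)
  obtain ⟨T, p, hps, hpf, hT⟩ :=
    Scheme.exists_hom_isAffine_of_isZariskiLocalAtSource @Flat (f ⁻¹ᵁ V).toScheme
  haveI : IsAffine V.toScheme := hV
  let q : T ⟶ V.toScheme := p ≫ (f ∣_ V)
  let r : T ⟶ X := p ≫ (f ⁻¹ᵁ V).ι
  have hqr : q ≫ V.ι = r ≫ f := by
    simp only [q, r, Category.assoc, morphismRestrict_ι]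
  haveI : Surjective (f ∣_ V) :=
    MorphismProperty.of_isPullback (P := @Surjective) (isPullback_morphismRestrict f V).flip hfs
  haveI : Flat q := inferInstance
  haveI : Surjective q := inferInstance
  -- the base change of `fst` along `r`
  have hbc : Mor2.IsQuasiAffine (pullback.snd fst r) := Groth.Agent.S2339.result fst hfst r
  haveI hW : (pullback fst r).IsQuasiAffine := by
    have h1 := hbc.2 ⊤ (isAffineOpen_top T)
    have e : ((pullback.snd fst r) ⁻¹ᵁ ⊤ : (pullback fst r).Opens) = ⊤ := rfl
    rw [e] at h1
    exact Groth.Agent.Lib.Helper97.QAff.isQuasiAffine_of_iso (Scheme.topIso _).symm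
  -- the big pullback square
  have big : IsPullback (pullback.fst fst r ≫ snd) (pullback.snd fst r) g (r ≫ f) :=
    (IsPullback.of_hasPullback fst r).paste_horiz h.flip
  rw [← hqr] at big
  have sq2 : IsPullback (g ⁻¹ᵁ V).ι (g ∣_ V) g V.ι := (isPullback_morphismRestrict g V).flip
  have key := IsPullback.of_right' big sq2
  exact Groth.Agent.Lib.Helper38.QAffDescent.isQuasiAffine_of_isPullback key.flip


end Groth.Agent.S1127
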