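import Groth.Statements.S11270
import Groth.Agent.Lib.Helper28.SmtInterval
import Mathlib.FieldTheory.IsAlgClosed.Basic

set_option autoImplicit false
universe u
open W4bk4grassmannian

namespace Groth.Agent.S11270

open Groth.Agent.Lib.Helper28.Smt MvPolynomial

/-- the least element -/
def iota {d n : ℕ} (hdn : d < n) : Idx d n :=
  ⟨fun t => ⟨t.val, lt_trans t.isLt hdn⟩, fun _ _ h => h⟩

/-- the unique cover of the least element -/
def iota' {d n : ℕ} (hdn : d < n) : Idx d n :=
  ⟨fun t => if t.val + 1 = d then ⟨d, hdn⟩ else ⟨t.val, lt_trans t.isLt hdn⟩, by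
    intro s t hst
    have hst' : s.val < t.val := hst
    have hs : ¬ s.val + 1 = d := by have := t.isLt; omega
    simp only [hs, if_false]
    split_ifs with ht
    · rw [Fin.lt_def]; simp only; have := s.isLt; omega
    · rw [Fin.lt_def]; exact hst'⟩

lemma val_le {d n : ℕ} (θ : Idx d n) (t : Fin d) : t.val ≤ (θ.1 t).val :=
  strictMono_val_le θ.1 θ.2 t.val t.isLt

lemma iota_le {d n : ℕ} (hdn : d < n) (w : Idx d n) : iota hdn ≤ w := by
  intro t
  rw [Fin.le_def]
  exact val_le w t

lemma strictMono_gap {k m : ℕ} (f : Fin k → Fin m) (hf : StrictMono f) (t : Fin k) :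
    ∀ (j : ℕ) (hj : j ≤ t.val), (f ⟨t.val - j, by have := t.isLt; omega⟩).val + j ≤ (f t).val := by
  intro j
  induction j with
  | zero => intro _; simp
  | succ j ih =>
    intro hj
    have h1 := ih (by omega)
    have h2 : f ⟨t.val - (j + 1), by have := t.isLt; omega⟩ < f ⟨t.val - j, by have := t.isLt; omega⟩ :=
      hf (by rw [Fin.lt_def]; simp only; omega)
    have h3 : (f ⟨t.val - (j + 1), by have := t.isLt; omega⟩).val <
        (f ⟨t.val - j, by have := t.isLt; omega⟩).val := h2
    omega

lemma gap_le {d n : ℕ} (θ : Idx d n) (s t : Fin d) (hst : s.val ≤ t.val) :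
    (θ.1 s).val + (t.val - s.val) ≤ (θ.1 t).val := by
  have hs2 := strictMono_gap θ.1 θ.2 t (t.val - s.val) (by omega)
  have e : (⟨t.val - (t.val - s.val), by have := t.isLt; omega⟩ : Fin d) = s := by
    apply Fin.ext; simp only; omega
  rw [e] at hs2
  exact hs2

lemma not_iota'_le_iff {d n : ℕ} (hd : 0 < d) (hdn : d < n) (θ : Idx d n) :
    ¬ iota' hdn ≤ θ ↔ θ = iota hdn := by
  constructor
  · intro h
    have hex : ∃ t, θ.1 t < (iota' hdn).1 t := by
      by_contra hcon
      apply h
      intro t
      by_contra ht
      exact hcon ⟨t, not_le.1 ht⟩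
    obtain ⟨t, ht⟩ := hex
    have hge := val_le θ t
    have htd : t.val + 1 = d := by
      by_contra hne
      have : (iota' hdn).1 t = ⟨t.val, lt_trans t.isLt hdn⟩ := by
        unfold iota'; simp only [hne, if_false]
      rw [this, Fin.lt_def] at ht
      simp only at ht
      omega
    have hval : (θ.1 t).val = t.val := by
      have : (iota' hdn).1 t = ⟨d, hdn⟩ := by
        unfold iota'; simp only [htd, if_true]
      rw [this, Fin.lt_def] at ht
      simp only at ht
      omega
    apply Subtype.ext
    funext s
    apply Fin.ext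
    show (θ.1 s).val = s.val
    have hs1 := val_le θ s
    have hst : s.val ≤ t.val := by have := s.isLt; omega
    have hs2 := gap_le θ s t hst
    omega
  · intro h hle
    subst h
    have := hle ⟨d - 1, by omega⟩
    have e : (iota' hdn).1 ⟨d - 1, by omega⟩ = ⟨d, hdn⟩ := by
      unfold iota'
      have : d - 1 + 1 = d := by omega
      simp only [this, if_true]
    rw [e, Fin.le_def] at this
    change d ≤ d - 1 at this
    omega

open W4bk4grassmannian in
/-- The least Plücker coordinate is a prime element on every Schubert variety: let K be an algebraically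
closed field, 0 < d < n, and I(d,n) the strictly increasing maps Fin d → Fin n ordered entrywise; S
= K[X_θ : θ ∈ I(d,n)] is the Plücker polynomial ring and, for τ ∈ I(d,n), J(τ) ⊆ S is the ideal of
polynomials vanishing at the d × d row-minors of every n × d matrix over K whose minors on rows φ ≰
τ are zero (the homogeneous ideal of the Schubert variety X(τ) ⊆ G(d,n)). Let w ∈ I(d,n) and let ι =
(0, 1, …, d - 1) be the least element of I(d,n), written (1, …, d) in 1-based indexing. Then the
class of X_ι in S/J(w) is a prime element; it generates the kernel of the restriction to the section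
of X(w) by the opposite Schubert divisor. -/
theorem result (K : Type u) [Field K] [IsAlgClosed K] (d n : ℕ)
    (hd : 0 < d) (hdn : d < n) (w : Idx d n) :
    Prime (Ideal.Quotient.mk (schubertVanishing K d n w)
      (MvPolynomial.X (⟨fun t => ⟨t.val, lt_trans t.isLt hdn⟩, fun a b h => h⟩ : Idx d n))) := by
  classical
  have hprime : (idealVW K (iota' hdn) w).IsPrime := isPrime_idealVW K hd (iota' hdn) w
  have hset : {f | ∃ θ : Idx d n, ¬ iota' hdn ≤ θ ∧ f = (X θ : PlRing K d n)} =
      {(X (iota hdn) : PlRing K d n)} := by
    ext f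
    constructor
    · rintro ⟨θ, hθ, rfl⟩
      rw [(not_iota'_le_iff hd hdn θ).1 hθ]
      rfl
    · intro hf
      rw [Set.mem_singleton_iff] at hf
      exact ⟨iota hdn, (not_iota'_le_iff hd hdn _).2 rfl, hf⟩
  have hideal : idealVW K (iota' hdn) w =
      schubertVanishing K d n w ⊔ Ideal.span {(X (iota hdn) : PlRing K d n)} := by
    unfold idealVW
    rw [hset]
  have hne : Ideal.Quotient.mk (schubertVanishing K d n w) (X (iota hdn)) ≠ 0 := by
    intro h0
    rw [Ideal.Quotient.eq_zero_iff_mem] at h0
    have h1 := evW_eq_zero_of_mem K w _ h0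
    rw [evW_X] at h1
    have h2 := (degree_det_genW K w (iota hdn) (iota_le hdn w)).2
    rw [h1, MonomialOrder.leadingCoeff_zero] at h2
    exact zero_ne_one h2
  have hspan : Ideal.span {Ideal.Quotient.mk (schubertVanishing K d n w) (X (iota hdn))} =
      (idealVW K (iota' hdn) w).map (Ideal.Quotient.mk (schubertVanishing K d n w)) := by
    rw [hideal, Ideal.map_sup, Ideal.map_quotient_self, bot_sup_eq, Ideal.map_span,
      Set.image_singleton]
  have hmapprime : ((idealVW K (iota' hdn) w).map
      (Ideal.Quotient.mk (schubertVanishing K d n w))).IsPrime := by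
    apply Ideal.map_isPrime_of_surjective Ideal.Quotient.mk_surjective
    rw [Ideal.mk_ker, hideal]
    exact le_sup_left
  rw [← hspan] at hmapprime
  exact (Ideal.span_singleton_prime hne).1 hmapprime

end Groth.Agent.S11270
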