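import Groth.Statements.S11271
import Groth.Agent.S11249
import Mathlib.LinearAlgebra.Matrix.SchurComplement
import Mathlib.Algebra.Polynomial.Roots
-- import your own Groth.Agent.* helpers here

set_option autoImplicit false
universe u
open W4bk4grassmannian

namespace Groth.Agent.S11271

/-- If `A v = 0` with `v ≠ 0`, then for every `t ≠ 0` the matrix `t • A` is in the `SL_d`-orbit of `A`. -/
theorem exists_sl_smul {K : Type u} [Field K] {d n : ℕ} (A : Matrix (Fin n) (Fin d) K)
    (v : Fin d → K) (hv : v ≠ 0) (hAv : A.mulVec v = 0) (t : K) (ht : t ≠ 0) :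
    ∃ g : Matrix.SpecialLinearGroup (Fin d) K, A * (g : Matrix (Fin d) (Fin d) K) = t • A := by
  classical
  obtain ⟨j, hj⟩ : ∃ j, v j ≠ 0 := by
    by_contra hcon
    push Not at hcon
    exact hv (funext hcon)
  set s : K := (t ^ (d - 1))⁻¹ with hs
  set c : K := (s - t) / t with hc
  set w : Fin d → K := Pi.single j (v j)⁻¹ with hw
  have hwv : w ⬝ᵥ v = 1 := by
    rw [hw, single_dotProduct, inv_mul_cancel₀ hj]
  set N : Matrix (Fin d) (Fin d) K :=
    1 + Matrix.replicateCol Unit (c • v) * Matrix.replicateRow Unit w with hN
  have hdetN : N.det = s / t := by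
    rw [hN, Matrix.det_one_add_replicateCol_mul_replicateRow, dotProduct_smul, hwv, hc,
      smul_eq_mul, mul_one, sub_div, div_self ht]
    ring
  have hdpos : 0 < d := Fin.pos j
  have hdet : (t • N).det = 1 := by
    rw [Matrix.det_smul, Fintype.card_fin, hdetN, hs]
    have : t ^ d = t ^ (d - 1) * t := by
      rw [← pow_succ]
      congr 1
      omega
    rw [this]
    have h1 : t ^ (d - 1) ≠ 0 := pow_ne_zero _ ht
    field_simp
  refine ⟨⟨t • N, hdet⟩, ?_⟩
  show A * (t • N) = t • A
  rw [Matrix.mul_smul, hN, Matrix.mul_add, Matrix.mul_one, ← Matrix.mul_assoc]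
  have : A * Matrix.replicateCol Unit (c • v) = 0 := by
    ext i k
    rw [Matrix.mul_apply]
    have h0 := congrFun hAv i
    simp only [Matrix.mulVec, dotProduct, Pi.zero_apply] at h0
    simp only [Matrix.replicateCol_apply, Pi.smul_apply, smul_eq_mul, Matrix.zero_apply]
    calc ∑ x, A i x * (c * v x) = c * ∑ x, A i x * v x := by
          rw [Finset.mul_sum]; refine Finset.sum_congr rfl fun x _ => by ring
      _ = 0 := by rw [h0, mul_zero]
  rw [this, Matrix.zero_mul, add_zero]

open W4bk4grassmannian in
/-- Semistable matrices are the matrices of full rank: let K be an algebraically closed field, 0 < d <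
n, and let SL_d(K) act on n × d matrices by right multiplication; a matrix A is semistable when the
zero matrix is not in the Zariski closure of its orbit, i.e. when some polynomial in the entries
vanishes at A g for every g ∈ SL_d(K) but not at 0. Then A is semistable if and only if its columns
are linearly independent. -/
theorem result (K : Type u) [Field K]
    [IsAlgClosed K] (d n : ℕ) (hd : 0 < d) (hdn : d < n) (A : Matrix (Fin n) (Fin d) K) :
    LinearIndependent K A.transpose ↔
      ∃ f : MatRing K d n, (∀ g : Matrix.SpecialLinearGroup (Fin d) K,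
        MvPolynomial.eval (fun p : Fin n × Fin d => (A * (g : Matrix (Fin d) (Fin d) K)) p.1 p.2) f = 0) ∧
        MvPolynomial.eval (fun _ : Fin n × Fin d => (0 : K)) f ≠ 0 := by
  classical
  constructor
  · intro hA
    obtain ⟨f₀, hf₀⟩ := Groth.Agent.S11249.exists_minor_ne_zero A hA
    refine ⟨Matrix.det (Matrix.of fun s t : Fin d => (MvPolynomial.X (f₀ s, t) : MatRing K d n)) -
      MvPolynomial.C ((A.submatrix f₀ id).det), ?_, ?_⟩
    · intro g
      rw [map_sub, RingHom.map_det, MvPolynomial.eval_C]
      have : (MvPolynomial.eval fun p : Fin n × Fin d => (A * (g : Matrix (Fin d) (Fin d) K)) p.1 p.2).mapMatrix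
          (Matrix.of fun s t : Fin d => (MvPolynomial.X (f₀ s, t) : MatRing K d n)) =
          A.submatrix f₀ id * (g : Matrix (Fin d) (Fin d) K) := by
        ext a b
        simp [Matrix.mul_apply]
      rw [this, Matrix.det_mul, g.det_coe, mul_one, sub_self]
    · rw [map_sub, RingHom.map_det, MvPolynomial.eval_C]
      have : (MvPolynomial.eval fun _ : Fin n × Fin d => (0 : K)).mapMatrix
          (Matrix.of fun s t : Fin d => (MvPolynomial.X (f₀ s, t) : MatRing K d n)) = 0 := by
        ext a b
        simp
      have hne : Nonempty (Fin d) := ⟨⟨0, hd⟩⟩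
      rw [this, Matrix.det_zero, zero_sub, neg_ne_zero]
      exact hf₀
  · rintro ⟨f, hf, hf0⟩
    by_contra hA
    apply hf0
    obtain ⟨v, hv, i₀, hi₀⟩ :=
      (Fintype.not_linearIndependent_iff (R := K) (v := (A.transpose : Fin d → Fin n → K))).mp hA
    have hv0 : v ≠ 0 := fun h => hi₀ (by rw [h]; rfl)
    have hAv : A.mulVec v = 0 := by
      ext i
      have := congrFun hv i
      simp only [Finset.sum_apply, Pi.smul_apply, Matrix.transpose_apply, smul_eq_mul,
        Pi.zero_apply] at this
      simp only [Matrix.mulVec, dotProduct, Pi.zero_apply]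
      rw [← this]
      exact Finset.sum_congr rfl fun x _ => mul_comm _ _
    -- the one-variable polynomial `t ↦ f (t A)`
    let h : Polynomial K := MvPolynomial.aeval
      (fun p : Fin n × Fin d => Polynomial.C (A p.1 p.2) * Polynomial.X) f
    have heval : ∀ t : K, h.eval t =
        MvPolynomial.eval (fun p : Fin n × Fin d => A p.1 p.2 * t) f := by
      intro t
      show Polynomial.evalRingHom t (MvPolynomial.aeval _ f) = _
      rw [MvPolynomial.aeval_def, MvPolynomial.eval₂_comp_left]
      have h1 : (Polynomial.evalRingHom t).comp (algebraMap K (Polynomial K)) = RingHom.id K := by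
        ext x; simp
      rw [h1, MvPolynomial.eval₂_id]
      have h2 : (⇑(Polynomial.evalRingHom t) ∘
          fun p : Fin n × Fin d => Polynomial.C (A p.1 p.2) * Polynomial.X) =
          fun p => A p.1 p.2 * t := by
        funext p; simp
      rw [h2]
    have hroots : ∀ t : K, t ≠ 0 → h.eval t = 0 := by
      intro t ht
      obtain ⟨g, hg⟩ := exists_sl_smul A v hv0 hAv t ht
      rw [heval, ← hf g, hg]
      have h3 : (fun p : Fin n × Fin d => A p.1 p.2 * t) = fun p => (t • A) p.1 p.2 := by
        funext p; simp [mul_comm]
      rw [h3]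
    have hzero : h = 0 := by
      apply Polynomial.eq_zero_of_infinite_isRoot
      have hinf : ({0}ᶜ : Set K).Infinite := Set.Finite.infinite_compl (Set.finite_singleton (0 : K))
      refine hinf.mono ?_
      intro t ht
      exact hroots t ht
    have := heval 0
    rw [hzero, Polynomial.eval_zero] at this
    have h4 : (fun p : Fin n × Fin d => A p.1 p.2 * 0) = fun _ => (0 : K) := by
      funext p; simp
    rw [h4] at this
    exact this.symm

end Groth.Agent.S11271
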