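import Groth.Statements.S11277
-- import your own Groth.Agent.* helpers here

set_option autoImplicit false
universe u v
open W4bk4grassmannian

namespace Groth.Agent.S11277

/-- Let K be a field, R = ⊕_{i ≥ 0} R_i an ℕ-graded commutative K-algebra which is an integral domain,
and s ∈ R_e a homogeneous element of degree e > 0. Let R_(s) ⊆ R[1/s] be the homogeneous
localization (fractions f / s^k with f homogeneous of degree k e). Then the image of s in R[1/s] is
transcendental over R_(s). -/
theorem result (K : Type u) [Field K] (R : Type v) [CommRing R]
    [IsDomain R] [Algebra K R] (𝒜 : ℕ → Submodule K R) [GradedAlgebra 𝒜] (e : ℕ) (he : 0 < e) (s : R)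
    (hs : s ∈ 𝒜 e) :
    Transcendental (HomogeneousLocalization.Away 𝒜 s) (algebraMap R (Localization.Away s) s) := by
  classical
  rintro ⟨p, hp0, hp⟩
  apply hp0
  by_cases hs0 : s = 0
  · have : Subsingleton (HomogeneousLocalization.Away 𝒜 s) :=
      HomogeneousLocalization.subsingleton 𝒜 (x := .powers s) ⟨1, by simp [hs0]⟩
    exact Subsingleton.elim _ _
  · have hinj : Function.Injective (algebraMap R (Localization.Away s)) :=
      IsLocalization.injective _ (powers_le_nonZeroDivisors_of_noZeroDivisors hs0)
    -- common denominators
    have hev : ∀ᶠ N in Filter.atTop, ∀ i ∈ p.support,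
        s ^ N • (p.coeff i).val ∈ algebraMap R (Localization.Away s) '' (𝒜 (N • e) : Set R) := by
      rw [Filter.eventually_all_finset]
      intro i _
      exact HomogeneousLocalization.Away.eventually_smul_mem hs (p.coeff i)
    obtain ⟨N, hN⟩ := hev.exists
    choose! g hg using hN
    have hterm : ∀ i ∈ p.support, algebraMap R (Localization.Away s) (g i * s ^ i) =
        s ^ N • ((p.coeff i).val * (algebraMap R (Localization.Away s) s) ^ i) := by
      intro i hi
      rw [map_mul, map_pow, (hg i hi).2, smul_mul_assoc]
    have hsum : ∑ i ∈ p.support, g i * s ^ i = 0 := by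
      apply hinj
      rw [map_zero, map_sum, Finset.sum_congr rfl hterm, ← Finset.smul_sum]
      have : ∑ i ∈ p.support, (p.coeff i).val * (algebraMap R (Localization.Away s) s) ^ i =
          Polynomial.aeval (algebraMap R (Localization.Away s) s) p := by
        rw [Polynomial.aeval_def, Polynomial.eval₂_eq_sum, Polynomial.sum_def]
        rfl
      rw [this, hp, smul_zero]
    have hmem : ∀ i ∈ p.support, g i * s ^ i ∈ 𝒜 (N • e + i • e) := fun i hi =>
      SetLike.mul_mem_graded (hg i hi).1 (SetLike.pow_mem_graded i hs)
    have hzero : ∀ j ∈ p.support, g j * s ^ j = 0 := by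
      intro j hj
      have h1 := congrArg (fun z => (DirectSum.decompose 𝒜 z (N • e + j • e) : R)) hsum
      simp only [DirectSum.decompose_sum, DirectSum.decompose_zero] at h1
      rw [DFinsupp.finsetSum_apply, AddSubmonoidClass.coe_finsetSum] at h1
      rw [Finset.sum_eq_single j] at h1
      · rw [DirectSum.decompose_of_mem_same 𝒜 (hmem j hj)] at h1
        simpa using h1
      · intro i hi hij
        apply DirectSum.decompose_of_mem_ne 𝒜 (hmem i hi)
        intro h
        apply hij
        have : i • e = j • e := by omega
        exact Nat.eq_of_mul_eq_mul_right he (by simpa using this)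
      · intro h; exact absurd hj h
    refine Polynomial.ext fun i => ?_
    rw [Polynomial.coeff_zero]
    by_cases hi : i ∈ p.support
    · have h2 : g i = 0 := by
        rcases mul_eq_zero.mp (hzero i hi) with h | h
        · exact h
        · exact absurd (pow_eq_zero_iff (M₀ := R) (n := i) (a := s)
            (fun hi0 => by simp [hi0] at h) |>.mp h) hs0
      have h3 : s ^ N • (p.coeff i).val = 0 := by
        rw [← (hg i hi).2, h2, map_zero]
      have hunit : IsUnit (algebraMap R (Localization.Away s) (s ^ N)) :=
        IsLocalization.map_units (Localization.Away s) (⟨s ^ N, N, rfl⟩ : Submonoid.powers s)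
      rw [Algebra.smul_def] at h3
      have h4 : (p.coeff i).val = 0 := (hunit.mul_right_eq_zero).mp h3
      apply HomogeneousLocalization.val_injective
      rw [h4, HomogeneousLocalization.val_zero]
    · exact Polynomial.notMem_support_iff.mp hi

end Groth.Agent.S11277
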