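import Groth.Statements.S11278
import Mathlib

set_option autoImplicit false
universe u v
open W4bk4grassmannian

namespace Groth.Agent.S11278


open Polynomial in
/-- The evaluation map `R_(s)[X] → R_s`, `X ↦ s`. -/
noncomputable def phi {K : Type u} [Field K] {R : Type v} [CommRing R] [Algebra K R]
    (𝒜 : ℕ → Submodule K R) [GradedAlgebra 𝒜] (s : R) :
    (HomogeneousLocalization.Away 𝒜 s)[X] →+* Localization.Away s :=
  Polynomial.eval₂RingHom (algebraMap (HomogeneousLocalization.Away 𝒜 s) (Localization.Away s))
    (algebraMap R (Localization.Away s) s)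

open Polynomial in
lemma algebraMap_mem_range {K : Type u} [Field K] {R : Type v} [CommRing R] [Algebra K R]
    (𝒜 : ℕ → Submodule K R) [GradedAlgebra 𝒜] {s : R} (hs : s ∈ 𝒜 1) (r : R) :
    algebraMap R (Localization.Away s) r ∈ (phi 𝒜 s).range := by
  induction r using DirectSum.Decomposition.inductionOn 𝒜 with
  | zero => simp
  | @homogeneous i a =>
    refine ⟨C (HomogeneousLocalization.Away.mk 𝒜 hs i a (by simpa using a.2)) * X ^ i, ?_⟩
    simp only [phi, coe_eval₂RingHom, eval₂_mul, eval₂_C, eval₂_pow, eval₂_X,
      HomogeneousLocalization.algebraMap_apply, HomogeneousLocalization.Away.val_mk]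
    rw [← map_pow, Localization.mk_eq_mk']
    exact IsLocalization.mk'_spec _ _ _
  | add a b ha hb => rw [map_add]; exact Subring.add_mem _ ha hb

open Polynomial in
lemma phi_injective {K : Type u} [Field K] {R : Type v} [CommRing R] [IsDomain R] [Algebra K R]
    (𝒜 : ℕ → Submodule K R) [GradedAlgebra 𝒜] {s : R} (hs : s ∈ 𝒜 1) (hs0 : s ≠ 0) :
    Function.Injective (phi 𝒜 s) := by
  classical
  rw [injective_iff_map_eq_zero]
  intro p hp
  have hinj : Function.Injective (algebraMap R (Localization.Away s)) :=
    IsLocalization.injective (Localization.Away s) (M := Submonoid.powers s)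
      (powers_le_nonZeroDivisors_of_noZeroDivisors hs0)
  have hev : ∀ᶠ n in Filter.atTop, ∀ i ∈ p.support, s ^ n • (p.coeff i).val ∈
      algebraMap R (Localization.Away s) '' (𝒜 (n • 1) : Set R) :=
    (Filter.eventually_all_finset p.support).2
      (fun i _ => HomogeneousLocalization.Away.eventually_smul_mem hs (p.coeff i))
  obtain ⟨N, hN⟩ := hev.exists
  choose! x hx using hN
  -- the key identity in `R`
  have hsum : ∑ i ∈ p.support, x i * s ^ i = 0 := by
    apply hinj
    rw [map_sum, map_zero]
    have : (algebraMap R (Localization.Away s) s) ^ N * phi 𝒜 s p = 0 := by rw [hp, mul_zero]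
    rw [← this]
    simp only [phi, coe_eval₂RingHom, eval₂_eq_sum, Polynomial.sum, Finset.mul_sum]
    refine Finset.sum_congr rfl fun i hi => ?_
    rw [map_mul, (hx i hi).2, Algebra.smul_def, map_pow, map_pow,
      HomogeneousLocalization.algebraMap_apply]
    ring
  by_contra hp0
  obtain ⟨j, hj⟩ : p.support.Nonempty := by
    rwa [Finset.nonempty_iff_ne_empty, Ne, Polynomial.support_eq_empty]
  have hmem : ∀ i ∈ p.support, x i * s ^ i ∈ 𝒜 (N • 1 + i • 1) := fun i hi =>
    SetLike.mul_mem_graded (hx i hi).1 (SetLike.pow_mem_graded i hs)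
  have h1 := congrArg (GradedRing.proj 𝒜 (N • 1 + j • 1)) hsum
  rw [map_sum, map_zero, Finset.sum_eq_single j] at h1
  · rw [GradedRing.proj_apply, DirectSum.decompose_of_mem_same 𝒜 (hmem j hj)] at h1
    have hxj : x j = 0 := by
      rcases mul_eq_zero.1 h1 with h | h
      · exact h
      · exact absurd (pow_eq_zero_iff (M₀ := R) (by rintro rfl; simp at h) |>.1 h) hs0
    have h2 := (hx j hj).2
    rw [hxj, map_zero, Algebra.smul_def] at h2
    have hu : IsUnit (algebraMap R (Localization.Away s) (s ^ N)) := by
      rw [map_pow]; exact (IsLocalization.Away.algebraMap_isUnit s).pow N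
    have h3 : (p.coeff j).val = 0 := (hu.mul_right_eq_zero).1 h2.symm
    have h4 : p.coeff j = 0 := HomogeneousLocalization.val_injective _ (by simpa using h3)
    exact (Polynomial.mem_support_iff.1 hj) h4
  · intro i hi hij
    rw [GradedRing.proj_apply, DirectSum.decompose_of_mem_ne 𝒜 (hmem i hi)]
    simp only [smul_eq_mul, mul_one]
    omega
  · intro h; exact absurd hj h

/-- Unique factorization lifts from the homogeneous localization at a prime element of degree one, in
the generality of the published argument: let K be a field, R = ⊕_{i ≥ 0} R_i a Noetherian ℕ-graded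
commutative K-algebra which is an integral domain, and s ∈ R_1 a homogeneous element of degree one
which is a prime element of R. If the homogeneous localization R_(s) (degree-zero part of R[1/s])
has unique factorization, then R is a unique factorization domain. (The published statement is the
case where R is the homogeneous coordinate ring of a Schubert variety, s the Plücker coordinate of
the least index, which is a prime element there, and R_(s) the coordinate ring of the opposite
cell.) -/
theorem result (K : Type u) [Field K] (R : Type v)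
    [CommRing R] [IsDomain R] [IsNoetherianRing R] [Algebra K R] (𝒜 : ℕ → Submodule K R) [GradedAlgebra 𝒜]
    (s : R) (hs : s ∈ 𝒜 1) (hp : Prime s)
    (h : UniqueFactorizationMonoid (HomogeneousLocalization.Away 𝒜 s)) :
    UniqueFactorizationMonoid R := by
  classical
  rw [UniqueFactorizationMonoid.iff_localizationAway_of_prime hp]
  have hs0 : s ≠ 0 := hp.ne_zero
  have hinj := phi_injective 𝒜 hs hs0
  haveI : IsDomain (Localization.Away s) :=
    IsLocalization.isDomain_localization (powers_le_nonZeroDivisors_of_noZeroDivisors hs0)
  haveI : IsDomain (HomogeneousLocalization.Away 𝒜 s) :=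
    Function.Injective.isDomain (algebraMap (HomogeneousLocalization.Away 𝒜 s) (Localization.Away s))
      (HomogeneousLocalization.val_injective _)
  letI : Algebra (Polynomial (HomogeneousLocalization.Away 𝒜 s)) (Localization.Away s) :=
    (phi 𝒜 s).toAlgebra
  have hX : algebraMap (Polynomial (HomogeneousLocalization.Away 𝒜 s)) (Localization.Away s)
      Polynomial.X = algebraMap R (Localization.Away s) s := by
    simp [RingHom.algebraMap_toAlgebra, phi]
  haveI : IsLocalization.Away (Polynomial.X : Polynomial (HomogeneousLocalization.Away 𝒜 s))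
      (Localization.Away s) := by
    refine ⟨?_, ?_, ?_⟩
    · rintro ⟨_, n, rfl⟩
      simp only
      rw [map_pow, hX]
      exact (IsLocalization.Away.algebraMap_isUnit s).pow n
    · intro z
      obtain ⟨⟨r, ⟨_, n, rfl⟩⟩, hz⟩ := IsLocalization.surj (Submonoid.powers s) z
      obtain ⟨q, hq⟩ := algebraMap_mem_range 𝒜 hs r
      refine ⟨⟨q, ⟨Polynomial.X ^ n, n, rfl⟩⟩, ?_⟩
      simp only at hz ⊢
      rw [map_pow, hX, ← map_pow, hz]
      exact hq.symm
    · intro a b hab
      exact ⟨1, by rw [hinj hab]⟩
  exact UniqueFactorizationMonoid.of_isLocalization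
    (Submonoid.powers (Polynomial.X : Polynomial (HomogeneousLocalization.Away 𝒜 s)))
    (Localization.Away s)

end Groth.Agent.S11278
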