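import Groth.Statements.S11281
import Mathlib
-- import your own Groth.Agent.* helpers here

set_option autoImplicit false
universe u
open Deform

namespace Groth.Agent.S11281

open IsLocalRing

section Fwd

variable {k : Type u} [Field k]
    {Λ : Type u} [CommRing Λ] [Algebra k Λ]
    {R : Type u} [CommRing R] [Algebra Λ R] [IsLocalRing R]
    (hR : ∀ r : R, ∃ c : k, r - algebraMap Λ R (algebraMap k Λ c) ∈ maximalIdeal R)
    (B : Type u) [CommRing B] [Algebra Λ B] [IsLocalRing B]
    (hB : ∀ b : B, ∃ c : k, b - algebraMap Λ B (algebraMap k Λ c) ∈ maximalIdeal B)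
    (t : B) (ht : t ∈ maximalIdeal B) (hmt : ∀ b ∈ maximalIdeal B, b * t = 0)
    (φ : R →ₐ[Λ] B ⧸ Ideal.span {t})

/-- `k ≃ residue field of R`. -/
noncomputable def ek : k ≃+* ResidueField R :=
  RingEquiv.ofBijective ((residue R).comp ((algebraMap Λ R).comp (algebraMap k Λ)))
    ⟨RingHom.injective _, by
      intro z
      obtain ⟨r, rfl⟩ := residue_surjective z
      obtain ⟨c, hc⟩ := hR r
      refine ⟨c, ?_⟩
      have : residue R (r - algebraMap Λ R (algebraMap k Λ c)) = 0 :=
        (residue_eq_zero_iff _).2 hc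
      rw [map_sub, sub_eq_zero] at this
      exact this.symm⟩

theorem ek_apply (c : k) : ek hR c = residue R (algebraMap Λ R (algebraMap k Λ c)) := rfl

/-- The fibre product `R ×_{B/t} B`. -/
noncomputable def fib : Subalgebra Λ (R × B) :=
  AlgHom.equalizer (φ.comp (AlgHom.fst Λ R B))
    ((Ideal.Quotient.mkₐ Λ (Ideal.span {t})).comp (AlgHom.snd Λ R B))

theorem mem_fib (x : R × B) : x ∈ fib B t φ ↔ φ x.1 = Ideal.Quotient.mk (Ideal.span {t}) x.2 := by
  unfold fib
  rw [AlgHom.mem_equalizer]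
  rfl

include ht in
theorem not_isUnit_mk_of_mem {y : B} (hy : y ∈ maximalIdeal B) :
    ¬ IsUnit (Ideal.Quotient.mk (Ideal.span {t}) y) := by
  intro hu
  obtain ⟨z, hz⟩ := hu.exists_right_inv
  obtain ⟨z, rfl⟩ := Ideal.Quotient.mk_surjective z
  rw [← map_mul, ← map_one (Ideal.Quotient.mk (Ideal.span {t})), Ideal.Quotient.eq] at hz
  have h1 : y * z - 1 ∈ maximalIdeal B :=
    (Ideal.span_le.2 (Set.singleton_subset_iff.2 ht)) hz
  have h2 : y * z ∈ maximalIdeal B := Ideal.mul_mem_right _ _ hy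
  have h3 : (1 : B) ∈ maximalIdeal B := by
    have := Ideal.sub_mem _ h2 h1
    simpa using this
  exact (maximalIdeal B).ne_top_iff_one.1 Ideal.IsPrime.ne_top' h3

include ht in
theorem fib_loc {x : R × B} (hx : x ∈ fib B t φ) (c : k)
    (hc : x.2 - algebraMap Λ B (algebraMap k Λ c) ∈ maximalIdeal B) :
    x.1 - algebraMap Λ R (algebraMap k Λ c) ∈ maximalIdeal R := by
  by_contra hcon
  have hu : IsUnit (x.1 - algebraMap Λ R (algebraMap k Λ c)) := by
    by_contra h
    exact hcon ((mem_maximalIdeal _).2 h)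
  have hu2 := hu.map φ
  rw [map_sub, AlgHom.commutes, (mem_fib B t φ x).1 hx] at hu2
  have : Ideal.Quotient.mk (Ideal.span {t}) x.2 - algebraMap Λ (B ⧸ Ideal.span {t}) (algebraMap k Λ c)
      = Ideal.Quotient.mk (Ideal.span {t}) (x.2 - algebraMap Λ B (algebraMap k Λ c)) := by
    rw [map_sub]; rfl
  rw [this] at hu2
  exact not_isUnit_mk_of_mem B t ht hc hu2

/-- the inclusion of the residue field into the fibre product. -/
noncomputable def inclFib : ResidueField R →+ fib B t φ where
  toFun z := ⟨(0, algebraMap Λ B (algebraMap k Λ ((ek hR).symm z)) * t), by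
    rw [mem_fib]
    simp only [map_zero]
    symm
    rw [Ideal.Quotient.eq_zero_iff_mem]
    exact Ideal.mul_mem_left _ _ (Ideal.mem_span_singleton_self t)⟩
  map_zero' := by
    apply Subtype.ext
    simp
  map_add' a b := by
    apply Subtype.ext
    simp [add_mul]

theorem inclFib_coe (z : ResidueField R) :
    ((inclFib hR B t φ z : fib B t φ) : R × B) =
      (0, algebraMap Λ B (algebraMap k Λ ((ek hR).symm z)) * t) := rfl

include hB hmt ht in
theorem fib_isExtension (ht0 : t ≠ 0) :
    Exal.IsExtension (A := Λ) (B := R) (L := ResidueField R)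
      ((AlgHom.fst Λ R B).comp (fib B t φ).val) (inclFib hR B t φ) where
  proj_surjective := by
    intro r
    obtain ⟨b, hb⟩ := Ideal.Quotient.mk_surjective (φ r)
    exact ⟨⟨(r, b), (mem_fib B t φ _).2 hb.symm⟩, rfl⟩
  incl_injective := by
    rw [injective_iff_map_eq_zero]
    intro z hz
    have h1 := congrArg (fun x : fib B t φ => (x : R × B).2) hz
    simp only [inclFib_coe, ZeroMemClass.coe_zero, Prod.snd_zero] at h1
    by_contra hz0
    have hc : (ek hR).symm z ≠ 0 := by
      intro h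
      exact hz0 (by simpa using congrArg (ek hR) h)
    have hu : IsUnit (algebraMap Λ B (algebraMap k Λ ((ek hR).symm z))) :=
      ((IsUnit.mk0 _ hc).map (algebraMap k Λ)).map (algebraMap Λ B)
    exact ht0 ((hu.mul_right_eq_zero).1 h1)
  exact := by
    intro x
    constructor
    · intro hx
      obtain ⟨⟨r, b⟩, hxm⟩ := x
      have hr : r = 0 := hx
      subst hr
      have h1 := (mem_fib B t φ _).1 hxm
      simp only [map_zero] at h1
      have h2 : b ∈ Ideal.span {t} := (Ideal.Quotient.eq_zero_iff_mem).1 h1.symm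
      obtain ⟨s, hs⟩ := Ideal.mem_span_singleton'.1 h2
      obtain ⟨c, hc⟩ := hB s
      refine ⟨ek hR c, ?_⟩
      apply Subtype.ext
      rw [inclFib_coe, RingEquiv.symm_apply_apply]
      ext
      · rfl
      · simp only
        have := hmt _ hc
        rw [sub_mul, sub_eq_zero] at this
        rw [← this, hs]
    · rintro ⟨z, rfl⟩
      rfl
  mul_incl := by
    intro x z
    obtain ⟨⟨r, b⟩, hxm⟩ := x
    obtain ⟨c, rfl⟩ := (ek hR).surjective z
    obtain ⟨c', hc'⟩ := hB b
    have hr := fib_loc B t ht φ hxm c' hc'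
    have hres : residue R r = ek hR c' := by
      rw [ek_apply]
      have := (residue_eq_zero_iff _).2 hr
      rwa [map_sub, sub_eq_zero] at this
    have hsm : r • (ek hR c) = ek hR (c' * c) := by
      rw [Algebra.smul_def, ResidueField.algebraMap_eq, hres, map_mul]
    apply Subtype.ext
    simp only [AlgHom.coe_comp, Subalgebra.coe_val, Function.comp_apply, AlgHom.fst_apply]
    rw [hsm, inclFib_coe, RingEquiv.symm_apply_apply]
    rw [MulMemClass.coe_mul, inclFib_coe, RingEquiv.symm_apply_apply]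
    ext
    · simp
    · simp only [Prod.snd_mul]
      have := hmt _ hc'
      rw [sub_mul, sub_eq_zero] at this
      rw [← mul_assoc, mul_comm b, mul_assoc, this, map_mul, map_mul]
      ring

include hB hmt ht hR in
theorem lift_of_trivial
    (htriv : ∀ X : Exal.Ext Λ R (ResidueField R), X.IsTrivial) :
    ∃ φ' : R →ₐ[Λ] B, (Ideal.Quotient.mkₐ Λ (Ideal.span {t})).comp φ' = φ := by
  by_cases ht0 : t = 0
  · subst ht0
    have hbij : Function.Bijective (Ideal.Quotient.mkₐ Λ (Ideal.span {(0 : B)})) := by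
      refine ⟨?_, Ideal.Quotient.mk_surjective⟩
      rw [injective_iff_map_eq_zero]
      intro b hb
      have : b ∈ Ideal.span {(0 : B)} := (Ideal.Quotient.eq_zero_iff_mem).1 hb
      simpa using this
    let e := AlgEquiv.ofBijective _ hbij
    refine ⟨e.symm.toAlgHom.comp φ, ?_⟩
    ext r
    exact e.apply_symm_apply (φ r)
  · let X : Exal.Ext Λ R (ResidueField R) :=
      { E := fib B t φ
        proj := (AlgHom.fst Λ R B).comp (fib B t φ).val
        incl := inclFib hR B t φ
        isExtension := fib_isExtension hR B hB t ht hmt φ ht0 }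
    obtain ⟨s, hs⟩ := htriv X
    refine ⟨((AlgHom.snd Λ R B).comp (fib B t φ).val).comp s, ?_⟩
    ext r
    have h1 : ((s r : fib B t φ) : R × B) ∈ fib B t φ := (s r).2
    have h2 := (mem_fib B t φ _).1 h1
    have h3 : ((s r : fib B t φ) : R × B).1 = r := hs r
    rw [h3] at h2
    exact h2.symm

end Fwd

section Bwd

variable {k : Type u} [Field k]
    {Λ : Type u} [CommRing Λ] [Algebra k Λ]
    {R : Type u} [CommRing R] [Algebra Λ R] [IsLocalRing R]
    (X : Exal.Ext Λ R (ResidueField R))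

/-- the generator of the kernel. -/
noncomputable def eps : X.E := X.incl 1

theorem mul_eps (x : X.E) : x * eps X = X.incl (residue R (X.proj x)) := by
  unfold eps
  rw [X.isExtension.mul_incl x 1, Algebra.smul_def, mul_one, ResidueField.algebraMap_eq]

theorem proj_incl (z : ResidueField R) : X.proj (X.incl z) = 0 :=
  (X.isExtension.exact _).2 ⟨z, rfl⟩

theorem proj_eps : X.proj (eps X) = 0 := proj_incl X 1

theorem eps_ne_zero : eps X ≠ 0 := by
  intro h
  have : X.incl 1 = X.incl 0 := by rw [map_zero]; exact h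
  exact one_ne_zero (X.isExtension.incl_injective this)

theorem exists_mul_eps_of_proj_eq_zero {x : X.E} (hx : X.proj x = 0) :
    ∃ w : X.E, x = w * eps X := by
  obtain ⟨z, rfl⟩ := (X.isExtension.exact x).1 hx
  obtain ⟨r, rfl⟩ := residue_surjective z
  obtain ⟨w, rfl⟩ := X.isExtension.proj_surjective r
  exact ⟨w, (mul_eps X w).symm⟩

theorem eps_mul_eps : eps X * eps X = 0 := by
  rw [mul_eps, proj_eps, map_zero, map_zero]

theorem isUnit_of_isUnit_proj {x : X.E} (hx : IsUnit (X.proj x)) : IsUnit x := by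
  obtain ⟨r', hr'⟩ := hx.exists_right_inv
  obtain ⟨y, rfl⟩ := X.isExtension.proj_surjective r'
  have h0 : X.proj (x * y - 1) = 0 := by rw [map_sub, map_mul, hr', map_one, sub_self]
  obtain ⟨w, hw⟩ := exists_mul_eps_of_proj_eq_zero X h0
  have hnil : IsNilpotent (x * y - 1) := by
    refine ⟨2, ?_⟩
    rw [hw, pow_two, mul_mul_mul_comm, eps_mul_eps, mul_zero]
  have hu : IsUnit (x * y) := by
    have := hnil.isUnit_add_one
    simpa using this
  exact isUnit_of_mul_isUnit_left hu

instance : IsLocalHom (X.proj : X.E →+* R) := ⟨fun _ h => isUnit_of_isUnit_proj X h⟩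

instance instLocalE : IsLocalRing X.E := RingHom.domain_isLocalRing (X.proj : X.E →+* R)

theorem mem_maximalIdeal_iff (x : X.E) : x ∈ maximalIdeal X.E ↔ X.proj x ∈ maximalIdeal R := by
  rw [mem_maximalIdeal, mem_maximalIdeal, mem_nonunits_iff, mem_nonunits_iff, not_iff_not]
  exact ⟨fun h => h.map X.proj, isUnit_of_isUnit_proj X⟩

theorem eps_mem : eps X ∈ maximalIdeal X.E := by
  rw [mem_maximalIdeal_iff, proj_eps]; exact zero_mem _

theorem mul_eps_eq_zero {x : X.E} (hx : x ∈ maximalIdeal X.E) : x * eps X = 0 := by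
  rw [mul_eps, (residue_eq_zero_iff _).2 ((mem_maximalIdeal_iff X x).1 hx), map_zero]

theorem fg_ideal [IsNoetherianRing R] (J : Ideal X.E) : J.FG := by
  classical
  have h1 : (J.map (X.proj : X.E →+* R)).FG := IsNoetherian.noetherian _
  obtain ⟨s, hs⟩ := h1
  have hsurj : Function.Surjective (X.proj : X.E →+* R) := X.isExtension.proj_surjective
  have h2 : ∀ r ∈ s, ∃ j ∈ J, (X.proj : X.E →+* R) j = r := by
    intro r hr
    have : r ∈ J.map (X.proj : X.E →+* R) := hs ▸ Ideal.subset_span hr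
    exact (Ideal.mem_map_iff_of_surjective _ hsurj).1 this
  choose! g hgJ hg using h2
  set J₀ : Ideal X.E := Ideal.span (g '' (s : Set R)) with hJ₀
  have hJ₀le : J₀ ≤ J := by
    rw [hJ₀, Ideal.span_le]
    rintro _ ⟨r, hr, rfl⟩
    exact hgJ r hr
  have hJ₀fg : J₀.FG := by
    rw [hJ₀, ← Finset.coe_image]
    exact ⟨_, rfl⟩
  have hmap : J.map (X.proj : X.E →+* R) = J₀.map (X.proj : X.E →+* R) := by
    rw [hJ₀, Ideal.map_span, ← hs]
    congr 1
    ext r
    constructor
    · intro hr
      exact ⟨g r, ⟨r, hr, rfl⟩, hg r hr⟩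
    · rintro ⟨_, ⟨r', hr', rfl⟩, rfl⟩
      rw [hg r' hr']
      exact hr'
  have key : ∀ x ∈ J, ∃ y ∈ J₀, ∃ w : X.E, x = y + w * eps X := by
    intro x hx
    have : (X.proj : X.E →+* R) x ∈ J₀.map (X.proj : X.E →+* R) := by
      rw [← hmap]; exact Ideal.mem_map_of_mem _ hx
    obtain ⟨y, hy, hyx⟩ := (Ideal.mem_map_iff_of_surjective _ hsurj).1 this
    have h0 : X.proj (x - y) = 0 := by
      rw [map_sub]
      have : X.proj y = X.proj x := hyx
      rw [this, sub_self]
    obtain ⟨w, hw⟩ := exists_mul_eps_of_proj_eq_zero X h0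
    exact ⟨y, hy, w, by rw [← hw]; ring⟩
  by_cases heps : eps X ∈ J
  · have : J = J₀ ⊔ Ideal.span {eps X} := by
      apply le_antisymm
      · intro x hx
        obtain ⟨y, hy, w, rfl⟩ := key x hx
        exact Submodule.add_mem_sup hy (Ideal.mul_mem_left _ _ (Ideal.mem_span_singleton_self _))
      · exact sup_le hJ₀le ((Ideal.span_singleton_le_iff_mem J).2 heps)
    rw [this]
    exact Submodule.FG.sup hJ₀fg (Submodule.fg_span_singleton _)
  · have : J = J₀ := by
      apply le_antisymm _ hJ₀le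
      intro x hx
      obtain ⟨y, hy, w, rfl⟩ := key x hx
      by_cases hw : IsUnit w
      · exfalso
        apply heps
        have h3 : w * eps X ∈ J := by
          have := J.sub_mem hx (hJ₀le hy)
          simpa using this
        have := J.mul_mem_left (↑hw.unit⁻¹ : X.E) h3
        rwa [← mul_assoc, IsUnit.val_inv_mul, one_mul] at this
      · rw [mul_eps_eq_zero X ((mem_maximalIdeal _).2 hw), add_zero]
        exact hy
    rw [this]
    exact hJ₀fg

theorem noeth [IsNoetherianRing R] : IsNoetherianRing X.E :=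
  (isNoetherianRing_iff_ideal_fg _).2 (fg_ideal X)

end Bwd

section Bwd2

variable {k : Type u} [Field k]
    {Λ : Type u} [CommRing Λ] [Algebra k Λ]
    {R : Type u} [CommRing R] [Algebra Λ R] [IsLocalRing R] [IsNoetherianRing R]
    (hR : ∀ r : R, ∃ c : k, r - algebraMap Λ R (algebraMap k Λ c) ∈ maximalIdeal R)
    (X : Exal.Ext Λ R (ResidueField R))

theorem exists_pow_eps_not_mem : ∃ n : ℕ, eps X ∉ maximalIdeal X.E ^ n := by
  haveI := noeth X
  by_contra hcon
  push_neg at hcon
  have h1 : eps X ∈ ⨅ i, maximalIdeal X.E ^ i := by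
    rw [Ideal.mem_iInf]; exact hcon
  rw [Ideal.iInf_pow_eq_bot_of_isLocalRing (maximalIdeal X.E) Ideal.IsPrime.ne_top'] at h1
  exact eps_ne_zero X h1

include hR in
theorem trivial_of_lift
    (hlift : ∀ (B : Type u) [CommRing B] [Algebra Λ B] [IsLocalRing B] [IsArtinianRing B],
      (∀ b : B, ∃ c : k, b - algebraMap Λ B (algebraMap k Λ c) ∈ IsLocalRing.maximalIdeal B) →
      ∀ t : B, t ∈ IsLocalRing.maximalIdeal B → (∀ b ∈ IsLocalRing.maximalIdeal B, b * t = 0) →
      ∀ φ : R →ₐ[Λ] B ⧸ Ideal.span {t},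
        ∃ φ' : R →ₐ[Λ] B, (Ideal.Quotient.mkₐ Λ (Ideal.span {t})).comp φ' = φ) :
    X.IsTrivial := by
  haveI := noeth X
  obtain ⟨n, hn⟩ := exists_pow_eps_not_mem X
  have hn0 : n ≠ 0 := by
    rintro rfl
    apply hn
    rw [pow_zero, Ideal.one_eq_top]; trivial
  set I : Ideal X.E := maximalIdeal X.E ^ n with hI
  have hIle : I ≤ maximalIdeal X.E := Ideal.pow_le_self hn0
  have hItop : I ≠ ⊤ := fun h => Ideal.IsPrime.ne_top' (top_le_iff.1 (h ▸ hIle))
  haveI : Nontrivial (X.E ⧸ I) := Ideal.Quotient.nontrivial_iff.2 hItop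
  haveI : IsLocalRing (X.E ⧸ I) :=
    IsLocalRing.of_surjective' (Ideal.Quotient.mk I) Ideal.Quotient.mk_surjective
  -- membership in the maximal ideal of the quotient
  have hmem : ∀ x : X.E, Ideal.Quotient.mk I x ∈ maximalIdeal (X.E ⧸ I) ↔ x ∈ maximalIdeal X.E := by
    intro x
    constructor
    · intro h
      by_contra hx
      have hu : IsUnit x := by
        by_contra h'
        exact hx ((mem_maximalIdeal _).2 h')
      exact (mem_maximalIdeal _).1 h (hu.map _)
    · intro hx
      rw [mem_maximalIdeal, mem_nonunits_iff]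
      intro hu
      obtain ⟨z, hz⟩ := hu.exists_right_inv
      obtain ⟨z, rfl⟩ := Ideal.Quotient.mk_surjective z
      rw [← map_mul, ← map_one (Ideal.Quotient.mk I), Ideal.Quotient.eq] at hz
      have h1 : x * z - 1 ∈ maximalIdeal X.E := hIle hz
      have h2 : x * z ∈ maximalIdeal X.E := Ideal.mul_mem_right _ _ hx
      have h3 : (1 : X.E) ∈ maximalIdeal X.E := by
        have := Ideal.sub_mem _ h2 h1
        simpa using this
      exact (maximalIdeal X.E).ne_top_iff_one.1 Ideal.IsPrime.ne_top' h3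
  haveI : IsArtinianRing (X.E ⧸ I) := by
    rw [isArtinianRing_iff_isNilpotent_maximalIdeal]
    refine ⟨n, ?_⟩
    rw [Ideal.zero_eq_bot, eq_bot_iff]
    have hmax : maximalIdeal (X.E ⧸ I) = (maximalIdeal X.E).map (Ideal.Quotient.mk I) := by
      ext b
      obtain ⟨x, rfl⟩ := Ideal.Quotient.mk_surjective b
      rw [hmem, Ideal.mem_map_iff_of_surjective _ Ideal.Quotient.mk_surjective]
      constructor
      · intro hx; exact ⟨x, hx, rfl⟩
      · rintro ⟨y, hy, hyx⟩
        have : x - y ∈ I := by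
          rw [← Ideal.Quotient.eq]; exact hyx.symm
        have h2 := Ideal.add_mem _ (hIle this) hy
        simpa using h2
    rw [hmax, ← Ideal.map_pow, ← hI]
    intro b hb
    obtain ⟨x, hx, rfl⟩ := (Ideal.mem_map_iff_of_surjective _ Ideal.Quotient.mk_surjective).1 hb
    rw [Ideal.mem_bot, Ideal.Quotient.eq_zero_iff_mem]
    exact hx
  set t : X.E ⧸ I := Ideal.Quotient.mk I (eps X) with ht
  have htm : t ∈ maximalIdeal (X.E ⧸ I) := (hmem _).2 (eps_mem X)
  have hmt : ∀ b ∈ maximalIdeal (X.E ⧸ I), b * t = 0 := by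
    intro b hb
    obtain ⟨x, rfl⟩ := Ideal.Quotient.mk_surjective b
    rw [ht, ← map_mul, mul_eps_eq_zero X ((hmem x).1 hb), map_zero]
  have hB : ∀ b : X.E ⧸ I, ∃ c : k,
      b - algebraMap Λ (X.E ⧸ I) (algebraMap k Λ c) ∈ maximalIdeal (X.E ⧸ I) := by
    intro b
    obtain ⟨x, rfl⟩ := Ideal.Quotient.mk_surjective b
    obtain ⟨c, hc⟩ := hR (X.proj x)
    refine ⟨c, ?_⟩
    have h1 : Ideal.Quotient.mk I x - algebraMap Λ (X.E ⧸ I) (algebraMap k Λ c) =
        Ideal.Quotient.mk I (x - algebraMap Λ X.E (algebraMap k Λ c)) := by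
      rw [map_sub]; rfl
    rw [h1, hmem, mem_maximalIdeal_iff, map_sub, AlgHom.commutes]
    exact hc
  -- the map R → B/t
  let g : X.E →ₐ[Λ] (X.E ⧸ I) ⧸ Ideal.span {t} :=
    (Ideal.Quotient.mkₐ Λ (Ideal.span {t})).comp (Ideal.Quotient.mkₐ Λ I)
  have hgker : ∀ a ∈ RingHom.ker (X.proj : X.E →+* R), g a = 0 := by
    intro a ha
    obtain ⟨w, rfl⟩ := exists_mul_eps_of_proj_eq_zero X ((RingHom.mem_ker).1 ha)
    rw [map_mul]
    have : g (eps X) = 0 := by
      change Ideal.Quotient.mk (Ideal.span {t}) (Ideal.Quotient.mk I (eps X)) = 0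
      rw [Ideal.Quotient.eq_zero_iff_mem]
      exact Ideal.mem_span_singleton_self t
    rw [this, mul_zero]
  have hsurj : Function.Surjective X.proj := X.isExtension.proj_surjective
  let eq : (X.E ⧸ RingHom.ker X.proj) ≃ₐ[Λ] R := Ideal.quotientKerAlgEquivOfSurjective hsurj
  let φ : R →ₐ[Λ] (X.E ⧸ I) ⧸ Ideal.span {t} :=
    (Ideal.Quotient.liftₐ (RingHom.ker X.proj) g hgker).comp eq.symm.toAlgHom
  have hφ : ∀ x : X.E, φ (X.proj x) = g x := by
    intro x
    have h1 : eq.symm (X.proj x) = Ideal.Quotient.mk _ x := by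
      rw [AlgEquiv.symm_apply_eq]
      rfl
    change (Ideal.Quotient.liftₐ (RingHom.ker X.proj) g hgker) (eq.symm (X.proj x)) = g x
    rw [h1]
    rfl
  obtain ⟨φ', hφ'⟩ := hlift (X.E ⧸ I) hB t htm hmt φ
  have hφ'r : ∀ r, Ideal.Quotient.mk (Ideal.span {t}) (φ' r) = φ r := fun r =>
    AlgHom.congr_fun hφ' r
  let ι : X.E →ₐ[Λ] R × (X.E ⧸ I) := AlgHom.prod X.proj (Ideal.Quotient.mkₐ Λ I)
  have hιinj : Function.Injective ι := by
    rw [injective_iff_map_eq_zero]
    intro x hx
    have h1 : X.proj x = 0 := congrArg Prod.fst hx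
    have h2 : Ideal.Quotient.mk I x = 0 := congrArg Prod.snd hx
    obtain ⟨w, rfl⟩ := exists_mul_eps_of_proj_eq_zero X h1
    by_cases hw : IsUnit w
    · exfalso
      apply hn
      have h3 : w * eps X ∈ I := Ideal.Quotient.eq_zero_iff_mem.1 h2
      have := I.mul_mem_left (↑hw.unit⁻¹ : X.E) h3
      rwa [← mul_assoc, IsUnit.val_inv_mul, one_mul] at this
    · exact mul_eps_eq_zero X ((mem_maximalIdeal _).2 hw)
  have hrange : ∀ r : R, (AlgHom.prod (AlgHom.id Λ R) φ') r ∈ ι.range := by
    intro r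
    obtain ⟨e₀, he₀⟩ := hsurj r
    have h1 : Ideal.Quotient.mk (Ideal.span {t}) (Ideal.Quotient.mk I e₀ - φ' r) = 0 := by
      rw [map_sub, hφ'r, ← he₀, hφ]
      exact sub_self _
    rw [Ideal.Quotient.eq_zero_iff_mem] at h1
    obtain ⟨b, hb⟩ := Ideal.mem_span_singleton'.1 h1
    obtain ⟨y, rfl⟩ := Ideal.Quotient.mk_surjective b
    refine ⟨e₀ - y * eps X, ?_⟩
    change (X.proj (e₀ - y * eps X), Ideal.Quotient.mk I (e₀ - y * eps X)) = (r, φ' r)
    ext
    · simp only [map_sub, map_mul, proj_eps, mul_zero, sub_zero]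
      exact he₀
    · simp only [map_sub, map_mul]
      rw [← ht, hb]
      ring
  let ιe : X.E ≃ₐ[Λ] ι.range := AlgEquiv.ofInjective ι hιinj
  let s : R →ₐ[Λ] X.E :=
    ιe.symm.toAlgHom.comp (AlgHom.codRestrict (AlgHom.prod (AlgHom.id Λ R) φ') ι.range hrange)
  refine ⟨s, ?_⟩
  intro r
  have h1 : ι (s r) = (AlgHom.prod (AlgHom.id Λ R) φ') r := by
    have := ιe.apply_symm_apply (AlgHom.codRestrict (AlgHom.prod (AlgHom.id Λ R) φ') ι.range hrange r)
    exact congrArg Subtype.val this
  exact congrArg Prod.fst h1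

end Bwd2

/-- Let k be an algebraically closed field, Λ a local Noetherian k-algebra with residue field k, and R a
local Noetherian Λ-algebra, with local structure map and residue field k. The following are
equivalent: (a) every Λ-extension of R by its residue field k is trivial, i.e. the relative
obstruction space o(R/Λ) = Ex_Λ(R, k) vanishes; (b) for every local Artinian Λ-algebra B with
residue field k and every t in the maximal ideal of B annihilated by the maximal ideal, every
Λ-algebra map R → B/tB lifts to a Λ-algebra map R → B (formal smoothness of R over Λ tested on small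
extensions of Artinian rings). The test algebras B range over the universe of R. -/
theorem result
    {k : Type u} [Field k] [IsAlgClosed k]
    {Λ : Type u} [CommRing Λ] [Algebra k Λ] [IsLocalRing Λ] [IsNoetherianRing Λ]
    (hΛ : ∀ a : Λ, ∃ c : k, a - algebraMap k Λ c ∈ IsLocalRing.maximalIdeal Λ)
    {R : Type u} [CommRing R] [Algebra Λ R] [IsLocalRing R] [IsNoetherianRing R]
    [IsLocalHom (algebraMap Λ R)]
    (hR : ∀ r : R, ∃ c : k, r - algebraMap Λ R (algebraMap k Λ c) ∈ IsLocalRing.maximalIdeal R) :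
    (∀ X : Exal.Ext Λ R (IsLocalRing.ResidueField R), X.IsTrivial) ↔
    (∀ (B : Type u) [CommRing B] [Algebra Λ B] [IsLocalRing B] [IsArtinianRing B],
      (∀ b : B, ∃ c : k, b - algebraMap Λ B (algebraMap k Λ c) ∈ IsLocalRing.maximalIdeal B) →
      ∀ t : B, t ∈ IsLocalRing.maximalIdeal B → (∀ b ∈ IsLocalRing.maximalIdeal B, b * t = 0) →
      ∀ φ : R →ₐ[Λ] B ⧸ Ideal.span {t},
        ∃ φ' : R →ₐ[Λ] B, (Ideal.Quotient.mkₐ Λ (Ideal.span {t})).comp φ' = φ) := by
  constructor
  · intro htriv B _ _ _ _ hB t ht hmt φ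
    exact lift_of_trivial hR B hB t ht hmt φ htriv
  · intro hlift X
    exact trivial_of_lift hR X hlift

end Groth.Agent.S11281
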