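import Groth.Statements.S11284
import Mathlib
-- import your own Groth.Agent.* helpers here

set_option autoImplicit false
universe u
open Deform

namespace Groth.Agent.S11284

open TensorProduct KaehlerDifferential

section L2

/-- An element of a projective module over a reduced ring which is killed, at every minimal prime,
by an element outside that prime, is zero. -/
theorem eq_zero_of_forall_minimalPrimes {B M : Type*} [CommRing B] [IsReduced B] [AddCommGroup M]
    [Module B M] [Module.Projective B M] (x : M)
    (h : ∀ p ∈ minimalPrimes B, ∃ t : B, t ∉ p ∧ t • x = 0) : x = 0 := by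
  obtain ⟨s, hs⟩ := Module.projective_def'.1 (inferInstance : Module.Projective B M)
  have hinj : Function.Injective s := by
    intro a b hab
    have := congrArg (Finsupp.linearCombination B id) hab
    have h1 := LinearMap.congr_fun hs a
    have h2 := LinearMap.congr_fun hs b
    simp only [LinearMap.coe_comp, Function.comp_apply, LinearMap.id_coe, id_eq] at h1 h2
    rw [h1, h2] at this
    exact this
  apply hinj
  rw [map_zero]
  ext m
  rw [Finsupp.zero_apply]
  have hnil : (s x) m ∈ nilradical B := by
    rw [nilradical, ← Ideal.sInf_minimalPrimes, Ideal.mem_sInf]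
    intro p hp
    have hp' : p ∈ minimalPrimes B := hp
    obtain ⟨t, ht, htx⟩ := h p hp'
    have hprime : p.IsPrime := hp'.1.1
    have : t * (s x) m = 0 := by
      have := congrArg (fun v => v m) (congrArg s htx)
      simpa using this
    have hmem : t * (s x) m ∈ p := by rw [this]; exact p.zero_mem
    rcases hprime.mem_or_mem hmem with h1 | h1
    · exact absurd h1 ht
    · exact h1
  rw [nilradical_eq_zero] at hnil
  exact hnil

end L2


section L1

variable {A B : Type u} [CommRing A] [CommRing B] [Algebra A B]

set_option maxHeartbeats 800000 in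
/-- at a prime where `B` is smooth over `A`, elements in the kernel of the conormal map of a
square-zero extension are killed by an element outside the prime. -/
theorem exists_smul_eq_zero (P : Algebra.Extension.{u} A B) (hsq : P.ker ^ 2 = ⊥)
    (p : Ideal B) [p.IsPrime] [hsm : Algebra.FormallySmooth A (Localization.AtPrime p)]
    (x : P.Cotangent) (hx : P.cotangentComplex x = 0) : ∃ t : B, t ∉ p ∧ t • x = 0 := by
  obtain ⟨⟨i, hi⟩, rfl⟩ := Algebra.Extension.Cotangent.mk_surjective x
  let σ : P.Ring →+* B := algebraMap P.Ring B
  have hσ : Function.Surjective σ := P.algebraMap_surjective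
  let S : Submonoid P.Ring := p.primeCompl.comap σ
  have hS : ∀ e : P.Ring, e ∈ S ↔ σ e ∉ p := fun e => Iff.rfl
  let g : Localization S →+* Localization.AtPrime p :=
    IsLocalization.map (Localization.AtPrime p) σ (M := S) (T := p.primeCompl) (le_refl _)
  have hg_alg : ∀ e : P.Ring, g (algebraMap P.Ring (Localization S) e) =
      algebraMap B (Localization.AtPrime p) (σ e) := fun e => IsLocalization.map_eq _ e
  have hg_mk : ∀ (e : P.Ring) (s : S), g (IsLocalization.mk' (Localization S) e s) =
      IsLocalization.mk' (Localization.AtPrime p) (σ e) (⟨σ s, s.2⟩ : p.primeCompl) :=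
    fun e s => IsLocalization.map_mk' _ e s
  have hg : Function.Surjective g := by
    intro y
    obtain ⟨b, t, rfl⟩ := IsLocalization.exists_mk'_eq p.primeCompl y
    obtain ⟨e, rfl⟩ := hσ b
    obtain ⟨s, hs⟩ := hσ t
    have hsS : s ∈ S := by rw [hS, hs]; exact t.2
    refine ⟨IsLocalization.mk' (Localization S) e ⟨s, hsS⟩, ?_⟩
    rw [hg_mk]
    congr 1
    exact Subtype.ext hs
  letI : Algebra (Localization S) (Localization.AtPrime p) := g.toAlgebra
  have halg : ∀ y, algebraMap (Localization S) (Localization.AtPrime p) y = g y := fun _ => rfl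
  haveI : IsScalarTower A (Localization S) (Localization.AtPrime p) := by
    apply IsScalarTower.of_algebraMap_eq
    intro a
    rw [halg, IsScalarTower.algebraMap_apply A P.Ring (Localization S), hg_alg,
      IsScalarTower.algebraMap_apply A B (Localization.AtPrime p)]
    congr 1
    exact (IsScalarTower.algebraMap_apply A P.Ring B a)
  -- kernel elements
  have hkerel : ∀ y ∈ RingHom.ker (algebraMap (Localization S) (Localization.AtPrime p)),
      ∃ (e : P.Ring) (s s' : S), y = IsLocalization.mk' (Localization S) e s ∧
        (s' : P.Ring) * e ∈ P.ker := by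
    intro y hy
    obtain ⟨e, s, rfl⟩ := IsLocalization.exists_mk'_eq S y
    rw [RingHom.mem_ker, halg, hg_mk, IsLocalization.mk'_eq_zero_iff] at hy
    obtain ⟨m, hm⟩ := hy
    obtain ⟨s', hs'⟩ := hσ m
    have hs'S : s' ∈ S := by rw [hS, hs']; exact m.2
    refine ⟨e, s, ⟨s', hs'S⟩, rfl, ?_⟩
    rw [Algebra.Extension.ker, RingHom.mem_ker]
    change σ (s' * e) = 0
    rw [map_mul, hs', hm]
  have hker2 : RingHom.ker (algebraMap (Localization S) (Localization.AtPrime p)) ^ 2 = ⊥ := by
    rw [eq_bot_iff, pow_two, Ideal.mul_le]
    intro y₁ hy₁ y₂ hy₂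
    obtain ⟨e₁, s₁, s₁', rfl, h₁⟩ := hkerel y₁ hy₁
    obtain ⟨e₂, s₂, s₂', rfl, h₂⟩ := hkerel y₂ hy₂
    rw [Ideal.mem_bot, ← IsLocalization.mk'_mul, IsLocalization.mk'_eq_zero_iff]
    refine ⟨s₁' * s₂', ?_⟩
    have : ((s₁' : P.Ring) * e₁) * ((s₂' : P.Ring) * e₂) ∈ P.ker ^ 2 := by
      rw [pow_two]; exact Ideal.mul_mem_mul h₁ h₂
    rw [hsq, Ideal.mem_bot] at this
    rw [Submonoid.coe_mul]
    linear_combination this
  -- the section
  let tA : Localization S →ₐ[A] Localization.AtPrime p :=
    IsScalarTower.toAlgHom A (Localization S) (Localization.AtPrime p)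
  have htA : Function.Surjective tA := hg
  let sec : Localization.AtPrime p →ₐ[A] Localization S :=
    Algebra.FormallySmooth.liftOfSurjective (AlgHom.id A (Localization.AtPrime p)) tA htA
      ⟨2, hker2⟩
  have hsec : tA.comp sec = AlgHom.id A (Localization.AtPrime p) :=
    Algebra.FormallySmooth.comp_liftOfSurjective _ _ _ _
  have hret := retractionOfSectionOfKerSqZero_comp_kerToTensor sec hker2 hsec
  have hinj : Function.Injective (kerToTensor A (Localization S) (Localization.AtPrime p)) := by
    intro a b hab
    have := congrArg (retractionOfSectionOfKerSqZero sec hker2 hsec) hab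
    have h1 := LinearMap.congr_fun hret a
    have h2 := LinearMap.congr_fun hret b
    simp only [LinearMap.coe_comp, Function.comp_apply, LinearMap.id_coe, id_eq] at h1 h2
    rw [h1, h2] at this
    exact this
  -- the extension P' and the hom
  let P' : Algebra.Extension.{u} A (Localization.AtPrime p) :=
    { Ring := Localization S
      σ := Function.surjInv hg
      algebraMap_σ := Function.surjInv_eq hg }
  let f : P.Hom P' :=
    { toRingHom := algebraMap P.Ring (Localization S)
      toRingHom_algebraMap := fun a => by
        rw [Algebra.algebraMap_self, RingHom.id_apply]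
        exact (IsScalarTower.algebraMap_apply A P.Ring (Localization S) a).symm
      algebraMap_toRingHom := fun e => hg_alg e }
  have h1 := Algebra.Extension.CotangentSpace.map_cotangentComplex f
    (Algebra.Extension.Cotangent.mk ⟨i, hi⟩)
  rw [hx, map_zero, Algebra.Extension.Cotangent.map_mk, Algebra.Extension.cotangentComplex_mk] at h1
  have hmem : algebraMap P.Ring (Localization S) i ∈
      RingHom.ker (algebraMap (Localization S) (Localization.AtPrime p)) := by
    rw [RingHom.mem_ker, halg, hg_alg]
    have : σ i = 0 := hi
    rw [this, map_zero]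
  have h2 : kerToTensor A (Localization S) (Localization.AtPrime p)
      ⟨algebraMap P.Ring (Localization S) i, hmem⟩ = 0 := by
    rw [kerToTensor_apply]
    exact h1.symm
  have h3 := hinj (h2.trans (map_zero _).symm)
  have h4 : algebraMap P.Ring (Localization S) i = 0 := congrArg Subtype.val h3
  rw [IsLocalization.map_eq_zero_iff S] at h4
  obtain ⟨m, hm⟩ := h4
  refine ⟨σ m, m.2, ?_⟩
  change algebraMap P.Ring B m • Algebra.Extension.Cotangent.mk (⟨i, hi⟩ : P.ker) = 0
  rw [algebraMap_smul, ← map_smul]
  have : (m : P.Ring) • (⟨i, hi⟩ : P.ker) = 0 := by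
    apply Subtype.ext
    exact hm
  rw [this, map_zero]

end L1

/-- Let k be an algebraically closed field and A → B a map of finitely generated k-algebras with B
reduced and smooth over A at every minimal prime of B (the morphism Spec B → Spec A is smooth on a
dense open subset). Let E → B be a surjection of A-algebras whose kernel I has square zero and is,
as a B-module, finitely generated and projective (an extension of B over A by a locally free
module). Then the conormal map I = I/I^2 → B ⊗_E Ω_{E/A} is injective, so that the relative conormal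
sequence 0 → I → B ⊗_E Ω_{E/A} → Ω_{B/A} → 0 of the extension is exact also on the left. This is the
affine case of the statement for a morphism of finite type of algebraic schemes and a coherent
locally free kernel. -/
theorem result
    {k : Type u} [Field k] [IsAlgClosed k]
    {A B : Type u} [CommRing A] [CommRing B] [Algebra k A] [Algebra k B] [Algebra A B]
    [IsScalarTower k A B] [Algebra.FiniteType k A] [Algebra.FiniteType k B] [IsReduced B]
    (hsm : ∀ p : PrimeSpectrum B, p.asIdeal ∈ minimalPrimes B → Algebra.IsSmoothAt A p.asIdeal)
    (P : Algebra.Extension.{u} A B) (hsq : P.ker ^ 2 = ⊥)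
    [Module.Finite B P.Cotangent] [Module.Projective B P.Cotangent] :
    Function.Injective P.cotangentComplex := by
  rw [injective_iff_map_eq_zero]
  intro x hx
  apply eq_zero_of_forall_minimalPrimes (B := B) x
  intro p hp
  haveI : p.IsPrime := hp.1.1
  haveI : Algebra.FormallySmooth A (Localization.AtPrime p) := hsm ⟨p, hp.1.1⟩ hp
  exact exists_smul_eq_zero P hsq p x hx


end Groth.Agent.S11284
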