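import Groth.Statements.S11285
import Mathlib
import Groth.Prelude.Def_Exal2
-- import your own Groth.Agent.* helpers here

set_option autoImplicit false
universe u
open Deform

namespace Groth.Agent.S11285

open TensorProduct KaehlerDifferential Algebra.Extension

attribute [local instance] Exal.opModule Exal.isCentralScalar_opModule

section Construction

variable {A B : Type u} [CommRing A] [CommRing B] [Algebra A B]
  {N : Type u} [AddCommGroup N] [Module B N] (q : N →ₗ[B] Ω[B⁄A])

/-- The subring `{(b, n) | q n = d b}` of `B ⊕ N`. -/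
def Esub : Subring (TrivSqZeroExt B N) where
  carrier := {x | q (TrivSqZeroExt.snd x) = D A B (TrivSqZeroExt.fst x)}
  mul_mem' := by
    intro x y hx hy
    change q (TrivSqZeroExt.snd (x * y)) = D A B (TrivSqZeroExt.fst (x * y))
    have hx' : q (TrivSqZeroExt.snd x) = D A B (TrivSqZeroExt.fst x) := hx
    have hy' : q (TrivSqZeroExt.snd y) = D A B (TrivSqZeroExt.fst y) := hy
    rw [TrivSqZeroExt.snd_mul, TrivSqZeroExt.fst_mul, map_add, op_smul_eq_smul, map_smul, map_smul,
      hx', hy', Derivation.leibniz]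
  one_mem' := by
    change q (TrivSqZeroExt.snd (1 : TrivSqZeroExt B N)) = D A B (TrivSqZeroExt.fst (1 : TrivSqZeroExt B N))
    rw [TrivSqZeroExt.snd_one, TrivSqZeroExt.fst_one, map_zero, Derivation.map_one_eq_zero]
  add_mem' := by
    intro x y hx hy
    change q (TrivSqZeroExt.snd (x + y)) = D A B (TrivSqZeroExt.fst (x + y))
    have hx' : q (TrivSqZeroExt.snd x) = D A B (TrivSqZeroExt.fst x) := hx
    have hy' : q (TrivSqZeroExt.snd y) = D A B (TrivSqZeroExt.fst y) := hy
    rw [TrivSqZeroExt.snd_add, TrivSqZeroExt.fst_add, map_add, map_add, hx', hy']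
  zero_mem' := by
    change q (TrivSqZeroExt.snd (0 : TrivSqZeroExt B N)) = D A B (TrivSqZeroExt.fst (0 : TrivSqZeroExt B N))
    rw [TrivSqZeroExt.snd_zero, TrivSqZeroExt.fst_zero, map_zero, map_zero]
  neg_mem' := by
    intro x hx
    change q (TrivSqZeroExt.snd (-x)) = D A B (TrivSqZeroExt.fst (-x))
    have hx' : q (TrivSqZeroExt.snd x) = D A B (TrivSqZeroExt.fst x) := hx
    rw [TrivSqZeroExt.snd_neg, TrivSqZeroExt.fst_neg, map_neg, map_neg, hx']

theorem mem_Esub (x : TrivSqZeroExt B N) :
    x ∈ Esub q ↔ q (TrivSqZeroExt.snd x) = D A B (TrivSqZeroExt.fst x) := Iff.rfl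

/-- the structure map `A → E`. -/
def algMapE : A →+* Esub q :=
  RingHom.codRestrict ((TrivSqZeroExt.inlHom B N).comp (algebraMap A B)) (Esub q) (by
    intro a
    rw [mem_Esub]
    change q (TrivSqZeroExt.snd (TrivSqZeroExt.inl (algebraMap A B a))) =
      D A B (TrivSqZeroExt.fst (TrivSqZeroExt.inl (algebraMap A B a) : TrivSqZeroExt B N))
    rw [TrivSqZeroExt.snd_inl, TrivSqZeroExt.fst_inl, map_zero, Derivation.map_algebraMap])

/-- the projection `E → B`. -/
def projE : Esub q →+* B :=
  ((TrivSqZeroExt.fstHom B B N : TrivSqZeroExt B N →ₐ[B] B) : TrivSqZeroExt B N →+* B).comp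
    (Esub q).subtype

theorem projE_apply (x : Esub q) : projE q x = TrivSqZeroExt.fst (x : TrivSqZeroExt B N) := rfl

instance instAlgAE : Algebra A (Esub q) := (algMapE q).toAlgebra

instance instAlgEB : Algebra (Esub q) B := (projE q).toAlgebra

theorem algebraMap_E_B (x : Esub q) :
    algebraMap (Esub q) B x = TrivSqZeroExt.fst (x : TrivSqZeroExt B N) := rfl

theorem algebraMap_A_E_coe (a : A) :
    ((algebraMap A (Esub q) a : Esub q) : TrivSqZeroExt B N) = TrivSqZeroExt.inl (algebraMap A B a) := rfl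

instance instTowerAEB : IsScalarTower A (Esub q) B := IsScalarTower.of_algebraMap_eq (fun _ => rfl)

end Construction


section Ext

variable {A B : Type u} [CommRing A] [CommRing B] [Algebra A B]
  {N : Type u} [AddCommGroup N] [Module B N] (q : N →ₗ[B] Ω[B⁄A]) (hq : Function.Surjective q)

/-- lift of `b : B` to `E`. -/
noncomputable def liftE (b : B) : Esub q :=
  ⟨TrivSqZeroExt.inl b + TrivSqZeroExt.inr (Function.surjInv hq (D A B b)), by
    rw [mem_Esub, TrivSqZeroExt.snd_add, TrivSqZeroExt.snd_inl, TrivSqZeroExt.snd_inr, zero_add,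
      TrivSqZeroExt.fst_add, TrivSqZeroExt.fst_inl, TrivSqZeroExt.fst_inr, add_zero,
      Function.surjInv_eq hq]⟩

theorem projE_liftE (b : B) : algebraMap (Esub q) B (liftE q hq b) = b := by
  rw [algebraMap_E_B]
  change TrivSqZeroExt.fst (TrivSqZeroExt.inl b + TrivSqZeroExt.inr _ : TrivSqZeroExt B N) = b
  rw [TrivSqZeroExt.fst_add, TrivSqZeroExt.fst_inl, TrivSqZeroExt.fst_inr, add_zero]

/-- the extension -/
noncomputable def PE : Algebra.Extension.{u} A B where
  Ring := Esub q
  σ := liftE q hq
  algebraMap_σ := projE_liftE q hq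

theorem mem_ker_PE (x : Esub q) : x ∈ (PE q hq).ker ↔ TrivSqZeroExt.fst (x : TrivSqZeroExt B N) = 0 :=
  Iff.rfl

theorem ker_sq : (PE q hq).ker ^ 2 = ⊥ := by
  rw [eq_bot_iff, pow_two, Ideal.mul_le]
  intro x hx y hy
  let x' : Esub q := x
  let y' : Esub q := y
  have hx' : TrivSqZeroExt.fst (x' : TrivSqZeroExt B N) = 0 := hx
  have hy' : TrivSqZeroExt.fst (y' : TrivSqZeroExt B N) = 0 := hy
  rw [Ideal.mem_bot]
  change x' * y' = 0
  apply Subtype.ext
  change (x' : TrivSqZeroExt B N) * (y' : TrivSqZeroExt B N) = 0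
  apply TrivSqZeroExt.ext
  · rw [TrivSqZeroExt.fst_mul, hx', zero_mul, TrivSqZeroExt.fst_zero]
  · rw [TrivSqZeroExt.snd_mul, hx', hy', zero_smul, MulOpposite.op_zero, zero_smul, add_zero,
      TrivSqZeroExt.snd_zero]

/-- the `A`-derivation `E → N`, `(b, n) ↦ n`, with `N` an `E`-module through `E → B`. -/
noncomputable def sndE : Esub q → N := fun x => TrivSqZeroExt.snd (x : TrivSqZeroExt B N)

theorem sndE_add (x y : Esub q) : sndE q (x + y) = sndE q x + sndE q y := rfl

theorem sndE_mul (x y : Esub q) :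
    sndE q (x * y) = algebraMap (Esub q) B x • sndE q y + algebraMap (Esub q) B y • sndE q x := by
  change TrivSqZeroExt.snd ((x : TrivSqZeroExt B N) * (y : TrivSqZeroExt B N)) = _
  rw [TrivSqZeroExt.snd_mul, op_smul_eq_smul]
  rfl

theorem sndE_algebraMap (a : A) : sndE q (algebraMap A (Esub q) a) = 0 := by
  change TrivSqZeroExt.snd (TrivSqZeroExt.inl (algebraMap A B a) : TrivSqZeroExt B N) = 0
  rw [TrivSqZeroExt.snd_inl]

theorem q_sndE (x : Esub q) : q (sndE q x) = D A B (algebraMap (Esub q) B x) := x.2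

end Ext


section Main

variable {A B : Type u} [CommRing A] [CommRing B] [Algebra A B]
  {N : Type u} [AddCommGroup N] [Module B N] (q : N →ₗ[B] Ω[B⁄A]) (hq : Function.Surjective q)
  {M : Type u} [AddCommGroup M] [Module B M] (i : M →ₗ[B] N) (hi : Function.Injective i)
  (hex : Function.Exact i q)

/-- underlying element of `B ⊕ N`. -/
def vE (x : (PE q hq).Ring) : TrivSqZeroExt B N := Subtype.val (show ↥(Esub q) from x)

theorem vE_injective : Function.Injective (vE q hq) := fun _ _ h => Subtype.ext h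

theorem vE_mem (x : (PE q hq).Ring) :
    q (TrivSqZeroExt.snd (vE q hq x)) = D A B (TrivSqZeroExt.fst (vE q hq x)) :=
  (show ↥(Esub q) from x).2

theorem vE_mul (x y : (PE q hq).Ring) : vE q hq (x * y) = vE q hq x * vE q hq y := rfl

theorem vE_add (x y : (PE q hq).Ring) : vE q hq (x + y) = vE q hq x + vE q hq y := rfl

theorem vE_zero : vE q hq 0 = 0 := rfl

theorem algebraMap_eq_fst (x : (PE q hq).Ring) :
    algebraMap (PE q hq).Ring B x = TrivSqZeroExt.fst (vE q hq x) := rfl

theorem mem_ker_iff (x : (PE q hq).Ring) : x ∈ (PE q hq).ker ↔ TrivSqZeroExt.fst (vE q hq x) = 0 :=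
  Iff.rfl

/-- `m ↦ (0, i m)` into the kernel. -/
noncomputable def inrK (m : M) : (PE q hq).ker :=
  ⟨(⟨TrivSqZeroExt.inr (i m), by
      rw [mem_Esub, TrivSqZeroExt.snd_inr, TrivSqZeroExt.fst_inr, map_zero]
      exact hex.apply_apply_eq_zero m⟩ : Esub q), by
    change TrivSqZeroExt.fst (TrivSqZeroExt.inr (i m) : TrivSqZeroExt B N) = 0
    rw [TrivSqZeroExt.fst_inr]⟩

theorem inrK_coe (m : M) :
    vE q hq (inrK q hq i hex m : (PE q hq).ker) = TrivSqZeroExt.inr (i m) := rfl

include hi in
theorem inrK_injective : Function.Injective (inrK q hq i hex) := by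
  intro m m' h
  have := congrArg (fun x : (PE q hq).ker => TrivSqZeroExt.snd (vE q hq x)) h
  simp only [inrK_coe, TrivSqZeroExt.snd_inr] at this
  exact hi this

theorem inrK_surjective : Function.Surjective (inrK q hq i hex) := by
  intro x
  have hx : TrivSqZeroExt.fst (vE q hq x) = 0 := x.2
  have hx2 : q (TrivSqZeroExt.snd (vE q hq x)) = 0 := by
    rw [vE_mem, hx, map_zero]
  obtain ⟨m, hm⟩ := (hex _).1 hx2
  refine ⟨m, ?_⟩
  apply Subtype.ext
  apply vE_injective
  rw [inrK_coe]
  apply TrivSqZeroExt.ext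
  · rw [TrivSqZeroExt.fst_inr, hx]
  · rw [TrivSqZeroExt.snd_inr, hm]

theorem inrK_add (m m' : M) : inrK q hq i hex (m + m') = inrK q hq i hex m + inrK q hq i hex m' := by
  apply Subtype.ext
  apply vE_injective
  change TrivSqZeroExt.inr (i (m + m')) = (TrivSqZeroExt.inr (i m) + TrivSqZeroExt.inr (i m') : TrivSqZeroExt B N)
  rw [map_add, TrivSqZeroExt.inr_add]

theorem smul_inrK (e : (PE q hq).Ring) (m : M) :
    e • inrK q hq i hex m = inrK q hq i hex (algebraMap (PE q hq).Ring B e • m) := by
  apply Subtype.ext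
  apply vE_injective
  change vE q hq e * TrivSqZeroExt.inr (i m) = TrivSqZeroExt.inr (i (_ • m))
  apply TrivSqZeroExt.ext
  · rw [TrivSqZeroExt.fst_mul, TrivSqZeroExt.fst_inr, mul_zero, TrivSqZeroExt.fst_inr]
  · rw [TrivSqZeroExt.snd_mul, TrivSqZeroExt.snd_inr, TrivSqZeroExt.fst_inr, MulOpposite.op_zero,
      zero_smul, add_zero, TrivSqZeroExt.snd_inr, map_smul]
    rfl

/-- `ψ₁ : M → I/I²`. -/
noncomputable def psi1 : M →ₗ[B] (PE q hq).Cotangent where
  toFun m := Cotangent.mk (inrK q hq i hex m)
  map_add' m m' := by rw [inrK_add, map_add]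
  map_smul' b m := by
    obtain ⟨e, rfl⟩ := (PE q hq).algebraMap_surjective b
    rw [RingHom.id_apply, ← smul_inrK, map_smul]
    exact (algebraMap_smul B e _).symm

theorem psi1_apply (m : M) : psi1 q hq i hex m = Cotangent.mk (inrK q hq i hex m) := rfl

include hi in
theorem psi1_bijective : Function.Bijective (psi1 q hq i hex) := by
  constructor
  · rw [injective_iff_map_eq_zero]
    intro m hm
    rw [psi1_apply, Cotangent.mk_eq_zero_iff, ker_sq, Ideal.mem_bot] at hm
    have h0 : inrK q hq i hex m = 0 := Subtype.ext hm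
    have h1 : inrK q hq i hex 0 = 0 := by
      apply Subtype.ext
      apply vE_injective
      change (TrivSqZeroExt.inr (i 0) : TrivSqZeroExt B N) = 0
      rw [map_zero, TrivSqZeroExt.inr_zero]
    exact inrK_injective q hq i hi hex (h0.trans h1.symm)
  · intro x
    obtain ⟨y, rfl⟩ := Cotangent.mk_surjective x
    obtain ⟨m, rfl⟩ := inrK_surjective q hq i hex y
    exact ⟨m, rfl⟩

end Main


section Final

variable {A B : Type u} [CommRing A] [CommRing B] [Algebra A B]
  {N : Type u} [AddCommGroup N] [Module B N] (q : N →ₗ[B] Ω[B⁄A]) (hq : Function.Surjective q)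
  {M : Type u} [AddCommGroup M] [Module B M] (i : M →ₗ[B] N) (hi : Function.Injective i)
  (hex : Function.Exact i q)

include hi hq hex in
theorem main_construction :
    ∃ P : Algebra.Extension.{u} A B, P.ker ^ 2 = ⊥ ∧
      ∃ (e₁ : P.Cotangent ≃ₗ[B] M) (e₂ : P.CotangentSpace ≃ₗ[B] N),
        (∀ x, e₂ (P.cotangentComplex x) = i (e₁ x)) ∧ (∀ y, q (e₂ y) = P.toKaehler y) := by
  refine ⟨PE q hq, ker_sq q hq, ?_⟩
  letI modE : Module (PE q hq).Ring N := Module.compHom N (algebraMap (PE q hq).Ring B)
  letI modA : Module A N := Module.compHom N (algebraMap A B)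
  haveI towerEBN : IsScalarTower (PE q hq).Ring B N :=
    IsScalarTower.of_algebraMap_smul (fun _ _ => rfl)
  haveI towerAEN : IsScalarTower A (PE q hq).Ring N :=
    IsScalarTower.of_algebraMap_smul (fun _ _ => rfl)
  have hsmulE : ∀ (e : (PE q hq).Ring) (n : N), e • n = TrivSqZeroExt.fst (vE q hq e) • n :=
    fun _ _ => rfl
  have hsmulA : ∀ (a : A) (n : N), a • n = algebraMap A B a • n := fun _ _ => rfl
  let dl : (PE q hq).Ring →ₗ[A] N :=
    { toFun := fun x => TrivSqZeroExt.snd (vE q hq x)
      map_add' := fun x y => by rw [vE_add, TrivSqZeroExt.snd_add]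
      map_smul' := fun a x => by
        rw [Algebra.smul_def, vE_mul, TrivSqZeroExt.snd_mul, RingHom.id_apply, hsmulA]
        change TrivSqZeroExt.fst (TrivSqZeroExt.inl (algebraMap A B a) : TrivSqZeroExt B N) •
            TrivSqZeroExt.snd (vE q hq x) +
          MulOpposite.op (TrivSqZeroExt.fst (vE q hq x)) •
            TrivSqZeroExt.snd (TrivSqZeroExt.inl (algebraMap A B a) : TrivSqZeroExt B N) = _
        rw [TrivSqZeroExt.fst_inl, TrivSqZeroExt.snd_inl, smul_zero, add_zero] }
  let d : Derivation A (PE q hq).Ring N := Derivation.mk' dl (by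
    intro x y
    change TrivSqZeroExt.snd (vE q hq (x * y)) = x • TrivSqZeroExt.snd (vE q hq y) +
      y • TrivSqZeroExt.snd (vE q hq x)
    rw [vE_mul, TrivSqZeroExt.snd_mul, op_smul_eq_smul, hsmulE, hsmulE])
  have hd : ∀ x, d x = TrivSqZeroExt.snd (vE q hq x) := fun _ => rfl
  let ψ₂ : (PE q hq).CotangentSpace →ₗ[B] N := (d.liftKaehlerDifferential).liftBaseChange B
  have hψ₂ : ∀ (b : B) (e : (PE q hq).Ring), ψ₂ (b ⊗ₜ[(PE q hq).Ring] D A (PE q hq).Ring e) =
      b • TrivSqZeroExt.snd (vE q hq e) := by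
    intro b e
    change b • d.liftKaehlerDifferential (D A (PE q hq).Ring e) = _
    rw [Derivation.liftKaehlerDifferential_comp_D, hd]
  -- q ∘ ψ₂ = toKaehler
  have hqψ : ∀ y, q (ψ₂ y) = (PE q hq).toKaehler y := by
    intro y
    induction y using TensorProduct.induction_on with
    | zero => rw [map_zero, map_zero, map_zero]
    | add y y' hy hy' => rw [map_add, map_add, map_add, hy, hy']
    | tmul b w =>
      have hspan := KaehlerDifferential.span_range_derivation A (PE q hq).Ring
      have hw : w ∈ Submodule.span (PE q hq).Ring (Set.range (D A (PE q hq).Ring)) := by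
        rw [hspan]; trivial
      induction hw using Submodule.span_induction generalizing b with
      | mem w hw =>
        obtain ⟨e, rfl⟩ := hw
        rw [hψ₂, map_smul, vE_mem, KaehlerDifferential.mapBaseChange_tmul,
          KaehlerDifferential.map_D]
        rfl
      | zero => rw [TensorProduct.tmul_zero, map_zero, map_zero, map_zero]
      | add w w' _ _ hw hw' =>
        rw [TensorProduct.tmul_add, map_add, map_add, map_add, hw, hw']
      | smul e w _ hw =>
        have : b ⊗ₜ[(PE q hq).Ring] (e • w) = (b * algebraMap (PE q hq).Ring B e) ⊗ₜ[(PE q hq).Ring] w := by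
          rw [← TensorProduct.smul_tmul, Algebra.smul_def, mul_comm]
        rw [this, hw]
  -- ψ₂ ∘ c ∘ ψ₁ = i
  have hψcψ : ∀ m : M, ψ₂ ((PE q hq).cotangentComplex (psi1 q hq i hex m)) = i m := by
    intro m
    rw [psi1_apply, Algebra.Extension.cotangentComplex_mk, hψ₂, one_smul, inrK_coe,
      TrivSqZeroExt.snd_inr]
  have hψ₁bij := psi1_bijective q hq i hi hex
  have hψ₂bij : Function.Bijective ψ₂ := by
    constructor
    · rw [injective_iff_map_eq_zero]
      intro y hy
      have h1 : (PE q hq).toKaehler y = 0 := by rw [← hqψ, hy, map_zero]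
      obtain ⟨x, rfl⟩ := ((PE q hq).exact_cotangentComplex_toKaehler y).1 h1
      obtain ⟨m, rfl⟩ := hψ₁bij.2 x
      rw [hψcψ] at hy
      have : m = 0 := hi (by rw [hy, map_zero])
      rw [this, map_zero, map_zero]
    · intro n
      obtain ⟨y, hy⟩ := (PE q hq).toKaehler_surjective (q n)
      have h1 : q (n - ψ₂ y) = 0 := by rw [map_sub, hqψ, hy, sub_self]
      obtain ⟨m, hm⟩ := (hex _).1 h1
      refine ⟨y + (PE q hq).cotangentComplex (psi1 q hq i hex m), ?_⟩
      rw [map_add, hψcψ, hm]
      abel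
  let e₁' : M ≃ₗ[B] (PE q hq).Cotangent := LinearEquiv.ofBijective (psi1 q hq i hex) hψ₁bij
  let e₂ : (PE q hq).CotangentSpace ≃ₗ[B] N := LinearEquiv.ofBijective ψ₂ hψ₂bij
  refine ⟨e₁'.symm, e₂, ?_, ?_⟩
  · intro x
    obtain ⟨m, rfl⟩ := e₁'.surjective x
    rw [LinearEquiv.symm_apply_apply]
    exact hψcψ m
  · intro y
    exact hqψ y

end Final

/-- Let k be an algebraically closed field and A → B a map of finitely generated k-algebras with B
reduced and smooth over A at every minimal prime of B (the morphism Spec B → Spec A is smooth on a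
dense open subset). Let M be a finitely generated projective B-module and 0 → M → N → Ω_{B/A} → 0 an
exact sequence of B-modules (i injective, q surjective, image of i = kernel of q). Then there is an
A-algebra extension E → B with square-zero kernel, together with a B-linear identification of its
kernel with M and a B-linear isomorphism of B ⊗_E Ω_{E/A} with N, carrying the conormal map of the
extension to i and q to the canonical map B ⊗_E Ω_{E/A} → Ω_{B/A}. Together with the injectivity
statement for such conormal sequences this is the surjectivity half of the identification of Ex_A(B,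
M) with Ext^1_B(Ω_{B/A}, M); affine case of the statement for algebraic schemes. The module N ranges
over the universe of B. -/
theorem result
    {k : Type u} [Field k] [IsAlgClosed k]
    {A B : Type u} [CommRing A] [CommRing B] [Algebra k A] [Algebra k B] [Algebra A B]
    [IsScalarTower k A B] [Algebra.FiniteType k A] [Algebra.FiniteType k B] [IsReduced B]
    (hsm : ∀ p : PrimeSpectrum B, p.asIdeal ∈ minimalPrimes B → Algebra.IsSmoothAt A p.asIdeal)
    (M N : Type u) [AddCommGroup M] [Module B M] [Module.Finite B M] [Module.Projective B M]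
    [AddCommGroup N] [Module B N]
    (i : M →ₗ[B] N) (q : N →ₗ[B] Ω[B⁄A]) (hi : Function.Injective i) (hq : Function.Surjective q)
    (hex : Function.Exact i q) :
    ∃ P : Algebra.Extension.{u} A B, P.ker ^ 2 = ⊥ ∧
      ∃ (e₁ : P.Cotangent ≃ₗ[B] M) (e₂ : P.CotangentSpace ≃ₗ[B] N),
        (∀ x, e₂ (P.cotangentComplex x) = i (e₁ x)) ∧ (∀ y, q (e₂ y) = P.toKaehler y) := by
  exact main_construction q hq i hi hex


end Groth.Agent.S11285
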