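import Groth.Statements.S11286
import Mathlib
import Groth.Agent.S11284
-- import your own Groth.Agent.* helpers here

set_option autoImplicit false
universe u
open Deform

namespace Groth.Agent.S11286

open TensorProduct KaehlerDifferential Algebra.Extension

section Aux

variable {A B : Type u} [CommRing A] [CommRing B] [Algebra A B]

/-- `δ e = 1 ⊗ d e` in the cotangent space. -/
noncomputable def delta (P : Algebra.Extension.{u} A B) (e : P.Ring) : P.CotangentSpace :=
  (1 : B) ⊗ₜ[P.Ring] D A P.Ring e

theorem delta_add (P : Algebra.Extension.{u} A B) (a b : P.Ring) :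
    delta P (a + b) = delta P a + delta P b := by
  unfold delta
  rw [map_add, TensorProduct.tmul_add]

theorem delta_sub (P : Algebra.Extension.{u} A B) (a b : P.Ring) :
    delta P (a - b) = delta P a - delta P b := by
  unfold delta
  rw [map_sub, TensorProduct.tmul_sub]

theorem delta_zero (P : Algebra.Extension.{u} A B) : delta P 0 = 0 := by
  unfold delta
  rw [map_zero, TensorProduct.tmul_zero]

theorem delta_mul (P : Algebra.Extension.{u} A B) (a b : P.Ring) :
    delta P (a * b) = algebraMap P.Ring B a • delta P b + algebraMap P.Ring B b • delta P a := by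
  unfold delta
  rw [Derivation.leibniz, TensorProduct.tmul_add, TensorProduct.tmul_smul, TensorProduct.tmul_smul,
    algebraMap_smul, algebraMap_smul]

theorem delta_algebraMap (P : Algebra.Extension.{u} A B) (a : A) :
    delta P (algebraMap A P.Ring a) = 0 := by
  unfold delta
  rw [Derivation.map_algebraMap, TensorProduct.tmul_zero]

theorem toKaehler_delta (P : Algebra.Extension.{u} A B) (e : P.Ring) :
    P.toKaehler (delta P e) = D A B (algebraMap P.Ring B e) := by
  unfold delta
  rw [KaehlerDifferential.mapBaseChange_tmul, one_smul, KaehlerDifferential.map_D]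

theorem cotangentComplex_mk_eq_delta (P : Algebra.Extension.{u} A B) (i : P.ker) :
    P.cotangentComplex (Cotangent.mk i) = delta P i.1 := rfl

/-- existence of a compatible element -/
theorem exists_compat (P P' : Algebra.Extension.{u} A B)
    (ε : P.CotangentSpace →ₗ[B] P'.CotangentSpace)
    (hε : ∀ y, P'.toKaehler (ε y) = P.toKaehler y) (e : P.Ring) :
    ∃ e' : P'.Ring, algebraMap P'.Ring B e' = algebraMap P.Ring B e ∧ delta P' e' = ε (delta P e) := by
  obtain ⟨e₀, he₀⟩ := P'.algebraMap_surjective (algebraMap P.Ring B e)
  have h1 : P'.toKaehler (ε (delta P e) - delta P' e₀) = 0 := by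
    rw [map_sub, hε, toKaehler_delta, toKaehler_delta, he₀, sub_self]
  obtain ⟨x', hx'⟩ := (P'.exact_cotangentComplex_toKaehler _).1 h1
  obtain ⟨i', rfl⟩ := Cotangent.mk_surjective x'
  rw [cotangentComplex_mk_eq_delta] at hx'
  refine ⟨e₀ + i'.1, ?_, ?_⟩
  · rw [map_add, he₀]
    have : algebraMap P'.Ring B i'.1 = 0 := i'.2
    rw [this, add_zero]
  · rw [delta_add, hx']
    abel

/-- uniqueness of a compatible element, given injectivity of the conormal map and `ker² = 0`. -/
theorem compat_unique (P' : Algebra.Extension.{u} A B) (hsq' : P'.ker ^ 2 = ⊥)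
    (hinj : Function.Injective P'.cotangentComplex) (a b : P'.Ring)
    (h1 : algebraMap P'.Ring B a = algebraMap P'.Ring B b) (h2 : delta P' a = delta P' b) : a = b := by
  have hmem : a - b ∈ P'.ker := by
    change algebraMap P'.Ring B (a - b) = 0
    rw [map_sub, h1, sub_self]
  have h3 : P'.cotangentComplex (Cotangent.mk ⟨a - b, hmem⟩) = 0 := by
    rw [cotangentComplex_mk_eq_delta, delta_sub, h2, sub_self]
  have h4 := hinj (h3.trans (map_zero _).symm)
  rw [Cotangent.mk_eq_zero_iff, hsq', Ideal.mem_bot] at h4
  exact sub_eq_zero.1 h4

end Aux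

/-- Let k be an algebraically closed field and A → B a map of finitely generated k-algebras with B
reduced and smooth over A at every minimal prime of B (the morphism Spec B → Spec A is smooth on a
dense open subset). Let E → B and E' → B be two A-algebra extensions with square-zero kernels I, I',
where I is a finitely generated projective B-module, and suppose their relative conormal sequences
are isomorphic as extensions of Ω_{B/A}: there are B-linear isomorphisms I ≅ I' and B ⊗_E Ω_{E/A} ≅
B ⊗_{E'} Ω_{E'/A} commuting with the conormal maps and with the canonical maps to Ω_{B/A}. Then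
there is a homomorphism of extensions E → E' (a ring map over A and over B) which is bijective and
induces the given isomorphism I ≅ I'. This is the injectivity half of the identification of Ex_A(B,
M) with Ext^1_B(Ω_{B/A}, M); affine case of the statement for algebraic schemes. -/
theorem result
    {k : Type u} [Field k] [IsAlgClosed k]
    {A B : Type u} [CommRing A] [CommRing B] [Algebra k A] [Algebra k B] [Algebra A B]
    [IsScalarTower k A B] [Algebra.FiniteType k A] [Algebra.FiniteType k B] [IsReduced B]
    (hsm : ∀ p : PrimeSpectrum B, p.asIdeal ∈ minimalPrimes B → Algebra.IsSmoothAt A p.asIdeal)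
    (P P' : Algebra.Extension.{u} A B) (hsq : P.ker ^ 2 = ⊥) (hsq' : P'.ker ^ 2 = ⊥)
    [Module.Finite B P.Cotangent] [Module.Projective B P.Cotangent]
    (e₁ : P.Cotangent ≃ₗ[B] P'.Cotangent) (e₂ : P.CotangentSpace ≃ₗ[B] P'.CotangentSpace)
    (h₁ : ∀ x, e₂ (P.cotangentComplex x) = P'.cotangentComplex (e₁ x))
    (h₂ : ∀ y, P'.toKaehler (e₂ y) = P.toKaehler y) :
    ∃ f : P.Hom P', Function.Bijective f.toRingHom ∧
      Algebra.Extension.Cotangent.map f = e₁.toLinearMap := by
  haveI : Module.Finite B P'.Cotangent := Module.Finite.equiv e₁
  haveI : Module.Projective B P'.Cotangent := Module.Projective.of_equiv e₁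
  have hinj : Function.Injective P.cotangentComplex := Groth.Agent.S11284.result (k := k) hsm P hsq
  have hinj' : Function.Injective P'.cotangentComplex := Groth.Agent.S11284.result (k := k) hsm P' hsq'
  have hex := exists_compat P P' e₂.toLinearMap h₂
  choose φ hφσ hφδ using hex
  replace hφδ : ∀ e, delta P' (φ e) = e₂ (delta P e) := hφδ
  have huniq : ∀ (e : P.Ring) (e' : P'.Ring), algebraMap P'.Ring B e' = algebraMap P.Ring B e →
      delta P' e' = e₂ (delta P e) → φ e = e' := by
    intro e e' h1 h2
    exact compat_unique P' hsq' hinj' _ _ ((hφσ e).trans h1.symm) ((hφδ e).trans h2.symm)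
  let φr : P.Ring →+* P'.Ring :=
    { toFun := φ
      map_one' := by
        apply huniq
        · rw [map_one, map_one]
        · have h1 : delta P' 1 = 0 := by
            have := delta_algebraMap P' (1 : A); rwa [map_one] at this
          have h2 : delta P 1 = 0 := by
            have := delta_algebraMap P (1 : A); rwa [map_one] at this
          rw [h1, h2, map_zero]
      map_mul' := by
        intro a b
        apply huniq
        · rw [map_mul, map_mul, hφσ, hφσ]
        · rw [delta_mul, delta_mul, hφσ, hφσ, hφδ, hφδ, map_add, map_smul, map_smul]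
      map_zero' := by
        apply huniq
        · rw [map_zero, map_zero]
        · rw [delta_zero, delta_zero, map_zero]
      map_add' := by
        intro a b
        apply huniq
        · rw [map_add, map_add, hφσ, hφσ]
        · rw [delta_add, delta_add, hφδ, hφδ, map_add] }
  have hφr : ∀ e, φr e = φ e := fun _ => rfl
  let f : P.Hom P' :=
    { toRingHom := φr
      toRingHom_algebraMap := by
        intro a
        rw [Algebra.algebraMap_self, RingHom.id_apply, hφr]
        apply huniq
        · rw [← IsScalarTower.algebraMap_apply, ← IsScalarTower.algebraMap_apply]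
        · rw [delta_algebraMap, delta_algebraMap, map_zero]
      algebraMap_toRingHom := by
        intro e
        rw [Algebra.algebraMap_self, RingHom.id_apply, hφr, hφσ] }
  refine ⟨f, ⟨?_, ?_⟩, ?_⟩
  · -- injective
    rw [injective_iff_map_eq_zero]
    intro e he
    change φ e = 0 at he
    have h1 : algebraMap P.Ring B e = 0 := by rw [← hφσ, he, map_zero]
    have h2 : delta P e = 0 := by
      apply e₂.injective
      rw [← hφδ, he, delta_zero, map_zero]
    have h3 : P.cotangentComplex (Cotangent.mk ⟨e, h1⟩) = 0 := by
      rw [cotangentComplex_mk_eq_delta]; exact h2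
    have h4 := hinj (h3.trans (map_zero _).symm)
    rw [Cotangent.mk_eq_zero_iff, hsq, Ideal.mem_bot] at h4
    exact h4
  · -- surjective
    intro e'
    have h₂' : ∀ y, P.toKaehler (e₂.symm.toLinearMap y) = P'.toKaehler y := by
      intro y
      have := h₂ (e₂.symm y)
      rw [LinearEquiv.apply_symm_apply] at this
      exact this.symm
    obtain ⟨e, he1, he2⟩ := exists_compat P' P e₂.symm.toLinearMap h₂' e'
    refine ⟨e, ?_⟩
    change φ e = e'
    apply huniq
    · exact he1.symm
    · rw [he2]
      exact (e₂.apply_symm_apply _).symm
  · -- cotangent map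
    apply LinearMap.ext
    intro x
    obtain ⟨i, rfl⟩ := Cotangent.mk_surjective x
    apply hinj'
    rw [Cotangent.map_mk, cotangentComplex_mk_eq_delta]
    change delta P' (φ i.1) = P'.cotangentComplex (e₁ (Cotangent.mk i))
    rw [hφδ, ← h₁, cotangentComplex_mk_eq_delta]


end Groth.Agent.S11286
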