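import Groth.Statements.S11287
import Groth.Agent.Lib.Helper9.ExalPS
-- import your own Groth.Agent.* helpers here

set_option autoImplicit false
universe u
open Deform

namespace Groth.Agent.S11287

/-- Let k be an algebraically closed field, Λ a complete local Noetherian k-algebra with residue field
k, P = Λ[[X_1, …, X_d]] the power series ring, J an ideal of P contained in (X_1, …, X_d)^2, R =
P/J, and L a simple R-module (a copy of the residue field k). Then: (a) for every Λ-extension 0 → L
→ E → R → 0 the quotient map P → R lifts to a Λ-algebra map u : P → E; (b) for two such extensions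
E, E' with lifts u, u', the extensions are equivalent if and only if u and u' send every element of
J to the images of the same element of L (the restrictions J → L of the lifts agree); (c) every
P-linear map J → L is the restriction of a lift for some extension. Thus the classes of Λ-extensions
of R by L correspond bijectively to Hom_P(J, L), the dual of J/m_P J; this is the identification of
the obstruction space o(R/Λ) for a complete R (the general case reduces to it by passing to the
completion). -/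
theorem result
    {k : Type u} [Field k] [IsAlgClosed k]
    {Λ : Type u} [CommRing Λ] [Algebra k Λ] [IsLocalRing Λ] [IsNoetherianRing Λ]
    [IsAdicComplete (IsLocalRing.maximalIdeal Λ) Λ]
    (hΛ : ∀ a : Λ, ∃ c : k, a - algebraMap k Λ c ∈ IsLocalRing.maximalIdeal Λ)
    (d : ℕ) (J : Ideal (MvPowerSeries (Fin d) Λ))
    (hJ : J ≤ Ideal.span (Set.range (MvPowerSeries.X : Fin d → MvPowerSeries (Fin d) Λ)) ^ 2)
    (L : Type u) [AddCommGroup L] [Module (MvPowerSeries (Fin d) Λ ⧸ J) L] [Module (MvPowerSeries (Fin d) Λ) L]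
    [IsScalarTower (MvPowerSeries (Fin d) Λ) (MvPowerSeries (Fin d) Λ ⧸ J) L] [IsSimpleModule (MvPowerSeries (Fin d) Λ ⧸ J) L] :
    (∀ X : Exal.Ext Λ (MvPowerSeries (Fin d) Λ ⧸ J) L,
        ∃ u : MvPowerSeries (Fin d) Λ →ₐ[Λ] X.E, ∀ p, X.proj (u p) = Ideal.Quotient.mk J p) ∧
    (∀ (X X' : Exal.Ext Λ (MvPowerSeries (Fin d) Λ ⧸ J) L) (u : MvPowerSeries (Fin d) Λ →ₐ[Λ] X.E) (u' : MvPowerSeries (Fin d) Λ →ₐ[Λ] X'.E),
        (∀ p, X.proj (u p) = Ideal.Quotient.mk J p) → (∀ p, X'.proj (u' p) = Ideal.Quotient.mk J p) →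
        (Nonempty (X.Equiv X') ↔ ∀ j ∈ J, ∃ z : L, X.incl z = u j ∧ X'.incl z = u' j)) ∧
    (∀ δ : J →ₗ[MvPowerSeries (Fin d) Λ] L, ∃ (X : Exal.Ext Λ (MvPowerSeries (Fin d) Λ ⧸ J) L) (u : MvPowerSeries (Fin d) Λ →ₐ[Λ] X.E),
        (∀ p, X.proj (u p) = Ideal.Quotient.mk J p) ∧ ∀ j : J, X.incl (δ j) = u j) := by
  have hL : ∀ (i : Fin d) (z : L), (MvPowerSeries.X i : MvPowerSeries (Fin d) Λ) • z = 0 := by
    intro i z
    by_cases hz : z = 0
    · rw [hz, smul_zero]
    have hmax := IsSimpleModule.ker_toSpanSingleton_isMaximal (MvPowerSeries (Fin d) Λ ⧸ J) hz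
    have hcomap : (Ideal.comap (Ideal.Quotient.mk J) (LinearMap.ker
        (LinearMap.toSpanSingleton (MvPowerSeries (Fin d) Λ ⧸ J) L z))).IsMaximal :=
      Ideal.comap_isMaximal_of_surjective _ Ideal.Quotient.mk_surjective
    have heq := IsLocalRing.eq_maximalIdeal hcomap
    have hX : (MvPowerSeries.X i : MvPowerSeries (Fin d) Λ) ∈
        IsLocalRing.maximalIdeal (MvPowerSeries (Fin d) Λ) := by
      rw [IsLocalRing.mem_maximalIdeal, mem_nonunits_iff, MvPowerSeries.isUnit_iff_constantCoeff,
        MvPowerSeries.constantCoeff_X]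
      exact not_isUnit_zero
    rw [← heq, Ideal.mem_comap, LinearMap.mem_ker, LinearMap.toSpanSingleton_apply] at hX
    rwa [← Ideal.Quotient.algebraMap_eq, algebraMap_smul] at hX
  refine ⟨fun X => Groth.Agent.Lib.Helper9.ExalPS.exists_lift J hL X, ?_, fun δ =>
    Groth.Agent.Lib.Helper9.ExalPS.exists_ext_of_linearMap J δ⟩
  intro X X' u u' hu hu'
  constructor
  · rintro ⟨θ⟩
    exact Groth.Agent.Lib.Helper9.ExalPS.agree_of_equiv J hL hJ X X' u u' hu hu' θ
  · intro hag
    exact Groth.Agent.Lib.Helper9.ExalPS.equiv_of_agree J X X' u u' hu hu' hag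

end Groth.Agent.S11287
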