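import Groth.Statements.S11288
import Mathlib
-- import your own Groth.Agent.* helpers here

set_option autoImplicit false
universe u
open Deform

namespace Groth.Agent.S11288

/-- Let K be a field, R' a local Artinian K-algebra with residue field K, and t a nonzero element of the
maximal ideal m' of R' with m' t = 0, so that R' → R = R'/(t) is a small extension of R. Then the
extension is trivial, i.e. the projection admits a section which is a K-algebra map, if and only if
t is not in m'^2; equivalently, iff the surjection m'/m'^2 → m_R/m_R^2 induced on cotangent spaces,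
whose kernel is spanned by the class of t, is not bijective. For instance K[t]/(t^(n+1)) →
K[t]/(t^n) is a non-trivial small extension for n ≥ 2. (The published example allows any local
K-algebra with residue field K; the row takes R' Artinian, the case in which the subalgebra
generated by lifts of a basis of the cotangent space maps onto R.) -/
theorem result
    {K : Type u} [Field K]
    {R' : Type u} [CommRing R'] [Algebra K R'] [IsLocalRing R'] [IsArtinianRing R']
    (hres : ∀ a : R', ∃ c : K, a - algebraMap K R' c ∈ IsLocalRing.maximalIdeal R')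
    (t : R') (ht : t ∈ IsLocalRing.maximalIdeal R') (ht0 : t ≠ 0)
    (htm : ∀ a ∈ IsLocalRing.maximalIdeal R', a * t = 0) :
    (∃ s : (R' ⧸ Ideal.span {t}) →ₐ[K] R', ∀ x, Ideal.Quotient.mk (Ideal.span {t}) (s x) = x) ↔
      t ∉ IsLocalRing.maximalIdeal R' ^ 2 := by
  classical
  set m := IsLocalRing.maximalIdeal R' with hm
  have hunit : ∀ c : K, algebraMap K R' c ∈ m → c = 0 := by
    intro c hc
    by_contra hc0
    exact (IsLocalRing.mem_maximalIdeal _).mp hc ((IsUnit.mk0 _ hc0).map _)
  -- multiplication by `t` only sees the residue class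
  have hmul_t : ∀ (a : R') (c : K), a - algebraMap K R' c ∈ m → a * t = c • t := by
    intro a c hc
    have : a * t = c • t + (a - algebraMap K R' c) * t := by
      rw [Algebra.smul_def]; ring
    rw [this, htm _ hc, add_zero]
  have htt : t * t = 0 := htm t ht
  have hspan : ∀ a ∈ Ideal.span ({t} : Set R'), ∃ c : K, a = c • t := by
    intro a ha
    obtain ⟨r, rfl⟩ := Ideal.mem_span_singleton'.mp ha
    obtain ⟨c, hc⟩ := hres r
    exact ⟨c, hmul_t r c hc⟩
  constructor
  · rintro ⟨s, hs⟩ htsq
    apply ht0
    set π := Ideal.Quotient.mk (Ideal.span ({t} : Set R')) with hπ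
    have hdiff : ∀ u : R', ∃ α : K, u = s (π u) + α • t := by
      intro u
      have : u - s (π u) ∈ Ideal.span ({t} : Set R') := by
        rw [← Ideal.Quotient.eq_zero_iff_mem, map_sub, hs, sub_self]
      obtain ⟨α, hα⟩ := hspan _ this
      exact ⟨α, by rw [← hα]; ring⟩
    have hsm : ∀ u ∈ m, s (π u) ∈ m := by
      intro u hu
      obtain ⟨α, hα⟩ := hdiff u
      have : s (π u) = u - α • t := by rw [eq_sub_iff_add_eq]; exact hα.symm
      rw [this]
      exact m.sub_mem hu (by rw [Algebra.smul_def]; exact m.mul_mem_left _ ht)
    have hprod : ∀ u ∈ m, ∀ v ∈ m, u * v = s (π (u * v)) := by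
      intro u hu v hv
      obtain ⟨α, hα⟩ := hdiff u
      obtain ⟨β, hβ⟩ := hdiff v
      have a1 : s (π u) * t = 0 := htm _ (hsm u hu)
      have a2 : s (π v) * t = 0 := htm _ (hsm v hv)
      have b1 : s (π u) * (β • t) = 0 := by rw [mul_smul_comm, a1, smul_zero]
      have b2 : (α • t) * s (π v) = 0 := by rw [smul_mul_assoc, mul_comm, a2, smul_zero]
      have b3 : (α • t) * (β • t) = 0 := by
        rw [smul_mul_assoc, mul_smul_comm, htt, smul_zero, smul_zero]
      rw [map_mul, map_mul]
      conv_lhs => rw [hα, hβ]
      rw [add_mul, mul_add, mul_add, b1, b2, b3]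
      simp
    have hsq : ∀ f ∈ m ^ 2, f = s (π f) := by
      intro f hf
      rw [pow_two] at hf
      refine Submodule.mul_induction_on hf ?_ ?_
      · intro u hu v hv
        exact hprod u hu v hv
      · intro x y hx hy
        rw [map_add, map_add, ← hx, ← hy]
    have h1 := hsq t htsq
    have h2 : π t = 0 := Ideal.Quotient.eq_zero_iff_mem.mpr (Ideal.subset_span rfl)
    rw [h2, map_zero] at h1
    exact h1
  · intro htsq
    -- a functional killing `1` and `m²` but not `t`
    let W : Submodule K R' := Submodule.span K {(1 : R')} ⊔ (m ^ 2).restrictScalars K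
    have htW : t ∉ W := by
      intro h
      obtain ⟨y, hy, w, hw, hyw⟩ := Submodule.mem_sup.mp h
      obtain ⟨c, rfl⟩ := Submodule.mem_span_singleton.mp hy
      have hw' : w ∈ m ^ 2 := hw
      have hwm : w ∈ m := Ideal.pow_le_self two_ne_zero hw'
      have hc : algebraMap K R' c ∈ m := by
        have : algebraMap K R' c = t - w := by
          rw [← hyw, Algebra.smul_def, mul_one]; ring
        rw [this]; exact m.sub_mem ht hwm
      have hc0 := hunit c hc
      rw [hc0, zero_smul, zero_add] at hyw
      rw [← hyw] at htsq
      exact htsq hw'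
    obtain ⟨lam, hlam0, hlamW⟩ := Submodule.exists_dual_map_eq_bot_of_notMem htW inferInstance
    have hlamW' : ∀ w ∈ W, lam w = 0 := by
      intro w hw
      have : lam w ∈ Submodule.map lam W := ⟨w, hw, rfl⟩
      rw [hlamW] at this
      exact (Submodule.mem_bot K).mp this
    have hlam1 : lam 1 = 0 := hlamW' 1 (Submodule.mem_sup_left (Submodule.mem_span_singleton_self _))
    have hlamsq : ∀ w ∈ m ^ 2, lam w = 0 := fun w hw => hlamW' w (Submodule.mem_sup_right hw)
    let D : R' →ₗ[K] K := (lam t)⁻¹ • lam
    have hD : ∀ a, D a = (lam t)⁻¹ * lam a := fun a => rfl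
    have hDt : D t = 1 := by rw [hD, inv_mul_cancel₀ hlam0]
    have hD1 : D 1 = 0 := by rw [hD, hlam1, mul_zero]
    have hDsq : ∀ w ∈ m ^ 2, D w = 0 := fun w hw => by rw [hD, hlamsq w hw, mul_zero]
    have hDalg : ∀ c : K, D (algebraMap K R' c) = 0 := by
      intro c
      rw [Algebra.algebraMap_eq_smul_one, map_smul, hD1, smul_zero]
    have hDmul : ∀ (a b : R') (α β : K), a - algebraMap K R' α ∈ m → b - algebraMap K R' β ∈ m →
        D (a * b) = α * D b + β * D a := by
      intro a b α β hα hβ
      have e : a * b = algebraMap K R' (α * β) + α • (b - algebraMap K R' β)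
          + β • (a - algebraMap K R' α) + (a - algebraMap K R' α) * (b - algebraMap K R' β) := by
        rw [Algebra.smul_def, Algebra.smul_def, map_mul]; ring
      have hsq : (a - algebraMap K R' α) * (b - algebraMap K R' β) ∈ m ^ 2 := by
        rw [pow_two]; exact Ideal.mul_mem_mul hα hβ
      rw [e, map_add, map_add, map_add, hDalg, hDsq _ hsq, map_smul, map_smul, map_sub, map_sub,
        hDalg, hDalg]
      simp
    -- the algebra map `a ↦ a - D a • t`
    let g : R' →ₐ[K] R' :=
      { toFun := fun a => a - D a • t
        map_one' := by simp only [hD1, zero_smul, sub_zero]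
        map_mul' := fun a b => by
          obtain ⟨α, hα⟩ := hres a
          obtain ⟨β, hβ⟩ := hres b
          have h1 : a * t = α • t := hmul_t a α hα
          have h2 : b * t = β • t := hmul_t b β hβ
          have c1 : a * (D b • t) = D b • (a * t) := mul_smul_comm _ _ _
          have c2 : (D a • t) * b = D a • (b * t) := by rw [smul_mul_assoc, mul_comm]
          have c3 : (D a • t) * (D b • t) = (D a * D b) • (t * t) := by
            rw [smul_mul_assoc, mul_smul_comm, smul_smul]
          have h3 : (a - D a • t) * (b - D b • t) =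
              a * b - D b • (a * t) - D a • (b * t) + (D a * D b) • (t * t) := by
            rw [← c1, ← c2, ← c3]; ring
          rw [h3, h1, h2, htt, smul_zero, add_zero, hDmul a b α β hα hβ, smul_smul, smul_smul,
            add_smul]
          rw [mul_comm (D b) α, mul_comm (D a) β]
          abel
        map_zero' := by simp
        map_add' := fun a b => by
          simp only [map_add, add_smul]; abel
        commutes' := fun c => by
          simp only [hDalg, zero_smul, sub_zero] }
    have hg : ∀ a, g a = a - D a • t := fun a => rfl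
    have hgker : ∀ a ∈ Ideal.span ({t} : Set R'), g a = 0 := by
      intro a ha
      obtain ⟨c, rfl⟩ := hspan a ha
      rw [hg, map_smul, hDt, smul_eq_mul, mul_one, sub_self]
    refine ⟨Ideal.Quotient.liftₐ (Ideal.span ({t} : Set R')) g hgker, ?_⟩
    intro x
    obtain ⟨a, rfl⟩ := Ideal.Quotient.mk_surjective x
    have : Ideal.Quotient.liftₐ (Ideal.span ({t} : Set R')) g hgker
        (Ideal.Quotient.mk (Ideal.span ({t} : Set R')) a) = g a := rfl
    rw [this, hg, map_sub]
    have h2 : Ideal.Quotient.mk (Ideal.span ({t} : Set R')) (D a • t) = 0 := by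
      rw [Ideal.Quotient.eq_zero_iff_mem, Algebra.smul_def]
      exact Ideal.mul_mem_left _ _ (Ideal.subset_span rfl)
    rw [h2, sub_zero]

end Groth.Agent.S11288
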