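import Groth.Statements.S11291
import Groth.Agent.Lib.Helper57.NilpFiniteType
-- import your own Groth.Agent.* helpers here

set_option autoImplicit false
universe u
open Deform

namespace Groth.Agent.S11291

namespace ExtAux

open IsLocalRing

section gens
variable {k : Type u} [Field k] {A : Type u} [CommRing A] [Algebra k A] [IsLocalRing A]
  [IsArtinianRing A]

/-- minimal generators of the maximal ideal, linearly independent modulo `m²` over `k`. -/
theorem exists_min_gens :
    ∃ (n : ℕ) (x : Fin n → A), (∀ i, x i ∈ maximalIdeal A) ∧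
      Ideal.span (Set.range x) = maximalIdeal A ∧
      ∀ a : Fin n → k, (∑ i, a i • x i) ∈ maximalIdeal A ^ 2 → ∀ i, a i = 0 := by
  classical
  let b := Module.finBasis (ResidueField A) (CotangentSpace A)
  set n := Module.finrank (ResidueField A) (CotangentSpace A) with hn
  choose y hy using fun i => (maximalIdeal A).toCotangent_surjective (b i)
  refine ⟨n, fun i => (y i : A), fun i => (y i).2, ?_, ?_⟩
  · have h1 : Submodule.span (ResidueField A) ((maximalIdeal A).toCotangent '' Set.range y) = ⊤ := by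
      rw [← Set.range_comp]
      have : (⇑(maximalIdeal A).toCotangent ∘ y) = ⇑b := by
        ext i; exact hy i
      rw [this, b.span_eq]
    have h2 := CotangentSpace.span_image_eq_top_iff.mp h1
    have h3 := congrArg (Submodule.map (maximalIdeal A).subtype) h2
    rw [Submodule.map_span, Submodule.map_top, Submodule.range_subtype, ← Set.range_comp] at h3
    exact h3
  · intro a ha i
    have h0 : (maximalIdeal A).toCotangent (∑ i, a i • y i) = 0 := by
      rw [Ideal.toCotangent_eq_zero]
      have : ((∑ i, a i • y i : maximalIdeal A) : A) = ∑ i, a i • (y i : A) := by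
        simp
      rw [this]; exact ha
    rw [map_sum] at h0
    have h1 : ∀ i, (maximalIdeal A).toCotangent (a i • y i) =
        (residue A (algebraMap k A (a i))) • b i := by
      intro i
      rw [← hy i]
      have : a i • y i = (algebraMap k A (a i)) • y i := by
        apply Subtype.ext
        simp [Algebra.smul_def]
      rw [this, map_smul]
      rfl
    simp_rw [h1] at h0
    have h2 := Fintype.linearIndependent_iff.mp b.linearIndependent _ h0 i
    by_contra hai
    have hu : IsUnit (algebraMap k A (a i)) := (IsUnit.mk0 _ hai).map _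
    have hm : algebraMap k A (a i) ∈ maximalIdeal A := by
      rwa [← IsLocalRing.residue_eq_zero_iff]
    exact (IsLocalRing.mem_maximalIdeal _).mp hm hu

end gens


open MvPolynomial

theorem mv_decomp {k : Type u} [Field k] (n : ℕ) (f : MvPolynomial (Fin n) k) :
    ∃ (c : k) (a : Fin n → k) (g : MvPolynomial (Fin n) k),
      g ∈ (Ideal.span (Set.range (X : Fin n → MvPolynomial (Fin n) k))) ^ 2 ∧
      f = C c + ∑ i, C (a i) * X i + g := by
  classical
  set 𝔫 := Ideal.span (Set.range (X : Fin n → MvPolynomial (Fin n) k)) with h𝔫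
  have hX : ∀ i, (X i : MvPolynomial (Fin n) k) ∈ 𝔫 := fun i => Ideal.subset_span ⟨i, rfl⟩
  induction f using MvPolynomial.induction_on with
  | C c => exact ⟨c, 0, 0, Ideal.zero_mem _, by simp⟩
  | add p q hp hq =>
    obtain ⟨c, a, g, hg, rfl⟩ := hp
    obtain ⟨c', a', g', hg', rfl⟩ := hq
    refine ⟨c + c', a + a', g + g', Ideal.add_mem _ hg hg', ?_⟩
    simp only [Pi.add_apply, map_add, add_mul, Finset.sum_add_distrib]
    ring
  | mul_X p j hp =>
    obtain ⟨c, a, g, hg, rfl⟩ := hp
    refine ⟨0, Pi.single j c, (∑ i, C (a i) * X i * X j) + g * X j, ?_, ?_⟩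
    · apply Ideal.add_mem
      · apply Ideal.sum_mem
        intro i _
        rw [mul_assoc, pow_two]
        exact Ideal.mul_mem_left _ _ (Ideal.mul_mem_mul (hX i) (hX j))
      · exact Ideal.mul_mem_right _ _ hg
    · have h1 : ∑ i, C ((Pi.single j c : Fin n → k) i) * (X i : MvPolynomial (Fin n) k) =
          C c * X j := by
        rw [Finset.sum_eq_single j]
        · simp
        · intro i _ hij
          simp [hij]
        · simp
      rw [h1]
      simp only [map_zero, zero_add, add_mul, Finset.sum_mul]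
      ring




theorem exists_nontrivial_ext {k : Type u} [Field k] {A : Type u} [CommRing A] [Algebra k A]
    [IsLocalRing A]
    (hres : ∀ a : A, ∃ c : k, a - algebraMap k A c ∈ maximalIdeal A)
    (P : Type u) [CommRing P] [Algebra k P] (𝔫 : Ideal P) (φ : P →ₐ[k] A)
    (hφ : Function.Surjective φ)
    (h1 : ∀ p : P, ∃ c : k, p - algebraMap k P c ∈ 𝔫)
    (h2 : ∀ p ∈ 𝔫, φ p ∈ maximalIdeal A)
    (h3 : ∀ p : P, φ p = 0 → p ∈ 𝔫 ^ 2)
    (f₀ : P) (hf₀ : φ f₀ = 0) (hf₀' : f₀ ∉ 𝔫 * RingHom.ker φ.toRingHom) :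
    ∃ X : Exal.Ext k A (ResidueField A), ¬ X.IsTrivial := by
  classical
  set J : Ideal P := RingHom.ker φ.toRingHom with hJ
  have hJmem : ∀ p, p ∈ J ↔ φ p = 0 := fun p => Iff.rfl
  -- the linear functional
  obtain ⟨lam, hlam0, hlamW⟩ := Submodule.exists_dual_map_eq_bot_of_notMem
    (p := (𝔫 * J).restrictScalars k) (x := f₀) hf₀' inferInstance
  have hlamW' : ∀ w ∈ 𝔫 * J, lam w = 0 := by
    intro w hw
    have : lam w ∈ Submodule.map lam ((𝔫 * J).restrictScalars k) := ⟨w, hw, rfl⟩
    rw [hlamW] at this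
    exact (Submodule.mem_bot k).mp this
  -- the ideal J'
  let J' : Ideal P :=
    { carrier := {f | f ∈ J ∧ lam f = 0}
      add_mem' := fun {a b} ha hb => ⟨J.add_mem ha.1 hb.1, by rw [map_add, ha.2, hb.2, add_zero]⟩
      zero_mem' := ⟨J.zero_mem, map_zero _⟩
      smul_mem' := fun p f hf => by
        obtain ⟨c, hc⟩ := h1 p
        refine ⟨J.mul_mem_left p hf.1, ?_⟩
        have e1 : p • f = c • f + (p - algebraMap k P c) * f := by
          rw [smul_eq_mul, Algebra.smul_def]; ring
        rw [e1, map_add, map_smul, hf.2, smul_zero, zero_add]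
        exact hlamW' _ (Ideal.mul_mem_mul hc hf.1) }
  have hJ'mem : ∀ f, f ∈ J' ↔ (f ∈ J ∧ lam f = 0) := fun f => Iff.rfl
  have hJ'J : ∀ f ∈ J', φ f = 0 := fun f hf => hf.1
  let E := P ⧸ J'
  let proj : E →ₐ[k] A := Ideal.Quotient.liftₐ J' φ hJ'J
  let t : E := Ideal.Quotient.mk J' f₀
  have ht0 : t ≠ 0 := by
    intro h
    have : f₀ ∈ J' := Ideal.Quotient.eq_zero_iff_mem.mp h
    exact hlam0 this.2
  have hproj_mk : ∀ p : P, proj (Ideal.Quotient.mk J' p) = φ p := fun p => rfl
  -- the equivalence k ≃ κ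
  let ι : k →+* ResidueField A := (residue A).comp (algebraMap k A)
  have hιinj : Function.Injective ι := ι.injective
  have hιsurj : Function.Surjective ι := by
    intro z
    obtain ⟨a, rfl⟩ := residue_surjective z
    obtain ⟨c, hc⟩ := hres a
    refine ⟨c, ?_⟩
    have : residue A (a - algebraMap k A c) = 0 := (residue_eq_zero_iff _).mpr hc
    rw [map_sub, sub_eq_zero] at this
    exact this.symm
  let e : k ≃+* ResidueField A := RingEquiv.ofBijective ι ⟨hιinj, hιsurj⟩
  have he : ∀ c, e c = residue A (algebraMap k A c) := fun c => rfl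
  let incl : ResidueField A →+ E :=
    ((smulAddHom k E).flip t).comp e.symm.toAddMonoidHom
  have hincl : ∀ z, incl z = e.symm z • t := fun z => rfl
  -- key facts
  have hmk_nJ : ∀ p ∈ 𝔫, ∀ f ∈ J, Ideal.Quotient.mk J' (p * f) = 0 := by
    intro p hp f hf
    rw [Ideal.Quotient.eq_zero_iff_mem]
    exact ⟨J.mul_mem_left p hf, hlamW' _ (Ideal.mul_mem_mul hp hf)⟩
  have hmul_t : ∀ (p : P) (c : k), p - algebraMap k P c ∈ 𝔫 →
      Ideal.Quotient.mk J' p * t = c • t := by
    intro p c hc
    have e1 : p * f₀ = c • f₀ + (p - algebraMap k P c) * f₀ := by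
      rw [Algebra.smul_def]; ring
    show Ideal.Quotient.mk J' p * Ideal.Quotient.mk J' f₀ = c • Ideal.Quotient.mk J' f₀
    rw [← map_mul, e1, map_add, hmk_nJ _ hc f₀ hf₀, add_zero]
    rfl
  have hres_c : ∀ (p : P) (c : k), p - algebraMap k P c ∈ 𝔫 → residue A (φ p) = e c := by
    intro p c hc
    have h := h2 _ hc
    rw [map_sub, AlgHom.commutes] at h
    have : residue A (φ p - algebraMap k A c) = 0 := (residue_eq_zero_iff _).mpr h
    rw [map_sub, sub_eq_zero] at this
    rw [this, he]
  have hker : ∀ x : E, proj x = 0 → ∃ c : k, x = c • t := by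
    intro x hx
    obtain ⟨p, rfl⟩ := Ideal.Quotient.mk_surjective x
    have hp : p ∈ J := hx
    refine ⟨lam p / lam f₀, ?_⟩
    have : p - (lam p / lam f₀) • f₀ ∈ J' := by
      refine ⟨J.sub_mem hp ?_, ?_⟩
      · rw [Algebra.smul_def]; exact J.mul_mem_left _ hf₀
      · rw [map_sub, map_smul, smul_eq_mul, div_mul_cancel₀ _ hlam0, sub_self]
    have h' := Ideal.Quotient.eq_zero_iff_mem.mpr this
    rw [map_sub, sub_eq_zero] at h'
    rw [h']
    rfl
  have hann : ∀ y : E, proj y ∈ maximalIdeal A → y * t = 0 := by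
    intro y hy
    obtain ⟨p, rfl⟩ := Ideal.Quotient.mk_surjective y
    obtain ⟨c, hc⟩ := h1 p
    rw [hmul_t p c hc]
    have h := hres_c p c hc
    have h0 : residue A (φ p) = 0 := (residue_eq_zero_iff _).mpr hy
    rw [h0] at h
    have : c = 0 := by
      have := e.injective (h.symm.trans (map_zero e).symm)
      exact this
    rw [this, zero_smul]
  have hnosec : ¬ ∃ s : A →ₐ[k] E, ∀ b, proj (s b) = b := by
    rintro ⟨s, hs⟩
    apply ht0
    -- for u v ∈ 𝔫, mk (u v) = s (φ (u v))
    have hprod : ∀ u ∈ 𝔫, ∀ v ∈ 𝔫,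
        Ideal.Quotient.mk J' (u * v) = s (φ (u * v)) := by
      intro u hu v hv
      obtain ⟨α, hα⟩ := hker (Ideal.Quotient.mk J' u - s (φ u)) (by
        rw [map_sub, hs]; exact sub_self _)
      obtain ⟨β, hβ⟩ := hker (Ideal.Quotient.mk J' v - s (φ v)) (by
        rw [map_sub, hs]; exact sub_self _)
      have hu' : Ideal.Quotient.mk J' u = s (φ u) + α • t := by rw [← hα]; ring
      have hv' : Ideal.Quotient.mk J' v = s (φ v) + β • t := by rw [← hβ]; ring
      have a1 : s (φ u) * t = 0 := hann _ (by rw [hs]; exact h2 u hu)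
      have a2 : s (φ v) * t = 0 := hann _ (by rw [hs]; exact h2 v hv)
      have a3 : t * t = 0 := hann _ (by
        have : proj t = 0 := hf₀
        rw [this]; exact Ideal.zero_mem _)
      have b1 : s (φ u) * (β • t) = 0 := by rw [mul_smul_comm, a1, smul_zero]
      have b2 : (α • t) * s (φ v) = 0 := by rw [smul_mul_assoc, mul_comm, a2, smul_zero]
      have b3 : (α • t) * (β • t) = 0 := by
        rw [smul_mul_assoc, mul_smul_comm, a3, smul_zero, smul_zero]
      rw [map_mul, hu', hv', map_mul, map_mul, add_mul, mul_add, mul_add, b1, b2, b3]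
      simp
    have hsq : ∀ f ∈ 𝔫 ^ 2, Ideal.Quotient.mk J' f = s (φ f) := by
      intro f hf
      rw [pow_two] at hf
      refine Submodule.mul_induction_on hf ?_ ?_
      · intro u hu v hv
        exact hprod u hu v hv
      · intro x y hx hy
        rw [map_add, map_add, map_add, hx, hy]
    show Ideal.Quotient.mk J' f₀ = 0
    rw [hsq f₀ (h3 f₀ hf₀), hf₀, map_zero]
  refine ⟨{ E := E, proj := proj, incl := incl, isExtension := ?_ }, ?_⟩
  · refine ⟨?_, ?_, ?_, ?_⟩
    · intro a
      obtain ⟨p, rfl⟩ := hφ a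
      exact ⟨Ideal.Quotient.mk J' p, rfl⟩
    · intro z z' hzz'
      rw [hincl, hincl] at hzz'
      have : (e.symm z - e.symm z') • t = 0 := by rw [sub_smul, hzz', sub_self]
      rcases smul_eq_zero.mp this with h | h
      · exact e.symm.injective (sub_eq_zero.mp h)
      · exact absurd h ht0
    · intro x
      constructor
      · intro hx
        obtain ⟨c, rfl⟩ := hker x hx
        exact ⟨e c, by rw [hincl, e.symm_apply_apply]⟩
      · rintro ⟨z, rfl⟩
        rw [hincl, map_smul]
        have : proj t = 0 := hf₀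
        rw [this, smul_zero]
    · intro x z
      obtain ⟨p, rfl⟩ := Ideal.Quotient.mk_surjective x
      obtain ⟨c, hc⟩ := h1 p
      rw [hincl, hincl, mul_smul_comm, hmul_t p c hc, smul_smul]
      congr 1
      have : proj (Ideal.Quotient.mk J' p) • z = e c * z := by
        rw [Algebra.smul_def, hproj_mk]
        congr 1
        exact hres_c p c hc
      rw [this, map_mul, e.symm_apply_apply, mul_comm]
  · rintro ⟨s, hs⟩
    exact hnosec ⟨s, hs⟩


end ExtAux

/-- Let k be an algebraically closed field and A a local Artinian k-algebra with residue field k and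
non-zero maximal ideal, i.e. A is not k. Then the obstruction space o(A) = Ex_k(A, k) is not zero:
there is a k-extension 0 → k → E → A → 0 of A by its residue field which is not trivial (admits no
k-algebra section). Equivalently, k is the only formally smooth object among local Artinian
k-algebras with residue field k. -/
theorem result
    {k : Type u} [Field k] [IsAlgClosed k]
    {A : Type u} [CommRing A] [Algebra k A] [IsLocalRing A] [IsArtinianRing A]
    (hres : ∀ a : A, ∃ c : k, a - algebraMap k A c ∈ IsLocalRing.maximalIdeal A)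
    (hA : IsLocalRing.maximalIdeal A ≠ ⊥) :
    ∃ X : Exal.Ext k A (IsLocalRing.ResidueField A), ¬ X.IsTrivial := by
  classical
  obtain ⟨n, x, hxm, hspan, hindep⟩ := ExtAux.exists_min_gens (k := k) (A := A)
  let P := MvPolynomial (Fin n) k
  let 𝔫 : Ideal P := Ideal.span (Set.range (MvPolynomial.X : Fin n → P))
  let φ : P →ₐ[k] A := MvPolynomial.aeval x
  have hφX : ∀ i, φ (MvPolynomial.X i) = x i := fun i => MvPolynomial.aeval_X x i
  have hnil : IsNilpotent (IsLocalRing.maximalIdeal A) := by
    have := IsArtinianRing.isNilpotent_jacobson_bot (R := A)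
    rwa [IsLocalRing.jacobson_eq_maximalIdeal ⊥ bot_ne_top] at this
  -- surjectivity
  have hφ : Function.Surjective φ := by
    have htop : φ.range = ⊤ := by
      apply Groth.Agent.Lib.Helper57.subalgebra_eq_top_of_isNilpotent_ker
        (IsLocalRing.residue A) φ.range ?_ (Set.range x) ?_ ?_ ?_
      · intro z
        obtain ⟨a, rfl⟩ := IsLocalRing.residue_surjective z
        obtain ⟨c, hc⟩ := hres a
        refine ⟨algebraMap k A c, Subalgebra.algebraMap_mem _ c, ?_⟩
        have : IsLocalRing.residue A (a - algebraMap k A c) = 0 :=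
          (IsLocalRing.residue_eq_zero_iff _).mpr hc
        rw [map_sub, sub_eq_zero] at this
        exact this.symm
      · rw [IsLocalRing.ker_residue]; exact hspan
      · rintro _ ⟨i, rfl⟩
        exact ⟨MvPolynomial.X i, hφX i⟩
      · rw [IsLocalRing.ker_residue]; exact hnil
    exact (AlgHom.range_eq_top φ).mp htop
  have h𝔫le : 𝔫 ≤ Ideal.comap φ (IsLocalRing.maximalIdeal A) := by
    apply Ideal.span_le.mpr
    rintro _ ⟨i, rfl⟩
    show φ (MvPolynomial.X i) ∈ IsLocalRing.maximalIdeal A
    rw [hφX]; exact hxm i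
  have h2 : ∀ p ∈ 𝔫, φ p ∈ IsLocalRing.maximalIdeal A := fun p hp => h𝔫le hp
  have h2sq : ∀ p ∈ 𝔫 ^ 2, φ p ∈ IsLocalRing.maximalIdeal A ^ 2 := by
    intro p hp
    have h := (Ideal.pow_right_mono h𝔫le 2).trans (Ideal.le_comap_pow (φ : P →+* A) 2)
    exact h hp
  have hsum_mem : ∀ a : Fin n → k, (∑ i, MvPolynomial.C (a i) * (MvPolynomial.X i : P)) ∈ 𝔫 := by
    intro a
    apply Ideal.sum_mem
    intro i _
    exact Ideal.mul_mem_left _ _ (Ideal.subset_span ⟨i, rfl⟩)
  have hφsum : ∀ a : Fin n → k, φ (∑ i, MvPolynomial.C (a i) * (MvPolynomial.X i : P)) =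
      ∑ i, a i • x i := by
    intro a
    rw [map_sum]
    apply Finset.sum_congr rfl
    intro i _
    rw [map_mul, hφX, Algebra.smul_def]
    congr 1
    exact MvPolynomial.aeval_C x (a i)
  have h1 : ∀ p : P, ∃ c : k, p - algebraMap k P c ∈ 𝔫 := by
    intro p
    obtain ⟨c, a, g, hg, rfl⟩ := ExtAux.mv_decomp n p
    refine ⟨c, ?_⟩
    have : MvPolynomial.C c + ∑ i, MvPolynomial.C (a i) * MvPolynomial.X i + g -
        algebraMap k P c = ∑ i, MvPolynomial.C (a i) * MvPolynomial.X i + g := by
      rw [MvPolynomial.algebraMap_eq]; ring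
    rw [this]
    exact Ideal.add_mem _ (hsum_mem a) (Ideal.pow_le_self two_ne_zero hg)
  have hunit : ∀ c : k, algebraMap k A c ∈ IsLocalRing.maximalIdeal A → c = 0 := by
    intro c hc
    by_contra hc0
    exact (IsLocalRing.mem_maximalIdeal _).mp hc ((IsUnit.mk0 _ hc0).map _)
  have h3 : ∀ p : P, φ p = 0 → p ∈ 𝔫 ^ 2 := by
    intro p hp
    obtain ⟨c, a, g, hg, rfl⟩ := ExtAux.mv_decomp n p
    rw [map_add, map_add, hφsum] at hp
    have hφC : φ (MvPolynomial.C c) = algebraMap k A c := MvPolynomial.aeval_C x c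
    rw [hφC] at hp
    have hgm : φ g ∈ IsLocalRing.maximalIdeal A ^ 2 := h2sq g hg
    have hsm : (∑ i, a i • x i) ∈ IsLocalRing.maximalIdeal A := by
      apply Ideal.sum_mem
      intro i _
      rw [Algebra.smul_def]
      exact Ideal.mul_mem_left _ _ (hxm i)
    have hc : c = 0 := by
      apply hunit
      have : algebraMap k A c = -(∑ i, a i • x i + φ g) := by
        linear_combination hp
      rw [this]
      exact Ideal.neg_mem_iff _ |>.mpr
        (Ideal.add_mem _ hsm (Ideal.pow_le_self two_ne_zero hgm))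
    rw [hc, map_zero, zero_add] at hp
    have ha : ∀ i, a i = 0 := by
      apply hindep
      have : (∑ i, a i • x i) = -φ g := by linear_combination hp
      rw [this]
      exact Ideal.neg_mem_iff _ |>.mpr hgm
    have : MvPolynomial.C c + ∑ i, MvPolynomial.C (a i) * (MvPolynomial.X i : P) + g = g := by
      rw [hc]
      simp [ha]
    rw [this]
    exact hg
  -- existence of f₀
  have hex : ∃ f₀ : P, φ f₀ = 0 ∧ f₀ ∉ 𝔫 * RingHom.ker φ.toRingHom := by
    by_contra hcon
    push Not at hcon
    have hle : RingHom.ker φ.toRingHom ≤ 𝔫 • RingHom.ker φ.toRingHom := by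
      intro f hf
      exact hcon f hf
    have hfg : (RingHom.ker φ.toRingHom).FG := IsNoetherian.noetherian _
    obtain ⟨r, hr1, hr0⟩ :=
      Submodule.exists_sub_one_mem_and_smul_eq_zero_of_fg_of_le_smul 𝔫 _ hfg hle
    -- n ≠ 0
    have hn : 0 < n := by
      by_contra hn0
      have hn0' : n = 0 := by omega
      subst hn0'
      apply hA
      rw [← hspan]
      have : Set.range x = ∅ := Set.range_eq_empty x
      rw [this, Ideal.span_empty]
    obtain ⟨N, hN⟩ := hnil
    have hxN : x ⟨0, hn⟩ ^ N = 0 := by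
      have : x ⟨0, hn⟩ ^ N ∈ IsLocalRing.maximalIdeal A ^ N := Ideal.pow_mem_pow (hxm _) N
      rw [hN] at this
      simpa using this
    have hXJ : (MvPolynomial.X ⟨0, hn⟩ : P) ^ N ∈ RingHom.ker φ.toRingHom := by
      show φ ((MvPolynomial.X ⟨0, hn⟩ : P) ^ N) = 0
      rw [map_pow, hφX, hxN]
    have h0 := hr0 _ hXJ
    rw [smul_eq_mul] at h0
    have hXne : (MvPolynomial.X ⟨0, hn⟩ : P) ^ N ≠ 0 := pow_ne_zero _ (MvPolynomial.X_ne_zero _)
    have hr : r = 0 := (mul_eq_zero.mp h0).resolve_right hXne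
    rw [hr, zero_sub] at hr1
    have h1m : φ (-1 : P) ∈ IsLocalRing.maximalIdeal A := h2 _ hr1
    rw [map_neg, map_one, Ideal.neg_mem_iff] at h1m
    exact (IsLocalRing.maximalIdeal.isMaximal A).ne_top ((Ideal.eq_top_iff_one _).mpr h1m)
  obtain ⟨f₀, hf₀, hf₀'⟩ := hex
  exact ExtAux.exists_nontrivial_ext hres P 𝔫 φ hφ h1 h2 h3 f₀ hf₀ hf₀'

end Groth.Agent.S11291
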