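import Groth.Statements.S11292
import Mathlib
-- import your own Groth.Agent.* helpers here

set_option autoImplicit false
set_option linter.unusedSectionVars false
universe u
open Deform

namespace Groth.Agent.S11292

open Exal

attribute [local instance] Exal.opModule Exal.isCentralScalar_opModule

section Basic

variable {A : Type u} {B L : Type u} [CommRing A] [CommRing B] [Algebra A B] [AddCommGroup L]
  [Module B L]

theorem proj_incl (X : Ext A B L) (z : L) : X.proj (X.incl z) = 0 :=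
  (X.isExtension.exact _).2 ⟨z, rfl⟩

theorem incl_mul_incl (X : Ext A B L) (z z' : L) : X.incl z * X.incl z' = 0 := by
  rw [X.isExtension.mul_incl, proj_incl, zero_smul, map_zero]

theorem incl_mul (X : Ext A B L) (z : L) (x : X.E) : X.incl z * x = X.incl (X.proj x • z) := by
  rw [mul_comm, X.isExtension.mul_incl]

theorem exists_incl_of_proj_eq_zero (X : Ext A B L) (x : X.E) (hx : X.proj x = 0) :
    ∃ z, X.incl z = x := (X.isExtension.exact x).1 hx

/-- A homomorphism of extensions is an equivalence. -/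
noncomputable def equivOfHom (X Y : Ext A B L) (φ : X.E →ₐ[A] Y.E)
    (hp : ∀ x, Y.proj (φ x) = X.proj x) (hi : ∀ z, φ (X.incl z) = Y.incl z) : X.Equiv Y where
  toAlgEquiv := AlgEquiv.ofBijective φ (by
    constructor
    · rw [injective_iff_map_eq_zero]
      intro x hx
      have h1 : X.proj x = 0 := by rw [← hp, hx, map_zero]
      obtain ⟨z, rfl⟩ := exists_incl_of_proj_eq_zero X x h1
      rw [hi] at hx
      have : z = 0 := Y.isExtension.incl_injective (by rw [hx, map_zero])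
      rw [this, map_zero]
    · intro y
      obtain ⟨x₀, hx₀⟩ := X.isExtension.proj_surjective (Y.proj y)
      have h1 : Y.proj (y - φ x₀) = 0 := by rw [map_sub, hp, hx₀, sub_self]
      obtain ⟨z, hz⟩ := exists_incl_of_proj_eq_zero Y _ h1
      refine ⟨x₀ + X.incl z, ?_⟩
      rw [map_add, hi, hz]; ring)
  proj_apply x := hp x
  apply_incl z := hi z

theorem mem_fiberProd {B₀ : Type u} [CommRing B₀] [Algebra A B₀] [Algebra B₀ B] [IsScalarTower A B₀ B]
    (Y : Ext A B L) (x : Y.E × B₀) :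
    x ∈ Y.fiberProd B₀ ↔ Y.proj x.1 = algebraMap B₀ B x.2 := by
  unfold Ext.fiberProd
  rw [AlgHom.mem_equalizer]
  rfl

end Basic


section PartA

variable {A B₀ B L : Type u} [CommRing A] [CommRing B₀] [CommRing B] [Algebra A B₀] [Algebra B₀ B]
  [Algebra A B] [IsScalarTower A B₀ B] [AddCommGroup L] [Module B L] [Module B₀ L]
  [IsScalarTower B₀ B L] [Module A L] [IsScalarTower A B L] [IsScalarTower A B₀ L]

/-- (⇒)(a): derivations extend if all `B₀`-extensions are trivial. -/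
theorem derivation_extends (h : ∀ X : Ext B₀ B L, X.IsTrivial) (D : Derivation A B₀ L) :
    ∃ D' : Derivation A B L, ∀ a : B₀, D' (algebraMap B₀ B a) = D a := by
  obtain ⟨s, hs⟩ := h (Ext.ofDerivation (C := B) D)
  let t : B → TrivSqZeroExt B L := fun r => s r
  have ht_mul : ∀ r r' : B, t (r * r') = t r * t r' := fun r r' => map_mul s r r'
  have ht_add : ∀ r r' : B, t (r + r') = t r + t r' := fun r r' => map_add s r r'
  have hfst : ∀ r : B, TrivSqZeroExt.fst (t r) = r := hs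
  have hcomm : ∀ a : B₀, t (algebraMap B₀ B a) =
      TrivSqZeroExt.inl (algebraMap B₀ B a) + TrivSqZeroExt.inr (D a) := fun a => s.commutes a
  have hmul : ∀ r r' : B, TrivSqZeroExt.snd (t (r * r')) =
      r • TrivSqZeroExt.snd (t r') + r' • TrivSqZeroExt.snd (t r) := by
    intro r r'
    rw [ht_mul, TrivSqZeroExt.snd_mul, hfst, hfst, op_smul_eq_smul]
  have hadd : ∀ r r' : B, TrivSqZeroExt.snd (t (r + r')) =
      TrivSqZeroExt.snd (t r) + TrivSqZeroExt.snd (t r') := by
    intro r r'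
    rw [ht_add, TrivSqZeroExt.snd_add]
  have hsndB₀ : ∀ a : B₀, TrivSqZeroExt.snd (t (algebraMap B₀ B a)) = D a := by
    intro a
    rw [hcomm, TrivSqZeroExt.snd_add, TrivSqZeroExt.snd_inl, TrivSqZeroExt.snd_inr, zero_add]
  have hsndA : ∀ c : A, TrivSqZeroExt.snd (t (algebraMap A B c)) = 0 := by
    intro c
    rw [IsScalarTower.algebraMap_apply A B₀ B, hsndB₀, Derivation.map_algebraMap]
  let δ : B →ₗ[A] L :=
    { toFun := fun r => TrivSqZeroExt.snd (t r)
      map_add' := hadd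
      map_smul' := by
        intro c r
        rw [Algebra.smul_def, hmul, hsndA, smul_zero, add_zero, RingHom.id_apply,
          algebraMap_smul] }
  refine ⟨Derivation.mk' δ (fun r r' => hmul r r'), fun a => hsndB₀ a⟩

end PartA


section PartBack

variable {A B₀ B L : Type u} [CommRing A] [CommRing B₀] [CommRing B] [Algebra A B₀] [Algebra B₀ B]
  [Algebra A B] [IsScalarTower A B₀ B] [AddCommGroup L] [Module B L] [Module B₀ L]
  [IsScalarTower B₀ B L] [Module A L] [IsScalarTower A B L] [IsScalarTower A B₀ L]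


theorem trivTo_mul (X : Ext B₀ B L) (a a' : B₀) (u v : TrivSqZeroExt B L)
    (hu : TrivSqZeroExt.fst u = algebraMap B₀ B a) (hv : TrivSqZeroExt.fst v = algebraMap B₀ B a') :
    algebraMap B₀ X.E (a * a') + X.incl (TrivSqZeroExt.snd (u * v)) =
      (algebraMap B₀ X.E a + X.incl (TrivSqZeroExt.snd u)) *
        (algebraMap B₀ X.E a' + X.incl (TrivSqZeroExt.snd v)) := by
  rw [TrivSqZeroExt.snd_mul, hu, hv, op_smul_eq_smul, map_mul, map_add, add_mul, mul_add, mul_add,
    incl_mul_incl, add_zero, X.isExtension.mul_incl, incl_mul, AlgHom.commutes, AlgHom.commutes]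
  abel

theorem trivTo_add (X : Ext B₀ B L) (a a' : B₀) (u v : TrivSqZeroExt B L) :
    algebraMap B₀ X.E (a + a') + X.incl (TrivSqZeroExt.snd (u + v)) =
      (algebraMap B₀ X.E a + X.incl (TrivSqZeroExt.snd u)) +
        (algebraMap B₀ X.E a' + X.incl (TrivSqZeroExt.snd v)) := by
  rw [TrivSqZeroExt.snd_add, map_add, map_add]
  abel

/-- the hom from the pullback of the trivial extension to the pullback of `X` restricted. -/
noncomputable def trivToPullback (X : Ext B₀ B L) :
    ((Ext.trivial A B L).pullback B₀).E →ₐ[A] ((X.restrictBase A).pullback B₀).E where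
  toFun x := ⟨(algebraMap B₀ X.E x.1.2 + X.incl (TrivSqZeroExt.snd (x.1.1 : TrivSqZeroExt B L)), x.1.2), by
    rw [mem_fiberProd]
    change X.proj (algebraMap B₀ X.E x.1.2 + X.incl _) = algebraMap B₀ B x.1.2
    rw [map_add, proj_incl, add_zero, AlgHom.commutes]⟩
  map_one' := by
    apply Subtype.ext
    apply Prod.ext
    · change algebraMap B₀ X.E 1 + X.incl (TrivSqZeroExt.snd (1 : TrivSqZeroExt B L)) = 1
      rw [map_one, TrivSqZeroExt.snd_one, map_zero, add_zero]
    · rfl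
  map_mul' x y := by
    apply Subtype.ext
    apply Prod.ext
    · have hx : TrivSqZeroExt.fst (x.1.1 : TrivSqZeroExt B L) = algebraMap B₀ B x.1.2 :=
        (mem_fiberProd _ _).1 x.2
      have hy : TrivSqZeroExt.fst (y.1.1 : TrivSqZeroExt B L) = algebraMap B₀ B y.1.2 :=
        (mem_fiberProd _ _).1 y.2
      exact trivTo_mul X _ _ _ _ hx hy
    · rfl
  map_zero' := by
    apply Subtype.ext
    apply Prod.ext
    · change algebraMap B₀ X.E 0 + X.incl (TrivSqZeroExt.snd (0 : TrivSqZeroExt B L)) = 0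
      rw [map_zero, TrivSqZeroExt.snd_zero, map_zero, add_zero]
    · rfl
  map_add' x y := by
    apply Subtype.ext
    apply Prod.ext
    · exact trivTo_add X _ _ _ _
    · rfl
  commutes' c := by
    apply Subtype.ext
    apply Prod.ext
    · change algebraMap B₀ X.E (algebraMap A B₀ c) +
          X.incl (TrivSqZeroExt.snd (TrivSqZeroExt.inl (algebraMap A B c) : TrivSqZeroExt B L)) =
        algebraMap B₀ X.E (algebraMap A B₀ c)
      rw [TrivSqZeroExt.snd_inl, map_zero, add_zero]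
    · rfl

theorem trivToPullback_proj (X : Ext B₀ B L) (x : ((Ext.trivial A B L).pullback B₀).E) :
    ((X.restrictBase A).pullback B₀).proj (trivToPullback X x) =
      ((Ext.trivial A B L).pullback B₀).proj x := rfl

theorem trivToPullback_incl (X : Ext B₀ B L) (z : L) :
    trivToPullback (A := A) X (((Ext.trivial A B L).pullback B₀).incl z) =
      ((X.restrictBase A).pullback B₀).incl z := by
  apply Subtype.ext
  apply Prod.ext
  · change algebraMap B₀ X.E 0 + X.incl (TrivSqZeroExt.snd (TrivSqZeroExt.inr z : TrivSqZeroExt B L)) =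
      X.incl z
    rw [map_zero, zero_add, TrivSqZeroExt.snd_inr]
  · rfl

/-- (⇐): given (a) and (b), every `B₀`-extension is trivial. -/
theorem trivial_of_ab
    (ha : ∀ D : Derivation A B₀ L, ∃ D' : Derivation A B L, ∀ a : B₀, D' (algebraMap B₀ B a) = D a)
    (hb : ∀ Y Y' : Ext A B L, Nonempty ((Y.pullback B₀).Equiv (Y'.pullback B₀)) → Nonempty (Y.Equiv Y'))
    (X : Ext B₀ B L) : X.IsTrivial := by
  obtain ⟨e⟩ := hb (Ext.trivial A B L) (X.restrictBase A)
    ⟨equivOfHom _ _ (trivToPullback X) (trivToPullback_proj X) (trivToPullback_incl X)⟩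
  -- the `A`-algebra section
  let s₀ : B → X.E := fun r => e.toAlgEquiv (TrivSqZeroExt.inl r : TrivSqZeroExt B L)
  have hs₀_mul : ∀ r r', s₀ (r * r') = s₀ r * s₀ r' := by
    intro r r'
    have : (TrivSqZeroExt.inl (r * r') : TrivSqZeroExt B L) =
        TrivSqZeroExt.inl r * TrivSqZeroExt.inl r' := TrivSqZeroExt.inl_mul _ _ _
    change e.toAlgEquiv (TrivSqZeroExt.inl (r * r') : TrivSqZeroExt B L) = _
    rw [this]
    exact map_mul e.toAlgEquiv _ _
  have hs₀_add : ∀ r r', s₀ (r + r') = s₀ r + s₀ r' := by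
    intro r r'
    have : (TrivSqZeroExt.inl (r + r') : TrivSqZeroExt B L) =
        TrivSqZeroExt.inl r + TrivSqZeroExt.inl r' := TrivSqZeroExt.inl_add _ _ _
    change e.toAlgEquiv (TrivSqZeroExt.inl (r + r') : TrivSqZeroExt B L) = _
    rw [this]
    exact map_add e.toAlgEquiv _ _
  have hs₀_one : s₀ 1 = 1 := map_one e.toAlgEquiv
  have hs₀_A : ∀ c : A, s₀ (algebraMap A B c) = algebraMap B₀ X.E (algebraMap A B₀ c) :=
    fun c => e.toAlgEquiv.commutes c
  have hs₀_proj : ∀ r, X.proj (s₀ r) = r := fun r => e.proj_apply _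
  -- the derivation
  have hker : ∀ a : B₀, X.proj (algebraMap B₀ X.E a - s₀ (algebraMap B₀ B a)) = 0 := by
    intro a
    rw [map_sub, hs₀_proj, AlgHom.commutes, sub_self]
  choose dfun hD_incl using fun a : B₀ => exists_incl_of_proj_eq_zero X _ (hker a)
  have hsmul_incl : ∀ (c : A) (z : L), X.incl (c • z) =
      algebraMap B₀ X.E (algebraMap A B₀ c) * X.incl z := by
    intro c z
    rw [X.isExtension.mul_incl, AlgHom.commutes, algebraMap_smul, algebraMap_smul]
  let Dl : B₀ →ₗ[A] L :=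
    { toFun := dfun
      map_add' := by
        intro a a'
        apply X.isExtension.incl_injective
        rw [map_add, hD_incl, hD_incl, hD_incl, map_add, map_add, hs₀_add]
        abel
      map_smul' := by
        intro c a
        apply X.isExtension.incl_injective
        rw [RingHom.id_apply, hsmul_incl, hD_incl, hD_incl, Algebra.smul_def, map_mul, map_mul,
          hs₀_mul, ← IsScalarTower.algebraMap_apply A B₀ B, hs₀_A]
        ring }
  have hDl : ∀ a, X.incl (Dl a) = algebraMap B₀ X.E a - s₀ (algebraMap B₀ B a) := hD_incl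
  let D : Derivation A B₀ L := Derivation.mk' Dl (by
    intro a a'
    apply X.isExtension.incl_injective
    rw [map_add, hDl]
    have e1 : X.incl (a • Dl a') = algebraMap B₀ X.E a * X.incl (Dl a') := by
      rw [X.isExtension.mul_incl, AlgHom.commutes, algebraMap_smul]
    have e2 : X.incl (a' • Dl a) = s₀ (algebraMap B₀ B a') * X.incl (Dl a) := by
      rw [X.isExtension.mul_incl, hs₀_proj, algebraMap_smul]
    rw [e1, e2, hDl, hDl, map_mul, map_mul, hs₀_mul]
    ring)
  have hD : ∀ a, X.incl (D a) = algebraMap B₀ X.E a - s₀ (algebraMap B₀ B a) := hDl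
  obtain ⟨D', hD'⟩ := ha D
  refine ⟨{ toFun := fun r => s₀ r + X.incl (D' r)
            map_one' := by rw [hs₀_one, Derivation.map_one_eq_zero, map_zero, add_zero]
            map_mul' := ?_
            map_zero' := ?_
            map_add' := ?_
            commutes' := ?_ }, ?_⟩
  · intro r r'
    rw [hs₀_mul, Derivation.leibniz, map_add, add_mul, mul_add, mul_add, incl_mul_incl, add_zero,
      X.isExtension.mul_incl, incl_mul, hs₀_proj, hs₀_proj]
    abel
  · have h0 : s₀ 0 = 0 := map_zero e.toAlgEquiv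
    rw [h0, map_zero, map_zero, add_zero]
  · intro r r'
    rw [hs₀_add, map_add, map_add]
    abel
  · intro a
    change s₀ (algebraMap B₀ B a) + X.incl (D' (algebraMap B₀ B a)) = algebraMap B₀ X.E a
    rw [hD', hD]
    abel
  · intro r
    change X.proj (s₀ r + X.incl (D' r)) = r
    rw [map_add, hs₀_proj, proj_incl, add_zero]

end PartBack


section Baer

variable {A B₀ B L : Type u} [CommRing A] [CommRing B₀] [CommRing B] [Algebra A B₀] [Algebra B₀ B]
  [Algebra A B] [IsScalarTower A B₀ B] [AddCommGroup L] [Module B L] [Module B₀ L]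
  [IsScalarTower B₀ B L]

variable (Y Y' : Ext A B L)

/-- fibre product of the two middle rings over `B`. -/
def G : Subalgebra A (Y.E × Y'.E) :=
  AlgHom.equalizer (Y.proj.comp (AlgHom.fst A Y.E Y'.E)) (Y'.proj.comp (AlgHom.snd A Y.E Y'.E))

theorem mem_G (x : Y.E × Y'.E) : x ∈ G Y Y' ↔ Y.proj x.1 = Y'.proj x.2 := by
  unfold G
  rw [AlgHom.mem_equalizer]
  rfl

/-- the diagonal copy of `L`. -/
def N : Ideal (G Y Y') where
  carrier := {g | ∃ z : L, (g : Y.E × Y'.E) = (Y.incl z, Y'.incl z)}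
  add_mem' := by
    rintro g g' ⟨z, hz⟩ ⟨z', hz'⟩
    refine ⟨z + z', ?_⟩
    rw [Subalgebra.coe_add, hz, hz', map_add, map_add]
    rfl
  zero_mem' := ⟨0, by rw [map_zero, map_zero]; rfl⟩
  smul_mem' := by
    rintro c g ⟨z, hz⟩
    refine ⟨Y.proj (c : Y.E × Y'.E).1 • z, ?_⟩
    rw [smul_eq_mul, Subalgebra.coe_mul, hz]
    have hc := (mem_G Y Y' _).1 c.2
    apply Prod.ext
    · exact Y.isExtension.mul_incl _ _
    · change (c : Y.E × Y'.E).2 * Y'.incl z = Y'.incl _
      rw [Y'.isExtension.mul_incl, hc]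

theorem mem_N (g : G Y Y') : g ∈ N Y Y' ↔ ∃ z : L, (g : Y.E × Y'.E) = (Y.incl z, Y'.incl z) := Iff.rfl

/-- the Baer difference ring -/
def F : Type u := G Y Y' ⧸ N Y Y'

noncomputable instance : CommRing (F Y Y') := inferInstanceAs (CommRing (G Y Y' ⧸ N Y Y'))

noncomputable instance : Algebra A (F Y Y') := inferInstanceAs (Algebra A (G Y Y' ⧸ N Y Y'))

/-- the quotient map -/
noncomputable def mkF : G Y Y' →ₐ[A] F Y Y' := Ideal.Quotient.mkₐ A (N Y Y')

theorem mkF_surjective : Function.Surjective (mkF Y Y') := Ideal.Quotient.mk_surjective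

theorem mkF_eq_zero_iff (g : G Y Y') : mkF Y Y' g = 0 ↔ g ∈ N Y Y' :=
  Ideal.Quotient.eq_zero_iff_mem

theorem mkF_eq_iff (g g' : G Y Y') : mkF Y Y' g = mkF Y Y' g' ↔ g - g' ∈ N Y Y' :=
  Ideal.Quotient.eq

/-- projection from `F` -/
noncomputable def projF : F Y Y' →+* B :=
  Ideal.Quotient.lift (N Y Y')
    ((Y.proj.comp ((AlgHom.fst A Y.E Y'.E).comp (G Y Y').val) : G Y Y' →ₐ[A] B) : G Y Y' →+* B) (by
    rintro g ⟨z, hz⟩
    change Y.proj (g : Y.E × Y'.E).1 = 0
    rw [hz]
    exact proj_incl Y z)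

theorem projF_mk (g : G Y Y') : projF Y Y' (mkF Y Y' g) = Y.proj (g : Y.E × Y'.E).1 := rfl

/-- inclusion into `G` -/
def inclG : L →+ G Y Y' where
  toFun z := ⟨(Y.incl z, 0), by rw [mem_G]; change Y.proj (Y.incl z) = Y'.proj 0; rw [proj_incl, map_zero]⟩
  map_zero' := by
    apply Subtype.ext
    apply Prod.ext
    · exact map_zero Y.incl
    · rfl
  map_add' z z' := by
    apply Subtype.ext
    apply Prod.ext
    · exact map_add Y.incl z z'
    · exact (add_zero (0 : Y'.E)).symm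

theorem inclG_coe (z : L) : (inclG Y Y' z : Y.E × Y'.E) = (Y.incl z, 0) := rfl

/-- the diagonal inclusion into `G` -/
def diagG (z : L) : G Y Y' :=
  ⟨(Y.incl z, Y'.incl z), by rw [mem_G]; change Y.proj (Y.incl z) = Y'.proj (Y'.incl z); rw [proj_incl, proj_incl]⟩

theorem diagG_mem (z : L) : diagG Y Y' z ∈ N Y Y' := ⟨z, rfl⟩

/-- inclusion into `F` -/
noncomputable def inclF : L →+ F Y Y' := (mkF Y Y' : G Y Y' →+ F Y Y').comp (inclG Y Y')

theorem inclF_apply (z : L) : inclF Y Y' z = mkF Y Y' (inclG Y Y' z) := rfl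

theorem isExtensionF_core :
    Function.Surjective (projF Y Y') ∧ Function.Injective (inclF Y Y') ∧
    (∀ x : F Y Y', projF Y Y' x = 0 ↔ x ∈ Set.range (inclF Y Y')) ∧
    (∀ (x : F Y Y') (z : L), x * inclF Y Y' z = inclF Y Y' (projF Y Y' x • z)) := by
  refine ⟨?_, ?_, ?_, ?_⟩
  · intro b
    obtain ⟨y, hy⟩ := Y.isExtension.proj_surjective b
    obtain ⟨y', hy'⟩ := Y'.isExtension.proj_surjective b
    exact ⟨mkF Y Y' ⟨(y, y'), by rw [mem_G]; exact hy.trans hy'.symm⟩, hy⟩
  · rw [injective_iff_map_eq_zero]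
    intro z hz
    rw [inclF_apply, mkF_eq_zero_iff, mem_N] at hz
    obtain ⟨w, hw⟩ := hz
    have h1 : Y.incl z = Y.incl w := congrArg Prod.fst hw
    have h2 : (0 : Y'.E) = Y'.incl w := congrArg Prod.snd hw
    have hw0 : w = 0 := Y'.isExtension.incl_injective (by rw [← h2, map_zero])
    exact Y.isExtension.incl_injective (by rw [h1, hw0])
  · intro x
    obtain ⟨g, rfl⟩ := mkF_surjective Y Y' x
    rw [projF_mk]
    constructor
    · intro h0
      have h0' : Y'.proj (g : Y.E × Y'.E).2 = 0 := by rw [← (mem_G Y Y' _).1 g.2, h0]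
      obtain ⟨z, hz⟩ := exists_incl_of_proj_eq_zero Y _ h0
      obtain ⟨z', hz'⟩ := exists_incl_of_proj_eq_zero Y' _ h0'
      refine ⟨z - z', ?_⟩
      rw [inclF_apply, mkF_eq_iff, mem_N]
      refine ⟨-z', ?_⟩
      apply Prod.ext
      · change Y.incl (z - z') - (g : Y.E × Y'.E).1 = Y.incl (-z')
        rw [← hz, map_sub, map_neg]; abel
      · change (0 : Y'.E) - (g : Y.E × Y'.E).2 = Y'.incl (-z')
        rw [← hz', map_neg]; abel
    · rintro ⟨z, hz⟩
      rw [inclF_apply, mkF_eq_iff, mem_N] at hz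
      obtain ⟨w, hw⟩ := hz
      have h1 : Y.incl z - (g : Y.E × Y'.E).1 = Y.incl w := congrArg Prod.fst hw
      have : (g : Y.E × Y'.E).1 = Y.incl (z - w) := by rw [map_sub, ← h1]; abel
      rw [this, proj_incl]
  · intro x z
    obtain ⟨g, rfl⟩ := mkF_surjective Y Y' x
    rw [projF_mk, inclF_apply, inclF_apply, ← map_mul]
    congr 1
    apply Subtype.ext
    apply Prod.ext
    · exact Y.isExtension.mul_incl _ _
    · exact mul_zero _

section BaerLambda

variable (e : (Y.pullback B₀).Equiv (Y'.pullback B₀))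

theorem fiberProd_proj_eq (x : (Y.pullback B₀).E) :
    Y.proj x.1.1 = algebraMap B₀ B x.1.2 := (mem_fiberProd Y _).1 x.2

theorem e_snd (x : (Y.pullback B₀).E) :
    (e.toAlgEquiv x).1.2 = x.1.2 := e.proj_apply x

/-- `Θ₀ : Y ×_B B₀ → G`. -/
noncomputable def Theta0 : (Y.pullback B₀).E →ₐ[A] G Y Y' :=
  AlgHom.codRestrict
    (AlgHom.prod ((AlgHom.fst A Y.E B₀).comp (Y.fiberProd B₀).val)
      (((AlgHom.fst A Y'.E B₀).comp (Y'.fiberProd B₀).val).comp e.toAlgEquiv.toAlgHom))
    (G Y Y') (by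
      intro x
      rw [mem_G]
      have h1 := fiberProd_proj_eq (B₀ := B₀) Y x
      have h2 := fiberProd_proj_eq (B₀ := B₀) Y' (e.toAlgEquiv x)
      have h3 := e_snd Y Y' e x
      rw [h3] at h2
      exact h1.trans h2.symm)

theorem Theta0_coe (x : (Y.pullback B₀).E) :
    (Theta0 Y Y' e x : Y.E × Y'.E) = (x.1.1, (e.toAlgEquiv x).1.1) := rfl

/-- `Θ : Y ×_B B₀ → F`. -/
noncomputable def Theta : (Y.pullback B₀).E →ₐ[A] F Y Y' := (mkF Y Y').comp (Theta0 Y Y' e)

theorem Theta_apply (x : (Y.pullback B₀).E) :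
    Theta Y Y' e x = mkF Y Y' (Theta0 Y Y' e x) := rfl

theorem Theta_ker : RingHom.ker ((Y.pullback B₀).proj : (Y.pullback B₀).E →+* B₀) ≤
    RingHom.ker (Theta Y Y' e : (Y.pullback B₀).E →+* F Y Y') := by
  intro x hx
  have hx' : (Y.pullback B₀).proj x = 0 := hx
  obtain ⟨z, rfl⟩ := exists_incl_of_proj_eq_zero _ x hx'
  rw [RingHom.mem_ker]
  change Theta Y Y' e _ = 0
  rw [Theta_apply, mkF_eq_zero_iff, mem_N]
  refine ⟨z, ?_⟩
  rw [Theta0_coe, e.apply_incl]
  rfl

/-- the structure map `B₀ → F`. -/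
noncomputable def theta : B₀ →+* F Y Y' :=
  RingHom.liftOfSurjective ((Y.pullback B₀).proj : (Y.pullback B₀).E →+* B₀)
    (Y.pullback B₀).isExtension.proj_surjective ⟨(Theta Y Y' e : (Y.pullback B₀).E →+* F Y Y'),
      Theta_ker Y Y' e⟩

theorem theta_proj (x : (Y.pullback B₀).E) :
    theta Y Y' e ((Y.pullback B₀).proj x) = Theta Y Y' e x :=
  RingHom.liftOfSurjective_comp_apply _ _ _ x

theorem projF_theta (a : B₀) : projF Y Y' (theta Y Y' e a) = algebraMap B₀ B a := by
  obtain ⟨x, rfl⟩ := (Y.pullback B₀).isExtension.proj_surjective a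
  rw [theta_proj, Theta_apply, projF_mk, Theta0_coe]
  exact fiberProd_proj_eq Y x

theorem theta_algebraMap (c : A) : theta Y Y' e (algebraMap A B₀ c) = algebraMap A (F Y Y') c := by
  rw [← (Y.pullback B₀).proj.commutes c, theta_proj, AlgHom.commutes]

/-- the Baer difference as a `B₀`-extension. -/
noncomputable def XF : Ext B₀ B L :=
  @Ext.mk B₀ B L _ _ _ _ _ (F Y Y') inferInstance (theta Y Y' e).toAlgebra
    (@AlgHom.mk B₀ (F Y Y') B _ _ _ (theta Y Y' e).toAlgebra _ (projF Y Y')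
      (fun a => projF_theta Y Y' e a))
    (inclF Y Y')
    (@IsExtension.mk B₀ B (F Y Y') L _ _ _ _ (theta Y Y' e).toAlgebra _ _ _ _
      (isExtensionF_core Y Y').1 (isExtensionF_core Y Y').2.1 (isExtensionF_core Y Y').2.2.1
      (isExtensionF_core Y Y').2.2.2)

end BaerLambda

section FromSection

variable (σ' : B →+* F Y Y') (hσ' : ∀ b, projF Y Y' (σ' b) = b)

/-- the graph relation -/
def P (y : Y.E) (y' : Y'.E) : Prop :=
  ∃ hm : (y, y') ∈ G Y Y', mkF Y Y' ⟨(y, y'), hm⟩ = σ' (Y.proj y)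

theorem P_proj {y : Y.E} {y' : Y'.E} (h : P Y Y' σ' y y') : Y'.proj y' = Y.proj y := by
  obtain ⟨hm, -⟩ := h
  exact ((mem_G Y Y' _).1 hm).symm

include hσ' in
theorem P_exists (y : Y.E) : ∃ y', P Y Y' σ' y y' := by
  obtain ⟨g₀, hg₀⟩ := mkF_surjective Y Y' (σ' (Y.proj y))
  have h1 : Y.proj (g₀ : Y.E × Y'.E).1 = Y.proj y := by
    rw [← projF_mk, hg₀, hσ']
  have h2 : Y.proj (y - (g₀ : Y.E × Y'.E).1) = 0 := by rw [map_sub, h1, sub_self]
  obtain ⟨z, hz⟩ := exists_incl_of_proj_eq_zero Y _ h2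
  have hm : (y, (g₀ : Y.E × Y'.E).2 + Y'.incl z) ∈ G Y Y' := by
    rw [mem_G]
    change Y.proj y = Y'.proj ((g₀ : Y.E × Y'.E).2 + Y'.incl z)
    rw [map_add, proj_incl, add_zero, ← (mem_G Y Y' _).1 g₀.2, h1]
  refine ⟨(g₀ : Y.E × Y'.E).2 + Y'.incl z, hm, ?_⟩
  have : (⟨(y, (g₀ : Y.E × Y'.E).2 + Y'.incl z), hm⟩ : G Y Y') = g₀ + diagG Y Y' z := by
    apply Subtype.ext
    apply Prod.ext
    · change y = (g₀ : Y.E × Y'.E).1 + Y.incl z
      rw [hz]; abel
    · rfl
  rw [this, map_add, (mkF_eq_zero_iff Y Y' _).2 (diagG_mem Y Y' z), add_zero, hg₀]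

theorem P_unique {y : Y.E} {y₁ y₂ : Y'.E} (h₁ : P Y Y' σ' y y₁) (h₂ : P Y Y' σ' y y₂) : y₁ = y₂ := by
  obtain ⟨hm₁, e₁⟩ := h₁
  obtain ⟨hm₂, e₂⟩ := h₂
  have := e₁.trans e₂.symm
  rw [mkF_eq_iff, mem_N] at this
  obtain ⟨w, hw⟩ := this
  have h1 : y - y = Y.incl w := congrArg Prod.fst hw
  have h2 : y₁ - y₂ = Y'.incl w := congrArg Prod.snd hw
  have hw0 : w = 0 := Y.isExtension.incl_injective (by rw [← h1, sub_self, map_zero])
  rw [hw0, map_zero, sub_eq_zero] at h2
  exact h2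

theorem P_add {y₁ y₂ : Y.E} {y₁' y₂' : Y'.E} (h₁ : P Y Y' σ' y₁ y₁') (h₂ : P Y Y' σ' y₂ y₂') :
    P Y Y' σ' (y₁ + y₂) (y₁' + y₂') := by
  obtain ⟨hm₁, e₁⟩ := h₁
  obtain ⟨hm₂, e₂⟩ := h₂
  have hm : (y₁ + y₂, y₁' + y₂') ∈ G Y Y' := (G Y Y').add_mem hm₁ hm₂
  refine ⟨hm, ?_⟩
  have : (⟨(y₁ + y₂, y₁' + y₂'), hm⟩ : G Y Y') = ⟨(y₁, y₁'), hm₁⟩ + ⟨(y₂, y₂'), hm₂⟩ := rfl
  rw [this, map_add, e₁, e₂, map_add, map_add]

theorem P_mul {y₁ y₂ : Y.E} {y₁' y₂' : Y'.E} (h₁ : P Y Y' σ' y₁ y₁') (h₂ : P Y Y' σ' y₂ y₂') :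
    P Y Y' σ' (y₁ * y₂) (y₁' * y₂') := by
  obtain ⟨hm₁, e₁⟩ := h₁
  obtain ⟨hm₂, e₂⟩ := h₂
  have hm : (y₁ * y₂, y₁' * y₂') ∈ G Y Y' := (G Y Y').mul_mem hm₁ hm₂
  refine ⟨hm, ?_⟩
  have : (⟨(y₁ * y₂, y₁' * y₂'), hm⟩ : G Y Y') = ⟨(y₁, y₁'), hm₁⟩ * ⟨(y₂, y₂'), hm₂⟩ := rfl
  rw [this, map_mul, e₁, e₂, map_mul, map_mul]

theorem P_zero : P Y Y' σ' 0 0 := by
  refine ⟨(G Y Y').zero_mem, ?_⟩
  have : (⟨(0, 0), (G Y Y').zero_mem⟩ : G Y Y') = 0 := rfl
  rw [this, map_zero, map_zero, map_zero]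

theorem P_algebraMap (hσA : ∀ c : A, σ' (algebraMap A B c) = algebraMap A (F Y Y') c) (c : A) :
    P Y Y' σ' (algebraMap A Y.E c) (algebraMap A Y'.E c) := by
  have hm : (algebraMap A Y.E c, algebraMap A Y'.E c) ∈ G Y Y' := (G Y Y').algebraMap_mem c
  refine ⟨hm, ?_⟩
  have : (⟨(algebraMap A Y.E c, algebraMap A Y'.E c), hm⟩ : G Y Y') = algebraMap A (G Y Y') c := rfl
  rw [this, AlgHom.commutes, AlgHom.commutes, hσA]

theorem P_incl (z : L) : P Y Y' σ' (Y.incl z) (Y'.incl z) := by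
  refine ⟨(diagG Y Y' z).2, ?_⟩
  have : (⟨(Y.incl z, Y'.incl z), (diagG Y Y' z).2⟩ : G Y Y') = diagG Y Y' z := rfl
  rw [this, (mkF_eq_zero_iff Y Y' _).2 (diagG_mem Y Y' z), proj_incl, map_zero]

include hσ' in
theorem equiv_of_section (hσA : ∀ c : A, σ' (algebraMap A B c) = algebraMap A (F Y Y') c) :
    Nonempty (Y.Equiv Y') := by
  choose φ hφ using P_exists Y Y' σ' hσ'
  have huniq : ∀ {y : Y.E} {y' : Y'.E}, P Y Y' σ' y y' → φ y = y' :=
    fun h => P_unique Y Y' σ' (hφ _) h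
  let φa : Y.E →ₐ[A] Y'.E :=
    { toFun := φ
      map_one' := by
        have := huniq (P_algebraMap Y Y' σ' hσA 1)
        rwa [map_one, map_one] at this
      map_mul' := fun y₁ y₂ => huniq (P_mul Y Y' σ' (hφ y₁) (hφ y₂))
      map_zero' := huniq (P_zero Y Y' σ')
      map_add' := fun y₁ y₂ => huniq (P_add Y Y' σ' (hφ y₁) (hφ y₂))
      commutes' := fun c => huniq (P_algebraMap Y Y' σ' hσA c) }
  exact ⟨equivOfHom Y Y' φa (fun y => P_proj Y Y' σ' (hφ y)) (fun z => huniq (P_incl Y Y' σ' z))⟩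

end FromSection

/-- (⇒)(b). -/
theorem pullback_injective (h : ∀ X : Ext B₀ B L, X.IsTrivial) (Y Y' : Ext A B L)
    (he : Nonempty ((Y.pullback B₀).Equiv (Y'.pullback B₀))) : Nonempty (Y.Equiv Y') := by
  obtain ⟨e⟩ := he
  obtain ⟨σ, hσ⟩ := h (XF Y Y' e)
  let σ' : B →+* F Y Y' :=
    { toFun := fun b => σ b
      map_one' := map_one σ
      map_mul' := map_mul σ
      map_zero' := map_zero σ
      map_add' := map_add σ }
  refine equiv_of_section Y Y' σ' hσ ?_
  intro c
  rw [IsScalarTower.algebraMap_apply A B₀ B]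
  have := σ.commutes (algebraMap A B₀ c)
  exact this.trans (theta_algebraMap Y Y' e c)

end Baer

/-- Let k be an algebraically closed field, Λ and R local Noetherian k-algebras with residue field k,
and Λ → R a local k-algebra homomorphism. Then the relative obstruction space vanishes — every
Λ-extension of R by its residue field k is trivial — if and only if (a) the tangent map t_R → t_Λ is
surjective: every k-derivation of Λ into k extends along Λ → R to a k-derivation of R into k, and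
(b) the obstruction map o(R) → o(Λ) given by inverse image is injective on classes: two k-extensions
of R by k whose inverse images over Λ are equivalent are equivalent (R is less obstructed than Λ).
Here k is the residue field of R, a module over R, Λ and k through the structure maps. -/
theorem result
    {k : Type u} [Field k] [IsAlgClosed k]
    {Λ : Type u} [CommRing Λ] [Algebra k Λ] [IsLocalRing Λ] [IsNoetherianRing Λ]
    (hΛ : ∀ a : Λ, ∃ c : k, a - algebraMap k Λ c ∈ IsLocalRing.maximalIdeal Λ)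
    {R : Type u} [CommRing R] [Algebra Λ R] [Algebra k R] [IsScalarTower k Λ R]
    [IsLocalRing R] [IsNoetherianRing R] [IsLocalHom (algebraMap Λ R)]
    (hR : ∀ r : R, ∃ c : k, r - algebraMap k R c ∈ IsLocalRing.maximalIdeal R) :
    (∀ X : Exal.Ext Λ R (IsLocalRing.ResidueField R), X.IsTrivial) ↔
    ((∀ D : Derivation k Λ (IsLocalRing.ResidueField R),
        ∃ D' : Derivation k R (IsLocalRing.ResidueField R), ∀ a : Λ, D' (algebraMap Λ R a) = D a) ∧
     (∀ Y Y' : Exal.Ext k R (IsLocalRing.ResidueField R),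
        Nonempty ((Y.pullback Λ).Equiv (Y'.pullback Λ)) → Nonempty (Y.Equiv Y'))) := by
  constructor
  · intro h
    exact ⟨fun D => derivation_extends h D, fun Y Y' he => pullback_injective h Y Y' he⟩
  · rintro ⟨ha, hb⟩ X
    exact trivial_of_ab ha hb X


end Groth.Agent.S11292
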