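import Groth.Statements.S11298
-- import your own Groth.Agent.* helpers here

set_option autoImplicit false
universe u v
open LocCoh

namespace Groth.Agent.S11298

open RingTheory.Sequence Pointwise in
theorem dual_weaklyRegular {B : Type u} [CommRing B] {M : Type v} [AddCommGroup M] [Module B M]
    {x y : B} (hx : IsSMulRegular B x) (hy : IsSMulRegular (QuotSMulTop x B) y) :
    IsWeaklyRegular (M →ₗ[B] B) [x, y] := by
  rw [isWeaklyRegular_cons_iff, isWeaklyRegular_singleton_iff]
  have hy' := (isSMulRegular_quotient_iff_mem_of_smul_mem _ _).1 hy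
  constructor
  · intro φ ψ h
    ext m
    apply hx
    have := congrArg (fun f : M →ₗ[B] B => f m) h
    simpa using this
  · unfold QuotSMulTop
    rw [isSMulRegular_quotient_iff_mem_of_smul_mem]
    intro φ hφ
    rw [Submodule.mem_smul_pointwise_iff_exists] at hφ ⊢
    obtain ⟨ψ, -, hψ⟩ := hφ
    -- for each m, φ m ∈ x • ⊤
    have h1 : ∀ m, ∃ b : B, x • b = φ m := by
      intro m
      have h2 : y • φ m ∈ x • (⊤ : Submodule B B) := by
        rw [Submodule.mem_smul_pointwise_iff_exists]
        refine ⟨ψ m, trivial, ?_⟩
        have := congrArg (fun f : M →ₗ[B] B => f m) hψ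
        simpa using this
      have h3 := hy' _ h2
      rw [Submodule.mem_smul_pointwise_iff_exists] at h3
      obtain ⟨b, -, hb⟩ := h3
      exact ⟨b, hb⟩
    choose θ hθ using h1
    refine ⟨{ toFun := θ, map_add' := ?_, map_smul' := ?_ }, trivial, ?_⟩
    · intro a b
      apply hx
      change x • θ (a + b) = x • (θ a + θ b)
      rw [smul_add, hθ, hθ, hθ, map_add]
    · intro c a
      apply hx
      change x • θ (c • a) = x • (RingHom.id B c • θ a)
      rw [hθ, RingHom.id_apply, smul_comm, hθ, map_smul]
    · ext m
      simpa using hθ m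

/-- Let X = Spec B be an affine Noetherian scheme, Z = V(I) a closed subscheme and G a coherent sheaf,
i.e. a finitely generated B-module M, with dual G^v = Hom_B(M, B). If depth_Z(O_X) ≥ 2 then
depth_Z(G^v) ≥ 2. Here the depth along I of a module N is the supremum of the lengths of N-regular
sequences contained in I (and is infinite when I N = N). (The published statement adds that sections
of the dual over X and over X minus Z agree; this row omits that clause.) -/
theorem result (B : Type u) [CommRing B] [IsNoetherianRing B]
    (I : Ideal B) (M : Type v) [AddCommGroup M] [Module B M] [Module.Finite B M]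
    (h : 2 ≤ LocCoh.idealDepth I B) : 2 ≤ LocCoh.idealDepth I (M →ₗ[B] B) := by
  classical
  unfold LocCoh.idealDepth at h ⊢
  by_cases hI : I • (⊤ : Submodule B B) = ⊤
  · have hI' : I = ⊤ := by simpa using hI
    rw [if_pos (by rw [hI', Submodule.top_smul])]
    exact le_top
  · rw [if_neg hI] at h
    obtain ⟨rs, hrs, hlen⟩ : ∃ rs : List B,
        (RingTheory.Sequence.IsWeaklyRegular B rs ∧ ∀ r ∈ rs, r ∈ I) ∧ 2 ≤ rs.length := by
      by_contra hcon
      push Not at hcon
      have : (⨆ (rs : List B) (_ : RingTheory.Sequence.IsWeaklyRegular B rs ∧ ∀ r ∈ rs, r ∈ I),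
          (rs.length : ℕ∞)) ≤ 1 := by
        apply iSup₂_le
        intro rs hrs
        have := hcon rs hrs
        have h1 : rs.length ≤ 1 := by omega
        exact_mod_cast h1
      have h2 : (2 : ℕ∞) ≤ 1 := le_trans h this
      exact absurd h2 (by norm_num)
    obtain ⟨hreg, hmem⟩ := hrs
    match rs, hreg, hmem, hlen with
    | x :: y :: t, hreg, hmem, _ =>
      rw [RingTheory.Sequence.isWeaklyRegular_cons_iff,
        RingTheory.Sequence.isWeaklyRegular_cons_iff] at hreg
      obtain ⟨hx, hy, -⟩ := hreg
      split_ifs
      · exact le_top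
      · refine le_iSup₂_of_le [x, y] ⟨dual_weaklyRegular hx hy, ?_⟩ (by simp)
        intro r hr
        apply hmem
        simp only [List.mem_cons, List.not_mem_nil, or_false] at hr
        rcases hr with rfl | rfl <;> simp

end Groth.Agent.S11298
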