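import Groth.Statements.S11299
import Mathlib
-- import your own Groth.Agent.* helpers here

set_option autoImplicit false
universe u
open CAlg

namespace Groth.Agent.S11299

section TT

variable {P : Type u} [CommRing P] (J : Ideal P)
variable {F : Type u} [AddCommGroup F] [Module P F] (j : F →ₗ[P] P)

/-- span of trivial relations in `F`. -/
abbrev trivSpan : Submodule P F := Submodule.span P {y : F | ∃ u v : F, y = j u • v - j v • u}

/-- trivial relations inside `ker j`. -/
abbrev Rtr : Submodule P (LinearMap.ker j) := Submodule.comap (LinearMap.ker j).subtype (trivSpan j)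

/-- restrictions of maps `F → P/J`. -/
abbrev Bm : Submodule P (LinearMap.ker j →ₗ[P] P ⧸ J) :=
  LinearMap.range (LinearMap.lcomp P (P ⧸ J) (LinearMap.ker j).subtype)

/-- maps vanishing on trivial relations. -/
abbrev Zm : Submodule P (LinearMap.ker j →ₗ[P] P ⧸ J) :=
  LinearMap.ker (LinearMap.lcomp P (P ⧸ J) (Rtr j).subtype)

/-- `T²` of the presentation. -/
abbrev TT : Submodule P ((LinearMap.ker j →ₗ[P] P ⧸ J) ⧸ Bm J j) := Submodule.map (Bm J j).mkQ (Zm J j)

theorem mem_Zm (φ : LinearMap.ker j →ₗ[P] P ⧸ J) :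
    φ ∈ Zm J j ↔ ∀ y : LinearMap.ker j, (y : F) ∈ trivSpan j → φ y = 0 := by
  rw [LinearMap.mem_ker]
  constructor
  · intro h y hy
    have := LinearMap.congr_fun h ⟨y, hy⟩
    exact this
  · intro h
    ext ⟨y, hy⟩
    exact h y hy

theorem mem_Bm (φ : LinearMap.ker j →ₗ[P] P ⧸ J) :
    φ ∈ Bm J j ↔ ∃ ψ : F →ₗ[P] P ⧸ J, ∀ y : LinearMap.ker j, φ y = ψ y := by
  rw [LinearMap.mem_range]
  constructor
  · rintro ⟨ψ, rfl⟩
    exact ⟨ψ, fun y => rfl⟩
  · rintro ⟨ψ, hψ⟩
    refine ⟨ψ, ?_⟩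
    ext y
    exact (hψ y).symm

section Morphism

variable {F₁ : Type u} [AddCommGroup F₁] [Module P F₁] (j₁ : F₁ →ₗ[P] P)
variable (f : F →ₗ[P] F₁) (hf : ∀ u, j₁ (f u) = j u)

include hf in
theorem map_mem_ker (x : F) (hx : x ∈ LinearMap.ker j) : f x ∈ LinearMap.ker j₁ := by
  rw [LinearMap.mem_ker] at hx ⊢
  rw [hf, hx]

/-- restriction of `f` to kernels. -/
def fR : LinearMap.ker j →ₗ[P] LinearMap.ker j₁ := f.restrict (map_mem_ker j j₁ f hf)

theorem fR_coe (x : LinearMap.ker j) : ((fR j j₁ f hf x : LinearMap.ker j₁) : F₁) = f x := rfl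

include hf in
theorem map_trivSpan (x : F) (hx : x ∈ trivSpan j) : f x ∈ trivSpan j₁ := by
  refine Submodule.span_induction ?_ ?_ ?_ ?_ hx
  · rintro y ⟨u, v, rfl⟩
    apply Submodule.subset_span
    refine ⟨f u, f v, ?_⟩
    rw [map_sub, map_smul, map_smul, hf, hf]
  · rw [map_zero]; exact Submodule.zero_mem _
  · intro a b _ _ ha hb
    rw [map_add]; exact Submodule.add_mem _ ha hb
  · intro a b _ hb
    rw [map_smul]; exact Submodule.smul_mem _ a hb

/-- pullback on Hom's. -/
def pull : (LinearMap.ker j₁ →ₗ[P] P ⧸ J) →ₗ[P] (LinearMap.ker j →ₗ[P] P ⧸ J) :=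
  LinearMap.lcomp P (P ⧸ J) (fR j j₁ f hf)

theorem pull_apply (φ : LinearMap.ker j₁ →ₗ[P] P ⧸ J) (x : LinearMap.ker j) :
    pull J j j₁ f hf φ x = φ (fR j j₁ f hf x) := rfl

theorem pull_Bm : Bm J j₁ ≤ (Bm J j).comap (pull J j j₁ f hf) := by
  intro φ hφ
  rw [mem_Bm] at hφ
  obtain ⟨ψ, hψ⟩ := hφ
  rw [Submodule.mem_comap, mem_Bm]
  refine ⟨ψ.comp f, fun y => ?_⟩
  rw [pull_apply, hψ]
  rfl

theorem pull_Zm (φ : LinearMap.ker j₁ →ₗ[P] P ⧸ J) (hφ : φ ∈ Zm J j₁) :
    pull J j j₁ f hf φ ∈ Zm J j := by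
  rw [mem_Zm] at hφ ⊢
  intro y hy
  rw [pull_apply]
  apply hφ
  rw [fR_coe]
  exact map_trivSpan j j₁ f hf y hy

/-- pullback on the quotients. -/
def pullQ : ((LinearMap.ker j₁ →ₗ[P] P ⧸ J) ⧸ Bm J j₁) →ₗ[P] ((LinearMap.ker j →ₗ[P] P ⧸ J) ⧸ Bm J j) :=
  Submodule.mapQ (Bm J j₁) (Bm J j) (pull J j j₁ f hf) (pull_Bm J j j₁ f hf)

theorem pullQ_mk (φ : LinearMap.ker j₁ →ₗ[P] P ⧸ J) :
    pullQ J j j₁ f hf ((Bm J j₁).mkQ φ) = (Bm J j).mkQ (pull J j j₁ f hf φ) := rfl

theorem pullQ_mem (x : (LinearMap.ker j₁ →ₗ[P] P ⧸ J) ⧸ Bm J j₁) (hx : x ∈ TT J j₁) :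
    pullQ J j j₁ f hf x ∈ TT J j := by
  obtain ⟨φ, hφ, rfl⟩ := hx
  exact ⟨pull J j j₁ f hf φ, pull_Zm J j j₁ f hf φ hφ, rfl⟩

/-- pullback on `T²`. -/
def pullT : TT J j₁ →ₗ[P] TT J j := (pullQ J j j₁ f hf).restrict (pullQ_mem J j j₁ f hf)

theorem pullT_coe (x : TT J j₁) : ((pullT J j j₁ f hf x : TT J j) : _ ⧸ Bm J j) = pullQ J j j₁ f hf x := rfl

end Morphism

end TT


section Compare

variable {P : Type u} [CommRing P] (J : Ideal P)
variable {F : Type u} [AddCommGroup F] [Module P F] (j : F →ₗ[P] P)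
variable {F₁ : Type u} [AddCommGroup F₁] [Module P F₁] (j₁ : F₁ →ₗ[P] P)

/-- parallel morphisms induce the same map on `T²`. -/
theorem pullT_eq (f g : F →ₗ[P] F₁) (hf : ∀ u, j₁ (f u) = j u) (hg : ∀ u, j₁ (g u) = j u) :
    pullT J j j₁ f hf = pullT J j j₁ g hg := by
  apply LinearMap.ext
  rintro ⟨x, hx⟩
  apply Subtype.ext
  rw [pullT_coe, pullT_coe]
  obtain ⟨φ, hφ, rfl⟩ := hx
  change pullQ J j j₁ f hf ((Bm J j₁).mkQ φ) = pullQ J j j₁ g hg ((Bm J j₁).mkQ φ)
  rw [pullQ_mk, pullQ_mk, Submodule.mkQ_apply, Submodule.mkQ_apply, Submodule.Quotient.eq, mem_Bm]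
  -- the difference is the restriction of φ ∘ (f - g)
  have hmem : ∀ u, (f - g) u ∈ LinearMap.ker j₁ := by
    intro u
    rw [LinearMap.mem_ker, LinearMap.sub_apply, map_sub, hf, hg, sub_self]
  refine ⟨φ.comp ((f - g).codRestrict (LinearMap.ker j₁) hmem), fun y => ?_⟩
  rw [LinearMap.sub_apply, pull_apply, pull_apply, ← map_sub]
  rfl

/-- identity. -/
theorem pullT_id : pullT J j j LinearMap.id (fun _ => rfl) = LinearMap.id := by
  apply LinearMap.ext
  rintro ⟨x, hx⟩
  apply Subtype.ext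
  rw [pullT_coe]
  obtain ⟨φ, hφ, rfl⟩ := hx
  change pullQ J j j LinearMap.id (fun _ => rfl) ((Bm J j).mkQ φ) = (Bm J j).mkQ φ
  rw [pullQ_mk]
  congr 1

variable {F₂ : Type u} [AddCommGroup F₂] [Module P F₂] (j₂ : F₂ →ₗ[P] P)

/-- composition. -/
theorem pullT_comp (f : F →ₗ[P] F₁) (hf : ∀ u, j₁ (f u) = j u)
    (g : F₁ →ₗ[P] F₂) (hg : ∀ u, j₂ (g u) = j₁ u) :
    pullT J j j₂ (g.comp f) (fun u => by rw [LinearMap.comp_apply, hg, hf]) =
      (pullT J j j₁ f hf).comp (pullT J j₁ j₂ g hg) := by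
  apply LinearMap.ext
  rintro ⟨x, hx⟩
  apply Subtype.ext
  rw [LinearMap.comp_apply, pullT_coe, pullT_coe, pullT_coe]
  obtain ⟨φ, hφ, rfl⟩ := hx
  change pullQ J j j₂ (g.comp f) _ ((Bm J j₂).mkQ φ) =
    pullQ J j j₁ f hf (pullQ J j₁ j₂ g hg ((Bm J j₂).mkQ φ))
  rw [pullQ_mk, pullQ_mk, pullQ_mk]
  congr 1

/-- existence of morphisms between presentations of the same ideal. -/
theorem exists_morphism [Module.Projective P F] (hj : LinearMap.range j = J)
    (hj₁ : LinearMap.range j₁ = J) : ∃ f : F →ₗ[P] F₁, ∀ u, j₁ (f u) = j u := by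
  have hmem : ∀ u, j u ∈ LinearMap.range j₁ := by
    intro u
    rw [hj₁, ← hj]
    exact LinearMap.mem_range_self j u
  obtain ⟨f, hf⟩ := Module.projective_lifting_property j₁.rangeRestrict
    (j.codRestrict (LinearMap.range j₁) hmem) j₁.surjective_rangeRestrict
  refine ⟨f, fun u => ?_⟩
  have := LinearMap.congr_fun hf u
  exact congrArg Subtype.val this

/-- the comparison isomorphism. -/
theorem nonempty_equiv [Module.Projective P F] [Module.Projective P F₁]
    (hj : LinearMap.range j = J) (hj₁ : LinearMap.range j₁ = J) :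
    Nonempty (TT J j ≃ₗ[P] TT J j₁) := by
  obtain ⟨f, hf⟩ := exists_morphism J j j₁ hj hj₁
  obtain ⟨g, hg⟩ := exists_morphism J j₁ j hj₁ hj
  refine ⟨LinearEquiv.ofLinear (pullT J j₁ j g hg) (pullT J j j₁ f hf) ?_ ?_⟩
  · rw [← pullT_comp, ← pullT_id]
    exact pullT_eq J j₁ j₁ _ _ _ _
  · rw [← pullT_comp, ← pullT_id]
    exact pullT_eq J j j _ _ _ _

end Compare

/-- The second cotangent module does not depend on the presentation: let P be a commutative ring, J an
ideal and B = P/J. For a presentation of J, i.e. a finitely generated free P-module F with a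
P-linear map j : F → P with image J, let R = ker j be the relation module and R^tr ⊆ R the span of
the trivial relations j(u) • v - j(v) • u; the module T^2 of the presentation is the quotient of
Hom_B(R/R^tr, B), realised as the P-linear maps R → P/J vanishing on R^tr, by the restrictions to R
of the P-linear maps F → P/J (here: the image of that submodule in the quotient of Hom_P(R, P/J) by
the restrictions). Then for two presentations (F, j) and (F', j') of the same ideal J the two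
modules T^2 are isomorphic as P-modules (existence of an isomorphism; the comparison maps depend on
expressing one system of generators through the other). (The published statement takes B essentially
of finite type over a field and P smooth; this row allows any commutative ring P and ideal J.) -/
theorem result (P : Type u) [CommRing P] (J : Ideal P)
    (F : Type u) [AddCommGroup F] [Module P F] [Module.Free P F] [Module.Finite P F]
    (F' : Type u) [AddCommGroup F'] [Module P F'] [Module.Free P F'] [Module.Finite P F']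
    (j : F →ₗ[P] P) (j' : F' →ₗ[P] P) (hj : LinearMap.range j = J) (hj' : LinearMap.range j' = J) :
    Nonempty (↥(Submodule.map
          (LinearMap.range (LinearMap.lcomp P (P ⧸ J) (LinearMap.ker j).subtype)).mkQ
          (LinearMap.ker (LinearMap.lcomp P (P ⧸ J)
            (Submodule.comap (LinearMap.ker j).subtype
              (Submodule.span P {y : F | ∃ u v : F, y = j u • v - j v • u})).subtype))) ≃ₗ[P]
      ↥(Submodule.map
          (LinearMap.range (LinearMap.lcomp P (P ⧸ J) (LinearMap.ker j').subtype)).mkQ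
          (LinearMap.ker (LinearMap.lcomp P (P ⧸ J)
            (Submodule.comap (LinearMap.ker j').subtype
              (Submodule.span P {y : F' | ∃ u v : F', y = j' u • v - j' v • u})).subtype)))) := by
  exact nonempty_equiv J j j' hj hj'


end Groth.Agent.S11299
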