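import Groth.Statements.S11302
import Groth.Agent.S0611

set_option autoImplicit false
universe u
open Deform

namespace Groth.Agent.S11302


section generic

variable {R : Type u} [CommRing R] {n : ℕ} (f : Fin n → R)

/-- the ideal generated by the `f i`. -/
abbrev JJ : Ideal R := Ideal.span (Set.range f)

/-- the generator `f i` as an element of the ideal. -/
def gen (i : Fin n) : ↥(JJ f) := ⟨f i, Ideal.subset_span (Set.mem_range_self i)⟩

/-- evaluation at the generators. -/
def ev : (↥(JJ f) →ₗ[R] (R ⧸ JJ f)) →ₗ[R] (Fin n → R ⧸ JJ f) where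
  toFun φ i := φ (gen f i)
  map_add' _ _ := rfl
  map_smul' _ _ := rfl

lemma ev_apply (φ : ↥(JJ f) →ₗ[R] (R ⧸ JJ f)) (i : Fin n) : ev f φ i = φ (gen f i) := rfl

/-- `c ↦ ∑ c_i f_i`, onto the ideal. -/
def piJ : (Fin n → R) →ₗ[R] ↥(JJ f) where
  toFun c := ∑ i, c i • gen f i
  map_add' c c' := by simp only [Pi.add_apply, add_smul, Finset.sum_add_distrib]
  map_smul' r c := by
    simp only [Pi.smul_apply, smul_eq_mul, RingHom.id_apply, Finset.smul_sum, mul_smul]

lemma piJ_apply (c : Fin n → R) : piJ f c = ∑ i, c i • gen f i := rfl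

lemma piJ_coe (c : Fin n → R) : ((piJ f c : ↥(JJ f)) : R) = ∑ i, c i * f i := by
  rw [piJ_apply, Submodule.coe_sum]
  rfl

lemma piJ_single (i : Fin n) : piJ f (Pi.single i 1) = gen f i := by
  rw [piJ_apply, Finset.sum_eq_single i]
  · rw [Pi.single_eq_same, one_smul]
  · intro j _ hj
    rw [Pi.single_eq_of_ne hj, zero_smul]
  · intro h; exact absurd (Finset.mem_univ _) h

lemma piJ_surjective : Function.Surjective (piJ f) := by
  rintro ⟨a, ha⟩
  obtain ⟨c, hc⟩ := (Ideal.mem_span_range_iff_exists_fun).mp ha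
  refine ⟨c, Subtype.ext ?_⟩
  rw [piJ_coe]
  exact hc

lemma ev_injective : Function.Injective (ev f) := by
  rw [← LinearMap.ker_eq_bot, LinearMap.ker_eq_bot']
  intro φ hφ
  apply LinearMap.ext
  intro a
  obtain ⟨c, rfl⟩ := piJ_surjective f a
  rw [piJ_apply, map_sum, LinearMap.zero_apply]
  refine Finset.sum_eq_zero fun i _ => ?_
  rw [map_smul]
  have : φ (gen f i) = 0 := congrFun hφ i
  rw [this, smul_zero]

/-- `c ↦ ∑ c_i b_i`. -/
def beta (b : Fin n → R ⧸ JJ f) : (Fin n → R) →ₗ[R] (R ⧸ JJ f) where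
  toFun c := ∑ i, c i • b i
  map_add' c c' := by simp only [Pi.add_apply, add_smul, Finset.sum_add_distrib]
  map_smul' r c := by
    simp only [Pi.smul_apply, smul_eq_mul, RingHom.id_apply, Finset.smul_sum, mul_smul]

lemma beta_apply (b : Fin n → R ⧸ JJ f) (c : Fin n → R) : beta f b c = ∑ i, c i • b i := rfl

lemma smul_eq_zero_of_mem {r : R} (hr : r ∈ JJ f) (b : R ⧸ JJ f) : r • b = 0 := by
  obtain ⟨b, rfl⟩ := Ideal.Quotient.mk_surjective b
  rw [Algebra.smul_def, Ideal.Quotient.algebraMap_eq, Ideal.Quotient.eq_zero_iff_mem.mpr hr,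
    zero_mul]

lemma ker_piJ_le (hreg : RingTheory.Sequence.IsWeaklyRegular R (List.ofFn f))
    (b : Fin n → R ⧸ JJ f) : LinearMap.ker (piJ f) ≤ LinearMap.ker (beta f b) := by
  intro c hc
  rw [LinearMap.mem_ker] at hc ⊢
  have h0 : ∑ i, c i * f i = 0 := by
    rw [← piJ_coe, hc]
    rfl
  rw [beta_apply]
  refine Finset.sum_eq_zero fun i _ => ?_
  exact smul_eq_zero_of_mem f (Groth.Agent.S0611.relation_mem f hreg c h0 i) _

lemma ev_surjective (hreg : RingTheory.Sequence.IsWeaklyRegular R (List.ofFn f)) :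
    Function.Surjective (ev f) := by
  intro b
  let φ : ↥(JJ f) →ₗ[R] (R ⧸ JJ f) :=
    ((LinearMap.ker (piJ f)).liftQ (beta f b) (ker_piJ_le f hreg b)) ∘ₗ
      ((piJ f).quotKerEquivOfSurjective (piJ_surjective f)).symm.toLinearMap
  refine ⟨φ, ?_⟩
  funext i
  rw [ev_apply]
  have h1 : ((piJ f).quotKerEquivOfSurjective (piJ_surjective f)).symm (gen f i) =
      Submodule.Quotient.mk (Pi.single i 1) := by
    rw [LinearEquiv.symm_apply_eq, LinearMap.quotKerEquivOfSurjective_apply_mk, piJ_single]
  change (LinearMap.ker (piJ f)).liftQ (beta f b) (ker_piJ_le f hreg b)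
    (((piJ f).quotKerEquivOfSurjective (piJ_surjective f)).symm (gen f i)) = b i
  rw [h1, Submodule.liftQ_apply, beta_apply, Finset.sum_eq_single i]
  · rw [Pi.single_eq_same, one_smul]
  · intro j _ hj
    rw [Pi.single_eq_of_ne hj, zero_smul]
  · intro h; exact absurd (Finset.mem_univ _) h

/-- evaluation at the generators is an isomorphism for a weakly regular sequence. -/
noncomputable def evEquiv (hreg : RingTheory.Sequence.IsWeaklyRegular R (List.ofFn f)) :
    (↥(JJ f) →ₗ[R] (R ⧸ JJ f)) ≃ₗ[R] (Fin n → R ⧸ JJ f) :=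
  LinearEquiv.ofBijective (ev f) ⟨ev_injective f, ev_surjective f hreg⟩

lemma evEquiv_apply (hreg : RingTheory.Sequence.IsWeaklyRegular R (List.ofFn f))
    (φ : ↥(JJ f) →ₗ[R] (R ⧸ JJ f)) : evEquiv f hreg φ = ev f φ := rfl

end generic


noncomputable section poly

open MvPolynomial

variable {k : Type u} [CommRing k] {d n : ℕ} (f : Fin n → MvPolynomial (Fin d) k)

local notation "RR" => MvPolynomial (Fin d) k

/-- a derivation is determined by its values on the variables, through the partial derivatives. -/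
lemma der_eq_sum (D : Derivation k RR (RR ⧸ JJ f)) (p : RR) :
    D p = ∑ j, pderiv j p • D (X j) := by
  induction p using MvPolynomial.induction_on with
  | C a =>
    rw [derivation_C]
    symm
    refine Finset.sum_eq_zero fun j _ => ?_
    rw [pderiv_C, zero_smul]
  | add p q hp hq =>
    rw [map_add, hp, hq, ← Finset.sum_add_distrib]
    refine Finset.sum_congr rfl fun j _ => ?_
    rw [map_add, add_smul]
  | mul_X p i hp =>
    rw [Derivation.leibniz, hp]
    have h1 : ∀ j : Fin d, pderiv j (p * X i) • D (X j) =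
        (X i : RR) • (pderiv j p • D (X j)) + p • (pderiv j (X i : RR) • D (X j)) := by
      intro j
      rw [pderiv_mul, add_smul, smul_smul, smul_smul, mul_comm (X i)]
    simp only [h1, Finset.sum_add_distrib, ← Finset.smul_sum]
    rw [add_comm]
    congr 2
    rw [Finset.sum_eq_single i]
    · rw [pderiv_X_self (R := k) i, one_smul]
    · intro j _ hj
      rw [pderiv_X_of_ne (R := k) (Ne.symm hj), zero_smul]
    · intro h; exact absurd (Finset.mem_univ _) h

/-- the columns of the Jacobian matrix modulo the ideal. -/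
def col (j : Fin d) : Fin n → RR ⧸ JJ f := fun i => Ideal.Quotient.mk (JJ f) (pderiv j (f i))

/-- the derivation `p ↦ ∂p/∂X_j mod J`. -/
def Dj (j : Fin d) : Derivation k RR (RR ⧸ JJ f) :=
  (Algebra.linearMap RR (RR ⧸ JJ f)).compDer (pderiv j)

lemma Dj_apply (j : Fin d) (p : RR) : Dj f j p = Ideal.Quotient.mk (JJ f) (pderiv j p) := rfl

/-- restriction of a derivation to the ideal. -/
def resDer (D : Derivation k RR (RR ⧸ JJ f)) : ↥(JJ f) →ₗ[RR] (RR ⧸ JJ f) where
  toFun a := D (a : RR)
  map_add' a b := by rw [Submodule.coe_add, map_add]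
  map_smul' r a := by
    rw [Submodule.coe_smul, smul_eq_mul, Derivation.leibniz, RingHom.id_apply]
    rw [smul_eq_zero_of_mem f a.2, add_zero]

lemma resDer_apply (D : Derivation k RR (RR ⧸ JJ f)) (a : ↥(JJ f)) : resDer f D a = D (a : RR) := rfl

/-- the set of restrictions of derivations. -/
abbrev Dset : Set (↥(JJ f) →ₗ[RR] (RR ⧸ JJ f)) :=
  {ψ | ∃ D : Derivation k RR (RR ⧸ JJ f), ∀ a : ↥(JJ f), ψ a = D (a : RR)}

lemma ev_mem_of_mem_Dset {ψ : ↥(JJ f) →ₗ[RR] (RR ⧸ JJ f)} (hψ : ψ ∈ Dset f) :
    ev f ψ ∈ Submodule.span (RR ⧸ JJ f) (Set.range (col f)) := by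
  obtain ⟨D, hD⟩ := hψ
  have h1 : ev f ψ = ∑ j, D (X j) • col f j := by
    funext i
    rw [ev_apply, hD, Finset.sum_apply]
    change D (f i) = _
    rw [der_eq_sum f D (f i)]
    refine Finset.sum_congr rfl fun j _ => ?_
    rw [Pi.smul_apply, smul_eq_mul, mul_comm, Algebra.smul_def]
    rfl
  rw [h1]
  exact Submodule.sum_mem _ fun j _ => Submodule.smul_mem _ _ (Submodule.subset_span ⟨j, rfl⟩)

lemma col_eq_ev (j : Fin d) : col f j = ev f (resDer f (Dj f j)) := rfl

lemma map_span_Dset (hreg : RingTheory.Sequence.IsWeaklyRegular RR (List.ofFn f)) :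
    (Submodule.span RR (Dset f)).map (evEquiv f hreg).toLinearMap =
      (Submodule.span (RR ⧸ JJ f) (Set.range (col f))).restrictScalars RR := by
  apply le_antisymm
  · rw [Submodule.map_span_le]
    intro ψ hψ
    exact ev_mem_of_mem_Dset f hψ
  · intro x hx
    rw [Submodule.restrictScalars_mem] at hx
    induction hx using Submodule.span_induction with
    | mem x hx =>
      obtain ⟨j, rfl⟩ := hx
      refine ⟨resDer f (Dj f j), Submodule.subset_span ⟨Dj f j, fun a => rfl⟩, ?_⟩
      rfl
    | zero => exact Submodule.zero_mem _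
    | add x y _ _ hx hy => exact Submodule.add_mem _ hx hy
    | smul b x _ hx =>
      obtain ⟨r, rfl⟩ := Ideal.Quotient.mk_surjective b
      have : (Ideal.Quotient.mk (JJ f) r) • x = r • x := by
        funext i
        rw [Pi.smul_apply, Pi.smul_apply, smul_eq_mul, Algebra.smul_def]
        rfl
      rw [this]
      exact Submodule.smul_mem _ _ hx

end poly

open MvPolynomial in
/-- T^1 of a complete intersection; the hypersurface case P/(f, ∂f/∂X_1, ..., ∂f/∂X_d) is n = 1: let k
be an algebraically closed field, P = k[X_1, ..., X_d], f_1, ..., f_n a regular sequence in P (each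
f_i a non-zero-divisor modulo the preceding ones), J the ideal they generate and B = P/J. The first
cotangent module T^1_B — the cokernel of Der_k(P, B) → Hom_P(J, B), a derivation being restricted to
J — is isomorphic, as a P-module, to B^n modulo the B-submodule generated by the d columns
(∂f_1/∂X_j, ..., ∂f_n/∂X_j), j = 1, ..., d, of the Jacobian matrix reduced modulo J, through the map
sending the class of φ : J → B to the class of (φ(f_1), ..., φ(f_n)). (The published formula allows
P to be a localisation of the polynomial ring; this row takes the polynomial ring.) -/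
theorem result (k : Type u) [Field k] [IsAlgClosed k] (d n : ℕ)
    (f : Fin n → MvPolynomial (Fin d) k) (hreg : RingTheory.Sequence.IsWeaklyRegular (MvPolynomial (Fin d) k) (List.ofFn f)) :
    ∃ e : ((↥(Ideal.span (Set.range f)) →ₗ[MvPolynomial (Fin d) k] (MvPolynomial (Fin d) k ⧸ Ideal.span (Set.range f))) ⧸
            Submodule.span (MvPolynomial (Fin d) k)
              {ψ : ↥(Ideal.span (Set.range f)) →ₗ[MvPolynomial (Fin d) k] (MvPolynomial (Fin d) k ⧸ Ideal.span (Set.range f)) |
                ∃ D : Derivation k (MvPolynomial (Fin d) k) (MvPolynomial (Fin d) k ⧸ Ideal.span (Set.range f)), ∀ a : ↥(Ideal.span (Set.range f)), ψ a = D (a : MvPolynomial (Fin d) k)}) ≃ₗ[MvPolynomial (Fin d) k]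
          ((Fin n → MvPolynomial (Fin d) k ⧸ Ideal.span (Set.range f)) ⧸
            Submodule.span (MvPolynomial (Fin d) k ⧸ Ideal.span (Set.range f))
              (Set.range fun j : Fin d => fun i : Fin n => Ideal.Quotient.mk (Ideal.span (Set.range f)) (pderiv j (f i)))),
      ∀ φ : ↥(Ideal.span (Set.range f)) →ₗ[MvPolynomial (Fin d) k] (MvPolynomial (Fin d) k ⧸ Ideal.span (Set.range f)),
        e (Submodule.Quotient.mk φ) =
          Submodule.Quotient.mk (fun i : Fin n => φ ⟨f i, Ideal.subset_span (Set.mem_range_self i)⟩) := by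
  refine ⟨(Submodule.Quotient.equiv _ _ (evEquiv f hreg) (map_span_Dset f hreg)).trans
    (Submodule.Quotient.restrictScalarsEquiv (MvPolynomial (Fin d) k) _), ?_⟩
  intro φ
  rfl

end Groth.Agent.S11302
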