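import Groth.Statements.S11306
import Mathlib.RingTheory.LocalRing.Module
import Mathlib.LinearAlgebra.FiniteDimensional.Lemmas
import Mathlib.RingTheory.Flat.Basic
import Mathlib.LinearAlgebra.Dimension.Constructions
import Mathlib.LinearAlgebra.Dimension.Free
-- import your own Groth.Agent.* helpers here

set_option autoImplicit false
universe u
open TensorProduct
open CAlg

namespace Groth.Agent.S11306

/-- Take a Noetherian local domain A, with residue field k and fraction field K, and let M be a finitely
generated A-module. If k ⊗_A M and K ⊗_A M have the same dimension r (over k and over K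
respectively), then M is a free A-module of rank r. -/
theorem result (A : Type u) [CommRing A] [IsDomain A]
    [IsNoetherianRing A] [IsLocalRing A] (M : Type u) [AddCommGroup M] [Module A M] [Module.Finite A M] (r : ℕ)
    (hk : Module.finrank (IsLocalRing.ResidueField A) (IsLocalRing.ResidueField A ⊗[A] M) = r)
    (hK : Module.finrank (FractionRing A) (FractionRing A ⊗[A] M) = r) :
    Module.Free A M ∧ Module.finrank A M = r := by
  classical
  let k := IsLocalRing.ResidueField A
  let K := FractionRing A
  let bk : Module.Basis (Fin r) k (k ⊗[A] M) := Module.finBasisOfFinrankEq k _ hk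
  have hsurj : Function.Surjective (TensorProduct.mk A k M 1) :=
    TensorProduct.mk_surjective A M k IsLocalRing.residue_surjective
  choose f hf using fun i => hsurj (bk i)
  let v : (Fin r → A) →ₗ[A] M := Fintype.linearCombination A f
  have hv : Function.Surjective v := by
    rw [← LinearMap.range_eq_top, Fintype.range_linearCombination]
    exact IsLocalRing.span_eq_top_of_tmul_eq_basis (R := A) f bk hf
  -- base change to K
  let vK : K ⊗[A] (Fin r → A) →ₗ[K] K ⊗[A] M := v.baseChange K
  have hvK : Function.Surjective vK := by
    have : Function.Surjective (v.lTensor K) := LinearMap.lTensor_surjective K hv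
    exact this
  have hdim : Module.finrank K (K ⊗[A] (Fin r → A)) = Module.finrank K (K ⊗[A] M) := by
    rw [Module.finrank_baseChange, hK]
    simp
  have hvKinj : Function.Injective vK :=
    (LinearMap.injective_iff_surjective_of_finrank_eq_finrank hdim).2 hvK
  have hinj : Function.Injective v := by
    rw [← LinearMap.ker_eq_bot, LinearMap.ker_eq_bot']
    intro x hx
    have h1 : vK ((1 : K) ⊗ₜ[A] x) = 0 := by
      change (v.baseChange K) ((1 : K) ⊗ₜ[A] x) = 0
      rw [LinearMap.baseChange_tmul, hx, TensorProduct.tmul_zero]
    have h2 : ((1 : K) ⊗ₜ[A] x : K ⊗[A] (Fin r → A)) = 0 := hvKinj (by rw [h1, map_zero])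
    have h3 : Function.Injective (TensorProduct.mk A K (Fin r → A) 1) := by
      have := Module.Flat.rTensor_preserves_injective_linearMap (M := Fin r → A)
        (Algebra.linearMap A K) (IsFractionRing.injective A K)
      intro a b hab
      apply (TensorProduct.lid A (Fin r → A)).symm.injective
      apply this
      simpa using hab
    exact h3 (by simpa using h2)
  let e : (Fin r → A) ≃ₗ[A] M := LinearEquiv.ofBijective v ⟨hinj, hv⟩
  refine ⟨Module.Free.of_equiv e, ?_⟩
  rw [← e.finrank_eq]
  simp

end Groth.Agent.S11306
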