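import Groth.Statements.S11308
import Groth.Agent.S2889
import Groth.Agent.Lib.BlowUp.QRegSmooth
import Groth.Agent.Lib.BlowUp.RegularLift
import Groth.Agent.Lib.BlowUp.Helper18_Regular
import Groth.Agent.Lib.Helper91.RegImmLocal
import Groth.Agent.Lib.Helper69.BlowUpProper

set_option linter.style.haveILetI false

set_option autoImplicit false
universe u
open CategoryTheory CategoryTheory.Limits AlgebraicGeometry
open NonsingVar

namespace Groth.Agent.S11308

/-- Let k be an algebraically closed field, X a nonsingular variety over k (an integral scheme,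
separated and of finite type over k, all of whose local rings are regular), Y a nonsingular closed
subvariety of X (an integral closed subscheme all of whose local rings are regular) with ideal sheaf
I, and π : X~ → X a blowing-up of X with respect to I, characterised by its universal property. Then
X~ is nonsingular: all of its local rings are regular. -/
theorem result (k : Type u) [Field k] [IsAlgClosed k]
    (X : Scheme.{u}) [X.Over (Spec (CommRingCat.of k))] [IsIntegral X] [IsSeparated (X ↘ (Spec (CommRingCat.of k)))]
    [LocallyOfFiniteType (X ↘ (Spec (CommRingCat.of k)))] [QuasiCompact (X ↘ (Spec (CommRingCat.of k)))]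
    (hreg : ∀ x : ↥X, IsRegularLocalRing ↑(X.presheaf.stalk x))
    (Y : Scheme.{u}) (i : Y ⟶ X) [IsClosedImmersion i] [IsIntegral Y]
    (hregY : ∀ y : ↥Y, IsRegularLocalRing ↑(Y.presheaf.stalk y))
    (Xt : Scheme.{u}) (π : Xt ⟶ X) (hπ : BlowUp.IsBlowUp π i.ker) :
    ∀ z : ↥Xt, IsRegularLocalRing ↑(Xt.presheaf.stalk z) := by
  classical
  intro z
  haveI : LocallyOfFiniteType (Spec (CommRingCat.of k) ↘ Spec (CommRingCat.of k)) := inferInstance
  haveI hXN : IsLocallyNoetherian X :=
    LocallyOfFiniteType.isLocallyNoetherian (X ↘ (Spec (CommRingCat.of k)))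
  -- `i` is a regular closed immersion
  have hi : Mor2.IsRegularClosedImmersion i := by
    refine ⟨inferInstance, fun y => ?_⟩
    haveI := hregY y
    obtain ⟨V, hyV, hV⟩ := (Groth.Agent.S2889.result i y).mpr (hreg (i y))
    obtain ⟨U, hyU, rs, hrs, hI⟩ :=
      Groth.Agent.Lib.Helper91.RegImmLocal.exists_affine_of_restrict i y V hyV hV
    exact ⟨U.1, U.2, hyU, rs, hrs, hI⟩
  -- the blow-up is proper, `Xt` is locally Noetherian
  have hft : BlowUp.IsFiniteTypeIdeal i.ker := fun U => by
    have : IsNoetherianRing Γ(X, U.1) := IsLocallyNoetherian.component_noetherian U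
    exact (isNoetherianRing_iff_ideal_fg _).1 inferInstance _
  have hprop : IsProper π :=
    Groth.Agent.Lib.Helper69.BlowUpProper.isProper_of_isBlowUp i.ker hft π hπ
  haveI : IsLocallyNoetherian Xt := LocallyOfFiniteType.isLocallyNoetherian π
  by_cases hz : π z ∈ i.ker.support
  · -- `z` lies on the exceptional divisor `E = Xt ×_X Y`
    have hsm : Smooth (pullback.snd π i) :=
      Groth.Agent.Lib.BlowUp.QRegSmooth.smooth_of_isPullback i hi π hπ (pullback.fst π i)
        (pullback.snd π i) (IsPullback.of_hasPullback π i)
    haveI : IsLocallyNoetherian Y := LocallyOfFiniteType.isLocallyNoetherian i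
    have hker : (pullback.fst π i).ker = i.ker.comap π :=
      Scheme.IdealSheafData.ker_fst_of_isClosedImmersion i π
    obtain ⟨e, rfl⟩ : ∃ e, (pullback.fst π i) e = z := by
      have h1 : z ∈ ((i.ker.comap π).support : Set Xt) := by
        rw [Scheme.IdealSheafData.support_comap]
        exact hz
      rw [← hker, Scheme.Hom.support_ker] at h1
      have h2 : IsClosed (Set.range (pullback.fst π i)) :=
        (pullback.fst π i).isClosedEmbedding.isClosed_range
      have h3 : z ∈ closure (Set.range (pullback.fst π i)) := h1
      rw [h2.closure_eq] at h3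
      exact h3
    have hE : IsRegularLocalRing ((pullback π i).presheaf.stalk e) :=
      Groth.Agent.Lib.BlowUp.RegularLift.isRegularLocalRing_stalk_of_smooth (pullback.snd π i) e
        (hregY _)
    obtain ⟨W, heW, t, ht, hkerW⟩ := hπ.1 ((pullback.fst π i) e)
    exact Groth.Agent.Lib.BlowUp.RegularLift.isRegularLocalRing_stalk_of_cartier
      (pullback.fst π i) e W.1 W.2 heW t ht (by rw [hker]; exact hkerW) hE
  · have := Groth.Agent.Lib.BlowUp.isIso_stalkMap_of_isBlowUp i.ker π hπ z hz
    haveI := hreg (π z)
    exact IsRegularLocalRing.of_ringEquiv (asIso (π.stalkMap z)).commRingCatIsoToRingEquiv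

end Groth.Agent.S11308
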