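import Groth.Statements.S11320
import Groth.Agent.Lib.Helper47.FilCol5

set_option autoImplicit false
universe u
open CategoryTheory CategoryTheory.Limits
open CohTop

namespace Groth.Agent.S11320

open TopologicalSpace Opposite CategoryTheory.Limits Groth.Agent.Lib.Helper47

/-- Flasqueness is invariant under isomorphism of sheaves. -/
lemma isFlasque_of_iso {X : TopCat.{u}} {G G' : CohTop.Ab X} (e : G ≅ G')
    (h : TopCat.Sheaf.IsFlasque G) : TopCat.Sheaf.IsFlasque G' := by
  constructor
  intro U V i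
  let e' : G.obj ≅ G'.obj := (sheafToPresheaf _ _).mapIso e
  have hnat : G'.obj.map i = (e'.app U).inv ≫ G.obj.map i ≫ (e'.app V).hom := by
    rw [Iso.eq_inv_comp]
    exact (e'.hom.naturality i).symm
  rw [hnat]
  have : Epi (G.obj.map i) := h.epi i
  infer_instance


/-- On a Noetherian topological space X, the direct limit, in the category of abelian sheaves, of a
directed system (F_i) of flasque abelian sheaves indexed by a nonempty directed preorder is flasque
(all its restriction maps are surjective). -/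
theorem result {X : TopCat.{u}} [TopologicalSpace.NoetherianSpace X]
    (ι : Type u) [Preorder ι] [IsDirected ι (· ≤ ·)] [Nonempty ι]
    (D : ι ⥤ CohTop.Ab X) (hD : ∀ i : ι, TopCat.Sheaf.IsFlasque (D.obj i)) :
    TopCat.Sheaf.IsFlasque (colimit D : CohTop.Ab X) := by
  classical
  let J := Opens.grothendieckTopology X
  let B : Set (Opens X) := Set.univ
  let Cov : ∀ (V : Opens X) (κ : Type u), (κ → Over V) → Prop := fun V κ Y =>
    Finite κ ∧ Sieve.ofArrows (fun i => (Y i).left) (fun i => (Y i).hom) ∈ J V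
  have h1 : ∀ (V : Opens X) (κ : Type u) (Y : κ → Over V), Cov V κ Y → Finite κ ∧ V ∈ B ∧
      Sieve.ofArrows (fun i => (Y i).left) (fun i => (Y i).hom) ∈ J V ∧
      ∀ (p : ℕ) (a : Fin (p + 1) → κ), (∏ᶜ fun k => Y (a k)).left ∈ B := by
    intro V κ Y hY
    exact ⟨hY.1, trivial, hY.2, fun _ _ => trivial⟩
  have h2 : ∀ V ∈ B, ∀ T ∈ J V, ∃ (κ : Type u) (Y : κ → Over V), Cov V κ Y ∧
      ∀ i, T.arrows (Y i).hom := by
    intro V _ T hT
    have hT' : ∀ x ∈ V, ∃ (W : Opens X) (f : W ⟶ V), T f ∧ x ∈ W := hT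
    have key : ∀ x : V, ∃ (W : Opens X), (x : X) ∈ W ∧
        ∃ (h : W ≤ V), T.arrows (homOfLE h) := by
      intro x
      obtain ⟨W, f, hf, hx⟩ := hT' x.1 x.2
      refine ⟨W, hx, f.le, ?_⟩
      have : (homOfLE f.le : W ⟶ V) = f := Subsingleton.elim _ _
      rw [this]
      exact hf
    choose W hxW hWV hWT using key
    have hVc : IsCompact (V : Set X) := TopologicalSpace.NoetherianSpace.isCompact _
    obtain ⟨t, ht⟩ := hVc.elim_finite_subcover (fun x : V => ((W x : Opens X) : Set X))
      (fun x => (W x).isOpen) (fun x hx => Set.mem_iUnion.mpr ⟨⟨x, hx⟩, hxW ⟨x, hx⟩⟩)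
    refine ⟨{x // x ∈ t}, fun i => Over.mk (homOfLE (hWV i.1)), ⟨?_, ?_⟩, ?_⟩
    · infer_instance
    · intro x hx
      have := ht hx
      simp only [Set.mem_iUnion] at this
      obtain ⟨i, hi, hxi⟩ := this
      exact ⟨W i, homOfLE (hWV i), Sieve.ofArrows_mk _ _ (⟨i, hi⟩ : {x // x ∈ t}), hxi⟩
    · intro i
      exact hWT i.1
  let E := FilCol.preCocone D
  have hE : IsColimit E := colimit.isColimit _
  have hsurj : ∀ U : Opens X, Function.Surjective ((toSheafify J E.pt).app (op U)) :=
    fun U => (FilCol.toSheafify_colimit_bijective hE B Cov h1 h2 U trivial).2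
  refine isFlasque_of_iso (FilCol.shfIso D) ?_
  constructor
  intro U V i
  rw [AddCommGrpCat.epi_iff_surjective]
  intro s
  obtain ⟨x, rfl⟩ := hsurj V.unop s
  obtain ⟨k, y, rfl⟩ := FilCol.exists_rep hE V.unop x
  have : Epi ((D.obj k).obj.map i) := (hD k).epi i
  obtain ⟨y', rfl⟩ := (AddCommGrpCat.epi_iff_surjective _).mp this y
  refine ⟨(toSheafify J E.pt).app U ((E.ι.app k).app U y'), ?_⟩
  have e1 := ConcreteCategory.congr_hom ((toSheafify J E.pt).naturality i) ((E.ι.app k).app U y')
  have e2 := ConcreteCategory.congr_hom ((E.ι.app k).naturality i) y'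
  exact e1.symm.trans (congrArg ((toSheafify J E.pt).app V) e2.symm)

end Groth.Agent.S11320
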