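import Groth.Statements.S2338
import Groth.Agent.Lib.Helper97.QuasiAffine
-- import your own Groth.Agent.* helpers here

set_option autoImplicit false
universe u
open CategoryTheory CategoryTheory.Limits AlgebraicGeometry
open EGA2

namespace Groth.Agent.S2338

/-- The composite of two quasi-affine morphisms is quasi-affine. -/
theorem result {X Y Z : Scheme.{u}} (f : X ⟶ Y) (g : Y ⟶ Z) (hf : Mor2.IsQuasiAffine f) (hg : Mor2.IsQuasiAffine g) :
    Mor2.IsQuasiAffine (f ≫ g) := by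
  obtain ⟨hfc, hf⟩ := hf
  obtain ⟨hgc, hg⟩ := hg
  refine ⟨inferInstance, fun V hV => ?_⟩
  have hc : IsCompact (((f ≫ g) ⁻¹ᵁ V : X.Opens) : Set X) := (f ≫ g).isCompact_preimage hV.isCompact
  have hW := hg V hV
  change Scheme.IsQuasiAffine ((f ⁻¹ᵁ (g ⁻¹ᵁ V) : X.Opens) : Scheme.{u})
  refine Groth.Agent.Lib.Helper97.QAff.isQuasiAffine_of_forall_exists_quasiAffine _ hc ?_
  intro x hx
  have hfx : f x ∈ g ⁻¹ᵁ V := hx
  obtain ⟨s, hs, hxs, -⟩ :=
    Groth.Agent.Lib.Helper97.QAff.exists_affine_basicOpen (g ⁻¹ᵁ V) hfx ⊤ trivial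
  have e1 : X.basicOpen (f.app (g ⁻¹ᵁ V) s) = f ⁻¹ᵁ Y.basicOpen s := (Scheme.preimage_basicOpen f s).symm
  refine ⟨f.app (g ⁻¹ᵁ V) s, ?_, ?_⟩
  · have := hf (Y.basicOpen s) hs
    exact Groth.Agent.Lib.Helper97.QAff.isQuasiAffine_of_eq e1
  · rw [e1]
    exact hxs

end Groth.Agent.S2338
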