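import Groth.Statements.S2341
import Groth.Agent.Lib.Helper97.QuasiAffine
-- import your own Groth.Agent.* helpers here

set_option autoImplicit false
universe u
open CategoryTheory CategoryTheory.Limits AlgebraicGeometry
open EGA2

namespace Groth.Agent.S2341

/-- A quasi-compact morphism X → Y whose underlying map is a homeomorphism onto its image (for instance
a closed immersion) is quasi-affine. -/
theorem result {X Y : Scheme.{u}} (f : X ⟶ Y) [QuasiCompact f]
    (hf : Topology.IsEmbedding f.base) : Mor2.IsQuasiAffine f := by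
  refine ⟨inferInstance, fun V hV => ?_⟩
  have hc : IsCompact ((f ⁻¹ᵁ V : X.Opens) : Set X) := f.isCompact_preimage hV.isCompact
  refine Groth.Agent.Lib.Helper97.QAff.isQuasiAffine_of_forall_exists_affine _ hc ?_
  intro x hx
  obtain ⟨N, hN, hxN, hNV⟩ := exists_isAffineOpen_mem_and_subset (X := X) (x := x) (U := f ⁻¹ᵁ V) hx
  obtain ⟨N', hN'open, hN'⟩ := hf.isInducing.isOpen_iff.mp N.isOpen
  have hfxN' : f x ∈ (⟨N', hN'open⟩ : Y.Opens) := by
    have : x ∈ f.base ⁻¹' N' := by rw [hN']; exact hxN
    exact this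
  obtain ⟨h, hle, hfx⟩ := hV.exists_basicOpen_le (V := ⟨N', hN'open⟩) ⟨f x, hfxN'⟩ hx
  have e1 : X.basicOpen (f.app V h) = f ⁻¹ᵁ Y.basicOpen h := (Scheme.preimage_basicOpen f h).symm
  have hleN : X.basicOpen (f.app V h) ≤ N := by
    rw [e1]
    intro y hy
    have : y ∈ f.base ⁻¹' N' := hle hy
    rw [hN'] at this
    exact this
  refine ⟨f.app V h, ?_, ?_⟩
  · have e2 : X.basicOpen (X.presheaf.map (homOfLE hNV).op (f.app V h)) = X.basicOpen (f.app V h) := by
      rw [Scheme.basicOpen_res]
      exact inf_eq_right.mpr hleN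
    rw [← e2]
    exact hN.basicOpen _
  · rw [e1]
    exact hfx

end Groth.Agent.S2341
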