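import Groth.Statements.S1134
import Mathlib
import Groth.Agent.Lib.Helper81.DescQA
import Groth.Agent.S2338
import Groth.Agent.S2339
import Groth.Agent.S2341
-- import your own Groth.Agent.* helpers here

set_option autoImplicit false
open CategoryTheory CategoryTheory.Limits AlgebraicGeometry Opposite
universe u
open Desc

namespace Groth.Agent.S1134
open Desc

open Groth.Agent.Lib.Helper81.DescE Groth.Agent.Lib.Helper81.DescMain Groth.Agent.Lib.Helper81.DescQA

/-- quasi-affine morphisms as a morphism property -/
def QA : MorphismProperty Scheme.{u} := fun _ _ f => Mor2.IsQuasiAffine f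

lemma qa_of_iso {X Y : Scheme.{u}} (f : X ⟶ Y) [IsIso f] : Mor2.IsQuasiAffine f :=
  Groth.Agent.S2341.result f f.homeomorph.isEmbedding

instance : QA.{u}.RespectsIso := by
  apply MorphismProperty.RespectsIso.mk
  · intro X Y Z e f hf
    exact Groth.Agent.S2338.result e.hom f (qa_of_iso e.hom) hf
  · intro X Y Z e f hf
    exact Groth.Agent.S2338.result f e.hom hf (qa_of_iso e.hom)

instance : QA.{u}.IsStableUnderBaseChange := by
  apply MorphismProperty.IsStableUnderBaseChange.mk'
  intro X Y S f g _ hg
  have h : QA (pullback.snd g f) := Groth.Agent.S2339.result g hg f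
  rw [← pullbackSymmetry_hom_comp_snd]
  exact (QA.cancel_left_of_respectsIso _ _).mpr h

theorem qaffine_case_iso {X S : Scheme.{u}} (p : X ⟶ S) [IsAffine X] [IsAffine S] [Flat p]
    [Surjective p] (D : SchDD p) (hD : Mor2.IsQuasiAffine D.obj.hom) :
    ∃ U : Over S, Nonempty ((toDD p).obj U ≅ D) := by
  haveI h1 : Scheme.IsQuasiAffine ((⊤ : D.obj.left.Opens) : Scheme.{u}) :=
    hD.2 ⊤ (isAffineOpen_top X)
  haveI : D.obj.left.IsQuasiAffine :=
    Scheme.IsQuasiAffine.of_isAffineHom (Scheme.topIso D.obj.left).inv
  obtain ⟨Y, q, e, hpb, hc⟩ := qaffine_case D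
  apply single_of_fam
  exact isEffective_of_isESol ((SchDDFam.ofSchDD.{u, u} p).obj D) q (fun _ => e)
    ⟨fun _ => hpb, fun T _ _ x₀ x₁ h v => hc x₀ x₁ h v⟩


/-- Let p : X → S be a surjective, flat and quasi-compact morphism of schemes. Every descent datum
relative to p whose underlying scheme is quasi-affine over X is effective: it is isomorphic to the
canonical descent datum of some scheme over S. Descent data are taken in functor-of-points form,
equivalent by the Yoneda lemma to the usual form of an isomorphism over X ×_S X satisfying the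
cocycle condition. -/
theorem result {X S : Scheme.{u}} (p : X ⟶ S) [Surjective p] [Flat p] [QuasiCompact p]
    (D : Desc.SchDD p) (hD : Mor2.IsQuasiAffine D.obj.hom) : ∃ U : Over S, Nonempty ((Desc.toDD p).obj U ≅ D) := by
  exact effective_of_affine_case QA.{u}
    (fun X S p hX hS hfl hsurj D hD => by
      haveI := hX; haveI := hS; haveI := hfl; haveI := hsurj
      exact qaffine_case_iso p D hD) p D hD

end Groth.Agent.S1134
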