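import Groth.Statements.S11359
import Groth.Agent.S0312
import Groth.Agent.Lib.Helper2.GorHull
import Groth.Agent.Lib.Helper2.InjHull6
import Groth.Agent.Lib.Helper58.NV3

set_option autoImplicit false
universe u
open InjHull

namespace Groth.Agent.S11359

open Groth.Agent.Lib.Helper2 TensorProduct IsLocalRing Function

/-- An Artinian Gorenstein local ring has a one-dimensional socle. -/
theorem exists_socle_gen (F : Type u) [CommRing F] [LocCoh.IsGorensteinLocalRing F]
    [IsArtinianRing F] :
    ∃ σ : F, σ ≠ 0 ∧ (∀ r ∈ maximalIdeal F, r * σ = 0) ∧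
      ∀ y : F, (∀ r ∈ maximalIdeal F, r * y = 0) → ∃ t : F, y = t * σ := by
  have h0 : ringKrullDim F = 0 := ringKrullDimZero_iff_ringKrullDim_eq_zero.mp inferInstance
  obtain ⟨g, hg⟩ := exists_isInjectiveHull_of_gorenstein_zero F h0
  obtain ⟨N, hN⟩ := (isArtinianRing_iff_isNilpotent_maximalIdeal F).mp inferInstance
  have htors : LocCoh.IsPowerTorsion (maximalIdeal F) F := by
    intro a
    refine ⟨N, fun r hr => ?_⟩
    rw [hN] at hr
    rw [(Submodule.mem_bot F).mp hr, zero_smul]
  let e : LocCoh.H (maximalIdeal F) 0 F ≃ₗ[F] F :=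
    LinearEquiv.ofBijective _ (toMod_bijective_of_isPowerTorsion (maximalIdeal F) F htors)
  have hg' := isInjectiveHull_equiv_comp e g hg
  set g' : ResidueField F →ₗ[F] F := e.toLinearMap ∘ₗ g with hg'def
  have hres : ∀ r ∈ maximalIdeal F, r • (1 : ResidueField F) = 0 := by
    intro r hr
    rw [Algebra.smul_def, mul_one]
    exact (IsLocalRing.residue_eq_zero_iff r).mpr hr
  refine ⟨g' 1, ?_, ?_, ?_⟩
  · intro h
    have h2 : (1 : ResidueField F) = 0 := hg'.injective (by rw [h, map_zero])
    exact one_ne_zero h2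
  · intro r hr
    rw [← smul_eq_mul, ← map_smul, hres r hr, map_zero]
  · intro y hy
    obtain ⟨c, rfl⟩ := Groth.Agent.S5170.mem_range_of_soc g' hg'.toIsEssentialInj y
      (fun a ha => by rw [smul_eq_mul]; exact hy a ha)
    obtain ⟨t, rfl⟩ := IsLocalRing.residue_surjective c
    refine ⟨t, ?_⟩
    have h1 : IsLocalRing.residue F t = t • (1 : ResidueField F) := by
      rw [Algebra.smul_def, mul_one]; rfl
    rw [h1, map_smul, smul_eq_mul]

/-- Flat base change multiplies lengths by the length of the closed fibre. -/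
theorem length_baseChange_mul {A : Type u} [CommRing A] [IsLocalRing A] (B : Type u) [CommRing B]
    [Algebra A B] [Module.Flat A B] (N : Type u) [AddCommGroup N] [Module A N]
    (hN : IsFiniteLength A N) :
    Module.length B (B ⊗[A] N) =
      Module.length A N * Module.length B (B ⊗[A] (A ⧸ maximalIdeal A)) := by
  induction hN with
  | of_subsingleton =>
    rename_i M _ _ _
    rw [Module.length_eq_zero, Module.length_eq_zero, zero_mul]
  | of_simple_quotient _ ih =>
    rename_i M _ _ N' _ hsimple
    have h1 : Module.length A M = Module.length A N' + Module.length A (M ⧸ N') :=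
      Module.length_eq_add_of_exact N'.subtype N'.mkQ N'.injective_subtype N'.mkQ_surjective
        (LinearMap.exact_subtype_mkQ N')
    have h2 : Module.length B (B ⊗[A] M) =
        Module.length B (B ⊗[A] N') + Module.length B (B ⊗[A] (M ⧸ N')) := by
      refine Module.length_eq_add_of_exact (N'.subtype.baseChange B) (N'.mkQ.baseChange B) ?_ ?_ ?_
      · rw [LinearMap.baseChange_eq_ltensor]
        exact Module.Flat.lTensor_preserves_injective_linearMap _ N'.injective_subtype
      · rw [LinearMap.baseChange_eq_ltensor]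
        exact LinearMap.lTensor_surjective B N'.mkQ_surjective
      · rw [LinearMap.baseChange_eq_ltensor, LinearMap.baseChange_eq_ltensor]
        exact Module.Flat.lTensor_exact B (LinearMap.exact_subtype_mkQ N')
    have h3 : Module.length A (M ⧸ N') = 1 := Module.length_eq_one A _
    have h4 : Module.length B (B ⊗[A] (M ⧸ N')) =
        Module.length B (B ⊗[A] (A ⧸ maximalIdeal A)) := by
      obtain ⟨I, hI, ⟨e⟩⟩ :=
        isSimpleModule_iff_quot_maximal.mp (inferInstance : IsSimpleModule A (M ⧸ N'))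
      have hIm : I = maximalIdeal A := IsLocalRing.eq_maximalIdeal hI
      subst hIm
      exact (TensorProduct.AlgebraTensorModule.congr (LinearEquiv.refl B B) e).length_eq
    rw [h2, ih, h4, h1, h3, add_mul, one_mul]

/-- The length equality needed for the hull criterion (general closed fibre). -/
theorem length_hom_baseChange' {A : Type u} [CommRing A] [IsLocalRing A] [IsNoetherianRing A]
    {B : Type u} [CommRing B] [Algebra A B] [Module.Flat A B]
    {E : Type u} [AddCommGroup E] [Module A E] (f : ResidueField A →ₗ[A] E)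
    (hf : InjHull.IsInjectiveHull f) (n : ℕ) :
    Module.length B (B ⧸ (maximalIdeal A ^ n).map (algebraMap A B)) =
      Module.length B ((B ⧸ (maximalIdeal A ^ n).map (algebraMap A B)) →ₗ[B] (B ⊗[A] E)) := by
  set J : Ideal B := (maximalIdeal A ^ n).map (algebraMap A B) with hJ
  have hfl : IsFiniteLength A (A ⧸ maximalIdeal A ^ n) := isFiniteLength_quotient_pow n
  -- left side
  have hL : Module.length B (B ⧸ J) = Module.length A (A ⧸ maximalIdeal A ^ n) *
      Module.length B (B ⊗[A] (A ⧸ maximalIdeal A)) := by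
    rw [(Algebra.TensorProduct.quotIdealMapEquivTensorQuot B
      (maximalIdeal A ^ n)).toLinearEquiv.length_eq]
    exact length_baseChange_mul B _ hfl
  -- right side
  obtain ⟨s, hs⟩ := (isNoetherianRing_iff_ideal_fg A).mp inferInstance (maximalIdeal A ^ n)
  have hEs : Submodule.torsionBySet A E (s : Set A) =
      Submodule.torsionBySet A E ((maximalIdeal A ^ n : Ideal A) : Set A) := by
    rw [Submodule.torsionBySet_eq_torsionBySet_span, hs]
  have hlenEs : Module.length A (Submodule.torsionBySet A E (s : Set A)) =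
      Module.length A (A ⧸ maximalIdeal A ^ n) := by
    rw [(LinearEquiv.ofEq _ _ hEs).length_eq,
      ← (homQuotEquivTorsion (maximalIdeal A ^ n) E).length_eq]
    exact Groth.Agent.S5170.result A E f hf _ hfl
  have hflEs : IsFiniteLength A (Submodule.torsionBySet A E (s : Set A)) := by
    rw [← Module.length_ne_top_iff, hlenEs, Module.length_ne_top_iff]
    exact hfl
  let β : B ⊗[A] (Submodule.torsionBySet A E (s : Set A)) →ₗ[B] B ⊗[A] E :=
    (Submodule.torsionBySet A E (s : Set A)).subtype.baseChange B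
  have hβinj : Function.Injective β := by
    show Function.Injective ((Submodule.torsionBySet A E (s : Set A)).subtype.baseChange B)
    rw [LinearMap.baseChange_eq_ltensor]
    exact Module.Flat.lTensor_preserves_injective_linearMap _ (Submodule.injective_subtype _)
  have hβmem : ∀ z, β z ∈ Submodule.torsionBySet B (B ⊗[A] E) (J : Set B) := by
    intro z
    rw [Submodule.mem_torsionBySet_iff]
    rintro ⟨c, hc⟩
    show c • β z = 0
    induction z using TensorProduct.induction_on with
    | zero => rw [map_zero, smul_zero]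
    | tmul b e =>
      obtain ⟨e, he⟩ := e
      have he' : ∀ a ∈ maximalIdeal A ^ n, a • e = 0 := by
        intro a ha
        rw [hEs] at he
        exact (Submodule.mem_torsionBySet_iff _ _).mp he ⟨a, ha⟩
      exact Groth.Agent.S0312.map_smul_tmul_eq_zero _ b e he' c hc
    | add z₁ z₂ h₁ h₂ => rw [map_add, smul_add, h₁, h₂, add_zero]
  let β' : B ⊗[A] (Submodule.torsionBySet A E (s : Set A)) →ₗ[B]
      Submodule.torsionBySet B (B ⊗[A] E) (J : Set B) := LinearMap.codRestrict _ β hβmem
  have hβ'bij : Function.Bijective β' := by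
    constructor
    · intro z₁ z₂ h
      exact hβinj (congrArg Subtype.val h)
    · rintro ⟨x, hx⟩
      have hx' : ∀ r ∈ s, (algebraMap A B r) • x = 0 := by
        intro r hr
        refine (Submodule.mem_torsionBySet_iff _ _).mp hx ⟨algebraMap A B r, ?_⟩
        exact Ideal.mem_map_of_mem _ (by rw [← hs]; exact Ideal.subset_span hr)
      obtain ⟨z, hz⟩ := mem_range_baseChange_torsion B E s x hx'
      exact ⟨z, Subtype.ext hz⟩
  have hR : Module.length B ((B ⧸ J) →ₗ[B] (B ⊗[A] E)) =
      Module.length A (A ⧸ maximalIdeal A ^ n) *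
        Module.length B (B ⊗[A] (A ⧸ maximalIdeal A)) := by
    have h1 : Module.length B ((B ⧸ J) →ₗ[B] (B ⊗[A] E)) =
        Module.length B (Submodule.torsionBySet B (B ⊗[A] E) (J : Set B)) :=
      LinearEquiv.length_eq (homQuotEquivTorsion J (B ⊗[A] E))
    have h2 : Module.length B (B ⊗[A] (Submodule.torsionBySet A E (s : Set A))) =
        Module.length B (Submodule.torsionBySet B (B ⊗[A] E) (J : Set B)) :=
      LinearEquiv.length_eq (LinearEquiv.ofBijective β' hβ'bij)
    rw [h1, ← h2, length_baseChange_mul B _ hflEs, hlenEs]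
  rw [hL, hR]

theorem main (A : Type u) [CommRing A] [IsLocalRing A] [IsNoetherianRing A] (B : Type u) [CommRing B]
    [IsLocalRing B] [IsNoetherianRing B] [Algebra A B] [Module.Flat A B]
    [LocCoh.IsGorensteinLocalRing (B ⧸ (maximalIdeal A).map (algebraMap A B))]
    [IsArtinianRing (B ⧸ (maximalIdeal A).map (algebraMap A B))]
    (E : Type u) [AddCommGroup E] [Module A E] (f : ResidueField A →ₗ[A] E)
    (hf : InjHull.IsInjectiveHull f) :
    ∃ g : ResidueField B →ₗ[B] B ⊗[A] E, InjHull.IsInjectiveHull g := by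
  set 𝔪 : Ideal B := (maximalIdeal A).map (algebraMap A B) with h𝔪
  have h𝔪top : 𝔪 ≠ ⊤ := by
    intro h
    have : Subsingleton (B ⧸ 𝔪) := Ideal.Quotient.subsingleton_iff.mpr h
    exact not_subsingleton (B ⧸ 𝔪) this
  have h𝔪le : 𝔪 ≤ maximalIdeal B := IsLocalRing.le_maximalIdeal h𝔪top
  have hmaxF : (maximalIdeal B).map (Ideal.Quotient.mk 𝔪) = maximalIdeal (B ⧸ 𝔪) :=
    Groth.Agent.Lib.Helper58.NV.map_maximalIdeal_quotient 𝔪
  -- a power of `m_B` lies in `m_A B`
  obtain ⟨M, hM⟩ : ∃ M : ℕ, maximalIdeal B ^ M ≤ 𝔪 := by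
    obtain ⟨M, hM⟩ := (isArtinianRing_iff_isNilpotent_maximalIdeal (B ⧸ 𝔪)).mp inferInstance
    refine ⟨M, fun x hx => ?_⟩
    have h1 : Ideal.Quotient.mk 𝔪 x ∈ maximalIdeal (B ⧸ 𝔪) ^ M := by
      rw [← hmaxF, ← Ideal.map_pow]
      exact Ideal.mem_map_of_mem _ hx
    rw [hM, Ideal.zero_eq_bot, Submodule.mem_bot] at h1
    exact Ideal.Quotient.eq_zero_iff_mem.mp h1
  -- power torsion
  have htorsE := isPowerTorsion_of_isInjectiveHull f hf
  have hptB : LocCoh.IsPowerTorsion (maximalIdeal B) (B ⊗[A] E) := by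
    intro t
    induction t using TensorProduct.induction_on with
    | zero => exact ⟨0, fun a _ => smul_zero a⟩
    | tmul b e =>
      obtain ⟨N, hN⟩ := htorsE e
      refine ⟨M * N, fun c hc => ?_⟩
      have hc' : c ∈ (maximalIdeal A ^ N).map (algebraMap A B) := by
        rw [Ideal.map_pow]
        rw [pow_mul] at hc
        exact Ideal.pow_right_mono hM N hc
      exact Groth.Agent.S0312.map_smul_tmul_eq_zero _ b e hN c hc'
    | add t₁ t₂ h₁ h₂ =>
      obtain ⟨n₁, h₁⟩ := h₁
      obtain ⟨n₂, h₂⟩ := h₂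
      refine ⟨max n₁ n₂, fun c hc => ?_⟩
      rw [smul_add, h₁ c (Ideal.pow_le_pow_right (le_max_left _ _) hc),
        h₂ c (Ideal.pow_le_pow_right (le_max_right _ _) hc), add_zero]
  -- the embedding of the fibre ring
  let f' : (A ⧸ maximalIdeal A) →ₗ[A] E := f
  let eq : (B ⧸ 𝔪) ≃ₗ[B] B ⊗[A] (A ⧸ maximalIdeal A) :=
    (Algebra.TensorProduct.quotIdealMapEquivTensorQuot B (maximalIdeal A)).toLinearEquiv
  let ψ : (B ⧸ 𝔪) →ₗ[B] B ⊗[A] E := (f'.baseChange B) ∘ₗ eq.toLinearMap
  have hψmk : ∀ b : B, ψ (Ideal.Quotient.mk 𝔪 b) = b ⊗ₜ[A] f 1 := by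
    intro b
    have h1 : eq (Ideal.Quotient.mk 𝔪 b) = b ⊗ₜ[A] (1 : A ⧸ maximalIdeal A) :=
      Algebra.TensorProduct.quotIdealMapEquivTensorQuot_mk B (maximalIdeal A) b
    show f'.baseChange B (eq (Ideal.Quotient.mk 𝔪 b)) = _
    rw [h1, LinearMap.baseChange_tmul]
    rfl
  have hψinj : Function.Injective ψ := by
    have h1 : Function.Injective (f'.baseChange B) := by
      rw [LinearMap.baseChange_eq_ltensor]
      exact Module.Flat.lTensor_preserves_injective_linearMap (M := B) f' hf.injective
    intro a b hab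
    exact eq.injective (h1 hab)
  have hsmulF : ∀ (c : B) (y : B ⧸ 𝔪), Ideal.Quotient.mk 𝔪 c * y = c • y := by
    intro c y
    rw [Algebra.smul_def]
    rfl
  -- the socle generator
  obtain ⟨σ, hσ0, hσkill, hσgen⟩ := exists_socle_gen (B ⧸ 𝔪)
  obtain ⟨s, rfl⟩ := Ideal.Quotient.mk_surjective σ
  have hkill : ∀ c ∈ maximalIdeal B, c • (s ⊗ₜ[A] f 1) = 0 := by
    intro c hc
    have hcF : Ideal.Quotient.mk 𝔪 c ∈ maximalIdeal (B ⧸ 𝔪) := by
      rw [← hmaxF]
      exact Ideal.mem_map_of_mem _ hc
    have h1 := hσkill _ hcF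
    rw [TensorProduct.smul_tmul', smul_eq_mul, ← hψmk, map_mul, h1, map_zero]
  let g : ResidueField B →ₗ[B] B ⊗[A] E :=
    quotToOfKill (maximalIdeal B) (s ⊗ₜ[A] f 1) hkill
  have hg1 : g 1 = s ⊗ₜ[A] f 1 := quotToOfKill_one (maximalIdeal B) _ hkill
  have hginj : Function.Injective g := by
    apply injective_of_residueField_of_ne_zero
    rw [hg1]
    intro h
    apply hσ0
    apply hψinj
    rw [hψmk, h, map_zero]
  refine ⟨g, isInjectiveHull_of_length hptB g hginj ?_
    (fun n => (maximalIdeal A ^ n).map (algebraMap A B)) ?_ ?_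
    (fun n => length_hom_baseChange' f hf n)⟩
  · -- socle
    intro x hx
    obtain ⟨s', hs'⟩ := (isNoetherianRing_iff_ideal_fg A).mp inferInstance (maximalIdeal A)
    have hx' : ∀ r ∈ s', (algebraMap A B r) • x = 0 := by
      intro r hr
      apply hx
      apply h𝔪le
      exact Ideal.mem_map_of_mem _ (by rw [← hs']; exact Ideal.subset_span hr)
    obtain ⟨z, hz⟩ := mem_range_baseChange_torsion B E s' x hx'
    have hzψ : ∀ z : B ⊗[A] (Submodule.torsionBySet A E (s' : Set A)),
        ((Submodule.torsionBySet A E (s' : Set A)).subtype.baseChange B) z ∈ LinearMap.range ψ := by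
      intro z
      induction z using TensorProduct.induction_on with
      | zero => rw [map_zero]; exact Submodule.zero_mem _
      | tmul b e =>
        obtain ⟨e, he⟩ := e
        rw [LinearMap.baseChange_tmul]
        show b ⊗ₜ[A] e ∈ _
        have he' : ∀ a ∈ maximalIdeal A, a • e = 0 := by
          intro a ha
          rw [Submodule.torsionBySet_eq_torsionBySet_span, hs'] at he
          exact (Submodule.mem_torsionBySet_iff _ _).mp he ⟨a, ha⟩
        obtain ⟨c, rfl⟩ := Groth.Agent.S5170.mem_range_of_soc f hf.toIsEssentialInj e he'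
        obtain ⟨r, rfl⟩ := IsLocalRing.residue_surjective c
        have h1 : IsLocalRing.residue A r = r • (1 : ResidueField A) := by
          rw [Algebra.smul_def, mul_one]; rfl
        rw [h1, map_smul, TensorProduct.tmul_smul, TensorProduct.smul_tmul']
        exact ⟨Ideal.Quotient.mk 𝔪 (r • b), hψmk _⟩
      | add z₁ z₂ h₁ h₂ =>
        rw [map_add]
        exact Submodule.add_mem _ h₁ h₂
    obtain ⟨y, hy⟩ := hzψ z
    rw [hz] at hy
    -- `y` is in the socle of the fibre ring
    have hysoc : ∀ r ∈ maximalIdeal (B ⧸ 𝔪), r * y = 0 := by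
      intro r hr
      rw [← hmaxF] at hr
      obtain ⟨c, hc, rfl⟩ :=
        (Ideal.mem_map_iff_of_surjective _ Ideal.Quotient.mk_surjective).mp hr
      apply hψinj
      rw [hsmulF, map_smul, hy, hx c hc, map_zero]
    obtain ⟨t, ht⟩ := hσgen y hysoc
    obtain ⟨t', rfl⟩ := Ideal.Quotient.mk_surjective t
    refine ⟨t' • 1, ?_⟩
    rw [map_smul, hg1, ← hy, ht, ← map_mul, hψmk, TensorProduct.smul_tmul', smul_eq_mul]
  · intro n
    refine ⟨M * n, ?_⟩
    rw [pow_mul, Ideal.map_pow]
    exact Ideal.pow_right_mono hM n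
  · intro N
    refine ⟨N, ?_⟩
    rw [Ideal.map_pow]
    exact Ideal.pow_right_mono h𝔪le N

/-- For a flat homomorphism A → B of Noetherian local rings whose fibre ring B/m_A B is an Artinian
Gorenstein local ring, tensoring an injective hull of the residue field of A with B gives an
injective hull of the residue field of B. -/
theorem result (A : Type u) [CommRing A] [IsLocalRing A] [IsNoetherianRing A] (B : Type u) [CommRing B] [IsLocalRing B] [IsNoetherianRing B] [Algebra A B] [Module.Flat A B] (hG : LocCoh.IsGorensteinLocalRing (B ⧸ (IsLocalRing.maximalIdeal A).map (algebraMap A B))) (hArt : IsArtinianRing (B ⧸ (IsLocalRing.maximalIdeal A).map (algebraMap A B))) (E : Type u) [AddCommGroup E] [Module A E] (f : IsLocalRing.ResidueField A →ₗ[A] E) (hf : InjHull.IsInjectiveHull f) : ∃ g : IsLocalRing.ResidueField B →ₗ[B] TensorProduct A B E, InjHull.IsInjectiveHull g := by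
  haveI := hG
  haveI := hArt
  exact main A B E f hf

end Groth.Agent.S11359
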