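import Groth.Statements.S11364
import Groth.Agent.Lib.Helper12.PwInjMain
import Groth.Agent.Lib.Helper12.PointwiseDualizing

set_option autoImplicit false
universe u
open CategoryTheory
attribute [local instance] HasDerivedCategory.standard
open Dual

namespace Groth.Agent.S11364

/-- Let A be a Noetherian ring and R an object of D(A) with finite cohomology modules vanishing outside
a bounded range, such that for every prime p of A the derived base change of R to A_p (total left
derived functor of extension of scalars, assumed to exist) has finite injective dimension over A_p.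
Then for every finite A-module M, the groups Hom_{D(A)}(M, R[i]) vanish for all sufficiently large
i. (The published statement is for a locally Noetherian scheme, complexes with coherent locally
bounded cohomology, and local boundedness of the internal RHom; this row is the affine case with the
first argument a single finite module, to which the published proof reduces.) -/
theorem result (A : Type u) [CommRing A] [IsNoetherianRing A] (R : Dual.D A) (hfin : ∀ i : ℤ, Module.Finite A (Dual.HD A R i)) (hbdd : ∃ a b : ℤ, ∀ i : ℤ, (i < a ∨ b < i) → Subsingleton (Dual.HD A R i)) [∀ p : PrimeSpectrum A, DRing.HasLBaseChange (algebraMap A (Localization.AtPrime p.asIdeal))] (hpw : ∀ p : PrimeSpectrum A, DRing.HasFiniteInjDim (Localization.AtPrime p.asIdeal) ((DRing.LBaseChange (algebraMap A (Localization.AtPrime p.asIdeal))).obj R)) (M : Type u) [AddCommGroup M] [Module A M] [Module.Finite A M] : ∃ N : ℤ, ∀ i : ℤ, N < i → Subsingleton (Dual.inD A M ⟶ R⟦i⟧) := by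
  classical
  obtain ⟨a, b, hab⟩ := hbdd
  have hlow : ∀ j, j < a → Limits.IsZero ((Groth.Agent.Lib.Helper12.HF A j).obj R) := fun j hj => by
    have := hab j (Or.inl hj)
    exact ModuleCat.isZero_of_subsingleton _
  have hhigh : ∀ j, b < j → Limits.IsZero ((Groth.Agent.Lib.Helper12.HF A j).obj R) := fun j hj => by
    have := hab j (Or.inr hj)
    exact ModuleCat.isZero_of_subsingleton _
  have hloc : ∀ p : Ideal A, p.IsPrime → ∃ d : ℤ, ∀ i, d < i →
      ∀ φ : Dual.inD A (A ⧸ p) ⟶ R⟦i⟧, ∃ s ∉ p, s • φ = 0 := by
    intro p hp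
    let q : PrimeSpectrum A := ⟨p, hp⟩
    show ∃ d : ℤ, ∀ i, d < i →
      ∀ φ : Dual.inD A (A ⧸ q.asIdeal) ⟶ R⟦i⟧, ∃ s ∉ q.asIdeal, s • φ = 0
    obtain ⟨a', b', E, hE, hinj, ⟨e⟩⟩ := hpw q
    haveI : Module.Flat A (Localization.AtPrime q.asIdeal) :=
      IsLocalization.flat _ q.asIdeal.primeCompl
    let e' : DRing.toD E ≅
        (Groth.Agent.Lib.Helper12.extScD A (Localization.AtPrime q.asIdeal)).obj R :=
      e ≪≫ (Groth.Agent.Lib.Helper12.FlatHomBC.lBaseChangeIsoExtScD (A := A)
        (B := Localization.AtPrime q.asIdeal)).app R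
    refine ⟨b', fun i hi φ => ?_⟩
    obtain ⟨eq⟩ := Groth.Agent.Lib.Helper12.PtDual.nonempty_localized_hom_equiv' R a hlow
      q.asIdeal i
    have hsub : Subsingleton (LocalizedModule q.asIdeal.primeCompl
        (Dual.inD A (A ⧸ q.asIdeal) ⟶ R⟦i⟧)) := by
      refine eq.subsingleton_congr.mpr ⟨fun x y => ?_⟩
      have h0 : ∀ z : Dual.inD (Localization.AtPrime q.asIdeal)
          (Localization.AtPrime q.asIdeal ⧸
            IsLocalRing.maximalIdeal (Localization.AtPrime q.asIdeal)) ⟶
          ((Groth.Agent.Lib.Helper12.extScD A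
            (Localization.AtPrime q.asIdeal)).obj R)⟦i⟧, z = 0 := fun z => by
        have := Groth.Agent.Lib.Helper36.InjAmp.hom_eq_zero_of_injective_amplitude E a' b' hE hinj
          (ModuleCat.of _ (Localization.AtPrime q.asIdeal ⧸
            IsLocalRing.maximalIdeal (Localization.AtPrime q.asIdeal))) i (Or.inr hi)
          (z ≫ ((shiftFunctor _ i).mapIso e').inv)
        rw [← cancel_mono ((shiftFunctor _ i).mapIso e').inv, this, Limits.zero_comp]
      rw [h0 x, h0 y]
    obtain ⟨s, hs, h⟩ := LocalizedModule.subsingleton_iff.mp hsub φ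
    exact ⟨s, hs, h⟩
  obtain ⟨c, hc⟩ := Groth.Agent.Lib.Helper12.PwInj.exists_vanishAbove a b hlow hhigh hfin hloc M
  exact ⟨c, fun i hi => hc i hi⟩

end Groth.Agent.S11364
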