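import Groth.Statements.S11395
import Groth.Agent.Lib.Helper60.AntiAffRigidity2

set_option autoImplicit false
universe u
open CategoryTheory MonoidalCategory CartesianMonoidalCategory MonObj GrpObj AlgebraicGeometry CategoryTheory.Limits
open AlgGrp

namespace Groth.Agent.S11395

/-- Over an algebraically closed field k, let X, Y and Z be k-schemes of finite type such that the only
global functions on X are the constants, Y is connected and Z is separated over k. Let f : X × Y → Z
be a k-morphism and y₀, z₀ rational points of Y, Z such that the restriction of f to X × y₀ is the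
constant morphism with value z₀ (as a morphism of schemes; for reduced X this is the condition on
closed points). Then there is a unique morphism g : Y → Z with f = g ∘ pr₂. -/
theorem result (k : Type u) [Field k] [IsAlgClosed k]
    (X Y Z : Over (Spec (CommRingCat.of k))) [LocallyOfFiniteType X.hom] [QuasiCompact X.hom]
    [LocallyOfFiniteType Y.hom] [QuasiCompact Y.hom] [LocallyOfFiniteType Z.hom] [QuasiCompact Z.hom]
    (hX : Function.Bijective ((Scheme.ΓSpecIso (CommRingCat.of k)).inv ≫ X.hom.appTop).hom)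
    [ConnectedSpace ↥Y.left] [IsSeparated Z.hom]
    (f : X ⊗ Y ⟶ Z) (y₀ : 𝟙_ (Over (Spec (CommRingCat.of k))) ⟶ Y) (z₀ : 𝟙_ (Over (Spec (CommRingCat.of k))) ⟶ Z)
    (hf : (X ◁ y₀) ≫ f = toUnit _ ≫ z₀) :
    ∃! g : Y ⟶ Z, f = snd X Y ≫ g := by
  haveI : IsLocallyNoetherian Y.left := LocallyOfFiniteType.isLocallyNoetherian Y.hom
  haveI : CompactSpace Y.left := (quasiCompact_iff_compactSpace Y.hom).mp inferInstance
  haveI : IsNoetherian Y.left := {}
  haveI : IsLocallyNoetherian X.left := LocallyOfFiniteType.isLocallyNoetherian X.hom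
  haveI : QuasiSeparated X.hom :=
    (quasiSeparated_iff_quasiSeparatedSpace X.hom).mpr inferInstance
  haveI : Nonempty X.left :=
    Groth.Agent.Lib.Helper60.AntiAffRigidity.nonempty_of_injective X.hom hX.1
  obtain ⟨x₀', hx₀'⟩ :=
    Groth.Agent.Lib.Helper60.AntiAffRigidity.exists_section_of_isAlgClosed X.hom
  let x₀ : 𝟙_ (Over (Spec (CommRingCat.of k))) ⟶ X := Over.homMk x₀' hx₀'
  have hj : lift (𝟙 X) (toUnit X ≫ y₀) = lift (𝟙 X) (toUnit X) ≫ (X ◁ y₀) := by
    apply CartesianMonoidalCategory.hom_ext
    · rw [lift_fst, Category.assoc, whiskerLeft_fst, lift_fst]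
    · rw [lift_snd, Category.assoc, whiskerLeft_snd, lift_snd_assoc]
  have hf' : lift (𝟙 X) (toUnit X ≫ y₀) ≫ f = toUnit X ≫ z₀ := by
    rw [hj, Category.assoc, hf, ← Category.assoc]
    congr 1
    exact toUnit_unique _ _
  have key := Groth.Agent.Lib.Helper60.AntiAffRigidity.rigidity_over_connected k X Y Z hX
    x₀ y₀ z₀ f hf'
  refine ⟨lift (toUnit Y ≫ x₀) (𝟙 Y) ≫ f, key, ?_⟩
  intro g' hg'
  rw [hg', lift_snd_assoc, Category.id_comp]

end Groth.Agent.S11395
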