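import Groth.Statements.S14578
import Groth.Agent.Lib.Helper60.AntiAffRigidity2
import Groth.Agent.Lib.Helper23.GrpSeparated

set_option autoImplicit false
universe u
open CategoryTheory MonoidalCategory CartesianMonoidalCategory MonObj GrpObj AlgebraicGeometry CategoryTheory.Limits
open AlgGrp

namespace Groth.Agent.S14578

/-- Let k be a field, H an anti-affine k-group scheme of finite type (its only global functions are the
constants), G a k-group scheme of finite type and f : H → G a morphism of k-schemes with f(e_H) =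
e_G. Then f is a homomorphism. (The second assertion, that f factors through the centre of the
neutral component of G, is not restated here.) -/
theorem result (k : Type u) [Field k]
    (H G : Over (Spec (CommRingCat.of k))) [GrpObj H] [GrpObj G] [LocallyOfFiniteType H.hom] [QuasiCompact H.hom]
    [LocallyOfFiniteType G.hom] [QuasiCompact G.hom]
    (hH : Function.Bijective ((Scheme.ΓSpecIso (CommRingCat.of k)).inv ≫ H.hom.appTop).hom) (f : H ⟶ G) (hf : η[H] ≫ f = η[G]) : IsMonHom f := by
  haveI : IsSeparated G.hom := Groth.Agent.Lib.Helper23.GrpSeparated.isSeparated_of_field G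
  haveI : IsLocallyNoetherian H.left := LocallyOfFiniteType.isLocallyNoetherian H.hom
  haveI : CompactSpace H.left := (quasiCompact_iff_compactSpace H.hom).mp inferInstance
  haveI : IsNoetherian H.left := {}
  haveI : QuasiSeparated H.hom :=
    (quasiSeparated_iff_quasiSeparatedSpace H.hom).mpr inferInstance
  haveI : PreconnectedSpace H.left :=
    Groth.Agent.Lib.Helper60.AntiAffRigidity.preconnectedSpace_of_bijective H.hom hH
  let c : H ⊗ H ⟶ G := (μ[H] ≫ f) * (snd H H ≫ f)⁻¹ * (fst H H ≫ f)⁻¹
  have hone : ∀ {W : Over (Spec (CommRingCat.of k))}, toUnit W ≫ η[G] = (1 : W ⟶ G) :=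
    fun {W} => rfl
  have e1 : lift (𝟙 H) (toUnit H ≫ η[H]) ≫ μ[H] = 𝟙 H := MonObj.lift_comp_one_right _ _
  have e2 : lift (toUnit H ≫ η[H]) (𝟙 H) ≫ μ[H] = 𝟙 H := MonObj.lift_comp_one_left _ _
  have hf1 : lift (𝟙 H) (toUnit H ≫ η[H]) ≫ c = toUnit H ≫ η[G] := by
    simp only [c, MonObj.comp_mul, GrpObj.comp_inv, lift_fst_assoc, lift_snd_assoc,
      reassoc_of% e1, Category.assoc, hf, Category.id_comp]
    rw [hone]
    group
  have key := Groth.Agent.Lib.Helper60.AntiAffRigidity.rigidity_over_connected k H H G hH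
    η[H] η[H] η[G] c hf1
  have hc1 : lift (toUnit H ≫ η[H]) (𝟙 H) ≫ c = 1 := by
    simp only [c, MonObj.comp_mul, GrpObj.comp_inv, lift_fst_assoc, lift_snd_assoc,
      reassoc_of% e2, Category.assoc, hf, Category.id_comp]
    rw [hone]
    group
  rw [hc1, MonObj.comp_one] at key
  have hmul : μ[H] ≫ f = (fst H H ≫ f) * (snd H H ≫ f) := by
    have := congrArg (fun t => t * (fst H H ≫ f) * (snd H H ≫ f)) key
    simpa [c, _root_.mul_assoc] using this
  refine ⟨hf, ?_⟩
  rw [hmul, Hom.mul_def]
  congr 1

end Groth.Agent.S14578
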