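import Groth.Statements.S11421
import Groth.Agent.Lib.Helper60.AntiAffRigidity2
import Groth.Agent.Lib.Helper23.GrpSeparated
import Groth.Agent.S14578

set_option autoImplicit false
universe u
open CategoryTheory MonoidalCategory CartesianMonoidalCategory MonObj GrpObj AlgebraicGeometry CategoryTheory.Limits
open AlgGrp

namespace Groth.Agent.S11421

/-- Over an algebraically closed field k, let G be an algebraic group (smooth k-group scheme of finite
type) whose only global functions are the constants, H a connected algebraic group, S a connected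
k-scheme of finite type and f : G × S → H a morphism of k-schemes. Then there are a unique
k-morphism φ : S → H and a unique homomorphism ψ : G → H with f(g, s) = φ(s) · ψ(g) on points. (This
is the decomposition, over a connected base, behind the identification of the functor of morphisms
from G to H with H × Hom_gp(G, H); the published statement is the equivalence of representability of
that functor with anti-affineness of G, whose converse direction is not stated here.) -/
theorem result (k : Type u) [Field k] [IsAlgClosed k]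
    (G H S : Over (Spec (CommRingCat.of k))) [GrpObj G] [Smooth G.hom] [QuasiCompact G.hom]
    (hG : Function.Bijective ((Scheme.ΓSpecIso (CommRingCat.of k)).inv ≫ G.hom.appTop).hom)
    [GrpObj H] [Smooth H.hom] [QuasiCompact H.hom] [ConnectedSpace ↥H.left]
    [LocallyOfFiniteType S.hom] [QuasiCompact S.hom] [ConnectedSpace ↥S.left]
    (f : G ⊗ S ⟶ H) :
    ∃ (φ : S ⟶ H) (ψ : G ⟶ H), IsMonHom ψ ∧ f = (snd G S ≫ φ) * (fst G S ≫ ψ) ∧
      ∀ (φ' : S ⟶ H) (ψ' : G ⟶ H), IsMonHom ψ' → f = (snd G S ≫ φ') * (fst G S ≫ ψ') → φ' = φ ∧ ψ' = ψ := by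
  haveI : IsSeparated H.hom := Groth.Agent.Lib.Helper23.GrpSeparated.isSeparated_of_field H
  haveI : IsLocallyNoetherian S.left := LocallyOfFiniteType.isLocallyNoetherian S.hom
  haveI : CompactSpace S.left := (quasiCompact_iff_compactSpace S.hom).mp inferInstance
  haveI : IsNoetherian S.left := {}
  haveI : IsLocallyNoetherian G.left := LocallyOfFiniteType.isLocallyNoetherian G.hom
  haveI : QuasiSeparated G.hom :=
    (quasiSeparated_iff_quasiSeparatedSpace G.hom).mpr inferInstance
  obtain ⟨s₀', hs₀'⟩ :=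
    Groth.Agent.Lib.Helper60.AntiAffRigidity.exists_section_of_isAlgClosed S.hom
  let s₀ : 𝟙_ (Over (Spec (CommRingCat.of k))) ⟶ S := Over.homMk s₀' hs₀'
  have hone : ∀ {W : Over (Spec (CommRingCat.of k))}, toUnit W ≫ η[H] = (1 : W ⟶ H) :=
    fun {W} => rfl
  set σS : S ⟶ G ⊗ S := lift (toUnit S ≫ η[G]) (𝟙 S) with hσS
  set jG : G ⟶ G ⊗ S := lift (𝟙 G) (toUnit G ≫ s₀) with hjG
  have hσSf : σS ≫ fst G S = toUnit S ≫ η[G] := lift_fst _ _
  have hσSs : σS ≫ snd G S = 𝟙 S := lift_snd _ _
  have hjGf : jG ≫ fst G S = 𝟙 G := lift_fst _ _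
  have hjGs : jG ≫ snd G S = toUnit G ≫ s₀ := lift_snd _ _
  have h1 : η[G] ≫ jG = s₀ ≫ σS := by
    apply CartesianMonoidalCategory.hom_ext
    · rw [Category.assoc, Category.assoc, hjGf, hσSf, Category.comp_id, ← Category.assoc,
        toUnit_unique (s₀ ≫ toUnit S) (𝟙 _), Category.id_comp]
    · rw [Category.assoc, Category.assoc, hjGs, hσSs, Category.comp_id, ← Category.assoc,
        toUnit_unique (η[G] ≫ toUnit G) (𝟙 _), Category.id_comp]
  set φ : S ⟶ H := σS ≫ f with hφ
  set F : G ⊗ S ⟶ H := (snd G S ≫ φ)⁻¹ * f with hF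
  set ψ : G ⟶ H := jG ≫ F with hψ
  have hσSF : σS ≫ F = 1 := by
    rw [hF, MonObj.comp_mul, GrpObj.comp_inv, reassoc_of% hσSs, ← hφ]
    group
  have hψ1 : η[G] ≫ ψ = η[H] := by
    rw [hψ, reassoc_of% h1, hσSF, MonObj.comp_one]; rfl
  haveI hψhom : IsMonHom ψ := Groth.Agent.S14578.result k G H hG ψ hψ1
  -- rigidity
  set Φ : G ⊗ S ⟶ H := F * (fst G S ≫ ψ)⁻¹ with hΦ
  have hΦ1 : jG ≫ Φ = toUnit G ≫ η[H] := by
    rw [hΦ, MonObj.comp_mul, GrpObj.comp_inv, reassoc_of% hjGf, ← hψ, hone]
    group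
  have key := Groth.Agent.Lib.Helper60.AntiAffRigidity.rigidity_over_connected k G S H hG
    η[G] s₀ η[H] Φ hΦ1
  have hΦ2 : σS ≫ Φ = 1 := by
    rw [hΦ, MonObj.comp_mul, GrpObj.comp_inv, hσSF, reassoc_of% hσSf, hψ1, hone]
    group
  rw [← hσS, hΦ2, MonObj.comp_one] at key
  have hFψ : F = fst G S ≫ ψ := by
    have := congrArg (fun t => t * (fst G S ≫ ψ)) key
    simpa [hΦ] using this
  have hf : f = (snd G S ≫ φ) * (fst G S ≫ ψ) := by
    rw [← hFψ, hF]; group
  refine ⟨φ, ψ, hψhom, hf, ?_⟩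
  intro φ' ψ' hψ' hf'
  have hφ' : φ' = φ := by
    have := congrArg (fun t => σS ≫ t) hf'
    simp only [MonObj.comp_mul] at this
    rw [← hφ, reassoc_of% hσSs, reassoc_of% hσSf, IsMonHom.one_hom (f := ψ'), hone,
      _root_.mul_one] at this
    exact this.symm
  refine ⟨hφ', ?_⟩
  subst hφ'
  have h2 : fst G S ≫ ψ' = fst G S ≫ ψ := by
    have e1 : fst G S ≫ ψ' = (snd G S ≫ φ)⁻¹ * f := by rw [hf']; group
    have e2 : fst G S ≫ ψ = (snd G S ≫ φ)⁻¹ * f := by rw [hf]; group
    rw [e1, e2]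
  have := congrArg (fun t => jG ≫ t) h2
  simpa [reassoc_of% hjGf] using this

end Groth.Agent.S11421
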