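import Groth.Statements.S11404
import Groth.Agent.Lib.Helper60.AntiAffRigidity2
import Groth.Agent.Lib.Helper60.ConnInt
import Groth.Agent.Lib.Helper69.ReducedSmoothLocal
import Groth.Agent.S11421

set_option autoImplicit false
universe u
open CategoryTheory MonoidalCategory CartesianMonoidalCategory MonObj GrpObj AlgebraicGeometry CategoryTheory.Limits
open AlgGrp

namespace Groth.Agent.S11404

/-- Over an algebraically closed field k, let A be an abelian variety (a proper, smooth, connected
k-group scheme) and S a connected k-scheme of finite type. For every automorphism f of A × S over S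
there are a unique k-morphism g : S → A and a unique group automorphism h of A with f(a, s) = (g(s)
· h(a), s) on points. (This is the functor-of-points form, over a connected base, of the
identification of the automorphism group scheme of A with the semidirect product of A, acting by
translations, and the constant group of group automorphisms; in particular the neutral component is
A.) -/
theorem result (k : Type u) [Field k] [IsAlgClosed k]
    (A S : Over (Spec (CommRingCat.of k))) [GrpObj A] [IsProper A.hom] [Smooth A.hom] [ConnectedSpace ↥A.left]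
    [LocallyOfFiniteType S.hom] [QuasiCompact S.hom] [ConnectedSpace ↥S.left]
    (f : A ⊗ S ≅ A ⊗ S) (hf : f.hom ≫ snd A S = snd A S) :
    ∃ (g : S ⟶ A) (h : A ⟶ A), IsMonHom h ∧ IsIso h ∧
      f.hom ≫ fst A S = (snd A S ≫ g) * (fst A S ≫ h) ∧
      ∀ (g' : S ⟶ A) (h' : A ⟶ A), IsMonHom h' →
        f.hom ≫ fst A S = (snd A S ≫ g') * (fst A S ≫ h') → g' = g ∧ h' = h := by
  -- O(A) = k
  haveI : IsReduced A.left :=
    Groth.Agent.Lib.Helper69.ReducedSmoothLocal.isReduced_of_smooth A.hom
  have hsurj : Function.Surjective A.hom.appTop.hom :=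
    Groth.Agent.Lib.Helper60.ConnInt.surjective_appTop A.hom (𝟙 A.left)
      (by intro x y h; simpa using h)
  have hA : Function.Bijective
      ((Scheme.ΓSpecIso (CommRingCat.of k)).inv ≫ A.hom.appTop).hom := by
    constructor
    · haveI : Nontrivial Γ(A.left, ⊤) := by
        obtain ⟨x⟩ : Nonempty A.left := inferInstance
        haveI : Nonempty (⊤ : A.left.Opens) := ⟨⟨x, trivial⟩⟩
        exact Scheme.component_nontrivial A.left ⊤
      exact RingHom.injective _
    · intro y
      obtain ⟨z, hz⟩ := hsurj y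
      refine ⟨(Scheme.ΓSpecIso (CommRingCat.of k)).hom.hom z, ?_⟩
      rw [← hz]
      simp
  obtain ⟨φ, ψ, hψ, hE, huniq⟩ := Groth.Agent.S11421.result k A A S hA (f.hom ≫ fst A S)
  refine ⟨φ, ψ, hψ, ?_, hE, huniq⟩
  -- ψ is an isomorphism
  haveI : Nonempty S.left := inferInstance
  obtain ⟨s₀', hs₀'⟩ :=
    Groth.Agent.Lib.Helper60.AntiAffRigidity.exists_section_of_isAlgClosed S.hom
  let s₀ : 𝟙_ (Over (Spec (CommRingCat.of k))) ⟶ S := Over.homMk s₀' hs₀'
  set jA : A ⟶ A ⊗ S := lift (𝟙 A) (toUnit A ≫ s₀) with hjA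
  have hjAf : jA ≫ fst A S = 𝟙 A := lift_fst _ _
  have hjAs : jA ≫ snd A S = toUnit A ≫ s₀ := lift_snd _ _
  have hfinv : f.inv ≫ snd A S = snd A S := by
    calc f.inv ≫ snd A S = f.inv ≫ f.hom ≫ snd A S := by rw [hf]
      _ = snd A S := by rw [Iso.inv_hom_id_assoc]
  obtain ⟨u, hu⟩ : ∃ u : A ⟶ A, u = jA ≫ f.hom ≫ fst A S := ⟨_, rfl⟩
  obtain ⟨v, hv⟩ : ∃ v : A ⟶ A, v = jA ≫ f.inv ≫ fst A S := ⟨_, rfl⟩
  have h_u : jA ≫ f.hom = u ≫ jA := by
    apply CartesianMonoidalCategory.hom_ext
    · rw [Category.assoc, Category.assoc, hjAf, Category.comp_id, hu]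
    · rw [Category.assoc, Category.assoc, hf, hjAs, ← Category.assoc,
        toUnit_unique (u ≫ toUnit A) (toUnit A)]
  have h_v : jA ≫ f.inv = v ≫ jA := by
    apply CartesianMonoidalCategory.hom_ext
    · rw [Category.assoc, Category.assoc, hjAf, Category.comp_id, hv]
    · rw [Category.assoc, Category.assoc, hfinv, hjAs, ← Category.assoc,
        toUnit_unique (v ≫ toUnit A) (toUnit A)]
  have huv : u ≫ v = 𝟙 A := by
    conv_lhs => rw [hv]
    rw [← Category.assoc u, ← h_u, Category.assoc, Iso.hom_inv_id_assoc, hjAf]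
  have hvu : v ≫ u = 𝟙 A := by
    conv_lhs => rw [hu]
    rw [← Category.assoc v, ← h_v, Category.assoc, Iso.inv_hom_id_assoc, hjAf]
  set c : 𝟙_ (Over (Spec (CommRingCat.of k))) ⟶ A := s₀ ≫ φ with hc
  have hcu : ∀ (w : A ⟶ A), w ≫ toUnit A ≫ c = toUnit A ≫ c := fun w => by
    rw [← Category.assoc, toUnit_unique (w ≫ toUnit A) (toUnit A)]
  have huψ : u = (toUnit A ≫ c) * ψ := by
    have := congrArg (fun t => jA ≫ t) hE
    simp only [MonObj.comp_mul] at this
    rw [reassoc_of% hjAs, reassoc_of% hjAf, ← hu] at this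
    exact this
  have hψu : ψ = (toUnit A ≫ c)⁻¹ * u := by rw [huψ]; group
  refine ⟨⟨((toUnit A ≫ c) * 𝟙 A) ≫ v, ?_, ?_⟩⟩
  · have h1 : ψ ≫ ((toUnit A ≫ c) * 𝟙 A) = u := by
      rw [MonObj.comp_mul, hcu, Category.comp_id, ← huψ]
    rw [reassoc_of% h1, huv]
  · rw [hψu, MonObj.comp_mul, GrpObj.comp_inv, Category.assoc, Category.assoc, hcu, hvu,
      Category.comp_id, hcu ((toUnit A ≫ c) * 𝟙 A)]
    group

end Groth.Agent.S11404
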