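import Groth.Statements.S11411
import Groth.Agent.Lib.Helper60.ConnInt

set_option autoImplicit false
universe u
open CategoryTheory MonoidalCategory CartesianMonoidalCategory MonObj GrpObj AlgebraicGeometry CategoryTheory.Limits
open AlgGrp

namespace Groth.Agent.S11411

/-- Over an algebraically closed field k, let G be an algebraic group (a smooth k-group scheme of finite
type) and N the kernel of the canonical morphism ρ : G → Spec O(G), i.e. the fibre of ρ over the
image of the unit. Then N is the smallest normal subgroup scheme of G with affine quotient: for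
every closed normal subgroup scheme H of G with a flat surjective homomorphism G → Q of k-group
schemes of finite type with kernel H and Q affine, the inclusion of N factors through H. And N is
the largest anti-affine subgroup scheme: every homomorphism and closed immersion into G from a
k-group scheme whose only global functions are the constants factors through N. (The published
statement also asserts O(N) = k, that N is a connected algebraic group central in G⁰, and O(G/N) =
O(G) finitely generated; those parts are not restated here.) -/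
theorem result (k : Type u) [Field k] [IsAlgClosed k]
    (G : Over (Spec (CommRingCat.of k))) [GrpObj G] [Smooth G.hom] [QuasiCompact G.hom] :
    (∀ (H Q : Over (Spec (CommRingCat.of k))) [GrpObj H] [GrpObj Q] (h : H ⟶ G) [IsMonHom h] [IsClosedImmersion h.left]
        [LocallyOfFiniteType Q.hom] [QuasiCompact Q.hom] (q : G ⟶ Q) [IsMonHom q] [Surjective q.left] [Flat q.left],
        AlgGrp.IsKernel h q → IsAffine Q.left →
        ∃ f : pullback G.left.toSpecΓ (η[G].left ≫ G.left.toSpecΓ) ⟶ H.left, f ≫ h.left = pullback.fst G.left.toSpecΓ (η[G].left ≫ G.left.toSpecΓ)) ∧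
    (∀ (M : Over (Spec (CommRingCat.of k))) [GrpObj M] (j : M ⟶ G) [IsMonHom j] [IsClosedImmersion j.left],
        Function.Bijective ((Scheme.ΓSpecIso (CommRingCat.of k)).inv ≫ M.hom.appTop).hom →
        ∃ f : M.left ⟶ pullback G.left.toSpecΓ (η[G].left ≫ G.left.toSpecΓ), f ≫ pullback.fst G.left.toSpecΓ (η[G].left ≫ G.left.toSpecΓ) = j.left) := by
  set ρ := G.left.toSpecΓ with hρ
  set p₁ := pullback.fst ρ (η[G].left ≫ ρ) with hp₁
  set p₂ := pullback.snd ρ (η[G].left ≫ ρ) with hp₂
  have hcond : p₁ ≫ ρ = p₂ ≫ η[G].left ≫ ρ := pullback.condition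
  have hη : η[G].left ≫ G.hom = 𝟙 _ := Over.w η[G]
  -- G.hom factors through ρ
  have hfac : ∀ {Y : Scheme.{u}} [IsAffine Y] (r : G.left ⟶ Y),
      ∃ r' : Spec Γ(G.left, ⊤) ⟶ Y, r = ρ ≫ r' := by
    intro Y _ r
    refine ⟨Spec.map r.appTop ≫ inv Y.toSpecΓ, ?_⟩
    rw [← Category.assoc, ← Scheme.toSpecΓ_naturality, Category.assoc, IsIso.hom_inv_id,
      Category.comp_id]
  have hp₂ : p₁ ≫ G.hom = p₂ := by
    obtain ⟨s, hs⟩ := hfac G.hom
    rw [hs, reassoc_of% hcond, ← hs, hη, Category.comp_id]
  refine ⟨?_, ?_⟩
  · intro H Q _ _ h _ _ _ _ q _ _ _ hker hQ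
    haveI : IsAffine Q.left := hQ
    obtain ⟨r, hr⟩ := hfac q.left
    have hq1 : η[G].left ≫ q.left = η[Q].left :=
      congrArg (fun t => t.left) (IsMonHom.one_hom (f := q))
    have h1 : p₁ ≫ q.left = (p₁ ≫ G.hom) ≫ η[Q].left := by
      rw [hr, reassoc_of% hcond, ← hr, hq1, hp₂]
    let N' : Over (Spec (CommRingCat.of k)) := Over.mk (p₁ ≫ G.hom)
    let n₁ : N' ⟶ G := Over.homMk p₁ rfl
    have hw : n₁ ≫ q = toUnit N' ≫ η[Q] := by
      ext1
      exact h1
    refine ⟨(hker.lift n₁ (toUnit N') hw).left, ?_⟩
    have := congrArg (fun t => t.left) (hker.lift_fst n₁ (toUnit N') hw)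
    exact this
  · intro M _ j _ _ hM
    have hsurj : Function.Surjective M.hom.appTop.hom := by
      intro y
      obtain ⟨l, hl⟩ := hM.2 y
      exact ⟨(Scheme.ΓSpecIso (CommRingCat.of k)).inv.hom l, hl⟩
    have hηM : η[M].left ≫ M.hom = 𝟙 _ := Over.w η[M]
    have hj1 : η[M].left ≫ j.left = η[G].left :=
      congrArg (fun t => t.left) (IsMonHom.one_hom (f := j))
    have key := Groth.Agent.Lib.Helper60.ConnInt.eq_const_of_isAffine M.hom hsurj η[M].left hηM
      (j.left ≫ ρ)
    rw [reassoc_of% hj1] at key
    exact ⟨pullback.lift j.left M.hom key, pullback.lift_fst _ _ _⟩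

end Groth.Agent.S11411
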