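import Groth.Statements.S11441
import Mathlib

set_option autoImplicit false
universe u
open CategoryTheory MonoidalCategory CartesianMonoidalCategory MonObj GrpObj AlgebraicGeometry Topology
open GIT

section S11441helpers
set_option linter.style.haveILetI false
open Limits

namespace Groth.Agent.S11441

/-- The range of a section of a morphism to (a scheme isomorphic to) the spectrum of a field
is closed. -/
theorem isClosed_range_of_section {Ω : Type u} [Field Ω] {Z T' : Scheme.{u}} (s : T' ⟶ Z)
    (r : Z ⟶ T') (hsr : s ≫ r = 𝟙 T') (e : T' ≅ Spec (CommRingCat.of Ω)) :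
    IsClosed (Set.range s.base) := by
  haveI : IsAffine T' := IsAffine.of_isIso e.hom
  have hsub : ∀ a b : T', a = b := by
    intro a b
    have h1 : e.hom.base a = e.hom.base b := Subsingleton.elim _ _
    have := congrArg e.inv.base h1
    simpa using this
  rw [TopologicalSpace.IsOpenCover.isClosed_iff_coe_preimage (iSup_affineOpens_eq_top Z)]
  intro V
  by_cases hV : ∃ t : T', s.base t ∈ V.1
  · obtain ⟨t₀, ht₀⟩ := hV
    have hr : Set.range s.base ⊆ Set.range V.1.ι.base := by
      rintro _ ⟨t, rfl⟩
      rw [Scheme.Opens.range_ι, hsub t t₀]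
      exact ht₀
    let s' : T' ⟶ V.1 := IsOpenImmersion.lift V.1.ι s hr
    have hs' : s' ≫ V.1.ι = s := IsOpenImmersion.lift_fac _ _ _
    haveI : IsAffine (V.1 : Scheme.{u}) := V.2
    have hsurj : Function.Surjective s'.appTop := by
      have h1 : s' ≫ (V.1.ι ≫ r) = 𝟙 T' := by rw [← Category.assoc, hs', hsr]
      have h2 := congrArg (fun ψ => ψ.appTop) h1
      simp only [Scheme.Hom.comp_appTop, Scheme.Hom.id_appTop] at h2
      intro x
      refine ⟨(V.1.ι ≫ r).appTop x, ?_⟩
      have := congrArg (fun ψ => ψ.hom x) h2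
      simpa using this
    haveI : IsClosedImmersion s' := IsClosedImmersion.of_surjective_of_isAffine s' hsurj
    have hcl : IsClosed (Set.range s'.base) := s'.isClosedEmbedding.isClosed_range
    have hEq : ((fun v : ↥V.1 => (v.1 : Z)) ⁻¹' Set.range s.base) =
        (Set.range s'.base : Set ↥V.1) := by
      ext v
      simp only [Set.mem_preimage, Set.mem_range]
      constructor
      · rintro ⟨t, ht⟩
        refine ⟨t, Subtype.ext ?_⟩
        rw [← ht, ← hs']
        rfl
      · rintro ⟨t, rfl⟩
        refine ⟨t, ?_⟩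
        rw [← hs']
        rfl
    rw [hEq]
    exact hcl
  · convert isClosed_empty
    ext v
    simp only [Set.mem_preimage, Set.mem_range, Set.mem_empty_iff_false, iff_false]
    rintro ⟨t, ht⟩
    exact hV ⟨t, by rw [ht]; exact v.2⟩


open MonoidalCategory CartesianMonoidalCategory MonObj

theorem main (S : Scheme.{u}) (G X Y : Over S) [GrpObj G]
    (a : AlgGrp.Action G X) (φ : X ⟶ Y) (h : GIT.IsGeomQuot a φ) : GIT.IsClosedAction a := by
  intro Ω _ _ T e f
  let hh : X ⊗ T ⟶ Y ⊗ T := lift (fst X T ≫ φ) (snd X T)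
  let s : T ⟶ Y ⊗ T := lift (f ≫ φ) (𝟙 T)
  have hs : s ≫ snd Y T = 𝟙 T := lift_snd _ _
  have hcl : IsClosed (Set.range s.left.base) :=
    isClosed_range_of_section s.left (snd Y T).left (by rw [← Over.comp_left, hs]; rfl) e
  have h1 : GIT.psi a f ≫ hh = snd G T ≫ s := by
    apply CartesianMonoidalCategory.hom_ext
    · simp only [hh, s, GIT.psi, Category.assoc, lift_fst, lift_fst_assoc]
      have hinv : a.act ≫ φ = snd G X ≫ φ := h.inv
      rw [hinv, whiskerLeft_snd_assoc]
    · simp [hh, s, GIT.psi]
  -- scheme-level facts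
  have hh_fst : hh.left ≫ (fst Y T).left = (fst X T).left ≫ φ.left := by
    rw [← Over.comp_left, ← Over.comp_left]; congr 1; exact lift_fst _ _
  have hh_snd : hh.left ≫ (snd Y T).left = (snd X T).left := by
    rw [← Over.comp_left]; congr 1; exact lift_snd _ _
  have s_fst : s.left ≫ (fst Y T).left = f.left ≫ φ.left := by
    rw [← Over.comp_left, ← Over.comp_left]; congr 1; exact lift_fst _ _
  have s_snd : s.left ≫ (snd Y T).left = 𝟙 T.left := by
    rw [← Over.comp_left, hs]; rfl
  suffices key : Set.range (GIT.psi a f).left.base = hh.left.base ⁻¹' Set.range s.left.base by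
    rw [key]
    exact hcl.preimage hh.left.continuous
  apply Set.Subset.antisymm
  · rintro _ ⟨g, rfl⟩
    refine ⟨(snd G T).left.base g, ?_⟩
    have := congrArg (fun ψ => ψ.left.base g) h1
    simp only [Over.comp_left, Scheme.Hom.comp_base, TopCat.comp_app] at this
    exact this.symm
  · rintro z ⟨t, ht⟩
    obtain ⟨w, hw1, hw2⟩ := Scheme.Pullback.exists_preimage_pullback (f := hh.left) (g := s.left)
      z t ht.symm
    let π₁ := pullback.fst hh.left s.left
    let π₂ := pullback.snd hh.left s.left
    have hcond : π₁ ≫ hh.left = π₂ ≫ s.left := pullback.condition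
    have hπ : π₁ ≫ (snd X T).left = π₂ := by
      have := congrArg (fun ψ => ψ ≫ (snd Y T).left) hcond
      simp only [Category.assoc, hh_snd, s_snd, Category.comp_id] at this
      exact this
    have hπ' : π₁ ≫ (fst X T).left ≫ φ.left = π₂ ≫ f.left ≫ φ.left := by
      have := congrArg (fun ψ => ψ ≫ (fst Y T).left) hcond
      simp only [Category.assoc, hh_fst, s_fst] at this
      exact this
    let u : pullback hh.left s.left ⟶ pullback φ.left φ.left :=
      pullback.lift (π₁ ≫ (fst X T).left) (π₂ ≫ f.left) (by simpa using hπ')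
    let Ψ := GIT.PsiY a φ h.inv
    have hΨ1 : Ψ ≫ pullback.fst φ.left φ.left = a.act.left := pullback.lift_fst _ _ _
    have hΨ2 : Ψ ≫ pullback.snd φ.left φ.left = (snd G X).left := pullback.lift_snd _ _ _
    haveI : Surjective Ψ := ⟨h.orbit⟩
    let ρ₁ := pullback.fst Ψ u
    let ρ₂ := pullback.snd Ψ u
    have hρ : ρ₁ ≫ Ψ = ρ₂ ≫ u := pullback.condition
    obtain ⟨v, hv⟩ := (inferInstance : Surjective ρ₂).surj w
    have hρ_act : ρ₁ ≫ a.act.left = ρ₂ ≫ π₁ ≫ (fst X T).left := by
      rw [← hΨ1, ← Category.assoc, hρ, Category.assoc]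
      congr 1
      exact pullback.lift_fst _ _ _
    have hρ_snd : ρ₁ ≫ (snd G X).left = ρ₂ ≫ π₂ ≫ f.left := by
      rw [← hΨ2, ← Category.assoc, hρ, Category.assoc]
      congr 1
      exact pullback.lift_snd _ _ _
    let Q' : Over S := Over.mk (ρ₂ ≫ π₂ ≫ T.hom)
    let mG : Q' ⟶ G := Over.homMk (ρ₁ ≫ (fst G X).left) (by
      change (ρ₁ ≫ (fst G X).left) ≫ G.hom = ρ₂ ≫ π₂ ≫ T.hom
      rw [Category.assoc, Over.w (fst G X), ← Over.w (snd G X), ← Category.assoc, hρ_snd,
        Category.assoc, Category.assoc, Over.w f])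
    let mT : Q' ⟶ T := Over.homMk (ρ₂ ≫ π₂) (by simp [Q'])
    let m : Q' ⟶ G ⊗ T := lift mG mT
    let mGX : Q' ⟶ G ⊗ X := Over.homMk ρ₁ (by
      change ρ₁ ≫ (G ⊗ X).hom = ρ₂ ≫ π₂ ≫ T.hom
      rw [← Over.w (snd G X), ← Category.assoc, hρ_snd, Category.assoc, Category.assoc, Over.w f])
    let tX : Q' ⟶ X ⊗ T := Over.homMk (ρ₂ ≫ π₁) (by
      change (ρ₂ ≫ π₁) ≫ (X ⊗ T).hom = ρ₂ ≫ π₂ ≫ T.hom
      rw [← Over.w (snd X T), Category.assoc, ← Category.assoc π₁, hπ])
    have hm1 : m ≫ (G ◁ f) = mGX := by
      apply CartesianMonoidalCategory.hom_ext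
      · rw [Category.assoc, whiskerLeft_fst]
        simp only [m, lift_fst]
        ext
        simp [mG, mGX]
      · rw [Category.assoc, whiskerLeft_snd]
        simp only [m, lift_snd_assoc]
        ext
        simp only [Over.comp_left, mT, mGX, Over.homMk_left]
        rw [hρ_snd, Category.assoc]
    have hm : m ≫ GIT.psi a f = tX := by
      apply CartesianMonoidalCategory.hom_ext
      · simp only [GIT.psi, Category.assoc, lift_fst]
        rw [← Category.assoc, hm1]
        ext
        simp only [Over.comp_left, mGX, tX, Over.homMk_left]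
        rw [hρ_act, Category.assoc]
      · simp only [GIT.psi, Category.assoc, lift_snd]
        simp only [m, lift_snd]
        ext
        simp only [Over.comp_left, mT, tX, Over.homMk_left]
        rw [Category.assoc, hπ]
    refine ⟨m.left.base v, ?_⟩
    have := congrArg (fun ψ => ψ.left.base v) hm
    simp only [Over.comp_left, Scheme.Hom.comp_base, TopCat.comp_app, tX, Over.homMk_left] at this
    rw [this]
    change π₁.base (ρ₂.base v) = z
    rw [hv, hw1]

end Groth.Agent.S11441

end S11441helpers

namespace Groth.Agent.S11441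

/-- If a geometric quotient of X by G over S exists, then the action of G on X is closed (orbits of
geometric points are closed in the geometric fibres). -/
theorem result (S : Scheme.{u}) (G X Y : Over S) [GrpObj G]
    (a : AlgGrp.Action G X) (φ : X ⟶ Y) (h : GIT.IsGeomQuot a φ) : GIT.IsClosedAction a := by

  exact Groth.Agent.S11441.main S G X Y a φ h

end Groth.Agent.S11441
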