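import Groth.Statements.S11444
import Groth.Agent.Lib.Helper29.SecReg4

set_option autoImplicit false
universe u
open CategoryTheory MonoidalCategory CartesianMonoidalCategory MonObj GrpObj AlgebraicGeometry Topology
open GIT

namespace Groth.Agent.S11444

/-- Let X → Y → S be morphisms of finite type of Noetherian schemes with Y → S smooth with all fibres of
dimension n and X → S flat. Then X → Y has Tor-dimension at most n. -/
theorem result (S X Y : Scheme.{u}) [IsNoetherian S] [IsNoetherian X] [IsNoetherian Y]
    (p : X ⟶ S) (q : Y ⟶ S) (f : X ⟶ Y) (hf : f ≫ q = p) [LocallyOfFiniteType f] (n : ℕ)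
    [SmoothOfRelativeDimension n q] [Flat p] : DerSch.HasTorDimLE f n := by
  intro x
  let Γ : X ⟶ Limits.pullback p q := Limits.pullback.lift (𝟙 X) f (by rw [Category.id_comp, hf])
  have hΓ1 : Γ ≫ Limits.pullback.fst p q = 𝟙 X := Limits.pullback.lift_fst _ _ _
  have hΓ2 : Γ ≫ Limits.pullback.snd p q = f := Limits.pullback.lift_snd _ _ _
  haveI : SmoothOfRelativeDimension n (Limits.pullback.fst p q) :=
    (smoothOfRelativeDimension_isStableUnderBaseChange n).of_isPullback
      (IsPullback.of_hasPullback p q).flip inferInstance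
  have hflat := Groth.Agent.Lib.Helper29.SecReg.hasTorAmplitudeAt_of_flat
    (Limits.pullback.snd p q) (Γ.base x)
  have hsec := Groth.Agent.Lib.Helper29.SecReg.hasTorAmplitudeAt_of_section
    (Limits.pullback.fst p q) n Γ hΓ1 x
  have key := Groth.Agent.Lib.Helper99.SStalk.hasTorAmplitudeAt_comp Γ (Limits.pullback.snd p q) 0 x
    (by simpa using hflat) (DerSch.unitCx X) (-(n : ℤ)) 0 hsec
  have key' : DerSch.HasTorAmplitudeAt (Γ ≫ Limits.pullback.snd p q) (-(n : ℤ)) 0
      (DerSch.unitCx X) x := by
    simpa using key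
  exact hΓ2 ▸ key'

end Groth.Agent.S11444
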