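import Groth.Statements.S11450
import Groth.Agent.Lib.Helper46.TorShift
import Mathlib.RingTheory.Flat.Tensor
import Mathlib.RingTheory.Ideal.AssociatedPrime.Finiteness

set_option autoImplicit false
universe u
open CategoryTheory
open DefT

namespace Groth.Agent.S11450

/-- A module M over a Noetherian commutative ring A is flat if and only if Tor_1^A(M, A/p) vanishes for
every prime ideal p of A. -/
theorem result (A : Type u) [CommRing A]
    [IsNoetherianRing A] (M : Type u) [AddCommGroup M] [Module A M] :
    Module.Flat A M ↔ ∀ p : Ideal A, p.IsPrime →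
      Limits.IsZero (((CategoryTheory.Tor (ModuleCat.{u} A) 1).obj (ModuleCat.of A M)).obj (ModuleCat.of A (A ⧸ p))) := by
  constructor
  · intro _ p _
    exact Groth.Agent.Lib.Helper46.TorShift.isZero_of_flat_left M (A ⧸ p) 0
  · intro h
    -- `Tor₁(M, N) = 0` for every finite module `N`
    have key : ∀ (N : Type u) [AddCommGroup N] [Module A N] [Module.Finite A N],
        Limits.IsZero (Groth.Agent.Lib.Helper46.TorShift.T A 1 M N) := by
      intro N _ _ hfin
      induction hfin using IsNoetherianRing.induction_on_isQuotientEquivQuotientPrime A with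
      | subsingleton N =>
        haveI := Module.Free.of_subsingleton A N
        exact Groth.Agent.Lib.Helper46.TorShift.isZero_of_flat_right M N 0
      | quotient N p e =>
        exact Groth.Agent.Lib.Helper46.TorShift.isZero_congr (LinearEquiv.refl A M) e.symm 1
          (h p.1 p.2)
      | exact N₁ N₂ N₃ f g hf hg hfg h₁ h₃ =>
        exact Groth.Agent.Lib.Helper46.TorShift.isZero_mid₂ (N := M) f g hf hfg hg 1 h₁ h₃
    rw [Module.Flat.iff_lTensor_injective]
    intro I _
    exact (Groth.Agent.Lib.Helper46.TorOne.isZero_tor_one_iff_injective_lTensor (N := M)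
      (Z := I) (P := A) (M := A ⧸ I) I.subtype (Submodule.mkQ I) Subtype.val_injective
      (LinearMap.exact_subtype_mkQ I) (Submodule.mkQ_surjective I)).mp (key (A ⧸ I))

end Groth.Agent.S11450
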