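import Groth.Statements.S11451
import Groth.Agent.Lib.Helper62.SmoothReg6
import Mathlib.RingTheory.HopkinsLevitzki
import Mathlib.RingTheory.Filtration

set_option autoImplicit false
set_option linter.style.haveILetI false
set_option linter.unusedSectionVars false
universe u
open DefT

namespace Groth.Agent.S11451

open IsLocalRing Function

section core

variable {k T : Type u} [Field k] [CommRing T] [IsLocalRing T] [IsNoetherianRing T] [Algebra k T]

/-- `T/K` is finite over `k` when `K` contains a power of the maximal ideal and the residue field of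
`T` is `k`. -/
lemma finite_quotient_of_pow_le (hres : Surjective (algebraMap k (ResidueField T))) (K : Ideal T)
    (hK : K ≠ ⊤) (n : ℕ) (hn : maximalIdeal T ^ n ≤ K) : Module.Finite k (T ⧸ K) := by
  haveI : Nontrivial (T ⧸ K) := Ideal.Quotient.nontrivial_iff.mpr hK
  haveI : IsLocalRing (T ⧸ K) :=
    IsLocalRing.of_surjective' (Ideal.Quotient.mk K) Ideal.Quotient.mk_surjective
  haveI : IsLocalHom (Ideal.Quotient.mk K) :=
    IsLocalHom.of_surjective _ Ideal.Quotient.mk_surjective
  have hmax : maximalIdeal (T ⧸ K) = (maximalIdeal T).map (Ideal.Quotient.mk K) := by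
    haveI : ((maximalIdeal T).map (Ideal.Quotient.mk K)).IsMaximal :=
      Ideal.IsMaximal.map_of_surjective_of_ker_le Ideal.Quotient.mk_surjective
        (by rw [Ideal.mk_ker]; exact le_maximalIdeal hK)
    exact (IsLocalRing.eq_maximalIdeal inferInstance).symm
  haveI : IsArtinianRing (T ⧸ K) := by
    rw [isArtinianRing_iff_isNilpotent_maximalIdeal]
    refine ⟨n, ?_⟩
    rw [hmax, ← Ideal.map_pow, Ideal.zero_eq_bot, eq_bot_iff]
    exact (Ideal.map_mono hn).trans (by rw [Ideal.map_quotient_self])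
  haveI : Module.Finite k ((T ⧸ K) ⧸ Ring.jacobson (T ⧸ K)) := by
    refine Module.Finite.of_surjective (Algebra.linearMap k _) ?_
    intro y
    obtain ⟨b, rfl⟩ := Ideal.Quotient.mk_surjective y
    obtain ⟨t, rfl⟩ := Ideal.Quotient.mk_surjective b
    obtain ⟨c, hc⟩ := hres (residue T t)
    refine ⟨c, ?_⟩
    rw [Algebra.linearMap_apply, IsScalarTower.algebraMap_apply k (T ⧸ K),
      Ideal.Quotient.algebraMap_eq, Ideal.Quotient.eq, ringJacobson_eq_maximalIdeal, hmax,
      IsScalarTower.algebraMap_apply k T (T ⧸ K), Ideal.Quotient.algebraMap_eq, ← map_sub]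
    apply Ideal.mem_map_of_mem
    rw [← IsLocalRing.residue_eq_zero_iff, map_sub, sub_eq_zero, ← hc]
    rfl
  exact IsSemiprimaryRing.finite_of_isArtinian k (T ⧸ K) (T ⧸ K)

variable {A : Type u} [CommRing A] [Algebra k A]

/-- the key step: if `A = T/I` has the lifting property against square-zero extensions of local
finite `k`-algebras, then `I ∩ 𝔪² ⊆ 𝔪 I + 𝔪ⁿ` for all `n ≥ 1`. -/
lemma mem_sup_pow_of_lifting (π : T →ₐ[k] A) (hπ : Surjective π)
    (hres : Surjective (algebraMap k (ResidueField T)))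
    (hne : RingHom.ker π ≠ ⊤)
    (hlift : ∀ (B' : Type u) [CommRing B'] [IsLocalRing B'] [Algebra k B'] [Module.Finite k B']
        (J : Ideal B'), J ^ 2 = ⊥ → ∀ f : A →ₐ[k] B' ⧸ J,
          ∃ g : A →ₐ[k] B', (Ideal.Quotient.mkₐ k J).comp g = f)
    (n : ℕ) (j : T) (hjI : j ∈ RingHom.ker π) (hjm : j ∈ maximalIdeal T * maximalIdeal T) :
    j ∈ maximalIdeal T * RingHom.ker π ⊔ maximalIdeal T ^ (n + 1) := by
  set I : Ideal T := RingHom.ker π with hI
  set 𝔪 : Ideal T := maximalIdeal T with h𝔪
  have hIm : I ≤ 𝔪 := le_maximalIdeal hne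
  set K : Ideal T := 𝔪 * I ⊔ 𝔪 ^ (n + 1) with hKdef
  have hKm : K ≤ 𝔪 := sup_le (Ideal.mul_le_right.trans hIm) (Ideal.pow_le_self n.succ_ne_zero)
  have hK : K ≠ ⊤ := fun h => (maximalIdeal.isMaximal T).ne_top (top_le_iff.mp (h ▸ hKm))
  haveI : Nontrivial (T ⧸ K) := Ideal.Quotient.nontrivial_iff.mpr hK
  haveI : IsLocalRing (T ⧸ K) :=
    IsLocalRing.of_surjective' (Ideal.Quotient.mk K) Ideal.Quotient.mk_surjective
  haveI : Module.Finite k (T ⧸ K) := finite_quotient_of_pow_le hres K hK (n + 1) le_sup_right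
  set J : Ideal (T ⧸ K) := (I ⊔ 𝔪 ^ (n + 1)).map (Ideal.Quotient.mk K) with hJdef
  -- `𝔪 * (I ⊔ 𝔪^(n+1)) ≤ K`
  have hmJ : 𝔪 * (I ⊔ 𝔪 ^ (n + 1)) ≤ K := by
    rw [Ideal.mul_sup]
    refine sup_le le_sup_left ?_
    exact (Ideal.mul_le_right).trans le_sup_right
  have hJ2 : J ^ 2 = ⊥ := by
    rw [hJdef, ← Ideal.map_pow, eq_bot_iff, ← Ideal.map_quotient_self K]
    refine Ideal.map_mono ?_
    rw [pow_two]
    refine (Ideal.mul_mono_left (sup_le hIm (Ideal.pow_le_self n.succ_ne_zero))).trans hmJ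
  -- the map `A → (T/K)/J`
  let p : T →ₐ[k] T ⧸ K := Ideal.Quotient.mkₐ k K
  let pJ : T →ₐ[k] (T ⧸ K) ⧸ J := (Ideal.Quotient.mkₐ k J).comp p
  have hpJ : ∀ x ∈ RingHom.ker π, pJ x = 0 := by
    intro x hx
    change Ideal.Quotient.mk J (Ideal.Quotient.mk K x) = 0
    rw [Ideal.Quotient.eq_zero_iff_mem]
    exact Ideal.mem_map_of_mem _ (Ideal.mem_sup_left hx)
  let f : A →ₐ[k] (T ⧸ K) ⧸ J :=
    (Ideal.Quotient.liftₐ (RingHom.ker π) pJ hpJ).comp
      (Ideal.quotientKerAlgEquivOfSurjective hπ).symm.toAlgHom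
  have hf : ∀ t : T, f (π t) = pJ t := by
    intro t
    change Ideal.Quotient.liftₐ (RingHom.ker π) pJ hpJ
      ((Ideal.quotientKerAlgEquivOfSurjective hπ).symm (π t)) = _
    have : (Ideal.quotientKerAlgEquivOfSurjective hπ).symm (π t) =
        Ideal.Quotient.mk (RingHom.ker π) t := by
      rw [AlgEquiv.symm_apply_eq]
      rfl
    rw [this]
    rfl
  obtain ⟨g, hg⟩ := hlift (T ⧸ K) J hJ2 f
  have hgp : ∀ t : T, g (π t) - p t ∈ J := by
    intro t
    rw [← Ideal.Quotient.eq]
    exact (DFunLike.congr_fun hg (π t)).trans (hf t)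
  -- `g ∘ π` and `p` agree on `𝔪 * 𝔪`
  have hmB : ∀ a ∈ 𝔪, ∀ y ∈ J, p a * y = 0 := by
    intro a ha y hy
    have : p a * y ∈ (𝔪 * (I ⊔ 𝔪 ^ (n + 1))).map (Ideal.Quotient.mk K) := by
      rw [Ideal.map_mul]
      exact Ideal.mul_mem_mul (Ideal.mem_map_of_mem _ ha) hy
    have h2 := Ideal.map_mono (f := Ideal.Quotient.mk K) hmJ this
    rwa [Ideal.map_quotient_self, Ideal.mem_bot] at h2
  have hJJ : ∀ x ∈ J, ∀ y ∈ J, x * y = 0 := by
    intro x hx y hy
    have : x * y ∈ J ^ 2 := by rw [pow_two]; exact Ideal.mul_mem_mul hx hy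
    rwa [hJ2, Ideal.mem_bot] at this
  have hagree : ∀ x ∈ 𝔪 * 𝔪, g (π x) = p x := by
    intro x hx
    refine Submodule.mul_induction_on hx ?_ ?_
    · intro a ha b hb
      have e1 : g (π (a * b)) = (p a + (g (π a) - p a)) * (p b + (g (π b) - p b)) := by
        rw [map_mul, map_mul]; ring
      rw [e1, map_mul, mul_add, add_mul, add_mul, hmB a ha _ (hgp b),
        hJJ _ (hgp a) _ (hgp b), mul_comm (g (π a) - p a) (p b), hmB b hb _ (hgp a)]
      ring
    · intro x y hx hy
      rw [map_add, map_add, map_add, hx, hy]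
  have hpj : p j = 0 := by
    rw [← hagree j hjm, (RingHom.mem_ker).mp hjI, map_zero]
  exact Ideal.Quotient.eq_zero_iff_mem.mp hpj

/-- with the lifting property, `I ∩ 𝔪² ⊆ 𝔪 I`. -/
lemma mem_mul_of_lifting (π : T →ₐ[k] A) (hπ : Surjective π)
    (hres : Surjective (algebraMap k (ResidueField T)))
    (hne : RingHom.ker π ≠ ⊤)
    (hlift : ∀ (B' : Type u) [CommRing B'] [IsLocalRing B'] [Algebra k B'] [Module.Finite k B']
        (J : Ideal B'), J ^ 2 = ⊥ → ∀ f : A →ₐ[k] B' ⧸ J,
          ∃ g : A →ₐ[k] B', (Ideal.Quotient.mkₐ k J).comp g = f)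
    (j : T) (hjI : j ∈ RingHom.ker π) (hjm : j ∈ maximalIdeal T * maximalIdeal T) :
    j ∈ maximalIdeal T * RingHom.ker π := by
  set L : Ideal T := maximalIdeal T * RingHom.ker π with hL
  have hkrull := Ideal.iInf_pow_smul_eq_bot_of_isLocalRing (R := T) (M := T ⧸ L) (maximalIdeal T)
    (maximalIdeal.isMaximal T).ne_top
  have hmem : (Ideal.Quotient.mk L j : T ⧸ L) ∈
      (⨅ i : ℕ, (maximalIdeal T) ^ i • (⊤ : Submodule T (T ⧸ L))) := by
    rw [Submodule.mem_iInf]
    intro i
    have hi : j ∈ L ⊔ maximalIdeal T ^ i := by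
      have h1 := mem_sup_pow_of_lifting π hπ hres hne hlift i j hjI hjm
      have hle : L ⊔ maximalIdeal T ^ (i + 1) ≤ L ⊔ maximalIdeal T ^ i :=
        sup_le_sup le_rfl (Ideal.pow_le_pow_right (Nat.le_succ i))
      exact hle h1
    obtain ⟨a, ha, b, hb, rfl⟩ := Submodule.mem_sup.mp hi
    rw [map_add, Ideal.Quotient.eq_zero_iff_mem.mpr ha, zero_add]
    have : (Ideal.Quotient.mk L b : T ⧸ L) = b • (1 : T ⧸ L) := by
      rw [Algebra.smul_def, mul_one]; rfl
    rw [this]
    exact Submodule.smul_mem_smul hb Submodule.mem_top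
  rw [hkrull, Submodule.mem_bot] at hmem
  exact Ideal.Quotient.eq_zero_iff_mem.mp hmem

end core

/-- Let k be an algebraically closed field and A a local k-algebra essentially of finite type over k
with residue field k. Then regularity of A as a local ring is equivalent to the following: for every
local k-algebra B' of finite dimension over k, every ideal J of B' of square zero and every
k-algebra homomorphism f : A → B'/J, there is a k-algebra homomorphism g : A → B' lifting f. (Local
k-algebras of finite k-dimension are exactly the local Artin rings finite over k; lifting against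
square-zero kernels is equivalent to lifting against nilpotent ones by induction.) -/
theorem result (k : Type u) [Field k] [IsAlgClosed k]
    (A : Type u) [CommRing A] [IsLocalRing A] [Algebra k A] [Algebra.EssFiniteType k A]
    (hres : Function.Surjective (algebraMap k (IsLocalRing.ResidueField A))) :
    IsRegularLocalRing A ↔
      ∀ (B' : Type u) [CommRing B'] [IsLocalRing B'] [Algebra k B'] [Module.Finite k B']
        (J : Ideal B'), J ^ 2 = ⊥ → ∀ f : A →ₐ[k] B' ⧸ J,
          ∃ g : A →ₐ[k] B', (Ideal.Quotient.mkₐ k J).comp g = f := by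
  constructor
  · intro hreg
    haveI : Algebra.FormallySmooth k A :=
      Groth.Agent.Lib.Helper62.SmoothReg.formallySmooth_of_isRegularLocalRing k A
    intro B' _ _ _ _ J hJ f
    exact Algebra.FormallySmooth.comp_surjective k A J hJ f
  · intro hlift
    obtain ⟨n, Q, hQ, π, hπ⟩ :=
      Groth.Agent.Lib.Helper62.SmoothReg.exists_surjective_algHom_localization k A
    set T := Localization.AtPrime Q
    have hne : RingHom.ker π ≠ ⊤ := by
      intro h
      have h1 : (1 : T) ∈ RingHom.ker π := h ▸ Submodule.mem_top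
      rw [RingHom.mem_ker, map_one] at h1
      exact one_ne_zero h1
    haveI : IsLocalHom π.toRingHom := IsLocalHom.of_surjective _ hπ
    have hresT : Surjective (algebraMap k (ResidueField T)) := by
      intro y
      obtain ⟨t, rfl⟩ := residue_surjective y
      obtain ⟨c, hc⟩ := hres (residue A (π t))
      refine ⟨c, ?_⟩
      rw [IsScalarTower.algebraMap_apply k T (ResidueField T)]
      change residue T _ = residue T _
      rw [← sub_eq_zero, ← map_sub, IsLocalRing.residue_eq_zero_iff]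
      by_contra hunit
      rw [IsLocalRing.mem_maximalIdeal, mem_nonunits_iff, not_not] at hunit
      have h2 : IsUnit (π (algebraMap k T c - t)) := hunit.map π
      rw [map_sub, AlgHom.commutes] at h2
      have h3 : residue A (algebraMap k A c - π t) = 0 := by
        rw [map_sub, ← hc, sub_eq_zero]
        rfl
      rw [IsLocalRing.residue_eq_zero_iff, IsLocalRing.mem_maximalIdeal, mem_nonunits_iff] at h3
      exact h3 h2
    have hq : IsRegularLocalRing (T ⧸ RingHom.ker π) :=
      (Groth.Agent.Lib.Helper62.SmoothReg.isRegularLocalRing_quotient_iff T (RingHom.ker π)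
        (le_maximalIdeal hne)).mpr
        (fun j hj hjm => mem_mul_of_lifting π hπ hresT hne hlift j hj hjm)
    exact @IsRegularLocalRing.of_ringEquiv (T ⧸ RingHom.ker π) _ hq A _
      (RingHom.quotientKerEquivOfSurjective (f := (π : T →+* A)) hπ)

end Groth.Agent.S11451
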