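import Groth.Statements.S11455
import Groth.Agent.Lib.Helper93.ArtinLift2
-- import your own Groth.Agent.* helpers here

set_option autoImplicit false
universe u
open DefT

namespace Groth.Agent.S11455

/-- Let C' be a local Artin ring, J ⊊ C' a proper ideal annihilated by the maximal ideal, C = C'/J, A' a
flat C'-algebra whose reduction modulo the maximal ideal of C' is a Cohen–Macaulay local ring, A =
A'/JA', and a_1, …, a_r a regular sequence on A with A/(a_1, …, a_r) flat over C. Then every ideal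
I' of A' with A'/I' flat over C' and with image (a_1, …, a_r) in A is generated by some lifts a'_1,
…, a'_r of the a_i. -/
theorem result (C' : Type u) [CommRing C'] [IsLocalRing C'] [IsArtinianRing C'] (J : Ideal C')
    (hJ : IsLocalRing.maximalIdeal C' * J = ⊥) (hJne : J ≠ ⊤) (A' : Type u) [CommRing A'] [Algebra C' A'] [Module.Flat C' A']
    [LocCoh.IsCohenMacaulayLocalRing (A' ⧸ (IsLocalRing.maximalIdeal C').map (algebraMap C' A'))]
    (r : ℕ) (a : Fin r → A' ⧸ J.map (algebraMap C' A'))
    (hreg : RingTheory.Sequence.IsRegular (A' ⧸ J.map (algebraMap C' A')) (List.ofFn a))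
    [Module.Flat (C' ⧸ J) ((A' ⧸ J.map (algebraMap C' A')) ⧸ Ideal.span (Set.range a))]
    (I' : Ideal A') [Module.Flat C' (A' ⧸ I')]
    (hI' : I'.map (Ideal.Quotient.mk (J.map (algebraMap C' A'))) = Ideal.span (Set.range a)) :
    ∃ a' : Fin r → A', (∀ i, Ideal.Quotient.mk (J.map (algebraMap C' A')) (a' i) = a i) ∧
      I' = Ideal.span (Set.range a') := by
  classical
  have hnil := Groth.Agent.Lib.Helper93.ArtinLift.isNilpotent_maximalIdeal C'
  have hJm : J ≤ IsLocalRing.maximalIdeal C' := IsLocalRing.le_maximalIdeal hJne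
  have hnil' : IsNilpotent (J.map (algebraMap C' A')) := by
    obtain ⟨n, hn⟩ := hnil
    refine ⟨n, ?_⟩
    have h1 : J ^ n ≤ (IsLocalRing.maximalIdeal C') ^ n := Ideal.pow_right_mono hJm n
    rw [hn, Ideal.zero_eq_bot, le_bot_iff] at h1
    rw [← Ideal.map_pow, h1, Ideal.map_bot]
    rfl
  have hlift : ∀ i, ∃ x ∈ I', Ideal.Quotient.mk (J.map (algebraMap C' A')) x = a i := by
    intro i
    have : a i ∈ I'.map (Ideal.Quotient.mk (J.map (algebraMap C' A'))) := by
      rw [hI']; exact Ideal.subset_span ⟨i, rfl⟩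
    obtain ⟨x, hx, hxa⟩ := (Ideal.mem_map_iff_of_surjective _ Ideal.Quotient.mk_surjective).mp this
    exact ⟨x, hx, hxa⟩
  choose a' haI hab using hlift
  refine ⟨a', hab, le_antisymm ?_ ?_⟩
  · apply Groth.Agent.Lib.Helper93.ArtinLift.le_of_le_sup_mul (J.map (algebraMap C' A')) _ I' hnil'
    intro y hy
    have h1 : Ideal.Quotient.mk (J.map (algebraMap C' A')) y ∈ Ideal.span (Set.range a) := by
      rw [← hI']; exact Ideal.mem_map_of_mem _ hy
    obtain ⟨cbar, hc⟩ := (Ideal.mem_span_range_iff_exists_fun).mp h1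
    choose c hcc using fun i => Ideal.Quotient.mk_surjective (cbar i)
    have hzI : y - ∑ i, c i * a' i ∈ I' :=
      Ideal.sub_mem _ hy (Ideal.sum_mem _ fun i _ => Ideal.mul_mem_left _ _ (haI i))
    have hzJ : y - ∑ i, c i * a' i ∈ J.map (algebraMap C' A') := by
      rw [← Ideal.Quotient.eq_zero_iff_mem, map_sub, map_sum, ← hc, sub_eq_zero]
      apply Finset.sum_congr rfl
      intro i _
      rw [map_mul, hcc, hab]
    have hz := Groth.Agent.Lib.Helper93.ArtinLift2.mem_mul_of_flat_quotient C' A' I' J _ hzI hzJ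
    have : y = ∑ i, c i * a' i + (y - ∑ i, c i * a' i) := by ring
    rw [this]
    refine Ideal.add_mem _ (Ideal.mem_sup_left ?_) (Ideal.mem_sup_right hz)
    exact Ideal.sum_mem _ fun i _ => Ideal.mul_mem_left _ _ (Ideal.subset_span ⟨i, rfl⟩)
  · rw [Ideal.span_le]
    rintro _ ⟨i, rfl⟩
    exact haI i

end Groth.Agent.S11455
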