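import Mathlib
import Groth.Statements.S1146
import Groth.Agent.Lib.Helper11.TopDim

set_option autoImplicit false
open CategoryTheory CategoryTheory.Limits AlgebraicGeometry Opposite
universe u
open Desc

namespace Groth.Agent.S1146

open Groth.Agent.Lib.Helper11.TopDim

lemma locallyQuasiFinite_of_etale {U V : Scheme.{u}} (f : U ⟶ V) [Etale f] :
    LocallyQuasiFinite f := by
  refine ⟨fun {W} hW {W'} hW' e => ?_⟩
  have h := Etale.etale_appLE f hW hW' e
  algebraize [(f.appLE W W' e).hom]
  have : Algebra.Etale Γ(V, W) Γ(U, W') := RingHom.etale_algebraMap.mp h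
  show Algebra.QuasiFinite Γ(V, W) Γ(U, W')
  infer_instance

/-- Let f : U ⟶ V be an etale morphism of schemes and u a point of U. Then the local dimension of U at u
(the infimum of the Krull dimensions of open neighbourhoods) equals the local dimension of V at
f(u). -/
theorem result {U V : Scheme.{u}} (f : U ⟶ V) [Etale f] (u : U) :
    FlatMor.localDim U u = FlatMor.localDim V (f.base u) := by
  have hLQF : LocallyQuasiFinite f := locallyQuasiFinite_of_etale f
  have hgen : GeneralizingMap f.base := Flat.generalizingMap f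
  have hopen : IsOpenMap f.base := f.isOpenMap
  have hfib : ∀ x x' : U, x ⤳ x' → f.base x = f.base x' → x = x' := by
    intro x x' hs he
    have hd := (f.isDiscrete_preimage_singleton (f.base x')).to_subtype
    have hx : x ∈ f.base ⁻¹' {f.base x'} := he
    have hx' : x' ∈ f.base ⁻¹' {f.base x'} := rfl
    have h1 : (⟨x, hx⟩ : f.base ⁻¹' {f.base x'}) ⤳ ⟨x', hx'⟩ :=
      (subtype_specializes_iff _ _).mpr hs
    exact congrArg Subtype.val h1.eq
  have key : ∀ W : U.Opens, topologicalKrullDim (W : Set U) =
      topologicalKrullDim (f.base '' (W : Set U)) :=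
    fun W => dim_image_eq f.base f.continuous hgen hfib W W.2 (hopen _ W.2)
  unfold FlatMor.localDim
  apply le_antisymm
  · refine le_iInf fun ⟨W', hW'⟩ => ?_
    refine (iInf_le _ ⟨f ⁻¹ᵁ W', hW'⟩).trans ?_
    show topologicalKrullDim ((f ⁻¹ᵁ W' : U.Opens) : Set U) ≤ _
    rw [key]
    exact (Topology.IsEmbedding.inclusion
      (Set.image_preimage_subset f.base (W' : Set V))).isInducing.topologicalKrullDim_le
  · refine le_iInf fun ⟨W, hW⟩ => ?_
    refine (iInf_le _ ⟨⟨f.base '' (W : Set U), hopen _ W.2⟩, ⟨u, hW, rfl⟩⟩).trans ?_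
    exact (key W).symm.le

end Groth.Agent.S1146
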