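import Groth.Statements.S11462
import Groth.Agent.Lib.Helper29.FlatHartogs1
import Groth.Agent.Lib.QCoh.Helper18_HartogsDepth

set_option autoImplicit false
universe u
open CategoryTheory AlgebraicGeometry Opposite
open DefT

namespace Groth.Agent.S11462

/-- Let C be a local Artin ring with maximal ideal m, A a Noetherian C-algebra flat over C such that
Spec(A/mA) is a normal scheme, and U ⊆ X = Spec A an open subset whose closed complement has
codimension ≥ 2, i.e. every prime of A not in U has height at least 2. Then the restriction map Γ(X,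
O_X) → Γ(U, O_X) is bijective. (The published statement assumes only that A is flat over C with
normal special fibre; this row also assumes A Noetherian: for a valuation ring of rank two over a
field, which is normal and flat, the functions on the complement of the closed point are not all
global.) -/
theorem result (C : Type u) [CommRing C]
    [IsLocalRing C] [IsArtinianRing C] (A : Type u) [CommRing A] [IsNoetherianRing A] [Algebra C A]
    [Module.Flat C A]
    (hnorm : Pi1.IsNormalScheme (Spec (CommRingCat.of (A ⧸ (IsLocalRing.maximalIdeal C).map (algebraMap C A)))))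
    (U : (Spec (CommRingCat.of A)).Opens)
    (hU : ∀ p : ↥(Spec (CommRingCat.of A)), p ∉ U → (2 : ℕ∞) ≤ p.asIdeal.height) :
    Function.Bijective ((Spec (CommRingCat.of A)).presheaf.map (homOfLE (le_top : U ≤ ⊤)).op) := by
  haveI : IsLocallyNoetherian (Spec (CommRingCat.of A)) := inferInstance
  apply Groth.Agent.Lib.QCoh.Hartogs.bijective_res_top_structureSheaf U
  intro x hx
  haveI : x.asIdeal.IsPrime := PrimeSpectrum.isPrime x
  letI : Algebra A ((Spec (CommRingCat.of A)).presheaf.stalk x) :=
    StructureSheaf.stalkAlgebra (R := A) x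
  haveI : IsLocalization.AtPrime ((Spec (CommRingCat.of A)).presheaf.stalk x) x.asIdeal :=
    StructureSheaf.IsLocalization.to_stalk (R := A) x
  haveI hprime : (x.asIdeal.map (Ideal.Quotient.mk
      ((IsLocalRing.maximalIdeal C).map (algebraMap C A)))).IsPrime := by
    refine Ideal.map_isPrime_of_surjective Ideal.Quotient.mk_surjective ?_
    rw [Ideal.mk_ker]
    exact Groth.Agent.Lib.Helper29.FlatHartogs.map_maximalIdeal_le C A x.asIdeal
  let xbar : Spec (CommRingCat.of (A ⧸ (IsLocalRing.maximalIdeal C).map (algebraMap C A))) :=
    ⟨x.asIdeal.map (Ideal.Quotient.mk ((IsLocalRing.maximalIdeal C).map (algebraMap C A))),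
      hprime⟩
  letI : Algebra (A ⧸ (IsLocalRing.maximalIdeal C).map (algebraMap C A))
      ((Spec (CommRingCat.of (A ⧸ (IsLocalRing.maximalIdeal C).map
        (algebraMap C A)))).presheaf.stalk xbar) :=
    StructureSheaf.stalkAlgebra (R := A ⧸ (IsLocalRing.maximalIdeal C).map (algebraMap C A)) xbar
  haveI : IsLocalization.AtPrime
      ((Spec (CommRingCat.of (A ⧸ (IsLocalRing.maximalIdeal C).map
        (algebraMap C A)))).presheaf.stalk xbar)
      (x.asIdeal.map (Ideal.Quotient.mk ((IsLocalRing.maximalIdeal C).map (algebraMap C A)))) :=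
    StructureSheaf.IsLocalization.to_stalk
      (R := A ⧸ (IsLocalRing.maximalIdeal C).map (algebraMap C A)) xbar
  obtain ⟨hd, hic⟩ := hnorm xbar
  exact Groth.Agent.Lib.Helper29.FlatHartogs.two_le_depth C A x.asIdeal (hU x hx)
    ((Spec (CommRingCat.of A)).presheaf.stalk x)
    ((Spec (CommRingCat.of (A ⧸ (IsLocalRing.maximalIdeal C).map
      (algebraMap C A)))).presheaf.stalk xbar)

end Groth.Agent.S11462
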