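import Groth.Statements.S11467
import Groth.Agent.Lib.Helper9.ObsRing
-- import your own Groth.Agent.* helpers here

set_option autoImplicit false
universe u
open DefT

open Groth.Agent.Lib.Helper9

namespace Groth.Agent.S11467

/-- Let P be a regular local k-algebra with residue field k, I ⊆ m_P² an ideal (so that dim P is the
embedding dimension of A = P/I), and suppose A has an obstruction theory whose obstruction space is
a finite-dimensional k-vector space V (obstructions in V ⊗ J attached to k-algebra maps A → C'/J for
small extensions of local Artinian k-algebras with residue field k, vanishing exactly when the map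
lifts, functorial in quotients of C'). Then dim A ≥ dim P − dim_k V; and if equality holds, I is
generated by dim P − dim A elements, so A is a local complete intersection in P. -/
theorem result (k : Type u) [Field k]
    (P : Type u) [CommRing P] [IsRegularLocalRing P] [Algebra k P]
    (hres : Function.Surjective (algebraMap k (IsLocalRing.ResidueField P)))
    (I : Ideal P) (hI : I ≤ IsLocalRing.maximalIdeal P ^ 2)
    (V : Type u) [AddCommGroup V] [Module k V] [Module.Finite k V]
    (T : W4bk4hartshdef114.ObsTheory k (P ⧸ I) V) :
    ringKrullDim P ≤ ringKrullDim (P ⧸ I) + (Module.finrank k V : WithBot ℕ∞) ∧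
      (ringKrullDim (P ⧸ I) + (Module.finrank k V : WithBot ℕ∞) = ringKrullDim P →
        ∃ s : Finset P, Ideal.span (s : Set P) = I ∧
          ringKrullDim (P ⧸ I) + (s.card : WithBot ℕ∞) = ringKrullDim P) := by
  classical
  obtain ⟨g, hg⟩ := exists_generators_of_obsTheory_ring P hres I hI V T
  let s : Finset P := Finset.image g Finset.univ
  have hscard : s.card ≤ Module.finrank k V := by
    refine (Finset.card_image_le).trans ?_
    rw [Finset.card_univ, Fintype.card_fin]
  have hscoe : (s : Set P) = Set.range g := by
    rw [Finset.coe_image, Finset.coe_univ, Set.image_univ]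
  have hspan : Ideal.span (s : Set P) = I := by
    rw [hscoe]; exact hg
  have hIm : I ≤ IsLocalRing.maximalIdeal P :=
    hI.trans (Ideal.pow_le_self (by norm_num))
  have hjac : IsLocalRing.maximalIdeal P ≤ Ring.jacobson P := by
    rw [Ring.jacobson_eq_sInf_isMaximal]
    exact le_sInf fun M hM => (IsLocalRing.eq_maximalIdeal hM).ge
  have hsjac : (s : Set P) ⊆ Ring.jacobson P := by
    intro x hx
    apply hjac
    apply hIm
    rw [← hspan]
    exact Ideal.subset_span hx
  have h5 := ringKrullDim_le_ringKrullDim_quotient_add_card s hsjac
  rw [hspan] at h5
  have hcard : ((s.card : ℕ) : WithBot ℕ∞) ≤ ((Module.finrank k V : ℕ) : WithBot ℕ∞) := by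
    exact_mod_cast hscard
  refine ⟨h5.trans (add_le_add_right hcard _), fun heq => ⟨s, hspan, ?_⟩⟩
  apply le_antisymm
  · rw [← heq]
    exact add_le_add_right hcard _
  · exact h5

end Groth.Agent.S11467
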