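import Groth.Statements.S11470
import Mathlib
-- import your own Groth.Agent.* helpers here

set_option autoImplicit false
universe u
open Curves

namespace Groth.Agent.S11470

section fieldlemmas
variable {F : Type*} [Field F]

/-- the function `(x² - x + 1)³ / (x² (x-1)²)` -/
noncomputable def Jf (x : F) : F := (x ^ 2 - x + 1) ^ 3 / (x ^ 2 * (x - 1) ^ 2)

lemma Jf_rel (x : F) (h0 : x ≠ 0) (h1 : x - 1 ≠ 0) :
    x ^ 6 = 3 * x ^ 5 - (6 - Jf x) * x ^ 4 + (7 - 2 * Jf x) * x ^ 3 - (6 - Jf x) * x ^ 2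
      + 3 * x - 1 := by
  unfold Jf; field_simp; ring

lemma inv_eq (x : F) (h0 : x ≠ 0) (h1 : x - 1 ≠ 0) :
    x⁻¹ = -(x ^ 5 - 3 * x ^ 4 + (6 - Jf x) * x ^ 3 - (7 - 2 * Jf x) * x ^ 2 + (6 - Jf x) * x - 3) := by
  have h := Jf_rel x h0 h1
  exact inv_eq_of_mul_eq_one_right (by linear_combination (-1 : F) * h)

lemma Jf_inv (x : F) (h0 : x ≠ 0) (h1 : x - 1 ≠ 0) (h2 : 1 - x ≠ 0) : Jf x⁻¹ = Jf x := by
  unfold Jf; field_simp; ring

lemma Jf_one_sub (x : F) : Jf (1 - x) = Jf x := by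
  unfold Jf
  congr 1 <;> ring

lemma map_Jf {F' : Type*} [Field F'] (f : F →+* F') (x : F) : f (Jf x) = Jf (f x) := by
  simp [Jf, map_div₀, map_pow, map_mul, map_sub, map_add]

lemma psum1 (x : F) (h0 : x ≠ 0) (h1 : x - 1 ≠ 0) (h2 : 1 - x ≠ 0) :
    x + x⁻¹ + (1 - x) + (x - 1) / x + (1 - x)⁻¹ + x / (x - 1) = 3 := by
  field_simp; ring

lemma psum2 (x : F) (h0 : x ≠ 0) (h1 : x - 1 ≠ 0) (h2 : 1 - x ≠ 0) :
    x ^ 2 + x⁻¹ ^ 2 + (1 - x) ^ 2 + ((x - 1) / x) ^ 2 + (1 - x)⁻¹ ^ 2 + (x / (x - 1)) ^ 2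
      = 2 * Jf x - 3 := by
  unfold Jf; field_simp; ring

lemma psum3 (x : F) (h0 : x ≠ 0) (h1 : x - 1 ≠ 0) (h2 : 1 - x ≠ 0) :
    x ^ 3 + x⁻¹ ^ 3 + (1 - x) ^ 3 + ((x - 1) / x) ^ 3 + (1 - x)⁻¹ ^ 3 + (x / (x - 1)) ^ 3
      = 3 * Jf x - 6 := by
  unfold Jf; field_simp; ring

lemma psum4 (x : F) (h0 : x ≠ 0) (h1 : x - 1 ≠ 0) (h2 : 1 - x ≠ 0) :
    x ^ 4 + x⁻¹ ^ 4 + (1 - x) ^ 4 + ((x - 1) / x) ^ 4 + (1 - x)⁻¹ ^ 4 + (x / (x - 1)) ^ 4
      = 2 * Jf x ^ 2 - 8 * Jf x - 3 := by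
  unfold Jf; field_simp; ring

lemma psum5 (x : F) (h0 : x ≠ 0) (h1 : x - 1 ≠ 0) (h2 : 1 - x ≠ 0) :
    x ^ 5 + x⁻¹ ^ 5 + (1 - x) ^ 5 + ((x - 1) / x) ^ 5 + (1 - x)⁻¹ ^ 5 + (x / (x - 1)) ^ 5
      = 5 * Jf x ^ 2 - 25 * Jf x + 3 := by
  unfold Jf; field_simp; ring

end fieldlemmas

section good
variable {k F : Type*} [Field k] [Field F] [Algebra k F]

/-- `y` is an `R`-combination of `1, x, …, x⁵` -/
def Good (R : Subalgebra k F) (x y : F) : Prop :=
  ∃ c0 ∈ R, ∃ c1 ∈ R, ∃ c2 ∈ R, ∃ c3 ∈ R, ∃ c4 ∈ R, ∃ c5 ∈ R,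
    y = c0 + c1 * x + c2 * x ^ 2 + c3 * x ^ 3 + c4 * x ^ 4 + c5 * x ^ 5

variable {R : Subalgebra k F} {x : F}

lemma good_of_mem {c : F} (hc : c ∈ R) : Good R x c :=
  ⟨c, hc, 0, R.zero_mem, 0, R.zero_mem, 0, R.zero_mem, 0, R.zero_mem, 0, R.zero_mem, by ring⟩

lemma good_add {y z : F} (h1 : Good R x y) (h2 : Good R x z) : Good R x (y + z) := by
  obtain ⟨a0, ha0, a1, ha1, a2, ha2, a3, ha3, a4, ha4, a5, ha5, rfl⟩ := h1
  obtain ⟨b0, hb0, b1, hb1, b2, hb2, b3, hb3, b4, hb4, b5, hb5, rfl⟩ := h2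
  exact ⟨a0 + b0, R.add_mem ha0 hb0, a1 + b1, R.add_mem ha1 hb1, a2 + b2, R.add_mem ha2 hb2,
    a3 + b3, R.add_mem ha3 hb3, a4 + b4, R.add_mem ha4 hb4, a5 + b5, R.add_mem ha5 hb5, by ring⟩

lemma good_smul {c y : F} (hc : c ∈ R) (h1 : Good R x y) : Good R x (c * y) := by
  obtain ⟨a0, ha0, a1, ha1, a2, ha2, a3, ha3, a4, ha4, a5, ha5, rfl⟩ := h1
  exact ⟨c * a0, R.mul_mem hc ha0, c * a1, R.mul_mem hc ha1, c * a2, R.mul_mem hc ha2,
    c * a3, R.mul_mem hc ha3, c * a4, R.mul_mem hc ha4, c * a5, R.mul_mem hc ha5, by ring⟩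

lemma good_neg {y : F} (h1 : Good R x y) : Good R x (-y) := by
  have h := good_smul (c := -1) (R.neg_mem R.one_mem) h1
  rwa [neg_one_mul] at h

lemma num_mem (R : Subalgebra k F) (n : ℕ) : (n : F) ∈ R := natCast_mem R n

lemma good_mulx (h0 : x ≠ 0) (h1 : x - 1 ≠ 0) (hJ : Jf x ∈ R) {y : F} (h : Good R x y) :
    Good R x (x * y) := by
  obtain ⟨c0, hc0, c1, hc1, c2, hc2, c3, hc3, c4, hc4, c5, hc5, rfl⟩ := h
  have m3 : (3 : F) ∈ R := by simpa using num_mem R 3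
  have m6 : (6 : F) ∈ R := by simpa using num_mem R 6
  have m7 : (7 : F) ∈ R := by simpa using num_mem R 7
  have m2 : (2 : F) ∈ R := by simpa using num_mem R 2
  refine ⟨-c5, R.neg_mem hc5, c0 + 3 * c5, R.add_mem hc0 (R.mul_mem m3 hc5),
    c1 - (6 - Jf x) * c5, R.sub_mem hc1 (R.mul_mem (R.sub_mem m6 hJ) hc5),
    c2 + (7 - 2 * Jf x) * c5, R.add_mem hc2 (R.mul_mem (R.sub_mem m7 (R.mul_mem m2 hJ)) hc5),
    c3 - (6 - Jf x) * c5, R.sub_mem hc3 (R.mul_mem (R.sub_mem m6 hJ) hc5),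
    c4 + 3 * c5, R.add_mem hc4 (R.mul_mem m3 hc5), ?_⟩
  linear_combination c5 * Jf_rel x h0 h1

lemma good_inv_of (z : F) (hz0 : z ≠ 0) (hz1 : z - 1 ≠ 0) (hJz : Jf z ∈ R)
    (hmul : ∀ y, Good R x y → Good R x (z * y)) (y : F) (hy : Good R x y) :
    Good R x (z⁻¹ * y) := by
  have m3 : (3 : F) ∈ R := by simpa using num_mem R 3
  have m6 : (6 : F) ∈ R := by simpa using num_mem R 6
  have m7 : (7 : F) ∈ R := by simpa using num_mem R 7
  have m2 : (2 : F) ∈ R := by simpa using num_mem R 2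
  have g1 := hmul y hy
  have g2 := hmul _ g1
  have g3 := hmul _ g2
  have g4 := hmul _ g3
  have g5 := hmul _ g4
  have e : z⁻¹ * y = -(z * (z * (z * (z * (z * y))))) + 3 * (z * (z * (z * (z * y))))
      + (-(6 - Jf z)) * (z * (z * (z * y))) + (7 - 2 * Jf z) * (z * (z * y))
      + (-(6 - Jf z)) * (z * y) + 3 * y := by
    rw [inv_eq z hz0 hz1]; ring
  rw [e]
  exact good_add (good_add (good_add (good_add (good_add (good_neg g5) (good_smul m3 g4))
    (good_smul (R.neg_mem (R.sub_mem m6 hJz)) g3))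
    (good_smul (R.sub_mem m7 (R.mul_mem m2 hJz)) g2))
    (good_smul (R.neg_mem (R.sub_mem m6 hJz)) g1)) (good_smul m3 hy)

end good

/-- The algebraic step of its proof: Fix an algebraically closed field k whose characteristic is neither
2 nor 3, let B ⊆ k(λ) be the k-subalgebra generated by λ, λ⁻¹ and (λ - 1)⁻¹ (the coordinate ring of
the λ-line with 0 and 1 removed), and let σ and τ be the k-algebra automorphisms of k(λ) determined
by σ(λ) = λ⁻¹ and τ(λ) = 1 - λ (they generate the group of order six permuting λ, 1/λ, 1-λ, 1/(1-λ),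
λ/(λ-1), (λ-1)/λ). Then the elements of B fixed by σ and τ are exactly the elements of the
k-subalgebra generated by j = 256 (λ² - λ + 1)³ / (λ² (λ - 1)²); in other words the ring of
invariants of B is the polynomial ring k[j]. -/
theorem result (k : Type u) [Field k] [IsAlgClosed k]
    (h2 : (2 : k) ≠ 0) (h3 : (3 : k) ≠ 0)
    (σ τ : RatFunc k ≃ₐ[k] RatFunc k) (hσ : σ RatFunc.X = (RatFunc.X : RatFunc k)⁻¹)
    (hτ : τ RatFunc.X = 1 - (RatFunc.X : RatFunc k)) (b : RatFunc k) :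
    (b ∈ Algebra.adjoin k ({RatFunc.X, (RatFunc.X : RatFunc k)⁻¹, ((RatFunc.X : RatFunc k) - 1)⁻¹} : Set (RatFunc k)) ∧
        σ b = b ∧ τ b = b) ↔
      b ∈ Algebra.adjoin k ({(256 : RatFunc k) * ((RatFunc.X : RatFunc k) ^ 2 - RatFunc.X + 1) ^ 3 /
        ((RatFunc.X : RatFunc k) ^ 2 * ((RatFunc.X : RatFunc k) - 1) ^ 2)} : Set (RatFunc k)) := by
  set x : RatFunc k := RatFunc.X with hxdef
  have h0 : x ≠ 0 := RatFunc.X_ne_zero
  have hp : (Polynomial.X - 1 : Polynomial k) ≠ 0 := by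
    simpa using Polynomial.X_sub_C_ne_zero (1 : k)
  have h1 : x - 1 ≠ 0 := by
    intro h
    apply hp
    apply RatFunc.algebraMap_injective k
    rw [map_sub, RatFunc.algebraMap_X, map_one, map_zero]
    exact h
  have h2' : 1 - x ≠ 0 := by
    intro h
    apply h1
    rw [← neg_sub, h, neg_zero]
  have h256k : (256 : k) ≠ 0 := by
    have : (256 : k) = 2 ^ 8 := by norm_num
    rw [this]; exact pow_ne_zero 8 h2
  have h6k : (6 : k) ≠ 0 := by
    have : (6 : k) = 2 * 3 := by norm_num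
    rw [this]; exact mul_ne_zero h2 h3
  have hj : (256 : RatFunc k) * (x ^ 2 - x + 1) ^ 3 / (x ^ 2 * (x - 1) ^ 2) = 256 * Jf x := by
    unfold Jf; rw [mul_div_assoc]
  rw [hj]
  -- values of the automorphisms
  have hσJ : σ (Jf x) = Jf x := by
    have e' : σ (Jf x) = Jf (σ x) := map_Jf (σ : RatFunc k →+* RatFunc k) x
    rw [e', hσ, Jf_inv x h0 h1 h2']
  have hτJ : τ (Jf x) = Jf x := by
    have e' : τ (Jf x) = Jf (τ x) := map_Jf (τ : RatFunc k →+* RatFunc k) x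
    rw [e', hτ, Jf_one_sub]
  have hσ1x : σ (1 - x) = (x - 1) / x := by
    rw [map_sub, map_one, hσ]; field_simp
  have hτxinv : τ x⁻¹ = (1 - x)⁻¹ := by
    rw [map_inv₀, hτ]
  have hσ1xinv : σ (1 - x)⁻¹ = x / (x - 1) := by
    rw [map_inv₀, hσ1x, inv_div]
  -- the subalgebra generated by j
  obtain ⟨R, hRdef⟩ : ∃ R : Subalgebra k (RatFunc k),
      R = Algebra.adjoin k ({(256 : RatFunc k) * Jf x} : Set (RatFunc k)) := ⟨_, rfl⟩
  rw [← hRdef]
  have hjR : (256 : RatFunc k) * Jf x ∈ R := by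
    rw [hRdef]; exact Algebra.subset_adjoin rfl
  have hJR : Jf x ∈ R := by
    have e : Jf x = algebraMap k (RatFunc k) (256⁻¹) * ((256 : RatFunc k) * Jf x) := by
      rw [← mul_assoc, show (256 : RatFunc k) = algebraMap k (RatFunc k) 256 from
        (map_ofNat _ 256).symm, ← map_mul, inv_mul_cancel₀ h256k, map_one, one_mul]
    rw [e]
    exact R.mul_mem (R.algebraMap_mem _) hjR
  have hRσ : ∀ c ∈ R, σ c = c := by
    intro c hc
    rw [hRdef] at hc
    induction hc using Algebra.adjoin_induction with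
    | mem z hz =>
      rw [Set.mem_singleton_iff] at hz
      subst hz
      rw [map_mul, map_ofNat, hσJ]
    | algebraMap a => exact σ.commutes a
    | add u v _ _ hu hv => rw [map_add, hu, hv]
    | mul u v _ _ hu hv => rw [map_mul, hu, hv]
  have hRτ : ∀ c ∈ R, τ c = c := by
    intro c hc
    rw [hRdef] at hc
    induction hc using Algebra.adjoin_induction with
    | mem z hz =>
      rw [Set.mem_singleton_iff] at hz
      subst hz
      rw [map_mul, map_ofNat, hτJ]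
    | algebraMap a => exact τ.commutes a
    | add u v _ _ hu hv => rw [map_add, hu, hv]
    | mul u v _ _ hu hv => rw [map_mul, hu, hv]
  constructor
  · rintro ⟨hbB, hσb, hτb⟩
    -- every element of B is an R-combination of 1, x, ..., x^5
    have hmulx : ∀ y, Good R x y → Good R x (x * y) := fun y hy => good_mulx h0 h1 hJR hy
    have hmul1x : ∀ y, Good R x y → Good R x ((1 - x) * y) := by
      intro y hy
      have e : (1 - x) * y = y + -(x * y) := by ring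
      rw [e]
      exact good_add hy (good_neg (hmulx y hy))
    have hinvx : ∀ y, Good R x y → Good R x (x⁻¹ * y) :=
      good_inv_of x h0 h1 hJR hmulx
    have hinv1x : ∀ y, Good R x y → Good R x ((1 - x)⁻¹ * y) := by
      apply good_inv_of (1 - x) h2' _ _ hmul1x
      · intro h
        apply h0
        have e : x = -((1 - x) - 1) := by ring
        rw [e, h, neg_zero]
      · rw [Jf_one_sub]; exact hJR
    have key : ∀ b ∈ Algebra.adjoin k ({x, x⁻¹, (x - 1)⁻¹} : Set (RatFunc k)),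
        ∀ y, Good R x y → Good R x (b * y) := by
      intro b hb
      induction hb using Algebra.adjoin_induction with
      | mem z hz =>
        simp only [Set.mem_insert_iff, Set.mem_singleton_iff] at hz
        rcases hz with rfl | rfl | rfl
        · exact hmulx
        · exact hinvx
        · intro y hy
          have e : (x - 1)⁻¹ * y = -((1 - x)⁻¹ * y) := by
            rw [← neg_sub 1 x, inv_neg]; ring
          rw [e]
          exact good_neg (hinv1x y hy)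
      | algebraMap a =>
        intro y hy
        exact good_smul (R.algebraMap_mem a) hy
      | add u v _ _ hu hv =>
        intro y hy
        rw [add_mul]
        exact good_add (hu y hy) (hv y hy)
      | mul u v _ _ hu hv =>
        intro y hy
        rw [mul_assoc]
        exact hu _ (hv y hy)
    have hgood : Good R x b := by
      have h := key b hbB 1 (good_of_mem R.one_mem)
      rwa [mul_one] at h
    obtain ⟨c0, hc0, c1, hc1, c2, hc2, c3, hc3, c4, hc4, c5, hc5, hb⟩ := hgood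
    have e1 : σ b = c0 + c1 * x⁻¹ + c2 * x⁻¹ ^ 2 + c3 * x⁻¹ ^ 3 + c4 * x⁻¹ ^ 4 + c5 * x⁻¹ ^ 5 := by
      rw [hb]
      simp only [map_add, map_mul, map_pow, hRσ c0 hc0, hRσ c1 hc1, hRσ c2 hc2, hRσ c3 hc3,
        hRσ c4 hc4, hRσ c5 hc5, hσ]
    have e2 : τ b = c0 + c1 * (1 - x) + c2 * (1 - x) ^ 2 + c3 * (1 - x) ^ 3 + c4 * (1 - x) ^ 4
        + c5 * (1 - x) ^ 5 := by
      rw [hb]
      simp only [map_add, map_mul, map_pow, hRτ c0 hc0, hRτ c1 hc1, hRτ c2 hc2, hRτ c3 hc3,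
        hRτ c4 hc4, hRτ c5 hc5, hτ]
    have e3 : σ (τ b) = c0 + c1 * ((x - 1) / x) + c2 * ((x - 1) / x) ^ 2 + c3 * ((x - 1) / x) ^ 3
        + c4 * ((x - 1) / x) ^ 4 + c5 * ((x - 1) / x) ^ 5 := by
      rw [e2]
      simp only [map_add, map_mul, map_pow, hRσ c0 hc0, hRσ c1 hc1, hRσ c2 hc2, hRσ c3 hc3,
        hRσ c4 hc4, hRσ c5 hc5, hσ1x]
    have e4 : τ (σ b) = c0 + c1 * (1 - x)⁻¹ + c2 * (1 - x)⁻¹ ^ 2 + c3 * (1 - x)⁻¹ ^ 3
        + c4 * (1 - x)⁻¹ ^ 4 + c5 * (1 - x)⁻¹ ^ 5 := by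
      rw [e1]
      simp only [map_add, map_mul, map_pow, hRτ c0 hc0, hRτ c1 hc1, hRτ c2 hc2, hRτ c3 hc3,
        hRτ c4 hc4, hRτ c5 hc5, hτxinv]
    have e5 : σ (τ (σ b)) = c0 + c1 * (x / (x - 1)) + c2 * (x / (x - 1)) ^ 2
        + c3 * (x / (x - 1)) ^ 3 + c4 * (x / (x - 1)) ^ 4 + c5 * (x / (x - 1)) ^ 5 := by
      rw [e4]
      simp only [map_add, map_mul, map_pow, hRσ c0 hc0, hRσ c1 hc1, hRσ c2 hc2, hRσ c3 hc3,
        hRσ c4 hc4, hRσ c5 hc5, hσ1xinv]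
    have h6b : b + σ b + τ b + σ (τ b) + τ (σ b) + σ (τ (σ b)) = 6 * b := by
      rw [hσb, hτb, hσb]; ring
    have hsum : 6 * b = 6 * c0 + c1 * 3 + c2 * (2 * Jf x - 3) + c3 * (3 * Jf x - 6)
        + c4 * (2 * Jf x ^ 2 - 8 * Jf x - 3) + c5 * (5 * Jf x ^ 2 - 25 * Jf x + 3) := by
      linear_combination (-1 : RatFunc k) * h6b + hb + e1 + e2 + e3 + e4 + e5
        + c1 * psum1 x h0 h1 h2' + c2 * psum2 x h0 h1 h2' + c3 * psum3 x h0 h1 h2'
        + c4 * psum4 x h0 h1 h2' + c5 * psum5 x h0 h1 h2'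
    have m3 : (3 : RatFunc k) ∈ R := by simpa using num_mem R 3
    have m6 : (6 : RatFunc k) ∈ R := by simpa using num_mem R 6
    have m2 : (2 : RatFunc k) ∈ R := by simpa using num_mem R 2
    have m8 : (8 : RatFunc k) ∈ R := by simpa using num_mem R 8
    have m5 : (5 : RatFunc k) ∈ R := by simpa using num_mem R 5
    have m25 : (25 : RatFunc k) ∈ R := by simpa using num_mem R 25
    have h6bR : 6 * b ∈ R := by
      rw [hsum]
      exact R.add_mem (R.add_mem (R.add_mem (R.add_mem (R.add_mem (R.mul_mem m6 hc0)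
        (R.mul_mem hc1 m3)) (R.mul_mem hc2 (R.sub_mem (R.mul_mem m2 hJR) m3)))
        (R.mul_mem hc3 (R.sub_mem (R.mul_mem m3 hJR) m6)))
        (R.mul_mem hc4 (R.sub_mem (R.sub_mem (R.mul_mem m2 (pow_mem hJR 2)) (R.mul_mem m8 hJR)) m3)))
        (R.mul_mem hc5 (R.add_mem (R.sub_mem (R.mul_mem m5 (pow_mem hJR 2)) (R.mul_mem m25 hJR)) m3))
    have e : b = algebraMap k (RatFunc k) (6⁻¹) * ((6 : RatFunc k) * b) := by
      rw [← mul_assoc, show (6 : RatFunc k) = algebraMap k (RatFunc k) 6 from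
        (map_ofNat _ 6).symm, ← map_mul, inv_mul_cancel₀ h6k, map_one, one_mul]
    rw [e]
    exact R.mul_mem (R.algebraMap_mem _) h6bR
  · intro hb
    refine ⟨?_, hRσ b hb, hRτ b hb⟩
    have hle : R ≤ Algebra.adjoin k ({x, x⁻¹, (x - 1)⁻¹} : Set (RatFunc k)) := by
      rw [hRdef]
      apply Algebra.adjoin_le
      intro z hz
      rw [Set.mem_singleton_iff] at hz
      subst hz
      have hx : x ∈ Algebra.adjoin k ({x, x⁻¹, (x - 1)⁻¹} : Set (RatFunc k)) :=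
        Algebra.subset_adjoin (by simp)
      have hxi : x⁻¹ ∈ Algebra.adjoin k ({x, x⁻¹, (x - 1)⁻¹} : Set (RatFunc k)) :=
        Algebra.subset_adjoin (by simp)
      have hx1i : (x - 1)⁻¹ ∈ Algebra.adjoin k ({x, x⁻¹, (x - 1)⁻¹} : Set (RatFunc k)) :=
        Algebra.subset_adjoin (by simp)
      have e : (256 : RatFunc k) * Jf x =
          algebraMap k (RatFunc k) 256 * ((x ^ 2 - x + 1) ^ 3 * (x⁻¹ ^ 2 * (x - 1)⁻¹ ^ 2)) := by
        unfold Jf
        rw [map_ofNat, div_eq_mul_inv, mul_inv, ← inv_pow, ← inv_pow]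
      rw [SetLike.mem_coe, e]
      exact Subalgebra.mul_mem _ (Subalgebra.algebraMap_mem _ _)
        (Subalgebra.mul_mem _ (pow_mem (Subalgebra.add_mem _ (Subalgebra.sub_mem _ (pow_mem hx 2) hx)
          (Subalgebra.one_mem _)) 3) (Subalgebra.mul_mem _ (pow_mem hxi 2) (pow_mem hx1i 2)))
    exact hle hb

end Groth.Agent.S11470
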