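import Groth.Statements.S1148
import Mathlib
-- import your own Groth.Agent.* helpers here

set_option autoImplicit false
universe u
open Desc

namespace Groth.Agent.S1148

/-- Affine form (finiteness of irreducible components of quasi-compact opens is fppf local; this is the
ascent direction for a morphism of affine schemes). Let A → B be a flat ring map of finite
presentation. If Spec A has finitely many irreducible components, then so does Spec B. -/
theorem result (A B : Type u) [CommRing A] [CommRing B] [Algebra A B]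
    [Module.Flat A B] [Algebra.FinitePresentation A B] (h : (irreducibleComponents (PrimeSpectrum A)).Finite) :
    (irreducibleComponents (PrimeSpectrum B)).Finite := by
  classical
  have key : ∀ (R : Type u) [CommRing R],
      (irreducibleComponents (PrimeSpectrum R)).Finite ↔ (minimalPrimes R).Finite := by
    intro R _
    have e := (minimalPrimes.equivIrreducibleComponents R).toEquiv.trans OrderDual.ofDual
    exact ⟨fun hf => (Equiv.finite_iff e).2 hf, fun hf => (Equiv.finite_iff e).1 hf⟩
  rw [key] at h ⊢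
  -- the finite set of minimal primes of `A`, as points
  let MA : Set (PrimeSpectrum A) := {p | p.asIdeal ∈ minimalPrimes A}
  have hMA : MA.Finite := by
    refine Set.Finite.of_finite_image (f := PrimeSpectrum.asIdeal) (h.subset ?_) ?_
    · rintro _ ⟨p, hp, rfl⟩; exact hp
    · intro p _ q _ hpq; exact PrimeSpectrum.ext hpq
  -- the minimal primes in each fibre
  let F : PrimeSpectrum A → Set (Ideal B) := fun p =>
    (fun Q : PrimeSpectrum (p.asIdeal.Fiber B) =>
      Q.asIdeal.comap (Algebra.TensorProduct.includeRight : B →ₐ[A] p.asIdeal.Fiber B)) ''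
      {Q | Q.asIdeal ∈ minimalPrimes (p.asIdeal.Fiber B)}
  have hF : ∀ p, (F p).Finite := by
    intro p
    have hft : Algebra.FiniteType p.asIdeal.ResidueField (p.asIdeal.Fiber B) := inferInstance
    have hN : IsNoetherianRing (p.asIdeal.Fiber B) :=
      Algebra.FiniteType.isNoetherianRing p.asIdeal.ResidueField _
    have h1 : (minimalPrimes (p.asIdeal.Fiber B)).Finite :=
      minimalPrimes.finite_of_isNoetherianRing _
    have h2 : {Q : PrimeSpectrum (p.asIdeal.Fiber B) |
        Q.asIdeal ∈ minimalPrimes (p.asIdeal.Fiber B)}.Finite := by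
      refine Set.Finite.of_finite_image (f := PrimeSpectrum.asIdeal) (h1.subset ?_) ?_
      · rintro _ ⟨Q, hQ, rfl⟩; exact hQ
      · intro Q _ Q' _ hQQ'; exact PrimeSpectrum.ext hQQ'
    exact h2.image _
  refine ((hMA.biUnion (fun p _ => hF p)).subset ?_)
  intro q hq
  have hqp : q.IsPrime := hq.1.1
  -- `p = q ∩ A` is a minimal prime of `A`
  let p : Ideal A := q.under A
  have hpp : p.IsPrime := inferInstance
  have hlo : q.LiesOver p := ⟨rfl⟩
  have hpmin : p ∈ minimalPrimes A := by
    obtain ⟨p', hp'min, hp'le⟩ := Ideal.exists_minimalPrimes_le (I := (⊥ : Ideal A)) (J := p) bot_le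
    have hp'p : p'.IsPrime := hp'min.1.1
    obtain ⟨q', hq'le, hq'p, hq'lo⟩ := Ideal.exists_ideal_le_liesOver_of_le (p := p') (q := p) q hp'le
    have hqq' : q ≤ q' := hq.2 ⟨hq'p, bot_le⟩ hq'le
    have : q' = q := le_antisymm hq'le hqq'
    have hpp' : p' = p := by
      rw [hq'lo.over, this]
    rw [← hpp']
    exact hp'min
  refine Set.mem_biUnion (x := (⟨p, hpp⟩ : PrimeSpectrum A)) hpmin ?_
  let iso := PrimeSpectrum.primesOverOrderIsoFiber A B p
  let q₀ : p.primesOver B := ⟨q, ⟨hqp, hlo⟩⟩
  let Q := iso q₀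
  refine ⟨Q, ?_, ?_⟩
  · refine ⟨⟨Q.2, bot_le⟩, ?_⟩
    intro Q' hQ' hle
    let Q'' : PrimeSpectrum (p.Fiber B) := ⟨Q', hQ'.1⟩
    have h1 : Q'' ≤ Q := hle
    have h2 : iso.symm Q'' ≤ iso.symm Q := iso.symm.monotone h1
    rw [OrderIso.symm_apply_apply] at h2
    have h3 : (iso.symm Q'').1 ≤ q := h2
    have h4 : q ≤ (iso.symm Q'').1 := hq.2 ⟨(iso.symm Q'').2.1, bot_le⟩ h3
    have h5 : iso.symm Q'' = q₀ := Subtype.ext (le_antisymm h3 h4)
    have h6 : Q'' = Q := by
      rw [← iso.apply_symm_apply Q'', h5]
    exact (congrArg PrimeSpectrum.asIdeal h6).ge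
  · have h1 := PrimeSpectrum.coe_primesOverOrderIsoFiber_symm_apply (R := A) (S := B) (p := p) Q
    rw [OrderIso.symm_apply_apply] at h1
    exact h1.symm

end Groth.Agent.S1148
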