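import Groth.Statements.S11484
import Groth.Agent.Lib.Helper77.TwEx
import Groth.Agent.Lib.Cohomology.helper5_HHLES
import Groth.Agent.Lib.Cohomology.Helper1_SerreCrit
import Groth.Agent.Lib.Helper32.SectFree
import Groth.Agent.S0844

set_option autoImplicit false
universe u
open VBPn

namespace Groth.Agent.S11484

open CategoryTheory CategoryTheory.Limits AlgebraicGeometry in
/-- a short exact sequence whose third term is `≅ O` and whose first term has no `H¹` has a section -/
theorem exists_section_of_iso_unit {X : Scheme.{u}} (S : ShortComplex X.Modules) (hS : S.ShortExact)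
    (e : S.X₃ ≅ Coh.structureModule X) (h : Subsingleton (Coh.HH X S.X₁ 1)) :
    ∃ σ : S.X₃ ⟶ S.X₂, σ ≫ S.g = 𝟙 _ := by
  let S' : ShortComplex X.Modules := ShortComplex.mk S.f (S.g ≫ e.hom)
    (by rw [← Category.assoc, S.zero, zero_comp])
  have hS' : S'.ShortExact :=
    ShortComplex.shortExact_of_iso
      (show S ≅ S' from ShortComplex.isoMk (Iso.refl _) (Iso.refl _) e (by simp [S']) (by simp [S'])) hS
  have hsurj := Groth.Agent.Lib.Cohomology.SerreCrit.surjective_app_top_of_H1 S' hS' h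
  obtain ⟨s0, hs0⟩ := hsurj (1 : X.ringCatSheaf.obj.obj (Opposite.op ⊤))
  have hT : Limits.IsTerminal (⊤ : X.Opens) := Limits.isTerminalTop
  obtain ⟨s, hs⟩ : ∃ s : Coh.structureModule X ⟶ S.X₂, s.val.app (Opposite.op ⊤)
      (1 : X.ringCatSheaf.obj.obj (Opposite.op ⊤)) = s0 :=
    (Groth.Agent.Lib.Helper32.SectFree.unit_ev_bijective hT S.X₂).2 s0
  have hsg : s ≫ S.g ≫ e.hom = 𝟙 _ := by
    apply (Groth.Agent.Lib.Helper32.SectFree.unit_ev_bijective hT (Coh.structureModule X)).1
    change (S.g ≫ e.hom).val.app (Opposite.op ⊤) (s.val.app (Opposite.op ⊤)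
      (1 : X.ringCatSheaf.obj.obj (Opposite.op ⊤))) =
      (1 : X.ringCatSheaf.obj.obj (Opposite.op ⊤))
    have hs' : s.val.app (Opposite.op ⊤) (1 : X.ringCatSheaf.obj.obj (Opposite.op ⊤)) = s0 := hs
    rw [hs']
    exact hs0
  refine ⟨e.hom ≫ s, ?_⟩
  have : (e.hom ≫ s) ≫ S.g = e.hom ≫ (s ≫ S.g ≫ e.hom) ≫ e.inv := by
    simp only [Category.assoc, Iso.hom_inv_id, Category.comp_id]
  rw [this, hsg, Category.id_comp, Iso.hom_inv_id]

open CategoryTheory CategoryTheory.Limits AlgebraicGeometry in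
/-- Let k be an algebraically closed field of characteristic zero and n ≥ 2. On P^n_k every short exact
sequence of O-modules whose first term is isomorphic to O(a) and whose third term is isomorphic to
O(b), for integers a and b, admits a splitting; in particular its middle term is isomorphic to O(a)
⊕ O(b). -/
theorem result (k : Type u) [Field k] [IsAlgClosed k] [CharZero k]
    (n : ℕ) (hn : 2 ≤ n) (a b : ℤ) (S : ShortComplex (CohB1.ProjSpace n k).Modules) (hS : S.ShortExact)
    (ha : Nonempty (S.X₁ ≅ Twist.twistProjSpace n k a)) (hb : Nonempty (S.X₃ ≅ Twist.twistProjSpace n k b)) :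
    Nonempty S.Splitting := by
  obtain ⟨ea⟩ := ha
  obtain ⟨eb⟩ := hb
  have hT := Groth.Agent.Lib.Helper77.TwEx.shortExact_twistProjSpace n k (-b) hS
  let e₃ : CohB1.tensorMod S.X₃ (Twist.twistProjSpace n k (-b)) ≅
      Coh.structureModule (CohB1.ProjSpace n k) :=
    Groth.Agent.Lib.QCoh.tensorModCongr eb (Iso.refl _) ≪≫
      Groth.Agent.Lib.Helper77.TwEx.twistProjSpaceInvIso n k b
  let e₁ : CohB1.tensorMod S.X₁ (Twist.twistProjSpace n k (-b)) ≅
      Twist.twistProjSpace n k (a - b) :=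
    Groth.Agent.Lib.QCoh.tensorModCongr ea (Iso.refl _) ≪≫
      Groth.Agent.Lib.Helper77.TwEx.twistProjSpaceMulIso n k a (-b) (a - b) (by ring)
  have h0 : Subsingleton (Coh.HH (CohB1.ProjSpace n k) (Twist.twistProjSpace n k (a - b)) 1) :=
    Groth.Agent.S0844.result k n (a - b) 1 (fun h => absurd h.1 one_ne_zero)
      (fun h => by have := h.1; omega)
  have h1 : Subsingleton (Coh.HH (CohB1.ProjSpace n k)
      (CohB1.tensorMod S.X₁ (Twist.twistProjSpace n k (-b))) 1) := by
    refine subsingleton_of_forall_eq 0 fun x => ?_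
    have hx : Groth.Agent.Lib.Cohomology.HHLES.hmap e₁.inv 1
        (Groth.Agent.Lib.Cohomology.HHLES.hmap e₁.hom 1 x) = x := by
      rw [← Groth.Agent.Lib.Cohomology.HHLES.hmap_comp, e₁.hom_inv_id,
        Groth.Agent.Lib.Cohomology.HHLES.hmap_id]
    rw [← hx, Subsingleton.elim (Groth.Agent.Lib.Cohomology.HHLES.hmap e₁.hom 1 x) 0, map_zero]
  obtain ⟨σ', hσ'⟩ := exists_section_of_iso_unit
    (S.map (Groth.Agent.Lib.QCoh.tensorRightFunctor (Twist.twistProjSpace n k (-b)))) hT e₃ h1
  have hEq := Groth.Agent.Lib.Helper77.TwEx.isEquivalence_tensorRightFunctor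
    (Twist.twistProjSpace n k (-b)) (Twist.twistProjSpace n k (- -b))
    (Groth.Agent.Lib.Helper77.TwEx.twistProjSpaceInvIso n k (-b))
  obtain ⟨σ, hσ⟩ := (Groth.Agent.Lib.QCoh.tensorRightFunctor
    (Twist.twistProjSpace n k (-b))).map_surjective σ'
  have hσg : σ ≫ S.g = 𝟙 _ := by
    apply (Groth.Agent.Lib.QCoh.tensorRightFunctor (Twist.twistProjSpace n k (-b))).map_injective
    rw [CategoryTheory.Functor.map_comp, CategoryTheory.Functor.map_id, hσ]
    exact hσ'
  have := hS.mono_f
  exact ⟨ShortComplex.Splitting.ofExactOfSection S hS.exact σ hσg inferInstance⟩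

end Groth.Agent.S11484
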