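import Groth.Statements.S11485
import Groth.Agent.Lib.Proj.Helper44_Horrocks
import Groth.Agent.Lib.QCoh.Helper74_LocFree
import Groth.Agent.S1697

set_option autoImplicit false
universe u
open VBPn

namespace Groth.Agent.S11485

open CategoryTheory CategoryTheory.Limits AlgebraicGeometry in
/-- Let k be an algebraically closed field of characteristic zero and n ≥ 2. If 0 → L → E → M → 0 is a
short exact sequence of O-modules on P^n_k with L and M finite locally free of rank 1 (so E is a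
rank-2 vector bundle with the proper subbundle L), then E ≅ O(a) ⊕ O(b) for some integers a, b: a
rank-2 vector bundle on P^n_k, n ≥ 2, which does not split has no proper subbundle. -/
theorem result (k : Type u) [Field k] [IsAlgClosed k]
    [CharZero k] (n : ℕ) (hn : 2 ≤ n) (S : ShortComplex (CohB1.ProjSpace n k).Modules) (hS : S.ShortExact)
    (h₁ : FlatMod.IsFinLocFreeOfRank 1 S.X₁) (h₃ : FlatMod.IsFinLocFreeOfRank 1 S.X₃) :
    ∃ a b : ℤ, Nonempty (S.X₂ ≅ Twist.twistProjSpace n k a ⊞ Twist.twistProjSpace n k b) := by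
  have hL := Groth.Agent.Lib.QCoh.isFinLocFreeOfRank_one_iff_isInvertible.1 h₁
  have hM := Groth.Agent.Lib.QCoh.isFinLocFreeOfRank_one_iff_isInvertible.1 h₃
  obtain ⟨a, ⟨eL⟩⟩ := Groth.Agent.S1697.result k n S.X₁ hL
  obtain ⟨b, ⟨eM⟩⟩ := Groth.Agent.S1697.result k n S.X₃ hM
  have : EnoughInjectives (CohB1.ProjSpace n k).Modules :=
    Groth.Agent.S0485.result _ (CohB1.ProjSpace n k).ringCatSheaf
  have : HasExt.{u} (CohB1.ProjSpace n k).Modules := hasExt_of_enoughInjectives _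
  have hext : Subsingleton (Abelian.Ext.{u} S.X₃ S.X₁ 1) :=
    Groth.Agent.Lib.Proj.ExtTwist.subsingleton_ext_of_iso eM eL 1
      (Groth.Agent.Lib.Proj.ExtTwist.subsingleton_ext_twist n k b a 1 le_rfl
        (by rintro ⟨h, -⟩; omega))
  obtain ⟨x₂, hx₂⟩ := Abelian.Ext.covariant_sequence_exact₃ S.X₃ hS
    (Abelian.Ext.mk₀ (𝟙 S.X₃)) (rfl : 0 + 1 = 1) (Subsingleton.elim _ _)
  obtain ⟨s, rfl⟩ := (Abelian.Ext.mk₀_bijective _ _).2 x₂
  rw [Abelian.Ext.mk₀_comp_mk₀] at hx₂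
  have hs : s ≫ S.g = 𝟙 _ := (Abelian.Ext.mk₀_bijective _ _).1 hx₂
  obtain ⟨ρ, hρ, ⟨e₀⟩⟩ := Groth.Agent.Lib.Proj.Horrocks.split_of_section S.g s hs
  let eK : kernel S.g ≅ S.X₁ := (kernelIsKernel S.g).conePointUniqueUpToIso hS.fIsKernel
  exact ⟨b, a, ⟨e₀ ≪≫ biprod.mapIso eM (eK ≪≫ eL)⟩⟩

end Groth.Agent.S11485
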