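import Groth.Statements.S11486
import Groth.Agent.Lib.Proj.Helper44_Grothendieck
import Groth.Agent.Lib.Proj.Helper44_Syz2

set_option autoImplicit false
universe u
open VBPn

namespace Groth.Agent.S11486

open CategoryTheory CategoryTheory.Limits AlgebraicGeometry in
/-- Let k be a characteristic-zero algebraically closed field and E a finite locally free O-module of
rank r on P^n_k. Then E splits as a direct sum of twisting sheaves O(a_1) ⊕ ⋯ ⊕ O(a_r) if and only
if H^i(P^n_k, E ⊗ O(d)) = 0 for every 0 < i < n and every integer d. -/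
theorem result (k : Type u) [Field k] [IsAlgClosed k] [CharZero k]
    (n r : ℕ) (E : (CohB1.ProjSpace n k).Modules) (hE : FlatMod.IsFinLocFreeOfRank r E) :
    (∃ a : Fin r → ℤ, Nonempty (E ≅ ∐ fun j : Fin r => Twist.twistProjSpace n k (a j))) ↔
      ∀ (i : ℕ) (d : ℤ), 0 < i → i < n →
        Subsingleton (Coh.HH (CohB1.ProjSpace n k) (CohB1.tensorMod E (Twist.twistProjSpace n k d)) i) := by
  have hcoh : Coh.IsCoh E := Groth.Agent.Lib.Proj.SplitP1.isCoh_of_isFinLocFreeOfRank hE
  constructor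
  · rintro ⟨a, ⟨e⟩⟩ i d hi1 hin
    have hn : 1 ≤ n := by omega
    exact ((Groth.Agent.Lib.Proj.Horrocks.horrocks_iff hn E hcoh).1 ⟨r, a, ⟨e⟩⟩).2 d i hi1 hin
  · intro h
    have key : ∃ (s : ℕ) (a : Fin s → ℤ),
        Nonempty (E ≅ ∐ fun j : Fin s => Twist.twistProjSpace n k (a j)) := by
      by_cases hn : n = 0
      · exact Groth.Agent.Lib.Proj.Syz.sumTw_of_n_zero hn E hcoh
      · have hn1 : 1 ≤ n := by omega
        exact (Groth.Agent.Lib.Proj.Horrocks.horrocks_iff hn1 E hcoh).2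
          ⟨Groth.Agent.Lib.Proj.SplitP1.vanishing_of_locFree hn1 E hE,
            fun m i hi1 hin => h i m hi1 hin⟩
    obtain ⟨s, a, ⟨e⟩⟩ := key
    have hs : s = r := Groth.Agent.Lib.Proj.SplitRank.card_eq_rank n k hE a e
    subst hs
    exact ⟨a, ⟨e⟩⟩

end Groth.Agent.S11486
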