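import Groth.Statements.S11493
import Mathlib

set_option autoImplicit false
universe u
open CategoryTheory
open VBPn

namespace Groth.Agent.S11493

open Abelian

section aux

variable {A : Type u} [CommRing A]

/-- The connecting map `Hom(X₁,X₁) → Ext¹(X₃,X₁)` is onto iff `Ext¹(X₂,X₁) = 0` (for `X₁` projective). -/
lemma rhs_iff (S : ShortComplex (ModuleCat.{u} A)) (hS : S.ShortExact) [Projective S.X₁] :
    (∀ x : Ext S.X₃ S.X₁ 1, ∃ f : S.X₁ ⟶ S.X₁,
        hS.extClass.comp (Ext.mk₀ f) (add_zero 1) = x) ↔ ∀ y : Ext S.X₂ S.X₁ 1, y = 0 := by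
  constructor
  · intro h y
    obtain ⟨x, rfl⟩ := Ext.contravariant_sequence_exact₂ hS _ y (Ext.eq_zero_of_projective _)
    obtain ⟨f, rfl⟩ := h x
    rw [← Ext.comp_assoc (Ext.mk₀ S.g) hS.extClass (Ext.mk₀ f) (zero_add 1) (add_zero 1) (by lia),
      hS.comp_extClass, Ext.zero_comp]
  · intro h x
    obtain ⟨x₁, hx₁⟩ := Ext.contravariant_sequence_exact₃ hS _ x (h _) (add_zero 1)
    obtain ⟨f, rfl⟩ := (Ext.mk₀_bijective _ _).2 x₁
    exact ⟨f, hx₁⟩

lemma ext_zero_of_iso {X Y Y' : ModuleCat.{u} A} (e : Y ≅ Y') (h : ∀ y : Ext X Y 1, y = 0) :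
    ∀ y : Ext X Y' 1, y = 0 := by
  intro y
  have : y = (y.comp (Ext.mk₀ e.inv) (add_zero 1)).comp (Ext.mk₀ e.hom) (add_zero 1) := by
    rw [Ext.comp_assoc_of_third_deg_zero, Ext.mk₀_comp_mk₀, e.inv_hom_id, Ext.comp_mk₀_id]
  rw [this, h (y.comp (Ext.mk₀ e.inv) (add_zero 1)), Ext.zero_comp]

/-- Lifting of maps out of the kernel when `Ext¹` vanishes (category level). -/
lemma exists_lift_cat (T : ShortComplex (ModuleCat.{u} A)) (hT : T.ShortExact) (Y : ModuleCat.{u} A)
    (h : ∀ y : Ext T.X₃ Y 1, y = 0) (l : T.X₁ ⟶ Y) : ∃ m : T.X₂ ⟶ Y, T.f ≫ m = l := by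
  obtain ⟨x₂, hx₂⟩ := Ext.contravariant_sequence_exact₁ hT Y (Ext.mk₀ l) (add_zero 1) (h _)
  obtain ⟨m, rfl⟩ := (Ext.mk₀_bijective _ _).2 x₂
  rw [Ext.mk₀_comp_mk₀] at hx₂
  exact ⟨m, (Ext.mk₀_bijective _ _).1 hx₂⟩

variable {Z P M Y : Type u} [AddCommGroup Z] [Module A Z] [AddCommGroup P] [Module A P]
  [AddCommGroup M] [Module A M] [AddCommGroup Y] [Module A Y]

/-- Lifting of maps out of the kernel when `Ext¹` vanishes (module level). -/
lemma exists_lift (ι : Z →ₗ[A] P) (π : P →ₗ[A] M) (hι : Function.Injective ι)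
    (hex : Function.Exact ι π) (hπ : Function.Surjective π)
    (h : ∀ y : Ext (ModuleCat.of A M) (ModuleCat.of A Y) 1, y = 0) (l : Z →ₗ[A] Y) :
    ∃ m : P →ₗ[A] Y, m ∘ₗ ι = l := by
  obtain ⟨m, hm⟩ := exists_lift_cat
    (ModuleCat.shortComplexOfCompEqZero ι π hex.linearMap_comp_eq_zero)
    (ModuleCat.shortComplex_shortExact _ hex hι hπ) (ModuleCat.of A Y) h (ModuleCat.ofHom l)
  refine ⟨m.hom, ?_⟩
  have := congrArg ModuleCat.Hom.hom hm
  simpa using this

lemma pd_iff (ι : Z →ₗ[A] P) (π : P →ₗ[A] M) (hι : Function.Injective ι)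
    (hex : Function.Exact ι π) (hπ : Function.Surjective π) [Module.Projective A P] :
    HasProjectiveDimensionLT (ModuleCat.of A M) 2 ↔ Module.Projective A Z := by
  have hP : Projective (ModuleCat.of A P) := (IsProjective.iff_projective P).mp inferInstance
  have h := (ModuleCat.shortComplex_shortExact
    (ModuleCat.shortComplexOfCompEqZero ι π hex.linearMap_comp_eq_zero) hex hι
      hπ).hasProjectiveDimensionLT_X₃_iff 0 hP
  rw [IsProjective.iff_projective, projective_iff_hasProjectiveDimensionLT_one]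
  exact h

lemma free_of_ext_zero [IsNoetherianRing A] [IsLocalRing A] (M : Type u) [AddCommGroup M]
    [Module A M] [Module.Finite A M] [HasProjectiveDimensionLT (ModuleCat.of A M) 2]
    (h : ∀ y : Ext (ModuleCat.of A M) (ModuleCat.of A A) 1, y = 0) : Module.Free A M := by
  obtain ⟨t, π, hπ⟩ := Module.Finite.exists_fin' A M
  have hex : Function.Exact (LinearMap.ker π).subtype π := LinearMap.exact_subtype_ker_map π
  have hι : Function.Injective (LinearMap.ker π).subtype := Submodule.injective_subtype _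
  have hZproj : Module.Projective A (LinearMap.ker π) :=
    (pd_iff _ _ hι hex hπ).mp inferInstance
  have : Module.Free A (LinearMap.ker π) := Module.free_of_flat_of_isLocalRing
  let b := Module.finBasis A (LinearMap.ker π)
  have hlift : ∀ i, ∃ m : (Fin t → A) →ₗ[A] A, m ∘ₗ (LinearMap.ker π).subtype = b.coord i :=
    fun i => exists_lift _ _ hι hex hπ h (b.coord i)
  choose m hm using hlift
  let r : (Fin t → A) →ₗ[A] LinearMap.ker π := b.equivFun.symm.toLinearMap ∘ₗ LinearMap.pi m
  have hr : r ∘ₗ (LinearMap.ker π).subtype = LinearMap.id := by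
    refine LinearMap.ext fun z => ?_
    have h1 : (LinearMap.pi m) ((LinearMap.ker π).subtype z) = b.equivFun z := by
      funext i
      have := LinearMap.congr_fun (hm i) z
      simpa using this
    show b.equivFun.symm ((LinearMap.pi m) ((LinearMap.ker π).subtype z)) = z
    rw [h1, LinearEquiv.symm_apply_apply]
  obtain ⟨-, σ, hσ⟩ := ((hex.split_tfae').out 1 0 rfl rfl).mp ⟨hπ, r, hr⟩
  have : Module.Projective A M := Module.Projective.of_split σ π hσ
  exact Module.free_of_flat_of_isLocalRing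

end aux

/-- Let A be a Noetherian local ring and I an ideal with a free resolution of length 1, 0 → A^p → A^q →
I → 0 (equivalently: a surjection A^q → I with free kernel). Let 0 → A → M → I → 0 be an extension
with class e ∈ Ext^1(I, A). Then M is free if and only if e generates the A-module Ext^1(I, A); the
A-module structure being through End(A) = A, this says every element of Ext^1(I, A) is the composite
of e with an endomorphism of A. -/
theorem result (A : Type u) [CommRing A] [IsNoetherianRing A] [IsLocalRing A]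
    (I : Ideal A)
    (hres : ∃ (q : ℕ) (φ : (Fin q → A) →ₗ[A] ↥I), Function.Surjective φ ∧ Module.Free A ↥(LinearMap.ker φ))
    (S : ShortComplex (ModuleCat.{u} A)) (hS : S.ShortExact)
    (h₁ : Nonempty (S.X₁ ≅ ModuleCat.of A A)) (h₃ : Nonempty (S.X₃ ≅ ModuleCat.of A ↥I)) :
    Module.Free A S.X₂ ↔
      ∀ x : Abelian.Ext S.X₃ S.X₁ 1, ∃ f : S.X₁ ⟶ S.X₁, hS.extClass.comp (Abelian.Ext.mk₀ f) (add_zero 1) = x := by
  obtain ⟨e₁⟩ := h₁
  obtain ⟨e₃⟩ := h₃
  obtain ⟨q, φ, hφ, hfree⟩ := hres
  have hA : Projective (ModuleCat.of A A) := (IsProjective.iff_projective A).mp inferInstance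
  have hX₁ : Projective S.X₁ := Projective.of_iso e₁.symm hA
  rw [rhs_iff S hS]
  constructor
  · intro hfree2 y
    have : Projective (ModuleCat.of A S.X₂) := (IsProjective.iff_projective S.X₂).mp inferInstance
    have : Projective S.X₂ := ‹Projective (ModuleCat.of A S.X₂)›
    exact Ext.eq_zero_of_projective y
  · intro h
    -- finiteness of the middle term
    have : IsNoetherian A (ModuleCat.of A A) := (inferInstance : IsNoetherian A A)
    have : IsNoetherian A S.X₁ := isNoetherian_of_linearEquiv e₁.symm.toLinearEquiv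
    have : IsNoetherian A (ModuleCat.of A I) := (inferInstance : IsNoetherian A I)
    have : IsNoetherian A S.X₃ := isNoetherian_of_linearEquiv e₃.symm.toLinearEquiv
    have : IsNoetherian A S.X₂ :=
      isNoetherian_of_range_eq_ker S.f.hom S.g.hom hS.exact.moduleCat_range_eq_ker
    -- projective dimension of the middle term
    have hexφ : Function.Exact (LinearMap.ker φ).subtype φ := LinearMap.exact_subtype_ker_map φ
    have hI : HasProjectiveDimensionLT (ModuleCat.of A I) 2 :=
      (pd_iff _ _ (Submodule.injective_subtype _) hexφ hφ).mpr inferInstance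
    have h₃' : HasProjectiveDimensionLT S.X₃ 2 := hasProjectiveDimensionLT_of_iso e₃.symm 2
    have h₁' : HasProjectiveDimensionLT S.X₁ 2 :=
      hasProjectiveDimensionLT_of_ge (X := S.X₁) (n := 1) 2 (by lia)
    have h₂' : HasProjectiveDimensionLT S.X₂ 2 := hS.hasProjectiveDimensionLT_X₂ 2 h₁' h₃'
    have : HasProjectiveDimensionLT (ModuleCat.of A S.X₂) 2 := h₂'
    have h' : ∀ y : Ext (ModuleCat.of A S.X₂) S.X₁ 1, y = 0 := h
    exact free_of_ext_zero S.X₂ (ext_zero_of_iso e₁ h')

end Groth.Agent.S11493
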