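import Groth.Statements.S11496
import Groth.Agent.S0563
import Groth.Agent.S0564

set_option autoImplicit false
universe u
open CategoryTheory
open VBPn

namespace Groth.Agent.S11496

/-- `dim (A ⧸ p) + ht p ≤ dim A` for a prime `p`. -/
theorem ringKrullDim_quotient_add_height_le (A : Type u) [CommRing A] (p : Ideal A) [hp : p.IsPrime] :
    ringKrullDim (A ⧸ p) + (p.height : WithBot ℕ∞) ≤ ringKrullDim A := by
  let P : PrimeSpectrum A := ⟨p, hp⟩
  have h1 : ringKrullDim (A ⧸ p) = (Order.coheight P : ℕ∞) := by
    rw [ringKrullDim_quotient, Order.coheight_eq_krullDim_Ici]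
    congr 1
  have h2 : p.height = Order.height P := PrimeSpectrum.height_eq_orderHeight P
  have : Nonempty (PrimeSpectrum A) := ⟨P⟩
  rw [h1, h2, ringKrullDim, Order.krullDim_eq_iSup_height_add_coheight_of_nonempty,
    ← WithBot.coe_add, WithBot.coe_le_coe, add_comm]
  exact le_iSup (fun a : PrimeSpectrum A => Order.height a + Order.coheight a) P

/-- Let A be a regular local ring, M a finitely generated A-module and i ≥ 0. The support of Ext^i_A(M,
A) has dimension at most dim A − i: for every prime ideal p of A such that Ext^i over the
localization A_p of M_p into A_p is nonzero (this Ext group is the localization at p of Ext^i_A(M,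
A)), one has dim(A/p) + i ≤ dim A. The published statement is for coherent analytic sheaves on an
n-dimensional complex manifold; this row is stated for any regular local ring. -/
theorem result (A : Type u) [CommRing A] [IsRegularLocalRing A]
    (M : Type u) [AddCommGroup M] [Module A M] [Module.Finite A M] (i : ℕ) (p : Ideal A) [p.IsPrime]
    (h : Nontrivial (Abelian.Ext
      (ModuleCat.of (Localization.AtPrime p) (LocalizedModule p.primeCompl M))
      (ModuleCat.of (Localization.AtPrime p) (Localization.AtPrime p)) i)) :
    ringKrullDim (A ⧸ p) + (i : WithBot ℕ∞) ≤ ringKrullDim A := by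
  have : IsRegularLocalRing (Localization.AtPrime p) := Groth.Agent.S0564.result A p
  obtain ⟨d, hd⟩ : ∃ d : ℕ, ringKrullDim (Localization.AtPrime p) = d :=
    ⟨(IsLocalRing.maximalIdeal (Localization.AtPrime p)).spanFinrank,
      IsRegularLocalRing.spanFinrank_maximalIdeal.symm⟩
  have hpd := Groth.Agent.S0563.result (Localization.AtPrime p) d hd
    (LocalizedModule p.primeCompl M)
  have hid : i ≤ d := by
    by_contra hlt
    push Not at hlt
    have := HasProjectiveDimensionLT.subsingleton
      (ModuleCat.of (Localization.AtPrime p) (LocalizedModule p.primeCompl M)) (d + 1) i (by omega)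
      (ModuleCat.of (Localization.AtPrime p) (Localization.AtPrime p))
    exact not_subsingleton _ this
  have hht : ringKrullDim (Localization.AtPrime p) = p.height :=
    IsLocalization.AtPrime.ringKrullDim_eq_height p (Localization.AtPrime p)
  have hdh : (d : WithBot ℕ∞) = (p.height : WithBot ℕ∞) := by rw [← hd, hht]
  refine le_trans ?_ (ringKrullDim_quotient_add_height_le A p)
  rw [← hdh]
  gcongr

end Groth.Agent.S11496
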