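import Groth.Statements.S11503
import Groth.Agent.Lib.Proj.Helper44_SplitMono
import Groth.Agent.Lib.Proj.Helper44_SplitRank
import Groth.Prelude.Def_KLin

set_option autoImplicit false
universe u
open VBPn

namespace Groth.Agent.S11503

open CategoryTheory CategoryTheory.Limits AlgebraicGeometry in
/-- Let k be a characteristic-zero algebraically closed field and E a finite locally free O-module of
rank r > 1 on P^n_k. If E has a nonzero section (a nonzero morphism O → E) and its dual has a
nonzero section (a nonzero morphism E → O), then E is not simple: there is an endomorphism of E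
which is not a homothety, i.e. whose underlying map of abelian sheaves is not multiplication by any
scalar c ∈ k. -/
theorem result (k : Type u) [Field k] [IsAlgClosed k] [CharZero k]
    (n r : ℕ) (hr : 1 < r) (E : (CohB1.ProjSpace n k).Modules) (hE : FlatMod.IsFinLocFreeOfRank r E)
    (s : Coh.structureModule (CohB1.ProjSpace n k) ⟶ E) (hs : s ≠ 0)
    (t : E ⟶ Coh.structureModule (CohB1.ProjSpace n k)) (ht : t ≠ 0) :
    ∃ φ : E ⟶ E, ∀ c : k, (SheafOfModules.toSheaf (CohB1.ProjSpace n k).ringCatSheaf).map φ ≠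
      Coh.smulAb E (Coh.toGlobal (CohB1.ProjSpace.toSpec n k) c) := by
  haveI : IsIntegral (CohB1.ProjSpace n k) := Groth.Agent.Lib.Helper38.PicPn.isIntegral_proj k n
  have hsmono : Mono s := Groth.Agent.Lib.Proj.SplitMono.mono_of_ne_zero
    (Groth.Agent.Lib.QCoh.isFinLocFreeOfRank_structureModule _)
    (Groth.Agent.Lib.QCoh.isFinLocFree_of_isFinLocFreeOfRank hE) s hs
  refine ⟨t ≫ s, fun c hc => ?_⟩
  -- the endomorphism `μ_c`
  have hμ : ∀ (M : (CohB1.ProjSpace n k).Modules) (g : Coh.Γtop (CohB1.ProjSpace n k)),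
      (SheafOfModules.toSheaf (CohB1.ProjSpace n k).ringCatSheaf).map (Formal.smulModΓ M g) =
        Coh.smulAb M g := fun M g => rfl
  have hφ : t ≫ s = Formal.smulModΓ E (Coh.toGlobal (CohB1.ProjSpace.toSpec n k) c) :=
    (SheafOfModules.toSheaf (CohB1.ProjSpace n k).ringCatSheaf).map_injective (hc.trans (hμ E _).symm)
  by_cases hc0 : c = 0
  · rw [hc0, map_zero, KLin.smulModΓ_zero] at hφ
    exact ht ((cancel_mono s).1 (hφ.trans zero_comp.symm))
  · have h1 : Formal.smulModΓ E (Coh.toGlobal (CohB1.ProjSpace.toSpec n k) c) ≫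
        Formal.smulModΓ E (Coh.toGlobal (CohB1.ProjSpace.toSpec n k) c⁻¹) = 𝟙 E := by
      rw [← KLin.smulModΓ_mul, ← map_mul, mul_inv_cancel₀ hc0, map_one, KLin.smulModΓ_one]
    have h2 : (t ≫ Formal.smulModΓ (Coh.structureModule (CohB1.ProjSpace n k))
        (Coh.toGlobal (CohB1.ProjSpace.toSpec n k) c⁻¹)) ≫ s = 𝟙 E := by
      rw [Category.assoc, ← KLin.comp_smulModΓ, ← Category.assoc, hφ, h1]
    have hsepi : Epi s := epi_of_epi_fac h2
    have hsiso : IsIso s := isIso_of_mono_of_epi s
    have hE1 : FlatMod.IsFinLocFreeOfRank 1 E :=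
      Groth.Agent.Lib.QCoh.isFinLocFreeOfRank_of_iso (asIso s)
        (Groth.Agent.Lib.QCoh.isFinLocFreeOfRank_structureModule _)
    haveI : Nonempty (CohB1.ProjSpace n k) := ⟨Groth.Agent.Lib.Helper38.PicPn.genPt k n⟩
    have := Groth.Agent.Lib.Proj.SplitRank.rank_unique hE hE1
    omega

end Groth.Agent.S11503
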