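import Groth.Statements.S1153
import Groth.Agent.Lib.Helper38.ProperOver
import Groth.Agent.S0086

set_option autoImplicit false
open CategoryTheory CategoryTheory.Limits AlgebraicGeometry Opposite
universe u
open Desc

namespace Groth.Agent.S1153

/-- Let f : X ⟶ Y be locally of finite type, Z a closed subset of X and g : Y' ⟶ Y quasi-compact, flat
and surjective. If the preimage of Z in X ×_Y Y' is proper over Y', then Z is proper over Y. -/
theorem result {X Y Y' : Scheme.{u}} (f : X ⟶ Y) [LocallyOfFiniteType f] (Z : Set X) (hZ : IsClosed Z)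
    (g : Y' ⟶ Y) [QuasiCompact g] [Flat g] [Surjective g]
    (h : ClSub.IsProperOver (pullback.snd f g) ((pullback.fst f g).base ⁻¹' Z)) :
    ClSub.IsProperOver f Z := by
  obtain ⟨hZ', hprop⟩ := h
  refine ⟨hZ, ?_⟩
  let i := (Scheme.IdealSheafData.vanishingIdeal ⟨Z, hZ⟩).subschemeι
  let p1 := pullback.fst f g
  let p2 := pullback.snd f g
  let j := pullback.snd i p1
  have hj : Set.range j =
      ((⟨(pullback.fst f g).base ⁻¹' Z, hZ'⟩ : TopologicalSpace.Closeds ↥(pullback f g)) : Set _) := by
    rw [Scheme.Pullback.range_snd,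
      Groth.Agent.Lib.Helper38.ProperOver.range_subschemeι_vanishingIdeal]
    rfl
  obtain ⟨k, hk, hkc, hks⟩ := Groth.Agent.Lib.Helper38.ProperOver.exists_lift_of_range_eq j _ hj
  have h1 : IsProper (k ≫ (j ≫ p2)) := by
    rw [← Category.assoc, hk]
    exact hprop
  have h2 : LocallyOfFiniteType (j ≫ p2) := inferInstance
  have hW : IsProper (j ≫ p2) :=
    Groth.Agent.Lib.Helper38.ProperOver.isProper_of_comp_surjective_closedImmersion k (j ≫ p2)
  have sq : IsPullback (j ≫ p2) (pullback.fst i p1) g (i ≫ f) :=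
    ((IsPullback.of_hasPullback i p1).paste_vert (IsPullback.of_hasPullback f g)).flip
  exact (Groth.Agent.S0086.result.{u}).of_isPullback sq
    ⟨⟨inferInstance, inferInstance⟩, inferInstance⟩ hW


end Groth.Agent.S1153
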