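import Groth.Statements.S11538
import Mathlib.RingTheory.Flat.TorsionFree
import Mathlib.RingTheory.Flat.EquationalCriterion
import Mathlib.LinearAlgebra.TensorProduct.Quotient
import Mathlib.RingTheory.Localization.BaseChange
import Mathlib.Algebra.Module.LocalizedModule.Int
import Mathlib.RingTheory.Localization.Integer
set_option autoImplicit false
universe u v
open scoped TensorProduct
open AdicRing

namespace Groth.Agent.S11538

variable {A : Type u} [CommRing A] {M : Type v} [AddCommGroup M] [Module A M]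

/-- `m ↦ 1 ⊗ m` is surjective onto `(A/I) ⊗ M`. -/
theorem mk_one_surjective (I : Ideal A) (z : (A ⧸ I) ⊗[A] M) : ∃ m : M, (1 : A ⧸ I) ⊗ₜ[A] m = z := by
  induction z using TensorProduct.induction_on with
  | zero => exact ⟨0, by simp⟩
  | tmul r m =>
    obtain ⟨r, rfl⟩ := Ideal.Quotient.mk_surjective r
    refine ⟨r • m, ?_⟩
    rw [TensorProduct.tmul_smul, TensorProduct.smul_tmul']
    congr 1
    simp [Algebra.smul_def]
  | add a b ha hb =>
    obtain ⟨m, rfl⟩ := ha
    obtain ⟨m', rfl⟩ := hb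
    exact ⟨m + m', by rw [TensorProduct.tmul_add]⟩

theorem exists_smul_of_tmul_eq_zero (π : A) (m : M)
    (h : (1 : A ⧸ Ideal.span {π}) ⊗ₜ[A] m = 0) : ∃ m' : M, m = π • m' := by
  have h1 := congrArg (TensorProduct.quotTensorEquivQuotSMul M (Ideal.span {π})) h
  rw [TensorProduct.quotTensorEquivQuotSMul_mk_one_tmul, map_zero] at h1
  rw [Submodule.Quotient.mk_eq_zero, Submodule.ideal_span_singleton_smul,
    Submodule.mem_smul_pointwise_iff_exists] at h1
  obtain ⟨m', -, hm'⟩ := h1
  exact ⟨m', hm'.symm⟩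

theorem one_tmul_smul (I : Ideal A) (r : A) (m : M) :
    (1 : A ⧸ I) ⊗ₜ[A] (r • m) = (Ideal.Quotient.mk I r) • ((1 : A ⧸ I) ⊗ₜ[A] m) := by
  rw [TensorProduct.tmul_smul, TensorProduct.smul_tmul', TensorProduct.smul_tmul']
  congr 1

/-- The intermediate statement: `π^s x` is a trivial relation. -/
def P {l : ℕ} (f : Fin l → A) (x : Fin l → M) (π : A) (s : ℕ) : Prop :=
  ∃ (κ : Type) (_ : Fintype κ) (a : Fin l → κ → A) (y : κ → M),
    (∀ i, π ^ s • x i = ∑ j, a i j • y j) ∧ ∀ j, ∑ i, f i * a i j = 0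

theorem P_step (π : A) (hπ : π ∈ nonZeroDivisors A)
    (hM : ∀ x : M, π • x = 0 → x = 0)
    [Module.Flat (A ⧸ Ideal.span {π}) ((A ⧸ Ideal.span {π}) ⊗[A] M)]
    {l : ℕ} (f : Fin l → A) (x : Fin l → M) (s : ℕ) (h : P f x π (s + 1)) : P f x π s := by
  classical
  obtain ⟨κ, _, a, y, h1, h2⟩ := h
  set I : Ideal A := Ideal.span {π} with hI
  let φ : (Fin l → A ⧸ I) →ₗ[A ⧸ I] (κ → A ⧸ I) :=
    Fintype.linearCombination (A ⧸ I) (fun i => fun j => Ideal.Quotient.mk I (a i j))
  let xb : (κ → A ⧸ I) →ₗ[A ⧸ I] ((A ⧸ I) ⊗[A] M) :=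
    Fintype.linearCombination (A ⧸ I) (fun j => (1 : A ⧸ I) ⊗ₜ[A] y j)
  have hπ0 : Ideal.Quotient.mk I π = 0 := by
    rw [Ideal.Quotient.eq_zero_iff_mem]; exact Ideal.mem_span_singleton_self π
  have hrel : ∀ i, ∑ j, Ideal.Quotient.mk I (a i j) • ((1 : A ⧸ I) ⊗ₜ[A] y j) = 0 := by
    intro i
    have : (1 : A ⧸ I) ⊗ₜ[A] (π ^ (s + 1) • x i) = (0 : (A ⧸ I) ⊗[A] M) := by
      rw [one_tmul_smul, map_pow, hπ0, zero_pow (Nat.succ_ne_zero s), zero_smul]
    rw [h1 i, TensorProduct.tmul_sum] at this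
    rw [← this]
    refine Finset.sum_congr rfl fun j _ => ?_
    rw [one_tmul_smul]
  have hcomp : xb ∘ₗ φ = 0 := by
    apply LinearMap.ext
    intro g
    simp only [LinearMap.comp_apply, LinearMap.zero_apply, xb, φ, Fintype.linearCombination_apply]
    simp only [Finset.sum_apply, Pi.smul_apply, smul_eq_mul]
    calc ∑ j, (∑ i, g i * Ideal.Quotient.mk I (a i j)) • ((1 : A ⧸ I) ⊗ₜ[A] y j)
        = ∑ j, ∑ i, g i • (Ideal.Quotient.mk I (a i j) • ((1 : A ⧸ I) ⊗ₜ[A] y j)) := by
          refine Finset.sum_congr rfl fun j _ => ?_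
          rw [Finset.sum_smul]
          simp_rw [mul_smul]
      _ = ∑ i, g i • ∑ j, (Ideal.Quotient.mk I (a i j) • ((1 : A ⧸ I) ⊗ₜ[A] y j)) := by
          rw [Finset.sum_comm]
          simp_rw [Finset.smul_sum]
      _ = 0 := by
          refine Finset.sum_eq_zero fun i _ => ?_
          rw [hrel i, smul_zero]
  obtain ⟨k, cb, wb, hxw, hcφ⟩ := Module.Flat.exists_factorization_of_comp_eq_zero_of_free hcomp
  -- lifts
  have hc : ∀ (j : κ) (t : Fin k), ∃ c : A, Ideal.Quotient.mk I c = cb (Pi.single j 1) t :=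
    fun j t => Ideal.Quotient.mk_surjective _
  choose c hc using hc
  have hw : ∀ t : Fin k, ∃ w : M, (1 : A ⧸ I) ⊗ₜ[A] w = wb (Finsupp.single t 1) :=
    fun t => mk_one_surjective I _
  choose w hw using hw
  -- y_j ≡ ∑ c_jt w_t mod π
  have hy : ∀ j, ∃ y' : M, y j - ∑ t, c j t • w t = π • y' := by
    intro j
    apply exists_smul_of_tmul_eq_zero
    rw [TensorProduct.tmul_sub, TensorProduct.tmul_sum, sub_eq_zero]
    have e1 : (1 : A ⧸ I) ⊗ₜ[A] y j = xb (Pi.single j 1) := by
      simp [xb, Fintype.linearCombination_apply, Pi.single_apply]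
    rw [e1, hxw, LinearMap.comp_apply]
    conv_lhs => rw [← Finsupp.sum_single (cb (Pi.single j 1))]
    rw [Finsupp.sum_fintype _ _ (by simp), map_sum]
    refine Finset.sum_congr rfl fun t _ => ?_
    rw [one_tmul_smul, hc, hw, ← map_smul, Finsupp.smul_single, smul_eq_mul, mul_one]
  choose y' hy' using hy
  have hd : ∀ (i : Fin l) (t : Fin k), ∃ d : A, ∑ j, a i j * c j t = π * d := by
    intro i t
    have h0 : cb (φ (Pi.single i 1)) t = 0 := by
      have := LinearMap.congr_fun hcφ (Pi.single i 1)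
      simp only [LinearMap.comp_apply, LinearMap.zero_apply] at this
      rw [this]; rfl
    have h3 : φ (Pi.single i 1) = ∑ j, Ideal.Quotient.mk I (a i j) • Pi.single j (1 : A ⧸ I) := by
      ext j'
      simp only [φ, Fintype.linearCombination_apply_single, Finset.sum_apply,
        Pi.smul_apply, smul_eq_mul, Pi.single_apply, mul_ite, mul_one, mul_zero,
        Finset.sum_ite_eq, Finset.mem_univ, if_true, one_mul]
    rw [h3, map_sum] at h0
    simp only [map_smul, Finsupp.coe_finsetSum, Finset.sum_apply, Finsupp.coe_smul,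
      Pi.smul_apply, smul_eq_mul] at h0
    have h4 : Ideal.Quotient.mk I (∑ j, a i j * c j t) = 0 := by
      rw [map_sum, ← h0]
      refine Finset.sum_congr rfl fun j _ => ?_
      rw [map_mul, hc]
    rw [Ideal.Quotient.eq_zero_iff_mem, hI, Ideal.mem_span_singleton'] at h4
    obtain ⟨d, hd⟩ := h4
    exact ⟨d, by rw [← hd, mul_comm]⟩
  choose d hd using hd
  refine ⟨Fin k ⊕ κ, inferInstance, fun i => Sum.elim (d i) (a i), Sum.elim w y', ?_, ?_⟩
  · intro i
    rw [Fintype.sum_sum_type]
    simp only [Sum.elim_inl, Sum.elim_inr]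
    have hyj : ∀ j, y j = ∑ t, c j t • w t + π • y' j := fun j => by rw [← hy' j]; abel
    have key : π • (π ^ s • x i) = π • (∑ t, d i t • w t + ∑ j, a i j • y' j) := by
      rw [← mul_smul, ← pow_succ', h1 i]
      calc ∑ j, a i j • y j
          = ∑ j, (∑ t, (a i j * c j t) • w t + π • (a i j • y' j)) := by
            refine Finset.sum_congr rfl fun j _ => ?_
            rw [hyj j, smul_add, Finset.smul_sum, smul_comm]
            simp_rw [mul_smul]
        _ = ∑ t, (∑ j, a i j * c j t) • w t + π • ∑ j, a i j • y' j := by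
            rw [Finset.sum_add_distrib, Finset.sum_comm, Finset.smul_sum]
            simp_rw [Finset.sum_smul]
        _ = π • (∑ t, d i t • w t + ∑ j, a i j • y' j) := by
            simp_rw [hd, mul_smul, smul_add, Finset.smul_sum]
    rw [← sub_eq_zero]
    apply hM
    rw [smul_sub, key, sub_self]
  · rintro (t | j)
    · simp only [Sum.elim_inl]
      apply (mul_left_mem_nonZeroDivisors_eq_zero_iff hπ).1
      rw [Finset.mul_sum]
      calc ∑ i, π * (f i * d i t) = ∑ i, f i * ∑ j, a i j * c j t := by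
            refine Finset.sum_congr rfl fun i _ => ?_
            rw [hd]; ring
        _ = ∑ j, (∑ i, f i * a i j) * c j t := by
            simp_rw [Finset.mul_sum, Finset.sum_mul]
            rw [Finset.sum_comm]
            refine Finset.sum_congr rfl fun j _ => Finset.sum_congr rfl fun i _ => ?_
            ring
        _ = 0 := by
            refine Finset.sum_eq_zero fun j _ => ?_
            rw [h2 j, zero_mul]
    · simp only [Sum.elim_inr]
      exact h2 j


theorem P_exists (π : A) (hπ : π ∈ nonZeroDivisors A)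
    (hM : ∀ (x : M) (n : ℕ), π ^ n • x = 0 → x = 0)
    [Module.Flat (Localization.Away π) ((Localization.Away π) ⊗[A] M)]
    {l : ℕ} (f : Fin l → A) (x : Fin l → M) (hfx : ∑ i, f i • x i = 0) : ∃ s, P f x π s := by
  classical
  have h0 : ∑ i, algebraMap A (Localization.Away π) (f i) •
      ((1 : Localization.Away π) ⊗ₜ[A] x i) = 0 := by
    have : (1 : Localization.Away π) ⊗ₜ[A] (∑ i, f i • x i) = 0 := by
      rw [hfx, TensorProduct.tmul_zero]
    rw [TensorProduct.tmul_sum] at this
    rw [← this]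
    refine Finset.sum_congr rfl fun i _ => ?_
    rw [TensorProduct.tmul_smul, algebraMap_smul]
  obtain ⟨k, a', y', h1, h2⟩ := Module.Flat.isTrivialRelation_of_sum_smul_eq_zero h0
  obtain ⟨⟨b, n, rfl⟩, hb⟩ := IsLocalization.exist_integer_multiples_of_finite
    (Submonoid.powers π) (fun p : Fin l × Fin k => a' p.1 p.2)
  obtain ⟨⟨b', n', rfl⟩, hb'⟩ := IsLocalizedModule.exist_integer_multiples_of_finite
    (Submonoid.powers π) (TensorProduct.mk A (Localization.Away π) M 1) y'
  choose a ha using fun i j => hb (i, j)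
  choose y hy using hb'
  have ha' : ∀ i j, algebraMap A (Localization.Away π) (a i j) = π ^ n • a' i j := ha
  have hy' : ∀ j, (1 : Localization.Away π) ⊗ₜ[A] y j = π ^ n' • y' j := hy
  have h1' : ∀ i, (1 : Localization.Away π) ⊗ₜ[A] x i = ∑ j, a' i j • y' j := h1
  have h2' : ∀ j, ∑ i, algebraMap A (Localization.Away π) (f i) * a' i j = 0 := h2
  refine ⟨n + n', Fin k, inferInstance, a, y, fun i => ?_, fun j => ?_⟩
  · have h3 : (TensorProduct.mk A (Localization.Away π) M 1)
        (π ^ (n + n') • x i - ∑ j, a i j • y j) = 0 := by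
      rw [map_sub, map_smul, map_sum, sub_eq_zero]
      simp only [TensorProduct.mk_apply, map_smul]
      rw [h1', Finset.smul_sum]
      refine Finset.sum_congr rfl fun j _ => ?_
      rw [hy', ← algebraMap_smul (Localization.Away π) (a i j), ha', pow_add, mul_smul]
      rw [smul_assoc, smul_comm (π ^ n') (a' i j)]
    obtain ⟨⟨_, m, rfl⟩, hm⟩ := (IsLocalizedModule.eq_zero_iff (Submonoid.powers π) _).1 h3
    exact sub_eq_zero.1 (hM _ m hm)
  · have hle : Submonoid.powers π ≤ nonZeroDivisors A := Submonoid.powers_le.2 hπ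
    apply IsLocalization.injective (Localization.Away π) hle
    rw [map_zero, map_sum]
    calc ∑ i, algebraMap A (Localization.Away π) (f i * a i j)
        = π ^ n • ∑ i, algebraMap A (Localization.Away π) (f i) * a' i j := by
          rw [Finset.smul_sum]
          refine Finset.sum_congr rfl fun i _ => ?_
          rw [map_mul, ha', mul_smul_comm]
      _ = 0 := by rw [h2', smul_zero]


theorem forward (π : A) (hπ : π ∈ nonZeroDivisors A) [Module.Flat A M] :
      (∀ (x : M) (n : ℕ), π ^ n • x = 0 → x = 0) ∧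
        Module.Flat (A ⧸ Ideal.span {π}) ((A ⧸ Ideal.span {π}) ⊗[A] M) ∧
        Module.Flat (Localization.Away π) ((Localization.Away π) ⊗[A] M) := by
  refine ⟨fun x n hx => ?_, inferInstance, inferInstance⟩
  have h2 : IsSMulRegular M (π ^ n) := Module.Flat.isSMulRegular_of_nonZeroDivisors (pow_mem hπ n)
  exact h2 (by simpa using hx)

theorem P_zero (π : A) (hπ : π ∈ nonZeroDivisors A)
    (hM : ∀ (x : M) (n : ℕ), π ^ n • x = 0 → x = 0)
    [Module.Flat (A ⧸ Ideal.span {π}) ((A ⧸ Ideal.span {π}) ⊗[A] M)]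
    {l : ℕ} (f : Fin l → A) (x : Fin l → M) (s : ℕ) (h : P f x π s) : P f x π 0 := by
  induction s with
  | zero => exact h
  | succ s ih =>
    exact ih (P_step π hπ (fun x hx => hM x 1 (by simpa using hx)) f x s h)

/-- Let A be a commutative ring, π an element of A which is not a zero divisor and M an A-module. Then M
is flat over A if and only if the π-power torsion of M vanishes, (A/πA) ⊗_A M is flat over A/πA, and
A[π⁻¹] ⊗_A M is flat over A[π⁻¹]. -/
theorem result
    (A : Type u) [CommRing A] (π : A) (hπ : π ∈ nonZeroDivisors A)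
    (M : Type v) [AddCommGroup M] [Module A M] :
    Module.Flat A M ↔
      (∀ (x : M) (n : ℕ), π ^ n • x = 0 → x = 0) ∧
        Module.Flat (A ⧸ Ideal.span {π}) ((A ⧸ Ideal.span {π}) ⊗[A] M) ∧
        Module.Flat (Localization.Away π) ((Localization.Away π) ⊗[A] M) := by
  refine ⟨fun h => forward π hπ, fun ⟨hM, h1, h2⟩ => ?_⟩
  apply Module.Flat.of_forall_isTrivialRelation
  intro l f x hfx
  obtain ⟨s, hs⟩ := P_exists π hπ hM f x hfx
  obtain ⟨κ, _, a, y, h3, h4⟩ := P_zero π hπ hM f x s hs
  let e := Fintype.equivFin κ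
  refine ⟨Fintype.card κ, fun i j => a i (e.symm j), fun j => y (e.symm j), fun i => ?_, fun j => ?_⟩
  · have := h3 i
    rw [pow_zero, one_smul] at this
    rw [this]
    exact (Equiv.sum_comp e.symm (fun j => a i j • y j)).symm
  · exact h4 (e.symm j)

end Groth.Agent.S11538
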