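import Groth.Statements.S11544
import Groth.Agent.Lib.Helper26.ValNorm

set_option autoImplicit false
universe u
open AdicRing

namespace Groth.Agent.S11544

/-- Let R be a complete valuation ring of height one with t a nonzero element generating an ideal of
definition, K its field of fractions, L an algebraic extension field of K and α an element of L.
Then α is integral over R if and only if the norm of α from K(α) down to K lies in R. -/
theorem result
    (R : Type u) [CommRing R] [IsDomain R] [ValuationRing R] [Ring.KrullDimLE 1 R]
    (t : R) (ht : t ≠ 0) [IsAdicComplete (Ideal.span {t}) R]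
    (L : Type u) [Field L] [Algebra R L] [Algebra (FractionRing R) L]
    [IsScalarTower R (FractionRing R) L] [Algebra.IsAlgebraic (FractionRing R) L] (α : L) :
    IsIntegral R α ↔
      Algebra.norm (FractionRing R) (IntermediateField.AdjoinSimple.gen (FractionRing R) α) ∈
        (algebraMap R (FractionRing R)).range := by
  classical
  have htu : ¬ IsUnit t := Groth.Agent.Lib.Helper26.ValNorm.not_isUnit_of_complete R t
  obtain ⟨hv⟩ := Groth.Agent.Lib.Helper26.ValNorm.nonempty_rankOne R t ht htu
  have hα : IsIntegral (FractionRing R) α := Algebra.IsIntegral.isIntegral α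
  rw [Groth.Agent.Lib.Helper26.ValNorm.norm_gen_eq R L α]
  -- membership up to sign
  have hsign : ((-1 : FractionRing R) ^ (minpoly (FractionRing R) α).natDegree *
        (minpoly (FractionRing R) α).coeff 0 ∈ (algebraMap R (FractionRing R)).range) ↔
      (minpoly (FractionRing R) α).coeff 0 ∈ (algebraMap R (FractionRing R)).range := by
    have hm : ((-1 : FractionRing R) ^ (minpoly (FractionRing R) α).natDegree) ∈
        (algebraMap R (FractionRing R)).range :=
      ⟨(-1) ^ (minpoly (FractionRing R) α).natDegree, by simp⟩
    constructor
    · intro h
      have := Subring.mul_mem _ hm h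
      rwa [← mul_assoc, ← pow_add, ← two_mul, pow_mul, neg_one_sq, one_pow, one_mul] at this
    · intro h
      exact Subring.mul_mem _ hm h
  rw [hsign]
  constructor
  · intro hint
    rw [minpoly.isIntegrallyClosed_eq_field_fractions' (FractionRing R) hint, Polynomial.coeff_map]
    exact ⟨_, rfl⟩
  · intro h0
    have hall := Groth.Agent.Lib.Helper26.ValNorm.coeff_mem_of_norm_mem R hv t ht htu L α h0
    have hlift : minpoly (FractionRing R) α ∈ Polynomial.lifts (algebraMap R (FractionRing R)) := by
      rw [Polynomial.lifts_iff_coeff_lifts]
      intro n
      exact hall n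
    obtain ⟨q, hq, _, hqm⟩ :=
      Polynomial.lifts_and_degree_eq_and_monic hlift (minpoly.monic hα)
    refine ⟨q, hqm, ?_⟩
    have := minpoly.aeval (FractionRing R) α
    rw [← hq, Polynomial.aeval_map_algebraMap] at this
    rw [← Polynomial.aeval_def]
    exact this

end Groth.Agent.S11544
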