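import Groth.Statements.S11545
import Groth.Agent.Lib.Helper56.FormalChart

set_option autoImplicit false
universe u
open AdicRing

namespace Groth.Agent.S11545

/-- Let R be a base ring of class (N) or (V) for the ideal I, A an admissible R-algebra, f_0, ..., f_r
elements generating an open ideal 𝔞 of A, and A_i = C_i/(f_i-power torsion) the i-th chart algebra
of the formal blowing-up of 𝔞. Let B be an R-algebra complete and separated for the I-adic topology
and φ : A → B an R-algebra homomorphism such that the ideal 𝔞B is generated by φ(f_i), a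
non-zero-divisor of B. Then there is exactly one R-algebra homomorphism A_i → B whose composite with
A → A_i is φ. -/
theorem result
    (R : Type u) [CommRing R] (I : Ideal R) (hR : AdicRing.IsBase R I)
    (A : Type u) [CommRing A] [Algebra R A] (hA : AdicRing.Admissible R I A)
    (r : ℕ) (f : Fin (r + 1) → A) (k : ℕ)
    (hopen : (I ^ k).map (algebraMap R A) ≤ Ideal.span (Set.range f)) (i : Fin (r + 1))
    (B : Type u) [CommRing B] [Algebra R B] [IsAdicComplete (I.map (algebraMap R B)) B]
    (φ : A →ₐ[R] B) (hnzd : φ (f i) ∈ nonZeroDivisors B)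
    (hgen : (Ideal.span (Set.range f)).map φ = Ideal.span {φ (f i)}) :
    ∃! ψ : AdicRing.chartAdm I f i →ₐ[R] B,
      ψ.comp (IsScalarTower.toAlgHom R A (AdicRing.chartAdm I f i)) = φ := by
  have hI : I.FG := by
    rcases hR.2 with ⟨hN, -⟩ | ⟨-, -, -, t, -, ht⟩
    · exact (isNoetherianRing_iff_ideal_fg R).mp hN I
    · rw [ht]
      exact Submodule.fg_span_singleton t
  refine Groth.Agent.Lib.Helper56.FormalChart.chart_existsUnique I f i φ hI hnzd ?_
  intro j
  have h1 : φ (f j) ∈ (Ideal.span (Set.range f)).map φ :=
    Ideal.mem_map_of_mem _ (Ideal.subset_span ⟨j, rfl⟩)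
  rw [hgen] at h1
  obtain ⟨a, ha⟩ := Ideal.mem_span_singleton'.mp h1
  exact ⟨a, by rw [mul_comm]; exact ha⟩

end Groth.Agent.S11545
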