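import Groth.Statements.S11546
import Mathlib.RingTheory.AdicCompletion.AsTensorProduct
import Mathlib.RingTheory.Flat.TorsionFree
import Mathlib.RingTheory.Polynomial.Basic

set_option autoImplicit false
universe u
open AdicRing

namespace Groth.Agent.S11546

/-- The `(s)`-adic completion of a ring in which `s` is a nonzerodivisor has no `s`-power torsion. -/
theorem eq_zero_of_pow_smul {P : Type*} [CommRing P] (s : P) (hs : s ∈ nonZeroDivisors P)
    (x : AdicCompletion (Ideal.span {s}) P) (N : ℕ) (h : s ^ N • x = 0) : x = 0 := by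
  apply AdicCompletion.ext
  intro m
  have h1 : (s ^ N • x).val (m + N) = 0 := by rw [h]; rfl
  rw [AdicCompletion.val_smul_apply] at h1
  obtain ⟨p, hp⟩ := Submodule.mkQ_surjective _ (x.val (m + N))
  rw [← hp, ← map_smul, Submodule.mkQ_apply, Submodule.Quotient.mk_eq_zero, smul_eq_mul,
    smul_eq_mul, Ideal.mul_top, Ideal.span_singleton_pow, Ideal.mem_span_singleton] at h1
  obtain ⟨q, hq⟩ := h1
  have hp' : p = s ^ m * q := by
    have : s ^ N * p = s ^ N * (s ^ m * q) := by rw [hq]; ring
    exact (mul_cancel_left_mem_nonZeroDivisors (pow_mem hs N)).mp this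
  have h2 := AdicCompletion.transitionMap_comp_eval_apply (Ideal.span {s}) P
    (Nat.le_add_right m N) x
  rw [← h2, ← hp, AdicCompletion.val_zero_apply]
  change Submodule.factorPow _ _ _ (Submodule.mkQ _ p) = 0
  rw [Submodule.factorPow, Submodule.factor_mk, Submodule.mkQ_apply,
    Submodule.Quotient.mk_eq_zero, hp', smul_eq_mul, Ideal.mul_top, Ideal.span_singleton_pow,
    Ideal.mem_span_singleton]
  exact dvd_mul_right _ _


theorem eq_zero_of_pow_smul' {P : Type*} [CommRing P] (J : Ideal P) (s : P)
    (hJ : J = Ideal.span {s}) (hs : s ∈ nonZeroDivisors P)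
    (x : AdicCompletion J P) (N : ℕ) (h : s ^ N • x = 0) : x = 0 := by
  subst hJ
  exact eq_zero_of_pow_smul s hs x N h

theorem exists_dvd_pow {R : Type*} [CommRing R] [PreValuationRing R] (t : R)
    [IsHausdorff (Ideal.span {t}) R] (a : R) (ha : a ≠ 0) : ∃ N : ℕ, a ∣ t ^ N := by
  by_contra hcon
  push Not at hcon
  apply ha
  apply IsHausdorff.haus' (I := Ideal.span {t}) a
  intro n
  rw [SModEq.zero, smul_eq_mul, Ideal.mul_top, Ideal.span_singleton_pow, Ideal.mem_span_singleton]
  rcases ValuationRing.dvd_total a (t ^ n) with h | h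
  · exact absurd h (hcon n)
  · exact h

/-- Let R be a base ring of class (N) or (V) for the ideal I. Then the restricted power series ring
R⟨ζ_1, ..., ζ_n⟩ is flat over R. -/
theorem result
    (R : Type u) [CommRing R] (I : Ideal R) (hR : AdicRing.IsBase R I) (n : ℕ) :
    Module.Flat R (AdicRing.RPow R I n) := by
  obtain ⟨hcomp, hN | hV⟩ := hR
  · obtain ⟨hnoeth, -⟩ := hN
    haveI : Module.Flat (MvPolynomial (Fin n) R) (AdicRing.RPow R I n) :=
      AdicCompletion.flat_of_isNoetherian _
    exact Module.Flat.trans R (MvPolynomial (Fin n) R) (AdicRing.RPow R I n)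
  · obtain ⟨hdom, hval, -, t, ht, rfl⟩ := hV
    haveI : ValuationRing R := { toPreValuationRing := hval }
    rw [Module.Flat.flat_iff_torsion_eq_bot_of_isBezout, eq_bot_iff]
    rintro x ⟨⟨a, ha⟩, hax⟩
    rw [Submodule.mem_bot]
    have ha0 : a ≠ 0 := nonZeroDivisors.ne_zero ha
    obtain ⟨N, b, hb⟩ := exists_dvd_pow t a ha0
    have hJ : (Ideal.span {t}).map (MvPolynomial.C : R →+* MvPolynomial (Fin n) R) =
        Ideal.span {MvPolynomial.C t} := by
      rw [Ideal.map_span, Set.image_singleton]
    have hCt : (MvPolynomial.C t : MvPolynomial (Fin n) R) ∈ nonZeroDivisors _ := by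
      apply mem_nonZeroDivisors_of_ne_zero
      rwa [Ne, MvPolynomial.C_eq_zero]
    have hx : (t ^ N) • x = 0 := by
      rw [hb, mul_comm, mul_smul]
      have : a • x = 0 := hax
      rw [this, smul_zero]
    have hx' : (MvPolynomial.C t : MvPolynomial (Fin n) R) ^ N • x = 0 := by
      rw [← map_pow, ← hx]
      exact (algebraMap_smul (MvPolynomial (Fin n) R) (t ^ N) x)
    exact eq_zero_of_pow_smul' _ _ hJ hCt x N hx'

end Groth.Agent.S11546

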