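import Groth.Statements.S5094
import Groth.Agent.Lib.Helper61.BiratQFScheme

set_option autoImplicit false
universe u
open CategoryTheory CategoryTheory.Limits AlgebraicGeometry TopologicalSpace
open Lim8

namespace Groth.Agent.S5094

/-- Let X and Y be integral schemes and f : X → Y a separated morphism, locally of finite type and
birational (f sends the generic point of X to the generic point of Y and its stalk map there, the
induced homomorphism of function fields, is an isomorphism). Let y be a normal point of Y (the local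
ring O_{Y,y} is integrally closed) and suppose that some point of the fibre f⁻¹(y) is isolated in
that fibre. Then y has an open neighbourhood U such that the restriction f⁻¹(U) → U of f is an
isomorphism. -/
theorem result {X Y : Scheme.{u}} [IsIntegral X]
    [IsIntegral Y] (f : X ⟶ Y) [IsSeparated f] [LocallyOfFiniteType f]
    (hgen : f (genericPoint X) = genericPoint Y) (hbir : IsIso (f.stalkMap (genericPoint X)))
    (y : ↥Y) (hy : IsIntegrallyClosed ↑(Y.presheaf.stalk y))
    (x : ↥(f.fiber y)) (hx : IsOpen ({x} : Set ↥(f.fiber y))) :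
    ∃ U : Y.Opens, y ∈ U ∧ IsIso (f ∣_ U) := by
  classical
  set x' : X := f.fiberι y x with hx'
  have hfx : f x' = y := (f.fiberHomeo y x).2
  -- quasi-finiteness at x'
  have h1 : IsOpen ((f.fiberHomeo y) '' {x}) := (f.fiberHomeo y).isOpen_image.mpr hx
  rw [Set.image_singleton] at h1
  have h2 : f.fiberHomeo y x = ⟨x', hfx⟩ := Subtype.ext rfl
  rw [h2] at h1
  have key : ∀ (y' : Y) (h : f x' = y'), IsOpen ({⟨x', h⟩} : Set (f ⁻¹' {y'})) →
      IsOpen ({⟨x', rfl⟩} : Set (f ⁻¹' {f x'})) := by
    intro y' h; subst h; exact id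
  have h3 := key y hfx h1
  have hq : f.QuasiFiniteAt x' := by
    rw [Scheme.Hom.quasiFiniteAt_iff_isOpen_singleton_asFiber,
      ← (f.fiberHomeo (f x')).isOpen_image]
    simpa only [Set.image_singleton, Scheme.Hom.asFiber, Homeomorph.apply_symm_apply] using h3
  have hN : IsIntegrallyClosed (Y.presheaf.stalk (f x')) := hfx.symm ▸ hy
  obtain ⟨V, hxV, hV⟩ :=
    Groth.Agent.Lib.Helper61.BiratQF.exists_opens_isOpenImmersion f hbir x' hq hN
  haveI : Nonempty V := ⟨⟨x', hxV⟩⟩
  haveI := hV
  refine ⟨(V.ι ≫ f).opensRange, ?_,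
    Groth.Agent.Lib.Helper61.BiratQF.isIso_morphismRestrict_opensRange f V⟩
  rw [← hfx]
  exact ⟨⟨x', hxV⟩, rfl⟩

end Groth.Agent.S5094
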