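import Groth.Statements.S1164
import Groth.Agent.S4656
import Mathlib.RingTheory.Etale.Weakly
import Mathlib.RingTheory.Flat.Localization

set_option autoImplicit false
universe u
open Desc

namespace Groth.Agent.S1164

open TensorProduct in
/-- If `E` is weakly étale over `R` and the `E`-algebra `T` is flat over `R`, then `T` is flat over
`E`. -/
theorem flat_of_weaklyEtale (R E T : Type u) [CommRing R] [CommRing E] [CommRing T] [Algebra R E]
    [Algebra R T] [Algebra E T] [IsScalarTower R E T] [Algebra.WeaklyEtale R E] [Module.Flat R T] :
    Module.Flat E T := by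
  have h1 := RingHom.Flat.mapOfCompatibleSMul (R := R) (S := E) E T
    (Algebra.WeaklyEtale.flat_lmul' R E)
  have h2 : (algebraMap E (E ⊗[R] T)).Flat := RingHom.flat_algebraMap_iff.mpr inferInstance
  have h3 : ((Algebra.TensorProduct.lid E T).toAlgHom.toRingHom).Flat :=
    .of_bijective (Algebra.TensorProduct.lid E T).bijective
  have h4 := (h2.comp h1).comp h3
  rw [← RingHom.flat_algebraMap_iff]
  convert h4 using 1
  ext e
  simp [Algebra.algebraMap_eq_smul_one]

/-- Let R → S be a local homomorphism of local rings. Let R' be a local ring which is a localization at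
a prime of an etale R-algebra, with R → R' local, and similarly S' for S, and suppose S' is an
R'-algebra compatibly with the given maps. Then R → S is flat if and only if R' → S' is flat. (This
is the statement that flatness of a morphism of germs is etale local on source and target together.) -/
theorem result (R S R' S' : Type u) [CommRing R] [CommRing S] [CommRing R'] [CommRing S']
    [IsLocalRing R] [IsLocalRing S] [IsLocalRing R'] [IsLocalRing S']
    [Algebra R S] [IsLocalHom (algebraMap R S)] [Algebra R R'] [IsLocalHom (algebraMap R R')]
    [Algebra S S'] [IsLocalHom (algebraMap S S')] [Algebra R' S'] [Algebra R S']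
    [IsScalarTower R R' S'] [IsScalarTower R S S']
    (E : Type u) [CommRing E] [Algebra R E] [Algebra.Etale R E] (P : Ideal E) [P.IsPrime]
    [Algebra E R'] [IsScalarTower R E R'] [IsLocalization.AtPrime R' P]
    (F : Type u) [CommRing F] [Algebra S F] [Algebra.Etale S F] (Q : Ideal F) [Q.IsPrime]
    [Algebra F S'] [IsScalarTower S F S'] [IsLocalization.AtPrime S' Q] :
    Module.Flat R S ↔ Module.Flat R' S' := by
  have hSF : Module.Flat S F := inferInstance
  have hFS' : Module.Flat F S' := IsLocalization.flat S' Q.primeCompl
  have hSS' : Module.Flat S S' := Module.Flat.trans S F S'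
  have hRE : Module.Flat R E := inferInstance
  have hER' : Module.Flat E R' := IsLocalization.flat R' P.primeCompl
  have hRR' : Module.Flat R R' := Module.Flat.trans R E R'
  constructor
  · intro hRS
    have hRS' : Module.Flat R S' := Module.Flat.trans R S S'
    letI : Algebra E S' := ((algebraMap R' S').comp (algebraMap E R')).toAlgebra
    haveI : IsScalarTower E R' S' := IsScalarTower.of_algebraMap_eq' rfl
    haveI : IsScalarTower R E S' := IsScalarTower.of_algebraMap_eq' (by
      rw [RingHom.algebraMap_toAlgebra, RingHom.comp_assoc, ← IsScalarTower.algebraMap_eq R E R',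
        ← IsScalarTower.algebraMap_eq R R' S'])
    have hES' : Module.Flat E S' := flat_of_weaklyEtale R E S'
    exact (Module.flat_iff_of_isLocalization R' P.primeCompl (M := S')).mpr hES'
  · intro hR'S'
    have hRS' : Module.Flat R S' := Module.Flat.trans R R' S'
    haveI : Module.FaithfullyFlat S S' := Module.FaithfullyFlat.of_flat_of_isLocalHom
    exact Groth.Agent.S4656.flat_of_faithfullyFlat_of_flat R S S'


end Groth.Agent.S1164
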