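import Groth.Statements.S5165
import Groth.Agent.S0563
-- import your own Groth.Agent.* helpers here

set_option autoImplicit false
universe u
open CategoryTheory
open LocCoh

namespace Groth.Agent.S5165


set_option backward.isDefEq.respectTransparency false in
/-- The locus where the localization of a finite module has projective dimension `≤ n` is open. -/
theorem isOpen_pdLocus (A : Type u) [CommRing A] [IsNoetherianRing A] (n : ℕ)
    (M : ModuleCat.{u} A) [Module.Finite A M] :
    IsOpen {p : PrimeSpectrum A | HasProjectiveDimensionLE
        (M.localizedModule p.asIdeal.primeCompl) n} := by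
  induction n generalizing M with
  | zero =>
    have : Module.FinitePresentation A M := Module.finitePresentation_of_finite A M
    convert Module.isOpen_freeLocus (R := A) (M := M) using 1
    ext p
    rw [Module.mem_freeLocus_of_isLocalization p (Localization.AtPrime p.asIdeal)
      (M.localizedModule p.asIdeal.primeCompl)
      (M.localizedModuleMkLinearMap p.asIdeal.primeCompl)]
    simp only [Set.mem_ofPred_eq, HasProjectiveDimensionLE, zero_add,
      ← projective_iff_hasProjectiveDimensionLT_one]
    rw [← IsProjective.iff_projective]
    have hfin : Module.Finite (Localization.AtPrime p.asIdeal)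
        (M.localizedModule p.asIdeal.primeCompl) :=
      Module.Finite.of_isLocalizedModule p.asIdeal.primeCompl
        (M.localizedModuleMkLinearMap p.asIdeal.primeCompl)
    constructor
    · intro h
      exact Module.free_of_flat_of_isLocalRing
    · intro h
      exact Module.Projective.of_free
  | succ n ih =>
    rcases Module.exists_finite_presentation A M with ⟨P, _, _, _, _, f, surjf⟩
    let S := f.shortComplexKer
    have S_exact := LinearMap.shortExact_shortComplexKer surjf
    have proj := ModuleCat.projective_of_categoryTheory_projective S.X₂
    let Sp (p : PrimeSpectrum A) := S.map (ModuleCat.localizedModuleFunctor p.asIdeal.primeCompl)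
    have Sp_exact (p : PrimeSpectrum A) : (Sp p).ShortExact :=
      S_exact.map_of_exact (ModuleCat.localizedModuleFunctor p.asIdeal.primeCompl)
    have projp (p : PrimeSpectrum A) : Projective (Sp p).X₂ :=
      (ModuleCat.localizedModuleFunctor.{u} p.asIdeal.primeCompl).projective_obj_of_projective proj
    have key := ih (ModuleCat.of A (LinearMap.ker f))
    convert key using 1
    ext p
    exact (Sp_exact p).hasProjectiveDimensionLT_X₃_iff n (projp p)

/-- Suppose A is a regular Noetherian ring and consider a finitely generated A-module M. Then some
natural number d bounds the projective dimension of M (equivalently, p ↦ proj.dim M_p stays bounded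
as p ranges over Spec A, and this holds even if the Krull dimension of A is infinite). -/
theorem result (A : Type u) [CommRing A] [IsRegularRing A] (M : Type u) [AddCommGroup M] [Module A M] [Module.Finite A M] : ∃ d : ℕ, HasProjectiveDimensionLE (ModuleCat.of A M) d := by
  let U : ℕ → Set (PrimeSpectrum A) := fun n => {p : PrimeSpectrum A | HasProjectiveDimensionLE
        ((ModuleCat.of A M).localizedModule p.asIdeal.primeCompl) n}
  have hUo : ∀ n, IsOpen (U n) := fun n => isOpen_pdLocus A n (ModuleCat.of A M)
  have hmono : ∀ m n, m ≤ n → U m ⊆ U n := by
    intro m n hmn p hp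
    have hp' : HasProjectiveDimensionLT
        ((ModuleCat.of A M).localizedModule p.asIdeal.primeCompl) (m + 1) := hp
    exact hasProjectiveDimensionLT_of_ge _ (m + 1) (n + 1) (by omega)
  have hcover : (Set.univ : Set (PrimeSpectrum A)) ⊆ ⋃ n, U n := by
    intro p _
    have : IsRegularLocalRing (Localization.AtPrime p.asIdeal) :=
      IsRegularRing.isRegularLocalRing_localization p.asIdeal
    have hd : ringKrullDim (Localization.AtPrime p.asIdeal) =
        ((IsLocalRing.maximalIdeal (Localization.AtPrime p.asIdeal)).spanFinrank : ℕ) := by
      rw [← IsRegularLocalRing.spanFinrank_maximalIdeal]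
    rw [Set.mem_iUnion]
    exact ⟨_, Groth.Agent.S0563.result (Localization.AtPrime p.asIdeal) _ hd
      ((ModuleCat.of A M).localizedModule p.asIdeal.primeCompl)⟩
  have hdir : Directed (· ⊆ ·) U := by
    intro m n
    exact ⟨max m n, hmono _ _ (le_max_left _ _), hmono _ _ (le_max_right _ _)⟩
  obtain ⟨N, hN⟩ := isCompact_univ.elim_directed_cover U hUo hcover hdir
  refine ⟨N, ?_⟩
  rw [ModuleCat.hasProjectiveDimensionLE_iff_forall_primeSpectrum]
  intro p
  exact hN (Set.mem_univ p)

end Groth.Agent.S5165
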