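import Groth.Statements.S1179
import Groth.Agent.Lib.Helper38.EtaleSource

set_option autoImplicit false
open CategoryTheory CategoryTheory.Limits AlgebraicGeometry Opposite
universe u
open Desc

namespace Groth.Agent.S1179

/-- Let f : X' ⟶ X be etale and surjective and g : X ⟶ Y a morphism. If f ≫ g is locally quasi-finite,
then g is locally quasi-finite; with stability under precomposition by etale maps this says that
local quasi-finiteness is etale local on the source. -/
theorem result {X' X Y : Scheme.{u}} (f : X' ⟶ X) (g : X ⟶ Y) [Etale f] [Surjective f]
    [LocallyQuasiFinite (f ≫ g)] [LocallyOfFiniteType (f ≫ g)] : LocallyQuasiFinite g ∧ LocallyOfFiniteType g := by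
  exact ⟨Groth.Agent.Lib.Helper38.EtaleSource.locallyQuasiFinite_of_comp_etale_surjective f g,
    Groth.Agent.Lib.Helper38.EtaleSource.locallyOfFiniteType_of_comp_etale_surjective f g⟩

end Groth.Agent.S1179
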