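import Groth.Statements.S1183
import Groth.Agent.Lib.Helper49.RegAscent
import Groth.Agent.Lib.Helper49.SmoothReg
import Groth.Agent.Lib.Helper49.Serre5
-- import your own Groth.Agent.* helpers here

set_option autoImplicit false
universe u
open Desc

namespace Groth.Agent.S1183

/-- Let A → B be a smooth ring map of Noetherian rings and k a natural number. If A satisfies (R_k) then
so does B; and if moreover A → B is faithfully flat and B satisfies (R_k), then A does. -/
theorem result (A B : Type u) [CommRing A] [CommRing B] [IsNoetherianRing A] [IsNoetherianRing B]
    [Algebra A B] [Algebra.Smooth A B] (k : ℕ) :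
    (LocCoh.HasRk k A → LocCoh.HasRk k B) ∧
    (Module.FaithfullyFlat A B → LocCoh.HasRk k B → LocCoh.HasRk k A) := by
  haveI : Module.Flat A B := inferInstance
  constructor
  · intro hA
    apply Groth.Agent.Lib.Helper49.RegAscent.hasRk_of_flat_of_fibres (R := A) k hA
    intro p hp
    haveI : IsRegularRing p.ResidueField := inferInstance
    haveI : Algebra.Smooth p.ResidueField (p.Fiber B) := by
      unfold Ideal.Fiber
      infer_instance
    haveI : IsRegularRing (p.Fiber B) :=
      Groth.Agent.Lib.Helper49.SmoothReg.isRegularRing_of_smooth p.ResidueField _
    intro Q hQ _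
    infer_instance
  · intro hff hB
    haveI := hff
    exact Groth.Agent.Lib.Helper49.Serre.hasRk_of_faithfullyFlat A B hB

end Groth.Agent.S1183
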