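import Groth.Statements.S13115
import Mathlib

set_option autoImplicit false
universe u
open scoped TensorProduct
open HilbChow

namespace Groth.Agent.S13115

theorem exists_perm_of_content {κ : Type*} [DecidableEq κ] {m : ℕ} (p p' : Fin m → κ)
    (h : ∑ j, (Finsupp.single (p j) 1 : κ →₀ ℕ) = ∑ j, (Finsupp.single (p' j) 1 : κ →₀ ℕ)) :
    ∃ σ : Equiv.Perm (Fin m), p' ∘ σ = p := by
  have hcard : ∀ c, Fintype.card {j // p j = c} = Fintype.card {j // p' j = c} := by
    intro c
    have := DFunLike.congr_fun h c
    simp only [Finsupp.coe_finsetSum, Finset.sum_apply, Finsupp.single_apply] at this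
    rw [Fintype.card_subtype, Fintype.card_subtype]
    simpa [Finset.sum_boole] using this
  let e : ∀ c, {j // p j = c} ≃ {j // p' j = c} := fun c => Fintype.equivOfCardEq (hcard c)
  refine ⟨Equiv.ofFiberEquiv e, ?_⟩
  funext j
  exact Equiv.ofFiberEquiv_map e j

/-- Let k be an infinite field, V a k-vector space and m a natural number. Then every symmetric tensor
in the m-fold tensor power of V — one fixed by every permutation of the factors — is a k-linear
combination of pure powers v ⊗ ⋯ ⊗ v with v in V. (The published statement concerns the ring of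
functions of an affine scheme over an infinite field, where it gives the uniqueness of the algebra
map defining the Hilbert-to-Chow morphism for zero-cycles; this row states it for any vector space.) -/
theorem result
    (k V : Type u) [Field k] [Infinite k] [AddCommGroup V] [Module k V] (m : ℕ)
    (x : ⨂[k] _ : Fin m, V)
    (hx : ∀ σ : Equiv.Perm (Fin m), PiTensorProduct.reindex k (fun _ : Fin m => V) σ x = x) :
    x ∈ Submodule.span k (Set.range fun v : V => PiTensorProduct.tprod k (fun _ : Fin m => v)) := by
  classical
  by_contra hxP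
  obtain ⟨lam, hlx, hlP⟩ := Submodule.exists_dual_map_eq_bot_of_notMem hxP inferInstance
  have hlam : ∀ v : V, lam (PiTensorProduct.tprod k (fun _ : Fin m => v)) = 0 := by
    intro v
    have hmem : lam (PiTensorProduct.tprod k (fun _ : Fin m => v)) ∈
        (Submodule.span k (Set.range fun v : V =>
          PiTensorProduct.tprod k (fun _ : Fin m => v))).map lam :=
      Submodule.mem_map_of_mem (Submodule.subset_span ⟨v, rfl⟩)
    rw [hlP] at hmem
    exact (Submodule.mem_bot _).mp hmem
  apply hlx
  let b := Module.Basis.ofVectorSpace k V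
  let B := Basis.piTensorProduct (fun _ : Fin m => b)
  set c := B.repr x with hc
  have hBp : ∀ p, B p = PiTensorProduct.tprod k (fun i => b (p i)) := fun p =>
    Basis.piTensorProduct_apply _ p
  -- invariance of coefficients
  have hcinv : ∀ (σ : Equiv.Perm (Fin m)) p, c (p ∘ σ) = c p := by
    intro σ p
    have h1 : ∀ y, B.repr (PiTensorProduct.reindex k (fun _ : Fin m => V) σ y) p
        = B.repr y (p ∘ σ) := by
      intro y
      have : (Finsupp.lapply p ∘ₗ B.repr.toLinearMap ∘ₗ
          (PiTensorProduct.reindex k (fun _ : Fin m => V) σ).toLinearMap) =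
          (Finsupp.lapply (p ∘ σ) ∘ₗ B.repr.toLinearMap) := by
        refine B.ext fun q => ?_
        simp only [LinearMap.comp_apply, LinearEquiv.coe_coe, Finsupp.lapply_apply]
        rw [hBp, PiTensorProduct.reindex_tprod, ← hBp (fun i => q (σ.symm i)), ← hBp q,
          B.repr_self, B.repr_self, Finsupp.single_apply, Finsupp.single_apply]
        congr 1
        apply propext
        constructor
        · intro h; rw [← h]; funext i; simp
        · intro h; rw [h]; funext i; simp
      exact LinearMap.congr_fun this y
    have := h1 x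
    rw [hx σ] at this
    exact this.symm
  set g : (Fin m → ↑(Module.Basis.ofVectorSpaceIndex k V)) → k := fun p => lam (B p) with hg
  let content : (Fin m → ↑(Module.Basis.ofVectorSpaceIndex k V)) →
      (↑(Module.Basis.ofVectorSpaceIndex k V) →₀ ℕ) := fun p => ∑ j, Finsupp.single (p j) 1
  have hcc : ∀ p p', content p = content p' → c p = c p' := by
    intro p p' h
    obtain ⟨σ, hσ⟩ := exists_perm_of_content p p' h
    rw [← hσ, hcinv]
  let K : Finset ↑(Module.Basis.ofVectorSpaceIndex k V) :=
    c.support.biUnion (fun p => Finset.univ.image p)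
  let S : Finset (Fin m → ↑(Module.Basis.ofVectorSpaceIndex k V)) :=
    Fintype.piFinset (fun _ => K)
  have hsuppS : c.support ⊆ S := by
    intro p hp
    rw [Fintype.mem_piFinset]
    intro j
    exact Finset.mem_biUnion.mpr ⟨p, hp, Finset.mem_image_of_mem _ (Finset.mem_univ j)⟩
  let Q : MvPolynomial ↑(Module.Basis.ofVectorSpaceIndex k V) k :=
    ∑ p ∈ S, MvPolynomial.monomial (content p) (g p)
  have hQ : Q = 0 := by
    apply MvPolynomial.funext
    intro t
    rw [map_zero]
    have hv := hlam (∑ i ∈ K, t i • b i)
    rw [MultilinearMap.map_sum_finset] at hv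
    simp only [MultilinearMap.map_smul_univ, map_sum, map_smul, ← hBp] at hv
    rw [← hv]
    simp only [Q, map_sum]
    refine Finset.sum_congr rfl fun p _ => ?_
    rw [MvPolynomial.eval_monomial]
    simp only [content]
    rw [← Finsupp.prod_finsetSum_index (fun a => pow_zero _) (fun a b₁ b₂ => pow_add _ _ _)]
    simp only [Finsupp.prod_single_index, pow_zero, pow_one, smul_eq_mul, g]
    rw [mul_comm]
  have hcoeff : ∀ α, ∑ p ∈ S with content p = α, g p = 0 := by
    intro α
    have := congrArg (MvPolynomial.coeff α) hQ
    simp only [Q, MvPolynomial.coeff_sum, MvPolynomial.coeff_monomial,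
      MvPolynomial.coeff_zero] at this
    rw [Finset.sum_filter]; exact this
  have hxsum : lam x = ∑ p ∈ c.support, c p * g p := by
    conv_lhs => rw [← B.linearCombination_repr x]
    rw [Finsupp.linearCombination_apply, Finsupp.sum, map_sum]
    refine Finset.sum_congr rfl fun p _ => ?_
    rw [map_smul, smul_eq_mul]
  rw [hxsum, Finset.sum_subset hsuppS (fun p _ hp => by
    rw [Finsupp.notMem_support_iff.mp hp, zero_mul])]
  rw [← Finset.sum_fiberwise_of_maps_to (g := content) (t := S.image content)
    (fun p hp => Finset.mem_image_of_mem _ hp)]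
  refine Finset.sum_eq_zero fun α _ => ?_
  rcases (S.filter (fun p => content p = α)).eq_empty_or_nonempty with he | ⟨p0, hp0⟩
  · rw [he, Finset.sum_empty]
  · have hp0' := (Finset.mem_filter.mp hp0).2
    rw [Finset.sum_congr rfl (fun p hp => by
      rw [hcc p p0 ((Finset.mem_filter.mp hp).2.trans hp0'.symm)]), ← Finset.mul_sum, hcoeff,
      mul_zero]

end Groth.Agent.S13115
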