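import Groth.Statements.S1188
import Groth.Agent.Lib.Helper53.GalWhisker

set_option autoImplicit false
universe u v w
open CategoryTheory PreGaloisCategory
open Pi1

namespace Groth.Agent.S1188

/-- Let H : C ⥤ C' be an exact functor between Galois categories and F' a fibre functor on C' such that
F' ∘ H is a fibre functor on C; write h : π_1(C', F') → π_1(C, F' ∘ H) for the induced homomorphism
of fundamental groups. Then h is injective if and only if for every connected object X' of C' there
are an object X of C, an object Y' of C', an epimorphism Y' ⟶ X' and a monomorphism Y' ⟶ H(X). -/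
theorem result {C C' : Type u} [Category.{v} C] [Category.{v} C'] [GaloisCategory C] [GaloisCategory C']
    (H : C ⥤ C') [Limits.PreservesFiniteLimits H] [Limits.PreservesFiniteColimits H]
    (F' : C' ⥤ FintypeCat.{w}) [FiberFunctor F'] [FiberFunctor (H ⋙ F')] :
    Function.Injective (Pi1X.autWhisker H F') ↔
      ∀ X' : C', IsConnected X' → ∃ (X : C) (Y' : C') (p : Y' ⟶ X') (q : Y' ⟶ H.obj X), Epi p ∧ Mono q := by
  open Groth.Agent.Helper53.Gal in
  constructor
  · -- injective ⇒ criterion
    intro hinj X' hX'
    obtain ⟨x'⟩ := nonempty_fiber_of_isConnected F' X'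
    have hcont := continuous_autWhisker H F'
    have hemb : Topology.IsClosedEmbedding (Pi1X.autWhisker H F') :=
      hcont.isClosedEmbedding hinj
    -- the stabilizer of x' is a neighbourhood of 1
    have hU : (MulAction.stabilizer (Aut F') x' : Set (Aut F')) ∈ nhds (1 : Aut F') :=
      (stabilizer_isOpen (Aut F') x').mem_nhds (Subgroup.one_mem _)
    rw [hemb.isInducing.nhds_eq_comap, map_one] at hU
    obtain ⟨V, hV, hVU⟩ := hU
    obtain ⟨A, -, hA⟩ := (nhds_one_has_basis_stabilizers (H ⋙ F')).mem_iff.mp hV
    -- the pointed Galois object (A, a)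
    let a : F'.obj (H.obj A.obj) := A.pt
    obtain ⟨Y', q, y', hy', hconn, hmono⟩ := fiber_in_connected_component F' (H.obj A.obj) a
    obtain ⟨p, hp⟩ := exists_hom_of_stabilizer_le F' y' x' (by
      intro σ hσ
      have h1 : Pi1X.autWhisker H F' σ ∈ MulAction.stabilizer (Aut (H ⋙ F')) A.pt := by
        show σ.hom.app (H.obj A.obj) a = a
        rw [← hy', NatTrans.naturality_apply]
        exact congrArg (F'.map q) hσ
      exact hVU (hA h1))
    have : Nonempty (F'.obj Y') := ⟨y'⟩
    exact ⟨A.obj, Y', p, q, epi_of_nonempty_of_isConnected F' p, hmono⟩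
  · -- criterion ⇒ injective
    intro hcrit
    rw [injective_iff_map_eq_one]
    intro σ hσ
    have htriv : ∀ (X : C) (z : F'.obj (H.obj X)), σ.hom.app (H.obj X) z = z := by
      intro X z
      have := congrArg (fun τ : Aut (H ⋙ F') => τ.hom.app X z) hσ
      exact this
    have hconn : ∀ (Z : C') [IsConnected Z] (z : F'.obj Z), σ.hom.app Z z = z := by
      intro Z _ z
      obtain ⟨X, Y', p, q, hp, hq⟩ := hcrit Z inferInstance
      obtain ⟨y, rfl⟩ := surjective_on_fiber_of_epi F' p z
      rw [NatTrans.naturality_apply]
      congr 1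
      have hqinj : Function.Injective (F'.map q) := by
        have : Mono (F'.map q) := inferInstance
        exact (ConcreteCategory.mono_iff_injective_of_preservesPullback _).mp this
      apply hqinj
      rw [← NatTrans.naturality_apply, htriv]
    apply Iso.ext
    ext X' x'
    obtain ⟨Z, f, z, hz, hc, hm⟩ := fiber_in_connected_component F' X' x'
    show σ.hom.app X' x' = x'
    rw [← hz, NatTrans.naturality_apply, hconn Z z]

end Groth.Agent.S1188
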