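import Groth.Statements.S1190
import Groth.Agent.Lib.Helper53.GalExact
import Groth.Agent.S1189

set_option autoImplicit false
universe u v w
open CategoryTheory PreGaloisCategory
open Pi1

namespace Groth.Agent.S1190

/-- Let H : C ⥤ C' and H' : C' ⥤ C'' be exact functors between Galois categories, F'' a fibre functor on
C'' with F'' ∘ H' and F'' ∘ H' ∘ H fibre functors, and h', h the induced homomorphisms of
fundamental groups. Then: h is surjective, h ∘ h' is trivial and the kernel of h is the closed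
normal subgroup generated by the image of h', if and only if H is fully faithful and its essential
image consists exactly of those X' in C' for which H'(X') is a finite coproduct of copies of the
final object. -/
theorem result {C C' C'' : Type u} [Category.{v} C] [Category.{v} C'] [Category.{v} C'']
    [GaloisCategory C] [GaloisCategory C'] [GaloisCategory C'']
    (H : C ⥤ C') [Limits.PreservesFiniteLimits H] [Limits.PreservesFiniteColimits H]
    (H' : C' ⥤ C'') [Limits.PreservesFiniteLimits H'] [Limits.PreservesFiniteColimits H']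
    (F'' : C'' ⥤ FintypeCat.{w}) [FiberFunctor F''] [FiberFunctor (H' ⋙ F'')] [FiberFunctor (H ⋙ (H' ⋙ F''))] :
    (Function.Surjective (Pi1X.autWhisker H (H' ⋙ F'')) ∧
      (∀ σ : Aut F'', Pi1X.autWhisker H (H' ⋙ F'') (Pi1X.autWhisker H' F'' σ) = 1) ∧
      (Pi1X.autWhisker H (H' ⋙ F'')).ker = (Subgroup.normalClosure (Set.range (Pi1X.autWhisker H' F''))).topologicalClosure) ↔
    ((H.Full ∧ H.Faithful) ∧
      ∀ X' : C', (∃ X : C, Nonempty (H.obj X ≅ X')) ↔ ∃ n : ℕ, Nonempty (H'.obj X' ≅ ∐ fun _ : Fin n => ⊤_ C'')) := by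
  open Groth.Agent.Helper53.Gal Groth.Agent.Lib.Helper89.GalFunctor in
  -- transport of triviality along isomorphisms
  have htransp : ∀ {D : Type u} [Category.{v} D] (Φ : D ⥤ FintypeCat.{w}) (σ : Aut Φ) {X Y : D}
      (e : X ≅ Y), σ.hom.app X = 𝟙 _ → σ.hom.app Y = 𝟙 _ := by
    intro D _ Φ σ X Y e hX
    have h1 := σ.hom.naturality e.inv
    rw [hX, Category.comp_id] at h1
    have h2 : Φ.map e.inv ≫ Φ.map e.hom = 𝟙 _ := by rw [← Φ.map_comp, e.inv_hom_id, Φ.map_id]
    calc σ.hom.app Y = (Φ.map e.inv ≫ Φ.map e.hom) ≫ σ.hom.app Y := by rw [h2, Category.id_comp]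
      _ = Φ.map e.inv ≫ (Φ.map e.hom ≫ σ.hom.app Y) := by rw [Category.assoc]
      _ = Φ.map e.inv ≫ (σ.hom.app X ≫ Φ.map e.hom) := by rw [σ.hom.naturality e.hom]
      _ = _ := by rw [hX, Category.id_comp, h2]
  have hcont := continuous_autWhisker H (H' ⋙ F'')
  have hkerclosed : IsClosed ((Pi1X.autWhisker H (H' ⋙ F'')).ker : Set (Aut (H' ⋙ F''))) := by
    have : ((Pi1X.autWhisker H (H' ⋙ F'')).ker : Set (Aut (H' ⋙ F''))) =
        (Pi1X.autWhisker H (H' ⋙ F'')) ⁻¹' {1} := by
      ext σ
      simp [MonoidHom.mem_ker]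
    rw [this]
    exact isClosed_singleton.preimage hcont
  constructor
  · rintro ⟨hsurj, htriv, hker⟩
    refine ⟨⟨full_of_autWhisker_surjective H (H' ⋙ F'') hsurj,
      faithful_of_fiberFunctor H (H' ⋙ F'')⟩, fun X' => ⟨?_, ?_⟩⟩
    · rintro ⟨X, ⟨e⟩⟩
      obtain ⟨n, ⟨e0⟩⟩ := (Groth.Agent.S1189.result H H' F'').mp htriv X
      exact ⟨n, ⟨(H'.mapIso e).symm ≪≫ e0⟩⟩
    · intro hX'
      apply exists_iso_obj_of_ker_le H (H' ⋙ F'') hsurj X'
      -- the kernel of the action on the fibre of X'
      let K : Subgroup (Aut (H' ⋙ F'')) :=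
        ((Pi.evalMonoidHom _ X').comp (autEmbedding (H' ⋙ F''))).ker
      have hKmem : ∀ σ : Aut (H' ⋙ F''), σ ∈ K ↔ σ.hom.app X' = 𝟙 _ := by
        intro σ
        constructor
        · intro hσ
          have : autEmbedding (H' ⋙ F'') σ X' = (1 : Aut ((H' ⋙ F'').obj X')) := hσ
          exact congrArg Iso.hom this
        · intro hσ
          show autEmbedding (H' ⋙ F'') σ X' = (1 : Aut ((H' ⋙ F'').obj X'))
          apply Iso.ext
          exact hσ
      have hKclosed : IsClosed (K : Set (Aut (H' ⋙ F''))) := by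
        have : (K : Set (Aut (H' ⋙ F''))) =
            (fun σ => autEmbedding (H' ⋙ F'') σ X') ⁻¹' {1} := by
          ext σ
          rfl
        rw [this]
        exact isClosed_singleton.preimage
          ((continuous_apply X').comp continuous_induced_dom)
      have hrange : Set.range (Pi1X.autWhisker H' F'') ⊆ K := by
        rintro _ ⟨τ, rfl⟩
        rw [SetLike.mem_coe, hKmem]
        exact (trivial_action_iff F'' (H'.obj X')).mpr hX' τ
      have hNK : (Subgroup.normalClosure (Set.range (Pi1X.autWhisker H' F''))).topologicalClosure ≤ K :=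
        Subgroup.topologicalClosure_minimal _ (Subgroup.normalClosure_le_normal hrange) hKclosed
      intro σ hσ
      have : σ ∈ (Pi1X.autWhisker H (H' ⋙ F'')).ker := hσ
      rw [hker] at this
      exact (hKmem σ).mp (hNK this)
  · rintro ⟨⟨hfull, hfaith⟩, hess⟩
    have hsurj : Function.Surjective (Pi1X.autWhisker H (H' ⋙ F'')) :=
      autWhisker_surjective_of_preservesConnected H (H' ⋙ F'')
        (fun X hX => isConnected_obj_of_fullyFaithful H (H' ⋙ F'') X)
    have htriv : ∀ σ : Aut F'', Pi1X.autWhisker H (H' ⋙ F'') (Pi1X.autWhisker H' F'' σ) = 1 :=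
      (Groth.Agent.S1189.result H H' F'').mpr (fun X => (hess (H.obj X)).mp ⟨X, ⟨Iso.refl _⟩⟩)
    refine ⟨hsurj, htriv, le_antisymm ?_ ?_⟩
    · intro σ hσ
      by_contra hσN
      have hNclosed : IsClosed ((Subgroup.normalClosure
          (Set.range (Pi1X.autWhisker H' F''))).topologicalClosure : Set (Aut (H' ⋙ F''))) :=
        Subgroup.isClosed_topologicalClosure _
      have hNnormal : (Subgroup.normalClosure
          (Set.range (Pi1X.autWhisker H' F''))).topologicalClosure.Normal :=
        Subgroup.is_normal_topologicalClosure _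
      obtain ⟨X', hX'N, hX'σ⟩ := exists_obj_separating (H' ⋙ F'') _ hNclosed σ hσN
      have hX'triv : ∃ n : ℕ, Nonempty (H'.obj X' ≅ ∐ fun _ : Fin n => ⊤_ C'') := by
        apply (trivial_action_iff F'' (H'.obj X')).mp
        intro τ
        exact hX'N (Pi1X.autWhisker H' F'' τ)
          (Subgroup.le_topologicalClosure _ (Subgroup.subset_normalClosure ⟨τ, rfl⟩))
      obtain ⟨X, ⟨e⟩⟩ := (hess X').mpr hX'triv
      apply hX'σ
      apply htransp (H' ⋙ F'') σ e
      have := congrArg (fun τ : Aut (H ⋙ (H' ⋙ F'')) => τ.hom.app X) (MonoidHom.mem_ker.mp hσ)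
      exact this
    · apply Subgroup.topologicalClosure_minimal _ _ hkerclosed
      apply Subgroup.normalClosure_le_normal
      rintro _ ⟨τ, rfl⟩
      exact MonoidHom.mem_ker.mpr (htriv τ)

end Groth.Agent.S1190
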