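import Groth.Statements.S9636
import Mathlib.RingTheory.Kaehler.Basic
import Mathlib.Algebra.Polynomial.Identities
import Mathlib.FieldTheory.Separable
import Mathlib.RingTheory.Localization.Basic
-- import your own Groth.Agent.* helpers here

set_option autoImplicit false
universe u
open CAlg

namespace Groth.Agent.S9636

open TensorProduct Polynomial in
theorem key_gen {k k' : Type u} [Field k] [Field k'] [Algebra k k'] [Algebra.IsSeparable k k']
    (x : k') : ∃ c : k' ⊗[k] k', Algebra.TensorProduct.lmul' (S := k') k c ≠ 0 ∧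
      c * ((1 : k') ⊗ₜ[k] x - x ⊗ₜ[k] (1 : k')) = 0 := by
  set a : k' ⊗[k] k' := x ⊗ₜ[k] (1 : k') with ha
  set b : k' ⊗[k] k' := (1 : k') ⊗ₜ[k] x with hb
  set f : k[X] := minpoly k x with hf
  have hsep : f.Separable := Algebra.IsSeparable.isSeparable k x
  have hfa : aeval a f = 0 := by
    have : a = (Algebra.TensorProduct.includeLeft : k' →ₐ[k] k' ⊗[k] k') x := rfl
    rw [this, aeval_algHom_apply, hf, minpoly.aeval, map_zero]
  have hfb : aeval b f = 0 := by
    have : b = (Algebra.TensorProduct.includeRight : k' →ₐ[k] k' ⊗[k] k') x := rfl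
    rw [this, aeval_algHom_apply, hf, minpoly.aeval, map_zero]
  obtain ⟨K, hK⟩ := binomExpansion (f.map (algebraMap k (k' ⊗[k] k'))) a (b - a)
  rw [add_sub_cancel, eval_map_algebraMap, eval_map_algebraMap, hfa, hfb, derivative_map,
    eval_map_algebraMap] at hK
  refine ⟨aeval a (derivative f) + K * (b - a), ?_, ?_⟩
  · have hμa : Algebra.TensorProduct.lmul' (S := k') k a = x := by simp [ha]
    have hμb : Algebra.TensorProduct.lmul' (S := k') k b = x := by simp [hb]
    rw [map_add, map_mul, map_sub, hμa, hμb, sub_self, mul_zero, add_zero,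
      ← aeval_algHom_apply, hμa]
    exact hsep.aeval_derivative_ne_zero (minpoly.aeval k x)
  · rw [add_mul]
    rw [zero_add] at hK
    rw [hK]
    ring

open TensorProduct in
/-- Let k'/k be a separable algebraic field extension. Then for some multiplicative subset S of k' ⊗_k
k' the multiplication map k' ⊗_k k' → k' is a localization at S: there is a ring isomorphism S⁻¹(k'
⊗_k k') ≅ k' carrying the localization map to the multiplication map. -/
theorem result {k k' : Type u} [Field k] [Field k'] [Algebra k k'] [Algebra.IsSeparable k k'] :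
    ∃ (S : Submonoid (k' ⊗[k] k')) (e : Localization S ≃+* k'), ∀ x : k' ⊗[k] k', e (algebraMap (k' ⊗[k] k') (Localization S) x) = Algebra.TensorProduct.lmul' (S := k') k x := by
  classical
  let μ : k' ⊗[k] k' →ₐ[k] k' := Algebra.TensorProduct.lmul' (S := k') k
  let J : Ideal (k' ⊗[k] k') :=
    { carrier := {b | ∃ c : k' ⊗[k] k', μ c ≠ 0 ∧ c * b = 0}
      add_mem' := by
        rintro b₁ b₂ ⟨c₁, h₁, e₁⟩ ⟨c₂, h₂, e₂⟩
        refine ⟨c₁ * c₂, by rw [map_mul]; exact mul_ne_zero h₁ h₂, ?_⟩
        rw [mul_add, mul_right_comm, e₁, zero_mul, mul_assoc, e₂, mul_zero, add_zero]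
      zero_mem' := ⟨1, by rw [map_one]; exact one_ne_zero, mul_zero _⟩
      smul_mem' := by
        rintro r b ⟨c, h, e⟩
        refine ⟨c, h, ?_⟩
        rw [smul_eq_mul, mul_left_comm, e, mul_zero] }
  have hker : RingHom.ker μ ≤ J := by
    change KaehlerDifferential.ideal k k' ≤ J
    rw [← KaehlerDifferential.span_range_eq_ideal, Ideal.span_le]
    rintro _ ⟨x, rfl⟩
    exact key_gen x
  let S : Submonoid (k' ⊗[k] k') :=
    { carrier := {c | μ c ≠ 0}
      mul_mem' := by
        intro c₁ c₂ h₁ h₂
        change μ (c₁ * c₂) ≠ 0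
        rw [map_mul]
        exact mul_ne_zero h₁ h₂
      one_mem' := by
        change μ 1 ≠ 0
        rw [map_one]
        exact one_ne_zero }
  letI : Algebra (k' ⊗[k] k') k' := μ.toRingHom.toAlgebra
  have hloc : IsLocalization S k' := by
    rw [isLocalization_iff]
    refine ⟨?_, ?_, ?_⟩
    · rintro ⟨c, hc⟩
      exact IsUnit.mk0 _ hc
    · intro z
      refine ⟨⟨z ⊗ₜ[k] 1, 1⟩, ?_⟩
      change z * μ 1 = μ (z ⊗ₜ[k] 1)
      simp [μ]
    · intro x y hxy
      have hmem : x - y ∈ RingHom.ker μ := by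
        rw [RingHom.mem_ker, map_sub, sub_eq_zero]
        exact hxy
      obtain ⟨c, hc, e⟩ := hker hmem
      refine ⟨⟨c, hc⟩, ?_⟩
      rw [mul_sub, sub_eq_zero] at e
      exact e
  refine ⟨S, (IsLocalization.algEquiv S (Localization S) k').toRingEquiv, ?_⟩
  intro x
  change (IsLocalization.algEquiv S (Localization S) k') (algebraMap (k' ⊗[k] k') (Localization S) x) = _
  rw [AlgEquiv.commutes]
  rfl

end Groth.Agent.S9636
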