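import Groth.Statements.S9635
import Mathlib
import Groth.Agent.S9636

set_option autoImplicit false
universe u
open CAlg


namespace Groth.Agent.S9635

open TensorProduct

section forward

variable {k k' A K : Type u} [Field k] [Field k'] [Algebra k k'] [Algebra.IsSeparable k k']
  [CommRing A] [Algebra k' A] [Algebra k A] [IsScalarTower k k' A]
  [Field K] [Algebra k' K] [Algebra k K] [IsScalarTower k k' K]

theorem reduced_forward (h : IsReduced (K ⊗[k] A)) : IsReduced (K ⊗[k'] A) := by
  let π : K ⊗[k] A →ₐ[k'] K ⊗[k'] A := Algebra.TensorProduct.mapOfCompatibleSMul k' k k' K A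
  have hπ : Function.Surjective π :=
    Algebra.TensorProduct.mapOfCompatibleSMul_surjective k' k k' K A
  let Φ : k' ⊗[k] k' →ₐ[k] K ⊗[k] A :=
    Algebra.TensorProduct.map (IsScalarTower.toAlgHom k k' K) (IsScalarTower.toAlgHom k k' A)
  have hπΦ : ∀ t : k' ⊗[k] k', π (Φ t) =
      algebraMap k' (K ⊗[k'] A) (Algebra.TensorProduct.lmul' (S := k') k t) := by
    intro t
    induction t using TensorProduct.induction_on with
    | zero => simp
    | tmul x y =>
      simp only [Φ, π, Algebra.TensorProduct.map_tmul, IsScalarTower.coe_toAlgHom',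
        Algebra.TensorProduct.mapOfCompatibleSMul_tmul, Algebra.TensorProduct.lmul'_apply_tmul,
        Algebra.TensorProduct.algebraMap_apply]
      rw [Algebra.algebraMap_eq_smul_one y, tmul_smul, smul_tmul', Algebra.smul_def, map_mul,
        mul_comm]
    | add a b ha hb => simp only [map_add, ha, hb]
  have hkill : ∀ c : k', ∃ s : K ⊗[k] A, IsUnit (π s) ∧
      s * ((algebraMap k' K c) ⊗ₜ[k] (1 : A) - (1 : K) ⊗ₜ[k] (algebraMap k' A c)) = 0 := by
    intro c
    obtain ⟨t, ht1, ht2⟩ := Groth.Agent.S9636.key_gen (k := k) c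
    refine ⟨Φ t, ?_, ?_⟩
    · rw [hπΦ]
      exact (isUnit_iff_ne_zero.2 ht1).map _
    · have := congrArg Φ ht2
      rw [map_mul, map_sub, map_zero] at this
      simp only [Φ, Algebra.TensorProduct.map_tmul, IsScalarTower.coe_toAlgHom', map_one] at this
      rw [← neg_sub, mul_neg, this, neg_zero]
  let 𝔞 : Submodule k' (K ⊗[k] A) :=
    { carrier := {v | ∃ s, IsUnit (π s) ∧ s * v = 0}
      zero_mem' := ⟨1, by simp, by simp⟩
      add_mem' := by
        rintro v v' ⟨s, hs, hsv⟩ ⟨s', hs', hsv'⟩
        refine ⟨s * s', by rw [map_mul]; exact hs.mul hs', ?_⟩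
        have : s * s' * (v + v') = s' * (s * v) + s * (s' * v') := by ring
        rw [this, hsv, hsv', mul_zero, mul_zero, add_zero]
      smul_mem' := by
        rintro c v ⟨s, hs, hsv⟩
        exact ⟨s, hs, by rw [mul_smul_comm, hsv, smul_zero]⟩ }
  have hker : LinearMap.ker (TensorProduct.mapOfCompatibleSMul k' k k' K A) ≤ 𝔞 := by
    rw [TensorProduct.AlgebraTensorModule.ker_mapOfCompatibleSMul, Submodule.span_le]
    rintro _ ⟨c, m, n, rfl⟩
    obtain ⟨s, hs, hsv⟩ := hkill c
    refine ⟨s, hs, ?_⟩
    have : (c • m) ⊗ₜ[k] n - m ⊗ₜ[k] (c • n) = (m ⊗ₜ[k] n) *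
        ((algebraMap k' K c) ⊗ₜ[k] (1 : A) - (1 : K) ⊗ₜ[k] (algebraMap k' A c)) := by
      rw [mul_sub, Algebra.TensorProduct.tmul_mul_tmul, Algebra.TensorProduct.tmul_mul_tmul,
        mul_one, mul_one, Algebra.smul_def, Algebra.smul_def, mul_comm m, mul_comm n]
    rw [this, mul_left_comm, hsv, mul_zero]
  constructor
  intro w hw
  obtain ⟨v, rfl⟩ := hπ w
  obtain ⟨n, hn⟩ := hw
  have hv : v ^ n ∈ 𝔞 := hker (by
    rw [LinearMap.mem_ker]
    change π (v ^ n) = 0
    rw [map_pow, hn])
  obtain ⟨s, hs, hsv⟩ := hv
  have hnil : (s * v) ^ (n + 1) = 0 := by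
    have : (s * v) ^ (n + 1) = (s ^ n * v) * (s * v ^ n) := by ring
    rw [this, hsv, mul_zero]
  have hsv0 : s * v = 0 := h.eq_zero _ ⟨n + 1, hnil⟩
  have : π s * π v = 0 := by rw [← map_mul, hsv0, map_zero]
  exact (hs.mul_right_eq_zero).1 this

end forward

section backward

theorem reduced_sep {k k' K : Type u} [Field k] [Field k'] [Algebra k k']
    [Algebra.IsSeparable k k'] [Field K] [Algebra k K] : IsReduced (K ⊗[k] k') := by
  apply IsReduced.tensorProduct_of_flat_of_forall_fg
  intro B hB
  obtain ⟨s, rfl⟩ := hB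
  rw [← IntermediateField.adjoin_toSubalgebra (F := k) (E := k') (s : Set k')]
  have hfd : FiniteDimensional k (IntermediateField.adjoin k (s : Set k')) :=
    IntermediateField.finiteDimensional_adjoin
      (fun x _ => (Algebra.IsSeparable.isIntegral k x))
  have hun : Algebra.FormallyUnramified k (IntermediateField.adjoin k (s : Set k')) :=
    Algebra.FormallyUnramified.of_isSeparable k _
  change IsReduced (K ⊗[k] (IntermediateField.adjoin k (s : Set k')))
  exact Algebra.FormallyUnramified.isReduced_of_field K
    (K ⊗[k] (IntermediateField.adjoin k (s : Set k')))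

theorem reduced_of_forall_prime {k' C A : Type u} [Field k'] [CommRing C] [Algebra k' C]
    [IsReduced C] [CommRing A] [Algebra k' A]
    (h : ∀ (K : Type u) [Field K] [Algebra k' K], IsReduced (K ⊗[k'] A)) :
    IsReduced (C ⊗[k'] A) := by
  classical
  let b := Module.Free.chooseBasis k' A
  constructor
  intro x hx
  have hcoord : ∀ i, (Algebra.TensorProduct.basis C b).repr x i = 0 := by
    intro i
    apply IsNilpotent.eq_zero
    rw [nilpotent_iff_mem_prime]
    intro P hP
    let q : C →ₐ[k'] FractionRing (C ⧸ P) :=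
      (IsScalarTower.toAlgHom k' (C ⧸ P) (FractionRing (C ⧸ P))).comp (Ideal.Quotient.mkₐ k' P)
    let ψ : C ⊗[k'] A →ₐ[k'] FractionRing (C ⧸ P) ⊗[k'] A :=
      Algebra.TensorProduct.map q (AlgHom.id k' A)
    have hψx : ψ x = 0 := (h (FractionRing (C ⧸ P))).eq_zero _ (hx.map ψ)
    have hrepr : ∀ y : C ⊗[k'] A,
        (Algebra.TensorProduct.basis (FractionRing (C ⧸ P)) b).repr (ψ y) i =
          q ((Algebra.TensorProduct.basis C b).repr y i) := by
      intro y
      induction y using TensorProduct.induction_on with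
      | zero => simp
      | tmul c a =>
        simp only [ψ, Algebra.TensorProduct.map_tmul, AlgHom.coe_id, id_eq,
          Algebra.TensorProduct.basis_repr_tmul, Finsupp.smul_apply, Finsupp.mapRange_apply,
          smul_eq_mul, map_mul, AlgHom.commutes]
      | add y z hy hz =>
        simp only [map_add, Finsupp.add_apply, hy, hz]
    have hq : ∀ c, q c = 0 → c ∈ P := by
      intro c hc
      have : (algebraMap (C ⧸ P) (FractionRing (C ⧸ P))) (Ideal.Quotient.mk P c) = 0 := hc
      rw [map_eq_zero_iff _ (IsFractionRing.injective (C ⧸ P) (FractionRing (C ⧸ P)))] at this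
      exact Ideal.Quotient.eq_zero_iff_mem.1 this
    have := hrepr x
    rw [hψx, map_zero, Finsupp.zero_apply] at this
    exact hq _ this.symm
  have : (Algebra.TensorProduct.basis C b).repr x = 0 := Finsupp.ext hcoord
  exact (LinearEquiv.map_eq_zero_iff _).1 this

end backward

end Groth.Agent.S9635

namespace Groth.Agent.S9635

open TensorProduct in
/-- Let k ⊆ k' be fields with k' separable algebraic over k, and A a k'-algebra. Then A is geometrically
reduced over k (K ⊗_k A reduced for all field extensions K/k) if and only if A is geometrically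
reduced over k' (K ⊗_{k'} A reduced for all field extensions K/k'). Here the test fields K range
over field extensions (of k, respectively of k') in the common universe of k and k'; this is
equivalent to the unrestricted notions, since an algebraic closure of the base field suffices as a
test. -/
theorem result {k k' A : Type u} [Field k] [Field k'] [Algebra k k'] [Algebra.IsSeparable k k'] [CommRing A] [Algebra k' A] [Algebra k A] [IsScalarTower k k' A] :
    (∀ (K : Type u) [Field K] [Algebra k K], IsReduced (K ⊗[k] A)) ↔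
      ∀ (K : Type u) [Field K] [Algebra k' K], IsReduced (K ⊗[k'] A) := by
  constructor
  · intro h K _ _
    let _ : Algebra k K := ((algebraMap k' K).comp (algebraMap k k')).toAlgebra
    have : IsScalarTower k k' K := IsScalarTower.of_algebraMap_eq (fun _ => rfl)
    exact Groth.Agent.S9635.reduced_forward (h K)
  · intro h K _ _
    have hKk : IsReduced (K ⊗[k] k') := Groth.Agent.S9635.reduced_sep
    have hC : IsReduced (k' ⊗[k] K) :=
      isReduced_of_injective (Algebra.TensorProduct.comm k k' K)
        (Algebra.TensorProduct.comm k k' K).injective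
    have hCA : IsReduced ((k' ⊗[k] K) ⊗[k'] A) :=
      Groth.Agent.S9635.reduced_of_forall_prime h
    let e : K ⊗[k] A ≃+* (k' ⊗[k] K) ⊗[k'] A :=
      ((Algebra.TensorProduct.comm k K A).toRingEquiv.trans
        (Algebra.TensorProduct.cancelBaseChange k k' k' A K).symm.toRingEquiv).trans
        (Algebra.TensorProduct.comm k' A (k' ⊗[k] K)).toRingEquiv
    exact isReduced_of_injective e e.injective

end Groth.Agent.S9635
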