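import Groth.Statements.S9634
import Mathlib
import Groth.Agent.S9635

set_option autoImplicit false
universe u
open CAlg


namespace Groth.Agent.S9634

open TensorProduct

theorem reduced_of_forall_maximal {k' C A : Type u} [Field k'] [CommRing C] [Algebra k' C]
    [IsReduced C] [IsJacobsonRing C] [CommRing A] [Algebra k' A]
    (h : ∀ (m : Ideal C), m.IsMaximal → IsReduced ((C ⧸ m) ⊗[k'] A)) :
    IsReduced (C ⊗[k'] A) := by
  classical
  let b := Module.Free.chooseBasis k' A
  constructor
  intro x hx
  have hcoord : ∀ i, (Algebra.TensorProduct.basis C b).repr x i = 0 := by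
    intro i
    have hmem : (Algebra.TensorProduct.basis C b).repr x i ∈ (⊥ : Ideal C).jacobson := by
      rw [Ideal.jacobson, Ideal.mem_sInf]
      rintro m ⟨-, hm⟩
      let q : C →ₐ[k'] C ⧸ m := Ideal.Quotient.mkₐ k' m
      let ψ : C ⊗[k'] A →ₐ[k'] (C ⧸ m) ⊗[k'] A := Algebra.TensorProduct.map q (AlgHom.id k' A)
      have hψx : ψ x = 0 := (h m hm).eq_zero _ (hx.map ψ)
      have hrepr : ∀ y : C ⊗[k'] A,
          (Algebra.TensorProduct.basis (C ⧸ m) b).repr (ψ y) i =
            q ((Algebra.TensorProduct.basis C b).repr y i) := by
        intro y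
        induction y using TensorProduct.induction_on with
        | zero => simp
        | tmul c a =>
          simp only [ψ, Algebra.TensorProduct.map_tmul, AlgHom.coe_id, id_eq,
            Algebra.TensorProduct.basis_repr_tmul, Finsupp.smul_apply, Finsupp.mapRange_apply,
            smul_eq_mul, map_mul, AlgHom.commutes]
        | add y z hy hz =>
          simp only [map_add, Finsupp.add_apply, hy, hz]
      have := hrepr x
      rw [hψx, map_zero, Finsupp.zero_apply] at this
      exact Ideal.Quotient.eq_zero_iff_mem.1 this.symm
    have hrad : (⊥ : Ideal C).IsRadical := by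
      rw [← Ideal.radical_eq_iff]
      exact Ideal.radical_bot_of_isReduced
    rw [IsJacobsonRing.out inferInstance hrad] at hmem
    exact hmem
  have : (Algebra.TensorProduct.basis C b).repr x = 0 := Finsupp.ext hcoord
  exact (LinearEquiv.map_eq_zero_iff _).1 this

theorem reduced_algClosed {kb T Ω : Type u} [Field kb] [IsAlgClosed kb] [CommRing T]
    [Algebra kb T] [IsReduced T] [Field Ω] [Algebra kb Ω] : IsReduced (Ω ⊗[kb] T) := by
  apply IsReduced.tensorProduct_of_flat_of_forall_fg
  intro B hB
  have hft : Algebra.FiniteType kb B := (Subalgebra.fg_iff_finiteType B).1 hB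
  have hred : IsReduced B := isReduced_of_injective B.val Subtype.val_injective
  have hjac : IsJacobsonRing B := isJacobsonRing_of_finiteType (A := kb)
  have hB' : IsReduced (B ⊗[kb] Ω) := by
    apply reduced_of_forall_maximal
    intro m hm
    letI := Ideal.Quotient.field m
    have hfin : Module.Finite kb (B ⧸ m) := finite_of_finite_type_of_isJacobsonRing kb (B ⧸ m)
    have hbij : Function.Bijective (algebraMap kb (B ⧸ m)) :=
      IsAlgClosed.algebraMap_bijective_of_isIntegral
    let e : kb ≃ₐ[kb] B ⧸ m := AlgEquiv.ofBijective (Algebra.ofId kb (B ⧸ m)) hbij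
    let e2 : (B ⧸ m) ⊗[kb] Ω ≃ₐ[kb] Ω :=
      (Algebra.TensorProduct.congr e.symm AlgEquiv.refl).trans (Algebra.TensorProduct.lid kb Ω)
    exact isReduced_of_injective e2 e2.injective
  exact isReduced_of_injective (Algebra.TensorProduct.comm kb Ω B)
    (Algebra.TensorProduct.comm kb Ω B).injective

theorem reduced_sep_step {k F E S : Type u} [Field k] [Field F] [Field E] [Algebra k F]
    [Algebra F E] [Algebra k E] [IsScalarTower k F E] [Algebra.IsSeparable F E]
    [CommRing S] [Algebra k S] (hT : IsReduced (F ⊗[k] S)) : IsReduced (E ⊗[k] S) := by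
  have hb : IsReduced ((F ⊗[k] S) ⊗[F] E) :=
    Groth.Agent.S9635.reduced_of_forall_prime (fun K _ _ => Groth.Agent.S9635.reduced_sep)
  have hb' : IsReduced (E ⊗[F] (F ⊗[k] S)) :=
    isReduced_of_injective (Algebra.TensorProduct.comm F E (F ⊗[k] S)) (AlgEquiv.injective _)
  exact isReduced_of_injective (Algebra.TensorProduct.cancelBaseChange k F F E S).symm
    (AlgEquiv.injective _)

end Groth.Agent.S9634

namespace Groth.Agent.S9634

open TensorProduct in
/-- (1) ⇔ (4) ⇔ (5): for a field k and a k-algebra S the following are equivalent: (1) the ring k' ⊗_k S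
is reduced whenever k'/k is a finite purely inseparable field extension; (4) S is geometrically
reduced in Mathlib's sense, which over a field amounts to k̄ ⊗_k S being reduced for an algebraic
closure k̄; (5) K ⊗_k S is reduced for all field extensions K/k. In (1) and (5) the test fields
range over field extensions in the universe of k; this is equivalent to the unrestricted notion,
since an algebraic closure of k suffices as a test. -/
theorem result {k S : Type u} [Field k] [CommRing S] [Algebra k S] :
    [∀ (k' : Type u) [Field k'] [Algebra k k'] [Module.Finite k k'] [IsPurelyInseparable k k'], IsReduced (k' ⊗[k] S),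
      Algebra.IsGeometricallyReduced k S,
      ∀ (K : Type u) [Field K] [Algebra k K], IsReduced (K ⊗[k] S)].TFAE := by
  tfae_have 3 → 1 := fun h k' _ _ _ _ => h k'
  tfae_have 3 → 2 := fun h =>
    (Algebra.isGeometricallyReduced_field_iff k S).2 (h (AlgebraicClosure k))
  tfae_have 2 → 3 := by
    intro hgeo K _ _
    have hT : IsReduced (AlgebraicClosure k ⊗[k] S) :=
      (Algebra.isGeometricallyReduced_field_iff k S).1 hgeo
    let φ : AlgebraicClosure k →ₐ[k] AlgebraicClosure K := IsAlgClosed.lift
    letI : Algebra (AlgebraicClosure k) (AlgebraicClosure K) := φ.toRingHom.toAlgebra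
    haveI : IsScalarTower k (AlgebraicClosure k) (AlgebraicClosure K) :=
      IsScalarTower.of_algebraMap_eq (fun x => (φ.commutes x).symm)
    have h1 : IsReduced (AlgebraicClosure K ⊗[AlgebraicClosure k] (AlgebraicClosure k ⊗[k] S)) :=
      Groth.Agent.S9634.reduced_algClosed
    have h2 : IsReduced (AlgebraicClosure K ⊗[k] S) :=
      isReduced_of_injective (Algebra.TensorProduct.cancelBaseChange k (AlgebraicClosure k)
        (AlgebraicClosure k) (AlgebraicClosure K) S).symm (AlgEquiv.injective _)
    exact isReduced_of_injective
      (Algebra.TensorProduct.map (IsScalarTower.toAlgHom k K (AlgebraicClosure K)) (AlgHom.id k S))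
      (Module.Flat.rTensor_preserves_injective_linearMap _ (RingHom.injective _))
  tfae_have 1 → 2 := by
    intro h1
    rw [Algebra.isGeometricallyReduced_field_iff]
    have ha : IsReduced (S ⊗[k] (perfectClosure k (AlgebraicClosure k))) := by
      apply IsReduced.tensorProduct_of_flat_of_forall_fg
      intro B hB
      obtain ⟨s, rfl⟩ := hB
      rw [← IntermediateField.adjoin_toSubalgebra (F := k)
        (E := perfectClosure k (AlgebraicClosure k)) (s : Set (perfectClosure k (AlgebraicClosure k)))]
      have hfd : FiniteDimensional k (IntermediateField.adjoin k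
          (s : Set (perfectClosure k (AlgebraicClosure k)))) :=
        IntermediateField.finiteDimensional_adjoin (fun x _ => Algebra.IsIntegral.isIntegral x)
      have hpi : IsPurelyInseparable k (IntermediateField.adjoin k
          (s : Set (perfectClosure k (AlgebraicClosure k)))) :=
        IsPurelyInseparable.tower_bot k _ (perfectClosure k (AlgebraicClosure k))
      have := h1 (IntermediateField.adjoin k (s : Set (perfectClosure k (AlgebraicClosure k))))
      change IsReduced (S ⊗[k] (IntermediateField.adjoin k
        (s : Set (perfectClosure k (AlgebraicClosure k)))))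
      exact isReduced_of_injective (Algebra.TensorProduct.comm k S _) (AlgEquiv.injective _)
    have hT : IsReduced ((perfectClosure k (AlgebraicClosure k)) ⊗[k] S) :=
      isReduced_of_injective (Algebra.TensorProduct.comm k _ S) (AlgEquiv.injective _)
    have hperf : PerfectField (perfectClosure k (AlgebraicClosure k)) :=
      perfectClosure.perfectField k (AlgebraicClosure k)
    have halg : Algebra.IsAlgebraic (perfectClosure k (AlgebraicClosure k)) (AlgebraicClosure k) :=
      Algebra.IsAlgebraic.tower_top (K := k) _
    have hsep : Algebra.IsSeparable (perfectClosure k (AlgebraicClosure k)) (AlgebraicClosure k) :=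
      inferInstance
    exact Groth.Agent.S9634.reduced_sep_step (F := perfectClosure k (AlgebraicClosure k)) hT
  tfae_finish

end Groth.Agent.S9634
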