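import Groth.Statements.S1193
import Mathlib
-- import your own Groth.Agent.* helpers here

set_option autoImplicit false
universe u
open FlatMor

namespace Groth.Agent.S1193

lemma isPrime_of_comap {S F : Type*} [CommRing S] [CommRing F] (φ : S →+* F)
    (hφ : Function.Surjective φ) (P : Ideal F) (h : (P.comap φ).IsPrime) : P.IsPrime := by
  have h2 := Ideal.map_isPrime_of_surjective hφ (I := P.comap φ) (Ideal.comap_mono bot_le)
  rwa [Ideal.map_comap_of_surjective φ hφ] at h2

lemma main {S F : Type*} [CommRing S] [CommRing F] (φ : S →+* F) (hφ : Function.Surjective φ)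
    [IsNoetherianRing F] (M : Type*) [AddCommGroup M] [Module F M] [Module S M]
    (hsm : ∀ (s : S) (x : M), s • x = φ s • x) [Module.Finite F M] :
    (∀ (q : Ideal S) [q.IsPrime], Disjoint (q : Set S) (nonZeroSMulDivisors S M) ↔
        ∃ q' ∈ associatedPrimes S M, q ≤ q') ∧
    {Q : Ideal (Localization (nonZeroSMulDivisors S M)) | Q.IsMaximal}.Finite ∧
    (∀ Q : Ideal (Localization (nonZeroSMulDivisors S M)), Q.IsMaximal ↔ (Q.IsPrime ∧
        Maximal (fun r => r ∈ associatedPrimes S M)
          (Q.comap (algebraMap S (Localization (nonZeroSMulDivisors S M)))))) := by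
  classical
  set Sg := nonZeroSMulDivisors S M with hSg
  set A := associatedPrimes S M with hA
  have hcolon : ∀ x : M, (Submodule.colon (⊥ : Submodule S M) {x}) =
      Ideal.comap φ (Submodule.colon (⊥ : Submodule F M) {x}) := by
    intro x
    ext s
    rw [Ideal.mem_comap, Submodule.mem_colon_singleton, Submodule.mem_colon_singleton, hsm,
      Submodule.mem_bot, Submodule.mem_bot]
  have hAF_to_A : ∀ P ∈ associatedPrimes F M, Ideal.comap φ P ∈ A := by
    rintro P ⟨hP, x, rfl⟩
    refine ⟨by haveI := hP; infer_instance, x, ?_⟩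
    rw [hcolon, Ideal.comap_radical]
  have hA_to_AF : ∀ I ∈ A, ∃ P ∈ associatedPrimes F M, I = Ideal.comap φ P := by
    rintro I ⟨hI, x, rfl⟩
    refine ⟨(Submodule.colon (⊥ : Submodule F M) {x}).radical, ⟨?_, x, rfl⟩, ?_⟩
    · rw [hcolon, ← Ideal.comap_radical] at hI
      exact isPrime_of_comap φ hφ _ hI
    · rw [hcolon, Ideal.comap_radical]
  have hB : ∀ s : S, s ∉ Sg ↔ ∃ I ∈ A, s ∈ I := by
    intro s
    have hzd := biUnion_associatedPrimes_eq_zero_divisors F M
    constructor
    · intro hs
      rw [hSg, mem_nonZeroSMulDivisors_iff] at hs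
      push Not at hs
      obtain ⟨x, hx0, hxne⟩ := hs
      have h1 : φ s ∈ ⋃ p ∈ associatedPrimes F M, (p : Set F) := by
        rw [hzd]; exact ⟨x, hxne, by rw [← hsm]; exact hx0⟩
      simp only [Set.mem_iUnion, SetLike.mem_coe] at h1
      obtain ⟨P, hP, hsP⟩ := h1
      exact ⟨Ideal.comap φ P, hAF_to_A P hP, hsP⟩
    · rintro ⟨I, hI, hsI⟩ hs
      obtain ⟨P, hP, rfl⟩ := hA_to_AF I hI
      have h1 : φ s ∈ ⋃ p ∈ associatedPrimes F M, (p : Set F) := Set.mem_biUnion hP hsI
      rw [hzd] at h1
      obtain ⟨x, hxne, hx0⟩ := h1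
      exact hxne (hs x (by rw [hsm]; exact hx0))
  have hAfin : A.Finite := by
    have h1 : A ⊆ (Ideal.comap φ) '' (associatedPrimes F M) := by
      intro I hI
      obtain ⟨P, hP, rfl⟩ := hA_to_AF I hI
      exact ⟨P, hP, rfl⟩
    exact ((associatedPrimes.finite F M).image _).subset h1
  have hC : ∀ (q : Ideal S) [q.IsPrime], Disjoint (q : Set S) Sg ↔ ∃ q' ∈ A, q ≤ q' := by
    intro q _
    constructor
    · intro hd
      have hsub : (q : Set S) ⊆ ⋃ i ∈ A, ((id i : Ideal S) : Set S) := by
        intro s hs
        have h1 : s ∉ Sg := fun h => Set.disjoint_left.1 hd hs h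
        obtain ⟨I, hI, hsI⟩ := (hB s).1 h1
        exact Set.mem_biUnion hI hsI
      exact (Ideal.subset_union_prime_finite hAfin (f := id) ⊤ ⊤
        (fun i hi _ _ => IsAssociatedPrime.isPrime hi)).1 hsub
    · rintro ⟨q', hq', hle⟩
      exact Set.disjoint_left.2 fun s hs hsS => (hB s).2 ⟨q', hq', hle hs⟩ hsS
  have hdisjA : ∀ I ∈ A, Disjoint (Sg : Set S) (I : Set S) := by
    intro I hI
    exact Set.disjoint_left.2 fun s hsS hsI => (hB s).2 ⟨I, hI, hsI⟩ hsS
  have hmc : ∀ Q : Ideal (Localization Sg),
      Ideal.map (algebraMap S (Localization Sg)) (Ideal.comap (algebraMap S (Localization Sg)) Q)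
        = Q :=
    fun Q => IsLocalization.map_under Sg (Localization Sg) Q
  have hcm : ∀ I : Ideal S, I.IsPrime → Disjoint (Sg : Set S) (I : Set S) →
      Ideal.comap (algebraMap S (Localization Sg))
        (Ideal.map (algebraMap S (Localization Sg)) I) = I :=
    fun I hI hd => IsLocalization.under_map_of_isPrime_disjoint Sg (Localization Sg) hI hd
  have hpd : ∀ Q : Ideal (Localization Sg), Q.IsPrime →
      (Ideal.comap (algebraMap S (Localization Sg)) Q).IsPrime ∧
        Disjoint (Sg : Set S) (Ideal.comap (algebraMap S (Localization Sg)) Q : Set S) :=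
    fun Q hQ => (IsLocalization.isPrime_iff_isPrime_disjoint Sg (Localization Sg) Q).1 hQ
  have hX : ∀ Q : Ideal (Localization Sg), Q.IsMaximal → ∀ I ∈ A,
      Q.comap (algebraMap S (Localization Sg)) ≤ I →
      Q.comap (algebraMap S (Localization Sg)) = I := by
    intro Q hQ I hI hle
    have hIp : I.IsPrime := IsAssociatedPrime.isPrime hI
    have hmp : (I.map (algebraMap S (Localization Sg))).IsPrime :=
      IsLocalization.isPrime_of_isPrime_disjoint Sg (Localization Sg) I hIp (hdisjA I hI)
    have hQle : Q ≤ I.map (algebraMap S (Localization Sg)) := by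
      rw [← hmc Q]
      exact Ideal.map_mono hle
    have hQeq : Q = I.map (algebraMap S (Localization Sg)) := hQ.eq_of_le hmp.ne_top hQle
    rw [hQeq, hcm I hIp (hdisjA I hI)]
  have hfwd : ∀ Q : Ideal (Localization Sg), Q.IsMaximal →
      Maximal (fun r => r ∈ A) (Q.comap (algebraMap S (Localization Sg))) := by
    intro Q hQ
    have hQp : Q.IsPrime := hQ.isPrime
    obtain ⟨hcp, hcd⟩ := hpd Q hQp
    obtain ⟨I, hI, hle⟩ := (@hC _ hcp).1 hcd.symm
    have heq := hX Q hQ I hI hle
    refine ⟨by rw [heq]; exact hI, fun y hy hle' => (hX Q hQ y hy hle').ge⟩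
  refine ⟨fun q _ => hC q, ?_, ?_⟩
  · have h1 : {Q : Ideal (Localization Sg) | Q.IsMaximal} ⊆
        (Ideal.map (algebraMap S (Localization Sg))) '' A := by
      intro Q hQ
      exact ⟨Q.comap (algebraMap S (Localization Sg)), (hfwd Q hQ).prop, hmc Q⟩
    exact (hAfin.image _).subset h1
  · intro Q
    constructor
    · intro hQ; exact ⟨hQ.isPrime, hfwd Q hQ⟩
    · rintro ⟨hQp, hmax⟩
      obtain ⟨Q', hQ'max, hQQ'⟩ := Ideal.exists_le_maximal Q hQp.ne_top
      have h1 := hfwd Q' hQ'max
      have hle : Q.comap (algebraMap S (Localization Sg)) ≤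
          Q'.comap (algebraMap S (Localization Sg)) := Ideal.comap_mono hQQ'
      have hge : Q'.comap (algebraMap S (Localization Sg)) ≤
          Q.comap (algebraMap S (Localization Sg)) := hmax.le_of_ge h1.prop hle
      have hQQ : Q = Q' := by
        calc Q = Ideal.map (algebraMap S (Localization Sg))
              (Ideal.comap (algebraMap S (Localization Sg)) Q) := (hmc Q).symm
          _ = Ideal.map (algebraMap S (Localization Sg))
              (Ideal.comap (algebraMap S (Localization Sg)) Q') := by rw [le_antisymm hle hge]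
          _ = Q' := hmc Q'
      rw [hQQ]; exact hQ'max

open IsLocalRing in
/-- Let R be a local ring, S an R-algebra whose closed fibre ring is Noetherian and N an S-module whose
closed fibre module N/𝔪N is finite. Let Σ be the set of elements of S acting injectively on N/𝔪N.
Then a prime of S is disjoint from Σ exactly when it lies inside an associated prime of N/𝔪N (the
primes of the localization at Σ), the localization of S at Σ has finitely many maximal ideals, and
an ideal of that localization is maximal exactly when it is prime and contracts to a maximal member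
of the set of associated primes of N/𝔪N. -/
theorem result {R S : Type u} [CommRing R] [IsLocalRing R] [CommRing S] [Algebra R S]
    (N : Type u) [AddCommGroup N] [Module S N] [Module R N] [IsScalarTower R S N]
    [IsNoetherianRing ((maximalIdeal R).Fiber S)]
    [Module.Finite ((maximalIdeal R).Fiber S) (FlatCA.fiberMod (maximalIdeal R) S N)] :
    (∀ (q : Ideal S) [q.IsPrime], Disjoint (q : Set S) (FlatCA.nzdFiber R S N) ↔
        ∃ q' ∈ associatedPrimes S (FlatCA.fiberMod (maximalIdeal R) S N), q ≤ q') ∧
    {Q : Ideal (Localization (FlatCA.nzdFiber R S N)) | Q.IsMaximal}.Finite ∧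
    (∀ Q : Ideal (Localization (FlatCA.nzdFiber R S N)), Q.IsMaximal ↔ (Q.IsPrime ∧
        Maximal (fun r => r ∈ associatedPrimes S (FlatCA.fiberMod (maximalIdeal R) S N))
          (Q.comap (algebraMap S (Localization (FlatCA.nzdFiber R S N)))))) := by
  classical
  letI : Algebra S ((maximalIdeal R).Fiber S) := Algebra.TensorProduct.rightAlgebra
  have hφ : Function.Surjective (algebraMap S ((maximalIdeal R).Fiber S)) := by
    intro x
    obtain ⟨a, ha, s, e⟩ := Ideal.Fiber.exists_smul_eq_one_tmul (maximalIdeal R) x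
    have hu : IsUnit a := IsLocalRing.notMem_maximalIdeal.1 ha
    obtain ⟨u, rfl⟩ := hu
    refine ⟨(↑u⁻¹ : R) • s, ?_⟩
    show TensorProduct.tmul R (1 : (maximalIdeal R).ResidueField) ((↑u⁻¹ : R) • s) = x
    rw [TensorProduct.tmul_smul, ← e, smul_smul, Units.inv_mul, one_smul]
  have hsm : ∀ (s : S) (x : TensorProduct S ((maximalIdeal R).Fiber S) N),
      s • x = algebraMap S ((maximalIdeal R).Fiber S) s • x := by
    intro s x
    induction x using TensorProduct.induction_on with
    | zero => rw [smul_zero, smul_zero]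
    | tmul f n => rw [TensorProduct.smul_tmul', TensorProduct.smul_tmul', Algebra.smul_def,
        smul_eq_mul]
    | add a b ha hb => rw [smul_add, smul_add, ha, hb]
  exact main (algebraMap S ((maximalIdeal R).Fiber S)) hφ
    (FlatCA.fiberMod (maximalIdeal R) S N) hsm

end Groth.Agent.S1193
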