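import Groth.Statements.S1194
import Groth.Agent.Lib.Helper54.EssLoc3

set_option autoImplicit false
universe u
open FlatMor

namespace Groth.Agent.S1194

open Groth.Agent.Lib.Helper54 TensorProduct in
open scoped Pointwise in
/-- Multiplication by an element acting injectively on the closed fibre is universally
injective. -/
theorem smul_univInj {R S : Type u} [CommRing R] [IsLocalRing R] [CommRing S] [IsLocalRing S]
    [Algebra R S] [IsLocalHom (algebraMap R S)] (hS : FlatCA.EssFinitePresentation R S)
    (N : Type u) [AddCommGroup N] [Module S N] [Module R N] [IsScalarTower R S N]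
    [Module.FinitePresentation S N] [Module.Flat R N] (s : S)
    (hs : s ∈ FlatCA.nzdFiber R S N) :
    FlatCA.UnivInj R ((LinearMap.lsmul S N s).restrictScalars R) := by
  obtain ⟨S₀, i1, i2, i3, i4, W, hfp, hloc⟩ := hS
  set q : Ideal S₀ := (IsLocalRing.maximalIdeal S).comap (algebraMap S₀ S) with hq
  haveI hat : IsLocalization.AtPrime S q := EssLoc1.isLocalization_atPrime W
  letI modS₀N : Module S₀ N := Module.compHom N (algebraMap S₀ S)
  haveI tow1 : IsScalarTower S₀ S N := ⟨fun a b n => by
    show (a • b) • n = algebraMap S₀ S a • (b • n)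
    rw [Algebra.smul_def, mul_smul]⟩
  haveI tow2 : IsScalarTower R S₀ N := ⟨fun r a n => by
    show algebraMap S₀ S (r • a) • n = r • (algebraMap S₀ S a • n)
    rw [Algebra.smul_def, map_mul, ← IsScalarTower.algebraMap_apply, mul_smul, algebraMap_smul]⟩
  obtain ⟨N₀, i5, i6, hN₀fp, f, hf⟩ := EssLoc1.exists_fp_model (S := S) q.primeCompl N
  letI modRN₀ : Module R N₀ := Module.compHom N₀ (algebraMap R S₀)
  haveI tow3 : IsScalarTower R S₀ N₀ := ⟨fun r a n => by
    show (r • a) • n = algebraMap R S₀ r • (a • n)
    rw [Algebra.smul_def, mul_smul]⟩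
  have hK : ∀ a : R, algebraMap R (IsLocalRing.maximalIdeal R).ResidueField a = 0 ↔
      algebraMap R S₀ a ∈ q := by
    intro a
    rw [Ideal.algebraMap_residueField_eq_zero, hq, Ideal.mem_comap,
      ← IsScalarTower.algebraMap_apply, IsLocalRing.mem_maximalIdeal, IsLocalRing.mem_maximalIdeal,
      mem_nonunits_iff, mem_nonunits_iff, isUnit_map_iff]
  -- the numerator of `s`
  obtain ⟨⟨s₀, w⟩, hsw⟩ := IsLocalization.surj q.primeCompl s
  have hsw' : s * algebraMap S₀ S (w : S₀) = algebraMap S₀ S s₀ := hsw
  obtain ⟨y, hy⟩ := (IsLocalization.map_units S w).exists_left_inv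
  have hreg := EssLoc3.regular_of_mem_nzd (IsLocalRing.maximalIdeal R) S N s hs
  have hfib : ∀ z : N ⊗[R] (IsLocalRing.maximalIdeal R).ResidueField, s₀ • z = 0 → z = 0 := by
    intro z hz
    have h1 : s • (algebraMap S₀ S (w : S₀) • z) = 0 := by
      rw [← mul_smul, hsw', algebraMap_smul]
      exact hz
    have h2 := hreg _ h1
    calc z = (y * algebraMap S₀ S (w : S₀)) • z := by rw [hy, one_smul]
      _ = 0 := by rw [mul_smul, h2, smul_zero]
  obtain ⟨d1, d2⟩ := EssLoc2.core_loc N₀ q s₀ (IsLocalRing.maximalIdeal R).ResidueField f hK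
    inferInstance hfib
  -- universal injectivity of multiplication by `s₀`
  let u₀ : N →ₗ[R] N := (LinearMap.lsmul S₀ N s₀).restrictScalars R
  have hu₀inj : Function.Injective u₀ := by
    rw [injective_iff_map_eq_zero]
    intro n hn
    exact d1 n hn
  have hex : Function.Exact u₀
      ((Submodule.mkQ (s₀ • (⊤ : Submodule S₀ N))).restrictScalars R) :=
    RegFibre3.exact_smul_mkQ N s₀
  have hsurj : Function.Surjective
      ((Submodule.mkQ (s₀ • (⊤ : Submodule S₀ N))).restrictScalars R) := by
    intro x
    obtain ⟨m, rfl⟩ := Submodule.mkQ_surjective (s₀ • (⊤ : Submodule S₀ N)) x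
    exact ⟨m, rfl⟩
  intro Q _ _
  have h₀ : Function.Injective (u₀.lTensor Q) :=
    LinearMap.lTensor_injective_of_exact_of_flat _ hsurj u₀ hu₀inj hex Q
  -- compare with `s`
  let vy : N →ₗ[R] N := (LinearMap.lsmul S N y).restrictScalars R
  let vw : N →ₗ[R] N := (LinearMap.lsmul S N (algebraMap S₀ S (w : S₀))).restrictScalars R
  have hcomp : (LinearMap.lsmul S N s).restrictScalars R = u₀ ∘ₗ vy := by
    ext n
    show s • n = s₀ • (y • n)
    rw [← algebraMap_smul S s₀, ← mul_smul, ← hsw', mul_assoc, mul_comm _ y, hy, mul_one]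
  have hvy : vw ∘ₗ vy = LinearMap.id := by
    ext n
    show algebraMap S₀ S (w : S₀) • (y • n) = n
    rw [← mul_smul, mul_comm, hy, one_smul]
  have hvyinj : Function.Injective (vy.lTensor Q) := by
    have h : (vw.lTensor Q) ∘ₗ (vy.lTensor Q) = LinearMap.id := by
      rw [← LinearMap.lTensor_comp, hvy, LinearMap.lTensor_id]
    exact Function.LeftInverse.injective (g := vw.lTensor Q) (fun x => LinearMap.congr_fun h x)
  rw [hcomp, LinearMap.lTensor_comp]
  exact h₀.comp hvyinj

open IsLocalRing in
/-- Let R → S be a local homomorphism of local rings which is essentially of finite presentation, and N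
a finitely presented S-module flat over R. Then multiplication by any element of S acting
injectively on N/𝔪_R N is a universally injective map of R-modules on N, and the localization map
from N to its localization at all such elements is universally injective over R. -/
theorem result {R S : Type u} [CommRing R] [IsLocalRing R] [CommRing S] [IsLocalRing S] [Algebra R S]
    [IsLocalHom (algebraMap R S)] (hS : FlatCA.EssFinitePresentation R S)
    (N : Type u) [AddCommGroup N] [Module S N] [Module R N] [IsScalarTower R S N] [Module.FinitePresentation S N] [Module.Flat R N] :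
    (∀ s ∈ FlatCA.nzdFiber R S N, FlatCA.UnivInj R ((LinearMap.lsmul S N s).restrictScalars R)) ∧
    FlatCA.UnivInj R ((LocalizedModule.mkLinearMap (FlatCA.nzdFiber R S N) N).restrictScalars R) := by
  refine ⟨fun s hs => smul_univInj hS N s hs, ?_⟩
  intro Q _ _
  rw [injective_iff_map_eq_zero]
  intro x hx
  set T := FlatCA.nzdFiber R S N with hT
  let ℓ := LocalizedModule.mkLinearMap T N
  -- pass to `N ⊗ Q`, where `S` acts
  have h1 : (TensorProduct.AlgebraTensorModule.rTensor R Q ℓ) (TensorProduct.comm R Q N x) = 0 := by
    have h2 : ∀ x : TensorProduct R Q N,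
        (TensorProduct.AlgebraTensorModule.rTensor R Q ℓ) (TensorProduct.comm R Q N x) =
          TensorProduct.comm R Q _ ((ℓ.restrictScalars R).lTensor Q x) := by
      intro x
      induction x with
      | zero => simp
      | add x y hx hy => rw [map_add, map_add, map_add, map_add, hx, hy]
      | tmul c n => rfl
    rw [h2, hx, map_zero]
  obtain ⟨t, ht⟩ :=
    (IsLocalizedModule.eq_zero_iff T (TensorProduct.AlgebraTensorModule.rTensor R Q ℓ)).1 h1
  have h3 : ∀ x : TensorProduct R Q N,
      TensorProduct.comm R Q N (((LinearMap.lsmul S N (t : S)).restrictScalars R).lTensor Q x) =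
        t • TensorProduct.comm R Q N x := by
    intro x
    induction x with
    | zero => simp
    | add x y hx hy => rw [map_add, map_add, map_add, smul_add, hx, hy]
    | tmul c n => rfl
  have h4 : ((LinearMap.lsmul S N (t : S)).restrictScalars R).lTensor Q x = 0 := by
    apply (LinearEquiv.map_eq_zero_iff (TensorProduct.comm R Q N)).1
    rw [h3]
    exact ht
  exact (injective_iff_map_eq_zero _).1 (smul_univInj hS N (t : S) t.2 Q) x h4

end Groth.Agent.S1194
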