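import Groth.Statements.S1196
import Groth.Agent.S1194
import Groth.Agent.Lib.Helper54.EssLoc5

set_option autoImplicit false
universe u
open FlatMor

namespace Groth.Agent.S1196

open Groth.Agent.Lib.Helper54 TensorProduct in
/-- The comparison `Q ⊗ (S' ⊗[S] N) → S' ⊗[S] (N ⊗ Q)`. -/
theorem compare_tmul {R S S' : Type u} [CommRing R] [CommRing S] [CommRing S'] [Algebra R S]
    [Algebra S S'] [Algebra R S'] [IsScalarTower R S S'] (N : Type u) [AddCommGroup N] [Module S N]
    [Module R N] [IsScalarTower R S N] (Q : Type u) [AddCommGroup Q] [Module R Q]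
    (x : Q ⊗[R] N)
    (hx : ((TensorProduct.mk S S' N 1).restrictScalars R).lTensor Q x = 0) :
    (1 : S') ⊗ₜ[S] (TensorProduct.comm R Q N x) = 0 := by
  let Φ : Q ⊗[R] (S' ⊗[S] N) →ₗ[R] S' ⊗[S] (N ⊗[R] Q) :=
    ((AlgebraTensorModule.assoc R S S' S' N Q).toLinearMap.restrictScalars R) ∘ₗ
      (TensorProduct.comm R Q (S' ⊗[S] N)).toLinearMap
  have h : ∀ x : Q ⊗[R] N,
      Φ (((TensorProduct.mk S S' N 1).restrictScalars R).lTensor Q x) =
        (1 : S') ⊗ₜ[S] (TensorProduct.comm R Q N x) := by
    intro x
    induction x with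
    | zero => simp
    | add x y hx hy => rw [map_add, map_add, map_add, tmul_add, hx, hy]
    | tmul c n => rfl
  rw [← h, hx, map_zero]

open Groth.Agent.Lib.Helper54 TensorProduct in
theorem main {R S S' : Type u} [CommRing R] [IsLocalRing R] [CommRing S] [IsLocalRing S]
    [CommRing S'] [Algebra R S] [IsLocalHom (algebraMap R S)] [Algebra S S'] [Algebra R S']
    [IsScalarTower R S S'] (hS : FlatCA.EssFinitePresentation R S) [Module.Flat S S']
    (N : Type u) [AddCommGroup N] [Module S N] [Module R N] [IsScalarTower R S N]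
    [Module.FinitePresentation S N] [Module.Flat R N]
    (h : ∀ q ∈ associatedPrimes S (FlatCA.fiberMod (IsLocalRing.maximalIdeal R) S N),
      ∃ q' : Ideal S', q'.IsPrime ∧ q'.comap (algebraMap S S') = q)
    (Q : Type u) [AddCommGroup Q] [Module R Q] (x : Q ⊗[R] N)
    (hx : ((TensorProduct.mk S S' N 1).restrictScalars R).lTensor Q x = 0) : x = 0 := by
  by_contra hne
  have hS' := hS
  obtain ⟨S₀, i1, i2, i3, i4, W, hfp, hloc⟩ := hS'
  haveI : Algebra.EssFiniteType S₀ S := Algebra.EssFiniteType.of_isLocalization S W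
  haveI : Algebra.EssFiniteType R S := Algebra.EssFiniteType.comp R S₀ S
  set x' := TensorProduct.comm R Q N x with hx'
  have hx'ne : x' ≠ 0 := fun h0 => hne ((LinearEquiv.map_eq_zero_iff _).1 h0)
  have h1 : (1 : S') ⊗ₜ[S] x' = 0 := compare_tmul N Q x hx
  set I : Ideal S := LinearMap.ker (LinearMap.toSpanSingleton S (N ⊗[R] Q) x') with hI
  have htop : Ideal.map (algebraMap S S') I = ⊤ := EssLoc4.map_ker_toSpanSingleton_eq_top x' h1
  -- `I` is disjoint from the elements regular on the closed fibre
  have hsmul : ∀ (t : S) (y : Q ⊗[R] N),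
      TensorProduct.comm R Q N (((LinearMap.lsmul S N t).restrictScalars R).lTensor Q y) =
        t • TensorProduct.comm R Q N y := by
    intro t y
    induction y with
    | zero => simp
    | add x y hx hy => rw [map_add, map_add, map_add, smul_add, hx, hy]
    | tmul c n => rfl
  have hdisj : Disjoint (I : Set S) (FlatCA.nzdFiber R S N : Set S) := by
    rw [Set.disjoint_left]
    intro t htI htT
    have h2 : t • x' = 0 := by
      have h5 : t ∈ LinearMap.ker (LinearMap.toSpanSingleton S (N ⊗[R] Q) x') := htI
      rw [LinearMap.mem_ker, LinearMap.toSpanSingleton_apply] at h5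
      exact h5
    rw [hx', ← hsmul] at h2
    have h3 := (LinearEquiv.map_eq_zero_iff _).1 h2
    have h4 := (Groth.Agent.S1194.result hS N).1 t htT Q
    exact hne ((injective_iff_map_eq_zero _).1 h4 x h3)
  obtain ⟨P, hPprime, hIP, hPdisj⟩ := Ideal.exists_le_prime_disjoint I _ hdisj
  have hP : ∀ s ∈ P, s ∉ FlatCA.nzdFiber R S N := fun s hs hsT =>
    (Set.disjoint_left.1 hPdisj) hs hsT
  obtain ⟨q, hq, hPq⟩ := EssLoc5.exists_assPrime_fiberMod N P hP
  obtain ⟨q', hq'prime, hq'⟩ := h q hq
  have hle : Ideal.map (algebraMap S S') I ≤ q' := by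
    rw [Ideal.map_le_iff_le_comap, hq']
    exact hIP.trans hPq
  rw [htop] at hle
  exact hq'prime.ne_top (top_le_iff.1 hle)

open TensorProduct IsLocalRing in
/-- Let R → S be a local homomorphism of local rings, essentially of finite presentation, N a finitely
presented S-module flat over R, and S' a flat S-algebra such that every prime of S which is an
associated prime of N/𝔪_R N is the contraction of a prime of S'. Then N → S' ⊗_S N is universally
injective as a map of R-modules. -/
theorem result {R S S' : Type u} [CommRing R] [IsLocalRing R] [CommRing S] [IsLocalRing S] [CommRing S'] [Algebra R S] [IsLocalHom (algebraMap R S)] [Algebra S S'] [Algebra R S'] [IsScalarTower R S S']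
    (hS : FlatCA.EssFinitePresentation R S) [Module.Flat S S']
    (N : Type u) [AddCommGroup N] [Module S N] [Module R N] [IsScalarTower R S N] [Module.FinitePresentation S N] [Module.Flat R N]
    (h : ∀ q ∈ associatedPrimes S (FlatCA.fiberMod (maximalIdeal R) S N),
      ∃ q' : Ideal S', q'.IsPrime ∧ q'.comap (algebraMap S S') = q) :
    FlatCA.UnivInj R ((TensorProduct.mk S S' N 1).restrictScalars R) := by
  intro Q _ _
  rw [injective_iff_map_eq_zero]
  intro x hx
  exact main hS N h Q x hx

end Groth.Agent.S1196
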