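import Groth.Statements.S1195
import Groth.Agent.S1196
import Groth.Agent.Lib.Helper54.EssLoc7

set_option autoImplicit false
universe u
open FlatMor

namespace Groth.Agent.S1195

open Groth.Agent.Lib.Helper54 TensorProduct in
theorem main {R S S' : Type u} [CommRing R] [CommRing S] [CommRing S'] [Algebra R S]
    [Algebra S S'] [Algebra R S'] [IsScalarTower R S S'] [Algebra.FinitePresentation R S]
    [Module.Flat S S'] (N : Type u) [AddCommGroup N] [Module S N] [Module R N]
    [IsScalarTower R S N] [Module.FinitePresentation S N] [Module.Flat R N]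
    (h : ∀ (p : Ideal R) (q : Ideal S) [p.IsPrime] [q.IsPrime] [q.LiesOver p],
      FlatCA.fiberIdeal p q ∈ associatedPrimes (p.Fiber S) (FlatCA.fiberMod p S N) →
      ∃ q' : Ideal S', q'.IsPrime ∧ q'.comap (algebraMap S S') = q)
    (Q : Type u) [AddCommGroup Q] [Module R Q] (x : Q ⊗[R] N)
    (hx : ((TensorProduct.mk S S' N 1).restrictScalars R).lTensor Q x = 0) : x = 0 := by
  by_contra hne
  have hx'ne : TensorProduct.comm R Q N x ≠ 0 := fun h0 =>
    hne ((LinearEquiv.map_eq_zero_iff _).1 h0)
  have h1 : (1 : S') ⊗ₜ[S] (TensorProduct.comm R Q N x) = 0 :=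
    Groth.Agent.S1196.compare_tmul N Q x hx
  have htop := EssLoc4.map_ker_toSpanSingleton_eq_top (S' := S') (TensorProduct.comm R Q N x) h1
  have hmemI : ∀ s : S, s ∈ LinearMap.ker (LinearMap.toSpanSingleton S (N ⊗[R] Q)
      (TensorProduct.comm R Q N x)) ↔ s • TensorProduct.comm R Q N x = 0 := fun s => by
    rw [LinearMap.mem_ker, LinearMap.toSpanSingleton_apply]
  have hIne : (LinearMap.ker (LinearMap.toSpanSingleton S (N ⊗[R] Q)
      (TensorProduct.comm R Q N x)) : Ideal S) ≠ ⊤ := by
    intro htop'
    have h2 : (1 : S) ∈ (LinearMap.ker (LinearMap.toSpanSingleton S (N ⊗[R] Q)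
      (TensorProduct.comm R Q N x)) : Ideal S) := by rw [htop']; exact Submodule.mem_top
    rw [hmemI, one_smul] at h2
    exact hx'ne h2
  obtain ⟨⟨P, hPmin⟩⟩ := Ideal.nonempty_minimalPrimes hIne
  haveI hPprime : P.IsPrime := hPmin.1.1
  have hass : FlatCA.fiberIdeal (P.under R) P ∈
      associatedPrimes ((P.under R).Fiber S) (FlatCA.fiberMod (P.under R) S N) := by
    by_contra hnot
    obtain ⟨g, hgP, hfib⟩ := EssLoc7.exists_regular_of_not_mem_ass (P.under R) P N hnot
    obtain ⟨w, hwP, n, hwn⟩ := EssLoc6.exists_mul_pow_mem_of_mem_minimalPrimes hPmin hgP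
    have h2 : g ^ n • (w • TensorProduct.comm R Q N x) = 0 := by
      rw [← mul_smul, mul_comm]
      exact (hmemI _).1 hwn
    have hK : ∀ a : R, algebraMap R (P.under R).ResidueField a = 0 ↔ algebraMap R S a ∈ P :=
      fun a => by rw [Ideal.algebraMap_residueField_eq_zero]; rfl
    have hflat : Module.Flat R (LocalizedModule P.primeCompl N) :=
      FlatOpenA.flat_of_isLocalizedModule S P.primeCompl
        (LocalizedModule.mkLinearMap P.primeCompl N)
    obtain ⟨w', hw', hw'x⟩ := EssLoc6.core_univ_pow N P g (P.under R).ResidueField hK hflat hfib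
      Q n _ h2
    have h3 : w' * w ∈ (LinearMap.ker (LinearMap.toSpanSingleton S (N ⊗[R] Q)
        (TensorProduct.comm R Q N x)) : Ideal S) := by
      rw [hmemI, mul_smul]; exact hw'x
    exact (hPprime.mem_or_mem (hPmin.1.2 h3)).elim hw' hwP
  obtain ⟨q', hq'prime, hq'⟩ := h (P.under R) P hass
  have hle : Ideal.map (algebraMap S S') (LinearMap.ker (LinearMap.toSpanSingleton S (N ⊗[R] Q)
      (TensorProduct.comm R Q N x)) : Ideal S) ≤ q' := by
    rw [Ideal.map_le_iff_le_comap, hq']
    exact hPmin.1.2
  rw [htop] at hle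
  exact hq'prime.ne_top (top_le_iff.1 hle)

open TensorProduct in
/-- Let S be a finitely presented R-algebra, N a finitely presented S-module flat over R, and S' a flat
S-algebra such that every prime q of S (over p in R) whose extension to the fibre ring over p is an
associated prime of the fibre module of N is the contraction of a prime of S'. Then the base change
map N → S' ⊗_S N is universally injective as a map of R-modules. -/
theorem result {R S S' : Type u} [CommRing R] [CommRing S] [CommRing S'] [Algebra R S] [Algebra S S'] [Algebra R S'] [IsScalarTower R S S']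
    [Algebra.FinitePresentation R S] [Module.Flat S S']
    (N : Type u) [AddCommGroup N] [Module S N] [Module R N] [IsScalarTower R S N] [Module.FinitePresentation S N] [Module.Flat R N]
    (h : ∀ (p : Ideal R) (q : Ideal S) [p.IsPrime] [q.IsPrime] [q.LiesOver p],
      FlatCA.fiberIdeal p q ∈ associatedPrimes (p.Fiber S) (FlatCA.fiberMod p S N) →
      ∃ q' : Ideal S', q'.IsPrime ∧ q'.comap (algebraMap S S') = q) :
    FlatCA.UnivInj R ((TensorProduct.mk S S' N 1).restrictScalars R) := by
  intro Q _ _
  rw [injective_iff_map_eq_zero]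
  intro x hx
  exact main N h Q x hx

end Groth.Agent.S1195
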