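import Groth.Statements.S2124
import Groth.Agent.Lib.Helper65.ComplFree
import Groth.Agent.Lib.Helper65.TensorPres
import Groth.Agent.S2056

set_option autoImplicit false
universe u
open CAlg

namespace Groth.Agent.S2124

open Groth.Agent.Lib.Helper65.ComplFree Groth.Agent.Lib.Helper65.TensorPres TensorProduct

/-- the coordinate map from the completion of a free module to the product of completions. -/
noncomputable abbrev coord {R : Type u} [CommRing R] (I : Ideal R) (α : Type u) :
    AdicCompletion I (α →₀ R) →ₗ[R] (α → AdicCompletion I R) :=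
  LinearMap.pi fun a : α => AdicCompletion.map I (Finsupp.lapply a : (α →₀ R) →ₗ[R] R)

theorem univInj_aux {R : Type u} [CommRing R] [IsNoetherianRing R] (I : Ideal R) (α : Type u) :
    CAlgX.UniversallyInjective R (coord I α) := by
  classical
  rw [Groth.Agent.S2056.result]
  intro Q _ _ hQ
  obtain ⟨n, m, π, g, hπ, hex⟩ := Module.FinitePresentation.exists_fin' R Q
  rw [injective_iff_map_eq_zero]
  intro t ht
  obtain ⟨x, rfl⟩ := exists_rep π hπ _ t
  simp only [map_sum, LinearMap.rTensor_tmul] at ht
  obtain ⟨w, hw⟩ := exists_of_sum_tmul_eq_zero π g hπ hex _ _ ht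
  -- Cauchy representatives
  choose x' hx' using fun i => AdicCompletion.mk_surjective I (α →₀ R) (x i)
  have hkey : ∀ N, ∃ y : Fin m → (α →₀ R),
      ∀ i, x' i N - mulA (mat g) (α →₀ R) y i ∈ (I ^ N • ⊤ : Submodule R (α →₀ R)) := by
    intro N
    let P : (Fin n → R) → (Fin m → R) → Prop := fun v w =>
      (∃ w', ∀ i, v i - mulA (mat g) R w' i ∈ I ^ N) → ∀ i, v i - mulA (mat g) R w i ∈ I ^ N
    have hex' : ∀ v, ∃ w, P v w := by
      intro v
      by_cases hv : ∃ w', ∀ i, v i - mulA (mat g) R w' i ∈ I ^ N
      · obtain ⟨w', hw'⟩ := hv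
        exact ⟨w', fun _ => hw'⟩
      · exact ⟨0, fun h => absurd h hv⟩
    choose G hG using hex'
    refine ⟨ptw G (fun i => x' i N), fun i => ?_⟩
    rw [mem_pow_smul_top_finsupp_iff]
    intro p
    have := ptw_prop G (fun i => x' i N) P (fun _ i => by simp [mulA_apply]) hG p
    rw [Finsupp.sub_apply, mulA_finsupp_apply]
    refine this ?_ i
    -- existence at the point p
    choose wt hwt using fun j => Submodule.Quotient.mk_surjective _ ((w j p).val N)
    refine ⟨wt, fun i => ?_⟩
    have h1 := congrFun (hw i) p
    have h2 := congrArg (fun z => AdicCompletion.eval I R N z) h1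
    simp only [coord, LinearMap.pi_apply, ← hx', AdicCompletion.map_mk, Finset.sum_apply,
      Pi.smul_apply, map_sum, map_smul, AdicCompletion.eval_apply,
      AdicCompletion.mk_apply_coe, Submodule.mkQ_apply] at h2
    have h3 : (∑ j, mat g i j • (w j p).val N) =
        Submodule.Quotient.mk (p := (I ^ N • ⊤ : Submodule R R)) (mulA (mat g) R wt i) := by
      rw [mulA_apply]
      simp only [← hwt]
      induction (Finset.univ : Finset (Fin m)) using Finset.induction_on with
      | empty => simp
      | insert x s hx ih =>
        rw [Finset.sum_insert hx, Finset.sum_insert hx, Submodule.Quotient.mk_add,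
          Submodule.Quotient.mk_smul, ih]
    rw [h3] at h2
    have h4 := (Submodule.Quotient.eq _).1 h2
    simpa using h4
  obtain ⟨y, hy⟩ := key I (mat g) x' hkey
  exact sum_tmul_eq_zero π g hex _ x y (fun i => by rw [← hx' i, hy i])

/-- Let `R` be Noetherian and `I`-adically complete and `α` any index set. The map from the `I`-adic
completion of the direct sum `⊕_α R` to the product `∏_α R^∧ = ∏_α R`, induced by the coordinate
projections, is universally injective. -/
theorem result {R : Type u} [CommRing R] [IsNoetherianRing R] (I : Ideal R)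
    [IsAdicComplete I R] (α : Type u) :
    CAlgX.UniversallyInjective R
      (LinearMap.pi fun a : α => AdicCompletion.map I (Finsupp.lapply a : (α →₀ R) →ₗ[R] R) :
        AdicCompletion I (α →₀ R) →ₗ[R] (α → AdicCompletion I R)) :=
  univInj_aux I α

end Groth.Agent.S2124
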