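import Groth.Statements.S1197
import Groth.Agent.S0550
import Groth.Agent.S2124
import Groth.Agent.S6338
import Groth.Agent.Lib.Helper54.MLFP

set_option autoImplicit false
universe u
open CAlg

namespace Groth.Agent.S1197

open TensorProduct

/-- evaluation at a point: `(α → R) ⊗ X → X`. -/
noncomputable def ev {R : Type u} [CommRing R] (α : Type u) (a : α) (X : Type u) [AddCommGroup X]
    [Module R X] : (α → R) ⊗[R] X →ₗ[R] X :=
  (TensorProduct.lid R X).toLinearMap ∘ₗ LinearMap.rTensor X (LinearMap.proj a)

@[simp] theorem ev_tmul {R : Type u} [CommRing R] (α : Type u) (a : α) (X : Type u) [AddCommGroup X]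
    [Module R X] (p : α → R) (x : X) : ev α a X (p ⊗ₜ x) = p a • x := by
  simp [ev]

theorem ev_lTensor {R : Type u} [CommRing R] (α : Type u) (a : α) {X Y : Type u} [AddCommGroup X]
    [Module R X] [AddCommGroup Y] [Module R Y] (h : X →ₗ[R] Y) (z : (α → R) ⊗[R] X) :
    ev α a Y (LinearMap.lTensor (α → R) h z) = h (ev α a X z) := by
  induction z using TensorProduct.induction_on with
  | zero => simp
  | tmul p x => simp
  | add x y hx hy => simp only [map_add, hx, hy]

theorem eq_zero_of_ev {R : Type u} [CommRing R] (α : Type u) (X : Type u) [AddCommGroup X]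
    [Module R X] [Module.FinitePresentation R X] (z : (α → R) ⊗[R] X)
    (h : ∀ a, ev α a X z = 0) : z = 0 := by
  have hinj := (Groth.Agent.Lib.Helper54.piRightHom_bijective_of_finitePresentation R X
    (fun _ : α => R)).1
  have h1 : TensorProduct.piRightHom R R X (fun _ : α => R) (TensorProduct.comm R _ _ z) = 0 := by
    funext a
    rw [Groth.Agent.Lib.Helper54.piRightHom_apply]
    apply (TensorProduct.rid R X).injective
    rw [Pi.zero_apply, map_zero, ← h a]
    clear h
    induction z using TensorProduct.induction_on with
    | zero => simp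
    | tmul p x => simp
    | add x y hx hy => simp only [map_add, hx, hy]
  have h2 := hinj (h1.trans (map_zero _).symm)
  exact (TensorProduct.comm R _ _).injective (h2.trans (map_zero _).symm)

theorem isMittagLeffler_pi_self (R : Type u) [CommRing R] [IsNoetherianRing R] (α : Type u) :
    CAlg.IsMittagLeffler R (α → R) := by
  intro ι Q _ _
  rw [injective_iff_map_eq_zero]
  intro z hz
  obtain ⟨N', hfin, hN'⟩ := TensorProduct.exists_finite_submodule_right_of_setFinite {z}
    (Set.finite_singleton z)
  obtain ⟨z', hz'⟩ := hN' (Set.mem_singleton z)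
  haveI : Module.FinitePresentation R N' := Module.finitePresentation_of_finite R N'
  have h0 : z' = 0 := by
    apply eq_zero_of_ev
    intro a
    apply Subtype.ext
    funext i
    have h1 := congrFun hz i
    rw [Groth.Agent.Lib.Helper54.piRightHom_apply, Pi.zero_apply] at h1
    have h2 := congrArg (ev α a (Q i)) h1
    rw [ev_lTensor, map_zero, ← hz', ev_lTensor] at h2
    simpa using h2
  rw [← hz', h0, map_zero]

/-- Over a Noetherian ring R which is I-adically complete, the I-adic completion of a free module on an
arbitrary index set is a flat and Mittag-Leffler R-module. (Flatness alone, without completeness of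
R, is stated separately.) -/
theorem result (R : Type u) [CommRing R] [IsNoetherianRing R] (I : Ideal R) [IsAdicComplete I R] (α : Type u) :
    Module.Flat R (AdicCompletion I (α →₀ R)) ∧ CAlg.IsMittagLeffler R (AdicCompletion I (α →₀ R)) := by
  refine ⟨Groth.Agent.S0550.flat_aux R I α, ?_⟩
  refine Groth.Agent.S6338.result R _ (Groth.Agent.S2124.univInj_aux I α) ?_
  refine Groth.Agent.Lib.Helper54.isMittagLeffler_of_linearEquiv R
    (LinearEquiv.piCongrRight fun _ : α => (AdicCompletion.ofLinearEquiv I R).symm)
    (isMittagLeffler_pi_self R α)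

end Groth.Agent.S1197
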