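import Groth.Statements.S1198
import Groth.Agent.Lib.Helper65.ComplSection
import Groth.Agent.Lib.Helper54.MLKap
import Groth.Agent.S1197

set_option autoImplicit false
universe u

namespace Groth.Agent.S1198

open Groth.Agent.Lib.Helper65.ComplSplit

theorem result (R : Type u) [CommRing R] [IsNoetherianRing R] (I : Ideal R) [IsAdicComplete I R]
    (M : Type u) [AddCommGroup M] [Module R M] [Module.Flat R M]
    [Module.Projective (R ⧸ I) (M ⧸ (I • ⊤ : Submodule R M))] :
    Module.Flat R (AdicCompletion I M) ∧ CAlg.IsMittagLeffler R (AdicCompletion I M) := by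
  classical
  let g : (M →₀ R) →ₗ[R] M := Finsupp.linearCombination R id
  have hg : Function.Surjective g := Finsupp.linearCombination_id_surjective R M
  obtain ⟨s, hs⟩ := exists_section R I (M →₀ R) M g hg
  obtain ⟨hflat, hML⟩ := Groth.Agent.S1197.result R I M
  have hret : ((AdicCompletion.map I g).restrictScalars R) ∘ₗ (s.restrictScalars R) =
      LinearMap.id := by
    refine LinearMap.ext fun x => ?_
    exact LinearMap.congr_fun hs x
  exact ⟨Module.Flat.of_retract _ _ hret,
    Groth.Agent.Lib.Helper54.isMittagLeffler_of_retract _ _ hret hML⟩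

end Groth.Agent.S1198
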