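import Groth.Statements.S1199
import Groth.Agent.S2056

set_option autoImplicit false
universe u
open FlatMor

namespace Groth.Agent.S1199

open TensorProduct in
/-- `N ⊗_R Q` is a finite `S`-module when `N` is finite over `S` and `Q` is finite over `R`. -/
theorem finite_tensor {R S : Type u} [CommRing R] [CommRing S] [Algebra R S]
    (N : Type u) [AddCommGroup N] [Module S N] [Module R N] [IsScalarTower R S N] [Module.Finite S N]
    (Q : Type u) [AddCommGroup Q] [Module R Q] [Module.Finite R Q] :
    Module.Finite S (N ⊗[R] Q) := by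
  obtain ⟨k, f, hf⟩ := Module.Finite.exists_fin' R Q
  haveI : Module.Finite S (N ⊗[R] (Fin k → R)) :=
    Module.Finite.equiv (TensorProduct.piScalarRight R S N (Fin k)).symm
  refine Module.Finite.of_surjective (TensorProduct.AlgebraTensorModule.lTensor S N f) ?_
  exact LinearMap.lTensor_surjective N hf

open TensorProduct in
theorem injective_rTensor_of {R S : Type u} [CommRing R] [CommRing S] [Algebra R S]
    [IsNoetherianRing R] [IsNoetherianRing S] (I : Ideal R)
    (N : Type u) [AddCommGroup N] [Module S N] [Module R N] [IsScalarTower R S N] [Module.Finite S N]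
    (Q : Type u) [AddCommGroup Q] [Module R Q] [Module.Finite R Q]
    (h : ∀ q ∈ associatedPrimes S (N ⊗[R] Q), I.map (algebraMap R S) ⊔ q ≠ ⊤) :
    Function.Injective ((AdicCompletion.of I N).rTensor Q) := by
  classical
  haveI := finite_tensor (R := R) (S := S) N Q
  rw [injective_iff_map_eq_zero]
  intro x hx
  by_contra hx0
  -- (1) x lies in all `I^n (N ⊗ Q)`
  have h1 : ∀ n : ℕ, x ∈ (I ^ n • ⊤ : Submodule R (N ⊗[R] Q)) := by
    intro n
    have hcomp : (AdicCompletion.eval I N n) ∘ₗ (AdicCompletion.of I N) =
        Submodule.mkQ (I ^ n • ⊤ : Submodule R N) := by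
      ext y
      exact AdicCompletion.eval_of I N n y
    have h0 : (Submodule.mkQ (I ^ n • ⊤ : Submodule R N)).rTensor Q x = 0 := by
      rw [← hcomp, LinearMap.rTensor_comp, LinearMap.comp_apply, hx, map_zero]
    have hex := rTensor_exact Q (LinearMap.exact_subtype_mkQ (I ^ n • ⊤ : Submodule R N))
      (Submodule.mkQ_surjective _)
    obtain ⟨y, rfl⟩ := (hex x).mp h0
    clear h0 hx hx0
    induction y using TensorProduct.induction_on with
    | zero => rw [map_zero]; exact Submodule.zero_mem _
    | tmul m q =>
      obtain ⟨m, hm⟩ := m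
      rw [LinearMap.rTensor_tmul, Submodule.subtype_apply]
      refine Submodule.smul_induction_on (p := fun m => m ⊗ₜ[R] q ∈
        (I ^ n • ⊤ : Submodule R (N ⊗[R] Q))) hm ?_ ?_
      · intro a ha z _
        rw [← TensorProduct.smul_tmul']
        exact Submodule.smul_mem_smul ha Submodule.mem_top
      · intro y z hy hz
        rw [TensorProduct.add_tmul]
        exact Submodule.add_mem _ hy hz
    | add a b ha hb => rw [map_add]; exact Submodule.add_mem _ ha hb
  -- (2) hence in all `(IS)^n (N ⊗ Q)`
  have h2 : x ∈ (⨅ n : ℕ, (I.map (algebraMap R S)) ^ n • ⊤ : Submodule S (N ⊗[R] Q)) := by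
    rw [Submodule.mem_iInf]
    intro n
    refine Submodule.smul_induction_on (p := fun x => x ∈
      ((I.map (algebraMap R S)) ^ n • ⊤ : Submodule S (N ⊗[R] Q))) (h1 n) ?_ ?_
    · intro a ha z _
      rw [← algebraMap_smul S a z]
      refine Submodule.smul_mem_smul ?_ Submodule.mem_top
      rw [← Ideal.map_pow]
      exact Ideal.mem_map_of_mem _ ha
    · intro y z hy hz
      exact Submodule.add_mem _ hy hz
  -- (3) Krull
  obtain ⟨r, hr⟩ := (Ideal.mem_iInf_smul_pow_eq_bot_iff (I.map (algebraMap R S)) x).mp h2
  -- (4) associated prime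
  obtain ⟨q, hq, hle⟩ := exists_le_isAssociatedPrime_of_isNoetherianRing S x hx0
  have hmem : (1 - (r : S)) ∈ q := by
    apply hle
    rw [Submodule.mem_colon_singleton, Submodule.mem_bot, sub_smul, one_smul, hr, sub_self]
  refine h q hq ?_
  rw [Ideal.eq_top_iff_one]
  have : (1 : S) = (r : S) + (1 - (r : S)) := by ring
  rw [this]
  exact Submodule.add_mem_sup r.2 hmem

open TensorProduct in
/-- Let R → S be a map of Noetherian rings, I an ideal of R and N a finite S-module. Assume that for
every finite R-module Q and every associated prime q of the S-module N ⊗_R Q the ideal IS + q is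
proper. Then the canonical map from N to its I-adic completion is universally injective as a map of
R-modules. -/
theorem result {R S : Type u} [CommRing R] [CommRing S] [Algebra R S] [IsNoetherianRing R] [IsNoetherianRing S] (I : Ideal R)
    (N : Type u) [AddCommGroup N] [Module S N] [Module R N] [IsScalarTower R S N] [Module.Finite S N]
    (h : ∀ (Q : Type u) [AddCommGroup Q] [Module R Q], Module.Finite R Q →
      ∀ q ∈ associatedPrimes S (N ⊗[R] Q), I.map (algebraMap R S) ⊔ q ≠ ⊤) :
    FlatCA.UnivInj R (AdicCompletion.of I N) := by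
  classical
  have huniv : CAlgX.UniversallyInjective R (AdicCompletion.of I N) := by
    rw [Groth.Agent.S2056.result]
    intro Q _ _ hQ
    have : Module.Finite R Q := inferInstance
    exact injective_rTensor_of I N Q (h Q inferInstance)
  intro Q _ _
  exact (LinearMap.lTensor_inj_iff_rTensor_inj Q (AdicCompletion.of I N)).mpr (huniv Q)

end Groth.Agent.S1199
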