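import Groth.Statements.S1200
import Groth.Agent.S1199
import Groth.Agent.Lib.Helper54.FiberAss

set_option autoImplicit false
universe u
open FlatMor

namespace Groth.Agent.S1200

/-- Let R → S be a map of Noetherian rings, I an ideal of R and N a finite S-module which is flat over
R. Assume that for every prime q of S, over p in R, whose extension to the fibre ring over p is an
associated prime of the fibre module of N, the ideal IS + q is proper. Then the canonical map from N
to its I-adic completion is universally injective as a map of R-modules. -/
theorem result {R S : Type u} [CommRing R] [CommRing S] [Algebra R S] [IsNoetherianRing R] [IsNoetherianRing S] (I : Ideal R)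
    (N : Type u) [AddCommGroup N] [Module S N] [Module R N] [IsScalarTower R S N] [Module.Finite S N] [Module.Flat R N]
    (h : ∀ (p : Ideal R) (q : Ideal S) [p.IsPrime] [q.IsPrime] [q.LiesOver p],
      FlatCA.fiberIdeal p q ∈ associatedPrimes (p.Fiber S) (FlatCA.fiberMod p S N) → I.map (algebraMap R S) ⊔ q ≠ ⊤) :
    FlatCA.UnivInj R (AdicCompletion.of I N) := by
  classical
  have huniv : CAlgX.UniversallyInjective R (AdicCompletion.of I N) := by
    rw [Groth.Agent.S2056.result]
    intro Q _ _ hQ
    have : Module.Finite R Q := inferInstance
    refine Groth.Agent.S1199.injective_rTensor_of (S := S) I N Q ?_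
    intro q hq
    rw [Groth.Agent.S2069.result] at hq
    simp only [Set.mem_iUnion, exists_prop] at hq
    obtain ⟨p, hp, hq⟩ := hq
    rw [Groth.Agent.S2069.assPrimes_quot_eq] at hq
    haveI : p.IsPrime := hp.1
    haveI : q.IsPrime := hq.1
    have hcomap := Groth.Agent.S2069.comap_eq_of_mem p q hq
    haveI : q.LiesOver p := ⟨hcomap.symm⟩
    exact h p q (Groth.Agent.Lib.Helper54.FiberAss.fiberIdeal_mem_associatedPrimes N p q hq)
  intro Q _ _
  exact (LinearMap.lTensor_inj_iff_rTensor_inj Q (AdicCompletion.of I N)).mpr (huniv Q)

end Groth.Agent.S1200
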