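import Groth.Statements.S12056
-- import your own Groth.Agent.* helpers here
import Groth.Agent.Lib.Helper91.PDerivSubst
import Mathlib.RingTheory.PowerSeries.Inverse

set_option autoImplicit false
open Red

namespace Groth.Agent.S12056

open Groth.Agent.Lib.Helper91

theorem ev_subst {R : Type} [CommRing R] {b : Fin 2 → PowerSeries R}
    (hb : MvPowerSeries.HasSubst b) {a : MvPowerSeries (Fin 2) R} (ha : PowerSeries.HasSubst a)
    (G : PowerSeries R) :
    MvPowerSeries.subst b (PowerSeries.subst a G) =
      PowerSeries.subst (MvPowerSeries.subst b a) G := by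
  rw [PowerSeries.subst, MvPowerSeries.subst_comp_subst_apply ha.const hb]
  rfl

/-- In formal-power-series form, let R be a commutative ring and F ∈ R⟦X⟧ with constant term 1 whose
linear coefficient a is a unit of R. Suppose that in R⟦X₀, X₁⟧ one has F(X₀ + X₁ · F(X₀)) = F(X₀) ·
F(X₁) (the functional equation F(x + y F(x)) = F(x) F(y)). Then F = 1 + a X. (The published
statement concerns a morphism to the multiplicative group from an open neighbourhood of the zero
section in the additive group over a base scheme, the identity holding on an open neighbourhood of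
the origin of the plane on which all terms are defined, with a the derivative at 0; this row states
it for formal power series over a ring.) -/
theorem result (R : Type) [CommRing R] (F : PowerSeries R)
    (h0 : PowerSeries.constantCoeff F = 1) (ha : IsUnit (PowerSeries.coeff 1 F))
    (hFE : PowerSeries.subst
        (MvPowerSeries.X (0 : Fin 2) + MvPowerSeries.X 1 * PowerSeries.subst (MvPowerSeries.X (0 : Fin 2)) F :
          MvPowerSeries (Fin 2) R) F =
      PowerSeries.subst (MvPowerSeries.X (0 : Fin 2)) F * PowerSeries.subst (MvPowerSeries.X (1 : Fin 2)) F) :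
    F = 1 + PowerSeries.C (PowerSeries.coeff 1 F) * PowerSeries.X := by
  classical
  have hsx : PowerSeries.HasSubst (MvPowerSeries.X (0 : Fin 2) : MvPowerSeries (Fin 2) R) :=
    PowerSeries.HasSubst.X 0
  have hsy : PowerSeries.HasSubst (MvPowerSeries.X (1 : Fin 2) : MvPowerSeries (Fin 2) R) :=
    PowerSeries.HasSubst.X 1
  have hsa : PowerSeries.HasSubst
      (MvPowerSeries.X (0 : Fin 2) + MvPowerSeries.X 1 *
        PowerSeries.subst (MvPowerSeries.X (0 : Fin 2)) F : MvPowerSeries (Fin 2) R) :=
    hsx.add hsy.mul_left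
  have h10 : (0 : Fin 2) ≠ 1 := by decide
  have h01 : (1 : Fin 2) ≠ 0 := by decide
  -- derivative in y
  have E1 := congrArg (MvPowerSeries.pderiv R (1 : Fin 2)) hFE
  rw [pderiv_subst 1 hsa, Derivation.leibniz, pderiv_subst 1 hsx, pderiv_subst 1 hsy, map_add,
    Derivation.leibniz, pderiv_subst 1 hsx, MvPowerSeries.pderiv_X_self,
    MvPowerSeries.pderiv_X_of_ne h10] at E1
  simp only [mul_zero, add_zero, zero_add, smul_eq_mul, mul_one] at E1
  -- derivative in x
  have E2 := congrArg (MvPowerSeries.pderiv R (0 : Fin 2)) hFE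
  rw [pderiv_subst 0 hsa, Derivation.leibniz, pderiv_subst 0 hsx, pderiv_subst 0 hsy, map_add,
    Derivation.leibniz, pderiv_subst 0 hsx, MvPowerSeries.pderiv_X_self,
    MvPowerSeries.pderiv_X_of_ne h01] at E2
  simp only [mul_zero, add_zero, zero_add, smul_eq_mul, mul_one] at E2
  -- evaluation at (X, 0) and (0, X)
  have hb1 : MvPowerSeries.HasSubst (![PowerSeries.X, 0] : Fin 2 → PowerSeries R) :=
    MvPowerSeries.hasSubst_of_constantCoeff_zero (by
      intro s; fin_cases s
      · exact PowerSeries.constantCoeff_X
      · exact map_zero _)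
  have hb2 : MvPowerSeries.HasSubst (![0, PowerSeries.X] : Fin 2 → PowerSeries R) :=
    MvPowerSeries.hasSubst_of_constantCoeff_zero (by
      intro s; fin_cases s
      · exact map_zero _
      · exact PowerSeries.constantCoeff_X)
  have hd0 : PowerSeries.constantCoeff (PowerSeries.derivative R F) = PowerSeries.coeff 1 F := by
    rw [← PowerSeries.coeff_zero_eq_constantCoeff_apply, PowerSeries.coeff_derivative]
    simp
  have hsub0 : ∀ G : PowerSeries R, PowerSeries.subst (0 : PowerSeries R) G =
      PowerSeries.C (PowerSeries.constantCoeff G) := by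
    intro G
    have := PowerSeries.subst_zero_eq_C_constantCoeff (R := R) (S := R) (τ := Unit) (f := G)
    simp only [Algebra.algebraMap_self, MvPowerSeries.map_id, RingHom.id_apply] at this
    exact this
  have F1 := congrArg (MvPowerSeries.subst (![PowerSeries.X, 0] : Fin 2 → PowerSeries R)) E1
  rw [MvPowerSeries.subst_mul hb1, MvPowerSeries.subst_mul hb1, ev_subst hb1 hsa, ev_subst hb1 hsx,
    ev_subst hb1 hsy, MvPowerSeries.subst_add hb1, MvPowerSeries.subst_mul hb1,
    ev_subst hb1 hsx, MvPowerSeries.subst_X hb1, MvPowerSeries.subst_X hb1] at F1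
  simp only [Matrix.cons_val_zero, Matrix.cons_val_one, zero_mul, add_zero,
    PowerSeries.X_subst, hsub0, hd0] at F1
  have F2 := congrArg (MvPowerSeries.subst (![0, PowerSeries.X] : Fin 2 → PowerSeries R)) E2
  rw [MvPowerSeries.subst_mul hb2, MvPowerSeries.subst_mul hb2, ev_subst hb2 hsa, ev_subst hb2 hsx,
    ev_subst hb2 hsy, MvPowerSeries.subst_add hb2, MvPowerSeries.subst_add hb2,
    MvPowerSeries.subst_mul hb2, MvPowerSeries.subst_mul hb2,
    ev_subst hb2 hsx, ev_subst hb2 hsx, MvPowerSeries.subst_X hb2, MvPowerSeries.subst_X hb2] at F2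
  simp only [Matrix.cons_val_zero, Matrix.cons_val_one, zero_add,
    PowerSeries.X_subst, hsub0, hd0, h0, map_one, mul_one] at F2
  have h1 : MvPowerSeries.subst (![0, PowerSeries.X] : Fin 2 → PowerSeries R)
      (1 : MvPowerSeries (Fin 2) R) = 1 := by
    rw [← MvPowerSeries.coe_substAlgHom hb2]; exact map_one _
  rw [h1] at F2
  -- F is a unit
  have hFu : IsUnit F := by
    rw [PowerSeries.isUnit_iff_constantCoeff, h0]; exact isUnit_one
  have hCu : IsUnit (PowerSeries.C (PowerSeries.coeff 1 F) : PowerSeries R) := ha.map _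
  have hF' : PowerSeries.derivative R F = PowerSeries.C (PowerSeries.coeff 1 F) := by
    apply hFu.mul_right_cancel
    rw [F1, mul_comm]
  rw [hF'] at F2
  have := hCu.mul_left_cancel (F2.trans (mul_comm _ _))
  rw [mul_comm (PowerSeries.C _) PowerSeries.X]
  exact this.symm

end Groth.Agent.S12056
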