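import Groth.Statements.S12057
import Groth.Agent.Lib.Helper56.PullTensorB
import Groth.Agent.Lib.Helper48.TensorDesc
import Groth.Agent.Lib.Helper48.InvGen
import Groth.Agent.Lib.Ample.Helper50_LocalGen
import Groth.Agent.Lib.QCoh.Invertible
-- import your own Groth.Agent.* helpers here

set_option autoImplicit false
universe u
open CategoryTheory CategoryTheory.Limits AlgebraicGeometry
open FGA

namespace Groth.Agent.S12057

open Groth.Agent.Lib.Ample Groth.Agent.Lib.QCoh Groth.Agent.Lib.Helper48
  Groth.Agent.Lib.Proj.PullSec Groth.Agent.Lib.Helper56.PullTensor TopologicalSpace Opposite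
  Scheme.Modules

/-- Let f : X ⟶ S be a morphism of schemes such that for every open U of S the induced map from sections
of the structure sheaf of S over U to sections of the structure sheaf of X over the inverse image of
U is bijective. Let L be an invertible module on X which is trivial locally over S: every point of S
has an open neighbourhood U such that the restriction of L to the inverse image of U is isomorphic
to the structure sheaf. Then L is isomorphic to the pullback along f of an invertible module on S.
(The relative Picard group here is the group of global sections of the first higher direct image of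
the sheaf of units, so its elements vanishing are exactly the classes trivial locally over the
base.) -/
theorem result {X S : Scheme.{u}} (f : X ⟶ S)
    (hf : ∀ U : S.Opens, Function.Bijective (f.app U)) (L : X.Modules) (hL : PicF.IsInvertible L)
    (hloc : ∀ s : S, ∃ U : S.Opens, s ∈ U ∧
      Nonempty ((Scheme.Modules.pullback (f ⁻¹ᵁ U).ι).obj L ≅ Coh.structureModule (f ⁻¹ᵁ U))) :
    ∃ N : S.Modules, PicF.IsInvertible N ∧ Nonempty (L ≅ (Scheme.Modules.pullback f).obj N) := by
  have hgen : ∀ s : S, ∃ (U : S.Opens) (_ : s ∈ U) (e : Γ(L, f ⁻¹ᵁ U)),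
      IsGenerator L (f ⁻¹ᵁ U) e := by
    intro s
    obtain ⟨U, hsU, ⟨φ⟩⟩ := hloc s
    have ψ : L.restrict (f ⁻¹ᵁ U).ι ≅ Coh.structureModule ((f ⁻¹ᵁ U : X.Opens) : Scheme.{u}) :=
      (Scheme.Modules.restrictFunctorIsoPullback (f ⁻¹ᵁ U).ι).app L ≪≫ φ
    obtain ⟨e, he⟩ := exists_isGenerator_of_iso (f ⁻¹ᵁ U) ψ
    exact ⟨U, hsU, e, he⟩
  obtain ⟨N, hN⟩ : ∃ N : S.Modules, N = (Scheme.Modules.pushforward f).obj L := ⟨_, rfl⟩
  have hpush : ∀ (U : S.Opens) (e : Γ(L, f ⁻¹ᵁ U)), IsGenerator L (f ⁻¹ᵁ U) e →
      IsGenerator ((Scheme.Modules.pushforward f).obj L) U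
        (show Γ((Scheme.Modules.pushforward f).obj L, U) from e) := by
    intro U e he V hV
    have hb : Function.Bijective (f.app V).hom := hf V
    have hg := he (f ⁻¹ᵁ V) (f.preimage_mono hV)
    have h : (fun r : Γ(S, V) => r • resSec ((Scheme.Modules.pushforward f).obj L) hV
          (show Γ((Scheme.Modules.pushforward f).obj L, U) from e)) =
        (fun b : Γ(X, f ⁻¹ᵁ V) => b • resSec L (f.preimage_mono hV) e) ∘ (f.app V).hom := by
      funext r
      rfl
    rw [h]
    exact hg.comp hb
  have hNinv : PicF.IsInvertible ((Scheme.Modules.pushforward f).obj L) :=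
    InvGen.isInvertible_of_isGenerator _ (fun s => by
      obtain ⟨U, hsU, e, he⟩ := hgen s
      exact ⟨U, hsU, _, hpush U e he⟩)
  refine ⟨(Scheme.Modules.pushforward f).obj L, hNinv, ?_⟩
  obtain ⟨ε, hε⟩ : ∃ ε : (Scheme.Modules.pullback f).obj ((Scheme.Modules.pushforward f).obj L) ⟶ L,
      ε = (pullbackPushforwardAdjunction f).counit.app L := ⟨_, rfl⟩
  have htri : ∀ (V : S.Opens) (t : Γ((Scheme.Modules.pushforward f).obj L, V)),
      ε.app (f ⁻¹ᵁ V) (pullSecOn f ((Scheme.Modules.pushforward f).obj L) V t) =
        (show Γ(L, f ⁻¹ᵁ V) from t) := by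
    intro V t
    have h := (pullbackPushforwardAdjunction f).right_triangle_components L
    have h2 : (((pullbackPushforwardAdjunction f).unit.app ((Scheme.Modules.pushforward f).obj L) ≫
        (Scheme.Modules.pushforward f).map ((pullbackPushforwardAdjunction f).counit.app L)).app V) t =
        ((𝟙 ((Scheme.Modules.pushforward f).obj L) : _ ⟶ _).app V) t := by rw [h]
    rw [hε]
    exact h2
  haveI : IsIso ε := by
    refine TensorDesc.isIso_of_isGenerator ε (fun x => ?_)
    obtain ⟨U, hsU, e, he⟩ := hgen (f.base x)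
    have heN := hpush U e he
    obtain ⟨V, hVaff, hsV, hVU⟩ := Opens.isBasis_iff_nbhd.1 S.isBasis_affineOpens hsU
    have heV := heN.mono hVU
    have hB := isInvertible_pullback f hNinv
    obtain ⟨W₁, hxW₁, p₁, hp₁⟩ := exists_isGenerator_of_isInvertible hB x
    obtain ⟨W, hWaff, hxW, hWle⟩ := Opens.isBasis_iff_nbhd.1 X.isBasis_affineOpens
      (U := f ⁻¹ᵁ V ⊓ W₁) ⟨hsV, hxW₁⟩
    have hWV : W ≤ f ⁻¹ᵁ V := hWle.trans inf_le_left
    have g₁ := isGenerator_res_pullSecOn f hNinv hVaff heV hWaff hWV
      (hp₁.res (hWle.trans inf_le_right))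
    refine ⟨W, hxW, _, g₁, ?_⟩
    have h2 := app_naturality_apply ε (homOfLE hWV)
      (pullSecOn f ((Scheme.Modules.pushforward f).obj L) V
        (resSec ((Scheme.Modules.pushforward f).obj L) hVU
          (show Γ((Scheme.Modules.pushforward f).obj L, U) from e)))
    rw [htri] at h2
    have h3 : IsGenerator L W (resSec L hWV (resSec L (f.preimage_mono hVU) e)) :=
      (he.mono (f.preimage_mono hVU)).mono hWV
    have h4 : ε.app W (resSec _ hWV (pullSecOn f ((Scheme.Modules.pushforward f).obj L) V
        (resSec ((Scheme.Modules.pushforward f).obj L) hVU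
          (show Γ((Scheme.Modules.pushforward f).obj L, U) from e)))) =
        resSec L hWV (resSec L (f.preimage_mono hVU) e) := h2
    rw [h4]
    exact h3
  exact ⟨(asIso ε).symm⟩

end Groth.Agent.S12057
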