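import Groth.Statements.S12058
-- import your own Groth.Agent.* helpers here
import Mathlib.CategoryTheory.Abelian.Refinements
import Mathlib.CategoryTheory.Abelian.CommSq
import Mathlib.Algebra.Homology.DerivedCategory.Ext.ExactSequences

set_option autoImplicit false
universe w v u
open CategoryTheory CategoryTheory.Limits CategoryTheory.Abelian
open SGA3

namespace Groth.Agent.S12058

/-- In an abelian category, let 0 → A' → A → A'' → 0 be a short exact sequence, φ : A' ⟶ Q a morphism
and π : A'' ⟶ P an epimorphism with kernel C. Consider the quadruples (B, f, g, h) with 0 → Q → B →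
P → 0 short exact (maps f, g) and h : A ⟶ B such that the squares commute: (A' → A → B) = (A' → Q →
B) and (A → B → P) = (A → A'' → P). Such a quadruple exists if and only if the image in Ext¹(C, Q)
of the class of the given extension in Ext¹(A'', A') (push forward along φ, pull back along the
inclusion C → A'') is zero. -/
theorem result {C : Type u} [Category.{v} C] [Abelian C]
    [HasExt.{w} C] {S : ShortComplex C} (hS : S.ShortExact) {Q P : C} (φ : S.X₁ ⟶ Q) (π : S.X₃ ⟶ P) [Epi π] :
    (∃ (B : C) (f : Q ⟶ B) (g : B ⟶ P) (h : S.X₂ ⟶ B) (w : f ≫ g = 0),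
        (ShortComplex.mk f g w).ShortExact ∧ S.f ≫ h = φ ≫ f ∧ h ≫ g = S.g ≫ π) ↔
      (Ext.mk₀ (kernel.ι π)).comp (hS.extClass.comp (Ext.mk₀ φ) (add_zero 1)) (zero_add 1) = 0 := by
  constructor
  · rintro ⟨B, f, g, h, w, hB, h1, h2⟩
    let τ : S ⟶ ShortComplex.mk f g w :=
      { τ₁ := φ, τ₂ := h, τ₃ := π, comm₁₂ := h1.symm, comm₂₃ := h2 }
    have nat := ShortComplex.ShortExact.extClass_naturality hS hB τ
    have nat' : hS.extClass.comp (Ext.mk₀ φ) (add_zero 1) =
        (Ext.mk₀ π).comp hB.extClass (zero_add 1) := nat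
    rw [nat', ← Ext.comp_assoc (Ext.mk₀ (kernel.ι π)) (Ext.mk₀ π) hB.extClass (zero_add 0)
      (zero_add 1) (by omega), Ext.mk₀_comp_mk₀, kernel.condition, Ext.mk₀_zero, Ext.zero_comp]
  · intro hzero
    have := hS.mono_f
    have := hS.epi_g
    let k : kernel (S.g ≫ π) ⟶ S.X₂ := kernel.ι (S.g ≫ π)
    have hk0 : k ≫ S.g ≫ π = 0 := kernel.condition _
    let fC : S.X₁ ⟶ kernel (S.g ≫ π) :=
      kernel.lift _ S.f (by rw [← Category.assoc, S.zero, zero_comp])
    let gC : kernel (S.g ≫ π) ⟶ kernel π :=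
      kernel.lift π (k ≫ S.g) (by rw [Category.assoc]; exact hk0)
    have hfk : fC ≫ k = S.f := kernel.lift_ι _ _ _
    have hgι : gC ≫ kernel.ι π = k ≫ S.g := kernel.lift_ι _ _ _
    have wC : fC ≫ gC = 0 := by
      rw [← cancel_mono (kernel.ι π), Category.assoc, hgι, ← Category.assoc, hfk, S.zero,
        zero_comp]
    have hSC : (ShortComplex.mk fC gC wC).ShortExact := by
      refine ShortComplex.ShortExact.mk' ?_ ?_ ?_
      · rw [ShortComplex.exact_iff_exact_up_to_refinements]
        intro T x hx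
        have hx' : x ≫ gC = 0 := hx
        have h0 : (x ≫ k) ≫ S.g = 0 := by
          rw [Category.assoc, ← hgι, ← Category.assoc, hx', zero_comp]
        refine ⟨T, 𝟙 T, inferInstance, hS.exact.lift (x ≫ k) h0, ?_⟩
        show 𝟙 T ≫ x = hS.exact.lift (x ≫ k) h0 ≫ fC
        rw [Category.id_comp, ← cancel_mono k, Category.assoc, hfk, hS.exact.lift_f]
      · exact mono_of_mono_fac hfk
      · show Epi gC
        rw [epi_iff_surjective_up_to_refinements]
        intro T c
        obtain ⟨T', p, hp, a, ha⟩ := surjective_up_to_refinements_of_epi S.g (c ≫ kernel.ι π)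
        have h0 : a ≫ (S.g ≫ π) = 0 := by
          rw [← Category.assoc, ← ha, Category.assoc, Category.assoc, kernel.condition, comp_zero,
            comp_zero]
        refine ⟨T', p, hp, kernel.lift _ a h0, ?_⟩
        have h1 : kernel.lift (S.g ≫ π) a h0 ≫ k = a := kernel.lift_ι _ _ _
        rw [← cancel_mono (kernel.ι π), Category.assoc, Category.assoc, hgι,
          ← Category.assoc _ k S.g, h1, ha]
    let τ : ShortComplex.mk fC gC wC ⟶ S :=
      { τ₁ := 𝟙 _, τ₂ := k, τ₃ := kernel.ι π,
        comm₁₂ := by simp only [Category.id_comp]; exact hfk.symm,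
        comm₂₃ := hgι.symm }
    have nat := ShortComplex.ShortExact.extClass_naturality hSC hS τ
    have nat' : hSC.extClass.comp (Ext.mk₀ (𝟙 S.X₁)) (add_zero 1) =
        (Ext.mk₀ (kernel.ι π)).comp hS.extClass (zero_add 1) := nat
    rw [Ext.comp_mk₀_id] at nat'
    have h0 : hSC.extClass.comp (Ext.mk₀ φ) (add_zero 1) = 0 := by
      rw [nat', Ext.comp_assoc (Ext.mk₀ (kernel.ι π)) hS.extClass (Ext.mk₀ φ) (zero_add 1)
        (add_zero 1) (by omega)]
      exact hzero
    obtain ⟨x₂, hx₂⟩ := Ext.contravariant_sequence_exact₁ hSC Q (Ext.mk₀ φ) (add_zero 1) h0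
    obtain ⟨ψ, rfl⟩ := (Ext.mk₀_bijective _ _).2 x₂
    have hψ' : Ext.mk₀ (fC ≫ ψ) = Ext.mk₀ φ := by
      rw [← Ext.mk₀_comp_mk₀]; exact hx₂
    have hψ : fC ≫ ψ = φ := (Ext.mk₀_bijective _ _).1 hψ'
    -- the pushout
    have hpo : IsPushout k ψ (pushout.inl k ψ) (pushout.inr k ψ) := IsPushout.of_hasPushout k ψ
    let g : pushout k ψ ⟶ P := pushout.desc (S.g ≫ π) 0 (by rw [hk0, comp_zero])
    have hinl : pushout.inl k ψ ≫ g = S.g ≫ π := pushout.inl_desc _ _ _
    have hinr : pushout.inr k ψ ≫ g = 0 := pushout.inr_desc _ _ _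
    refine ⟨pushout k ψ, pushout.inr k ψ, g, pushout.inl k ψ, hinr, ?_, ?_, hinl⟩
    · refine ShortComplex.ShortExact.mk' ?_ ?_ ?_
      · rw [ShortComplex.exact_iff_exact_up_to_refinements]
        intro T b hb
        have hb' : b ≫ g = 0 := hb
        obtain ⟨T', p, hp, x₂, x₃, hx⟩ := hpo.hom_eq_add_up_to_refinements b
        have h1 : x₂ ≫ (S.g ≫ π) = 0 := by
          have := congrArg (· ≫ g) hx
          simp only [Category.assoc, Preadditive.add_comp, hb', comp_zero, hinl, hinr,
            add_zero] at this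
          exact this.symm
        refine ⟨T', p, hp, kernel.lift _ x₂ h1 ≫ ψ + x₃, ?_⟩
        show p ≫ b = (kernel.lift _ x₂ h1 ≫ ψ + x₃) ≫ pushout.inr k ψ
        rw [hx, Preadditive.add_comp, Category.assoc, ← hpo.w, ← Category.assoc, kernel.lift_ι]
      · show Mono (pushout.inr k ψ)
        infer_instance
      · show Epi g
        exact epi_of_epi_fac hinl
    · rw [← hfk, Category.assoc, hpo.w, ← Category.assoc, hψ]

end Groth.Agent.S12058
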