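import Groth.Statements.S1206
import Mathlib.RingTheory.LocalRing.MaximalIdeal.Basic
import Mathlib.RingTheory.LocalRing.Basic
import Mathlib.RingTheory.Ideal.Operations
import Mathlib.RingTheory.Finiteness.Basic
import Mathlib.Order.Zorn
import Mathlib.Tactic.LinearCombination
import Mathlib.Tactic.Ring
-- import your own Groth.Agent.* helpers here

set_option autoImplicit false
universe u
open FlatMor

namespace Groth.Agent.S1206

/-- If every prime containing `𝔞` contains a member of a product-closed nonempty family of finitely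
generated ideals, then `𝔞` itself contains a member of the family. -/
lemma exists_le_of_forall_prime {A : Type u} [CommRing A]
    (𝒮 : Set (Ideal A)) (hfg : ∀ I ∈ 𝒮, I.FG) (hmul : ∀ I ∈ 𝒮, ∀ J ∈ 𝒮, I * J ∈ 𝒮)
    (hS : 𝒮.Nonempty) (𝔞 : Ideal A)
    (hcov : ∀ (p : Ideal A), p.IsPrime → 𝔞 ≤ p → ∃ I ∈ 𝒮, I ≤ p) :
    ∃ I ∈ 𝒮, I ≤ 𝔞 := by
  by_contra hcon
  push Not at hcon
  let T : Set (Ideal A) := {𝔟 | 𝔞 ≤ 𝔟 ∧ ∀ I ∈ 𝒮, ¬ I ≤ 𝔟}
  have h𝔞 : 𝔞 ∈ T := ⟨le_rfl, hcon⟩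
  obtain ⟨𝔭, h𝔞𝔭, hmax⟩ := zorn_le_nonempty₀ T (by
    intro c hc hchain y hy
    refine ⟨sSup c, ⟨(hc hy).1.trans (le_sSup hy), ?_⟩, fun z hz => le_sSup hz⟩
    intro I hI hle
    have hcomp := (Submodule.fg_iff_compact I).mp (hfg I hI)
    rw [CompleteLattice.isCompactElement_iff_le_of_directed_sSup_le] at hcomp
    obtain ⟨x, hx, hIx⟩ := hcomp c ⟨y, hy⟩ hchain.directedOn hle
    exact (hc hx).2 I hI hIx) 𝔞 h𝔞
  have hp1 : 𝔭 ≠ ⊤ := by
    rintro rfl
    obtain ⟨I, hI⟩ := hS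
    exact hmax.prop.2 I hI le_top
  have key : ∀ a : A, a ∉ 𝔭 → ∃ I ∈ 𝒮, I ≤ 𝔭 ⊔ Ideal.span {a} := by
    intro a ha
    by_contra h1
    push Not at h1
    have hmem : 𝔭 ⊔ Ideal.span {a} ∈ T := ⟨hmax.prop.1.trans le_sup_left, h1⟩
    have := hmax.le_of_ge hmem le_sup_left
    exact ha (this (Ideal.mem_sup_right (Ideal.mem_span_singleton_self a)))
  have hprime : 𝔭.IsPrime := by
    refine ⟨hp1, ?_⟩
    intro a b hab
    by_contra h
    push Not at h
    obtain ⟨ha, hb⟩ := h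
    obtain ⟨I₁, hI₁, h1⟩ := key a ha
    obtain ⟨I₂, hI₂, h2⟩ := key b hb
    apply hmax.prop.2 (I₁ * I₂) (hmul _ hI₁ _ hI₂)
    refine (Ideal.mul_mono h1 h2).trans ?_
    rw [Ideal.mul_le]
    intro r hr s hs
    obtain ⟨p₁, hp₁, x, hx, rfl⟩ := Submodule.mem_sup.mp hr
    obtain ⟨p₂, hp₂, y, hy, rfl⟩ := Submodule.mem_sup.mp hs
    obtain ⟨x', rfl⟩ := Ideal.mem_span_singleton'.mp hx
    obtain ⟨y', rfl⟩ := Ideal.mem_span_singleton'.mp hy
    have e : (p₁ + x' * a) * (p₂ + y' * b) = p₁ * (p₂ + y' * b) + p₂ * (x' * a) + (x' * y') * (a * b) := by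
      ring
    rw [e]
    exact 𝔭.add_mem (𝔭.add_mem (𝔭.mul_mem_right _ hp₁) (𝔭.mul_mem_right _ hp₂)) (𝔭.mul_mem_left _ hab)
  obtain ⟨I, hI, hIp⟩ := hcov 𝔭 hprime hmax.prop.1
  exact hmax.prop.2 I hI hIp

/-- Let A be a local domain which is not a field and 𝒮 a set of finitely generated ideals of A, closed
under products, such that the union of the closed sets V(I), I ∈ 𝒮, is exactly the set of nonzero
primes (every nonzero prime contains a member of 𝒮 and no member is zero). Then the intersection of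
all members of 𝒮 is zero. -/
theorem result (A : Type u) [CommRing A] [IsDomain A] [IsLocalRing A] (hA : ¬ IsField A)
    (𝒮 : Set (Ideal A)) (hfg : ∀ I ∈ 𝒮, I.FG) (hmul : ∀ I ∈ 𝒮, ∀ J ∈ 𝒮, I * J ∈ 𝒮)
    (hne : ∀ I ∈ 𝒮, I ≠ ⊥) (hcov : ∀ (p : Ideal A), p.IsPrime → p ≠ ⊥ → ∃ I ∈ 𝒮, I ≤ p) :
    sInf 𝒮 = ⊥ := by
  have hm : IsLocalRing.maximalIdeal A ≠ ⊥ := by
    intro h
    exact hA (IsLocalRing.isField_iff_maximalIdeal_eq.mpr h)
  obtain ⟨I₀, hI₀, hI₀m⟩ := hcov _ (IsLocalRing.maximalIdeal.isMaximal A).isPrime hm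
  rw [eq_bot_iff]
  intro f hf
  rw [Ideal.mem_bot]
  by_contra hf0
  have hfI : ∀ I ∈ 𝒮, f ∈ I := fun I hI => (Submodule.mem_sInf.mp hf) I hI
  obtain ⟨I, hI, hIf⟩ := exists_le_of_forall_prime 𝒮 hfg hmul ⟨I₀, hI₀⟩ (Ideal.span {f}) (by
    intro p hp hfp
    apply hcov p hp
    rintro rfl
    apply hf0
    have := hfp (Ideal.mem_span_singleton_self f)
    simpa using this)
  have h2 : f ∈ Ideal.span {f * f} := by
    have : I * I ≤ Ideal.span {f} * Ideal.span {f} := Ideal.mul_mono hIf hIf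
    rw [Ideal.span_singleton_mul_span_singleton] at this
    exact this (hfI _ (hmul _ hI _ hI))
  rw [Ideal.mem_span_singleton'] at h2
  obtain ⟨a, ha⟩ := h2
  have haf : a * f = 1 := by
    have h3 : (a * f - 1) * f = 0 := by linear_combination ha
    rcases mul_eq_zero.mp h3 with h | h
    · linear_combination h
    · exact absurd h hf0
  have hunit : IsUnit f := IsUnit.of_mul_eq_one a (by rw [mul_comm]; exact haf)
  have hfm : f ∈ IsLocalRing.maximalIdeal A := hI₀m (hfI _ hI₀)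
  exact (IsLocalRing.mem_maximalIdeal f).mp hfm hunit

end Groth.Agent.S1206
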