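import Groth.Statements.S12067
-- import your own Groth.Agent.* helpers here
import Groth.Agent.S7960
import Groth.Prelude.Def_ComodSub
import Mathlib.LinearAlgebra.FiniteDimensional.Lemmas

set_option autoImplicit false
universe u
open TensorProduct
open SGA3t2b

namespace Groth.Agent.S12067

open Groth.Agent.S7960

theorem finrank_comap_mkQ {k : Type*} [Field k] {V : Type*} [AddCommGroup V] [Module k V]
    [Module.Finite k V] (W : Submodule k V) (N : Submodule k (V ⧸ W)) :
    Module.finrank k ↥(N.comap W.mkQ) = Module.finrank k ↥N + Module.finrank k ↥W := by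
  set S := N.comap W.mkQ with hS
  have hWS : W ≤ S := by
    intro w hw
    show W.mkQ w ∈ N
    rw [Submodule.mkQ_apply, (Submodule.Quotient.mk_eq_zero W).mpr hw]
    exact N.zero_mem
  let g : ↥S →ₗ[k] (V ⧸ W) := W.mkQ ∘ₗ S.subtype
  have h1 := LinearMap.finrank_range_add_finrank_ker g
  have hr : LinearMap.range g = N := by
    rw [LinearMap.range_comp, Submodule.range_subtype, hS,
      Submodule.map_comap_eq_of_surjective W.mkQ_surjective]
  have hk : LinearMap.ker g = W.comap S.subtype := by
    rw [LinearMap.ker_comp, Submodule.ker_mkQ]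
  rw [hr, hk, (Submodule.comapSubtypeEquivOfLe hWS).finrank_eq] at h1
  exact h1.symm

theorem flag (k : Type u) [Field k] (A : Type u) [CommRing A] [HopfAlgebra k A]
    (hU : HopfRep.IsUnipotent k A) :
    ∀ (n : ℕ) (V : Type u) [AddCommGroup V] [Module k V] [c : HopfRep.Comod k A V],
      Module.Finite k V → Module.finrank k V = n →
      ∃ F : Fin (n + 1) → Submodule k V,
        F 0 = ⊥ ∧ F (Fin.last _) = ⊤ ∧
        (∀ i : Fin (n + 1), HopfRep.IsSubcomod (k := k) (A := A) (F i)) ∧
        ∀ i : Fin n, F i.castSucc ≤ F i.succ ∧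
          Module.finrank k ↥(F i.succ) = Module.finrank k ↥(F i.castSucc) + 1 ∧
          ∀ v ∈ F i.succ, HopfRep.Comod.coact (k := k) (A := A) v - v ⊗ₜ[k] (1 : A) ∈
            LinearMap.range ((F i.castSucc).subtype.rTensor A) := by
  intro n
  induction n with
  | zero =>
    intro V _ _ c hfin hn
    have hsub : Subsingleton V := Module.finrank_zero_iff.mp hn
    refine ⟨fun _ => ⊥, rfl, Subsingleton.elim _ _, ?_, fun i => i.elim0⟩
    intro i w hw
    rw [(Submodule.mem_bot k).mp hw, map_zero]
    exact Submodule.zero_mem _
  | succ m ih =>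
    intro V _ _ c hfin hn
    have hnt : Nontrivial V := Module.nontrivial_of_finrank_pos (R := k) (by omega)
    have hne : HopfRep.fixedPts k A V ≠ ⊥ := hU V hfin hnt
    obtain ⟨x, hx, hx0⟩ := Submodule.exists_mem_ne_zero_of_ne_bot hne
    set W : Submodule k V := Submodule.span k {x} with hWdef
    have hWle : W ≤ HopfRep.fixedPts k A V := by
      rw [hWdef, Submodule.span_singleton_le_iff_mem]; exact hx
    have hWrank : Module.finrank k ↥W = 1 := finrank_span_singleton hx0
    have hWfix : ∀ w ∈ W, HopfRep.Comod.coact (k := k) (A := A) w = w ⊗ₜ[k] (1 : A) :=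
      fun w hw => hWle hw
    have hWsub : HopfRep.IsSubcomod (k := k) (A := A) W := by
      intro w hw
      exact ⟨(⟨w, hw⟩ : W) ⊗ₜ[k] (1 : A), by rw [hWfix w hw]; rfl⟩
    let cQ : HopfRep.Comod k A (V ⧸ W) := ComodSub.Comod.quot c W hWsub
    have hQrank : Module.finrank k (V ⧸ W) = m := by
      have h1 := Submodule.finrank_quotient_add_finrank W
      omega
    obtain ⟨F', hF0, hFm, hFsub, hFgr⟩ := @ih (V ⧸ W) _ _ cQ inferInstance hQrank
    let F : Fin (m + 1 + 1) → Submodule k V :=
      Fin.cons ⊥ (fun j => (F' j).comap W.mkQ)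
    have hFzero : F 0 = ⊥ := rfl
    have hFsucc : ∀ j : Fin (m + 1), F j.succ = (F' j).comap W.mkQ := fun j => by
      simp only [F, Fin.cons_succ]
    have hF1 : F (0 : Fin (m + 1)).succ = W := by
      rw [hFsucc 0, hF0, Submodule.comap_bot, Submodule.ker_mkQ]
    refine ⟨F, hFzero, ?_, ?_, ?_⟩
    · rw [← Fin.succ_last, hFsucc, hFm, Submodule.comap_top]
    · intro i
      induction i using Fin.cases with
      | zero =>
        intro w hw
        rw [hFzero] at hw
        rw [(Submodule.mem_bot k).mp hw, map_zero]
        exact Submodule.zero_mem _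
      | succ j =>
        intro w hw
        rw [hFsucc] at hw ⊢
        apply mem_range_rTensor_comap
        have hq := ComodSub.quot_coact_mk c W hWsub w
        have := @hFsub j (W.mkQ w) hw
        rw [Submodule.mkQ_apply] at this
        rw [← hq]
        exact this
    · intro i
      induction i using Fin.cases with
      | zero =>
        rw [Fin.castSucc_zero, hFzero, hF1]
        refine ⟨bot_le, ?_, ?_⟩
        · rw [hWrank, finrank_bot]
        · intro v hv
          rw [hWfix v hv, sub_self]
          exact Submodule.zero_mem _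
      | succ j =>
        obtain ⟨hle, hrk, hgr⟩ := hFgr j
        rw [← Fin.succ_castSucc, hFsucc, hFsucc]
        refine ⟨Submodule.comap_mono hle, ?_, ?_⟩
        · rw [finrank_comap_mkQ, finrank_comap_mkQ, hrk]; omega
        · intro v hv
          apply mem_range_rTensor_comap
          have hq := ComodSub.quot_coact_mk c W hWsub v
          have := hgr (W.mkQ v) hv
          rw [Submodule.mkQ_apply] at this
          rw [map_sub, LinearMap.rTensor_tmul, ← hq]
          exact this

/-- In Hopf-algebra form, let k be a field and A a finitely generated commutative Hopf algebra over k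
(an affine algebraic group G) which is unipotent: every nonzero finite-dimensional comodule has a
nonzero fixed vector. Then every finite-dimensional comodule V (a finite-dimensional representation
of G), of dimension n, has a flag of subcomodules 0 = V_0 ⊂ V_1 ⊂ ⋯ ⊂ V_n = V with one-dimensional
successive quotients on which G acts trivially: for v ∈ V_(i+1) the coaction of v is congruent to v
⊗ 1 modulo V_i ⊗ A. -/
theorem result (k : Type u) [Field k] (A : Type u) [CommRing A]
    [HopfAlgebra k A] [Algebra.FiniteType k A] (hU : HopfRep.IsUnipotent k A)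
    (V : Type u) [AddCommGroup V] [Module k V] [HopfRep.Comod k A V] [Module.Finite k V] :
    ∃ F : Fin (Module.finrank k V + 1) → Submodule k V,
      F 0 = ⊥ ∧ F (Fin.last _) = ⊤ ∧
      (∀ i : Fin (Module.finrank k V + 1), HopfRep.IsSubcomod (k := k) (A := A) (F i)) ∧
      ∀ i : Fin (Module.finrank k V), F i.castSucc ≤ F i.succ ∧
        Module.finrank k ↥(F i.succ) = Module.finrank k ↥(F i.castSucc) + 1 ∧
        ∀ v ∈ F i.succ, HopfRep.Comod.coact (k := k) (A := A) v - v ⊗ₜ[k] (1 : A) ∈
          LinearMap.range ((F i.castSucc).subtype.rTensor A) := by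
  exact flag k A hU _ V inferInstance rfl

end Groth.Agent.S12067
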