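import Groth.Statements.S1207
import Groth.Agent.S1206
import Mathlib.RingTheory.Ideal.Quotient.Operations
import Mathlib.RingTheory.Ideal.Maps
import Mathlib.RingTheory.LocalRing.RingHom.Basic

set_option autoImplicit false
universe u
open FlatMor

namespace Groth.Agent.S1207

/-- Let A be a local ring and I, J ideals of A with J finitely generated, J ≠ A, and I ⊆ J^n for all n ≥
1. Then every prime p not containing J which is maximal among the primes not containing J (a closed
point of Spec A ∖ V(J)) contains I. (The published statement leaves the hypothesis J ≠ A implicit;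
for J = A the assertion fails.) -/
theorem result (A : Type u) [CommRing A] [IsLocalRing A] (I J : Ideal A) (hJ : J.FG) (hJ1 : J ≠ ⊤)
    (hI : ∀ n : ℕ, 1 ≤ n → I ≤ J ^ n) (p : Ideal A) [p.IsPrime] (hp : ¬ J ≤ p)
    (hmax : ∀ (p' : Ideal A), p'.IsPrime → p ≤ p' → ¬ J ≤ p' → p' = p) : I ≤ p := by
  let B := A ⧸ p
  let f : A →+* B := Ideal.Quotient.mk p
  have hf : Function.Surjective f := Ideal.Quotient.mk_surjective
  haveI : IsLocalRing B := IsLocalRing.of_surjective' f hf
  let J' : Ideal B := J.map f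
  have hJ'bot : J' ≠ ⊥ := by
    intro h
    apply hp
    have : J ≤ RingHom.ker f := by
      rw [← Ideal.map_eq_bot_iff_le_ker]; exact h
    rwa [Ideal.mk_ker] at this
  have hJ'top : J' ≠ ⊤ := by
    intro h
    have h1 : (1 : B) ∈ J.map f := by rw [show J.map f = ⊤ from h]; trivial
    obtain ⟨j, hj, hj1⟩ := (Ideal.mem_map_iff_of_surjective f hf).mp h1
    have hjm : j ∈ IsLocalRing.maximalIdeal A := IsLocalRing.le_maximalIdeal hJ1 hj
    have hpm : p ≤ IsLocalRing.maximalIdeal A := IsLocalRing.le_maximalIdeal (Ideal.IsPrime.ne_top ‹_›)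
    have h2 : j - 1 ∈ p := by
      rw [← Ideal.Quotient.eq_zero_iff_mem, map_sub, map_one]
      exact sub_eq_zero.mpr hj1
    have h3 : (1 : A) ∈ IsLocalRing.maximalIdeal A := by
      have := (IsLocalRing.maximalIdeal A).sub_mem hjm (hpm h2)
      simpa using this
    exact (Ideal.ne_top_iff_one _).mp (IsLocalRing.maximalIdeal.isMaximal A).ne_top h3
  have hB : ¬ IsField B := by
    rw [Ring.not_isField_iff_exists_ideal_bot_lt_and_lt_top]
    exact ⟨J', bot_lt_iff_ne_bot.mpr hJ'bot, lt_top_iff_ne_top.mpr hJ'top⟩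
  let 𝒮 : Set (Ideal B) := {K | ∃ n : ℕ, 1 ≤ n ∧ K = J' ^ n}
  have hfgJ' : J'.FG := hJ.map f
  have key := Groth.Agent.S1206.result B hB 𝒮
    (by
      rintro K ⟨n, -, rfl⟩
      exact hfgJ'.pow)
    (by
      rintro K ⟨n, hn, rfl⟩ L ⟨m, hm, rfl⟩
      exact ⟨n + m, by omega, (pow_add _ _ _).symm⟩)
    (by
      rintro K ⟨n, -, rfl⟩
      rw [← Ideal.zero_eq_bot]
      exact pow_ne_zero n (by rwa [Ideal.zero_eq_bot]))
    (by
      intro q hq hq0
      refine ⟨J', ⟨1, le_rfl, (pow_one _).symm⟩, ?_⟩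
      rw [Ideal.map_le_iff_le_comap]
      by_contra hJq
      have hpq : p ≤ q.comap f := by
        intro x hx
        rw [Ideal.mem_comap]
        have : f x = 0 := Ideal.Quotient.eq_zero_iff_mem.mpr hx
        rw [this]; exact q.zero_mem
      have := hmax (q.comap f) (Ideal.IsPrime.comap f) hpq hJq
      apply hq0
      rw [eq_bot_iff]
      intro y hy
      obtain ⟨x, rfl⟩ := hf y
      have hx : x ∈ q.comap f := hy
      rw [this] at hx
      rw [Ideal.mem_bot]
      exact Ideal.Quotient.eq_zero_iff_mem.mpr hx)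
  intro x hx
  rw [← Ideal.Quotient.eq_zero_iff_mem]
  have : f x ∈ sInf 𝒮 := by
    rw [Submodule.mem_sInf]
    rintro K ⟨n, hn, rfl⟩
    rw [← Ideal.map_pow]
    exact Ideal.mem_map_of_mem f (hI n hn hx)
  rw [key] at this
  exact this

end Groth.Agent.S1207
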