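import Groth.Statements.S12071
-- import your own Groth.Agent.* helpers here
import Mathlib.Tactic
import Mathlib.GroupTheory.Archimedean
import Mathlib.Data.ZMod.Basic

set_option autoImplicit false
open RootD

namespace Groth.Agent.S12071

/-- the explicit cast `ℤ → ZMod 0` -/
def c (a : ℤ) : ZMod 0 := Int.cast a

theorem c_inj {a b : ℤ} (h : c a = c b) : a = b := by
  have := (ZMod.intCast_eq_intCast_iff a b 0).mp h
  rwa [Nat.cast_zero, Int.modEq_zero_iff] at this

theorem c_surj (i : ZMod 0) : ∃ j : ℤ, c j = i := ZMod.intCast_surjective i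

theorem c_zero : c 0 = 0 := Int.cast_zero
theorem c_one : c 1 = 1 := Int.cast_one
theorem c_add (a b : ℤ) : c (a + b) = c a + c b := Int.cast_add a b
theorem c_sub (a b : ℤ) : c (a - b) = c a - c b := Int.cast_sub a b
theorem c_neg (a : ℤ) : c (-a) = -c a := Int.cast_neg a
theorem c_mul (a b : ℤ) : c (a * b) = c a * c b := Int.cast_mul a b
theorem c_natCast (n : ℕ) : c (n : ℤ) = (n : ZMod 0) := Int.cast_natCast n
theorem c_intCast (k : ℤ) : c k = (k : ZMod 0) := rfl


/-- Let G be the group generated by two elements x, y subject to x² = y² = 1 (the infinite dihedral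
group; here Mathlib's DihedralGroup 0 with x = sr 0 and y = sr 1, so that x y = r 1). Then every
normal subgroup of G containing neither x nor y is generated by an element (x y)^n with n > 0; such
a subgroup is cyclic, generated by r n. (The published statement does not exclude the trivial
subgroup, for which no n > 0 works; this row assumes the subgroup nontrivial.) -/
theorem result (N : Subgroup (DihedralGroup 0)) [N.Normal]
    (hN : N ≠ ⊥) (hx : DihedralGroup.sr (0 : ZMod 0) ∉ N) (hy : DihedralGroup.sr (1 : ZMod 0) ∉ N) :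
    ∃ n : ℕ, 0 < n ∧ N = Subgroup.zpowers (DihedralGroup.r (n : ZMod 0)) := by
  -- no reflection lies in N
  have hsr : ∀ i : ZMod 0, DihedralGroup.sr i ∉ N := by
    intro i hi
    obtain ⟨j, rfl⟩ := c_surj i
    have hconj : ∀ l : ℤ, DihedralGroup.sr (c (j - l - l)) ∈ N := by
      intro l
      have := (inferInstance : N.Normal).conj_mem _ hi (DihedralGroup.r (c l))
      rw [DihedralGroup.inv_r, DihedralGroup.r_mul_sr, DihedralGroup.sr_mul_r,
        ← sub_eq_add_neg] at this
      rw [c_sub, c_sub]
      exact this
    have h := Int.emod_two_eq_zero_or_one j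
    have h2 := Int.mul_ediv_add_emod j 2
    rcases h with h | h
    · have h3 : j - j / 2 - j / 2 = 0 := by omega
      have := hconj (j / 2)
      rw [h3, c_zero] at this
      exact hx this
    · have h3 : j - j / 2 - j / 2 = 1 := by omega
      have := hconj (j / 2)
      rw [h3, c_one] at this
      exact hy this
  -- the subgroup of rotation indices
  let H : AddSubgroup ℤ :=
    { carrier := {i : ℤ | DihedralGroup.r (c i) ∈ N}
      zero_mem' := by
        show DihedralGroup.r (c 0) ∈ N
        rw [c_zero, DihedralGroup.r_zero]; exact N.one_mem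
      add_mem' := by
        intro a b ha hb
        show DihedralGroup.r (c (a + b)) ∈ N
        have := N.mul_mem ha hb
        rw [DihedralGroup.r_mul_r] at this
        rw [c_add]
        exact this
      neg_mem' := by
        intro a ha
        show DihedralGroup.r (c (-a)) ∈ N
        have := N.inv_mem ha
        rw [DihedralGroup.inv_r] at this
        rw [c_neg]
        exact this }
  have hHmem : ∀ i : ℤ, i ∈ H ↔ DihedralGroup.r (c i) ∈ N := fun i => Iff.rfl
  obtain ⟨a, ha⟩ := Int.subgroup_cyclic H
  have ha' : H = AddSubgroup.zmultiples (a.natAbs : ℤ) := by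
    rw [ha, ← AddSubgroup.zmultiples_eq_closure, Int.zmultiples_natAbs]
  -- a ≠ 0 since N ≠ ⊥
  have hane : a ≠ 0 := by
    rintro rfl
    apply hN
    rw [eq_bot_iff]
    intro g hg
    rw [Subgroup.mem_bot]
    cases g with
    | r i =>
      obtain ⟨j, rfl⟩ := c_surj i
      have hj : j ∈ H := hg
      rw [ha] at hj
      simp only [AddSubgroup.closure_singleton_zero] at hj
      have hj0 : j = 0 := hj
      rw [hj0, c_zero, DihedralGroup.r_zero]
    | sr i => exact absurd hg (hsr i)
  refine ⟨a.natAbs, Int.natAbs_pos.mpr hane, ?_⟩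
  ext g
  rw [Subgroup.mem_zpowers_iff]
  cases g with
  | r i =>
    obtain ⟨j, rfl⟩ := c_surj i
    rw [← hHmem, ha', AddSubgroup.mem_zmultiples_iff]
    constructor
    · rintro ⟨k, hk⟩
      refine ⟨k, ?_⟩
      have h0 : (Nat.cast a.natAbs : ZMod 0) * (@Int.cast (ZMod 0) _ k) = c ((a.natAbs : ℤ) * k) := by
        rw [c_mul, c_natCast]; rfl
      rw [DihedralGroup.r_zpow, h0, ← hk, smul_eq_mul, mul_comm]
    · rintro ⟨k, hk⟩
      refine ⟨k, ?_⟩
      rw [DihedralGroup.r_zpow] at hk
      have h1 := DihedralGroup.r.inj hk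
      have h0 : (Nat.cast a.natAbs : ZMod 0) * (@Int.cast (ZMod 0) _ k) = c ((a.natAbs : ℤ) * k) := by
        rw [c_mul, c_natCast]; rfl
      rw [h0] at h1
      rw [smul_eq_mul, mul_comm]
      exact c_inj h1
  | sr i =>
    constructor
    · intro h; exact absurd h (hsr i)
    · rintro ⟨k, hk⟩
      rw [DihedralGroup.r_zpow] at hk
      exact absurd hk (by simp)

end Groth.Agent.S12071
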