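import Groth.Statements.S12076
import Mathlib
-- import your own Groth.Agent.* helpers here

set_option autoImplicit false
open RootD

namespace Groth.Agent.S12076

/-- Let Δ be a system of simple roots (a base b of a root pairing P over ℤ) and Γ₀ the subgroup
generated by the roots. Then Γ₀ has a structure of totally ordered group for which the roots > 0 are
exactly the positive roots defined by Δ and for which the height (the additive function with value 1
on each simple root) is monotone. The order is given here by its positive cone C ⊆ Γ₀: 0 ∉ C, C + C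
⊆ C, and for every x ≠ 0 exactly one of x, −x lies in C (x < y meaning y − x ∈ C). -/
theorem result {ι M N : Type*} [AddCommGroup M] [AddCommGroup N]
    (P : RootPairing ι ℤ M N) [Finite ι] (b : P.Base) :
    ∃ C : Set ↥(Submodule.span ℤ (Set.range P.root)),
      0 ∉ C ∧ (∀ x ∈ C, ∀ y ∈ C, x + y ∈ C) ∧ (∀ x, x ≠ 0 → (x ∈ C ∨ -x ∈ C)) ∧ (∀ x ∈ C, -x ∉ C) ∧
      (∀ i : ι, (⟨P.root i, Submodule.subset_span (Set.mem_range_self i)⟩ : ↥(Submodule.span ℤ (Set.range P.root))) ∈ C ↔
        b.IsPos i) ∧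
      ∀ φ : ↥(Submodule.span ℤ (Set.range P.root)) →+ ℤ,
        (∀ j ∈ b.support, φ ⟨P.root j, Submodule.subset_span (Set.mem_range_self j)⟩ = 1) →
        ∀ x y : ↥(Submodule.span ℤ (Set.range P.root)), y - x ∈ C → φ x ≤ φ y := by
  classical
  obtain ⟨m, ⟨e0⟩⟩ : ∃ m : ℕ, Nonempty (b.support ≃ Fin m) := ⟨_, ⟨Fintype.equivFin _⟩⟩
  let B : Module.Basis b.support ℤ (P.rootSpan ℤ) := b.toWeightBasisInt
  have hB : ∀ j : b.support, B j = P.rootSpanMem ℤ j := fun j => Module.Basis.mk_apply _ _ j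
  let ht : (P.rootSpan ℤ) →ₗ[ℤ] ℤ := B.constr ℤ (fun _ => (1:ℤ))
  have hht : ∀ j : b.support, ht (P.rootSpanMem ℤ j) = 1 := by
    intro j
    rw [← hB j]
    exact B.constr_basis ℤ _ j
  let e : (P.rootSpan ℤ) ≃ₗ[ℤ] (Fin m → ℤ) := (B.reindex e0).equivFun
  let Φ : (P.rootSpan ℤ) → ℤ ×ₗ Lex (Fin m → ℤ) := fun x => toLex (ht x, toLex (e x))
  have hΦadd : ∀ x y, Φ (x + y) = Φ x + Φ y := by
    intro x y
    show toLex (ht (x + y), toLex (e (x + y))) = _
    rw [map_add, map_add]
    rfl
  have hΦzero : Φ 0 = 0 := by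
    show toLex (ht 0, toLex (e 0)) = _
    rw [map_zero, map_zero]
    rfl
  have hΦneg : ∀ x, Φ (-x) = -Φ x := by
    intro x
    show toLex (ht (-x), toLex (e (-x))) = _
    rw [map_neg, map_neg]
    rfl
  have hΦinj : ∀ x, Φ x = 0 → x = 0 := by
    intro x hx
    have h1 : e x = 0 := congrArg (fun z : ℤ ×ₗ Lex (Fin m → ℤ) => ofLex (ofLex z).2) hx
    exact e.map_eq_zero_iff.mp h1
  have hΦht : ∀ x, 0 < Φ x → 0 ≤ ht x := by
    intro x hx
    rcases Prod.Lex.lt_iff.mp hx with h | ⟨h, _⟩
    · exact le_of_lt h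
    · exact le_of_eq h
  have hΦht' : ∀ x, 0 < ht x → 0 < Φ x := by
    intro x hx
    exact Prod.Lex.lt_iff.mpr (Or.inl hx)
  have hheight : ∀ i : ι, ht (P.rootSpanMem ℤ i) = b.height i := by
    intro i
    obtain ⟨f, -, -, hf⟩ := b.exists_root_eq_sum_int i
    rw [RootPairing.Base.height_eq_sum hf]
    have h1 : P.rootSpanMem ℤ i = ∑ j ∈ b.support.attach, f j • P.rootSpanMem ℤ (j : ι) := by
      apply Subtype.ext
      rw [Submodule.coe_sum]
      exact hf.trans (Finset.sum_attach b.support (fun j => f j • P.root j)).symm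
    rw [h1, map_sum]
    simp only [map_smul, hht, smul_eq_mul, mul_one]
    exact Finset.sum_attach b.support (fun j => f j)
  refine ⟨{x | 0 < Φ x}, ?_, ?_, ?_, ?_, ?_, ?_⟩
  · show ¬ (0 < Φ 0)
    rw [hΦzero]
    exact lt_irrefl _
  · intro x hx y hy
    show 0 < Φ (x + y)
    rw [hΦadd]
    exact add_pos hx hy
  · intro x hx
    have hne : Φ x ≠ 0 := fun h => hx (hΦinj x h)
    rcases lt_or_gt_of_ne hne with h | h
    · right
      show 0 < Φ (-x)
      rw [hΦneg]
      exact neg_pos.mpr h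
    · left
      exact h
  · intro x hx hnx
    have h1 : 0 < Φ (-x) := hnx
    rw [hΦneg] at h1
    exact lt_asymm hx (neg_pos.mp h1)
  · intro i
    show 0 < Φ (P.rootSpanMem ℤ i) ↔ b.IsPos i
    rw [RootPairing.Base.isPos_iff]
    constructor
    · intro h
      have h1 := hΦht _ h
      rw [hheight] at h1
      exact lt_of_le_of_ne h1 (b.height_ne_zero i).symm
    · intro h
      apply hΦht'
      rw [hheight]
      exact h
  · intro φ hφ x y hxy
    have hφeq : ∀ z, φ z = ht z := by
      intro z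
      have h0 : φ.toIntLinearMap = ht := by
        apply B.ext
        intro j
        rw [hB j, hht j]
        exact hφ j j.2
      exact LinearMap.congr_fun h0 z
    have h1 : 0 ≤ ht (y - x) := hΦht _ hxy
    rw [map_sub] at h1
    rw [hφeq, hφeq]
    linarith

end Groth.Agent.S12076
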