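import Groth.Statements.S12077
import Mathlib

set_option autoImplicit false
universe u
open Polynomial
open CAlg


namespace Groth.Agent.S12077
open Polynomial

theorem of_injective_of_monic {A : Type u} [CommRing A] (f : A[X]) (hf : f.Monic)
    (hd : f.natDegree ≠ 0) : Function.Injective (AdjoinRoot.of f) := by
  rw [injective_iff_map_eq_zero]
  intro a ha
  have h1 : f ∣ C a := by
    rwa [← AdjoinRoot.mk_C, AdjoinRoot.mk_eq_zero] at ha
  obtain ⟨q, hq⟩ := h1
  by_cases hq0 : q = 0
  · rw [hq0, mul_zero] at hq
    exact C_eq_zero.mp hq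
  · exfalso
    have h2 : (f * q).natDegree = f.natDegree + q.natDegree := hf.natDegree_mul' hq0
    rw [← hq, natDegree_C] at h2
    omega

/-- a monic polynomial splits in some injective extension. -/
theorem split1 : ∀ (n : ℕ) (A : Type u) [CommRing A] (f : A[X]), f.Monic → f.natDegree = n →
    ∃ (B : Type u) (_ : CommRing B) (φ : A →+* B), Function.Injective φ ∧
      ∃ r : Fin n → B, f.map φ = ∏ i, (X - C (r i)) := by
  intro n
  induction n with
  | zero =>
    intro A _ f hf hn
    refine ⟨A, inferInstance, RingHom.id A, Function.injective_id, Fin.elim0, ?_⟩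
    rw [Polynomial.map_id, Fin.prod_univ_zero]
    exact eq_one_of_monic_natDegree_zero hf hn
  | succ n ih =>
    intro A _ f hf hn
    have hd : f.natDegree ≠ 0 := by omega
    have hinj := of_injective_of_monic f hf hd
    haveI : Nontrivial A := by
      by_contra h
      rw [not_nontrivial_iff_subsingleton] at h
      exact hd (by rw [Subsingleton.elim f 0, natDegree_zero])
    haveI : Nontrivial (AdjoinRoot f) := hinj.nontrivial
    have hroot : (f.map (AdjoinRoot.of f)).IsRoot (AdjoinRoot.root f) := by
      rw [IsRoot, eval_map]; exact AdjoinRoot.eval₂_root f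
    have hfac := mul_divByMonic_eq_iff_isRoot.mpr hroot
    set g := f.map (AdjoinRoot.of f) /ₘ (X - C (AdjoinRoot.root f)) with hg
    have hfm : (f.map (AdjoinRoot.of f)).Monic := hf.map _
    have hgm : g.Monic := by
      have : ((X - C (AdjoinRoot.root f)) * g).Monic := by rw [hfac]; exact hfm
      exact (monic_X_sub_C _).of_mul_monic_left this
    have hgd : g.natDegree = n := by
      have h1 : (f.map (AdjoinRoot.of f)).natDegree = n + 1 := by
        rw [hf.natDegree_map, hn]
      rw [← hfac, (monic_X_sub_C _).natDegree_mul hgm, natDegree_X_sub_C] at h1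
      omega
    obtain ⟨B, _, ψ, hψ, r, hr⟩ := ih (AdjoinRoot f) g hgm hgd
    refine ⟨B, inferInstance, ψ.comp (AdjoinRoot.of f), hψ.comp hinj,
      Fin.cons (ψ (AdjoinRoot.root f)) r, ?_⟩
    rw [Fin.prod_univ_succ, ← Polynomial.map_map, ← hfac, Polynomial.map_mul, hr]
    simp

/-- finitely many monic polynomials split in some injective extension. -/
theorem splitFin {A : Type u} [CommRing A] (S : Finset {f : A[X] // f.Monic}) :
    ∃ (B : Type u) (_ : CommRing B) (φ : A →+* B), Function.Injective φ ∧
      ∀ f ∈ S, ∃ r : Fin f.1.natDegree → B, f.1.map φ = ∏ i, (X - C (r i)) := by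
  classical
  rcases subsingleton_or_nontrivial A with hA | hA
  · refine ⟨A, inferInstance, RingHom.id A, Function.injective_id, fun f _ => ⟨fun _ => 0, ?_⟩⟩
    exact Subsingleton.elim _ _
  induction S using Finset.induction_on with
  | empty => exact ⟨A, inferInstance, RingHom.id A, Function.injective_id, by simp⟩
  | insert f S _ ih =>
    obtain ⟨B, _, φ, hφ, hS⟩ := ih
    haveI : Nontrivial B := hφ.nontrivial
    obtain ⟨B', _, ψ, hψ, r, hr⟩ := split1 f.1.natDegree B (f.1.map φ) (f.2.map φ)
      (f.2.natDegree_map φ)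
    refine ⟨B', inferInstance, ψ.comp φ, hψ.comp hφ, ?_⟩
    intro g hg
    rcases Finset.mem_insert.mp hg with rfl | hg
    · exact ⟨r, by rw [← Polynomial.map_map, hr]⟩
    · obtain ⟨r', hr'⟩ := hS g hg
      refine ⟨fun i => ψ (r' i), ?_⟩
      rw [← Polynomial.map_map, hr', Polynomial.map_prod]
      simp

section Step
variable (A : Type u) [CommRing A]

/-- monic polynomials -/
abbrev Monics : Type u := {f : A[X] // f.Monic}

/-- variables: one for each root of each monic polynomial -/
abbrev Vars : Type u := Σ f : Monics A, Fin f.1.natDegree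

/-- `f - ∏ (X - x_{f,i})` -/
noncomputable def subProd (f : Monics A) : (MvPolynomial (Vars A) A)[X] :=
  f.1.map (algebraMap A (MvPolynomial (Vars A) A)) -
    ∏ i : Fin f.1.natDegree, (X - C (MvPolynomial.X (⟨f, i⟩ : Vars A)))

/-- ideal of relations -/
noncomputable def spanCoeffs : Ideal (MvPolynomial (Vars A) A) :=
  Ideal.span (Set.range fun fn : Monics A × ℕ => (subProd A fn.1).coeff fn.2)

/-- one step: adjoin universal roots of all monic polynomials -/
abbrev Step : Type u := MvPolynomial (Vars A) A ⧸ spanCoeffs A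

/-- the structure map -/
noncomputable def toStep : A →+* Step A :=
  (Ideal.Quotient.mk (spanCoeffs A)).comp (algebraMap A (MvPolynomial (Vars A) A))

theorem toStep_injective : Function.Injective (toStep A) := by
  rw [injective_iff_map_eq_zero]
  intro a ha
  have h1 : algebraMap A (MvPolynomial (Vars A) A) a ∈ spanCoeffs A :=
    Ideal.Quotient.eq_zero_iff_mem.mp ha
  rw [spanCoeffs, Ideal.span, ← Set.image_univ, Finsupp.mem_span_image_iff_linearCombination] at h1
  obtain ⟨v, _, hv⟩ := h1
  classical
  obtain ⟨B, _, φ, hφ, hS⟩ := splitFin (A := A) (v.support.image Prod.fst)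
  choose! r hr using hS
  let ev : MvPolynomial (Vars A) A →+* B := MvPolynomial.eval₂Hom φ (fun x => r x.1 x.2)
  have hevφ : ev.comp (algebraMap A (MvPolynomial (Vars A) A)) = φ := by
    ext x; simp [ev, MvPolynomial.algebraMap_eq]
  have hev : ∀ f ∈ v.support.image Prod.fst, ∀ n, ev ((subProd A f).coeff n) = 0 := by
    intro f hf n
    rw [← Polynomial.coeff_map, subProd, Polynomial.map_sub, Polynomial.map_map,
      Polynomial.map_prod, hevφ, hr f hf]
    simp only [Polynomial.map_sub, Polynomial.map_X, Polynomial.map_C, ev,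
      MvPolynomial.coe_eval₂Hom, MvPolynomial.eval₂_X, sub_self, Polynomial.coeff_zero]
  have h2 := congrArg ev hv
  rw [Finsupp.linearCombination_apply, Finsupp.sum, map_sum, Finset.sum_eq_zero] at h2
  · have h3 : ev (algebraMap A (MvPolynomial (Vars A) A) a) = φ a := by
      rw [← hevφ]; rfl
    exact hφ (by rw [← h3, ← h2, map_zero])
  · intro j hj
    rw [smul_eq_mul, map_mul, hev j.1 (Finset.mem_image_of_mem _ hj), mul_zero]

theorem toStep_splits (f : A[X]) (hf : f.Monic) :
    ∃ r : Fin f.natDegree → Step A, f.map (toStep A) = ∏ i, (X - C (r i)) := by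
  refine ⟨fun i => Ideal.Quotient.mk _ (MvPolynomial.X (⟨⟨f, hf⟩, i⟩ : Vars A)), ?_⟩
  have h1 : ∏ i : Fin f.natDegree, (X - C (Ideal.Quotient.mk (spanCoeffs A)
        (MvPolynomial.X (⟨⟨f, hf⟩, i⟩ : Vars A)))) =
      Polynomial.map (Ideal.Quotient.mk (spanCoeffs A))
        (∏ i : Fin f.natDegree, (X - C (MvPolynomial.X (⟨⟨f, hf⟩, i⟩ : Vars A)) :
          (MvPolynomial (Vars A) A)[X])) := by
    rw [Polynomial.map_prod]
    refine Finset.prod_congr rfl fun i _ => ?_
    rw [Polynomial.map_sub, Polynomial.map_X, Polynomial.map_C]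
  ext n
  rw [h1, toStep, ← Polynomial.map_map, ← sub_eq_zero, ← coeff_sub, ← Polynomial.map_sub,
    coeff_map, Ideal.Quotient.eq_zero_iff_mem]
  exact Ideal.subset_span ⟨⟨⟨f, hf⟩, n⟩, rfl⟩

end Step

section Tower
variable (A : Type u) [CommRing A]
open CategoryTheory

/-- the tower of rings -/
noncomputable def T : ℕ → CommRingCat.{u}
  | 0 => CommRingCat.of A
  | n + 1 => CommRingCat.of (Step (T n))

/-- transition maps -/
noncomputable def Tf (n : ℕ) : T A n ⟶ T A (n + 1) := CommRingCat.ofHom (toStep (T A n))

/-- the functor -/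
noncomputable def F : ℕ ⥤ CommRingCat.{u} := Functor.ofSequence (Tf A)

/-- underlying types -/
abbrev G (n : ℕ) : Type u := (F A).obj n

/-- transition ring homs -/
noncomputable def g (i j : ℕ) (h : i ≤ j) : G A i →+* G A j := ((F A).map (homOfLE h)).hom

theorem g_self (i : ℕ) (x : G A i) : g A i i le_rfl x = x := by
  simp [g]

theorem g_comp (i j k : ℕ) (hij : i ≤ j) (hjk : j ≤ k) (x : G A i) :
    g A j k hjk (g A i j hij x) = g A i k (hij.trans hjk) x := by
  have : homOfLE (hij.trans hjk) = homOfLE hij ≫ homOfLE hjk := rfl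
  simp only [g, this, Functor.map_comp, CommRingCat.hom_comp, RingHom.comp_apply]

instance : DirectedSystem (G A) (fun i j h => g A i j h) where
  map_self i x := g_self A i x
  map_map _ _ _ hij hjk x := g_comp A _ _ _ hij hjk x

theorem g_succ (n : ℕ) : g A n (n + 1) (Nat.le_succ n) = (Tf A n).hom := by
  have := Functor.ofSequence_map_homOfLE_succ (Tf A) n
  simp only [g, F]
  rw [← this]
  rfl

theorem g_succ_injective (n : ℕ) : Function.Injective (g A n (n + 1) (Nat.le_succ n)) := by
  rw [g_succ]
  exact toStep_injective (T A n)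

theorem g_injective (i j : ℕ) (h : i ≤ j) : Function.Injective (g A i j h) := by
  induction j, h using Nat.le_induction with
  | base => intro x y hxy; simpa [g_self] using hxy
  | succ j hij ih =>
    intro x y hxy
    rw [← g_comp A i j (j + 1) hij (Nat.le_succ j) x, ← g_comp A i j (j + 1) hij (Nat.le_succ j) y]
      at hxy
    exact ih (g_succ_injective A j hxy)

/-- the direct limit -/
abbrev DL : Type u := Ring.DirectLimit (G A) (fun i j h => g A i j h)

/-- maps to the limit -/
noncomputable abbrev ofDL (n : ℕ) : G A n →+* DL A :=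
  Ring.DirectLimit.of (G A) (fun i j h => g A i j h) n

theorem ofDL_injective (n : ℕ) : Function.Injective (ofDL A n) :=
  Ring.DirectLimit.of_injective _ (g_injective A) n

theorem splits_succ (n : ℕ) (q : (G A n)[X]) (hq : q.Monic) :
    ∃ r : Fin q.natDegree → G A (n + 1),
      q.map (g A n (n + 1) (Nat.le_succ n)) = ∏ i, (X - C (r i)) := by
  rw [g_succ]
  exact toStep_splits (T A n) q hq

theorem splits_DL (p : (DL A)[X]) (hp : p.Monic) :
    ∃ s : Multiset (DL A), p = (s.map fun b => X - C b).prod := by
  obtain ⟨n, q, hq⟩ := Ring.DirectLimit.Polynomial.exists_of (G := G A)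
    (f' := fun i j h => g A i j h) (p - X ^ p.natDegree)
  let q' : (G A n)[X] := X ^ p.natDegree + ∑ i ∈ Finset.range p.natDegree, C (q.coeff i) * X ^ i
  have hq'm : q'.Monic := by
    refine monic_X_pow_add ?_
    refine (degree_sum_le _ _).trans_lt ((Finset.sup_lt_iff (WithBot.bot_lt_coe _)).mpr ?_)
    intro i hi
    exact (degree_C_mul_X_pow_le i _).trans_lt (by exact_mod_cast Finset.mem_range.mp hi)
  have hq' : q'.map (ofDL A n) = p := by
    conv_rhs => rw [hp.as_sum]
    simp only [q', Polynomial.map_add, Polynomial.map_pow, Polynomial.map_X, Polynomial.map_sum,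
      Polynomial.map_mul, Polynomial.map_C]
    congr 1
    refine Finset.sum_congr rfl fun i hi => ?_
    have h1 : ofDL A n (q.coeff i) = (p - X ^ p.natDegree).coeff i := by
      rw [← hq, coeff_map]
    rw [h1, coeff_sub, coeff_X_pow, if_neg (Finset.mem_range.mp hi).ne, sub_zero]
  obtain ⟨r, hr⟩ := splits_succ A n q' hq'm
  refine ⟨Finset.univ.val.map fun i => ofDL A (n + 1) (r i), ?_⟩
  have h2 : p = (q'.map (g A n (n + 1) (Nat.le_succ n))).map (ofDL A (n + 1)) := by
    rw [Polynomial.map_map, ← hq']
    congr 1
    ext x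
    simp [ofDL]
  rw [h2, hr, Polynomial.map_prod, Multiset.map_map]
  simp only [Polynomial.map_sub, Polynomial.map_X, Polynomial.map_C]
  rfl

end Tower

end Groth.Agent.S12077

namespace Groth.Agent.S12077

/-- Every commutative ring `A` admits an injective ring map into an absolutely integrally closed
commutative ring `B`, that is, one over which every monic polynomial is a product of linear factors
`X - b`. (Only the existence of such an extension is stated, not the finer structure of the
construction.) -/
theorem result (A : Type u) [CommRing A] :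
    ∃ (B : Type u) (_ : CommRing B) (_ : Algebra A B), Function.Injective (algebraMap A B) ∧
      ∀ f : B[X], f.Monic → ∃ s : Multiset B, f = (s.map fun b => X - C b).prod := by
  refine ⟨DL A, inferInstance, (ofDL A 0).toAlgebra, ?_, ?_⟩
  · exact ofDL_injective A 0
  · intro f hf
    exact splits_DL A f hf

end Groth.Agent.S12077
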