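import Groth.Statements.S12079
import Mathlib

set_option autoImplicit false
universe u
open TensorProduct
open CAlg

namespace Groth.Agent.S12079

open TensorProduct in
theorem nat_sq {R : Type u} [CommRing R] {M M' N L : Type u} [AddCommGroup M] [Module R M]
    [AddCommGroup M'] [Module R M'] [AddCommGroup N] [Module R N] [AddCommGroup L] [Module R L]
    (f : M' →ₗ[R] M) (x : (M →ₗ[R] N) ⊗[R] L) :
    TensorProduct.rTensorHomToHomRTensor (RingHom.id R) M' N L
        ((LinearMap.lcomp R N f).rTensor L x) =
      LinearMap.lcomp R (N ⊗[R] L) f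
        (TensorProduct.rTensorHomToHomRTensor (RingHom.id R) M N L x) := by
  induction x using TensorProduct.induction_on with
  | zero => simp
  | tmul h l =>
    apply LinearMap.ext
    intro p
    simp [TensorProduct.rTensorHomToHomRTensor_apply]
  | add x y hx hy => simp only [map_add, hx, hy]

open TensorProduct in
theorem free_bij {R : Type u} [CommRing R] (k : ℕ) (N L : Type u)
    [AddCommGroup N] [Module R N] [AddCommGroup L] [Module R L] :
    Function.Bijective (TensorProduct.rTensorHomToHomRTensor (RingHom.id R) (Fin k → R) N L) := by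
  have h := (rTensorHomEquivHomRTensor R (Fin k → R) N L).bijective
  have e : ⇑(rTensorHomEquivHomRTensor R (Fin k → R) N L) =
      ⇑(TensorProduct.rTensorHomToHomRTensor (RingHom.id R) (Fin k → R) N L) := by
    funext x
    exact rTensorHomEquivHomRTensor_apply x
  rwa [e] at h

/-- For a finitely presented `R`-module `M`, any `R`-module `N` and a flat `R`-module `L`, the canonical
map `Hom_R(M, N) ⊗_R L → Hom_R(M, N ⊗_R L)` sending `f ⊗ l` to `m ↦ f m ⊗ l` is bijective. -/
theorem result (R : Type u) [CommRing R]
    (M N L : Type u) [AddCommGroup M] [Module R M] [AddCommGroup N] [Module R N] [AddCommGroup L] [Module R L]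
    [Module.FinitePresentation R M] [Module.Flat R L] :
    Function.Bijective (TensorProduct.rTensorHomToHomRTensor (RingHom.id R) M N L) := by
  obtain ⟨n, m, f, g, hf, hfg⟩ := Module.FinitePresentation.exists_fin' R M
  have hbinj : ∀ (X : Type u) [AddCommGroup X] [Module R X],
      Function.Injective (LinearMap.lcomp R X f) :=
    fun X _ _ => LinearMap.lcomp_injective_of_surjective f hf
  have hex : Function.Exact (LinearMap.lcomp R N f) (LinearMap.lcomp R N g) :=
    LinearMap.exact_lcomp_of_exact_of_surjective N hfg hf
  have hexL := Module.Flat.rTensor_exact L hex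
  have hinjL : Function.Injective ((LinearMap.lcomp R N f).rTensor L) :=
    Module.Flat.rTensor_preserves_injective_linearMap _ (hbinj N)
  have hΦF := free_bij (R := R) n N L
  have hΦF' := free_bij (R := R) m N L
  constructor
  · rw [injective_iff_map_eq_zero]
    intro x hx
    have h1 := nat_sq (N := N) (L := L) f x
    rw [hx, map_zero] at h1
    have h2 : (LinearMap.lcomp R N f).rTensor L x = 0 := by
      apply hΦF.1
      rw [h1, map_zero]
    apply hinjL
    rw [h2, map_zero]
  · intro y
    obtain ⟨w, hw⟩ := hΦF.2 (LinearMap.lcomp R (N ⊗[R] L) f y)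
    have h1 := nat_sq (N := N) (L := L) g w
    rw [hw] at h1
    have h2 : LinearMap.lcomp R (N ⊗[R] L) g (LinearMap.lcomp R (N ⊗[R] L) f y) = 0 := by
      apply LinearMap.ext
      intro p
      simp only [LinearMap.lcomp_apply, LinearMap.zero_apply]
      rw [hfg.apply_apply_eq_zero, map_zero]
    rw [h2] at h1
    have h3 : (LinearMap.lcomp R N g).rTensor L w = 0 := by
      apply hΦF'.1
      rw [h1, map_zero]
    obtain ⟨x, hx⟩ := (hexL w).mp h3
    refine ⟨x, ?_⟩
    apply hbinj (N ⊗[R] L)
    rw [← nat_sq, hx, hw]

end Groth.Agent.S12079
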