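import Groth.Statements.S12080
import Mathlib

set_option autoImplicit false
universe u
open TensorProduct
open CAlg

namespace Groth.Agent.S12080

open TensorProduct

section
variable {R : Type u} [CommRing R] {M : Type u} [AddCommGroup M] [Module R M]

/-- an element killed by a power of each member of a spanning set vanishes -/
theorem eq_zero_of_forall_pow_mul (s : Set R) (hs : Ideal.span s = ⊤) (a : R)
    (h : ∀ f ∈ s, ∃ m : Submonoid.powers f, (m : R) * a = 0) : a = 0 := by
  let J : Ideal R := Ideal.span {a} |>.annihilator
  by_contra ha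
  have hJ : ∀ r, r ∈ (Ideal.span {a} : Ideal R).annihilator ↔ r * a = 0 := by
    intro r
    rw [Submodule.mem_annihilator_span_singleton]
    rfl
  have hne : (Ideal.span {a} : Ideal R).annihilator ≠ ⊤ := by
    intro htop
    have : (1 : R) ∈ (Ideal.span {a} : Ideal R).annihilator := by rw [htop]; exact Submodule.mem_top
    rw [hJ, one_mul] at this
    exact ha this
  obtain ⟨m, hm, hle⟩ := Ideal.exists_le_maximal _ hne
  have hsm : ¬ (s ⊆ m) := by
    intro hsub
    have : Ideal.span s ≤ m := Ideal.span_le.mpr hsub
    rw [hs, top_le_iff] at this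
    exact hm.ne_top this
  obtain ⟨f, hfs, hfm⟩ := Set.not_subset.mp hsm
  obtain ⟨⟨_, k, rfl⟩, hk⟩ := h f hfs
  have : f ^ k ∈ m := hle ((hJ _).mpr hk)
  exact hfm (hm.isPrime.mem_of_pow_mem k this)

/-- the localized functional -/
noncomputable def loc (f : R) (φ : M →ₗ[R] R) :
    LocalizedModule.Away f M →ₗ[Localization.Away f] Localization.Away f :=
  LinearMap.extendScalarsOfIsLocalization (Submonoid.powers f) (Localization.Away f)
    (IsLocalizedModule.map (Submonoid.powers f) (LocalizedModule.mkLinearMap (Submonoid.powers f) M)
      (Algebra.linearMap R (Localization.Away f)) φ)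

theorem loc_apply (f : R) (φ : M →ₗ[R] R) (x : M) :
    loc f φ (LocalizedModule.mkLinearMap (Submonoid.powers f) M x) =
      algebraMap R (Localization.Away f) (φ x) := by
  change (IsLocalizedModule.map (Submonoid.powers f) (LocalizedModule.mkLinearMap (Submonoid.powers f) M)
      (Algebra.linearMap R (Localization.Away f)) φ) _ = _
  rw [IsLocalizedModule.map_apply]
  rfl

/-- rank one: two functionals on a module isomorphic to the ring are proportional -/
theorem local_rank_one {A : Type*} [CommRing A] {N : Type*} [AddCommGroup N] [Module A N]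
    (θ : N ≃ₗ[A] A) (α β : N →ₗ[A] A) (u v : N) : α u * β v = α v * β u := by
  have hu : u = θ u • θ.symm 1 := by
    rw [← map_smul, smul_eq_mul, mul_one, LinearEquiv.symm_apply_apply]
  have hv : v = θ v • θ.symm 1 := by
    rw [← map_smul, smul_eq_mul, mul_one, LinearEquiv.symm_apply_apply]
  rw [hu, hv]
  simp only [map_smul, smul_eq_mul]
  ring

end

end Groth.Agent.S12080

namespace Groth.Agent.S12080

/-- (1) ⇒ (2): let `M` be a finite locally free `R`-module of rank `1`, i.e. there is a set `s ⊆ R`
generating the unit ideal with `M_f ≅ R_f` as `R_f`-modules for every `f ∈ s`. Then the evaluation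
map `Hom_R(M, R) ⊗_R M → R` is bijective, so `M` is invertible with inverse its dual. -/
theorem result (R : Type u) [CommRing R] (M : Type u) [AddCommGroup M]
    [Module R M] (s : Set R) (hs : Ideal.span s = ⊤)
    (hfree : ∀ f ∈ s, Nonempty (LocalizedModule.Away f M ≃ₗ[Localization.Away f] Localization.Away f)) :
    Module.Invertible R M := by
  classical
  -- `M` is finitely presented and flat, hence finite projective
  have hfp : Module.FinitePresentation R M := by
    refine Module.FinitePresentation.of_localizationSpan s hs fun g => ?_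
    obtain ⟨θ⟩ := hfree g.1 g.2
    exact Module.FinitePresentation.of_equiv θ.symm
  have hflat : Module.Flat R M := by
    refine Module.flat_of_localized_span R M s hs fun g => ?_
    obtain ⟨θ⟩ := hfree g.1 g.2
    have : Module.Flat R (Localization.Away g.1) := IsLocalization.flat _ (Submonoid.powers g.1)
    exact Module.Flat.of_linearEquiv (θ.restrictScalars R)
  have hproj : Module.Projective R M := Module.Flat.projective_of_finitePresentation
  obtain ⟨n, p, g, -, -, hpg⟩ := Module.Finite.exists_comp_eq_id_of_projective R M
  -- dual basis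
  let m : Fin n → M := fun i => p (Pi.single i 1)
  let φ : Fin n → (M →ₗ[R] R) := fun i => (LinearMap.proj i) ∘ₗ g
  have hdual : ∀ x : M, x = ∑ i, φ i x • m i := by
    intro x
    have h1 : x = p (g x) := (LinearMap.congr_fun hpg x).symm
    conv_lhs => rw [h1, pi_eq_sum_univ' (g x)]
    rw [map_sum]
    refine Finset.sum_congr rfl fun i _ => ?_
    rw [map_smul]
    rfl
  -- rank one identity
  have hrk : ∀ (α β : M →ₗ[R] R) (x y : M), α x * β y = α y * β x := by
    intro α β x y
    rw [← sub_eq_zero]
    apply eq_zero_of_forall_pow_mul s hs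
    intro f hf
    obtain ⟨θ⟩ := hfree f hf
    rw [← IsLocalization.map_eq_zero_iff (Submonoid.powers f) (Localization.Away f), map_sub, map_mul, map_mul,
      ← loc_apply, ← loc_apply, ← loc_apply, ← loc_apply, sub_eq_zero]
    exact local_rank_one θ _ _ _ _
  -- trace of the identity is one
  have htr : ∑ i, φ i (m i) = 1 := by
    rw [← sub_eq_zero]
    apply eq_zero_of_forall_pow_mul s hs
    intro f hf
    obtain ⟨θ⟩ := hfree f hf
    rw [← IsLocalization.map_eq_zero_iff (Submonoid.powers f) (Localization.Away f), map_sub, map_sum, map_one,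
      sub_eq_zero]
    set ι := LocalizedModule.mkLinearMap (Submonoid.powers f) M with hι
    -- localized dual basis relation
    have hdualf : ∀ u : LocalizedModule.Away f M, u = ∑ i, loc f (φ i) u • ι (m i) := by
      intro u
      obtain ⟨⟨m₀, t⟩, ht⟩ := IsLocalizedModule.surj (Submonoid.powers f) ι u
      simp only at ht
      have h1 : t • u = t • ∑ i, loc f (φ i) u • ι (m i) := by
        rw [ht, Finset.smul_sum]
        conv_lhs => rw [hdual m₀, map_sum]
        refine Finset.sum_congr rfl fun i _ => ?_
        have h5 : algebraMap R (Localization.Away f) (φ i m₀) = (t : R) • loc f (φ i) u := by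
          rw [← loc_apply, ← hι, ← ht, Submonoid.smul_def, LinearMap.map_smul_of_tower]
        rw [map_smul, ← algebraMap_smul (Localization.Away f) (φ i m₀) (ι (m i)), h5, smul_assoc]
        rfl
      exact IsLocalizedModule.smul_injective ι t h1
    set w := θ.symm 1 with hw
    have h2 := congrArg θ (hdualf w)
    rw [hw, LinearEquiv.apply_symm_apply, map_sum] at h2
    rw [h2]
    refine Finset.sum_congr rfl fun i _ => ?_
    rw [map_smul, smul_eq_mul, ← loc_apply]
    -- `loc (φ i) (ι (m i)) = θ (ι (m i)) * loc (φ i) w`
    have h3 : ι (m i) = θ (ι (m i)) • θ.symm 1 := by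
      rw [← map_smul, smul_eq_mul, mul_one, LinearEquiv.symm_apply_apply]
    conv_lhs => rw [h3, map_smul, smul_eq_mul]
    rw [mul_comm]
  -- the key identity
  have hkey : ∀ ξ : Module.Dual R M ⊗[R] M,
      ξ = contractLeft R M ξ • ∑ i, (φ i) ⊗ₜ[R] (m i) := by
    intro ξ
    induction ξ using TensorProduct.induction_on with
    | zero => simp
    | add a b ha hb => rw [map_add, add_smul, ← ha, ← hb]
    | tmul ψ x =>
      rw [contractLeft_apply, Finset.smul_sum]
      conv_lhs => rw [hdual x, TensorProduct.tmul_sum]
      refine Finset.sum_congr rfl fun i _ => ?_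
      rw [TensorProduct.tmul_smul, TensorProduct.smul_tmul', TensorProduct.smul_tmul']
      congr 1
      ext y
      simp only [LinearMap.smul_apply, smul_eq_mul]
      rw [hrk (φ i) ψ x y, mul_comm]
  constructor
  constructor
  · rw [injective_iff_map_eq_zero]
    intro ξ hξ
    rw [hkey ξ, hξ, zero_smul]
  · intro r
    refine ⟨r • ∑ i, (φ i) ⊗ₜ[R] (m i), ?_⟩
    rw [map_smul, map_sum]
    simp only [contractLeft_apply]
    rw [htr, smul_eq_mul, mul_one]

end Groth.Agent.S12080
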