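import Groth.Statements.S12081
-- import your own Groth.Agent.* helpers here

set_option autoImplicit false
universe u
open TensorProduct
open EtAlg

namespace Groth.Agent.S12081

/-- Let `B' = B ×_A A'` be a fibre square of rings with `A' → A` surjective with kernel `I`, let `J =
Ker(B' → B)`, let `D'` be a `B'`-algebra and `C' = D' ⊗_{B'} A'`. Then the ideal `I C'` is, as a
subset of `C'`, the image of the ideal `J D'` under `D' → C'`; that is, the map `J D' → I C'` is
surjective. -/
theorem result (B' B A' A : Type u) [CommRing B'] [CommRing B] [CommRing A'] [CommRing A]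
    [Algebra B' B] [Algebra B' A'] [Algebra B A] [Algebra A' A] [Algebra B' A] [IsScalarTower B' B A] [IsScalarTower B' A' A]
    (hsq : EtMil.IsFibreSquare B' B A' A)
    (D' C' : Type u) [CommRing D'] [CommRing C'] [Algebra B' D'] [Algebra A' C']
    [Algebra D' C'] [Algebra B' C'] [IsScalarTower B' A' C'] [IsScalarTower B' D' C'] [Algebra.IsPushout B' A' D' C'] :
    (algebraMap D' C') '' ((RingHom.ker (algebraMap B' B)).map (algebraMap B' D') : Set D') =
      ((RingHom.ker (algebraMap A' A)).map (algebraMap A' C') : Set C') := by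
  have hpo : IsBaseChange A' (IsScalarTower.toAlgHom B' D' C').toLinearMap := Algebra.IsPushout.out
  set I := RingHom.ker (algebraMap A' A) with hI
  set J := RingHom.ker (algebraMap B' B) with hJ
  -- compatibility of the algebra maps
  have hBA'C' : ∀ b' : B', algebraMap A' C' (algebraMap B' A' b') = algebraMap D' C' (algebraMap B' D' b') := by
    intro b'
    rw [← IsScalarTower.algebraMap_apply B' A' C', ← IsScalarTower.algebraMap_apply B' D' C']
  -- J maps into I
  have hJI : ∀ j ∈ J, algebraMap B' A' j ∈ I := by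
    intro j hj
    rw [hI, RingHom.mem_ker, ← IsScalarTower.algebraMap_apply B' A' A,
      IsScalarTower.algebraMap_apply B' B A, (RingHom.mem_ker).1 hj, map_zero]
  -- every element of I lifts to J
  have hlift : ∀ i ∈ I, ∃ j ∈ J, algebraMap B' A' j = i := by
    intro i hi
    obtain ⟨b', ⟨hb1, hb2⟩, -⟩ := hsq.2 0 i (by rw [map_zero, (RingHom.mem_ker).1 hi])
    exact ⟨b', (RingHom.mem_ker).2 hb1, hb2⟩
  -- the image set
  set T : Set C' := (algebraMap D' C') '' ((J.map (algebraMap B' D') : Ideal D') : Set D') with hT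
  have hT0 : (0 : C') ∈ T := ⟨0, Ideal.zero_mem _, map_zero _⟩
  have hTadd : ∀ x y, x ∈ T → y ∈ T → x + y ∈ T := by
    rintro _ _ ⟨x, hx, rfl⟩ ⟨y, hy, rfl⟩
    exact ⟨x + y, Ideal.add_mem _ hx hy, map_add _ _ _⟩
  -- key: c * (image of i) lies in T
  have key : ∀ (c : C') (i : A'), i ∈ I → c * algebraMap A' C' i ∈ T := by
    intro c
    refine hpo.inductionOn c (fun c => ∀ (i : A'), i ∈ I → c * algebraMap A' C' i ∈ T) ?_ ?_ ?_ ?_
    · intro i _
      rw [zero_mul]; exact hT0
    · intro d i hi
      obtain ⟨j, hj, rfl⟩ := hlift i hi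
      refine ⟨d * algebraMap B' D' j, Ideal.mul_mem_left _ _ (Ideal.mem_map_of_mem _ hj), ?_⟩
      rw [map_mul, hBA'C']
      rfl
    · intro a' n hn i hi
      have : a' • n * algebraMap A' C' i = n * algebraMap A' C' (a' * i) := by
        rw [Algebra.smul_def, map_mul]; ring
      rw [this]
      exact hn _ (Ideal.mul_mem_left _ _ hi)
    · intro n₁ n₂ h₁ h₂ i hi
      rw [add_mul]
      exact hTadd _ _ (h₁ i hi) (h₂ i hi)
  apply Set.Subset.antisymm
  · rintro _ ⟨y, hy, rfl⟩
    have hle : (J.map (algebraMap B' D')).map (algebraMap D' C') ≤ I.map (algebraMap A' C') := by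
      rw [Ideal.map_map, Ideal.map_le_iff_le_comap]
      intro j hj
      rw [Ideal.mem_comap, RingHom.comp_apply, ← hBA'C']
      exact Ideal.mem_map_of_mem _ (hJI j hj)
    exact hle (Ideal.mem_map_of_mem _ hy)
  · intro x hx
    have hx' : x ∈ Ideal.span ((algebraMap A' C') '' (I : Set A')) := hx
    have : ∀ c : C', c * x ∈ T := by
      refine Submodule.span_induction (p := fun x _ => ∀ c : C', c * x ∈ T) ?_ ?_ ?_ ?_ hx'
      · rintro _ ⟨i, hi, rfl⟩ c
        exact key c i hi
      · intro c; rw [mul_zero]; exact hT0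
      · intro x y _ _ hx hy c
        rw [mul_add]; exact hTadd _ _ (hx c) (hy c)
      · intro c' x _ hx c
        rw [smul_eq_mul, ← mul_assoc]; exact hx _
    simpa using this 1

end Groth.Agent.S12081
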