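import Groth.Statements.S12082
import Groth.Agent.Lib.Helper29.RegIdeal

set_option autoImplicit false
universe u
open Synt

namespace Groth.Agent.S12082

theorem aux {P : Type u} [CommRing P] (I : Ideal P) (q : Ideal (P ⧸ I)) [q.IsPrime]
    (R : Type u) [CommRing R] [Algebra P R] [IsLocalization.AtPrime R (q.comap (Ideal.Quotient.mk I))]
    [IsRegularLocalRing R] (c : ℕ)
    (hc : (c : ℕ∞) + q.height = (q.comap (Ideal.Quotient.mk I)).height)
    (f : Fin c → R) (hf : ∀ i, f i ∈ I.map (algebraMap P R))
    (hgen : Ideal.span (Set.range f) ⊔ IsLocalRing.maximalIdeal R * I.map (algebraMap P R) =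
      I.map (algebraMap P R)) :
    RingTheory.Sequence.IsRegular R (List.ofFn f) := by
  classical
  have hCM := Groth.Agent.S5671.isCM_of_regular R
  have hsub : Algebra.algebraMapSubmonoid (P ⧸ I) (q.comap (Ideal.Quotient.mk I)).primeCompl =
      q.primeCompl := by
    ext y
    constructor
    · rintro ⟨x, hx, rfl⟩
      exact hx
    · intro hy
      obtain ⟨x, rfl⟩ := Ideal.Quotient.mk_surjective y
      exact ⟨x, hy, rfl⟩
  have hloc : IsLocalization.AtPrime (R ⧸ I.map (algebraMap P R)) q := by
    have h0 : IsLocalization (Algebra.algebraMapSubmonoid (P ⧸ I)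
        (q.comap (Ideal.Quotient.mk I)).primeCompl) (R ⧸ I.map (algebraMap P R)) :=
      inferInstance
    rw [hsub] at h0
    exact h0
  have hdimQ : ringKrullDim (R ⧸ I.map (algebraMap P R)) = q.height :=
    IsLocalization.AtPrime.ringKrullDim_eq_height q (R ⧸ I.map (algebraMap P R))
  have hdimR : ringKrullDim R = (q.comap (Ideal.Quotient.mk I)).height :=
    IsLocalization.AtPrime.ringKrullDim_eq_height (q.comap (Ideal.Quotient.mk I)) R
  have hspan_le : Ideal.span (Set.range f) ≤ I.map (algebraMap P R) := by
    rw [Ideal.span_le]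
    rintro _ ⟨i, rfl⟩
    exact hf i
  have hJle : I.map (algebraMap P R) ≤ Ideal.span (Set.range f) := by
    refine Submodule.le_of_le_smul_of_le_jacobson_bot (I.map (algebraMap P R)).fg_of_isNoetherianRing
      (IsLocalRing.maximalIdeal_le_jacobson _) ?_
    rw [smul_eq_mul]
    exact hgen.ge
  have hspan : Ideal.span (Set.range f) = I.map (algebraMap P R) := le_antisymm hspan_le hJle
  have hofl : Ideal.ofList (List.ofFn f) = I.map (algebraMap P R) := by
    rw [← hspan]
    unfold Ideal.ofList
    congr 1
    ext x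
    simp [List.mem_ofFn]
  have hJtop : I.map (algebraMap P R) ≠ ⊤ := by
    intro h
    have : Subsingleton (R ⧸ I.map (algebraMap P R)) := Ideal.Quotient.subsingleton_iff.2 h
    have h1 : ringKrullDim (R ⧸ I.map (algebraMap P R)) = ⊥ := ringKrullDim_eq_bot_of_subsingleton
    rw [hdimQ] at h1
    exact WithBot.coe_ne_bot h1
  have hmem : ∀ x ∈ List.ofFn f, x ∈ IsLocalRing.maximalIdeal R := by
    intro x hx
    have : x ∈ I.map (algebraMap P R) := by
      rw [← hofl]
      exact Submodule.subset_span hx
    exact IsLocalRing.le_maximalIdeal hJtop this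
  have hIt : Ideal.ofList (List.ofFn f) • (⊤ : Submodule R R) = I.map (algebraMap P R) := by
    rw [smul_eq_mul, Ideal.mul_top, hofl]
  refine ⟨?_, ?_⟩
  · rw [(Groth.Agent.Lib.Helper29.CMLib.isWeaklyRegular_iff_of_isCM R (List.ofFn f) R hCM hmem).1]
    rw [hIt, Module.supportDim_self_eq_ringKrullDim, Module.supportDim_quotient_eq_ringKrullDim,
      hdimQ, hdimR, List.length_ofFn, ← hc, add_comm]
    rfl
  · rw [hIt]
    exact fun h => hJtop h.symm

/-- Let `S = k[x_1, …, x_n]/I` over a field `k`, `q` a prime of `S` with preimage `q'` in the polynomial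
ring, `c` the natural number with `c + ht(q) = ht(q')`, and `J` the extension of `I` to the local
ring `R = k[x_1, …, x_n]_{q'}`. Any `c` elements of `J` whose images generate `J / q' J` form a
regular sequence in `R`. -/
theorem result (k : Type u) [Field k] (n : ℕ)
    (I : Ideal (MvPolynomial (Fin n) k)) (q : Ideal (MvPolynomial (Fin n) k ⧸ I)) [q.IsPrime] (c : ℕ)
    (hc : (c : ℕ∞) + q.height = (q.comap (Ideal.Quotient.mk I)).height)
    (f : Fin c → Localization.AtPrime (q.comap (Ideal.Quotient.mk I)))
    (hf : ∀ i, f i ∈ I.map (algebraMap _ (Localization.AtPrime (q.comap (Ideal.Quotient.mk I)))))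
    (hgen : Ideal.span (Set.range f) ⊔
        IsLocalRing.maximalIdeal (Localization.AtPrime (q.comap (Ideal.Quotient.mk I))) *
          I.map (algebraMap _ (Localization.AtPrime (q.comap (Ideal.Quotient.mk I)))) =
      I.map (algebraMap _ (Localization.AtPrime (q.comap (Ideal.Quotient.mk I))))) :
    RingTheory.Sequence.IsRegular (Localization.AtPrime (q.comap (Ideal.Quotient.mk I))) (List.ofFn f) := by
  exact aux I q _ c hc f hf hgen

end Groth.Agent.S12082
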