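import Groth.Statements.S12086
import Groth.Agent.Lib.Helper94.KFlatRing

set_option autoImplicit false
universe u
open CategoryTheory CategoryTheory.Limits MonoidalCategory CategoryTheory.Pretriangulated
open DRing

namespace Groth.Agent.S12086

/-- Let `(K₁•, K₂•, K₃•)` be a distinguished triangle in the homotopy category `K(R)` of complexes of
`R`-modules. If two out of the three complexes are K-flat (tensoring with them carries acyclic
complexes to acyclic complexes), then so is the third. -/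
theorem result (R : Type u) [CommRing R]
    (T : Pretriangulated.Triangle (HomotopyCategory (ModuleCat.{u} R) (ComplexShape.up ℤ)))
    (hT : T ∈ Pretriangulated.distinguishedTriangles) :
    ((∀ L : DRing.Cx R, (∀ i : ℤ, IsZero (L.homology i)) → ∀ i : ℤ, IsZero ((L ⊗ T.obj₁.as).homology i)) → (∀ L : DRing.Cx R, (∀ i : ℤ, IsZero (L.homology i)) → ∀ i : ℤ, IsZero ((L ⊗ T.obj₂.as).homology i)) → (∀ L : DRing.Cx R, (∀ i : ℤ, IsZero (L.homology i)) → ∀ i : ℤ, IsZero ((L ⊗ T.obj₃.as).homology i))) ∧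
    ((∀ L : DRing.Cx R, (∀ i : ℤ, IsZero (L.homology i)) → ∀ i : ℤ, IsZero ((L ⊗ T.obj₁.as).homology i)) → (∀ L : DRing.Cx R, (∀ i : ℤ, IsZero (L.homology i)) → ∀ i : ℤ, IsZero ((L ⊗ T.obj₃.as).homology i)) → (∀ L : DRing.Cx R, (∀ i : ℤ, IsZero (L.homology i)) → ∀ i : ℤ, IsZero ((L ⊗ T.obj₂.as).homology i))) ∧
    ((∀ L : DRing.Cx R, (∀ i : ℤ, IsZero (L.homology i)) → ∀ i : ℤ, IsZero ((L ⊗ T.obj₂.as).homology i)) → (∀ L : DRing.Cx R, (∀ i : ℤ, IsZero (L.homology i)) → ∀ i : ℤ, IsZero ((L ⊗ T.obj₃.as).homology i)) → (∀ L : DRing.Cx R, (∀ i : ℤ, IsZero (L.homology i)) → ∀ i : ℤ, IsZero ((L ⊗ T.obj₁.as).homology i))) := by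
  obtain ⟨K, L, φ, ⟨e⟩⟩ := hT
  let e₁ : HomotopyEquiv T.obj₁.as K :=
    HomotopyCategory.homotopyEquivOfIso (C := T.obj₁.as) (D := K) (Triangle.π₁.mapIso e)
  let e₂ : HomotopyEquiv T.obj₂.as L :=
    HomotopyCategory.homotopyEquivOfIso (C := T.obj₂.as) (D := L) (Triangle.π₂.mapIso e)
  let e₃ : HomotopyEquiv T.obj₃.as (CochainComplex.mappingCone φ) :=
    HomotopyCategory.homotopyEquivOfIso (C := T.obj₃.as) (D := CochainComplex.mappingCone φ)
      (Triangle.π₃.mapIso e)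
  have key : ∀ X : DRing.Cx R, (∀ L : DRing.Cx R, (∀ i : ℤ, IsZero (L.homology i)) →
      ∀ i : ℤ, IsZero ((L ⊗ X).homology i)) ↔
      Groth.Agent.Lib.Helper94.KFlatBi.IsKFlat₂ (curriedTensor (ModuleCat.{u} R)) X :=
    fun X => Groth.Agent.Lib.Helper94.KFlatRing.kf_iff R X
  simp only [key]
  refine ⟨fun h1 h2 => ?_, fun h1 h3 => ?_, fun h2 h3 => ?_⟩
  · exact Groth.Agent.Lib.Helper94.KFlatBi.isKFlat₂_of_homotopyEquiv _ e₃.symm
      (Groth.Agent.Lib.Helper94.KFlatBi.isKFlat₂_cone _ φ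
        (Groth.Agent.Lib.Helper94.KFlatBi.isKFlat₂_of_homotopyEquiv _ e₁ h1)
        (Groth.Agent.Lib.Helper94.KFlatBi.isKFlat₂_of_homotopyEquiv _ e₂ h2))
  · exact Groth.Agent.Lib.Helper94.KFlatBi.isKFlat₂_of_homotopyEquiv _ e₂.symm
      (Groth.Agent.Lib.Helper94.KFlatBi.isKFlat₂_tgt_of_cone _ φ
        (Groth.Agent.Lib.Helper94.KFlatBi.isKFlat₂_of_homotopyEquiv _ e₁ h1)
        (Groth.Agent.Lib.Helper94.KFlatBi.isKFlat₂_of_homotopyEquiv _ e₃ h3))
  · exact Groth.Agent.Lib.Helper94.KFlatBi.isKFlat₂_of_homotopyEquiv _ e₁.symm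
      (Groth.Agent.Lib.Helper94.KFlatBi.isKFlat₂_src_of_cone _ φ
        (Groth.Agent.Lib.Helper94.KFlatBi.isKFlat₂_of_homotopyEquiv _ e₂ h2)
        (Groth.Agent.Lib.Helper94.KFlatBi.isKFlat₂_of_homotopyEquiv _ e₃ h3))

end Groth.Agent.S12086
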