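import Groth.Statements.S12091
import Mathlib
-- import your own Groth.Agent.* helpers here

set_option autoImplicit false
universe u
open TensorProduct MvPolynomial
open FlatMor

namespace Groth.Agent.S12091

section Helpers
variable {A : Type u} [CommRing A] {M : Type u} [AddCommGroup M] [Module A M] {m : ℕ}

/-- The linear form `Σ c_j y_j`. -/
noncomputable def linMap (A : Type u) [CommRing A] (m : ℕ) :
    (Fin m → A) →ₗ[A] MvPolynomial (Fin m) A where
  toFun c := ∑ j, C (c j) * X j
  map_add' c d := by simp [add_mul, Finset.sum_add_distrib]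
  map_smul' a c := by
    simp only [Pi.smul_apply, smul_eq_mul, RingHom.id_apply, Finset.smul_sum]
    refine Finset.sum_congr rfl fun j _ => ?_
    rw [C_mul, MvPolynomial.smul_eq_C_mul, mul_assoc]

lemma linMap_apply (c : Fin m → A) : linMap A m c = ∑ j, C (c j) * X j := rfl

lemma linMap_single (j : Fin m) : linMap A m (Pi.single j 1) = X j := by
  classical
  rw [linMap_apply, Finset.sum_eq_single j]
  · simp
  · intro i _ hij
    simp [Pi.single_apply, hij]
  · intro h; exact absurd (Finset.mem_univ j) h

variable (x : Fin m → M) (G : Algebra.Generators A (SymmetricAlgebra A M) (Fin m))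
  (hG : ∀ j, G.val j = SymmetricAlgebra.ι A M (x j))

include hG in
lemma aeval_linMap (c : Fin m → A) :
    aeval G.val (linMap A m c) = SymmetricAlgebra.ι A M (Fintype.linearCombination A x c) := by
  rw [linMap_apply, map_sum, Fintype.linearCombination_apply, map_sum]
  refine Finset.sum_congr rfl fun j _ => ?_
  rw [map_mul, aeval_C, aeval_X, hG, map_smul, Algebra.smul_def]

include hG in
lemma linMap_mem_ker (k : LinearMap.ker (Fintype.linearCombination A x)) :
    linMap A m (k : Fin m → A) ∈ G.toExtension.ker := by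
  change algebraMap G.Ring (SymmetricAlgebra A M) _ = 0
  rw [G.algebraMap_apply, aeval_linMap x G hG, LinearMap.mem_ker.1 k.2, map_zero]

/-- `K → J`. -/
noncomputable def linK : LinearMap.ker (Fintype.linearCombination A x) →ₗ[A] G.toExtension.ker where
  toFun k := ⟨linMap A m (k : Fin m → A), linMap_mem_ker x G hG k⟩
  map_add' k k' := Subtype.ext (map_add (linMap A m) _ _)
  map_smul' a k := Subtype.ext (map_smul (linMap A m) _ _)

/-- `K → J/J²`. -/
noncomputable def kMap : LinearMap.ker (Fintype.linearCombination A x) →ₗ[A]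
    G.toExtension.Cotangent :=
  (Algebra.Extension.Cotangent.mk.restrictScalars A) ∘ₗ linK x G hG

/-- The ideal generated by the linear forms from `K`. -/
noncomputable def I0 : Ideal G.toExtension.Ring :=
  Ideal.span (Set.range fun k : LinearMap.ker (Fintype.linearCombination A x) =>
      (linMap A m (k : Fin m → A) : G.toExtension.Ring))

include hG in
lemma ker_le_span (hx : Function.Surjective (Fintype.linearCombination A x)) :
    G.toExtension.ker ≤ I0 x G := by
  set I₀ : Ideal (MvPolynomial (Fin m) A) := I0 x G with hI₀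
  set f := Fintype.linearCombination A x with hf
  let g : (Fin m → A) →ₗ[A] (MvPolynomial (Fin m) A ⧸ I₀) :=
    (Ideal.Quotient.mkₐ A I₀).toLinearMap ∘ₗ linMap A m
  have hKg : LinearMap.ker f ≤ LinearMap.ker g := by
    intro k hk
    rw [LinearMap.mem_ker]
    change Ideal.Quotient.mk I₀ (linMap A m k) = 0
    rw [Ideal.Quotient.eq_zero_iff_mem]
    exact Ideal.subset_span ⟨⟨k, hk⟩, rfl⟩
  let φ : M →ₗ[A] (MvPolynomial (Fin m) A ⧸ I₀) :=
    ((LinearMap.ker f).liftQ g hKg) ∘ₗ (f.quotKerEquivOfSurjective hx).symm.toLinearMap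
  have hφ : ∀ c, φ (f c) = g c := by
    intro c
    have : (f.quotKerEquivOfSurjective hx).symm (f c) = Submodule.Quotient.mk c := by
      rw [LinearEquiv.symm_apply_eq]
      rfl
    change ((LinearMap.ker f).liftQ g hKg) ((f.quotKerEquivOfSurjective hx).symm (f c)) = _
    rw [this, Submodule.liftQ_apply]
  let ψ : SymmetricAlgebra A M →ₐ[A] (MvPolynomial (Fin m) A ⧸ I₀) := SymmetricAlgebra.lift φ
  have hcomp : ψ.comp (IsScalarTower.toAlgHom A G.Ring (SymmetricAlgebra A M)) =
      Ideal.Quotient.mkₐ A I₀ := by
    apply MvPolynomial.algHom_ext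
    intro j
    change ψ (algebraMap G.Ring (SymmetricAlgebra A M) (X j)) = Ideal.Quotient.mk I₀ (X j)
    rw [G.algebraMap_apply, aeval_X, hG, SymmetricAlgebra.lift_ι_apply]
    have : x j = f (Pi.single j 1) := by
      rw [hf, Fintype.linearCombination_apply_single, one_smul]
    rw [this, hφ]
    change Ideal.Quotient.mk I₀ (linMap A m (Pi.single j 1)) = _
    rw [linMap_single]
  intro (p : MvPolynomial (Fin m) A) hp
  have h0 : algebraMap G.Ring (SymmetricAlgebra A M) p = 0 := hp
  have h1 : ψ (algebraMap G.Ring (SymmetricAlgebra A M) p) = Ideal.Quotient.mk I₀ p :=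
    congrArg (fun F : G.Ring →ₐ[A] (MvPolynomial (Fin m) A ⧸ I₀) => F p) hcomp
  rw [h0, map_zero] at h1
  exact Ideal.Quotient.eq_zero_iff_mem.1 h1.symm

end Helpers

/-- Let `x_1, …, x_m` generate the `A`-module `M`, let `K ⊆ A^m` be the module of relations, `C =
Sym_A(M)` and `α : A[y_1, …, y_m] → C` the presentation with `y_j ↦ x_j`, with kernel `J`. Then the
`C`-linear map `C ⊗_A K → J/J²` sending `1 ⊗ k` to the class of `Σ_j k_j y_j` is surjective, and it
is bijective when `M` is a projective `A`-module (so that then `J/J² ≅ K ⊗_A C` and the naive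
cotangent complex of `α` is `K ⊗_A C → ⊕_j C dy_j`). (The published statement asserts `J/J² ≅ K ⊗_A
C` for every `M`. For `A = ℤ`, `M = (ℤ/2)²`, `m = 2` and the two unit vectors, `K = 2ℤ²` and the
element `y_2 ⊗ (2, 0) - y_1 ⊗ (0, 2)` of `C ⊗_A K` is non-zero but maps to the class of `y_2 · 2y_1
- y_1 · 2y_2 = 0`; in degree `2` the graded piece of `J/J²` has `8` elements and that of `K ⊗_A C`
has `16`. The published degree-by-degree computation does show that `J` is generated by the linear
forms coming from `K`, which is the surjectivity, and it is valid as written when `0 → K → A^m → M →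
0` splits, which is the projective case.) -/
theorem result (A : Type u) [CommRing A] (M : Type u)
    [AddCommGroup M] [Module A M] (m : ℕ) (x : Fin m → M)
    (hx : Function.Surjective (Fintype.linearCombination A x))
    (G : Algebra.Generators A (SymmetricAlgebra A M) (Fin m))
    (hG : ∀ j, G.val j = SymmetricAlgebra.ι A M (x j)) :
    ∃ e : SymmetricAlgebra A M ⊗[A] (LinearMap.ker (Fintype.linearCombination A x)) →ₗ[SymmetricAlgebra A M]
        G.toExtension.Cotangent,
      (∀ (k : LinearMap.ker (Fintype.linearCombination A x))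
        (hk : (∑ j, C ((k : Fin m → A) j) * X j : MvPolynomial (Fin m) A) ∈ G.toExtension.ker),
        e (1 ⊗ₜ k) = Algebra.Extension.Cotangent.mk ⟨_, hk⟩) ∧
      Function.Surjective e ∧ (Module.Projective A M → Function.Bijective e) := by
  classical
  set K := LinearMap.ker (Fintype.linearCombination A x) with hK
  let e : SymmetricAlgebra A M ⊗[A] K →ₗ[SymmetricAlgebra A M] G.toExtension.Cotangent :=
    LinearMap.liftBaseChange (SymmetricAlgebra A M) (kMap x G hG)
  have he : ∀ k : K, e (1 ⊗ₜ k) = Algebra.Extension.Cotangent.mk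
      ⟨linMap A m (k : Fin m → A), linMap_mem_ker x G hG k⟩ := by
    intro k
    change LinearMap.liftBaseChange (SymmetricAlgebra A M) (kMap x G hG) (1 ⊗ₜ k) = _
    rw [LinearMap.liftBaseChange_tmul, one_smul]
    rfl
  have hsurj : Function.Surjective e := by
    intro z
    obtain ⟨⟨p, hp⟩, rfl⟩ := Algebra.Extension.Cotangent.mk_surjective z
    have hspan := ker_le_span x G hG hx hp
    have key : ∀ (q : G.toExtension.Ring)
        (_ : q ∈ I0 x G)
        (hq : q ∈ G.toExtension.ker),
        Algebra.Extension.Cotangent.mk ⟨q, hq⟩ ∈ LinearMap.range e := by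
      intro q hq
      rw [I0] at hq
      refine Submodule.span_induction (p := fun q _ => ∀ hq : q ∈ G.toExtension.ker,
        Algebra.Extension.Cotangent.mk ⟨q, hq⟩ ∈ LinearMap.range e) ?_ ?_ ?_ ?_ hq
      · rintro _ ⟨k, rfl⟩ hq'
        exact ⟨1 ⊗ₜ k, he k⟩
      · intro hq'
        have : (⟨0, hq'⟩ : G.toExtension.ker) = 0 := rfl
        rw [this, map_zero]
        exact Submodule.zero_mem _
      · intro a b ha hb iha ihb hab
        have ha' : a ∈ G.toExtension.ker :=
          (Ideal.span_le.2 (by rintro _ ⟨k, rfl⟩; exact linMap_mem_ker x G hG k) : Ideal.span _ ≤ G.toExtension.ker) ha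
        have hb' : b ∈ G.toExtension.ker :=
          (Ideal.span_le.2 (by rintro _ ⟨k, rfl⟩; exact linMap_mem_ker x G hG k) : Ideal.span _ ≤ G.toExtension.ker) hb
        have : (⟨a + b, hab⟩ : G.toExtension.ker) = ⟨a, ha'⟩ + ⟨b, hb'⟩ := rfl
        rw [this, map_add]
        exact Submodule.add_mem _ (iha ha') (ihb hb')
      · intro r a ha iha hra
        have ha' : a ∈ G.toExtension.ker :=
          (Ideal.span_le.2 (by rintro _ ⟨k, rfl⟩; exact linMap_mem_ker x G hG k) : Ideal.span _ ≤ G.toExtension.ker) ha
        have : (⟨r • a, hra⟩ : G.toExtension.ker) = r • ⟨a, ha'⟩ := rfl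
        rw [this, map_smul]
        obtain ⟨w, hw⟩ := iha ha'
        refine ⟨algebraMap G.toExtension.Ring (SymmetricAlgebra A M) r • w, ?_⟩
        rw [map_smul, hw, algebraMap_smul]
    exact key p hspan hp
  refine ⟨e, fun k hk => he k, hsurj, fun hproj => ⟨?_, hsurj⟩⟩
  -- injectivity in the projective case
  set f := Fintype.linearCombination A x with hf
  obtain ⟨s, hs⟩ := Module.projective_lifting_property f LinearMap.id hx
  have hfs : ∀ y, f (s y) = y := fun y => congrArg (fun F : M →ₗ[A] M => F y) hs
  let ρ : (Fin m → A) →ₗ[A] K := LinearMap.codRestrict K (LinearMap.id - s ∘ₗ f) (by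
    intro c
    rw [hK, LinearMap.mem_ker]
    simp only [LinearMap.sub_apply, LinearMap.id_apply, LinearMap.comp_apply, map_sub]
    rw [hfs, sub_self])
  have hρ : ∀ k : K, ρ (k : Fin m → A) = k := by
    intro k
    apply Subtype.ext
    have hk0 : f (k : Fin m → A) = 0 := LinearMap.mem_ker.1 k.2
    simp [ρ, hk0]
  let b := G.cotangentSpaceBasis
  let Rm : G.toExtension.CotangentSpace →ₗ[SymmetricAlgebra A M] SymmetricAlgebra A M ⊗[A] K :=
    b.constr (SymmetricAlgebra A M) (fun j => (1 : SymmetricAlgebra A M) ⊗ₜ[A] ρ (Pi.single j 1))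
  have hcomp : (Rm ∘ₗ G.toExtension.cotangentComplex ∘ₗ e) = LinearMap.id := by
    apply TensorProduct.AlgebraTensorModule.ext
    intro c k
    have hck : c ⊗ₜ[A] k = c • ((1 : SymmetricAlgebra A M) ⊗ₜ[A] k) := by
      rw [TensorProduct.smul_tmul', smul_eq_mul, mul_one]
    rw [hck, map_smul, LinearMap.id_apply]
    refine congrArg (fun t => c • t) ?_
    simp only [LinearMap.comp_apply]
    rw [he k, Algebra.Extension.cotangentComplex_mk]
    have hD : KaehlerDifferential.D A G.toExtension.Ring (linMap A m (k : Fin m → A)) =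
        ∑ j, ((k : Fin m → A) j) • KaehlerDifferential.D A G.toExtension.Ring (X j) := by
      have h1 : (linMap A m (k : Fin m → A) : G.toExtension.Ring) =
          ∑ j, ((k : Fin m → A) j) • (X j : G.toExtension.Ring) := by
        rw [linMap_apply]
        exact Finset.sum_congr rfl fun j _ => (MvPolynomial.smul_eq_C_mul _ _).symm
      rw [h1]
      refine (map_sum (KaehlerDifferential.D A G.toExtension.Ring)
        (fun j => ((k : Fin m → A) j) • (X j : G.toExtension.Ring)) Finset.univ).trans ?_
      exact Finset.sum_congr rfl fun j _ =>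
        (KaehlerDifferential.D A G.toExtension.Ring).map_smul ((k : Fin m → A) j) (X j)
    change Rm ((1 : SymmetricAlgebra A M) ⊗ₜ[G.toExtension.Ring]
      KaehlerDifferential.D A G.toExtension.Ring (linMap A m (k : Fin m → A))) = _
    rw [hD, TensorProduct.tmul_sum, map_sum]
    have hterm : ∀ j, Rm ((1 : SymmetricAlgebra A M) ⊗ₜ[G.toExtension.Ring]
        (((k : Fin m → A) j) • KaehlerDifferential.D A G.toExtension.Ring (X j))) =
        (1 : SymmetricAlgebra A M) ⊗ₜ[A] (((k : Fin m → A) j) • ρ (Pi.single j 1)) := by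
      intro j
      rw [TensorProduct.tmul_smul, LinearMap.map_smul_of_tower, TensorProduct.tmul_smul]
      congr 1
      have : (1 : SymmetricAlgebra A M) ⊗ₜ[G.toExtension.Ring]
          KaehlerDifferential.D A G.toExtension.Ring (X j) = b j :=
        (Algebra.Generators.cotangentSpaceBasis_apply G j).symm
      rw [this]
      exact Module.Basis.constr_basis b _ _ j
    rw [Finset.sum_congr rfl fun j _ => hterm j, ← TensorProduct.tmul_sum]
    congr 1
    have h2 : ρ (∑ j, ((k : Fin m → A) j) • Pi.single j (1 : A)) = ρ (k : Fin m → A) := by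
      congr 1
      ext i
      simp [Finset.sum_apply, Pi.single_apply]
    rw [hρ k, map_sum] at h2
    refine Eq.trans ?_ h2
    exact Finset.sum_congr rfl fun j _ => (map_smul ρ _ _).symm
  exact Function.LeftInverse.injective (g := fun z => Rm (G.toExtension.cotangentComplex z))
    (fun z => congrArg (fun F : SymmetricAlgebra A M ⊗[A] K →ₗ[SymmetricAlgebra A M]
      SymmetricAlgebra A M ⊗[A] K => F z) hcomp)

end Groth.Agent.S12091
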