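import Groth.Statements.S12093
-- import your own Groth.Agent.* helpers here
import Mathlib
import Groth.Agent.Lib.Helper36.LTensorCxBalance
import Groth.Agent.Lib.Helper36.TruncGEKFlat
import Groth.Agent.Lib.Helper94.KFlatResInst

set_option autoImplicit false
universe u
open CategoryTheory CategoryTheory.Limits MonoidalCategory
attribute [local instance] HasDerivedCategory.standard
open DRing

namespace Groth.Agent.S12093

/-- Let `K•` be a complex of `R`-modules (for which `− ⊗^L_R K•` is assumed to exist) and `a` an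
integer. Then `K•` has tor amplitude in `[a, ∞)`, i.e. `H^i(M ⊗^L_R K•) = 0` for every `R`-module
`M` and every `i < a`, if and only if `K•` is quasi-isomorphic to a K-flat complex `E•` (tensoring
with `E•` preserves acyclic complexes) with flat terms and `E^i = 0` for `i < a`. -/
theorem result (R : Type u) [CommRing R] (a : ℤ) (K : DRing.Cx R)
    [DRing.HasLTensorCx R K] :
    (∀ (M : ModuleCat.{u} R) (i : ℤ), i < a →
        Subsingleton (Dual.HD R ((DRing.LTensorCx R K).obj
          (DRing.toD ((CochainComplex.singleFunctor (ModuleCat.{u} R) 0).obj M))) i)) ↔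
      ∃ E : DRing.Cx R, (∀ L : DRing.Cx R, (∀ i : ℤ, IsZero (L.homology i)) → ∀ i : ℤ, IsZero ((L ⊗ E).homology i)) ∧
        DRing.TermwiseFlat E ∧ (∀ i : ℤ, i < a → IsZero (E.X i)) ∧ Nonempty (DRing.toD E ≅ DRing.toD K) := by
  constructor
  · intro h
    obtain ⟨E₀, q, hE₀, hfl, hq, -⟩ :=
      Groth.Agent.Lib.Helper94.KFlatResInst.exists_kf_resolution R K
    have : IsIso (DerivedCategory.Q.map q) := by
      rw [DerivedCategory.isIso_Q_map_iff_quasiIso]
      exact hq
    let e₀ : toD E₀ ≅ toD K := asIso (DerivedCategory.Q.map q)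
    -- exactness of the termwise tensor products below `a`
    have hex : ∀ (M : ModuleCat.{u} R) (i : ℤ), i < a →
        (Groth.Agent.Lib.Helper36.LT.tensorCx M E₀).ExactAt i := by
      intro M i hi
      obtain ⟨e⟩ := Groth.Agent.Lib.Helper36.LTCx.nonempty_lTensorCx_single_iso K E₀ hE₀ e₀ M
      apply Groth.Agent.Lib.Helper12.exactAt_of_isZero_HF
      have h1 := h M i hi
      exact (@ModuleCat.isZero_of_subsingleton _ _ _ h1).of_iso
        ((DerivedCategory.homologyFunctor (ModuleCat.{u} R) i).mapIso e.symm)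
    have hex0 : ∀ i : ℤ, i < a → E₀.ExactAt i := by
      intro i hi
      have h1 := hex (𝟙_ (ModuleCat.{u} R)) i hi
      rw [HomologicalComplex.exactAt_iff_isZero_homology] at h1 ⊢
      exact h1.of_iso ((HomologicalComplex.homologyFunctor _ _ i).mapIso
        (Groth.Agent.Lib.Helper36.LT.tensorCxUnitIso E₀).symm)
    have hop : Module.Flat R (E₀.opcycles a) :=
      Groth.Agent.Lib.Helper36.LT.flat_opcycles_of_exactAt_tensorCx E₀ a (hfl a)
        (hex0 _ (by omega)) (fun I => hex _ _ (by omega))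
    have hGE : E₀.IsGE a := by
      rw [CochainComplex.isGE_iff]
      intro i hi
      exact hex0 i hi
    have hqi : QuasiIso (E₀.πTruncGE a) := (E₀.quasiIso_πTruncGE_iff a).mpr hGE
    have hiso : IsIso (DerivedCategory.Q.map (E₀.πTruncGE a)) :=
      (DerivedCategory.isIso_Q_map_iff_quasiIso _ (E₀.πTruncGE a)).mpr hqi
    refine ⟨E₀.truncGE a, Groth.Agent.Lib.Helper36.TGK.kf_truncGE E₀ a hE₀ hfl hop,
      Groth.Agent.Lib.Helper36.TGK.termwiseFlat_truncGE E₀ a hfl hop,
      fun i hi => Groth.Agent.Lib.Helper12.isZero_truncGE_X_of_lt E₀ a i hi,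
      ⟨(asIso (DerivedCategory.Q.map (E₀.πTruncGE a))).symm ≪≫ e₀⟩⟩
  · rintro ⟨E, hE, hfl, hlow, ⟨e⟩⟩ M i hi
    obtain ⟨e'⟩ := Groth.Agent.Lib.Helper36.LTCx.nonempty_lTensorCx_single_iso K E hE e M
    have h1 : IsZero ((Groth.Agent.Lib.Helper36.LT.tensorCx M E).X i) :=
      (tensorRight M).map_isZero (hlow i hi)
    exact ModuleCat.subsingleton_of_isZero
      ((Groth.Agent.Lib.Helper12.isZero_HF_toD_of_isZero_X _ i h1).of_iso
        ((DerivedCategory.homologyFunctor (ModuleCat.{u} R) i).mapIso e'))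

end Groth.Agent.S12093
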