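import Groth.Statements.S7080
import Mathlib
import Groth.Agent.Lib.Helper32.TwoTerm
-- import your own Groth.Agent.* helpers here

set_option autoImplicit false
universe u
attribute [local instance] HasDerivedCategory.standard
open CategoryTheory
open DRing

namespace Groth.Agent.S7080
open Pretriangulated DerivedCategory Limits
open Groth.Agent.S14388 (tt)
open Groth.Agent.Lib.Helper32.TwoTerm

lemma isGE_of_twoTerm {R : Type u} [CommRing R] (K : Dual.D R)
    (hK : ∀ i : ℤ, i ≠ -1 → i ≠ 0 → Subsingleton (Dual.HD R K i)) : K.IsGE (-1) := by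
  rw [isGE_iff]
  intro i hi
  have := hK i (by omega) (by omega)
  exact ModuleCat.isZero_of_subsingleton _

lemma isLE_of_twoTerm {R : Type u} [CommRing R] (K : Dual.D R)
    (hK : ∀ i : ℤ, i ≠ -1 → i ≠ 0 → Subsingleton (Dual.HD R K i)) : K.IsLE 0 := by
  rw [isLE_iff]
  intro i hi
  have := hK i (by omega) (by omega)
  exact ModuleCat.isZero_of_subsingleton _

lemma hiso_of_twoTerm {R : Type u} [CommRing R] {K K' : Dual.D R} (α : K ⟶ K')
    (hK : ∀ i : ℤ, i ≠ -1 → i ≠ 0 → Subsingleton (Dual.HD R K i))
    (hK' : ∀ i : ℤ, i ≠ -1 → i ≠ 0 → Subsingleton (Dual.HD R K' i))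
    (h0 : IsIso ((DerivedCategory.homologyFunctor (ModuleCat.{u} R) 0).map α)) :
    ∀ i : ℤ, -1 < i → IsIso ((homologyFunctor (ModuleCat.{u} R) i).map α) := by
  intro i hi
  by_cases h : i = 0
  · subst h; exact h0
  · have := hK i (by omega) h
    have := hK' i (by omega) h
    have z1 : IsZero ((homologyFunctor (ModuleCat.{u} R) i).obj K) := ModuleCat.isZero_of_subsingleton _
    have z2 : IsZero ((homologyFunctor (ModuleCat.{u} R) i).obj K') := ModuleCat.isZero_of_subsingleton _
    exact ⟨0, z1.eq_of_src _ _, z2.eq_of_src _ _⟩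



/-- Let R be a commutative ring and α : K → K' a morphism in D(R) between objects whose cohomology
vanishes outside degrees -1 and 0, such that H^0(α) is an isomorphism and H^{-1}(α) is surjective.
If multiplication by an element f of R is the zero endomorphism of K in D(R), then it is also the
zero endomorphism of K'. -/
theorem result {R : Type u} [CommRing R] {K K' : Dual.D R} (α : K ⟶ K')
    (hK : ∀ i : ℤ, i ≠ -1 → i ≠ 0 → Subsingleton (Dual.HD R K i))
    (hK' : ∀ i : ℤ, i ≠ -1 → i ≠ 0 → Subsingleton (Dual.HD R K' i))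
    (h0 : IsIso ((DerivedCategory.homologyFunctor (ModuleCat.{u} R) 0).map α))
    (h1 : Epi ((DerivedCategory.homologyFunctor (ModuleCat.{u} R) (-1)).map α))
    (f : R) (hf : f • (𝟙 K) = 0) : f • (𝟙 K') = 0 := by
  have := isGE_of_twoTerm K' hK'
  apply eq_zero_of_comp_eq_zero α (-1) h1 (hiso_of_twoTerm α hK hK' h0)
  rw [Linear.comp_smul, Category.comp_id, ← Category.id_comp α, ← Linear.smul_comp, hf, zero_comp]

end Groth.Agent.S7080
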