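import Groth.Statements.S12095
import Groth.Agent.Lib.Helper26.GrLocA
import Groth.Agent.Lib.Helper26.GrLocB

set_option autoImplicit false
universe u
open CAlg

namespace Groth.Agent.S12095

/-- Let `R'` be an `R`-algebra of finite type, `M` a finite `R'`-module, and `S` an `ℕ`-graded
`R`-algebra with `f ∈ S_1` and a ring isomorphism `e : S_(f) ≅ R'` compatible with the maps from
`R`. Then there is a finite graded `S`-module `N` whose degree-zero localization `N_(f)` (the
elements `n / f^k` of `N_f` with `n` homogeneous of degree `k`) is identified with `M`: an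
`R`-linear bijection `e' : N_(f) → M` with `e'(a · x) = e(a) · e'(x)` for all `a ∈ S_(f)`. (The
published lemma produces `S`, `f` and `N` together from `R'` and `M`; here `N` is produced for any
such `S`, `f`, `e`, which the same construction gives.) -/
theorem result (R R' : Type u) [CommRing R] [CommRing R']
    [Algebra R R'] [Algebra.FiniteType R R']
    (M : Type u) [AddCommGroup M] [Module R' M] [Module R M] [IsScalarTower R R' M] [Module.Finite R' M]
    (S : Type u) [CommRing S] [Algebra R S] (𝒜 : ℕ → Submodule R S) [GradedAlgebra 𝒜] (f : S) (hf : f ∈ 𝒜 1)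
    (e : HomogeneousLocalization.Away 𝒜 f ≃+* R')
    (he : ∀ r : R, (e.symm (algebraMap R R' r)).val = algebraMap S (Localization.Away f) (algebraMap R S r)) :
    ∃ (N : Type u) (_ : AddCommGroup N) (_ : Module S N) (_ : Module R N) (_ : IsScalarTower R S N)
      (ℳ : ℕ → Submodule R N) (_ : DirectSum.Decomposition ℳ) (_ : SetLike.GradedSMul 𝒜 ℳ)
      (Nf : Submodule R (LocalizedModule (Submonoid.powers f) N)) (e' : ↥Nf ≃ₗ[R] M),
      Module.Finite S N ∧
      (∀ x, x ∈ Nf ↔ ∃ k : ℕ, ∃ n ∈ ℳ k, f ^ k • x = LocalizedModule.mk n 1) ∧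
      (∀ (a : HomogeneousLocalization.Away 𝒜 f) (x y : ↥Nf),
        a.val • (x : LocalizedModule (Submonoid.powers f) N) = y → e' y = e a • e' x) := by
  classical
  obtain ⟨n, gens, hgens⟩ := Module.Finite.exists_fin (R := R') (M := M)
  let χ : S →+* HomogeneousLocalization.Away 𝒜 f := Groth.Agent.Lib.Helper26.GrLoc.chi 𝒜 hf
  let φ : S →+* R' := (e : _ →+* R').comp χ
  letI mS : Module S M := Module.compHom M φ
  have hsm : ∀ (s : S) (m : M), s • m = e (χ s) • m := fun _ _ => rfl
  have hχr : ∀ r : R, e (χ (algebraMap R S r)) = algebraMap R R' r := by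
    intro r
    have : χ (algebraMap R S r) = e.symm (algebraMap R R' r) := by
      apply HomogeneousLocalization.val_injective
      rw [he r]
      exact Groth.Agent.Lib.Helper26.GrLoc.chi_algebraMap_val 𝒜 hf r
    rw [this, e.apply_symm_apply]
  haveI : IsScalarTower R S M := ⟨fun r s m => by
    rw [hsm, hsm, Algebra.smul_def, map_mul, map_mul, hχr, mul_smul, algebraMap_smul]⟩
  have h1 : ∀ m : M, f • m = m := fun m => by
    rw [hsm]
    change e (Groth.Agent.Lib.Helper26.GrLoc.chi 𝒜 hf f) • m = m
    rw [Groth.Agent.Lib.Helper26.GrLoc.chi_f, map_one, one_smul]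
  have hg : Submodule.span S (Set.range gens) = ⊤ := by
    rw [eq_top_iff]
    rintro m -
    have hm : m ∈ Submodule.span R' (Set.range gens) := hgens ▸ Submodule.mem_top
    induction hm using Submodule.span_induction with
    | mem x hx => exact Submodule.subset_span hx
    | zero => exact zero_mem _
    | add x y _ _ hx hy => exact add_mem hx hy
    | smul a x _ hx =>
      obtain ⟨k, s, hs, hα⟩ := HomogeneousLocalization.Away.mk_surjective 𝒜 hf (e.symm a)
      have hs' : s ∈ 𝒜 k := by simpa using hs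
      have : a • x = s • x := by
        rw [hsm]
        change _ = e (Groth.Agent.Lib.Helper26.GrLoc.chi 𝒜 hf s) • x
        rw [Groth.Agent.Lib.Helper26.GrLoc.chi_of_mem 𝒜 hf hs', hα, e.apply_symm_apply]
      rw [this]
      exact Submodule.smul_mem _ _ hx
  obtain ⟨N, i1, i2, i3, i4, ℳ, i5, i6, Nf, e', hfin, hmem, hact⟩ :=
    Groth.Agent.Lib.Helper26.GrLoc2.main 𝒜 gens hf h1 hg
  refine ⟨N, i1, i2, i3, i4, ℳ, i5, i6, Nf, e', hfin, hmem, ?_⟩
  intro a x y hxy
  obtain ⟨k, s, hs, rfl⟩ := HomogeneousLocalization.Away.mk_surjective 𝒜 hf a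
  rw [HomogeneousLocalization.Away.val_mk] at hxy
  have hs' : s ∈ 𝒜 k := by simpa using hs
  rw [hact k s hs' x y hxy, hsm]
  change e (Groth.Agent.Lib.Helper26.GrLoc.chi 𝒜 hf s) • _ = _
  rw [Groth.Agent.Lib.Helper26.GrLoc.chi_of_mem 𝒜 hf hs']

end Groth.Agent.S12095
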