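import Groth.Statements.S12096
-- import your own Groth.Agent.* helpers here

set_option autoImplicit false
universe u
open BlowUp

namespace Groth.Agent.S12096

/-- Néron's blowup is compatible with localization. For a ring `A`, an ideal `I`, elements `π, a ∈ A`,
`A' = A[I/π] ⊆ A_π` the affine blowup algebra and `(A_a)' = A_a[I A_a/π]` that of the localization,
the canonical map `A' → (A_a)'` (the restriction of `A_π → (A_a)_π`, given here as a datum with that
compatibility) identifies `(A_a)'` with the localization `A'_a`. In Néron's situation (`I` the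
inverse image of the maximal ideal of `Λ`, `π` a uniformizer, `a ∉ I`) this reads: the Néron blowup
of `A_a` is `A'_a`; the identity holds for arbitrary `A, I, π, a`. -/
theorem result (A : Type u) [CommRing A] (I : Ideal A) (π a : A) (hπ : π ∈ I)
    (ψ : BlowUp.affineAlgebra A I π →+*
      BlowUp.affineAlgebra (Localization.Away a) (I.map (algebraMap A (Localization.Away a))) (algebraMap A (Localization.Away a) π))
    (hψ : ∀ x : BlowUp.affineAlgebra A I π,
      ((ψ x : BlowUp.affineAlgebra (Localization.Away a) (I.map (algebraMap A (Localization.Away a))) (algebraMap A (Localization.Away a) π)) :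
          Localization.Away (algebraMap A (Localization.Away a) π)) =
        Localization.awayMap (algebraMap A (Localization.Away a)) π (x : Localization.Away π)) :
    letI := ψ.toAlgebra
    IsLocalization.Away (algebraMap A (BlowUp.affineAlgebra A I π) a)
      (BlowUp.affineAlgebra (Localization.Away a) (I.map (algebraMap A (Localization.Away a))) (algebraMap A (Localization.Away a) π)) := by
  classical
  have g_alg : ∀ b : A, Localization.awayMap (algebraMap A (Localization.Away a)) π
        (algebraMap A (Localization.Away π) b) =
      algebraMap (Localization.Away a) (Localization.Away (algebraMap A (Localization.Away a) π))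
        (algebraMap A (Localization.Away a) b) := by
    intro b
    simp only [Localization.awayMap, IsLocalization.Away.map, IsLocalization.map_eq]
  have g_mk' : ∀ (b : A) (s : Submonoid.powers π),
      Localization.awayMap (algebraMap A (Localization.Away a)) π
          (IsLocalization.mk' (Localization.Away π) b s) =
        IsLocalization.mk' (Localization.Away (algebraMap A (Localization.Away a) π))
          (algebraMap A (Localization.Away a) b)
          (⟨algebraMap A (Localization.Away a) s, by
              obtain ⟨s, n, rfl⟩ := s; exact ⟨n, by simp⟩⟩ :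
            Submonoid.powers (algebraMap A (Localization.Away a) π)) := by
    intro b s
    simp only [Localization.awayMap, IsLocalization.Away.map, IsLocalization.map_mk']
  have ψ_alg : ∀ b : A, ψ (algebraMap A (BlowUp.affineAlgebra A I π) b) =
      algebraMap (Localization.Away a) (BlowUp.affineAlgebra (Localization.Away a)
        (I.map (algebraMap A (Localization.Away a))) (algebraMap A (Localization.Away a) π))
        (algebraMap A (Localization.Away a) b) := by
    intro b
    apply Subtype.ext
    rw [hψ]
    exact g_alg b
  letI := ψ.toAlgebra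
  have halg : ∀ x, algebraMap (BlowUp.affineAlgebra A I π) (BlowUp.affineAlgebra (Localization.Away a)
        (I.map (algebraMap A (Localization.Away a))) (algebraMap A (Localization.Away a) π)) x = ψ x :=
    fun x => rfl
  apply IsLocalization.Away.mk
  · -- unit
    rw [halg, ψ_alg]
    exact (IsLocalization.Away.algebraMap_isUnit a).map _
  · -- surjectivity
    rintro ⟨y, hy⟩
    simp only [halg, ψ_alg]
    suffices h : ∃ (n : ℕ) (x : BlowUp.affineAlgebra A I π),
        y * (algebraMap (Localization.Away a) (Localization.Away (algebraMap A (Localization.Away a) π))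
          (algebraMap A (Localization.Away a) a)) ^ n =
        ((ψ x : BlowUp.affineAlgebra (Localization.Away a) (I.map (algebraMap A (Localization.Away a)))
          (algebraMap A (Localization.Away a) π)) :
          Localization.Away (algebraMap A (Localization.Away a) π)) by
      obtain ⟨n, x, hx⟩ := h
      exact ⟨n, x, Subtype.ext hx⟩
    induction hy using Algebra.adjoin_induction with
    | mem q hq' =>
      obtain ⟨y₀, hy₀, rfl⟩ := hq'
      rw [IsLocalization.mem_map_algebraMap_iff (Submonoid.powers a)] at hy₀
      obtain ⟨⟨⟨i, hi⟩, ⟨s, n, rfl⟩⟩, h⟩ := hy₀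
      refine ⟨n, ⟨IsLocalization.mk' (Localization.Away π) i ⟨π, Submonoid.mem_powers π⟩,
        Algebra.subset_adjoin ⟨i, hi, rfl⟩⟩, ?_⟩
      rw [hψ]
      change _ = Localization.awayMap (algebraMap A (Localization.Away a)) π
        (IsLocalization.mk' (Localization.Away π) i ⟨π, Submonoid.mem_powers π⟩)
      rw [g_mk']
      simp only at h
      rw [← h, mul_comm y₀, ← IsLocalization.mul_mk'_eq_mk'_of_mul, map_pow, map_pow, mul_comm]
    | algebraMap l =>
      obtain ⟨⟨b, ⟨s, n, rfl⟩⟩, hb⟩ := IsLocalization.surj (Submonoid.powers a) l
      simp only at hb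
      refine ⟨n, algebraMap A _ b, ?_⟩
      rw [ψ_alg, ← hb, map_mul, map_pow, map_pow]
      rfl
    | add y₁ y₂ _ _ h₁ h₂ =>
      obtain ⟨n₁, x₁, e₁⟩ := h₁
      obtain ⟨n₂, x₂, e₂⟩ := h₂
      refine ⟨n₁ + n₂, x₁ * algebraMap A _ (a ^ n₂) + x₂ * algebraMap A _ (a ^ n₁), ?_⟩
      rw [map_add, map_mul, map_mul, ψ_alg, ψ_alg]
      change _ = ((ψ x₁ : BlowUp.affineAlgebra (Localization.Away a) _ _) :
          Localization.Away (algebraMap A (Localization.Away a) π)) *
          algebraMap (Localization.Away a) _ (algebraMap A (Localization.Away a) (a ^ n₂)) +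
        ((ψ x₂ : BlowUp.affineAlgebra (Localization.Away a) _ _) :
          Localization.Away (algebraMap A (Localization.Away a) π)) *
          algebraMap (Localization.Away a) _ (algebraMap A (Localization.Away a) (a ^ n₁))
      rw [← e₁, ← e₂, map_pow, map_pow, map_pow, map_pow, pow_add]
      ring
    | mul y₁ y₂ _ _ h₁ h₂ =>
      obtain ⟨n₁, x₁, e₁⟩ := h₁
      obtain ⟨n₂, x₂, e₂⟩ := h₂
      refine ⟨n₁ + n₂, x₁ * x₂, ?_⟩
      rw [map_mul]
      change _ = ((ψ x₁ : BlowUp.affineAlgebra (Localization.Away a) _ _) :
          Localization.Away (algebraMap A (Localization.Away a) π)) *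
        ((ψ x₂ : BlowUp.affineAlgebra (Localization.Away a) _ _) :
          Localization.Away (algebraMap A (Localization.Away a) π))
      rw [← e₁, ← e₂, pow_add]
      ring
  · -- kernel
    intro x y hxy
    rw [halg, halg] at hxy
    have hz : ψ (x - y) = 0 := by rw [map_sub, hxy, sub_self]
    suffices h : ∃ n : ℕ, algebraMap A (BlowUp.affineAlgebra A I π) a ^ n * (x - y) = 0 by
      obtain ⟨n, hn⟩ := h
      exact ⟨n, by rw [mul_sub] at hn; exact sub_eq_zero.1 hn⟩
    generalize x - y = z at hz
    have hz' := congrArg Subtype.val hz
    rw [hψ] at hz'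
    obtain ⟨b, s, hbs⟩ := IsLocalization.exists_mk'_eq (Submonoid.powers π) (z : Localization.Away π)
    obtain ⟨s, m, rfl⟩ := s
    rw [← hbs, g_mk'] at hz'
    change IsLocalization.mk' _ _ _ = 0 at hz'
    rw [IsLocalization.mk'_eq_zero_iff] at hz'
    obtain ⟨⟨t, k, rfl⟩, ht⟩ := hz'
    simp only at ht
    rw [← map_pow, ← map_mul, IsLocalization.map_eq_zero_iff (Submonoid.powers a)] at ht
    obtain ⟨⟨t, n, rfl⟩, ht⟩ := ht
    simp only at ht
    refine ⟨n, ?_⟩
    apply Subtype.ext
    change (algebraMap A (Localization.Away π) a) ^ n * (z : Localization.Away π) = 0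
    rw [← hbs, ← map_pow, IsLocalization.mul_mk'_eq_mk'_of_mul, IsLocalization.mk'_eq_zero_iff]
    refine ⟨⟨π ^ k, k, rfl⟩, ?_⟩
    simp only
    rw [← ht]
    ring

end Groth.Agent.S12096
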