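import Groth.Statements.S12097
-- import your own Groth.Agent.* helpers here

set_option autoImplicit false
universe u
open BlowUp

namespace Groth.Agent.S12097

/-- Néron's blowup is compatible with closed immersions. For a surjective ring map `B → A` with kernel
`J`, an ideal `I ⊆ B` containing `π`, and the affine blowup algebras `B' = B[I/π] ⊆ B_π`, `A' =
A[IA/π] ⊆ A_π`, the canonical map `B' → A'` (the restriction of `B_π → A_π`, given as a datum with
that compatibility) is surjective with kernel the elements `x` such that `π^n x ∈ J B'` for some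
`n`: `A'` is the quotient of `B'/JB'` by its `π`-power torsion. In Néron's situation (`I` the
inverse image of the maximal ideal of `Λ`, `π` a uniformizer) this is the printed functoriality; the
identity holds for any surjection. -/
theorem result (B A : Type u) [CommRing B] [CommRing A] [Algebra B A]
    (hq : Function.Surjective (algebraMap B A)) (I : Ideal B) (π : B) (hπ : π ∈ I)
    (ψ : BlowUp.affineAlgebra B I π →+* BlowUp.affineAlgebra A (I.map (algebraMap B A)) (algebraMap B A π))
    (hψ : ∀ x : BlowUp.affineAlgebra B I π,
      ((ψ x : BlowUp.affineAlgebra A (I.map (algebraMap B A)) (algebraMap B A π)) : Localization.Away (algebraMap B A π)) =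
        Localization.awayMap (algebraMap B A) π (x : Localization.Away π)) :
    Function.Surjective ψ ∧
      ∀ x : BlowUp.affineAlgebra B I π, x ∈ RingHom.ker ψ ↔
        ∃ n : ℕ, algebraMap B (BlowUp.affineAlgebra B I π) π ^ n * x ∈
          (RingHom.ker (algebraMap B A)).map (algebraMap B (BlowUp.affineAlgebra B I π)) := by
  classical
  have hg : Localization.awayMap (algebraMap B A) π = Localization.awayMap (algebraMap B A) π := rfl
  have g_alg : ∀ b : B, Localization.awayMap (algebraMap B A) π (algebraMap B (Localization.Away π) b) =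
      algebraMap A (Localization.Away (algebraMap B A π)) (algebraMap B A b) := by
    intro b
    simp only [Localization.awayMap, IsLocalization.Away.map, IsLocalization.map_eq]
  have g_mk' : ∀ (b : B) (s : Submonoid.powers π),
      Localization.awayMap (algebraMap B A) π (IsLocalization.mk' (Localization.Away π) b s) =
        IsLocalization.mk' (Localization.Away (algebraMap B A π)) (algebraMap B A b)
          (⟨algebraMap B A s, by obtain ⟨s, n, rfl⟩ := s; exact ⟨n, by simp⟩⟩ :
            Submonoid.powers (algebraMap B A π)) := by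
    intro b s
    simp only [Localization.awayMap, IsLocalization.Away.map, IsLocalization.map_mk']
  have ψ_alg : ∀ b : B, ψ (algebraMap B (BlowUp.affineAlgebra B I π) b) =
      algebraMap A (BlowUp.affineAlgebra A (I.map (algebraMap B A)) (algebraMap B A π))
        (algebraMap B A b) := by
    intro b
    apply Subtype.ext
    rw [hψ]
    exact g_alg b
  have ψ_zero_iff : ∀ x : BlowUp.affineAlgebra B I π,
      ψ x = 0 ↔ Localization.awayMap (algebraMap B A) π (x : Localization.Away π) = 0 := by
    intro x
    rw [← hψ]
    constructor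
    · intro h; rw [h]; rfl
    · intro h; exact Subtype.ext h
  refine ⟨?_, ?_⟩
  · -- surjectivity
    rintro ⟨y, hy⟩
    suffices h : ∃ x : BlowUp.affineAlgebra B I π,
        ((ψ x : BlowUp.affineAlgebra A (I.map (algebraMap B A)) (algebraMap B A π)) :
          Localization.Away (algebraMap B A π)) = y by
      obtain ⟨x, hx⟩ := h
      exact ⟨x, Subtype.ext hx⟩
    induction hy using Algebra.adjoin_induction with
    | mem q hq' =>
      obtain ⟨y₀, hy₀, rfl⟩ := hq'
      rw [Ideal.mem_map_iff_of_surjective _ hq] at hy₀
      obtain ⟨x₀, hx₀, rfl⟩ := hy₀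
      refine ⟨⟨IsLocalization.mk' (Localization.Away π) x₀ ⟨π, Submonoid.mem_powers π⟩,
        Algebra.subset_adjoin ⟨x₀, hx₀, rfl⟩⟩, ?_⟩
      rw [hψ]
      exact g_mk' x₀ ⟨π, Submonoid.mem_powers π⟩
    | algebraMap a =>
      obtain ⟨b, rfl⟩ := hq a
      refine ⟨algebraMap B _ b, ?_⟩
      rw [ψ_alg]
      rfl
    | add y₁ y₂ _ _ h₁ h₂ =>
      obtain ⟨x₁, rfl⟩ := h₁
      obtain ⟨x₂, rfl⟩ := h₂
      exact ⟨x₁ + x₂, by rw [map_add]; rfl⟩
    | mul y₁ y₂ _ _ h₁ h₂ =>
      obtain ⟨x₁, rfl⟩ := h₁
      obtain ⟨x₂, rfl⟩ := h₂
      exact ⟨x₁ * x₂, by rw [map_mul]; rfl⟩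
  · intro x
    rw [RingHom.mem_ker]
    constructor
    · intro hx
      rw [ψ_zero_iff] at hx
      obtain ⟨b, s, hbs⟩ := IsLocalization.exists_mk'_eq (Submonoid.powers π) (x : Localization.Away π)
      obtain ⟨s, m, rfl⟩ := s
      rw [← hbs, g_mk', IsLocalization.mk'_eq_zero_iff] at hx
      obtain ⟨⟨t, k, rfl⟩, ht⟩ := hx
      have hJ : π ^ k * b ∈ RingHom.ker (algebraMap B A) := by
        rw [RingHom.mem_ker, map_mul, map_pow]
        exact ht
      refine ⟨k + m, ?_⟩
      have : algebraMap B (BlowUp.affineAlgebra B I π) π ^ (k + m) * x =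
          algebraMap B (BlowUp.affineAlgebra B I π) (π ^ k * b) := by
        apply Subtype.ext
        change (algebraMap B (Localization.Away π) π) ^ (k + m) * (x : Localization.Away π) =
          algebraMap B (Localization.Away π) (π ^ k * b)
        rw [← hbs, map_mul, map_pow, pow_add, mul_assoc]
        congr 1
        rw [← map_pow]
        exact IsLocalization.mk'_spec' (Localization.Away π) b
          (⟨π ^ m, m, rfl⟩ : Submonoid.powers π)
      rw [this]
      exact Ideal.mem_map_of_mem _ hJ
    · rintro ⟨n, hn⟩
      have hle : (RingHom.ker (algebraMap B A)).map (algebraMap B (BlowUp.affineAlgebra B I π)) ≤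
          RingHom.ker ψ := by
        rw [Ideal.map_le_iff_le_comap]
        intro j hj
        rw [Ideal.mem_comap, RingHom.mem_ker, ψ_alg, (RingHom.mem_ker).1 hj, map_zero]
      have h1 := hle hn
      rw [RingHom.mem_ker, map_mul, map_pow, ψ_alg] at h1
      have h2 : IsUnit (algebraMap A (Localization.Away (algebraMap B A π)) (algebraMap B A π)) :=
        IsLocalization.Away.algebraMap_isUnit (algebraMap B A π)
      have h3 := congrArg (Subtype.val) h1
      change (algebraMap A (Localization.Away (algebraMap B A π)) (algebraMap B A π)) ^ n *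
        ((ψ x : BlowUp.affineAlgebra A (I.map (algebraMap B A)) (algebraMap B A π)) :
          Localization.Away (algebraMap B A π)) = 0 at h3
      apply Subtype.ext
      exact ((h2.pow n).mul_right_eq_zero).1 h3

end Groth.Agent.S12097
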