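import Groth.Statements.S12098
import Groth.Agent.Lib.Helper32.ConeTrivial

set_option autoImplicit false
universe u
open CategoryTheory CategoryTheory.Limits
attribute [local instance] HasDerivedCategory.standard
open DRing

namespace Groth.Agent.S12098

/-- Let `p ⊆ R` be a prime and `M•`, `N•` bounded complexes whose terms are finite projective
`R`-modules and which are isomorphic in `D(R)`. Then for some `f ∉ p` the localized complexes `M•_f`
and `N•_f` become isomorphic once a finite direct sum of trivial complexes is added to each: `M•_f ⊕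
P•` and `N•_f ⊕ Q•` are isomorphic as complexes, with `P•`, `Q•` finite direct sums of copies of `0
→ R_f = R_f → 0` (placed in arbitrary degrees), expressed here as: bounded, with finite free terms
and free boundary modules, and with null-homotopic identity. -/
theorem result (R : Type u) [CommRing R] (p : Ideal R) [p.IsPrime]
    (M N : DRing.Cx R) (a b : ℤ) (hM : DRing.VanishesOutside M a b) (hN : DRing.VanishesOutside N a b)
    (hMp : DRing.TermwiseFiniteProjective M) (hNp : DRing.TermwiseFiniteProjective N)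
    (h : Nonempty (DRing.toD M ≅ DRing.toD N)) :
    ∃ f : R, f ∉ p ∧ ∃ P Q : DRing.Cx (Localization.Away f),
      ((∃ a' b' : ℤ, DRing.VanishesOutside P a' b') ∧ DRing.TermwiseFiniteFree P ∧
          (∀ i : ℤ, Module.Free (Localization.Away f) (LinearMap.range (P.d i (i + 1)).hom)) ∧ Nonempty (Homotopy (𝟙 P) 0)) ∧
      ((∃ a' b' : ℤ, DRing.VanishesOutside Q a' b') ∧ DRing.TermwiseFiniteFree Q ∧
          (∀ i : ℤ, Module.Free (Localization.Away f) (LinearMap.range (Q.d i (i + 1)).hom)) ∧ Nonempty (Homotopy (𝟙 Q) 0)) ∧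
      Nonempty ((((ModuleCat.extendScalars (algebraMap R (Localization.Away f))).mapHomologicalComplex (ComplexShape.up ℤ)).obj M) ⊞ P ≅ (((ModuleCat.extendScalars (algebraMap R (Localization.Away f))).mapHomologicalComplex (ComplexShape.up ℤ)).obj N) ⊞ Q) := by
  classical
  open Groth.Agent.Lib.Helper12 Groth.Agent.Lib.Helper32.ConeSplit
    Groth.Agent.Lib.Helper32.LocFreeFam Groth.Agent.Lib.Helper32.ConeTrivial in
  obtain ⟨e⟩ := h
  obtain ⟨φ, ψ, ⟨H⟩, hφ⟩ := exists_homotopyEquiv_of_iso M N b (fun i hi => hM i (Or.inr hi))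
    (fun i hi => hN i (Or.inr hi)) (fun i => (hMp i).2) (fun i => (hNp i).2) e
  obtain ⟨s₁⟩ := contractible_Cn φ ψ H hφ
  have s₂ := cnIdHomotopy M
  obtain ⟨r₁, hr₁, hX₁, hB₁⟩ := exists_freeAbove_complex (Cn φ) p (a - 1) b
    (Cn_vanishes φ a b hM hN) (Cn_fp φ hMp hNp) s₁
  obtain ⟨r₂, hr₂, hX₂, hB₂⟩ := exists_freeAbove_complex (Cn (𝟙 M)) p (a - 1) b
    (Cn_vanishes (𝟙 M) a b hM hM) (Cn_fp (𝟙 M) hMp hMp) s₂
  refine ⟨r₁ * r₂, fun h => (‹p.IsPrime›.mem_or_mem h).elim hr₁ hr₂,
    ((extSc R (Localization.Away (r₁ * r₂))).mapHomologicalComplex (ComplexShape.up ℤ)).obj (Cn φ),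
    ((extSc R (Localization.Away (r₁ * r₂))).mapHomologicalComplex (ComplexShape.up ℤ)).obj
      (Cn (𝟙 M)), ?_, ?_, ⟨?_⟩⟩
  · exact trivial_extSc (Cn φ) (a - 1) b (Cn_vanishes φ a b hM hN)
      (fun i => ((Cn_fp φ hMp hNp) i).1) s₁ (fun i => hX₁ i _ (dvd_mul_right _ _))
      (fun i => hB₁ i _ (dvd_mul_right _ _))
  · exact trivial_extSc (Cn (𝟙 M)) (a - 1) b (Cn_vanishes (𝟙 M) a b hM hM)
      (fun i => ((Cn_fp (𝟙 M) hMp hMp) i).1) s₂ (fun i => hX₂ i _ (dvd_mul_left _ _))
      (fun i => hB₂ i _ (dvd_mul_left _ _))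
  · haveI : PreservesBinaryBiproducts ((extSc R (Localization.Away (r₁ * r₂))).mapHomologicalComplex
        (ComplexShape.up ℤ)) := preservesBinaryBiproducts_of_preservesBiproducts _
    exact (((extSc R (Localization.Away (r₁ * r₂))).mapHomologicalComplex
        (ComplexShape.up ℤ)).mapBiprod M (Cn φ)).symm ≪≫
      ((extSc R (Localization.Away (r₁ * r₂))).mapHomologicalComplex
        (ComplexShape.up ℤ)).mapIso (biprodIso φ ψ H) ≪≫
      ((extSc R (Localization.Away (r₁ * r₂))).mapHomologicalComplex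
        (ComplexShape.up ℤ)).mapBiprod N (Cn (𝟙 M))

end Groth.Agent.S12098
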