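import Groth.Statements.S12099
import Mathlib.CategoryTheory.Abelian.Refinements
-- import your own Groth.Agent.* helpers here

set_option autoImplicit false
universe v u
open CategoryTheory CategoryTheory.Limits
open PCoh

namespace Groth.Agent.S12099

/-- Punctual site: let C be an abelian category and C₀ a strictly full additive subcategory,
quasi-liftable in C. For an exact sequence F → G → H → 0 with F of C₀-finite type and G precoherent
relative to C₀ (every morphism from a C₀-object into G has kernel of C₀-finite type), H is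
precoherent relative to C₀. -/
theorem result {C : Type u} [Category.{v} C] [Abelian C]
    (P : ObjectProperty C) [P.IsClosedUnderIsomorphisms] [P.ContainsZero] (hsum : ∀ X Y : C, P X → P Y → P (X ⨯ Y))
    (hql : PCoh.IsQuasiLiftable P)
    (S : ShortComplex C) (hS : S.Exact) (hg : Epi S.g)
    (hF : PCoh.IsOfFiniteType P S.X₁) (hG : ∀ (E : C) (u : E ⟶ S.X₂), P E → PCoh.IsOfFiniteType P (kernel u)) :
    ∀ (E : C) (u : E ⟶ S.X₃), P E → PCoh.IsOfFiniteType P (kernel u) := by
  intro E u hE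
  haveI := hg
  -- Step 1/2: quasi-lift the epi pullback.fst
  haveI : Epi (pullback.fst u S.g) := inferInstance
  obtain ⟨E', v, hE', hv⟩ := hql (pullback u S.g) E (pullback.fst u S.g) inferInstance hE
  set p : E' ⟶ E := v ≫ pullback.fst u S.g with hp
  set w : E' ⟶ S.X₂ := v ≫ pullback.snd u S.g with hw
  have hpw : p ≫ u = w ≫ S.g := by
    simp only [hp, hw, Category.assoc, pullback.condition]
  -- Step 3: finite type of X₁
  obtain ⟨F₀, π₀, hF₀, hπ₀⟩ := hF
  let φ : E' ⨯ F₀ ⟶ S.X₂ := prod.fst ≫ w - prod.snd ≫ π₀ ≫ S.f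
  -- Step 4
  obtain ⟨E'', ρ, hE'', hρ⟩ := hG (E' ⨯ F₀) φ (hsum _ _ hE' hF₀)
  -- Step 5
  have hzero : (kernel.ι φ ≫ prod.fst ≫ p) ≫ u = 0 := by
    have h1 : kernel.ι φ ≫ φ = 0 := kernel.condition φ
    have h2 : prod.fst ≫ w = φ + prod.snd ≫ π₀ ≫ S.f := by simp [φ]
    rw [Category.assoc, Category.assoc, hpw, ← Category.assoc prod.fst, h2]
    simp only [Preadditive.add_comp, Preadditive.comp_add, Category.assoc, S.zero, comp_zero,
      add_zero]
    rw [← Category.assoc, h1, zero_comp]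
  let κ : kernel φ ⟶ kernel u := kernel.lift u (kernel.ι φ ≫ prod.fst ≫ p) hzero
  have hκ : Epi κ := by
    rw [epi_iff_surjective_up_to_refinements]
    intro A y
    have he : (y ≫ kernel.ι u) ≫ u = 0 := by rw [Category.assoc, kernel.condition, comp_zero]
    obtain ⟨A₁, π₁, hπ₁, e', fac₁⟩ := surjective_up_to_refinements_of_epi p (y ≫ kernel.ι u)
    have h2 : (e' ≫ w) ≫ S.g = 0 := by
      rw [Category.assoc, ← hpw, ← Category.assoc, ← fac₁, Category.assoc, he, comp_zero]
    obtain ⟨A₂, π₂, hπ₂, x₁, fac₂⟩ := hS.exact_up_to_refinements (e' ≫ w) h2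
    obtain ⟨A₃, π₃, hπ₃, t, fac₃⟩ := surjective_up_to_refinements_of_epi π₀ x₁
    have hk : prod.lift (π₃ ≫ π₂ ≫ e') t ≫ φ = 0 := by
      simp only [φ, Preadditive.comp_sub, prod.lift_fst_assoc, prod.lift_snd_assoc, Category.assoc]
      rw [fac₂, ← Category.assoc t, ← fac₃, Category.assoc, sub_self]
    refine ⟨A₃, π₃ ≫ π₂ ≫ π₁, inferInstance, kernel.lift φ _ hk, ?_⟩
    rw [← cancel_mono (kernel.ι u)]
    simp only [κ, Category.assoc, kernel.lift_ι, kernel.lift_ι_assoc, prod.lift_fst_assoc]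
    rw [fac₁]
  exact ⟨E'', ρ ≫ κ, hE'', epi_comp _ _⟩

end Groth.Agent.S12099
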