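import Groth.Statements.S12105
import Groth.Agent.Lib.Helper34.PshCohSS
-- import your own Groth.Agent.* helpers here

set_option autoImplicit false
universe u
open CategoryTheory
open CohSite

namespace Groth.Agent.S12105

open CategoryTheory.Limits in
/-- On a small site (C, J), for a presheaf of sets R on C and an abelian sheaf M there is a bounded E_2
spectral sequence of abelian groups with E_2^{p,q} isomorphic to H^p(R, H^q(M)) — the cohomology, in
the topos of presheaves (sheaves for the trivial topology), of the presheaf V ↦ H^q(V, M) with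
respect to R, i.e. the p-th Ext out of the free abelian presheaf on R — for p, q ≥ 0 and zero
otherwise, with abutment data whose filtrations are finite on H^n(aR, M), the cohomology of M with
respect to the sheaf of sets associated to R (n ≥ 0; zero for n < 0). The E_2 identifications and
abutment isomorphisms are asserted to exist only, not pinned to the canonical maps, so edge maps and
functoriality in R and M are not part of this statement. -/
theorem result {C : Type u} [SmallCategory C]
    (J : GrothendieckTopology C) (R : Cᵒᵖ ⥤ Type u) (M : Sheaf J AddCommGrpCat.{u}) :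
    ∃ (E : E₂CohomologicalSpectralSequence AddCommGrpCat.{u})
      (a : SpSeq.Abutment E (fun n : ℤ =>
        if 0 ≤ n then AddCommGrpCat.of (CohCx.HK ((presheafToSheaf J (Type u)).obj R) M n.toNat)
        else AddCommGrpCat.of PUnit.{u + 1})),
      (∀ n, a.IsFinite n) ∧ SpSeq.IsBounded E ∧
      ∀ p q : ℤ, Nonempty ((E.page 2 le_rfl).X (p, q) ≅
        (if 0 ≤ p ∧ 0 ≤ q then
          AddCommGrpCat.of (CohCx.HK (J := (⊥ : GrothendieckTopology C)) ⟨R, Presheaf.isSheaf_bot _⟩
            ⟨M.cohomologyPresheaf q.toNat, Presheaf.isSheaf_bot _⟩ p.toNat)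
         else AddCommGrpCat.of PUnit.{u + 1})) := by
  classical
  let S : Sheaf (⊥ : GrothendieckTopology C) AddCommGrpCat.{u} ⥤ AddCommGrpCat.{u} :=
    preadditiveCoyoneda.obj (Opposite.op (Groth.Agent.Lib.Helper34.PshCohSS.PBot R))
  have hT : ∀ Q : Sheaf J AddCommGrpCat.{u}, Injective Q → ∀ q : ℕ, 0 < q →
      IsZero ((S.rightDerived q).obj ((Groth.Agent.Lib.Helper34.PshCohSS.T J).obj Q)) := by
    intro Q hQ q hq
    obtain ⟨k, rfl⟩ := Nat.exists_eq_succ_of_ne_zero hq.ne'
    have := Groth.Agent.Lib.Helper34.PshCohSS.injective_T_obj J Q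
    exact S.isZero_rightDerived_obj_injective_succ k _
  refine Groth.Agent.Lib.Helper34.SS.grothendieck_spectralSequence_flex
    (Groth.Agent.Lib.Helper34.PshCohSS.T J) S hT M _ _ ?_ ?_ ?_ ?_
  · intro n
    rw [if_pos (Int.natCast_nonneg n), Int.toNat_natCast]
    obtain ⟨e⟩ := Groth.Agent.Lib.Helper34.LocCohSS.nonempty_ext_iso_rightDerived_coyoneda
      (Groth.Agent.Lib.Helper34.PshCohSS.PJ J R) M n
    exact ⟨e ≪≫ (Groth.Agent.Lib.Helper34.SS.rightDerivedIsoOfIso
      (Groth.Agent.Lib.Helper34.PshCohSS.coyonedaIso J R) n).app M⟩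
  · intro n hn
    rw [if_neg (by lia)]
    exact AddCommGrpCat.isZero_of_subsingleton _
  · intro p q
    rw [if_pos ⟨Int.natCast_nonneg p, Int.natCast_nonneg q⟩, Int.toNat_natCast, Int.toNat_natCast]
    obtain ⟨e1⟩ := Groth.Agent.Lib.Helper34.LocCohSS.nonempty_ext_iso_rightDerived_coyoneda
      (Groth.Agent.Lib.Helper34.PshCohSS.PBot R)
      (⟨M.cohomologyPresheaf q, Presheaf.isSheaf_bot _⟩ :
        Sheaf (⊥ : GrothendieckTopology C) AddCommGrpCat.{u}) p
    obtain ⟨e2⟩ := Groth.Agent.Lib.Helper34.PshCohSS.nonempty_rightDerived_T_iso J q M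
    exact ⟨e1 ≪≫ (S.rightDerived p).mapIso e2.symm⟩
  · intro p q h
    rw [if_neg h]
    exact AddCommGrpCat.isZero_of_subsingleton _

end Groth.Agent.S12105
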