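import Groth.Statements.S12119
import Groth.Agent.Lib.Helper8.FlatCx9

set_option autoImplicit false
universe u
open FlatCx
open Groth.Agent.Lib.Helper8 Groth.Agent.Lib.Helper8.FlatCx

namespace Groth.Agent.S12119

open CategoryTheory CategoryTheory.Limits in
/-- Let A be a commutative Artinian local ring with residue field k, P a chain complex of flat A-modules
(terms not necessarily finitely generated), T_i(M) = H_i(P ⊗_A M), and suppose T_p(k) has finite
length d. If length T_p(A) = d · length A (lengths in ℕ∞), then T_p(A) → T_p(k), induced by the
projection A → k, is surjective and T_p(A) is a flat A-module. -/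
theorem result {A : Type u} [CommRing A] [IsArtinianRing A]
    [IsLocalRing A] (P : ChainComplex (ModuleCat.{u} A) ℤ) (hP : ∀ i, Module.Flat A (P.X i)) (p : ℤ)
    (hd : Module.length A (CohIII.T P p (ModuleCat.of A (IsLocalRing.ResidueField A))) ≠ ⊤)
    (hj : Module.length A (CohIII.T P p (ModuleCat.of A A)) =
      Module.length A (CohIII.T P p (ModuleCat.of A (IsLocalRing.ResidueField A))) * Module.length A A) :
    Function.Surjective ((CohIII.TFun P p).map
        (ModuleCat.ofHom (Algebra.linearMap A (IsLocalRing.ResidueField A)))).hom ∧
      Module.Flat A (CohIII.T P p (ModuleCat.of A A)) := by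
  obtain ⟨hi, hs⟩ := injective_surjective_of_length_eq P hP p hd hj
  refine ⟨hs, ?_⟩
  -- opcycles are free
  have H1 := injective_lTensor_opcycles_of_mono P hP p
    (LinearMap.ker (Algebra.linearMap A (IsLocalRing.ResidueField A))).subtype
    (Submodule.subtype_injective _) ((ModuleCat.mono_iff_injective _).mpr hi)
  have hfree1 : Module.Free A (P.opcycles p) :=
    NilLocal.free_of_lTensor_injective_of_isArtinianRing _ _ ker_residue_eq H1
  have H2 := injective_lTensor_opcycles_of_surjective P hP p (p - 1) (by ring)
    (Algebra.linearMap A (IsLocalRing.ResidueField A)) IsLocalRing.residue_surjective hs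
  have hfree2 : Module.Free A (P.opcycles (p - 1)) :=
    NilLocal.free_of_lTensor_injective_of_isArtinianRing _ _ ker_residue_eq H2
  have hflat := hP (p - 1)
  have hfree3 : Module.Free A (P.X (p - 1)) :=
    NilLocal.free_of_lTensor_injective_of_isArtinianRing _ _ ker_residue_eq
      (Module.Flat.lTensor_preserves_injective_linearMap _ (Submodule.subtype_injective _))
  have p1 : Module.Projective A ((CohIII.tensorObj P (ModuleCat.of A A)).opcycles p) :=
    Module.Projective.of_equiv (opcyclesTensorUnitEquiv P p).symm
  have p2 : Module.Projective A ((CohIII.tensorObj P (ModuleCat.of A A)).opcycles (p - 1)) :=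
    Module.Projective.of_equiv (opcyclesTensorUnitEquiv P (p - 1)).symm
  have p3 : Module.Projective A ((CohIII.tensorObj P (ModuleCat.of A A)).X (p - 1)) :=
    Module.Projective.of_equiv (XTensorUnitEquiv P (p - 1)).symm
  have := projective_homology (CohIII.tensorObj P (ModuleCat.of A A)) p
  infer_instance

end Groth.Agent.S12119
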