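import Groth.Statements.S1212
import Groth.Agent.Lib.Helper54.BassFibre

set_option autoImplicit false
universe u
open FlatMor

namespace Groth.Agent.S1212

open TensorProduct IsLocalRing in
/-- Let R be a local ring, S an R-algebra and N an S-module which is projective as an R-module, such
that the closed fibre ring of S is Noetherian and the closed fibre module of N is finite over it.
Then every prime q of S, over p in R, which is an associated prime (the annihilator of an element)
of the S-module N ⊗_R κ(p) satisfies q + 𝔪_R S ≠ S. -/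
theorem result {R S : Type u} [CommRing R] [IsLocalRing R] [CommRing S] [Algebra R S]
    (N : Type u) [AddCommGroup N] [Module S N] [Module R N] [IsScalarTower R S N] [Module.Projective R N]
    [IsNoetherianRing ((maximalIdeal R).Fiber S)]
    [Module.Finite ((maximalIdeal R).Fiber S) (FlatCA.fiberMod (maximalIdeal R) S N)]
    (p : Ideal R) [p.IsPrime] (q : Ideal S) [q.IsPrime] [q.LiesOver p]
    (hq : q ∈ FlatCA.ass S (N ⊗[R] p.ResidueField)) :
    q ⊔ (maximalIdeal R).map (algebraMap R S) ≠ ⊤ := by
  classical
  intro htop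
  obtain ⟨hqprime, x, hx⟩ := hq
  have hx0 : x ≠ 0 := by
    intro h0
    apply hqprime.ne_top
    rw [hx, h0, Submodule.span_zero_singleton, Submodule.annihilator_bot]
  have h1 : (1 : S) ∈ q ⊔ (maximalIdeal R).map (algebraMap R S) := htop ▸ Submodule.mem_top
  obtain ⟨g, hg, h, hh, hgh⟩ := Submodule.mem_sup.mp h1
  have hgx : g • x = 0 := by
    have : g ∈ (Submodule.span S {x}).annihilator := hx ▸ hg
    exact (Submodule.mem_annihilator_span_singleton x g).mp this
  -- elements of `𝔪 S` map `N` into `𝔪 N`
  have hmap : ∀ h ∈ (maximalIdeal R).map (algebraMap R S), ∀ y : N,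
      h • y ∈ (maximalIdeal R • ⊤ : Submodule R N) := by
    intro h hh
    refine Submodule.span_induction (p := fun h _ => ∀ y : N,
      h • y ∈ (maximalIdeal R • ⊤ : Submodule R N)) ?_ ?_ ?_ ?_ hh
    · rintro _ ⟨a, ha, rfl⟩ y
      rw [algebraMap_smul]
      exact Submodule.smul_mem_smul ha Submodule.mem_top
    · intro y
      rw [zero_smul]
      exact Submodule.zero_mem _
    · intro a b _ _ ha hb y
      rw [add_smul]
      exact Submodule.add_mem _ (ha y) (hb y)
    · intro t a _ ha y
      rw [smul_eq_mul, mul_comm, mul_smul]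
      exact ha (t • y)
  obtain ⟨r, hr, n, hrn⟩ := Groth.Agent.Lib.Helper54.Bass.exists_smul_eq_tmul_one N p x
  obtain ⟨s, hs⟩ := (Module.projective_def' (R := R) (P := N)).mp inferInstance
  let G : N →ₗ[R] N := DistribMulAction.toLinearMap R N g
  have hGn : (G n) ⊗ₜ[R] (1 : p.ResidueField) = 0 := by
    show (g • n) ⊗ₜ[R] (1 : p.ResidueField) = 0
    rw [← TensorProduct.smul_tmul', ← hrn, smul_comm, hgx, smul_zero]
  have hG : ∀ y, y - G y ∈ (maximalIdeal R • ⊤ : Submodule R N) := by
    intro y
    have e : y - G y = h • y := by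
      show y - g • y = h • y
      have : h = 1 - g := by rw [← hgh]; ring
      rw [this, sub_smul, one_smul]
    rw [e]
    exact hmap h hh y
  have hcoord : ∀ i, s n i ∈ p :=
    Groth.Agent.Lib.Helper54.Bass.coord_mem_of_coord_map_mem s _ hs (maximalIdeal R)
      (maximalIdeal_le_jacobson ⊥) G hG p n
      (fun i => Groth.Agent.Lib.Helper54.Bass.coord_mem_of_tmul_one_eq_zero N p s hGn i)
  have hn : n ∈ (p • ⊤ : Submodule R N) :=
    Groth.Agent.Lib.Helper54.Bass.mem_smul_top_of_coord_mem s _ hs p n hcoord
  have hn0 := Groth.Agent.Lib.Helper54.Bass.tmul_one_eq_zero_of_mem_smul_top N p hn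
  rw [← hrn] at hn0
  exact hx0 (Groth.Agent.Lib.Helper54.Bass.eq_zero_of_smul_eq_zero_residueField N p r hr x hn0)

end Groth.Agent.S1212
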