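import Groth.Statements.S12135
import Mathlib.AlgebraicGeometry.Properties

set_option autoImplicit false
universe u
open EGA41

namespace Groth.Agent.S12135

open Topology Filter

section Top

variable {X Y : Type*} [TopologicalSpace X] [TopologicalSpace Y]

/-- The constructible topology is finer than the original topology of a prespectral space. -/
theorem constructibleTopology_le [PrespectralSpace X] :
    constructibleTopology X ≤ (inferInstance : TopologicalSpace X) := by
  intro s hs
  obtain ⟨S, hS, rfl⟩ := (PrespectralSpace.isTopologicalBasis (X := X)).open_eq_sUnion hs
  exact @isOpen_sUnion _ (constructibleTopology X) _ fun t ht =>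
    (hS ht).2.isOpen_constructibleTopology_of_isOpen (hS ht).1

/-- The constructible topology of a T0 prespectral space is Hausdorff. -/
theorem t2Space_constructibleTopology [T0Space X] [PrespectralSpace X] :
    @T2Space X (constructibleTopology X) := by
  letI : TopologicalSpace X := inferInstance
  refine @T2Space.mk X (constructibleTopology X) ?_
  intro x y hxy
  obtain ⟨U, hU, hxU⟩ := exists_isOpen_xor'_mem hxy
  have key : ∀ a b : X, a ∈ U → b ∉ U → ∃ u v, IsOpen[constructibleTopology X] u ∧
      IsOpen[constructibleTopology X] v ∧ a ∈ u ∧ b ∈ v ∧ Disjoint u v := by
    intro a b ha hb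
    obtain ⟨V, ⟨hVo, hVc⟩, haV, hVU⟩ :=
      (PrespectralSpace.isTopologicalBasis (X := X)).exists_subset_of_mem_open ha hU
    refine ⟨V, Vᶜ, hVc.isOpen_constructibleTopology_of_isOpen hVo,
      IsCompact.isOpen_constructibleTopology_of_isClosed (by simpa using hVc)
        hVo.isClosed_compl, haV, fun h => hb (hVU h), disjoint_compl_right⟩
  rcases hxU with ⟨hx, hy⟩ | ⟨hy, hx⟩
  · exact key x y hx hy
  · obtain ⟨u, v, hu, hv, hyu, hxv, huv⟩ := key y x hy hx
    exact ⟨v, u, hv, hu, hxv, hyu, huv.symm⟩

/-- A map for which preimages of compact opens are compact (and open) is continuous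
for the constructible topologies. -/
theorem continuous_constructibleTopology {f : X → Y} (hf : Continuous f)
    (hc : ∀ U : Set Y, IsOpen U → IsCompact U → IsCompact (f ⁻¹' U)) :
    Continuous[constructibleTopology X, constructibleTopology Y] f := by
  refine continuous_generateFrom_iff.2 ?_
  rintro s (⟨hso, hsc⟩ | ⟨hsc, hsk⟩)
  · exact (hc s hso hsc).isOpen_constructibleTopology_of_isOpen (hso.preimage hf)
  · refine IsCompact.isOpen_constructibleTopology_of_isClosed ?_ (hsc.preimage hf)
    rw [← Set.preimage_compl]
    exact hc _ hsc.isOpen_compl hsk

/-- The inclusion of an open subset of a quasi-separated space is continuous for the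
constructible topologies. -/
theorem continuous_val_constructibleTopology [QuasiSeparatedSpace X] {W : Set X} (hWo : IsOpen W)
    (hWc : IsCompact W) :
    Continuous[constructibleTopology W, constructibleTopology X] (Subtype.val : W → X) := by
  refine continuous_constructibleTopology continuous_subtype_val ?_
  intro U hUo hUc
  rw [Topology.IsInducing.subtypeVal.isCompact_iff, Subtype.image_preimage_coe]
  exact hWc.inter_of_isOpen hUc hWo hUo

theorem compactSpace_constructibleTopology_of_isCompact [QuasiSober X] [PrespectralSpace X]
    [QuasiSeparatedSpace X] {W : Set X} (hWo : IsOpen W) (hWc : IsCompact W) :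
    @CompactSpace W (constructibleTopology W) := by
  have hemb : Topology.IsOpenEmbedding (Subtype.val : W → X) := hWo.isOpenEmbedding_subtypeVal
  haveI : CompactSpace W := isCompact_iff_compactSpace.mp hWc
  haveI : QuasiSober W := hemb.quasiSober
  haveI : PrespectralSpace W := hemb.prespectralSpace
  haveI : QuasiSeparatedSpace W := QuasiSeparatedSpace.of_isOpenEmbedding hemb
  have hc : CompactSpace (WithConstructibleTopology W) := inferInstance
  exact @Function.Surjective.compactSpace (WithConstructibleTopology W) W _
      (constructibleTopology W) _ (WithTopology.continuous_ofTopology _) hc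
      (WithTopology.ofTopology_surjective _)

/-- An ultrafilter containing a compact open subset converges in the constructible topology. -/
theorem exists_le_nhds_constructibleTopology [QuasiSober X] [PrespectralSpace X]
    [QuasiSeparatedSpace X] {W : Set X} (hWo : IsOpen W) (hWc : IsCompact W)
    (𝒰 : Ultrafilter X) (hW : W ∈ 𝒰) : ∃ x, (𝒰 : Filter X) ≤ @nhds X (constructibleTopology X) x := by
  have hcs := compactSpace_constructibleTopology_of_isCompact hWo hWc
  have hcont := continuous_val_constructibleTopology hWo hWc
  have hrange : Set.range (Subtype.val : W → X) ∈ 𝒰 := by simpa using hW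
  let 𝒰' : Ultrafilter W := 𝒰.comap Subtype.val_injective hrange
  obtain ⟨w, -, hw⟩ := @IsCompact.ultrafilter_le_nhds W (constructibleTopology W) Set.univ
    (@isCompact_univ W (constructibleTopology W) hcs) 𝒰' (by simp)
  refine ⟨w.1, ?_⟩
  have h1 : (𝒰 : Filter X) = Filter.map Subtype.val (𝒰' : Filter W) := by
    rw [Ultrafilter.coe_comap, Filter.map_comap_of_mem hrange]
  rw [h1]
  exact (Filter.map_mono hw).trans
    (@Continuous.tendsto _ _ (constructibleTopology W) (constructibleTopology X) _ hcont w)

/-- A compact open subset of a quasi-separated (quasi-sober, prespectral) space is compact for the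
constructible topology. -/
theorem isCompact_constructibleTopology [QuasiSober X] [PrespectralSpace X]
    [QuasiSeparatedSpace X] {W : Set X} (hWo : IsOpen W) (hWc : IsCompact W) :
    @IsCompact X (constructibleTopology X) W := by
  have hcs := compactSpace_constructibleTopology_of_isCompact hWo hWc
  have hcont := continuous_val_constructibleTopology hWo hWc
  have := @IsCompact.image W X (constructibleTopology W) (constructibleTopology X) _ _
    (@isCompact_univ W (constructibleTopology W) hcs) hcont
  simpa using this

theorem isCompact_of_isCompact_constructibleTopology [PrespectralSpace X] {s : Set X}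
    (hs : @IsCompact X (constructibleTopology X) s) : IsCompact s := by
  have := @IsCompact.image X X (constructibleTopology X) _ s id hs
    (continuous_id_of_le constructibleTopology_le)
  simpa using this

end Top

open AlgebraicGeometry

theorem forward {X Y : Scheme.{u}} [QuasiSeparatedSpace X] [QuasiSeparatedSpace Y] (f : X ⟶ Y)
    [QuasiCompact f] :
    @IsProperMap X Y (constructibleTopology X) (constructibleTopology Y) f := by
  haveI := t2Space_constructibleTopology (X := Y)
  rw [@isProperMap_iff_ultrafilter_of_t2 X Y (constructibleTopology X) (constructibleTopology Y) f _]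
  refine ⟨continuous_constructibleTopology f.continuous (QuasiCompact.isCompact_preimage (f := f)), ?_⟩
  intro 𝒰 y hy
  obtain ⟨V, ⟨hVo, hVc⟩, hyV, -⟩ :=
    (PrespectralSpace.isTopologicalBasis (X := Y)).exists_subset_of_mem_open (Set.mem_univ y)
      isOpen_univ
  have hV : V ∈ @nhds Y (constructibleTopology Y) y :=
    @IsOpen.mem_nhds Y (constructibleTopology Y) y V
      (hVc.isOpen_constructibleTopology_of_isOpen hVo) hyV
  have hW : f ⁻¹' V ∈ (𝒰 : Filter X) := hy hV
  exact exists_le_nhds_constructibleTopology (hVo.preimage f.continuous)
    (QuasiCompact.isCompact_preimage (f := f) V hVo hVc) 𝒰 hW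

theorem backward {X Y : Scheme.{u}} [QuasiSeparatedSpace X] [QuasiSeparatedSpace Y] (f : X ⟶ Y)
    (h : @IsProperMap X Y (constructibleTopology X) (constructibleTopology Y) f) :
    QuasiCompact f := by
  rw [quasiCompact_iff_forall_isAffineOpen]
  intro U hU
  have h1 : @IsCompact Y (constructibleTopology Y) (U : Set Y) :=
    isCompact_constructibleTopology U.isOpen hU.isCompact
  have h2 := @IsProperMap.isCompact_preimage X Y (constructibleTopology X)
    (constructibleTopology Y) f h _ h1
  exact isCompact_of_isCompact_constructibleTopology h2


open AlgebraicGeometry Topology in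
/-- Let f : X → Y be a morphism of schemes with X and Y quasi-separated, and let X^cons, Y^cons denote
the underlying sets with the constructible topology (generated by the quasi-compact open subsets and
their complements; for quasi-separated schemes the open sets are exactly the ind-constructible
subsets). Then f is quasi-compact if and only if the map X^cons → Y^cons underlying f is proper
(continuous and universally closed). (The published statement is for arbitrary schemes with the
ind-constructible topology; this row covers the quasi-separated case, where that topology is the one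
used here.) -/
theorem result {X Y : Scheme.{u}} [QuasiSeparatedSpace X]
    [QuasiSeparatedSpace Y] (f : X ⟶ Y) :
    QuasiCompact f ↔ @IsProperMap X Y (constructibleTopology X) (constructibleTopology Y) f := by
  exact ⟨fun h => forward f, backward f⟩

end Groth.Agent.S12135
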