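import Groth.Statements.S12122
import Groth.Agent.Lib.Helper17.ConstrTop2
import Groth.Agent.Lib.Helper17.ProCCompact
import Groth.Agent.S12135

set_option autoImplicit false
universe u
open EGA41

namespace Groth.Agent.S12122

open AlgebraicGeometry Topology in
theorem isOpen_cons_of_isLocallyConstructible (X : Scheme.{u}) [QuasiSeparatedSpace X]
    {E : Set X} (hE : Topology.IsLocallyConstructible E) :
    IsOpen[constructibleTopology X] E := by
  have hb : ∀ {U : TopologicalSpace.Opens ↥X} {x : ↥X}, x ∈ U →
      ∃ U' ∈ X.affineOpens, x ∈ U' ∧ U' ≤ U :=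
    TopologicalSpace.Opens.isBasis_iff_nbhd.mp X.isBasis_affineOpens
  rw [@isOpen_iff_forall_mem_open X (constructibleTopology X)]
  intro x hxE
  obtain ⟨U0, hU0, hU0o, hc⟩ := hE x
  obtain ⟨V, hV, hxV, hVU⟩ := @hb ⟨U0, hU0o⟩ x (mem_of_mem_nhds hU0)
  have hVaff : IsAffineOpen V := hV
  have hincl : Set.MapsTo id (V : Set X) U0 := fun y hy => hVU hy
  have hi : IsOpenEmbedding (hincl.restrict id (V : Set X) U0) :=
    IsOpenEmbedding.id.restrict hincl V.2
  have hc0 : IsConstructible ((hincl.restrict id (V : Set X) U0) ⁻¹' (Subtype.val ⁻¹' E)) :=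
    hc.preimage_of_isOpenEmbedding hi
  have hc1 : IsConstructible (Subtype.val ⁻¹' E : Set ↥(V : Set X)) := hc0
  have hretro : IsRetrocompact (Set.range (Subtype.val : ↥(V : Set X) → X)) := by
    rw [Subtype.range_coe]
    exact hVaff.isCompact.isRetrocompact V.2
  have hc2 : IsConstructible (Subtype.val '' (Subtype.val ⁻¹' E : Set ↥(V : Set X))) :=
    hc1.image_of_isOpenEmbedding V.2.isOpenEmbedding_subtypeVal hretro
  refine ⟨_, ?_, Groth.Agent.Lib.Helper17.isOpen_constructibleTopology_of_isConstructible' hc2,
    ⟨⟨x, hxV⟩, hxE, rfl⟩⟩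
  rintro _ ⟨z, hz, rfl⟩
  exact hz

open AlgebraicGeometry Topology in
/-- Let X be a quasi-separated scheme. A subset E of X is locally constructible if and only if it is
both open and closed for the constructible topology of X. Here the constructible topology is the one
generated by the quasi-compact open subsets of X and their complements; when X is quasi-separated
its open sets are exactly the ind-constructible subsets, i.e. it is the constructible topology of
the source (for a scheme that is not quasi-separated the two topologies differ, and this row does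
not cover that case). -/
theorem result (X : Scheme.{u}) [QuasiSeparatedSpace X] (E : Set X) :
    Topology.IsLocallyConstructible E ↔
      (IsOpen[constructibleTopology X] E ∧ IsClosed[constructibleTopology X] E) := by
  constructor
  · intro hE
    refine ⟨isOpen_cons_of_isLocallyConstructible X hE, ?_⟩
    exact @IsClosed.mk X (constructibleTopology X) E (isOpen_cons_of_isLocallyConstructible X
      (Groth.Agent.Lib.Helper17.isLocallyConstructible_compl hE))
  · rintro ⟨ho, hc⟩ x
    have hb : ∀ {U : TopologicalSpace.Opens ↥X} {x : ↥X}, x ∈ U →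
        ∃ U' ∈ X.affineOpens, x ∈ U' ∧ U' ≤ U :=
      TopologicalSpace.Opens.isBasis_iff_nbhd.mp X.isBasis_affineOpens
    obtain ⟨V, hV, hxV, -⟩ := @hb ⊤ x trivial
    have hVaff : IsAffineOpen V := hV
    refine ⟨(V : Set X), V.2.mem_nhds hxV, V.2, ?_⟩
    haveI : IsAffine V.toScheme := hVaff
    haveI : CompactSpace ↥(V : Set X) := inferInstanceAs (CompactSpace ↥(V.toScheme))
    haveI : QuasiSober ↥(V : Set X) := inferInstanceAs (QuasiSober ↥(V.toScheme))
    haveI : PrespectralSpace ↥(V : Set X) := inferInstanceAs (PrespectralSpace ↥(V.toScheme))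
    haveI : QuasiSeparatedSpace ↥(V : Set X) :=
      (isQuasiSeparated_iff_quasiSeparatedSpace _ V.2).mp hVaff.isQuasiSeparated
    have hcont := Groth.Agent.S12135.continuous_val_constructibleTopology (X := X) V.2
      hVaff.isCompact
    apply Groth.Agent.Lib.Helper17.isConstructible_of_isClopen_constructibleTopology
    · exact @IsOpen.preimage _ _ (constructibleTopology ↥(V : Set X)) (constructibleTopology X)
        _ hcont _ ho
    · exact @IsClosed.preimage _ _ (constructibleTopology ↥(V : Set X)) (constructibleTopology X)
        _ hcont _ hc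

end Groth.Agent.S12122
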