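import Groth.Statements.S12123
import Groth.Agent.S12135

set_option autoImplicit false
universe u
open EGA41

namespace Groth.Agent.S12123

open AlgebraicGeometry Topology in
/-- Let X be a quasi-separated scheme and X^cons its underlying set with the constructible topology,
generated by the quasi-compact open subsets and their complements (for X quasi-separated this is the
topology whose open sets are the ind-constructible subsets). Then X^cons is a Hausdorff, locally
compact, totally disconnected space. (The published statement also asserts that X^cons is Hausdorff
only if X is quasi-separated; for the topology used here that converse fails when X is not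
quasi-separated, where the two constructible topologies differ, so it is not part of this row.) -/
theorem result (X : Scheme.{u}) [QuasiSeparatedSpace X] :
    T2Space (WithConstructibleTopology X) ∧ LocallyCompactSpace (WithConstructibleTopology X) ∧
      TotallyDisconnectedSpace (WithConstructibleTopology X) := by
  have hT2' : @T2Space X (constructibleTopology X) :=
    Groth.Agent.S12135.t2Space_constructibleTopology
  have hT2 : T2Space (WithConstructibleTopology X) :=
    @T2Space.of_injective_continuous (WithConstructibleTopology X) X _ (constructibleTopology X)
      hT2' WithTopology.ofTopology (WithTopology.ofTopology_injective _)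
      (WithTopology.continuous_ofTopology _)
  have hb : ∀ {U : TopologicalSpace.Opens ↥X} {x : ↥X}, x ∈ U →
      ∃ U' ∈ X.affineOpens, x ∈ U' ∧ U' ≤ U :=
    TopologicalSpace.Opens.isBasis_iff_nbhd.mp X.isBasis_affineOpens
  -- preimages of compact opens are clopen
  have hclopen : ∀ V : Set X, IsOpen V → IsCompact V →
      IsClopen (WithTopology.ofTopology ⁻¹' V : Set (WithConstructibleTopology X)) := by
    intro V hVo hVc
    constructor
    · rw [WithConstructibleTopology.isClosed_iff]
      refine @IsClosed.mk X (constructibleTopology X) _ ?_
      apply IsCompact.isOpen_constructibleTopology_of_isClosed (s := Vᶜ)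
      · rwa [compl_compl]
      · exact hVo.isClosed_compl
    · rw [WithConstructibleTopology.isOpen_iff]
      exact hVc.isOpen_constructibleTopology_of_isOpen hVo
  refine ⟨hT2, ?_, ?_⟩
  · haveI := hT2
    haveI : WeaklyLocallyCompactSpace (WithConstructibleTopology X) := by
      refine ⟨fun y => ?_⟩
      obtain ⟨V, hV, hyV, -⟩ := @hb ⊤ (WithTopology.ofTopology y) trivial
      have hVaff : IsAffineOpen V := hV
      refine ⟨WithTopology.ofTopology ⁻¹' (V : Set X), ?_,
        (hclopen V V.2 hVaff.isCompact).isOpen.mem_nhds hyV⟩
      have h1 : @IsCompact X (constructibleTopology X) (V : Set X) :=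
        Groth.Agent.S12135.isCompact_constructibleTopology V.2 hVaff.isCompact
      have h2 := @IsCompact.image X (WithConstructibleTopology X) (constructibleTopology X) _
        _ (WithTopology.toTopology _) h1 (WithTopology.continuous_toTopology _)
      rwa [WithTopology.image_toTopology] at h2
    infer_instance
  · haveI : TotallySeparatedSpace (WithConstructibleTopology X) := by
      rw [totallySeparatedSpace_iff_exists_isClopen]
      intro y z hyz
      have hne : WithTopology.ofTopology y ≠ WithTopology.ofTopology z :=
        fun h => hyz (WithTopology.ofTopology_injective _ h)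
      obtain ⟨U, hU, hxU⟩ := exists_isOpen_xor'_mem hne
      rcases hxU with ⟨hy, hz⟩ | ⟨hz, hy⟩
      · obtain ⟨V, ⟨hVo, hVc⟩, hyV, hVU⟩ :=
          (PrespectralSpace.isTopologicalBasis (X := X)).exists_subset_of_mem_open hy hU
        exact ⟨_, hclopen V hVo hVc, hyV, fun h => hz (hVU h)⟩
      · obtain ⟨V, ⟨hVo, hVc⟩, hzV, hVU⟩ :=
          (PrespectralSpace.isTopologicalBasis (X := X)).exists_subset_of_mem_open hz hU
        exact ⟨_, (hclopen V hVo hVc).compl, fun h => hy (hVU h), fun h => h hzV⟩
    infer_instance

end Groth.Agent.S12123
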