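import Groth.Statements.S12126
import Groth.Agent.Lib.Helper73.DimFormulaCat2

set_option autoImplicit false
universe u
open CAlg

namespace Groth.Agent.S12126

/-- Let A be a Noetherian local domain with maximal ideal m and residue field k, B a domain containing A
which is an A-algebra of finite type, q a prime ideal of B over m and k' the residue field of B_q.
If for every sub-A-algebra A' of finite type of the polynomial ring B[T] and every maximal ideal m'
of A' lying over m the local ring A'_{m'} is catenary, then ht(q) + trdeg_k k' = dim(A) + trdeg_A B,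
stated with heights and transcendence degrees as cardinals (the transcendence degree of B over A is
that of the fraction fields, and that of k' over k is that of B/q over A/m). -/
theorem result (R : Type u) [CommRing R] [IsDomain R]
    [IsNoetherianRing R] [IsLocalRing R] (S : Type u) [CommRing S] [IsDomain S] [Algebra R S]
    [FaithfulSMul R S] [Algebra.FiniteType R S] (q : Ideal S) [q.IsPrime]
    [q.LiesOver (IsLocalRing.maximalIdeal R)]
    (hcat : ∀ A' : Subalgebra R (Polynomial S), A'.FG →
      ∀ (m' : Ideal A') [m'.IsMaximal], m'.LiesOver (IsLocalRing.maximalIdeal R) →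
        CAlg.IsCatenary (Localization.AtPrime m')) :
    (q.height : Cardinal.{u}) + Algebra.trdeg (R ⧸ IsLocalRing.maximalIdeal R) (S ⧸ q) =
      ((IsLocalRing.maximalIdeal R).height : Cardinal.{u}) + Algebra.trdeg R S := by
  refine Groth.Agent.Lib.Helper73.DimFormula.height_add_trdeg_eq_of_catHyp (IsLocalRing.maximalIdeal R) q ?_
  intro B _ _ _ φ hφ x
  -- the image subalgebra
  let A' : Subalgebra R (Polynomial S) := φ.range
  have hFG : A'.FG := by
    have : A' = (⊤ : Subalgebra R B).map φ := (Algebra.map_top φ).symm
    rw [this]
    exact Subalgebra.FG.map φ Algebra.FiniteType.out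
  let e : B ≃ₐ[R] A' := AlgEquiv.ofInjective φ hφ
  set Q : Ideal (Polynomial S) := q.comap (Polynomial.evalRingHom x) with hQ
  set P' : Ideal A' := Q.comap A'.val.toRingHom with hP'
  have hP'ne : P' ≠ ⊤ := Ideal.IsPrime.ne_top inferInstance
  obtain ⟨m', hm', hPm'⟩ := Ideal.exists_le_maximal P' hP'ne
  have hlo : m'.LiesOver (IsLocalRing.maximalIdeal R) := by
    constructor
    have hle : IsLocalRing.maximalIdeal R ≤ m'.under R := by
      intro r hr
      rw [Ideal.under_def, Ideal.mem_comap]
      apply hPm'
      change (algebraMap R (Polynomial S) r) ∈ Q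
      rw [hQ, Ideal.mem_comap, Polynomial.algebraMap_apply]
      simp only [Polynomial.coe_evalRingHom, Polynomial.eval_C]
      have : r ∈ q.under R := by
        rw [← Ideal.over_def q (IsLocalRing.maximalIdeal R)]; exact hr
      exact this
    have hne : m'.under R ≠ ⊤ := by
      rw [Ideal.under_def]
      exact Ideal.comap_ne_top _ hm'.ne_top
    exact (IsLocalRing.maximalIdeal.isMaximal R).eq_of_le hne hle
  have hc := hcat A' hFG m' hlo
  have hI : (q.comap (Polynomial.evalRingHom x)).comap φ.toRingHom =
      P'.comap (e : B →+* A') := by
    ext b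
    simp only [Ideal.mem_comap]
    rfl
  have key := Groth.Agent.Lib.Helper73.DimFormula.posetCatenary_Iic_of_isCatenary_localization (e : B ≃+* A') m' hc
    (P'.comap (e : B →+* A')) (by
      intro a ha
      apply hPm'
      have : (e : B ≃+* A') ((e : B ≃+* A').symm a) ∈ P' := ha
      rwa [RingEquiv.apply_symm_apply] at this)
  have hP : (⟨(q.comap (Polynomial.evalRingHom x)).comap φ.toRingHom, inferInstance⟩ :
      PrimeSpectrum B) = ⟨P'.comap (e : B →+* A'), inferInstance⟩ := PrimeSpectrum.ext hI
  rw [hP]
  exact key

end Groth.Agent.S12126
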