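import Groth.Statements.S12127
import Mathlib
-- import your own Groth.Agent.* helpers here

set_option autoImplicit false
universe u
open EGA43

namespace Groth.Agent.S12127

section helpers
variable {X Y : Type u} [TopologicalSpace X] [TopologicalSpace Y]

def QC (Z : Set Y) : Prop :=
  ∃ T : Set (Set Y), T.Finite ∧ (∀ t ∈ T, IsLocallyClosed t) ∧ Z = ⋃₀ T

def LQC (Z : Set Y) : Prop :=
  ∀ y : Y, ∃ V : Set Y, IsOpen V ∧ y ∈ V ∧
    ∃ T : Set (Set V), T.Finite ∧ (∀ t ∈ T, IsLocallyClosed t) ∧ (Subtype.val ⁻¹' Z : Set V) = ⋃₀ T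

def LQ (Z : Set Y) : Prop :=
  ∀ y : Y, ∃ V : Set Y, IsOpen V ∧ y ∈ V ∧
    ∃ T : Set (Set Y), T.Finite ∧ (∀ t ∈ T, IsLocallyClosed t) ∧ Z ∩ V = ⋃₀ T

def LC1 (Z : Set Y) : Prop := ∀ y ∈ Z, ∃ t, IsLocallyClosed t ∧ y ∈ t ∧ t ⊆ Z

theorem sep (y : Y) (W : Set Y) (hW : IsLocallyClosed W) (hyW : y ∈ W)
    (T : Set (Set Y)) (hT : T.Finite) :
    (∀ t ∈ T, IsLocallyClosed t) → (∀ t ∈ T, y ∉ t) →
    ∃ W' : Set Y, IsLocallyClosed W' ∧ y ∈ W' ∧ W' ⊆ W ∧ ∀ t ∈ T, Disjoint W' t := by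
  induction T, hT using Set.Finite.induction_on with
  | empty => intro _ _; exact ⟨W, hW, hyW, subset_rfl, by simp⟩
  | @insert a s has hs ih =>
    intro hlc hy
    obtain ⟨W', hW', hyW', hsub, hdis⟩ := ih (fun t ht => hlc t (Set.mem_insert_of_mem _ ht))
      (fun t ht => hy t (Set.mem_insert_of_mem _ ht))
    have hya := hy _ (Set.mem_insert _ _)
    obtain ⟨U, C, hU, hC, hUC⟩ := hlc a (Set.mem_insert _ _)
    rw [hUC] at hya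
    by_cases hyU : y ∈ U
    · have hyC : y ∉ C := fun h => hya ⟨hyU, h⟩
      refine ⟨W' ∩ Cᶜ, hW'.inter hC.isOpen_compl.isLocallyClosed, ⟨hyW', hyC⟩,
        Set.inter_subset_left.trans hsub, ?_⟩
      intro t ht
      rcases Set.mem_insert_iff.mp ht with h | ht
      · rw [h, hUC, Set.disjoint_left]
        rintro z ⟨_, hz⟩ ⟨_, hz'⟩
        exact hz hz'
      · exact (hdis t ht).mono_left Set.inter_subset_left
    · refine ⟨W' ∩ Uᶜ, hW'.inter hU.isClosed_compl.isLocallyClosed, ⟨hyW', hyU⟩,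
        Set.inter_subset_left.trans hsub, ?_⟩
      intro t ht
      rcases Set.mem_insert_iff.mp ht with h | ht
      · rw [h, hUC, Set.disjoint_left]
        rintro z ⟨_, hz⟩ ⟨hz', _⟩
        exact hz hz'
      · exact (hdis t ht).mono_left Set.inter_subset_left

theorem vd (f : X → Y) (hf : Continuous f)
    (hq : Function.Bijective (fun U : TopologicalSpace.Opens Y =>
      (⟨f ⁻¹' (U : Set Y), U.isOpen.preimage hf⟩ : TopologicalSpace.Opens X)))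
    (W : Set Y) (hW : IsLocallyClosed W) (hne : W.Nonempty) : ∃ x, f x ∈ W := by
  obtain ⟨U, C, hU, hC, rfl⟩ := hW
  by_contra hcon
  push Not at hcon
  have h1 : f ⁻¹' (U ∩ Cᶜ) = f ⁻¹' U := by
    ext x
    constructor
    · exact fun h => h.1
    · exact fun h => ⟨h, fun hc => hcon x ⟨h, hc⟩⟩
  have h2 : (⟨U ∩ Cᶜ, hU.inter hC.isOpen_compl⟩ : TopologicalSpace.Opens Y) = ⟨U, hU⟩ := by
    apply hq.1
    apply TopologicalSpace.Opens.ext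
    exact h1
  have h3 : U ∩ Cᶜ = U := congrArg (fun O : TopologicalSpace.Opens Y => (O : Set Y)) h2
  obtain ⟨y, hyU, hyC⟩ := hne
  have h4 : y ∈ U ∩ Cᶜ := by rw [h3]; exact hyU
  exact h4.2 hyC

theorem lc_surj (f : X → Y) (hf : Continuous f)
    (hq : Function.Bijective (fun U : TopologicalSpace.Opens Y =>
      (⟨f ⁻¹' (U : Set Y), U.isOpen.preimage hf⟩ : TopologicalSpace.Opens X)))
    (t : Set X) (ht : IsLocallyClosed t) : ∃ s : Set Y, IsLocallyClosed s ∧ f ⁻¹' s = t := by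
  obtain ⟨U, C, hU, hC, rfl⟩ := ht
  obtain ⟨U₀, hU₀⟩ := hq.2 ⟨U, hU⟩
  obtain ⟨D₀, hD₀⟩ := hq.2 ⟨Cᶜ, hC.isOpen_compl⟩
  have h1 : f ⁻¹' (U₀ : Set Y) = U :=
    congrArg (fun O : TopologicalSpace.Opens X => (O : Set X)) hU₀
  have h2 : f ⁻¹' (D₀ : Set Y) = Cᶜ :=
    congrArg (fun O : TopologicalSpace.Opens X => (O : Set X)) hD₀
  refine ⟨(U₀ : Set Y) ∩ (D₀ : Set Y)ᶜ,
    ⟨(U₀ : Set Y), (D₀ : Set Y)ᶜ, U₀.isOpen, D₀.isOpen.isClosed_compl, rfl⟩, ?_⟩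
  rw [Set.preimage_inter, Set.preimage_compl, h1, h2, compl_compl]

theorem incl (f : X → Y) (hf : Continuous f)
    (hq : Function.Bijective (fun U : TopologicalSpace.Opens Y =>
      (⟨f ⁻¹' (U : Set Y), U.isOpen.preimage hf⟩ : TopologicalSpace.Opens X)))
    (Z1 Z2 : Set Y) (h1 : LC1 Z1) (h2 : LQ Z2) (hpre : f ⁻¹' Z1 ⊆ f ⁻¹' Z2) : Z1 ⊆ Z2 := by
  intro y hy1
  by_contra hy2
  obtain ⟨t, ht, hyt, htZ⟩ := h1 y hy1
  obtain ⟨V, hV, hyV, T, hTfin, hTlc, hTeq⟩ := h2 y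
  have hyT : ∀ s ∈ T, y ∉ s := by
    intro s hs hys
    have h : y ∈ Z2 ∩ V := by rw [hTeq]; exact ⟨s, hs, hys⟩
    exact hy2 h.1
  obtain ⟨W, hW, hyW, hWsub, hWdis⟩ :=
    sep y (t ∩ V) (ht.inter hV.isLocallyClosed) ⟨hyt, hyV⟩ T hTfin hTlc hyT
  obtain ⟨x, hx⟩ := vd f hf hq W hW ⟨y, hyW⟩
  have hx1 : f x ∈ Z1 := htZ (hWsub hx).1
  have hx2 : f x ∈ Z2 := hpre hx1
  have hx3 : f x ∈ Z2 ∩ V := ⟨hx2, (hWsub hx).2⟩
  rw [hTeq] at hx3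
  obtain ⟨s, hs, hxs⟩ := hx3
  exact Set.disjoint_left.mp (hWdis s hs) hx hxs

theorem QC.lq {Z : Set Y} (h : QC Z) : LQ Z := by
  obtain ⟨T, hT, hlc, rfl⟩ := h
  intro y
  exact ⟨Set.univ, isOpen_univ, Set.mem_univ _, T, hT, hlc, Set.inter_univ _⟩

theorem QC.lc1 {Z : Set Y} (h : QC Z) : LC1 Z := by
  obtain ⟨T, hT, hlc, rfl⟩ := h
  rintro y ⟨t, ht, hyt⟩
  exact ⟨t, hlc t ht, hyt, Set.subset_sUnion_of_mem ht⟩

theorem lc_image {V : Set Y} (hV : IsOpen V) {t : Set V} (ht : IsLocallyClosed t) :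
    IsLocallyClosed (Subtype.val '' t) := by
  obtain ⟨U, C, hU, hC, rfl⟩ := ht
  obtain ⟨U', hU', rfl⟩ := isOpen_induced_iff.mp hU
  obtain ⟨C', hC', rfl⟩ := isClosed_induced_iff.mp hC
  refine ⟨V ∩ U', C', hV.inter hU', hC', ?_⟩
  ext z
  constructor
  · rintro ⟨w, ⟨hwU, hwC⟩, rfl⟩
    exact ⟨⟨w.2, hwU⟩, hwC⟩
  · rintro ⟨⟨hzV, hzU⟩, hzC⟩
    exact ⟨⟨z, hzV⟩, ⟨hzU, hzC⟩, rfl⟩

theorem qc_inter_of {Z V : Set Y} (hV : IsOpen V) (T : Set (Set V)) (hT : T.Finite)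
    (hlc : ∀ t ∈ T, IsLocallyClosed t) (hEq : (Subtype.val ⁻¹' Z : Set V) = ⋃₀ T) :
    QC (Z ∩ V) := by
  refine ⟨(fun s : Set V => Subtype.val '' s) '' T, hT.image _, ?_, ?_⟩
  · rintro _ ⟨s, hs, rfl⟩
    exact lc_image hV (hlc s hs)
  · ext z
    constructor
    · rintro ⟨hzZ, hzV⟩
      have h : (⟨z, hzV⟩ : V) ∈ (Subtype.val ⁻¹' Z : Set V) := hzZ
      rw [hEq] at h
      obtain ⟨s, hs, hzs⟩ := h
      exact ⟨Subtype.val '' s, ⟨s, hs, rfl⟩, ⟨⟨z, hzV⟩, hzs, rfl⟩⟩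
    · rintro ⟨_, ⟨s, hs, rfl⟩, ⟨w, hws, rfl⟩⟩
      have h : w ∈ (Subtype.val ⁻¹' Z : Set V) := by rw [hEq]; exact ⟨s, hs, hws⟩
      exact ⟨h, w.2⟩

theorem LQC.lq {Z : Set Y} (h : LQC Z) : LQ Z := by
  intro y
  obtain ⟨V, hV, hyV, T, hT, hlc, hEq⟩ := h y
  obtain ⟨T', h1, h2, h3⟩ := qc_inter_of hV T hT hlc hEq
  exact ⟨V, hV, hyV, T', h1, h2, h3⟩

theorem LQC.lc1 {Z : Set Y} (h : LQC Z) : LC1 Z := by
  intro y hyZ
  obtain ⟨V, hV, hyV, T, hT, hlc, hEq⟩ := h y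
  have h0 : (⟨y, hyV⟩ : V) ∈ (Subtype.val ⁻¹' Z : Set V) := hyZ
  rw [hEq] at h0
  obtain ⟨s, hs, hys⟩ := h0
  refine ⟨Subtype.val '' s, lc_image hV (hlc s hs), ⟨⟨y, hyV⟩, hys, rfl⟩, ?_⟩
  rintro _ ⟨w, hws, rfl⟩
  have h : w ∈ (Subtype.val ⁻¹' Z : Set V) := by rw [hEq]; exact ⟨s, hs, hws⟩
  exact h

theorem qc_maps (f : X → Y) (hf : Continuous f) {Z : Set Y} (h : QC Z) : QC (f ⁻¹' Z) := by
  obtain ⟨T, hT, hlc, rfl⟩ := h
  refine ⟨(fun t : Set Y => f ⁻¹' t) '' T, hT.image _, ?_, ?_⟩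
  · rintro _ ⟨t, ht, rfl⟩
    exact (hlc t ht).preimage hf
  · ext x
    constructor
    · rintro ⟨t, ht, hxt⟩
      exact ⟨f ⁻¹' t, ⟨t, ht, rfl⟩, hxt⟩
    · rintro ⟨_, ⟨t, ht, rfl⟩, hxt⟩
      exact ⟨t, ht, hxt⟩

theorem qc_surj (f : X → Y) (hf : Continuous f)
    (hq : Function.Bijective (fun U : TopologicalSpace.Opens Y =>
      (⟨f ⁻¹' (U : Set Y), U.isOpen.preimage hf⟩ : TopologicalSpace.Opens X)))
    (Z' : Set X) (h : QC Z') : ∃ Z : Set Y, QC Z ∧ f ⁻¹' Z = Z' := by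
  obtain ⟨T, hT, hlc, rfl⟩ := h
  have key : ∀ t : Set X, ∃ s : Set Y,
      IsLocallyClosed t → (IsLocallyClosed s ∧ f ⁻¹' s = t) := by
    intro t
    by_cases ht : IsLocallyClosed t
    · obtain ⟨s, hs, hst⟩ := lc_surj f hf hq t ht
      exact ⟨s, fun _ => ⟨hs, hst⟩⟩
    · exact ⟨∅, fun h => absurd h ht⟩
  choose g hg using key
  refine ⟨⋃₀ (g '' T), ⟨g '' T, hT.image _, ?_, rfl⟩, ?_⟩
  · rintro _ ⟨t, ht, rfl⟩
    exact (hg t (hlc t ht)).1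
  · ext x
    constructor
    · rintro ⟨_, ⟨t, ht, rfl⟩, hxt⟩
      have h : x ∈ f ⁻¹' g t := hxt
      rw [(hg t (hlc t ht)).2] at h
      exact ⟨t, ht, h⟩
    · rintro ⟨t, ht, hxt⟩
      refine ⟨g t, ⟨t, ht, rfl⟩, ?_⟩
      have h : x ∈ f ⁻¹' g t := by rw [(hg t (hlc t ht)).2]; exact hxt
      exact h

theorem lqc_maps (f : X → Y) (hf : Continuous f) {Z : Set Y} (h : LQC Z) :
    LQC (f ⁻¹' Z) := by
  intro x
  obtain ⟨V, hV, hyV, T, hT, hlc, hEq⟩ := h (f x)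
  refine ⟨f ⁻¹' V, hV.preimage hf, hyV,
    (fun t : Set V => (V.restrictPreimage f) ⁻¹' t) '' T, hT.image _, ?_, ?_⟩
  · rintro _ ⟨t, ht, rfl⟩
    exact (hlc t ht).preimage hf.restrictPreimage
  · ext w
    constructor
    · intro hw
      have h0 : V.restrictPreimage f w ∈ (Subtype.val ⁻¹' Z : Set V) := hw
      rw [hEq] at h0
      obtain ⟨t, ht, hwt⟩ := h0
      exact ⟨_, ⟨t, ht, rfl⟩, hwt⟩
    · rintro ⟨_, ⟨t, ht, rfl⟩, hwt⟩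
      have h0 : V.restrictPreimage f w ∈ (Subtype.val ⁻¹' Z : Set V) := by
        rw [hEq]; exact ⟨t, ht, hwt⟩
      exact h0

theorem lqc_surj (f : X → Y) (hf : Continuous f)
    (hq : Function.Bijective (fun U : TopologicalSpace.Opens Y =>
      (⟨f ⁻¹' (U : Set Y), U.isOpen.preimage hf⟩ : TopologicalSpace.Opens X)))
    (Z' : Set X) (h : LQC Z') : ∃ Z : Set Y, LQC Z ∧ f ⁻¹' Z = Z' := by
  choose V' hV'o hxV' T' hT'fin hT'lc hT'eq using h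
  have key : ∀ x, ∃ Zx : Set Y, QC Zx ∧ f ⁻¹' Zx = Z' ∩ V' x := fun x =>
    qc_surj f hf hq _ (qc_inter_of (hV'o x) (T' x) (hT'fin x) (hT'lc x) (hT'eq x))
  choose Zx hZxqc hZxpre using key
  have keyV : ∀ x, ∃ Vx : Set Y, IsOpen Vx ∧ f ⁻¹' Vx = V' x := by
    intro x
    obtain ⟨U, hU⟩ := hq.2 ⟨V' x, hV'o x⟩
    exact ⟨U, U.isOpen, congrArg (fun O : TopologicalSpace.Opens X => (O : Set X)) hU⟩
  choose Vx hVxo hVxpre using keyV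
  have hcover : ∀ y : Y, ∃ x, y ∈ Vx x := by
    intro y
    by_contra hcon
    push Not at hcon
    have hW : IsLocallyClosed (⋃ x, Vx x)ᶜ :=
      (isOpen_iUnion hVxo).isClosed_compl.isLocallyClosed
    obtain ⟨x0, hx0⟩ := vd f hf hq _ hW ⟨y, by simpa using hcon⟩
    have h0 : x0 ∈ f ⁻¹' Vx x0 := by rw [hVxpre]; exact hxV' x0
    exact hx0 (Set.mem_iUnion.mpr ⟨x0, h0⟩)
  have hincl : ∀ x x', Zx x' ∩ Vx x ⊆ Zx x := by
    intro x x'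
    apply incl f hf hq _ _ ?_ (hZxqc x).lq ?_
    · rintro y ⟨hy1, hy2⟩
      obtain ⟨t, ht, hyt, htsub⟩ := (hZxqc x').lc1 y hy1
      exact ⟨t ∩ Vx x, ht.inter (hVxo x).isLocallyClosed, ⟨hyt, hy2⟩,
        Set.inter_subset_inter_left _ htsub⟩
    · rw [Set.preimage_inter, hZxpre, hZxpre, hVxpre]
      rintro z ⟨⟨hz1, _⟩, hz2⟩
      exact ⟨hz1, hz2⟩
  refine ⟨⋃ x, Zx x, ?_, ?_⟩
  · intro y
    obtain ⟨x, hyx⟩ := hcover y
    obtain ⟨Tx, hTx, hTxlc, hTxeq⟩ := hZxqc x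
    refine ⟨Vx x, hVxo x, hyx,
      (fun t : Set Y => (Subtype.val ⁻¹' t : Set (Vx x))) '' Tx, hTx.image _, ?_, ?_⟩
    · rintro _ ⟨t, ht, rfl⟩
      exact (hTxlc t ht).preimage continuous_subtype_val
    · ext w
      constructor
      · intro hw
        have hw' : (w : Y) ∈ ⋃ x, Zx x := hw
        obtain ⟨x', hx'⟩ := Set.mem_iUnion.mp hw'
        have h1 : (w : Y) ∈ Zx x := hincl x x' ⟨hx', w.2⟩
        rw [hTxeq] at h1
        obtain ⟨t, ht, hwt⟩ := h1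
        exact ⟨_, ⟨t, ht, rfl⟩, hwt⟩
      · rintro ⟨_, ⟨t, ht, rfl⟩, hwt⟩
        have h1 : (w : Y) ∈ Zx x := by rw [hTxeq]; exact ⟨t, ht, hwt⟩
        have h2 : (w : Y) ∈ ⋃ x, Zx x := Set.mem_iUnion.mpr ⟨x, h1⟩
        exact h2
  · ext z
    constructor
    · intro hz
      have hz' : f z ∈ ⋃ x, Zx x := hz
      obtain ⟨x, hx⟩ := Set.mem_iUnion.mp hz'
      have h0 : z ∈ f ⁻¹' Zx x := hx
      rw [hZxpre] at h0
      exact h0.1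
    · intro hz
      have h0 : z ∈ f ⁻¹' Zx z := by rw [hZxpre]; exact ⟨hz, hxV' z⟩
      have h1 : f z ∈ ⋃ x, Zx x := Set.mem_iUnion.mpr ⟨z, h0⟩
      exact h1

end helpers

/-- Let f : X → Y be a quasi-homeomorphism, i.e. a continuous map such that U ↦ f⁻¹(U) is a bijection
from the open subsets of Y onto the open subsets of X. Call a subset quasi-constructible when it is
a finite union of locally closed subsets, and locally quasi-constructible when every point of the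
space has an open neighbourhood V whose intersection with it is quasi-constructible in V. Then Z ↦
f⁻¹(Z) induces a bijection from the quasi-constructible subsets of Y onto those of X, and from the
locally quasi-constructible subsets of Y onto those of X. -/
theorem result {X Y : Type u}
    [TopologicalSpace X] [TopologicalSpace Y] (f : X → Y) (hf : Continuous f)
    (hq : Function.Bijective (fun U : TopologicalSpace.Opens Y =>
      (⟨f ⁻¹' (U : Set Y), U.isOpen.preimage hf⟩ : TopologicalSpace.Opens X))) :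
    Set.BijOn (fun Z : Set Y => f ⁻¹' Z)
        {Z : Set Y | ∃ T : Set (Set Y), T.Finite ∧ (∀ t ∈ T, IsLocallyClosed t) ∧ Z = ⋃₀ T}
        {Z : Set X | ∃ T : Set (Set X), T.Finite ∧ (∀ t ∈ T, IsLocallyClosed t) ∧ Z = ⋃₀ T} ∧
      Set.BijOn (fun Z : Set Y => f ⁻¹' Z)
        {Z : Set Y | ∀ y : Y, ∃ V : Set Y, IsOpen V ∧ y ∈ V ∧
          ∃ T : Set (Set V), T.Finite ∧ (∀ t ∈ T, IsLocallyClosed t) ∧ (Subtype.val ⁻¹' Z : Set V) = ⋃₀ T}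
        {Z : Set X | ∀ x : X, ∃ V : Set X, IsOpen V ∧ x ∈ V ∧
          ∃ T : Set (Set V), T.Finite ∧ (∀ t ∈ T, IsLocallyClosed t) ∧ (Subtype.val ⁻¹' Z : Set V) = ⋃₀ T} := by
  refine ⟨⟨?_, ?_, ?_⟩, ⟨?_, ?_, ?_⟩⟩
  · intro Z hZ
    exact qc_maps f hf hZ
  · intro Z1 h1 Z2 h2 hEq
    have hEq' : f ⁻¹' Z1 = f ⁻¹' Z2 := hEq
    exact Set.Subset.antisymm
      (incl f hf hq Z1 Z2 (QC.lc1 h1) (QC.lq h2) hEq'.subset)
      (incl f hf hq Z2 Z1 (QC.lc1 h2) (QC.lq h1) hEq'.symm.subset)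
  · intro Z' hZ'
    obtain ⟨Z, hZ, hpre⟩ := qc_surj f hf hq Z' hZ'
    exact ⟨Z, hZ, hpre⟩
  · intro Z hZ
    exact lqc_maps f hf hZ
  · intro Z1 h1 Z2 h2 hEq
    have hEq' : f ⁻¹' Z1 = f ⁻¹' Z2 := hEq
    exact Set.Subset.antisymm
      (incl f hf hq Z1 Z2 (LQC.lc1 h1) (LQC.lq h2) hEq'.subset)
      (incl f hf hq Z2 Z1 (LQC.lc1 h2) (LQC.lq h1) hEq'.symm.subset)
  · intro Z' hZ'
    obtain ⟨Z, hZ, hpre⟩ := lqc_surj f hf hq Z' hZ'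
    exact ⟨Z, hZ, hpre⟩

end Groth.Agent.S12127
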