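import Groth.Statements.S12129
import Groth.Agent.Lib.Helper73.Equidim2
import Groth.Agent.Lib.Helper73.IrredDim
-- import your own Groth.Agent.* helpers here

set_option autoImplicit false
universe u
open EGA2

namespace Groth.Agent.S12129
open Groth.Agent.Lib.Helper73.SchemeDim Groth.Agent.Lib.Helper73.RelHt

open AlgebraicGeometry CategoryTheory in
/-- Let X be a scheme of finite type over a field k. Then the local ring of X at every closed point has
dimension one if and only if the irreducible closed subsets of X other than its irreducible
components are exactly the (singletons of) closed points of X — that is, every irreducible closed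
subset which is not an irreducible component is a closed point, and no closed point is by itself an
irreducible component. -/
theorem result (k : Type u) [Field k] (X : Scheme.{u})
    [X.Over (Spec (CommRingCat.of k))] [LocallyOfFiniteType (X ↘ (Spec (CommRingCat.of k)))]
    [QuasiCompact (X ↘ (Spec (CommRingCat.of k)))] :
    (∀ x : X, IsClosed ({x} : Set X) → ringKrullDim (X.presheaf.stalk x) = 1) ↔
      ((∀ F : Set X, IsClosed F → IsIrreducible F → F ∉ irreducibleComponents (X : Type u) →
          ∃ x : X, IsClosed ({x} : Set X) ∧ F = {x}) ∧
        ∀ x : X, IsClosed ({x} : Set X) → ({x} : Set X) ∉ irreducibleComponents (X : Type u)) := by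
  haveI : CompactSpace X := QuasiCompact.compactSpace_of_compactSpace (X ↘ (Spec (CommRingCat.of k)))
  have hco : ∀ x : X, ringKrullDim (X.presheaf.stalk x) = ((Order.coheight x : ℕ∞) : WithBot ℕ∞) :=
    fun x => AlgebraicGeometry.ringKrullDim_stalk_eq_coheight x
  constructor
  · intro h
    constructor
    · intro F hFcl hFirr hFnot
      obtain ⟨ζ, hζ⟩ := QuasiSober.sober hFirr hFcl
      obtain ⟨x, hxF, hxcl⟩ := hFcl.exists_closed_singleton hFirr.nonempty
      refine ⟨x, hxcl, ?_⟩
      have hζx : ζ ⤳ x := by rw [specializes_iff_mem_closure, hζ.def]; exact hxF
      obtain ⟨η, hηmax, hηζ⟩ := exists_maximal_specializes ζ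
      have hηne : η ≠ ζ := by
        intro he
        apply hFnot
        rw [← hζ.def, ← he]
        exact closure_singleton_mem_irreducibleComponents_of_maximal η hηmax
      have hζlt : ζ < η := by
        rw [lt_iff_le_not_ge]
        exact ⟨hηζ, fun h' => hηne (anti X _ _ hηζ h').symm⟩
      by_contra hFx
      have hxne : x ≠ ζ := by
        intro he
        apply hFx
        rw [← hζ.def, ← he, hxcl.closure_eq]
      have hxlt : x < ζ := by
        rw [lt_iff_le_not_ge]
        exact ⟨hζx, fun h' => hxne (anti X _ _ hζx h')⟩
      have h1 := h x hxcl
      rw [hco] at h1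
      have h2 : Order.coheight x = 1 := by exact_mod_cast h1
      let c0 : LTSeries X := RelSeries.singleton _ η
      let c1 : LTSeries X := c0.cons ζ (by rw [RelSeries.head_singleton]; exact hζlt)
      let c2 : LTSeries X := c1.cons x (by rw [RelSeries.head_cons]; exact hxlt)
      have h3 := Order.length_le_coheight_head (p := c2)
      rw [RelSeries.head_cons, h2] at h3
      have : ((2 : ℕ) : ℕ∞) ≤ 1 := h3
      exact absurd this (by norm_num)
    · intro x hxcl hcomp
      have h1 := h x hxcl
      rw [hco] at h1
      have h2 : Order.coheight x = 1 := by exact_mod_cast h1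
      have hmax : ∀ x' : X, x' ⤳ x → x' = x := by
        apply maximal_of_closure_singleton_mem_irreducibleComponents
        rw [hxcl.closure_eq]; exact hcomp
      have h3 : Order.coheight x = 0 := by
        rw [Order.coheight_eq_zero]
        intro y hy
        have : y ⤳ x := hy
        rw [hmax y this]
      rw [h3] at h2
      exact absurd h2 (by norm_num)
  · rintro ⟨h1, h2⟩ x hxcl
    rw [hco]
    have hge : 1 ≤ Order.coheight x := by
      by_contra hlt
      have h0 : Order.coheight x = 0 := by
        have : Order.coheight x < 1 := not_le.mp hlt
        exact Order.lt_one_iff.mp this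
      rw [Order.coheight_eq_zero] at h0
      apply h2 x hxcl
      have hmax : ∀ x' : X, x' ⤳ x → x' = x := by
        intro x' hx'
        have : x ≤ x' := hx'
        exact (anti X _ _ this (h0 this)).symm
      have := closure_singleton_mem_irreducibleComponents_of_maximal x hmax
      rwa [hxcl.closure_eq] at this
    have hle : Order.coheight x ≤ 1 := by
      apply Order.coheight_le
      intro c hc
      by_contra hlen
      have h2' : 2 ≤ c.length := by
        by_contra h
        apply hlen
        have : c.length ≤ 1 := by omega
        exact_mod_cast this
      have h01 : c ⟨0, by omega⟩ < c ⟨1, by omega⟩ := c.strictMono (by simp [Fin.lt_def])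
      have h12 : c ⟨1, by omega⟩ < c ⟨2, by omega⟩ := c.strictMono (by simp [Fin.lt_def])
      have h0x : c ⟨0, by omega⟩ = x := hc
      set z := c ⟨1, by omega⟩ with hz
      set w := c ⟨2, by omega⟩ with hw
      rw [h0x] at h01
      -- closure of `z` is irreducible closed, not a component and not a closed point
      have hnot : closure ({z} : Set X) ∉ irreducibleComponents (X : Type u) := by
        intro hcomp
        have hmax := maximal_of_closure_singleton_mem_irreducibleComponents z hcomp
        have : w = z := hmax w h12.le
        rw [this] at h12
        exact lt_irrefl _ h12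
      obtain ⟨y, hycl, hy⟩ := h1 (closure {z}) isClosed_closure isIrreducible_singleton.closure hnot
      have hzy : z = y := by
        have : z ∈ ({y} : Set X) := hy ▸ subset_closure rfl
        exact this
      have hxz : x ∈ closure ({z} : Set X) := specializes_iff_mem_closure.mp h01.le
      rw [hy] at hxz
      have hxy : x = y := hxz
      rw [← hzy] at hxy
      rw [hxy] at h01
      exact lt_irrefl _ h01
    exact_mod_cast le_antisymm hle hge

end Groth.Agent.S12129
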