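import Groth.Statements.S1213
import Mathlib.RingTheory.Nakayama
import Mathlib.RingTheory.OrzechProperty
import Mathlib.RingTheory.Finiteness.Basic
import Mathlib.RingTheory.LocalRing.Module
import Mathlib.Order.CompactlyGenerated.Basic
-- import your own Groth.Agent.* helpers here

set_option autoImplicit false
universe u
open scoped Classical
open FlatMor

namespace Groth.Agent.S1213


open TensorProduct in
theorem range_rTensor_mono {R : Type*} [CommRing R] {N M : Type*} [AddCommGroup N] [Module R N]
    [AddCommGroup M] [Module R M] {P Q : Submodule R N} (h : P ≤ Q) :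
    LinearMap.range (P.subtype.rTensor M) ≤ LinearMap.range (Q.subtype.rTensor M) := by
  have : P.subtype = Q.subtype.comp (Submodule.inclusion h) := by
    ext x; rfl
  rw [this, LinearMap.rTensor_comp]
  exact LinearMap.range_comp_le_range _ _

open TensorProduct in
theorem exists_finset_mem_range {R : Type*} [CommRing R] {N M : Type*} [AddCommGroup N] [Module R N]
    [AddCommGroup M] [Module R M] {ι : Type*} (F : ι → Submodule R N) (hF : ⨆ i, F i = ⊤)
    (z : N ⊗[R] M) :
    ∃ s : Finset ι, z ∈ LinearMap.range ((⨆ i ∈ s, F i).subtype.rTensor M) := by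
  classical
  induction z using TensorProduct.induction_on with
  | zero => exact ⟨∅, zero_mem _⟩
  | tmul n m =>
    have hn : n ∈ ⨆ i, F i := by rw [hF]; trivial
    obtain ⟨s, hs⟩ := (Submodule.mem_iSup_iff_exists_finset).mp hn
    exact ⟨s, ⟨(⟨n, hs⟩ : ↥(⨆ i ∈ s, F i)) ⊗ₜ m, by simp⟩⟩
  | add a b ha hb =>
    obtain ⟨s, hs⟩ := ha
    obtain ⟨t, ht⟩ := hb
    refine ⟨s ∪ t, add_mem ?_ ?_⟩
    · refine range_rTensor_mono ?_ hs
      exact biSup_mono fun i hi => Finset.mem_union_left _ hi
    · refine range_rTensor_mono ?_ ht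
      exact biSup_mono fun i hi => Finset.mem_union_right _ hi

open TensorProduct IsLocalRing in
/-- Let R be a local ring, S an R-algebra and N an S-module which, as an R-module, is an internal direct
sum of finite R-submodules. Then for every R-module M and every prime q of S which is the
annihilator of an element of the S-module N ⊗_R M we have q + 𝔪_R S ≠ S. -/
theorem result {R S : Type u} [CommRing R] [IsLocalRing R] [CommRing S] [Algebra R S]
    (N : Type u) [AddCommGroup N] [Module S N] [Module R N] [IsScalarTower R S N]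
    (ι : Type u) (F : ι → Submodule R N) (hF : DirectSum.IsInternal F) (hfin : ∀ i, Module.Finite R (F i))
    (M : Type u) [AddCommGroup M] [Module R M]
    (q : Ideal S) [q.IsPrime] (hq : q ∈ FlatCA.ass S (N ⊗[R] M)) :
    q ⊔ (maximalIdeal R).map (algebraMap R S) ≠ ⊤ := by
  classical
  obtain ⟨hqp, z, hz⟩ := hq
  intro htop
  have h1 : (1 : S) ∈ q ⊔ (maximalIdeal R).map (algebraMap R S) := by rw [htop]; trivial
  obtain ⟨f, hf, h, hh, hfh⟩ := Submodule.mem_sup.mp h1
  obtain ⟨s, hs⟩ := exists_finset_mem_range (M := M) F hF.submodule_iSup_eq_top z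
  -- the two complementary summands
  obtain ⟨N₁, hN₁⟩ : ∃ N₁ : Submodule R N, N₁ = ⨆ i ∈ s, F i := ⟨_, rfl⟩
  obtain ⟨N₂, hN₂⟩ : ∃ N₂ : Submodule R N, N₂ = ⨆ i ∈ ((↑s : Set ι)ᶜ), F i := ⟨_, rfl⟩
  rw [← hN₁] at hs
  obtain ⟨z₁, hz₁⟩ := hs
  have hcompl : IsCompl N₁ N₂ := by
    rw [hN₁, hN₂]
    constructor
    · exact hF.submodule_iSupIndep.disjoint_biSup_biSup (s := (↑s : Set ι)) disjoint_compl_right
    · rw [codisjoint_iff, eq_top_iff, ← hF.submodule_iSup_eq_top]
      refine iSup_le fun i => ?_
      by_cases hi : i ∈ s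
      · exact le_sup_of_le_left (le_biSup F hi)
      · exact le_sup_of_le_right
          (le_biSup F (show i ∈ ((↑s : Set ι)ᶜ) by simpa using hi))
  have hfg : N₁.FG := by
    rw [hN₁]
    exact Submodule.fg_biSup s F fun i _ => Module.Finite.iff_fg.mp (hfin i)
  have : Module.Finite R N₁ := Module.Finite.iff_fg.mpr hfg
  let π : N →ₗ[R] N₁ := Submodule.projectionOnto N₁ N₂ hcompl
  let mulS : S → (N →ₗ[R] N) := fun g => (LinearMap.lsmul S N g).restrictScalars R
  let f' : N₁ →ₗ[R] N₁ := π.comp ((mulS f).comp N₁.subtype)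
  -- multiplication by elements of `𝔪 S` followed by the projection lands in `𝔪 N₁`
  have hmem : ∀ n : N₁, π (h • (n : N)) ∈ (maximalIdeal R) • (⊤ : Submodule R N₁) := by
    intro n
    have h1 : h • (n : N) ∈ ((maximalIdeal R).map (algebraMap R S) • (⊤ : Submodule S N)) :=
      Submodule.smul_mem_smul hh trivial
    have h2 : h • (n : N) ∈ (maximalIdeal R) • (⊤ : Submodule R N) := by
      have := Ideal.smul_restrictScalars (maximalIdeal R) (⊤ : Submodule S N)
      rw [Submodule.restrictScalars_top] at this
      rw [← this]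
      exact h1
    exact Submodule.smul_top_le_comap_smul_top (maximalIdeal R) π h2
  have hsurj : Function.Surjective f' := by
    rw [← LinearMap.range_eq_top, eq_top_iff]
    apply Submodule.le_of_le_smul_of_le_jacobson_bot (I := maximalIdeal R) Module.Finite.fg_top
      (IsLocalRing.maximalIdeal_le_jacobson _)
    intro n _
    have hn : n = f' n + π (h • (n : N)) := by
      have : (n : N) = f • (n : N) + h • (n : N) := by rw [← add_smul, hfh, one_smul]
      calc n = π (n : N) := (Submodule.projectionOnto_apply_left hcompl n).symm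
        _ = π (f • (n : N) + h • (n : N)) := by rw [← this]
        _ = f' n + π (h • (n : N)) := by rw [map_add]; rfl
    rw [hn]
    exact Submodule.add_mem_sup (LinearMap.mem_range_self _ _) (hmem n)
  have hbij : Function.Bijective f' :=
    ⟨OrzechProperty.injective_of_surjective_endomorphism f' hsurj, hsurj⟩
  let e : N₁ ≃ₗ[R] N₁ := LinearEquiv.ofBijective f' hbij
  have hmul : ∀ w : N ⊗[R] M, ((mulS f).rTensor M) w = f • w := by
    intro w
    induction w using TensorProduct.induction_on with
    | zero => simp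
    | tmul n m =>
      rw [LinearMap.rTensor_tmul, TensorProduct.smul_tmul']
      rfl
    | add a b ha hb => rw [map_add, ha, hb, smul_add]
  have hfz : f • z = 0 := by
    rw [hz] at hf
    exact (Submodule.mem_annihilator_span_singleton z f).mp hf
  have hz10 : z₁ = 0 := by
    apply (e.rTensor M).injective
    rw [map_zero]
    have : (e.rTensor M) z₁ = (f'.rTensor M) z₁ := rfl
    rw [this]
    simp only [f', LinearMap.rTensor_comp, LinearMap.comp_apply]
    rw [hz₁, hmul, hfz, map_zero]
  have hz0 : z = 0 := by rw [← hz₁, hz10, map_zero]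
  apply hqp.ne_top
  rw [hz, hz0, Submodule.span_singleton_eq_bot.mpr rfl, Submodule.annihilator_bot]

end Groth.Agent.S1213
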