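import Groth.Statements.S12137
import Groth.Agent.Lib.Helper42.PolyZero
import Groth.Agent.Lib.Helper42.ConeImm
-- import your own Groth.Agent.* helpers here

set_option autoImplicit false
universe u
open CategoryTheory CategoryTheory.Limits AlgebraicGeometry Opposite TopologicalSpace
open scoped HomogeneousIdeal
noncomputable section
open EGA2

namespace Groth.Agent.S12137

section setup

variable {Y P : Scheme.{u}} (𝒜 : RelSpec.QCAlg Y) (Sh : RelProj.QCGrAlg Y)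
    (ι : 𝒜 ⟶ Sh.toQCAlg)
    (hι : ∀ (U : Y.Opens) (hU : IsAffineOpen U) (a : 𝒜.presheaf.obj (op U)), (ι.hom.app (op U)).hom a ∈ Sh.deg U hU 0)
    (z : Sh.presheaf.obj (op ⊤))
    (hz : ∀ (U : Y.Opens) (hU : IsAffineOpen U), (Sh.presheaf.map (homOfLE le_top).op).hom z ∈ Sh.deg U hU 1)
    (hpoly : ∀ (U : Y.Opens) (hU : IsAffineOpen U),
      Function.Bijective (Polynomial.eval₂RingHom (ι.hom.app (op U)).hom ((Sh.presheaf.map (homOfLE le_top).op).hom z)))
    (p : P ⟶ Y)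
    (chart : ∀ (U : Y.Opens) (hU : IsAffineOpen U), (((p ⁻¹ᵁ U : P.Opens) : Scheme.{u}) ≅ Proj (Sh.deg U hU)))
    (hP : RelProj.IsRelProj Sh p chart)
    (θ : ∀ (U : Y.Opens) (hU : IsAffineOpen U),
      CommRingCat.of (HomogeneousLocalization.Away (Sh.deg U hU) ((Sh.presheaf.map (homOfLE le_top).op).hom z)) ⟶
        𝒜.presheaf.obj (op U))
    (hθ : ∀ (U : Y.Opens) (hU : IsAffineOpen U)
      (q : HomogeneousLocalization.Away (Sh.deg U hU) ((Sh.presheaf.map (homOfLE le_top).op).hom z))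
      (k : ℕ) (a : 𝒜.presheaf.obj (op U)),
        q.val = Localization.mk ((ι.hom.app (op U)).hom a * (Sh.presheaf.map (homOfLE le_top).op).hom z ^ k)
          ⟨(Sh.presheaf.map (homOfLE le_top).op).hom z ^ k,
            pow_mem (Submonoid.mem_powers ((Sh.presheaf.map (homOfLE le_top).op).hom z)) k⟩ →
        (θ U hU).hom q = a)

/-- the morphism on the chart over `U`. -/
def chartMor (U : Y.Opens) (hU : IsAffineOpen U) : Spec (𝒜.presheaf.obj (op U)) ⟶ P :=
  Spec.map (θ U hU) ≫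
    Proj.awayι (Sh.deg U hU) ((Sh.presheaf.map (homOfLE le_top).op).hom z) (hz U hU) one_pos ≫
      RelProj.emb p chart U hU

include hι hpoly hP hθ in
theorem chartMor_basic (U : Y.Opens) (hU : IsAffineOpen U) (r : Γ(Y, U)) :
    Spec.map (𝒜.presheaf.map (homOfLE (Y.basicOpen_le r)).op) ≫ chartMor 𝒜 Sh z hz p chart θ U hU =
      chartMor 𝒜 Sh z hz p chart θ (Y.basicOpen r) (hU.basicOpen r) := by
  have hρz : (Sh.res hU (hU.basicOpen r) (Y.basicOpen_le r))
      ((Sh.presheaf.map (homOfLE (le_top : U ≤ ⊤)).op).hom z) =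
      (Sh.presheaf.map (homOfLE (le_top : Y.basicOpen r ≤ ⊤)).op).hom z := by
    change ((Sh.presheaf.map (homOfLE le_top).op) ≫
      Sh.presheaf.map (homOfLE (Y.basicOpen_le r)).op).hom z = _
    rw [← Functor.map_comp]
    rfl
  have hcomm : ∀ a : 𝒜.presheaf.obj (op U),
      (Sh.res hU (hU.basicOpen r) (Y.basicOpen_le r)) ((ι.hom.app (op U)).hom a) =
      (ι.hom.app (op (Y.basicOpen r))).hom
        ((𝒜.presheaf.map (homOfLE (Y.basicOpen_le r)).op).hom a) := by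
    intro a
    have h2 := ι.hom.naturality (homOfLE (Y.basicOpen_le r)).op
    exact (congrArg (fun φ => φ.hom a) h2).symm
  have key := Groth.Agent.Lib.Helper42.PolyZero.chart_compat (ι.hom.app (op U)).hom (hι U hU)
    (hz U hU) (hpoly U hU) (ι.hom.app (op (Y.basicOpen r))).hom
    (hz (Y.basicOpen r) (hU.basicOpen r))
    (𝒜.presheaf.map (homOfLE (Y.basicOpen_le r)).op).hom
    (Sh.res hU (hU.basicOpen r) (Y.basicOpen_le r)) (Sh.irrelevant_le_map U hU r) hcomm hρz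
    (θ U hU).hom (hθ U hU) (θ (Y.basicOpen r) (hU.basicOpen r)).hom
    (hθ (Y.basicOpen r) (hU.basicOpen r))
  unfold chartMor
  rw [← RelProj.map_res_emb hP U hU r]
  have key' : Spec.map (𝒜.presheaf.map (homOfLE (Y.basicOpen_le r)).op) ≫ Spec.map (θ U hU) ≫
      Proj.awayι (Sh.deg U hU) ((Sh.presheaf.map (homOfLE le_top).op).hom z) (hz U hU) one_pos =
      Spec.map (θ (Y.basicOpen r) (hU.basicOpen r)) ≫
        Proj.awayι (Sh.deg (Y.basicOpen r) (hU.basicOpen r))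
          ((Sh.presheaf.map (homOfLE le_top).op).hom z) (hz (Y.basicOpen r) (hU.basicOpen r))
          one_pos ≫
        Proj.map (Sh.res hU (hU.basicOpen r) (Y.basicOpen_le r)) (Sh.irrelevant_le_map U hU r) :=
    key
  simp only [← Category.assoc] at key' ⊢
  rw [key']

include hι hpoly hP hθ in
theorem chartMor_res (U : Y.Opens) (hU : IsAffineOpen U) (W : Y.Opens) (hW : IsAffineOpen W)
    (r : Γ(Y, U)) (hr : Y.basicOpen r = W) (hWU : W ≤ U) :
    Spec.map (𝒜.presheaf.map (homOfLE hWU).op) ≫ chartMor 𝒜 Sh z hz p chart θ U hU =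
      chartMor 𝒜 Sh z hz p chart θ W hW ∧
    Spec.map (𝒜.presheaf.map (homOfLE hWU).op) ≫ 𝒜.ι U hU = 𝒜.ι W hW := by
  subst hr
  refine ⟨chartMor_basic 𝒜 Sh ι hι z hz hpoly p chart hP θ hθ U hU r, ?_⟩
  let W' : Y.AffineZariskiSite := ⟨Y.basicOpen r, hW⟩
  let U' : Y.AffineZariskiSite := ⟨U, hU⟩
  have hle : W' ≤ U' := ⟨r, rfl⟩
  exact 𝒜.ι_res (U := U') (V := W') (homOfLE hle)

theorem chart_covers (t : 𝒜.spec) :
    ∃ U : {U : Y.Opens // IsAffineOpen U}, t ∈ Set.range (𝒜.ι U.1 U.2).base := by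
  obtain ⟨U, hU, hxU⟩ : ∃ U : Y.Opens, IsAffineOpen U ∧ 𝒜.π.base t ∈ U := by
    obtain ⟨_, ⟨V, hV, rfl⟩, hxV, -⟩ := (Y.isBasis_affineOpens).exists_subset_of_mem_open
      (Set.mem_univ (𝒜.π.base t)) isOpen_univ
    exact ⟨V, hV, hxV⟩
  refine ⟨⟨U, hU⟩, ?_⟩
  have h1 : t ∈ 𝒜.π ⁻¹ᵁ U := hxU
  rw [𝒜.π_preimage U hU] at h1
  exact h1

include hι hpoly hP hθ in
theorem existsUnique_glue :
    ∃! i : 𝒜.spec ⟶ P, ∀ (U : {U : Y.Opens // IsAffineOpen U}),
      𝒜.ι U.1 U.2 ≫ i = chartMor 𝒜 Sh z hz p chart θ U.1 U.2 := by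
  refine Groth.Agent.Lib.Helper42.LocalGlue.existsUnique_glue
    (J := {U : Y.Opens // IsAffineOpen U})
    (fun U => Spec (𝒜.presheaf.obj (op U.1))) (fun U => 𝒜.ι U.1 U.2) (chart_covers 𝒜)
    (fun U => chartMor 𝒜 Sh z hz p chart θ U.1 U.2) ?_
  rintro ⟨U₁, hU₁⟩ ⟨U₂, hU₂⟩ t ht₁ ht₂
  have h1 : 𝒜.π.base t ∈ U₁ := by
    have : t ∈ 𝒜.π ⁻¹ᵁ U₁ := by rw [𝒜.π_preimage U₁ hU₁]; exact ht₁
    exact this
  have h2 : 𝒜.π.base t ∈ U₂ := by
    have : t ∈ 𝒜.π ⁻¹ᵁ U₂ := by rw [𝒜.π_preimage U₂ hU₂]; exact ht₂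
    exact this
  obtain ⟨r₁, r₂, hr, hxr⟩ := exists_basicOpen_le_affine_inter hU₁ hU₂ _ ⟨h1, h2⟩
  have hW : IsAffineOpen (Y.basicOpen r₁) := hU₁.basicOpen r₁
  have hWU₂ : Y.basicOpen r₁ ≤ U₂ := hr ▸ Y.basicOpen_le r₂
  obtain ⟨e1, e2⟩ := chartMor_res 𝒜 Sh ι hι z hz hpoly p chart hP θ hθ U₁ hU₁ _ hW r₁ rfl
    (Y.basicOpen_le r₁)
  obtain ⟨e3, e4⟩ := chartMor_res 𝒜 Sh ι hι z hz hpoly p chart hP θ hθ U₂ hU₂ _ hW r₂ hr.symm
    hWU₂
  refine ⟨⟨Y.basicOpen r₁, hW⟩, Spec.map (𝒜.presheaf.map (homOfLE (Y.basicOpen_le r₁)).op),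
    Spec.map (𝒜.presheaf.map (homOfLE hWU₂).op), ?_, e2, e4, e1.trans e3.symm⟩
  have h3 : t ∈ 𝒜.π ⁻¹ᵁ (Y.basicOpen r₁) := hxr
  rw [𝒜.π_preimage _ hW] at h3
  exact h3

include hP hθ in
theorem chartMor_comp (U : Y.Opens) (hU : IsAffineOpen U) :
    chartMor 𝒜 Sh z hz p chart θ U hU ≫ p = 𝒜.ι U hU ≫ 𝒜.π := by
  unfold chartMor
  rw [𝒜.ι_π U hU]
  simp only [Category.assoc]
  rw [Groth.Agent.Lib.Helper42.ProjQ.emb_comp hP U hU, ← Category.assoc (Proj.awayι _ _ _ _),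
    Proj.awayι_toSpecZero, ← Category.assoc (Spec.map _) (Spec.map _), ← Spec.map_comp,
    ← Category.assoc (Spec.map _) (Spec.map _), ← Spec.map_comp]
  refine congrArg (fun φ => φ ≫ hU.fromSpec) ?_
  refine congrArg Spec.map ?_
  ext r
  change (θ U hU).hom (HomogeneousLocalization.fromZeroRingHom (Sh.deg U hU) _
    ((Sh.strZero U hU).hom r)) = (𝒜.str.app (op U)).hom r
  apply hθ U hU _ 0
  have h2 : (Sh.str.app (op U)).hom r = (ι.hom.app (op U)).hom ((𝒜.str.app (op U)).hom r) :=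
    (congrArg (fun φ => (φ.app (op U)).hom r) ι.comm).symm
  have h3 : (HomogeneousLocalization.fromZeroRingHom (Sh.deg U hU)
      (Submonoid.powers ((Sh.presheaf.map (homOfLE le_top).op).hom z))
      ((Sh.strZero U hU).hom r)).val = Localization.mk ((Sh.str.app (op U)).hom r) 1 := rfl
  rw [h3]
  congr 1
  · rw [pow_zero, mul_one, h2]
  · exact Subtype.ext (pow_zero _).symm

include hP hθ in
theorem glue_comp (i : 𝒜.spec ⟶ P)
    (hi : ∀ (U : {U : Y.Opens // IsAffineOpen U}),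
      𝒜.ι U.1 U.2 ≫ i = chartMor 𝒜 Sh z hz p chart θ U.1 U.2) : i ≫ p = 𝒜.π := by
  refine Groth.Agent.Lib.Helper42.LocalGlue.hom_ext_of_family
    (J := {U : Y.Opens // IsAffineOpen U})
    (fun U => Spec (𝒜.presheaf.obj (op U.1))) (fun U => 𝒜.ι U.1 U.2) (chart_covers 𝒜)
    (fun U => ?_)
  rw [← Category.assoc, hi U]
  exact chartMor_comp 𝒜 Sh ι z hz p chart hP θ hθ U.1 U.2

include hι hpoly hP hθ in
theorem isIso_glue (i : 𝒜.spec ⟶ P)
    (hi : ∀ (U : {U : Y.Opens // IsAffineOpen U}),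
      𝒜.ι U.1 U.2 ≫ i = chartMor 𝒜 Sh z hz p chart θ U.1 U.2) : IsIso i := by
  have hcomp := glue_comp 𝒜 Sh ι z hz p chart hP θ hθ i hi
  have key : MorphismProperty.isomorphisms Scheme.{u} i := by
    refine Groth.Agent.Lib.Helper42.LocalGlue.of_family_isPullback
      (Q := MorphismProperty.isomorphisms Scheme.{u}) i
      (J := {U : Y.Opens // IsAffineOpen U})
      (fun U => Proj (Sh.deg U.1 U.2)) (fun U => RelProj.emb p chart U.1 U.2) ?_
      (fun U => Spec (𝒜.presheaf.obj (op U.1))) (fun U => 𝒜.ι U.1 U.2)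
      (fun U => Spec.map (θ U.1 U.2) ≫
        Proj.awayι (Sh.deg U.1 U.2) ((Sh.presheaf.map (homOfLE le_top).op).hom z) (hz U.1 U.2)
          one_pos) ?_ ?_
    · intro x
      obtain ⟨U, hU, hxU⟩ : ∃ U : Y.Opens, IsAffineOpen U ∧ p.base x ∈ U := by
        obtain ⟨_, ⟨V, hV, rfl⟩, hxV, -⟩ := (Y.isBasis_affineOpens).exists_subset_of_mem_open
          (Set.mem_univ (p.base x)) isOpen_univ
        exact ⟨V, hV, hxV⟩
      refine ⟨⟨U, hU⟩, ?_⟩
      rw [Groth.Agent.Lib.Helper42.ProjQ.range_emb]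
      exact hxU
    · rintro ⟨U, hU⟩
      refine (IsOpenImmersion.isPullback _ (𝒜.ι U hU) (RelProj.emb p chart U hU) i ?_ ?_).flip
      · rw [hi ⟨U, hU⟩]
        unfold chartMor
        rw [Category.assoc]
      · ext t
        have h1 : t ∈ i ⁻¹ᵁ (RelProj.emb p chart U hU).opensRange ↔ p.base (i.base t) ∈ U := by
          change i.base t ∈ Set.range (RelProj.emb p chart U hU).base ↔ _
          rw [Groth.Agent.Lib.Helper42.ProjQ.range_emb]
          exact Iff.rfl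
        have h2 : p.base (i.base t) = 𝒜.π.base t := congrArg (fun φ => φ.base t) hcomp
        have h3 : t ∈ (𝒜.ι U hU).opensRange ↔ 𝒜.π.base t ∈ U := by
          rw [← 𝒜.π_preimage U hU]
          exact Iff.rfl
        rw [SetLike.mem_coe, SetLike.mem_coe, h1, h2, h3]
    · rintro ⟨U, hU⟩
      rw [MorphismProperty.isomorphisms.iff]
      have hb : Function.Bijective (θ U hU).hom :=
        Groth.Agent.Lib.Helper42.PolyZero.bijective_of_spec (ι.hom.app (op U)).hom (hι U hU)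
          (hz U hU) (hpoly U hU) (θ U hU).hom (hθ U hU)
      have h1 : IsIso (θ U hU) := by
        rw [ConcreteCategory.isIso_iff_bijective]
        exact hb
      have h2 : IsIso (Proj.awayι (Sh.deg U hU) ((Sh.presheaf.map (homOfLE le_top).op).hom z)
          (hz U hU) one_pos) := by
        apply isIso_of_isOpenImmersion_of_opensRange_eq_top
        rw [Proj.opensRange_awayι, eq_top_iff]
        intro y _
        exact (ProjectiveSpectrum.mem_basicOpen _ _ _).mpr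
          (Groth.Agent.Lib.Helper42.PolyZero.z_notMem (ι.hom.app (op U)).hom (hι U hU)
            (hz U hU) (hpoly U hU) y)
      infer_instance
  exact (MorphismProperty.isomorphisms.iff i).mp key

end setup

/-- Let Y be a scheme, 𝒜 a quasi-coherent O_Y-algebra and Ŝ = 𝒜[T], graded with 𝒜 in degree 0 and T in
degree 1 — presented through a homomorphism of algebras ι : 𝒜 → Ŝ landing in degree 0 and a global
section z of Ŝ of degree 1 such that, over every affine open U, the map 𝒜(U)[X] → Ŝ(U) sending X to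
z is bijective — and let p : P → Y with its charts be the relative homogeneous spectrum Proj(Ŝ). For
each affine open U let θ_U : Ŝ(U)_(z) → 𝒜(U) be the ring isomorphism sending ι(a) z^k / z^k to a.
Then there is a unique morphism i : Spec(𝒜) → P which, on the chart Spec 𝒜(U) of Spec(𝒜) over each
affine open U, is Spec(θ_U) followed by the open immersion of D_+(z|U) into Proj Ŝ(U) and the chart
of P; moreover i is an isomorphism and lies over Y. In particular Proj(O_Y[T]) is Y. -/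
theorem result {Y P : Scheme.{u}} (𝒜 : RelSpec.QCAlg Y) (Sh : RelProj.QCGrAlg Y)
    (ι : 𝒜 ⟶ Sh.toQCAlg)
    (hι : ∀ (U : Y.Opens) (hU : IsAffineOpen U) (a : 𝒜.presheaf.obj (op U)), (ι.hom.app (op U)).hom a ∈ Sh.deg U hU 0)
    (z : Sh.presheaf.obj (op ⊤))
    (hz : ∀ (U : Y.Opens) (hU : IsAffineOpen U), (Sh.presheaf.map (homOfLE le_top).op).hom z ∈ Sh.deg U hU 1)
    (hpoly : ∀ (U : Y.Opens) (hU : IsAffineOpen U),
      Function.Bijective (Polynomial.eval₂RingHom (ι.hom.app (op U)).hom ((Sh.presheaf.map (homOfLE le_top).op).hom z)))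
    (p : P ⟶ Y)
    (chart : ∀ (U : Y.Opens) (hU : IsAffineOpen U), (((p ⁻¹ᵁ U : P.Opens) : Scheme.{u}) ≅ Proj (Sh.deg U hU)))
    (hP : RelProj.IsRelProj Sh p chart)
    (θ : ∀ (U : Y.Opens) (hU : IsAffineOpen U),
      CommRingCat.of (HomogeneousLocalization.Away (Sh.deg U hU) ((Sh.presheaf.map (homOfLE le_top).op).hom z)) ⟶
        𝒜.presheaf.obj (op U))
    (hθ : ∀ (U : Y.Opens) (hU : IsAffineOpen U)
      (q : HomogeneousLocalization.Away (Sh.deg U hU) ((Sh.presheaf.map (homOfLE le_top).op).hom z))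
      (k : ℕ) (a : 𝒜.presheaf.obj (op U)),
        q.val = Localization.mk ((ι.hom.app (op U)).hom a * (Sh.presheaf.map (homOfLE le_top).op).hom z ^ k)
          ⟨(Sh.presheaf.map (homOfLE le_top).op).hom z ^ k,
            pow_mem (Submonoid.mem_powers ((Sh.presheaf.map (homOfLE le_top).op).hom z)) k⟩ →
        (θ U hU).hom q = a) :
    (∃! i : 𝒜.spec ⟶ P, ∀ (U : Y.Opens) (hU : IsAffineOpen U),
        𝒜.ι U hU ≫ i =
          Spec.map (θ U hU) ≫
            Proj.awayι (Sh.deg U hU) ((Sh.presheaf.map (homOfLE le_top).op).hom z) (hz U hU) one_pos ≫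
              RelProj.emb p chart U hU) ∧
      ∀ i : 𝒜.spec ⟶ P, (∀ (U : Y.Opens) (hU : IsAffineOpen U),
        𝒜.ι U hU ≫ i =
          Spec.map (θ U hU) ≫
            Proj.awayι (Sh.deg U hU) ((Sh.presheaf.map (homOfLE le_top).op).hom z) (hz U hU) one_pos ≫
              RelProj.emb p chart U hU) →
        IsIso i ∧ i ≫ p = 𝒜.π := by
  have hglue := existsUnique_glue 𝒜 Sh ι hι z hz hpoly p chart hP θ hθ
  constructor
  · obtain ⟨i, hi, huniq⟩ := hglue
    exact ⟨i, fun U hU => hi ⟨U, hU⟩, fun i' hi' => huniq i' (fun U => hi' U.1 U.2)⟩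
  · intro i hi
    exact ⟨isIso_glue 𝒜 Sh ι hι z hz hpoly p chart hP θ hθ i (fun U => hi U.1 U.2),
      glue_comp 𝒜 Sh ι z hz p chart hP θ hθ i (fun U => hi U.1 U.2)⟩

end Groth.Agent.S12137
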