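import Groth.Statements.S1214
-- import your own Groth.Agent.* helpers here

set_option autoImplicit false
universe u
open FlatMor

namespace Groth.Agent.S1214

/-- If `N` is `J`-adically complete and `h ∈ J` then `1 - h` acts bijectively on `N`. -/
theorem bijective_one_sub_smul {S : Type*} [CommRing S] (J : Ideal S) (N : Type*) [AddCommGroup N]
    [Module S N] [IsAdicComplete J N] (h : S) (hh : h ∈ J) :
    Function.Bijective (fun n : N => (1 - h) • n) := by
  have key : ∀ (m k : ℕ) (n : N), m ≤ k → h ^ k • n ∈ (J ^ m • ⊤ : Submodule S N) := fun m k n hmk =>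
    Submodule.smul_mem_smul (Ideal.pow_le_pow_right hmk (Ideal.pow_mem_pow hh k)) trivial
  constructor
  · intro a b hab
    simp only at hab
    rw [← sub_eq_zero]
    have hd : (1 - h) • (a - b) = 0 := by rw [smul_sub, hab, sub_self]
    have hd' : h • (a - b) = a - b := by
      rw [sub_smul, one_smul, sub_eq_zero] at hd; exact hd.symm
    have hpow : ∀ k : ℕ, h ^ k • (a - b) = a - b := by
      intro k
      induction k with
      | zero => simp
      | succ k ih => rw [pow_succ, mul_smul, hd', ih]
    apply IsHausdorff.haus (IsAdicComplete.toIsHausdorff : IsHausdorff J N)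
    intro k
    rw [SModEq.zero, ← hpow k]
    exact key k k _ le_rfl
  · intro n
    let g : ℕ → S := fun k => ∑ i ∈ Finset.range k, h ^ i
    have hf : ∀ {m k : ℕ}, m ≤ k → g m • n ≡ g k • n [SMOD (J ^ m • ⊤ : Submodule S N)] := by
      intro m k hmk
      rw [SModEq.sub_mem, ← sub_smul, ← neg_sub, neg_smul, neg_mem_iff]
      simp only [g]
      rw [← Finset.sum_Ico_eq_sub _ hmk, Finset.sum_smul]
      refine Submodule.sum_mem _ fun i hi => ?_
      exact key m i n (Finset.mem_Ico.mp hi).1
    obtain ⟨L, hL⟩ := IsPrecomplete.prec (IsAdicComplete.toIsPrecomplete : IsPrecomplete J N) hf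
    refine ⟨L, ?_⟩
    simp only
    rw [← sub_eq_zero]
    apply IsHausdorff.haus (IsAdicComplete.toIsHausdorff : IsHausdorff J N)
    intro k
    rw [SModEq.zero]
    have h1 : (1 - h) • L - n = (1 - h) • (L - g k • n) - h ^ k • n := by
      have : (1 - h) * g k = 1 - h ^ k := mul_neg_geom_sum h k
      rw [smul_sub, ← mul_smul, this, sub_smul 1 (h ^ k), one_smul]
      abel
    rw [h1]
    refine Submodule.sub_mem _ (Submodule.smul_mem _ _ ?_) (key k k n le_rfl)
    have := hL k
    rw [SModEq.sub_mem] at this
    rw [← neg_sub, neg_mem_iff]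
    exact this

open TensorProduct in
/-- Let R → S be a ring map, I an ideal of R and N an S-module which is I-adically complete. Then for
every R-module M and every prime q of S which is the annihilator of an element of the S-module N ⊗_R
M we have q + IS ≠ S. -/
theorem result {R S : Type u} [CommRing R] [CommRing S] [Algebra R S] (I : Ideal R)
    (N : Type u) [AddCommGroup N] [Module S N] [Module R N] [IsScalarTower R S N] [IsAdicComplete I N]
    (M : Type u) [AddCommGroup M] [Module R M]
    (q : Ideal S) [q.IsPrime] (hq : q ∈ FlatCA.ass S (N ⊗[R] M)) :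
    q ⊔ I.map (algebraMap R S) ≠ ⊤ := by
  obtain ⟨hqp, z, hz⟩ := hq
  intro htop
  have h1 : (1 : S) ∈ q ⊔ I.map (algebraMap R S) := by rw [htop]; trivial
  obtain ⟨f, hf, h, hh, hfh⟩ := Submodule.mem_sup.mp h1
  have hfeq : f = 1 - h := by rw [← hfh]; ring
  have : IsAdicComplete (I.map (algebraMap R S)) N :=
    (IsAdicComplete.map_algebraMap_iff I N).mpr inferInstance
  have hbij := bijective_one_sub_smul (I.map (algebraMap R S)) N h hh
  rw [← hfeq] at hbij
  -- the R-linear automorphism of N given by multiplication by f
  let φ : N →ₗ[R] N := (LinearMap.lsmul S N f).restrictScalars R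
  have hφ : Function.Bijective φ := hbij
  let e : N ≃ₗ[R] N := LinearEquiv.ofBijective φ hφ
  have hez : ∀ w : N ⊗[R] M, (e.rTensor M) w = f • w := by
    intro w
    induction w using TensorProduct.induction_on with
    | zero => simp
    | tmul n m =>
      rw [LinearEquiv.rTensor_tmul, TensorProduct.smul_tmul']
      rfl
    | add a b ha hb => rw [map_add, ha, hb, smul_add]
  have hfz : f • z = 0 := by
    rw [hz] at hf
    exact (Submodule.mem_annihilator_span_singleton z f).mp hf
  have hz0 : z = 0 := by
    apply (e.rTensor M).injective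
    rw [hez, hfz, map_zero]
  apply hqp.ne_top
  rw [hz, hz0, Submodule.span_singleton_eq_bot.mpr rfl, Submodule.annihilator_bot]

end Groth.Agent.S1214
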