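import Groth.Statements.S12140
import Groth.Agent.Lib.Helper42.ProjQAffine
-- import your own Groth.Agent.* helpers here

set_option autoImplicit false
universe u
open CategoryTheory CategoryTheory.Limits AlgebraicGeometry TopologicalSpace Opposite
open scoped HomogeneousIdeal
noncomputable section
open EGA2

namespace Groth.Agent.S12140

/-- Let φ : 𝒜 → ℬ be a graded homomorphism of quasi-coherent positively graded O_Y-algebras, PA =
Proj(𝒜), PB = Proj(ℬ) with their charts, G(φ) ⊆ PB the open on which the induced morphism is defined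
and Φ = Proj(φ) : G(φ) → PA that morphism (pinned on the standard affine charts of G(φ)). Then Φ is
affine, and for every affine open U of Y the part of G(φ) over U is the image, under the chart of PB
over U, of the open G(φ(U)) of Proj ℬ(U) where the morphism of homogeneous spectra induced by φ(U) :
𝒜(U) → ℬ(U) is defined. -/
theorem result {Y PA PB : Scheme.{u}} (𝒜 ℬ : RelProj.QCGrAlg Y)
    (φ : 𝒜.toQCAlg ⟶ ℬ.toQCAlg) (hφ : RelProj.IsGradedHom φ)
    (pA : PA ⟶ Y) (chartA : ∀ (U : Y.Opens) (hU : IsAffineOpen U), (((pA ⁻¹ᵁ U : PA.Opens) : Scheme.{u}) ≅ Proj (𝒜.deg U hU)))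
    (hA : RelProj.IsRelProj 𝒜 pA chartA)
    (pB : PB ⟶ Y) (chartB : ∀ (U : Y.Opens) (hU : IsAffineOpen U), (((pB ⁻¹ᵁ U : PB.Opens) : Scheme.{u}) ≅ Proj (ℬ.deg U hU)))
    (hB : RelProj.IsRelProj ℬ pB chartB)
    (Φ : ((RelProj.domQ (RelProj.QGrHom.ofHom φ hφ) pB chartB : PB.Opens) : Scheme.{u}) ⟶ PA)
    (hΦ : RelProj.IsProjQMapOn (RelProj.QGrHom.ofHom φ hφ) pA chartA pB chartB
      (RelProj.domQ (RelProj.QGrHom.ofHom φ hφ) pB chartB) Φ) :
    IsAffineHom Φ ∧
      ∀ (U : Y.Opens) (hU : IsAffineOpen U),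
        RelProj.domQ (RelProj.QGrHom.ofHom φ hφ) pB chartB ⊓ pB ⁻¹ᵁ U =
          (RelProj.emb pB chartB U hU) ''ᵁ RelCone.domOpen (RelProj.gradedHomAt φ hφ U hU) := by
  have hle : ∀ U : Y.Opens, U ≤ (𝟙 Y : Y ⟶ Y) ⁻¹ᵁ U := fun U => le_refl U
  have hfun : ∀ (U : Y.Opens) (hU : IsAffineOpen U) (x : 𝒜.presheaf.obj (op U)),
      (RelProj.QGrHom.ofHom φ hφ).gradedAt U hU U hU (hle U) x =
        RelProj.gradedHomAt φ hφ U hU x := by
    intro U hU x
    change (ℬ.presheaf.map (homOfLE (hle U)).op).hom ((φ.hom.app (op U)).hom x) =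
      (φ.hom.app (op U)).hom x
    have h1 : (homOfLE (hle U)).op = 𝟙 (op U) := Subsingleton.elim _ _
    rw [h1]
    exact congrArg (fun ψ => ψ.hom ((φ.hom.app (op U)).hom x)) (ℬ.presheaf.map_id (op U))
  have hdom : ∀ (U : Y.Opens) (hU : IsAffineOpen U),
      RelCone.domOpen ((RelProj.QGrHom.ofHom φ hφ).gradedAt U hU U hU (hle U)) =
        RelCone.domOpen (RelProj.gradedHomAt φ hφ U hU) := by
    intro U hU
    ext y
    change y ∈ RelCone.domOpen _ ↔ y ∈ RelCone.domOpen _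
    rw [RelCone.mem_domOpen, RelCone.mem_domOpen]
    constructor
    · rintro ⟨f, hf, hfy⟩
      exact ⟨f, hf, by rw [← hfun U hU f]; exact hfy⟩
    · rintro ⟨f, hf, hfy⟩
      exact ⟨f, hf, by rw [hfun U hU f]; exact hfy⟩
  refine ⟨?_, ?_⟩
  · refine isAffineHom_of_forall_exists_isAffineOpen (f := Φ) (fun x => ?_)
    obtain ⟨U, hU, hxU⟩ : ∃ U : Y.Opens, IsAffineOpen U ∧ pA.base x ∈ U := by
      obtain ⟨_, ⟨V, hV, rfl⟩, hxV, -⟩ := (Y.isBasis_affineOpens).exists_subset_of_mem_open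
        (Set.mem_univ (pA.base x)) isOpen_univ
      exact ⟨V, hV, hxV⟩
    have hx : x ∈ Set.range (RelProj.emb pA chartA U hU).base := by
      rw [Groth.Agent.Lib.Helper42.ProjQ.range_emb]; exact hxU
    obtain ⟨y₀, rfl⟩ := hx
    obtain ⟨d, hd, f, hf, hy₀⟩ :=
      Groth.Agent.Lib.Helper42.ProjDom.exists_mem_basicOpen (𝒜 := 𝒜.deg U hU) y₀
    refine ⟨(RelProj.emb pA chartA U hU) ''ᵁ Proj.basicOpen (𝒜.deg U hU) f, ⟨y₀, hy₀, rfl⟩,
      (Proj.isAffineOpen_basicOpen _ f hf hd).image_of_isOpenImmersion _, ?_⟩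
    have heq : Φ ⁻¹ᵁ ((RelProj.emb pA chartA U hU) ''ᵁ Proj.basicOpen (𝒜.deg U hU) f) =
        (Groth.Agent.Lib.Helper42.ProjQ.QIdx.emb (RelProj.QGrHom.ofHom φ hφ) pB chartB
          ⟨U, hU, U, hU, hle U, d, hd, f, hf⟩).opensRange := by
      ext t
      constructor
      · rintro ⟨y₁, hy₁, hy₁t⟩
        have hcomp := Groth.Agent.Lib.Helper42.ProjQ.isProjQMapOn_comp hA hB hΦ
        have htU : pB.base ((RelProj.domQ (RelProj.QGrHom.ofHom φ hφ) pB chartB).ι.base t) ∈ U := by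
          have h1 : pA.base (Φ.base t) ∈ U := by
            have h2 : Φ.base t ∈ Set.range (RelProj.emb pA chartA U hU).base := ⟨y₁, hy₁t⟩
            rw [Groth.Agent.Lib.Helper42.ProjQ.range_emb] at h2
            exact h2
          have h3 := congrArg (fun ψ => ψ.base t) hcomp
          simp only [Scheme.Hom.comp_base, TopCat.comp_app] at h3
          rw [h3] at h1
          exact h1
        exact Groth.Agent.Lib.Helper42.ProjQ.mem_range_emb_of_map_mem hA hB hΦ U hU U hU (hle U)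
          hd hf t htU y₁ hy₁ hy₁t.symm
      · rintro ⟨z, rfl⟩
        have h1 := hΦ U hU U hU (hle U) d hd f hf
          (RelProj.range_awayEmb_subset_domQ _ pB chartB U hU U hU (hle U) hd f hf)
        have h2 := congrArg (fun ψ => ψ.base z) h1
        refine ⟨(Proj.awayι (𝒜.deg U hU) f hf hd).base ((Spec.map (CommRingCat.ofHom
          (HomogeneousLocalization.Away.map
            ((RelProj.QGrHom.ofHom φ hφ).gradedAt U hU U hU (hle U)) f))).base z), ?_, h2.symm⟩
        exact (Proj.opensRange_awayι (𝒜.deg U hU) f hf hd).le ⟨_, rfl⟩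
    rw [heq]
    exact isAffineOpen_opensRange _
  · intro U hU
    rw [← hdom U hU]
    exact Groth.Agent.Lib.Helper42.ProjQ.domQ_inf_preimage hB U hU U hU (hle U)

end Groth.Agent.S12140
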