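import Groth.Statements.S12143
import Groth.Agent.Lib.Helper42.SymInvertible
-- import your own Groth.Agent.* helpers here

set_option autoImplicit false
universe u
open CategoryTheory CategoryTheory.Limits AlgebraicGeometry TopologicalSpace Opposite
open scoped HomogeneousIdeal
noncomputable section
open EGA2

namespace Groth.Agent.S12143

set_option backward.isDefEq.respectTransparency.types false in
lemma aux {X PL : Scheme.{u}} (L : X.Modules)
    (hL : PicF.IsInvertible L) (hLq : Coh.IsQCoh L)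
    (𝒮L : RelProj.QCGrAlg X) (j : L ⟶ 𝒮L.toModule) (hj : RelProj.IsGrSymAlg L 𝒮L j)
    (pL : PL ⟶ X) (chartL : ∀ (U : X.Opens) (hU : IsAffineOpen U), (((pL ⁻¹ᵁ U : PL.Opens) : Scheme.{u}) ≅ Proj (𝒮L.deg U hU)))
    (hPL : RelProj.IsRelProj 𝒮L pL chartL) :
    IsIso pL := by
  have : L.IsQuasicoherent := hLq
  -- the affine opens with a free generator of `L` cover `X`
  let I := {U : X.Opens // IsAffineOpen U ∧ ∃ e : Γ(L, U), Groth.Agent.Lib.Ample.IsGenerator L U e}
  have hcov : ⨆ i : I, (i.1 : X.Opens) = ⊤ := by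
    refine eq_top_iff.mpr (fun x _ => ?_)
    obtain ⟨U, hU, hxU, -, e, he⟩ :=
      Groth.Agent.Lib.Ample.exists_isAffineOpen_isGenerator_of_isInvertible hL x ⊤ trivial
    exact TopologicalSpace.Opens.mem_iSup.mpr ⟨⟨U, hU, e, he⟩, hxU⟩
  have key : MorphismProperty.isomorphisms Scheme.{u} pL := by
    refine (IsZariskiLocalAtTarget.iff_of_iSup_eq_top
      (P := MorphismProperty.isomorphisms Scheme.{u}) (fun i : I => (i.1 : X.Opens)) hcov).mpr ?_
    rintro ⟨U, hU, e, he⟩
    change IsIso (pL ∣_ U)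
    have hiso := Groth.Agent.Lib.Helper42.SymInv.isIso_toSpecZero_comp hj U hU e
      (Groth.Agent.Lib.Helper42.SymInv.bijective_smul_of_isGenerator he)
    have heq : pL ∣_ U = (chartL U hU).hom ≫ (Proj.toSpecZero (𝒮L.deg U hU) ≫
        Spec.map (𝒮L.strZero U hU)) ≫ hU.isoSpec.inv := by
      rw [← cancel_mono U.ι]
      have h2 : (pL ∣_ U) ≫ U.ι = (pL ⁻¹ᵁ U).ι ≫ pL := by simp
      rw [h2, ← hPL.chart_over U hU]
      simp only [Category.assoc, IsAffineOpen.isoSpec_inv_ι]
    rw [heq]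
    infer_instance
  exact key

/-- Let L be an invertible O_X-module and 𝒮L = ⊕_{n ≥ 0} L^{⊗n} its graded symmetric algebra; then the
structure morphism Proj(𝒮L) → X of the relative homogeneous spectrum is an isomorphism (the graded
algebra O_X[T] twisted by L has the same Proj as O_X[T], which is X). -/
theorem result {X PL : Scheme.{u}} (L : X.Modules)
    (hL : PicF.IsInvertible L) (hLq : Coh.IsQCoh L)
    (𝒮L : RelProj.QCGrAlg X) (j : L ⟶ 𝒮L.toModule) (hj : RelProj.IsGrSymAlg L 𝒮L j)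
    (pL : PL ⟶ X) (chartL : ∀ (U : X.Opens) (hU : IsAffineOpen U), (((pL ⁻¹ᵁ U : PL.Opens) : Scheme.{u}) ≅ Proj (𝒮L.deg U hU)))
    (hPL : RelProj.IsRelProj 𝒮L pL chartL) :
    IsIso pL := by
  exact aux L hL hLq 𝒮L j hj pL chartL hPL

end Groth.Agent.S12143
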