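import Groth.Statements.S12144
import Groth.Agent.Lib.Helper42.SymInvProj
import Groth.Agent.Lib.Helper42.ProjQAffine
-- import your own Groth.Agent.* helpers here

set_option autoImplicit false
universe u
open CategoryTheory CategoryTheory.Limits AlgebraicGeometry TopologicalSpace Opposite
open scoped HomogeneousIdeal
noncomputable section
open EGA2

namespace Groth.Agent.S12144

/-- Let q : X → Y be a morphism with Y affine, L an invertible O_X-module, 𝒮L = ⊕_{n≥0} L^{⊗n} its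
graded symmetric algebra (whose Proj, presented with its charts, is identified with X by its
structure morphism pL), 𝒮 a quasi-coherent positively graded O_Y-algebra with S = Γ(Y, 𝒮), ψ : q^*𝒮
→ 𝒮L a graded homomorphism given as a graded q-morphism u = ψ♭ : 𝒮 → q_*𝒮L, P = Proj(𝒮), and r =
r_{L,ψ} : G(ψ) → P the associated morphism on its open of definition G(ψ) ⊆ Proj(𝒮L). For f ∈ S_d
with d > 0 and t = ψ♭(f) ∈ Γ(X, L^{⊗d}), the inverse image r⁻¹(D_+(f)) ⊆ G(ψ), regarded as an open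
of Proj(𝒮L), equals the inverse image under pL of the open X_t of X where t does not vanish; in
particular the part of Proj(𝒮L) over X_t lies inside G(ψ) (X_t is written as the union of the affine
opens V of X over which Γ(V, L^{⊗d}) = 𝒮L(V)_d lies in the ideal of 𝒮L(V) generated by t|V). -/
theorem result {Y X P PL : Scheme.{u}} (q : X ⟶ Y)
    (L : X.Modules) (hL : PicF.IsInvertible L) (hLq : Coh.IsQCoh L)
    (𝒮 : RelProj.QCGrAlg Y) (𝒮L : RelProj.QCGrAlg X) (j : L ⟶ 𝒮L.toModule) (hj : RelProj.IsGrSymAlg L 𝒮L j)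
    (u : RelProj.QGrHom q 𝒮 𝒮L)
    (p : P ⟶ Y) (chart : ∀ (U : Y.Opens) (hU : IsAffineOpen U), (((p ⁻¹ᵁ U : P.Opens) : Scheme.{u}) ≅ Proj (𝒮.deg U hU)))
    (hP : RelProj.IsRelProj 𝒮 p chart)
    (pL : PL ⟶ X) (chartL : ∀ (U : X.Opens) (hU : IsAffineOpen U), (((pL ⁻¹ᵁ U : PL.Opens) : Scheme.{u}) ≅ Proj (𝒮L.deg U hU)))
    (hPL : RelProj.IsRelProj 𝒮L pL chartL)
    (r : ((RelProj.domQ u pL chartL : PL.Opens) : Scheme.{u}) ⟶ P)
    (hr : RelProj.IsProjQMapOn u p chart pL chartL (RelProj.domQ u pL chartL) r)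
    (hY : IsAffineOpen (⊤ : Y.Opens)) (d : ℕ) (hd : 0 < d) (f : 𝒮.presheaf.obj (op ⊤)) (hf : f ∈ 𝒮.deg ⊤ hY d) :
    (RelProj.domQ u pL chartL).ι ''ᵁ (r ⁻¹ᵁ ((RelProj.emb p chart ⊤ hY) ''ᵁ Proj.basicOpen (𝒮.deg ⊤ hY) f)) =
      pL ⁻¹ᵁ
        (⨆ V : {V : X.affineOpens //
          ((𝒮L.deg V.1 V.2 d : AddSubgroup (𝒮L.presheaf.obj (op (V.1 : X.Opens)))) : Set (𝒮L.presheaf.obj (op (V.1 : X.Opens)))) ⊆
            (Ideal.span {(u.appLE ⊤ (V.1 : X.Opens) (le_top.trans (Scheme.Hom.preimage_top q).ge)).hom f} : Set (𝒮L.presheaf.obj (op (V.1 : X.Opens))))},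
          (V.1.1 : X.Opens)) := by
  have : L.IsQuasicoherent := hLq
  have hleTop : ∀ V : X.Opens, V ≤ q ⁻¹ᵁ (⊤ : Y.Opens) :=
    fun V => le_top.trans (Scheme.Hom.preimage_top q).ge
  ext x'
  constructor
  · rintro ⟨t, ht, rfl⟩
    obtain ⟨y₀, hy₀, hy₀t⟩ := ht
    obtain ⟨V, hV, hxV, -⟩ := Opens.isBasis_iff_nbhd.1 X.isBasis_affineOpens
      (show pL.base ((RelProj.domQ u pL chartL).ι.base t) ∈ (⊤ : X.Opens) from trivial)
    have hV' : IsAffineOpen V := hV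
    have h1 := Groth.Agent.Lib.Helper42.ProjQ.mem_range_emb_of_map_mem hP hPL hr ⊤ hY V hV'
      (hleTop V) hd hf t hxV y₀ hy₀ hy₀t.symm
    rw [Groth.Agent.Lib.Helper42.ProjQ.mem_range_emb_iff] at h1
    obtain ⟨y, hy, hyt⟩ := h1
    change y ∈ Proj.basicOpen (𝒮L.deg V hV') (u.gradedAt ⊤ hY V hV' (hleTop V) f) at hy
    change (RelProj.emb pL chartL V hV').base y = _ at hyt
    obtain ⟨W, hW, hWV, hxW, hc⟩ := Groth.Agent.Lib.Helper42.SymInvProj.exists_affine_span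
      hL hj hPL V hV' ((u.gradedAt ⊤ hY V hV' (hleTop V)).map_mem hf) y
      ((ProjectiveSpectrum.mem_basicOpen _ _ _).mp hy)
    rw [hyt] at hxW
    have e0 : (𝒮L.presheaf.map (homOfLE hWV).op).hom ((u.gradedAt ⊤ hY V hV' (hleTop V)) f) =
        (u.appLE ⊤ W (hleTop W)).hom f :=
      congrArg (fun φ => φ.hom f) (u.appLE_map (hleTop V) hWV)
    have hc2 : ∀ x ∈ 𝒮L.deg W hW d, x ∈ Ideal.span
        ({(u.appLE ⊤ W (hleTop W)).hom f} : Set (𝒮L.presheaf.obj (op W))) :=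
      fun x hx => (congrArg (fun t => x ∈ Ideal.span
        ({t} : Set (𝒮L.presheaf.obj (op W)))) e0).mp (hc x hx)
    exact Opens.mem_iSup.mpr ⟨⟨⟨W, hW⟩, fun x hx => hc2 x hx⟩, hxW⟩
  · intro hx'
    have hx'' : pL.base x' ∈ (⨆ V : {V : X.affineOpens // _}, (V.1.1 : X.Opens)) := hx'
    obtain ⟨⟨⟨V, hV0⟩, hsub⟩, hxV⟩ := Opens.mem_iSup.mp hx''
    have hV : IsAffineOpen V := hV0
    change pL.base x' ∈ V at hxV
    have hmem : x' ∈ Set.range (RelProj.emb pL chartL V hV).base := by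
      rw [Groth.Agent.Lib.Helper42.ProjQ.range_emb]; exact hxV
    obtain ⟨y, hy⟩ := hmem
    have hty := Groth.Agent.Lib.Helper42.SymInvProj.notMem_of_span hL hj hPL V hV
      (t := (u.appLE ⊤ V (hleTop V)).hom f) (fun w hw => hsub hw) y
    have hy' : y ∈ RelCone.domOpen (u.gradedAt ⊤ hY V hV (hleTop V)) :=
      (RelCone.mem_domOpen _ _).mpr
        ⟨f, HomogeneousIdeal.mem_irrelevant_of_mem _ hd hf, hty⟩
    have hx'dom : x' ∈ RelProj.domQ u pL chartL := by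
      refine Opens.mem_iSup.mpr ⟨⟨(⟨⊤, hY⟩, ⟨V, hV⟩), hleTop V⟩, ?_⟩
      exact ⟨y, hy', hy⟩
    have h2 : (⟨x', hx'dom⟩ : ((RelProj.domQ u pL chartL : PL.Opens) : Scheme.{u})) ∈
        Set.range (Groth.Agent.Lib.Helper42.ProjQ.QIdx.emb u pL chartL
          ⟨⊤, hY, V, hV, hleTop V, d, hd, f, hf⟩).base :=
      (Groth.Agent.Lib.Helper42.ProjQ.mem_range_emb_iff (u := u) (p' := pL) (chart' := chartL)
        ⟨⊤, hY, V, hV, hleTop V, d, hd, f, hf⟩ ⟨x', hx'dom⟩).mpr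
        ⟨y, (ProjectiveSpectrum.mem_basicOpen _ _ _).mpr hty, hy⟩
    obtain ⟨w, hw⟩ := h2
    have hrk := hr ⊤ hY V hV (hleTop V) d hd f hf
      (RelProj.range_awayEmb_subset_domQ u pL chartL ⊤ hY V hV (hleTop V) hd f hf)
    refine ⟨⟨x', hx'dom⟩, ?_, rfl⟩
    have hrw : r.base ⟨x', hx'dom⟩ = (RelProj.emb p chart ⊤ hY).base
        ((Proj.awayι (𝒮.deg ⊤ hY) f hf hd).base
          ((Spec.map (CommRingCat.ofHom (HomogeneousLocalization.Away.map
            (u.gradedAt ⊤ hY V hV (hleTop V)) f))).base w)) := by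
      rw [← hw]
      exact congrArg (fun φ => φ.base w) hrk
    refine ⟨(Proj.awayι (𝒮.deg ⊤ hY) f hf hd).base
          ((Spec.map (CommRingCat.ofHom (HomogeneousLocalization.Away.map
            (u.gradedAt ⊤ hY V hV (hleTop V)) f))).base w), ?_, hrw.symm⟩
    exact (Proj.opensRange_awayι (𝒮.deg ⊤ hY) f hf hd).le ⟨_, rfl⟩

end Groth.Agent.S12144
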