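import Groth.Statements.S12145
import Groth.Agent.Lib.Helper42.SymInvProj
import Groth.Agent.Lib.Helper42.QGrGlobal
import Groth.Agent.S12143
-- import your own Groth.Agent.* helpers here

set_option autoImplicit false
universe u
open CategoryTheory CategoryTheory.Limits AlgebraicGeometry TopologicalSpace Opposite
open scoped HomogeneousIdeal
noncomputable section
open EGA2

namespace Groth.Agent.S12145

/-- Let q : X → Y be a morphism with Y affine, L an invertible O_X-module, 𝒮L = ⊕_{n≥0} L^{⊗n} its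
graded symmetric algebra (whose Proj, presented with its charts, is identified with X by its
structure morphism pL), 𝒮 a quasi-coherent positively graded O_Y-algebra with S = Γ(Y, 𝒮), ψ : q^*𝒮
→ 𝒮L a graded homomorphism given as a graded q-morphism u = ψ♭ : 𝒮 → q_*𝒮L, P = Proj(𝒮), and r =
r_{L,ψ} : G(ψ) → P the associated morphism on its open of definition G(ψ) ⊆ Proj(𝒮L). Then r is
everywhere defined, i.e. G(ψ) = X, if and only if for every x ∈ X there are an integer n > 0 and s ∈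
S_n such that the section t = ψ♭(s) of L^{⊗n} does not vanish at x (x has an affine neighbourhood V
over which 𝒮L(V)_n = Γ(V, L^{⊗n}) lies in the ideal generated by t|V). -/
theorem result {Y X P PL : Scheme.{u}} (q : X ⟶ Y)
    (L : X.Modules) (hL : PicF.IsInvertible L) (hLq : Coh.IsQCoh L)
    (𝒮 : RelProj.QCGrAlg Y) (𝒮L : RelProj.QCGrAlg X) (j : L ⟶ 𝒮L.toModule) (hj : RelProj.IsGrSymAlg L 𝒮L j)
    (u : RelProj.QGrHom q 𝒮 𝒮L)
    (p : P ⟶ Y) (chart : ∀ (U : Y.Opens) (hU : IsAffineOpen U), (((p ⁻¹ᵁ U : P.Opens) : Scheme.{u}) ≅ Proj (𝒮.deg U hU)))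
    (hP : RelProj.IsRelProj 𝒮 p chart)
    (pL : PL ⟶ X) (chartL : ∀ (U : X.Opens) (hU : IsAffineOpen U), (((pL ⁻¹ᵁ U : PL.Opens) : Scheme.{u}) ≅ Proj (𝒮L.deg U hU)))
    (hPL : RelProj.IsRelProj 𝒮L pL chartL)
    (hY : IsAffineOpen (⊤ : Y.Opens)) :
    RelProj.domQ u pL chartL = ⊤ ↔
      ∀ x : X, ∃ (n : ℕ) (_ : 0 < n) (s : 𝒮.presheaf.obj (op ⊤)) (_ : s ∈ 𝒮.deg ⊤ hY n)
        (V : X.Opens) (hV : IsAffineOpen V), x ∈ V ∧
          ((𝒮L.deg V hV n : AddSubgroup (𝒮L.presheaf.obj (op V))) : Set (𝒮L.presheaf.obj (op V))) ⊆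
            (Ideal.span {(u.appLE ⊤ V (le_top.trans (Scheme.Hom.preimage_top q).ge)).hom s} : Set (𝒮L.presheaf.obj (op V))) := by
  have : L.IsQuasicoherent := hLq
  constructor
  · intro htop x
    have : IsIso pL := Groth.Agent.S12143.result L hL hLq 𝒮L j hj pL chartL hPL
    obtain ⟨x', rfl⟩ : ∃ x', pL.base x' = x :=
      ⟨(inv pL).base x, by rw [← Scheme.Hom.comp_apply, IsIso.inv_hom_id]; rfl⟩
    have hx' : x' ∈ RelProj.domQ u pL chartL := htop ▸ trivial
    obtain ⟨i, hi⟩ := Opens.mem_iSup.mp hx'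
    obtain ⟨⟨⟨U, hU0⟩, ⟨V, hV0⟩⟩, hle⟩ := i
    have hU : IsAffineOpen U := hU0
    have hV : IsAffineOpen V := hV0
    change V ≤ q ⁻¹ᵁ U at hle
    obtain ⟨y, hy, hyx⟩ : ∃ y : Proj (𝒮L.deg V hV),
        y ∈ RelCone.domOpen (u.gradedAt U hU V hV hle) ∧
          (RelProj.emb pL chartL V hV).base y = x' := hi
    obtain ⟨f₀, hf₀, hf₀y⟩ := (RelCone.mem_domOpen _ _).mp hy
    obtain ⟨m, hm, f, hf, hfy⟩ := Groth.Agent.Lib.Helper42.ProjQ.exists_homogeneous_notMem
      (u.gradedAt U hU V hV hle) y.asHomogeneousIdeal.toIdeal hf₀ hf₀y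
    obtain ⟨V', hV', hV'V, hxV', hc⟩ := Groth.Agent.Lib.Helper42.SymInvProj.exists_affine_span
      hL hj hPL V hV ((u.gradedAt U hU V hV hle).map_mem hf) y hfy
    rw [hyx] at hxV'
    obtain ⟨s, hs, g, hxg, ε, hε, hsε⟩ := Groth.Agent.Lib.Helper42.QGrGlobal.exists_global_section
      u hY U hU V' hV' (hV'V.trans hle) hf (pL.base x') hxV'
    refine ⟨m, hm, s, hs, X.basicOpen g, hV'.basicOpen g, hxg, ?_⟩
    intro w hw
    have e0 : (𝒮L.presheaf.map (homOfLE hV'V).op).hom ((u.gradedAt U hU V hV hle) f) =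
        (u.appLE U V' (hV'V.trans hle)).hom f :=
      congrArg (fun φ => φ.hom f) (u.appLE_map hle hV'V)
    have hc2 : ∀ x ∈ 𝒮L.deg V' hV' m, x ∈ Ideal.span
        ({(u.appLE U V' (hV'V.trans hle)).hom f} : Set (𝒮L.presheaf.obj (op V'))) :=
      fun x hx => (congrArg (fun t => x ∈ Ideal.span
        ({t} : Set (𝒮L.presheaf.obj (op V')))) e0).mp (hc x hx)
    have h1 := Groth.Agent.Lib.Helper42.GrLift.span_basicOpen 𝒮L V' hV' g hc2 w hw
    obtain ⟨c, hc'⟩ := Ideal.mem_span_singleton'.mp h1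
    obtain ⟨ε', hε'⟩ := isUnit_iff_exists_inv.mp hε
    refine Ideal.mem_span_singleton'.mpr ⟨c * ε', ?_⟩
    rw [hsε, ← hc']
    change c * ε' * ((𝒮L.presheaf.map (homOfLE (X.basicOpen_le g)).op).hom
      ((u.appLE U V' (hV'V.trans hle)).hom f) * ε) =
      c * (𝒮L.presheaf.map (homOfLE (X.basicOpen_le g)).op).hom
        ((u.appLE U V' (hV'V.trans hle)).hom f)
    calc c * ε' * ((𝒮L.presheaf.map (homOfLE (X.basicOpen_le g)).op).hom
          ((u.appLE U V' (hV'V.trans hle)).hom f) * ε)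
        = c * (𝒮L.presheaf.map (homOfLE (X.basicOpen_le g)).op).hom
          ((u.appLE U V' (hV'V.trans hle)).hom f) * (ε * ε') := by ring
      _ = _ := by rw [hε', mul_one]
  · intro h
    rw [eq_top_iff]
    intro x' _
    obtain ⟨n, hn, s, hs, V, hV, hxV, hsub⟩ := h (pL.base x')
    have hmem : x' ∈ Set.range (RelProj.emb pL chartL V hV).base := by
      rw [Groth.Agent.Lib.Helper42.ProjQ.range_emb]; exact hxV
    obtain ⟨y, hy⟩ := hmem
    have hty := Groth.Agent.Lib.Helper42.SymInvProj.notMem_of_span hL hj hPL V hV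
      (fun w hw => hsub hw) y
    have hleV : V ≤ q ⁻¹ᵁ (⊤ : Y.Opens) := le_top.trans (Scheme.Hom.preimage_top q).ge
    have hy' : y ∈ RelCone.domOpen (u.gradedAt ⊤ hY V hV hleV) :=
      (RelCone.mem_domOpen _ _).mpr
        ⟨s, HomogeneousIdeal.mem_irrelevant_of_mem _ hn hs, hty⟩
    refine Opens.mem_iSup.mpr ⟨⟨(⟨⊤, hY⟩, ⟨V, hV⟩), hleV⟩, ?_⟩
    exact ⟨y, hy', hy⟩

end Groth.Agent.S12145
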