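import Groth.Statements.S12146
import Groth.Agent.Lib.Helper42.ProjQDom
-- import your own Groth.Agent.* helpers here

set_option autoImplicit false
universe u
open CategoryTheory CategoryTheory.Limits AlgebraicGeometry TopologicalSpace Opposite
open scoped HomogeneousIdeal
noncomputable section
open EGA2

namespace Groth.Agent.S12146

/-- Let q : X → Y be a morphism with Y affine, L an invertible O_X-module, 𝒮L = ⊕_{n≥0} L^{⊗n} its
graded symmetric algebra (whose Proj, presented with its charts, is identified with X by its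
structure morphism pL), 𝒮 a quasi-coherent positively graded O_Y-algebra with S = Γ(Y, 𝒮), ψ : q^*𝒮
→ 𝒮L a graded homomorphism given as a graded q-morphism u = ψ♭ : 𝒮 → q_*𝒮L, P = Proj(𝒮), and r =
r_{L,ψ} : G(ψ) → P the associated morphism on its open of definition G(ψ) ⊆ Proj(𝒮L). Then r is
dominant if and only if for every n > 0, every s ∈ S_n such that ψ♭(s) ∈ Γ(X, L^{⊗n}) is locally
nilpotent (as a section of the algebra 𝒮L: each point of X has an affine neighbourhood V with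
ψ♭(s)|V nilpotent in 𝒮L(V)) is nilpotent. -/
theorem result {Y X P PL : Scheme.{u}} (q : X ⟶ Y)
    (L : X.Modules) (hL : PicF.IsInvertible L) (hLq : Coh.IsQCoh L)
    (𝒮 : RelProj.QCGrAlg Y) (𝒮L : RelProj.QCGrAlg X) (j : L ⟶ 𝒮L.toModule) (hj : RelProj.IsGrSymAlg L 𝒮L j)
    (u : RelProj.QGrHom q 𝒮 𝒮L)
    (p : P ⟶ Y) (chart : ∀ (U : Y.Opens) (hU : IsAffineOpen U), (((p ⁻¹ᵁ U : P.Opens) : Scheme.{u}) ≅ Proj (𝒮.deg U hU)))
    (hP : RelProj.IsRelProj 𝒮 p chart)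
    (pL : PL ⟶ X) (chartL : ∀ (U : X.Opens) (hU : IsAffineOpen U), (((pL ⁻¹ᵁ U : PL.Opens) : Scheme.{u}) ≅ Proj (𝒮L.deg U hU)))
    (hPL : RelProj.IsRelProj 𝒮L pL chartL)
    (r : ((RelProj.domQ u pL chartL : PL.Opens) : Scheme.{u}) ⟶ P)
    (hr : RelProj.IsProjQMapOn u p chart pL chartL (RelProj.domQ u pL chartL) r)
    (hY : IsAffineOpen (⊤ : Y.Opens)) :
    IsDominant r ↔
      ∀ (n : ℕ), 0 < n → ∀ s ∈ 𝒮.deg ⊤ hY n,
        (∀ x : X, ∃ (V : X.Opens) (_ : IsAffineOpen V), x ∈ V ∧ IsNilpotent ((u.appLE ⊤ V (le_top.trans (Scheme.Hom.preimage_top q).ge)).hom s)) →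
          IsNilpotent s := by
  have hcomp := Groth.Agent.Lib.Helper42.ProjQ.isProjQMapOn_comp hP hPL hr
  have hleV : ∀ V : X.Opens, V ≤ q ⁻¹ᵁ (⊤ : Y.Opens) :=
    fun V => le_top.trans (Scheme.Hom.preimage_top q).ge
  constructor
  · intro hdom n hn s hs hloc
    by_contra hnil
    obtain ⟨y₁⟩ := Groth.Agent.Lib.Helper42.ProjQDom.nonempty_spec_away_of_not_isNilpotent
      (𝒜 := 𝒮.deg ⊤ hY) hnil
    have hy₀ : (Proj.awayι (𝒮.deg ⊤ hY) s hs hn).base y₁ ∈ Proj.basicOpen (𝒮.deg ⊤ hY) s :=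
      (Proj.opensRange_awayι (𝒮.deg ⊤ hY) s hs hn).le ⟨_, rfl⟩
    let O : P.Opens := (RelProj.emb p chart ⊤ hY) ''ᵁ Proj.basicOpen (𝒮.deg ⊤ hY) s
    have hOne : (O : Set P).Nonempty := ⟨_, ⟨_, hy₀, rfl⟩⟩
    obtain ⟨t, ht⟩ := hdom.denseRange.exists_mem_open O.2 hOne
    obtain ⟨y₀, hy₀g, hy₀t⟩ := ht
    obtain ⟨V, hV, hxV, hVnil⟩ := hloc (pL.base ((RelProj.domQ u pL chartL).ι.base t))
    exact Groth.Agent.Lib.Helper42.ProjQDom.not_isNilpotent_of_map_mem hP hPL hr ⊤ hY V hV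
      (hleV V) hn hs t hxV y₀ hy₀g hy₀t.symm hVnil
  · intro hcrit
    refine ⟨?_⟩
    rw [DenseRange, dense_iff_inter_open]
    intro O hO hOne
    obtain ⟨x, hx⟩ := hOne
    have hxr : x ∈ Set.range (RelProj.emb p chart ⊤ hY).base := by
      rw [Groth.Agent.Lib.Helper42.ProjQ.range_emb]
      trivial
    obtain ⟨y, rfl⟩ := hxr
    let O' : (Proj (𝒮.deg ⊤ hY)).Opens := (RelProj.emb p chart ⊤ hY) ⁻¹ᵁ ⟨O, hO⟩
    have hyO' : y ∈ O' := hx
    obtain ⟨d, hd, g, hg, hyg, hgO⟩ :=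
      Groth.Agent.Lib.Helper42.ProjQDom.exists_basic_subset y O' hyO'
    have hgn : ¬ IsNilpotent g :=
      Groth.Agent.Lib.Helper42.ProjQDom.not_isNilpotent_of_mem_basicOpen hd hg y hyg
    have hex : ∃ x : X, ∀ (V : X.Opens) (_ : IsAffineOpen V), x ∈ V →
        ¬ IsNilpotent ((u.appLE ⊤ V (hleV V)).hom g) := by
      by_contra hcon
      apply hgn
      refine hcrit d hd g hg (fun x => ?_)
      by_contra h
      apply hcon
      refine ⟨x, fun V hV hxV hnil => ?_⟩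
      exact h ⟨V, hV, hxV, hnil⟩
    obtain ⟨x, hxall⟩ := hex
    obtain ⟨V, hV, hxV⟩ : ∃ V : X.Opens, IsAffineOpen V ∧ x ∈ V := by
      obtain ⟨_, ⟨V, hV, rfl⟩, hxV, -⟩ := (X.isBasis_affineOpens).exists_subset_of_mem_open
        (Set.mem_univ x) isOpen_univ
      exact ⟨V, hV, hxV⟩
    have hn : ¬ IsNilpotent (u.gradedAt ⊤ hY V hV (hleV V) g) := hxall V hV hxV
    obtain ⟨t, y₀, hy₀, -, hrt⟩ :=
      Groth.Agent.Lib.Helper42.ProjQDom.exists_map_mem_of_not_isNilpotent hr ⊤ hY V hV (hleV V)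
        hd hg hn
    refine ⟨r.base t, ?_, ⟨t, rfl⟩⟩
    rw [hrt]
    exact hgO hy₀

end Groth.Agent.S12146
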