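import Groth.Statements.S12147
-- import your own Groth.Agent.* helpers here

set_option autoImplicit false
universe u
open CategoryTheory CategoryTheory.Limits AlgebraicGeometry TopologicalSpace Opposite
open scoped HomogeneousIdeal
noncomputable section
open EGA2

namespace Groth.Agent.S12147

/-- Let q : X → Y be a morphism, L an invertible O_X-module with 𝒮L = ⊕ L^{⊗n} (whose Proj, with its
charts, is X), v : 𝒯 → 𝒮 a graded homomorphism of quasi-coherent positively graded O_Y-algebras, ψ♭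
= u : 𝒮 → q_*𝒮L a graded q-morphism and ψ'♭ = u' its composite with v. Then the open of definition
G(ψ') of r_{L,ψ'} is contained in the open of definition G(ψ) of r_{L,ψ}; in particular, if r_{L,ψ'}
is everywhere defined then so is r_{L,ψ}. -/
theorem result {Y X P PL : Scheme.{u}} (q : X ⟶ Y)
    (L : X.Modules) (hL : PicF.IsInvertible L) (hLq : Coh.IsQCoh L)
    (𝒮 : RelProj.QCGrAlg Y) (𝒮L : RelProj.QCGrAlg X) (j : L ⟶ 𝒮L.toModule) (hj : RelProj.IsGrSymAlg L 𝒮L j)
    (u : RelProj.QGrHom q 𝒮 𝒮L)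
    (p : P ⟶ Y) (chart : ∀ (U : Y.Opens) (hU : IsAffineOpen U), (((p ⁻¹ᵁ U : P.Opens) : Scheme.{u}) ≅ Proj (𝒮.deg U hU)))
    (hP : RelProj.IsRelProj 𝒮 p chart)
    (pL : PL ⟶ X) (chartL : ∀ (U : X.Opens) (hU : IsAffineOpen U), (((pL ⁻¹ᵁ U : PL.Opens) : Scheme.{u}) ≅ Proj (𝒮L.deg U hU)))
    (hPL : RelProj.IsRelProj 𝒮L pL chartL)
    (𝒯 : RelProj.QCGrAlg Y) (v : 𝒯.toQCAlg ⟶ 𝒮.toQCAlg) (hv : RelProj.IsGradedHom v)
    (u' : RelProj.QGrHom q 𝒯 𝒮L) (hu' : ∀ U : Y.Opens, u'.app U = v.hom.app (op U) ≫ u.app U) :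
    RelProj.domQ u' pL chartL ≤ RelProj.domQ u pL chartL := by
  classical
  unfold RelProj.domQ
  refine iSup_le (fun V => ?_)
  refine le_iSup_of_le V ?_
  obtain ⟨⟨⟨U, hU0⟩, ⟨U', hU0'⟩⟩, hle⟩ := V
  have hU : IsAffineOpen U := hU0
  have hU' : IsAffineOpen U' := hU0'
  change (RelProj.emb pL chartL U' hU') ''ᵁ RelCone.domOpen (u'.gradedAt U hU U' hU' hle) ≤
    (RelProj.emb pL chartL U' hU') ''ᵁ RelCone.domOpen (u.gradedAt U hU U' hU' hle)
  have : IsOpenImmersion (RelProj.emb pL chartL U' hU') :=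
    RelProj.isOpenImmersion_emb pL chartL U' hU'
  refine Scheme.Hom.image_mono _ ?_
  intro x hx
  rw [RelCone.mem_domOpen] at hx ⊢
  obtain ⟨f, hf, hfx⟩ := hx
  refine ⟨RelProj.gradedHomAt v hv U hU f, ?_, ?_⟩
  · -- `v f` is in the irrelevant ideal
    have h1 : f ∈ (𝒯.deg U hU)₊ := hf
    rw [HomogeneousIdeal.mem_irrelevant_iff, GradedRing.proj_apply] at h1
    change RelProj.gradedHomAt v hv U hU f ∈ (𝒮.deg U hU)₊
    rw [HomogeneousIdeal.mem_irrelevant_iff, GradedRing.proj_apply,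
      ← GradedRingHom.map_directSumDecompose, h1, map_zero]
  · intro h
    apply hfx
    have h2 : u'.gradedAt U hU U' hU' hle f =
        u.gradedAt U hU U' hU' hle
          (RelProj.gradedHomAt v hv U hU f) := by
      change (𝒮L.presheaf.map (homOfLE hle).op).hom ((u'.app U).hom f) =
        (𝒮L.presheaf.map (homOfLE hle).op).hom ((u.app U).hom ((v.hom.app (op U)).hom f))
      rw [hu' U]
      rfl
    rw [h2]
    exact h

end Groth.Agent.S12147
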