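import Groth.Statements.S12154
import Groth.Agent.Lib.Helper42.ProjQTN
-- import your own Groth.Agent.* helpers here

set_option autoImplicit false
universe u
open CategoryTheory CategoryTheory.Limits AlgebraicGeometry TopologicalSpace Opposite
open scoped HomogeneousIdeal
noncomputable section
open EGA2

namespace Groth.Agent.S12154

/-- Let q : X → Y be a morphism, L an invertible O_X-module with 𝒮L = ⊕ L^{⊗n} (whose Proj, with its
charts, is X), v : 𝒯 → 𝒮 a graded homomorphism of quasi-coherent positively graded O_Y-algebras, ψ♭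
= u : 𝒮 → q_*𝒮L a graded q-morphism and ψ'♭ = u' its composite with v; let r = r_{L,ψ} : G(ψ) →
Proj(𝒮) and r' = r_{L,ψ'} : G(ψ') → Proj(𝒯), with r' everywhere defined and v (TN)-surjective (v :
𝒯_k → 𝒮_k surjective for all large k, on sections over affine opens). If r' is an open immersion, so
is r; if r' is a closed immersion, so is r. -/
theorem result {Y X P PL P' : Scheme.{u}} (q : X ⟶ Y)
    (L : X.Modules) (hL : PicF.IsInvertible L) (hLq : Coh.IsQCoh L)
    (𝒮 : RelProj.QCGrAlg Y) (𝒮L : RelProj.QCGrAlg X) (j : L ⟶ 𝒮L.toModule) (hj : RelProj.IsGrSymAlg L 𝒮L j)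
    (u : RelProj.QGrHom q 𝒮 𝒮L)
    (p : P ⟶ Y) (chart : ∀ (U : Y.Opens) (hU : IsAffineOpen U), (((p ⁻¹ᵁ U : P.Opens) : Scheme.{u}) ≅ Proj (𝒮.deg U hU)))
    (hP : RelProj.IsRelProj 𝒮 p chart)
    (pL : PL ⟶ X) (chartL : ∀ (U : X.Opens) (hU : IsAffineOpen U), (((pL ⁻¹ᵁ U : PL.Opens) : Scheme.{u}) ≅ Proj (𝒮L.deg U hU)))
    (hPL : RelProj.IsRelProj 𝒮L pL chartL)
    (r : ((RelProj.domQ u pL chartL : PL.Opens) : Scheme.{u}) ⟶ P)
    (hr : RelProj.IsProjQMapOn u p chart pL chartL (RelProj.domQ u pL chartL) r)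
    (𝒯 : RelProj.QCGrAlg Y) (v : 𝒯.toQCAlg ⟶ 𝒮.toQCAlg) (hv : RelProj.IsGradedHom v)
    (u' : RelProj.QGrHom q 𝒯 𝒮L) (hu' : ∀ U : Y.Opens, u'.app U = v.hom.app (op U) ≫ u.app U)
    (p' : P' ⟶ Y) (chart' : ∀ (U : Y.Opens) (hU : IsAffineOpen U), (((p' ⁻¹ᵁ U : P'.Opens) : Scheme.{u}) ≅ Proj (𝒯.deg U hU)))
    (hP' : RelProj.IsRelProj 𝒯 p' chart')
    (r' : ((RelProj.domQ u' pL chartL : PL.Opens) : Scheme.{u}) ⟶ P')
    (hr' : RelProj.IsProjQMapOn u' p' chart' pL chartL (RelProj.domQ u' pL chartL) r')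
    (hTN : ∃ n : ℕ, ∀ k, n ≤ k → ∀ (U : Y.Opens) (hU : IsAffineOpen U), ∀ y ∈ 𝒮.deg U hU k,
      ∃ x ∈ 𝒯.deg U hU k, (v.hom.app (op U)).hom x = y)
    (hdef : RelProj.domQ u' pL chartL = ⊤) :
    (IsOpenImmersion r' → IsOpenImmersion r) ∧ (IsClosedImmersion r' → IsClosedImmersion r) := by
  have hle : RelProj.domQ u' pL chartL ≤ RelProj.domQ u pL chartL :=
    Groth.Agent.Lib.Helper42.ProjQComp.domQ_le (hv := hv) hu' hP hP' hPL
  have htop : RelProj.domQ u pL chartL = ⊤ := by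
    rw [eq_top_iff, ← hdef]
    exact hle
  obtain ⟨w, hw, -⟩ := Groth.Agent.Lib.Helper42.ProjQ.existsUnique_isProjQMapOn
    (u := RelProj.QGrHom.ofHom v hv) hP' hP
  obtain ⟨c, hc, hr'c⟩ := Groth.Agent.Lib.Helper42.ProjQComp.exists_factor hu' hP hP' hPL hr hr' hw hle
  have hwcl : IsClosedImmersion w :=
    Groth.Agent.Lib.Helper42.ProjQTN.isClosedImmersion_of_tn v hv hP hP' hTN hw
  have hGtop : RelProj.domQ (RelProj.QGrHom.ofHom v hv) p chart = ⊤ :=
    Groth.Agent.Lib.Helper42.ProjQTN.domQ_eq_top_of_tn v hv hTN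
  have hGiso : IsIso (RelProj.domQ (RelProj.QGrHom.ofHom v hv) p chart).ι :=
    Groth.Agent.Lib.Helper42.ProjQ.isIso_ι_of_eq_top hGtop
  have heq : RelProj.domQ u' pL chartL = RelProj.domQ u pL chartL := hdef.trans htop.symm
  have hiso : IsIso (PL.homOfLE hle) := by
    have : PL.homOfLE hle = (PL.isoOfEq heq).hom := rfl
    rw [this]
    infer_instance
  have h2 : r = inv (PL.homOfLE hle) ≫ (PL.homOfLE hle ≫ r) := by
    rw [IsIso.inv_hom_id_assoc]
  constructor
  · intro hopen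
    have hcw : IsOpenImmersion (c ≫ w) := hr'c ▸ hopen
    have hco : IsOpenImmersion c :=
      Groth.Agent.Lib.Helper42.ProjQTN.isOpenImmersion_of_comp_mono c w
    have h1 : IsOpenImmersion (PL.homOfLE hle ≫ r) := by
      rw [← hc]
      infer_instance
    rw [h2]
    infer_instance
  · intro hclosed
    have hcw : IsClosedImmersion (c ≫ w) := hr'c ▸ hclosed
    have hcc : IsClosedImmersion c := IsClosedImmersion.of_comp c w
    have h1 : IsClosedImmersion (PL.homOfLE hle ≫ r) := by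
      rw [← hc]
      infer_instance
    rw [h2]
    infer_instance

end Groth.Agent.S12154
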