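import Groth.Statements.S12155
import Groth.Agent.Lib.Helper42.ConeQMap
-- import your own Groth.Agent.* helpers here

set_option autoImplicit false
universe u
open CategoryTheory CategoryTheory.Limits AlgebraicGeometry TopologicalSpace Opposite
open scoped HomogeneousIdeal
noncomputable section
open EGA2

namespace Groth.Agent.S12155

/-- Let q : Y' → Y be a morphism, φ : 𝒮 → q_*𝒮' a graded q-morphism of quasi-coherent positively graded
algebras with 𝒮_0 = O_Y, 𝒮'_0 = O_{Y'}, φ̂ : 𝒮[z] → q_*𝒮'[z] its extension with φ̂(z) = z, Ĉ =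
Proj(𝒮[z]), Ĉ' = Proj(𝒮'[z]) the projective cones with pointed cones Ê, Ê', and Φ̂ = Proj(φ̂) :
G(φ̂) → Ĉ. Then Φ̂⁻¹(Ê) ⊆ Ê'; moreover if Proj(φ) is everywhere defined on Proj(𝒮'), then Φ̂ is
everywhere defined on Ĉ' and Φ̂⁻¹(Ê) = Ê'. -/
theorem result {Y Y' PC PC' : Scheme.{u}} (q : Y' ⟶ Y)
    (𝒮 : RelProj.QCGrAlg Y) (𝒮' : RelProj.QCGrAlg Y') (h0 : RelCone.StrZeroBij 𝒮) (h0' : RelCone.StrZeroBij 𝒮')
    (u : RelProj.QGrHom q 𝒮 𝒮')
    (𝒮h : RelProj.QCGrAlg Y) (ι : 𝒮.toQCAlg ⟶ 𝒮h.toQCAlg) (z : 𝒮h.presheaf.obj (op ⊤))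
    (hz : RelCone.IsPolyOver 𝒮 𝒮h ι z)
    (pC : PC ⟶ Y) (chartC : ∀ (U : Y.Opens) (hU : IsAffineOpen U), (((pC ⁻¹ᵁ U : PC.Opens) : Scheme.{u}) ≅ Proj (𝒮h.deg U hU)))
    (hC : RelProj.IsRelProj 𝒮h pC chartC)
    (𝒮h' : RelProj.QCGrAlg Y') (ι' : 𝒮'.toQCAlg ⟶ 𝒮h'.toQCAlg) (z' : 𝒮h'.presheaf.obj (op ⊤))
    (hz' : RelCone.IsPolyOver 𝒮' 𝒮h' ι' z')
    (pC' : PC' ⟶ Y') (chartC' : ∀ (U : Y'.Opens) (hU : IsAffineOpen U), (((pC' ⁻¹ᵁ U : PC'.Opens) : Scheme.{u}) ≅ Proj (𝒮h'.deg U hU)))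
    (hC' : RelProj.IsRelProj 𝒮h' pC' chartC')
    (uh : RelProj.QGrHom q 𝒮h 𝒮h')
    (huh : ∀ U : Y.Opens, ι.hom.app (op U) ≫ uh.app U = u.app U ≫ ι'.hom.app (op (q ⁻¹ᵁ U)))
    (huhz : (uh.app ⊤).hom z = RelCone.restrictTop 𝒮h' z' (q ⁻¹ᵁ ⊤))
    (Φh : ((RelProj.domQ uh pC' chartC' : PC'.Opens) : Scheme.{u}) ⟶ PC)
    (hΦh : RelProj.IsProjQMapOn uh pC chartC pC' chartC' (RelProj.domQ uh pC' chartC') Φh)
    {P' : Scheme.{u}} (p' : P' ⟶ Y') (chart' : ∀ (U : Y'.Opens) (hU : IsAffineOpen U), (((p' ⁻¹ᵁ U : P'.Opens) : Scheme.{u}) ≅ Proj (𝒮'.deg U hU)))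
    (hP' : RelProj.IsRelProj 𝒮' p' chart') :
    (RelProj.domQ uh pC' chartC').ι ''ᵁ (Φh ⁻¹ᵁ RelCone.pointedProjCone 𝒮 hz pC chartC) ≤ RelCone.pointedProjCone 𝒮' hz' pC' chartC' ∧
      (RelProj.domQ u p' chart' = ⊤ →
        RelProj.domQ uh pC' chartC' = ⊤ ∧
          (RelProj.domQ uh pC' chartC').ι ''ᵁ (Φh ⁻¹ᵁ RelCone.pointedProjCone 𝒮 hz pC chartC) = RelCone.pointedProjCone 𝒮' hz' pC' chartC') := by
  have hE' := Groth.Agent.Lib.Helper42.Cone.pointedProjCone_eq_domQ hz' hC'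
  have hcomp := Groth.Agent.Lib.Helper42.ProjQ.isProjQMapOn_comp hC hC' hΦh
  have part1 : (RelProj.domQ uh pC' chartC').ι ''ᵁ
      (Φh ⁻¹ᵁ RelCone.pointedProjCone 𝒮 hz pC chartC) ≤
        RelCone.pointedProjCone 𝒮' hz' pC' chartC' := by
    rintro _ ⟨t, ht, rfl⟩
    have ht' : Φh.base t ∈ RelCone.pointedProjCone 𝒮 hz pC chartC := ht
    unfold RelCone.pointedProjCone at ht'
    obtain ⟨V, hV⟩ := TopologicalSpace.Opens.mem_iSup.mp ht'
    obtain ⟨U, hU0⟩ := V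
    have hU : IsAffineOpen U := hU0
    change Φh.base t ∈ (RelProj.emb pC chartC U hU) ''ᵁ
      RelCone.domOpen (RelProj.gradedHomAt ι hz.graded U hU) at hV
    obtain ⟨y₀, hy₀, hy₀e⟩ := hV
    obtain ⟨f, hf, hfy⟩ := (RelCone.mem_domOpen _ _).mp hy₀
    obtain ⟨d, hd, fd, hfd, hfdy⟩ := Groth.Agent.Lib.Helper42.ProjQ.exists_homogeneous_notMem
      (RelProj.gradedHomAt ι hz.graded U hU) y₀.asHomogeneousIdeal.toIdeal hf hfy
    have hpt : pC'.base ((RelProj.domQ uh pC' chartC').ι.base t) ∈ q ⁻¹ᵁ U := by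
      change q.base (pC'.base ((RelProj.domQ uh pC' chartC').ι.base t)) ∈ U
      have h1 : pC.base (Φh.base t) ∈ U := by
        have h2 : Φh.base t ∈ Set.range (RelProj.emb pC chartC U hU).base := ⟨y₀, hy₀e⟩
        rw [Groth.Agent.Lib.Helper42.ProjQ.range_emb] at h2
        exact h2
      have h3 := congrArg (fun ψ => ψ.base t) hcomp
      simp only [Scheme.Hom.comp_base, TopCat.comp_app] at h3
      rw [h3] at h1
      exact h1
    obtain ⟨_, ⟨U', hU'0, rfl⟩, hxU', hU'le⟩ := (Y'.isBasis_affineOpens).exists_subset_of_mem_open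
      hpt (q ⁻¹ᵁ U).2
    have hU' : IsAffineOpen U' := hU'0
    have key := Groth.Agent.Lib.Helper42.ProjQ.mem_range_emb_of_map_mem hC hC' hΦh U hU U' hU'
      hU'le hd (GradedFunLike.map_mem (RelProj.gradedHomAt ι hz.graded U hU) hfd) t hxU' y₀
      hfdy hy₀e.symm
    rw [Groth.Agent.Lib.Helper42.ProjQ.mem_range_emb_iff] at key
    obtain ⟨y', hy', hy'e⟩ := key
    have hy'2 : y' ∈ RelCone.domOpen (RelProj.gradedHomAt ι' hz'.graded U' hU') := by
      refine (RelCone.mem_domOpen _ _).mpr ⟨u.gradedAt U hU U' hU' hU'le fd,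
        HomogeneousIdeal.mem_irrelevant_of_mem _ hd
          (GradedFunLike.map_mem (u.gradedAt U hU U' hU' hU'le) hfd), ?_⟩
      rw [← Groth.Agent.Lib.Helper42.Cone.uh_ι_apply u hz hz' uh huh U hU U' hU' hU'le fd]
      exact (ProjectiveSpectrum.mem_basicOpen _ _ _).mp hy'
    unfold RelCone.pointedProjCone
    refine TopologicalSpace.Opens.mem_iSup.mpr ⟨⟨U', hU'⟩, ?_⟩
    exact ⟨y', hy'2, hy'e⟩
  refine ⟨part1, fun htop => ?_⟩
  -- the trace of a point on `𝒮'(U')` lies in the open of definition of `u`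
  have hdomu : ∀ (U : Y.Opens) (hU : IsAffineOpen U) (U' : Y'.Opens) (hU' : IsAffineOpen U')
      (hle : U' ≤ q ⁻¹ᵁ U) (y' : Proj (𝒮h'.deg U' hU'))
      (hy : ¬ (HomogeneousIdeal.irrelevant (𝒮'.deg U' hU')).toIdeal ≤
        y'.asHomogeneousIdeal.toIdeal.comap (RelProj.gradedHomAt ι' hz'.graded U' hU')),
      Groth.Agent.Lib.Helper42.PolyGraded.comapPoint (RelProj.gradedHomAt ι' hz'.graded U' hU') y' hy ∈
        RelCone.domOpen (u.gradedAt U hU U' hU' hle) := by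
    intro U hU U' hU' hle y' hy
    have h1 : (RelProj.emb p' chart' U' hU').base
        (Groth.Agent.Lib.Helper42.PolyGraded.comapPoint
          (RelProj.gradedHomAt ι' hz'.graded U' hU') y' hy) ∈
        RelProj.domQ u p' chart' ⊓ p' ⁻¹ᵁ U' := by
      refine ⟨by rw [htop]; trivial, ?_⟩
      have h2 : (RelProj.emb p' chart' U' hU').base
          (Groth.Agent.Lib.Helper42.PolyGraded.comapPoint
            (RelProj.gradedHomAt ι' hz'.graded U' hU') y' hy) ∈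
          Set.range (RelProj.emb p' chart' U' hU').base := ⟨_, rfl⟩
      rw [Groth.Agent.Lib.Helper42.ProjQ.range_emb] at h2
      exact h2
    rw [Groth.Agent.Lib.Helper42.ProjQ.domQ_inf_preimage hP' U hU U' hU' hle] at h1
    obtain ⟨y3, hy3, hy3e⟩ := h1
    rw [← (RelProj.emb p' chart' U' hU').isOpenEmbedding.injective hy3e]
    exact hy3
  have h2a : RelProj.domQ uh pC' chartC' = ⊤ := by
    rw [eq_top_iff]
    intro x _
    obtain ⟨U, hU, U', hU', hle, y', rfl⟩ :=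
      Groth.Agent.Lib.Helper42.Cone.exists_pair_emb (q := q) (p' := pC') (chart' := chartC') x
    have hy'dom : y' ∈ RelCone.domOpen (uh.gradedAt U hU U' hU' hle) := by
      by_cases hzy : RelCone.restrictTop 𝒮h' z' U' ∈ y'.asHomogeneousIdeal
      · have hy : ¬ (HomogeneousIdeal.irrelevant (𝒮'.deg U' hU')).toIdeal ≤
            y'.asHomogeneousIdeal.toIdeal.comap (RelProj.gradedHomAt ι' hz'.graded U' hU') :=
          fun hcon => y'.not_irrelevant_le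
            (Groth.Agent.Lib.Helper42.PolyGraded.irrelevant_le_of_z_mem
              (RelProj.gradedHomAt ι' hz'.graded U' hU') (hz'.deg_z U' hU') (hz'.bij U' hU')
              y'.asHomogeneousIdeal.toIdeal hzy hcon)
        obtain ⟨d, hd, f, hf, hfy⟩ := Groth.Agent.Lib.Helper42.Cone.exists_mem_basicOpen_uh
          u hz hz' uh huh U hU U' hU' hle y' hy (hdomu U hU U' hU' hle y' hy)
        exact (RelCone.mem_domOpen _ _).mpr ⟨RelProj.gradedHomAt ι hz.graded U hU f,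
          HomogeneousIdeal.mem_irrelevant_of_mem _ hd
            (GradedFunLike.map_mem (RelProj.gradedHomAt ι hz.graded U hU) hf),
          (ProjectiveSpectrum.mem_basicOpen _ _ _).mp hfy⟩
      · refine (RelCone.mem_domOpen _ _).mpr ⟨RelCone.restrictTop 𝒮h z U,
          HomogeneousIdeal.mem_irrelevant_of_mem _ one_pos (hz.deg_z U hU), ?_⟩
        rw [Groth.Agent.Lib.Helper42.Cone.uh_z uh huhz U hU U' hU' hle]
        exact hzy
    refine TopologicalSpace.Opens.mem_iSup.mpr ⟨⟨(⟨U, hU⟩, ⟨U', hU'⟩), hle⟩, ?_⟩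
    exact ⟨y', hy'dom, rfl⟩
  refine ⟨h2a, le_antisymm part1 ?_⟩
  intro x hx
  obtain ⟨U, hU, U', hU', hle, y', rfl⟩ :=
    Groth.Agent.Lib.Helper42.Cone.exists_pair_emb (q := q) (p' := pC') (chart' := chartC') x
  have h1 : (RelProj.emb pC' chartC' U' hU').base y' ∈
      RelProj.domQ (RelProj.QGrHom.ofHom ι' hz'.graded) pC' chartC' ⊓ pC' ⁻¹ᵁ U' := by
    refine ⟨by rw [← hE']; exact hx, ?_⟩
    have h2 : (RelProj.emb pC' chartC' U' hU').base y' ∈
        Set.range (RelProj.emb pC' chartC' U' hU').base := ⟨_, rfl⟩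
    rw [Groth.Agent.Lib.Helper42.ProjQ.range_emb] at h2
    exact h2
  rw [Groth.Agent.Lib.Helper42.Cone.domQ_ofHom_inf_preimage ι' hz'.graded hC' U' hU'] at h1
  obtain ⟨y3, hy3, hy3e⟩ := h1
  have hy3' := (RelProj.emb pC' chartC' U' hU').isOpenEmbedding.injective hy3e
  subst hy3'
  obtain ⟨f', hf', hf'y⟩ := (RelCone.mem_domOpen _ _).mp hy3
  have hy : ¬ (HomogeneousIdeal.irrelevant (𝒮'.deg U' hU')).toIdeal ≤
      y3.asHomogeneousIdeal.toIdeal.comap (RelProj.gradedHomAt ι' hz'.graded U' hU') :=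
    fun hcon => hf'y (hcon hf')
  obtain ⟨d, hd, f, hf, hfy⟩ := Groth.Agent.Lib.Helper42.Cone.exists_mem_basicOpen_uh
    u hz hz' uh huh U hU U' hU' hle y3 hy (hdomu U hU U' hU' hle y3 hy)
  have hx2 : (RelProj.emb pC' chartC' U' hU').base y3 ∈ RelProj.domQ uh pC' chartC' := by
    rw [h2a]; trivial
  have hfι := GradedFunLike.map_mem (RelProj.gradedHomAt ι hz.graded U hU) hf
  have hk := (Groth.Agent.Lib.Helper42.ProjQ.mem_range_emb_iff (u := uh) (p' := pC')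
    (chart' := chartC') ⟨U, hU, U', hU', hle, d, hd, RelProj.gradedHomAt ι hz.graded U hU f, hfι⟩
    ⟨(RelProj.emb pC' chartC' U' hU').base y3, hx2⟩).mpr ⟨y3, hfy, rfl⟩
  obtain ⟨z0, hz0⟩ := hk
  refine ⟨⟨(RelProj.emb pC' chartC' U' hU').base y3, hx2⟩, ?_, rfl⟩
  change Φh.base ⟨(RelProj.emb pC' chartC' U' hU').base y3, hx2⟩ ∈
    RelCone.pointedProjCone 𝒮 hz pC chartC
  rw [← hz0]
  have h5 := congrArg (fun ψ => ψ.base z0) (hΦh U hU U' hU' hle d hd _ hfι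
    (RelProj.range_awayEmb_subset_domQ uh pC' chartC' U hU U' hU' hle hd _ hfι))
  have h6 : Φh.base ((Groth.Agent.Lib.Helper42.ProjQ.QIdx.emb uh pC' chartC'
      ⟨U, hU, U', hU', hle, d, hd, RelProj.gradedHomAt ι hz.graded U hU f, hfι⟩).base z0) =
      (RelProj.emb pC chartC U hU).base ((Proj.awayι (𝒮h.deg U hU)
        (RelProj.gradedHomAt ι hz.graded U hU f) hfι hd).base
        ((Spec.map (CommRingCat.ofHom (HomogeneousLocalization.Away.map
          (uh.gradedAt U hU U' hU' hle) (RelProj.gradedHomAt ι hz.graded U hU f)))).base z0)) := h5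
  rw [h6]
  have hb : (Proj.awayι (𝒮h.deg U hU) (RelProj.gradedHomAt ι hz.graded U hU f) hfι hd).base
      ((Spec.map (CommRingCat.ofHom (HomogeneousLocalization.Away.map
        (uh.gradedAt U hU U' hU' hle) (RelProj.gradedHomAt ι hz.graded U hU f)))).base z0) ∈
      Proj.basicOpen (𝒮h.deg U hU) (RelProj.gradedHomAt ι hz.graded U hU f) :=
    (Proj.opensRange_awayι (𝒮h.deg U hU) _ hfι hd).le ⟨_, rfl⟩
  have hdomι : (Proj.awayι (𝒮h.deg U hU) (RelProj.gradedHomAt ι hz.graded U hU f) hfι hd).base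
      ((Spec.map (CommRingCat.ofHom (HomogeneousLocalization.Away.map
        (uh.gradedAt U hU U' hU' hle) (RelProj.gradedHomAt ι hz.graded U hU f)))).base z0) ∈
      RelCone.domOpen (RelProj.gradedHomAt ι hz.graded U hU) :=
    (RelCone.mem_domOpen _ _).mpr ⟨f, HomogeneousIdeal.mem_irrelevant_of_mem _ hd hf,
      (ProjectiveSpectrum.mem_basicOpen _ _ _).mp hb⟩
  unfold RelCone.pointedProjCone
  refine TopologicalSpace.Opens.mem_iSup.mpr ⟨⟨U, hU⟩, ?_⟩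
  exact ⟨_, hdomι, rfl⟩

end Groth.Agent.S12155
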