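import Groth.Statements.S12156
import Groth.Agent.Lib.Helper42.ConeQMap2
-- import your own Groth.Agent.* helpers here

set_option autoImplicit false
universe u
open CategoryTheory CategoryTheory.Limits AlgebraicGeometry TopologicalSpace Opposite
open scoped HomogeneousIdeal
noncomputable section
open EGA2

namespace Groth.Agent.S12156

theorem local_step {Y Y' PC PC' : Scheme.{u}} (q : Y' ⟶ Y)
    (𝒮 : RelProj.QCGrAlg Y) (𝒮' : RelProj.QCGrAlg Y')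
    (u : RelProj.QGrHom q 𝒮 𝒮')
    (𝒮h : RelProj.QCGrAlg Y) (ι : 𝒮.toQCAlg ⟶ 𝒮h.toQCAlg) (z : 𝒮h.presheaf.obj (op ⊤))
    (hz : RelCone.IsPolyOver 𝒮 𝒮h ι z)
    (pC : PC ⟶ Y) (chartC : ∀ (U : Y.Opens) (hU : IsAffineOpen U), (((pC ⁻¹ᵁ U : PC.Opens) : Scheme.{u}) ≅ Proj (𝒮h.deg U hU)))
    (𝒮h' : RelProj.QCGrAlg Y') (ι' : 𝒮'.toQCAlg ⟶ 𝒮h'.toQCAlg) (z' : 𝒮h'.presheaf.obj (op ⊤))
    (hz' : RelCone.IsPolyOver 𝒮' 𝒮h' ι' z')
    (pC' : PC' ⟶ Y') (chartC' : ∀ (U : Y'.Opens) (hU : IsAffineOpen U), (((pC' ⁻¹ᵁ U : PC'.Opens) : Scheme.{u}) ≅ Proj (𝒮h'.deg U hU)))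
    (uh : RelProj.QGrHom q 𝒮h 𝒮h')
    (huh : ∀ U : Y.Opens, ι.hom.app (op U) ≫ uh.app U = u.app U ≫ ι'.hom.app (op (q ⁻¹ᵁ U)))
    (Φh : ((RelProj.domQ uh pC' chartC' : PC'.Opens) : Scheme.{u}) ⟶ PC)
    (hΦh : RelProj.IsProjQMapOn uh pC chartC pC' chartC' (RelProj.domQ uh pC' chartC') Φh)
    {P P' : Scheme.{u}} (p : P ⟶ Y) (chart : ∀ (U : Y.Opens) (hU : IsAffineOpen U), (((p ⁻¹ᵁ U : P.Opens) : Scheme.{u}) ≅ Proj (𝒮.deg U hU)))
    (p' : P' ⟶ Y') (chart' : ∀ (U : Y'.Opens) (hU : IsAffineOpen U), (((p' ⁻¹ᵁ U : P'.Opens) : Scheme.{u}) ≅ Proj (𝒮'.deg U hU)))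
    (Φ : ((RelProj.domQ u p' chart' : P'.Opens) : Scheme.{u}) ⟶ P)
    (hΦ : RelProj.IsProjQMapOn u p chart p' chart' (RelProj.domQ u p' chart') Φ)
    (r : ((RelCone.pointedProjCone 𝒮 hz pC chartC : PC.Opens) : Scheme.{u}) ⟶ P)
    (hrR : Groth.Agent.Lib.Helper42.Cone.IsRetr hz p chart r)
    (r' : ((RelCone.pointedProjCone 𝒮' hz' pC' chartC' : PC'.Opens) : Scheme.{u}) ⟶ P')
    (hrR' : Groth.Agent.Lib.Helper42.Cone.IsRetr hz' p' chart' r')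
    (T : Scheme.{u}) (a : T ⟶ ((RelCone.pointedProjCone 𝒮' hz' pC' chartC' : PC'.Opens) : Scheme.{u}))
    (b : T ⟶ ((RelProj.domQ uh pC' chartC' : PC'.Opens) : Scheme.{u}))
    (c : T ⟶ ((RelCone.pointedProjCone 𝒮 hz pC chartC : PC.Opens) : Scheme.{u}))
    (hab : a ≫ (RelCone.pointedProjCone 𝒮' hz' pC' chartC').ι = b ≫ (RelProj.domQ uh pC' chartC').ι)
    (hbc : b ≫ Φh = c ≫ (RelCone.pointedProjCone 𝒮 hz pC chartC).ι)
    (τ : T) (U : Y.Opens) (hU : IsAffineOpen U) (U' : Y'.Opens) (hU' : IsAffineOpen U')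
    (hle : U' ≤ q ⁻¹ᵁ U) (n : ℕ) (hn : 0 < n) (f : 𝒮.presheaf.obj (op U))
    (hf : f ∈ 𝒮.deg U hU n)
    (hmem : b.base τ ∈ Set.range (Groth.Agent.Lib.Helper42.ProjQ.QIdx.emb uh pC' chartC'
      ⟨U, hU, U', hU', hle, n, hn, RelProj.gradedHomAt ι hz.graded U hU f,
        GradedFunLike.map_mem (RelProj.gradedHomAt ι hz.graded U hU) hf⟩).base) :
    ∃ W : T.Opens, τ ∈ W ∧
      (∀ x : T, x ∈ W → (a ≫ r').base x ∈ RelProj.domQ u p' chart') ∧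
      ∀ d : T ⟶ ((RelProj.domQ u p' chart' : P'.Opens) : Scheme.{u}),
        a ≫ r' = d ≫ (RelProj.domQ u p' chart').ι → W.ι ≫ c ≫ r = W.ι ≫ d ≫ Φ := by
  -- the standard chart of `G(uh)` at `ι f`
  let k : Groth.Agent.Lib.Helper42.ProjQ.QIdx q 𝒮h :=
    ⟨U, hU, U', hU', hle, n, hn, RelProj.gradedHomAt ι hz.graded U hU f,
      GradedFunLike.map_mem (RelProj.gradedHomAt ι hz.graded U hU) hf⟩
  let k' : Groth.Agent.Lib.Helper42.ProjQ.QIdx q 𝒮 := ⟨U, hU, U', hU', hle, n, hn, f, hf⟩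
  let W : T.Opens := b ⁻¹ᵁ (k.emb uh pC' chartC').opensRange
  have hτW : τ ∈ W := hmem
  have hWr : Set.range (W.ι ≫ b).base ⊆ Set.range (k.emb uh pC' chartC').base := by
    rintro _ ⟨x, rfl⟩
    exact x.2
  let β₁ : (W : Scheme.{u}) ⟶ k.src uh := IsOpenImmersion.lift (k.emb uh pC' chartC') (W.ι ≫ b) hWr
  have hβ₁ : β₁ ≫ k.emb uh pC' chartC' = W.ι ≫ b := IsOpenImmersion.lift_fac _ _ _
  -- the two graded homomorphisms 𝒮(U) → 𝒮h'(U')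
  let ψ₁ : 𝒮.deg U hU →+*ᵍ 𝒮h'.deg U' hU' :=
    (uh.gradedAt U hU U' hU' hle).comp (RelProj.gradedHomAt ι hz.graded U hU)
  let ψ₂ : 𝒮.deg U hU →+*ᵍ 𝒮h'.deg U' hU' :=
    (RelProj.gradedHomAt ι' hz'.graded U' hU').comp (u.gradedAt U hU U' hU' hle)
  have hψ : ψ₁ = ψ₂ := DFunLike.ext _ _
    (Groth.Agent.Lib.Helper42.Cone.uh_ι_apply u hz hz' uh huh U hU U' hU' hle)
  obtain ⟨β₂, hβ₂a, hβ₂b⟩ := Groth.Agent.Lib.Helper42.Cone.exists_bridge ψ₁ ψ₂ hψ hn hf β₁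
  -- LHS: `W.ι ≫ c` factors through the standard chart of `Ê` at `f`
  let i : Groth.Agent.Lib.Helper42.ProjQ.PIdx 𝒮 := ⟨U, hU, n, hn, f, hf⟩
  have hΦk : k.emb uh pC' chartC' ≫ Φh =
      Spec.map (CommRingCat.ofHom (HomogeneousLocalization.Away.map (uh.gradedAt U hU U' hU' hle)
        (RelProj.gradedHomAt ι hz.graded U hU f))) ≫
      Proj.awayι (𝒮h.deg U hU) (RelProj.gradedHomAt ι hz.graded U hU f)
        (GradedFunLike.map_mem (RelProj.gradedHomAt ι hz.graded U hU) hf) hn ≫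
        RelProj.emb pC chartC U hU :=
    hΦh U hU U' hU' hle n hn _ _ _
  have hc : W.ι ≫ c = β₁ ≫ Spec.map (CommRingCat.ofHom (HomogeneousLocalization.Away.map
      (uh.gradedAt U hU U' hU' hle) (RelProj.gradedHomAt ι hz.graded U hU f))) ≫
      Groth.Agent.Lib.Helper42.Cone.coneChart hz (pC := pC) (chartC := chartC) i := by
    rw [← cancel_mono (RelCone.pointedProjCone 𝒮 hz pC chartC).ι]
    simp only [Category.assoc]
    rw [Groth.Agent.Lib.Helper42.Cone.coneChart_ι hz i, ← hbc, ← Category.assoc W.ι, ← hβ₁,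
      Category.assoc, hΦk]
  have hcr : W.ι ≫ c ≫ r = β₁ ≫ Spec.map (CommRingCat.ofHom
      (HomogeneousLocalization.Away.map ψ₁ f)) ≫
      Proj.awayι (𝒮.deg U hU) f hf hn ≫ RelProj.emb p chart U hU := by
    rw [← Category.assoc, hc]
    simp only [Category.assoc]
    rw [hrR U hU n hn f hf _ (Groth.Agent.Lib.Helper42.Cone.coneChart_ι hz i)]
    rw [← Category.assoc (Spec.map _) (Spec.map _), ← Spec.map_comp, ← CommRingCat.ofHom_comp,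
      ← HomogeneousLocalization.Away.map_comp]
  -- RHS: `W.ι ≫ a` factors through the standard chart of `Ê'` at `u f`
  let i' : Groth.Agent.Lib.Helper42.ProjQ.PIdx 𝒮' := ⟨U', hU', n, hn, u.gradedAt U hU U' hU' hle f,
    GradedFunLike.map_mem (u.gradedAt U hU U' hU' hle) hf⟩
  have hk : k.emb uh pC' chartC' ≫ (RelProj.domQ uh pC' chartC').ι =
      Proj.awayι (𝒮h'.deg U' hU') (ψ₁ f) (GradedFunLike.map_mem ψ₁ hf) hn ≫
        RelProj.emb pC' chartC' U' hU' :=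
    Groth.Agent.Lib.Helper42.ProjQ.QIdx.emb_ι uh pC' chartC' k
  let β₂' : (W : Scheme.{u}) ⟶ Spec (CommRingCat.of (HomogeneousLocalization.Away
      (𝒮h'.deg U' hU') ((RelProj.gradedHomAt ι' hz'.graded U' hU')
        (u.gradedAt U hU U' hU' hle f)))) := β₂
  have hβ₂a' : β₂' ≫ Proj.awayι (𝒮h'.deg U' hU') ((RelProj.gradedHomAt ι' hz'.graded U' hU')
        (u.gradedAt U hU U' hU' hle f))
        ((RelProj.gradedHomAt ι' hz'.graded U' hU').2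
          (GradedFunLike.map_mem (u.gradedAt U hU U' hU' hle) hf)) hn =
      β₁ ≫ Proj.awayι (𝒮h'.deg U' hU') (ψ₁ f) (GradedFunLike.map_mem ψ₁ hf) hn := hβ₂a
  have ha : W.ι ≫ a = β₂' ≫
      Groth.Agent.Lib.Helper42.Cone.coneChart hz' (pC := pC') (chartC := chartC') i' := by
    rw [← cancel_mono (RelCone.pointedProjCone 𝒮' hz' pC' chartC').ι]
    have e1 : (W.ι ≫ a) ≫ (RelCone.pointedProjCone 𝒮' hz' pC' chartC').ι =
        β₁ ≫ (k.emb uh pC' chartC' ≫ (RelProj.domQ uh pC' chartC').ι) := by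
      rw [Category.assoc, hab, ← Category.assoc, ← hβ₁, Category.assoc]
    have e2 : (β₂' ≫ Groth.Agent.Lib.Helper42.Cone.coneChart hz' (pC := pC') (chartC := chartC') i') ≫
        (RelCone.pointedProjCone 𝒮' hz' pC' chartC').ι =
        β₂' ≫ (Proj.awayι (𝒮h'.deg U' hU') ((RelProj.gradedHomAt ι' hz'.graded U' hU')
          (u.gradedAt U hU U' hU' hle f))
          ((RelProj.gradedHomAt ι' hz'.graded U' hU').2
            (GradedFunLike.map_mem (u.gradedAt U hU U' hU' hle) hf)) hn ≫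
          RelProj.emb pC' chartC' U' hU') := by
      rw [Category.assoc, Groth.Agent.Lib.Helper42.Cone.coneChart_ι hz' i']
    rw [e1, e2, hk]
    exact ((Category.assoc _ _ _).symm.trans
      ((congrArg (fun m => m ≫ RelProj.emb pC' chartC' U' hU') hβ₂a'.symm).trans
        (Category.assoc _ _ _)))
  have har : W.ι ≫ a ≫ r' = (β₂' ≫ Spec.map (CommRingCat.ofHom (HomogeneousLocalization.Away.map
      (RelProj.gradedHomAt ι' hz'.graded U' hU') (u.gradedAt U hU U' hU' hle f))) ≫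
      k'.emb u p' chart') ≫ (RelProj.domQ u p' chart').ι := by
    rw [← Category.assoc, ha]
    simp only [Category.assoc]
    rw [hrR' U' hU' n hn _ _ _ (Groth.Agent.Lib.Helper42.Cone.coneChart_ι hz' i'),
      Groth.Agent.Lib.Helper42.ProjQ.QIdx.emb_ι]
    rfl
  refine ⟨W, hτW, ?_, ?_⟩
  · intro x hx
    have h1 : (a ≫ r').base x = (W.ι ≫ a ≫ r').base (⟨x, hx⟩ : (W : Scheme.{u})) := rfl
    rw [h1, har]
    exact Subtype.property ((β₂' ≫ Spec.map (CommRingCat.ofHom (HomogeneousLocalization.Away.map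
      (RelProj.gradedHomAt ι' hz'.graded U' hU') (u.gradedAt U hU U' hU' hle f))) ≫
      k'.emb u p' chart').base (⟨x, hx⟩ : (W : Scheme.{u})))
  · intro d hd
    have hΦk' : k'.emb u p' chart' ≫ Φ =
        Spec.map (CommRingCat.ofHom (HomogeneousLocalization.Away.map (u.gradedAt U hU U' hU' hle)
          f)) ≫ Proj.awayι (𝒮.deg U hU) f hf hn ≫ RelProj.emb p chart U hU :=
      hΦ U hU U' hU' hle n hn f hf _
    have hd' : W.ι ≫ d = β₂' ≫ Spec.map (CommRingCat.ofHom (HomogeneousLocalization.Away.map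
        (RelProj.gradedHomAt ι' hz'.graded U' hU') (u.gradedAt U hU U' hU' hle f))) ≫
        k'.emb u p' chart' := by
      rw [← cancel_mono (RelProj.domQ u p' chart').ι, Category.assoc, ← hd, har]
    rw [hcr, ← Category.assoc W.ι, hd']
    simp only [Category.assoc]
    rw [hΦk', ← Category.assoc (Spec.map _) (Spec.map _), ← Spec.map_comp,
      ← CommRingCat.ofHom_comp, ← HomogeneousLocalization.Away.map_comp]
    have h3 : β₂ ≫ Spec.map (CommRingCat.ofHom (HomogeneousLocalization.Away.map ψ₂ f)) =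
        β₁ ≫ Spec.map (CommRingCat.ofHom (HomogeneousLocalization.Away.map ψ₁ f)) := hβ₂b
    rw [← Category.assoc, ← h3, Category.assoc]
    rfl

/-- Let q : Y' → Y be a morphism, φ : 𝒮 → q_*𝒮' a graded q-morphism of quasi-coherent positively graded
algebras with 𝒮_0 = O_Y, 𝒮'_0 = O_{Y'}, φ̂ : 𝒮[z] → q_*𝒮'[z] its extension with φ̂(z) = z, Ĉ =
Proj(𝒮[z]), Ĉ' = Proj(𝒮'[z]) the projective cones with pointed cones Ê, Ê', and Φ̂ = Proj(φ̂) :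
G(φ̂) → Ĉ; let X = Proj(𝒮), X' = Proj(𝒮'), Proj(φ) : G(φ) → X on its open of definition G(φ) ⊆ X',
and p̂ : Ê → X, p̂' : Ê' → X' the canonical retractions. Then p̂'(Φ̂⁻¹(Ê)) ⊆ G(φ) and on Φ̂⁻¹(Ê) the
composites p̂ ∘ Φ̂ and Proj(φ) ∘ p̂' agree (stated on T-valued points: a : T → Ê' and b : T → G(φ̂)
agreeing in Ĉ' with Φ̂ ∘ b = c : T → Ê). -/
theorem result {Y Y' PC PC' : Scheme.{u}} (q : Y' ⟶ Y)
    (𝒮 : RelProj.QCGrAlg Y) (𝒮' : RelProj.QCGrAlg Y') (h0 : RelCone.StrZeroBij 𝒮) (h0' : RelCone.StrZeroBij 𝒮')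
    (u : RelProj.QGrHom q 𝒮 𝒮')
    (𝒮h : RelProj.QCGrAlg Y) (ι : 𝒮.toQCAlg ⟶ 𝒮h.toQCAlg) (z : 𝒮h.presheaf.obj (op ⊤))
    (hz : RelCone.IsPolyOver 𝒮 𝒮h ι z)
    (pC : PC ⟶ Y) (chartC : ∀ (U : Y.Opens) (hU : IsAffineOpen U), (((pC ⁻¹ᵁ U : PC.Opens) : Scheme.{u}) ≅ Proj (𝒮h.deg U hU)))
    (hC : RelProj.IsRelProj 𝒮h pC chartC)
    (𝒮h' : RelProj.QCGrAlg Y') (ι' : 𝒮'.toQCAlg ⟶ 𝒮h'.toQCAlg) (z' : 𝒮h'.presheaf.obj (op ⊤))
    (hz' : RelCone.IsPolyOver 𝒮' 𝒮h' ι' z')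
    (pC' : PC' ⟶ Y') (chartC' : ∀ (U : Y'.Opens) (hU : IsAffineOpen U), (((pC' ⁻¹ᵁ U : PC'.Opens) : Scheme.{u}) ≅ Proj (𝒮h'.deg U hU)))
    (hC' : RelProj.IsRelProj 𝒮h' pC' chartC')
    (uh : RelProj.QGrHom q 𝒮h 𝒮h')
    (huh : ∀ U : Y.Opens, ι.hom.app (op U) ≫ uh.app U = u.app U ≫ ι'.hom.app (op (q ⁻¹ᵁ U)))
    (huhz : (uh.app ⊤).hom z = RelCone.restrictTop 𝒮h' z' (q ⁻¹ᵁ ⊤))
    (Φh : ((RelProj.domQ uh pC' chartC' : PC'.Opens) : Scheme.{u}) ⟶ PC)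
    (hΦh : RelProj.IsProjQMapOn uh pC chartC pC' chartC' (RelProj.domQ uh pC' chartC') Φh)
    {P P' : Scheme.{u}} (p : P ⟶ Y) (chart : ∀ (U : Y.Opens) (hU : IsAffineOpen U), (((p ⁻¹ᵁ U : P.Opens) : Scheme.{u}) ≅ Proj (𝒮.deg U hU)))
    (hP : RelProj.IsRelProj 𝒮 p chart)
    (p' : P' ⟶ Y') (chart' : ∀ (U : Y'.Opens) (hU : IsAffineOpen U), (((p' ⁻¹ᵁ U : P'.Opens) : Scheme.{u}) ≅ Proj (𝒮'.deg U hU)))
    (hP' : RelProj.IsRelProj 𝒮' p' chart')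
    (Φ : ((RelProj.domQ u p' chart' : P'.Opens) : Scheme.{u}) ⟶ P)
    (hΦ : RelProj.IsProjQMapOn u p chart p' chart' (RelProj.domQ u p' chart') Φ)
    (r : ((RelCone.pointedProjCone 𝒮 hz pC chartC : PC.Opens) : Scheme.{u}) ⟶ P)
    (hr : RelProj.IsProjQMapOn (RelProj.QGrHom.ofHom ι hz.graded) p chart pC chartC (RelCone.pointedProjCone 𝒮 hz pC chartC) r)
    (r' : ((RelCone.pointedProjCone 𝒮' hz' pC' chartC' : PC'.Opens) : Scheme.{u}) ⟶ P')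
    (hr' : RelProj.IsProjQMapOn (RelProj.QGrHom.ofHom ι' hz'.graded) p' chart' pC' chartC' (RelCone.pointedProjCone 𝒮' hz' pC' chartC') r')
    (T : Scheme.{u}) (a : T ⟶ ((RelCone.pointedProjCone 𝒮' hz' pC' chartC' : PC'.Opens) : Scheme.{u}))
    (b : T ⟶ ((RelProj.domQ uh pC' chartC' : PC'.Opens) : Scheme.{u}))
    (c : T ⟶ ((RelCone.pointedProjCone 𝒮 hz pC chartC : PC.Opens) : Scheme.{u}))
    (hab : a ≫ (RelCone.pointedProjCone 𝒮' hz' pC' chartC').ι = b ≫ (RelProj.domQ uh pC' chartC').ι) (hbc : b ≫ Φh = c ≫ (RelCone.pointedProjCone 𝒮 hz pC chartC).ι) :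
    Set.range (a ≫ r').base ⊆ ((RelProj.domQ u p' chart' : P'.Opens) : Set P') ∧
      ∀ d : T ⟶ ((RelProj.domQ u p' chart' : P'.Opens) : Scheme.{u}),
        a ≫ r' = d ≫ (RelProj.domQ u p' chart').ι → c ≫ r = d ≫ Φ := by
  have hrR := Groth.Agent.Lib.Helper42.Cone.isRetr_of_isProjQMapOn hz hr
  have hrR' := Groth.Agent.Lib.Helper42.Cone.isRetr_of_isProjQMapOn hz' hr'
  have hloc : ∀ τ : T, ∃ W : T.Opens, τ ∈ W ∧
      (∀ x : T, x ∈ W → (a ≫ r').base x ∈ RelProj.domQ u p' chart') ∧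
      ∀ d : T ⟶ ((RelProj.domQ u p' chart' : P'.Opens) : Scheme.{u}),
        a ≫ r' = d ≫ (RelProj.domQ u p' chart').ι → W.ι ≫ c ≫ r = W.ι ≫ d ≫ Φ := by
    intro τ
    have ht : Φh.base (b.base τ) ∈ RelCone.pointedProjCone 𝒮 hz pC chartC := by
      have h1 := congrArg (fun ψ => ψ.base τ) hbc
      simp only [Scheme.Hom.comp_base, TopCat.comp_app] at h1
      rw [h1]
      exact (c.base τ).2
    obtain ⟨U, hU, U', hU', hle, n, hn, f, hf, hmem⟩ :=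
      Groth.Agent.Lib.Helper42.Cone.exists_chart_of_map_mem_pointed hz hC hC' hΦh (b.base τ) ht
    exact local_step q 𝒮 𝒮' u 𝒮h ι z hz pC chartC 𝒮h' ι' z' hz' pC' chartC' uh huh Φh hΦh p chart
      p' chart' Φ hΦ r hrR r' hrR' T a b c hab hbc τ U hU U' hU' hle n hn f hf hmem
  constructor
  · rintro _ ⟨τ, rfl⟩
    obtain ⟨W, hτW, h1, -⟩ := hloc τ
    exact h1 τ hτW
  · intro d hd
    refine Scheme.hom_ext_of_forall _ _ (fun τ => ?_)
    obtain ⟨W, hτW, -, h2⟩ := hloc τ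
    exact ⟨W, hτW, h2 d hd⟩

end Groth.Agent.S12156
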