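import Groth.Statements.S12157
import Groth.Agent.Lib.Helper42.ConeQMap3
-- import your own Groth.Agent.* helpers here

set_option autoImplicit false
universe u
open CategoryTheory CategoryTheory.Limits AlgebraicGeometry TopologicalSpace Opposite
open scoped HomogeneousIdeal
noncomputable section
open EGA2

namespace Groth.Agent.S12157

/-- Let q : Y' → Y be a morphism, φ : 𝒮 → q_*𝒮' a graded q-morphism of quasi-coherent positively graded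
algebras with 𝒮_0 = O_Y, 𝒮'_0 = O_{Y'}, φ̂ : 𝒮[z] → q_*𝒮'[z] its extension with φ̂(z) = z, Ĉ =
Proj(𝒮[z]), Ĉ' = Proj(𝒮'[z]) the projective cones with pointed cones Ê, Ê', and Φ̂ = Proj(φ̂) :
G(φ̂) → Ĉ; let Φ = Spec(φ) : C' = Spec(𝒮') → C = Spec(𝒮) be the morphism of affine cones and i : C →
Ĉ, i' : C' → Ĉ' the canonical open immersions. Then i'(C') ⊆ G(φ̂) and the square formed by Φ, i', i
and Φ̂ commutes. -/
theorem result {Y Y' PC PC' : Scheme.{u}} (q : Y' ⟶ Y)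
    (𝒮 : RelProj.QCGrAlg Y) (𝒮' : RelProj.QCGrAlg Y') (h0 : RelCone.StrZeroBij 𝒮) (h0' : RelCone.StrZeroBij 𝒮')
    (u : RelProj.QGrHom q 𝒮 𝒮')
    (𝒮h : RelProj.QCGrAlg Y) (ι : 𝒮.toQCAlg ⟶ 𝒮h.toQCAlg) (z : 𝒮h.presheaf.obj (op ⊤))
    (hz : RelCone.IsPolyOver 𝒮 𝒮h ι z)
    (pC : PC ⟶ Y) (chartC : ∀ (U : Y.Opens) (hU : IsAffineOpen U), (((pC ⁻¹ᵁ U : PC.Opens) : Scheme.{u}) ≅ Proj (𝒮h.deg U hU)))
    (hC : RelProj.IsRelProj 𝒮h pC chartC)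
    (𝒮h' : RelProj.QCGrAlg Y') (ι' : 𝒮'.toQCAlg ⟶ 𝒮h'.toQCAlg) (z' : 𝒮h'.presheaf.obj (op ⊤))
    (hz' : RelCone.IsPolyOver 𝒮' 𝒮h' ι' z')
    (pC' : PC' ⟶ Y') (chartC' : ∀ (U : Y'.Opens) (hU : IsAffineOpen U), (((pC' ⁻¹ᵁ U : PC'.Opens) : Scheme.{u}) ≅ Proj (𝒮h'.deg U hU)))
    (hC' : RelProj.IsRelProj 𝒮h' pC' chartC')
    (uh : RelProj.QGrHom q 𝒮h 𝒮h')
    (huh : ∀ U : Y.Opens, ι.hom.app (op U) ≫ uh.app U = u.app U ≫ ι'.hom.app (op (q ⁻¹ᵁ U)))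
    (huhz : (uh.app ⊤).hom z = RelCone.restrictTop 𝒮h' z' (q ⁻¹ᵁ ⊤))
    (Φh : ((RelProj.domQ uh pC' chartC' : PC'.Opens) : Scheme.{u}) ⟶ PC)
    (hΦh : RelProj.IsProjQMapOn uh pC chartC pC' chartC' (RelProj.domQ uh pC' chartC') Φh)
    (Φc : 𝒮'.toQCAlg.spec ⟶ 𝒮.toQCAlg.spec) (hΦc : RelSpec.IsSpecQMap u.toQHom Φc)
    (i : 𝒮.toQCAlg.spec ⟶ PC) (hi : RelCone.IsConeImm 𝒮 hz pC chartC i)
    (i' : 𝒮'.toQCAlg.spec ⟶ PC') (hi' : RelCone.IsConeImm 𝒮' hz' pC' chartC' i') :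
    Set.range i'.base ⊆ ((RelProj.domQ uh pC' chartC' : PC'.Opens) : Set PC') ∧
      ∀ i'' : 𝒮'.toQCAlg.spec ⟶ ((RelProj.domQ uh pC' chartC' : PC'.Opens) : Scheme.{u}),
        i'' ≫ (RelProj.domQ uh pC' chartC').ι = i' → i'' ≫ Φh = Φc ≫ i := by
  have hloc : ∀ j : Groth.Agent.Lib.Helper42.Cone.APair q,
      Set.range (𝒮'.toQCAlg.ι j.U' j.hU' ≫ i').base ⊆
        ((RelProj.domQ uh pC' chartC' : PC'.Opens) : Set PC') ∧
      ∀ i'' : 𝒮'.toQCAlg.spec ⟶ ((RelProj.domQ uh pC' chartC' : PC'.Opens) : Scheme.{u}),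
        i'' ≫ (RelProj.domQ uh pC' chartC').ι = i' →
          𝒮'.toQCAlg.ι j.U' j.hU' ≫ i'' ≫ Φh = 𝒮'.toQCAlg.ι j.U' j.hU' ≫ Φc ≫ i := by
    rintro ⟨U, hU, U', hU', hle⟩
    dsimp only
    obtain ⟨β, hβ1, hβ2⟩ := Groth.Agent.Lib.Helper42.PolyGraded.exists_awayZ_comp_map
      (RelProj.gradedHomAt ι hz.graded U hU) (hz.deg_z U hU) (hz.bij U hU)
      (RelProj.gradedHomAt ι' hz'.graded U' hU') (hz'.deg_z U' hU') (hz'.bij U' hU')
      (u.gradedAt U hU U' hU' hle).toRingHom (uh.gradedAt U hU U' hU' hle)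
      (Groth.Agent.Lib.Helper42.Cone.uh_ι_apply u hz hz' uh huh U hU U' hU' hle)
      (Groth.Agent.Lib.Helper42.Cone.uh_z uh huhz U hU U' hU' hle)
    let k : Groth.Agent.Lib.Helper42.ProjQ.QIdx q 𝒮h :=
      ⟨U, hU, U', hU', hle, 1, one_pos, RelCone.restrictTop 𝒮h z U, hz.deg_z U hU⟩
    have hk : k.emb uh pC' chartC' ≫ (RelProj.domQ uh pC' chartC').ι =
        Proj.awayι (𝒮h'.deg U' hU') (uh.gradedAt U hU U' hU' hle (RelCone.restrictTop 𝒮h z U))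
          (GradedFunLike.map_mem (uh.gradedAt U hU U' hU' hle) (hz.deg_z U hU)) one_pos ≫
          RelProj.emb pC' chartC' U' hU' :=
      Groth.Agent.Lib.Helper42.ProjQ.QIdx.emb_ι uh pC' chartC' k
    have ha : 𝒮'.toQCAlg.ι U' hU' ≫ i' =
        (β ≫ k.emb uh pC' chartC') ≫ (RelProj.domQ uh pC' chartC').ι := by
      rw [Category.assoc, hk, ← Category.assoc, hβ1, hi' U' hU']
      simp only [Category.assoc]
      rfl
    constructor
    · rw [ha]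
      rintro _ ⟨x, rfl⟩
      exact Subtype.property ((β ≫ k.emb uh pC' chartC').base x)
    · intro i'' hi''
      have hb : 𝒮'.toQCAlg.ι U' hU' ≫ i'' = β ≫ k.emb uh pC' chartC' := by
        rw [← cancel_mono (RelProj.domQ uh pC' chartC').ι, Category.assoc, hi'', ha]
      have hΦk : k.emb uh pC' chartC' ≫ Φh =
          Spec.map (CommRingCat.ofHom (HomogeneousLocalization.Away.map
            (uh.gradedAt U hU U' hU' hle) (RelCone.restrictTop 𝒮h z U))) ≫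
          Proj.awayι (𝒮h.deg U hU) (RelCone.restrictTop 𝒮h z U) (hz.deg_z U hU) one_pos ≫
            RelProj.emb pC chartC U hU :=
        hΦh U hU U' hU' hle 1 one_pos _ _ _
      rw [← Category.assoc, hb, Category.assoc, hΦk, ← Category.assoc β, hβ2,
        ← Category.assoc (𝒮'.toQCAlg.ι U' hU'), hΦc U hU U' hU' hle]
      simp only [Category.assoc]
      rw [hi U hU]
      rfl
  constructor
  · rintro _ ⟨c', rfl⟩
    obtain ⟨j, q', rfl⟩ := Groth.Agent.Lib.Helper42.Cone.pair_covers q 𝒮'.toQCAlg c'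
    exact (hloc j).1 ⟨q', rfl⟩
  · intro i'' hi''
    refine Groth.Agent.Lib.Helper42.LocalGlue.hom_ext_of_family
      (J := Groth.Agent.Lib.Helper42.Cone.APair q)
      (fun j => Spec (𝒮'.presheaf.obj (op j.U'))) (fun j => 𝒮'.toQCAlg.ι j.U' j.hU')
      (Groth.Agent.Lib.Helper42.Cone.pair_covers q 𝒮'.toQCAlg) (fun j => ?_)
    exact (hloc j).2 i'' hi''

end Groth.Agent.S12157
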