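import Groth.Statements.S12158
import Groth.Agent.Lib.Helper42.ConeQMap4
-- import your own Groth.Agent.* helpers here

set_option autoImplicit false
universe u
open CategoryTheory CategoryTheory.Limits AlgebraicGeometry TopologicalSpace Opposite
open scoped HomogeneousIdeal
noncomputable section
open EGA2

namespace Groth.Agent.S12158

theorem chart_step {Y Y' PC PC' : Scheme.{u}} (q : Y' ⟶ Y)
    (𝒮 : RelProj.QCGrAlg Y) (𝒮' : RelProj.QCGrAlg Y')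
    (u : RelProj.QGrHom q 𝒮 𝒮')
    (𝒮h : RelProj.QCGrAlg Y) (ι : 𝒮.toQCAlg ⟶ 𝒮h.toQCAlg) (z : 𝒮h.presheaf.obj (op ⊤))
    (hz : RelCone.IsPolyOver 𝒮 𝒮h ι z)
    (pC : PC ⟶ Y) (chartC : ∀ (U : Y.Opens) (hU : IsAffineOpen U), (((pC ⁻¹ᵁ U : PC.Opens) : Scheme.{u}) ≅ Proj (𝒮h.deg U hU)))
    (𝒮h' : RelProj.QCGrAlg Y') (ι' : 𝒮'.toQCAlg ⟶ 𝒮h'.toQCAlg) (z' : 𝒮h'.presheaf.obj (op ⊤))
    (hz' : RelCone.IsPolyOver 𝒮' 𝒮h' ι' z')
    (pC' : PC' ⟶ Y') (chartC' : ∀ (U : Y'.Opens) (hU : IsAffineOpen U), (((pC' ⁻¹ᵁ U : PC'.Opens) : Scheme.{u}) ≅ Proj (𝒮h'.deg U hU)))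
    (uh : RelProj.QGrHom q 𝒮h 𝒮h')
    (huh : ∀ U : Y.Opens, ι.hom.app (op U) ≫ uh.app U = u.app U ≫ ι'.hom.app (op (q ⁻¹ᵁ U)))
    (huhz : (uh.app ⊤).hom z = RelCone.restrictTop 𝒮h' z' (q ⁻¹ᵁ ⊤))
    (Φh : ((RelProj.domQ uh pC' chartC' : PC'.Opens) : Scheme.{u}) ⟶ PC)
    (hΦh : RelProj.IsProjQMapOn uh pC chartC pC' chartC' (RelProj.domQ uh pC' chartC') Φh)
    {P P' : Scheme.{u}} (p : P ⟶ Y) (chart : ∀ (U : Y.Opens) (hU : IsAffineOpen U), (((p ⁻¹ᵁ U : P.Opens) : Scheme.{u}) ≅ Proj (𝒮.deg U hU)))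
    (p' : P' ⟶ Y') (chart' : ∀ (U : Y'.Opens) (hU : IsAffineOpen U), (((p' ⁻¹ᵁ U : P'.Opens) : Scheme.{u}) ≅ Proj (𝒮'.deg U hU)))
    (Φ : ((RelProj.domQ u p' chart' : P'.Opens) : Scheme.{u}) ⟶ P)
    (hΦ : RelProj.IsProjQMapOn u p chart p' chart' (RelProj.domQ u p' chart') Φ)
    (θ : 𝒮h.toQCAlg ⟶ 𝒮.toQCAlg) (hθ : RelProj.IsGradedHom θ) (hθι : ι ≫ θ = 𝟙 _)
    (hθz : (θ.hom.app (op ⊤)).hom z = 0)
    (jX : P ⟶ PC) (hjX : RelProj.IsProjQMap (RelProj.QGrHom.ofHom θ hθ) pC chartC p chart jX)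
    (θ' : 𝒮h'.toQCAlg ⟶ 𝒮'.toQCAlg) (hθ' : RelProj.IsGradedHom θ') (hθι' : ι' ≫ θ' = 𝟙 _)
    (hθz' : (θ'.hom.app (op ⊤)).hom z' = 0)
    (jX' : P' ⟶ PC') (hjX' : RelProj.IsProjQMap (RelProj.QGrHom.ofHom θ' hθ') pC' chartC' p' chart' jX')
    (U : Y.Opens) (hU : IsAffineOpen U) (U' : Y'.Opens) (hU' : IsAffineOpen U')
    (hle : U' ≤ q ⁻¹ᵁ U) (n : ℕ) (hn : 0 < n) (f : 𝒮.presheaf.obj (op U))
    (hf : f ∈ 𝒮.deg U hU n) :
    ∃ γ : Groth.Agent.Lib.Helper42.ProjQ.QIdx.src u (⟨U, hU, U', hU', hle, n, hn, f, hf⟩ :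
        Groth.Agent.Lib.Helper42.ProjQ.QIdx q 𝒮) ⟶
      Groth.Agent.Lib.Helper42.ProjQ.QIdx.src uh (⟨U, hU, U', hU', hle, n, hn,
        RelProj.gradedHomAt ι hz.graded U hU f,
        GradedFunLike.map_mem (RelProj.gradedHomAt ι hz.graded U hU) hf⟩ :
        Groth.Agent.Lib.Helper42.ProjQ.QIdx q 𝒮h),
      (Groth.Agent.Lib.Helper42.ProjQ.QIdx.emb u p' chart' ⟨U, hU, U', hU', hle, n, hn, f, hf⟩ ≫
        (RelProj.domQ u p' chart').ι ≫ jX' =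
      γ ≫ Groth.Agent.Lib.Helper42.ProjQ.QIdx.emb uh pC' chartC' ⟨U, hU, U', hU', hle, n, hn,
        RelProj.gradedHomAt ι hz.graded U hU f,
        GradedFunLike.map_mem (RelProj.gradedHomAt ι hz.graded U hU) hf⟩ ≫
        (RelProj.domQ uh pC' chartC').ι) ∧
      (γ ≫ Groth.Agent.Lib.Helper42.ProjQ.QIdx.emb uh pC' chartC' ⟨U, hU, U', hU', hle, n, hn,
        RelProj.gradedHomAt ι hz.graded U hU f,
        GradedFunLike.map_mem (RelProj.gradedHomAt ι hz.graded U hU) hf⟩ ≫ Φh =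
      Groth.Agent.Lib.Helper42.ProjQ.QIdx.emb u p' chart' ⟨U, hU, U', hU', hle, n, hn, f, hf⟩ ≫
        Φ ≫ jX) := by
  -- notation
  let k : Groth.Agent.Lib.Helper42.ProjQ.QIdx q 𝒮h :=
    ⟨U, hU, U', hU', hle, n, hn, RelProj.gradedHomAt ι hz.graded U hU f,
      GradedFunLike.map_mem (RelProj.gradedHomAt ι hz.graded U hU) hf⟩
  let k' : Groth.Agent.Lib.Helper42.ProjQ.QIdx q 𝒮 := ⟨U, hU, U', hU', hle, n, hn, f, hf⟩
  let θU : 𝒮h.deg U hU →+*ᵍ 𝒮.deg U hU :=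
    (RelProj.QGrHom.ofHom θ hθ).gradedAt U hU U hU (le_refl U)
  let θU' : 𝒮h'.deg U' hU' →+*ᵍ 𝒮'.deg U' hU' :=
    (RelProj.QGrHom.ofHom θ' hθ').gradedAt U' hU' U' hU' (le_refl U')
  let ιU : 𝒮.deg U hU →+*ᵍ 𝒮h.deg U hU := RelProj.gradedHomAt ι hz.graded U hU
  let ιU' : 𝒮'.deg U' hU' →+*ᵍ 𝒮h'.deg U' hU' := RelProj.gradedHomAt ι' hz'.graded U' hU'
  let uU : 𝒮.deg U hU →+*ᵍ 𝒮'.deg U' hU' := u.gradedAt U hU U' hU' hle
  let uhU : 𝒮h.deg U hU →+*ᵍ 𝒮h'.deg U' hU' := uh.gradedAt U hU U' hU' hle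
  have hg : ιU f ∈ 𝒮h.deg U hU n := GradedFunLike.map_mem ιU hf
  have hf' : uU f ∈ 𝒮'.deg U' hU' n := GradedFunLike.map_mem uU hf
  have hg' : uhU (ιU f) ∈ 𝒮h'.deg U' hU' n := GradedFunLike.map_mem uhU hg
  have hg'' : ιU' (uU f) ∈ 𝒮h'.deg U' hU' n := GradedFunLike.map_mem ιU' hf'
  have hgg : ιU' (uU f) = uhU (ιU f) :=
    (Groth.Agent.Lib.Helper42.Cone.uh_ι_apply u hz hz' uh huh U hU U' hU' hle f).symm
  have hθg : θU (ιU f) = f :=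
    (Groth.Agent.Lib.Helper42.Cone.ofHom_gradedAt_apply θ hθ U hU (le_refl U) (ιU f)).trans
      (Groth.Agent.Lib.Helper42.Cone.retraction_ι hz θ hθ hθι U hU f)
  have hθg' : θU' (uhU (ιU f)) = uU f := by
    rw [← hgg]
    exact (Groth.Agent.Lib.Helper42.Cone.ofHom_gradedAt_apply θ' hθ' U' hU' (le_refl U')
      (ιU' (uU f))).trans
      (Groth.Agent.Lib.Helper42.Cone.retraction_ι hz' θ' hθ' hθι' U' hU' (uU f))
  have hsq : θU'.comp uhU = uU.comp θU := by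
    have h1 : θU = RelProj.gradedHomAt θ hθ U hU :=
      Groth.Agent.Lib.Helper42.Cone.ofHom_gradedAt_eq θ hθ U hU (le_refl U)
    have h2 : θU' = RelProj.gradedHomAt θ' hθ' U' hU' :=
      Groth.Agent.Lib.Helper42.Cone.ofHom_gradedAt_eq θ' hθ' U' hU' (le_refl U')
    rw [h1, h2]
    exact Groth.Agent.Lib.Helper42.Cone.retraction_square u hz hz' uh huh huhz θ hθ hθι hθz
      θ' hθ' hθι' hθz' U hU U' hU' hle
  -- chart equations of the immersions at infinity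
  have EjX : Proj.awayι (𝒮.deg U hU) f hf hn ≫ (RelProj.emb p chart U hU ≫ jX) =
      Spec.map (CommRingCat.ofHom (Groth.Agent.Lib.Helper42.Cone.awayMapTo θU (ιU f) f hθg)) ≫
        Proj.awayι (𝒮h.deg U hU) (ιU f) hg hn ≫ RelProj.emb pC chartC U hU := by
    refine Groth.Agent.Lib.Helper42.Cone.chart_eq_of_eq hn θU hg hg rfl f hf hθg _ _ ?_
    have h := hjX.2 U hU U hU (le_refl U) n hn (ιU f) hg
    unfold RelProj.awayEmb at h
    rw [Category.assoc] at h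
    exact h
  have EjX' : Proj.awayι (𝒮'.deg U' hU') (uU f) hf' hn ≫ (RelProj.emb p' chart' U' hU' ≫ jX') =
      Spec.map (CommRingCat.ofHom
        (Groth.Agent.Lib.Helper42.Cone.awayMapTo θU' (uhU (ιU f)) (uU f) hθg')) ≫
        Proj.awayι (𝒮h'.deg U' hU') (uhU (ιU f)) hg' hn ≫ RelProj.emb pC' chartC' U' hU' := by
    refine Groth.Agent.Lib.Helper42.Cone.chart_eq_of_eq hn θU' hg'' hg' hgg (uU f) hf' hθg' _ _ ?_
    have h := hjX'.2 U' hU' U' hU' (le_refl U') n hn (ιU' (uU f)) hg''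
    unfold RelProj.awayEmb at h
    rw [Category.assoc] at h
    exact h
  have hk : k.emb uh pC' chartC' ≫ (RelProj.domQ uh pC' chartC').ι =
      Proj.awayι (𝒮h'.deg U' hU') (uhU (ιU f)) hg' hn ≫ RelProj.emb pC' chartC' U' hU' :=
    Groth.Agent.Lib.Helper42.ProjQ.QIdx.emb_ι uh pC' chartC' k
  have hk' : k'.emb u p' chart' ≫ (RelProj.domQ u p' chart').ι =
      Proj.awayι (𝒮'.deg U' hU') (uU f) hf' hn ≫ RelProj.emb p' chart' U' hU' :=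
    Groth.Agent.Lib.Helper42.ProjQ.QIdx.emb_ι u p' chart' k'
  have hΦk : k.emb uh pC' chartC' ≫ Φh =
      Spec.map (CommRingCat.ofHom (HomogeneousLocalization.Away.map uhU (ιU f))) ≫
      Proj.awayι (𝒮h.deg U hU) (ιU f) hg hn ≫ RelProj.emb pC chartC U hU :=
    hΦh U hU U' hU' hle n hn _ _ _
  have hΦk' : k'.emb u p' chart' ≫ Φ =
      Spec.map (CommRingCat.ofHom (HomogeneousLocalization.Away.map uU f)) ≫
        Proj.awayι (𝒮.deg U hU) f hf hn ≫ RelProj.emb p chart U hU :=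
    hΦ U hU U' hU' hle n hn f hf _
  have hring : (Groth.Agent.Lib.Helper42.Cone.awayMapTo θU' (uhU (ιU f)) (uU f) hθg').comp
      (HomogeneousLocalization.Away.map uhU (ιU f)) =
      (HomogeneousLocalization.Away.map uU f).comp
        (Groth.Agent.Lib.Helper42.Cone.awayMapTo θU (ιU f) f hθg) := by
    have h1 : (Groth.Agent.Lib.Helper42.Cone.awayMapTo θU' (uhU (ιU f)) (uU f) hθg').comp
        (HomogeneousLocalization.Away.map uhU (ιU f)) =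
        Groth.Agent.Lib.Helper42.Cone.awayMapTo (θU'.comp uhU) (ιU f) (uU f) hθg' :=
      Groth.Agent.Lib.Helper42.Cone.awayMapTo_comp uhU θU' (ιU f) (uhU (ιU f)) (uU f) rfl hθg' hθg'
    have h2 : (HomogeneousLocalization.Away.map uU f).comp
        (Groth.Agent.Lib.Helper42.Cone.awayMapTo θU (ιU f) f hθg) =
        Groth.Agent.Lib.Helper42.Cone.awayMapTo (uU.comp θU) (ιU f) (uU f)
          (congrArg uU hθg) :=
      Groth.Agent.Lib.Helper42.Cone.awayMapTo_comp θU uU (ιU f) f (uU f) hθg rfl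
        (congrArg uU hθg)
    rw [h1, h2]
    exact Groth.Agent.Lib.Helper42.Cone.awayMapTo_congr _ _ hsq (ιU f) (uU f) hθg'
      (congrArg uU hθg)
  let γ : k'.src u ⟶ k.src uh := Spec.map (CommRingCat.ofHom
    (Groth.Agent.Lib.Helper42.Cone.awayMapTo θU' (uhU (ιU f)) (uU f) hθg'))
  have hspec : γ ≫ Spec.map (CommRingCat.ofHom (HomogeneousLocalization.Away.map uhU (ιU f))) =
      Spec.map (CommRingCat.ofHom (HomogeneousLocalization.Away.map uU f)) ≫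
        Spec.map (CommRingCat.ofHom (Groth.Agent.Lib.Helper42.Cone.awayMapTo θU (ιU f) f hθg)) := by
    change Spec.map _ ≫ Spec.map _ = _
    rw [← Spec.map_comp, ← Spec.map_comp, ← CommRingCat.ofHom_comp, ← CommRingCat.ofHom_comp,
      hring]
  have part1 : k'.emb u p' chart' ≫ (RelProj.domQ u p' chart').ι ≫ jX' =
      γ ≫ k.emb uh pC' chartC' ≫ (RelProj.domQ uh pC' chartC').ι :=
    calc k'.emb u p' chart' ≫ (RelProj.domQ u p' chart').ι ≫ jX'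
        = (k'.emb u p' chart' ≫ (RelProj.domQ u p' chart').ι) ≫ jX' :=
          (Category.assoc _ _ _).symm
      _ = (Proj.awayι (𝒮'.deg U' hU') (uU f) hf' hn ≫ RelProj.emb p' chart' U' hU') ≫ jX' :=
          congrArg (fun m => m ≫ jX') hk'
      _ = Proj.awayι (𝒮'.deg U' hU') (uU f) hf' hn ≫ (RelProj.emb p' chart' U' hU' ≫ jX') :=
          Category.assoc _ _ _
      _ = γ ≫ (Proj.awayι (𝒮h'.deg U' hU') (uhU (ιU f)) hg' hn ≫
            RelProj.emb pC' chartC' U' hU') := EjX'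
      _ = γ ≫ k.emb uh pC' chartC' ≫ (RelProj.domQ uh pC' chartC').ι :=
          congrArg (fun m => γ ≫ m) hk.symm
  have part2 : γ ≫ k.emb uh pC' chartC' ≫ Φh = k'.emb u p' chart' ≫ Φ ≫ jX :=
    calc γ ≫ k.emb uh pC' chartC' ≫ Φh
        = γ ≫ (Spec.map (CommRingCat.ofHom (HomogeneousLocalization.Away.map uhU (ιU f))) ≫
            Proj.awayι (𝒮h.deg U hU) (ιU f) hg hn ≫ RelProj.emb pC chartC U hU) :=
          congrArg (fun m => γ ≫ m) hΦk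
      _ = (γ ≫ Spec.map (CommRingCat.ofHom (HomogeneousLocalization.Away.map uhU (ιU f)))) ≫
            Proj.awayι (𝒮h.deg U hU) (ιU f) hg hn ≫ RelProj.emb pC chartC U hU :=
          (Category.assoc _ _ _).symm
      _ = (Spec.map (CommRingCat.ofHom (HomogeneousLocalization.Away.map uU f)) ≫
            Spec.map (CommRingCat.ofHom
              (Groth.Agent.Lib.Helper42.Cone.awayMapTo θU (ιU f) f hθg))) ≫
            Proj.awayι (𝒮h.deg U hU) (ιU f) hg hn ≫ RelProj.emb pC chartC U hU :=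
          congrArg (fun m => m ≫ Proj.awayι (𝒮h.deg U hU) (ιU f) hg hn ≫
            RelProj.emb pC chartC U hU) hspec
      _ = Spec.map (CommRingCat.ofHom (HomogeneousLocalization.Away.map uU f)) ≫
            (Spec.map (CommRingCat.ofHom
              (Groth.Agent.Lib.Helper42.Cone.awayMapTo θU (ιU f) f hθg)) ≫
            Proj.awayι (𝒮h.deg U hU) (ιU f) hg hn ≫ RelProj.emb pC chartC U hU) :=
          Category.assoc _ _ _
      _ = Spec.map (CommRingCat.ofHom (HomogeneousLocalization.Away.map uU f)) ≫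
            (Proj.awayι (𝒮.deg U hU) f hf hn ≫ (RelProj.emb p chart U hU ≫ jX)) :=
          congrArg (fun m => Spec.map (CommRingCat.ofHom
            (HomogeneousLocalization.Away.map uU f)) ≫ m) EjX.symm
      _ = (Spec.map (CommRingCat.ofHom (HomogeneousLocalization.Away.map uU f)) ≫
            Proj.awayι (𝒮.deg U hU) f hf hn ≫ RelProj.emb p chart U hU) ≫ jX := by
          simp only [Category.assoc]
      _ = (k'.emb u p' chart' ≫ Φ) ≫ jX := congrArg (fun m => m ≫ jX) hΦk'.symm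
      _ = k'.emb u p' chart' ≫ Φ ≫ jX := Category.assoc _ _ _
  exact ⟨γ, part1, part2⟩

/-- Let q : Y' → Y be a morphism, φ : 𝒮 → q_*𝒮' a graded q-morphism of quasi-coherent positively graded
algebras with 𝒮_0 = O_Y, 𝒮'_0 = O_{Y'}, φ̂ : 𝒮[z] → q_*𝒮'[z] its extension with φ̂(z) = z, Ĉ =
Proj(𝒮[z]), Ĉ' = Proj(𝒮'[z]) the projective cones with pointed cones Ê, Ê', and Φ̂ = Proj(φ̂) :
G(φ̂) → Ĉ; let Proj(φ) : G(φ) → X = Proj(𝒮) be the morphism induced by φ on G(φ) ⊆ X' = Proj(𝒮'),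
and j : X → Ĉ, j' : X' → Ĉ' the canonical closed immersions at infinity (Proj of the graded
retractions 𝒮[z] → 𝒮, 𝒮'[z] → 𝒮' killing z). Then j'(G(φ)) ⊆ G(φ̂) and the square formed by Proj(φ),
j', j and Φ̂ commutes. -/
theorem result {Y Y' PC PC' : Scheme.{u}} (q : Y' ⟶ Y)
    (𝒮 : RelProj.QCGrAlg Y) (𝒮' : RelProj.QCGrAlg Y') (h0 : RelCone.StrZeroBij 𝒮) (h0' : RelCone.StrZeroBij 𝒮')
    (u : RelProj.QGrHom q 𝒮 𝒮')
    (𝒮h : RelProj.QCGrAlg Y) (ι : 𝒮.toQCAlg ⟶ 𝒮h.toQCAlg) (z : 𝒮h.presheaf.obj (op ⊤))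
    (hz : RelCone.IsPolyOver 𝒮 𝒮h ι z)
    (pC : PC ⟶ Y) (chartC : ∀ (U : Y.Opens) (hU : IsAffineOpen U), (((pC ⁻¹ᵁ U : PC.Opens) : Scheme.{u}) ≅ Proj (𝒮h.deg U hU)))
    (hC : RelProj.IsRelProj 𝒮h pC chartC)
    (𝒮h' : RelProj.QCGrAlg Y') (ι' : 𝒮'.toQCAlg ⟶ 𝒮h'.toQCAlg) (z' : 𝒮h'.presheaf.obj (op ⊤))
    (hz' : RelCone.IsPolyOver 𝒮' 𝒮h' ι' z')
    (pC' : PC' ⟶ Y') (chartC' : ∀ (U : Y'.Opens) (hU : IsAffineOpen U), (((pC' ⁻¹ᵁ U : PC'.Opens) : Scheme.{u}) ≅ Proj (𝒮h'.deg U hU)))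
    (hC' : RelProj.IsRelProj 𝒮h' pC' chartC')
    (uh : RelProj.QGrHom q 𝒮h 𝒮h')
    (huh : ∀ U : Y.Opens, ι.hom.app (op U) ≫ uh.app U = u.app U ≫ ι'.hom.app (op (q ⁻¹ᵁ U)))
    (huhz : (uh.app ⊤).hom z = RelCone.restrictTop 𝒮h' z' (q ⁻¹ᵁ ⊤))
    (Φh : ((RelProj.domQ uh pC' chartC' : PC'.Opens) : Scheme.{u}) ⟶ PC)
    (hΦh : RelProj.IsProjQMapOn uh pC chartC pC' chartC' (RelProj.domQ uh pC' chartC') Φh)
    {P P' : Scheme.{u}} (p : P ⟶ Y) (chart : ∀ (U : Y.Opens) (hU : IsAffineOpen U), (((p ⁻¹ᵁ U : P.Opens) : Scheme.{u}) ≅ Proj (𝒮.deg U hU)))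
    (hP : RelProj.IsRelProj 𝒮 p chart)
    (p' : P' ⟶ Y') (chart' : ∀ (U : Y'.Opens) (hU : IsAffineOpen U), (((p' ⁻¹ᵁ U : P'.Opens) : Scheme.{u}) ≅ Proj (𝒮'.deg U hU)))
    (hP' : RelProj.IsRelProj 𝒮' p' chart')
    (Φ : ((RelProj.domQ u p' chart' : P'.Opens) : Scheme.{u}) ⟶ P)
    (hΦ : RelProj.IsProjQMapOn u p chart p' chart' (RelProj.domQ u p' chart') Φ)
    (θ : 𝒮h.toQCAlg ⟶ 𝒮.toQCAlg) (hθ : RelProj.IsGradedHom θ) (hθι : ι ≫ θ = 𝟙 _)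
    (hθz : (θ.hom.app (op ⊤)).hom z = 0)
    (jX : P ⟶ PC) (hjX : RelProj.IsProjQMap (RelProj.QGrHom.ofHom θ hθ) pC chartC p chart jX)
    (θ' : 𝒮h'.toQCAlg ⟶ 𝒮'.toQCAlg) (hθ' : RelProj.IsGradedHom θ') (hθι' : ι' ≫ θ' = 𝟙 _)
    (hθz' : (θ'.hom.app (op ⊤)).hom z' = 0)
    (jX' : P' ⟶ PC') (hjX' : RelProj.IsProjQMap (RelProj.QGrHom.ofHom θ' hθ') pC' chartC' p' chart' jX')
    (T : Scheme.{u}) (d : T ⟶ ((RelProj.domQ u p' chart' : P'.Opens) : Scheme.{u}))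
    (e : T ⟶ ((RelProj.domQ uh pC' chartC' : PC'.Opens) : Scheme.{u}))
    (hde : d ≫ (RelProj.domQ u p' chart').ι ≫ jX' = e ≫ (RelProj.domQ uh pC' chartC').ι) :
    jX'.base '' ((RelProj.domQ u p' chart' : P'.Opens) : Set P') ⊆ ((RelProj.domQ uh pC' chartC' : PC'.Opens) : Set PC') ∧ e ≫ Φh = d ≫ Φ ≫ jX := by
  have hstep := fun (U : Y.Opens) (hU : IsAffineOpen U) (U' : Y'.Opens) (hU' : IsAffineOpen U')
      (hle : U' ≤ q ⁻¹ᵁ U) (n : ℕ) (hn : 0 < n) (f : 𝒮.presheaf.obj (op U))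
      (hf : f ∈ 𝒮.deg U hU n) =>
    chart_step q 𝒮 𝒮' u 𝒮h ι z hz pC chartC 𝒮h' ι' z' hz' pC' chartC' uh huh huhz Φh hΦh p chart
      p' chart' Φ hΦ θ hθ hθι hθz jX hjX θ' hθ' hθι' hθz' jX' hjX' U hU U' hU' hle n hn f hf
  constructor
  · rintro _ ⟨x', hx', rfl⟩
    obtain ⟨⟨U, hU, U', hU', hle, n, hn, f, hf⟩, s, hs⟩ :=
      Groth.Agent.Lib.Helper42.ProjQ.chart_covers (u := u) (p' := p') (chart' := chart')
        (⟨x', hx'⟩ : ((RelProj.domQ u p' chart' : P'.Opens) : Scheme.{u}))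
    obtain ⟨γ, h1, -⟩ := hstep U hU U' hU' hle n hn f hf
    have h2 := congrArg (fun ψ => ψ.base s) h1
    simp only [Scheme.Hom.comp_base, TopCat.comp_app] at h2
    rw [hs] at h2
    change jX'.base x' ∈ _
    have h3 : jX'.base ((RelProj.domQ u p' chart').ι.base
        (⟨x', hx'⟩ : ((RelProj.domQ u p' chart' : P'.Opens) : Scheme.{u}))) = jX'.base x' := rfl
    rw [← h3, h2]
    exact Subtype.property _
  · refine Scheme.hom_ext_of_forall _ _ (fun τ => ?_)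
    obtain ⟨⟨U, hU, U', hU', hle, n, hn, f, hf⟩, s, hs⟩ :=
      Groth.Agent.Lib.Helper42.ProjQ.chart_covers (u := u) (p' := p') (chart' := chart') (d.base τ)
    obtain ⟨γ, h1, h2⟩ := hstep U hU U' hU' hle n hn f hf
    let k' : Groth.Agent.Lib.Helper42.ProjQ.QIdx q 𝒮 := ⟨U, hU, U', hU', hle, n, hn, f, hf⟩
    let W : T.Opens := d ⁻¹ᵁ (k'.emb u p' chart').opensRange
    have hτW : τ ∈ W := ⟨s, hs⟩
    have hWr : Set.range (W.ι ≫ d).base ⊆ Set.range (k'.emb u p' chart').base := by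
      rintro _ ⟨x, rfl⟩
      exact x.2
    let β₁ : (W : Scheme.{u}) ⟶ k'.src u :=
      IsOpenImmersion.lift (k'.emb u p' chart') (W.ι ≫ d) hWr
    have hβ₁ : β₁ ≫ k'.emb u p' chart' = W.ι ≫ d := IsOpenImmersion.lift_fac _ _ _
    refine ⟨W, hτW, ?_⟩
    have he : W.ι ≫ e = β₁ ≫ γ ≫ Groth.Agent.Lib.Helper42.ProjQ.QIdx.emb uh pC' chartC'
        ⟨U, hU, U', hU', hle, n, hn, RelProj.gradedHomAt ι hz.graded U hU f,
          GradedFunLike.map_mem (RelProj.gradedHomAt ι hz.graded U hU) hf⟩ := by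
      rw [← cancel_mono (RelProj.domQ uh pC' chartC').ι]
      simp only [Category.assoc]
      rw [← hde, ← h1, ← Category.assoc W.ι, ← hβ₁, Category.assoc]
    rw [← Category.assoc W.ι e, he, ← Category.assoc W.ι d, ← hβ₁]
    simp only [Category.assoc]
    rw [h2]

end Groth.Agent.S12158
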