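import Groth.Statements.S12160
import Groth.Agent.Lib.Helper42.ProjQDom
-- import your own Groth.Agent.* helpers here

set_option autoImplicit false
universe u
open CategoryTheory CategoryTheory.Limits AlgebraicGeometry TopologicalSpace Opposite
open scoped HomogeneousIdeal
noncomputable section
open EGA2

namespace Groth.Agent.S12160

/-- Let Y be a quasi-compact scheme, q : X → Y a quasi-compact morphism, L an invertible O_X-module with
𝒮L = ⊕ L^{⊗n} (whose Proj is X), 𝒮 = colim 𝒮^i a filtered colimit of quasi-coherent positively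
graded O_Y-algebras along graded homomorphisms φ_i : 𝒮^i → 𝒮 (colimit taken on sections over affine
opens), ψ♭ = u : 𝒮 → q_*𝒮L a graded q-morphism and ψ_i♭ = u ∘ φ_i; let r = r_{L,ψ} : G(ψ) → Proj(𝒮)
and r_i = r_{L,ψ_i} : G(ψ_i) → Proj(𝒮^i). If all the r_i are dominant then r is dominant; the
converse holds when the φ_i are injective. -/
theorem result {Y X P PL : Scheme.{u}} (q : X ⟶ Y)
    (L : X.Modules) (hL : PicF.IsInvertible L) (hLq : Coh.IsQCoh L)
    (𝒮 : RelProj.QCGrAlg Y) (𝒮L : RelProj.QCGrAlg X) (j : L ⟶ 𝒮L.toModule) (hj : RelProj.IsGrSymAlg L 𝒮L j)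
    (u : RelProj.QGrHom q 𝒮 𝒮L)
    (p : P ⟶ Y) (chart : ∀ (U : Y.Opens) (hU : IsAffineOpen U), (((p ⁻¹ᵁ U : P.Opens) : Scheme.{u}) ≅ Proj (𝒮.deg U hU)))
    (hP : RelProj.IsRelProj 𝒮 p chart)
    (pL : PL ⟶ X) (chartL : ∀ (U : X.Opens) (hU : IsAffineOpen U), (((pL ⁻¹ᵁ U : PL.Opens) : Scheme.{u}) ≅ Proj (𝒮L.deg U hU)))
    (hPL : RelProj.IsRelProj 𝒮L pL chartL)
    [CompactSpace Y] [QuasiCompact q]
    (r : ((RelProj.domQ u pL chartL : PL.Opens) : Scheme.{u}) ⟶ P)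
    (hr : RelProj.IsProjQMapOn u p chart pL chartL (RelProj.domQ u pL chartL) r)
    (Λ : Type u) [Preorder Λ] [IsDirected Λ (· ≤ ·)] [Nonempty Λ]
    (𝒮i : Λ → RelProj.QCGrAlg Y) (φ : ∀ i, (𝒮i i).toQCAlg ⟶ 𝒮.toQCAlg) (hφ : ∀ i, RelProj.IsGradedHom (φ i))
    (t : ∀ i j, i ≤ j → ((𝒮i i).toQCAlg ⟶ (𝒮i j).toQCAlg)) (ht : ∀ i j (h : i ≤ j), RelProj.IsGradedHom (t i j h))
    (hφt : ∀ i j (h : i ≤ j), t i j h ≫ φ j = φ i)
    (hsurj : ∀ (U : Y.Opens), IsAffineOpen U → ∀ x : 𝒮.presheaf.obj (op U),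
      ∃ (i : Λ) (y : (𝒮i i).presheaf.obj (op U)), ((φ i).hom.app (op U)).hom y = x)
    (hker : ∀ (U : Y.Opens), IsAffineOpen U → ∀ (i : Λ) (y : (𝒮i i).presheaf.obj (op U)),
      ((φ i).hom.app (op U)).hom y = 0 → ∃ (j : Λ) (h : i ≤ j), ((t i j h).hom.app (op U)).hom y = 0)
    (ui : ∀ i, RelProj.QGrHom q (𝒮i i) 𝒮L) (hui : ∀ i (U : Y.Opens), (ui i).app U = (φ i).hom.app (op U) ≫ u.app U)
    (Pi : Λ → Scheme.{u}) (pi : ∀ i, Pi i ⟶ Y)
    (charti : ∀ i (U : Y.Opens) (hU : IsAffineOpen U), ((((pi i) ⁻¹ᵁ U : (Pi i).Opens) : Scheme.{u}) ≅ Proj ((𝒮i i).deg U hU)))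
    (hPi : ∀ i, RelProj.IsRelProj (𝒮i i) (pi i) (charti i))
    (ri : ∀ i, ((RelProj.domQ (ui i) pL chartL : PL.Opens) : Scheme.{u}) ⟶ Pi i)
    (hri : ∀ i, RelProj.IsProjQMapOn (ui i) (pi i) (charti i) pL chartL (RelProj.domQ (ui i) pL chartL) (ri i)) :
    ((∀ i, IsDominant (ri i)) → IsDominant r) ∧
      ((∀ i (U : Y.Opens), IsAffineOpen U → Function.Injective ((φ i).hom.app (op U)).hom) →
        IsDominant r → ∀ i, IsDominant (ri i)) := by
  constructor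
  · intro hdom
    rw [Groth.Agent.Lib.Helper42.ProjQDom.isDominant_iff hP hPL hr]
    intro U hU d hd g hg hall
    obtain ⟨i, y, hy⟩ := hsurj U hU g
    let ν : (𝒮i i).deg U hU →+*ᵍ 𝒮.deg U hU := RelProj.gradedHomAt (φ i) (hφ i) U hU
    have hνy : ν y = g := hy
    let yd : (𝒮i i).presheaf.obj (op U) :=
      ((DirectSum.decompose ((𝒮i i).deg U hU) y d : (𝒮i i).deg U hU d) :
        (𝒮i i).presheaf.obj (op U))
    have hyd : yd ∈ (𝒮i i).deg U hU d := SetLike.coe_mem _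
    have hνyd : ν yd = g := by
      change ν ((DirectSum.decompose ((𝒮i i).deg U hU) y d : (𝒮i i).deg U hU d) :
        (𝒮i i).presheaf.obj (op U)) = g
      rw [GradedRingHom.map_directSumDecompose, hνy, DirectSum.decompose_of_mem_same _ hg]
    have hall' : ∀ (U' : X.Opens) (hU' : IsAffineOpen U') (hle : U' ≤ q ⁻¹ᵁ U),
        IsNilpotent ((ui i).gradedAt U hU U' hU' hle yd) := by
      intro U' hU' hle
      have h1 := Groth.Agent.Lib.Helper42.ProjQComp.gradedAt_comp u (φ i) (hφ i) (ui i) (hui i)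
        U hU U' hU' hle
      have h2 : (ui i).gradedAt U hU U' hU' hle yd = u.gradedAt U hU U' hU' hle g := by
        rw [h1]
        change u.gradedAt U hU U' hU' hle
          ((RelProj.QGrHom.ofHom (φ i) (hφ i)).gradedAt U hU U hU (le_refl U) yd) = _
        rw [Groth.Agent.Lib.Helper42.Cone.ofHom_gradedAt_apply (φ i) (hφ i) U hU (le_refl U) yd]
        exact congrArg _ hνyd
      rw [h2]
      exact hall U' hU' hle
    have hnil : IsNilpotent yd :=
      (Groth.Agent.Lib.Helper42.ProjQDom.isDominant_iff (hPi i) hPL (hri i)).mp (hdom i)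
        U hU d hd yd hyd hall'
    rw [← hνyd]
    exact hnil.map ν
  · intro hinj hdom i
    have hTN : ∃ n : ℕ, ∀ k, n ≤ k → ∀ (U : Y.Opens) (hU : IsAffineOpen U),
        ∀ x ∈ (𝒮i i).deg U hU k, ((φ i).hom.app (op U)).hom x = 0 → x = 0 :=
      ⟨0, fun k _ U hU x _ hx => (injective_iff_map_eq_zero _).mp (hinj i U hU) x hx⟩
    have hle : RelProj.domQ (ui i) pL chartL ≤ RelProj.domQ u pL chartL :=
      Groth.Agent.Lib.Helper42.ProjQComp.domQ_le (hv := hφ i) (hui i) hP (hPi i) hPL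
    obtain ⟨w, hw, -⟩ := Groth.Agent.Lib.Helper42.ProjQ.existsUnique_isProjQMapOn
      (u := RelProj.QGrHom.ofHom (φ i) (hφ i)) (hPi i) hP
    obtain ⟨c, hc, hr'c⟩ := Groth.Agent.Lib.Helper42.ProjQComp.exists_factor (hui i) hP (hPi i) hPL
      hr (hri i) hw hle
    have hwd : IsDominant w :=
      Groth.Agent.Lib.Helper42.ProjQTN.isDominant_of_tn (φ i) (hφ i) hP (hPi i) hTN hw
    have hcd : IsDominant c :=
      Groth.Agent.Lib.Helper42.ProjQTN.isDominant_factor (hui i) hP (hPi i) hPL hr hle c hc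
    rw [hr'c]
    infer_instance

end Groth.Agent.S12160
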