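import Groth.Statements.S12163
-- import your own Groth.Agent.* helpers here

set_option autoImplicit false
universe u
open CategoryTheory CategoryTheory.Limits AlgebraicGeometry TopologicalSpace Opposite
open scoped HomogeneousIdeal
noncomputable section
open EGA2

namespace Groth.Agent.S12163

/-- Let φ : 𝒜 → ℬ be a graded homomorphism of quasi-coherent positively graded O_Y-algebras and PB =
Proj(ℬ) with its charts. If every point of Y has an affine neighbourhood U over which the irrelevant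
ideal of ℬ(U) is contained in the ideal generated by φ(𝒜(U)_+), then the open of definition G(φ) of
Proj(φ) is all of PB. (The published condition asks 𝒮_+ to be generated by the image as a module
over the functions on U; generation as an ideal, used here, is implied by it.) -/
theorem result {Y PB : Scheme.{u}} (𝒜 ℬ : RelProj.QCGrAlg Y)
    (φ : 𝒜.toQCAlg ⟶ ℬ.toQCAlg) (hφ : RelProj.IsGradedHom φ)
    (pB : PB ⟶ Y) (chartB : ∀ (U : Y.Opens) (hU : IsAffineOpen U), (((pB ⁻¹ᵁ U : PB.Opens) : Scheme.{u}) ≅ Proj (ℬ.deg U hU)))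
    (hB : RelProj.IsRelProj ℬ pB chartB)
    (hcov : ∀ y : Y, ∃ (U : Y.Opens) (hU : IsAffineOpen U), y ∈ U ∧
      (ℬ.deg U hU)₊ ≤ ((𝒜.deg U hU)₊).map (RelProj.gradedHomAt φ hφ U hU)) :
    RelProj.domQ (RelProj.QGrHom.ofHom φ hφ) pB chartB = ⊤ := by
  classical
  rw [eq_top_iff]
  rintro x -
  obtain ⟨U, hU, hxU, hle⟩ := hcov (pB x)
  have hUU : U ≤ (𝟙 Y : Y ⟶ Y) ⁻¹ᵁ U := le_rfl
  let z : Proj (ℬ.deg U hU) := (chartB U hU).hom ⟨x, hxU⟩
  -- the graded homomorphism over the pair `(U, U)` is `φ(U)`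
  have hfun : ∀ f : 𝒜.presheaf.obj (op U),
      (RelProj.QGrHom.ofHom φ hφ).gradedAt U hU U hU hUU f = RelProj.gradedHomAt φ hφ U hU f := by
    intro f
    change (ℬ.presheaf.map (homOfLE hUU).op).hom ((φ.hom.app (op U)).hom f) = (φ.hom.app (op U)).hom f
    have : ℬ.presheaf.map (homOfLE hUU).op = 𝟙 _ := ℬ.presheaf.map_id _
    rw [this]
    rfl
  have hz : z ∈ RelCone.domOpen ((RelProj.QGrHom.ofHom φ hφ).gradedAt U hU U hU hUU) := by
    rw [RelCone.mem_domOpen]
    by_contra hcon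
    have hall : ∀ f ∈ ((𝒜.deg U hU)₊).toIdeal,
        RelProj.gradedHomAt φ hφ U hU f ∈ z.asHomogeneousIdeal.toIdeal := by
      intro f hf
      by_contra hf'
      exact hcon ⟨f, hf, by rw [hfun]; exact hf'⟩
    apply z.not_irrelevant_le
    refine le_trans hle ?_
    change (((𝒜.deg U hU)₊).map (RelProj.gradedHomAt φ hφ U hU)).toIdeal ≤
      z.asHomogeneousIdeal.toIdeal
    rw [HomogeneousIdeal.toIdeal_map, Ideal.map_le_iff_le_comap]
    intro f hf
    exact hall f hf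
  refine TopologicalSpace.Opens.mem_iSup.mpr ⟨⟨(⟨U, hU⟩, ⟨U, hU⟩), hUU⟩, ?_⟩
  refine ⟨z, hz, ?_⟩
  change (pB ⁻¹ᵁ U).ι ((chartB U hU).inv ((chartB U hU).hom ⟨x, hxU⟩)) = x
  have h3 : ((chartB U hU).hom ≫ (chartB U hU).inv) ⟨x, hxU⟩ = ⟨x, hxU⟩ := by
    rw [Iso.hom_inv_id]; rfl
  have h4 : (chartB U hU).inv ((chartB U hU).hom ⟨x, hxU⟩) = ⟨x, hxU⟩ := h3
  rw [h4]
  rfl

end Groth.Agent.S12163
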