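import Groth.Statements.S12164
import Groth.Agent.Lib.Helper42.SymBaseChange
import Groth.Agent.Lib.Helper42.SymAlg2
import Groth.Agent.Lib.QCoh.Helper50_PullbackSections
import Groth.Agent.Lib.QCoh.Helper50_Pullback
import Groth.Agent.S12142
-- import your own Groth.Agent.* helpers here

set_option autoImplicit false
universe u
open CategoryTheory CategoryTheory.Limits AlgebraicGeometry TopologicalSpace Opposite
open scoped HomogeneousIdeal
noncomputable section
open EGA2

namespace Groth.Agent.S12164

open Groth.Agent.Lib.Helper42 in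
set_option backward.isDefEq.respectTransparency false in
theorem isPushout_sections {S S' : Scheme.{u}} (g : S' ⟶ S)
    (E : S.Modules) [E.IsQuasicoherent] (A : RelSpec.QCAlg S) (j : E ⟶ A.toModule)
    (hA : RelSpec.IsSymAlg E A j)
    (B : RelSpec.QCAlg S') (j' : (Scheme.Modules.pullback g).obj E ⟶ B.toModule)
    [((Scheme.Modules.pullback g).obj E).IsQuasicoherent]
    (hB : RelSpec.IsSymAlg ((Scheme.Modules.pullback g).obj E) B j')
    (u : RelSpec.QHom g A B)
    (hu : ∀ (U : S.Opens) (x : Γ(E, U)),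
      (u.app U).hom ((j.app U) x) =
        (j'.app (g ⁻¹ᵁ U)) (((Scheme.Modules.pullbackPushforwardAdjunction g).unit.app E).app U x))
    (U : S.Opens) (hU : IsAffineOpen U) (U' : S'.Opens) (hU' : IsAffineOpen U')
    (hle : U' ≤ g ⁻¹ᵁ U) :
    IsPushout (g.appLE U U' hle) (A.str.app (op U)) (B.str.app (op U')) (u.appLE U U' hle) := by
  obtain ⟨κ, hκ⟩ := Groth.Agent.Lib.QCoh.exists_iso_extendScalars_pullbackSections g hU hU' hle E
  let _ : Algebra Γ(S, U) Γ(S', U') := (g.appLE U U' hle).hom.toAlgebra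
  have hw1 : ∀ r : Γ(S, U), (u.appLE U U' hle).hom ((A.str.app (op U)).hom r) =
      (B.str.app (op U')).hom (algebraMap Γ(S, U) Γ(S', U') r) := fun r =>
    congrArg (fun φ => φ.hom r) (u.str_appLE U U' hle)
  have hw2 : ∀ m : Γ(E, U), (u.appLE U U' hle).hom (SymAlg.phiU E A j U m) =
      SymAlg.phiU ((Scheme.Modules.pullback g).obj E) B j' U'
        (κ.toLinearEquiv ((1 : Γ(S', U')) ⊗ₜ[Γ(S, U)] m)) := by
    intro m
    have h1 : κ.toLinearEquiv ((1 : Γ(S', U')) ⊗ₜ[Γ(S, U)] m) =
        Groth.Agent.Lib.QCoh.pullbackSectionsMap g hle E m := hκ m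
    rw [h1]
    change (B.presheaf.map (homOfLE hle).op).hom ((u.app U).hom ((j.app U) m)) = _
    rw [hu U m]
    exact SymAlg.phiU_res ((Scheme.Modules.pullback g).obj E) B j' hle _
  exact SymLoc.isPushout_of_baseChange (κ := κ.toLinearEquiv)
    (strA := (A.str.app (op U)).hom) (phiA := SymAlg.phiU E A j U)
    (hphiA := SymAlg.phiU_smul E A j U)
    (strB := (B.str.app (op U')).hom)
    (phiB := SymAlg.phiU ((Scheme.Modules.pullback g).obj E) B j' U')
    (hphiB := SymAlg.phiU_smul ((Scheme.Modules.pullback g).obj E) B j' U')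
    (SymAlg.bijective_tauU E hA U hU)
    (SymAlg.bijective_tauU ((Scheme.Modules.pullback g).obj E) hB U' hU')
    (u.appLE U U' hle).hom hw1 hw2

/-- Let g : S' → S be a morphism, E a quasi-coherent O_S-module, A = Sym(E) and B = Sym(g^*E) the
symmetric algebras (given by their universal properties among quasi-coherent algebras, with
structure maps j : E → A and j' : g^*E → B), u : A → g_*B the g-morphism of algebras extending the
adjunction unit E → g_*g^*E followed by g_*(j'), and h = Spec(u) : V(g^*E) = Spec(B) → V(E) =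
Spec(A). Then h identifies V(g^*E) with the base change V(E) ×_S S'. -/
theorem result {S S' : Scheme.{u}} (g : S' ⟶ S)
    (E : S.Modules) (hE : Coh.IsQCoh E) (A : RelSpec.QCAlg S) (j : E ⟶ A.toModule) (hA : RelSpec.IsSymAlg E A j)
    (B : RelSpec.QCAlg S') (j' : (Scheme.Modules.pullback g).obj E ⟶ B.toModule)
    (hB : RelSpec.IsSymAlg ((Scheme.Modules.pullback g).obj E) B j')
    (u : RelSpec.QHom g A B)
    (hu : ∀ (U : S.Opens) (x : Γ(E, U)),
      (u.app U).hom ((j.app U) x) =
        (j'.app (g ⁻¹ᵁ U)) (((Scheme.Modules.pullbackPushforwardAdjunction g).unit.app E).app U x))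
    (h : B.spec ⟶ A.spec) (hh : RelSpec.IsSpecQMap u h) :
    IsPullback h B.π A.π g := by
  have : E.IsQuasicoherent := hE
  have : ((Scheme.Modules.pullback g).obj E).IsQuasicoherent :=
    Groth.Agent.Lib.QCoh.isQuasicoherent_pullback g E
  refine Groth.Agent.S12142.result g A B u ?_ h hh
  intro U hU U' hU' hle
  exact isPushout_sections g E A j hA B j' hB u hu U hU U' hU' hle

end Groth.Agent.S12164
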