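import Groth.Statements.S12166
import Groth.Agent.Lib.Helper42.ProjQLocal
import Groth.Agent.Lib.Helper42.ProjDomIso
-- import your own Groth.Agent.* helpers here

set_option autoImplicit false
universe u
open CategoryTheory CategoryTheory.Limits AlgebraicGeometry TopologicalSpace Opposite
open scoped HomogeneousIdeal
noncomputable section
open EGA2

namespace Groth.Agent.S12166

/-- Let φ : 𝒜 → ℬ be a graded homomorphism of quasi-coherent positively graded O_Y-algebras which is a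
(TN)-isomorphism (φ : 𝒜_k → ℬ_k bijective for all large k, on sections over affine opens), PA =
Proj(𝒜), PB = Proj(ℬ) with their charts. Then Proj(φ) is defined on all of PB and is an isomorphism
PB → PA. -/
theorem result {Y PA PB : Scheme.{u}} (𝒜 ℬ : RelProj.QCGrAlg Y)
    (φ : 𝒜.toQCAlg ⟶ ℬ.toQCAlg) (hφ : RelProj.IsGradedHom φ)
    (hTN : ∃ n : ℕ, ∀ k, n ≤ k → ∀ (U : Y.Opens) (hU : IsAffineOpen U),
      (∀ x ∈ 𝒜.deg U hU k, (φ.hom.app (op U)).hom x = 0 → x = 0) ∧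
        ∀ y ∈ ℬ.deg U hU k, ∃ x ∈ 𝒜.deg U hU k, (φ.hom.app (op U)).hom x = y)
    (pA : PA ⟶ Y) (chartA : ∀ (U : Y.Opens) (hU : IsAffineOpen U), (((pA ⁻¹ᵁ U : PA.Opens) : Scheme.{u}) ≅ Proj (𝒜.deg U hU)))
    (hA : RelProj.IsRelProj 𝒜 pA chartA)
    (pB : PB ⟶ Y) (chartB : ∀ (U : Y.Opens) (hU : IsAffineOpen U), (((pB ⁻¹ᵁ U : PB.Opens) : Scheme.{u}) ≅ Proj (ℬ.deg U hU)))
    (hB : RelProj.IsRelProj ℬ pB chartB) :
    RelProj.domQ (RelProj.QGrHom.ofHom φ hφ) pB chartB = ⊤ ∧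
      ∀ h : PB ⟶ PA, RelProj.IsProjQMap (RelProj.QGrHom.ofHom φ hφ) pA chartA pB chartB h → IsIso h := by
  have hg : ∀ U : Y.Opens, IsAffineOpen U → IsAffineOpen ((𝟙 Y : Y ⟶ Y) ⁻¹ᵁ U) := fun U hU => hU
  have hfun : ∀ (U : Y.Opens) (hU : IsAffineOpen U) (x : 𝒜.presheaf.obj (op U)),
      (RelProj.QGrHom.ofHom φ hφ).gradedAt U hU ((𝟙 Y : Y ⟶ Y) ⁻¹ᵁ U) (hg U hU) le_rfl x =
        (φ.hom.app (op U)).hom x := by
    intro U hU x
    change (ℬ.presheaf.map (homOfLE (le_refl U)).op).hom ((φ.hom.app (op U)).hom x) =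
      (φ.hom.app (op U)).hom x
    have h1 : (homOfLE (le_refl U)).op = 𝟙 (op U) := Subsingleton.elim _ _
    rw [h1]
    exact congrArg (fun ψ => ψ.hom ((φ.hom.app (op U)).hom x)) (ℬ.presheaf.map_id (op U))
  obtain ⟨n₀, hn₀⟩ := hTN
  have hbij : ∀ (U : Y.Opens) (hU : IsAffineOpen U) (n : ℕ), n₀ ≤ n →
      Set.BijOn ((RelProj.QGrHom.ofHom φ hφ).gradedAt U hU ((𝟙 Y : Y ⟶ Y) ⁻¹ᵁ U) (hg U hU) le_rfl)
        (𝒜.deg U hU n) (ℬ.deg ((𝟙 Y : Y ⟶ Y) ⁻¹ᵁ U) (hg U hU) n) := by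
    intro U hU n hn
    obtain ⟨hinj, hsurj⟩ := hn₀ n hn U hU
    refine ⟨fun x hx => GradedFunLike.map_mem _ hx, ?_, ?_⟩
    · intro x hx y hy hxy
      rw [hfun, hfun] at hxy
      have h1 : x - y ∈ 𝒜.deg U hU n := sub_mem hx hy
      have h2 : (φ.hom.app (op U)).hom (x - y) = 0 := by rw [map_sub, hxy, sub_self]
      exact sub_eq_zero.mp (hinj _ h1 h2)
    · intro y hy
      obtain ⟨x, hx, hxy⟩ := hsurj y hy
      exact ⟨x, hx, (hfun U hU x).trans hxy⟩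
  have hdom : ∀ (U : Y.Opens) (hU : IsAffineOpen U),
      RelCone.domOpen ((RelProj.QGrHom.ofHom φ hφ).gradedAt U hU ((𝟙 Y : Y ⟶ Y) ⁻¹ᵁ U)
        (hg U hU) le_rfl) = ⊤ := by
    intro U hU
    rw [eq_top_iff]
    intro y _
    obtain ⟨d, f, hf, hd, hy⟩ := Groth.Agent.Lib.Helper42.ProjDom.exists_mem_basicOpen_map
      ((RelProj.QGrHom.ofHom φ hφ).gradedAt U hU ((𝟙 Y : Y ⟶ Y) ⁻¹ᵁ U) (hg U hU) le_rfl) n₀
      (fun n hn => (hbij U hU n hn).surjOn) y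
    exact (RelCone.mem_domOpen _ _).mpr ⟨f, HomogeneousIdeal.mem_irrelevant_of_mem _ hd hf,
      (ProjectiveSpectrum.mem_basicOpen _ _ _).mp hy⟩
  refine ⟨Groth.Agent.Lib.Helper42.ProjQ.domQ_eq_top_of_forall hg hdom, ?_⟩
  intro h hh
  have key := Groth.Agent.Lib.Helper42.ProjQ.of_charts_top
    (Q := MorphismProperty.isomorphisms Scheme.{u}) hA hB hh hg
    (fun U hU d hd f hf => by
      rw [MorphismProperty.isomorphisms.iff, isIso_SpecMap_iff]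
      exact Groth.Agent.Lib.Helper42.ProjDom.awayMap_bijective_of_large _ n₀ (hbij U hU) hd f hf)
  exact (MorphismProperty.isomorphisms.iff h).mp key

end Groth.Agent.S12166
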