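import Groth.Statements.S1217
import Mathlib
import Groth.Agent.Lib.Helper95.PurePullback

set_option autoImplicit false
universe u
open FlatMor

namespace Groth.Agent.S1217

attribute [local instance] Algebra.TensorProduct.rightAlgebra

/-- Ring form, X = Spec B affine: let B be a finite type A-algebra, N a finite B-module, p a prime of A,
and A' an A-algebra with a prime p' over p such that the local ring of A' at p' is flat over A. Let
B', N' be the base changes of B, N to A'. If N' is pure along the fibre over p' then N is pure along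
the fibre over p, and likewise for universal purity. -/
theorem result {A B : Type u} [CommRing A] [CommRing B] [Algebra A B] [Algebra.FiniteType A B]
    (N : Type u) [AddCommGroup N] [Module B N] [Module.Finite B N] (p : Ideal A) [p.IsPrime]
    (A' B' N' : Type u) [CommRing A'] [CommRing B'] [Algebra A A'] [Algebra B B'] [Algebra A' B'] [Algebra A B']
    [IsScalarTower A B B'] [IsScalarTower A A' B'] [Algebra.IsPushout A B A' B']
    [AddCommGroup N'] [Module B' N'] [Module B N'] [IsScalarTower B B' N'] (f : N →ₗ[B] N') (hf : IsBaseChange B' f)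
    (p' : Ideal A') [p'.IsPrime] [p'.LiesOver p] [Module.Flat A (Localization.AtPrime p')] :
    (FlatCA.IsPureAlong A' B' N' p' → FlatCA.IsPureAlong A B N p) ∧
    (FlatCA.IsUnivPureAlong A' B' N' p' → FlatCA.IsUnivPureAlong A B N p) := by
  open Groth.Agent.Lib.Helper95.PurePullback TensorProduct in
  have hpo : Algebra.IsPushout A B A' B' := inferInstance
  have hp'p : p'.LiesOver p := inferInstance
  refine ⟨?_, ?_⟩
  · intro H A₁ B₁ N₁ _ _ _ _ _ _ _ _ _ _ _ _ _ _ f₁ t' t _ _ P _ het himp
    obtain ⟨hetale, htp, hbij⟩ := het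
    let e : p.ResidueField ≃ₐ[A] t.ResidueField := AlgEquiv.ofBijective _ hbij
    let g₁ : A₁ →ₐ[A] p'.ResidueField :=
      (Ideal.ResidueField.mapₐ p p' (Algebra.ofId A A') hp'p.over).comp
        (e.symm.toAlgHom.comp (IsScalarTower.toAlgHom A A₁ t.ResidueField))
    have hg₁ : RingHom.ker g₁ = t := by
      ext x
      rw [RingHom.mem_ker]
      change (Ideal.ResidueField.mapₐ p p' (Algebra.ofId A A') hp'p.over)
        (e.symm (algebraMap A₁ t.ResidueField x)) = 0 ↔ _
      have hinj : Function.Injective
          (Ideal.ResidueField.mapₐ p p' (Algebra.ofId A A') hp'p.over) :=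
        (Ideal.ResidueField.mapₐ p p' (Algebra.ofId A A') hp'p.over).toRingHom.injective
      rw [map_eq_zero_iff _ hinj, map_eq_zero_iff _ e.symm.injective,
        Ideal.algebraMap_residueField_eq_zero]
    obtain ⟨s', s, hs'p, hsp, P₂, hP₂, himp₂, hsp', hs⟩ :=
      exists_impurity_of_point N p A' B' N' hpo f hf p' A₁ B₁ N₁ f₁ t' t P himp g₁ hg₁
        (AlgHom.id A p'.ResidueField)
    refine H _ _ _ _ s' s P₂ ⟨inferInstance, hsp', ?_⟩ himp₂
    have hG : ∀ r : A', (pointMap A' A₁ p' g₁ (AlgHom.id A p'.ResidueField)).toRingHom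
        (algebraMap A' (A' ⊗[A] A₁) r) = algebraMap A' p'.ResidueField r := by
      intro r
      rw [Algebra.TensorProduct.algebraMap_apply]
      simp [pointMap]
    exact residueField_map_bijective_of_ker p' s hsp'.over _ hG hs
  · intro H A₁ B₁ N₁ _ _ _ _ _ _ _ _ _ _ _ _ _ _ f₁ t' t _ _ P _ himp
    haveI htp : t.LiesOver p := himp.2.2.2.1
    obtain ⟨K, _, _, g₁, g', hg₁⟩ := exists_compositum A' A₁ p p' t
    obtain ⟨s', s, hs'p, hsp, P₂, hP₂, himp₂, hsp', hs⟩ :=
      exists_impurity_of_point N p A' B' N' hpo f hf p' A₁ B₁ N₁ f₁ t' t P himp g₁ hg₁ g'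
    exact H _ _ _ _ s' s P₂ himp₂

end Groth.Agent.S1217
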