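import Groth.Statements.S12205
import Groth.Agent.Lib.Helper46.TorOne
import Groth.Agent.Lib.Helper2.LocalCriterion

set_option autoImplicit false
universe u
open CategoryTheory
open scoped TensorProduct
open CAlg

namespace Groth.Agent.S12205

theorem aux (R : Type u) [CommRing R] (I : Ideal R) (M : Type u)
    [AddCommGroup M] [Module R M] [Module.Flat (R ⧸ I) ((R ⧸ I) ⊗[R] M)]
    {Z P : Type u} [AddCommGroup Z] [Module R Z] [AddCommGroup P] [Module R P] [Module.Flat R P]
    (ι : Z →ₗ[R] P) (π : P →ₗ[R] M) (hι : Function.Injective ι) (hex : Function.Exact ι π)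
    (hπ : Function.Surjective π)
    (h : Limits.IsZero (((CategoryTheory.Tor (ModuleCat.{u} R) 1).obj (ModuleCat.of R (R ⧸ I))).obj (ModuleCat.of R M)))
    (N : Type u) [AddCommGroup N] [Module R N] (m : ℕ) (hN : ∀ a : R, a ∈ I ^ m → ∀ x : N, a • x = 0) :
    Limits.IsZero (((CategoryTheory.Tor (ModuleCat.{u} R) 1).obj (ModuleCat.of R N)).obj (ModuleCat.of R M)) := by
  have h1 := (Groth.Agent.Lib.Helper46.TorOne.isZero_tor_one_iff_injective_lTensor
    (N := R ⧸ I) ι π hι hex hπ).mp h
  rw [LinearMap.lTensor_inj_iff_rTensor_inj] at h1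
  have h2 := Groth.Agent.Lib.Helper2.tau_of_torsion hex hπ I h1 inferInstance
  have h3 := Groth.Agent.Lib.Helper2.rTensor_injective_of_pow_torsion.{u} ι I
    (fun T _ _ hT => h2 T hT) m N hN
  rw [← LinearMap.lTensor_inj_iff_rTensor_inj] at h3
  exact (Groth.Agent.Lib.Helper46.TorOne.isZero_tor_one_iff_injective_lTensor
    (N := N) ι π hι hex hπ).mpr h3

/-- Let I be an ideal of a commutative ring R and M an R-module such that M/IM is flat over R/I and
Tor_1^R(R/I, M) = 0. Then Tor_1^R(N, M) = 0 for every R-module N annihilated by I^m for some m ≥ 0.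
Here Tor_1^R(N, M) is the first left derived functor of N ⊗_R − evaluated at M. -/
theorem result (R : Type u) [CommRing R] (I : Ideal R) (M : Type u)
    [AddCommGroup M] [Module R M] [Module.Flat (R ⧸ I) ((R ⧸ I) ⊗[R] M)]
    (h : Limits.IsZero (((CategoryTheory.Tor (ModuleCat.{u} R) 1).obj (ModuleCat.of R (R ⧸ I))).obj (ModuleCat.of R M)))
    (N : Type u) [AddCommGroup N] [Module R N] (m : ℕ) (hN : ∀ a : R, a ∈ I ^ m → ∀ x : N, a • x = 0) :
    Limits.IsZero (((CategoryTheory.Tor (ModuleCat.{u} R) 1).obj (ModuleCat.of R N)).obj (ModuleCat.of R M)) := by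
  exact aux R I M (Z := LinearMap.ker (Finsupp.linearCombination R (id : M → M)))
    (P := M →₀ R) (LinearMap.ker (Finsupp.linearCombination R (id : M → M))).subtype
    (Finsupp.linearCombination R (id : M → M)) Subtype.val_injective
    (LinearMap.exact_subtype_ker_map _) (Finsupp.linearCombination_id_surjective R M) h N m hN

end Groth.Agent.S12205
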