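import Groth.Statements.S6367
-- import your own Groth.Agent.* helpers here

set_option autoImplicit false
universe u
open CAlg

namespace Groth.Agent.S6367

/-- Let 0 → M₁ → M₂ → M₃ → 0 be a short exact sequence of R-modules (f injective, g surjective, image of
f = kernel of g). If M₁ and M₃ are coherent — finitely generated with every finitely generated
submodule finitely presented — then so is M₂. -/
theorem result (R : Type u) [CommRing R] {M₁ M₂ M₃ : Type u}
    [AddCommGroup M₁] [Module R M₁] [AddCommGroup M₂] [Module R M₂] [AddCommGroup M₃] [Module R M₃]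
    (f : M₁ →ₗ[R] M₂) (g : M₂ →ₗ[R] M₃) (hf : Function.Injective f) (hg : Function.Surjective g)
    (hfg : LinearMap.range f = LinearMap.ker g)
    (h₁ : (Module.Finite R M₁ ∧ ∀ N : Submodule R M₁, N.FG → Module.FinitePresentation R N))
    (h₃ : (Module.Finite R M₃ ∧ ∀ N : Submodule R M₃, N.FG → Module.FinitePresentation R N)) :
    (Module.Finite R M₂ ∧ ∀ N : Submodule R M₂, N.FG → Module.FinitePresentation R N) := by
  obtain ⟨hfin1, hc1⟩ := h₁
  obtain ⟨hfin3, hc3⟩ := h₃
  constructor
  · rw [Module.finite_def]
    apply Submodule.fg_of_fg_map_of_fg_inf_ker g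
    · rw [Submodule.map_top, LinearMap.range_eq_top.mpr hg]; exact Module.Finite.fg_top
    · rw [top_inf_eq, ← hfg, LinearMap.range_eq_map]; exact Module.Finite.fg_top.map f
  · intro N hN
    let l : N →ₗ[R] N.map g := g.submoduleMap N
    have hl : Function.Surjective l := g.submoduleMap_surjective N
    have : Module.FinitePresentation R (N.map g) := hc3 _ (hN.map g)
    have : Module.Finite R N := Module.Finite.of_fg hN
    have hk : (LinearMap.ker l).FG := Module.FinitePresentation.fg_ker l hl
    have : Module.Finite R (LinearMap.ker l) := Module.Finite.of_fg hk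
    let K : Submodule R M₁ := N.comap f
    let e0 : K →ₗ[R] N := LinearMap.codRestrict N (f.domRestrict K) (fun x => x.2)
    have he0 : ∀ x : K, l (e0 x) = 0 := by
      intro x
      apply Subtype.ext
      change g (f x) = 0
      have : f x ∈ LinearMap.ker g := by rw [← hfg]; exact ⟨_, rfl⟩
      exact this
    let e : K →ₗ[R] LinearMap.ker l := LinearMap.codRestrict _ e0 he0
    have hebij : Function.Bijective e := by
      constructor
      · intro x y hxy
        apply Subtype.ext
        apply hf
        exact congrArg (fun z : LinearMap.ker l => ((z : N) : M₂)) hxy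
      · rintro ⟨⟨y, hyN⟩, hy⟩
        have hy' : g y = 0 := congrArg Subtype.val hy
        have : y ∈ LinearMap.range f := by rw [hfg]; exact hy'
        obtain ⟨x, rfl⟩ := this
        exact ⟨⟨x, hyN⟩, rfl⟩
    let E : K ≃ₗ[R] LinearMap.ker l := LinearEquiv.ofBijective e hebij
    have : Module.Finite R K := Module.Finite.equiv E.symm
    have hKfg : K.FG := Module.Finite.iff_fg.mp this
    have : Module.FinitePresentation R K := hc1 K hKfg
    have : Module.FinitePresentation R (LinearMap.ker l) := Module.FinitePresentation.of_equiv E
    exact Module.finitePresentation_of_ker l hl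

end Groth.Agent.S6367
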