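import Groth.Statements.S6366
import Groth.Agent.S6367

set_option autoImplicit false
universe u
open CAlg

namespace Groth.Agent.S6366

/-- Local name for coherence of a module. -/
def Coh (R : Type u) [CommRing R] (M : Type u) [AddCommGroup M] [Module R M] : Prop :=
  Module.Finite R M ∧ ∀ N : Submodule R M, N.FG → Module.FinitePresentation R N

theorem coh_of_surjective {R : Type u} [CommRing R] {M M' : Type u} [AddCommGroup M] [Module R M]
    [AddCommGroup M'] [Module R M'] (l : M →ₗ[R] M') (hl : Function.Surjective l)
    (hk : (LinearMap.ker l).FG) (h : Coh R M) : Coh R M' := by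
  obtain ⟨hfin, hc⟩ := h
  refine ⟨Module.Finite.of_surjective l hl, fun N' hN' => ?_⟩
  let N : Submodule R M := N'.comap l
  have hker : LinearMap.ker l ≤ N := by
    intro x hx
    change l x ∈ N'
    rw [LinearMap.mem_ker.mp hx]; exact N'.zero_mem
  have hN : N.FG := by
    apply Submodule.fg_of_fg_map_of_fg_inf_ker l
    · rw [Submodule.map_comap_eq_of_surjective hl]; exact hN'
    · rw [inf_eq_right.mpr hker]; exact hk
  have : Module.FinitePresentation R N := hc N hN
  let l' : N →ₗ[R] N' := l.restrict (fun x hx => hx)
  have hl' : Function.Surjective l' := by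
    rintro ⟨y, hy⟩
    obtain ⟨x, rfl⟩ := hl y
    exact ⟨⟨x, hy⟩, rfl⟩
  refine Module.finitePresentation_of_surjective l' hl' ?_
  apply Submodule.fg_of_fg_map_injective N.subtype N.injective_subtype
  have : (LinearMap.ker l').map N.subtype = LinearMap.ker l := by
    ext x
    constructor
    · rintro ⟨⟨y, hy⟩, hy', rfl⟩
      exact congrArg Subtype.val (LinearMap.mem_ker.mp hy')
    · intro hx
      refine ⟨⟨x, hker hx⟩, ?_, rfl⟩
      change l' ⟨x, hker hx⟩ = 0
      apply Subtype.ext
      exact hx
  rw [this]; exact hk

theorem coh_of_equiv {R : Type u} [CommRing R] {M M' : Type u} [AddCommGroup M] [Module R M]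
    [AddCommGroup M'] [Module R M'] (e : M ≃ₗ[R] M') (h : Coh R M) : Coh R M' :=
  coh_of_surjective e.toLinearMap e.surjective
    (by rw [LinearMap.ker_eq_bot.mpr e.injective]; exact Submodule.fg_bot) h

theorem coh_prod {R : Type u} [CommRing R] {M M' : Type u} [AddCommGroup M] [Module R M]
    [AddCommGroup M'] [Module R M'] (h : Coh R M) (h' : Coh R M') : Coh R (M × M') := by
  refine Groth.Agent.S6367.result R (LinearMap.inl R M M') (LinearMap.snd R M M')
    LinearMap.inl_injective LinearMap.snd_surjective ?_ h h'
  ext x
  simp [LinearMap.mem_range, LinearMap.mem_ker, Prod.ext_iff, eq_comm]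

theorem coh_pi {R : Type u} [CommRing R] (hR : Coh R R) (n : ℕ) : Coh R (Fin n → R) := by
  induction n with
  | zero => exact ⟨inferInstance, fun N _ => inferInstance⟩
  | succ n ih => exact coh_of_equiv (Fin.consLinearEquiv R (fun _ : Fin (n + 1) => R)) (coh_prod hR ih)

/-- Let R be a coherent ring, i.e. every finitely generated ideal of R is finitely presented. Then an
R-module is coherent (finitely generated, and every finitely generated submodule is finitely
presented) if and only if it is finitely presented. -/
theorem result (R : Type u) [CommRing R]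
    (hR : ∀ I : Ideal R, I.FG → Module.FinitePresentation R I) (M : Type u) [AddCommGroup M] [Module R M] :
    (Module.Finite R M ∧ ∀ N : Submodule R M, N.FG → Module.FinitePresentation R N) ↔ Module.FinitePresentation R M := by
  constructor
  · rintro ⟨hfin, hc⟩
    have : Module.FinitePresentation R (⊤ : Submodule R M) := hc ⊤ Module.Finite.fg_top
    exact Module.FinitePresentation.of_equiv (Submodule.topEquiv (R := R) (M := M))
  · intro hfp
    obtain ⟨n, K, e, hK⟩ := Module.FinitePresentation.exists_fin R M
    have hRcoh : Coh R R := ⟨inferInstance, fun I hI => hR I hI⟩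
    have h1 : Coh R ((Fin n → R) ⧸ K) :=
      coh_of_surjective K.mkQ K.mkQ_surjective (by rw [Submodule.ker_mkQ]; exact hK) (coh_pi hRcoh n)
    exact coh_of_equiv e.symm h1

end Groth.Agent.S6366
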