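import Groth.Statements.S12206
import Groth.Agent.S6366

set_option autoImplicit false
universe u
open CAlg

namespace Groth.Agent.S12206

open Groth.Agent.S6366 in
/-- A finitely generated submodule of a coherent module is coherent. -/
theorem coh_of_fg_submodule {R : Type u} [CommRing R] {M : Type u} [AddCommGroup M] [Module R M]
    (h : Groth.Agent.S6366.Coh R M) (P : Submodule R M) (hP : P.FG) : Groth.Agent.S6366.Coh R P := by
  refine ⟨Module.Finite.of_fg hP, fun Q hQ => ?_⟩
  have hQ' : (Q.map P.subtype).FG := hQ.map _
  have : Module.FinitePresentation R (Q.map P.subtype) := h.2 _ hQ'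
  exact Module.FinitePresentation.of_equiv
    (Submodule.equivMapOfInjective P.subtype P.injective_subtype Q).symm

/-- The kernel of a map from a finite module to a coherent module is finitely generated. -/
theorem ker_fg {R : Type u} [CommRing R] {N M : Type u} [AddCommGroup N] [Module R N]
    [AddCommGroup M] [Module R M] [Module.Finite R N] (h : Groth.Agent.S6366.Coh R M)
    (φ : N →ₗ[R] M) : (LinearMap.ker φ).FG := by
  have hr : (LinearMap.range φ).FG := by
    rw [LinearMap.range_eq_map]; exact Module.Finite.fg_top.map φ
  have : Module.FinitePresentation R (LinearMap.range φ) := h.2 _ hr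
  have := Module.FinitePresentation.fg_ker φ.rangeRestrict φ.surjective_rangeRestrict
  rwa [LinearMap.ker_rangeRestrict] at this

theorem coker_coh {R : Type u} [CommRing R] {N M : Type u} [AddCommGroup N] [Module R N]
    [AddCommGroup M] [Module R M] [Module.Finite R N] (h : Groth.Agent.S6366.Coh R M)
    (φ : N →ₗ[R] M) : Groth.Agent.S6366.Coh R (M ⧸ LinearMap.range φ) := by
  have hr : (LinearMap.range φ).FG := by
    rw [LinearMap.range_eq_map]; exact Module.Finite.fg_top.map φ
  exact Groth.Agent.S6366.coh_of_surjective (LinearMap.range φ).mkQ (Submodule.mkQ_surjective _)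
    (by rw [Submodule.ker_mkQ]; exact hr) h

/-- Let φ : N → M be a linear map from a finite R-module N to a coherent R-module M, where coherent
means finitely generated with every finitely generated submodule finitely presented. Then the kernel
of φ is finitely generated, and the image of φ and the cokernel M/φ(N) are coherent. -/
theorem result (R : Type u) [CommRing R] {N M : Type u}
    [AddCommGroup N] [Module R N] [AddCommGroup M] [Module R M] [Module.Finite R N]
    (hM : Module.Finite R M ∧ ∀ P : Submodule R M, P.FG → Module.FinitePresentation R P)
    (φ : N →ₗ[R] M) :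
    (LinearMap.ker φ).FG ∧
    (Module.Finite R (LinearMap.range φ) ∧
      ∀ P : Submodule R (LinearMap.range φ), P.FG → Module.FinitePresentation R P) ∧
    (Module.Finite R (M ⧸ LinearMap.range φ) ∧
      ∀ P : Submodule R (M ⧸ LinearMap.range φ), P.FG → Module.FinitePresentation R P) := by
  have hr : (LinearMap.range φ).FG := by
    rw [LinearMap.range_eq_map]; exact Module.Finite.fg_top.map φ
  exact ⟨ker_fg hM φ, coh_of_fg_submodule hM _ hr, coker_coh hM φ⟩

end Groth.Agent.S12206
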