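import Groth.Statements.S12209
import Mathlib.RingTheory.Flat.EquationalCriterion
import Mathlib.Data.Fintype.Order

set_option autoImplicit false
universe u
open CAlg

namespace Groth.Agent.S12209

/-- Let (R_i) be a system of commutative rings over a nonempty directed preorder, with colimit R, and
let M be an R-module which is flat as an R_i-module for every i (the R_i-module structure being
restriction of scalars along R_i → R). Then M is flat as an R-module. -/
theorem result {ι : Type u} [Preorder ι] [Nonempty ι] [IsDirectedOrder ι]
    (G : ι → Type u) [∀ i, CommRing (G i)] (f : ∀ i j, i ≤ j → G i →+* G j)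
    [DirectedSystem G fun i j h => f i j h]
    (M : Type u) [AddCommGroup M] [Module (Ring.DirectLimit G fun i j h => f i j h) M]
    (hflat : ∀ i, letI : Module (G i) M := Module.compHom M (Ring.DirectLimit.of G (fun i j h => f i j h) i);
      Module.Flat (G i) M) :
    Module.Flat (Ring.DirectLimit G fun i j h => f i j h) M := by
  classical
  apply Module.Flat.of_forall_isTrivialRelation
  intro l c x hcx
  -- lift the coefficients to a common stage
  have hex : ∀ k : Fin l, ∃ i, ∃ b : G i, Ring.DirectLimit.of G (fun i j h => f i j h) i b = c k :=
    fun k => Ring.DirectLimit.exists_of (c k)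
  choose idx b hb using hex
  obtain ⟨j, hj⟩ := Finite.exists_le idx
  let b' : Fin l → G j := fun k => f (idx k) j (hj k) (b k)
  have hb' : ∀ k, Ring.DirectLimit.of G (fun i j h => f i j h) j (b' k) = c k := by
    intro k
    rw [← hb k]
    exact Ring.DirectLimit.of_f (hj k) (b k)
  letI : Module (G j) M := Module.compHom M (Ring.DirectLimit.of G (fun i j h => f i j h) j)
  have hflatj : Module.Flat (G j) M := hflat j
  have hrel : ∑ k, b' k • x k = 0 := by
    rw [← hcx]
    refine Finset.sum_congr rfl fun k _ => ?_
    change Ring.DirectLimit.of G (fun i j h => f i j h) j (b' k) • x k = c k • x k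
    rw [hb' k]
  obtain ⟨κ, a, y, hxy, hay⟩ := Module.Flat.isTrivialRelation_of_sum_smul_eq_zero hrel
  refine ⟨κ, fun i k => Ring.DirectLimit.of G (fun i j h => f i j h) j (a i k), y, ?_, ?_⟩
  · intro i
    rw [hxy i]
    rfl
  · intro k
    have := congrArg (Ring.DirectLimit.of G (fun i j h => f i j h) j) (hay k)
    rw [map_sum, map_zero] at this
    rw [← this]
    refine Finset.sum_congr rfl fun i _ => ?_
    rw [map_mul, hb' i]

end Groth.Agent.S12209
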