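import Groth.Statements.S12217
import Mathlib
import Groth.Agent.Lib.Helper33.GorSocle
import Groth.Agent.Lib.Helper33.GorTransfer
import Groth.Agent.Lib.Helper33.GorFlat
import Groth.Agent.Lib.Helper83.FlatLocalDim

set_option autoImplicit false
universe u
open Curves

namespace Groth.Agent.S12217

open IsLocalRing PowerSeries Groth.Agent.Lib.Helper33 Groth.Agent.Lib.Helper33.FlatSocle

section Abstract

variable {k : Type u} [Field k] {R : Type u} [CommRing R] [IsLocalRing R] [IsNoetherianRing R]
  {n : ℕ} (φ : R →+* (Fin n → PowerSeries k)) (hinj : Function.Injective φ)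
  (hrange : Set.range φ = {f : Fin n → PowerSeries k | ∀ i j : Fin n,
    PowerSeries.constantCoeff (f i) = PowerSeries.constantCoeff (f j)})

include hrange in
theorem exists_lift (f : Fin n → PowerSeries k)
    (hf : ∀ i j : Fin n, PowerSeries.constantCoeff (f i) = PowerSeries.constantCoeff (f j)) :
    ∃ r : R, φ r = f := by
  have : f ∈ Set.range φ := by rw [hrange]; exact hf
  exact this

include hrange in
theorem constantCoeff_eq (r : R) (i j : Fin n) :
    PowerSeries.constantCoeff (φ r i) = PowerSeries.constantCoeff (φ r j) := by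
  have : φ r ∈ Set.range φ := ⟨r, rfl⟩
  rw [hrange] at this
  exact this i j

include hinj hrange in
theorem mem_maximalIdeal_iff (i0 : Fin n) (r : R) :
    r ∈ maximalIdeal R ↔ PowerSeries.constantCoeff (φ r i0) = 0 := by
  rw [mem_maximalIdeal, mem_nonunits_iff]
  constructor
  · intro hr
    by_contra hc
    apply hr
    obtain ⟨s, hs⟩ := exists_lift φ hrange (fun i => (φ r i)⁻¹) (by
      intro i j
      rw [PowerSeries.constantCoeff_inv, PowerSeries.constantCoeff_inv,
        constantCoeff_eq φ hrange r i j])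
    refine IsUnit.of_mul_eq_one s (hinj ?_)
    rw [map_mul, map_one, hs]
    ext1 i
    rw [Pi.mul_apply, Pi.one_apply]
    apply PowerSeries.mul_inv_cancel
    rw [constantCoeff_eq φ hrange r i i0]
    exact hc
  · intro hc hu
    have h1 : IsUnit (φ r i0) := (hu.map φ).map (Pi.evalRingHom _ i0)
    have h2 := h1.map (PowerSeries.constantCoeff (R := k))
    rw [hc] at h2
    exact not_isUnit_zero h2

include hinj hrange in
/-- a multicross ring with at least three branches is not Gorenstein -/
theorem not_gorenstein (hn : 3 ≤ n) : ¬ LocCoh.IsGorensteinLocalRing R := by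
  intro hG
  obtain ⟨i0, hi0⟩ : ∃ i : Fin n, i = ⟨0, by omega⟩ := ⟨_, rfl⟩
  obtain ⟨i1, hi1⟩ : ∃ i : Fin n, i = ⟨1, by omega⟩ := ⟨_, rfl⟩
  obtain ⟨i2, hi2⟩ : ∃ i : Fin n, i = ⟨2, by omega⟩ := ⟨_, rfl⟩
  have h01 : i0 ≠ i1 := by rw [hi0, hi1]; simp
  have h02 : i0 ≠ i2 := by rw [hi0, hi2]; simp
  have h12 : i1 ≠ i2 := by rw [hi1, hi2]; simp
  have hmem := mem_maximalIdeal_iff φ hinj hrange i0
  -- the parameter
  obtain ⟨x, hx⟩ := exists_lift φ hrange (fun _ => (PowerSeries.X : PowerSeries k))
    (fun i j => rfl)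
  have hxm : x ∈ maximalIdeal R := by
    rw [hmem, hx]; exact PowerSeries.constantCoeff_X
  have hxreg : IsSMulRegular R x := by
    intro a b hab
    apply hinj
    ext1 i
    have h1 := congrFun (congrArg φ hab) i
    simp only [smul_eq_mul, map_mul, Pi.mul_apply, hx] at h1
    exact mul_left_cancel₀ PowerSeries.X_ne_zero h1
  -- `m² ⊆ (x)`
  have hsq : ∀ a ∈ maximalIdeal R, ∀ b ∈ maximalIdeal R, a * b ∈ Ideal.span {x} := by
    intro a ha b hb
    have ha' : ∀ i, (PowerSeries.X : PowerSeries k) ∣ φ a i := fun i => by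
      rw [PowerSeries.X_dvd_iff, constantCoeff_eq φ hrange a i i0]; exact (hmem a).1 ha
    choose a' ha' using ha'
    obtain ⟨c, hc⟩ := exists_lift φ hrange (fun i => a' i * φ b i) (by
      intro i j
      have hbi : PowerSeries.constantCoeff (φ b i) = 0 := by
        rw [constantCoeff_eq φ hrange b i i0]; exact (hmem b).1 hb
      have hbj : PowerSeries.constantCoeff (φ b j) = 0 := by
        rw [constantCoeff_eq φ hrange b j i0]; exact (hmem b).1 hb
      rw [map_mul, map_mul, hbi, hbj, mul_zero, mul_zero])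
    rw [Ideal.mem_span_singleton']
    refine ⟨c, hinj ?_⟩
    ext1 i
    rw [map_mul, map_mul, Pi.mul_apply, Pi.mul_apply, hc, hx, ha' i]
    ring
  -- the quotient
  haveI : IsLocalRing (R ⧸ Ideal.span {x}) :=
    GorFlat.isLocalRing_quot ((Ideal.span_singleton_le_iff_mem _).2 hxm)
  have hGq : LocCoh.IsGorensteinLocalRing (R ⧸ Ideal.span {x}) :=
    (GorFlat.rees R x hxm hxreg).1 hG
  have hmq : ∀ z : R ⧸ Ideal.span {x}, z ∈ maximalIdeal (R ⧸ Ideal.span {x}) →
      ∃ r ∈ maximalIdeal R, Ideal.Quotient.mk _ r = z := by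
    intro z hz
    obtain ⟨r, rfl⟩ := Ideal.Quotient.mk_surjective z
    refine ⟨r, ?_, rfl⟩
    rw [mem_maximalIdeal, mem_nonunits_iff] at hz ⊢
    exact fun hu => hz (hu.map _)
  have hdim : ringKrullDim (R ⧸ Ideal.span {x}) = 0 := by
    rw [← GorFlat.exists_pow_eq_bot_iff]
    refine ⟨2, ?_⟩
    rw [eq_bot_iff, pow_two, Ideal.mul_le]
    intro a ha b hb
    obtain ⟨a', ha', rfl⟩ := hmq a ha
    obtain ⟨b', hb', rfl⟩ := hmq b hb
    rw [Ideal.mem_bot, ← map_mul, Ideal.Quotient.eq_zero_iff_mem]
    exact hsq a' ha' b' hb'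
  have hss := GorSocle.socSimple_of_gorenstein (R ⧸ Ideal.span {x}) hdim
  -- the two socle elements
  obtain ⟨e1, he1⟩ := exists_lift φ hrange (Pi.single i0 (PowerSeries.X : PowerSeries k)) (by
    intro i j
    have : ∀ l, PowerSeries.constantCoeff ((Pi.single i0 (PowerSeries.X : PowerSeries k) :
        Fin n → PowerSeries k) l) = 0 := by
      intro l
      by_cases hl : l = i0
      · subst hl; rw [Pi.single_eq_same]; exact PowerSeries.constantCoeff_X
      · rw [Pi.single_eq_of_ne hl, map_zero]
    rw [this i, this j])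
  obtain ⟨e2, he2⟩ := exists_lift φ hrange (Pi.single i1 (PowerSeries.X : PowerSeries k)) (by
    intro i j
    have : ∀ l, PowerSeries.constantCoeff ((Pi.single i1 (PowerSeries.X : PowerSeries k) :
        Fin n → PowerSeries k) l) = 0 := by
      intro l
      by_cases hl : l = i1
      · subst hl; rw [Pi.single_eq_same]; exact PowerSeries.constantCoeff_X
      · rw [Pi.single_eq_of_ne hl, map_zero]
    rw [this i, this j])
  have he1m : e1 ∈ maximalIdeal R := by
    rw [hmem, he1, Pi.single_eq_same]; exact PowerSeries.constantCoeff_X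
  have he2m : e2 ∈ maximalIdeal R := by
    rw [hmem, he2, Pi.single_eq_of_ne h01, map_zero]
  have hsoc : ∀ e ∈ maximalIdeal R, IsSoc (R ⧸ Ideal.span {x}) (Ideal.Quotient.mk _ e) := by
    intro e he z hz
    obtain ⟨r, hr, rfl⟩ := hmq z hz
    rw [← map_mul, Ideal.Quotient.eq_zero_iff_mem]
    exact hsq r hr e he
  -- a key computation: `e = x d` is impossible when `φ e` is `X` at one index and `0` at another
  have hkey : ∀ (e : R) (ia ib : Fin n), φ e ia = PowerSeries.X → φ e ib = 0 →
      e ∉ Ideal.span {x} := by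
    intro e ia ib ha hb hmem'
    rw [Ideal.mem_span_singleton'] at hmem'
    obtain ⟨d, hd⟩ := hmem'
    have h1 := congrFun (congrArg φ hd) ia
    have h2 := congrFun (congrArg φ hd) ib
    rw [map_mul, Pi.mul_apply, hx, ha] at h1
    rw [map_mul, Pi.mul_apply, hx, hb] at h2
    have h1' : φ d ia = 1 := by
      have : φ d ia * PowerSeries.X = 1 * PowerSeries.X := by rw [h1, one_mul]
      exact mul_right_cancel₀ PowerSeries.X_ne_zero this
    have h2' : φ d ib = 0 := by
      rcases mul_eq_zero.1 h2 with h | h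
      · exact h
      · exact absurd h PowerSeries.X_ne_zero
    have h3 := constantCoeff_eq φ hrange d ia ib
    rw [h1', h2', map_one, map_zero] at h3
    exact one_ne_zero h3
  have he1ne : (Ideal.Quotient.mk (Ideal.span {x}) e1) ≠ 0 := by
    rw [Ne, Ideal.Quotient.eq_zero_iff_mem]
    exact hkey e1 i0 i1 (by rw [he1, Pi.single_eq_same])
      (by rw [he1, Pi.single_eq_of_ne h01.symm])
  obtain ⟨cb, hcb⟩ := hss.gen _ (hsoc e1 he1m) he1ne _ (hsoc e2 he2m)
  obtain ⟨c, rfl⟩ := Ideal.Quotient.mk_surjective cb
  rw [← map_mul, ← sub_eq_zero, ← map_sub, Ideal.Quotient.eq_zero_iff_mem] at hcb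
  refine hkey (e2 - c * e1) i1 i2 ?_ ?_ hcb
  · rw [map_sub, map_mul, Pi.sub_apply, Pi.mul_apply, he1, he2, Pi.single_eq_same,
      Pi.single_eq_of_ne h01.symm, mul_zero, sub_zero]
  · rw [map_sub, map_mul, Pi.sub_apply, Pi.mul_apply, he1, he2, Pi.single_eq_of_ne h12.symm,
      Pi.single_eq_of_ne h02.symm, mul_zero, sub_zero]

end Abstract

/-- In this form A is the local ring of the curve at the point, and a Gorenstein scheme has Gorenstein
local rings. Let k be an algebraically closed field and A a Gorenstein local ring whose completion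
with respect to its maximal ideal is isomorphic to the multicross ring with n ≥ 2 branches, the
subring of (k[[t]])^n consisting of the n-tuples of power series having a common constant term. Then
n = 2: a Gorenstein multicross singularity is a node. The isomorphism is given as an injective ring
map from the completion to (k[[t]])^n with that subring as its range. -/
theorem result (k : Type u) [Field k] [IsAlgClosed k]
    (A : Type u) [CommRing A] [LocCoh.IsGorensteinLocalRing A] (n : ℕ) (hn : 2 ≤ n)
    (φ : AdicCompletion (IsLocalRing.maximalIdeal A) A →+* (Fin n → PowerSeries k))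
    (hinj : Function.Injective φ)
    (hrange : Set.range φ = {f : Fin n → PowerSeries k | ∀ i j : Fin n, PowerSeries.constantCoeff (f i) = PowerSeries.constantCoeff (f j)}) :
    n = 2 := by
  by_contra hne
  have hn3 : 3 ≤ n := by omega
  haveI : IsNoetherianRing (AdicCompletion (maximalIdeal A) A) :=
    Groth.Agent.Lib.Helper83.isNoetherianRing_adicCompletion (maximalIdeal A)
  have hG : LocCoh.IsGorensteinLocalRing (AdicCompletion (maximalIdeal A) A) :=
    (GorTransfer.gorenstein_iff_of_map_maximalIdeal_eq A (AdicCompletion (maximalIdeal A) A)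
      (AdicCompletion.maximalIdeal_eq_map (R := A)).symm).2 inferInstance
  exact not_gorenstein φ hinj hrange hn3 hG

end Groth.Agent.S12217
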