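import Groth.Statements.S12223
import Groth.Agent.Lib.Helper47.BigZar4
-- import your own Groth.Agent.* helpers here

set_option autoImplicit false
open CategoryTheory CategoryTheory.Limits AlgebraicGeometry Opposite
universe u
open BigSite

namespace Groth.Agent.S12223

/-- For a scheme X and an abelian sheaf F on the big Zariski site of X, the cohomology groups of the
restriction of F to the small Zariski site X_Zar agree with the cohomology groups of F on the big
site, in every degree p. Existence of an additive isomorphism only (the canonical comparison map is
not named here). The continuity of the inclusion of the small Zariski site into the big site is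
carried as an instance hypothesis; it always holds. -/
theorem result (X : Scheme.{u}) [BigSite.ZarCont Scheme.zariskiPrecoverage X]
    (F : BigSite.Ab Scheme.zariskiPrecoverage X) (p : ℕ) :
    Nonempty (EtZar.H ((BigSite.resZar Scheme.zariskiPrecoverage X).obj F) p ≃+
      BigSite.H Scheme.zariskiPrecoverage X F p) := by
  have := Groth.Agent.Lib.Helper47.BigZar.preservesFiniteLimits_piZarPull
    Scheme.zariskiPrecoverage X
  have : PreservesLimitsOfSize.{0, 0} (BigSite.resZar Scheme.zariskiPrecoverage X) :=
    (BigSite.piZarAdj Scheme.zariskiPrecoverage X).rightAdjoint_preservesLimits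
  have : PreservesColimitsOfSize.{0, 0} (BigSite.resZar Scheme.zariskiPrecoverage X) :=
    Groth.Agent.Lib.Helper47.BigZar.preservesColimits_resZar X
  have : PreservesFiniteLimits (BigSite.resZar Scheme.zariskiPrecoverage X) :=
    PreservesLimitsOfSize.preservesFiniteLimits _
  have : PreservesFiniteColimits (BigSite.resZar Scheme.zariskiPrecoverage X) :=
    PreservesColimitsOfSize.preservesFiniteColimits _
  let e1 := Groth.Agent.Lib.Helper68.ExtAdj.extAddEquiv.{u + 1, u + 1}
    (BigSite.piZarAdj Scheme.zariskiPrecoverage X)
    ((constantSheaf (Opens.grothendieckTopology X) AddCommGrpCat.{u + 1}).obj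
      (AddCommGrpCat.of (ULift ℤ))) F p
  let e2 := Groth.Agent.Lib.Helper19.PushCocont.extIsoLeft.{u + 1}
    ((Groth.Agent.Lib.Helper47.BigZar.piZarPullConstIso Scheme.zariskiPrecoverage X).app
      (AddCommGrpCat.of (ULift ℤ))) F p
  exact ⟨e1.symm.trans e2⟩

end Groth.Agent.S12223
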