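import Groth.Statements.S12228
import Mathlib.Algebra.Homology.DerivedCategory.Fractions
import Mathlib.Algebra.Homology.HomotopyCategory.Plus

set_option autoImplicit false
universe w v u
open CategoryTheory CategoryTheory.Limits
open CohDer

namespace Groth.Agent.S12228

/-- Full faithfulness of Kᵇ(A)[Qis⁻¹] → Dᵇ(A), written in terms of roofs. Let A be an abelian category
and K, L bounded complexes (zero outside a finite range of degrees), viewed in the homotopy
category. Then every morphism Qh(K) → Qh(L) in the derived category is Qh(f) ≫ Qh(t)⁻¹ for some map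
f : K → L' and quasi-isomorphism t : L → L' of K(A) with L' again bounded; and two maps f₁, f₂ : K →
L of K(A) become equal in D(A) only if f₁ ≫ t = f₂ ≫ t for some quasi-isomorphism t : L → L' with L'
bounded. -/
theorem result {A : Type u} [Category.{v} A] [Abelian A] [HasDerivedCategory.{w} A]
    (K L : HomotopyCategory A (ComplexShape.up ℤ)) (a b a' b' : ℤ) [CochainComplex.IsStrictlyGE K.as a] [CochainComplex.IsStrictlyLE K.as b]
    [CochainComplex.IsStrictlyGE L.as a'] [CochainComplex.IsStrictlyLE L.as b'] :
    (∀ φ : DerivedCategory.Qh.obj K ⟶ DerivedCategory.Qh.obj L,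
      ∃ (L' : HomotopyCategory A (ComplexShape.up ℤ)) (m n : ℤ) (_ : CochainComplex.IsStrictlyGE L'.as m) (_ : CochainComplex.IsStrictlyLE L'.as n) (f : K ⟶ L') (t : L ⟶ L'),
        HomotopyCategory.quasiIso A (ComplexShape.up ℤ) t ∧ φ ≫ DerivedCategory.Qh.map t = DerivedCategory.Qh.map f) ∧
    (∀ f₁ f₂ : K ⟶ L, DerivedCategory.Qh.map f₁ = DerivedCategory.Qh.map f₂ →
      ∃ (L' : HomotopyCategory A (ComplexShape.up ℤ)) (m n : ℤ) (_ : CochainComplex.IsStrictlyGE L'.as m) (_ : CochainComplex.IsStrictlyLE L'.as n) (t : L ⟶ L'),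
        HomotopyCategory.quasiIso A (ComplexShape.up ℤ) t ∧ f₁ ≫ t = f₂ ≫ t) := by
  obtain ⟨K₀, rfl⟩ := HomotopyCategory.quotient_obj_surjective K
  obtain ⟨L₀, rfl⟩ := HomotopyCategory.quotient_obj_surjective L
  have hKa : CochainComplex.IsStrictlyGE K₀ a := ‹_›
  have hKb : CochainComplex.IsStrictlyLE K₀ b := ‹_›
  have hLa : CochainComplex.IsStrictlyGE L₀ a' := ‹_›
  have hLb : CochainComplex.IsStrictlyLE L₀ b' := ‹_›
  have hKb₀ : CochainComplex.IsStrictlyLE K₀ (max b b') :=
    CochainComplex.isStrictlyLE_of_le K₀ b (max b b') (le_max_left _ _)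
  have hLb₀ : CochainComplex.IsStrictlyLE L₀ (max b b') :=
    CochainComplex.isStrictlyLE_of_le L₀ b' (max b b') (le_max_right _ _)
  constructor
  · intro φ
    obtain ⟨Y', hY'a, hY'b, g, s, hs, hfac⟩ :=
      DerivedCategory.left_fac_of_isStrictlyLE_of_isStrictlyGE (X := K₀) (Y := L₀) a' (max b b') φ
    refine ⟨(HomotopyCategory.quotient A _).obj Y', a', max b b', hY'a, hY'b,
      (HomotopyCategory.quotient A _).map g, (HomotopyCategory.quotient A _).map s, ?_, ?_⟩
    · rw [HomotopyCategory.quotient_map_mem_quasiIso_iff, HomologicalComplex.mem_quasiIso_iff]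
      rw [DerivedCategory.isIso_Q_map_iff_quasiIso] at hs
      exact hs
    · subst hfac
      exact (Category.assoc _ _ _).trans
        ((congrArg (fun t => DerivedCategory.Q.map g ≫ t)
          (IsIso.inv_hom_id (DerivedCategory.Q.map s))).trans (Category.comp_id _))
  · intro f₁ f₂ h
    obtain ⟨φ₁, rfl⟩ := (HomotopyCategory.quotient A _).map_surjective f₁
    obtain ⟨φ₂, rfl⟩ := (HomotopyCategory.quotient A _).map_surjective f₂
    -- the difference and its mapping cone
    set δ : K₀ ⟶ L₀ := φ₁ - φ₂ with hδ
    have hQδ : DerivedCategory.Q.map δ = 0 := by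
      have h' : DerivedCategory.Q.map φ₁ = DerivedCategory.Q.map φ₂ := h
      rw [hδ, Functor.map_sub, h', sub_self]
    have hCb : (CochainComplex.mappingCone δ).IsStrictlyLE (max b b') := by
      rw [CochainComplex.isStrictlyLE_iff]
      intro i hi
      rw [CochainComplex.mappingCone.isZero_X_iff]
      exact ⟨CochainComplex.isZero_of_isStrictlyLE K₀ b (i + 1) (by
          have := le_max_left b b'; omega),
        CochainComplex.isZero_of_isStrictlyLE L₀ b' i (by have := le_max_right b b'; omega)⟩
    have hT := DerivedCategory.mappingCone_triangle_distinguished δ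
    have hex : ∃ r : DerivedCategory.Q.obj (CochainComplex.mappingCone δ) ⟶ DerivedCategory.Q.obj L₀,
        𝟙 (DerivedCategory.Q.obj L₀) =
          DerivedCategory.Q.map (CochainComplex.mappingCone.inr δ) ≫ r :=
      Pretriangulated.Triangle.yoneda_exact₂ _ hT (𝟙 (DerivedCategory.Q.obj L₀))
        (by
          change DerivedCategory.Q.map δ ≫ 𝟙 _ = 0
          rw [hQδ, zero_comp])
    obtain ⟨r, hr⟩ := hex
    obtain ⟨Y', hY'a, hY'b, g, u, hu, hfac⟩ :=
      DerivedCategory.left_fac_of_isStrictlyLE_of_isStrictlyGE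
        (X := CochainComplex.mappingCone δ) (Y := L₀) a' (max b b') r
    refine ⟨(HomotopyCategory.quotient A _).obj Y', a', max b b', hY'a, hY'b,
      (HomotopyCategory.quotient A _).map (CochainComplex.mappingCone.inr δ ≫ g), ?_, ?_⟩
    · rw [HomotopyCategory.quotient_map_mem_quasiIso_iff, HomologicalComplex.mem_quasiIso_iff,
        ← DerivedCategory.isIso_Q_map_iff_quasiIso]
      have e : DerivedCategory.Q.map (CochainComplex.mappingCone.inr δ ≫ g) =
          DerivedCategory.Q.map u := by
        rw [Functor.map_comp]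
        have h1 : DerivedCategory.Q.map g = r ≫ DerivedCategory.Q.map u := by
          rw [hfac, Category.assoc, IsIso.inv_hom_id, Category.comp_id]
        rw [h1, ← Category.assoc, ← hr, Category.id_comp]
      rw [e]
      exact hu
    · have hz : (HomotopyCategory.quotient A (ComplexShape.up ℤ)).map δ ≫
          (HomotopyCategory.quotient A (ComplexShape.up ℤ)).map (CochainComplex.mappingCone.inr δ) = 0 :=
        Pretriangulated.comp_distTriang_mor_zero₁₂ _
          (HomotopyCategory.mappingCone_triangleh_distinguished δ)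
      rw [← sub_eq_zero, ← Preadditive.sub_comp, ← Functor.map_sub, ← hδ, Functor.map_comp,
        ← Category.assoc, hz, zero_comp]

end Groth.Agent.S12228
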