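import Groth.Statements.S1224
import Mathlib
-- import your own Groth.Agent.* helpers here

set_option autoImplicit false
universe u
open FlatMor

namespace Groth.Agent.S1224

open TensorProduct

lemma ann_le {A' B' : Type u} [CommRing A'] [CommRing B'] [Algebra A' B'] (N' : Type u)
    [AddCommGroup N'] [Module B' N'] [Module A' N'] [IsScalarTower A' B' N']
    (t' : Ideal A') [t'.IsPrime] (P : Ideal B') [P.IsPrime] [P.LiesOver t']
    (hass : FlatCA.fiberIdeal t' P ∈ associatedPrimes (t'.Fiber B') (FlatCA.fiberMod t' B' N')) :
    Module.annihilator B' N' ≤ P := by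
  intro a ha
  let _ : Algebra B' (t'.Fiber B') := Algebra.TensorProduct.rightAlgebra
  have h1 : algebraMap B' (t'.Fiber B') a ∈
      (⊤ : Submodule (t'.Fiber B') (FlatCA.fiberMod t' B' N')).annihilator := by
    have key : ∀ z : (t'.Fiber B') ⊗[B'] N', algebraMap B' (t'.Fiber B') a • z = 0 := by
      intro z
      induction z using TensorProduct.induction_on with
      | zero => exact smul_zero _
      | tmul c n =>
        rw [TensorProduct.smul_tmul', smul_eq_mul, ← Algebra.smul_def,
          TensorProduct.smul_tmul, Module.mem_annihilator.1 ha n, TensorProduct.tmul_zero]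
      | add x y hx hy => rw [smul_add, hx, hy, add_zero]
    rw [Submodule.mem_annihilator]
    intro z _
    exact key z
  have h2 : algebraMap B' (t'.Fiber B') a ∈ FlatCA.fiberIdeal t' P :=
    IsAssociatedPrime.annihilator_le hass h1
  let x : t'.primesOver B' := ⟨P, ⟨inferInstance, inferInstance⟩⟩
  let Q := PrimeSpectrum.primesOverOrderIsoFiber A' B' t' x
  have hQ : Q.1.comap (Algebra.TensorProduct.includeRight (R := A') (A := t'.ResidueField)
      (B := B')) = P := by
    have h : (((PrimeSpectrum.primesOverOrderIsoFiber A' B' t').symm Q : t'.primesOver B') :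
        Ideal B') = Q.1.comap (Algebra.TensorProduct.includeRight (R := A')
          (A := t'.ResidueField) (B := B')) := rfl
    rw [OrderIso.symm_apply_apply] at h
    exact h.symm
  have h3 : FlatCA.fiberIdeal t' P ≤ Q.1 := by
    unfold FlatCA.fiberIdeal
    rw [Ideal.map_le_iff_le_comap]
    intro b hb
    have hb' : b ∈ Q.1.comap (Algebra.TensorProduct.includeRight (R := A')
        (A := t'.ResidueField) (B := B')) := by rw [hQ]; exact hb
    exact hb'
  have h4 : a ∈ Q.1.comap (Algebra.TensorProduct.includeRight (R := A')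
      (A := t'.ResidueField) (B := B')) := h3 h2
  rw [hQ] at h4
  exact h4


/-- Ring form, X = Spec B affine, where proper support means finite support: let B be a finite type
A-algebra and N a finite B-module such that B modulo the annihilator of N is finite over A. Then N
is universally pure relative to Spec A. -/
theorem result {A B : Type u} [CommRing A] [CommRing B] [Algebra A B] [Algebra.FiniteType A B]
    (N : Type u) [AddCommGroup N] [Module B N] [Module A N] [IsScalarTower A B N] [Module.Finite B N]
    [Module.Finite A (B ⧸ Module.annihilator B N)] : FlatCA.IsUnivPure A B N := by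
  intro p _ A' B' N' _ _ _ _ _ _ _ _ _ _ _ _ _ _ f t' t _ _ P _ himp
  obtain ⟨hpush, hbc, htt, hto, hPo, hass, hno⟩ := himp
  haveI := hPo
  have hAnnN' : ∀ a ∈ Module.annihilator B N,
      algebraMap B B' a ∈ Module.annihilator B' N' := by
    intro a ha
    rw [Module.mem_annihilator]
    intro z
    refine hbc.inductionOn z (fun z => algebraMap B B' a • z = 0) ?_ ?_ ?_ ?_
    · exact smul_zero _
    · intro n
      rw [algebraMap_smul, ← map_smul, Module.mem_annihilator.1 ha n, map_zero]
    · intro s n hn
      rw [smul_comm, hn, smul_zero]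
    · intro n₁ n₂ h1 h2
      rw [smul_add, h1, h2, add_zero]
  have hP : Module.annihilator B' N' ≤ P := ann_le N' t' P hass
  have hAnn : Module.annihilator B N ≤ P.comap (IsScalarTower.toAlgHom A B B') :=
    fun a ha => Ideal.mem_comap.2 (hP (hAnnN' a ha))
  let φ : (B ⧸ Module.annihilator B N) →ₐ[A] (B' ⧸ P) :=
    Ideal.quotientMapₐ P (IsScalarTower.toAlgHom A B B') hAnn
  haveI : Algebra.IsIntegral A (B ⧸ Module.annihilator B N) := Algebra.IsIntegral.of_finite A _
  have hint : ∀ y : B', IsIntegral A' (Ideal.Quotient.mk P y) := by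
    intro y
    refine hpush.symm.out.inductionOn y (fun y => IsIntegral A' (Ideal.Quotient.mk P y))
      ?_ ?_ ?_ ?_
    · rw [map_zero]; exact isIntegral_zero
    · intro b
      have hb : IsIntegral A (Ideal.Quotient.mk (Module.annihilator B N) b) :=
        Algebra.IsIntegral.isIntegral _
      have e : φ (Ideal.Quotient.mk (Module.annihilator B N) b) =
          Ideal.Quotient.mk P (algebraMap B B' b) := rfl
      have h1 := (hb.map φ).tower_top (A := A')
      rw [e] at h1
      exact h1
    · intro s n hn
      rw [Algebra.smul_def, map_mul, Ideal.Quotient.mk_algebraMap]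
      exact IsIntegral.mul isIntegral_algebraMap hn
    · intro n₁ n₂ h1 h2
      rw [map_add]; exact h1.add h2
  haveI : Algebra.IsIntegral A' (B' ⧸ P) := ⟨fun x => by
    obtain ⟨y, rfl⟩ := Ideal.Quotient.mk_surjective x
    exact hint y⟩
  have hker : RingHom.ker (algebraMap A' (B' ⧸ P)) ≤ t := by
    intro x hx
    rw [RingHom.mem_ker, ← Ideal.Quotient.mk_algebraMap, Ideal.Quotient.eq_zero_iff_mem] at hx
    have hx' : x ∈ t' := by rw [hPo.over]; exact hx
    exact htt hx'
  obtain ⟨Q, hQp, hQc⟩ :=
    Ideal.exists_ideal_over_prime_of_isIntegral_of_isDomain (S := B' ⧸ P) t hker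
  refine @hno (Q.comap (Ideal.Quotient.mk P)) (hQp.comap _) ?_ ?_
  · intro b hb
    rw [Ideal.mem_comap, Ideal.Quotient.eq_zero_iff_mem.2 hb]
    exact Q.zero_mem
  · refine ⟨?_⟩
    rw [← hQc]
    ext x
    exact Iff.rfl

end Groth.Agent.S1224
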