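import Groth.Statements.S12244
import Mathlib
import Groth.Agent.Lib.Helper95.DevAt

set_option autoImplicit false
set_option linter.style.haveILetI false
universe u
open FlatMor

namespace Groth.Agent.S12244

open TensorProduct in
/-- All schemes are affine. Let R → S be of finite type, N a finite S-module, p ⊆ R and q ⊆ S primes, 𝒟
a complete dévissage of N/S/R over p in the prelude's algebraic form and 𝒜 a datum making it a
complete dévissage at q (primes qB_i ⊆ B_i over p with purely transcendental residue fields, unique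
primes qA_i ⊆ A_i over them, threaded through q and through the maps B_i → A_{i+1}, relative
dimensions d_i of R → B_i equal to the local dimension of the fibre support of M_i at qB_i). Let R →
R' be a ring map and p' a prime over p with κ(p) → κ(p') bijective, S' the base change of S, N' = N
⊗_S S', and q' a prime of S' over q and over p'. Let 𝒟' be a complete dévissage of N'/S'/R' over p'
of the same length whose rings A'_i, B'_i (i below the length) are base changes of A_i, B_i along R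
→ R' compatibly with B_i → A_i, B_i → A_{i+1}, S → A_0 and S' → A'_0, and whose modules M'_i are
base changes of M_i along A_i → A'_i compatibly with N ≅ M_0 and N' ≅ M'_0. Assume moreover that at
every index at or beyond the length the ring B'_i has a prime over p' and A'_i a prime over that one
(the structure's families run over all natural numbers and constrain nothing at those indices, while
a datum at a point asks for such primes at every index; the condition touches only this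
unconstrained tail and holds, for instance, when the tail repeats the last genuine step — without it
the zero ring could sit there and no datum would exist). Then 𝒟' is a complete dévissage at q' with
the same relative dimensions: there is a datum 𝒜' for (𝒟', q') with d' = d whose primes qB'_i, qA'_i
lie over qB_i, qA_i for every step i below the length. -/
theorem result
    (R S : Type u) [CommRing R] [CommRing S] [Algebra R S] [Algebra.FiniteType R S]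
    (N : Type u) [AddCommGroup N] [Module S N] [Module.Finite S N]
    (p : Ideal R) [p.IsPrime] (q : Ideal S) [q.IsPrime] (𝒟 : FlatCA.CompleteDevissage R S N p)
    (𝒜 : FlatCA.CompleteDevissageAt R S N p q 𝒟)
    (R' : Type u) [CommRing R'] [Algebra R R'] (p' : Ideal R') [p'.IsPrime] [hp' : p'.LiesOver p]
    (hκ : Function.Bijective (Ideal.ResidueField.mapₐ p p' (Algebra.ofId R R') hp'.over))
    (S' : Type u) [CommRing S'] [Algebra R' S'] [Algebra R S'] [Algebra S S'] [IsScalarTower R R' S']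
    [IsScalarTower R S S'] [Algebra.IsPushout R R' S S']
    (N' : Type u) [AddCommGroup N'] [Module S' N'] [Module S N'] [IsScalarTower S S' N']
    (f : N →ₗ[S] N') (hf : IsBaseChange S' f)
    (q' : Ideal S') [q'.IsPrime] [q'.LiesOver q] [q'.LiesOver p']
    (𝒟' : FlatCA.CompleteDevissage R' S' N' p') (hn : 𝒟'.n = 𝒟.n)
    (htail : ∀ i, 𝒟.n ≤ i → ∃ (Q : Ideal (𝒟'.B i)) (P : Ideal (𝒟'.A i)),
      Q.IsPrime ∧ P.IsPrime ∧ Q.LiesOver p' ∧ P.LiesOver Q)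
    [aA : ∀ i : Fin 𝒟.n, Algebra (𝒟.A i) (𝒟'.A i)] [rA : ∀ i : Fin 𝒟.n, Algebra R (𝒟'.A i)]
      [∀ i : Fin 𝒟.n, IsScalarTower R (R') (𝒟'.A i)] [∀ i : Fin 𝒟.n, IsScalarTower R (𝒟.A i) (𝒟'.A i)]
      [aB : ∀ i : Fin 𝒟.n, Algebra (𝒟.B i) (𝒟'.B i)] [rB : ∀ i : Fin 𝒟.n, Algebra R (𝒟'.B i)]
      [∀ i : Fin 𝒟.n, IsScalarTower R (R') (𝒟'.B i)] [∀ i : Fin 𝒟.n, IsScalarTower R (𝒟.B i) (𝒟'.B i)]
      [bA : ∀ i : Fin 𝒟.n, Algebra (𝒟.B i) (𝒟'.A i)] [∀ i : Fin 𝒟.n, IsScalarTower (𝒟.B i) (𝒟.A i) (𝒟'.A i)]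
      [∀ i : Fin 𝒟.n, IsScalarTower (𝒟.B i) (𝒟'.B i) (𝒟'.A i)]
      [bA' : ∀ i : Fin 𝒟.n, Algebra (𝒟.B i) (𝒟'.A (i + 1))]
      [∀ i : Fin 𝒟.n, IsScalarTower (𝒟.B i) (𝒟'.B i) (𝒟'.A (i + 1))]
      [sA : Algebra S (𝒟'.A 0)] [IsScalarTower S (S') (𝒟'.A 0)]
      [mA : ∀ i : Fin 𝒟.n, Module (𝒟.A i) (𝒟'.M i)] [∀ i : Fin 𝒟.n, IsScalarTower (𝒟.A i) (𝒟'.A i) (𝒟'.M i)]
      (gM : ∀ i : Fin 𝒟.n, 𝒟.M i →ₗ[𝒟.A i] 𝒟'.M i)
    (hbc : (letI := aA ⟨0, 𝒟.pos⟩; IsScalarTower S (𝒟.A 0) (𝒟'.A 0)) ∧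
      (∀ x : N, 𝒟'.isoN (f x) = gM ⟨0, 𝒟.pos⟩ (𝒟.isoN x)) ∧
      (∀ (i : Fin 𝒟.n) (h : (i : ℕ) + 1 < 𝒟.n),
        letI := aA ⟨i + 1, h⟩; IsScalarTower (𝒟.B i) (𝒟.A (i + 1)) (𝒟'.A (i + 1))) ∧
      ∀ i : Fin 𝒟.n,
        Algebra.IsPushout R R' (𝒟.A i) (𝒟'.A i) ∧ Algebra.IsPushout R R' (𝒟.B i) (𝒟'.B i) ∧
        IsBaseChange (𝒟'.A i) (gM i)) :
    ∃ 𝒜' : FlatCA.CompleteDevissageAt R' S' N' p' q' 𝒟', 𝒜'.d = 𝒜.d ∧
      ∀ i : Fin 𝒟.n, (𝒜'.qB i).LiesOver (𝒜.qB i) ∧ (𝒜'.qA i).LiesOver (𝒜.qA i) := by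
  classical
  haveI hqAI : ∀ i, (𝒜.qA i).IsPrime := 𝒜.hqA
  haveI hqBI : ∀ i, (𝒜.qB i).IsPrime := 𝒜.hqB
  haveI hoBI : ∀ i, (𝒜.qB i).LiesOver p := 𝒜.overB
  haveI hoAI : ∀ i, (𝒜.qA i).LiesOver (𝒜.qB i) := 𝒜.overA
  have hκ' : Function.Bijective (Groth.Agent.Lib.Helper95.PurePullback.kappaMap p p') := hκ
  obtain ⟨hS0, hiso, hstep, hpo⟩ := hbc
  have hqAp : ∀ j : Fin 𝒟.n, (𝒜.qA j).LiesOver p := fun j => ⟨by
    rw [← Ideal.under_under (B := 𝒟.B j) (𝒜.qA j), ← (𝒜.overA j).over, ← (𝒜.overB j).over]⟩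
  have hex : ∀ j : Fin 𝒟.n, ∃ P : Ideal (𝒟'.A j),
      P.IsPrime ∧ P.LiesOver (𝒜.qA j) ∧ P.LiesOver p' := by
    intro j
    haveI := (hpo j).1
    haveI := hqAp j
    exact Groth.Agent.Lib.Helper95.DevAt.exists_prime_baseChange (𝒟.A j) p p' (𝒟'.A j) hκ'
      (𝒜.qA j)
  choose PA hPA1 hPA2 hPA3 using hex
  have hall : ∀ i : ℕ, ∃ (Q : Ideal (𝒟'.B i)) (P : Ideal (𝒟'.A i)), Q.IsPrime ∧ P.IsPrime ∧
      Q.LiesOver p' ∧ P.LiesOver Q ∧ ∀ h : i < 𝒟.n, P = PA ⟨i, h⟩ := by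
    intro i
    by_cases h : i < 𝒟.n
    · let P0 : Ideal (𝒟'.A i) := PA ⟨i, h⟩
      haveI hP0 : P0.IsPrime := hPA1 ⟨i, h⟩
      haveI hP0' : P0.LiesOver p' := hPA3 ⟨i, h⟩
      refine ⟨P0.under (𝒟'.B i), P0, inferInstance, hP0, ?_, ⟨rfl⟩, fun _ => rfl⟩
      exact ⟨by rw [Ideal.under_under (B := 𝒟'.B i) P0]; exact hP0'.over⟩
    · obtain ⟨Q, P, h1, h2, h3, h4⟩ := htail i (not_lt.mp h)
      exact ⟨Q, P, h1, h2, h3, h4, fun h' => absurd h' h⟩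
  choose qB' qA' h1 h2 h3 h4 h5 using hall
  have hA : ∀ j : Fin 𝒟.n, qA' j = PA j := fun j => h5 j j.2
  have hAover : ∀ j : Fin 𝒟.n, (qA' j).LiesOver (𝒜.qA j) := fun j => by
    rw [hA j]; exact hPA2 j
  have hAp' : ∀ i, (qA' i).LiesOver p' := fun i => ⟨by
    rw [← Ideal.under_under (B := 𝒟'.B i) (qA' i), ← (h4 i).over, ← (h3 i).over]⟩
  have hBover : ∀ j : Fin 𝒟.n, (qB' j).LiesOver (𝒜.qB j) := fun j => ⟨by
    rw [(h4 j).over, Ideal.under_under (B := 𝒟'.B j) (qA' j),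
      ← Ideal.under_under (B := 𝒟.A j) (qA' j), ← (hAover j).over, ← (𝒜.overA j).over]⟩
  refine ⟨{ qB := qB', qA := qA', hqB := h1, hqA := h2, overB := h3, overA := h4,
            pureTrans := ?_, uniq := ?_, q0 := ?_, qStep := ?_, d := 𝒜.d, relDim := ?_,
            locDim := ?_ }, rfl, fun j => ⟨hBover j, hAover j⟩⟩
  · -- pureTrans
    intro i hi
    obtain ⟨j, rfl⟩ : ∃ j : Fin 𝒟.n, (j : ℕ) = i := ⟨⟨i, by omega⟩, rfl⟩
    haveI := (hpo j).2.1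
    haveI := hBover j
    exact Groth.Agent.Lib.Helper95.DevPoint.purelyTranscendental_baseChange (𝒟.B j) p p' (𝒟'.B j)
      (𝒜.qB j) (qB' j) hκ' (𝒜.pureTrans j j.2)
  · -- uniq
    intro i hi Q hQ hQB
    obtain ⟨j, rfl⟩ : ∃ j : Fin 𝒟.n, (j : ℕ) = i := ⟨⟨i, by omega⟩, rfl⟩
    haveI := (hpo j).1
    have hQB0 : Q.under (𝒟.B j) = 𝒜.qB j := by
      rw [← Ideal.under_under (B := 𝒟'.B j) Q, ← hQB.over, ← (hBover j).over]
    haveI : (Q.under (𝒟.A j)).LiesOver (𝒜.qB j) :=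
      ⟨by rw [Ideal.under_under (B := 𝒟.A j) Q, hQB0]⟩
    have hQA : Q.under (𝒟.A j) = 𝒜.qA j := 𝒜.uniq j j.2 (Q.under (𝒟.A j)) inferInstance
    haveI : Q.LiesOver (𝒜.qA j) := ⟨hQA.symm⟩
    haveI : Q.LiesOver p' :=
      ⟨by rw [← Ideal.under_under (B := 𝒟'.B j) Q, ← hQB.over]; exact (h3 j).over⟩
    haveI := hqAp j
    haveI := hAover j
    haveI := hAp' j
    exact Groth.Agent.Lib.Helper95.DevPoint.prime_unique (𝒟.A j) p p' (𝒟'.A j) hκ' (𝒜.qA j) Q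
      (qA' j)
  · -- q0
    letI : Algebra (𝒟.A 0) (𝒟'.A 0) := aA ⟨0, 𝒟.pos⟩
    haveI : IsScalarTower S (𝒟.A 0) (𝒟'.A 0) := hS0
    have hA0 : (qA' 0).under (𝒟.A 0) = 𝒜.qA 0 := ((hAover ⟨0, 𝒟.pos⟩).over).symm
    haveI : ((qA' 0).under S').LiesOver q := ⟨by
      rw [Ideal.under_under (B := S') (qA' 0), ← Ideal.under_under (B := 𝒟.A 0) (qA' 0), hA0]
      exact 𝒜.q0.symm⟩
    haveI : ((qA' 0).under S').LiesOver p' := ⟨by
      rw [Ideal.under_under (B := S') (qA' 0)]; exact (hAp' 0).over⟩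
    exact Groth.Agent.Lib.Helper95.DevPoint.prime_unique S p p' S' hκ' q ((qA' 0).under S') q'
  · -- qStep
    intro i hi
    have hi' : i + 1 < 𝒟.n := by omega
    obtain ⟨j, rfl⟩ : ∃ j : Fin 𝒟.n, (j : ℕ) = i := ⟨⟨i, by omega⟩, rfl⟩
    letI : Algebra (𝒟.A (j + 1)) (𝒟'.A (j + 1)) := aA ⟨j + 1, hi'⟩
    haveI : IsScalarTower (𝒟.B j) (𝒟.A (j + 1)) (𝒟'.A (j + 1)) := hstep j hi'
    have hA1 : (qA' (j + 1)).under (𝒟.A (j + 1)) = 𝒜.qA (j + 1) :=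
      ((hAover ⟨j + 1, hi'⟩).over).symm
    haveI := (hpo j).2.1
    haveI : ((qA' (j + 1)).under (𝒟'.B j)).LiesOver (𝒜.qB j) := ⟨by
      rw [Ideal.under_under (B := 𝒟'.B j) (qA' (j + 1)),
        ← Ideal.under_under (B := 𝒟.A (j + 1)) (qA' (j + 1)), hA1]
      exact (𝒜.qStep j hi').symm⟩
    haveI : ((qA' (j + 1)).under (𝒟'.B j)).LiesOver p' := ⟨by
      rw [Ideal.under_under (B := 𝒟'.B j) (qA' (j + 1))]; exact (hAp' (j + 1)).over⟩
    haveI := hBover j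
    exact Groth.Agent.Lib.Helper95.DevPoint.prime_unique (𝒟.B j) p p' (𝒟'.B j) hκ' (𝒜.qB j)
      ((qA' (j + 1)).under (𝒟'.B j)) (qB' j)
  · -- relDim
    intro i hi
    obtain ⟨j, rfl⟩ : ∃ j : Fin 𝒟.n, (j : ℕ) = i := ⟨⟨i, by omega⟩, rfl⟩
    haveI := (hpo j).2.1
    exact Groth.Agent.Lib.Helper95.DevStep.smoothRelDim_baseChange R (𝒟.B j) R' (𝒟'.B j) (𝒜.d j)
      (𝒜.relDim j j.2)
  · -- locDim
    intro i hi
    obtain ⟨j, rfl⟩ : ∃ j : Fin 𝒟.n, (j : ℕ) = i := ⟨⟨i, by omega⟩, rfl⟩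
    haveI := (hpo j).1
    haveI := (hpo j).2.1
    haveI := hBover j
    exact Groth.Agent.Lib.Helper95.DevAt.exists_point_step p p' hκ' (𝒟.B j) (𝒟.A j) (𝒟.M j)
      (𝒟.finiteBA j j.2) (𝒟.finiteM j j.2) (𝒟'.B j) (𝒟'.A j) (𝒟'.M j) (gM j) (hpo j).2.2
      (𝒜.qB j) (qB' j) (𝒜.d j) (𝒜.locDim j j.2)

end Groth.Agent.S12244
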