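import Groth.Statements.S12248
import Groth.Agent.Lib.Helper64.ProRepCriteria
import Groth.Agent.S12732

set_option autoImplicit false
universe u v
open CategoryTheory
open Deform

namespace Groth.Agent.S12248

/-- Let k be an algebraically closed field, Λ a complete local Noetherian k-algebra with residue field
k, and F a set-valued functor on local Artinian Λ-algebras with residue field k such that F(k) is a
single point, with its k-vector-space structure on F(k[ε]) given as data compatible with ε ↦ cε and
(ε₁, ε₂) ↦ (ε, ε). Then F is prorepresentable (by a complete local Noetherian Λ-algebra with residue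
field k) if and only if: the comparison map F(A' ×_A A'') → F(A') ×_{F(A)} F(A'') is surjective
whenever A'' → A is a small extension; it is bijective whenever A = k and A'' = k[ε]; F(k[ε]) is
finite-dimensional; and the comparison map F(A' ×_A A') → F(A') ×_{F(A)} F(A') is bijective for
every small extension A' → A. -/
theorem result
    {k Λ : Type u} [Field k] [IsAlgClosed k] [CommRing Λ] [IsLocalRing Λ] [IsNoetherianRing Λ]
    [IsAdicComplete (IsLocalRing.maximalIdeal Λ) Λ] [Algebra k Λ] [Algebra Λ k] [IsScalarTower k Λ k]
    (F : ArtFun.Art Λ k ⥤ Type v) [ArtFun.TangentStr F] (h0 : ArtFun.H0 F) :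
    ArtFun.IsProrepresentable F ↔
      (ArtFun.Hbar F ∧ ArtFun.Heps F ∧ ArtFun.Hfin F ∧ ArtFun.HSq F) := by
  have hk : Function.Surjective (algebraMap Λ k) :=
    Groth.Agent.Lib.Helper64.algebraMap_surjective_of_tower
  haveI : Module.Finite Λ k := Groth.Agent.Lib.Helper64.finite_of_algebraMap_surjective hk
  have hder : Subsingleton (Derivation Λ k k) :=
    Groth.Agent.Lib.Helper64.subsingleton_derivation_of_surjective hk
  exact Groth.Agent.Lib.Helper64.prorep_iff_hbar_heps_hfin_hsq F h0
    (fun h1 h2 h3 => Groth.Agent.S12732.result hder F h0 h1 h2 h3)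

end Groth.Agent.S12248
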