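import Groth.Statements.S12249
import Groth.Agent.Lib.Helper9.ArtCRing
import Mathlib.RingTheory.AdicCompletion.Basic

set_option autoImplicit false
universe u v
open CategoryTheory
open Deform

namespace Groth.Agent.S12249

/-- the field `k` as a coefficient ring over itself -/
noncomputable def kCRing (k : Type u) [Field k] : ArtFun.CRing k k :=
  { carrier := k
    res := AlgHom.id k k
    res_surjective := Function.surjective_id
    isAdicComplete := by
      rw [IsLocalRing.maximalIdeal_eq_bot]
      infer_instance }

/-- Let k be an algebraically closed field and F a set-valued functor on local Artinian k-algebras with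
residue field k such that F(k) is a single point. If F has a semiuniversal formal element and its
tangent space F(k[ε]) is reduced to one element, then F(A) consists of exactly one element for every
A: F is the constant one-point functor h_k. -/
theorem result
    {k : Type u} [Field k] [IsAlgClosed k]
    (F : ArtFun.Art k k ⥤ Type v) (h0 : ArtFun.H0 F) (hF : ArtFun.HasHull F)
    (ht : Subsingleton (ArtFun.TangentSpace F)) (A : ArtFun.Art k k) :
    Nonempty (F.obj A) ∧ Subsingleton (F.obj A) := by
  classical
  obtain ⟨⟨R, ξ, hvers, hbij⟩⟩ := hF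
  obtain ⟨hne, hsub⟩ := h0
  -- the structure map k → R is surjective
  have hsurj : Function.Surjective (Algebra.ofId k R.carrier) := by
    apply Groth.Agent.Lib.Helper9.cring_surjective_of_tangent_injective (kCRing k) R
      (Algebra.ofId k R.carrier)
    · apply AlgHom.ext
      intro c
      show R.res (algebraMap k R.carrier c) = c
      rw [AlgHom.commutes]
      rfl
    · intro ψ₁ ψ₂ _
      apply hbij.1
      exact Subsingleton.elim (α := ArtFun.TangentSpace F) _ _
  -- so h_R(A) has at most one element
  have hRsub : Subsingleton (ArtFun.HomSet R.carrier R.res A) := by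
    refine ⟨fun φ ψ => ?_⟩
    apply Subtype.ext
    apply AlgHom.ext
    intro r
    obtain ⟨c, rfl⟩ := hsurj r
    show φ.1 (algebraMap k R.carrier c) = ψ.1 (algebraMap k R.carrier c)
    rw [AlgHom.commutes, AlgHom.commutes]
  -- ξ is surjective on A
  have hξsurj : Function.Surjective (ξ.app A) := by
    intro a
    let φ₀ : ArtFun.HomSet R.carrier R.res (ArtFun.Art.base k k) := ⟨R.res, AlgHom.id_comp _⟩
    obtain ⟨ψ, -, hψ⟩ := hvers (ArtFun.Art.toBase A) A.res_surjective φ₀ a (Subsingleton.elim _ _)
    exact ⟨ψ, hψ⟩
  constructor
  · obtain ⟨x₀⟩ := hne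
    let ι : ArtFun.Art.base k k ⟶ A := ⟨Algebra.ofId k A, by
      apply AlgHom.ext
      intro c
      show A.res (algebraMap k A c) = c
      rw [AlgHom.commutes]
      rfl⟩
    exact ⟨F.map ι x₀⟩
  · refine ⟨fun a b => ?_⟩
    obtain ⟨φ, rfl⟩ := hξsurj a
    obtain ⟨ψ, rfl⟩ := hξsurj b
    rw [Subsingleton.elim φ ψ]

end Groth.Agent.S12249
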