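import Groth.Statements.S12250
import Groth.Agent.Lib.Helper63.ArtFun

set_option autoImplicit false
universe u v
open CategoryTheory
open Deform

namespace Groth.Agent.S12250

open CategoryTheory ArtFun ArtFun.Art Groth.Agent.Lib.Helper63.ArtFunLib

section helpers

variable {Λ k : Type u} [CommRing Λ] [Field k] [Algebra Λ k] (R : ArtFun.CRing Λ k)
  {F : ArtFun.Art Λ k ⥤ Type v}

/-- iterated transition maps. -/
noncomputable def trans (n : ℕ) : (d : ℕ) → (R.trunc (n + d) ⟶ R.trunc n)
  | 0 => 𝟙 _
  | d + 1 => R.truncMap (n + d) ≫ trans n d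

lemma homSet_map_id {A : Art Λ k} (φ : HomSet R.carrier R.res A) : HomSet.map (𝟙 A) φ = φ :=
  Subtype.ext (AlgHom.ext fun _ => rfl)

lemma homSet_map_comp {A B C : Art Λ k} (f : A ⟶ B) (g : B ⟶ C) (φ : HomSet R.carrier R.res A) :
    HomSet.map (f ≫ g) φ = HomSet.map g (HomSet.map f φ) :=
  Subtype.ext (AlgHom.ext fun _ => rfl)

lemma trans_truncHom (n d : ℕ) :
    HomSet.map (trans R n d) (R.truncHom (n + d)) = R.truncHom n := by
  induction d with
  | zero => exact homSet_map_id R _
  | succ d ih =>
    change HomSet.map (R.truncMap (n + d) ≫ trans R n d) (R.truncHom (n + d + 1)) = _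
    rw [homSet_map_comp, CRing.truncMap_truncHom, ih]

lemma elt_trans (u : FormalElt F R) (n d : ℕ) :
    F.map (trans R n d) (u.elt (n + d)) = u.elt n := by
  induction d with
  | zero =>
    change F.map (𝟙 _) (u.elt n) = _
    rw [FunctorToTypes.map_id_apply]
  | succ d ih =>
    change F.map (R.truncMap (n + d) ≫ trans R n d) (u.elt (n + d + 1)) = _
    rw [FunctorToTypes.map_comp_apply, u.compat, ih]

lemma wd_le (u : FormalElt F R) {A : Art Λ k} (n d : ℕ) (f : R.trunc n ⟶ A)
    (f' : R.trunc (n + d) ⟶ A)
    (h : HomSet.map f (R.truncHom n) = HomSet.map f' (R.truncHom (n + d))) :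
    F.map f (u.elt n) = F.map f' (u.elt (n + d)) := by
  have hf : f' = trans R n d ≫ f := by
    apply Art.hom_ext
    apply AlgHom.ext
    intro x
    obtain ⟨a, rfl⟩ := Ideal.Quotient.mk_surjective x
    have h1 : f'.toAlgHom (Ideal.Quotient.mk _ a) = f.toAlgHom (Ideal.Quotient.mk _ a) :=
      (congrArg (fun t : HomSet R.carrier R.res A => t.1 a) h).symm
    have h2 : (trans R n d).toAlgHom (Ideal.Quotient.mk _ a) = Ideal.Quotient.mk _ a :=
      congrArg (fun t : HomSet R.carrier R.res (R.trunc n) => t.1 a) (trans_truncHom R n d)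
    rw [h1]
    change _ = f.toAlgHom ((trans R n d).toAlgHom _)
    rw [h2]
  rw [hf, FunctorToTypes.map_comp_apply, elt_trans]

lemma wd (u : FormalElt F R) {A : Art Λ k} (n n' : ℕ) (f : R.trunc n ⟶ A) (f' : R.trunc n' ⟶ A)
    (h : HomSet.map f (R.truncHom n) = HomSet.map f' (R.truncHom n')) :
    F.map f (u.elt n) = F.map f' (u.elt n') := by
  rcases le_total n n' with hle | hle
  · obtain ⟨d, rfl⟩ := Nat.exists_eq_add_of_le hle
    exact wd_le R u n d f f' h
  · obtain ⟨d, rfl⟩ := Nat.exists_eq_add_of_le hle
    exact (wd_le R u n' d f' f h.symm).symm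

/-- the family of a formal element. -/
noncomputable def famOf (u : FormalElt F R) : Family R.carrier R.res F where
  app A φ := F.map (Classical.choose (Classical.choose_spec (exists_factor_trunc R A φ)))
    (u.elt (Classical.choose (exists_factor_trunc R A φ)))
  natural {A B} f φ := by
    have h1 := Classical.choose_spec (Classical.choose_spec (exists_factor_trunc R A φ))
    have h2 := Classical.choose_spec (Classical.choose_spec
      (exists_factor_trunc R B (HomSet.map f φ)))
    rw [← FunctorToTypes.map_comp_apply]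
    apply wd R u
    rw [h2, homSet_map_comp, h1]

lemma famOf_app (u : FormalElt F R) (A : Art Λ k) (φ : HomSet R.carrier R.res A) (n : ℕ)
    (ubar : R.trunc n ⟶ A) (h : HomSet.map ubar (R.truncHom n) = φ) :
    (famOf R u).app A φ = F.map ubar (u.elt n) := by
  have h1 := Classical.choose_spec (Classical.choose_spec (exists_factor_trunc R A φ))
  apply wd R u
  rw [h1, h]

lemma family_ext {ξ ξ' : Family R.carrier R.res F} (h : ∀ A φ, ξ.app A φ = ξ'.app A φ) : ξ = ξ' := by
  cases ξ; cases ξ'
  congr
  funext A φ
  exact h A φ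

end helpers

/-- Let k be an algebraically closed field, Λ a complete local Noetherian k-algebra with residue field
k, R a complete local Noetherian Λ-algebra with residue field k and F a set-valued functor on local
Artinian Λ-algebras with residue field k. Then the map sending a morphism of functors h_R → F to its
formal element (the compatible sequence of its values on the quotient maps R → R/m^(n+1), n ≥ 0) is
a bijection between morphisms h_R → F and formal elements of F over R. -/
theorem result
    {k Λ : Type u} [Field k] [IsAlgClosed k] [CommRing Λ] [IsLocalRing Λ] [IsNoetherianRing Λ]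
    [IsAdicComplete (IsLocalRing.maximalIdeal Λ) Λ] [Algebra k Λ] [Algebra Λ k] [IsScalarTower k Λ k]
    (R : ArtFun.CRing Λ k) (F : ArtFun.Art Λ k ⥤ Type v) :
    Function.Bijective (fun ξ : ArtFun.Family R.carrier R.res F => ξ.toFormalElt) := by
  constructor
  · intro ξ ξ' h
    apply family_ext R
    intro A φ
    obtain ⟨n, ubar, hu⟩ := exists_factor_trunc R A φ
    have e : ∀ η : ArtFun.Family R.carrier R.res F, η.app A φ = F.map ubar (η.toFormalElt.elt n) := by
      intro η
      rw [← hu, η.natural]
      rfl
    rw [e ξ, e ξ']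
    have h' : ξ.toFormalElt = ξ'.toFormalElt := h
    rw [h']
  · intro u
    refine ⟨famOf R u, ?_⟩
    apply ArtFun.FormalElt.ext'
    intro n
    change (famOf R u).app _ (R.truncHom n) = _
    rw [famOf_app R u _ _ n (𝟙 _) (homSet_map_id R _), FunctorToTypes.map_id_apply]

end Groth.Agent.S12250
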