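import Groth.Statements.S12257
import Groth.Agent.Lib.Helper62.FunctorTypeLimits

set_option autoImplicit false
universe u v
open CategoryTheory CategoryTheory.Limits
open Deform

namespace Groth.Agent.S12257

/-- Let k be an algebraically closed field, Λ a complete local Noetherian k-algebra with residue field
k, and F, G, H set-valued functors on local Artinian Λ-algebras with residue field k, each with
one-point value at k. If F → G is a smooth morphism of functors and H → G is any morphism, then the
second projection F ×_G H → H of the fibre product of functors is smooth. -/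
theorem result
    {k Λ : Type u} [Field k] [IsAlgClosed k] [CommRing Λ] [IsLocalRing Λ] [IsNoetherianRing Λ]
    [IsAdicComplete (IsLocalRing.maximalIdeal Λ) Λ] [Algebra k Λ] [Algebra Λ k] [IsScalarTower k Λ k]
    {F G H : ArtFun.Art Λ k ⥤ Type v} (η : F ⟶ G) (θ : H ⟶ G)
    (hF : ArtFun.H0 F) (hG : ArtFun.H0 G) (hH : ArtFun.H0 H) (hη : ArtFun.IsSmooth η) :
    ArtFun.IsSmooth (pullback.snd η θ) := by
  intro B A μ hμ w
  -- w = (z, y) with z ∈ (F ×_G H)(A), y ∈ H(B), snd z = H(μ) y
  obtain ⟨⟨z, y⟩, hw⟩ := w
  dsimp only at hw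
  -- x = fst z ∈ F(A), θ_B y ∈ G(B) with η_A x = G(μ)(θ_B y)
  have hx : η.app A ((pullback.fst η θ).app A z) = G.map μ (θ.app B y) := by
    rw [Groth.Agent.Lib.Helper62.pullback_obj_condition η θ A z, hw]
    exact NatTrans.naturality_apply θ μ y
  obtain ⟨x', hx'⟩ := hη μ hμ ⟨((pullback.fst η θ).app A z, θ.app B y), hx⟩
  have hx1 : F.map μ x' = (pullback.fst η θ).app A z := congrArg (fun t => t.1.1) hx'
  have hx2 : η.app B x' = θ.app B y := congrArg (fun t => t.1.2) hx'
  obtain ⟨z', hz1, hz2⟩ := Groth.Agent.Lib.Helper62.pullback_obj_exists η θ B x' y hx2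
  refine ⟨z', ?_⟩
  apply Subtype.ext
  apply Prod.ext
  · change (pullback η θ).map μ z' = z
    apply Groth.Agent.Lib.Helper62.pullback_obj_ext η θ A
    · rw [← hx1, ← hz1]
      exact NatTrans.naturality_apply (pullback.fst η θ) μ z'
    · rw [hw, ← hz2]
      exact NatTrans.naturality_apply (pullback.snd η θ) μ z'
  · exact hz2

end Groth.Agent.S12257
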