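import Groth.Statements.S1227
import Mathlib.LinearAlgebra.TensorProduct.RightExactness
import Mathlib.Algebra.Module.Projective
import Mathlib.RingTheory.Ideal.Maps
-- import your own Groth.Agent.* helpers here

set_option autoImplicit false
universe u
open FlatMor

namespace Groth.Agent.S1227


open TensorProduct in
/-- For a projective module `M`, `1 ⊗ k = 0` in `B ⊗ M` as soon as all coordinates of `k` die in `B`. -/
theorem one_tmul_eq_zero_of_forall {A : Type u} [CommRing A] {M : Type u} [AddCommGroup M] [Module A M]
    [Module.Projective A M] (B : Type u) [CommRing B] [Algebra A B] (k : M)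
    (h : ∀ φ : M →ₗ[A] A, algebraMap A B (φ k) = 0) : (1 : B) ⊗ₜ[A] k = 0 := by
  obtain ⟨s, hs⟩ := (Module.projective_def (R := A) (P := M)).mp inferInstance
  have hk : k = ∑ m ∈ (s k).support, (s k) m • m := by
    conv_lhs => rw [← hs k]
    rw [Finsupp.linearCombination_apply, Finsupp.sum]
    rfl
  rw [hk, TensorProduct.tmul_sum]
  refine Finset.sum_eq_zero fun m _ => ?_
  have := h ((Finsupp.lapply m).comp s)
  simp only [LinearMap.comp_apply, Finsupp.lapply_apply] at this
  rw [TensorProduct.tmul_smul, TensorProduct.smul_tmul', Algebra.smul_def, mul_one, this,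
    TensorProduct.zero_tmul]

open TensorProduct in
/-- Let u be a surjective linear map from a projective A-module M to an A-module N. Then there is an
ideal I of A such that for every A-algebra B, the base change u ⊗ 1 from B ⊗ M to B ⊗ N is bijective
if and only if the image of I in B is zero. -/
theorem result {A : Type u} [CommRing A] {M N : Type u} [AddCommGroup M] [Module A M] [Module.Projective A M]
    [AddCommGroup N] [Module A N] (u : M →ₗ[A] N) (hu : Function.Surjective u) :
    ∃ I : Ideal A, ∀ (B : Type u) [CommRing B] [Algebra A B],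
      Function.Bijective (u.baseChange B) ↔ I.map (algebraMap A B) = ⊥ := by
  refine ⟨Ideal.span {a | ∃ (φ : M →ₗ[A] A) (k : M), u k = 0 ∧ a = φ k}, ?_⟩
  intro B _ _
  rw [Ideal.map_eq_bot_iff_le_ker, Ideal.span_le]
  constructor
  · rintro ⟨hinj, -⟩ a ⟨φ, k, hk, rfl⟩
    have h0 : (1 : B) ⊗ₜ[A] k = 0 := by
      apply hinj
      rw [LinearMap.baseChange_tmul, hk, map_zero, TensorProduct.tmul_zero]
    have h1 : (Algebra.TensorProduct.rid A B B) ((φ.baseChange B) ((1 : B) ⊗ₜ[A] k)) = 0 := by
      rw [h0, map_zero, map_zero]
    rw [LinearMap.baseChange_tmul, Algebra.TensorProduct.rid_tmul] at h1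
    change algebraMap A B (φ k) = 0
    rw [Algebra.algebraMap_eq_smul_one]
    exact h1
  · intro h
    have hsurj : Function.Surjective (u.baseChange B) := by
      rw [LinearMap.baseChange_eq_ltensor]
      exact LinearMap.lTensor_surjective B hu
    refine ⟨?_, hsurj⟩
    rw [LinearMap.baseChange_eq_ltensor, injective_iff_map_eq_zero]
    intro w hw
    have hex := lTensor_exact B (LinearMap.exact_subtype_ker_map u) hu
    obtain ⟨w', rfl⟩ := (hex w).mp hw
    clear hw
    induction w' using TensorProduct.induction_on with
    | zero => simp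
    | tmul b k =>
      rw [LinearMap.lTensor_tmul]
      have hk : u (k : M) = 0 := k.2
      have : (1 : B) ⊗ₜ[A] (k : M) = 0 :=
        one_tmul_eq_zero_of_forall B (k : M) fun φ => h ⟨φ, k, hk, rfl⟩
      have hb : b ⊗ₜ[A] (k : M) = b • ((1 : B) ⊗ₜ[A] (k : M)) := by
        rw [TensorProduct.smul_tmul', smul_eq_mul, mul_one]
      rw [Submodule.subtype_apply, hb, this, smul_zero]
    | add a b ha hb => rw [map_add, ha, hb, add_zero]

end Groth.Agent.S1227
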