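import Groth.Statements.S12291
import Groth.Agent.Lib.Helper62.CotTCI
import Groth.Agent.Lib.Helper62.CotTCI3
import Groth.Agent.Lib.Helper29.CM
import Groth.Agent.S5671
import Groth.Agent.S12283
import Groth.Agent.S12288
import Mathlib.RingTheory.KrullDimension.Regular

set_option autoImplicit false
universe u w m
open scoped TensorProduct
open DefT

namespace Groth.Agent.S12291

open Groth.Agent.Lib.Helper62.CotTCI RingTheory.Sequence

section helpers

variable {k A : Type u} [Field k] [CommRing A] [Algebra k A]

/-- comparison of `T²((A/I)/k, M)` and `T²((A/I)/A, M)` when `T¹(A/k, -)` and `T²(A/k, -)` vanish. -/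
lemma step1 (hT : ∀ (N : Type u) [AddCommGroup N] [Module A N],
      Subsingleton (CotT.T1 (CotT.canon k A) N) ∧ Subsingleton (CotT.T2 (CotT.canon k A) N))
    (I : Ideal A) (M : Type u) [AddCommGroup M] [Module (A ⧸ I) M] :
    Subsingleton (CotT.T2 (CotT.canon k (A ⧸ I)) M) ↔
      Subsingleton (CotT.T2 (CotT.canon A (A ⧸ I)) M) := by
  letI : Module A M := Module.compHom M (algebraMap A (A ⧸ I))
  haveI : IsScalarTower A (A ⧸ I) M := IsScalarTower.of_algebraMap_smul (fun _ _ => rfl)
  exact subsingleton_T2_iff k A (A ⧸ I) M (hT M).1 (hT M).2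

lemma ker_algebraMap_quot (I : Ideal A) : RingHom.ker (algebraMap A (A ⧸ I)) = I := by
  rw [Ideal.Quotient.algebraMap_eq, Ideal.mk_ker]

lemma mem_maximalIdeal_of_mem_list [IsLocalRing A] (rs : List A) (hI : Ideal.ofList rs ≠ ⊤)
    (r : A) (hr : r ∈ rs) : r ∈ IsLocalRing.maximalIdeal A :=
  IsLocalRing.le_maximalIdeal hI (Ideal.subset_span hr)

lemma isRegular_of_weaklyRegular (rs : List A) (hI : Ideal.ofList rs ≠ ⊤)
    (h : IsWeaklyRegular A rs) : IsRegular A rs := by
  refine ⟨h, ?_⟩
  intro htop
  apply hI
  have : Ideal.ofList rs • (⊤ : Submodule A A) = Ideal.ofList rs := by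
    rw [smul_eq_mul, Ideal.mul_top]
  rw [this] at htop
  exact htop.symm

end helpers

/-- Let k be an algebraically closed field and A a regular local k-algebra with residue field k such
that T^1(A/k, N) = 0 and T^2(A/k, N) = 0 for all A-modules N; let I be a proper ideal of A and B =
A/I. Then B is cut out of A as a local complete intersection — meaning I is generated by some list
of r elements with r + dim B = dim A, i.e. by dim A − dim B elements — exactly when T^2(B/k, M)
vanishes for each B-module M. The T^i are computed from the choice-free presentations. (The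
published statement assumes only that A is a regular local k-algebra with residue field k; its proof
uses the vanishing of T^1(A/k, −) and T^2(A/k, −), which holds when A is essentially of finite type
over k and which this row carries as a hypothesis.) -/
theorem result
    (k A : Type u) [Field k] [IsAlgClosed k] [CommRing A] [IsRegularLocalRing A] [Algebra k A]
    (hres : Function.Surjective (algebraMap k (IsLocalRing.ResidueField A)))
    (hT : ∀ (N : Type u) [AddCommGroup N] [Module A N],
      Subsingleton (CotT.T1 (CotT.canon k A) N) ∧ Subsingleton (CotT.T2 (CotT.canon k A) N))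
    (I : Ideal A) (hI : I ≠ ⊤) :
    (∃ rs : List A, Ideal.ofList rs = I ∧ (rs.length : WithBot ℕ∞) + ringKrullDim (A ⧸ I) = ringKrullDim A) ↔
      ∀ (M : Type u) [AddCommGroup M] [Module (A ⧸ I) M], Subsingleton (CotT.T2 (CotT.canon k (A ⧸ I)) M) := by
  haveI : Nontrivial (A ⧸ I) := Ideal.Quotient.nontrivial_iff.mpr hI
  haveI : IsLocalRing (A ⧸ I) :=
    IsLocalRing.of_surjective' (Ideal.Quotient.mk I) Ideal.Quotient.mk_surjective
  have hs : Function.Surjective (algebraMap A (A ⧸ I)) := Ideal.Quotient.mk_surjective
  constructor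
  · rintro ⟨rs, hrs, hdim⟩ M _ _
    rw [step1 hT I M]
    subst hrs
    have hmem : ∀ x ∈ rs, x ∈ IsLocalRing.maximalIdeal A := mem_maximalIdeal_of_mem_list rs hI
    have hCM := Groth.Agent.S5671.isCM_of_regular A
    have hiff := (Groth.Agent.Lib.Helper29.CMLib.isWeaklyRegular_iff_of_isCM A rs A hCM hmem).1
    have hw : IsWeaklyRegular A rs := by
      rw [hiff]
      have eq : Ideal.ofList rs = Ideal.ofList rs • (⊤ : Ideal A) := by simp
      rw [Module.supportDim_self_eq_ringKrullDim, Module.supportDim_quotient_eq_ringKrullDim,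
        ← ringKrullDim_eq_of_ringEquiv (Ideal.quotientEquivAlgOfEq A eq).toRingEquiv, add_comm]
      exact hdim
    exact Groth.Agent.S12288.result A (A ⧸ Ideal.ofList rs) hs rs
      (isRegular_of_weaklyRegular rs hI hw) (ker_algebraMap_quot _) M
  · intro h
    have h' : ∀ (M : Type u) [AddCommGroup M] [Module (A ⧸ I) M],
        Subsingleton (CotT.T2 (CotT.canon A (A ⧸ I)) M) := fun M _ _ => (step1 hT I M).mp (h M)
    obtain ⟨rs, hrs, hmin⟩ := exists_minimal_list I
    subst hrs
    refine ⟨rs, rfl, ?_⟩
    have hker := ker_algebraMap_quot (Ideal.ofList rs)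
    obtain ⟨_, _, ⟨e2⟩⟩ := Groth.Agent.S12283.result A (A ⧸ Ideal.ofList rs) (A ⧸ Ideal.ofList rs)
      (CotT.CanonRels A (A ⧸ Ideal.ofList rs)) PEmpty.{u + 1}
      (ULift.{u} (Fin (Groth.Agent.S12288.cs rs).length)) (CotT.canon A (A ⧸ Ideal.ofList rs))
      (Groth.Agent.S12288.regPres hs rs hker)
      (CotT.L2 (Groth.Agent.S12288.regPres hs rs hker))
    have hT2 : Subsingleton (CotT.T2 (Groth.Agent.S12288.regPres hs rs hker)
        (CotT.L2 (Groth.Agent.S12288.regPres hs rs hker))) :=
      e2.symm.toEquiv.subsingleton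
    have hw := isWeaklyRegular_of_T2 hs rs hker hmin
      (fun i => mem_maximalIdeal_of_mem_list rs hI _ (List.get_mem _ _)) hT2
    have hreg := isRegular_of_weaklyRegular rs hI hw
    have hd := ringKrullDim_add_length_eq_ringKrullDim_of_isRegular rs hreg
    rw [add_comm]
    exact hd

end Groth.Agent.S12291
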