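import Groth.Statements.S12295
import Groth.Agent.Lib.Helper62.CotTCompare

set_option autoImplicit false
universe u w m
open scoped TensorProduct
open DefT

namespace Groth.Agent.S12295

open Groth.Agent.Lib.Helper62.CotTCompare

section helpers

variable {k B : Type u} [CommRing k] [CommRing B] [Algebra k B] {ι σ ι' σ' : Type w}
    (P : Algebra.Presentation k B ι σ) [IsEmpty ι']
    (P' : Algebra.Presentation P.toExtension.Ring B ι' σ')

/-- the inclusion of constants. -/
noncomputable def φ₁ : P.toExtension.Ring →+* P'.toExtension.Ring :=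
  (MvPolynomial.C : P.toExtension.Ring →+* MvPolynomial ι' P.toExtension.Ring)

/-- evaluation (no variables). -/
noncomputable def φ₂ : P'.toExtension.Ring →+* P.toExtension.Ring :=
  (MvPolynomial.aeval (fun i : ι' => (isEmptyElim i : P.toExtension.Ring)) :
    MvPolynomial ι' P.toExtension.Ring →ₐ[P.toExtension.Ring] P.toExtension.Ring).toRingHom

lemma h21 (r : P.toExtension.Ring) : φ₂ P P' (φ₁ P P' r) = r := by
  change (MvPolynomial.aeval (fun i : ι' => (isEmptyElim i : P.toExtension.Ring)))
    (MvPolynomial.C r) = r
  rw [MvPolynomial.aeval_C]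
  rfl

omit [IsEmpty ι'] in
lemma hφ₁ (x : P.toExtension.Ring) :
    algebraMap P'.toExtension.Ring B (φ₁ P P' x) = algebraMap P.toExtension.Ring B x := by
  rw [CotT.algebraMap_toExtension]
  exact MvPolynomial.aeval_C _ _

lemma φ₁_surjective : Function.Surjective (φ₁ P P') :=
  MvPolynomial.C_surjective ι'

lemma hφ₂ (x : P'.toExtension.Ring) :
    algebraMap P.toExtension.Ring B (φ₂ P P' x) = algebraMap P'.toExtension.Ring B x := by
  obtain ⟨r, rfl⟩ := φ₁_surjective P P' x
  rw [h21, hφ₁]

lemma h12 (x : P'.toExtension.Ring) : φ₁ P P' (φ₂ P P' x) = x := by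
  obtain ⟨r, rfl⟩ := φ₁_surjective P P' x
  rw [h21]

/-- a morphism over `φ₁`. -/
noncomputable def mor1 : Mor P P' := Classical.choose (exists_mor (P := P) (P' := P') (φ₁ P P') (hφ₁ P P'))

lemma mor1_φ : (mor1 P P').φ = φ₁ P P' :=
  Classical.choose_spec (exists_mor (P := P) (P' := P') (φ₁ P P') (hφ₁ P P'))

/-- a morphism over `φ₂`. -/
noncomputable def mor2 : Mor P' P := Classical.choose (exists_mor (P := P') (P' := P) (φ₂ P P') (hφ₂ P P'))

lemma mor2_φ : (mor2 P P').φ = φ₂ P P' :=
  Classical.choose_spec (exists_mor (P := P') (P' := P) (φ₂ P P') (hφ₂ P P'))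

lemma mor21 (x : P.toExtension.Ring) : (mor2 P P').φ ((mor1 P P').φ x) = x := by
  rw [mor1_φ, mor2_φ]; exact h21 P P' x

lemma mor12 (x : P'.toExtension.Ring) : (mor1 P P').φ ((mor2 P P').φ x) = x := by
  rw [mor1_φ, mor2_φ]; exact h12 P P' x

lemma final (M : Type m) [AddCommGroup M] [Module B M] :
    Nonempty (CotT.T2 P M ≃ₗ[B] CotT.T2 P' M) :=
  T2_equiv (mor1 P P') (mor2 P P') (fun _ => mor21 P P' _) (fun _ => mor12 P P' _) M

end helpers

/-- Let k be a commutative ring, B a k-algebra and P a presentation of B over k with polynomial ring R =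
k[x_i] (any set of variables), so that B = R/I; let P' be a presentation of B over R with no
polynomial variables (R itself mapping onto B, with chosen generators of I), and M a B-module. Then
T^2(B/R, M), computed from P', and T^2(B/k, M), computed from P, are isomorphic B-modules.
(Existence of a B-linear isomorphism only; the published statement has finitely many variables over
a field and notes that any base ring works.) -/
theorem result
    (k B : Type u) [CommRing k] [CommRing B] [Algebra k B] (ι σ ι' σ' : Type w)
    (P : Algebra.Presentation k B ι σ) [IsEmpty ι']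
    (P' : Algebra.Presentation P.toExtension.Ring B ι' σ')
    (M : Type m) [AddCommGroup M] [Module B M] :
    Nonempty (CotT.T2 P' M ≃ₗ[B] CotT.T2 P M) := by
  obtain ⟨e⟩ := final P P' M
  exact ⟨e.symm⟩

end Groth.Agent.S12295
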