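import Groth.Statements.S12297
import Groth.Agent.Lib.Helper62.CotTLoc5
import Groth.Agent.Lib.Helper62.CotTSmooth
import Groth.Agent.S9442

set_option autoImplicit false
universe u w m
open scoped TensorProduct
open DefT

namespace Groth.Agent.S12297

/-- Let k be an algebraically closed field, B a finitely generated k-algebra, m a maximal ideal of B and
B_m the localization, a local k-algebra with residue field k. Then B_m is a regular local ring if
and only if T^1(B_m/k, M) = 0 for all B_m-modules M, and in that case T^2(B_m/k, M) = 0 for all M as
well; the T^i are computed from the choice-free presentation of B_m over k. (The published statement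
is for a local k-algebra with residue field k, k algebraically closed, proved by localization from
the finitely generated case; this row states it for the localizations of finitely generated
k-algebras at maximal ideals, the case that proof covers.) -/
theorem result
    (k B : Type u) [Field k] [IsAlgClosed k] [CommRing B] [Algebra k B] [Algebra.FiniteType k B]
    (m : Ideal B) [m.IsMaximal] :
    (IsRegularLocalRing (Localization.AtPrime m) ↔
      ∀ (M : Type u) [AddCommGroup M] [Module (Localization.AtPrime m) M],
        Subsingleton (CotT.T1 (CotT.canon k (Localization.AtPrime m)) M)) ∧
    (IsRegularLocalRing (Localization.AtPrime m) →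
      ∀ (M : Type u) [AddCommGroup M] [Module (Localization.AtPrime m) M],
        Subsingleton (CotT.T2 (CotT.canon k (Localization.AtPrime m)) M)) := by
  haveI : Algebra.IsGeometricallyReduced k m.ResidueField :=
    Groth.Agent.Lib.Helper62.CotTLoc.isGeometricallyReduced_of_isAlgClosed k _
  refine ⟨?_, fun hreg M _ _ => ?_⟩
  · rw [Groth.Agent.Lib.Helper62.CotTSmooth.subsingleton_T1_iff_formallySmooth k
      (Localization.AtPrime m)]
    exact (Groth.Agent.S9442.result k B m).symm
  · exact (Groth.Agent.Lib.Helper62.CotTLoc.subsingleton_T2_at_regular k B m M).1

end Groth.Agent.S12297
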