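import Groth.Statements.S12299
import Groth.Agent.Lib.Helper63.ArtFun
import Mathlib.LinearAlgebra.Dual.Lemmas

set_option autoImplicit false
universe u v
open CategoryTheory
open ArtFun

namespace Groth.Agent.S12299

open ArtFun ArtFun.Art in
/-- For an object `T` whose maximal ideal squares to zero, a linear form gives a map to `k[ε]`. -/
theorem exists_tangentMap {k : Type u} [Field k] (T : Art k k)
    (hT : ∀ a b : T, T.res a = 0 → T.res b = 0 → a * b = 0) (l : T →ₗ[k] k) :
    ∃ π : T ⟶ dual k k, ∀ a : T, (π a : DualNumber k).snd = l (a - algebraMap k T (T.res a)) := by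
  have hres : ∀ c : k, T.res (algebraMap k T c) = c := fun c => by
    rw [AlgHom.commutes]; rfl
  have hker : ∀ a : T, T.res (a - algebraMap k T (T.res a)) = 0 := fun a => by
    rw [map_sub, hres, sub_self]
  let D : T → k := fun a => l (a - algebraMap k T (T.res a))
  have hD_mul : ∀ a b : T, D (a * b) = T.res a * D b + D a * T.res b := by
    intro a b
    have key : a * b - algebraMap k T (T.res (a * b)) =
        T.res a • (b - algebraMap k T (T.res b)) + T.res b • (a - algebraMap k T (T.res a)) := by
      have h0 := hT _ _ (hker a) (hker b)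
      rw [Algebra.smul_def, Algebra.smul_def, map_mul, map_mul]
      linear_combination h0
    change l _ = T.res a * l _ + l _ * T.res b
    rw [key, map_add, map_smul, map_smul, smul_eq_mul, smul_eq_mul]
    ring
  have hD_add : ∀ a b : T, D (a + b) = D a + D b := by
    intro a b
    change l _ = l _ + l _
    rw [← map_add]
    congr 1
    rw [map_add, map_add]
    ring
  have hD_alg : ∀ c : k, D (algebraMap k T c) = 0 := by
    intro c
    change l _ = 0
    rw [hres, sub_self, map_zero]
  let π : T →ₐ[k] DualNumber k :=
    { toFun := fun a => (T.res a, D a)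
      map_one' := by
        apply TrivSqZeroExt.ext
        · exact map_one T.res
        · have := hD_alg 1
          rw [map_one] at this
          exact this
      map_mul' := fun a b => by
        apply TrivSqZeroExt.ext
        · exact map_mul T.res a b
        · change D (a * b) = T.res a • D b + MulOpposite.op (T.res b) • D a
          rw [hD_mul, smul_eq_mul, MulOpposite.smul_eq_mul_unop, MulOpposite.unop_op]
      map_zero' := by
        apply TrivSqZeroExt.ext
        · exact map_zero T.res
        · have := hD_alg 0
          rw [map_zero] at this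
          exact this
      map_add' := fun a b => by
        apply TrivSqZeroExt.ext
        · exact map_add T.res a b
        · exact hD_add a b
      commutes' := fun c => by
        apply TrivSqZeroExt.ext
        · change T.res (algebraMap k T c) = _
          rw [hres]; rfl
        · change D (algebraMap k T c) = _
          rw [hD_alg]; rfl }
  exact ⟨⟨π, AlgHom.ext fun _ => rfl⟩, fun a => rfl⟩


/-- Let k be an algebraically closed field, F a set-valued functor on local Artinian k-algebras with
residue field k, and (R, ξ) a miniversal family for F, with R a complete local Noetherian k-algebra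
with residue field k: the morphism h_R → F has the lifting property along surjections and is
bijective on the dual numbers. Let S be a complete local Noetherian k-algebra with residue field k
and g₁, g₂ : R → S two k-algebra maps compatible with the augmentations along which ξ induces the
same formal family over S (the same compatible sequence in the F(S/m^(n+1))). Then g₁ and g₂ induce
the same map R → S/m_S², so the map R/m_R² → S/m_S² attached to a formal family over S is well
defined. (Coefficient rings are taken Noetherian here.) -/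
theorem result
    {k : Type u} [Field k] [IsAlgClosed k] {F : ArtFun.Art k k ⥤ Type v}
    (R : ArtFun.CRing k k) (ξ : ArtFun.Family R.carrier R.res F) (hξ : ArtFun.IsMiniversal ξ)
    (S : ArtFun.CRing k k) (g₁ g₂ : R.carrier →ₐ[k] S.carrier)
    (hg₁ : S.res.comp g₁ = R.res) (hg₂ : S.res.comp g₂ = R.res)
    (h : (ξ.along g₁ hg₁).toFormalElt = (ξ.along g₂ hg₂).toFormalElt) :
    (S.truncHom 1).1.comp g₁ = (S.truncHom 1).1.comp g₂ := by
  open Groth.Agent.Lib.Helper63.ArtFunLib ArtFun ArtFun.Art in
  have hn : (ξ.along g₁ hg₁).toFormalElt.elt 1 = (ξ.along g₂ hg₂).toFormalElt.elt 1 := by rw [h]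
  rw [along_toFormalElt_elt, along_toFormalElt_elt] at hn
  set T := S.trunc 1 with hTdef
  -- the maximal ideal of T squares to zero
  have hT : ∀ a b : T, T.res a = 0 → T.res b = 0 → a * b = 0 := by
    intro a b ha hb
    obtain ⟨a', rfl⟩ := Ideal.Quotient.mk_surjective a
    obtain ⟨b', rfl⟩ := Ideal.Quotient.mk_surjective b
    have ha' : a' ∈ IsLocalRing.maximalIdeal S.carrier := (S.mem_maximalIdeal_iff a').2 ha
    have hb' : b' ∈ IsLocalRing.maximalIdeal S.carrier := (S.mem_maximalIdeal_iff b').2 hb
    change (Ideal.Quotient.mk (S.mpow 1) a' * Ideal.Quotient.mk (S.mpow 1) b' :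
      S.carrier ⧸ S.mpow 1) = 0
    rw [← map_mul]
    apply Ideal.Quotient.eq_zero_iff_mem.2
    change a' * b' ∈ IsLocalRing.maximalIdeal S.carrier ^ (1 + 1)
    rw [pow_two]
    exact Ideal.mul_mem_mul ha' hb'
  apply AlgHom.ext
  intro r
  by_contra hne
  set h₁ : HomSet R.carrier R.res T := ⟨(S.truncHom 1).1.comp g₁, by
        rw [← AlgHom.comp_assoc, (S.truncHom 1).2, hg₁]⟩ with hh₁
  set h₂ : HomSet R.carrier R.res T := ⟨(S.truncHom 1).1.comp g₂, by
        rw [← AlgHom.comp_assoc, (S.truncHom 1).2, hg₂]⟩ with hh₂
  have hd : h₁.1 r - h₂.1 r ≠ 0 := sub_ne_zero.2 hne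
  obtain ⟨l, hl⟩ : ∃ l : Module.Dual k T, l (h₁.1 r - h₂.1 r) ≠ 0 := by
    by_contra hcon
    push Not at hcon
    exact hd ((Module.forall_dual_apply_eq_zero_iff k _).1 hcon)
  obtain ⟨π, hπ⟩ := exists_tangentMap T hT l
  have e1 : ξ.app _ (HomSet.map π h₁) = ξ.app _ (HomSet.map π h₂) := by
    rw [ξ.natural, ξ.natural, hn]
  have e2 : HomSet.map π h₁ = HomSet.map π h₂ := hξ.2.1 e1
  have e3 : (π (h₁.1 r) : DualNumber k).snd = (π (h₂.1 r) : DualNumber k).snd :=
    congrArg (fun t : HomSet R.carrier R.res (dual k k) => (t.1 r : DualNumber k).snd) e2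
  rw [hπ, hπ] at e3
  have r1 : T.res (h₁.1 r) = R.res r := congrArg (fun t : R.carrier →ₐ[k] k => t r) h₁.2
  have r2 : T.res (h₂.1 r) = R.res r := congrArg (fun t : R.carrier →ₐ[k] k => t r) h₂.2
  rw [r1, r2] at e3
  apply hl
  rw [map_sub]
  have := congrArg₂ (· - ·) e3 (rfl : l (algebraMap k T (R.res r)) = l (algebraMap k T (R.res r)))
  simp only [map_sub] at e3 ⊢
  linear_combination e3

end Groth.Agent.S12299
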