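import Groth.Statements.S12301
import Groth.Agent.Lib.Helper63.ArtFun

set_option autoImplicit false
universe u v
open CategoryTheory
open ArtFun

namespace Groth.Agent.S12301

/-- Let k be an algebraically closed field, f : F₁ → F₂ a morphism of set-valued functors on local
Artinian k-algebras with residue field k, (R₁, ξ₁) a family for F₁ and (R₂, ξ₂) a versal family for
F₂, where R₁, R₂ are complete local Noetherian k-algebras with residue field k and versal is meant
in the strong sense: h_{R₂} → F₂ is surjective on every object and has the lifting property along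
surjections. Then there is a k-algebra map φ : R₂ → R₁, compatible with the augmentations, such that
for every local Artinian A and every u : R₁ → A the element of F₂(A) given by ξ₂ at u ∘ φ equals the
image under f of the element of F₁(A) given by ξ₁ at u; in other words composition with φ, h_{R₁} →
h_{R₂}, covers f. (The published statement assumes (R₁, ξ₁) versal as well; this row asks nothing of
ξ₁, which is all the argument uses, and takes the coefficient rings Noetherian.) -/
theorem result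
    {k : Type u} [Field k] [IsAlgClosed k] {F₁ F₂ : ArtFun.Art k k ⥤ Type v} (f : F₁ ⟶ F₂)
    (R₁ : ArtFun.CRing k k) (ξ₁ : ArtFun.Family R₁.carrier R₁.res F₁)
    (R₂ : ArtFun.CRing k k) (ξ₂ : ArtFun.Family R₂.carrier R₂.res F₂) (hξ₂ : ArtFun.IsVersal ξ₂)
    (hsurj : ∀ A : ArtFun.Art k k, Function.Surjective (ξ₂.app A)) :
    ∃ (φ : R₂.carrier →ₐ[k] R₁.carrier) (hφ : R₁.res.comp φ = R₂.res),
      ∀ (A : ArtFun.Art k k) (u : ArtFun.HomSet R₁.carrier R₁.res A),
        (ξ₂.along φ hφ).app A u = f.app A (ξ₁.app A u) := by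
  open Groth.Agent.Lib.Helper63.ArtFunLib ArtFun ArtFun.Art in
  -- the target elements
  let y : ∀ n, F₂.obj (R₁.trunc n) := fun n => f.app _ (ξ₁.app _ (R₁.truncHom n))
  have hy : ∀ n, F₂.map (R₁.truncMap n) (y (n + 1)) = y n := by
    intro n
    change F₂.map (R₁.truncMap n) (f.app _ (ξ₁.app _ (R₁.truncHom (n + 1)))) = _
    rw [← NatTrans.naturality_apply f, ← ξ₁.natural, CRing.truncMap_truncHom]
  -- build the compatible sequence by recursion
  have hstep : ∀ n (φ : HomSet R₂.carrier R₂.res (R₁.trunc n)), ξ₂.app _ φ = y n →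
      ∃ ψ : HomSet R₂.carrier R₂.res (R₁.trunc (n + 1)),
        HomSet.map (R₁.truncMap n) ψ = φ ∧ ξ₂.app _ ψ = y (n + 1) := by
    intro n φ hφ
    have hsurjmap : Function.Surjective (R₁.truncMap n) := by
      intro x
      obtain ⟨a, rfl⟩ := Ideal.Quotient.mk_surjective x
      exact ⟨Ideal.Quotient.mk _ a, rfl⟩
    exact hξ₂ (R₁.truncMap n) hsurjmap φ (y (n + 1)) (by rw [hy n, hφ])
  obtain ⟨φ0, hφ0⟩ := hsurj (R₁.trunc 0) (y 0)
  let seq : ∀ n, {φ : HomSet R₂.carrier R₂.res (R₁.trunc n) // ξ₂.app _ φ = y n} := fun n =>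
    Nat.rec ⟨φ0, hφ0⟩ (fun n p => ⟨(hstep n p.1 p.2).choose, (hstep n p.1 p.2).choose_spec.2⟩) n
  have hseq : ∀ n, HomSet.map (R₁.truncMap n) (seq (n + 1)).1 = (seq n).1 := fun n =>
    (hstep n (seq n).1 (seq n).2).choose_spec.1
  obtain ⟨Φ, hΦres, hΦ⟩ := exists_lift_of_compatible R₁ (fun n => (seq n).1) hseq
  refine ⟨Φ, hΦres, ?_⟩
  intro A u
  obtain ⟨n, ubar, rfl⟩ := exists_factor_trunc R₁ A u
  rw [ξ₁.natural, NatTrans.naturality_apply f]
  change ξ₂.app A ⟨((HomSet.map ubar (R₁.truncHom n)).1).comp Φ, _⟩ = _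
  have e : (⟨((HomSet.map ubar (R₁.truncHom n)).1).comp Φ, by
      rw [← AlgHom.comp_assoc, (HomSet.map ubar (R₁.truncHom n)).2, hΦres]⟩ :
      HomSet R₂.carrier R₂.res A) = HomSet.map ubar (seq n).1 := by
    apply Subtype.ext
    change (ubar.toAlgHom.comp (R₁.truncHom n).1).comp Φ = ubar.toAlgHom.comp (seq n).1.1
    rw [AlgHom.comp_assoc, hΦ n]
  rw [e, ξ₂.natural, (seq n).2]

end Groth.Agent.S12301
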