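import Groth.Statements.S12303
import Groth.Agent.Lib.Helper63.ArtFun

set_option autoImplicit false
universe u v
open CategoryTheory
open ArtFun

namespace Groth.Agent.S12303

/-- Let k be an algebraically closed field, F a set-valued functor on local Artinian k-algebras with
residue field k, and ξ : h_R → F a miniversal family in the strong sense, over an augmented
k-algebra R: ξ is surjective on every object, has the lifting property along surjections, and is
bijective on the dual numbers k[ε]. Then for every object A and every fibre-product square B = A ×_k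
k[ε] over k, the comparison map F(B) → F(A) ×_{F(k)} F(k[ε]) is bijective. (The published statement
takes R complete local, which the argument does not use.) -/
theorem result
    {k : Type u} [Field k] [IsAlgClosed k] {F : ArtFun.Art k k ⥤ Type v}
    {R : Type u} [CommRing R] [Algebra k R] {resR : R →ₐ[k] k}
    (ξ : ArtFun.Family R resR F) (hξ : ArtFun.IsMiniversal ξ)
    (hsurj : ∀ A : ArtFun.Art k k, Function.Surjective (ξ.app A)) :
    ArtFun.Heps F := by
  open Groth.Agent.Lib.Helper63.ArtFunLib ArtFun ArtFun.Art in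
  intro B A' p' p'' h
  have hdual : Function.Surjective (toBase (dual k k)) := (dual k k).res_surjective
  have hp' : Function.Surjective p' := surjective_fst_of_isFibreProd h hdual
  refine ⟨?_, ?_⟩
  · -- injectivity
    intro z₁ z₂ hz
    have hz1 : F.map p' z₁ = F.map p' z₂ := congrArg (fun t => t.1.1) hz
    have hz2 : F.map p'' z₁ = F.map p'' z₂ := congrArg (fun t => t.1.2) hz
    obtain ⟨θ₁, rfl⟩ := hsurj B z₁
    obtain ⟨θ₂, hθ₂1, hθ₂2⟩ := hξ.1 p' hp' (HomSet.map p' θ₁) z₂ (by
      rw [ξ.natural, hz1])
    have h2 : HomSet.map p'' θ₁ = HomSet.map p'' θ₂ := by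
      apply hξ.2.1
      rw [ξ.natural, ξ.natural, hθ₂2, hz2]
    rw [← hθ₂2]
    congr 1
    exact homSet_ext_of_isFibreProd h θ₁ θ₂ hθ₂1.symm h2
  · -- surjectivity
    intro x
    obtain ⟨φ', hφ'⟩ := hsurj A' x.1.1
    have hx := x.2
    obtain ⟨ψ, hψ1, hψ2⟩ := hξ.1 (toBase (dual k k)) hdual (HomSet.map (toBase A') φ') x.1.2 (by
      rw [ξ.natural, hφ', hx])
    obtain ⟨θ, hθ1, hθ2⟩ := exists_homSet_lift_of_isFibreProd h φ' ψ hψ1.symm
    refine ⟨ξ.app B θ, ?_⟩
    apply FibProd.ext
    · change F.map p' (ξ.app B θ) = x.1.1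
      rw [← ξ.natural, hθ1, hφ']
    · change F.map p'' (ξ.app B θ) = x.1.2
      rw [← ξ.natural, hθ2, hψ2]

end Groth.Agent.S12303
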