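import Groth.Statements.S12305
import Groth.Agent.S12283
import Groth.Agent.S12289
import Groth.Agent.Lib.Helper62.CotTLoc4
import Groth.Agent.Lib.Helper62.CotTSmooth
import Mathlib.RingTheory.Smooth.Locus
import Mathlib.Algebra.Module.FinitePresentation

set_option autoImplicit false
set_option linter.style.haveILetI false
set_option linter.unusedSectionVars false
universe u
open CotT

namespace Groth.Agent.S12305

open TensorProduct Function

noncomputable section general

variable (A B : Type u) [CommRing A] [CommRing B] [Algebra A B]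

/-- if `ψ ∘ d = c • id` on `I/I²` then `c` kills `T¹(P, M)`. -/
lemma smul_T1_eq_zero_of_retraction {ι σ : Type u} (P : Algebra.Presentation A B ι σ) (c : B)
    (ψ : P.toExtension.CotangentSpace →ₗ[B] P.toExtension.Cotangent)
    (hψ : ψ ∘ₗ P.toExtension.cotangentComplex = c • LinearMap.id)
    (M : Type u) [AddCommGroup M] [Module B M] (x : CotT.T1 P M) : c • x = 0 := by
  obtain ⟨-, hker, hsurj⟩ := Groth.Agent.S12289.result A B ι σ P M
  obtain ⟨φ, rfl⟩ := hsurj x
  rw [← map_smul, ← LinearMap.mem_ker, hker]
  refine ⟨φ ∘ₗ ψ, ?_⟩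
  change (φ ∘ₗ ψ) ∘ₗ _ = c • φ
  rw [LinearMap.comp_assoc, hψ]
  ext y
  simp

/-- the same for the choice-free presentation. -/
lemma smul_T1_canon_eq_zero_of_retraction {ι σ : Type u} (P : Algebra.Presentation A B ι σ) (c : B)
    (ψ : P.toExtension.CotangentSpace →ₗ[B] P.toExtension.Cotangent)
    (hψ : ψ ∘ₗ P.toExtension.cotangentComplex = c • LinearMap.id)
    (M : Type u) [AddCommGroup M] [Module B M] (x : CotT.T1 (CotT.canon A B) M) : c • x = 0 := by
  obtain ⟨-, ⟨e⟩, -⟩ :=
    Groth.Agent.S12283.result A B B (CotT.CanonRels A B) ι σ (CotT.canon A B) P M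
  have h := smul_T1_eq_zero_of_retraction A B P c ψ hψ M (e x)
  rw [← map_smul] at h
  exact e.injective (h.trans (map_zero e).symm)

/-- if `c` kills `T¹(B/A, I/I²)` then there is `ψ` with `ψ ∘ d = c • id`. -/
lemma exists_retraction_of_smul_eq_zero {ι σ : Type u} (P : Algebra.Presentation A B ι σ) (c : B)
    (h : ∀ x : CotT.T1 (CotT.canon A B) P.toExtension.Cotangent, c • x = 0) :
    ∃ ψ : P.toExtension.CotangentSpace →ₗ[B] P.toExtension.Cotangent,
      ψ ∘ₗ P.toExtension.cotangentComplex = c • LinearMap.id := by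
  obtain ⟨-, ⟨e⟩, -⟩ := Groth.Agent.S12283.result A B B (CotT.CanonRels A B) ι σ (CotT.canon A B) P
    P.toExtension.Cotangent
  obtain ⟨-, hker, -⟩ := Groth.Agent.S12289.result A B ι σ P P.toExtension.Cotangent
  have h0 : CotT.homToT1 P P.toExtension.Cotangent (c • LinearMap.id) = 0 := by
    rw [map_smul]
    have h1 := h (e.symm (CotT.homToT1 P P.toExtension.Cotangent LinearMap.id))
    rw [← map_smul] at h1
    exact e.symm.injective (h1.trans (map_zero e.symm).symm)
  rw [← LinearMap.mem_ker, hker] at h0
  obtain ⟨ψ, hψ⟩ := h0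
  exact ⟨ψ, hψ⟩

/-- if `T¹(B/A, (I/I²)_s) = 0` then there is `ψ` with `ψ ∘ d = s ^ n • id`. -/
lemma exists_retraction_of_subsingleton {ι σ : Type u} [Finite ι] [Finite σ]
    (P : Algebra.Presentation A B ι σ) (s : B)
    (h : Subsingleton (CotT.T1 (CotT.canon A B)
      (LocalizedModule (Submonoid.powers s) P.toExtension.Cotangent))) :
    ∃ (n : ℕ) (ψ : P.toExtension.CotangentSpace →ₗ[B] P.toExtension.Cotangent),
      ψ ∘ₗ P.toExtension.cotangentComplex = s ^ n • LinearMap.id := by
  set C := P.toExtension.Cotangent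
  set N := LocalizedModule (Submonoid.powers s) C
  let ℓ : C →ₗ[B] N := LocalizedModule.mkLinearMap (Submonoid.powers s) C
  obtain ⟨-, ⟨e⟩, -⟩ := Groth.Agent.S12283.result A B B (CotT.CanonRels A B) ι σ (CotT.canon A B) P N
  obtain ⟨-, hker, -⟩ := Groth.Agent.S12289.result A B ι σ P N
  have h0 : CotT.homToT1 P N ℓ = 0 := by
    apply e.symm.injective
    exact Subsingleton.elim _ _
  rw [← LinearMap.mem_ker, hker] at h0
  obtain ⟨ψ₀, hψ₀⟩ := h0
  replace hψ₀ : ψ₀ ∘ₗ P.toExtension.cotangentComplex = ℓ := hψ₀
  haveI : Fintype ι := Fintype.ofFinite ι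
  haveI : Module.Finite B P.toExtension.CotangentSpace := Module.Finite.of_basis P.cotangentSpaceBasis
  haveI : Module.Free B P.toExtension.CotangentSpace := Module.Free.of_basis P.cotangentSpaceBasis
  haveI : Module.FinitePresentation B P.toExtension.CotangentSpace :=
    Module.finitePresentation_of_projective _ _
  haveI : Module.Finite B C := Algebra.Extension.Cotangent.finite P.fg_ker
  obtain ⟨r, s', hr⟩ :=
    Module.FinitePresentation.exists_lift_of_isLocalizedModule (Submonoid.powers s) ℓ ψ₀
  have h2 : ℓ ∘ₗ (r ∘ₗ P.toExtension.cotangentComplex) = ℓ ∘ₗ ((s' : B) • LinearMap.id) := by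
    rw [← LinearMap.comp_assoc, hr]
    ext y
    simp only [LinearMap.comp_apply, LinearMap.smul_apply, LinearMap.id_apply, map_smul,
      Submonoid.smul_def]
    rw [← hψ₀]
    rfl
  obtain ⟨s'', hs''⟩ := Module.Finite.exists_smul_of_comp_eq_of_isLocalizedModule
    (Submonoid.powers s) ℓ _ _ h2
  obtain ⟨a, ha⟩ := s'.2
  obtain ⟨b, hb⟩ := s''.2
  refine ⟨b + a, (s'' : B) • r, ?_⟩
  rw [Submonoid.smul_def, Submonoid.smul_def] at hs''
  rw [LinearMap.smul_comp, hs'', smul_smul, pow_add, ← ha, ← hb]

end general

noncomputable section loc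

open Groth.Agent.Lib.Helper62.CotTNine Groth.Agent.Lib.Helper62.CotTLoc
  Groth.Agent.Lib.Helper62.CotTSmooth

variable (A B : Type u) [CommRing A] [CommRing B] [Algebra A B] (s : B)
  (Bs : Type u) [CommRing Bs] [Algebra B Bs] [Algebra A Bs] [IsScalarTower A B Bs]
  [IsLocalization.Away s Bs]
  (N : Type u) [AddCommGroup N] [Module Bs N] [Module B N] [IsScalarTower B Bs N]

include s in
/-- `T¹(B_s/A, N) = 0` iff `T¹(B/A, N) = 0` for `B_s`-modules `N`. -/
lemma subsingleton_T1_localization_iff :
    Subsingleton (CotT.T1 (CotT.canon A Bs) N) ↔ Subsingleton (CotT.T1 (CotT.canon A B) N) := by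
  obtain ⟨-, -, e1, -, -, δ₁, -, -, x2, -⟩ := nine_canon A B Bs N
  haveI : Algebra.FormallySmooth B Bs := Algebra.FormallySmooth.of_isLocalization (Submonoid.powers s)
  haveI h1 : Subsingleton (CotT.T1 (CotT.canon B Bs) N) :=
    (subsingleton_T1_iff_formallySmooth B Bs).mpr inferInstance N
  haveI h2 : Subsingleton (CotT.T2 (CotT.canon B Bs) N) :=
    subsingleton_T2_localization B Bs (Submonoid.powers s) N
  constructor
  · intro h
    refine ⟨fun x y => ?_⟩
    suffices ∀ x : CotT.T1 (CotT.canon A B) N, x = 0 by rw [this x, this y]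
    intro x
    obtain ⟨z, rfl⟩ := (x2 x).mp (Subsingleton.elim _ _)
    rw [Subsingleton.elim z 0, map_zero]
  · intro h
    refine ⟨fun x y => ?_⟩
    suffices ∀ x : CotT.T1 (CotT.canon A Bs) N, x = 0 by rw [this x, this y]
    intro x
    obtain ⟨z, rfl⟩ := (e1 x).mp (Subsingleton.elim _ _)
    rw [Subsingleton.elim z 0, map_zero]

include s Bs in
/-- if `s ^ n` kills `T¹(B/A, N)` and `N` is a `B_s`-module then `T¹(B/A, N) = 0`. -/
lemma subsingleton_T1_of_smul_eq_zero (n : ℕ)
    (h : ∀ x : CotT.T1 (CotT.canon A B) N, s ^ n • x = 0) :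
    Subsingleton (CotT.T1 (CotT.canon A B) N) := by
  refine ⟨fun x y => ?_⟩
  suffices ∀ x : CotT.T1 (CotT.canon A B) N, x = 0 by rw [this x, this y]
  intro x
  let u : Bs := IsLocalization.Away.invSelf s
  have hu : algebraMap B Bs s * u = 1 := IsLocalization.Away.mul_invSelf s
  let μ : N →ₗ[B] N := (LinearMap.lsmul Bs N (u ^ n)).restrictScalars B
  have key : s ^ n • CotT.T1map (CotT.canon A B) μ x = x := by
    obtain ⟨c, rfl⟩ := Submodule.Quotient.mk_surjective _ x
    change s ^ n • Submodule.Quotient.mk (CotT.cocycles1Map (CotT.canon A B) μ c) = _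
    rw [← Submodule.Quotient.mk_smul]
    congr 1
    apply Subtype.ext
    apply LinearMap.ext
    intro z
    change s ^ n • (u ^ n • (c : CotT.L1 (CotT.canon A B) →ₗ[B] N) z) = _
    rw [← algebraMap_smul Bs (s ^ n), smul_smul, map_pow, ← mul_pow, hu, one_pow, one_smul]
  rw [← key]
  exact h _

end loc

noncomputable section main

open Groth.Agent.Lib.Helper62.CotTSmooth

variable (A B : Type u) [CommRing A] [CommRing B] [Algebra A B]

theorem formallySmooth_away_iff [Algebra.FinitePresentation A B] (s : B) :
    Algebra.FormallySmooth A (Localization.Away s) ↔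
      ∃ n₀ : ℕ, ∀ (M : Type u) [AddCommGroup M] [Module B M] [Module.Finite B M],
        ∀ x : CotT.T1 (CotT.canon A B) M, s ^ n₀ • x = 0 := by
  let P₀ := Algebra.Presentation.ofFinitePresentation A B
  let P := P₀.reindex (Equiv.ulift.{u} (α := Fin (Algebra.Presentation.ofFinitePresentationVars A B)))
    (Equiv.ulift.{u} (α := Fin (Algebra.Presentation.ofFinitePresentationRels A B)))
  constructor
  · intro hsm
    have h1 : Subsingleton (CotT.T1 (CotT.canon A (Localization.Away s))
        (LocalizedModule (Submonoid.powers s) P.toExtension.Cotangent)) :=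
      (subsingleton_T1_iff_formallySmooth A (Localization.Away s)).mpr hsm _
    have h2 := (subsingleton_T1_localization_iff A B s (Localization.Away s) _).mp h1
    obtain ⟨n, ψ, hψ⟩ := exists_retraction_of_subsingleton A B P s h2
    exact ⟨n, fun M _ _ _ x => smul_T1_canon_eq_zero_of_retraction A B P _ ψ hψ M x⟩
  · rintro ⟨n₀, h⟩
    haveI : Module.Finite B P.toExtension.Cotangent := Algebra.Extension.Cotangent.finite P.fg_ker
    obtain ⟨ψ, hψ⟩ := exists_retraction_of_smul_eq_zero A B P (s ^ n₀) (h P.toExtension.Cotangent)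
    rw [← subsingleton_T1_iff_formallySmooth]
    intro N _ _
    letI : Module B N := Module.compHom N (algebraMap B (Localization.Away s))
    haveI : IsScalarTower B (Localization.Away s) N := IsScalarTower.of_compHom _ _ _
    rw [subsingleton_T1_localization_iff A B s (Localization.Away s) N]
    exact subsingleton_T1_of_smul_eq_zero A B s (Localization.Away s) N n₀
      (fun x => smul_T1_canon_eq_zero_of_retraction A B P _ ψ hψ N x)

end main

/-- Let k be an algebraically closed field, A a finitely generated k-algebra which is a domain, smooth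
over k and of Krull dimension one (the coordinate ring of a nonsingular affine curve T), t ∈ A an
element generating a maximal ideal (a point 0 of T), and B a finitely generated flat A-algebra (an
affine flat family X = Spec B over T). Then the following are equivalent: (i) B is smooth over A at
every prime of B not containing t, that is, every fibre of X over a point of T other than 0 is
smooth; (ii) there is an integer n₀ such that t^(n₀) annihilates the cotangent module T¹(B/A, M),
computed from the choice-free presentation of B over A, for every finitely generated B-module M. -/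
theorem result
    {k : Type u} [Field k] [IsAlgClosed k] (A B : Type u) [CommRing A] [CommRing B] [IsDomain A]
    [Algebra k A] [Algebra.FiniteType k A] [Algebra.Smooth k A] (hdim : ringKrullDim A = 1)
    (t : A) (ht : (Ideal.span {t}).IsMaximal)
    [Algebra A B] [Algebra.FiniteType A B] [Module.Flat A B] :
    (∀ q : PrimeSpectrum B, algebraMap A B t ∉ q.asIdeal → q ∈ Algebra.smoothLocus A B) ↔
    ∃ n₀ : ℕ, ∀ (M : Type u) [AddCommGroup M] [Module B M] [Module.Finite B M],
      ∀ x : CotT.T1 (CotT.canon A B) M, (algebraMap A B t) ^ n₀ • x = 0 := by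
  haveI : IsNoetherianRing A := Algebra.FiniteType.isNoetherianRing k A
  haveI : Algebra.FinitePresentation A B := Algebra.FinitePresentation.of_finiteType.mp inferInstance
  rw [← formallySmooth_away_iff A B (algebraMap A B t), ← Algebra.basicOpen_subset_smoothLocus_iff]
  constructor
  · intro h q hq
    exact h q hq
  · intro h q hq
    exact h hq

end Groth.Agent.S12305
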