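import Groth.Statements.S12314
-- import your own Groth.Agent.* helpers here

set_option autoImplicit false
universe u
open CategoryTheory CategoryTheory.Limits AlgebraicGeometry MonObj
open SGA7

namespace Groth.Agent.S12314

theorem tate_torsion_free {G : Type*} [AddCommGroup G] (l : ℕ) (hl : l.Prime) (x : ℕ → G)
    (htors : ∀ m, l ^ m • x m = 0) (hcompat : ∀ m, l • x (m + 1) = x m) (n : ℕ) (hn : 0 < n)
    (h : ∀ m, n • x m = 0) : ∀ m, x m = 0 := by
  have key : ∀ a m, l ^ a • x (m + a) = x m := by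
    intro a
    induction a with
    | zero => intro m; simp
    | succ a ih =>
      intro m
      rw [pow_succ, mul_smul, ← add_assoc, hcompat, ih]
  intro m
  rw [← key n m]
  have h1 : addOrderOf (x (m + n)) ∣ n := addOrderOf_dvd_of_nsmul_eq_zero (h _)
  have h2 : addOrderOf (x (m + n)) ∣ l ^ (m + n) := addOrderOf_dvd_of_nsmul_eq_zero (htors _)
  obtain ⟨j, -, hj⟩ := (Nat.dvd_prime_pow hl).mp h2
  have h3 : l ^ j ≤ n := Nat.le_of_dvd hn (hj ▸ h1)
  have h4 : j < l ^ j := Nat.lt_pow_self hl.one_lt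
  have h5 : addOrderOf (x (m + n)) ∣ l ^ n := by
    rw [hj]
    exact pow_dvd_pow l (by omega)
  exact addOrderOf_dvd_iff_nsmul_eq_zero.mp h5

/-- Let R be a henselian discrete valuation ring with fraction field K and residue field k, Ω a
separable closure of K, W a valuation subring of Ω lying over R, A and C abelian varieties over K
(proper, geometrically integral commutative group schemes), and u : C → A an isogeny, in the form:
there are a homomorphism v : A → C and an integer n > 0 with v ∘ u = n and u ∘ v = n. Let ℓ be a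
prime invertible in k and consider the ℓ-adic Tate modules of the Ω-points of C and A; call an
element fixed when all its components are fixed by the inertia group at W (for such ℓ the fixed part
is the inertia invariants). Then T_ℓ(u) maps the fixed part of T_ℓ(C) into the fixed part of T_ℓ(A)
and induces an isogeny between them: T_ℓ(u) is injective, and n times every fixed element of T_ℓ(A)
is the image of a fixed element of T_ℓ(C). (The case of a prime equal to the residue characteristic,
where the fixed part is defined through the Néron model, is not stated.) -/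
theorem result (R K Ω : Type u) [CommRing R] [IsDomain R] [IsDiscreteValuationRing R] [HenselianLocalRing R]
    [Field K] [Algebra R K] [IsFractionRing R K] [Field Ω] [Algebra K Ω] [IsSepClosure K Ω]
    (W : ValuationSubring Ω) (hW : SGA7.LiesOver K R W)
    (A C : Over (Spec (CommRingCat.of K))) [GrpObj A] [IsCommMonObj A] [IsProper A.hom] [GeometricallyIntegral A.hom]
    [GrpObj C] [IsCommMonObj C] [IsProper C.hom] [GeometricallyIntegral C.hom]
    (u : C ⟶ A) [IsMonHom u] (v : A ⟶ C) [IsMonHom v] (n : ℕ) (hn : 0 < n)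
    (huv : u ≫ v = (𝟙 C) ^ n) (hvu : v ≫ u = (𝟙 A) ^ n)
    (l : ℕ) (hl : l.Prime) (hlp : (l : IsLocalRing.ResidueField R) ≠ 0) :
    (∀ z : AbDual.TateMod C l (SGA7.pt Ω),
      (∀ (τ : Ω ≃ₐ[K] Ω) (m : ℕ), SGA7.IsInertia W τ →
        SGA7.galAct τ (AbDual.TateMod.component C l (SGA7.pt Ω) m z).toMul =
          (AbDual.TateMod.component C l (SGA7.pt Ω) m z).toMul) →
      (∀ (τ : Ω ≃ₐ[K] Ω) (m : ℕ), SGA7.IsInertia W τ →
        SGA7.galAct τ (AbDual.TateMod.component A l (SGA7.pt Ω) m (AbDual.tateMap u z)).toMul =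
          (AbDual.TateMod.component A l (SGA7.pt Ω) m (AbDual.tateMap u z)).toMul)) ∧
    (∀ z : AbDual.TateMod C l (SGA7.pt Ω), AbDual.tateMap (l := l) (T := SGA7.pt Ω) u z = 0 → z = 0) ∧
    (∀ y : AbDual.TateMod A l (SGA7.pt Ω),
      (∀ (τ : Ω ≃ₐ[K] Ω) (m : ℕ), SGA7.IsInertia W τ →
        SGA7.galAct τ (AbDual.TateMod.component A l (SGA7.pt Ω) m y).toMul =
          (AbDual.TateMod.component A l (SGA7.pt Ω) m y).toMul) →
      ∃ z : AbDual.TateMod C l (SGA7.pt Ω),
        (∀ (τ : Ω ≃ₐ[K] Ω) (m : ℕ), SGA7.IsInertia W τ →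
        SGA7.galAct τ (AbDual.TateMod.component C l (SGA7.pt Ω) m z).toMul =
          (AbDual.TateMod.component C l (SGA7.pt Ω) m z).toMul) ∧
        AbDual.tateMap (l := l) (T := SGA7.pt Ω) u z = n • y) := by
  have hfix : ∀ (X Y : Over (Spec (CommRingCat.of K))) [GrpObj X] [IsCommMonObj X] [GrpObj Y]
      [IsCommMonObj Y] (f : X ⟶ Y) [IsMonHom f] (z : AbDual.TateMod X l (SGA7.pt Ω)),
      (∀ (τ : Ω ≃ₐ[K] Ω) (m : ℕ), SGA7.IsInertia W τ →
        SGA7.galAct τ (AbDual.TateMod.component X l (SGA7.pt Ω) m z).toMul =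
          (AbDual.TateMod.component X l (SGA7.pt Ω) m z).toMul) →
      (∀ (τ : Ω ≃ₐ[K] Ω) (m : ℕ), SGA7.IsInertia W τ →
        SGA7.galAct τ (AbDual.TateMod.component Y l (SGA7.pt Ω) m (AbDual.tateMap f z)).toMul =
          (AbDual.TateMod.component Y l (SGA7.pt Ω) m (AbDual.tateMap f z)).toMul) := by
    intro X Y _ _ _ _ f _ z hz τ m hτ
    rw [AbDual.tateMap_component]
    have := hz τ m hτ
    unfold SGA7.galAct at this ⊢
    rw [← Category.assoc, this]
  have hcomp : ∀ (X Y : Over (Spec (CommRingCat.of K))) [GrpObj X] [IsCommMonObj X] [GrpObj Y]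
      [IsCommMonObj Y] (f : X ⟶ Y) [IsMonHom f] (g : Y ⟶ X) [IsMonHom g]
      (hfg : f ≫ g = (𝟙 X) ^ n) (z : AbDual.TateMod X l (SGA7.pt Ω)),
      AbDual.tateMap (l := l) (T := SGA7.pt Ω) g (AbDual.tateMap f z) = n • z := by
    intro X Y _ _ _ _ f _ g _ hfg z
    apply AbDual.TateMod.ext
    intro m
    change Additive.ofMul ((((z : ℕ → Additive (SGA7.pt Ω ⟶ X)) m).toMul ≫ f) ≫ g) =
      n • (z : ℕ → Additive (SGA7.pt Ω ⟶ X)) m
    rw [Category.assoc, hfg, MonObj.comp_pow, Category.comp_id]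
    rfl
  refine ⟨fun z hz => hfix C A u z hz, ?_, ?_⟩
  · intro z hz
    have h1 := hcomp C A u v huv z
    rw [hz, map_zero] at h1
    have h2 : ∀ m, n • (z : ℕ → Additive (SGA7.pt Ω ⟶ C)) m = 0 := by
      intro m
      have := congrArg (fun w : AbDual.TateMod C l (SGA7.pt Ω) =>
        (w : ℕ → Additive (SGA7.pt Ω ⟶ C)) m) h1
      exact this.symm
    apply AbDual.TateMod.ext
    intro m
    exact tate_torsion_free l hl (z : ℕ → Additive (SGA7.pt Ω ⟶ C)) z.torsion z.compat n hn h2 m
  · intro y hy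
    exact ⟨AbDual.tateMap v y, hfix A C v y hy, hcomp A C v u hvu y⟩

end Groth.Agent.S12314
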