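import Groth.Statements.S12315
import Groth.Agent.Lib.Helper9.ArtTangent
import Groth.Agent.S12714
import Groth.Prelude.Def_W4sfdMinVersal
-- import your own Groth.Agent.* helpers here

set_option autoImplicit false
universe u v
open CategoryTheory
open SGA7

namespace Groth.Agent.S12315

/-- Let Λ be a complete Noetherian local ring with residue field k (the map Λ → k surjective), and
consider functors on the category of local Artinian Λ-algebras with residue field k. Let F be such a
functor, R a complete local Noetherian Λ-algebra with residue field k, and ξ a family of F over R (a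
morphism h_R → F) which is injective on k[ε]: distinct augmented Λ-algebra maps R → k[ε] give
distinct elements of F(k[ε]). Then every endomorphism of the pair (R, ξ), that is every Λ-algebra
map α : R → R compatible with the augmentation such that transporting ξ along α gives back ξ, is an
automorphism of R. (The published statement is for formal objects of a cofibred groupoid; this row
is the case of a set-valued functor.) -/
theorem result (Λ k : Type u) [CommRing Λ] [IsLocalRing Λ] [IsNoetherianRing Λ]
    [IsAdicComplete (IsLocalRing.maximalIdeal Λ) Λ] [Field k] [Algebra Λ k]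
    (hk : Function.Surjective (algebraMap Λ k))
    (F : ArtFun.Art Λ k ⥤ Type v) (R : ArtFun.CRing Λ k) (ξ : ArtFun.Family R.carrier R.res F)
    (hinj : Function.Injective (ξ.app (ArtFun.Art.dual Λ k)))
    (α : R.carrier →ₐ[Λ] R.carrier) (hα : R.res.comp α = R.res) (hξ : ξ.along α hα = ξ) :
    Function.Bijective α := by
  have hfin : Module.Finite Λ k := Module.Finite.of_surjective (Algebra.linearMap Λ k) hk
  -- every tangent vector of `R` is fixed by `α`
  have hψ : ∀ ψ : ArtFun.HomSet R.carrier R.res (ArtFun.Art.dual Λ k), ψ.1.comp α = ψ.1 := by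
    intro ψ
    have h1 : (ξ.along α hα).app (ArtFun.Art.dual Λ k) ψ = ξ.app (ArtFun.Art.dual Λ k) ψ := by
      rw [hξ]
    have h2 := hinj h1
    exact congrArg Subtype.val h2
  set m := IsLocalRing.maximalIdeal R.carrier with hm
  set I : Ideal R.carrier := Ideal.map (algebraMap Λ R.carrier) (RingHom.ker (algebraMap Λ k)) ⊔
    Ideal.map α m ⊔ m ^ 2 with hI
  have hI1 : Ideal.map (algebraMap Λ R.carrier) (RingHom.ker (algebraMap Λ k)) ≤ m := by
    rw [Ideal.map_le_iff_le_comap]
    intro c hc
    rw [Ideal.mem_comap, hm, ArtFun.CRing.mem_maximalIdeal_iff, AlgHom.commutes]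
    exact hc
  have hI2 : Ideal.map α m ≤ m := by
    rw [Ideal.map_le_iff_le_comap]
    exact ArtFun.CRing.maximalIdeal_le_comap (R' := R) (R := R) α hα
  have hI3 : m ^ 2 ≤ m := Ideal.pow_le_self two_ne_zero
  have hIm : I ≤ m := sup_le (sup_le hI1 hI2) hI3
  have hcond : I = m := by
    apply le_antisymm hIm
    intro x hxm
    by_contra hx
    obtain ⟨ψ, hψ1, hψ2, hψ3⟩ := Groth.Agent.Lib.Helper9.exists_tangent_of_not_mem R.res
      R.res_surjective hk I hIm le_sup_right
      (fun c hc => le_sup_left (α := Ideal R.carrier)
        (le_sup_left (α := Ideal R.carrier) (Ideal.mem_map_of_mem _ hc))) x hxm hx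
    have h3 := hψ ⟨ψ, hψ1⟩
    have h4 : ψ (α x) = ψ x := congrArg (fun t : R.carrier →ₐ[Λ] _ => t x) h3
    apply hψ3
    rw [← h4]
    apply hψ2
    exact le_sup_left (α := Ideal R.carrier)
      (le_sup_right (α := Ideal R.carrier) (Ideal.mem_map_of_mem _ hxm))
  have htfae := Groth.Agent.S12714.result R R α hα
  have hsurj : Function.Surjective α := (htfae.out 2 0).1 hcond
  refine ⟨?_, hsurj⟩
  exact Groth.Agent.Lib.Helper9.injective_of_surjective_ringEnd (α : R.carrier →+* R.carrier) hsurj

end Groth.Agent.S12315
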