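import Groth.Statements.S12316
import Groth.Agent.Lib.Helper9.ArtFun
import Groth.Agent.Lib.Helper9.ArtFibre
import Groth.Agent.S12707
-- import your own Groth.Agent.* helpers here

set_option autoImplicit false
universe u v
open CategoryTheory
open SGA7

namespace Groth.Agent.S12316

/-- Suppose Λ is a Noetherian local ring, complete for its maximal ideal, whose residue field is k (so Λ
→ k is surjective), and work with functors defined on the category of local Artinian Λ-algebras
having residue field k. Take morphisms φ : F → G and ψ : G → H of such functors. Assume that each of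
F(k), G(k), H(k) consists of a single point; that for G the comparison map on fibre products A₁ ×_A
A₂ is surjective as soon as A₂ → A is surjective, and is bijective for products of the form A' ×_k
k[ε]; that for H the comparison map is bijective on every fibre product A₁ ×_A A₂ with A₂ → A
surjective; and that the induced map on tangent spaces G(k[ε]) → H(k[ε]) coming from ψ is injective.
Under these assumptions, φ ≫ ψ is smooth if and only if both φ and ψ are smooth. (The published
statement is for functors of cofibred groupoids with G semi-homogeneous and H homogeneous; this row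
is the case of set-valued functors.) -/
theorem result (Λ k : Type u) [CommRing Λ] [IsLocalRing Λ] [IsNoetherianRing Λ]
    [IsAdicComplete (IsLocalRing.maximalIdeal Λ) Λ] [Field k] [Algebra Λ k]
    (hk : Function.Surjective (algebraMap Λ k))
    {F G H : ArtFun.Art Λ k ⥤ Type v} (φ : F ⟶ G) (ψ : G ⟶ H)
    (hF : ArtFun.H0 F) (hG : ArtFun.H0 G ∧ ArtFun.S1 G ∧ ArtFun.Heps G) (hH0 : ArtFun.H0 H)
    (hH : ∀ ⦃B A A' A'' : ArtFun.Art Λ k⦄ (p' : B ⟶ A') (p'' : B ⟶ A'') (f' : A' ⟶ A) (f'' : A'' ⟶ A)
      (h : ArtFun.Art.IsFibreProd p' p'' f' f''), Function.Surjective f'' → Function.Bijective (ArtFun.cmp H h))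
    (hψ : Function.Injective (ArtFun.TangentSpace.map ψ)) :
    ArtFun.IsSmooth (φ ≫ ψ) ↔ (ArtFun.IsSmooth φ ∧ ArtFun.IsSmooth ψ) := by
  have hfin : Module.Finite Λ k := Module.Finite.of_surjective (Algebra.linearMap Λ k) hk
  have hk0 : IsArtinian Λ k := Groth.Agent.Lib.Helper9.isArtinian_of_surjective_algebraMap_field hk
  have happ : ∀ (A : ArtFun.Art Λ k) (x : F.obj A), (φ ≫ ψ).app A x = ψ.app A (φ.app A x) :=
    fun _ _ => rfl
  constructor
  · intro hsm
    -- objectwise surjectivity of `φ ≫ ψ`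
    have hsurj : ∀ (A : ArtFun.Art Λ k) (z : H.obj A), ∃ w : F.obj A, (φ ≫ ψ).app A w = z := by
      intro A z
      obtain ⟨x₀⟩ := hF.1
      obtain ⟨w, hw⟩ := hsm (ArtFun.Art.toBase A) A.res_surjective
        ⟨(x₀, z), @Subsingleton.elim _ hH0.2 _ _⟩
      exact ⟨w, congrArg (fun t => t.1.2) hw⟩
    -- objectwise injectivity of `ψ`
    have hrel : ∀ ⦃A B : ArtFun.Art Λ k⦄ (f : B ⟶ A), Function.Surjective f →
        ∀ y₁ y₂ : G.obj B, ψ.app B y₁ = ψ.app B y₂ → G.map f y₁ = G.map f y₂ → y₁ = y₂ := by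
      intro A B f hf
      refine Groth.Agent.S12707.result
        (fun A B (f : B ⟶ A) => ∀ y₁ y₂ : G.obj B, ψ.app B y₁ = ψ.app B y₂ →
          G.map f y₁ = G.map f y₂ → y₁ = y₂) ?_ ?_ ?_ f hf
      · intro A B e he y₁ y₂ _ h2
        have := congrArg (G.map (inv e)) h2
        rwa [← Functor.map_comp_apply, ← Functor.map_comp_apply, IsIso.hom_inv_id,
          Functor.map_id_apply, Functor.map_id_apply] at this
      · intro A B p hp y₁ y₂ h1 h2
        exact Groth.Agent.Lib.Helper9.smallExt_rel_injective ψ hG.2.1 hG.2.2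
          (fun B A A' A'' p' p'' f' f'' h hs => (hH p' p'' f' f'' h hs).1) hψ p hp
          (Groth.Agent.Lib.Helper9.exists_isFibreProd_of_surjective' hk0 p p hp.1) y₁ y₂ h1 h2
      · intro A B C p q hp hq y₁ y₂ h1 h2
        apply hp y₁ y₂ h1
        apply hq
        · rw [NatTrans.naturality_apply, NatTrans.naturality_apply, h1]
        · rw [← Functor.map_comp_apply, ← Functor.map_comp_apply]
          exact h2
    have hinj : ∀ A : ArtFun.Art Λ k, Function.Injective (ψ.app A) := by
      intro A y₁ y₂ h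
      exact hrel (ArtFun.Art.toBase A) A.res_surjective y₁ y₂ h (@Subsingleton.elim _ hG.1.2 _ _)
    constructor
    · -- `φ` is smooth
      intro B A μ hμ ⟨⟨x, y⟩, hxy⟩
      have hxy' : φ.app A x = G.map μ y := hxy
      obtain ⟨w, hw⟩ := hsm μ hμ ⟨(x, ψ.app B y), by
        change (φ ≫ ψ).app A x = H.map μ (ψ.app B y)
        rw [happ, hxy', NatTrans.naturality_apply]⟩
      have hw1 : F.map μ w = x := congrArg (fun t => t.1.1) hw
      have hw2 : (φ ≫ ψ).app B w = ψ.app B y := congrArg (fun t => t.1.2) hw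
      refine ⟨w, Subtype.ext (Prod.ext hw1 ?_)⟩
      exact hinj B hw2
    · -- `ψ` is smooth
      intro B A μ hμ ⟨⟨y, z⟩, hyz⟩
      have hyz' : ψ.app A y = H.map μ z := hyz
      obtain ⟨w, hw⟩ := hsurj B z
      refine ⟨φ.app B w, Subtype.ext (Prod.ext ?_ hw)⟩
      apply hinj A
      change ψ.app A (G.map μ (φ.app B w)) = ψ.app A y
      rw [NatTrans.naturality_apply, hyz', ← hw]
      rfl
  · rintro ⟨h1, h2⟩
    intro B A μ hμ ⟨⟨x, z⟩, hxz⟩
    have hxz' : ψ.app A (φ.app A x) = H.map μ z := hxz
    obtain ⟨y, hy⟩ := h2 μ hμ ⟨(φ.app A x, z), hxz'⟩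
    have hy1 : G.map μ y = φ.app A x := congrArg (fun t => t.1.1) hy
    have hy2 : ψ.app B y = z := congrArg (fun t => t.1.2) hy
    obtain ⟨w, hw⟩ := h1 μ hμ ⟨(x, y), hy1.symm⟩
    have hw1 : F.map μ w = x := congrArg (fun t => t.1.1) hw
    have hw2 : φ.app B w = y := congrArg (fun t => t.1.2) hw
    refine ⟨w, Subtype.ext (Prod.ext hw1 ?_)⟩
    change (φ ≫ ψ).app B w = z
    rw [happ, hw2, hy2]

end Groth.Agent.S12316
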