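import Groth.Statements.S12321
import Groth.Agent.Lib.Helper9.ArtHullStep
import Groth.Agent.Lib.Helper9.ArtSmoothRing
import Groth.Agent.Lib.Helper64.ProRepCriteria
-- import your own Groth.Agent.* helpers here

set_option autoImplicit false
universe u v
open CategoryTheory
open SGA7

open ArtFun ArtFun.Art Groth.Agent.Lib.Helper9

namespace Groth.Agent.S12321

/-- Suppose Λ is a Noetherian local ring that is complete, and k is its residue field, so the map Λ → k
is surjective. We look at functors on the category of local Artinian Λ-algebras whose residue field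
is k. Take such a functor F for which F(k) is a single point, the comparison map F(A₁ ×_A A₂) →
F(A₁) ×_{F(A)} F(A₂) is surjective whenever A₂ → A is surjective, and this map is bijective for A'
×_k k[ε]. Call an element a ∈ F(R) versal for small prolongations of the base point when, for each
object R₀ whose augmentation R₀ → k is a small extension and each b ∈ F(R₀), some morphism R → R₀
sends a to b. Assume a ∈ F(R) has this property. Then one can find an object R', a morphism q : R' →
R and an element a' ∈ F(R') whose image is a, satisfying the following. First, q is surjective and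
the maximal ideal annihilates its kernel. Second, q induces an isomorphism m_{R'}/(m_{R'}² + m_Λ R')
→ m_R/(m_R² + m_Λ R) between relative cotangent spaces (only injectivity is stated; surjectivity
comes for free). Third, a' is versal for small prolongations of a: given any small extension π₁ : R₁
→ R and any a₁ ∈ F(R₁) with image a, there is f : R' → R₁ satisfying f ≫ π₁ = q and sending a' to
a₁. (The published statement concerns semi-homogeneous cofibred groupoids; this row treats the case
of set-valued functors.) -/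
theorem result (Λ k : Type u) [CommRing Λ] [IsLocalRing Λ] [IsNoetherianRing Λ]
    [IsAdicComplete (IsLocalRing.maximalIdeal Λ) Λ] [Field k] [Algebra Λ k]
    (hk : Function.Surjective (algebraMap Λ k))
    (F : ArtFun.Art Λ k ⥤ Type v) (hF : ArtFun.H0 F ∧ ArtFun.S1 F ∧ ArtFun.Heps F)
    (R : ArtFun.Art Λ k) (a : F.obj R)
    (hvers : ∀ (R₀ : ArtFun.Art Λ k), ArtFun.Art.IsSmallExt (ArtFun.Art.toBase R₀) →
      ∀ b : F.obj R₀, ∃ φ : R ⟶ R₀, F.map φ a = b) :
    ∃ (R' : ArtFun.Art Λ k) (q : R' ⟶ R) (a' : F.obj R'), F.map q a' = a ∧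
      ArtFun.Art.IsSemismallExt q ∧
      (∀ x' : R', x' ∈ IsLocalRing.maximalIdeal (R' : Type u) →
        q x' ∈ (IsLocalRing.maximalIdeal (R : Type u)) ^ 2 ⊔ (IsLocalRing.maximalIdeal Λ).map (algebraMap Λ R) →
        x' ∈ (IsLocalRing.maximalIdeal (R' : Type u)) ^ 2 ⊔ (IsLocalRing.maximalIdeal Λ).map (algebraMap Λ R')) ∧
      ∀ (R₁ : ArtFun.Art Λ k) (π₁ : R₁ ⟶ R), ArtFun.Art.IsSmallExt π₁ →
        ∀ a₁ : F.obj R₁, F.map π₁ a₁ = a → ∃ f : R' ⟶ R₁, f ≫ π₁ = q ∧ F.map f a' = a₁ := by
  classical
  obtain ⟨h0, h1, h2⟩ := hF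
  haveI : Module.Finite Λ k := Groth.Agent.Lib.Helper64.finite_of_algebraMap_surjective hk
  have hkerΛ : RingHom.ker (algebraMap Λ k) = IsLocalRing.maximalIdeal Λ :=
    IsLocalRing.eq_maximalIdeal (RingHom.ker_isMaximal_of_surjective _ hk)
  have htan : ∀ y : F.obj (dual Λ k), ∃ φ : R ⟶ dual Λ k, F.map φ a = y :=
    fun y => hvers (dual Λ k) isSmallExt_toBase_dual y
  obtain ⟨S, π, hS, hπ⟩ := exists_smooth_cring_surjective R
  obtain ⟨A', π', μ, x', hπ', hμπ, hx', hmin, hsemi⟩ := exists_next_stage S h1 R π hπ a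
  have hL0 : LiftMod μ x' ⊥ := by
    intro R₁ π₁ hπ₁ a₁ ha₁
    rw [hx'] at ha₁
    obtain ⟨f, hf1, hf2⟩ := exists_lift_nextStage hS h1 h2 π hπ a htan π' μ x' hπ' hμπ hx' hmin
      π₁ hπ₁ a₁ ha₁
    refine ⟨homSetOf f, ?_, ?_, ?_⟩
    · intro r hr
      rw [Ideal.mem_bot] at hr
      rw [hr]
      exact map_zero _
    · rw [← homSetOf_comp, hf1]
    · rw [eltFamily_app, homOf_homSetOf, hf2]
  have htan' : ∀ y : F.obj (dual Λ k), ∃ φ : R ⟶ dual Λ k, F.map φ (F.map μ x') = y := by
    rw [hx']; exact htan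
  obtain ⟨N', hN'ker, hLN', hkerle⟩ := exists_liftMod_max hk h2 μ x' htan' ⊥ bot_le hL0
  have hN'm : N' ≤ IsLocalRing.maximalIdeal A' := hN'ker.trans (art_ker_le_maximalIdeal μ)
  refine ⟨Art.quot A' N' hN'm, Art.quotFactor hN'm μ hN'ker, F.map (Art.quotMk A' N' hN'm) x',
    ?_, isSemismallExt_quotFactor hN'm μ hN'ker hsemi, ?_, ?_⟩
  · rw [← Functor.map_comp_apply, Art.quotMk_quotFactor, hx']
  · intro z hz hqz
    obtain ⟨y, rfl⟩ := Art.quotMk_surjective A' N' hN'm z
    have hqy : Art.quotFactor hN'm μ hN'ker (Art.quotMk A' N' hN'm y) = μ y := rfl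
    rw [hqy] at hqz
    -- the ideal `I'` of `A'`
    set I' : Ideal A' := IsLocalRing.maximalIdeal A' ^ 2 ⊔
      (IsLocalRing.maximalIdeal Λ).map (algebraMap Λ A') with hI'
    have hrel : relIdeal A' = I' := by
      rw [relIdeal, hkerΛ]
    have hmap : IsLocalRing.maximalIdeal (R : Type u) ^ 2 ⊔
        (IsLocalRing.maximalIdeal Λ).map (algebraMap Λ R) ≤ Ideal.map μ.toAlgHom I' := by
      rw [hI', Ideal.map_sup, Ideal.map_pow]
      apply sup_le_sup
      · apply Ideal.pow_right_mono
        intro r hr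
        obtain ⟨c, rfl⟩ := hsemi.1 r
        apply Ideal.mem_map_of_mem
        rw [Art.mem_maximalIdeal_iff] at hr ⊢
        rw [← hr]
        exact (Art.res_app μ c).symm
      · rw [Ideal.map_le_iff_le_comap]
        intro l hl
        rw [Ideal.mem_comap]
        have : algebraMap Λ R l = μ.toAlgHom (algebraMap Λ A' l) := (AlgHom.commutes _ l).symm
        rw [this]
        exact Ideal.mem_map_of_mem _ (Ideal.mem_map_of_mem _ hl)
    obtain ⟨z', hz'I, hz'⟩ := (Ideal.mem_map_iff_of_surjective μ.toAlgHom hsemi.1).1 (hmap hqz)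
    have hdiff : y - z' ∈ relIdeal A' ⊔ N' := by
      apply hkerle
      rw [RingHom.mem_ker, map_sub, hz']
      exact sub_self _
    rw [hrel] at hdiff
    have hy : y ∈ I' ⊔ N' := by
      have := Ideal.add_mem _ hdiff (Ideal.mem_sup_left (T := N') hz'I)
      rwa [sub_add_cancel] at this
    obtain ⟨i, hi, n, hn, rfl⟩ := Submodule.mem_sup.1 hy
    have hn0 : Art.quotMk A' N' hN'm n = 0 := Ideal.Quotient.eq_zero_iff_mem.2 hn
    have hsplit : Art.quotMk A' N' hN'm (i + n) = Art.quotMk A' N' hN'm i := by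
      change (Art.quotMk A' N' hN'm).toAlgHom (i + n) = (Art.quotMk A' N' hN'm).toAlgHom i
      rw [map_add]
      change _ + Art.quotMk A' N' hN'm n = _
      rw [hn0, add_zero]
    rw [hsplit]
    have hle : Ideal.map (Art.quotMk A' N' hN'm).toAlgHom I' ≤
        IsLocalRing.maximalIdeal (Art.quot A' N' hN'm : Type u) ^ 2 ⊔
          (IsLocalRing.maximalIdeal Λ).map (algebraMap Λ (Art.quot A' N' hN'm)) := by
      rw [hI', Ideal.map_sup, Ideal.map_pow]
      apply sup_le_sup
      · apply Ideal.pow_right_mono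
        rw [Ideal.map_le_iff_le_comap]
        intro r hr
        rw [Ideal.mem_comap]
        rw [Art.mem_maximalIdeal_iff] at hr ⊢
        rw [← hr]
        exact Art.res_app (Art.quotMk A' N' hN'm) r
      · rw [Ideal.map_le_iff_le_comap]
        rw [Ideal.map_le_iff_le_comap]
        intro l hl
        rw [Ideal.mem_comap, Ideal.mem_comap]
        rw [AlgHom.commutes]
        exact Ideal.mem_map_of_mem _ hl
    exact hle (Ideal.mem_map_of_mem _ hi)
  · intro R₁ π₁ hπ₁ a₁ ha₁
    obtain ⟨w, hwN, hwμ, hwa⟩ := hLN' π₁ hπ₁ a₁ (by rw [hx']; exact ha₁)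
    have hwker : N' ≤ RingHom.ker (homOf w).toAlgHom := fun r hr => hwN r hr
    refine ⟨Art.quotFactor hN'm (homOf w) hwker, ?_, ?_⟩
    · apply Art.hom_ext
      apply AlgHom.ext
      intro z
      obtain ⟨y, rfl⟩ := Art.quotMk_surjective A' N' hN'm z
      change π₁ (w.1 y) = μ y
      exact congrArg (fun t : HomSet A'.carrier A'.res R => t.1 y) hwμ
    · rw [← Functor.map_comp_apply, Art.quotMk_quotFactor]
      exact hwa

end Groth.Agent.S12321
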