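import Groth.Statements.S12417
import Mathlib
-- import your own Groth.Agent.* helpers here

set_option autoImplicit false
universe u
open CategoryTheory AlgebraicGeometry
open Props

namespace Groth.Agent.S12417


open TopologicalSpace in
lemma fin_cover {α : Type*} [TopologicalSpace α] (B : Set (Opens α)) (U : Opens α)
    (hU : IsCompact (U : Set α))
    (hB : ∀ x ∈ U, ∃ V ∈ B, x ∈ V ∧ V ≤ U) :
    ∃ (n : ℕ) (V : Fin n → Opens α), (∀ i, V i ∈ B) ∧ ⨆ i, V i = U := by
  classical
  choose! V hVB hxV hVU using hB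
  obtain ⟨t, ht⟩ := hU.elim_finite_subcover (fun x : U => ((V x : Opens α) : Set α))
    (fun x => (V x).isOpen) (by
      intro x hx; exact Set.mem_iUnion.mpr ⟨⟨x, hx⟩, hxV x hx⟩)
  refine ⟨t.card, fun i => V (t.equivFin.symm i), fun i => hVB _ (t.equivFin.symm i).1.2, ?_⟩
  apply le_antisymm
  · exact iSup_le fun i => hVU _ (t.equivFin.symm i).1.2
  · intro x hx
    have := ht hx
    simp only [Set.mem_iUnion] at this
    obtain ⟨y, hyt, hxy⟩ := this
    rw [Opens.mem_iSup]
    refine ⟨t.equivFin ⟨y, hyt⟩, ?_⟩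
    simpa using hxy

/-- Let X be a quasi-compact quasi-separated scheme and P a property of opens of X such that (a) P holds
for every affine open, and (b) whenever a quasi-compact open U has a finite affine open covering U =
V_1 ∪ … ∪ V_n with P holding for every intersection V_i ∩ V_j, P holds for U. Then P holds for every
quasi-compact open of X. -/
theorem result (X : Scheme.{u}) [CompactSpace X] [QuasiSeparatedSpace X]
    (P : X.Opens → Prop) (ha : ∀ U : X.Opens, IsAffineOpen U → P U)
    (hb : ∀ (U : X.Opens) (n : ℕ) (V : Fin n → X.Opens), IsCompact (U : Set X) →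
      (∀ i, IsAffineOpen (V i)) → ⨆ i, V i = U → (∀ i j, P (V i ⊓ V j)) → P U)
    (U : X.Opens) (hU : IsCompact (U : Set X)) : P U := by
  -- Step 1: compact opens inside an affine open
  have step1 : ∀ (V W : X.Opens), IsAffineOpen V → W ≤ V → IsCompact (W : Set X) → P W := by
    intro V W hV hWV hW
    obtain ⟨n, D, hD, hsup⟩ := fin_cover (Set.range (fun f : Γ(X, V) => X.basicOpen f)) W hW (by
      intro x hx
      obtain ⟨f, hf1, hf2⟩ := hV.exists_basicOpen_le (V := W) ⟨x, hx⟩ (hWV hx)
      exact ⟨_, ⟨f, rfl⟩, hf2, hf1⟩)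
    choose f hf using hD
    refine hb W n D hW (fun i => ?_) hsup (fun i j => ?_)
    · rw [← hf i]; exact hV.basicOpen (f i)
    · apply ha
      rw [← hf i, ← hf j]
      change IsAffineOpen (X.basicOpen (f i) ⊓ X.basicOpen (f j))
      rw [← Scheme.basicOpen_mul]
      exact hV.basicOpen _
  -- Step 2
  obtain ⟨n, V, hV, hsup⟩ := fin_cover {V : X.Opens | IsAffineOpen V} U hU (by
    intro x hx
    obtain ⟨V, hV, hxV, hVU⟩ := (TopologicalSpace.Opens.isBasis_iff_nbhd.mp X.isBasis_affineOpens) hx
    exact ⟨V, hV, hxV, hVU⟩)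
  refine hb U n V hU hV hsup (fun i j => ?_)
  apply step1 (V i) _ (hV i) inf_le_left
  exact QuasiSeparatedSpace.inter_isCompact _ _ (V i).isOpen (hV i).isCompact (V j).isOpen (hV j).isCompact

end Groth.Agent.S12417
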