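import Groth.Statements.S12421
import Mathlib
-- import your own Groth.Agent.* helpers here

set_option autoImplicit false
universe u
open TensorProduct
open Desc

namespace Groth.Agent.S12421


section aux

variable (R A : Type u) [CommRing R] [CommRing A] [Algebra R A]

/-- multiplication of the first two tensor factors -/
noncomputable def mulL (P : Type u) [AddCommGroup P] [Module R P] :
    A ⊗[R] (A ⊗[R] P) →ₗ[R] A ⊗[R] P :=
  (LinearMap.mul' R A).rTensor P ∘ₗ (TensorProduct.assoc R A A P).symm.toLinearMap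

@[simp] lemma mulL_tmul (P : Type u) [AddCommGroup P] [Module R P] (a b : A) (p : P) :
    mulL R A P (a ⊗ₜ (b ⊗ₜ p)) = (a * b) ⊗ₜ p := by
  simp [mulL]

variable (M : Type u) [AddCommGroup M] [Module R M]

/-- contraction: multiply the outer factor into the first inner algebra factor -/
noncomputable def contr (N : Type u) [AddCommGroup N] [Module R N] :
    A ⊗[R] (M ⊗[R] (A ⊗[R] N)) →ₗ[R] A ⊗[R] (M ⊗[R] N) :=
  mulL R A (M ⊗[R] N) ∘ₗ LinearMap.lTensor A (TensorProduct.leftComm R M A N).toLinearMap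

@[simp] lemma contr_tmul (N : Type u) [AddCommGroup N] [Module R N] (a r : A) (m : M) (n : N) :
    contr R A M N (a ⊗ₜ (m ⊗ₜ (r ⊗ₜ n))) = (a * r) ⊗ₜ (m ⊗ₜ n) := by
  simp [contr]

noncomputable def d1 : M ⊗[R] A →ₗ[R] M ⊗[R] (A ⊗[R] A) :=
  (LinearMap.lTensor M (Algebra.TensorProduct.includeRight : A →ₐ[R] A ⊗[R] A).toLinearMap -
        LinearMap.lTensor M
          (Algebra.TensorProduct.includeLeft : A →ₐ[R] A ⊗[R] A).toLinearMap)

noncomputable def d2 : M ⊗[R] (A ⊗[R] A) →ₗ[R] M ⊗[R] (A ⊗[R] (A ⊗[R] A)) :=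
  (LinearMap.lTensor M
          (Algebra.TensorProduct.includeRight : A ⊗[R] A →ₐ[R] A ⊗[R] (A ⊗[R] A)).toLinearMap -
        LinearMap.lTensor M
          (Algebra.TensorProduct.map (AlgHom.id R A)
            (Algebra.TensorProduct.includeRight : A →ₐ[R] A ⊗[R] A)).toLinearMap +
        LinearMap.lTensor M
          (Algebra.TensorProduct.map (AlgHom.id R A)
            (Algebra.TensorProduct.includeLeft : A →ₐ[R] A ⊗[R] A)).toLinearMap)

lemma d2_comp_d1 : d2 R A M ∘ₗ d1 R A M = 0 := by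
  ext m a
  simp [d1, d2]

lemma homotopy_identity :
    contr R A M (A ⊗[R] A) ∘ₗ (d2 R A M).lTensor A + (d1 R A M).lTensor A ∘ₗ contr R A M A =
      LinearMap.id := by
  ext a m r₁ r₂
  simp [d1, d2]

end aux

/-- Let R → R' be faithfully flat and M an R-module. With δ¹ : M ⊗ R' → M ⊗ (R' ⊗ R'), m ⊗ r ↦ m ⊗ (1 ⊗
r) − m ⊗ (r ⊗ 1), and δ² : M ⊗ (R' ⊗ R') → M ⊗ (R' ⊗ (R' ⊗ R')), m ⊗ x ↦ m ⊗ (1 ⊗ x) − m ⊗ (ins₁ x)
+ m ⊗ (ins₂ x), where ins₁ (r₁ ⊗ r₂) = r₁ ⊗ (1 ⊗ r₂) and ins₂ (r₁ ⊗ r₂) = r₁ ⊗ (r₂ ⊗ 1), the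
sequence M ⊗ R' → M ⊗ R'^{⊗2} → M ⊗ R'^{⊗3} is exact: the kernel of δ² is the image of δ¹. (The
published statement asserts exactness of the whole complex; this row states exactness at M ⊗ R′ ⊗ R′
only.) -/
theorem result (R R' : Type u) [CommRing R] [CommRing R'] [Algebra R R']
    [Module.FaithfullyFlat R R'] (M : Type u) [AddCommGroup M] [Module R M] :
    Function.Exact
      (LinearMap.lTensor M (Algebra.TensorProduct.includeRight : R' →ₐ[R] R' ⊗[R] R').toLinearMap -
        LinearMap.lTensor M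
          (Algebra.TensorProduct.includeLeft : R' →ₐ[R] R' ⊗[R] R').toLinearMap)
      (LinearMap.lTensor M
          (Algebra.TensorProduct.includeRight : R' ⊗[R] R' →ₐ[R] R' ⊗[R] (R' ⊗[R] R')).toLinearMap -
        LinearMap.lTensor M
          (Algebra.TensorProduct.map (AlgHom.id R R')
            (Algebra.TensorProduct.includeRight : R' →ₐ[R] R' ⊗[R] R')).toLinearMap +
        LinearMap.lTensor M
          (Algebra.TensorProduct.map (AlgHom.id R R')
            (Algebra.TensorProduct.includeLeft : R' →ₐ[R] R' ⊗[R] R')).toLinearMap) := by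
  change Function.Exact (d1 R R' M) (d2 R R' M)
  have ex : Function.Exact ((d1 R R' M).lTensor R') ((d2 R R' M).lTensor R') := by
    intro y
    constructor
    · intro hy
      refine ⟨contr R R' M R' y, ?_⟩
      have h := LinearMap.congr_fun (homotopy_identity R R' M) y
      simp only [LinearMap.add_apply, LinearMap.comp_apply, LinearMap.id_apply] at h
      rw [hy, map_zero, zero_add] at h
      exact h
    · rintro ⟨z, rfl⟩
      rw [← LinearMap.comp_apply, ← LinearMap.lTensor_comp, d2_comp_d1]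
      simp
  exact Module.FaithfullyFlat.lTensor_reflects_exact R R' (d1 R R' M) (d2 R R' M) ex

end Groth.Agent.S12421
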