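import Groth.Statements.S12422
import Groth.Agent.Lib.Helper45.RestrictDer
import Groth.Agent.Lib.Helper21.FieldDimStalk
import Groth.Agent.Lib.Helper21.FlatFibreDimField
import Groth.Agent.Lib.Helper76.RegProper
import Groth.Agent.S10937
import Groth.Agent.S2116
import Groth.Agent.S0558

set_option autoImplicit false
universe u
open CategoryTheory CategoryTheory.Limits AlgebraicGeometry
open NonsingVar

section S12422helpers
set_option linter.style.haveILetI false
set_option linter.unusedSectionVars false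
set_option linter.unusedSimpArgs false
open CategoryTheory.Limits TopologicalSpace Opposite
open IsLocalRing TensorProduct KaehlerDifferential

namespace Groth.Agent.S12422

section Inj

variable {F A : Type u} [CommRing F] [CommRing A] [IsLocalRing A] [Algebra F A]

/-- If the residue field of the local `F`-algebra `A` is formally smooth over `F`, then
`𝔪/𝔪² → κ ⊗ Ω[A/F]` is injective. (after helper86) -/
theorem kerCotangentToTensor_injective [Algebra.FormallySmooth F (ResidueField A)] :
    Function.Injective (kerCotangentToTensor F A (ResidueField A)) := by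
  have hsurj : Function.Surjective (algebraMap A (ResidueField A)) :=
    IsLocalRing.residue_surjective
  obtain ⟨φ, hφ⟩ : ∃ φ, φ = (IsScalarTower.toAlgHom F A (ResidueField A)).kerSquareLift :=
    ⟨_, rfl⟩
  have hφs : Function.Surjective φ := by
    intro z
    obtain ⟨a, rfl⟩ := hsurj z
    exact ⟨Ideal.Quotient.mk _ a, by rw [hφ]; rfl⟩
  have hφn : IsNilpotent (RingHom.ker φ) := by
    refine ⟨2, ?_⟩
    rw [hφ]
    have := AlgHom.ker_kerSquareLift (IsScalarTower.toAlgHom F A (ResidueField A))
    exact (congrArg (· ^ 2) this).trans (Ideal.cotangentIdeal_square _)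
  obtain ⟨g, hg⟩ : ∃ g, g = Algebra.FormallySmooth.liftOfSurjective
      (AlgHom.id F (ResidueField A)) φ hφs hφn := ⟨_, rfl⟩
  have hcomp : φ.comp g = AlgHom.id F (ResidueField A) := by
    rw [hg]; exact Algebra.FormallySmooth.comp_liftOfSurjective _ _ _ _
  obtain ⟨l, hl⟩ := (retractionKerCotangentToTensorEquivSection (R := F) (P := A)
    (S := ResidueField A) hsurj).symm ⟨g, by rw [← hφ]; exact hcomp⟩
  intro a b hab
  have := congrArg l hab
  have h1 := LinearMap.congr_fun hl a
  have h2 := LinearMap.congr_fun hl b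
  simp only [LinearMap.coe_comp, Function.comp_apply, LinearMap.id_coe, id_eq] at h1 h2
  rw [← h1, ← h2, this]

/-- the cotangent space embeds into `κ ⊗ Ω`. -/
theorem finrank_cotangentSpace_le [Algebra.FormallySmooth F (ResidueField A)]
    [Module.Finite A (Ω[A⁄F])] :
    Module.finrank (ResidueField A) (CotangentSpace A) ≤
      Module.finrank (ResidueField A) (ResidueField A ⊗[A] Ω[A⁄F]) := by
  have hker : maximalIdeal A = RingHom.ker (algebraMap A (ResidueField A)) :=
    IsLocalRing.ker_residue.symm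
  let j : (maximalIdeal A).Cotangent →ₗ[A] (RingHom.ker (algebraMap A (ResidueField A))).Cotangent :=
    Ideal.mapCotangent _ _ (AlgHom.id A A) (fun x hx => by
      show x ∈ RingHom.ker (algebraMap A (ResidueField A))
      rw [← hker]; exact hx)
  have hj : Function.Injective j := by
    rw [injective_iff_map_eq_zero]
    intro z hz
    obtain ⟨x, rfl⟩ := Ideal.toCotangent_surjective _ z
    rw [Ideal.mapCotangent_toCotangent, Ideal.toCotangent_eq_zero] at hz
    rw [Ideal.toCotangent_eq_zero]
    have hz' : (x : A) ∈ RingHom.ker (algebraMap A (ResidueField A)) ^ 2 := hz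
    rwa [← hker] at hz'
  let f : CotangentSpace A →ₗ[A] ResidueField A ⊗[A] Ω[A⁄F] :=
    (kerCotangentToTensor F A (ResidueField A)).comp j
  have hf : Function.Injective f := kerCotangentToTensor_injective.comp hj
  let f' : CotangentSpace A →ₗ[ResidueField A] ResidueField A ⊗[A] Ω[A⁄F] :=
    f.extendScalarsOfSurjective IsLocalRing.residue_surjective
  exact LinearMap.finrank_le_finrank_of_injective (f := f') hf

end Inj

end Groth.Agent.S12422

namespace Groth.Agent.S12422

open Module in
theorem isRegularLocalRing_atPrime_of_rank (R S : Type u) [CommRing R] [CommRing S] [Algebra R S]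
    [Algebra.FiniteType R S] [IsNoetherianRing S]
    (m : Ideal S) [hm : m.IsMaximal] (hbij : Function.Bijective (algebraMap R (S ⧸ m)))
    [Module.Flat S (Ω[S⁄R])]
    (n : ℕ) (hrank : Module.rankAtStalk (Ω[S⁄R]) ⟨m, hm.isPrime⟩ = n)
    (hdim : (n : WithBot ℕ∞) ≤ ringKrullDim (Localization.AtPrime m)) :
    IsRegularLocalRing (Localization.AtPrime m) := by
  set A := Localization.AtPrime m with hA
  have hbij' : Function.Bijective (algebraMap R (ResidueField A)) := by
    have h1 : algebraMap R (ResidueField A) =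
        (algebraMap (S ⧸ m) m.ResidueField).comp (algebraMap R (S ⧸ m)) := by
      ext r
      rfl
    rw [h1]
    exact m.bijective_algebraMap_quotient_residueField.comp hbij
  haveI : Algebra.FormallySmooth R (ResidueField A) :=
    Algebra.FormallySmooth.of_equiv (AlgEquiv.ofBijective (Algebra.ofId R (ResidueField A)) hbij')
  haveI : Module.Finite A (Ω[A⁄R]) := inferInstance
  have h1 := finrank_cotangentSpace_le (F := R) (A := A)
  haveI : Algebra.FormallyEtale S A := Algebra.FormallyEtale.of_isLocalization (Rₘ := A) m.primeCompl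
  let e1 : A ⊗[S] Ω[S⁄R] ≃ₗ[A] Ω[A⁄R] := tensorKaehlerEquivOfFormallyEtale R S A
  let e2 : ResidueField A ⊗[A] (A ⊗[S] Ω[S⁄R]) ≃ₗ[ResidueField A] ResidueField A ⊗[S] Ω[S⁄R] :=
    AlgebraTensorModule.cancelBaseChange _ _ _ _ _
  let e3 : ResidueField A ⊗[A] (A ⊗[S] Ω[S⁄R]) ≃ₗ[ResidueField A] ResidueField A ⊗[A] Ω[A⁄R] :=
    AlgebraTensorModule.congr (LinearEquiv.refl _ _) e1
  have h2 : Module.finrank (ResidueField A) (ResidueField A ⊗[A] Ω[A⁄R]) = n := by
    rw [← e3.finrank_eq, e2.finrank_eq, ← hrank, Module.rankAtStalk_eq]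
  rw [h2] at h1
  apply IsRegularLocalRing.of_spanFinrank_maximalIdeal_le
  rw [IsLocalRing.spanFinrank_maximalIdeal_eq_finrank_cotangentSpace]
  refine le_trans ?_ hdim
  exact_mod_cast h1

end Groth.Agent.S12422

namespace Groth.Agent.S12422
open Groth.Agent.Lib.QCoh Groth.Agent.Lib.Helper21.FieldDim

variable {k : Type u} [Field k] [IsAlgClosed k] (n : ℕ)
    {X : Scheme.{u}} (q : X ⟶ Spec (CommRingCat.of k)) [IrreducibleSpace ↥X]
    [LocallyOfFiniteType q]

include q in
/-- the stalk dimension at a closed point. -/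
theorem ringKrullDim_stalk_of_isClosed (hn : topologicalKrullDim ↥X = (n : WithBot ℕ∞)) (x : X)
    (hx : IsClosed ({x} : Set X)) : ringKrullDim (X.presheaf.stalk x) = (n : WithBot ℕ∞) := by
  rw [← localDim_eq_stalk_of_isClosed q hx]
  apply localDim_eq_of_equidim q
  intro Z hZ
  rw [irreducibleComponents_eq_singleton, Set.mem_singleton_iff] at hZ
  subst hZ
  rw [← hn]
  exact (Homeomorph.Set.univ X).isHomeomorph.topologicalKrullDim_eq


/-- the ring iso `Γ(Spec k, ⊤) ≃ k`. -/
noncomputable def eTop (k : Type u) [Field k] : Γ(Spec (CommRingCat.of k), ⊤) ≃+* k :=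
  (Scheme.ΓSpecIso (CommRingCat.of k)).commRingCatIsoToRingEquiv

/-- a closed point in an affine open corresponds to a maximal ideal. -/
theorem isMaximal_primeIdealOf {V : X.Opens} (hV : IsAffineOpen V) (x : X) (hxV : x ∈ V)
    (hx : IsClosed ({x} : Set X)) : (hV.primeIdealOf ⟨x, hxV⟩).asIdeal.IsMaximal := by
  rw [← PrimeSpectrum.isClosed_singleton_iff_isMaximal]
  have h1 : ({hV.primeIdealOf ⟨x, hxV⟩} : Set (PrimeSpectrum Γ(X, V))) =
      hV.fromSpec ⁻¹' {x} := by
    ext p
    simp only [Set.mem_singleton_iff, Set.mem_preimage]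
    constructor
    · rintro rfl
      exact hV.fromSpec_primeIdealOf ⟨x, hxV⟩
    · intro h
      apply hV.fromSpec.isOpenEmbedding.injective
      rw [h]
      exact (hV.fromSpec_primeIdealOf ⟨x, hxV⟩).symm
  rw [h1]
  exact hx.preimage hV.fromSpec.continuous


include q in
theorem regular_of_isClosed [QuasiSeparated q] (hn : topologicalKrullDim ↥X = (n : WithBot ℕ∞))
    (hΩ : FlatMod.IsFinLocFreeOfRank n (Omega.sheaf q)) (x : X) (hx : IsClosed ({x} : Set X)) :
    IsRegularLocalRing (X.presheaf.stalk x) := by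
  obtain ⟨V, hV, hxV⟩ : ∃ V : X.Opens, IsAffineOpen V ∧ x ∈ V := by
    obtain ⟨_, ⟨V, hV : IsAffineOpen V, rfl⟩, hxV, -⟩ :=
      (X.isBasis_affineOpens).exists_subset_of_mem_open (Set.mem_univ x) isOpen_univ
    exact ⟨V, hV, hxV⟩
  let T : (Spec (CommRingCat.of k)).Opens := ⊤
  have hT : IsAffineOpen T := isAffineOpen_top _
  have eV : V ≤ q ⁻¹ᵁ T := le_top
  letI alg : Algebra Γ(Spec (CommRingCat.of k), T) Γ(X, V) := (q.appLE T V eV).hom.toAlgebra
  obtain ⟨hr, hfin, hproj⟩ := Groth.Agent.S10937.kaehler_appLE_facts q n hΩ hV hT eV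
  have hft : Algebra.FiniteType Γ(Spec (CommRingCat.of k), T) Γ(X, V) :=
    q.finiteType_appLE hT hV eV
  haveI : IsLocallyNoetherian X := LocallyOfFiniteType.isLocallyNoetherian q
  haveI : IsNoetherianRing Γ(X, V) := IsLocallyNoetherian.component_noetherian ⟨V, hV⟩
  obtain ⟨m, hm_def⟩ : ∃ m : Ideal Γ(X, V), m = (hV.primeIdealOf ⟨x, hxV⟩).asIdeal := ⟨_, rfl⟩
  haveI hm : m.IsMaximal := by rw [hm_def]; exact isMaximal_primeIdealOf hV x hxV hx
  have hbij : Function.Bijective (algebraMap Γ(Spec (CommRingCat.of k), T) (Γ(X, V) ⧸ m)) := by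
    let e0 := eTop k
    letI algk : Algebra k Γ(X, V) :=
      ((algebraMap Γ(Spec (CommRingCat.of k), T) Γ(X, V)).comp e0.symm.toRingHom).toAlgebra
    haveI : Algebra.FiniteType k Γ(X, V) := by
      have h1 : (algebraMap Γ(Spec (CommRingCat.of k), T) Γ(X, V)).FiniteType := by
        rw [RingHom.FiniteType]
        convert hft
      have h2 : (e0.symm.toRingHom).FiniteType :=
        RingHom.FiniteType.of_surjective _ e0.symm.surjective
      exact h1.comp h2
    letI : Field (Γ(X, V) ⧸ m) := Ideal.Quotient.field m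
    haveI : Module.Finite k (Γ(X, V) ⧸ m) := finite_of_finite_type_of_isJacobsonRing k _
    have hb : Function.Bijective (algebraMap k (Γ(X, V) ⧸ m)) :=
      IsAlgClosed.algebraMap_bijective_of_isIntegral
    have hcomp : (algebraMap k (Γ(X, V) ⧸ m) : k → Γ(X, V) ⧸ m) =
        (algebraMap Γ(Spec (CommRingCat.of k), T) (Γ(X, V) ⧸ m)) ∘ e0.symm := rfl
    rw [hcomp] at hb
    exact (Function.Bijective.of_comp_iff _ e0.symm.bijective).mp hb
  letI : Algebra Γ(X, V) (X.presheaf.stalk x) := X.presheaf.algebra_section_stalk ⟨x, hxV⟩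
  haveI : IsLocalization.AtPrime (X.presheaf.stalk x) m := by
    subst hm_def; exact hV.isLocalization_stalk ⟨x, hxV⟩
  let e : Localization.AtPrime m ≃ₐ[Γ(X, V)] X.presheaf.stalk x :=
    IsLocalization.algEquiv m.primeCompl _ _
  have hdim : (n : WithBot ℕ∞) ≤ ringKrullDim (Localization.AtPrime m) := by
    rw [ringKrullDim_eq_of_ringEquiv e.toRingEquiv, ringKrullDim_stalk_of_isClosed n q hn x hx]
  haveI : Module.Flat Γ(X, V) (Ω[Γ(X, V)⁄Γ(Spec (CommRingCat.of k), T)]) := inferInstance
  have hreg := isRegularLocalRing_atPrime_of_rank Γ(Spec (CommRingCat.of k), T) Γ(X, V) m hbij n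
    (hr ⟨m, hm.isPrime⟩) hdim
  exact IsRegularLocalRing.of_ringEquiv e.toRingEquiv


include q in
theorem mem_smoothLocus_of_isClosed [LocallyOfFinitePresentation q] (x : X)
    (hx : IsClosed ({x} : Set X)) (hreg : IsRegularLocalRing (X.presheaf.stalk x)) :
    x ∈ q.smoothLocus := by
  obtain ⟨V, hV, hxV⟩ : ∃ V : X.Opens, IsAffineOpen V ∧ x ∈ V := by
    obtain ⟨_, ⟨V, hV : IsAffineOpen V, rfl⟩, hxV, -⟩ :=
      (X.isBasis_affineOpens).exists_subset_of_mem_open (Set.mem_univ x) isOpen_univ
    exact ⟨V, hV, hxV⟩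
  let T : (Spec (CommRingCat.of k)).Opens := ⊤
  have hT : IsAffineOpen T := isAffineOpen_top _
  have eV : V ≤ q ⁻¹ᵁ T := le_top
  rw [Scheme.Hom.mem_smoothLocus, formallySmooth_stalkMap_iff T hT V hV eV hxV]
  letI alg : Algebra Γ(Spec (CommRingCat.of k), T) Γ(X, V) := (q.appLE T V eV).hom.toAlgebra
  have hft : Algebra.FiniteType Γ(Spec (CommRingCat.of k), T) Γ(X, V) :=
    q.finiteType_appLE hT hV eV
  obtain ⟨m, hm_def⟩ : ∃ m : Ideal Γ(X, V), m = (hV.primeIdealOf ⟨x, hxV⟩).asIdeal := ⟨_, rfl⟩
  haveI hm : m.IsMaximal := by rw [hm_def]; exact isMaximal_primeIdealOf hV x hxV hx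
  letI : Algebra Γ(X, V) (X.presheaf.stalk x) := X.presheaf.algebra_section_stalk ⟨x, hxV⟩
  haveI : IsLocalization.AtPrime (X.presheaf.stalk x) m := by
    subst hm_def; exact hV.isLocalization_stalk ⟨x, hxV⟩
  let e : Localization.AtPrime m ≃ₐ[Γ(X, V)] X.presheaf.stalk x :=
    IsLocalization.algEquiv m.primeCompl _ _
  haveI hregm : IsRegularLocalRing (Localization.AtPrime m) :=
    IsRegularLocalRing.of_ringEquiv e.symm.toRingEquiv
  let e0 := eTop k
  letI algk0 : Algebra k Γ(Spec (CommRingCat.of k), T) := e0.symm.toRingHom.toAlgebra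
  letI algk : Algebra k Γ(X, V) :=
    ((algebraMap Γ(Spec (CommRingCat.of k), T) Γ(X, V)).comp e0.symm.toRingHom).toAlgebra
  haveI : IsScalarTower k Γ(Spec (CommRingCat.of k), T) Γ(X, V) :=
    IsScalarTower.of_algebraMap_eq' rfl
  haveI : Algebra.FiniteType k Γ(X, V) := by
    have h1 : (algebraMap Γ(Spec (CommRingCat.of k), T) Γ(X, V)).FiniteType := by
      rw [RingHom.FiniteType]
      convert hft
    have h2 : (e0.symm.toRingHom).FiniteType :=
      RingHom.FiniteType.of_surjective _ e0.symm.surjective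
    exact h1.comp h2
  have hsm : Algebra.IsSmoothAt k m := (Groth.Agent.S2116.result m).mp hregm
  haveI : Algebra.FormallyEtale k Γ(Spec (CommRingCat.of k), T) :=
    Algebra.FormallyEtale.of_equiv
      (AlgEquiv.ofBijective (Algebra.ofId k Γ(Spec (CommRingCat.of k), T)) e0.symm.bijective)
  show Algebra.IsSmoothAt Γ(Spec (CommRingCat.of k), T) (hV.primeIdealOf ⟨x, hxV⟩).asIdeal
  subst hm_def
  have hsm' : Algebra.FormallySmooth k
    (Localization.AtPrime (hV.primeIdealOf ⟨x, hxV⟩).asIdeal) := hsm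
  exact (Algebra.FormallySmooth.iff_restrictScalars (R := k)
    (A := Γ(Spec (CommRingCat.of k), T))
    (B := Localization.AtPrime (hV.primeIdealOf ⟨x, hxV⟩).asIdeal)).mp hsm'


open Groth.Agent.Lib.Helper76.RegProper in
theorem main [IsSeparated q] [QuasiCompact q]
    (hn : topologicalKrullDim ↥X = (n : WithBot ℕ∞))
    (Ω : X.Modules) (d : OmegaSh.Der q Ω) (hd : OmegaSh.IsUniversal d) :
    FlatMod.IsFinLocFreeOfRank n Ω ↔ ∀ x : ↥X, IsRegularLocalRing ↑(X.presheaf.stalk x) := by
  haveI : QuasiSeparated q := inferInstance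
  obtain ⟨θ, hθ, -⟩ := hd _ (OmegaSh.dOmega q)
  haveI := Groth.Agent.Lib.Helper25.DiffSeq.isIso_of_isUniversal d (OmegaSh.dOmega q) hd
    (Groth.Agent.Lib.Helper25.OmegaUniv2.isUniversal_dOmega q) θ hθ
  have hiff : FlatMod.IsFinLocFreeOfRank n Ω ↔ FlatMod.IsFinLocFreeOfRank n (Omega.sheaf q) :=
    ⟨isFinLocFreeOfRank_of_iso (asIso θ), isFinLocFreeOfRank_of_iso (asIso θ).symm⟩
  rw [hiff]
  haveI : CompactSpace X := QuasiCompact.compactSpace_of_compactSpace q
  constructor
  · intro hΩ x
    obtain ⟨x₀, hsp, hcl⟩ := exists_closed_specialization x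
    exact regular_of_specializes hsp (regular_of_isClosed n q hn hΩ x₀ hcl)
  · intro hreg
    haveI : LocallyOfFinitePresentation q :=
      LocallyOfFinitePresentation.iff_locallyOfFiniteType.mpr inferInstance
    haveI : Smooth q := by
      rw [← Scheme.Hom.smoothLocus_eq_top_iff, eq_top_iff]
      intro x _
      obtain ⟨x₀, hsp, hcl⟩ := exists_closed_specialization x
      exact hsp.mem_open q.smoothLocus.2 (mem_smoothLocus_of_isClosed q x₀ hcl (hreg x₀))
    haveI : IsReduced X := by
      haveI : ∀ x : X, IsReduced (X.presheaf.stalk x) := fun x => by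
        haveI := hreg x
        haveI := Groth.Agent.S0558.result (X.presheaf.stalk x)
        infer_instance
      exact isReduced_of_isReduced_stalk X
    haveI : IsIntegral X := isIntegral_of_irreducibleSpace_of_isReduced X
    haveI := Groth.Agent.S10937.smoothOfRelativeDimension_structure k q n hn
    exact Groth.Agent.S10937.isFinLocFreeOfRank_omega_of_smooth q n

end Groth.Agent.S12422

end S12422helpers

namespace Groth.Agent.S12422

/-- Let k be an algebraically closed field, X an irreducible scheme which is separated and of finite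
type over k, n = dim X, and (Ω, d) a sheaf of relative differentials of X over k, i.e. d : O_X → Ω a
universal k-derivation. Then Ω is locally free of rank n if and only if every local ring of X is
regular (X is a nonsingular variety over k). -/
theorem result (k : Type u) [Field k] [IsAlgClosed k] (n : ℕ)
    (X : Scheme.{u}) [X.Over (Spec (CommRingCat.of k))] [IrreducibleSpace ↥X]
    [IsSeparated (X ↘ (Spec (CommRingCat.of k)))] [LocallyOfFiniteType (X ↘ (Spec (CommRingCat.of k)))]
    [QuasiCompact (X ↘ (Spec (CommRingCat.of k)))]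
    (hn : topologicalKrullDim ↥X = (n : WithBot ℕ∞))
    (Ω : X.Modules) (d : OmegaSh.Der (X ↘ (Spec (CommRingCat.of k))) Ω) (hd : OmegaSh.IsUniversal d) :
    FlatMod.IsFinLocFreeOfRank n Ω ↔ ∀ x : ↥X, IsRegularLocalRing ↑(X.presheaf.stalk x) := by
  exact main n (X ↘ (Spec (CommRingCat.of k))) hn Ω d hd

end Groth.Agent.S12422
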