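import Groth.Statements.S12424
import Mathlib
-- import your own Groth.Agent.* helpers here

set_option autoImplicit false
universe u
open Cubic

namespace Groth.Agent.S12424


open MvPolynomial

theorem deriv_aeval {k B M : Type*} [CommRing k] [CommRing B] [Algebra k B] [AddCommGroup M]
    [Module k M] [Module B M] [IsScalarTower k B M]
    {σ : Type*} [Fintype σ] [DecidableEq σ] (δ : Derivation k B M) (w : σ → B)
    (p : MvPolynomial σ k) :
    δ (aeval w p) = ∑ i, aeval w (pderiv i p) • δ (w i) := by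
  induction p using MvPolynomial.induction_on with
  | C a => simp
  | add p q hp hq => simp [hp, hq, add_smul, Finset.sum_add_distrib]
  | mul_X p j hp =>
    have h1 : ∀ i, aeval w (pderiv i (p * X j)) • δ (w i) =
        w j • (aeval w (pderiv i p) • δ (w i)) + (if j = i then aeval w p • δ (w i) else 0) := by
      intro i
      rw [Derivation.leibniz, pderiv_X, Pi.single_apply]
      split_ifs with h
      · simp only [smul_eq_mul, map_add, map_mul, aeval_X, mul_one, add_smul, smul_smul]
        rw [add_comm, mul_comm]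
      · simp only [smul_eq_mul, map_mul, aeval_X, mul_zero, zero_add, add_zero, smul_smul]
    simp only [h1, Finset.sum_add_distrib, Finset.sum_ite_eq, Finset.mem_univ, if_true,
      ← Finset.smul_sum, ← hp]
    rw [map_mul, aeval_X, Derivation.leibniz, add_comm]

theorem eval_smul_of_isHomogeneous {σ : Type*} {K : Type*} [CommSemiring K]
    {F : MvPolynomial σ K} {d : ℕ} (hF : F.IsHomogeneous d) (t : K) (x : σ → K) :
    eval (t • x) F = t ^ d * eval x F := by
  rw [MvPolynomial.eval_eq, MvPolynomial.eval_eq, Finset.mul_sum]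
  refine Finset.sum_congr rfl fun m hm => ?_
  have hd : d = ∑ i ∈ m.support, m i := hF.degree_eq_sum_deg_support hm
  have : ∏ i ∈ m.support, ((t • x) i) ^ m i = t ^ d * ∏ i ∈ m.support, x i ^ m i := by
    simp_rw [Pi.smul_apply, smul_eq_mul, mul_pow]
    rw [Finset.prod_mul_distrib, Finset.prod_pow_eq_pow_sum, ← hd]
  rw [this]
  ring

variable {k : Type*} [Field k]

/-- evaluation of the substituted polynomial -/
theorem eval_subst {m n : ℕ} (A : Matrix (Fin m) (Fin n) k) (p : MvPolynomial (Fin m) k)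
    (w : Fin n → k) :
    eval w (aeval (fun i : Fin m => ∑ j : Fin n, C (A i j) * X j) p) = eval (A.mulVec w) p := by
  induction p using MvPolynomial.induction_on with
  | C a => simp
  | add p q hp hq => rw [map_add, map_add, hp, hq, map_add]
  | mul_X p j hp =>
    simp only [map_mul, aeval_X, hp, eval_X, map_sum, eval_C]
    rfl

/-- chain rule for the substituted polynomial -/
theorem pderiv_subst {m n : ℕ} (A : Matrix (Fin m) (Fin n) k) (p : MvPolynomial (Fin m) k)
    (j : Fin n) (w : Fin n → k) :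
    eval w (pderiv j (aeval (fun i : Fin m => ∑ j : Fin n, C (A i j) * X j) p)) =
      ∑ i, eval (A.mulVec w) (pderiv i p) * A i j := by
  rw [deriv_aeval (pderiv j) _ p, map_sum]
  refine Finset.sum_congr rfl (fun i _ => ?_)
  rw [smul_eq_mul, map_mul, eval_subst]
  congr 1
  simp only [map_sum, Derivation.leibniz, pderiv_C, pderiv_X, Pi.single_apply,
    add_zero, smul_eq_mul, mul_ite, mul_one, mul_zero]
  rw [Finset.sum_eq_single j]
  · simp
  · intro b _ hb
    simp [hb]
  · intro hj
    exact absurd (Finset.mem_univ j) hj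


/-- restriction of a polynomial to a line, as a univariate polynomial -/
theorem exists_line_poly {σ : Type*} (P : MvPolynomial σ k) (a b : σ → k) :
    ∃ p : Polynomial k, ∀ s : k, p.eval s = eval (s • a + b) P := by
  refine ⟨aeval (fun i => Polynomial.X * Polynomial.C (a i) + Polynomial.C (b i)) P, fun s => ?_⟩
  induction P using MvPolynomial.induction_on with
  | C c => simp
  | add p q hp hq => rw [map_add, Polynomial.eval_add, hp, hq, map_add]
  | mul_X p j hp =>
    rw [map_mul, Polynomial.eval_mul, hp, aeval_X, map_mul, eval_X]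
    congr 1
    simp only [Polynomial.eval_add, Polynomial.eval_mul, Polynomial.eval_X, Polynomial.eval_C,
      Pi.add_apply, Pi.smul_apply, smul_eq_mul]

theorem const_of_no_root [IsAlgClosed k] (p : Polynomial k) (h : ∀ s, p.eval s ≠ 0) (s t : k) :
    p.eval s = p.eval t := by
  have hdeg : p.degree = 0 := by
    by_contra hd
    obtain ⟨x, hx⟩ := IsAlgClosed.exists_root p hd
    exact h x hx
  rw [Polynomial.eq_C_of_degree_eq_zero hdeg]
  simp

/-- a form of positive degree has a nontrivial zero on any plane `{s v₁ + t v₂}` -/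
theorem exists_zero_on_plane [IsAlgClosed k] [CharZero k] {σ : Type*} (P : MvPolynomial σ k)
    (d : ℕ) (hd : 1 ≤ d) (hP : P.IsHomogeneous d) (v₁ v₂ : σ → k) :
    ∃ s t : k, (s ≠ 0 ∨ t ≠ 0) ∧ eval (s • v₁ + t • v₂) P = 0 := by
  by_contra hcon
  push Not at hcon
  obtain ⟨p₁, hp₁⟩ := exists_line_poly P v₁ v₂
  obtain ⟨p₂, hp₂⟩ := exists_line_poly P v₂ v₁
  have h1 : ∀ s, p₁.eval s ≠ 0 := by
    intro s
    rw [hp₁]
    have := hcon s 1 (Or.inr one_ne_zero)
    rwa [one_smul] at this
  have h2 : ∀ t, p₂.eval t ≠ 0 := by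
    intro t
    rw [hp₂]
    have := hcon 1 t (Or.inl one_ne_zero)
    rwa [one_smul, add_comm] at this
  have e1 := const_of_no_root p₁ h1 1 2
  have e2 := const_of_no_root p₂ h2 1 (2⁻¹)
  rw [hp₁, hp₁] at e1
  rw [hp₂, hp₂] at e2
  -- P(v₁ + v₂) = P(2 v₁ + v₂), P(v₂ + v₁) = P(2⁻¹ v₂ + v₁)
  have e3 : eval ((2 : k) • v₁ + v₂) P = (2 : k) ^ d * eval ((2⁻¹ : k) • v₂ + v₁) P := by
    rw [← eval_smul_of_isHomogeneous hP]
    congr 1
    rw [smul_add, smul_smul, mul_inv_cancel₀ (two_ne_zero), one_smul, add_comm]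
  have e4 : eval ((1 : k) • v₁ + v₂) P = eval ((1 : k) • v₂ + v₁) P := by
    rw [one_smul, one_smul, add_comm]
  set c := eval ((1 : k) • v₁ + v₂) P with hc
  have hc0 : c ≠ 0 := by
    rw [hc, ← hp₁]
    exact h1 1
  have h5 : c = (2 : k) ^ d * c := by
    calc c = eval ((2 : k) • v₁ + v₂) P := e1
      _ = (2 : k) ^ d * eval ((2⁻¹ : k) • v₂ + v₁) P := e3
      _ = (2 : k) ^ d * c := by rw [← e2, ← e4]
  have h6 : ((2 : k) ^ d - 1) * c = 0 := by linear_combination -h5
  have h7 : (2 : k) ^ d ≠ 1 := by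
    have : ((2 ^ d : ℕ) : k) ≠ ((1 : ℕ) : k) := by
      rw [Ne, Nat.cast_inj]
      have : 2 ^ 1 ≤ 2 ^ d := Nat.pow_le_pow_right (by norm_num) hd
      omega
    simpa using this
  rcases mul_eq_zero.mp h6 with h | h
  · exact h7 (sub_eq_zero.mp h)
  · exact hc0 h

/-- the left kernel of a `4 × 3` matrix of rank `3` is a line -/
theorem left_kernel (A : Matrix (Fin 4) (Fin 3) k) (hA : A.rank = 3) :
    ∃ l : Fin 4 → k, l ≠ 0 ∧ (∀ j, ∑ i, l i * A i j = 0) ∧
      ∀ μ : Fin 4 → k, (∀ j, ∑ i, μ i * A i j = 0) → ∃ c : k, μ = c • l := by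
  set L : (Fin 4 → k) →ₗ[k] (Fin 3 → k) := A.transpose.mulVecLin with hL
  have hrank : Module.finrank k (LinearMap.range L) = 3 := by
    have : A.transpose.rank = 3 := by rw [Matrix.rank_transpose, hA]
    exact this
  have hker : Module.finrank k (LinearMap.ker L) = 1 := by
    have := LinearMap.finrank_range_add_finrank_ker L
    rw [hrank] at this
    simp only [Module.finrank_fintype_fun_eq_card, Fintype.card_fin] at this
    omega
  obtain ⟨⟨l, hlker⟩, hl0, hspan⟩ := finrank_eq_one_iff'.mp hker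
  have hmem : ∀ μ : Fin 4 → k, μ ∈ LinearMap.ker L ↔ ∀ j, ∑ i, μ i * A i j = 0 := by
    intro μ
    rw [LinearMap.mem_ker]
    constructor
    · intro h j
      have := congrFun h j
      simp only [L, Matrix.mulVecLin_apply, Matrix.mulVec, dotProduct, Matrix.transpose_apply,
        Pi.zero_apply] at this
      rw [← this]
      exact Finset.sum_congr rfl (fun i _ => mul_comm _ _)
    · intro h
      funext j
      simp only [L, Matrix.mulVecLin_apply, Matrix.mulVec, dotProduct, Matrix.transpose_apply,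
        Pi.zero_apply]
      rw [← h j]
      exact Finset.sum_congr rfl (fun i _ => mul_comm _ _)
  refine ⟨l, ?_, (hmem l).mp hlker, ?_⟩
  · intro h
    apply hl0
    exact Subtype.ext h
  · intro μ hμ
    obtain ⟨c, hc⟩ := hspan ⟨μ, (hmem μ).mpr hμ⟩
    refine ⟨c, ?_⟩
    have := congrArg Subtype.val hc
    exact this.symm

theorem mulVec_injective (A : Matrix (Fin 4) (Fin 3) k) (hA : A.rank = 3) :
    Function.Injective A.mulVec := by
  have h1 : Module.finrank k (LinearMap.range A.mulVecLin) = 3 := hA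
  have h2 := LinearMap.finrank_range_add_finrank_ker A.mulVecLin
  rw [h1] at h2
  simp only [Module.finrank_fintype_fun_eq_card, Fintype.card_fin] at h2
  have h3 : Module.finrank k (LinearMap.ker A.mulVecLin) = 0 := by omega
  have h4 : LinearMap.ker A.mulVecLin = ⊥ := Submodule.finrank_eq_zero.mp h3
  exact LinearMap.ker_eq_bot.mp h4


/-- a smooth cubic has no plane of singular zeros in a hyperplane section -/
theorem sing_false [IsAlgClosed k] [CharZero k]
    (f : MvPolynomial (Fin 4) k) (hf : f.IsHomogeneous 3)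
    (hsm : ∀ v : Fin 4 → k, v ≠ 0 → MvPolynomial.eval v f = 0 →
      ∃ i : Fin 4, MvPolynomial.eval v (MvPolynomial.pderiv i f) ≠ 0)
    (A : Matrix (Fin 4) (Fin 3) k) (hA : A.rank = 3)
    (e₁ e₂ : Fin 3 → k) (hind : ∀ s t : k, s • e₁ + t • e₂ = 0 → s = 0 ∧ t = 0)
    (hvan : ∀ s t : k,
      eval (s • e₁ + t • e₂) (aeval (fun i : Fin 4 => ∑ j : Fin 3, C (A i j) * X j) f) = 0 ∧
      ∀ j, eval (s • e₁ + t • e₂)
        (pderiv j (aeval (fun i : Fin 4 => ∑ j : Fin 3, C (A i j) * X j) f)) = 0) : False := by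
  obtain ⟨l, hl0, hlA, hspan⟩ := left_kernel A hA
  have hinj := mulVec_injective A hA
  obtain ⟨i₀, hi₀⟩ : ∃ i₀, l i₀ ≠ 0 := by
    by_contra h
    push Not at h
    exact hl0 (funext h)
  have hP : (pderiv i₀ f).IsHomogeneous (3 - 1) := hf.pderiv
  obtain ⟨s, t, hst, hzero⟩ := exists_zero_on_plane (pderiv i₀ f) 2 (by norm_num) hP
    (A.mulVec e₁) (A.mulVec e₂)
  set w := s • e₁ + t • e₂ with hw
  have hw0 : w ≠ 0 := by
    intro h
    obtain ⟨h1, h2⟩ := hind s t h
    rcases hst with h | h
    · exact h h1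
    · exact h h2
  have hv : A.mulVec w = s • A.mulVec e₁ + t • A.mulVec e₂ := by
    rw [hw, Matrix.mulVec_add, Matrix.mulVec_smul, Matrix.mulVec_smul]
  have hv0 : A.mulVec w ≠ 0 := by
    intro h
    apply hw0
    apply hinj
    rw [h, Matrix.mulVec_zero]
  obtain ⟨hg0, hdg⟩ := hvan s t
  rw [eval_subst] at hg0
  obtain ⟨i, hi⟩ := hsm _ hv0 hg0
  obtain ⟨c, hc⟩ := hspan (fun i => eval (A.mulVec w) (pderiv i f)) (by
    intro j
    rw [← pderiv_subst]
    exact hdg j)
  have hci := congrFun hc i
  have hci₀ := congrFun hc i₀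
  simp only [Pi.smul_apply, smul_eq_mul] at hci hci₀
  have hc0 : c ≠ 0 := by
    intro h
    apply hi
    rw [hci, h, zero_mul]
  have : eval (A.mulVec w) (pderiv i₀ f) ≠ 0 := by
    rw [hci₀]
    exact mul_ne_zero hc0 hi₀
  apply this
  rw [hv]
  exact hzero

theorem sing_of_zero {σ : Type*} (h r : MvPolynomial σ k) (w : σ → k) (hw : eval w h = 0) :
    eval w (h * h * r) = 0 ∧ ∀ j, eval w (pderiv j (h * h * r)) = 0 := by
  constructor
  · simp [hw]
  · intro j
    simp [Derivation.leibniz, hw]

/-- a homogeneous polynomial of degree one is a linear form -/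
theorem linear_form {σ : Type*} [Fintype σ] (h : MvPolynomial σ k) (hh : h.IsHomogeneous 1) :
    ∃ b : σ → k, ∀ w, eval w h = ∑ j, b j * w j := by
  classical
  have hE := hh.sum_X_mul_pderiv
  rw [one_smul] at hE
  have hconst : ∀ j, pderiv j h = C (coeff 0 (pderiv j h)) := by
    intro j
    have : (pderiv j h).IsHomogeneous (1 - 1) := hh.pderiv
    rw [Nat.sub_self, ← totalDegree_zero_iff_isHomogeneous, totalDegree_eq_zero_iff_eq_C] at this
    exact this
  refine ⟨fun j => coeff 0 (pderiv j h), fun w => ?_⟩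
  conv_lhs => rw [← hE]
  rw [map_sum]
  refine Finset.sum_congr rfl (fun j _ => ?_)
  rw [map_mul, eval_X, hconst j, eval_C, mul_comm]

theorem affine_form {σ : Type*} [Fintype σ] (h : MvPolynomial σ k) (hh : h.totalDegree = 1) :
    ∃ (c₀ : k) (b : σ → k), ∀ w, eval w h = c₀ + ∑ j, b j * w j := by
  have hsum := sum_homogeneousComponent h
  rw [hh] at hsum
  simp only [Finset.sum_range_succ, Finset.sum_range_zero, zero_add] at hsum
  obtain ⟨b, hb⟩ := linear_form (homogeneousComponent 1 h) (homogeneousComponent_isHomogeneous 1 h)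
  refine ⟨coeff 0 h, b, fun w => ?_⟩
  conv_lhs => rw [← hsum]
  rw [map_add, hb, homogeneousComponent_zero, eval_C]


/-- two independent vectors in the kernel of a linear form on `k³` -/
theorem exists_kernel_pair (b : Fin 3 → k) :
    ∃ e₁ e₂ : Fin 3 → k, (∀ s t : k, s • e₁ + t • e₂ = 0 → s = 0 ∧ t = 0) ∧
      (∑ j, b j * e₁ j = 0) ∧ (∑ j, b j * e₂ j = 0) := by
  set βL : (Fin 3 → k) →ₗ[k] k := ∑ j, b j • LinearMap.proj j with hβ
  have hβL : ∀ w, βL w = ∑ j, b j * w j := by
    intro w
    simp [βL, LinearMap.sum_apply]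
  have h1 := LinearMap.finrank_range_add_finrank_ker βL
  have h2 : Module.finrank k (LinearMap.range βL) ≤ 1 := by
    have := Submodule.finrank_le (LinearMap.range βL)
    rwa [Module.finrank_self] at this
  simp only [Module.finrank_fintype_fun_eq_card, Fintype.card_fin] at h1
  have h3 : 1 < Module.finrank k (LinearMap.ker βL) := by omega
  obtain ⟨x, hx⟩ := Module.finrank_pos_iff_exists_ne_zero.mp (by omega : 0 < Module.finrank k (LinearMap.ker βL))
  obtain ⟨y, hy⟩ := exists_linearIndependent_pair_of_one_lt_finrank h3 hx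
  rw [LinearIndependent.pair_iff] at hy
  refine ⟨x.1, y.1, ?_, ?_, ?_⟩
  · intro s t hst
    apply hy s t
    exact Subtype.ext hst
  · rw [← hβL]
    exact x.2
  · rw [← hβL]
    exact y.2

theorem exists_plane [CharZero k] (g : MvPolynomial (Fin 3) k) (hg : g.IsHomogeneous 3)
    (h : MvPolynomial (Fin 3) k) (hdvd : h * h ∣ g) (hunit : ¬ IsUnit h) :
    ∃ e₁ e₂ : Fin 3 → k, (∀ s t : k, s • e₁ + t • e₂ = 0 → s = 0 ∧ t = 0) ∧
      ∀ s t : k, eval (s • e₁ + t • e₂) g = 0 ∧
        ∀ j, eval (s • e₁ + t • e₂) (pderiv j g) = 0 := by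
  obtain ⟨r, rfl⟩ := hdvd
  by_cases hg0 : h * h * r = 0
  · obtain ⟨e₁, e₂, hind, -, -⟩ := exists_kernel_pair (k := k) 0
    refine ⟨e₁, e₂, hind, ?_⟩
    intro s t
    rw [hg0]
    simp
  · have hh0 : h ≠ 0 := fun h0 => hg0 (by rw [h0]; ring)
    have hr0 : r ≠ 0 := fun h0 => hg0 (by rw [h0]; ring)
    have htd : (h * h * r).totalDegree = 3 := hg.totalDegree hg0
    rw [totalDegree_mul_of_isDomain (mul_ne_zero hh0 hh0) hr0,
      totalDegree_mul_of_isDomain hh0 hh0] at htd
    have hth : h.totalDegree ≠ 0 := by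
      intro h0
      rw [totalDegree_eq_zero_iff_eq_C] at h0
      apply hunit
      rw [h0]
      have hc : coeff 0 h ≠ 0 := fun hc => hh0 (by rw [h0, hc, C_0])
      exact (isUnit_iff_ne_zero.mpr hc).map C
    have hth1 : h.totalDegree = 1 := by omega
    have htr1 : r.totalDegree = 1 := by omega
    obtain ⟨c₀, b, hb⟩ := affine_form h hth1
    obtain ⟨d₀, b', hb'⟩ := affine_form r htr1
    have hc₀ : c₀ = 0 := by
      by_contra hc
      have hd₀ : d₀ = 0 := by
        have h1 := eval_smul_of_isHomogeneous hg (0 : k) (0 : Fin 3 → k)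
        rw [smul_zero, map_mul, map_mul, hb, hb'] at h1
        simp only [Pi.zero_apply, mul_zero, Finset.sum_const_zero, add_zero] at h1
        have h2 : c₀ * c₀ * d₀ = 0 := by
          rw [h1]
          ring
        rcases mul_eq_zero.mp h2 with h3 | h3
        · exact absurd (mul_self_eq_zero.mp h3) hc
        · exact h3
      have hb'0 : ∀ w : Fin 3 → k, ∑ j, b' j * w j = 0 := by
        intro w
        set a := ∑ j, b j * w j with ha
        set β := ∑ j, b' j * w j with hβ
        have hneg : ∀ (u : Fin 3 → k) (t : k), ∑ j, u j * (t • w) j = t * ∑ j, u j * w j := by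
          intro u t
          rw [Finset.mul_sum]
          refine Finset.sum_congr rfl (fun j _ => ?_)
          simp only [Pi.smul_apply, smul_eq_mul]
          ring
        have E1 : eval w (h * h * r) = (c₀ + a) * (c₀ + a) * (d₀ + β) := by
          rw [map_mul, map_mul, hb, hb']
        have E2 := eval_smul_of_isHomogeneous hg (-1 : k) w
        rw [map_mul, map_mul, hb, hb', hneg, hneg, ← ha, ← hβ, E1] at E2
        have E3 := eval_smul_of_isHomogeneous hg (2 : k) w
        rw [map_mul, map_mul, hb, hb', hneg, hneg, ← ha, ← hβ, E1] at E3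
        rw [hd₀] at E2 E3
        have h6 : 6 * (c₀ * c₀ * β) = 0 := by linear_combination (-2 : k) * E2 - E3
        have h6' : (6 : k) ≠ 0 := by norm_num
        rcases mul_eq_zero.mp h6 with h7 | h7
        · exact absurd h7 h6'
        · rcases mul_eq_zero.mp h7 with h8 | h8
          · exact absurd (mul_self_eq_zero.mp h8) hc
          · exact h8
      apply hr0
      apply MvPolynomial.funext
      intro w
      rw [hb', hd₀, hb'0 w, map_zero, add_zero]
    obtain ⟨e₁, e₂, hind, h1, h2⟩ := exists_kernel_pair b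
    refine ⟨e₁, e₂, hind, fun s t => sing_of_zero h r _ ?_⟩
    rw [hb, hc₀, zero_add]
    have : ∑ j, b j * (s • e₁ + t • e₂) j = s * ∑ j, b j * e₁ j + t * ∑ j, b j * e₂ j := by
      rw [Finset.mul_sum, Finset.mul_sum, ← Finset.sum_add_distrib]
      refine Finset.sum_congr rfl (fun j _ => ?_)
      simp only [Pi.add_apply, Pi.smul_apply, smul_eq_mul]
      ring
    rw [this, h1, h2]
    ring



/-- Let k be an algebraically closed field of characteristic zero and S = V_+(f) ⊂ P^3_k a smooth cubic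
surface, f a nonzero homogeneous cubic in four variables with the Jacobian condition at every
nonzero zero. For every hyperplane H of P^3_k the scheme-theoretic intersection S ∩ H is reduced;
concretely, for every 4 × 3 matrix A of rank 3 over k (a linear parametrisation of H), the ternary
cubic obtained from f by substituting X_i ↦ Σ_j A_{ij} Y_j is squarefree. -/
theorem result (k : Type u) [Field k] [IsAlgClosed k] [CharZero k]
    (f : MvPolynomial (Fin 4) k) (hf : f.IsHomogeneous 3) (hf0 : f ≠ 0)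
    (hsm : ∀ v : Fin 4 → k, v ≠ 0 → MvPolynomial.eval v f = 0 →
      ∃ i : Fin 4, MvPolynomial.eval v (MvPolynomial.pderiv i f) ≠ 0)
    (A : Matrix (Fin 4) (Fin 3) k) (hA : A.rank = 3) :
    Squarefree (MvPolynomial.aeval (fun i : Fin 4 => ∑ j : Fin 3, MvPolynomial.C (A i j) * MvPolynomial.X j) f) := by
  intro h hdvd
  by_contra hunit
  have hg : (MvPolynomial.aeval (fun i : Fin 4 => ∑ j : Fin 3,
      MvPolynomial.C (A i j) * MvPolynomial.X j) f).IsHomogeneous 3 := by
    have h1 := hf.aeval (fun i : Fin 4 => ∑ j : Fin 3,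
      (MvPolynomial.C (A i j) * MvPolynomial.X j : MvPolynomial (Fin 3) k)) (n := 1) (fun i => by
        apply MvPolynomial.IsHomogeneous.sum
        intro j _
        exact (MvPolynomial.isHomogeneous_X k j).C_mul _)
    rwa [one_mul] at h1
  obtain ⟨e₁, e₂, hind, hvan⟩ := exists_plane _ hg h hdvd hunit
  exact sing_false f hf hsm A hA e₁ e₂ hind hvan

end Groth.Agent.S12424
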