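import Groth.Statements.S12443
import Mathlib.CategoryTheory.Monad.Adjunction
-- import your own Groth.Agent.* helpers here

set_option autoImplicit false
universe u
open CategoryTheory TopologicalSpace
open ShSp

namespace Groth.Agent.S12443

set_option backward.isDefEq.respectTransparency false in
noncomputable def presheafIso {U X : TopCat.{u}} (j : U ⟶ X) (hj : Topology.IsOpenEmbedding j) :
    (TopCat.Sheaf.pushforward (Type u) j ⋙ hj.sheafPullback (Type u)) ⋙
        TopCat.Sheaf.forget (Type u) U ≅
      𝟭 (U.Sheaf (Type u)) ⋙ TopCat.Sheaf.forget (Type u) U :=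
  NatIso.ofComponents
    (fun G => NatIso.ofComponents
      (fun V => G.obj.mapIso (eqToIso (by
        show Opposite.op ((Opens.map j).obj (hj.functor.obj V.unop)) = V
        rw [Opens.map_functor_eq' j hj])))
      (by
        intro V W f
        dsimp
        show G.obj.map ((Opens.map j).op.map (hj.functor.op.map f)) ≫ G.obj.map _ =
          G.obj.map _ ≫ G.obj.map f
        rw [← G.obj.map_comp, ← G.obj.map_comp]
        congr 1))
    (by
      intro G H f
      apply NatTrans.ext
      funext V
      exact (f.hom.naturality _).symm)

/-- Let j : U → X be the inclusion of an open subset (an open embedding) and F a sheaf of sets on U.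
Then the counit j⁻¹ j_* F → F is an isomorphism, i.e. j⁻¹ j_* is the identity on sheaves on U. -/
theorem result {U X : TopCat.{u}} (j : U ⟶ X) (hj : Topology.IsOpenEmbedding j)
    (F : U.Sheaf (Type u)) :
    IsIso ((TopCat.Sheaf.pullbackPushforwardAdjunction (Type u) j).counit.app F) := by
  have : IsIso (TopCat.Sheaf.pullbackPushforwardAdjunction (Type u) j).counit := by
    apply Adjunction.isIso_counit_of_iso
    exact Functor.isoWhiskerLeft _ (hj.sheafPullbackIso (Type u)) ≪≫
      Functor.fullyFaithfulCancelRight (TopCat.Sheaf.forget (Type u) U) (presheafIso j hj)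
  infer_instance

end Groth.Agent.S12443
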