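import Groth.Statements.S12447
import Groth.Agent.Lib.Helper60.DimFun
import Mathlib.AlgebraicGeometry.Noetherian

set_option autoImplicit false
set_option maxHeartbeats 400000
universe u
open CategoryTheory AlgebraicGeometry
open Props

namespace Groth.Agent.S12447

open TopologicalSpace Groth.Agent.Lib.Helper43 Groth.Agent.Lib.Helper60.DimFun

/-- Let S be a locally Noetherian scheme. Then the underlying topological space of S is catenary if and
only if locally in the Zariski topology there is a dimension function, i.e. every point has an open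
neighbourhood U carrying a function δ : U → ℤ which strictly decreases along nontrivial
specializations and drops by exactly one along immediate specializations. -/
theorem result (S : Scheme.{u}) [IsLocallyNoetherian S] :
    PtTop.IsCatenarySpace S ↔
      ∀ s : S, ∃ U : S.Opens, s ∈ U ∧ ∃ δ : U → ℤ, PtTop.IsDimensionFunction δ := by
  constructor
  · -- catenary ⇒ locally a dimension function
    intro hS s
    obtain ⟨_, ⟨U₀, hU₀, rfl⟩, hsU₀, -⟩ :=
      S.isBasis_affineOpens.exists_subset_of_mem_open (Set.mem_univ s) isOpen_univ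
    haveI : IsNoetherianRing Γ(S, U₀) := IsLocallyNoetherian.component_noetherian ⟨U₀, hU₀⟩
    haveI : NoetherianSpace U₀ := noetherianSpace_of_isAffineOpen U₀ hU₀
    haveI : QuasiSober U₀ := U₀.isOpenEmbedding'.quasiSober
    have hcat : PtTop.IsCatenarySpace U₀ :=
      PtCatLocal.isCatenarySpace_subtype (U₀ : Set S) U₀.isOpen.isLocallyClosed hS
    obtain ⟨V, hsV, δ, hδ⟩ := exists_dimFun hcat ⟨s, hsU₀⟩
    let U : S.Opens := ⟨Subtype.val '' (V : Set U₀), U₀.isOpen.isOpenMap_subtype_val _ V.isOpen⟩
    have hU : ∀ u : U, ∃ h : u.1 ∈ U₀, (⟨u.1, h⟩ : U₀) ∈ V := by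
      rintro ⟨_, ⟨v, hv, rfl⟩⟩
      exact ⟨v.2, hv⟩
    let φ : U → V := fun u => ⟨⟨u.1, (hU u).1⟩, (hU u).2⟩
    refine ⟨U, ⟨⟨s, hsU₀⟩, hsV, rfl⟩, δ ∘ φ, isDimensionFunction_comp φ ?_ ?_ ?_ δ hδ⟩
    · intro a b h
      apply Subtype.ext
      exact congrArg (fun v : V => v.1.1) h
    · intro v
      exact ⟨⟨v.1.1, ⟨v.1, v.2, rfl⟩⟩, rfl⟩
    · intro a b
      exact (subtype_specializes_iff a b).trans
        ((subtype_specializes_iff (φ a) (φ b)).trans (subtype_specializes_iff (φ a).1 (φ b).1)).symm
  · -- locally a dimension function ⇒ catenary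
    intro h
    apply PtCatLocal.isCatenarySpace_of_local
    intro s
    obtain ⟨U, hsU, δ, hδ⟩ := h s
    haveI : QuasiSober {x // x ∈ U} := U.isOpenEmbedding'.quasiSober
    exact ⟨U, hsU, PosetDim.isCatenarySpace δ hδ⟩

end Groth.Agent.S12447
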