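import Groth.Statements.S12452
import Groth.Agent.Lib.Helper43.ShColim
import Groth.Agent.Lib.Helper43.ShBHom

set_option autoImplicit false
universe u
open CategoryTheory TopologicalSpace Opposite
open ShSp

namespace Groth.Agent.S12452

/-- For sheaves of sets, let f : X → Y be a continuous map, F a sheaf of sets on X, G a sheaf of sets on
Y, and B_X, B_Y bases for the topologies of X and Y. Suppose given, for every V in B_Y and U in B_X
with U ⊆ f⁻¹V, a map φ_V^U : G(V) → F(U), compatibly with restrictions. Then there is exactly one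
morphism of sheaves ψ : G → f_*F (an f-map G → F) such that G(V) → F(f⁻¹V) → F(U) equals φ_V^U for
every such pair. -/
theorem result {X Y : TopCat.{u}} (f : X ⟶ Y) (F : X.Sheaf (Type u)) (G : Y.Sheaf (Type u))
    {BX : Set (Opens X)} (hBX : Opens.IsBasis BX) {BY : Set (Opens Y)} (hBY : Opens.IsBasis BY)
    (φ : ∀ (V : BY) (U : BX), (U : Opens X) ≤ (Opens.map f).obj V →
      (G.presheaf.obj (op (V : Opens Y)) → F.presheaf.obj (op (U : Opens X))))
    (hφ : ∀ (V V' : BY) (U U' : BX) (hUV : (U : Opens X) ≤ (Opens.map f).obj V)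
      (hU'V' : (U' : Opens X) ≤ (Opens.map f).obj V') (hV : (V' : Opens Y) ≤ V) (hU : (U' : Opens X) ≤ U)
      (s : G.presheaf.obj (op (V : Opens Y))),
      F.presheaf.map (homOfLE hU).op (φ V U hUV s) = φ V' U' hU'V' (G.presheaf.map (homOfLE hV).op s)) :
    ∃! ψ : G ⟶ (TopCat.Sheaf.pushforward (Type u) f).obj F,
      ∀ (V : BY) (U : BX) (hUV : (U : Opens X) ≤ (Opens.map f).obj V) (s : G.presheaf.obj (op (V : Opens Y))),
        F.presheaf.map (homOfLE hUV).op (ψ.1.app (op (V : Opens Y)) s) = φ V U hUV s := by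
  classical
  have hnb := fun {W : Opens X} {x : X} (hx : x ∈ W) => (Opens.isBasis_iff_nbhd.mp hBX) hx
  -- Step 1: the local sections `φ V U s` glue uniquely
  have key : ∀ (V : BY) (s : G.presheaf.obj (op (V : Opens Y))),
      ∃! t : F.presheaf.obj (op ((Opens.map f).obj V)),
        ∀ (U : BX) (hUV : (U : Opens X) ≤ (Opens.map f).obj V),
          F.presheaf.map (homOfLE hUV).op t = φ V U hUV s := by
    intro V s
    have hcov : (Opens.map f).obj V ≤
        ⨆ a : {U : BX // (U : Opens X) ≤ (Opens.map f).obj V}, (a.1 : Opens X) := by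
      intro x hx
      obtain ⟨U, hU, hxU, hUV⟩ := hnb hx
      exact Opens.mem_iSup.mpr ⟨⟨⟨U, hU⟩, hUV⟩, hxU⟩
    obtain ⟨t, ht⟩ := Groth.Agent.Lib.Helper43.ShColim.exists_glue (G := F)
      (U := (Opens.map f).obj V)
      (fun a : {U : BX // (U : Opens X) ≤ (Opens.map f).obj V} => (a.1 : Opens X))
      (fun a => a.2) hcov (fun a => φ V a.1 a.2 s) (by
        intro a b
        refine Groth.Agent.Lib.Helper43.ShColim.eq_of_forall_mem _ _ ?_
        intro x hx
        obtain ⟨U, hU, hxU, hUab⟩ := hnb hx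
        refine ⟨U, hUab, hxU, ?_⟩
        rw [Groth.Agent.Lib.Helper43.ShColim.res_res, Groth.Agent.Lib.Helper43.ShColim.res_res]
        have e1 := hφ V V a.1 ⟨U, hU⟩ a.2 ((hUab.trans inf_le_left).trans a.2) le_rfl
          (hUab.trans inf_le_left) s
        have e2 := hφ V V b.1 ⟨U, hU⟩ b.2 ((hUab.trans inf_le_left).trans a.2) le_rfl
          (hUab.trans inf_le_right) s
        exact e1.trans e2.symm)
    refine ⟨t, fun U hUV => ht ⟨U, hUV⟩, ?_⟩
    intro t' ht'
    refine Groth.Agent.Lib.Helper43.ShColim.eq_of_forall_mem _ _ ?_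
    intro x hx
    obtain ⟨U, hU, hxU, hUV⟩ := hnb hx
    exact ⟨U, hUV, hxU, (ht' ⟨U, hU⟩ hUV).trans (ht ⟨⟨U, hU⟩, hUV⟩).symm⟩
  choose α hα hαu using key
  -- Step 2: compatibility with restriction inside `BY`
  have hres : ∀ (V V' : BY) (h : V'.1 ≤ V.1) (s : G.presheaf.obj (op (V : Opens Y))),
      ((TopCat.Sheaf.pushforward (Type u) f).obj F).1.map (homOfLE h).op (α V s) =
        α V' (G.presheaf.map (homOfLE h).op s) := by
    intro V V' h s
    refine hαu V' _ _ ?_
    intro U hUV'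
    have hUV : (U : Opens X) ≤ (Opens.map f).obj V := hUV'.trans ((Opens.map f).map (homOfLE h)).le
    have e1 := hφ V V' U U hUV hUV' h le_rfl s
    rw [← e1, ← hα V s U hUV]
    have e2 : F.presheaf.map (homOfLE (le_refl (U : Opens X))).op = 𝟙 _ := F.presheaf.map_id _
    rw [e2]
    show Groth.Agent.Lib.Helper43.ShColim.res F hUV'
      (Groth.Agent.Lib.Helper43.ShColim.res F ((Opens.map f).map (homOfLE h)).le (α V s)) = _
    rw [Groth.Agent.Lib.Helper43.ShColim.res_res]
    rfl
  obtain ⟨ψ₀, hψ₀, hψ₀u⟩ := Groth.Agent.Lib.Helper43.ShBHom.existsUnique_hom_of_basis G.1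
    ((TopCat.Sheaf.pushforward (Type u) f).obj F) hBY α hres
  refine ⟨⟨ψ₀⟩, ?_, ?_⟩
  · intro V U hUV s
    show F.presheaf.map (homOfLE hUV).op (ψ₀.app (op (V : Opens Y)) s) = φ V U hUV s
    rw [hψ₀ V s]
    exact hα V s U hUV
  · intro ψ' hψ'
    have : ψ'.1 = ψ₀ := by
      refine hψ₀u _ ?_
      intro V s
      exact hαu V s _ (fun U hUV => hψ' V U hUV s)
    exact ObjectProperty.hom_ext _ this

end Groth.Agent.S12452
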