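import Groth.Statements.S12456
import Groth.Agent.Lib.Helper78.InfNbhdSch2

set_option autoImplicit false
universe u
open CategoryTheory AlgebraicGeometry
open OmegaSh

namespace Groth.Agent.S12456

/-- Let i : Z → X be an immersion, written as the closed subscheme of an open U ⊆ X cut out by an ideal
sheaf I followed by the inclusion of U. Then the first order infinitesimal neighbourhood of Z in X —
the closed subscheme of U cut out by I² — together with Z ⊂ V(I²) and V(I²) → U → X is a universal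
first order thickening of Z over X. (The inequality I² ≤ I is carried as an argument h; it always
holds.) -/
theorem result {X : Scheme.{u}} (U : X.Opens) (I : (U : Scheme.{u}).IdealSheafData)
    (h : I ^ 2 ≤ I) :
    OmegaSh.IsUnivThickening (I.subschemeι ≫ U.ι) (Scheme.IdealSheafData.inclusion h)
      ((I ^ 2).subschemeι ≫ U.ι) := by
  have hcomp : Scheme.IdealSheafData.inclusion h ≫ (I ^ 2).subschemeι = I.subschemeι :=
    Scheme.IdealSheafData.inclusion_subschemeι h
  haveI hci : IsClosedImmersion (Scheme.IdealSheafData.inclusion h) := by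
    haveI : IsClosedImmersion (Scheme.IdealSheafData.inclusion h ≫ (I ^ 2).subschemeι) := by
      rw [hcomp]; infer_instance
    exact IsClosedImmersion.of_comp _ (I ^ 2).subschemeι
  have hk1 : (I ^ 2).subschemeι.ker = I ^ 2 := Scheme.IdealSheafData.ker_subschemeι _
  have hk0 : I.subschemeι.ker = I := Scheme.IdealSheafData.ker_subschemeι _
  have hsq : (Scheme.IdealSheafData.inclusion h).ker * (Scheme.IdealSheafData.inclusion h).ker = ⊥ := by
    refine Groth.Agent.Lib.Helper78.InfNbhdSch.ker_mul_ker_eq_bot_of_ker_eq_sq' _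
      (I ^ 2).subschemeι ?_
    rw [hcomp, hk1, hk0]
  haveI : Mono ((I ^ 2).subschemeι ≫ U.ι) := inferInstance
  refine ⟨⟨⟨hci, Groth.Agent.Lib.Helper78.AlgSpLiftGlue.surjective_of_ker_mul_ker_eq_bot _ hsq⟩,
    hsq⟩, by rw [← Category.assoc, hcomp], ?_⟩
  intro T T' j b a hj hcomm
  haveI : IsClosedImmersion j := hj.1.1
  have hjs : Function.Surjective j := hj.1.2.surj
  -- factor through the open `U`
  have hrange : Set.range b ⊆ Set.range U.ι := by
    rintro _ ⟨y, rfl⟩
    obtain ⟨x, rfl⟩ := hjs y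
    have h1 := congrArg (fun m => m x) hcomm
    change b (j x) = U.ι (I.subschemeι (a x)) at h1
    rw [h1]
    exact ⟨_, rfl⟩
  obtain ⟨b₁, hb₁⟩ : ∃ b₁ : T' ⟶ (U : Scheme.{u}), b₁ ≫ U.ι = b :=
    ⟨IsOpenImmersion.lift U.ι b hrange, IsOpenImmersion.lift_fac _ _ _⟩
  have hc1 : a ≫ I.subschemeι = j ≫ b₁ := by
    rw [← cancel_mono U.ι, Category.assoc, Category.assoc, hb₁, hcomm]
  have hle : (I ^ 2).subschemeι.ker ≤ b₁.ker :=
    Groth.Agent.Lib.Helper78.InfNbhdSch.ker_le_ker_of_sqZero' (I ^ 2).subschemeι I.subschemeι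
      (by rw [hk1, hk0]) j hj.2 b₁ a hc1
  have hfac : IsClosedImmersion.lift (I ^ 2).subschemeι b₁ hle ≫ (I ^ 2).subschemeι = b₁ :=
    IsClosedImmersion.lift_fac _ _ _
  refine ⟨IsClosedImmersion.lift (I ^ 2).subschemeι b₁ hle, ⟨?_, ?_⟩, ?_⟩
  · rw [← cancel_mono (I ^ 2).subschemeι, Category.assoc, hfac, Category.assoc, hcomp, hc1]
  · rw [← Category.assoc, hfac, hb₁]
  · intro a'' ha''
    rw [← cancel_mono ((I ^ 2).subschemeι ≫ U.ι), ha''.2, ← Category.assoc, hfac, hb₁]

end Groth.Agent.S12456
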