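import Groth.Statements.S12459
import Groth.Agent.S12445
import Groth.Agent.S12446
import Groth.Agent.S9126
import Groth.Agent.Lib.Helper73.CatenaryTransfer
-- import your own Groth.Agent.* helpers here

set_option autoImplicit false
universe u
open CategoryTheory AlgebraicGeometry
open Props

namespace Groth.Agent.S12459
open Groth.Agent.Lib.Helper73.CatenaryTransfer

/-- For a locally Noetherian scheme S, the scheme S is universally catenary — every scheme X locally of
finite type over S has catenary underlying topological space — if and only if all local rings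
O_{S,s} are universally catenary rings. (Schemes X over S are taken in the universe of S.) -/
theorem result (S : Scheme.{u}) [IsLocallyNoetherian S] :
    (∀ (X : Scheme.{u}) (f : X ⟶ S), LocallyOfFiniteType f → PtTop.IsCatenarySpace X) ↔
      ∀ s : S, CAlg.IsUniversallyCatenary (S.presheaf.stalk s) := by
  constructor
  · intro h s
    obtain ⟨_, ⟨V, hV : IsAffineOpen V, rfl⟩, hsV, -⟩ :=
      (S.isBasis_affineOpens).exists_subset_of_mem_open (Set.mem_univ s) isOpen_univ
    haveI : IsNoetherianRing Γ(S, V) := IsLocallyNoetherian.component_noetherian ⟨V, hV⟩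
    have hA : CAlg.IsUniversallyCatenary Γ(S, V) := by
      refine ⟨inferInstance, fun C _ _ hC => ?_⟩
      let g : Spec (CommRingCat.of C) ⟶ S :=
        Spec.map (CommRingCat.ofHom (algebraMap Γ(S, V) C)) ≫ hV.fromSpec
      have hg : LocallyOfFiniteType g := by
        haveI : LocallyOfFiniteType (Spec.map (CommRingCat.ofHom (algebraMap Γ(S, V) C))) := by
          rw [HasRingHomProperty.Spec_iff (P := @LocallyOfFiniteType)]
          exact RingHom.finiteType_algebraMap.mpr hC
        infer_instance
      have hcat := h _ g hg
      have h2 := ((Groth.Agent.S12445.result (Spec (CommRingCat.of C))).1.mp hcat)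
        ⟨⊤, isAffineOpen_top _⟩
      exact isCatenary_of_ringEquiv
        (Scheme.ΓSpecIso (CommRingCat.of C)).commRingCatIsoToRingEquiv h2
    letI : Algebra Γ(S, V) (S.presheaf.stalk s) :=
      TopCat.Presheaf.algebra_section_stalk S.presheaf ⟨s, hsV⟩
    haveI := hV.isLocalization_stalk ⟨s, hsV⟩
    haveI : Algebra.EssFiniteType Γ(S, V) (S.presheaf.stalk s) :=
      Algebra.EssFiniteType.of_isLocalization _ (hV.primeIdealOf ⟨s, hsV⟩).asIdeal.primeCompl
    exact Groth.Agent.S9126.result Γ(S, V) (S.presheaf.stalk s) hA
  · intro h X f hf
    rw [Groth.Agent.S12446.result]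
    intro x
    letI : Algebra (S.presheaf.stalk (f.base x)) (X.presheaf.stalk x) :=
      (f.stalkMap x).hom.toAlgebra
    haveI : Algebra.EssFiniteType (S.presheaf.stalk (f.base x)) (X.presheaf.stalk x) :=
      LocallyOfFiniteType.stalkMap f x
    exact isCatenary_of_isUniversallyCatenary
      (Groth.Agent.S9126.result (S.presheaf.stalk (f.base x)) (X.presheaf.stalk x) (h _))

end Groth.Agent.S12459
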