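import Groth.Statements.S12460
-- import your own Groth.Agent.* helpers here

set_option autoImplicit false
universe u
open CategoryTheory AlgebraicGeometry
open Props

namespace Groth.Agent.S12460

theorem regular_stalk_iff {X : Scheme.{u}} {W : X.Opens} (hW : IsAffineOpen W) (x : X)
    (hx : x ∈ W) :
    IsRegularLocalRing (X.presheaf.stalk x) ↔
      IsRegularLocalRing (Localization.AtPrime (hW.primeIdealOf ⟨x, hx⟩).asIdeal) := by
  letI : Algebra Γ(X, W) (X.presheaf.stalk x) := X.presheaf.algebra_section_stalk ⟨x, hx⟩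
  haveI := hW.isLocalization_stalk ⟨x, hx⟩
  let e : Localization.AtPrime (hW.primeIdealOf ⟨x, hx⟩).asIdeal ≃ₐ[Γ(X, W)] X.presheaf.stalk x :=
    IsLocalization.algEquiv (hW.primeIdealOf ⟨x, hx⟩).asIdeal.primeCompl _ _
  exact ⟨fun h => IsRegularLocalRing.of_ringEquiv e.symm.toRingEquiv,
    fun h => IsRegularLocalRing.of_ringEquiv e.toRingEquiv⟩

theorem regular_stalk_Spec_iff (S : Type u) [CommRing S] (y : PrimeSpectrum S) :
    IsRegularLocalRing ((Spec (CommRingCat.of S)).presheaf.stalk y) ↔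
      IsRegularLocalRing (Localization.AtPrime y.asIdeal) := by
  let e : Localization.AtPrime y.asIdeal ≃+* (Spec (CommRingCat.of S)).presheaf.stalk y :=
    (StructureSheaf.stalkIso S y).toRingEquiv
  exact ⟨fun h => IsRegularLocalRing.of_ringEquiv e.symm,
    fun h => IsRegularLocalRing.of_ringEquiv e⟩

/-- the regular locus of `Y` inside an affine open `V` is open if `regLocus Γ(Y, V)` is -/
theorem isOpen_regular_inter {Y : Scheme.{u}} {V : Y.Opens} (hV : IsAffineOpen V)
    (h : IsOpen (EGA4.regLocus Γ(Y, V))) :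
    IsOpen {y : Y | y ∈ V ∧ IsRegularLocalRing (Y.presheaf.stalk y)} := by
  have hcont : Continuous (hV.primeIdealOf) := by
    unfold IsAffineOpen.primeIdealOf
    exact (hV.isoSpec.hom).continuous
  have h1 : IsOpen (hV.primeIdealOf ⁻¹' EGA4.regLocus Γ(Y, V)) := h.preimage hcont
  have h2 : {y : Y | y ∈ V ∧ IsRegularLocalRing (Y.presheaf.stalk y)} =
      Subtype.val '' (hV.primeIdealOf ⁻¹' EGA4.regLocus Γ(Y, V)) := by
    ext y
    constructor
    · rintro ⟨hy, hreg⟩
      exact ⟨⟨y, hy⟩, (regular_stalk_iff hV y hy).1 hreg, rfl⟩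
    · rintro ⟨⟨y', hy'⟩, hmem, rfl⟩
      exact ⟨hy', (regular_stalk_iff hV y' hy').2 hmem⟩
  rw [h2]
  exact V.isOpen.isOpenMap_subtype_val _ h1

/-- (1) ⇔ (3) ⇔ (4): let X be a locally Noetherian scheme. Then X is J-2 — for every morphism Y → X
locally of finite type the set of points y with O_{Y,y} a regular local ring is open in Y — if and
only if for every affine open U of X the ring Γ(X, U) is J-2 (every finite type algebra over it has
open regular locus), if and only if every point of X lies in such an affine open. (Schemes Y over X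
are taken in the universe of X.) -/
theorem result (X : Scheme.{u}) [IsLocallyNoetherian X] :
    ((∀ (Y : Scheme.{u}) (g : Y ⟶ X), LocallyOfFiniteType g →
        IsOpen {y : Y | IsRegularLocalRing (Y.presheaf.stalk y)}) ↔
      ∀ U : X.affineOpens, EGA4.IsJ2 Γ(X, U)) ∧
    ((∀ (Y : Scheme.{u}) (g : Y ⟶ X), LocallyOfFiniteType g →
        IsOpen {y : Y | IsRegularLocalRing (Y.presheaf.stalk y)}) ↔
      ∀ x : X, ∃ U : X.affineOpens, x ∈ (U : X.Opens) ∧ EGA4.IsJ2 Γ(X, U)) := by
  have h12 : (∀ (Y : Scheme.{u}) (g : Y ⟶ X), LocallyOfFiniteType g →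
        IsOpen {y : Y | IsRegularLocalRing (Y.presheaf.stalk y)}) →
      ∀ U : X.affineOpens, EGA4.IsJ2 Γ(X, U) := by
    intro h U S _ _ hS
    let φ : CommRingCat.of Γ(X, U) ⟶ CommRingCat.of S :=
      CommRingCat.ofHom (algebraMap Γ(X, U) S)
    let g : Spec (CommRingCat.of S) ⟶ X := Spec.map φ ≫ U.2.fromSpec
    haveI : LocallyOfFiniteType (Spec.map φ) := by
      rw [HasRingHomProperty.Spec_iff (P := @LocallyOfFiniteType)]
      exact RingHom.finiteType_algebraMap.2 hS
    have hopen := h (Spec (CommRingCat.of S)) g inferInstance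
    have heq : EGA4.regLocus S =
        {y : Spec (CommRingCat.of S) | IsRegularLocalRing
          ((Spec (CommRingCat.of S)).presheaf.stalk y)} := by
      ext y
      exact (regular_stalk_Spec_iff S y).symm
    rw [heq]
    exact hopen
  have h23 : (∀ U : X.affineOpens, EGA4.IsJ2 Γ(X, U)) →
      ∀ x : X, ∃ U : X.affineOpens, x ∈ (U : X.Opens) ∧ EGA4.IsJ2 Γ(X, U) := by
    intro h x
    obtain ⟨_, ⟨U, hU, rfl⟩, hxU, -⟩ :=
      X.isBasis_affineOpens.exists_subset_of_mem_open (Set.mem_univ x) isOpen_univ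
    exact ⟨⟨U, hU⟩, hxU, h ⟨U, hU⟩⟩
  have h31 : (∀ x : X, ∃ U : X.affineOpens, x ∈ (U : X.Opens) ∧ EGA4.IsJ2 Γ(X, U)) →
      ∀ (Y : Scheme.{u}) (g : Y ⟶ X), LocallyOfFiniteType g →
        IsOpen {y : Y | IsRegularLocalRing (Y.presheaf.stalk y)} := by
    intro h Y g hg
    rw [isOpen_iff_forall_mem_open]
    intro y hy
    obtain ⟨U, hxU, hJ⟩ := h (g y)
    obtain ⟨_, ⟨V, hV, rfl⟩, hyV, hVU⟩ :=
      Y.isBasis_affineOpens.exists_subset_of_mem_open
        (show y ∈ (g ⁻¹ᵁ (U : X.Opens) : Y.Opens) from hxU) (g ⁻¹ᵁ (U : X.Opens)).isOpen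
    have hVU' : V ≤ g ⁻¹ᵁ (U : X.Opens) := hVU
    have hft : (g.appLE U V hVU').hom.FiniteType :=
      LocallyOfFiniteType.finiteType_appLE g U.2 hV hVU'
    letI : Algebra Γ(X, U) Γ(Y, V) := (g.appLE U V hVU').hom.toAlgebra
    have hopenV : IsOpen (EGA4.regLocus Γ(Y, V)) := hJ Γ(Y, V) hft
    exact ⟨{y' | y' ∈ V ∧ IsRegularLocalRing (Y.presheaf.stalk y')}, fun y' h => h.2,
      isOpen_regular_inter hV hopenV, ⟨hyV, hy⟩⟩
  exact ⟨⟨h12, fun h => h31 (h23 h)⟩, ⟨fun h => h23 (h12 h), h31⟩⟩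

end Groth.Agent.S12460
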