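import Groth.Statements.S12462
import Mathlib

set_option autoImplicit false
universe u
open CategoryTheory CategoryTheory.Limits
open SpecSp

namespace Groth.Agent.S12462

open TopologicalSpace Topology

section helpers

/-- finite spaces are quasi-sober -/
theorem quasiSober_of_finite (Y : Type u) [TopologicalSpace Y] [Finite Y] : QuasiSober Y := by
  refine ⟨fun {S} hS hSc => ?_⟩
  classical
  have hfin : S.Finite := Set.toFinite S
  let t : Finset (Set Y) := hfin.toFinset.image (fun y => closure {y})
  have h1 : ∀ z ∈ t, IsClosed z := by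
    intro z hz
    obtain ⟨y, -, rfl⟩ := Finset.mem_image.1 hz
    exact isClosed_closure
  have h2 : S ⊆ ⋃₀ (↑t : Set (Set Y)) := by
    intro y hy
    refine ⟨closure {y}, ?_, subset_closure rfl⟩
    exact Finset.mem_coe.2 (Finset.mem_image.2 ⟨y, hfin.mem_toFinset.2 hy, rfl⟩)
  obtain ⟨z, hz, hSz⟩ := isIrreducible_iff_sUnion_isClosed.1 hS t h1 h2
  obtain ⟨y, hy, rfl⟩ := Finset.mem_image.1 hz
  refine ⟨y, ?_⟩
  have hy' : y ∈ S := hfin.mem_toFinset.1 hy
  exact le_antisymm (hSc.closure_subset_iff.2 (Set.singleton_subset_iff.2 hy')) hSz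

variable (X : Type u) [TopologicalSpace X]

abbrev KO : Type u := {U : Set X // IsOpen U ∧ IsCompact U}

def chi (j : Finset (KO X)) (x : X) : (↥j → Prop) := fun U => x ∈ U.1.1

lemma continuous_chi (j : Finset (KO X)) : Continuous (chi X j) :=
  continuous_pi fun U => continuous_Prop.2 U.1.2.1

abbrev Xj (j : Finset (KO X)) : Set (↥j → Prop) := Set.range (chi X j)

instance (j : Finset (KO X)) : Finite (Xj X j) := inferInstance
instance (j : Finset (KO X)) : T0Space (Xj X j) := inferInstance


/-- restriction of coordinates -/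
def res {j j' : Finset (KO X)} (h : j ≤ j') (v : Xj X j') : Xj X j :=
  ⟨fun U => v.1 ⟨U.1, h U.2⟩, by
    obtain ⟨x, hx⟩ := v.2
    exact ⟨x, by funext U; exact congrFun hx ⟨U.1, h U.2⟩⟩⟩

lemma continuous_res {j j' : Finset (KO X)} (h : j ≤ j') : Continuous (res X h) := by
  refine Continuous.subtype_mk ?_ _
  refine continuous_pi fun U => ?_
  exact (continuous_apply (⟨U.1, h U.2⟩ : ↥j')).comp continuous_subtype_val

def F : (Finset (KO X))ᵒᵖ ⥤ TopCat.{u} where
  obj j := TopCat.of (Xj X j.unop)
  map {j j'} f := TopCat.ofHom ⟨res X (leOfHom f.unop), continuous_res X _⟩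
  map_id j := by
    ext v
    rfl
  map_comp f g := by
    ext v
    rfl

def proj (j : Finset (KO X)) (x : X) : Xj X j := ⟨chi X j x, x, rfl⟩

lemma continuous_proj (j : Finset (KO X)) : Continuous (proj X j) :=
  (continuous_chi X j).subtype_mk _

def cone : Cone (F X) where
  pt := TopCat.of X
  π :=
    { app := fun j => TopCat.ofHom ⟨proj X j.unop, continuous_proj X _⟩
      naturality := by
        intro j j' f
        ext x
        rfl }


section spectral
variable [SpectralSpace X]

lemma eq_of_forall_mem_iff {x x' : X} (h : ∀ U : KO X, x ∈ U.1 ↔ x' ∈ U.1) : x = x' := by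
  have hb := PrespectralSpace.isTopologicalBasis (X := X)
  refine Inseparable.eq ?_
  rw [hb.inseparable_iff]
  intro s hs
  exact h ⟨s, hs⟩

lemma exists_point (b : KO X → Prop)
    (hb : ∀ j : Finset (KO X), ∃ x : X, ∀ U ∈ j, (x ∈ U.1 ↔ b U)) :
    ∃ x : X, ∀ U : KO X, (x ∈ U.1 ↔ b U) := by
  have hc : @CompactSpace X (constructibleTopology X) :=
    @Function.Surjective.compactSpace (WithConstructibleTopology X) X _ (constructibleTopology X)
      WithTopology.ofTopology (WithTopology.continuous_ofTopology _) _
      (WithTopology.ofTopology_surjective _)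
  let S : KO X → Set X := fun U => {x | x ∈ U.1 ↔ b U}
  have hS : ∀ U, IsClosed[constructibleTopology X] (S U) := by
    intro U
    by_cases hU : b U
    · have : S U = U.1 := by ext x; simp [S, hU]
      rw [this]
      rw [← @isOpen_compl_iff X _ (constructibleTopology X)]
      exact IsCompact.isOpen_constructibleTopology_of_isClosed (by simpa using U.2.2)
        U.2.1.isClosed_compl
    · have : S U = (U.1 : Set X)ᶜ := by ext x; simp [S, hU]
      rw [this]
      rw [@isClosed_compl_iff X (constructibleTopology X)]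
      exact IsCompact.isOpen_constructibleTopology_of_isOpen U.2.2 U.2.1
  have h := @IsCompact.inter_iInter_nonempty X (constructibleTopology X) Set.univ (KO X)
    hc.isCompact_univ S hS (by
      intro j
      obtain ⟨x, hx⟩ := hb j
      refine ⟨x, Set.mem_univ _, ?_⟩
      simp only [Set.mem_iInter]
      intro U hU
      exact hx U hU)
  obtain ⟨x, -, hx⟩ := h
  refine ⟨x, fun U => ?_⟩
  exact Set.mem_iInter.1 hx U


/-- the compatible family of truth values attached to a point of a cone -/
def bOf (s : Cone (F X)) (y : s.pt) : KO X → Prop := fun U =>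
  ((s.π.app (Opposite.op {U}) y : Xj X {U})).1 ⟨U, Finset.mem_singleton_self U⟩

lemma bOf_spec (s : Cone (F X)) (y : s.pt) (j : Finset (KO X)) (U : KO X) (hU : U ∈ j) :
    ((s.π.app (Opposite.op j) y : Xj X j)).1 ⟨U, hU⟩ ↔ bOf X s y U := by
  have h := s.w (homOfLE (Finset.singleton_subset_iff.2 hU) : ({U} : Finset (KO X)) ⟶ j).op
  have h2 := congrArg (fun f => (f y : Xj X {U})) h
  simp only at h2
  unfold bOf
  rw [← h2]
  rfl

lemma exists_lift (s : Cone (F X)) (y : s.pt) :
    ∃ x : X, ∀ U : KO X, (x ∈ U.1 ↔ bOf X s y U) := by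
  apply exists_point
  intro j
  obtain ⟨x, hx⟩ := ((s.π.app (Opposite.op j) y : Xj X j)).2
  refine ⟨x, fun U hU => ?_⟩
  rw [← bOf_spec X s y j U hU, ← hx]
  rfl

noncomputable def liftFun (s : Cone (F X)) (y : s.pt) : X := (exists_lift X s y).choose

lemma liftFun_spec (s : Cone (F X)) (y : s.pt) (U : KO X) :
    liftFun X s y ∈ U.1 ↔ bOf X s y U := (exists_lift X s y).choose_spec U

lemma continuous_liftFun (s : Cone (F X)) : Continuous (liftFun X s) := by
  rw [(PrespectralSpace.isTopologicalBasis (X := X)).continuous_iff]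
  intro U hU
  have : liftFun X s ⁻¹' U = (fun y => (s.π.app (Opposite.op {⟨U, hU⟩}) y : Xj X {⟨U, hU⟩})) ⁻¹'
      {v | v.1 ⟨⟨U, hU⟩, Finset.mem_singleton_self _⟩} := by
    ext y
    exact liftFun_spec X s y ⟨U, hU⟩
  rw [this]
  refine IsOpen.preimage (s.π.app _).hom.continuous ?_
  exact continuous_Prop.1 ((continuous_apply _).comp continuous_subtype_val)

noncomputable def isLimit : IsLimit (cone X) where
  lift s := TopCat.ofHom ⟨liftFun X s, continuous_liftFun X s⟩
  fac s j := by
    ext y
    apply Subtype.ext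
    funext U
    exact propext ((liftFun_spec X s y U.1).trans (bOf_spec X s y j.unop U.1 U.2).symm)
  uniq s m hm := by
    ext y
    refine eq_of_forall_mem_iff X (x := m y) (x' := liftFun X s y) fun U => ?_
    refine Iff.trans ?_ (liftFun_spec X s y U).symm
    have h2 := congrArg (fun f => (f y : Xj X {U})) (hm (Opposite.op {U}))
    simp only at h2
    unfold bOf
    rw [← h2]
    rfl

end spectral


end helpers

/-- A spectral space is a directed inverse limit of finite sober topological spaces. Precisely: for X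
spectral there exist a nonempty directed preordered index set J, a functor from the opposite of J to
topological spaces whose values are finite sober (T0, every irreducible closed subset has a generic
point) spaces, and a limit cone of it whose vertex is isomorphic to X. -/
theorem result (X : Type u) [TopologicalSpace X] [SpectralSpace X] :
    ∃ (J : Type u) (_ : Preorder J) (_ : Nonempty J) (_ : IsDirected J (· ≤ ·)) (F : Jᵒᵖ ⥤ TopCat.{u})
      (c : Cone F), Nonempty (IsLimit c) ∧
        (∀ j : Jᵒᵖ, Finite (F.obj j) ∧ T0Space (F.obj j) ∧ QuasiSober (F.obj j)) ∧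
        Nonempty (c.pt ≅ TopCat.of X) := by
  classical
  refine ⟨Finset (KO X), inferInstance, ⟨∅⟩,
    ⟨fun a b => ⟨a ∪ b, Finset.subset_union_left, Finset.subset_union_right⟩⟩,
    F X, cone X, ⟨isLimit X⟩, fun j => ⟨?_, ?_, ?_⟩, ⟨Iso.refl _⟩⟩
  · exact (inferInstance : Finite (Xj X j.unop))
  · exact (inferInstance : T0Space (Xj X j.unop))
  · exact quasiSober_of_finite (Xj X j.unop)

end Groth.Agent.S12462
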