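import Groth.Statements.S12482
import Mathlib.RingTheory.Regular.RegularSequence
import Mathlib.RingTheory.Ideal.Cotangent
import Mathlib.Tactic.Ring
import Mathlib.Tactic.LinearCombination

set_option autoImplicit false
universe u
open Dual

namespace Groth.Agent.S12482

/-- regularity hypothesis in elementary form -/
def Hreg {A : Type*} [CommRing A] {n : ℕ} (x : Fin n → A) : Prop :=
  ∀ i : Fin n, ∀ b : A, b * x i ∈ Ideal.span (x '' {j | j < i}) → b ∈ Ideal.span (x '' {j | j < i})

lemma image_lt_castSucc {A : Type*} {n : ℕ} (x : Fin (n + 1) → A) (i : Fin n) :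
    (x ∘ Fin.castSucc) '' {j | j < i} = x '' {j | j < Fin.castSucc i} := by
  ext y
  constructor
  · rintro ⟨j, hj, rfl⟩
    exact ⟨Fin.castSucc j, by simpa using hj, rfl⟩
  · rintro ⟨j, hj, rfl⟩
    have h := Fin.lt_def.1 hj
    have hi : (Fin.castSucc i).val = i.val := rfl
    rw [hi] at h
    have hj' : j.val < n := lt_trans h i.is_lt
    refine ⟨⟨j.val, hj'⟩, Fin.lt_def.2 h, ?_⟩
    show x (Fin.castSucc ⟨j.val, hj'⟩) = x j
    congr 1

lemma image_lt_last {A : Type*} {n : ℕ} (x : Fin (n + 1) → A) :
    x '' {j | j < Fin.last n} = Set.range (x ∘ Fin.castSucc) := by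
  ext y
  constructor
  · rintro ⟨j, hj, rfl⟩
    have hj' : j.val < n := Fin.lt_def.1 hj
    refine ⟨⟨j.val, hj'⟩, ?_⟩
    show x (Fin.castSucc ⟨j.val, hj'⟩) = x j
    congr 1
  · rintro ⟨j, rfl⟩
    exact ⟨Fin.castSucc j, Fin.castSucc_lt_last j, rfl⟩

/-- relations among a weakly regular sequence have coefficients in the ideal -/
lemma coeff_mem_of_sum_eq_zero {A : Type*} [CommRing A] :
    ∀ (n : ℕ) (x : Fin n → A), Hreg x → ∀ a : Fin n → A, ∑ i, a i * x i = 0 →
      ∀ i, a i ∈ Ideal.span (Set.range x) := by
  intro n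
  induction n with
  | zero => intro x _ a _ i; exact i.elim0
  | succ n ih =>
    intro x hx a ha
    have hx' : Hreg (x ∘ Fin.castSucc) := by
      intro i b hb
      rw [image_lt_castSucc] at hb ⊢
      exact hx (Fin.castSucc i) b hb
    rw [Fin.sum_univ_castSucc] at ha
    -- a_last * x_last ∈ J'
    have hlast : a (Fin.last n) * x (Fin.last n) ∈ Ideal.span (x '' {j | j < Fin.last n}) := by
      have : a (Fin.last n) * x (Fin.last n) =
          -∑ i : Fin n, a (Fin.castSucc i) * x (Fin.castSucc i) := by
        linear_combination ha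
      rw [this, image_lt_last]
      refine Ideal.neg_mem_iff _ |>.2 (Ideal.sum_mem _ fun i _ => ?_)
      exact Ideal.mul_mem_left _ _ (Ideal.subset_span ⟨i, rfl⟩)
    have hal := hx (Fin.last n) _ hlast
    rw [image_lt_last] at hal
    obtain ⟨c, hc⟩ := (Ideal.mem_span_range_iff_exists_fun).1 hal
    have hsum : ∑ i : Fin n, (a (Fin.castSucc i) + c i * x (Fin.last n)) * (x ∘ Fin.castSucc) i
        = 0 := by
      have h1 : ∑ i : Fin n, (a (Fin.castSucc i) + c i * x (Fin.last n)) * (x ∘ Fin.castSucc) i =
          ∑ i : Fin n, a (Fin.castSucc i) * x (Fin.castSucc i) +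
            x (Fin.last n) * ∑ i : Fin n, c i * (x ∘ Fin.castSucc) i := by
        rw [Finset.mul_sum, ← Finset.sum_add_distrib]
        refine Finset.sum_congr rfl fun i _ => ?_
        simp only [Function.comp_apply]
        ring
      rw [h1, hc]
      linear_combination ha
    have hle : Ideal.span (Set.range (x ∘ Fin.castSucc)) ≤ Ideal.span (Set.range x) :=
      Ideal.span_mono (Set.range_comp_subset_range _ _)
    have hIH := ih (x ∘ Fin.castSucc) hx' _ hsum
    intro i
    refine Fin.lastCases ?_ (fun i => ?_) i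
    · exact hle hal
    · have h2 := hle (hIH i)
      have h3 : c i * x (Fin.last n) ∈ Ideal.span (Set.range x) :=
        Ideal.mul_mem_left _ _ (Ideal.subset_span ⟨_, rfl⟩)
      have : a (Fin.castSucc i) = (a (Fin.castSucc i) + c i * x (Fin.last n)) -
          c i * x (Fin.last n) := by ring
      rw [this]
      exact Ideal.sub_mem _ h2 h3

/-- Let `A` be a commutative ring, `x_1, …, x_p` a sequence of elements of `A` such that each `x_i` is a
non-zero-divisor on `A/(x_1, …, x_{i-1})`, and `J` the ideal generated by the `x_i`. Then `J/J²` is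
a free `(A/J)`-module with basis the classes of the `x_i`: there is a basis of `J/J²` over `A/J`,
indexed by `1, …, p`, whose `i`-th vector is the class of `x_i`. (The other assertions of the
published statement, on the Koszul complex and on Ext and Tor against `A/J`, are stated separately.) -/
theorem result (A : Type u) [CommRing A] (p : ℕ) (x : Fin p → A)
    (hreg : RingTheory.Sequence.IsWeaklyRegular A (List.ofFn x)) :
    ∃ b : Module.Basis (Fin p) (A ⧸ Ideal.span (Set.range x)) (Ideal.span (Set.range x)).Cotangent,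
      ∀ i, b i = (Ideal.span (Set.range x)).toCotangent ⟨x i, Ideal.subset_span (Set.mem_range_self i)⟩ := by
  classical
  -- convert the regularity hypothesis
  have hH : Hreg x := by
    intro i b hb
    have h1 := (RingTheory.Sequence.isWeaklyRegular_iff A (List.ofFn x)).1 hreg i.val
      (by simp)
    have hset : {r | r ∈ (List.ofFn x).take i.val} = x '' {j | j < i} := by
      ext r
      simp only [Set.mem_ofPred_eq, List.mem_take_iff_getElem, Set.mem_image]
      constructor
      · rintro ⟨k, hk, rfl⟩
        have hk' : k < p := by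
          have := lt_of_lt_of_le hk (min_le_right _ _); simpa using this
        have hki : k < i.val := lt_of_lt_of_le hk (min_le_left _ _)
        exact ⟨⟨k, hk'⟩, Fin.lt_def.2 hki, by simp⟩
      · rintro ⟨j, hj, rfl⟩
        exact ⟨j.val, by simp [Fin.lt_def.1 hj], by simp⟩
    have hN : (Ideal.ofList ((List.ofFn x).take i.val) • ⊤ : Submodule A A) =
        Ideal.span (x '' {j | j < i}) := by
      rw [Ideal.ofList, hset, smul_eq_mul, Ideal.mul_top]
    rw [hN] at h1
    have h2 := (isSMulRegular_quotient_iff_mem_of_smul_mem _ _).1 h1 b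
    have hget : (List.ofFn x)[i.val]'(by simp) = x i := by simp
    rw [hget, smul_eq_mul, mul_comm] at h2
    exact h2 hb
  set J := Ideal.span (Set.range x) with hJ
  let v : Fin p → J.Cotangent := fun i => J.toCotangent ⟨x i, Ideal.subset_span (Set.mem_range_self i)⟩
  have hsm : ∀ (a : A) (w : J.Cotangent), (Ideal.Quotient.mk J a) • w = a • w := by
    intro a w
    rw [← Ideal.Quotient.algebraMap_eq, algebraMap_smul]
  have hli : LinearIndependent (A ⧸ J) v := by
    rw [Fintype.linearIndependent_iff]
    intro g hg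
    choose a ha using fun i => Ideal.Quotient.mk_surjective (g i)
    have h1 : ∑ i, g i • v i = J.toCotangent (∑ i, a i • (⟨x i, Ideal.subset_span
        (Set.mem_range_self i)⟩ : J)) := by
      rw [map_sum]
      refine Finset.sum_congr rfl fun i _ => ?_
      rw [map_smul, ← ha i, hsm]
    rw [h1, Ideal.toCotangent_eq_zero] at hg
    have h2 : ((∑ i, a i • (⟨x i, Ideal.subset_span (Set.mem_range_self i)⟩ : J) : J) : A) =
        ∑ i, a i * x i := by
      simp
    rw [h2, pow_two] at hg
    have hg' : ∑ i, a i * x i ∈ J • Submodule.span A (Set.range x) := hg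
    rw [Submodule.mem_ideal_smul_span_iff_exists_sum] at hg'
    obtain ⟨b, hb, hbsum⟩ := hg'
    rw [Finsupp.sum_fintype _ _ (by simp)] at hbsum
    have h3 : ∑ i, (a i - b i) * x i = 0 := by
      simp only [sub_mul, Finset.sum_sub_distrib]
      simp only [smul_eq_mul] at hbsum
      rw [hbsum, sub_self]
    have h4 := coeff_mem_of_sum_eq_zero p x hH _ h3
    intro i
    rw [← ha i, Ideal.Quotient.eq_zero_iff_mem]
    have := Ideal.add_mem _ (h4 i) (hb i)
    simpa using this
  have hsp : ⊤ ≤ Submodule.span (A ⧸ J) (Set.range v) := by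
    intro y _
    obtain ⟨z, rfl⟩ := J.toCotangent_surjective y
    obtain ⟨c, hc⟩ := (Ideal.mem_span_range_iff_exists_fun).1 z.2
    have hz : z = ∑ i, c i • (⟨x i, Ideal.subset_span (Set.mem_range_self i)⟩ : J) := by
      apply Subtype.ext
      simp [hc]
    rw [hz, map_sum]
    refine Submodule.sum_mem _ fun i _ => ?_
    rw [map_smul, ← hsm]
    exact Submodule.smul_mem _ _ (Submodule.subset_span ⟨i, rfl⟩)
  refine ⟨Module.Basis.mk hli hsp, fun i => ?_⟩
  rw [Module.Basis.mk_apply]

end Groth.Agent.S12482
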