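import Groth.Statements.S12491
import Mathlib
import Groth.Agent.S0563
import Groth.Agent.S0564
-- import your own Groth.Agent.* helpers here

set_option autoImplicit false
universe u
open VBPn

namespace Groth.Agent.S12491

open CategoryTheory Function in
/-- SES `0 → K → P → M → 0` with `P` projective and `pd M < n + 1`, `n ≥ 1`: then `pd K < n`. -/
theorem pdLT_of_exact {R : Type u} [CommRing R] {K P M : Type u} [AddCommGroup K] [Module R K]
    [AddCommGroup P] [Module R P] [AddCommGroup M] [Module R M] (f : K →ₗ[R] P) (g : P →ₗ[R] M)
    (hf : Injective f) (hfg : Exact f g) (hg : Surjective g) [Module.Projective R P] (n : ℕ)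
    (hn : 1 ≤ n) (h : HasProjectiveDimensionLT (ModuleCat.of R M) (n + 1)) :
    HasProjectiveDimensionLT (ModuleCat.of R K) n := by
  let S : ShortComplex (ModuleCat.{u} R) :=
    ShortComplex.mk (ModuleCat.ofHom f) (ModuleCat.ofHom g) (by
      ext x
      exact hfg.apply_apply_eq_zero x)
  have hS : S.ShortExact := ModuleCat.shortComplex_shortExact S hfg hf hg
  have hP : Projective (ModuleCat.of R P) := (IsProjective.iff_projective _).mp inferInstance
  have h2 : HasProjectiveDimensionLT S.X₂ n :=
    hasProjectiveDimensionLT_of_ge (ModuleCat.of R P) 1 n hn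
  exact hS.hasProjectiveDimensionLT_X₁ n h2 h

open CategoryTheory Function in
/-- Over a ring of global dimension `≤ k`, a `k`-th syzygy is projective. -/
theorem projective_of_syzygy {R : Type u} [CommRing R] (k : ℕ) (N : ℕ → Type u)
    [∀ i, AddCommGroup (N i)] [∀ i, Module R (N i)] (d : ∀ i, N i →ₗ[R] N (i + 1))
    (hproj : ∀ i, 1 ≤ i → i ≤ k → Module.Projective R (N i)) (hinj : Injective (d 0))
    (hex : ∀ i, i + 1 < k → LinearMap.range (d i) = LinearMap.ker (d (i + 1)))
    (hgl : ∀ (C : Type u) [AddCommGroup C] [Module R C],
      HasProjectiveDimensionLT (ModuleCat.of R C) (k + 1)) :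
    Module.Projective R (N 0) := by
  rcases Nat.eq_zero_or_pos k with hk | hk
  · subst hk
    have := hgl (N 0)
    have hP : Projective (ModuleCat.of R (N 0)) := inferInstance
    exact (IsProjective.iff_projective _).mpr hP
  · have key : ∀ m i, i + 1 + m = k →
        HasProjectiveDimensionLT (ModuleCat.of R ↥(LinearMap.range (d i))) (i + 1) := by
      intro m
      induction m with
      | zero =>
        intro i hi
        have hp := hproj (i + 1) (by omega) (by omega)
        have hC := hgl (N (i + 1) ⧸ LinearMap.range (d i))
        have hC' : HasProjectiveDimensionLT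
            (ModuleCat.of R (N (i + 1) ⧸ LinearMap.range (d i))) (i + 1 + 1) := by
          have : i + 1 + 1 = k + 1 := by omega
          rw [this]; exact hC
        exact pdLT_of_exact (LinearMap.range (d i)).subtype (LinearMap.range (d i)).mkQ
          (Submodule.injective_subtype _) (LinearMap.exact_subtype_mkQ _)
          (Submodule.mkQ_surjective _) (i + 1) (by omega) hC'
      | succ m ih =>
        intro i hi
        have h1 := ih (i + 1) (by omega)
        have hp := hproj (i + 1) (by omega) (by omega)
        have h2 : HasProjectiveDimensionLT (ModuleCat.of R ↥(LinearMap.ker (d (i + 1)))) (i + 1) :=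
          pdLT_of_exact (LinearMap.ker (d (i + 1))).subtype (d (i + 1)).rangeRestrict
            (Submodule.injective_subtype _)
            (by
              rw [LinearMap.exact_iff, Submodule.range_subtype, LinearMap.ker_rangeRestrict])
            (LinearMap.surjective_rangeRestrict _) (i + 1) (by omega) h1
        have heq := hex i (by omega)
        exact hasProjectiveDimensionLT_of_iso (LinearEquiv.ofEq _ _ heq.symm).toModuleIso (i + 1)
    have h0 := key (k - 1) 0 (by omega)
    have hP : Projective (ModuleCat.of R ↥(LinearMap.range (d 0))) := inferInstance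
    have hP' : Module.Projective R ↥(LinearMap.range (d 0)) :=
      (IsProjective.iff_projective _).mpr hP
    exact Module.Projective.of_equiv (LinearEquiv.ofInjective (d 0) hinj).symm


/-- Let A be a regular local ring, k ≥ 0, and N_0, N_1, … A-modules with N_0 finitely generated and N_1,
…, N_k finitely generated and free, with linear maps d_i : N_i → N_{i+1} such that d_0 is injective
and the sequence 0 → N_0 → N_1 → ⋯ → N_k is exact. Then for every prime ideal p of A of height at
most k the localization of N_0 at p is a free module over A_p. The published statement is for a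
coherent analytic sheaf on a complex manifold that is locally a k-th syzygy sheaf and says its set
of non-free stalks has codimension greater than k; this row is the statement at one stalk, over any
regular local ring. -/
theorem result (A : Type u) [CommRing A] [IsRegularLocalRing A]
    (k : ℕ) (N : ℕ → Type u) [∀ i, AddCommGroup (N i)] [∀ i, Module A (N i)] [Module.Finite A (N 0)]
    (hfree : ∀ i, 1 ≤ i → i ≤ k → Module.Free A (N i) ∧ Module.Finite A (N i))
    (d : ∀ i, N i →ₗ[A] N (i + 1)) (hinj : Function.Injective (d 0))
    (hex : ∀ i, i + 1 < k → LinearMap.range (d i) = LinearMap.ker (d (i + 1)))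
    (p : Ideal A) [p.IsPrime] (hp : p.height ≤ k) :
    Module.Free (Localization.AtPrime p) (LocalizedModule p.primeCompl (N 0)) := by
  classical
  have hRLR : IsRegularLocalRing (Localization.AtPrime p) := Groth.Agent.S0564.result A p
  have hfin : p.height ≠ ⊤ := ne_top_of_le_ne_top (ENat.coe_ne_top k) hp
  obtain ⟨d', hd'⟩ := ENat.ne_top_iff_exists.mp hfin
  have hd'k : d' ≤ k := by
    rw [← hd'] at hp
    exact_mod_cast hp
  have hdim : ringKrullDim (Localization.AtPrime p) = d' := by
    rw [IsLocalization.AtPrime.ringKrullDim_eq_height p, ← hd']
    rfl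
  have hgl : ∀ (C : Type u) [AddCommGroup C] [Module (Localization.AtPrime p) C],
      CategoryTheory.HasProjectiveDimensionLT (ModuleCat.of (Localization.AtPrime p) C) (k + 1) := by
    intro C _ _
    have := Groth.Agent.S0563.result (Localization.AtPrime p) d' hdim C
    exact CategoryTheory.hasProjectiveDimensionLT_of_ge _ (d' + 1) (k + 1) (by omega)
  let N' : ℕ → Type u := fun i => LocalizedModule p.primeCompl (N i)
  let d'' : ∀ i, N' i →ₗ[Localization.AtPrime p] N' (i + 1) := fun i =>
    IsLocalizedModule.mapExtendScalars p.primeCompl
      (LocalizedModule.mkLinearMap p.primeCompl (N i))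
      (LocalizedModule.mkLinearMap p.primeCompl (N (i + 1))) (Localization.AtPrime p) (d i)
  have hcoe : ∀ i, ⇑(d'' i) = ⇑(IsLocalizedModule.map p.primeCompl
      (LocalizedModule.mkLinearMap p.primeCompl (N i))
      (LocalizedModule.mkLinearMap p.primeCompl (N (i + 1))) (d i)) := fun i => rfl
  have hproj' : ∀ i, 1 ≤ i → i ≤ k → Module.Projective (Localization.AtPrime p) (N' i) := by
    intro i h1 h2
    have := (hfree i h1 h2).1
    exact inferInstanceAs (Module.Projective (Localization p.primeCompl)
      (LocalizedModule p.primeCompl (N i)))
  have hinj' : Function.Injective (d'' 0) := by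
    rw [hcoe]
    exact IsLocalizedModule.map_injective p.primeCompl _ _ (d 0) hinj
  have hex' : ∀ i, i + 1 < k → LinearMap.range (d'' i) = LinearMap.ker (d'' (i + 1)) := by
    intro i hi
    have hexact : Function.Exact (d i) (d (i + 1)) := by
      rw [LinearMap.exact_iff]; exact (hex i hi).symm
    have h1 := IsLocalizedModule.map_exact p.primeCompl
      (LocalizedModule.mkLinearMap p.primeCompl (N i))
      (LocalizedModule.mkLinearMap p.primeCompl (N (i + 1)))
      (LocalizedModule.mkLinearMap p.primeCompl (N (i + 1 + 1))) (d i) (d (i + 1)) hexact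
    have h2 : Function.Exact (d'' i) (d'' (i + 1)) := by
      rw [hcoe, hcoe]; exact h1
    exact ((LinearMap.exact_iff).mp h2).symm
  have hP : Module.Projective (Localization.AtPrime p) (N' 0) :=
    projective_of_syzygy k N' d'' hproj' hinj' hex' hgl
  have hfin0 : Module.Finite (Localization.AtPrime p) (LocalizedModule p.primeCompl (N 0)) :=
    inferInstance
  exact Module.free_of_flat_of_isLocalRing

end Groth.Agent.S12491
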