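import Groth.Statements.S1250
import Mathlib
import Groth.Agent.Lib.Helper95.FlatLocC

set_option autoImplicit false
universe u
open FlatMor

namespace Groth.Agent.S1250

/-- Given an elementary dévissage E of N at q over p in dimension n, the following are equivalent: N_q
is flat over R; G_z is flat over R'; G_y (G viewed as a D-module) is flat over R'. Also equivalent
to each other: N becomes flat over R on some basic open D(g) ∋ q of Spec S; G becomes flat over R'
on some basic open of Spec C containing z; G as a D-module becomes flat over R' on some basic open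
of Spec D containing y. -/
theorem result {R S : Type u} [CommRing R] [CommRing S] [Algebra R S] [Algebra.FiniteType R S]
    (N : Type u) [AddCommGroup N] [Module S N] [Module R N] [IsScalarTower R S N] [Module.Finite S N]
    (p : Ideal R) [p.IsPrime] (q : Ideal S) [q.IsPrime] [q.LiesOver p] (n : ℕ) (E : FlatCA.ElemDevissage R S N p q n) :
    [FlatCA.FlatAt R q N, FlatCA.FlatAt E.R' E.z E.G, FlatCA.FlatAt E.R' E.y E.G].TFAE ∧
    [∃ g : S, g ∉ q ∧ Module.Flat R (LocalizedModule (Submonoid.powers g) N),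
     ∃ g : E.C, g ∉ E.z ∧ Module.Flat E.R' (LocalizedModule (Submonoid.powers g) E.G),
     ∃ g : E.D, g ∉ E.y ∧ Module.Flat E.R' (LocalizedModule (Submonoid.powers g) E.G)].TFAE := by
  obtain ⟨hetR, -, -⟩ := E.etaleR
  obtain ⟨hetS, hqS, -⟩ := E.etaleS
  have := hetR
  have := hetS
  have : E.q'.LiesOver q := hqS
  have : Module.Finite E.D E.C := E.finiteDC
  let e : TensorProduct S E.S' N ≃ₗ[E.S'] E.G := E.isBaseChange.equiv ≪≫ₗ E.iso
  have h12 : FlatCA.FlatAt R q N ↔ FlatCA.FlatAt E.R' E.z E.G :=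
    Groth.Agent.Lib.Helper95.FlatLocC.flat_at_iff_z N E.G q E.q' E.z e E.surjC
  have h32 : FlatCA.FlatAt E.R' E.y E.G ↔ FlatCA.FlatAt E.R' E.z E.G :=
    Groth.Agent.Lib.Helper95.FlatLocC.flat_at_y_iff_z E.G E.z E.y E.uniq
  have h12' := Groth.Agent.Lib.Helper95.FlatLocC.exists_flat_powers_S_iff_C (R := R) (R' := E.R') N E.G q E.q' E.z e
    E.surjC
  have h32' := Groth.Agent.Lib.Helper95.FlatLocC.exists_flat_powers_D_iff_C (R' := E.R') E.G E.z
    E.y E.uniq
  refine ⟨?_, ?_⟩
  · tfae_have 1 ↔ 2 := h12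
    tfae_have 3 ↔ 2 := h32
    tfae_finish
  · tfae_have 1 ↔ 2 := h12'
    tfae_have 3 ↔ 2 := h32'
    tfae_finish

end Groth.Agent.S1250
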