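import Groth.Statements.S1251
import Mathlib
import Groth.Agent.Lib.Helper95.FpLocC

set_option autoImplicit false
universe u
open FlatMor

namespace Groth.Agent.S1251

theorem finitePresentation_of_smoothRelDim {R D : Type u} [CommRing R] [CommRing D] [Algebra R D]
    (n : ℕ) (h : FlatCA.SmoothRelDim n R D) : Algebra.FinitePresentation R D := by
  have : AlgebraicGeometry.SmoothOfRelativeDimension n
      (AlgebraicGeometry.Spec.map (CommRingCat.ofHom (algebraMap R D))) := h
  have : AlgebraicGeometry.Smooth
      (AlgebraicGeometry.Spec.map (CommRingCat.ofHom (algebraMap R D))) :=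
    AlgebraicGeometry.SmoothOfRelativeDimension.smooth n _
  have h1 : AlgebraicGeometry.LocallyOfFinitePresentation
      (AlgebraicGeometry.Spec.map (CommRingCat.ofHom (algebraMap R D))) := inferInstance
  rw [AlgebraicGeometry.HasRingHomProperty.Spec_iff
    (P := @AlgebraicGeometry.LocallyOfFinitePresentation)] at h1
  exact RingHom.finitePresentation_algebraMap.mp h1

/-- Given an elementary dévissage E of N at q over p in dimension n, with S of finite presentation over
R: the finite map D → C is of finite presentation; the following are equivalent: N_q is a finitely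
presented S_q-module; G_z is a finitely presented C_z-module; G_y is a finitely presented
D_y-module. Also equivalent to each other: N is finitely presented on some basic open of Spec S
containing q; G is finitely presented on some basic open of Spec C containing z; G as a D-module is
finitely presented on some basic open of Spec D containing y. -/
theorem result {R S : Type u} [CommRing R] [CommRing S] [Algebra R S] [Algebra.FinitePresentation R S]
    (N : Type u) [AddCommGroup N] [Module S N] [Module R N] [IsScalarTower R S N] [Module.Finite S N]
    (p : Ideal R) [p.IsPrime] (q : Ideal S) [q.IsPrime] [q.LiesOver p] (n : ℕ) (E : FlatCA.ElemDevissage R S N p q n) :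
    Algebra.FinitePresentation E.D E.C ∧
    [Module.FinitePresentation (Localization.AtPrime q) (LocalizedModule q.primeCompl N),
     Module.FinitePresentation (Localization.AtPrime E.z) (LocalizedModule E.z.primeCompl E.G),
     Module.FinitePresentation (Localization.AtPrime E.y) (LocalizedModule E.y.primeCompl E.G)].TFAE ∧
    [∃ g : S, g ∉ q ∧ Module.FinitePresentation (Localization.Away g) (LocalizedModule (Submonoid.powers g) N),
     ∃ g : E.C, g ∉ E.z ∧ Module.FinitePresentation (Localization.Away g) (LocalizedModule (Submonoid.powers g) E.G),
     ∃ g : E.D, g ∉ E.y ∧ Module.FinitePresentation (Localization.Away g) (LocalizedModule (Submonoid.powers g) E.G)].TFAE := by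
  obtain ⟨hetR, -, -⟩ := E.etaleR
  obtain ⟨hetS, hqS, -⟩ := E.etaleS
  have := hetR
  have := hetS
  have : E.q'.LiesOver q := hqS
  have : Module.Finite E.D E.C := E.finiteDC
  have : Algebra.FinitePresentation E.S' E.C := E.fpC
  have hRS' : Algebra.FinitePresentation R E.S' := Algebra.FinitePresentation.trans R S E.S'
  have hR'S' : Algebra.FinitePresentation E.R' E.S' :=
    Algebra.FinitePresentation.of_restrict_scalars_finitePresentation R E.R' E.S'
  have hR'C : Algebra.FinitePresentation E.R' E.C := Algebra.FinitePresentation.trans E.R' E.S' E.C
  have hR'D : Algebra.FinitePresentation E.R' E.D := finitePresentation_of_smoothRelDim n E.smooth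
  have hDC : Algebra.FinitePresentation E.D E.C :=
    Algebra.FinitePresentation.of_restrict_scalars_finitePresentation E.R' E.D E.C
  have : Module.Finite E.S' E.C := Module.Finite.of_surjective (Algebra.linearMap E.S' E.C) E.surjC
  have : Module.FinitePresentation E.S' E.C :=
    Module.FinitePresentation.of_finite_of_finitePresentation E.S' E.C
  have : Module.FinitePresentation E.D E.C :=
    Module.FinitePresentation.of_finite_of_finitePresentation E.D E.C
  let e : TensorProduct S E.S' N ≃ₗ[E.S'] E.G := E.isBaseChange.equiv ≪≫ₗ E.iso
  have h12 := Groth.Agent.Lib.Helper95.FpLocC.fp_at_iff_z N E.G q E.q' E.z e E.surjC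
  have h32 := Groth.Agent.Lib.Helper95.FpLocC.fp_at_y_iff_z E.G E.z E.y E.uniq
  have h12' := Groth.Agent.Lib.Helper95.FpLocC.exists_fp_powers_S_iff_C N E.G q E.q' E.z e
    E.surjC
  have h32' := Groth.Agent.Lib.Helper95.FpLocC.exists_fp_powers_D_iff_C E.G E.z E.y E.uniq
  refine ⟨hDC, ?_, ?_⟩
  · tfae_have 1 ↔ 2 := h12
    tfae_have 3 ↔ 2 := h32
    tfae_finish
  · tfae_have 1 ↔ 2 := h12'
    tfae_have 3 ↔ 2 := h32'
    tfae_finish

end Groth.Agent.S1251
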