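import Groth.Statements.S12515
import Mathlib.FieldTheory.IntermediateField.Adjoin.Basic
import Mathlib.Algebra.CharP.Algebra
import Mathlib.Tactic.FieldSimp
import Mathlib.Tactic.LinearCombination
import Mathlib.Tactic.Ring
import Mathlib.Tactic.NormNum
import Mathlib.RingTheory.Localization.FractionRing
import Mathlib.RingTheory.UniqueFactorizationDomain.Basic
-- import your own Groth.Agent.* helpers here

set_option autoImplicit false
open FunFld

namespace Groth.Agent.S12515


/-- Squarefree decomposition in a well-founded divisibility monoid. -/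
theorem sq_decomp {R : Type*} [CommMonoidWithZero R] [IsCancelMulZero R] [WfDvdMonoid R] (x : R)
    (hx : x ≠ 0) : ∃ s f : R, x = s ^ 2 * f ∧ Squarefree f := by
  induction x using (wellFounded_dvdNotUnit (α := R)).induction with
  | _ x ih =>
    by_cases hsq : Squarefree x
    · exact ⟨1, x, by simp, hsq⟩
    · unfold Squarefree at hsq
      push Not at hsq
      obtain ⟨d, ⟨x', hx'⟩, hd⟩ := hsq
      have hx'0 : x' ≠ 0 := by
        rintro rfl
        exact hx (by rw [hx', mul_zero])
      have hdd : ¬ IsUnit (d * d) := fun h => hd (isUnit_of_mul_isUnit_left h)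
      obtain ⟨s, f, hsf, hf⟩ := ih x' ⟨hx'0, d * d, hdd, by rw [hx', mul_comm]⟩ hx'0
      refine ⟨d * s, f, ?_, hf⟩
      rw [hx', hsf, mul_pow, sq d]
      simp only [mul_assoc]

open Polynomial IntermediateField in
theorem aux (A F K : Type*) [CommRing A] [IsDomain A] [WfDvdMonoid A] [Field F] [Algebra A F]
    [IsFractionRing A F] [Field K] [Algebra F K] (h2 : (2 : F) ≠ 0)
    (hdeg : Module.finrank F K = 2) :
    ∃ (y : K) (f : A), Squarefree f ∧ y ^ 2 = algebraMap F K (algebraMap A F f) ∧
      IntermediateField.adjoin F ({y} : Set K) = ⊤ := by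
  have hfd : FiniteDimensional F K := Module.finite_of_finrank_pos (by omega)
  have : IsSimpleOrder (IntermediateField F K) :=
    IntermediateField.isSimpleOrder_of_finrank_prime F K (by rw [hdeg]; exact Nat.prime_two)
  have key : ∀ w : K, w ∉ Set.range (algebraMap F K) → F⟮w⟯ = ⊤ := by
    intro w hw
    rcases eq_bot_or_eq_top F⟮w⟯ with h | h
    · exfalso
      rw [IntermediateField.adjoin_simple_eq_bot_iff, IntermediateField.mem_bot] at h
      exact hw h
    · exact h
  obtain ⟨z, hz⟩ : ∃ z : K, z ∉ Set.range (algebraMap F K) := by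
    by_contra hcon
    push Not at hcon
    have : (⊥ : IntermediateField F K) = ⊤ := by
      ext x
      simp only [IntermediateField.mem_bot, IntermediateField.mem_top, iff_true]
      exact hcon x
    have h1 : Module.finrank F (⊥ : IntermediateField F K) = 1 := IntermediateField.finrank_bot
    rw [this, IntermediateField.finrank_top'] at h1
    omega
  have hzint : IsIntegral F z := Algebra.IsIntegral.isIntegral z
  have hztop := key z hz
  have hnd : (minpoly F z).natDegree = 2 := by
    rw [← IntermediateField.adjoin.finrank hzint, hztop, IntermediateField.finrank_top', hdeg]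
  have hmonic : (minpoly F z).Monic := minpoly.monic hzint
  set p := minpoly F z with hp
  have hc2 : p.coeff 2 = 1 := by
    have := hmonic.leadingCoeff
    rwa [Polynomial.leadingCoeff, hnd] at this
  have heq : z ^ 2 + algebraMap F K (p.coeff 1) * z + algebraMap F K (p.coeff 0) = 0 := by
    have h0 : aeval z p = 0 := minpoly.aeval F z
    rw [Polynomial.aeval_eq_sum_range, hnd] at h0
    simp only [Finset.sum_range_succ, Finset.sum_range_zero, zero_add, pow_zero, pow_one, hc2,
      Algebra.smul_def, mul_one, map_one, one_mul] at h0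
    rw [← h0]; ring
  have h2K : (2 : K) ≠ 0 := by
    have : algebraMap F K 2 ≠ 0 := (map_ne_zero_iff _ (algebraMap F K).injective).mpr h2
    rwa [map_ofNat] at this
  -- complete the square
  set c1 : F := p.coeff 1 / 2 with hc1
  have hc1' : p.coeff 1 = 2 * c1 := by rw [hc1]; field_simp
  set g : F := c1 ^ 2 - p.coeff 0 with hg
  set w : K := z + algebraMap F K c1 with hw
  have hwF : w ∉ Set.range (algebraMap F K) := by
    rintro ⟨c, hc⟩
    apply hz
    refine ⟨c - c1, ?_⟩
    rw [map_sub, hc, hw]; ring
  have hwg : w ^ 2 = algebraMap F K g := by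
    rw [hw, hg, map_sub, map_pow]
    rw [hc1', map_mul, map_ofNat] at heq
    linear_combination heq
  have hw0 : w ≠ 0 := by
    intro h
    exact hwF ⟨0, by rw [map_zero, h]⟩
  have hg0 : g ≠ 0 := by
    intro h
    rw [h, map_zero] at hwg
    exact hw0 (pow_eq_zero_iff (two_ne_zero) |>.mp hwg)
  obtain ⟨n, d, hd, hgnd⟩ := IsFractionRing.div_surjective (A := A) g
  have hd0 : algebraMap A F d ≠ 0 := IsFractionRing.to_map_ne_zero_of_mem_nonZeroDivisors hd
  have hn0 : n ≠ 0 := by
    rintro rfl
    rw [map_zero, zero_div] at hgnd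
    exact hg0 hgnd.symm
  have hdA : d ≠ 0 := nonZeroDivisors.ne_zero hd
  obtain ⟨s, f, hsf, hf⟩ := sq_decomp (n * d) (mul_ne_zero hn0 hdA)
  have hs0 : s ≠ 0 := by
    rintro rfl
    rw [zero_pow two_ne_zero, zero_mul] at hsf
    exact mul_ne_zero hn0 hdA hsf
  have hsF : algebraMap A F s ≠ 0 :=
    (map_ne_zero_iff _ (IsFractionRing.injective A F)).mpr hs0
  set ι : A →+* K := (algebraMap F K).comp (algebraMap A F) with hι
  have hιinj : Function.Injective ι := (algebraMap F K).injective.comp (IsFractionRing.injective A F)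
  have hιs : ι s ≠ 0 := (map_ne_zero_iff _ hιinj).mpr hs0
  have hιd : ι d ≠ 0 := (map_ne_zero_iff _ hιinj).mpr hdA
  have hwnd : w ^ 2 * ι d = ι n := by
    rw [hwg, ← hgnd, map_div₀]
    have : algebraMap F K (algebraMap A F d) ≠ 0 := hιd
    field_simp
    simp only [hι, RingHom.comp_apply]
    ring
  refine ⟨ι d * w / ι s, f, hf, ?_, ?_⟩
  · have h1 : ι (n * d) = ι (s ^ 2 * f) := by rw [hsf]
    rw [map_mul, map_mul, map_pow] at h1
    show _ = ι f
    field_simp
    linear_combination h1 + ι d * hwnd
  · apply key
    rintro ⟨c, hc⟩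
    apply hwF
    refine ⟨c * algebraMap A F s / algebraMap A F d, ?_⟩
    rw [map_div₀, map_mul, hc]
    show _ * ι s / ι d = w
    field_simp

/-- If `char k ≠ 2` and `K` has degree `2` over the rational function field `k(x)`, then `K = k(x)(y)`
for some `y` with `y² = f(x)`, `f` a squarefree polynomial over `k`. -/
theorem result (k K : Type*) [Field k] [Field K] (h2 : ringChar k ≠ 2)
    [Algebra (RatFunc k) K] (hdeg : Module.finrank (RatFunc k) K = 2) :
    ∃ (y : K) (f : Polynomial k), Squarefree f ∧
      y ^ 2 = algebraMap (RatFunc k) K (algebraMap (Polynomial k) (RatFunc k) f) ∧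
      IntermediateField.adjoin (RatFunc k) ({y} : Set K) = ⊤ := by
  have h2F : (2 : RatFunc k) ≠ 0 := by
    intro h
    apply h2
    have hk : (2 : k) = 0 := by
      have : algebraMap k (RatFunc k) 2 = 0 := by rw [map_ofNat]; exact h
      exact (map_eq_zero_iff _ (algebraMap k (RatFunc k)).injective).mp this
    have : ((2 : ℕ) : k) = 0 := by exact_mod_cast hk
    have hdvd := (ringChar.spec k 2).mp this
    have hle := Nat.le_of_dvd (by norm_num) hdvd
    have : ringChar k ≠ 1 := by
      intro h1
      have := ringChar.spec k 1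
      rw [h1] at this
      simp at this
    have : ringChar k ≠ 0 := by
      intro h0
      rw [h0] at hdvd
      simp at hdvd
    omega
  exact aux (Polynomial k) (RatFunc k) K h2F hdeg

end Groth.Agent.S12515
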