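import Groth.Statements.S12517
import Mathlib.FieldTheory.IntermediateField.Adjoin.Basic
import Mathlib.Algebra.CharP.Algebra
import Mathlib.Tactic.FieldSimp
import Mathlib.Tactic.LinearCombination
import Mathlib.Tactic.Ring
import Mathlib.Tactic.NormNum
-- import your own Groth.Agent.* helpers here

set_option autoImplicit false
open FunFld

namespace Groth.Agent.S12517


open Polynomial IntermediateField in
theorem aux (F K : Type*) [Field F] [Field K] [CharP F 2] [Algebra F K]
    (hdeg : Module.finrank F K = 2) [Algebra.IsSeparable F K] :
    ∃ (y : K) (f : F), y ^ 2 + y = algebraMap F K f ∧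
      IntermediateField.adjoin F ({y} : Set K) = ⊤ := by
  have hfd : FiniteDimensional F K := Module.finite_of_finrank_pos (by omega)
  have : IsSimpleOrder (IntermediateField F K) :=
    IntermediateField.isSimpleOrder_of_finrank_prime F K (by rw [hdeg]; exact Nat.prime_two)
  -- adjoin of a non-base element is top
  have key : ∀ w : K, w ∉ Set.range (algebraMap F K) → F⟮w⟯ = ⊤ := by
    intro w hw
    rcases eq_bot_or_eq_top F⟮w⟯ with h | h
    · exfalso
      rw [IntermediateField.adjoin_simple_eq_bot_iff, IntermediateField.mem_bot] at h
      exact hw h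
    · exact h
  -- pick z outside the base field
  obtain ⟨z, hz⟩ : ∃ z : K, z ∉ Set.range (algebraMap F K) := by
    by_contra hcon
    push Not at hcon
    have : (⊥ : IntermediateField F K) = ⊤ := by
      ext x
      simp only [IntermediateField.mem_bot, IntermediateField.mem_top, iff_true]
      exact hcon x
    have h1 : Module.finrank F (⊥ : IntermediateField F K) = 1 := IntermediateField.finrank_bot
    rw [this, IntermediateField.finrank_top'] at h1
    omega
  have hzint : IsIntegral F z := Algebra.IsIntegral.isIntegral z
  have hztop := key z hz
  have hnd : (minpoly F z).natDegree = 2 := by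
    rw [← IntermediateField.adjoin.finrank hzint, hztop, IntermediateField.finrank_top', hdeg]
  have hmonic : (minpoly F z).Monic := minpoly.monic hzint
  have hsep : (minpoly F z).Separable := Algebra.IsSeparable.isSeparable F z
  set p := minpoly F z with hp
  have hc2 : p.coeff 2 = 1 := by
    have := hmonic.leadingCoeff
    rwa [Polynomial.leadingCoeff, hnd] at this
  have h2F : (2 : F) = 0 := CharP.cast_eq_zero F 2
  -- b ≠ 0
  have hb : p.coeff 1 ≠ 0 := by
    intro hb0
    have hder : derivative p = 0 := by
      ext n
      rw [Polynomial.coeff_derivative, Polynomial.coeff_zero]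
      rcases n with _ | _ | n
      · simp [hb0]
      · simp only [zero_add, hc2, one_mul]
        norm_num
        exact_mod_cast h2F
      · rw [Polynomial.coeff_eq_zero_of_natDegree_lt (by omega), zero_mul]
    rw [Polynomial.separable_def, hder, isCoprime_zero_right] at hsep
    have := Polynomial.natDegree_eq_zero_of_isUnit hsep
    omega
  -- the equation
  have heq : z ^ 2 + algebraMap F K (p.coeff 1) * z + algebraMap F K (p.coeff 0) = 0 := by
    have h0 : aeval z p = 0 := minpoly.aeval F z
    rw [Polynomial.aeval_eq_sum_range, hnd] at h0
    simp only [Finset.sum_range_succ, Finset.sum_range_zero, zero_add, pow_zero, pow_one, hc2,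
      Algebra.smul_def, mul_one, map_one, one_mul] at h0
    rw [← h0]; ring
  set b := algebraMap F K (p.coeff 1) with hbdef
  have hbK : b ≠ 0 := by
    rw [hbdef]
    exact (map_ne_zero_iff _ (algebraMap F K).injective).mpr hb
  refine ⟨z / b, -(p.coeff 0) / (p.coeff 1) ^ 2, ?_, ?_⟩
  · rw [map_div₀, map_neg, map_pow, ← hbdef]
    field_simp
    linear_combination heq
  · apply key
    rintro ⟨c, hc⟩
    apply hz
    refine ⟨p.coeff 1 * c, ?_⟩
    rw [map_mul, hc, ← hbdef]
    field_simp

/-- If `k` is perfect of characteristic `2` and `K` is a separable extension of degree `2` of the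
rational function field `k(x)`, then `K = k(x)(y)` for some `y` with `y² + y = f(x)`, `f ∈ k(x)`.
The correspondence between such extensions and cosets of `{a² + a}` in `k(x)` is not stated. -/
theorem result (k K : Type*) [Field k] [Field K] [PerfectField k]
    (h2 : ringChar k = 2) [Algebra (RatFunc k) K] (hdeg : Module.finrank (RatFunc k) K = 2)
    [Algebra.IsSeparable (RatFunc k) K] :
    ∃ (y : K) (f : RatFunc k), y ^ 2 + y = algebraMap (RatFunc k) K f ∧
      IntermediateField.adjoin (RatFunc k) ({y} : Set K) = ⊤ := by
  have : CharP k 2 := by
    have := ringChar.charP k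
    rwa [h2] at this
  have : CharP (RatFunc k) 2 := charP_of_injective_algebraMap (algebraMap k (RatFunc k)).injective 2
  exact aux (RatFunc k) K hdeg

end Groth.Agent.S12517
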