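import Groth.Statements.S12518
import Groth.Agent.Lib.Helper63.ASNormal

set_option autoImplicit false
open FunFld

namespace Groth.Agent.S12518

/-- If `k` is perfect of characteristic `2` and `K` is a separable extension of degree `2` of `k(x)`,
then `K = k(x)(y)` for some `y` with `y² + y = f(x)` such that every pole of `f`, at any place of
`k(x)/k` including the infinite one, has odd order. -/
theorem result (k K : Type*) [Field k] [Field K] [PerfectField k] (h2 : ringChar k = 2)
    [Algebra k K] [Algebra (RatFunc k) K] [IsScalarTower k (RatFunc k) K]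
    (hdeg : Module.finrank (RatFunc k) K = 2) [Algebra.IsSeparable (RatFunc k) K] :
    ∃ (y : K) (f : RatFunc k), y ^ 2 + y = algebraMap (RatFunc k) K f ∧
      IntermediateField.adjoin (RatFunc k) ({y} : Set K) = ⊤ ∧
      ∀ P : FunFld.Place k (RatFunc k), P.ord f < 0 → Odd (P.ord f) := by
  have hc2 : CharP k 2 := by rw [← h2]; exact ringChar.charP k
  have hK2 : CharP K 2 :=
    charP_of_injective_algebraMap (algebraMap (RatFunc k) K).injective 2
  obtain ⟨y₀, f₀, hy₀, hnot⟩ :=
    Groth.Agent.Lib.Helper63.ASNormal.exists_as_generator (E := RatFunc k) (K := K) hdeg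
  obtain ⟨g, hg⟩ := Groth.Agent.Lib.Helper63.ASNormal.exists_good f₀
  refine ⟨y₀ + algebraMap (RatFunc k) K g, f₀ + g ^ 2 + g, ?_, ?_, hg⟩
  · rw [CharTwo.add_sq, map_add, map_add, map_pow, ← hy₀]
    ring
  · apply Groth.Agent.Lib.Helper63.Hyperelliptic.adjoin_eq_top_of_prime
      (by rw [hdeg]; exact Nat.prime_two)
    rintro ⟨c, hc⟩
    apply hnot
    refine ⟨c - g, ?_⟩
    rw [map_sub, hc]
    ring

end Groth.Agent.S12518
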