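import Groth.Statements.S12545
import Groth.Agent.Lib.Helper75.GITMu

set_option autoImplicit false
universe u
open TensorProduct LaurentPolynomial
open GIT

namespace Groth.Agent.S12545

/-- Let a commutative bialgebra A over a field k coact linearly on affine ι-space, let λ be a
one-parameter subgroup (a bialgebra map to the Laurent polynomial ring) and v ≠ 0 a vector; write
μ(v, λ) = m when t^m · (v moved by λ(t)) extends to the affine line with non-zero value at t = 0.
Then v moved by λ(t) has no limit as t → 0 exactly when μ(v, λ) > 0, has a limit different from the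
origin exactly when μ(v, λ) = 0, and tends to the origin exactly when μ(v, λ) < 0. -/
theorem result (k : Type u) [Field k] (A : Type u) [CommRing A] [Bialgebra k A]
    (ι : Type u) [Fintype ι] [HopfRep.Comod k A (MvPolynomial ι k)] [GLin.IsCoactAlg k A (MvPolynomial ι k)]
    (hlin : GLin.IsLinear k A ι) (lam : A →ₐc[k] k[T;T⁻¹]) (v : ι → k) (hv : v ≠ 0) :
    (¬ GLin.HasLimit k A lam (GLin.vecPt k ι v) ↔ ∃ m : ℤ, GLin.IsMu k A lam v m ∧ 0 < m) ∧
      ((GLin.HasLimit k A lam (GLin.vecPt k ι v) ∧
          ¬ GLin.IsLimit k A lam (GLin.vecPt k ι v) (GLin.vecPt k ι (fun _ => (0 : k)))) ↔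
        GLin.IsMu k A lam v 0) ∧
      (GLin.IsLimit k A lam (GLin.vecPt k ι v) (GLin.vecPt k ι (fun _ => (0 : k))) ↔
        ∃ m : ℤ, GLin.IsMu k A lam v m ∧ m < 0) := by
  open Groth.Agent.Lib.Helper75.GITMu in
  have hne := suppAll_nonempty lam v hv
  set d := (suppAll lam v).min' hne with hd
  have hdmem : ∃ i, (orb lam v i).coeff d ≠ 0 := (mem_suppAll lam v d).1 (Finset.min'_mem _ hne)
  have hdmin : ∀ i n, (orb lam v i).coeff n ≠ 0 → d ≤ n :=
    fun i n hn => Finset.min'_le _ _ ((mem_suppAll lam v n).2 ⟨i, hn⟩)
  have hlim : GLin.HasLimit k A lam (GLin.vecPt k ι v) ↔ 0 ≤ d := by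
    rw [hasLimit_iff]
    constructor
    · intro h
      by_contra hc
      rw [not_le] at hc
      obtain ⟨i, hi⟩ := hdmem
      exact hi (h i d hc)
    · intro h i n hn
      by_contra hc
      have := hdmin i n hc
      omega
  have hzero : GLin.IsLimit k A lam (GLin.vecPt k ι v) (GLin.vecPt k ι (fun _ => (0 : k))) ↔ 0 < d := by
    rw [isLimit_iff]
    constructor
    · rintro ⟨h1, h2⟩
      by_contra hc
      rw [not_lt] at hc
      obtain ⟨i, hi⟩ := hdmem
      rcases lt_or_eq_of_le hc with hlt | heq
      · exact hi (h1 i d hlt)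
      · rw [heq] at hi
        exact hi (congrFun h2 i)
    · intro h
      refine ⟨fun i n hn => ?_, ?_⟩
      · by_contra hc
        have := hdmin i n hc
        omega
      · funext i
        by_contra hc
        have := hdmin i 0 hc
        omega
  refine ⟨?_, ?_, ?_⟩
  · rw [hlim]
    constructor
    · intro h
      refine ⟨-d, ?_, by omega⟩
      rw [isMu_iff_min lam v hne, neg_neg]
    · rintro ⟨m, hm, hpos⟩
      rw [isMu_iff_min lam v hne] at hm
      omega
  · rw [hlim, hzero, isMu_iff_min lam v hne]
    constructor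
    · rintro ⟨h1, h2⟩
      omega
    · intro h
      constructor <;> omega
  · rw [hzero]
    constructor
    · intro h
      refine ⟨-d, ?_, by omega⟩
      rw [isMu_iff_min lam v hne, neg_neg]
    · rintro ⟨m, hm, hneg⟩
      rw [isMu_iff_min lam v hne] at hm
      omega

end Groth.Agent.S12545
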