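import Groth.Statements.S12546
import Groth.Agent.Lib.Helper75.BinFormK

set_option autoImplicit false
universe u
open TensorProduct LaurentPolynomial
open GIT

namespace Groth.Agent.S12546

/-- Let k be an algebraically closed field of characteristic zero and let SL_2 act by substitution on
binary forms of degree d, a form being the point a = (a_0, …, a_d) with F = Σ_i (d choose i) a_i
x^(d−i) y^i. For a ≠ 0: a is stable (closed orbit, finite stabiliser) if and only if every non-zero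
linear form ℓ and every m with ℓ^m dividing F satisfy 2m < d, i.e. F has no root on the projective
line of multiplicity d/2 or more. -/
theorem result (k : Type u) [Field k] [IsAlgClosed k] [CharZero k]
    (d : ℕ) (a : Fin (d + 1) → k) (ha : a ≠ 0) :
    @GLin.IsStableVec k _ (CoordGrp.SLn 2 k) _ _ (CoordGrp.FormIdx 2 d) (GLin.comodAlong ((CoordGrp.SLn.mkHom 2 k).comp (CoordGrp.Mat.toGLn 2 k)) (CoordGrp.formsCoact k 2 d))
      (GLin.isCoactAlg_comodAlong ((CoordGrp.SLn.mkHom 2 k).comp (CoordGrp.Mat.toGLn 2 k)) (CoordGrp.formsCoact k 2 d)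
        (CoordGrp.formsCoact_isCoactAlg k 2 d))
      (CoordGrp.binVec d a) ↔
      ∀ ℓ : MvPolynomial (Fin 2) k, ℓ.IsHomogeneous 1 → ℓ ≠ 0 →
        ∀ m : ℕ, ℓ ^ m ∣ CoordGrp.formPoly (CoordGrp.binVec d a) → 2 * m < d := by
  classical
  letI cSL : HopfRep.Comod k (CoordGrp.SLn 2 k) (CoordGrp.FormRing k 2 d) :=
    GLin.comodAlong ((CoordGrp.SLn.mkHom 2 k).comp (CoordGrp.Mat.toGLn 2 k))
      (CoordGrp.formsCoact k 2 d)
  haveI hSL : GLin.IsCoactAlg k (CoordGrp.SLn 2 k) (CoordGrp.FormRing k 2 d) :=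
    GLin.isCoactAlg_comodAlong ((CoordGrp.SLn.mkHom 2 k).comp (CoordGrp.Mat.toGLn 2 k))
      (CoordGrp.formsCoact k 2 d) (CoordGrp.formsCoact_isCoactAlg k 2 d)
  haveI hFT : Algebra.FiniteType k (CoordGrp.SLn 2 k) :=
    Groth.Agent.Lib.Helper75.BinForm.finiteType_SLn 2 k
  have key := Groth.Agent.Lib.Helper23.StabOpen.isStablePt_iff (K := k) (A := CoordGrp.SLn 2 k)
    (R := CoordGrp.FormRing k 2 d)
    (GLin.vecPt k (CoordGrp.FormIdx 2 d) (CoordGrp.binVec d a))
  change GLin.IsStablePt k (CoordGrp.SLn 2 k)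
    (GLin.vecPt k (CoordGrp.FormIdx 2 d) (CoordGrp.binVec d a)) ↔ _
  rw [key]
  constructor
  · rintro ⟨hcl, hfin⟩
    exact Groth.Agent.Lib.Helper75.BinForm.smallRoots_of_stable _ hcl hfin
  · intro H
    exact ⟨fun z hz => Groth.Agent.Lib.Helper75.BinForm.exists_actPt_of_smallRoots _ H z hz,
      Groth.Agent.Lib.Helper75.BinForm.finite_stab_of_smallRoots _ H⟩

end Groth.Agent.S12546
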