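import Groth.Statements.S12549
import Groth.Agent.Lib.Helper98.ChainHullGIT

set_option autoImplicit false
universe u
open GIT
open Finset Groth.Agent.Lib.Helper98.ChainHull Groth.Agent.Lib.Helper98.ChainHullGIT

namespace Groth.Agent.S12549

/-- Let g ≥ 1 and n ≥ 2g, and let e_0, …, e_n be natural numbers with e_0 = 0, e_n = n + g, e_0 ≤ … ≤
e_n, e_i ≤ i for i ≤ n − g and e_i ≤ i + g for all i. Then for all real r_0 ≥ r_1 ≥ … ≥ r_n with Σ
r_i = 0, not all zero, some chain 0 = c_0 < c_1 < … < c_μ = n has Σ_j (e_(c_(j+1)) − e_(c_j)) ·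
(r_(c_(j+1)) + r_(c_j)) < 0. -/
theorem result (n g : ℕ) (hg : 1 ≤ g) (hn : 2 * g ≤ n)
    (e : Fin (n + 1) → ℕ) (he0 : e 0 = 0) (hen : e (Fin.last n) = n + g) (hmono : Monotone e)
    (hle : ∀ i : Fin (n + 1), (i : ℕ) ≤ n - g → e i ≤ (i : ℕ)) (hle' : ∀ i : Fin (n + 1), e i ≤ (i : ℕ) + g)
    (r : Fin (n + 1) → ℝ) (hanti : Antitone r) (hsum : ∑ i, r i = 0) (hr : r ≠ 0) :
    ∃ (μ : ℕ) (c : Fin (μ + 1) → Fin (n + 1)), StrictMono c ∧ c 0 = 0 ∧ c (Fin.last μ) = Fin.last n ∧
      ∑ j : Fin μ, ((e (c j.succ) : ℝ) - (e (c j.castSucc) : ℝ)) * (r (c j.succ) + r (c j.castSucc)) < 0 := by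
  classical
  obtain ⟨m, hm⟩ : ∃ m, m = n - g := ⟨_, rfl⟩
  obtain ⟨x, hxdef⟩ : ∃ x : Fin (n + 1) → ℝ, x = fun i => xs m g i.val := ⟨_, rfl⟩
  have hxi : ∀ i, x i = xs m g i.val := fun i => by rw [hxdef]
  have hxmono : StrictMono x := fun i j hij => by rw [hxi, hxi]; exact xs_strictMono m g hij
  have hx0 : x 0 = 0 := by rw [hxi]; simp [xs]
  have hxl : x (Fin.last n) = n + g := by rw [hxi, Fin.val_last, xs_gt (by omega)]
  obtain ⟨δ, hδdef⟩ : ∃ δ : Fin (n + 1) → ℝ, δ = fun i => x i - (e i : ℝ) := ⟨_, rfl⟩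
  have hδi : ∀ i, δ i = x i - e i := fun i => by rw [hδdef]
  have hδ0 : ∀ i, 0 ≤ δ i := by
    intro i
    rw [hδi, hxi, sub_nonneg]
    rcases le_or_gt i.val m with h | h
    · rw [xs_le h]; exact_mod_cast hle i (hm ▸ h)
    · rw [xs_gt h]; exact_mod_cast hle' i
  have hδl : δ (Fin.last n) = 0 := by rw [hδi, hxl, hen]; push_cast; ring
  have hδz : δ 0 = 0 := by rw [hδi, hx0, he0]; simp
  have hg0 : (0 : ℝ) ≤ g := by positivity
  have hx1 : ∀ k : Fin (n + 1), 0 < k → 1 ≤ x k := by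
    intro k hk
    rw [hxi]
    have hk1 : 1 ≤ k.val := by
      have : (0 : Fin (n + 1)).val < k.val := hk
      rw [Fin.val_zero] at this
      exact this
    have hk1' : (1 : ℝ) ≤ k.val := by exact_mod_cast hk1
    unfold xs
    split_ifs <;> linarith
  have hrl : ∀ k, r (Fin.last n) ≤ r k := fun k => hanti (Fin.le_last k)
  have hs0 : r (Fin.last n) - r 0 ≤ 0 := sub_nonpos.mpr (hanti (Fin.zero_le _))
  obtain ⟨w, hw0, hwsupp, -, hρ0, hρ, μ, c, hcmono, hc0, hcl, hcsum⟩ :=
    hull x r hxmono hanti (n - (0 : Fin (n + 1)).val) 0 rfl (r (Fin.last n) - r 0) hs0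
      (by
        intro k hk
        have h1 := hx1 k hk
        have h2 := hrl k
        rw [hx0, sub_zero]
        nlinarith)
  refine ⟨μ, c, hcmono, hc0, hcl, ?_⟩
  have hsplit : ∑ j : Fin μ, ((e (c j.succ) : ℝ) - (e (c j.castSucc) : ℝ)) *
      (r (c j.succ) + r (c j.castSucc)) = chainSum x r c - chainSum δ r c := by
    unfold chainSum
    rw [← Finset.sum_sub_distrib]
    apply Finset.sum_congr rfl
    intro j _
    rw [hδi, hδi]; ring
  have hD := chainSum_delta_ge δ r hδ0 hδl hanti μ c hcmono hcl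
  rw [hc0, hδz] at hD
  have hv : chainSum x r c < 0 := by
    rw [hcsum, hx0, hxl]
    simp only [sub_zero]
    obtain ⟨M, hMdef⟩ : ∃ M : Fin (n + 1) → ℝ, M = fun k => ∑ i, max (x k - x i) 0 := ⟨_, rfl⟩
    have hMk : ∀ k, M k = ∑ i, max (x k - x i) 0 := fun k => by rw [hMdef]
    have hBk : ∀ k : Fin (n + 1), k ≠ 0 → ((n : ℝ) + 1) * (x k) ^ 2 < 2 * ((n : ℝ) + g) * M k := by
      intro k hk
      have hk1 : 1 ≤ k.val := by
        rcases Nat.eq_zero_or_pos k.val with h | h
        · exact absurd (Fin.ext h) hk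
        · exact h
      have := hinge_pos n g hg hn k.val hk1 k.is_le
      rw [← hm] at this
      rw [hMk, hxi]
      have e1 : ∑ i : Fin (n + 1), max (xs m g k.val - x i) 0 =
          ∑ i ∈ range (n + 1), max (xs m g k.val - xs m g i) 0 := by
        rw [← Fin.sum_univ_eq_sum_range (fun i => max (xs m g k.val - xs m g i) 0) (n + 1)]
        exact Finset.sum_congr rfl (fun i _ => by rw [hxi])
      rw [e1]
      exact this
    have hsumρ : ((n : ℝ) + 1) * r (Fin.last n) + ∑ k, w k * M k ≤ 0 := by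
      have h1 : ∑ i, (r (Fin.last n) + ∑ k, w k * max (x k - x i) 0) ≤ ∑ i, r i :=
        Finset.sum_le_sum (fun i _ => hρ i (Fin.zero_le i))
      rw [hsum, Finset.sum_add_distrib, Finset.sum_const, Finset.card_univ, Fintype.card_fin,
        Finset.sum_comm, nsmul_eq_mul] at h1
      have h2 : ∑ k, ∑ i, w k * max (x k - x i) 0 = ∑ k, w k * M k :=
        Finset.sum_congr rfl (fun k _ => by rw [hMk, Finset.mul_sum])
      rw [h2] at h1
      push_cast at h1
      exact h1
    have hexw : ∃ k, 0 < w k := by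
      by_contra hcon
      push Not at hcon
      have hwz : ∀ k, w k = 0 := fun k => le_antisymm (hcon k) (hw0 k)
      have h1 : r (Fin.last n) = r 0 := by
        rw [← hρ0]
        simp [hwz]
      apply hr
      have hconst : ∀ i, r i = r 0 := fun i =>
        le_antisymm (hanti (Fin.zero_le i)) (h1 ▸ hrl i)
      have h2 : ((n : ℝ) + 1) * r 0 = 0 := by
        rw [← hsum, Finset.sum_congr rfl (fun i _ => hconst i), Finset.sum_const, Finset.card_univ,
          Fintype.card_fin, nsmul_eq_mul]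
        push_cast; ring
      have h3 : r 0 = 0 := by
        rcases mul_eq_zero.mp h2 with h | h
        · exfalso; linarith [show (0 : ℝ) ≤ n by positivity]
        · exact h
      funext i
      rw [hconst i, h3]; rfl
    have hlt : ∑ k, w k * (((n : ℝ) + 1) * (x k) ^ 2) < ∑ k, w k * (2 * ((n : ℝ) + g) * M k) := by
      apply Finset.sum_lt_sum
      · intro k _
        rcases eq_or_ne k 0 with h | h
        · rw [hwsupp k (by rw [h]), zero_mul, zero_mul]
        · exact mul_le_mul_of_nonneg_left (hBk k h).le (hw0 k)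
      · obtain ⟨k, hk⟩ := hexw
        have hk0 : k ≠ 0 := by
          intro h
          rw [hwsupp k (by rw [h])] at hk
          exact lt_irrefl _ hk
        exact ⟨k, Finset.mem_univ _, mul_lt_mul_of_pos_left (hBk k hk0) hk⟩
    have hnpos : (0 : ℝ) < (n : ℝ) + 1 := by positivity
    have e2 : ∑ k, w k * (((n : ℝ) + 1) * (x k) ^ 2) = ((n : ℝ) + 1) * ∑ k, w k * (x k) ^ 2 := by
      rw [Finset.mul_sum]; exact Finset.sum_congr rfl (fun k _ => by ring)
    have e3 : ∑ k, w k * (2 * ((n : ℝ) + g) * M k) = 2 * ((n : ℝ) + g) * ∑ k, w k * M k := by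
      rw [Finset.mul_sum]; exact Finset.sum_congr rfl (fun k _ => by ring)
    rw [e2, e3] at hlt
    have hd : (0 : ℝ) < 2 * ((n : ℝ) + g) := by positivity
    have h4 : 2 * ((n : ℝ) + g) * (((n : ℝ) + 1) * r (Fin.last n) + ∑ k, w k * M k) ≤ 0 :=
      mul_nonpos_of_nonneg_of_nonpos hd.le hsumρ
    by_contra hcon
    push Not at hcon
    have h5 := mul_nonneg hnpos.le hcon
    nlinarith
  rw [hsplit]
  linarith

end Groth.Agent.S12549
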