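import Groth.Statements.S12550
import Mathlib.LinearAlgebra.FiniteDimensional.Lemmas
import Mathlib.Data.Set.Card
import Mathlib.Tactic.Linarith
import Mathlib.Tactic.NormNum
-- import your own Groth.Agent.* helpers here

set_option autoImplicit false
universe u
open GIT

namespace Groth.Agent.S12550

/-- Let V be a finite-dimensional vector space over a field K and x_0, …, x_m non-zero vectors, a
configuration of m + 1 points of the projective space P(V). If for every subspace L with 0 ≠ L ≠ V
the number of indices i with x_i ∈ L, multiplied by dim V, is less than dim L · (m + 1) (the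
configuration is stable), then no two proper subspaces L', L'' with L' ∩ L'' = 0 contain between
them all the x_i. -/
theorem result (K : Type u) [Field K]
    (V : Type u) [AddCommGroup V] [Module K V] [FiniteDimensional K V]
    (m : ℕ) (x : Fin (m + 1) → V) (hx : ∀ i, x i ≠ 0)
    (hst : ∀ L : Submodule K V, L ≠ ⊥ → L ≠ ⊤ →
      Set.ncard {i : Fin (m + 1) | x i ∈ L} * Module.finrank K V < Module.finrank K L * (m + 1)) :
    ¬ ∃ L' L'' : Submodule K V, L' ≠ ⊤ ∧ L'' ≠ ⊤ ∧ Disjoint L' L'' ∧ ∀ i, x i ∈ L' ∨ x i ∈ L'' := by
  rintro ⟨L', L'', hL'top, hL''top, hdisj, hcov⟩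
  set n := Module.finrank K V with hn
  set A : Set (Fin (m + 1)) := {i | x i ∈ L'} with hA
  set B : Set (Fin (m + 1)) := {i | x i ∈ L''} with hB
  have hAB : A ∪ B = Set.univ := by
    ext i
    simp only [Set.mem_union, Set.mem_univ, iff_true]
    exact hcov i
  have hcard : m + 1 ≤ A.ncard + B.ncard := by
    have h1 := Set.ncard_union_le A B
    rw [hAB, Set.ncard_univ, Nat.card_eq_fintype_card, Fintype.card_fin] at h1
    exact h1
  have hdim : Module.finrank K L' + Module.finrank K L'' ≤ n :=
    Submodule.finrank_add_finrank_le_of_disjoint hdisj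
  have hnpos : 0 < n := by
    have : Nontrivial V := ⟨⟨x 0, 0, hx 0⟩⟩
    exact Module.finrank_pos
  -- bounds on A.ncard * n
  have hA' : A.ncard * n ≤ Module.finrank K L' * (m + 1) ∧
      (L' ≠ ⊥ → A.ncard * n < Module.finrank K L' * (m + 1)) := by
    by_cases hbot : L' = ⊥
    · have : A = ∅ := by
        ext i
        simp only [hA, Set.mem_ofPred_eq, Set.mem_empty_iff_false, iff_false, hbot,
          Submodule.mem_bot]
        exact hx i
      rw [this, Set.ncard_empty]
      exact ⟨by simp, fun h => absurd hbot h⟩
    · have := hst L' hbot hL'top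
      exact ⟨this.le, fun _ => this⟩
  have hB' : B.ncard * n ≤ Module.finrank K L'' * (m + 1) ∧
      (L'' ≠ ⊥ → B.ncard * n < Module.finrank K L'' * (m + 1)) := by
    by_cases hbot : L'' = ⊥
    · have : B = ∅ := by
        ext i
        simp only [hB, Set.mem_ofPred_eq, Set.mem_empty_iff_false, iff_false, hbot,
          Submodule.mem_bot]
        exact hx i
      rw [this, Set.ncard_empty]
      exact ⟨by simp, fun h => absurd hbot h⟩
    · have := hst L'' hbot hL''top
      exact ⟨this.le, fun _ => this⟩
  -- at least one of L', L'' is nonzero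
  have hne : L' ≠ ⊥ ∨ L'' ≠ ⊥ := by
    rcases hcov 0 with h | h
    · left
      rintro rfl
      exact hx 0 ((Submodule.mem_bot K).mp h)
    · right
      rintro rfl
      exact hx 0 ((Submodule.mem_bot K).mp h)
  have hlt : (A.ncard + B.ncard) * n <
      (Module.finrank K L' + Module.finrank K L'') * (m + 1) := by
    rw [add_mul, add_mul]
    rcases hne with h | h
    · exact add_lt_add_of_lt_of_le (hA'.2 h) hB'.1
    · exact add_lt_add_of_le_of_lt hA'.1 (hB'.2 h)
  have h1 : (m + 1) * n ≤ (A.ncard + B.ncard) * n := Nat.mul_le_mul_right n hcard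
  have h2 : (Module.finrank K L' + Module.finrank K L'') * (m + 1) ≤ n * (m + 1) :=
    Nat.mul_le_mul_right (m + 1) hdim
  have : (m + 1) * n < n * (m + 1) := lt_of_le_of_lt h1 (lt_of_lt_of_le hlt h2)
  rw [mul_comm] at this
  exact lt_irrefl _ this

end Groth.Agent.S12550
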