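import Groth.Statements.S12574
import Groth.Agent.Lib.Helper63.LocResDual

set_option autoImplicit false
universe u v w
open FunFld

namespace Groth.Agent.S12574

/-- Let `Q` be a place of a finite separable extension `K'` of a geometric function field of one
variable `K/k`, over `P` with ramification index `e` and residue degree `1`, both with Laurent
expansions over `k` in local parameters, and let `R^*` be the dual, under the trace form of `K'/K`,
of the integral closure of `O_P` in `K'`. Then `min_{y ∈ R^*} v_Q(y) = -d(Q|P)`: in multiplicative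
notation every `y ∈ R^*` has `v_Q(y) ≤ exp d(Q|P)` and equality is attained. -/
theorem result (k : Type u) (K K' : Type v) [Field k] [Field K] [Field K'] [Algebra k K] [Algebra K K'] [Algebra k K']
    [IsScalarTower k K K'] [FiniteDimensional K K'] [Algebra.IsSeparable K K']
    (hK : FunFld.IsFunctionField k K) (hg : FunFld.IsGeometric k K)
    (F F' : Type w) [Field F] [Algebra k F] [Field F'] [Algebra k F']
    (P : FunFld.Place k K) (Q : FunFld.Place k K') (e : ℕ) (he : FunFld.IsOverWith Q P e)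
    (φ : K →ₐ[k] LaurentSeries F) (hφ : LocRes.IsExpansionAt P.1 φ)
    (ψ : K' →ₐ[k] LaurentSeries F') (hψ : LocRes.IsExpansionAt Q.1 ψ)
    (x : K) (hx : LocRes.vDiff φ 1 x ≠ 0) (hx' : LocRes.vDiff ψ 1 (algebraMap K K' x) ≠ 0)
    [P.1.HasExtension Q.1]
    (hf : Function.Surjective (algebraMap (IsLocalRing.ResidueField P.O) (IsLocalRing.ResidueField Q.O)))
    [Algebra P.O K'] [IsScalarTower P.O K K'] :
    (∀ y : K', (∀ z : K', IsIntegral P.O z → P.1 (Algebra.trace K K' (y * z)) ≤ 1) →
      Q.1 y ≤ WithZero.exp (LocRes.diffExp φ ψ e x)) ∧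
    ∃ y : K', (∀ z : K', IsIntegral P.O z → P.1 (Algebra.trace K K' (y * z)) ≤ 1) ∧
      Q.1 y = WithZero.exp (LocRes.diffExp φ ψ e x) := by
  have hdeg := Groth.Agent.Lib.Helper63.LocResMono.deg_eq_of_surjective hf
  obtain ⟨s, hs, hs'⟩ := Groth.Agent.Lib.Helper63.LocResDual.exists_localGen P Q ⟨e, he⟩
  have htop := Groth.Agent.Lib.Helper63.LocResMono.adjoin_eq_top hK he hdeg hs hs'
  have hle : ∀ Q' : FunFld.Place k K', FunFld.IsOver Q' P → Q'.1 s ≤ 1 := by
    intro Q' hQ'
    by_cases hQQ : Q' = Q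
    · rw [hQQ, hs, ← WithZero.exp_zero, WithZero.exp_le_exp]
      norm_num
    · exact (hs' Q' hQ' hQQ).le
  have hcoef := Groth.Agent.Lib.Helper63.LocResMono.coeff_minpoly_le_one hK P hle
  have h0 := Groth.Agent.Lib.Helper63.LocResMono.val_coeff_zero hK he hdeg hs hs' htop
  have hd := Groth.Agent.Lib.Helper63.LocResMono.diffExp_of_coeff P.1 Q.1 e he φ hφ.1 ψ hψ.1
    (fun hx0 y => Groth.Agent.Lib.Helper63.SepGen.exists_smul_D_eq hK hg hx0 y) hx hx' hs hcoef h0
  have hsint : IsIntegral P.O s := (Groth.Agent.Lib.Helper63.LocResDual.isIntegral_iff hK P s).2 hle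
  have hne := Groth.Agent.Lib.Helper63.LocResDual.aeval_derivative_ne_zero (K := K) s
  set D := Polynomial.aeval s (Polynomial.derivative (minpoly K s)) with hD
  have hQD : Q.1 D ≠ 0 := (Valuation.ne_zero_iff _).2 hne
  have hexp : WithZero.exp (LocRes.diffExp φ ψ e x) = (Q.1 D)⁻¹ := by
    rw [← hd, WithZero.exp_neg, WithZero.exp_log hQD]
  have hAint : ∀ a ∈ Algebra.adjoin P.O ({s} : Set K'), IsIntegral P.O a := by
    intro a ha
    have hle' : Algebra.adjoin P.O ({s} : Set K') ≤ integralClosure P.O K' :=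
      Algebra.adjoin_le (Set.singleton_subset_iff.2 hsint)
    exact hle' ha
  refine ⟨?_, ?_⟩
  · intro y hy
    have h1 := (Groth.Agent.Lib.Helper63.LocResDual.mem_dual_adjoin_iff P htop hsint y).1
      (fun a ha => hy a (hAint a ha))
    have h2 := (Groth.Agent.Lib.Helper63.LocResDual.isIntegral_iff hK P _).1 (hAint _ h1) Q ⟨e, he⟩
    rw [map_mul] at h2
    rw [hexp, ← one_div, le_div_iff₀ (zero_lt_iff.2 hQD)]
    exact h2
  · obtain ⟨c, hcA, hcQ, hc⟩ := Groth.Agent.Lib.Helper63.LocResDual.exists_conductor hK he hf hs hs'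
    refine ⟨c / D, ?_, ?_⟩
    · intro z hz
      have h1 := (Groth.Agent.Lib.Helper63.LocResDual.mem_dual_adjoin_iff P htop hsint D⁻¹).2
        (by rw [inv_mul_cancel₀ hne]; exact one_mem _) (c * z) (hc z hz)
      have h2 : c / D * z = D⁻¹ * (c * z) := by
        field_simp
      rw [h2]
      exact h1
    · rw [map_div₀, hcQ, hexp, one_div]

end Groth.Agent.S12574
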