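import Groth.Statements.S12575
import Groth.Agent.Lib.Helper63.LocResDual
import Groth.Agent.S12574

set_option autoImplicit false
universe u v w
open FunFld

namespace Groth.Agent.S12575

/-- Let `Q` be a place of a finite separable extension `K' = K(y)` of a geometric function field of one
variable `K/k`, over `P` with ramification index `e` and residue degree `1`, both with Laurent
expansions over `k` in local parameters, with `y` integral over `O_P` and `g` its minimal polynomial
over `K`. Then `v_Q(g'(y)) ≥ d(Q|P)`, and when equality holds `O_Q` is the localisation of `O_P[y]`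
at `Q`. -/
theorem result (k : Type u) (K K' : Type v) [Field k] [Field K] [Field K'] [Algebra k K] [Algebra K K'] [Algebra k K']
    [IsScalarTower k K K'] [FiniteDimensional K K'] [Algebra.IsSeparable K K']
    (hK : FunFld.IsFunctionField k K) (hg : FunFld.IsGeometric k K)
    (F F' : Type w) [Field F] [Algebra k F] [Field F'] [Algebra k F']
    (P : FunFld.Place k K) (Q : FunFld.Place k K') (e : ℕ) (he : FunFld.IsOverWith Q P e)
    (φ : K →ₐ[k] LaurentSeries F) (hφ : LocRes.IsExpansionAt P.1 φ)
    (ψ : K' →ₐ[k] LaurentSeries F') (hψ : LocRes.IsExpansionAt Q.1 ψ)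
    (x : K) (hx : LocRes.vDiff φ 1 x ≠ 0) (hx' : LocRes.vDiff ψ 1 (algebraMap K K' x) ≠ 0)
    [P.1.HasExtension Q.1]
    (hf : Function.Surjective (algebraMap (IsLocalRing.ResidueField P.O) (IsLocalRing.ResidueField Q.O)))
    [Algebra P.O K'] [IsScalarTower P.O K K']
    (y : K') (hy : IntermediateField.adjoin K ({y} : Set K') = ⊤) (hyi : IsIntegral P.O y) :
    LocRes.diffExp φ ψ e x ≤ Q.ord (Polynomial.aeval y (Polynomial.derivative (minpoly K y))) ∧
    (Q.ord (Polynomial.aeval y (Polynomial.derivative (minpoly K y))) = LocRes.diffExp φ ψ e x →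
      ∀ z : K', Q.1 z ≤ 1 → ∃ a ∈ Algebra.adjoin P.O ({y} : Set K'), ∃ b ∈ Algebra.adjoin P.O ({y} : Set K'),
        Q.1 b = 1 ∧ z * b = a) := by
  obtain ⟨-, y₀, hy₀, hy₀Q⟩ := Groth.Agent.S12574.result k K K' hK hg F F' P Q e he φ hφ ψ hψ x hx hx' hf
  have hne := Groth.Agent.Lib.Helper63.LocResDual.aeval_derivative_ne_zero (K := K) y
  set D := Polynomial.aeval y (Polynomial.derivative (minpoly K y)) with hD
  have hQD : Q.1 D ≠ 0 := (Valuation.ne_zero_iff _).2 hne
  have hord : Q.1 D = WithZero.exp (-(Q.ord D)) := by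
    unfold FunFld.Place.ord
    rw [neg_neg, WithZero.exp_log hQD]
  have hAint : ∀ a ∈ Algebra.adjoin P.O ({y} : Set K'), IsIntegral P.O a := by
    intro a ha
    have hle' : Algebra.adjoin P.O ({y} : Set K') ≤ integralClosure P.O K' :=
      Algebra.adjoin_le (Set.singleton_subset_iff.2 hyi)
    exact hle' ha
  have hstab : ∀ z' : K', IsIntegral P.O z' →
      y₀ * z' * D ∈ Algebra.adjoin P.O ({y} : Set K') := by
    intro z' hz'
    apply (Groth.Agent.Lib.Helper63.LocResDual.mem_dual_adjoin_iff P hy hyi (y₀ * z')).1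
    intro a ha
    rw [mul_assoc]
    exact hy₀ (z' * a) (hz'.mul (hAint a ha))
  refine ⟨?_, ?_⟩
  · have h1 := hstab 1 isIntegral_one
    rw [mul_one] at h1
    have h2 := (Groth.Agent.Lib.Helper63.LocResDual.isIntegral_iff hK P _).1 (hAint _ h1) Q ⟨e, he⟩
    rw [map_mul, hy₀Q, hord, ← WithZero.exp_add, ← WithZero.exp_zero, WithZero.exp_le_exp] at h2
    linarith
  · intro heq z hz
    have hc'Q : Q.1 (y₀ * D) = 1 := by
      rw [map_mul, hy₀Q, hord, heq, ← WithZero.exp_add, add_neg_cancel, WithZero.exp_zero]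
    classical
    have hfin := Groth.Agent.Lib.Helper63.FunFldExt.finite_setOf_isOver (K' := K') P
    obtain ⟨r, hr⟩ := Groth.Agent.Lib.Helper55.ff_weak_approx_eq hfin.toFinset (fun _ => (0 : K'))
      (fun Q' => if Q' = Q then 0 else -|WithZero.log (Q'.1 z)|)
    have hrQ : Q.1 r = 1 := by
      have := hr Q (hfin.mem_toFinset.2 ⟨e, he⟩)
      simpa using this
    have hrQ' : ∀ Q' : FunFld.Place k K', FunFld.IsOver Q' P → Q' ≠ Q →
        Q'.1 r = WithZero.exp (-|WithZero.log (Q'.1 z)|) := by
      intro Q' hQ' hne'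
      have := hr Q' (hfin.mem_toFinset.2 hQ')
      simpa [hne'] using this
    have hrint : IsIntegral P.O r := by
      rw [Groth.Agent.Lib.Helper63.LocResDual.isIntegral_iff hK P]
      intro Q' hQ'
      by_cases hQQ : Q' = Q
      · rw [hQQ, hrQ]
      · rw [hrQ' Q' hQ' hQQ]
        have := abs_nonneg (WithZero.log (Q'.1 z))
        exact (WithZero.exp_le_exp.2 (by linarith)).trans_eq WithZero.exp_zero
    have hrzint : IsIntegral P.O (r * z) := by
      rw [Groth.Agent.Lib.Helper63.LocResDual.isIntegral_iff hK P]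
      intro Q' hQ'
      by_cases hQQ : Q' = Q
      · rw [hQQ, map_mul, hrQ, one_mul]
        exact hz
      · rw [map_mul, hrQ' Q' hQ' hQQ]
        by_cases hz0 : Q'.1 z = 0
        · rw [hz0, mul_zero]
          exact zero_le
        · obtain ⟨m, hm⟩ : ∃ m : ℤ, Q'.1 z = WithZero.exp m := ⟨_, (WithZero.exp_log hz0).symm⟩
          rw [hm, WithZero.log_exp, ← WithZero.exp_add, ← WithZero.exp_zero, WithZero.exp_le_exp]
          have := le_abs_self m
          linarith
    refine ⟨y₀ * (r * z) * D, hstab _ hrzint, y₀ * r * D, hstab _ hrint, ?_, by ring⟩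
    rw [show y₀ * r * D = (y₀ * D) * r by ring, map_mul, hc'Q, hrQ, one_mul]

end Groth.Agent.S12575
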