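import Groth.Statements.S12580
import Groth.Agent.Lib.Helper63.LocResBasic
import Groth.Agent.Lib.Helper63.FiniteRamified

set_option autoImplicit false
universe u v w
open FunFld

namespace Groth.Agent.S12580

/-- In a function field of one variable `K/k`, `Res_P(u dv) = 0` when `u, v ∈ O_P` (already before the
trace), and for a repartition `α` and `v ∈ K`, `Res_P(α_P dv) = 0` for almost all `P`; residues read
through Laurent expansions over `k` at every place. -/
theorem result (k : Type u) (K : Type v) [Field k] [Field K] [Algebra k K] (hK : FunFld.IsFunctionField k K)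
    (F : FunFld.Place k K → Type w) [∀ P, Field (F P)] [∀ P, Algebra k (F P)] [∀ P, FiniteDimensional k (F P)]
    (φ : ∀ P, K →ₐ[k] LaurentSeries (F P)) (hφ : ∀ P, LocRes.IsExpansionAt P.1 (φ P)) :
    (∀ (P : FunFld.Place k K) (u v : K), P.1 u ≤ 1 → P.1 v ≤ 1 → LocRes.resExp (φ P) u v = 0) ∧
    ∀ (a : FunFld.Place k K → K), a ∈ FunFld.adele k K → ∀ v : K,
      {P : FunFld.Place k K | LocRes.resExp (φ P) (a P) v ≠ 0}.Finite := by
  have h1 : ∀ (P : FunFld.Place k K) (u v : K), P.1 u ≤ 1 → P.1 v ≤ 1 →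
      LocRes.resExp (φ P) u v = 0 := fun P u v hu hv =>
    Groth.Agent.Lib.Helper63.LocResBasic.resExp_eq_zero_of_le_one P.1 (φ P) (hφ P).1 hu hv
  refine ⟨h1, fun a ha v => ?_⟩
  have hfa : {P : FunFld.Place k K | ¬ P.1 (a P) ≤ 1}.Finite := ha
  have hfv := Groth.Agent.Lib.Helper63.FiniteRamified.finite_poles hK v
  refine (hfa.union hfv).subset ?_
  intro P hP
  by_contra hn
  simp only [Set.mem_union, Set.mem_setOf_eq, not_or, not_not, not_lt] at hn
  exact hP (h1 P (a P) v hn.1 hn.2)

end Groth.Agent.S12580
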