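import Groth.Statements.S12588
import Groth.Agent.Lib.Helper63.LocResAS

set_option autoImplicit false
universe u v w
open FunFld

namespace Groth.Agent.S12588

/-- For `k` perfect of characteristic `2`, `K` separable of degree `2` over `k(x)` with `y² + y = f(x)`,
and a place `p` of `k(x)` where `f` has a pole whose order `2d - 1` is odd: a place `P` of `K` above
`p` with ramification index `e` (necessarily `e = 2`, `P` unique) has different exponent `d(P|p) =
2d = 1 - ord_p(f)`; the exponent is computed on `dz` through Laurent expansions over `k` at `p` and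
`P`. -/
theorem result (k : Type u) (K : Type v) [Field k] [Field K] [Algebra k K] [Algebra (RatFunc k) K] [IsScalarTower k (RatFunc k) K]
    (hK : FunFld.IsFunctionField k K) (hdeg : Module.finrank (RatFunc k) K = 2) [PerfectField k] (h2 : ringChar k = 2)
    [Algebra.IsSeparable (RatFunc k) K]
    (y : K) (hy : y ∉ Set.range (algebraMap (RatFunc k) K)) (f : RatFunc k)
    (heq : y ^ 2 + y = algebraMap (RatFunc k) K f)
    (p : FunFld.Place k (RatFunc k)) (hp : 1 < p.1 f) (hodd : Odd (p.ord f))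
    (P : FunFld.Place k K) (e : ℕ) (he : FunFld.IsOverWith P p e)
    (F F' : Type w) [Field F] [Algebra k F] [Field F'] [Algebra k F']
    (φ : RatFunc k →ₐ[k] LaurentSeries F) (hφ : LocRes.IsExpansionAt p.1 φ)
    (ψ : K →ₐ[k] LaurentSeries F') (hψ : LocRes.IsExpansionAt P.1 ψ)
    (z : RatFunc k) (hz : LocRes.vDiff φ 1 z ≠ 0) (hz' : LocRes.vDiff ψ 1 (algebraMap (RatFunc k) K z) ≠ 0) :
    LocRes.diffExp φ ψ e z = 1 - p.ord f := by
  haveI : CharP k 2 := by rw [← h2]; exact ringChar.charP k
  have hf0' : p.1 f ≠ 0 := (zero_lt_one.trans hp).ne'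
  have hlog : 0 < WithZero.log (p.1 f) := by
    have := (WithZero.log_lt_log (by simp) hf0').2 hp
    simpa using this
  have hf0 : p.ord f < 0 := by
    unfold FunFld.Place.ord
    omega
  obtain ⟨h1, -⟩ := Groth.Agent.Lib.Helper63.ArtinSchreier.ramification h2 hdeg y hy f heq p
  have h2' := (h1 ⟨hf0, hodd⟩).2 P ⟨e, he⟩
  have he2 : e = 2 := Groth.Agent.Lib.Helper63.FunFldExt.isOverWith_unique he h2'.1
  subst he2
  have hm : 0 < - p.ord f := by omega
  have hodd' : Odd (- p.ord f) := hodd.neg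
  have hfval : p.1 f = WithZero.exp (- p.ord f) := by
    unfold FunFld.Place.ord
    rw [neg_neg, WithZero.exp_log hf0']
  obtain ⟨a, b, c⟩ := Groth.Agent.Lib.Helper63.LocResAS.diffExp_artinSchreier p.1 P.1 he φ hφ.1
    ψ hψ.1 heq hm hodd' hfval
  obtain ⟨g, hg⟩ := Groth.Agent.Lib.Helper63.LocResAS.exists_smul_D_eq_ratFunc
    (Groth.Agent.Lib.Helper63.LocResBasic.D_ne_zero_of_vDiff_ne_zero φ hz) f
  have := Groth.Agent.Lib.Helper63.LocResBasic.diffExp_eq_of_smul p.1 P.1 2 he φ hφ.1 ψ hψ.1 hg
    hz hz' a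
  rw [← this, c]
  ring

end Groth.Agent.S12588
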