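import Groth.Statements.S12589
import Groth.Agent.Lib.Helper63.HasExt
import Groth.Agent.Lib.Helper63.ConstExtGeometric

set_option autoImplicit false
universe u v
open FunFld

namespace Groth.Agent.S12589

/-- If a place `P` of a geometric function field of one variable `K/k` is nonsingular with respect to
the finite extension `k'/k` (the integral closure of `O_P` in `K' = k' ⊗_k K` is `O_P[k']`) and `Q`
is a place of `K'` above `P`, then `F_Q = k' F_P`. -/
theorem result (k k' : Type u) (K K' : Type v) [Field k] [Field k'] [Field K] [Field K']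
    [Algebra k k'] [FiniteDimensional k k'] [Algebra k K] [Algebra K K'] [Algebra k' K'] [Algebra k K']
    [IsScalarTower k k' K'] [IsScalarTower k K K']
    (h : Function.Bijective (Algebra.TensorProduct.productMap
      (IsScalarTower.toAlgHom k k' K') (IsScalarTower.toAlgHom k K K')))
    (hK : FunFld.IsFunctionField k K) (hg : FunFld.IsGeometric k K)
    (P : FunFld.Place k K) [Algebra P.O K'] [IsScalarTower P.O K K']
    (hns : (integralClosure P.O K').toSubring = (Algebra.adjoin P.O (Set.range (algebraMap k' K'))).toSubring)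
    (Q : FunFld.Place k K') [P.1.HasExtension Q.1] (hk' : ∀ c : k', Q.1 (algebraMap k' K' c) ≤ 1) :
    Algebra.adjoin (IsLocalRing.ResidueField P.O)
      (Set.range fun c : k' => IsLocalRing.residue Q.O ⟨algebraMap k' K' c, hk' c⟩) = ⊤ := by
  haveI : FiniteDimensional K K' := Groth.Agent.Lib.Helper63.ConstExtGeometric.finite_of_bijective h
  have hQP : FunFld.IsOver Q P := Groth.Agent.Lib.Helper63.HasExt.isOver_of_hasExtension P Q
  rw [eq_top_iff]
  intro ξ _
  obtain ⟨⟨z, hz⟩, rfl⟩ := IsLocalRing.residue_surjective ξ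
  classical
  have hfin := Groth.Agent.Lib.Helper63.FunFldExt.finite_setOf_isOver (K' := K') P
  obtain ⟨z', hz'⟩ := Groth.Agent.Lib.Helper55.ff_weak_approx_le hfin.toFinset
    (fun Q' => if Q' = Q then z else 0) (fun Q' => if Q' = Q then -1 else 0)
  have hzQ : Q.1 (z' - z) ≤ WithZero.exp (-1) := by
    have := hz' Q (hfin.mem_toFinset.2 hQP)
    simpa using this
  have hzQ' : ∀ Q' : FunFld.Place k K', FunFld.IsOver Q' P → Q' ≠ Q → Q'.1 z' ≤ 1 := by
    intro Q' hQ' hne
    have := hz' Q' (hfin.mem_toFinset.2 hQ')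
    simpa [hne] using this
  have hexp : (WithZero.exp (-1) : WithZero (Multiplicative ℤ)) < 1 := by
    rw [← WithZero.exp_zero, WithZero.exp_lt_exp]; norm_num
  have hz'Q : Q.1 z' ≤ 1 := by
    have h1 : z' = (z' - z) + z := by ring
    rw [h1]
    exact (Q.1.map_add _ _).trans (max_le (hzQ.trans hexp.le) hz)
  have hint : IsIntegral P.O z' := by
    rw [Groth.Agent.Lib.Helper63.LocResDual.isIntegral_iff hK P]
    intro Q' hQ'
    by_cases hQQ : Q' = Q
    · rw [hQQ]; exact hz'Q
    · exact hzQ' Q' hQ' hQQ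
  have hmem : z' ∈ Algebra.adjoin P.O (Set.range (algebraMap k' K')) := by
    have h1 : z' ∈ (integralClosure P.O K').toSubring := hint
    rw [hns] at h1
    exact h1
  have hres : IsLocalRing.residue Q.O ⟨z, hz⟩ = IsLocalRing.residue Q.O ⟨z', hz'Q⟩ := by
    rw [eq_comm, ← sub_eq_zero, ← map_sub, IsLocalRing.residue_eq_zero_iff,
      Valuation.mem_maximalIdeal_iff]
    exact lt_of_le_of_lt hzQ hexp
  rw [hres]
  have key : ∀ w ∈ Algebra.adjoin P.O (Set.range (algebraMap k' K')), ∃ hw : Q.1 w ≤ 1,
      IsLocalRing.residue Q.O ⟨w, hw⟩ ∈ Algebra.adjoin (IsLocalRing.ResidueField P.O)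
        (Set.range fun c : k' => IsLocalRing.residue Q.O ⟨algebraMap k' K' c, hk' c⟩) := by
    intro w hw
    induction hw using Algebra.adjoin_induction with
    | mem x hx =>
      obtain ⟨c, rfl⟩ := hx
      exact ⟨hk' c, Algebra.subset_adjoin ⟨c, rfl⟩⟩
    | algebraMap r =>
      have h1 : Q.1 (algebraMap P.O K' r) ≤ 1 := by
        rw [IsScalarTower.algebraMap_apply P.O K K']
        exact (Valuation.HasExtension.val_map_le_one_iff P.1 Q.1 _).2 r.2
      refine ⟨h1, ?_⟩
      have h2 : IsLocalRing.residue Q.O ⟨algebraMap P.O K' r, h1⟩ =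
          algebraMap (IsLocalRing.ResidueField P.O) (IsLocalRing.ResidueField Q.O)
            (IsLocalRing.residue P.O r) := by
        rw [Valuation.HasExtension.algebraMap_residue_eq_residue_algebraMap]
        congr 1
        apply Subtype.ext
        exact IsScalarTower.algebraMap_apply P.O K K' r
      rw [h2]
      exact Subalgebra.algebraMap_mem _ _
    | add x y _ _ hx hy =>
      obtain ⟨hx1, hx2⟩ := hx
      obtain ⟨hy1, hy2⟩ := hy
      refine ⟨(Q.1.map_add _ _).trans (max_le hx1 hy1), ?_⟩
      have := add_mem hx2 hy2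
      rw [← map_add] at this
      exact this
    | mul x y _ _ hx hy =>
      obtain ⟨hx1, hx2⟩ := hx
      obtain ⟨hy1, hy2⟩ := hy
      refine ⟨by rw [map_mul]; exact mul_le_one' hx1 hy1, ?_⟩
      have := mul_mem hx2 hy2
      rw [← map_mul] at this
      exact this
  obtain ⟨hw, hres'⟩ := key z' hmem
  exact hres'

end Groth.Agent.S12589
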