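import Groth.Statements.S12601
import Mathlib
import Groth.Agent.Lib.Helper47.ColTri
-- import your own Groth.Agent.* helpers here

set_option autoImplicit false
open FunFld

namespace Groth.Agent.S12601


open Groth.Agent.Lib.Helper47.ColTri in
theorem wrMat_col {k K : Type*} [Field k] [Field K] [Algebra k K] {n : ℕ}
    (τ : K →ₐ[k] K) (H : K →ₐ[k] PowerSeries K) (φ : Fin (n + 1) → K) (J : Fin n → ℕ)
    (q : Fin (n + 1)) :
    (fun i => FunFld.wrMat τ H φ J i q) = FunFld.hcol τ H φ (idx J q) := by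
  induction q using Fin.cases with
  | zero => rfl
  | succ l => rfl


/-- Over an algebraically closed constant field, if `j'₁ < ⋯ < j'ₙ` is a strictly increasing sequence
with `det [τ(φ) | D^(j'₁) φ | ⋯ | D^(j'ₙ) φ] ≠ 0`, then the `τ`-orders `j₁ < ⋯ < jₙ` of `φ` satisfy
`jₗ ≤ j'ₗ` for all `l`. -/
theorem result
    (k K : Type*) [Field k] [IsAlgClosed k] [Field K] [Algebra k K]
    (hK : FunFld.IsFunctionField k K) {n : ℕ} (φ : Fin (n + 1) → K) (hφ : LinearIndependent k φ)
    (τ : K →ₐ[k] K) (s : K) (H : K →ₐ[k] PowerSeries K) (hH : LocRes.IsHasseFamily s H)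
    (J : Fin n → ℕ) (hJ : FunFld.IsOrders K (FunFld.hcol τ H φ) J)
    (J' : Fin n → ℕ) (hJ' : StrictMono J') (hdet : (FunFld.wrMat τ H φ J').det ≠ 0) :
    ∀ l, J l ≤ J' l := by
  have hli := Matrix.linearIndependent_cols_of_det_ne_zero hdet
  have hcol : (FunFld.wrMat τ H φ J').col =
      fun q => FunFld.hcol τ H φ (Groth.Agent.Lib.Helper47.ColTri.idx J' q) := by
    funext q
    exact wrMat_col τ H φ J' q
  rw [hcol] at hli
  exact Groth.Agent.Lib.Helper47.ColTri.orders_le _ J J' hJ hJ' hli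

end Groth.Agent.S12601
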