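import Groth.Statements.S12612
import Mathlib
-- import your own Groth.Agent.* helpers here

set_option autoImplicit false
open FunFld

namespace Groth.Agent.S12612


open MvPolynomial

theorem deriv_aeval {k B M : Type*} [CommRing k] [CommRing B] [Algebra k B] [AddCommGroup M]
    [Module k M] [Module B M] [IsScalarTower k B M]
    {σ : Type*} [Fintype σ] [DecidableEq σ] (δ : Derivation k B M) (w : σ → B)
    (p : MvPolynomial σ k) :
    δ (aeval w p) = ∑ i, aeval w (pderiv i p) • δ (w i) := by
  induction p using MvPolynomial.induction_on with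
  | C a => simp
  | add p q hp hq => simp [hp, hq, add_smul, Finset.sum_add_distrib]
  | mul_X p j hp =>
    have h1 : ∀ i, aeval w (pderiv i (p * X j)) • δ (w i) =
        w j • (aeval w (pderiv i p) • δ (w i)) + (if j = i then aeval w p • δ (w i) else 0) := by
      intro i
      rw [Derivation.leibniz, pderiv_X, Pi.single_apply]
      split_ifs with h
      · simp only [smul_eq_mul, map_add, map_mul, aeval_X, mul_one, add_smul, smul_smul]
        rw [add_comm, mul_comm]
      · simp only [smul_eq_mul, map_mul, aeval_X, mul_zero, zero_add, add_zero, smul_smul]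
    simp only [h1, Finset.sum_add_distrib, Finset.sum_ite_eq, Finset.mem_univ, if_true,
      ← Finset.smul_sum, ← hp]
    rw [map_mul, aeval_X, Derivation.leibniz, add_comm]

theorem aeval_smul_of_isHomogeneous {σ : Type*} {k K : Type*} [CommSemiring k] [CommSemiring K]
    [Algebra k K] {F : MvPolynomial σ k} {d : ℕ} (hF : F.IsHomogeneous d) (t : K) (x : σ → K) :
    aeval (fun i => t * x i) F = t ^ d * aeval x F := by
  rw [aeval_def, aeval_def, eval₂_eq, eval₂_eq, Finset.mul_sum]
  refine Finset.sum_congr rfl fun m hm => ?_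
  have hd : d = ∑ i ∈ m.support, m i := hF.degree_eq_sum_deg_support hm
  have : ∏ i ∈ m.support, (t * x i) ^ m i = t ^ d * ∏ i ∈ m.support, x i ^ m i := by
    simp_rw [mul_pow]
    rw [Finset.prod_mul_distrib, Finset.prod_pow_eq_pow_sum, ← hd]
  rw [this]
  ring

/-- the cross product identity `Aᵀ (Au × Aw) = det A (u × w)`, third component -/
theorem cross_id {K : Type*} [CommRing K] (A : Matrix (Fin 3) (Fin 3) K) (u w v c : Fin 3 → K)
    (hv : ∀ i, ∑ j, A i j * u j = v i) (hc : ∀ i, ∑ j, A i j * w j = c i) :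
    A 0 2 * (v 1 * c 2 - v 2 * c 1) + A 1 2 * (v 2 * c 0 - v 0 * c 2) +
      A 2 2 * (v 0 * c 1 - v 1 * c 0) = A.det * (u 0 * w 1 - u 1 * w 0) := by
  simp only [← hv, ← hc, Fin.sum_univ_three, Matrix.det_fin_three]
  ring

/-- For a plane curve given by a homogeneous `f` of degree `e` with `f(1, x, y) = 0` and a change of
projective coordinates `X = AX'` (`A` invertible over `k`), with new affine coordinates `x' =
u₁/u₀`, `y' = u₂/u₀`, `z = 1/u₀ = X₀/X₀'` where `u = A⁻¹(1, x, y)ᵗ`, and `f'(X') = f(AX')`, the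
differentials satisfy `dx/f̂_y = det(A) z^(e-3) dx'/f̂'_{y'}`, where `f̂_y = (∂f/∂X₂)(1, x, y)` and
`f̂'_{y'} = (∂f'/∂X₂')(1, x', y')` are assumed nonzero. (Stated for any field `K` over `k`
containing such `x`, `y`; the published setting is a plane model of a function field over an
algebraically closed field, and the computation uses only the relation `f(1, x, y) = 0`.) -/
theorem result
    (k K : Type*) [Field k] [Field K] [Algebra k K]
    (f : MvPolynomial (Fin 3) k) (e : ℕ) (hf : f.IsHomogeneous e)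
    (x y : K) (hfxy : MvPolynomial.aeval ![(1 : K), x, y] f = 0)
    (A : Matrix (Fin 3) (Fin 3) k) (hA : A.det ≠ 0)
    (u : Fin 3 → K) (hu : ∀ i, ∑ j, algebraMap k K (A i j) * u j = ![(1 : K), x, y] i)
    (hu0 : u 0 ≠ 0)
    (hfy : MvPolynomial.aeval ![(1 : K), x, y] (MvPolynomial.pderiv 2 f) ≠ 0)
    (hfy' : MvPolynomial.aeval ![(1 : K), u 1 / u 0, u 2 / u 0]
      (MvPolynomial.pderiv 2
        (MvPolynomial.aeval (fun i : Fin 3 => ∑ j, MvPolynomial.C (A i j) * MvPolynomial.X j) f)) ≠ 0) :
    (MvPolynomial.aeval ![(1 : K), x, y] (MvPolynomial.pderiv 2 f))⁻¹ • KaehlerDifferential.D k K x =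
      (algebraMap k K A.det * (u 0)⁻¹ ^ ((e : ℤ) - 3) *
        (MvPolynomial.aeval ![(1 : K), u 1 / u 0, u 2 / u 0]
          (MvPolynomial.pderiv 2
            (MvPolynomial.aeval (fun i : Fin 3 => ∑ j, MvPolynomial.C (A i j) * MvPolynomial.X j) f)))⁻¹) •
        KaehlerDifferential.D k K (u 1 / u 0) := by
  classical
  have hz : (u 0)⁻¹ ≠ 0 := inv_ne_zero hu0
  set v : Fin 3 → K := ![(1 : K), x, y] with hvdef
  set W : Fin 3 → MvPolynomial (Fin 3) k := fun i => ∑ j, C (A i j) * X j with hW
  set g : Fin 3 → K := fun i => aeval v (pderiv i f) with hg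
  have he : 1 ≤ e := by
    by_contra h
    have h0 : e = 0 := by omega
    subst h0
    rw [← totalDegree_zero_iff_isHomogeneous, totalDegree_eq_zero_iff_eq_C] at hf
    apply hfy
    rw [hf, pderiv_C, map_zero]
  -- Euler
  have hEuler : ∑ i, v i * g i = 0 := by
    have := congrArg (aeval v) hf.sum_X_mul_pderiv
    simp only [map_sum, map_mul, aeval_X, nsmul_eq_mul, map_natCast, hfxy, mul_zero] at this
    exact this
  -- differential relation
  have hD : ∑ i, g i • KaehlerDifferential.D k K (v i) = 0 := by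
    rw [← deriv_aeval (KaehlerDifferential.D k K) v f, hfxy, map_zero]
  -- chain rule
  have hchain : pderiv 2 (aeval W f) = ∑ i, aeval W (pderiv i f) * C (A i 2) := by
    rw [deriv_aeval (pderiv 2) W f]
    refine Finset.sum_congr rfl (fun i _ => ?_)
    rw [smul_eq_mul]
    congr 1
    simp only [W, map_sum, Derivation.leibniz, pderiv_C, pderiv_X, Pi.single_apply,
      add_zero, smul_eq_mul, mul_ite, mul_one, mul_zero]
    simp
  -- evaluation at `u / u 0`
  set v' : Fin 3 → K := ![(1 : K), u 1 / u 0, u 2 / u 0] with hv'def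
  have hv' : v' = fun i => (u 0)⁻¹ * u i := by
    funext i
    fin_cases i
    · simp [v', hu0]
    · simp [v', div_eq_inv_mul]
    · simp [v', div_eq_inv_mul]
  have hWv' : ∀ i, aeval v' (W i) = (u 0)⁻¹ * v i := by
    intro i
    simp only [W, map_sum, map_mul, aeval_C, aeval_X, hv', ← hu i, Finset.mul_sum]
    refine Finset.sum_congr rfl (fun j _ => ?_)
    ring
  have heval : ∀ i, aeval v' (aeval W (pderiv i f)) = (u 0)⁻¹ ^ (e - 1) * g i := by
    intro i
    have h1 : aeval v' (aeval W (pderiv i f)) = aeval (fun j => aeval v' (W j)) (pderiv i f) := by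
      rw [← AlgHom.comp_apply, comp_aeval]
    rw [h1]
    simp only [hWv']
    rw [aeval_smul_of_isHomogeneous hf.pderiv]
  have hfy'val : aeval v' (pderiv 2 (aeval W f)) =
      (u 0)⁻¹ ^ (e - 1) * ∑ i, algebraMap k K (A i 2) * g i := by
    rw [hchain, map_sum, Finset.mul_sum]
    refine Finset.sum_congr rfl (fun i _ => ?_)
    rw [map_mul, heval, aeval_C]
    ring
  -- the differential `ω` and the tangent vector `c`
  have hg2 : g 2 ≠ 0 := hfy
  set D := KaehlerDifferential.D k K with hDdef
  set ω : Ω[K⁄k] := (g 2)⁻¹ • D x with hω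
  set c : Fin 3 → K := ![0, g 2, -g 1] with hc
  have hDv : ∀ i, D (v i) = c i • ω := by
    have hD' : g 1 • D x + g 2 • D y = 0 := by
      have := hD
      simp only [Fin.sum_univ_three] at this
      have h0 : D (v 0) = 0 := by
        simp [v]
      rw [h0, smul_zero, zero_add] at this
      exact this
    intro i
    fin_cases i
    · simp [v, c]
    · simp only [v, c, ω, smul_smul]
      simp [mul_inv_cancel₀ hg2]
    · have h2 : D y = -((g 2)⁻¹ • (g 1 • D x)) := by
        have : g 2 • D y = -(g 1 • D x) := eq_neg_of_add_eq_zero_right hD'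
        rw [← smul_neg, ← this, smul_smul, inv_mul_cancel₀ hg2, one_smul]
      simp only [v, c, ω]
      simp only [Fin.reduceFinMk, Fin.isValue, Matrix.cons_val_two, Matrix.tail_cons,
        Matrix.head_cons]
      rw [h2, smul_smul, smul_smul, neg_mul, neg_smul, mul_comm]
  -- the inverse matrix
  have hAunit : IsUnit A.det := isUnit_iff_ne_zero.mpr hA
  set AK : Matrix (Fin 3) (Fin 3) K := A.map (algebraMap k K) with hAK
  set BK : Matrix (Fin 3) (Fin 3) K := (A⁻¹).map (algebraMap k K) with hBK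
  have hBA : BK * AK = 1 := by
    rw [hBK, hAK, ← Matrix.map_mul, Matrix.nonsing_inv_mul A hAunit, Matrix.map_one _ (map_zero _)
      (map_one _)]
  have hAB : AK * BK = 1 := by
    rw [hBK, hAK, ← Matrix.map_mul, Matrix.mul_nonsing_inv A hAunit, Matrix.map_one _ (map_zero _)
      (map_one _)]
  have hAu : AK.mulVec u = v := by
    funext i
    rw [← hu i]
    rfl
  have huB : ∀ j, u j = ∑ i, algebraMap k K ((A⁻¹) j i) * v i := by
    intro j
    have h1 : u = BK.mulVec v := by
      rw [← hAu, Matrix.mulVec_mulVec, hBA, Matrix.one_mulVec]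
    conv_lhs => rw [h1]
    rfl
  set w : Fin 3 → K := BK.mulVec c with hw
  have hAw : ∀ i, ∑ j, AK i j * w j = c i := by
    intro i
    have h1 : AK.mulVec w = c := by
      rw [hw, Matrix.mulVec_mulVec, hAB, Matrix.one_mulVec]
    conv_rhs => rw [← h1]
    rfl
  have hDu : ∀ j, D (u j) = w j • ω := by
    intro j
    rw [huB j, map_sum]
    have h1 : ∀ i, D (algebraMap k K ((A⁻¹) j i) * v i) = (BK j i * c i) • ω := by
      intro i
      rw [Derivation.leibniz, Derivation.map_algebraMap, smul_zero, add_zero, hDv i, smul_smul]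
      rfl
    simp only [h1, ← Finset.sum_smul]
    rfl
  have hcross := cross_id AK u w v c (fun i => hu i) hAw
  set m : K := u 0 * w 1 - u 1 * w 0 with hm
  have hS : ∑ i, algebraMap k K (A i 2) * g i = algebraMap k K A.det * m := by
    have hdet : AK.det = algebraMap k K A.det := by
      rw [hAK]
      exact (RingHom.map_det (algebraMap k K) A).symm
    rw [← hdet, ← hcross]
    have hE : g 0 + x * g 1 + y * g 2 = 0 := by
      have := hEuler
      simp only [Fin.sum_univ_three] at this
      simpa [v] using this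
    have hg0 : g 0 = -(x * g 1) - y * g 2 := by linear_combination hE
    simp only [Fin.sum_univ_three]
    simp only [v, c, AK, Matrix.map_apply, Matrix.cons_val_zero, Matrix.cons_val_one,
      Matrix.cons_val_two, Matrix.tail_cons, Matrix.head_cons]
    rw [hg0]
    ring
  have hne : (u 0)⁻¹ ^ (e - 1) * (algebraMap k K A.det * m) ≠ 0 := by
    rw [← hS, ← hfy'val]
    exact hfy'
  have hdetK : algebraMap k K A.det ≠ 0 := fun h => hne (by rw [h]; ring)
  have hm0 : m ≠ 0 := fun h => hne (by rw [h]; ring)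
  have hzpow : (u 0)⁻¹ ^ ((e : ℤ) - 3) = (u 0)⁻¹ ^ (e - 1) * ((u 0)⁻¹ ^ 2)⁻¹ := by
    have : ((e : ℤ) - 3) = ((e - 1 : ℕ) : ℤ) - (2 : ℕ) := by
      push_cast [Nat.cast_sub he]
      ring
    rw [this, zpow_sub₀ hz, zpow_natCast, zpow_natCast, div_eq_mul_inv]
  have hz1 : (u 0)⁻¹ ^ (e - 1) ≠ 0 := pow_ne_zero _ hz
  have hz2 : (u 0)⁻¹ ^ 2 ≠ 0 := pow_ne_zero _ hz
  have hscal : algebraMap k K A.det * ((u 0)⁻¹ ^ (e - 1) * ((u 0)⁻¹ ^ 2)⁻¹) *
      ((u 0)⁻¹ ^ (e - 1) * (algebraMap k K A.det * m))⁻¹ * ((u 0)⁻¹ ^ 2 * m) = 1 := by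
    field_simp
  have hgoal : ∀ ω' : Ω[K⁄k], (∀ j, D (u j) = w j • ω') →
      ω' = (algebraMap k K A.det * (u 0)⁻¹ ^ ((e : ℤ) - 3) *
        (aeval v' (pderiv 2 (aeval W f)))⁻¹) • D (u 1 / u 0) := by
    intro ω' hω'
    have hDx' : D (u 1 / u 0) = ((u 0)⁻¹ ^ 2 * m) • ω' := by
      rw [Derivation.leibniz_div, hω' 1, hω' 0, smul_smul, smul_smul, ← sub_smul, smul_smul]
    rw [hDx', hfy'val, hS, smul_smul, hzpow, hscal, one_smul]
  exact hgoal ω hDu

end Groth.Agent.S12612
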