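import Groth.Statements.S12620
-- import your own Groth.Agent.* helpers here

set_option autoImplicit false
universe u v w
open LocRes

namespace Groth.Agent.S12620

/-- Let `K` be a field with a valuation `w` into `ℤ ∪ {0}` and `φ : K → F((X))` a `k`-algebra expansion
at `w` in a local parameter (valuation-compatible, valuation ring onto the coefficient field `F`,
`w` normalised). Then for every nonzero `f` the residue of the logarithmic differential `f⁻¹ df`
read through `φ` — the `X⁻¹`-coefficient of `φ(f)⁻¹ · (φ f)′` — is the order of `f` at `w` (the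
integer `n` with `w f = exp (-n)`), viewed in `F`. (The published statement is for a complete field
with a perfect coefficient field and its intrinsic residue; read through an expansion neither
completeness nor perfectness plays a role.) -/
theorem result {k : Type u} {K : Type v} {F : Type w} [CommRing k] [Field K] [Field F]
    [Algebra k K] [Algebra k F]
    (w : Valuation K (WithZero (Multiplicative ℤ))) (φ : K →ₐ[k] LaurentSeries F)
    (hφ : LocRes.IsExpansionAt w φ) (f : K) (hf : f ≠ 0) :
    LocRes.resExp φ f⁻¹ f = ((-WithZero.log (w f) : ℤ) : F) := by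
  classical
  set g : LaurentSeries F := φ f with hgdef
  have hg : g ≠ 0 := (map_ne_zero φ).mpr hf
  set n : ℤ := g.order with hn
  set u : PowerSeries F := g.powerSeriesPart with hu
  have hu0 : PowerSeries.constantCoeff u ≠ 0 := by
    rw [← PowerSeries.coeff_zero_eq_constantCoeff_apply, hu, LaurentSeries.powerSeriesPart_coeff]
    simpa using (HahnSeries.coeff_order_eq_zero (x := g)).not.mpr hg
  have hgu : (HahnSeries.single n (1 : F) : LaurentSeries F) * (u : LaurentSeries F) = g :=
    LaurentSeries.single_order_mul_powerSeriesPart g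
  have hinv : (u : LaurentSeries F) * ((u⁻¹ : PowerSeries F) : LaurentSeries F) = 1 := by
    rw [← PowerSeries.coe_mul, PowerSeries.mul_inv_cancel u hu0, PowerSeries.coe_one]
  set s : LaurentSeries F := HahnSeries.single n (1 : F) with hs
  have hs0 : s ≠ 0 := by
    rw [hs]; exact HahnSeries.single_ne_zero one_ne_zero
  set U : LaurentSeries F := (u : LaurentSeries F) with hU
  have hU0 : U ≠ 0 := by
    intro h
    rw [h, zero_mul] at hinv
    exact zero_ne_one hinv
  have hUinv : U⁻¹ = ((u⁻¹ : PowerSeries F) : LaurentSeries F) :=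
    (eq_inv_of_mul_eq_one_right hinv).symm
  -- valuation
  have hvU : Valued.v U = 1 := by
    have h1 : Valued.v U ≤ 1 := (LaurentSeries.val_le_one_iff_eq_coe F U).mpr ⟨u, rfl⟩
    have h2 : Valued.v ((u⁻¹ : PowerSeries F) : LaurentSeries F) ≤ 1 :=
      (LaurentSeries.val_le_one_iff_eq_coe F _).mpr ⟨u⁻¹, rfl⟩
    have h3 : Valued.v U * Valued.v ((u⁻¹ : PowerSeries F) : LaurentSeries F) = 1 := by
      rw [← map_mul, hinv, map_one]
    apply le_antisymm h1
    calc (1 : WithZero (Multiplicative ℤ)) = Valued.v U * Valued.v ((u⁻¹ : PowerSeries F) : LaurentSeries F) := h3.symm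
      _ ≤ Valued.v U * 1 := mul_le_mul_right h2 _
      _ = Valued.v U := mul_one _
  have hwf : w f = WithZero.exp (-n) := by
    rw [← hφ.1 f, ← hgdef, ← hgu, map_mul, hvU, mul_one, hs, LaurentSeries.valuation_single_zpow]
  have hlog : -WithZero.log (w f) = n := by
    rw [hwf, WithZero.log_exp, neg_neg]
  rw [hlog]
  -- the residue
  unfold LocRes.resExp
  rw [map_inv₀, ← hgdef]
  have hD : LocRes.D F g = s * LocRes.D F U + HahnSeries.single (n - 1) (n • (1 : F)) * U := by
    rw [← hgu, LocRes.D_apply, LocRes.D_apply, LocRes.derivative_single_mul]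
  have hsingle : (HahnSeries.single (n - 1) (n • (1 : F)) : LaurentSeries F) =
      HahnSeries.single (-1) (n • (1 : F)) * s := by
    rw [hs, HahnSeries.single_mul_single, mul_one, show n - 1 = -1 + n by ring]
  have hprod : g⁻¹ * LocRes.D F g =
      (((u⁻¹ * PowerSeries.derivative F u : PowerSeries F)) : LaurentSeries F) +
        HahnSeries.single (-1) (n • (1 : F)) := by
    rw [hD, hsingle, ← hgu, LocRes.D_coe, PowerSeries.coe_mul, ← hUinv]
    field_simp
  rw [hprod, LocRes.res_apply, HahnSeries.coeff_add, PowerSeries.coeff_coe]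
  simp

end Groth.Agent.S12620
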