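import Groth.Statements.S12621
-- import your own Groth.Agent.* helpers here
import Mathlib
import Groth.Agent.Lib.Helper72.ResPow

set_option autoImplicit false
universe u v w
open LocRes

namespace Groth.Agent.S12621

/-- For a `k`-algebra homomorphism `φ : K → F((X))` from a field into formal Laurent series over a
field, an element `f` of `K` and a nonzero integer `n`, the residue of `f^(n-1) df` read through `φ`
— the `X⁻¹`-coefficient of `φ(f)^(n-1) · (φ f)′` — vanishes, in every characteristic (also when the
characteristic divides `n`). (The published statement is for the intrinsic residue of a complete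
field with a perfect coefficient field; read through an expansion it is this identity of Laurent
series, and no property of `φ` is needed.) -/
theorem result {k : Type u} {K : Type v} {F : Type w} [CommRing k] [Field K] [Field F]
    [Algebra k K] [Algebra k F]
    (φ : K →ₐ[k] LaurentSeries F) (f : K) (n : ℤ) (hn : n ≠ 0) :
    LocRes.resExp φ (f ^ (n - 1)) f = 0 := by
  unfold LocRes.resExp
  rw [LocRes.res_apply, map_zpow₀]
  obtain ⟨g, hg⟩ : ∃ g, g = φ f := ⟨_, rfl⟩
  rw [← hg]
  obtain ⟨k, rfl | rfl⟩ := n.eq_nat_or_neg
  · have hk : 1 ≤ k := by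
      rcases Nat.eq_zero_or_pos k with h | h
      · subst h; exact absurd rfl hn
      · exact h
    have e : ((k : ℤ) - 1) = ((k - 1 : ℕ) : ℤ) := by
      rw [Nat.cast_sub hk]; simp
    rw [e, zpow_natCast]
    exact Groth.Agent.Lib.Helper72.ResPow.res_pow F g k hk
  · have hk : 1 ≤ k := by
      rcases Nat.eq_zero_or_pos k with h | h
      · subst h; exact absurd (by simp) hn
      · exact h
    have key := Groth.Agent.Lib.Helper72.ResPow.res_pow F g⁻¹ k hk
    have e : (-(k : ℤ) - 1) = -((k + 1 : ℕ) : ℤ) := by push_cast; ring
    have e2 : g ^ (-(k : ℤ) - 1) * LocRes.D F g = -(g⁻¹ ^ (k - 1) * LocRes.D F g⁻¹) := by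
      rw [e, zpow_neg, zpow_natCast, ← inv_pow, Derivation.leibniz_inv, smul_eq_mul]
      have : g⁻¹ ^ (k + 1) = g⁻¹ ^ (k - 1) * g⁻¹ ^ 2 := by
        rw [← pow_add]; congr 1; omega
      rw [this]; ring
    rw [e2, HahnSeries.coeff_neg, key, neg_zero]

end Groth.Agent.S12621
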