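import Groth.Statements.S4852
import Groth.Agent.Lib.Helper7.NilProj

set_option autoImplicit false
universe u
open TensorProduct
open EGA43

namespace Groth.Agent.S4852

theorem isSemisimpleRing_quotient_jacobson {A : Type*} [CommRing A] [Finite (MaximalSpectrum A)] :
    IsSemisimpleRing (A ⧸ Ring.jacobson A) := by
  classical
  have h1 : Ring.jacobson A = ⨅ m : MaximalSpectrum A, m.asIdeal := by
    rw [Ring.jacobson_eq_sInf_isMaximal]
    apply le_antisymm
    · apply le_iInf
      intro m
      exact sInf_le m.isMaximal
    · apply le_sInf
      intro I hI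
      exact iInf_le_of_le ⟨I, hI⟩ le_rfl
  have hcop : Pairwise (Function.onFun IsCoprime (fun m : MaximalSpectrum A => m.asIdeal)) :=
    fun m m' hne => Ideal.isCoprime_of_isMaximal (MaximalSpectrum.ext_iff.ne.mp hne)
  let e := Ideal.quotientInfRingEquivPiQuotient (fun m : MaximalSpectrum A => m.asIdeal) hcop
  haveI : ∀ m : MaximalSpectrum A, IsSemisimpleRing (A ⧸ m.asIdeal) := fun m => by
    haveI := m.isMaximal
    letI := Ideal.Quotient.field m.asIdeal
    infer_instance
  haveI : IsSemisimpleRing (Π m : MaximalSpectrum A, A ⧸ m.asIdeal) := inferInstance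
  rw [h1]
  exact e.symm.isSemisimpleRing

/-- Let A be a semi-local ring (finitely many maximal ideals) whose Jacobson radical is nilpotent, for
instance an Artinian ring, and let (u_i : A → B_i) be a family of ring homomorphisms whose kernels
have zero intersection. Then an A-module M is flat if and only if, for every i, the B_i-module B_i
⊗_A M is flat. -/
theorem result {A : Type u} [CommRing A]
    [Finite (MaximalSpectrum A)] (hnil : IsNilpotent (Ring.jacobson A))
    {ι : Type u} (B : ι → Type u) [∀ i, CommRing (B i)] [∀ i, Algebra A (B i)]
    (hB : ∀ a : A, (∀ i, algebraMap A (B i) a = 0) → a = 0)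
    (M : Type u) [AddCommGroup M] [Module A M] :
    Module.Flat A M ↔ ∀ i, Module.Flat (B i) (B i ⊗[A] M) := by
  constructor
  · intro h i
    infer_instance
  · intro h
    haveI := isSemisimpleRing_quotient_jacobson (A := A)
    haveI : Module.Projective (A ⧸ Ring.jacobson A) ((A ⧸ Ring.jacobson A) ⊗[A] M) :=
      Module.projective_of_isSemisimpleRing _ _
    haveI : Module.Projective A M :=
      Groth.Agent.Lib.Helper7.NilProj.projective_of_isNilpotent_of_flat_family
        (Ring.jacobson A) M hnil B hB h
    infer_instance

end Groth.Agent.S4852
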