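import Groth.Statements.S1265
import Groth.Agent.S4852

set_option autoImplicit false
set_option linter.style.haveILetI false
universe u
open FlatMor

namespace Groth.Agent.S1265

open TensorProduct in
theorem flat_tower_iff (A C D N : Type u) [CommRing A] [CommRing C] [CommRing D] [Algebra A C]
    [Algebra A D] [Algebra C D] [IsScalarTower A C D] [AddCommGroup N] [Module A N] :
    Module.Flat D (D ⊗[C] (C ⊗[A] N)) ↔ Module.Flat D (D ⊗[A] N) :=
  ⟨fun _ => Module.Flat.of_linearEquiv
      (TensorProduct.AlgebraTensorModule.cancelBaseChange A C D D N).symm,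
   fun _ => Module.Flat.of_linearEquiv
      (TensorProduct.AlgebraTensorModule.cancelBaseChange A C D D N)⟩

open TensorProduct in
theorem flat_of_tower (A C D N : Type u) [CommRing A] [CommRing C] [CommRing D] [Algebra A C]
    [Algebra A D] [Algebra C D] [IsScalarTower A C D] [AddCommGroup N] [Module A N]
    (h : Module.Flat C (C ⊗[A] N)) : Module.Flat D (D ⊗[A] N) :=
  (flat_tower_iff A C D N).1 inferInstance

theorem hnil_of_artinian (C : Type u) [CommRing C] [IsArtinianRing C] :
    IsNilpotent (Ring.jacobson C) := by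
  rw [← Ideal.jacobson_bot]
  exact IsArtinianRing.isNilpotent_jacobson_bot

open TensorProduct in
/-- descent of flatness along an injective map out of an Artinian ring -/
theorem flat_of_injective (A C D N : Type u) [CommRing A] [CommRing C] [CommRing D] [Algebra A C]
    [Algebra A D] [Algebra C D] [IsScalarTower A C D] [AddCommGroup N] [Module A N]
    [IsArtinianRing C] (hinj : Function.Injective (algebraMap C D))
    (h : Module.Flat D (D ⊗[A] N)) : Module.Flat C (C ⊗[A] N) := by
  refine (Groth.Agent.S4852.result (A := C) (hnil_of_artinian C) (ι := PUnit.{u+1})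
    (fun _ => D) ?_ (C ⊗[A] N)).2 ?_
  · intro a ha
    exact hinj (by rw [ha PUnit.unit, map_zero])
  · intro _
    exact (flat_tower_iff A C D N).2 h

open TensorProduct in
/-- intersection of two flattening ideals is flattening -/
theorem flat_inf (A N : Type u) [CommRing A] [IsArtinianRing A] [AddCommGroup N] [Module A N]
    (I J : Ideal A) (hI : Module.Flat (A ⧸ I) ((A ⧸ I) ⊗[A] N))
    (hJ : Module.Flat (A ⧸ J) ((A ⧸ J) ⊗[A] N)) :
    Module.Flat (A ⧸ (I ⊓ J)) ((A ⧸ (I ⊓ J)) ⊗[A] N) := by
  let ι : Type u := {K : Ideal A // K = I ∨ K = J}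
  have hle : ∀ i : ι, I ⊓ J ≤ i.1 := by
    rintro ⟨K, rfl | rfl⟩
    · exact inf_le_left
    · exact inf_le_right
  letI alg : ∀ i : ι, Algebra (A ⧸ (I ⊓ J)) (A ⧸ i.1) :=
    fun i => (Ideal.Quotient.factor (hle i)).toAlgebra
  haveI tow : ∀ i : ι, IsScalarTower A (A ⧸ (I ⊓ J)) (A ⧸ i.1) :=
    fun i => IsScalarTower.of_algebraMap_eq (fun x => rfl)
  refine (Groth.Agent.S4852.result (A := A ⧸ (I ⊓ J)) (hnil_of_artinian _) (ι := ι)
    (fun i => A ⧸ i.1) ?_ ((A ⧸ (I ⊓ J)) ⊗[A] N)).2 ?_
  · intro a ha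
    obtain ⟨x, rfl⟩ := Ideal.Quotient.mk_surjective a
    have h1 : x ∈ I := by
      have := ha ⟨I, Or.inl rfl⟩
      exact Ideal.Quotient.eq_zero_iff_mem.1 this
    have h2 : x ∈ J := by
      have := ha ⟨J, Or.inr rfl⟩
      exact Ideal.Quotient.eq_zero_iff_mem.1 this
    exact Ideal.Quotient.eq_zero_iff_mem.2 ⟨h1, h2⟩
  · intro i
    have hi : Module.Flat (A ⧸ i.1) ((A ⧸ i.1) ⊗[A] N) := by
      obtain ⟨K, hK⟩ := i
      rcases hK with rfl | rfl
      · exact hI
      · exact hJ
    exact (flat_tower_iff A (A ⧸ (I ⊓ J)) (A ⧸ i.1) N).2 hi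

open TensorProduct in
theorem core (A N : Type u) [CommRing A] [IsArtinianRing A] [AddCommGroup N] [Module A N] :
    ∃ I : Ideal A, ∀ (A' : Type u) [CommRing A'] [Algebra A A'],
      (Module.Flat A' (A' ⊗[A] N) ↔ I.map (algebraMap A A') = ⊥) := by
  let S : Set (Ideal A) := {I | Module.Flat (A ⧸ I) ((A ⧸ I) ⊗[A] N)}
  have hne : S.Nonempty := by
    refine ⟨⊤, ?_⟩
    haveI : Subsingleton (A ⧸ (⊤ : Ideal A)) := Ideal.Quotient.subsingleton_iff.2 rfl
    show Module.Flat (A ⧸ (⊤ : Ideal A)) ((A ⧸ (⊤ : Ideal A)) ⊗[A] N)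
    infer_instance
  obtain ⟨I, hIS, hImin⟩ := (wellFounded_lt (α := Ideal A)).has_min S hne
  have hleast : ∀ J ∈ S, I ≤ J := by
    intro J hJ
    have h1 : I ⊓ J ∈ S := flat_inf A N I J hIS hJ
    have h2 : ¬ (I ⊓ J < I) := hImin _ h1
    have h3 : I ⊓ J = I := by
      by_contra hne'
      exact h2 (lt_of_le_of_ne inf_le_left hne')
    exact inf_eq_left.1 h3
  refine ⟨I, ?_⟩
  intro A' _ _
  constructor
  · intro hfl
    rw [Ideal.map_eq_bot_iff_le_ker]
    apply hleast
    letI : Algebra (A ⧸ RingHom.ker (algebraMap A A')) A' :=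
      (RingHom.kerLift (algebraMap A A')).toAlgebra
    haveI : IsScalarTower A (A ⧸ RingHom.ker (algebraMap A A')) A' :=
      IsScalarTower.of_algebraMap_eq (fun x => rfl)
    exact flat_of_injective A (A ⧸ RingHom.ker (algebraMap A A')) A' N
      (RingHom.kerLift_injective _) hfl
  · intro hmap
    rw [Ideal.map_eq_bot_iff_le_ker] at hmap
    letI : Algebra (A ⧸ I) A' :=
      (Ideal.Quotient.lift I (algebraMap A A') (fun a ha => hmap ha)).toAlgebra
    haveI : IsScalarTower A (A ⧸ I) A' :=
      IsScalarTower.of_algebraMap_eq (fun x => rfl)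
    exact flat_of_tower A (A ⧸ I) A' N hIS

/-- Ring form, stated for X = Spec B affine: let A be an Artinian ring, B an A-algebra and N a B-module.
Then there is an ideal I of A such that for every A-algebra A', with B' = B ⊗_A A' and N' the base
change of N (any models), N' is flat over A' if and only if IA' = 0. -/
theorem result {A B : Type u} [CommRing A] [IsArtinianRing A] [CommRing B] [Algebra A B]
    (N : Type u) [AddCommGroup N] [Module B N] [Module A N] [IsScalarTower A B N] :
    ∃ I : Ideal A, ∀ (A' B' N' : Type u) [CommRing A'] [CommRing B'] [Algebra A A'] [Algebra B B'] [Algebra A' B'] [Algebra A B']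
      [IsScalarTower A B B'] [IsScalarTower A A' B'] [Algebra.IsPushout A B A' B']
      [AddCommGroup N'] [Module B' N'] [Module B N'] [IsScalarTower B B' N'] [Module A' N'] [IsScalarTower A' B' N']
      (f : N →ₗ[B] N'), IsBaseChange B' f →
      (Module.Flat A' N' ↔ I.map (algebraMap A A') = ⊥) := by
  obtain ⟨I, hI⟩ := core A N
  refine ⟨I, ?_⟩
  intro A' B' N' _ _ _ _ _ _ _ _ _ _ _ _ _ _ _ f hf
  rw [← hI A']
  haveI : Algebra.IsPushout A A' B B' := Algebra.IsPushout.symm inferInstance
  let e1 : TensorProduct B B' N ≃ₗ[A'] TensorProduct A A' N :=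
    Algebra.IsPushout.cancelBaseChange A A' B B' N
  let e2 : TensorProduct B B' N ≃ₗ[A'] N' := hf.equiv.restrictScalars A'
  exact ⟨fun _ => Module.Flat.of_linearEquiv (e1.symm.trans e2),
    fun _ => Module.Flat.of_linearEquiv (e1.symm.trans e2).symm⟩

end Groth.Agent.S1265
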