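import Groth.Statements.S1267
import Groth.Agent.Lib.Helper86.FlatSmaller

set_option autoImplicit false
set_option linter.style.haveILetI false
universe u
open FlatMor

namespace Groth.Agent.S1267

open TensorProduct in
theorem flat_quot_iff {A : Type u} [CommRing A] (K : Ideal A) (M : Type u) [AddCommGroup M]
    [Module A M] :
    Module.Flat (A ⧸ K) (M ⧸ (K • ⊤ : Submodule A M)) ↔
      Module.Flat (A ⧸ K) ((A ⧸ K) ⊗[A] M) := by
  let e : ((A ⧸ K) ⊗[A] M) ≃ₗ[A ⧸ K] M ⧸ (K • ⊤ : Submodule A M) :=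
    LinearEquiv.extendScalarsOfSurjective Ideal.Quotient.mk_surjective
      (TensorProduct.quotTensorEquivQuotSMul M K)
  exact ⟨fun _ => Module.Flat.of_linearEquiv e, fun _ => Module.Flat.of_linearEquiv e.symm⟩

open TensorProduct in
theorem main {A : Type u} [CommRing A] (I : Ideal A)
    (U : Set (PrimeSpectrum A)) (hUc : IsCompact U)
    (M : Type u) [AddCommGroup M] [Module A M]
    (hMI : Module.Flat (A ⧸ I) ((A ⧸ I) ⊗[A] M))
    (hflat : ∀ p ∈ U, Module.Flat A (LocalizedModule p.asIdeal.primeCompl M))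
    (I₂ : Ideal A) (hI₂ : ∀ x : A, x ∈ I₂ ↔ x ∈ I ∧ ∀ p ∈ U, ∃ s : A, s ∉ p.asIdeal ∧ s * x ∈ I ^ 2) :
    Module.Flat (A ⧸ I₂) ((A ⧸ I₂) ⊗[A] M) := by
  have hsq : I ^ 2 ≤ I₂ := by
    intro x hx
    rw [hI₂]
    refine ⟨Ideal.pow_le_self (by norm_num) hx, fun p _ => ⟨1, ?_, by rwa [one_mul]⟩⟩
    exact fun h => p.asIdeal.ne_top_iff_one.1 p.isPrime.ne_top h
  have hI₂I : I₂ ≤ I := fun x hx => ((hI₂ x).1 hx).1
  have hnil : IsNilpotent (I.map (Ideal.Quotient.mk I₂)) := by
    refine ⟨2, ?_⟩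
    rw [← Ideal.map_pow, Ideal.zero_eq_bot, Ideal.map_eq_bot_iff_le_ker, Ideal.mk_ker]
    exact hsq
  apply Groth.Agent.Lib.Helper7.NilFlat.flat_of_isNilpotent (I.map (Ideal.Quotient.mk I₂)) hnil
  · -- injectivity
    have hcore := Groth.Agent.Lib.Helper86.FlatSmaller.core_injective I I₂ U hUc M hMI hflat hI₂
    let e : ∀ (X : Type u) [AddCommGroup X] [Module A X] [Module (A ⧸ I₂) X]
        [IsScalarTower A (A ⧸ I₂) X],
        (X ⊗[A ⧸ I₂] ((A ⧸ I₂) ⊗[A] M)) ≃ₗ[A] M ⊗[A] X := fun X _ _ _ _ =>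
      (TensorProduct.AlgebraTensorModule.cancelBaseChange A (A ⧸ I₂) (A ⧸ I₂) X M).restrictScalars A
        ≪≫ₗ TensorProduct.comm A X M
    have hcomm : ∀ y, e (A ⧸ I₂) (LinearMap.rTensor ((A ⧸ I₂) ⊗[A] M)
          (Submodule.subtype (I.map (Ideal.Quotient.mk I₂))) y) =
        LinearMap.lTensor M
          ((Submodule.subtype (I.map (Ideal.Quotient.mk I₂))).restrictScalars A)
          (e (I.map (Ideal.Quotient.mk I₂)) y) := by
      intro y
      induction y using TensorProduct.induction_on with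
      | zero => simp
      | tmul x w =>
        induction w using TensorProduct.induction_on with
        | zero => simp
        | tmul d z => simp [e]
        | add w w' hw hw' =>
          rw [TensorProduct.tmul_add, map_add, map_add, hw, hw', map_add, map_add]
      | add y y' hy hy' => rw [map_add, map_add, hy, hy', map_add, map_add]
    intro y y' hyy'
    apply (e (I.map (Ideal.Quotient.mk I₂))).injective
    apply hcore
    rw [← hcomm, ← hcomm, hyy']
  · -- flat mod Ī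
    rw [Groth.Agent.Lib.Helper86.Flattening.flat_tower_iff A (A ⧸ I₂)
      ((A ⧸ I₂) ⧸ I.map (Ideal.Quotient.mk I₂)) M]
    have hker : ∀ a ∈ I,
        algebraMap A ((A ⧸ I₂) ⧸ I.map (Ideal.Quotient.mk I₂)) a = 0 := by
      intro a ha
      rw [IsScalarTower.algebraMap_apply A (A ⧸ I₂), Ideal.Quotient.algebraMap_eq,
        Ideal.Quotient.algebraMap_eq, Ideal.Quotient.eq_zero_iff_mem]
      exact Ideal.mem_map_of_mem _ ha
    letI : Algebra (A ⧸ I) ((A ⧸ I₂) ⧸ I.map (Ideal.Quotient.mk I₂)) :=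
      (Ideal.Quotient.lift I (algebraMap A ((A ⧸ I₂) ⧸ I.map (Ideal.Quotient.mk I₂)))
        hker).toAlgebra
    haveI : IsScalarTower A (A ⧸ I) ((A ⧸ I₂) ⧸ I.map (Ideal.Quotient.mk I₂)) :=
      IsScalarTower.of_algebraMap_eq (fun x => rfl)
    exact Groth.Agent.Lib.Helper86.Flattening.flat_of_tower A (A ⧸ I)
      ((A ⧸ I₂) ⧸ I.map (Ideal.Quotient.mk I₂)) M hMI

/-- Let A be a local ring, I an ideal, U a quasi-compact open subset of Spec A and M an A-module such
that M/IM is flat over A/I and M_p is flat over A for all p in U. Let I₂ be the kernel of I → Γ(U,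
I/I²), that is the set of x ∈ I such that for every p ∈ U some s outside p has s·x ∈ I². Then M/I₂M
is flat over A/I₂. -/
theorem result {A : Type u} [CommRing A] [IsLocalRing A] (I : Ideal A)
    (U : Set (PrimeSpectrum A)) (hU : IsOpen U) (hUc : IsCompact U)
    (M : Type u) [AddCommGroup M] [Module A M]
    [Module.Flat (A ⧸ I) (M ⧸ (I • ⊤ : Submodule A M))]
    (hflat : ∀ p ∈ U, Module.Flat A (LocalizedModule p.asIdeal.primeCompl M))
    (I₂ : Ideal A) (hI₂ : ∀ x : A, x ∈ I₂ ↔ x ∈ I ∧ ∀ p ∈ U, ∃ s : A, s ∉ p.asIdeal ∧ s * x ∈ I ^ 2) :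
    Module.Flat (A ⧸ I₂) (M ⧸ (I₂ • ⊤ : Submodule A M)) := by
  rw [flat_quot_iff]
  exact main I U hUc M ((flat_quot_iff I M).1 inferInstance) hflat I₂ hI₂

end Groth.Agent.S1267
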