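import Groth.Statements.S12712
import Groth.Agent.Lib.Helper64.ArtHensel

set_option autoImplicit false
universe u v
open CategoryTheory
open ArtFun ArtFun.Art

namespace Groth.Agent.S12712

/-- If k is separable over the image of Λ → k, then for any two morphisms f₁ : A₁ → A and f₂ : A₂ → A in
the category of Artinian local Λ-algebras with residue field k the set-theoretic fibre product A₁
×_A A₂ is again an object of the category. -/
theorem result {Λ : Type u} {k : Type u} [CommRing Λ] [Field k] [Algebra Λ k]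
    [IsNoetherianRing Λ] [Module.Finite Λ k]
    [Algebra.IsSeparable (↥(algebraMap Λ k).range) k]
    {A A₁ A₂ : ArtFun.Art Λ k} (f₁ : A₁ ⟶ A) (f₂ : A₂ ⟶ A) :
    ∃ (B : ArtFun.Art Λ k) (p₁ : B ⟶ A₁) (p₂ : B ⟶ A₂), ArtFun.Art.IsFibreProd p₁ p₂ f₁ f₂ := by
  classical
  have hres : Function.Surjective (A₁.res.comp (AlgHom.pullbackFst f₁.toAlgHom f₂.toAlgHom)) := by
    intro c
    -- minimal polynomial of c over the image of Λ
    have hsep : IsSeparable (↥(algebraMap Λ k).range) c := Algebra.IsSeparable.isSeparable _ c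
    have hint : IsIntegral (↥(algebraMap Λ k).range) c := hsep.isIntegral
    set g := minpoly (↥(algebraMap Λ k).range) c with hg
    have hgmonic : g.Monic := minpoly.monic hint
    have hgsep : g.Separable := hsep
    let φ : Λ →+* ↥(algebraMap Λ k).range := (algebraMap Λ k).rangeRestrict
    have hφ : Function.Surjective φ := (algebraMap Λ k).rangeRestrict_surjective
    have hlift : g ∈ Polynomial.lifts φ := by
      rw [Polynomial.mem_lifts]
      exact Polynomial.map_surjective φ hφ g
    obtain ⟨G, hGmap, -, hGmonic⟩ := Polynomial.lifts_and_natDegree_eq_and_monic hlift hgmonic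
    have hcomp : (algebraMap (↥(algebraMap Λ k).range) k).comp φ = algebraMap Λ k := by
      ext x
      rfl
    have hGk : G.map (algebraMap Λ k) = g.map (algebraMap (↥(algebraMap Λ k).range) k) := by
      rw [← hGmap, Polynomial.map_map, hcomp]
    have hc : (G.map (algebraMap Λ k)).eval c = 0 := by
      rw [hGk, Polynomial.eval_map_algebraMap]
      exact minpoly.aeval _ c
    have hc' : (G.map (algebraMap Λ k)).derivative.eval c ≠ 0 := by
      rw [hGk, Polynomial.derivative_map, Polynomial.eval_map_algebraMap]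
      exact hgsep.aeval_derivative_ne_zero (minpoly.aeval _ c)
    obtain ⟨α₁, hα₁, hα₁c⟩ := Groth.Agent.Lib.Helper64.root_exists G hGmonic c hc hc' A₁
    obtain ⟨α₂, hα₂, hα₂c⟩ := Groth.Agent.Lib.Helper64.root_exists G hGmonic c hc hc' A₂
    have heq : f₁ α₁ = f₂ α₂ := by
      apply Groth.Agent.Lib.Helper64.root_unique G c hc' A
      · rw [← Groth.Agent.Lib.Helper64.hom_eval_map, hα₁]
        exact map_zero f₁.toAlgHom
      · rw [ArtFun.Art.res_app, hα₁c]
      · rw [← Groth.Agent.Lib.Helper64.hom_eval_map, hα₂]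
        exact map_zero f₂.toAlgHom
      · rw [ArtFun.Art.res_app, hα₂c]
    exact ⟨⟨(α₁, α₂), heq⟩, hα₁c⟩
  exact ⟨Groth.Agent.Lib.Helper64.pullbackArt f₁ f₂ hres,
    Groth.Agent.Lib.Helper64.pullbackArtFst f₁ f₂ hres,
    Groth.Agent.Lib.Helper64.pullbackArtSnd f₁ f₂ hres,
    Groth.Agent.Lib.Helper64.isFibreProd_pullbackArt f₁ f₂ hres⟩

end Groth.Agent.S12712
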