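import Groth.Statements.S12713
-- import your own Groth.Agent.* helpers here

set_option autoImplicit false
universe u v
open CategoryTheory
open ArtFun ArtFun.Art

namespace Groth.Agent.S12713

/-- A small extension f : B → A in the category of Artinian local Λ-algebras with residue field k is not
an essential surjection (some morphism g : C → B is non-surjective although the composite C → A is
surjective) if and only if f has a section A → B in the category. -/
theorem result {Λ : Type u} {k : Type u} [CommRing Λ] [Field k] [Algebra Λ k]
    [IsNoetherianRing Λ] [Module.Finite Λ k]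
    {A B : ArtFun.Art Λ k} (f : B ⟶ A) (hf : ArtFun.Art.IsSmallExt f) :
    (∃ (C : ArtFun.Art Λ k) (g : C ⟶ B), Function.Surjective (g ≫ f) ∧ ¬ Function.Surjective g) ↔
      ∃ s : A ⟶ B, s ≫ f = 𝟙 A := by
  classical
  obtain ⟨hfsurj, hne, hprin, hkill⟩ := hf
  obtain ⟨⟨t, ht⟩⟩ := hprin
  have ht_mem : t ∈ RingHom.ker f.toAlgHom := by
    rw [ht]; exact Submodule.mem_span_singleton_self t
  have ht0 : t ≠ 0 := by
    intro h0
    apply hne
    rw [ht, h0]
    simp
  have hft : f t = 0 := ht_mem
  have hkill' : ∀ x ∈ IsLocalRing.maximalIdeal B, x * t = 0 := by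
    intro x hx
    have : x * t ∈ IsLocalRing.maximalIdeal B * RingHom.ker f.toAlgHom := Ideal.mul_mem_mul hx ht_mem
    rw [hkill] at this
    exact this
  constructor
  · rintro ⟨C, g, hgf, hg⟩
    have hgf' : ∀ a : A, ∃ c : C, f (g c) = a := fun a => hgf a
    -- for u in B, u * t is g(c) * t for some c
    have hut : ∀ u : B, ∃ c : C, u * t = g c * t := by
      intro u
      obtain ⟨c, hc⟩ := C.res_surjective (B.res u)
      refine ⟨c, ?_⟩
      have hdiff : u - g c ∈ IsLocalRing.maximalIdeal B := by
        rw [ArtFun.Art.mem_maximalIdeal_iff, map_sub]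
        have := ArtFun.Art.res_app g c
        change B.res u - B.res (g.toAlgHom c) = 0
        rw [this, hc, sub_self]
      have := hkill' _ hdiff
      have h2 : u * t = g c * t + (u - g c) * t := by ring
      rw [h2, this, add_zero]
    -- t is not in the range of g
    have htrange : ∀ c : C, g c ≠ t := by
      intro c hc
      apply hg
      intro b
      obtain ⟨c', hc'⟩ := hgf' (f b)
      have hmem : b - g c' ∈ RingHom.ker f.toAlgHom := by
        rw [RingHom.mem_ker, map_sub]
        change f b - f (g c') = 0
        rw [hc', sub_self]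
      rw [ht] at hmem
      obtain ⟨u, hu⟩ := Submodule.mem_span_singleton.mp hmem
      obtain ⟨c'', hc''⟩ := hut u
      refine ⟨c' + c'' * c, ?_⟩
      change g.toAlgHom (c' + c'' * c) = b
      rw [map_add, map_mul]
      change g c' + g c'' * g c = b
      rw [hc, ← hc'', ← smul_eq_mul, hu]
      ring
    -- range g meets ker f trivially
    have hinter : ∀ c : C, f (g c) = 0 → g c = 0 := by
      intro c hc
      by_contra hne0
      have hmem : g c ∈ RingHom.ker f.toAlgHom := hc
      rw [ht] at hmem
      obtain ⟨u, hu⟩ := Submodule.mem_span_singleton.mp hmem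
      rw [smul_eq_mul] at hu
      have hu_unit : IsUnit u := by
        by_contra hnu
        have : u ∈ IsLocalRing.maximalIdeal B := (IsLocalRing.mem_maximalIdeal u).mpr hnu
        apply hne0
        rw [← hu, hkill' u this]
      obtain ⟨v, hv⟩ := hu_unit.exists_left_inv
      -- t = v * g c
      have htv : t = v * g c := by
        rw [← hu, ← mul_assoc, hv, one_mul]
      obtain ⟨c₃, hc₃⟩ := C.res_surjective (B.res v)
      have hdiff : v - g c₃ ∈ IsLocalRing.maximalIdeal B := by
        rw [ArtFun.Art.mem_maximalIdeal_iff, map_sub]
        have := ArtFun.Art.res_app g c₃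
        change B.res v - B.res (g.toAlgHom c₃) = 0
        rw [this, hc₃, sub_self]
      have h0 : (v - g c₃) * g c = 0 := by
        rw [← hu, ← mul_assoc, mul_comm (v - g c₃) u, mul_assoc, hkill' _ hdiff, mul_zero]
      apply htrange (c₃ * c)
      change g.toAlgHom (c₃ * c) = t
      rw [map_mul]
      change g c₃ * g c = t
      rw [htv]
      have : v * g c = g c₃ * g c + (v - g c₃) * g c := by ring
      rw [this, h0, add_zero]
    -- the section
    let s₀ : A → B := fun a => g (Classical.choose (hgf' a))
    have hs₀ : ∀ (a : A) (c : C), f (g c) = a → s₀ a = g c := by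
      intro a c hc
      have h1 := Classical.choose_spec (hgf' a)
      have h2 : f (g (Classical.choose (hgf' a) - c)) = 0 := by
        change f.toAlgHom (g.toAlgHom (Classical.choose (hgf' a) - c)) = 0
        rw [map_sub, map_sub]
        change f (g (Classical.choose (hgf' a))) - f (g c) = 0
        rw [h1, hc, sub_self]
      have h3 := hinter _ h2
      have h4 : g.toAlgHom (Classical.choose (hgf' a) - c) = 0 := h3
      rw [map_sub, sub_eq_zero] at h4
      exact h4
    have hfs₀ : ∀ a, f (s₀ a) = a := fun a => Classical.choose_spec (hgf' a)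
    let s : A →ₐ[Λ] B :=
      { toFun := s₀
        map_one' := by
          rw [hs₀ 1 1 (by change f.toAlgHom (g.toAlgHom 1) = 1; rw [map_one, map_one])]
          exact map_one g.toAlgHom
        map_mul' := by
          intro a a'
          obtain ⟨c, hc⟩ := hgf' a
          obtain ⟨c', hc'⟩ := hgf' a'
          rw [hs₀ a c hc, hs₀ a' c' hc', hs₀ (a * a') (c * c') (by
            change f.toAlgHom (g.toAlgHom (c * c')) = a * a'
            rw [map_mul, map_mul]
            change f (g c) * f (g c') = a * a'
            rw [hc, hc'])]
          exact map_mul g.toAlgHom c c'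
        map_zero' := by
          rw [hs₀ 0 0 (by change f.toAlgHom (g.toAlgHom 0) = 0; rw [map_zero, map_zero])]
          exact map_zero g.toAlgHom
        map_add' := by
          intro a a'
          obtain ⟨c, hc⟩ := hgf' a
          obtain ⟨c', hc'⟩ := hgf' a'
          rw [hs₀ a c hc, hs₀ a' c' hc', hs₀ (a + a') (c + c') (by
            change f.toAlgHom (g.toAlgHom (c + c')) = a + a'
            rw [map_add, map_add]
            change f (g c) + f (g c') = a + a'
            rw [hc, hc'])]
          exact map_add g.toAlgHom c c'
        commutes' := by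
          intro r
          rw [hs₀ (algebraMap Λ A r) (algebraMap Λ C r) (by
            change f.toAlgHom (g.toAlgHom (algebraMap Λ C r)) = algebraMap Λ A r
            rw [AlgHom.commutes, AlgHom.commutes])]
          exact AlgHom.commutes g.toAlgHom r }
    have hs_apply : ∀ a, s a = s₀ a := fun a => rfl
    refine ⟨⟨s, ?_⟩, ?_⟩
    · apply AlgHom.ext
      intro a
      change B.res (s a) = A.res a
      have := ArtFun.Art.res_app f (s a)
      rw [← this, hs_apply, hfs₀]
    · apply ArtFun.Art.hom_ext
      apply AlgHom.ext
      intro a
      change f (s a) = a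
      rw [hs_apply, hfs₀]
  · rintro ⟨s, hs⟩
    refine ⟨A, s, ?_, ?_⟩
    · rw [hs]
      intro a
      exact ⟨a, rfl⟩
    · intro hsurj
      obtain ⟨a, ha⟩ := hsurj t
      have h1 : f (s a) = a := by
        change (s ≫ f) a = a
        rw [hs]; rfl
      apply ht0
      have h2 : a = 0 := by
        have h3 : f (s a) = f t := congrArg (fun x => f x) ha
        rw [h1, hft] at h3
        exact h3
      rw [← ha, h2]
      exact map_zero s.toAlgHom

end Groth.Agent.S12713
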