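import Groth.Statements.S12715
import Mathlib.RingTheory.Noetherian.Basic
import Mathlib.RingTheory.Finiteness.Basic
import Mathlib.RingTheory.Ideal.Maps

set_option autoImplicit false
universe u v
open CategoryTheory
open ArtFun

namespace Groth.Agent.S12715

/-- For Λ Noetherian with a finite map to the field k and S a complete local Noetherian Λ-algebra with
residue field k (through a surjective map S → k over Λ), the space of Λ-derivations S → k is
finite-dimensional over k. -/
theorem result {Λ : Type u} {k : Type u} [CommRing Λ] [Field k] [Algebra Λ k]
    [IsNoetherianRing Λ] [Module.Finite Λ k]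
    (S : Type u) [CommRing S] [Algebra Λ S] [IsLocalRing S] [IsNoetherianRing S]
    [IsAdicComplete (IsLocalRing.maximalIdeal S) S] [Algebra S k] [IsScalarTower Λ S k]
    (hres : Function.Surjective (algebraMap S k)) :
    Module.Finite k (Derivation Λ S k) := by
  classical
  have hker : ∀ y : S, y ∈ IsLocalRing.maximalIdeal S ↔ algebraMap S k y = 0 := by
    intro y
    have hmax : (RingHom.ker (algebraMap S k)).IsMaximal :=
      RingHom.ker_isMaximal_of_surjective _ hres
    have := IsLocalRing.eq_maximalIdeal hmax
    rw [← this, RingHom.mem_ker]
  obtain ⟨gs, hgs⟩ := (isNoetherianRing_iff_ideal_fg S).mp inferInstance (IsLocalRing.maximalIdeal S)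
  obtain ⟨c, hc⟩ := (Module.Finite.fg_top : (⊤ : Submodule Λ k).FG)
  let lift : k → S := Function.surjInv hres
  have hlift : ∀ x, algebraMap S k (lift x) = x := Function.surjInv_eq hres
  let T : Set S := lift '' (c : Set k) ∪ (gs : Set S)
  have hTfin : T.Finite := (Set.Finite.image _ c.finite_toSet).union gs.finite_toSet
  have : Finite T := hTfin.to_subtype
  let Φ : Derivation Λ S k →ₗ[k] (T → k) :=
    { toFun := fun D i => D i.1
      map_add' := fun D E => by ext i; simp
      map_smul' := fun a D => by ext i; simp }
  have hinj : Function.Injective Φ := by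
    rw [← LinearMap.ker_eq_bot, LinearMap.ker_eq_bot']
    intro D hD
    have hDT : ∀ x ∈ T, D x = 0 := fun x hx => congrFun hD ⟨x, hx⟩
    -- D kills the maximal ideal
    have hm : ∀ y ∈ IsLocalRing.maximalIdeal S, D y = 0 := by
      intro y hy
      rw [← hgs] at hy
      induction hy using Submodule.span_induction with
      | mem x hx => exact hDT x (Or.inr hx)
      | zero => exact map_zero D
      | add x y _ _ hx hy => rw [map_add, hx, hy, add_zero]
      | smul a x hx ih =>
        rw [smul_eq_mul, Derivation.leibniz, ih, smul_zero, zero_add]
        have hx' : x ∈ IsLocalRing.maximalIdeal S := by rw [← hgs]; exact hx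
        rw [Algebra.smul_def, (hker x).mp hx', zero_mul]
    -- D kills the span of the lifts
    have hspan : ∀ y ∈ Submodule.span Λ (lift '' (c : Set k)), D y = 0 := by
      intro y hy
      induction hy using Submodule.span_induction with
      | mem x hx => exact hDT x (Or.inl hx)
      | zero => exact map_zero D
      | add x y _ _ hx hy => rw [map_add, hx, hy, add_zero]
      | smul a x _ ih => rw [Derivation.map_smul, ih, smul_zero]
    ext s
    -- s = s' + (s - s') with s' in the span and s - s' in the maximal ideal
    have hs : ∃ s' ∈ Submodule.span Λ (lift '' (c : Set k)), algebraMap S k s' = algebraMap S k s := by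
      have hmap : Submodule.map (IsScalarTower.toAlgHom Λ S k).toLinearMap
          (Submodule.span Λ (lift '' (c : Set k))) = ⊤ := by
        rw [Submodule.map_span, ← Set.image_comp, ← hc]
        congr 1
        ext x
        simp [hlift]
      have : algebraMap S k s ∈ Submodule.map (IsScalarTower.toAlgHom Λ S k).toLinearMap
          (Submodule.span Λ (lift '' (c : Set k))) := by rw [hmap]; trivial
      obtain ⟨s', hs', h⟩ := this
      exact ⟨s', hs', h⟩
    obtain ⟨s', hs', h⟩ := hs
    have h1 : D (s - s') = 0 := hm _ ((hker _).mpr (by rw [map_sub, h, sub_self]))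
    have h2 : D s' = 0 := hspan s' hs'
    have : D s = D (s - s') + D s' := by rw [← map_add, sub_add_cancel]
    rw [this, h1, h2, add_zero]
    rfl
  exact Module.Finite.of_injective Φ hinj

end Groth.Agent.S12715
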