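import Groth.Statements.S12716
import Mathlib.RingTheory.Ideal.Cotangent
import Mathlib.RingTheory.AdicCompletion.Functoriality
import Mathlib.LinearAlgebra.Basis.VectorSpace

set_option autoImplicit false
universe u v
open CategoryTheory
open ArtFun

namespace Groth.Agent.S12716

/-- Let f : R → S be a morphism of complete local Noetherian Λ-algebras with residue field k (Λ
Noetherian, Λ → k finite). If the restriction map Der_Λ(S, k) → Der_Λ(R, k) is injective — two
Λ-derivations S → k that agree after composing with f are equal — then f is surjective. -/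
theorem result {Λ : Type u} {k : Type u} [CommRing Λ] [Field k] [Algebra Λ k]
    [IsNoetherianRing Λ] [Module.Finite Λ k]
    (R : ArtFun.CRing Λ k)
    (S : Type u) [CommRing S] [Algebra Λ S] [IsLocalRing S] [IsNoetherianRing S]
    [IsAdicComplete (IsLocalRing.maximalIdeal S) S] [Algebra S k] [IsScalarTower Λ S k]
    (hres : Function.Surjective (algebraMap S k))
    (f : R.carrier →ₐ[Λ] S) (hf : (IsScalarTower.toAlgHom Λ S k).comp f = R.res)
    (hinj : ∀ D₁ D₂ : Derivation Λ S k, (∀ r : R.carrier, D₁ (f r) = D₂ (f r)) → D₁ = D₂) :
    Function.Surjective f := by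
  classical
  have hkerS : ∀ y : S, y ∈ IsLocalRing.maximalIdeal S ↔ algebraMap S k y = 0 := by
    intro y
    have hmax : (RingHom.ker (algebraMap S k)).IsMaximal :=
      RingHom.ker_isMaximal_of_surjective _ hres
    have := IsLocalRing.eq_maximalIdeal hmax
    rw [← this, RingHom.mem_ker]
  have hkerR : ∀ r : R.carrier, r ∈ IsLocalRing.maximalIdeal R.carrier ↔ R.res r = 0 := by
    intro r
    have hmax : (RingHom.ker (R.res : R.carrier →+* k)).IsMaximal :=
      RingHom.ker_isMaximal_of_surjective _ R.res_surjective
    have := IsLocalRing.eq_maximalIdeal hmax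
    rw [← this, RingHom.mem_ker]
    rfl
  have hfr : ∀ r, algebraMap S k (f r) = R.res r := fun r => AlgHom.congr_fun hf r
  have hfm : ∀ r ∈ IsLocalRing.maximalIdeal R.carrier, f r ∈ IsLocalRing.maximalIdeal S := by
    intro r hr
    rw [hkerS, hfr]
    exact (hkerR r).mp hr
  have : IsLocalHom (algebraMap S k) := by
    constructor
    intro a ha
    by_contra h
    have h0 := (hkerS a).mp ((IsLocalRing.mem_maximalIdeal a).mpr h)
    rw [h0] at ha
    exact not_isUnit_zero ha
  let e : IsLocalRing.ResidueField S →+* k := IsLocalRing.ResidueField.lift (algebraMap S k)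
  have he : ∀ s, e (IsLocalRing.residue S s) = algebraMap S k s :=
    IsLocalRing.ResidueField.lift_residue_apply _
  let gs : Set (IsLocalRing.maximalIdeal S) :=
    {y | ∃ r ∈ IsLocalRing.maximalIdeal R.carrier, f r = y.1}
  let W : Submodule (IsLocalRing.ResidueField S) (IsLocalRing.CotangentSpace S) :=
    Submodule.span _ ((IsLocalRing.maximalIdeal S).toCotangent '' gs)
  have hW : W = ⊤ := by
    by_contra hne
    obtain ⟨ψ, hψ0, hψW⟩ := W.exists_le_ker_of_lt_top (lt_top_iff_ne_top.mpr hne)
    let τ : IsLocalRing.maximalIdeal S →ₗ[S] k :=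
      { toFun := fun y => e (ψ ((IsLocalRing.maximalIdeal S).toCotangent y))
        map_add' := fun x y => by simp only [map_add]
        map_smul' := fun a y => by
          simp only [RingHom.id_apply]
          rw [map_smul, ← algebraMap_smul (IsLocalRing.ResidueField S) a
            ((IsLocalRing.maximalIdeal S).toCotangent y), map_smul, smul_eq_mul, map_mul,
            Algebra.smul_def]
          congr 1 }
    have hτf : ∀ r (hr : r ∈ IsLocalRing.maximalIdeal R.carrier), τ ⟨f r, hfm r hr⟩ = 0 := by
      intro r hr
      have : (IsLocalRing.maximalIdeal S).toCotangent ⟨f r, hfm r hr⟩ ∈ W :=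
        Submodule.subset_span ⟨⟨f r, hfm r hr⟩, ⟨r, hr, rfl⟩, rfl⟩
      have h0 : ψ ((IsLocalRing.maximalIdeal S).toCotangent ⟨f r, hfm r hr⟩) = 0 := hψW this
      show e (ψ _) = 0
      rw [h0, map_zero]
    have hmem : ∀ (s : S) (r : R.carrier), R.res r = algebraMap S k s →
        s - f r ∈ IsLocalRing.maximalIdeal S := by
      intro s r h
      rw [hkerS, map_sub, hfr, h, sub_self]
    let lift : S → R.carrier := fun s => Classical.choose (R.res_surjective (algebraMap S k s))
    have hlift : ∀ s, R.res (lift s) = algebraMap S k s :=
      fun s => Classical.choose_spec (R.res_surjective (algebraMap S k s))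
    let δ : S → k := fun s => τ ⟨s - f (lift s), hmem s _ (hlift s)⟩
    have indep : ∀ (s : S) (r : R.carrier) (h : R.res r = algebraMap S k s),
        δ s = τ ⟨s - f r, hmem s r h⟩ := by
      intro s r h
      have hr : r - lift s ∈ IsLocalRing.maximalIdeal R.carrier := by
        rw [hkerR, map_sub, h, hlift, sub_self]
      have : (⟨s - f (lift s), hmem s _ (hlift s)⟩ : IsLocalRing.maximalIdeal S) =
          ⟨s - f r, hmem s r h⟩ + ⟨f (r - lift s), hfm _ hr⟩ := by
        apply Subtype.ext
        simp only [Submodule.coe_add, map_sub]
        ring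
      show τ _ = _
      rw [this, map_add, hτf _ hr, add_zero]
    let Dlin : S →ₗ[Λ] k :=
      { toFun := δ
        map_add' := fun s s' => by
          refine (indep (s + s') (lift s + lift s')
            (by rw [map_add, map_add, hlift, hlift])).trans
            ((congrArg τ (Subtype.ext ?_)).trans (τ.map_add _ _))
          simp only [Submodule.coe_add, map_add]
          ring
        map_smul' := fun c s => by
          simp only [RingHom.id_apply]
          rw [indep (c • s) (c • lift s) (by rw [map_smul, hlift, Algebra.smul_def,
            Algebra.smul_def, map_mul, ← IsScalarTower.algebraMap_apply])]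
          show _ = c • τ _
          have : (⟨c • s - f (c • lift s), hmem _ _ (by rw [map_smul, hlift, Algebra.smul_def,
              Algebra.smul_def, map_mul, ← IsScalarTower.algebraMap_apply])⟩ :
              IsLocalRing.maximalIdeal S) =
              (algebraMap Λ S c) • ⟨s - f (lift s), hmem s _ (hlift s)⟩ := by
            apply Subtype.ext
            simp only [Submodule.coe_smul, smul_eq_mul, Algebra.smul_def, map_mul, AlgHom.commutes]
            ring
          rw [this, map_smul, Algebra.smul_def, Algebra.smul_def,
            ← IsScalarTower.algebraMap_apply] }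
    have hleib : ∀ a b : S, Dlin (a * b) = a • Dlin b + b • Dlin a := by
      intro a b
      show δ (a * b) = a • δ b + b • δ a
      rw [indep (a * b) (lift a * lift b) (by rw [map_mul, map_mul, hlift, hlift])]
      have : (⟨a * b - f (lift a * lift b), hmem _ _ (by rw [map_mul, map_mul, hlift, hlift])⟩ :
          IsLocalRing.maximalIdeal S) =
          a • ⟨b - f (lift b), hmem b _ (hlift b)⟩ +
            (f (lift b)) • ⟨a - f (lift a), hmem a _ (hlift a)⟩ := by
        apply Subtype.ext
        simp only [Submodule.coe_add, Submodule.coe_smul, smul_eq_mul, map_mul]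
        ring
      rw [this, map_add, map_smul, map_smul]
      congr 1
      rw [Algebra.smul_def, Algebra.smul_def, hfr, hlift]
    let D : Derivation Λ S k := Derivation.mk' Dlin hleib
    have hD0 : D = 0 := by
      apply hinj D 0
      intro r
      show δ (f r) = 0
      rw [indep (f r) r (hfr r).symm]
      have : (⟨f r - f r, hmem _ _ (hfr r).symm⟩ : IsLocalRing.maximalIdeal S) = 0 := by
        apply Subtype.ext
        simp
      rw [this, map_zero]
    apply hψ0
    apply LinearMap.ext
    intro c
    obtain ⟨y, rfl⟩ := (IsLocalRing.maximalIdeal S).toCotangent_surjective c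
    have h1 : δ y.1 = 0 := by
      have := congrArg (fun D : Derivation Λ S k => D y.1) hD0
      exact this
    rw [indep y.1 0 (by rw [map_zero]; exact ((hkerS _).mp y.2).symm)] at h1
    have h2 : (⟨y.1 - f 0, hmem _ _ (by rw [map_zero]; exact ((hkerS _).mp y.2).symm)⟩ :
        IsLocalRing.maximalIdeal S) = y := by
      apply Subtype.ext
      simp
    rw [h2] at h1
    have h3 : e (ψ ((IsLocalRing.maximalIdeal S).toCotangent y)) = 0 := h1
    rw [LinearMap.zero_apply]
    exact (map_eq_zero e).mp h3
  have hspan : Submodule.span S gs = ⊤ := IsLocalRing.CotangentSpace.span_image_eq_top_iff.mp hW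
  have hmap : Ideal.map (f : R.carrier →+* S) (IsLocalRing.maximalIdeal R.carrier) =
      IsLocalRing.maximalIdeal S := by
    apply le_antisymm
    · rw [Ideal.map_le_iff_le_comap]
      intro r hr
      exact hfm r hr
    · intro y hy
      have hy' : (⟨y, hy⟩ : IsLocalRing.maximalIdeal S) ∈ Submodule.span S gs := by
        rw [hspan]; trivial
      have key : ∀ x ∈ Submodule.span S gs,
          (x : S) ∈ Ideal.map (f : R.carrier →+* S) (IsLocalRing.maximalIdeal R.carrier) := by
        intro x hx
        induction hx using Submodule.span_induction with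
        | mem x hx =>
          obtain ⟨r, hr, hrx⟩ := hx
          rw [← hrx]
          exact Ideal.mem_map_of_mem _ hr
        | zero => exact Ideal.zero_mem _
        | add x y _ _ hx hy => exact Ideal.add_mem _ hx hy
        | smul a x _ hx => exact Ideal.mul_mem_left _ a hx
      exact key _ hy'
  have : IsAdicComplete (IsLocalRing.maximalIdeal R.carrier) R.carrier := R.isAdicComplete
  have : IsHausdorff (Ideal.map (f : R.carrier →+* S) (IsLocalRing.maximalIdeal R.carrier)) S := by
    rw [hmap]; infer_instance
  apply surjective_of_mk_map_comp_surjective (I := IsLocalRing.maximalIdeal R.carrier)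
    (f : R.carrier →+* S)
  intro x
  obtain ⟨s, rfl⟩ := Ideal.Quotient.mk_surjective x
  obtain ⟨r, hr⟩ := R.res_surjective (algebraMap S k s)
  refine ⟨r, ?_⟩
  show Ideal.Quotient.mk _ (f r) = Ideal.Quotient.mk _ s
  rw [Ideal.Quotient.eq, hmap, hkerS, map_sub, hfr, hr, sub_self]

end Groth.Agent.S12716
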