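import Groth.Statements.S12721
import Groth.Agent.Lib.Helper64.ArtThicken
import Groth.Agent.S12707
import Groth.Prelude.Def_ArtFun5

set_option autoImplicit false
universe u v
open CategoryTheory
open ArtFun

namespace Groth.Agent.S12721

/-- (1) ⇔ (2): for R a complete local Noetherian Λ-algebra with residue field k, the functor h_R on
Artinian local Λ-algebras with residue field k is smooth (surjective along every surjection) if and
only if Λ → R is formally smooth for the m_R-adic topology. -/
theorem result {Λ : Type u} {k : Type u} [CommRing Λ] [Field k] [Algebra Λ k]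
    [IsNoetherianRing Λ] [Module.Finite Λ k]
    (R : ArtFun.CRing Λ k) :
    ArtFun.IsSmoothFunctor (ArtFun.hR R.carrier R.res) ↔
      CAlgX.IsAdicFormallySmooth Λ R.carrier (IsLocalRing.maximalIdeal R.carrier) := by
  classical
  constructor
  · -- smooth functor ⇒ formally smooth
    intro hsm A _ _ J hJ ψ hψ
    obtain ⟨n, hn⟩ := hψ
    let ψn : (R.trunc n) →ₐ[Λ] A ⧸ J :=
      Ideal.Quotient.liftₐ (ArtFun.CRing.mpow R n) ψ
        (fun a ha => hn a (Ideal.pow_le_pow_right (Nat.le_succ n) ha))
    obtain ⟨C, μ, θ, hμ, hθ⟩ := Groth.Agent.Lib.Helper64.exists_thickening (R.trunc n) A J hJ ψn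
    obtain ⟨φ', hφ'⟩ := hsm μ hμ (R.truncHom n)
    have hφ'' : ArtFun.HomSet.map μ φ' = R.truncHom n := hφ'
    refine ⟨θ.comp φ'.1, ?_⟩
    rw [← AlgHom.comp_assoc, hθ, AlgHom.comp_assoc]
    have h1 : μ.toAlgHom.comp φ'.1 = (R.truncHom n).1 := congrArg Subtype.val hφ''
    rw [h1]
    apply AlgHom.ext
    intro r
    rfl
  · -- formally smooth ⇒ smooth functor
    intro hfs
    have key : ∀ ⦃A B : ArtFun.Art Λ k⦄ (p : B ⟶ A), Function.Surjective p →
        Function.Surjective ((ArtFun.hR R.carrier R.res).map p) := by
      apply Groth.Agent.S12707.result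
        (fun A B p => Function.Surjective ((ArtFun.hR R.carrier R.res).map p))
      · -- isomorphisms
        intro A B e he
        intro φ
        refine ⟨(ArtFun.hR R.carrier R.res).map (inv e) φ, ?_⟩
        rw [← FunctorToTypes.map_comp_apply, IsIso.inv_hom_id, FunctorToTypes.map_id_apply]
      · -- small extensions
        intro A B p hp φ
        obtain ⟨hsurj, -, -, hmK⟩ := hp
        set K : Ideal B := RingHom.ker p.toAlgHom with hK
        have hK2 : K ^ 2 = ⊥ := by
          rw [← le_bot_iff, ← hmK, pow_two]
          exact Ideal.mul_mono_left (Groth.Agent.S12707.ker_le_maximalIdeal p)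
        let e : (B ⧸ K) ≃ₐ[Λ] A := Ideal.quotientKerAlgEquivOfSurjective hsurj
        have he : ∀ b : B, e (Ideal.Quotient.mk K b) = p b := fun b => rfl
        let ψ : R.carrier →ₐ[Λ] B ⧸ K := (e.symm : A →ₐ[Λ] B ⧸ K).comp φ.1
        -- ψ kills a power of the maximal ideal
        obtain ⟨N, hN⟩ := (isArtinianRing_iff_isNilpotent_maximalIdeal A).mp inferInstance
        have hφm : ∀ r ∈ IsLocalRing.maximalIdeal R.carrier, φ.1 r ∈ IsLocalRing.maximalIdeal A := by
          intro r hr
          rw [ArtFun.Art.mem_maximalIdeal_iff]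
          have := AlgHom.congr_fun φ.2 r
          simp only [AlgHom.comp_apply] at this
          rw [this]
          exact (ArtFun.CRing.mem_maximalIdeal_iff R r).mp hr
        have hψ : ∃ n : ℕ, ∀ x ∈ IsLocalRing.maximalIdeal R.carrier ^ n, ψ x = 0 := by
          refine ⟨N, fun x hx => ?_⟩
          have h1 : φ.1 x ∈ (IsLocalRing.maximalIdeal R.carrier ^ N).map
              (φ.1 : R.carrier →+* A) := Ideal.mem_map_of_mem _ hx
          rw [Ideal.map_pow] at h1
          have h2 : (IsLocalRing.maximalIdeal R.carrier).map (φ.1 : R.carrier →+* A) ≤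
              IsLocalRing.maximalIdeal A := by
            rw [Ideal.map_le_iff_le_comap]
            exact hφm
          have h3 := Ideal.pow_right_mono h2 N h1
          rw [hN] at h3
          have h4 : φ.1 x = 0 := h3
          show (e.symm : A →ₐ[Λ] B ⧸ K) (φ.1 x) = 0
          rw [h4, map_zero]
        obtain ⟨χ, hχ⟩ := hfs B K hK2 ψ hψ
        have hpχ : p.toAlgHom.comp χ = φ.1 := by
          apply AlgHom.ext
          intro r
          have h1 := AlgHom.congr_fun hχ r
          simp only [AlgHom.comp_apply, Ideal.Quotient.mkₐ_eq_mk] at h1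
          have h2 : e (Ideal.Quotient.mk K (χ r)) = e (ψ r) := by rw [h1]
          rw [he] at h2
          show p (χ r) = φ.1 r
          rw [h2]
          show e (e.symm (φ.1 r)) = φ.1 r
          exact AlgEquiv.apply_symm_apply e _
        refine ⟨⟨χ, ?_⟩, ?_⟩
        · rw [← p.res_comp, AlgHom.comp_assoc, hpχ, φ.2]
        · apply Subtype.ext
          exact hpχ
      · -- compositions
        intro A B C p q hp hq
        rw [Functor.map_comp]
        intro φ
        obtain ⟨φ1, h1⟩ := hq φ
        obtain ⟨φ2, h2⟩ := hp φ1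
        refine ⟨φ2, ?_⟩
        rw [types_comp_apply, h2, h1]
    intro B A μ hμ
    exact key μ hμ

end Groth.Agent.S12721
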