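import Groth.Statements.S12722
import Groth.Agent.Lib.Helper76.PSArt

set_option autoImplicit false
universe u v
open CategoryTheory
open ArtFun

namespace Groth.Agent.S12722

/-- the base ring as a coefficient ring -/
@[reducible] noncomputable def baseCRing {Λ : Type u} {k : Type u} [CommRing Λ] [Field k] [Algebra Λ k]
    [IsNoetherianRing Λ] [IsLocalRing Λ] [IsAdicComplete (IsLocalRing.maximalIdeal Λ) Λ]
    (hk : Function.Surjective (algebraMap Λ k)) : ArtFun.CRing Λ k :=
  { carrier := Λ
    res := Algebra.ofId Λ k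
    res_surjective := hk
    isAdicComplete := inferInstance }

lemma homSet_base_subsingleton {Λ : Type u} {k : Type u} [CommRing Λ] [Field k] [Algebra Λ k]
    (res : Λ →ₐ[Λ] k) (A : ArtFun.Art Λ k) (a b : ArtFun.HomSet Λ res A) : a = b := by
  refine Subtype.ext (AlgHom.ext fun c => ?_)
  have h1 := a.1.commutes c
  have h2 := b.1.commutes c
  rw [Algebra.algebraMap_self, RingHom.id_apply] at h1 h2
  rw [h1, h2]

/-- (1) ⇔ (5): let Λ be a complete local Noetherian ring with residue field k. For a complete local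
Noetherian Λ-algebra R with residue field k, the functor h_R on Artinian local Λ-algebras with
residue field k is smooth if and only if R is isomorphic over Λ to a power series ring Λ[[x₁, …,
xₙ]] for some n. -/
theorem result {Λ : Type u} {k : Type u} [CommRing Λ] [Field k] [Algebra Λ k]
    [IsNoetherianRing Λ] [Module.Finite Λ k]
    [IsLocalRing Λ] [IsAdicComplete (IsLocalRing.maximalIdeal Λ) Λ]
    (hk : Function.Surjective (algebraMap Λ k)) (R : ArtFun.CRing Λ k) :
    ArtFun.IsSmoothFunctor (ArtFun.hR R.carrier R.res) ↔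
      ∃ n : ℕ, Nonempty (R.carrier ≃ₐ[Λ] MvPowerSeries (Fin n) Λ) := by
  have hLR : R.res.comp (IsScalarTower.toAlgHom Λ Λ R.carrier) = (baseCRing hk).res := by
    refine AlgHom.ext fun c => ?_
    have h1 := (R.res.comp (IsScalarTower.toAlgHom Λ Λ R.carrier)).commutes c
    have h2 := (baseCRing hk).res.commutes c
    rw [Algebra.algebraMap_self, RingHom.id_apply] at h1 h2
    rw [h1, h2]
  have key : ArtFun.IsVersal ((ArtFun.Family.self Λ (baseCRing hk).res).along
      (IsScalarTower.toAlgHom Λ Λ R.carrier) hLR) ↔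
      ∃ n : ℕ, Nonempty (R.carrier ≃ₐ[Λ] MvPowerSeries (Fin n) Λ) :=
    ⟨Groth.Agent.Lib.Helper76.PSArt.exists_algEquiv_of_isVersal (baseCRing hk) R hLR,
      fun ⟨n, ⟨e⟩⟩ => Groth.Agent.Lib.Helper76.PSArt.isVersal_of_algEquiv (baseCRing hk) R hLR n e⟩
  rw [← key]
  constructor
  · intro hsm B A μ hμ φ y hy
    obtain ⟨ψ, hψ⟩ := hsm μ hμ φ
    exact ⟨ψ, hψ, homSet_base_subsingleton _ B _ _⟩
  · intro hV B A μ hμ φ
    let y0 : ArtFun.HomSet Λ (baseCRing hk).res B := ⟨Algebra.ofId Λ B, by
      refine AlgHom.ext fun c => ?_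
      have h1 := (B.res.comp (Algebra.ofId Λ B)).commutes c
      have h2 := (baseCRing hk).res.commutes c
      rw [Algebra.algebraMap_self, RingHom.id_apply] at h1 h2
      rw [h1, h2]⟩
    obtain ⟨ψ, hψ, -⟩ := hV μ hμ φ y0 (homSet_base_subsingleton _ A _ _)
    exact ⟨ψ, hψ⟩

end Groth.Agent.S12722
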