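import Groth.Statements.S12723
import Groth.Agent.S12721

set_option autoImplicit false
universe u v
open CategoryTheory
open ArtFun

namespace Groth.Agent.S12723

/-- (1) ⇔ (2): for functors, let F be a functor on Artinian local Λ-algebras with residue field k with
F(k) a point, and let ξ be a versal family of F over a complete local Noetherian R with residue
field k. Then F is smooth (unobstructed) if and only if Λ → R is formally smooth for the m_R-adic
topology. -/
theorem result {Λ : Type u} {k : Type u} [CommRing Λ] [Field k] [Algebra Λ k]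
    [IsNoetherianRing Λ] [Module.Finite Λ k]
    {F : ArtFun.Art Λ k ⥤ Type v} (h0 : ArtFun.H0 F)
    (R : ArtFun.CRing Λ k) (ξ : ArtFun.Family R.carrier R.res F) (hξ : ArtFun.IsVersal ξ) :
    ArtFun.IsSmoothFunctor F ↔
      CAlgX.IsAdicFormallySmooth Λ R.carrier (IsLocalRing.maximalIdeal R.carrier) := by
  classical
  rw [← Groth.Agent.S12721.result R]
  obtain ⟨hne, hsub⟩ := h0
  -- ξ is surjective on every object
  have hsurj : ∀ A : ArtFun.Art Λ k, Function.Surjective (ξ.app A) := by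
    intro A a
    let φ₀ : ArtFun.HomSet R.carrier R.res (ArtFun.Art.base Λ k) := ⟨R.res, AlgHom.id_comp _⟩
    obtain ⟨ψ, -, hψ⟩ := hξ (ArtFun.Art.toBase A) A.res_surjective φ₀ a (Subsingleton.elim _ _)
    exact ⟨ψ, hψ⟩
  constructor
  · intro hF B A μ hμ φ
    obtain ⟨b, hb⟩ := hF μ hμ (ξ.app A φ)
    obtain ⟨ψ, hψ, -⟩ := hξ μ hμ φ b hb
    exact ⟨ψ, hψ⟩
  · intro hR B A μ hμ a
    obtain ⟨φ, hφ⟩ := hsurj A a
    obtain ⟨ψ, hψ⟩ := hR μ hμ φ
    have hψ' : ArtFun.HomSet.map μ ψ = φ := hψ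
    refine ⟨ξ.app B ψ, ?_⟩
    rw [← ξ.natural, hψ', hφ]

end Groth.Agent.S12723
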