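import Groth.Statements.S12727
import Groth.Agent.Lib.Helper64.ArtFibre

set_option autoImplicit false
universe u v
open CategoryTheory
open ArtFun

namespace Groth.Agent.S12727

/-- For functors, a functor on Artinian local Λ-algebras with residue field k with F(k) a point which
admits a versal family (over a complete local Noetherian ring with residue field k) satisfies
condition (S1). -/
theorem result {Λ : Type u} {k : Type u} [CommRing Λ] [Field k] [Algebra Λ k]
    [IsNoetherianRing Λ] [Module.Finite Λ k]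
    (F : ArtFun.Art Λ k ⥤ Type v) (h0 : ArtFun.H0 F) (hv : ArtFun.HasVersal F) :
    ArtFun.S1 F := by
  obtain ⟨V⟩ := hv
  obtain ⟨hne, hsub⟩ := h0
  intro B A A' A'' p' p'' f' f'' h hf''
  rintro ⟨⟨x', x''⟩, hx⟩
  have hx' : F.map f' x' = F.map f'' x'' := hx
  -- Step 1
  let φ₀ : ArtFun.HomSet V.ring.carrier V.ring.res (ArtFun.Art.base Λ k) :=
    ⟨V.ring.res, AlgHom.id_comp _⟩
  have hbase : Function.Surjective (ArtFun.Art.toBase A') := A'.res_surjective
  obtain ⟨ψ', -, hψ'⟩ := V.versal (ArtFun.Art.toBase A') hbase φ₀ x' (Subsingleton.elim _ _)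
  -- Step 2
  have h2 : F.map f'' x'' = V.family.app A (ArtFun.HomSet.map f' ψ') := by
    rw [V.family.natural, hψ', hx']
  obtain ⟨ψ'', hψ''1, hψ''2⟩ := V.versal f'' hf'' (ArtFun.HomSet.map f' ψ') x'' h2
  -- Step 3
  obtain ⟨ψ, hψ1, hψ2⟩ := Groth.Agent.Lib.Helper64.IsFibreProd.exists_liftHomSet h ψ' ψ'' hψ''1.symm
  refine ⟨V.family.app B ψ, ?_⟩
  apply Subtype.ext
  apply Prod.ext
  · change F.map p' (V.family.app B ψ) = x'
    rw [← V.family.natural, hψ1, hψ']
  · change F.map p'' (V.family.app B ψ) = x''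
    rw [← V.family.natural, hψ2, hψ''2]

end Groth.Agent.S12727
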