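import Groth.Statements.S12731
import Groth.Agent.Lib.Helper9.ArtCRing
import Groth.Agent.Lib.Helper64.ArtFibre
import Groth.Agent.S12715

set_option autoImplicit false
universe u v
open CategoryTheory
open ArtFun

namespace Groth.Agent.S12731

/-- For functors, if a functor F on Artinian local Λ-algebras with residue field k with F(k) a point has
a versal family over a complete local Noetherian ring with residue field k which is bijective on
tangent spaces (a hull), then F satisfies (S1) and (S2) and has finite-dimensional tangent space. -/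
theorem result {Λ : Type u} {k : Type u} [CommRing Λ] [Field k] [Algebra Λ k]
    [IsNoetherianRing Λ] [Module.Finite Λ k]
    (F : ArtFun.Art Λ k ⥤ Type v) [ArtFun.TangentStr F] (h0 : ArtFun.H0 F) (h : ArtFun.HasHull F) :
    ArtFun.S1 F ∧ ArtFun.Heps F ∧ ArtFun.Hfin F := by
  classical
  obtain ⟨⟨R, ξ, hvers, hbij⟩⟩ := h
  obtain ⟨hne, hsub⟩ := h0
  have hξsurj : ∀ A : ArtFun.Art Λ k, Function.Surjective (ξ.app A) := by
    intro A a
    let φ₀ : ArtFun.HomSet R.carrier R.res (ArtFun.Art.base Λ k) := ⟨R.res, AlgHom.id_comp _⟩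
    obtain ⟨ψ, -, hψ⟩ := hvers (ArtFun.Art.toBase A) A.res_surjective φ₀ a (Subsingleton.elim _ _)
    exact ⟨ψ, hψ⟩
  have hS1 : ArtFun.S1 F := by
    intro B A A' A'' p' p'' f' f'' hfp hf'' x
    obtain ⟨⟨a', a''⟩, hx⟩ := x
    obtain ⟨φ', hφ'⟩ := hξsurj A' a'
    obtain ⟨φ'', hφ''1, hφ''2⟩ := hvers f'' hf'' (ArtFun.HomSet.map f' φ') a''
      (by rw [ξ.natural, hφ']; exact hx.symm)
    obtain ⟨ψ, hψ1, hψ2⟩ := Groth.Agent.Lib.Helper64.IsFibreProd.exists_liftHomSet hfp φ' φ''
      hφ''1.symm
    refine ⟨ξ.app B ψ, ?_⟩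
    apply ArtFun.FibProd.ext
    · show F.map p' (ξ.app B ψ) = a'
      rw [← ξ.natural, hψ1, hφ']
    · show F.map p'' (ξ.app B ψ) = a''
      rw [← ξ.natural, hψ2, hφ''2]
  refine ⟨hS1, ?_, ?_⟩
  · -- Heps
    intro B A' p' p'' hfp
    refine ⟨?_, hS1 p' p'' _ _ hfp (ArtFun.Art.dual Λ k).res_surjective⟩
    intro b₁ b₂ hb
    have hb1 : F.map p' b₁ = F.map p' b₂ := congrArg (fun x => x.1.1) hb
    have hb2 : F.map p'' b₁ = F.map p'' b₂ := congrArg (fun x => x.1.2) hb
    obtain ⟨ψ₁, rfl⟩ := hξsurj B b₁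
    have hp' : Function.Surjective p' := by
      intro a'
      obtain ⟨t, ht⟩ := (ArtFun.Art.dual Λ k).res_surjective (A'.res a')
      obtain ⟨b, hb, -⟩ := hfp.surj a' t ht.symm
      exact ⟨b, hb⟩
    obtain ⟨ψ₂, hψ₂1, hψ₂2⟩ := hvers p' hp' (ArtFun.HomSet.map p' ψ₁) b₂
      (by rw [ξ.natural]; exact hb1.symm)
    have hd : ArtFun.HomSet.map p'' ψ₁ = ArtFun.HomSet.map p'' ψ₂ :=
      hbij.1 (by rw [ξ.natural, ξ.natural, hψ₂2]; exact hb2)
    have hψ : ψ₁ = ψ₂ := by
      apply Subtype.ext
      apply AlgHom.ext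
      intro r
      apply hfp.inj
      · exact (congrArg (fun x : ArtFun.HomSet R.carrier R.res A' => x.1 r) hψ₂1).symm
      · exact congrArg (fun x : ArtFun.HomSet R.carrier R.res (ArtFun.Art.dual Λ k) => x.1 r) hd
    rw [← hψ₂2, hψ]
  · -- Hfin
    letI : Algebra R.carrier k := R.res.toRingHom.toAlgebra
    haveI : IsScalarTower Λ R.carrier k :=
      IsScalarTower.of_algebraMap_eq (fun x => (R.res.commutes x).symm)
    haveI : IsAdicComplete (IsLocalRing.maximalIdeal R.carrier) R.carrier := R.isAdicComplete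
    have hres : Function.Surjective (algebraMap R.carrier k) := R.res_surjective
    haveI : Module.Finite k (Derivation Λ R.carrier k) :=
      Groth.Agent.S12715.result (Λ := Λ) (k := k) R.carrier hres
    have hsmul : ∀ (a : R.carrier) (c : k), a • c = R.res a * c := fun a c => rfl
    -- the tangent vector of a derivation
    let τ : Derivation Λ R.carrier k → ArtFun.HomSet R.carrier R.res (ArtFun.Art.dual Λ k) :=
      fun D => ⟨Groth.Agent.Lib.Helper9.dualHomOfDeriv R.res D (fun a b => map_add D a b)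
        (fun a b => by rw [D.leibniz, hsmul, hsmul]; ring) (fun c => D.map_algebraMap c),
        AlgHom.ext fun _ => rfl⟩
    have hτfst : ∀ D r, ((τ D).1 r).fst = R.res r := fun D r => rfl
    have hτsnd : ∀ D r, ((τ D).1 r).snd = D r := fun D r => rfl
    have hext : ∀ φ ψ : ArtFun.HomSet R.carrier R.res (ArtFun.Art.dual Λ k),
        (∀ r, (φ.1 r).snd = (ψ.1 r).snd) → φ = ψ := by
      intro φ ψ hφψ
      apply Subtype.ext
      apply AlgHom.ext
      intro r
      refine TrivSqZeroExt.ext ?_ (hφψ r)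
      have h1 := AlgHom.congr_fun φ.2 r
      have h2 := AlgHom.congr_fun ψ.2 r
      exact h1.trans h2.symm
    let Θ : Derivation Λ R.carrier k →ₗ[k] ArtFun.TangentSpace F :=
      { toFun := fun D => ξ.app (ArtFun.Art.dual Λ k) (τ D)
        map_add' := fun D₁ D₂ => by
          obtain ⟨ψ, hψ1, hψ2⟩ := Groth.Agent.Lib.Helper64.IsFibreProd.exists_liftHomSet
            (ArtFun.Art.isFibreProd_dual2 (Λ := Λ) (k := k)) (τ D₁) (τ D₂)
            (Subtype.ext (AlgHom.ext fun _ => rfl))
          have hplus : ArtFun.HomSet.map ArtFun.Art.plus ψ = τ (D₁ + D₂) := by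
            apply hext
            intro r
            have e1 := congrArg (fun x : ArtFun.HomSet R.carrier R.res (ArtFun.Art.dual Λ k) =>
              (x.1 r).snd) hψ1
            have e2 := congrArg (fun x : ArtFun.HomSet R.carrier R.res (ArtFun.Art.dual Λ k) =>
              (x.1 r).snd) hψ2
            show (ψ.1 r).snd.1 + (ψ.1 r).snd.2 = D₁ r + D₂ r
            have e1' : (ψ.1 r).snd.1 = D₁ r := e1
            have e2' : (ψ.1 r).snd.2 = D₂ r := e2
            rw [e1', e2']
          have hadd := ArtFun.TangentStr.add_eq (F := F) (ξ.app _ ψ)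
          rw [← ξ.natural, ← ξ.natural, ← ξ.natural, hψ1, hψ2, hplus] at hadd
          exact hadd.symm
        map_smul' := fun c D => by
          simp only [RingHom.id_apply]
          have hs : ArtFun.HomSet.map (ArtFun.Art.scale c) (τ D) = τ (c • D) := by
            apply hext
            intro r
            show c • D r = (c • D) r
            rfl
          have := ArtFun.TangentStr.smul_eq (F := F) c (ξ.app _ (τ D))
          rw [← ξ.natural, hs] at this
          exact this.symm }
    have hΘ : Function.Surjective Θ := by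
      intro t
      obtain ⟨φ, hφ⟩ := hbij.2 t
      have hfst : ∀ r, (φ.1 r).fst = R.res r := fun r => AlgHom.congr_fun φ.2 r
      let Dl : R.carrier →ₗ[Λ] k :=
        { toFun := fun r => (φ.1 r).snd
          map_add' := fun a b => by rw [map_add]; rfl
          map_smul' := fun c a => by rw [map_smul]; rfl }
      let D : Derivation Λ R.carrier k := Derivation.mk' Dl (fun a b => by
        show (φ.1 (a * b)).snd = a • (φ.1 b).snd + b • (φ.1 a).snd
        have hm : (φ.1 a * φ.1 b).snd =
            (φ.1 a).fst • (φ.1 b).snd + MulOpposite.op (φ.1 b).fst • (φ.1 a).snd := rfl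
        rw [map_mul, hm, hsmul, hsmul, hfst, hfst, smul_eq_mul,
          MulOpposite.smul_eq_mul_unop, MulOpposite.unop_op]
        ring)
      refine ⟨D, ?_⟩
      show ξ.app _ (τ D) = t
      rw [← hφ]
      congr 1
      apply hext
      intro r
      rfl
    exact Module.Finite.of_surjective Θ hΘ

end Groth.Agent.S12731
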