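import Groth.Statements.S12734
import Groth.Agent.Lib.Helper9.ArtTangentSurj
import Groth.Agent.Lib.Helper9.ArtHull
import Groth.Agent.Lib.Helper64.ProRepCriteria
import Groth.Agent.Lib.Helper64.ProRepNec
-- import your own Groth.Agent.* helpers here

set_option autoImplicit false
universe u v
open CategoryTheory
open ArtFun

namespace Groth.Agent.S12734

/-- A functor F on Artinian local Λ-algebras with residue field k is prorepresentable if and only if (a)
F(k) is a point and F satisfies (RS): F(A₁ ×_A A₂) → F(A₁) ×_{F(A)} F(A₂) is bijective whenever A₂ →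
A is surjective; (b) its tangent space is finite-dimensional; and (c) the map from morphisms k →
k[ε] of the category (the Λ-derivations of k) to the tangent space, σ ↦ F(σ)(x₀), is injective.
Condition (c) is empty when k is separable over the image of Λ in k. -/
theorem result {Λ : Type u} {k : Type u} [CommRing Λ] [Field k] [Algebra Λ k]
    [IsNoetherianRing Λ] [Module.Finite Λ k]
    (F : ArtFun.Art Λ k ⥤ Type v) [ArtFun.TangentStr F] :
    ArtFun.IsProrepresentable F ↔
      ((ArtFun.H0 F ∧ (∀ ⦃B A A' A'' : ArtFun.Art Λ k⦄ (p' : B ⟶ A') (p'' : B ⟶ A'') (f' : A' ⟶ A) (f'' : A'' ⟶ A)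
        (h : ArtFun.Art.IsFibreProd p' p'' f' f''), Function.Surjective f'' → Function.Bijective (ArtFun.cmp F h))) ∧
        ArtFun.Hfin F ∧
        ∀ x₀ : F.obj (ArtFun.Art.base Λ k),
          Function.Injective (fun σ : ArtFun.Art.base Λ k ⟶ ArtFun.Art.dual Λ k => F.map σ x₀)) := by
  constructor
  · intro hF
    exact Groth.Agent.Lib.Helper64.prorep_necessary F hF
  · rintro ⟨⟨h0, hRS⟩, h3, hc⟩
    have h1 : ArtFun.S1 F := fun _ _ _ _ p' p'' f' f'' h hf => (hRS p' p'' f' f'' h hf).2
    have h2 : ArtFun.Heps F := fun _ _ p' p'' h =>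
      hRS p' p'' _ _ h (ArtFun.Art.dual Λ k).res_surjective
    have hsq : ArtFun.HSq F := fun _ _ _ p₁ p₂ f h hf => hRS p₁ p₂ f f h hf.1
    obtain ⟨⟨R, ξ, hξ⟩⟩ := Groth.Agent.Lib.Helper9.hasVersal_of_h0_s1_heps_hfin F h0 h1 h2 h3
    exact Groth.Agent.Lib.Helper64.prorep_of_hasHull_of_hSq h0 hsq
      (Groth.Agent.Lib.Helper9.hasHull_of_isVersal' hc h0 h2 hξ)

end Groth.Agent.S12734
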