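import Groth.Statements.S12735
import Groth.Agent.Lib.Helper9.ArtCRing
import Groth.Agent.S12720
import Groth.Agent.Lib.Helper63.ArtFun
-- import your own Groth.Agent.* helpers here

set_option autoImplicit false
universe u v
open CategoryTheory
open ArtFun

namespace Groth.Agent.S12735

/-- Let U be a prorepresentable functor on Artinian local Λ-algebras with residue field k and φ : U → U
an endomorphism of functors which is bijective on the tangent space U(k[ε]). Then φ is an
isomorphism: every component is bijective. -/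
theorem result {Λ : Type u} {k : Type u} [CommRing Λ] [Field k] [Algebra Λ k]
    [IsNoetherianRing Λ] [Module.Finite Λ k]
    {U : ArtFun.Art Λ k ⥤ Type v} (hU : ArtFun.IsProrepresentable U)
    (φ : U ⟶ U) (hd : Function.Bijective (ArtFun.TangentSpace.map φ)) (A : ArtFun.Art Λ k) :
    Function.Bijective (φ.app A) := by
  obtain ⟨⟨R, ξ, huniv⟩⟩ := hU
  -- universal families are versal
  have hvers : ArtFun.IsVersal ξ := by
    intro B A μ hμ φ₀ y hy
    obtain ⟨ψ, hψ⟩ := (huniv B).2 y
    refine ⟨ψ, ?_, hψ⟩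
    apply (huniv A).1
    rw [ξ.natural, hψ, hy]
  have h0 : ArtFun.H0 U := by
    refine ⟨⟨ξ.app _ Groth.Agent.Lib.Helper63.ArtFunLib.homSetBase⟩, ⟨fun a b => ?_⟩⟩
    obtain ⟨ua, rfl⟩ := (huniv _).2 a
    obtain ⟨ub, rfl⟩ := (huniv _).2 b
    rw [Groth.Agent.Lib.Helper63.ArtFunLib.homSet_base_eq ua,
      Groth.Agent.Lib.Helper63.ArtFunLib.homSet_base_eq ub]
  obtain ⟨α, hα, hαξ⟩ := Groth.Agent.S12720.result h0 R ξ hvers R (ξ.toFormalElt.map φ)
  have key := Groth.Agent.Lib.Helper9.app_eq_of_along_toFormalElt_eq_map R ξ φ α hα hαξ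
  -- `α` is bijective
  have hαs : Function.Surjective α := by
    apply Groth.Agent.Lib.Helper9.cring_surjective_of_tangent_injective R R α hα
    intro ψ₁ ψ₂ h12
    apply (huniv _).1
    apply hd.1
    change φ.app _ (ξ.app _ ψ₁) = φ.app _ (ξ.app _ ψ₂)
    rw [key, key]
    congr 1
    exact Subtype.ext h12
  have hαi : Function.Injective α :=
    Groth.Agent.Lib.Helper9.injective_of_surjective_ringEnd (α : R.carrier →+* R.carrier) hαs
  let e : R.carrier ≃ₐ[Λ] R.carrier := AlgEquiv.ofBijective α ⟨hαi, hαs⟩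
  have heα : ∀ r, α (e.symm r) = r := fun r => e.apply_symm_apply r
  have hres : R.res.comp (e.symm : R.carrier →ₐ[Λ] R.carrier) = R.res := by
    apply AlgHom.ext
    intro r
    change R.res (e.symm r) = R.res r
    have := congrArg (fun t : R.carrier →ₐ[Λ] k => t (e.symm r)) hα
    change R.res (α (e.symm r)) = R.res (e.symm r) at this
    rw [← this, heα]
  constructor
  · intro x y hxy
    obtain ⟨u, rfl⟩ := (huniv A).2 x
    obtain ⟨v, rfl⟩ := (huniv A).2 y
    rw [key, key] at hxy
    have h1 := (huniv A).1 hxy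
    have h2 : u.1.comp α = v.1.comp α := congrArg Subtype.val h1
    congr 1
    apply Subtype.ext
    apply AlgHom.ext
    intro r
    obtain ⟨r', rfl⟩ := hαs r
    exact congrArg (fun t : R.carrier →ₐ[Λ] A => t r') h2
  · intro y
    obtain ⟨v, rfl⟩ := (huniv A).2 y
    refine ⟨ξ.app A (Groth.Agent.Lib.Helper9.homSetPrecomp (e.symm : R.carrier →ₐ[Λ] R.carrier)
      hres v), ?_⟩
    rw [key]
    congr 1
    apply Subtype.ext
    apply AlgHom.ext
    intro r
    change v.1 (e.symm (α r)) = v.1 r
    congr 1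
    exact e.symm_apply_apply r

end Groth.Agent.S12735
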