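import Groth.Statements.S12736
-- import your own Groth.Agent.* helpers here

set_option autoImplicit false
universe u v
open CategoryTheory
open ArtFun

namespace Groth.Agent.S12736

/-- For functors, let φ : F → G be a morphism of functors on Artinian local Λ-algebras with residue
field k whose values at k are points and which satisfy (S2), with the natural vector space
structures on their tangent spaces. Then the differential dφ : F(k[ε]) → G(k[ε]) is k-linear. -/
theorem result {Λ : Type u} {k : Type u} [CommRing Λ] [Field k] [Algebra Λ k]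
    [IsNoetherianRing Λ] [Module.Finite Λ k]
    {F G : ArtFun.Art Λ k ⥤ Type v} [ArtFun.TangentStr F] [ArtFun.TangentStr G]
    (hF0 : ArtFun.H0 F) (hF2 : ArtFun.Heps F) (hG0 : ArtFun.H0 G) (hG2 : ArtFun.Heps G) (φ : F ⟶ G) :
    ∃ f : ArtFun.TangentSpace F →ₗ[k] ArtFun.TangentSpace G, ⇑f = ArtFun.TangentSpace.map φ := by
  classical
  letI iF1 : AddCommGroup (F.obj (ArtFun.Art.dual Λ k)) := ArtFun.TangentStr.addCommGroup
  letI iF2 : Module k (F.obj (ArtFun.Art.dual Λ k)) := ArtFun.TangentStr.module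
  letI iG1 : AddCommGroup (G.obj (ArtFun.Art.dual Λ k)) := ArtFun.TangentStr.addCommGroup
  letI iG2 : Module k (G.obj (ArtFun.Art.dual Λ k)) := ArtFun.TangentStr.module
  have hnat : ∀ {A B : ArtFun.Art Λ k} (g : A ⟶ B) (z : F.obj A),
      φ.app B (F.map g z) = G.map g (φ.app A z) := fun g z => NatTrans.naturality_apply φ g z
  refine ⟨{ toFun := ArtFun.TangentSpace.map φ, map_add' := ?_, map_smul' := ?_ }, rfl⟩
  · intro x y
    -- find z ∈ F(dual2) with projections x, y
    have hsurj := (hF2 (ArtFun.Art.pr₁ (Λ := Λ) (k := k)) ArtFun.Art.pr₂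
      ArtFun.Art.isFibreProd_dual2).2
    have hxy : F.map (ArtFun.Art.toBase (ArtFun.Art.dual Λ k)) x =
        F.map (ArtFun.Art.toBase (ArtFun.Art.dual Λ k)) y := hF0.2.elim _ _
    obtain ⟨z, hz⟩ := hsurj ⟨(x, y), hxy⟩
    have hz1 : F.map ArtFun.Art.pr₁ z = x := congrArg (fun t => t.1.1) hz
    have hz2 : F.map ArtFun.Art.pr₂ z = y := congrArg (fun t => t.1.2) hz
    have hF : x + y = F.map ArtFun.Art.plus z := by
      rw [← hz1, ← hz2]; exact ArtFun.TangentStr.add_eq z
    have hG : G.map ArtFun.Art.pr₁ (φ.app _ z) + G.map ArtFun.Art.pr₂ (φ.app _ z) =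
        G.map ArtFun.Art.plus (φ.app _ z) := ArtFun.TangentStr.add_eq (φ.app _ z)
    change φ.app (ArtFun.Art.dual Λ k) ((x : F.obj (ArtFun.Art.dual Λ k)) + (y : F.obj (ArtFun.Art.dual Λ k))) =
      φ.app (ArtFun.Art.dual Λ k) (x : F.obj (ArtFun.Art.dual Λ k)) + φ.app (ArtFun.Art.dual Λ k) (y : F.obj (ArtFun.Art.dual Λ k))
    rw [hF, hnat, ← hG, ← hnat, ← hnat, hz1, hz2]
  · intro c x
    change φ.app (ArtFun.Art.dual Λ k) (c • (x : F.obj (ArtFun.Art.dual Λ k))) = c • φ.app (ArtFun.Art.dual Λ k) (x : F.obj (ArtFun.Art.dual Λ k))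
    have h1 : c • x = F.map (ArtFun.Art.scale c) x := ArtFun.TangentStr.smul_eq c x
    have h2 : c • φ.app (ArtFun.Art.dual Λ k) x = G.map (ArtFun.Art.scale c) (φ.app _ x) :=
      ArtFun.TangentStr.smul_eq c _
    rw [h1, h2, hnat]

end Groth.Agent.S12736
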