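import Groth.Statements.S12739
import Groth.Agent.Lib.Helper64.ArtEss
import Groth.Agent.Lib.Helper64.CRingQuot
import Groth.Agent.Lib.Helper9.ArtSmoothRing

set_option autoImplicit false
universe u v
open CategoryTheory
open ArtFun

namespace Groth.Agent.S12739

open Groth.Agent.Lib.Helper64

/-- a compatible sequence through a given element of a surjective system -/
lemma exists_compatible : ∀ (n₀ : ℕ) (X : ℕ → Type u) (r : ∀ n, X (n + 1) → X n)
    (_ : ∀ n, Function.Surjective (r n)) (x₀ : X n₀),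
    ∃ x : ∀ n, X n, x n₀ = x₀ ∧ ∀ n, r n (x (n + 1)) = x n := by
  intro n₀
  induction n₀ with
  | zero =>
    intro X r hr x₀
    refine ⟨fun n => Nat.rec (motive := X) x₀ (fun n xn => Function.surjInv (hr n) xn) n, rfl, ?_⟩
    intro n
    exact Function.surjInv_eq (hr n) _
  | succ n₀ ih =>
    intro X r hr x₀
    obtain ⟨x', h0, hc⟩ := ih (fun n => X (n + 1)) (fun n => r (n + 1)) (fun n => hr (n + 1)) x₀
    refine ⟨fun n => match n with
      | 0 => r 0 (x' 0)
      | (m + 1) => x' m, h0, ?_⟩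
    intro n
    cases n with
    | zero => rfl
    | succ m => exact hc m

variable {Λ : Type u} {k : Type u} [CommRing Λ] [Field k] [Algebra Λ k]

/-- the transition maps of the system -/
noncomputable def tr (A : ℕ → ArtFun.Art Λ k) (f : ∀ n, A (n + 1) ⟶ A n) (n : ℕ) :
    ∀ j, A (n + j) ⟶ A n
  | 0 => 𝟙 (A n)
  | (j + 1) => f (n + j) ≫ tr A f n j

lemma tr_surjective (A : ℕ → ArtFun.Art Λ k) (f : ∀ n, A (n + 1) ⟶ A n)
    (hf : ∀ n, Function.Surjective (f n)) (n j : ℕ) : Function.Surjective (tr A f n j) := by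
  induction j with
  | zero => exact fun x => ⟨x, rfl⟩
  | succ j ih =>
    intro x
    obtain ⟨y, hy⟩ := ih x
    obtain ⟨z, hz⟩ := hf (n + j) y
    exact ⟨z, by rw [← hy, ← hz]; rfl⟩

lemma map_tr {R : Type u} [CommRing R] [Algebra Λ R] {resR : R →ₐ[Λ] k}
    (A : ℕ → ArtFun.Art Λ k) (f : ∀ n, A (n + 1) ⟶ A n)
    (ψ : ∀ n, HomSet R resR (A n)) (hψ : ∀ n, HomSet.map (f n) (ψ (n + 1)) = ψ n) (n j : ℕ) :
    HomSet.map (tr A f n j) (ψ (n + j)) = ψ n := by
  induction j with
  | zero => exact Subtype.ext (AlgHom.ext fun _ => rfl)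
  | succ j ih =>
    rw [← ih, ← hψ (n + j)]
    exact Subtype.ext (AlgHom.ext fun _ => rfl)

/-- Let … → A₃ → A₂ → A₁ be surjective morphisms of Artinian local Λ-algebras with residue field k (Λ
Noetherian, Λ → k finite) with dim_k m_{A_n}/m_{A_n}² bounded. Then lim A_n is a complete local
Noetherian Λ-algebra with residue field k: some such S carries compatible surjective
augmentation-preserving maps S → A_n identifying S with the set of compatible sequences, and the
kernels of S → A_n define the m_S-adic topology on S. -/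
theorem result {Λ : Type u} {k : Type u} [CommRing Λ] [Field k] [Algebra Λ k]
    [IsNoetherianRing Λ] [Module.Finite Λ k]
    (A : ℕ → ArtFun.Art Λ k) (f : ∀ n, A (n + 1) ⟶ A n) (hf : ∀ n, Function.Surjective (f n))
    (d : ℕ) (hd : ∀ n, Module.finrank (IsLocalRing.ResidueField (A n)) (IsLocalRing.CotangentSpace (A n)) ≤ d) :
    ∃ (S : ArtFun.CRing Λ k) (π : ∀ n, ArtFun.HomSet S.carrier S.res (A n)),
      (∀ n, ArtFun.HomSet.map (f n) (π (n + 1)) = π n) ∧
      (∀ n, Function.Surjective (π n).1) ∧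
      (∀ a : ∀ n, A n, (∀ n, f n (a (n + 1)) = a n) → ∃! s : S.carrier, ∀ n, (π n).1 s = a n) ∧
      (∀ n, ∃ N, RingHom.ker (π N).1 ≤ IsLocalRing.maximalIdeal S.carrier ^ n) ∧
      (∀ n, ∃ N, IsLocalRing.maximalIdeal S.carrier ^ N ≤ RingHom.ker (π n).1) := by
  classical
  -- stabilisation of the embedding dimension
  let c : ℕ → ℕ := fun n => (IsLocalRing.maximalIdeal (A n)).spanFinrank
  have hc_le : ∀ n, c n ≤ d := fun n => by
    have := IsLocalRing.spanFinrank_maximalIdeal_eq_finrank_cotangentSpace (A n)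
    change (IsLocalRing.maximalIdeal (A n)).spanFinrank ≤ d
    rw [this]
    exact hd n
  have hc_mono : ∀ n j, c n ≤ c (n + j) := fun n j =>
    spanFinrank_maximalIdeal_le_of_surjective ((tr A f n j).toAlgHom : A (n + j) →+* A n)
      (tr_surjective A f hf n j)
  obtain ⟨n₀, hn₀⟩ : ∃ n₀, ∀ n, c n ≤ c n₀ := by
    have hbdd : BddAbove (Set.range c) := ⟨d, by rintro _ ⟨n, rfl⟩; exact hc_le n⟩
    obtain ⟨n₀, h⟩ := Nat.sSup_mem (Set.range_nonempty c) hbdd
    exact ⟨n₀, fun n => h ▸ le_csSup hbdd (Set.mem_range_self n)⟩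
  -- a smooth coefficient ring surjecting onto `A n₀`
  obtain ⟨P, ψ₀, hsm, hψ₀⟩ := Groth.Agent.Lib.Helper9.exists_smooth_cring_surjective (A n₀)
  obtain ⟨ψ, hψn₀, hψc⟩ := exists_compatible n₀ (fun n => HomSet P.carrier P.res (A n))
    (fun n => HomSet.map (f n)) (fun n φ => hsm (f n) (hf n) φ) ψ₀
  -- all `ψ n` are surjective
  have hψsurj : ∀ n, Function.Surjective (ψ n).1 := by
    have hdown : ∀ j n, n + j = n₀ → Function.Surjective (ψ n).1 := by
      intro j
      induction j with
      | zero =>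
        intro n hn
        have : n = n₀ := by omega
        subst this
        rw [hψn₀]; exact hψ₀
      | succ j ih =>
        intro n hn
        have h1 := ih (n + 1) (by omega)
        rw [← hψc n]
        exact (hf n).comp h1
    intro n
    rcases le_total n n₀ with h | h
    · exact hdown (n₀ - n) n (by omega)
    · obtain ⟨j, rfl⟩ := Nat.exists_eq_add_of_le h
      have hnil : IsNilpotent (IsLocalRing.maximalIdeal (A (n₀ + j))) :=
        (isArtinianRing_iff_isNilpotent_maximalIdeal _).mp inferInstance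
      have hker := ker_le_sq_of_spanFinrank_le ((tr A f n₀ j).toAlgHom : A (n₀ + j) →+* A n₀)
        (tr_surjective A f hf n₀ j) (hn₀ (n₀ + j))
      refine surjective_of_comp_surjective_of_ker_le_sq hnil
        ((ψ (n₀ + j)).1 : P.carrier →+* A (n₀ + j)) _ hker ?_
      have e := map_tr A f ψ hψc n₀ j
      intro a
      obtain ⟨p, hp⟩ := hψ₀ a
      refine ⟨p, ?_⟩
      rw [← hp, ← hψn₀, ← e]
      rfl
  -- the kernels
  let J : ℕ → Ideal P.carrier := fun n => RingHom.ker ((ψ n).1 : P.carrier →+* A n)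
  have hψstep : ∀ n (p : P.carrier), (ψ n).1 p = f n ((ψ (n + 1)).1 p) := fun n p => by
    rw [← hψc n]; rfl
  have hJanti : Antitone J := by
    apply antitone_nat_of_succ_le
    intro n x hx
    change (ψ n).1 x = 0
    rw [hψstep n x]
    have : (ψ (n + 1)).1 x = 0 := hx
    rw [this]
    exact map_zero _
  have hJne : ∀ n, J n ≠ ⊤ := fun n => RingHom.ker_ne_top _
  have hJpow : ∀ n, ∃ N, IsLocalRing.maximalIdeal P.carrier ^ N ≤ J n := fun n => by
    obtain ⟨N, hN⟩ := HomSet.exists_kills P (ψ n)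
    exact ⟨N + 1, fun x hx => hN x hx⟩
  have hinf_ne : (⨅ n, J n) ≠ ⊤ := fun h => hJne 0 (top_le_iff.mp (h ▸ iInf_le J 0))
  have hPc : IsAdicComplete (IsLocalRing.maximalIdeal P.carrier) P.carrier := P.isAdicComplete
  let S : ArtFun.CRing Λ k := CRing.quot P (⨅ n, J n) hinf_ne
  let mk : P.carrier →ₐ[Λ] S.carrier := CRing.quotMap P (⨅ n, J n) hinf_ne
  have hmk_surj : Function.Surjective mk := CRing.quotMap_surjective P _ hinf_ne
  have hmk_zero : ∀ p : P.carrier, mk p = 0 ↔ p ∈ ⨅ n, J n := fun p =>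
    Ideal.Quotient.eq_zero_iff_mem
  let π : ∀ n, HomSet S.carrier S.res (A n) := fun n =>
    ⟨Ideal.Quotient.liftₐ (⨅ n, J n) (ψ n).1 (fun a ha => (Ideal.mem_iInf.mp ha n : a ∈ J n)), by
      apply AlgHom.ext
      intro x
      obtain ⟨p, rfl⟩ := hmk_surj x
      exact congrArg (fun t : P.carrier →ₐ[Λ] k => t p) (ψ n).2⟩
  have hπmk : ∀ n (p : P.carrier), (π n).1 (mk p) = (ψ n).1 p := fun n p => rfl
  have hmS : IsLocalRing.maximalIdeal S.carrier =
      (IsLocalRing.maximalIdeal P.carrier).map (mk : P.carrier →+* S.carrier) :=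
    maximalIdeal_quotient (⨅ n, J n) hinf_ne
  have hmSpow : ∀ N, IsLocalRing.maximalIdeal S.carrier ^ N =
      (IsLocalRing.maximalIdeal P.carrier ^ N).map (mk : P.carrier →+* S.carrier) := fun N => by
    rw [hmS, Ideal.map_pow]
  -- Chevalley
  have hchev : ∀ N, ∃ q, J q ≤ (⨅ n, J n) ⊔ IsLocalRing.maximalIdeal P.carrier ^ N :=
    fun N => chevalley J hJanti N
  have hker_le : ∀ N, ∃ q, ∀ s : S.carrier, (π q).1 s = 0 →
      s ∈ IsLocalRing.maximalIdeal S.carrier ^ N := by
    intro N
    obtain ⟨q, hq⟩ := hchev N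
    refine ⟨q, fun s hs => ?_⟩
    obtain ⟨p, rfl⟩ := hmk_surj s
    have hp : p ∈ J q := hs
    obtain ⟨a, ha, b, hb, rfl⟩ := Submodule.mem_sup.mp (hq hp)
    rw [map_add, (hmk_zero a).mpr ha, zero_add, hmSpow]
    exact Ideal.mem_map_of_mem _ hb
  have hpow_kills : ∀ n, ∃ N, ∀ s ∈ IsLocalRing.maximalIdeal S.carrier ^ N, (π n).1 s = 0 := by
    intro n
    obtain ⟨N, hN⟩ := HomSet.exists_kills S (π n)
    exact ⟨N + 1, hN⟩
  refine ⟨S, π, ?_, ?_, ?_, ?_, ?_⟩
  · intro n
    apply Subtype.ext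
    apply AlgHom.ext
    intro x
    obtain ⟨p, rfl⟩ := hmk_surj x
    exact (hψstep n p).symm
  · intro n a
    obtain ⟨p, hp⟩ := hψsurj n a
    exact ⟨mk p, hp⟩
  · intro a ha
    -- choose lifts
    choose p hp using fun n => hψsurj n (a n)
    have hdiff : ∀ i j, i ≤ j → p j - p i ∈ J i := by
      intro i j hij
      obtain ⟨l, rfl⟩ := Nat.exists_eq_add_of_le hij
      induction l with
      | zero => simp
      | succ l ih =>
        have h1 : p (i + l + 1) - p (i + l) ∈ J (i + l) := by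
          change (ψ (i + l)).1 _ = 0
          rw [map_sub, hψstep (i + l) (p (i + l + 1)), hp, hp, ha, sub_self]
        have h2 := ih (by omega)
        have : p (i + (l + 1)) - p i = (p (i + l + 1) - p (i + l)) + (p (i + l) - p i) := by
          rw [← add_assoc]; ring
        rw [this]
        exact Ideal.add_mem _ (hJanti (Nat.le_add_right i l) h1) h2
    choose q hq using hchev
    let q' : ℕ → ℕ := fun N => max (q N) N
    have hq' : ∀ N, J (q' N) ≤ (⨅ n, J n) ⊔ IsLocalRing.maximalIdeal P.carrier ^ N :=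
      fun N => (hJanti (le_max_left _ _)).trans (hq N)
    have hcauchy : ∀ M N, M ≤ N → mk (p (q' M)) - mk (p (q' N)) ∈
        IsLocalRing.maximalIdeal S.carrier ^ M := by
      intro M N hMN
      have key : p (q' M) - p (q' N) ∈ (⨅ n, J n) ⊔ IsLocalRing.maximalIdeal P.carrier ^ M := by
        rcases le_total (q' M) (q' N) with h | h
        · have := hq' M (hdiff _ _ h)
          rw [← neg_sub]
          exact neg_mem this
        · have := hq' N (hdiff _ _ h)
          exact (show (⨅ n, J n) ⊔ IsLocalRing.maximalIdeal P.carrier ^ N ≤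
            (⨅ n, J n) ⊔ IsLocalRing.maximalIdeal P.carrier ^ M from
            sup_le_sup_left (Ideal.pow_le_pow_right hMN) _) this
      obtain ⟨x, hx, y, hy, hxy⟩ := Submodule.mem_sup.mp key
      rw [← map_sub, ← hxy, map_add, (hmk_zero x).mpr hx, zero_add, hmSpow]
      exact Ideal.mem_map_of_mem _ hy
    have hSc : IsAdicComplete (IsLocalRing.maximalIdeal S.carrier) S.carrier := S.isAdicComplete
    obtain ⟨L, hL⟩ := IsPrecomplete.prec (I := IsLocalRing.maximalIdeal S.carrier)
      (M := S.carrier) inferInstance (f := fun N => mk (p (q' N))) (by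
        intro M N hMN
        rw [SModEq.sub_mem, smul_eq_mul, Ideal.mul_top]
        exact hcauchy M N hMN)
    have hL' : ∀ N, mk (p (q' N)) - L ∈ IsLocalRing.maximalIdeal S.carrier ^ N := by
      intro N
      have := hL N
      rwa [SModEq.sub_mem, smul_eq_mul, Ideal.mul_top] at this
    have hLa : ∀ n, (π n).1 L = a n := by
      intro n
      obtain ⟨N₀, hN₀⟩ := hpow_kills n
      let N := max N₀ n
      have h1 : (π n).1 (mk (p (q' N)) - L) = 0 :=
        hN₀ _ (Ideal.pow_le_pow_right (le_max_left _ _) (hL' N))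
      rw [map_sub, sub_eq_zero] at h1
      rw [← h1, hπmk]
      have hn : n ≤ q' N := (le_max_right N₀ n).trans (le_max_right _ _)
      have h2 : (ψ n).1 (p (q' N) - p n) = 0 := hdiff n (q' N) hn
      rw [map_sub, sub_eq_zero] at h2
      rw [h2, hp]
    refine ⟨L, hLa, ?_⟩
    intro s hs
    obtain ⟨x, hx⟩ := hmk_surj (s - L)
    have : x ∈ ⨅ n, J n := by
      rw [Ideal.mem_iInf]
      intro n
      change (ψ n).1 x = 0
      rw [← hπmk, hx, map_sub, hs n, hLa n, sub_self]
    rw [← hmk_zero, hx] at this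
    exact sub_eq_zero.mp this
  · intro n
    obtain ⟨q, hq⟩ := hker_le n
    exact ⟨q, fun s hs => hq s hs⟩
  · intro n
    obtain ⟨N, hN⟩ := hpow_kills n
    exact ⟨N, fun s hs => hN s hs⟩

end Groth.Agent.S12739
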