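import Groth.Statements.S12741
import Groth.Agent.Lib.Helper64.ComplCRing
import Mathlib.RingTheory.TensorProduct.Basic

set_option autoImplicit false
universe u v
open CategoryTheory
open ArtFun ArtFun.CRing

namespace Groth.Agent.S12741

open Groth.Agent.Lib.Helper64
open scoped TensorProduct

section Aux

variable {Λ : Type u} {k : Type u} [CommRing Λ] [Field k] [Algebra Λ k]

/-- the augmentation of `R ⊗ S` -/
noncomputable def tensorAug (R S : ArtFun.CRing Λ k) : R.carrier ⊗[Λ] S.carrier →ₐ[Λ] k :=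
  Algebra.TensorProduct.lift R.res S.res (fun _ _ => Commute.all _ _)

lemma tensorAug_tmul (R S : ArtFun.CRing Λ k) (r : R.carrier) (s : S.carrier) :
    tensorAug R S (r ⊗ₜ s) = R.res r * S.res s := by
  simp [tensorAug]

lemma tensorAug_surjective (R S : ArtFun.CRing Λ k) : Function.Surjective (tensorAug R S) := by
  intro c
  obtain ⟨r, rfl⟩ := R.res_surjective c
  exact ⟨r ⊗ₜ 1, by rw [tensorAug_tmul, map_one, mul_one]⟩

lemma tensorAug_fg [Module.Finite Λ k] (R S : ArtFun.CRing Λ k) :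
    (augIdeal (R.carrier ⊗[Λ] S.carrier) (tensorAug R S)).FG := by
  classical
  obtain ⟨gR, hgR⟩ := (IsLocalRing.maximalIdeal R.carrier).fg_of_isNoetherianRing
  obtain ⟨gS, hgS⟩ := (IsLocalRing.maximalIdeal S.carrier).fg_of_isNoetherianRing
  obtain ⟨c, hc⟩ := (Module.Finite.fg_top : (⊤ : Submodule Λ k).FG)
  let cR : k → R.carrier := Function.surjInv R.res_surjective
  let cS : k → S.carrier := Function.surjInv S.res_surjective
  have hcR : ∀ x, R.res (cR x) = x := Function.surjInv_eq R.res_surjective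
  have hcS : ∀ x, S.res (cS x) = x := Function.surjInv_eq S.res_surjective
  let G : Finset (R.carrier ⊗[Λ] S.carrier) :=
    gR.image (fun r => r ⊗ₜ[Λ] (1 : S.carrier)) ∪ gS.image (fun s => (1 : R.carrier) ⊗ₜ[Λ] s) ∪
      c.image (fun x => cR x ⊗ₜ[Λ] (1 : S.carrier) - (1 : R.carrier) ⊗ₜ[Λ] cS x)
  refine ⟨G, ?_⟩
  set M' : Ideal (R.carrier ⊗[Λ] S.carrier) := Ideal.span (G : Set (R.carrier ⊗[Λ] S.carrier)) with hM'
  have hmemR : ∀ r ∈ gR, r ⊗ₜ[Λ] (1 : S.carrier) ∈ M' := fun r hr =>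
    Ideal.subset_span (by
      simp only [G, Finset.coe_union, Finset.coe_image, Set.mem_union, Set.mem_image, Finset.mem_coe]
      exact Or.inl (Or.inl ⟨r, hr, rfl⟩))
  have hmemS : ∀ s ∈ gS, (1 : R.carrier) ⊗ₜ[Λ] s ∈ M' := fun s hs =>
    Ideal.subset_span (by
      simp only [G, Finset.coe_union, Finset.coe_image, Set.mem_union, Set.mem_image, Finset.mem_coe]
      exact Or.inl (Or.inr ⟨s, hs, rfl⟩))
  have hmemc : ∀ x ∈ c, cR x ⊗ₜ[Λ] (1 : S.carrier) - (1 : R.carrier) ⊗ₜ[Λ] cS x ∈ M' := fun x hx =>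
    Ideal.subset_span (by
      simp only [G, Finset.coe_union, Finset.coe_image, Set.mem_union, Set.mem_image, Finset.mem_coe]
      exact Or.inr ⟨x, hx, rfl⟩)
  -- (i), (ii)
  have hR : ∀ y ∈ IsLocalRing.maximalIdeal R.carrier, ∀ s : S.carrier, y ⊗ₜ[Λ] s ∈ M' := by
    intro y hy s
    have hle : IsLocalRing.maximalIdeal R.carrier ≤
        M'.comap (Algebra.TensorProduct.includeLeft : R.carrier →ₐ[Λ] R.carrier ⊗[Λ] S.carrier) := by
      rw [← hgR]
      apply Ideal.span_le.mpr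
      intro r hr
      exact hmemR r hr
    have h1 : y ⊗ₜ[Λ] (1 : S.carrier) ∈ M' := hle hy
    have e : y ⊗ₜ[Λ] s = (y ⊗ₜ[Λ] (1 : S.carrier)) * ((1 : R.carrier) ⊗ₜ[Λ] s) := by
      rw [Algebra.TensorProduct.tmul_mul_tmul, mul_one, one_mul]
    rw [e]
    exact Ideal.mul_mem_right _ _ h1
  have hS : ∀ y ∈ IsLocalRing.maximalIdeal S.carrier, (1 : R.carrier) ⊗ₜ[Λ] y ∈ M' := by
    intro y hy
    have hle : IsLocalRing.maximalIdeal S.carrier ≤
        M'.comap (Algebra.TensorProduct.includeRight : S.carrier →ₐ[Λ] R.carrier ⊗[Λ] S.carrier) := by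
      rw [← hgS]
      apply Ideal.span_le.mpr
      intro s hs
      exact hmemS s hs
    exact hle hy
  -- `M' ≤ ker`
  have hle1 : M' ≤ augIdeal (R.carrier ⊗[Λ] S.carrier) (tensorAug R S) := by
    apply Ideal.span_le.mpr
    intro z hz
    simp only [G, Finset.coe_union, Finset.coe_image, Set.mem_union, Set.mem_image,
      Finset.mem_coe] at hz
    rw [SetLike.mem_coe, RingHom.mem_ker]
    rcases hz with (⟨r, hr, rfl⟩ | ⟨s, hs, rfl⟩) | ⟨x, hx, rfl⟩
    · have hrm : r ∈ IsLocalRing.maximalIdeal R.carrier := hgR ▸ Ideal.subset_span hr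
      change tensorAug R S _ = 0
      rw [tensorAug_tmul, (ArtFun.CRing.mem_maximalIdeal_iff R r).1 hrm, zero_mul]
    · have hsm : s ∈ IsLocalRing.maximalIdeal S.carrier := hgS ▸ Ideal.subset_span hs
      change tensorAug R S _ = 0
      rw [tensorAug_tmul, (ArtFun.CRing.mem_maximalIdeal_iff S s).1 hsm, mul_zero]
    · change tensorAug R S _ = 0
      rw [map_sub, tensorAug_tmul, tensorAug_tmul, hcR, hcS, map_one, map_one, mul_one, one_mul,
        sub_self]
  -- (iii)
  have hiii : ∀ x : R.carrier ⊗[Λ] S.carrier, ∃ s : S.carrier, x - (1 : R.carrier) ⊗ₜ[Λ] s ∈ M' := by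
    intro x
    induction x using TensorProduct.induction_on with
    | zero => exact ⟨0, by simp⟩
    | add x₁ x₂ h₁ h₂ =>
      obtain ⟨s₁, hs₁⟩ := h₁
      obtain ⟨s₂, hs₂⟩ := h₂
      refine ⟨s₁ + s₂, ?_⟩
      have e : x₁ + x₂ - (1 : R.carrier) ⊗ₜ[Λ] (s₁ + s₂) =
          (x₁ - (1 : R.carrier) ⊗ₜ[Λ] s₁) + (x₂ - (1 : R.carrier) ⊗ₜ[Λ] s₂) := by
        rw [TensorProduct.tmul_add]; ring
      rw [e]
      exact Ideal.add_mem _ hs₁ hs₂
    | tmul r s =>
      have hr : R.res r ∈ Submodule.span Λ (c : Set k) := by rw [hc]; trivial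
      obtain ⟨l, hl⟩ := (Submodule.mem_span_finset).mp hr
      set y : R.carrier := r - ∑ x ∈ c, l x • cR x with hy
      have hym : y ∈ IsLocalRing.maximalIdeal R.carrier := by
        rw [ArtFun.CRing.mem_maximalIdeal_iff, hy, map_sub, map_sum]
        simp only [map_smul, hcR]
        rw [hl.2, sub_self]
      refine ⟨∑ x ∈ c, l x • (cS x * s), ?_⟩
      have e : r ⊗ₜ[Λ] s - (1 : R.carrier) ⊗ₜ[Λ] (∑ x ∈ c, l x • (cS x * s)) =
          y ⊗ₜ[Λ] s + ∑ x ∈ c, l x • ((cR x ⊗ₜ[Λ] (1 : S.carrier) - (1 : R.carrier) ⊗ₜ[Λ] cS x) *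
            ((1 : R.carrier) ⊗ₜ[Λ] s)) := by
        have hr' : r = y + ∑ x ∈ c, l x • cR x := by rw [hy]; ring
        conv_lhs => rw [hr']
        rw [TensorProduct.add_tmul, TensorProduct.sum_tmul, TensorProduct.tmul_sum, add_sub_assoc,
          ← Finset.sum_sub_distrib]
        congr 1
        apply Finset.sum_congr rfl
        intro x _
        rw [sub_mul, Algebra.TensorProduct.tmul_mul_tmul, Algebra.TensorProduct.tmul_mul_tmul,
          mul_one, one_mul, one_mul, smul_sub, TensorProduct.smul_tmul', TensorProduct.tmul_smul]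
      rw [e]
      refine Ideal.add_mem _ (hR y hym s) (Ideal.sum_mem _ fun x hx => ?_)
      exact Submodule.smul_of_tower_mem _ _ (Ideal.mul_mem_right _ _ (hmemc x hx))
  apply le_antisymm hle1
  intro x hx
  obtain ⟨s, hs⟩ := hiii x
  have h1 : (1 : R.carrier) ⊗ₜ[Λ] s ∈ augIdeal (R.carrier ⊗[Λ] S.carrier) (tensorAug R S) := by
    have := Ideal.sub_mem _ hx (hle1 hs)
    simpa using this
  have hsm : s ∈ IsLocalRing.maximalIdeal S.carrier := by
    rw [ArtFun.CRing.mem_maximalIdeal_iff]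
    have : tensorAug R S ((1 : R.carrier) ⊗ₜ[Λ] s) = 0 := h1
    rwa [tensorAug_tmul, map_one, one_mul] at this
  have := Ideal.add_mem _ hs (hS s hsm)
  simpa using this

end Aux

/-- The category of complete local Noetherian Λ-algebras with residue field k (Λ Noetherian, Λ → k
finite; morphisms the Λ-algebra maps compatible with the augmentations) admits coproducts of pairs:
for objects R and S there is an object P with morphisms from R and S through which every pair of
morphisms R → T ← S factors by a unique morphism P → T. -/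
theorem result {Λ : Type u} {k : Type u} [CommRing Λ] [Field k] [Algebra Λ k]
    [IsNoetherianRing Λ] [Module.Finite Λ k]
    (R S : ArtFun.CRing Λ k) :
    ∃ (P : ArtFun.CRing Λ k) (i₁ : R.carrier →ₐ[Λ] P.carrier) (i₂ : S.carrier →ₐ[Λ] P.carrier),
      P.res.comp i₁ = R.res ∧ P.res.comp i₂ = S.res ∧
      ∀ (T : ArtFun.CRing Λ k) (g₁ : R.carrier →ₐ[Λ] T.carrier) (g₂ : S.carrier →ₐ[Λ] T.carrier),
        T.res.comp g₁ = R.res → T.res.comp g₂ = S.res →
          ∃! h : P.carrier →ₐ[Λ] T.carrier, T.res.comp h = P.res ∧ h.comp i₁ = g₁ ∧ h.comp i₂ = g₂ := by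
  have hπ := tensorAug_surjective R S
  have hfg := tensorAug_fg R S
  let Pc := gcCRing (tensorAug R S) hπ hfg
  let ι := gcOf (tensorAug R S) hπ hfg
  have hι : Pc.res.comp ι = tensorAug R S := gcRes_comp_gcOf _ hπ hfg
  refine ⟨Pc, ι.comp Algebra.TensorProduct.includeLeft, ι.comp Algebra.TensorProduct.includeRight,
    ?_, ?_, ?_⟩
  · rw [← AlgHom.comp_assoc, hι]
    apply AlgHom.ext
    intro r
    change tensorAug R S (r ⊗ₜ 1) = R.res r
    rw [tensorAug_tmul, map_one, mul_one]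
  · rw [← AlgHom.comp_assoc, hι]
    apply AlgHom.ext
    intro s
    change tensorAug R S (1 ⊗ₜ s) = S.res s
    rw [tensorAug_tmul, map_one, one_mul]
  · intro T g₁ g₂ hg₁ hg₂
    let g : R.carrier ⊗[Λ] S.carrier →ₐ[Λ] T.carrier :=
      Algebra.TensorProduct.lift g₁ g₂ (fun _ _ => Commute.all _ _)
    have hg : T.res.comp g = tensorAug R S := by
      apply Algebra.TensorProduct.ext'
      intro r s
      change T.res (g (r ⊗ₜ s)) = tensorAug R S (r ⊗ₜ s)
      rw [tensorAug_tmul]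
      have : g (r ⊗ₜ s) = g₁ r * g₂ s := by simp [g]
      rw [this, map_mul]
      have h1 : T.res (g₁ r) = R.res r := congrArg (fun t : R.carrier →ₐ[Λ] k => t r) hg₁
      have h2 : T.res (g₂ s) = S.res s := congrArg (fun t : S.carrier →ₐ[Λ] k => t s) hg₂
      rw [h1, h2]
    obtain ⟨h, hres, hcomp⟩ := gc_exists_extend (tensorAug R S) hπ hfg T g hg
    refine ⟨h, ⟨hres, ?_, ?_⟩, ?_⟩
    · rw [← AlgHom.comp_assoc, hcomp]
      apply AlgHom.ext
      intro r
      change g (r ⊗ₜ 1) = g₁ r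
      simp [g]
    · rw [← AlgHom.comp_assoc, hcomp]
      apply AlgHom.ext
      intro s
      change g (1 ⊗ₜ s) = g₂ s
      simp [g]
    · rintro h' ⟨hres', h1', h2'⟩
      apply gc_extend_unique (tensorAug R S) hπ hfg T h' h hres' hres
      rw [hcomp]
      apply Algebra.TensorProduct.ext'
      intro r s
      have e : r ⊗ₜ[Λ] s = (r ⊗ₜ[Λ] (1 : S.carrier)) * ((1 : R.carrier) ⊗ₜ[Λ] s) := by
        rw [Algebra.TensorProduct.tmul_mul_tmul, mul_one, one_mul]
      have h3 : h' (ι (r ⊗ₜ[Λ] (1 : S.carrier))) = g₁ r :=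
        congrArg (fun t : R.carrier →ₐ[Λ] T.carrier => t r) h1'
      have h4 : h' (ι ((1 : R.carrier) ⊗ₜ[Λ] s)) = g₂ s :=
        congrArg (fun t : S.carrier →ₐ[Λ] T.carrier => t s) h2'
      have hg' : g (r ⊗ₜ[Λ] s) = g₁ r * g₂ s := by simp [g]
      change h' (ι (r ⊗ₜ[Λ] s)) = g (r ⊗ₜ[Λ] s)
      rw [hg', e, map_mul, map_mul, h3, h4]

end Groth.Agent.S12741
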