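import Groth.Statements.S12740
import Groth.Agent.S12741
import Groth.Agent.Lib.Helper64.CRingQuot

set_option autoImplicit false
universe u v
open CategoryTheory
open ArtFun ArtFun.CRing

namespace Groth.Agent.S12740

/-- The category of complete local Noetherian Λ-algebras with residue field k (Λ Noetherian, Λ → k
finite; morphisms the Λ-algebra maps compatible with the augmentations) admits pushouts: for R → S₁
and R → S₂ there is an object P with morphisms from S₁ and S₂ agreeing on R, through which every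
compatible pair S₁ → T ← S₂ agreeing on R factors by a unique morphism P → T. -/
theorem result {Λ : Type u} {k : Type u} [CommRing Λ] [Field k] [Algebra Λ k]
    [IsNoetherianRing Λ] [Module.Finite Λ k]
    (R S₁ S₂ : ArtFun.CRing Λ k)
    (f₁ : R.carrier →ₐ[Λ] S₁.carrier) (hf₁ : S₁.res.comp f₁ = R.res)
    (f₂ : R.carrier →ₐ[Λ] S₂.carrier) (hf₂ : S₂.res.comp f₂ = R.res) :
    ∃ (P : ArtFun.CRing Λ k) (i₁ : S₁.carrier →ₐ[Λ] P.carrier) (i₂ : S₂.carrier →ₐ[Λ] P.carrier),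
      P.res.comp i₁ = S₁.res ∧ P.res.comp i₂ = S₂.res ∧ i₁.comp f₁ = i₂.comp f₂ ∧
      ∀ (T : ArtFun.CRing Λ k) (g₁ : S₁.carrier →ₐ[Λ] T.carrier) (g₂ : S₂.carrier →ₐ[Λ] T.carrier),
        T.res.comp g₁ = S₁.res → T.res.comp g₂ = S₂.res → g₁.comp f₁ = g₂.comp f₂ →
          ∃! h : P.carrier →ₐ[Λ] T.carrier, T.res.comp h = P.res ∧ h.comp i₁ = g₁ ∧ h.comp i₂ = g₂ := by
  obtain ⟨C, j₁, j₂, hj₁, hj₂, huniv⟩ := Groth.Agent.S12741.result S₁ S₂
  let I : Ideal C.carrier := Ideal.span (Set.range fun r : R.carrier => j₁ (f₁ r) - j₂ (f₂ r))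
  have hIle : I ≤ IsLocalRing.maximalIdeal C.carrier := by
    apply Ideal.span_le.mpr
    rintro _ ⟨r, rfl⟩
    rw [SetLike.mem_coe, ArtFun.CRing.mem_maximalIdeal_iff, map_sub]
    have h1 : C.res (j₁ (f₁ r)) = S₁.res (f₁ r) :=
      congrArg (fun t : S₁.carrier →ₐ[Λ] k => t (f₁ r)) hj₁
    have h2 : C.res (j₂ (f₂ r)) = S₂.res (f₂ r) :=
      congrArg (fun t : S₂.carrier →ₐ[Λ] k => t (f₂ r)) hj₂
    have h3 : S₁.res (f₁ r) = R.res r := congrArg (fun t : R.carrier →ₐ[Λ] k => t r) hf₁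
    have h4 : S₂.res (f₂ r) = R.res r := congrArg (fun t : R.carrier →ₐ[Λ] k => t r) hf₂
    rw [h1, h2, h3, h4, sub_self]
  have hI : I ≠ ⊤ := fun h =>
    (IsLocalRing.maximalIdeal.isMaximal C.carrier).ne_top (top_le_iff.mp (h ▸ hIle))
  let P := Groth.Agent.Lib.Helper64.CRing.quot C I hI
  let q : C.carrier →ₐ[Λ] P.carrier := Groth.Agent.Lib.Helper64.CRing.quotMap C I hI
  have hq : P.res.comp q = C.res := Groth.Agent.Lib.Helper64.CRing.quotMap_res C I hI
  have hqs : Function.Surjective q := Groth.Agent.Lib.Helper64.CRing.quotMap_surjective C I hI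
  have hqI : ∀ c ∈ I, q c = 0 := fun c hc => (Ideal.Quotient.eq_zero_iff_mem).2 hc
  refine ⟨P, q.comp j₁, q.comp j₂, ?_, ?_, ?_, ?_⟩
  · rw [← AlgHom.comp_assoc, hq, hj₁]
  · rw [← AlgHom.comp_assoc, hq, hj₂]
  · apply AlgHom.ext
    intro r
    change q (j₁ (f₁ r)) = q (j₂ (f₂ r))
    rw [← sub_eq_zero, ← map_sub]
    exact hqI _ (Ideal.subset_span ⟨r, rfl⟩)
  · intro T g₁ g₂ hg₁ hg₂ hgf
    obtain ⟨h₀, ⟨hr, h1, h2⟩, huniq⟩ := huniv T g₁ g₂ hg₁ hg₂
    have hkill : ∀ c ∈ I, h₀ c = 0 := by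
      intro c hc
      have hle : I ≤ RingHom.ker (h₀ : C.carrier →+* T.carrier) := by
        apply Ideal.span_le.mpr
        rintro _ ⟨r, rfl⟩
        rw [SetLike.mem_coe, RingHom.mem_ker, RingHom.coe_coe, map_sub]
        have e1 : h₀ (j₁ (f₁ r)) = g₁ (f₁ r) :=
          congrArg (fun t : S₁.carrier →ₐ[Λ] T.carrier => t (f₁ r)) h1
        have e2 : h₀ (j₂ (f₂ r)) = g₂ (f₂ r) :=
          congrArg (fun t : S₂.carrier →ₐ[Λ] T.carrier => t (f₂ r)) h2
        have e3 : g₁ (f₁ r) = g₂ (f₂ r) := congrArg (fun t : R.carrier →ₐ[Λ] T.carrier => t r) hgf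
        rw [e1, e2, e3, sub_self]
      exact hle hc
    let h : P.carrier →ₐ[Λ] T.carrier := Ideal.Quotient.liftₐ I h₀ hkill
    have hhq : h.comp q = h₀ := AlgHom.ext fun _ => rfl
    refine ⟨h, ⟨?_, ?_, ?_⟩, ?_⟩
    · apply AlgHom.ext
      intro x
      obtain ⟨c, rfl⟩ := hqs x
      change T.res (h₀ c) = P.res (q c)
      have e1 : T.res (h₀ c) = C.res c := congrArg (fun t : C.carrier →ₐ[Λ] k => t c) hr
      have e2 : P.res (q c) = C.res c := congrArg (fun t : C.carrier →ₐ[Λ] k => t c) hq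
      rw [e1, e2]
    · rw [← AlgHom.comp_assoc, hhq, h1]
    · rw [← AlgHom.comp_assoc, hhq, h2]
    · rintro h' ⟨hr', h1', h2'⟩
      have e : h'.comp q = h₀ := by
        apply huniq
        refine ⟨?_, ?_, ?_⟩
        · rw [← AlgHom.comp_assoc, hr', hq]
        · rw [AlgHom.comp_assoc]; exact h1'
        · rw [AlgHom.comp_assoc]; exact h2'
      apply AlgHom.ext
      intro x
      obtain ⟨c, rfl⟩ := hqs x
      have := congrArg (fun t : C.carrier →ₐ[Λ] T.carrier => t c) e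
      exact this

end Groth.Agent.S12740
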