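import Groth.Statements.S12743
import Groth.Agent.Lib.Helper9.ArtFun
import Groth.Agent.S12717
import Groth.Agent.S12710
-- import your own Groth.Agent.* helpers here

set_option autoImplicit false
universe u v
open CategoryTheory
open ArtFun

namespace Groth.Agent.S12743

/-- For functors, let φ : F → G and ψ : G → H be morphisms of functors on Artinian local Λ-algebras with
residue field k, with F and G deformation functors (values at k a point, condition (RS)). If φ is
surjective on tangent spaces and the composite F → H is smooth, then φ is smooth. -/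
theorem result {Λ : Type u} {k : Type u} [CommRing Λ] [Field k] [Algebra Λ k]
    [IsNoetherianRing Λ] [Module.Finite Λ k]
    {F G H : ArtFun.Art Λ k ⥤ Type v}
    (hF0 : ArtFun.H0 F) (hF : (∀ ⦃B A A' A'' : ArtFun.Art Λ k⦄ (p' : B ⟶ A') (p'' : B ⟶ A'') (f' : A' ⟶ A) (f'' : A'' ⟶ A)
        (h : ArtFun.Art.IsFibreProd p' p'' f' f''), Function.Surjective f'' → Function.Bijective (ArtFun.cmp F h)))
    (hG0 : ArtFun.H0 G) (hG : (∀ ⦃B A A' A'' : ArtFun.Art Λ k⦄ (p' : B ⟶ A') (p'' : B ⟶ A'') (f' : A' ⟶ A) (f'' : A'' ⟶ A)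
        (h : ArtFun.Art.IsFibreProd p' p'' f' f''), Function.Surjective f'' → Function.Bijective (ArtFun.cmp G h)))
    (φ : F ⟶ G) (ψ : G ⟶ H) (hd : Function.Surjective (ArtFun.TangentSpace.map φ))
    (hs : ArtFun.IsSmooth (φ ≫ ψ)) : ArtFun.IsSmooth φ := by
  apply Groth.Agent.S12717.result φ
  intro B A μ hμ ⟨⟨x, y⟩, hxy⟩
  have hxy' : φ.app A x = G.map μ y := hxy
  obtain ⟨w, hw⟩ := hs μ hμ.1 ⟨(x, ψ.app B y), by
    change ψ.app A (φ.app A x) = H.map μ (ψ.app B y)
    rw [hxy', NatTrans.naturality_apply]⟩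
  have hw1 : F.map μ w = x := congrArg (fun t => t.1.1) hw
  obtain ⟨w', h1, h2⟩ := Groth.Agent.Lib.Helper9.exists_lift_compatible_of_tangent_surjective φ hF0
    (fun B A A' A'' p' p'' f' f'' h hs => (hF p' p'' f' f'' h hs).2)
    (fun B A A' A'' p' p'' f' f'' h hs => (hG p' p'' f' f'' h hs).2)
    (fun B A' p' p'' h => (hG p' p'' (ArtFun.Art.toBase A') (ArtFun.Art.toBase (ArtFun.Art.dual Λ k)) h
      (ArtFun.Art.dual Λ k).res_surjective).1)
    hd μ hμ (Groth.Agent.S12710.result μ μ hμ.1) x y hxy' w hw1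
  exact ⟨w', Subtype.ext (Prod.ext h1 h2)⟩

end Groth.Agent.S12743
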