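import Groth.Statements.S12744
-- import your own Groth.Agent.* helpers here

set_option autoImplicit false
universe u v
open CategoryTheory
open ArtFun

namespace Groth.Agent.S12744

/-- For functors, if η : F → G is a smooth morphism of functors on Artinian local Λ-algebras with
residue field k and F(k) → G(k) is surjective, then for every complete local Noetherian R with
residue field k the induced map on formal elements over R (compatible systems of elements over the
truncations R/m^(n+1)) is surjective. -/
theorem result {Λ : Type u} {k : Type u} [CommRing Λ] [Field k] [Algebra Λ k]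
    [IsNoetherianRing Λ] [Module.Finite Λ k]
    {F G : ArtFun.Art Λ k ⥤ Type v} (η : F ⟶ G) (hη : ArtFun.IsSmooth η)
    (h0 : Function.Surjective (η.app (ArtFun.Art.base Λ k))) (R : ArtFun.CRing Λ k) :
    Function.Surjective (fun u : ArtFun.FormalElt F R => u.map η) := by
  intro v
  classical
  have hnat : ∀ {A B : ArtFun.Art Λ k} (q : A ⟶ B) (z : F.obj A),
      η.app B (F.map q z) = G.map q (η.app A z) := fun q z => NatTrans.naturality_apply η q z
  -- level zero
  have hμ0 : Function.Surjective (ArtFun.Art.toBase (R.trunc 0)) := (R.trunc 0).res_surjective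
  obtain ⟨x, hx⟩ := h0 (G.map (ArtFun.Art.toBase (R.trunc 0)) (v.elt 0))
  obtain ⟨z0, hz0⟩ := hη (ArtFun.Art.toBase (R.trunc 0)) hμ0 ⟨(x, v.elt 0), hx⟩
  have hz0' : η.app _ z0 = v.elt 0 := congrArg (fun t => t.1.2) hz0
  -- the step
  have hsurj : ∀ n, Function.Surjective (R.truncMap n) := by
    intro n y
    obtain ⟨a, rfl⟩ := Ideal.Quotient.mk_surjective y
    exact ⟨Ideal.Quotient.mk _ a, rfl⟩
  have hstep : ∀ (n : ℕ) (z : F.obj (R.trunc n)), η.app _ z = v.elt n →
      ∃ z' : F.obj (R.trunc (n + 1)), F.map (R.truncMap n) z' = z ∧ η.app _ z' = v.elt (n + 1) := by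
    intro n z hz
    obtain ⟨z', hz'⟩ := hη (R.truncMap n) (hsurj n) ⟨(z, v.elt (n + 1)), by
      change η.app _ z = G.map (R.truncMap n) (v.elt (n + 1))
      rw [hz, v.compat]⟩
    exact ⟨z', congrArg (fun t => t.1.1) hz', congrArg (fun t => t.1.2) hz'⟩
  choose step hstep1 hstep2 using hstep
  let s : ∀ n, {z : F.obj (R.trunc n) // η.app _ z = v.elt n} := fun n =>
    Nat.rec (motive := fun n => {z : F.obj (R.trunc n) // η.app _ z = v.elt n}) ⟨z0, hz0'⟩
      (fun n ih => ⟨step n ih.1 ih.2, hstep2 n ih.1 ih.2⟩) n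
  refine ⟨⟨fun n => (s n).1, fun n => hstep1 n (s n).1 (s n).2⟩, ?_⟩
  apply ArtFun.FormalElt.ext'
  intro n
  exact (s n).2

end Groth.Agent.S12744
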