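import Groth.Statements.S12746
import Mathlib.CategoryTheory.Limits.Types.Pullbacks
import Mathlib.CategoryTheory.Limits.Shapes.Pullback.IsPullback.Basic
import Mathlib.CategoryTheory.Limits.FunctorCategory.Basic
-- import your own Groth.Agent.* helpers here

set_option autoImplicit false
universe u v
open CategoryTheory
open ArtFun

namespace Groth.Agent.S12746

/-- For functors, if F, G, H are functors on Artinian local Λ-algebras with residue field k satisfying
(RS) and f : H → F, g : G → F are morphisms, then the fibre product functor H ×_F G satisfies (RS). -/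
theorem result {Λ : Type u} {k : Type u} [CommRing Λ] [Field k] [Algebra Λ k]
    [IsNoetherianRing Λ] [Module.Finite Λ k]
    {F G H : ArtFun.Art Λ k ⥤ Type v} (f : H ⟶ F) (g : G ⟶ F)
    (hF : (∀ ⦃B A A' A'' : ArtFun.Art Λ k⦄ (p' : B ⟶ A') (p'' : B ⟶ A'') (f' : A' ⟶ A) (f'' : A'' ⟶ A)
        (h : ArtFun.Art.IsFibreProd p' p'' f' f''), Function.Surjective f'' → Function.Bijective (ArtFun.cmp F h))) (hG : (∀ ⦃B A A' A'' : ArtFun.Art Λ k⦄ (p' : B ⟶ A') (p'' : B ⟶ A'') (f' : A' ⟶ A) (f'' : A'' ⟶ A)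
        (h : ArtFun.Art.IsFibreProd p' p'' f' f''), Function.Surjective f'' → Function.Bijective (ArtFun.cmp G h))) (hH : (∀ ⦃B A A' A'' : ArtFun.Art Λ k⦄ (p' : B ⟶ A') (p'' : B ⟶ A'') (f' : A' ⟶ A) (f'' : A'' ⟶ A)
        (h : ArtFun.Art.IsFibreProd p' p'' f' f''), Function.Surjective f'' → Function.Bijective (ArtFun.cmp H h))) :
    (∀ ⦃B A A' A'' : ArtFun.Art Λ k⦄ (p' : B ⟶ A') (p'' : B ⟶ A'') (f' : A' ⟶ A) (f'' : A'' ⟶ A)
        (h : ArtFun.Art.IsFibreProd p' p'' f' f''), Function.Surjective f'' → Function.Bijective (ArtFun.cmp (CategoryTheory.Limits.pullback f g) h)) := by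
  intro B A A' A'' p' p'' f' f'' h hsurj
  set P := CategoryTheory.Limits.pullback f g with hP
  let fst : P ⟶ H := CategoryTheory.Limits.pullback.fst f g
  let snd : P ⟶ G := CategoryTheory.Limits.pullback.snd f g
  have hpb : IsPullback fst snd f g := IsPullback.of_hasPullback f g
  have hpbA : ∀ C : ArtFun.Art Λ k, IsPullback (fst.app C) (snd.app C) (f.app C) (g.app C) :=
    fun C => Functor.map_isPullback ((evaluation (ArtFun.Art Λ k) (Type v)).obj C) hpb
  have hext : ∀ (C : ArtFun.Art Λ k) (z₁ z₂ : P.obj C), fst.app C z₁ = fst.app C z₂ →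
      snd.app C z₁ = snd.app C z₂ → z₁ = z₂ :=
    fun C z₁ z₂ h1 h2 => CategoryTheory.Limits.Types.ext_of_isPullback (hpbA C) h1 h2
  have hex : ∀ (C : ArtFun.Art Λ k) (x : H.obj C) (y : G.obj C), f.app C x = g.app C y →
      ∃ z : P.obj C, fst.app C z = x ∧ snd.app C z = y :=
    fun C x y hxy => CategoryTheory.Limits.Types.exists_of_isPullback (hpbA C) x y hxy
  have hw : ∀ (C : ArtFun.Art Λ k) (z : P.obj C), f.app C (fst.app C z) = g.app C (snd.app C z) :=
    fun C z => ConcreteCategory.congr_hom (hpbA C).w z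
  have nfst : ∀ {C D : ArtFun.Art Λ k} (q : C ⟶ D) (z : P.obj C),
      fst.app D (P.map q z) = H.map q (fst.app C z) := fun q z => NatTrans.naturality_apply fst q z
  have nsnd : ∀ {C D : ArtFun.Art Λ k} (q : C ⟶ D) (z : P.obj C),
      snd.app D (P.map q z) = G.map q (snd.app C z) := fun q z => NatTrans.naturality_apply snd q z
  have nf : ∀ {C D : ArtFun.Art Λ k} (q : C ⟶ D) (z : H.obj C),
      f.app D (H.map q z) = F.map q (f.app C z) := fun q z => NatTrans.naturality_apply f q z
  have ng : ∀ {C D : ArtFun.Art Λ k} (q : C ⟶ D) (z : G.obj C),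
      g.app D (G.map q z) = F.map q (g.app C z) := fun q z => NatTrans.naturality_apply g q z
  have hHb := hH p' p'' f' f'' h hsurj
  have hGb := hG p' p'' f' f'' h hsurj
  have hFb := hF p' p'' f' f'' h hsurj
  constructor
  · intro z₁ z₂ hz
    have h1 : P.map p' z₁ = P.map p' z₂ := congrArg (fun t => t.1.1) hz
    have h2 : P.map p'' z₁ = P.map p'' z₂ := congrArg (fun t => t.1.2) hz
    apply hext
    · apply hHb.1
      apply ArtFun.FibProd.ext
      · change H.map p' (fst.app B z₁) = H.map p' (fst.app B z₂)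
        rw [← nfst, ← nfst, h1]
      · change H.map p'' (fst.app B z₁) = H.map p'' (fst.app B z₂)
        rw [← nfst, ← nfst, h2]
    · apply hGb.1
      apply ArtFun.FibProd.ext
      · change G.map p' (snd.app B z₁) = G.map p' (snd.app B z₂)
        rw [← nsnd, ← nsnd, h1]
      · change G.map p'' (snd.app B z₁) = G.map p'' (snd.app B z₂)
        rw [← nsnd, ← nsnd, h2]
  · rintro ⟨⟨w', w''⟩, hww⟩
    have hww' : P.map f' w' = P.map f'' w'' := hww
    obtain ⟨x, hx⟩ := hHb.2 ⟨(fst.app A' w', fst.app A'' w''), by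
      change H.map f' (fst.app A' w') = H.map f'' (fst.app A'' w'')
      rw [← nfst, ← nfst, hww']⟩
    have hx1 : H.map p' x = fst.app A' w' := congrArg (fun t => t.1.1) hx
    have hx2 : H.map p'' x = fst.app A'' w'' := congrArg (fun t => t.1.2) hx
    obtain ⟨y, hy⟩ := hGb.2 ⟨(snd.app A' w', snd.app A'' w''), by
      change G.map f' (snd.app A' w') = G.map f'' (snd.app A'' w'')
      rw [← nsnd, ← nsnd, hww']⟩
    have hy1 : G.map p' y = snd.app A' w' := congrArg (fun t => t.1.1) hy
    have hy2 : G.map p'' y = snd.app A'' w'' := congrArg (fun t => t.1.2) hy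
    have hxy : f.app B x = g.app B y := by
      apply hFb.1
      apply ArtFun.FibProd.ext
      · change F.map p' (f.app B x) = F.map p' (g.app B y)
        rw [← nf, ← ng, hx1, hy1, hw]
      · change F.map p'' (f.app B x) = F.map p'' (g.app B y)
        rw [← nf, ← ng, hx2, hy2, hw]
    obtain ⟨z, hz1, hz2⟩ := hex B x y hxy
    refine ⟨z, ?_⟩
    apply ArtFun.FibProd.ext
    · change P.map p' z = w'
      apply hext
      · rw [nfst, hz1, hx1]
      · rw [nsnd, hz2, hy1]
    · change P.map p'' z = w''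
      apply hext
      · rw [nfst, hz1, hx2]
      · rw [nsnd, hz2, hy2]

end Groth.Agent.S12746
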