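import Groth.Statements.S12747
import Groth.Agent.Lib.Helper9.ArtPaste
import Mathlib.CategoryTheory.Limits.Types.Pullbacks
import Mathlib.CategoryTheory.Limits.Shapes.Pullback.IsPullback.Basic
import Mathlib.CategoryTheory.Limits.FunctorCategory.Basic
-- import your own Groth.Agent.* helpers here

set_option autoImplicit false
universe u v
open CategoryTheory
open ArtFun

namespace Groth.Agent.S12747

/-- For functors, let H₁ → G, H₂ → G and q : G → F be morphisms of functors on Artinian local Λ-algebras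
with residue field k where F and G are deformation functors (value at k a point, condition (RS)) and
q is injective on tangent spaces. Then the induced morphism H₁ ×_G H₂ → H₁ ×_F H₂ is smooth. (The
published statement also assumes that infinitesimal automorphisms of G map onto those of F; for
functors that condition is empty.) -/
theorem result {Λ : Type u} {k : Type u} [CommRing Λ] [Field k] [Algebra Λ k]
    [IsNoetherianRing Λ] [Module.Finite Λ k]
    {F G H₁ H₂ : ArtFun.Art Λ k ⥤ Type v} (p₁ : H₁ ⟶ G) (p₂ : H₂ ⟶ G) (q : G ⟶ F)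
    (hF0 : ArtFun.H0 F) (hF : (∀ ⦃B A A' A'' : ArtFun.Art Λ k⦄ (p' : B ⟶ A') (p'' : B ⟶ A'') (f' : A' ⟶ A) (f'' : A'' ⟶ A)
        (h : ArtFun.Art.IsFibreProd p' p'' f' f''), Function.Surjective f'' → Function.Bijective (ArtFun.cmp F h)))
    (hG0 : ArtFun.H0 G) (hG : (∀ ⦃B A A' A'' : ArtFun.Art Λ k⦄ (p' : B ⟶ A') (p'' : B ⟶ A'') (f' : A' ⟶ A) (f'' : A'' ⟶ A)
        (h : ArtFun.Art.IsFibreProd p' p'' f' f''), Function.Surjective f'' → Function.Bijective (ArtFun.cmp G h)))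
    (hq : Function.Injective (ArtFun.TangentSpace.map q)) :
    ArtFun.IsSmooth (CategoryTheory.Limits.pullback.map p₁ p₂ (p₁ ≫ q) (p₂ ≫ q) (𝟙 H₁) (𝟙 H₂) q
      (CategoryTheory.Category.id_comp _).symm (CategoryTheory.Category.id_comp _).symm) := by
  set Q₁ := CategoryTheory.Limits.pullback p₁ p₂ with hQ₁
  set Q₂ := CategoryTheory.Limits.pullback (p₁ ≫ q) (p₂ ≫ q) with hQ₂
  set Φ : Q₁ ⟶ Q₂ := CategoryTheory.Limits.pullback.map p₁ p₂ (p₁ ≫ q) (p₂ ≫ q) (𝟙 H₁) (𝟙 H₂) q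
      (CategoryTheory.Category.id_comp _).symm (CategoryTheory.Category.id_comp _).symm with hΦ
  let fst₁ : Q₁ ⟶ H₁ := CategoryTheory.Limits.pullback.fst p₁ p₂
  let snd₁ : Q₁ ⟶ H₂ := CategoryTheory.Limits.pullback.snd p₁ p₂
  let fst₂ : Q₂ ⟶ H₁ := CategoryTheory.Limits.pullback.fst (p₁ ≫ q) (p₂ ≫ q)
  let snd₂ : Q₂ ⟶ H₂ := CategoryTheory.Limits.pullback.snd (p₁ ≫ q) (p₂ ≫ q)
  have hpb₁ : IsPullback fst₁ snd₁ p₁ p₂ := IsPullback.of_hasPullback p₁ p₂
  have hpb₂ : IsPullback fst₂ snd₂ (p₁ ≫ q) (p₂ ≫ q) := IsPullback.of_hasPullback _ _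
  have hpbA₁ : ∀ C : ArtFun.Art Λ k, IsPullback (fst₁.app C) (snd₁.app C) (p₁.app C) (p₂.app C) :=
    fun C => Functor.map_isPullback ((evaluation (ArtFun.Art Λ k) (Type v)).obj C) hpb₁
  have hpbA₂ : ∀ C : ArtFun.Art Λ k,
      IsPullback (fst₂.app C) (snd₂.app C) ((p₁ ≫ q).app C) ((p₂ ≫ q).app C) :=
    fun C => Functor.map_isPullback ((evaluation (ArtFun.Art Λ k) (Type v)).obj C) hpb₂
  have hext₁ : ∀ (C : ArtFun.Art Λ k) (z₁ z₂ : Q₁.obj C), fst₁.app C z₁ = fst₁.app C z₂ →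
      snd₁.app C z₁ = snd₁.app C z₂ → z₁ = z₂ :=
    fun C z₁ z₂ h1 h2 => CategoryTheory.Limits.Types.ext_of_isPullback (hpbA₁ C) h1 h2
  have hext₂ : ∀ (C : ArtFun.Art Λ k) (z₁ z₂ : Q₂.obj C), fst₂.app C z₁ = fst₂.app C z₂ →
      snd₂.app C z₁ = snd₂.app C z₂ → z₁ = z₂ :=
    fun C z₁ z₂ h1 h2 => CategoryTheory.Limits.Types.ext_of_isPullback (hpbA₂ C) h1 h2
  have hex₁ : ∀ (C : ArtFun.Art Λ k) (x : H₁.obj C) (y : H₂.obj C), p₁.app C x = p₂.app C y →
      ∃ z : Q₁.obj C, fst₁.app C z = x ∧ snd₁.app C z = y :=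
    fun C x y hxy => CategoryTheory.Limits.Types.exists_of_isPullback (hpbA₁ C) x y hxy
  have hw₁ : ∀ (C : ArtFun.Art Λ k) (z : Q₁.obj C),
      p₁.app C (fst₁.app C z) = p₂.app C (snd₁.app C z) :=
    fun C z => ConcreteCategory.congr_hom (hpbA₁ C).w z
  have hw₂ : ∀ (C : ArtFun.Art Λ k) (z : Q₂.obj C),
      q.app C (p₁.app C (fst₂.app C z)) = q.app C (p₂.app C (snd₂.app C z)) :=
    fun C z => ConcreteCategory.congr_hom (hpbA₂ C).w z
  have hΦ1 : Φ ≫ fst₂ = fst₁ := by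
    rw [hΦ]
    exact (CategoryTheory.Limits.pullback.lift_fst _ _ _).trans (Category.comp_id _)
  have hΦ2 : Φ ≫ snd₂ = snd₁ := by
    rw [hΦ]
    exact (CategoryTheory.Limits.pullback.lift_snd _ _ _).trans (Category.comp_id _)
  have hΦ1' : ∀ (C : ArtFun.Art Λ k) (z : Q₁.obj C), fst₂.app C (Φ.app C z) = fst₁.app C z :=
    fun C z => by rw [← hΦ1]; rfl
  have hΦ2' : ∀ (C : ArtFun.Art Λ k) (z : Q₁.obj C), snd₂.app C (Φ.app C z) = snd₁.app C z :=
    fun C z => by rw [← hΦ2]; rfl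
  intro B A μ hμ ⟨⟨z, w⟩, hzw⟩
  have hzw' : Φ.app A z = Q₂.map μ w := hzw
  have e1 : H₁.map μ (fst₂.app B w) = fst₁.app A z := by
    rw [← NatTrans.naturality_apply, ← hzw', hΦ1']
  have e2 : H₂.map μ (snd₂.app B w) = snd₁.app A z := by
    rw [← NatTrans.naturality_apply, ← hzw', hΦ2']
  have hk : p₁.app B (fst₂.app B w) = p₂.app B (snd₂.app B w) := by
    apply Groth.Agent.Lib.Helper9.rel_injective_of_tangent_injective q
      (fun B A A' A'' p' p'' f' f'' h hs => (hG p' p'' f' f'' h hs.1).2)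
      (fun B A' p' p'' h => hG p' p'' (ArtFun.Art.toBase A')
        (ArtFun.Art.toBase (ArtFun.Art.dual Λ k)) h (ArtFun.Art.dual Λ k).res_surjective)
      (fun B A A' A'' p' p'' f' f'' h hs => (hF p' p'' f' f'' h hs).1) hq μ hμ
    · exact hw₂ B w
    · rw [← NatTrans.naturality_apply p₁, ← NatTrans.naturality_apply p₂, e1, e2]
      exact hw₁ A z
  obtain ⟨u, hu1, hu2⟩ := hex₁ B _ _ hk
  refine ⟨u, Subtype.ext (Prod.ext ?_ ?_)⟩
  · change Q₁.map μ u = z
    apply hext₁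
    · rw [NatTrans.naturality_apply, hu1, e1]
    · rw [NatTrans.naturality_apply, hu2, e2]
  · change Φ.app B u = w
    apply hext₂
    · rw [hΦ1', hu1]
    · rw [hΦ2', hu2]

end Groth.Agent.S12747
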