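import Groth.Statements.S12748
import Groth.Agent.Lib.Helper76.PSArt

set_option autoImplicit false
universe u v
open CategoryTheory
open ArtFun ArtFun.CRing

namespace Groth.Agent.S12748

/-- Let R' → R be a morphism of complete local Noetherian Λ-algebras with residue field k with an
R'-algebra retraction ρ : R → R', so that R = R' ⊕ I for the ideal I = ker ρ; let x₁, …, x_r ∈ I map
to a basis of I/m_R I and let φ : R'[[X₁, …, X_r]] → R be an R'-algebra map sending X_i to x_i. If
for all large n the induced map R'[[X]]/m^n → R/m_R^n has a left inverse — a Λ-algebra map g_n : R →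
R'[[X]]/m^n with g_n ∘ φ equal to the quotient map — then φ is an isomorphism. -/
theorem result {Λ : Type u} {k : Type u} [CommRing Λ] [Field k] [Algebra Λ k]
    [IsNoetherianRing Λ] [Module.Finite Λ k]
    (R' R : ArtFun.CRing Λ k) [Algebra R'.carrier R.carrier] [IsScalarTower Λ R'.carrier R.carrier]
    (hc : R.res.comp (IsScalarTower.toAlgHom Λ R'.carrier R.carrier) = R'.res)
    (ρ : R.carrier →ₐ[R'.carrier] R'.carrier)
    (r : ℕ) (x : Fin r → R.carrier) (hxI : ∀ i, ρ (x i) = 0)
    (hspan : Ideal.span (Set.range x) ⊔ IsLocalRing.maximalIdeal R.carrier * RingHom.ker ρ = RingHom.ker ρ)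
    (hli : ∀ c : Fin r → R.carrier, (∑ i, c i * x i) ∈ IsLocalRing.maximalIdeal R.carrier * RingHom.ker ρ →
      ∀ i, c i ∈ IsLocalRing.maximalIdeal R.carrier)
    (φ : MvPowerSeries (Fin r) R'.carrier →ₐ[R'.carrier] R.carrier) (hφ : ∀ i, φ (MvPowerSeries.X i) = x i)
    (hinv : ∃ N : ℕ, ∀ n, N ≤ n →
      ∃ g : R.carrier →ₐ[Λ] (MvPowerSeries (Fin r) R'.carrier ⧸
          IsLocalRing.maximalIdeal (MvPowerSeries (Fin r) R'.carrier) ^ n),
        ∀ s, g (φ s) = Ideal.Quotient.mk _ s) :
    Function.Bijective φ := by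
  classical
  haveI := R'.isAdicComplete
  haveI := R.isAdicComplete
  obtain ⟨N, hN⟩ := hinv
  have hcr : ∀ a : R'.carrier, R.res (algebraMap R'.carrier R.carrier a) = R'.res a :=
    fun a => AlgHom.congr_fun hc a
  constructor
  · rw [injective_iff_map_eq_zero]
    intro s hs
    refine IsHausdorff.haus (IsAdicComplete.toIsHausdorff
      (I := IsLocalRing.maximalIdeal (MvPowerSeries (Fin r) R'.carrier))
      (M := MvPowerSeries (Fin r) R'.carrier)) s fun n => ?_
    rw [SModEq.zero, smul_eq_mul, Ideal.mul_top]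
    obtain ⟨g, hg⟩ := hN (max n N) (le_max_right _ _)
    have h1 : Ideal.Quotient.mk
        (IsLocalRing.maximalIdeal (MvPowerSeries (Fin r) R'.carrier) ^ (max n N)) s = 0 := by
      rw [← hg s, hs, map_zero]
    exact Ideal.pow_le_pow_right (le_max_left _ _) (Ideal.Quotient.eq_zero_iff_mem.mp h1)
  · have hρalg : ∀ a : R'.carrier, ρ (algebraMap R'.carrier R.carrier a) = a := fun a => by
      rw [ρ.commutes]; rfl
    have hI_le : RingHom.ker ρ ≤ IsLocalRing.maximalIdeal R.carrier :=
      IsLocalRing.le_maximalIdeal (RingHom.ker_ne_top _)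
    have hIspan : RingHom.ker ρ ≤ Ideal.span (Set.range x) := by
      refine Submodule.le_of_le_smul_of_le_jacobson_bot (IsNoetherian.noetherian _)
        (IsLocalRing.maximalIdeal_le_jacobson ⊥) ?_
      rw [smul_eq_mul]
      exact hspan.ge
    have hφC : ∀ a, φ (MvPowerSeries.C a) = algebraMap R'.carrier R.carrier a := fun a => by
      have := φ.commutes a
      rwa [MvPowerSeries.algebraMap_apply, Algebra.algebraMap_self, RingHom.id_apply] at this
    have hmap := Groth.Agent.Lib.Helper76.PSCRing.map_maximalIdeal_eq x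
      (φ : MvPowerSeries (Fin r) R'.carrier →+* R.carrier) hφC hφ
    have hmR : IsLocalRing.maximalIdeal R.carrier =
        (IsLocalRing.maximalIdeal R'.carrier).map (algebraMap R'.carrier R.carrier) ⊔
          Ideal.span (Set.range x) := by
      apply le_antisymm
      · intro s hs
        have hmem : s - algebraMap R'.carrier R.carrier (ρ s) ∈ RingHom.ker ρ := by
          rw [RingHom.mem_ker, map_sub, hρalg, sub_self]
        have h1 : s = algebraMap R'.carrier R.carrier (ρ s) +
            (s - algebraMap R'.carrier R.carrier (ρ s)) := by ring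
        rw [h1]
        refine Ideal.add_mem _ (Ideal.mem_sup_left (Ideal.mem_map_of_mem _ ?_))
          (Ideal.mem_sup_right (hIspan hmem))
        rw [ArtFun.CRing.mem_maximalIdeal_iff, ← hcr]
        have h2 := (ArtFun.CRing.mem_maximalIdeal_iff R _).mp (hI_le hmem)
        have h3 := (ArtFun.CRing.mem_maximalIdeal_iff R _).mp hs
        rw [map_sub, h3, zero_sub, neg_eq_zero] at h2
        exact h2
      · refine sup_le ?_ (Ideal.span_le.mpr ?_)
        · rw [Ideal.map_le_iff_le_comap]
          intro a ha
          rw [Ideal.mem_comap, ArtFun.CRing.mem_maximalIdeal_iff, hcr,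
            ← ArtFun.CRing.mem_maximalIdeal_iff]
          exact ha
        · rintro _ ⟨i, rfl⟩
          exact hI_le (hxI i)
    refine Groth.Agent.Lib.Helper76.PSCRing.surjective_of_map_maximalIdeal
      (φ : MvPowerSeries (Fin r) R'.carrier →+* R.carrier) (hmap.trans hmR.symm)
      fun s => ⟨MvPowerSeries.C (ρ s), ?_⟩
    show s - φ (MvPowerSeries.C (ρ s)) ∈ _
    rw [hφC]
    exact hI_le (by rw [RingHom.mem_ker, map_sub, hρalg, sub_self])

end Groth.Agent.S12748
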