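import Groth.Statements.S12749
import Groth.Agent.Lib.Helper9.ArtHull
import Groth.Agent.S12720
-- import your own Groth.Agent.* helpers here

set_option autoImplicit false
universe u v
open CategoryTheory
open ArtFun

namespace Groth.Agent.S12749

/-- For functors, suppose k admits no nonzero Λ-derivation into itself (that is, k is separable over the
image of Λ in k). Let F be a functor on Artinian local Λ-algebras with residue field k with F(k) a
point which satisfies (S2), and let ξ be a minimal versal family of F over a complete local
Noetherian R with residue field k: ξ is versal, and every morphism of such coefficient rings R' → R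
along which some formal element of F over R' pushes forward to the formal element of ξ is
surjective. Then ξ is a hull of F: it is moreover bijective on tangent spaces. (The published
statement, for arbitrary k, concludes that the tangent map of the minimal versal family is bijective
on orbits under the Λ-derivations of k; when k has no nonzero Λ-derivation into itself the orbits
are points and this is plain bijectivity, which is the case stated here.) -/
theorem result {Λ : Type u} {k : Type u} [CommRing Λ] [Field k] [Algebra Λ k]
    [IsNoetherianRing Λ] [Module.Finite Λ k]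
    (hk : Subsingleton (Derivation Λ k k))
    {F : ArtFun.Art Λ k ⥤ Type v} (h0 : ArtFun.H0 F) (h2 : ArtFun.Heps F)
    {R : ArtFun.CRing Λ k} (ξ : ArtFun.Family R.carrier R.res F) (hξ : ξ.IsMinimalVersal) :
    ArtFun.IsMiniversal ξ := by
  classical
  obtain ⟨hv, hmin⟩ := hξ
  refine ⟨hv, ?_, ?_⟩
  · -- injectivity
    by_contra hinj
    have hT : ¬ Groth.Agent.Lib.Helper9.TanInjMod R ξ ⊥ := by
      intro hT
      apply hinj
      intro θ₁ θ₂ h
      exact hT θ₁ θ₂ (fun r hr => by rw [Ideal.mem_bot] at hr; rw [hr, map_zero])
        (fun r hr => by rw [Ideal.mem_bot] at hr; rw [hr, map_zero]) h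
    obtain ⟨x, hxm, hx0, hV⟩ := Groth.Agent.Lib.Helper9.versalMod_step hk h2 ⊥
      (Groth.Agent.Lib.Helper9.versalMod_bot_of_isVersal hv) hT
    set I : Ideal R.carrier := ⊥ ⊔ Ideal.span {x} with hI
    have hIm : I ≤ IsLocalRing.maximalIdeal R.carrier :=
      sup_le bot_le ((Ideal.span_singleton_le_iff_mem _).2 hxm)
    have hv₁ := Groth.Agent.Lib.Helper9.isVersal_quotFamily_of_versalMod I hIm hV
    obtain ⟨g, hg, hgξ⟩ := Groth.Agent.S12720.result h0
      (Groth.Agent.Lib.Helper9.cringQuot R I hIm)
      (Groth.Agent.Lib.Helper9.quotFamily I hIm ξ) hv₁ R ξ.toFormalElt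
    rw [Groth.Agent.Lib.Helper9.along_toFormalElt_eq_push] at hgξ
    have hgsurj : Function.Surjective g := hmin _ _ g hg hgξ
    -- the composite q ∘ g is a surjective endomorphism of R/I
    let q : R.carrier →+* (R.carrier ⧸ I) := Ideal.Quotient.mk I
    let g' : (R.carrier ⧸ I) →+* R.carrier := g.toRingHom
    have hqg : Function.Surjective (q.comp g') := Ideal.Quotient.mk_surjective.comp hgsurj
    have hqginj := Groth.Agent.Lib.Helper9.injective_of_surjective_ringEnd (q.comp g') hqg
    have hginj : Function.Injective g' := fun a b hab => hqginj (by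
      change q (g' a) = q (g' b)
      rw [hab])
    have hqinj : Function.Injective q := by
      intro a b hab
      obtain ⟨a', rfl⟩ := hgsurj a
      obtain ⟨b', rfl⟩ := hgsurj b
      have : a' = b' := hqginj hab
      rw [this]
    apply hx0
    rw [Ideal.mem_bot]
    apply hqinj
    rw [map_zero]
    exact Ideal.Quotient.eq_zero_iff_mem.2
      (Ideal.mem_sup_right (Ideal.mem_span_singleton_self x))
  · intro y
    obtain ⟨ψ, -, hψ⟩ := hv (ArtFun.Art.toBase (ArtFun.Art.dual Λ k))
      (ArtFun.Art.dual Λ k).res_surjective
      Groth.Agent.Lib.Helper63.ArtFunLib.homSetBase y (@Subsingleton.elim _ h0.2 _ _)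
    exact ⟨ψ, hψ⟩

end Groth.Agent.S12749
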