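import Groth.Statements.S12750
import Groth.Agent.S12709
import Groth.Agent.S12710
-- import your own Groth.Agent.* helpers here

set_option autoImplicit false
universe u v
open CategoryTheory
open ArtFun ArtFun.Art

namespace Groth.Agent.S12750

open ArtFun ArtFun.Art in
/-- A morphism which is surjective modulo `m_Λ B + m_B²` is surjective. -/
theorem surjective_of_comp_quot {Λ : Type u} {k : Type u} [CommRing Λ] [Field k] [Algebra Λ k]
    [IsNoetherianRing Λ] [Module.Finite Λ k] {C B B' : Art Λ k} (g : C ⟶ B) (qB : B ⟶ B')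
    (hkB : RingHom.ker qB.toAlgHom = Ideal.map (algebraMap Λ B) (RingHom.ker (algebraMap Λ k)) ⊔
      IsLocalRing.maximalIdeal B ^ 2)
    (h : Function.Surjective (g ≫ qB)) : Function.Surjective g := by
  have htfae := Groth.Agent.S12709.result g
  apply (htfae.out 2 0).1
  apply le_antisymm
  · apply sup_le
    · apply sup_le
      · rw [Ideal.map_le_iff_le_comap]
        intro l hl
        rw [Ideal.mem_comap, Art.mem_maximalIdeal_iff, AlgHom.commutes]
        exact hl
      · rw [Ideal.map_le_iff_le_comap]
        intro c hc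
        rw [Ideal.mem_comap, Art.mem_maximalIdeal_iff]
        change B.res (g c) = 0
        rw [Art.res_app]
        exact (Art.mem_maximalIdeal_iff C c).1 hc
    · exact Ideal.pow_le_self (by norm_num)
  · intro b hb
    obtain ⟨c, hc⟩ := h (qB b)
    have hc' : qB (g c) = qB b := hc
    have hker : b - g c ∈ RingHom.ker qB.toAlgHom := by
      rw [RingHom.mem_ker, map_sub, sub_eq_zero]
      exact hc'.symm
    rw [hkB] at hker
    have hkerm : b - g c ∈ IsLocalRing.maximalIdeal B := by
      have hle : Ideal.map (algebraMap Λ B) (RingHom.ker (algebraMap Λ k)) ⊔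
          IsLocalRing.maximalIdeal B ^ 2 ≤ IsLocalRing.maximalIdeal B := by
        apply sup_le
        · rw [Ideal.map_le_iff_le_comap]
          intro l hl
          rw [Ideal.mem_comap, Art.mem_maximalIdeal_iff, AlgHom.commutes]
          exact hl
        · exact Ideal.pow_le_self (by norm_num)
      exact hle hker
    have hcm : c ∈ IsLocalRing.maximalIdeal C := by
      rw [Art.mem_maximalIdeal_iff, ← Art.res_app g c]
      have h1 : B.res (b - g c) = 0 := (Art.mem_maximalIdeal_iff B _).1 hkerm
      have h2 : B.res b = 0 := (Art.mem_maximalIdeal_iff B b).1 hb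
      rw [map_sub, h2, zero_sub, neg_eq_zero] at h1
      exact h1
    have hgc : g c ∈ Ideal.map g.toAlgHom (IsLocalRing.maximalIdeal C) :=
      Ideal.mem_map_of_mem _ hcm
    have : b = g c + (b - g c) := by ring
    rw [this]
    obtain ⟨x, hx, y, hy, hxy⟩ := Submodule.mem_sup.1 hker
    rw [← hxy]
    have e : g c + (x + y) = (x + g c) + y := by ring
    rw [e]
    exact Ideal.add_mem _ (Ideal.mem_sup_left (Ideal.add_mem _ (Ideal.mem_sup_left hx)
      (Ideal.mem_sup_right hgc))) (Ideal.mem_sup_right hy)

/-- (1) ⇔ (3): let f : B → A be a morphism in the category of Artinian local Λ-algebras with residue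
field k, and let q_B : B → B', q_A : A → A' be the quotients by m_Λ B + m_B² and m_Λ A + m_A² (m_Λ
the kernel of Λ → k), realised as surjective morphisms with these kernels, with f' : B' → A' the
induced morphism. Then f is an essential surjection — surjective, and every morphism g into B whose
composite with f is surjective is itself surjective — if and only if f' is. (The intermediate
equivalence with the map B/m_B² → A/m_A² is the special case Λ-structure trivialised and follows by
applying this one twice.) -/
theorem result {Λ : Type u} {k : Type u} [CommRing Λ] [Field k] [Algebra Λ k]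
    [IsNoetherianRing Λ] [Module.Finite Λ k]
    {A B A' B' : ArtFun.Art Λ k} (f : B ⟶ A)
    (qB : B ⟶ B') (hqB : Function.Surjective qB)
    (hkB : RingHom.ker qB.toAlgHom = Ideal.map (algebraMap Λ B) (RingHom.ker (algebraMap Λ k)) ⊔ IsLocalRing.maximalIdeal B ^ 2)
    (qA : A ⟶ A') (hqA : Function.Surjective qA)
    (hkA : RingHom.ker qA.toAlgHom = Ideal.map (algebraMap Λ A) (RingHom.ker (algebraMap Λ k)) ⊔ IsLocalRing.maximalIdeal A ^ 2)
    (f' : B' ⟶ A') (hf' : qB ≫ f' = f ≫ qA) :
    (Function.Surjective f ∧ ∀ (C : ArtFun.Art Λ k) (g : C ⟶ B), Function.Surjective (g ≫ f) → Function.Surjective g) ↔ (Function.Surjective f' ∧ ∀ (C : ArtFun.Art Λ k) (g : C ⟶ B'), Function.Surjective (g ≫ f') → Function.Surjective g) := by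
  constructor
  · rintro ⟨hf, hess⟩
    refine ⟨?_, ?_⟩
    · intro a'
      obtain ⟨a, rfl⟩ := hqA a'
      obtain ⟨b, rfl⟩ := hf a
      refine ⟨qB b, ?_⟩
      change (qB ≫ f') b = (f ≫ qA) b
      rw [hf']
    · intro C' g' hg'
      obtain ⟨C, p₁, p₂, hfp⟩ := Groth.Agent.S12710.result g' qB hqB
      have hsurj : Function.Surjective (p₂ ≫ f) := by
        apply surjective_of_comp_quot (p₂ ≫ f) qA hkA
        intro a'
        obtain ⟨c', hc'⟩ := hg' a'
        obtain ⟨b, hb⟩ := hqB (g' c')
        obtain ⟨c, hc1, hc2⟩ := hfp.surj c' b hb.symm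
        refine ⟨c, ?_⟩
        change qA (f (p₂ c)) = a'
        rw [hc2]
        have e : (qB ≫ f') b = (f ≫ qA) b := by rw [hf']
        change f' (qB b) = qA (f b) at e
        rw [← e, hb]
        exact hc'
      have hp₂ := hess C p₂ hsurj
      intro b'
      obtain ⟨b, rfl⟩ := hqB b'
      obtain ⟨c, rfl⟩ := hp₂ b
      exact ⟨p₁ c, hfp.w_apply c⟩
  · rintro ⟨hf'surj, hess⟩
    have hfsurj : Function.Surjective f := by
      apply surjective_of_comp_quot f qA hkA
      intro a'
      obtain ⟨b', hb'⟩ := hf'surj a'
      obtain ⟨b, rfl⟩ := hqB b'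
      refine ⟨b, ?_⟩
      have e : (qB ≫ f') b = (f ≫ qA) b := by rw [hf']
      exact e.symm.trans hb'
    refine ⟨hfsurj, ?_⟩
    intro C g hg
    apply surjective_of_comp_quot g qB hkB
    apply hess C (g ≫ qB)
    rw [Category.assoc, hf', ← Category.assoc]
    exact hqA.comp hg

end Groth.Agent.S12750
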