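import Groth.Statements.S12751
import Mathlib
import Groth.Agent.Lib.Helper64.ArtThicken
-- import your own Groth.Agent.* helpers here

set_option autoImplicit false
universe u v
open CategoryTheory
open scoped TensorProduct
open ArtFun ArtFun.Art

open KaehlerDifferential

namespace Groth.Agent.S12751

/-- A morphism f : B → A in the category of Artinian local Λ-algebras with residue field k is surjective
if and only if Ω_{B/Λ} ⊗_B k → Ω_{A/Λ} ⊗_A k is surjective; by right exactness of the sequence
Ω_{B/Λ} ⊗_B A → Ω_{A/Λ} → Ω_{A/B} → 0 this surjectivity is the vanishing of Ω_{A/B} ⊗_A k, which is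
how it is written here (A a B-algebra through f, k an A-module through the augmentation). -/
theorem result {Λ : Type u} {k : Type u} [CommRing Λ] [Field k] [Algebra Λ k]
    [IsNoetherianRing Λ] [Module.Finite Λ k]
    {A B : ArtFun.Art Λ k} (f : B ⟶ A) :
    letI : Algebra B A := f.toAlgHom.toRingHom.toAlgebra
    letI : Algebra A k := A.res.toRingHom.toAlgebra
    Function.Surjective f ↔ Subsingleton (k ⊗[A] Ω[A⁄B]) := by
  letI algBA : Algebra B A := f.toAlgHom.toRingHom.toAlgebra
  letI algAk : Algebra A k := A.res.toRingHom.toAlgebra
  change Function.Surjective f ↔ Subsingleton (k ⊗[A] Ω[A⁄B])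
  constructor
  · intro hf
    haveI : Subsingleton (Ω[A⁄B]) := KaehlerDifferential.subsingleton_of_surjective B A hf
    infer_instance
  · intro h
    haveI : IsScalarTower Λ B A := IsScalarTower.of_algebraMap_eq (fun r => (f.toAlgHom.commutes r).symm)
    haveI : Module.Finite Λ A := Groth.Agent.Lib.Helper64.finite_art A
    haveI : Module.Finite B A := Module.Finite.of_restrictScalars_finite Λ B A
    haveI : IsLocalHom (algebraMap B A) := by
      constructor
      intro b hb
      by_contra hnu
      have h1 : b ∈ IsLocalRing.maximalIdeal B := (IsLocalRing.mem_maximalIdeal _).2 hnu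
      rw [Art.mem_maximalIdeal_iff] at h1
      have h2 : A.res (f b) = 0 := by rw [Art.res_app]; exact h1
      have h3 : f b ∈ IsLocalRing.maximalIdeal A := (Art.mem_maximalIdeal_iff A _).2 h2
      exact (IsLocalRing.mem_maximalIdeal _).1 h3 hb
    -- the residue field of `A` is `k`
    haveI : IsLocalHom (A.res : A →+* k) := by
      constructor
      intro a ha
      by_contra hnu
      have h1 : a ∈ IsLocalRing.maximalIdeal A := (IsLocalRing.mem_maximalIdeal _).2 hnu
      rw [Art.mem_maximalIdeal_iff] at h1
      have h1' : (A.res : A →+* k) a = 0 := h1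
      rw [h1'] at ha
      exact not_isUnit_zero ha
    let e₀ : IsLocalRing.ResidueField A →+* k := IsLocalRing.ResidueField.lift (A.res : A →+* k)
    have he₀ : ∀ a : A, e₀ (IsLocalRing.residue A a) = A.res a := fun a =>
      IsLocalRing.ResidueField.lift_residue_apply _ a
    let e₁ : IsLocalRing.ResidueField A →ₗ[A] k :=
      { toFun := e₀
        map_add' := map_add e₀
        map_smul' := fun a x => by
          obtain ⟨x, rfl⟩ := IsLocalRing.residue_surjective x
          change e₀ (a • IsLocalRing.residue A x) = A.res a * e₀ (IsLocalRing.residue A x)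
          rw [Algebra.smul_def, IsLocalRing.ResidueField.algebraMap_eq, ← map_mul, he₀, he₀, map_mul] }
    have he₁ : Function.Bijective e₁ := by
      constructor
      · exact e₀.injective
      · intro c
        obtain ⟨a, rfl⟩ := A.res_surjective c
        exact ⟨IsLocalRing.residue A a, he₀ a⟩
    let e : IsLocalRing.ResidueField A ≃ₗ[A] k := LinearEquiv.ofBijective e₁ he₁
    haveI : Subsingleton (IsLocalRing.ResidueField A ⊗[A] Ω[A⁄B]) :=
      (TensorProduct.congr e (LinearEquiv.refl A (Ω[A⁄B]))).toEquiv.subsingleton
    haveI : Subsingleton (Ω[A⁄B]) :=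
      (IsLocalRing.subsingleton_tensorProduct (R := A) (M := Ω[A⁄B])).1 inferInstance
    haveI : Algebra.FormallyUnramified B A := ⟨inferInstance⟩
    have hmax := Algebra.FormallyUnramified.map_maximalIdeal (R := B) (S := A)
    -- Nakayama
    have hle : (⊤ : Submodule B A) ≤ LinearMap.range (Algebra.linearMap B A) := by
      apply Submodule.le_of_le_smul_of_le_jacobson_bot (I := IsLocalRing.maximalIdeal B)
        Module.Finite.fg_top
      · rw [IsLocalRing.jacobson_eq_maximalIdeal ⊥ bot_ne_top]
      · intro a _
        obtain ⟨b, hb⟩ := B.res_surjective (A.res a)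
        have hx : a - f b ∈ IsLocalRing.maximalIdeal A := by
          rw [Art.mem_maximalIdeal_iff, map_sub, Art.res_app, hb, sub_self]
        rw [← hmax] at hx
        have hx' : a - f b ∈ (IsLocalRing.maximalIdeal B • ⊤ : Submodule B A) := by
          rw [Ideal.smul_top_eq_map]
          exact hx
        have : a = f b + (a - f b) := by ring
        rw [this]
        exact Submodule.add_mem _ (Submodule.mem_sup_left ⟨b, rfl⟩) (Submodule.mem_sup_right hx')
    intro a
    obtain ⟨b, hb⟩ := hle (Submodule.mem_top (x := a))
    exact ⟨b, hb⟩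

end Groth.Agent.S12751
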