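import Groth.Statements.S12752
import Groth.Agent.Lib.Helper64.KaehlerDual
import Groth.Agent.Lib.Helper64.EssSurjTangent
import Groth.Agent.Lib.Helper64.ArtThicken
import Groth.Agent.Lib.Helper9.ArtTangent

set_option autoImplicit false
universe u v
open CategoryTheory
open scoped TensorProduct
open ArtFun ArtFun.Art

namespace Groth.Agent.S12752

open Groth.Agent.Lib.Helper64

section Aux

variable {Λ : Type u} {k : Type u} [CommRing Λ] [Field k] [Algebra Λ k]

/-- the derivation attached to a tangent vector -/
noncomputable def derivOfHom {A : ArtFun.Art Λ k} [Algebra A k]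
    (hA : ∀ a : A, algebraMap A k a = A.res a) (θ : A ⟶ dual Λ k) : Derivation Λ A k :=
  Derivation.mk'
    { toFun := fun a => TrivSqZeroExt.snd (θ a)
      map_add' := dual_snd_add θ
      map_smul' := fun l a => by
        have h : (θ.toAlgHom (l • a) : DualNumber k) = l • (θ.toAlgHom a : DualNumber k) :=
          map_smul θ.toAlgHom l a
        exact (congrArg TrivSqZeroExt.snd h).trans
          (TrivSqZeroExt.snd_smul l (θ.toAlgHom a : DualNumber k)) }
    (fun a b => by
      change TrivSqZeroExt.snd (θ (a * b)) = a • TrivSqZeroExt.snd (θ b) + b • TrivSqZeroExt.snd (θ a)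
      rw [dual_snd_mul, Algebra.smul_def, Algebra.smul_def, hA, hA])

lemma derivOfHom_apply {A : ArtFun.Art Λ k} [Algebra A k]
    (hA : ∀ a : A, algebraMap A k a = A.res a) (θ : A ⟶ dual Λ k) (a : A) :
    derivOfHom hA θ a = TrivSqZeroExt.snd (θ a) := rfl

/-- the tangent vector attached to a derivation -/
noncomputable def homOfDeriv {A : ArtFun.Art Λ k} [Algebra A k]
    (hA : ∀ a : A, algebraMap A k a = A.res a) (D : Derivation Λ A k) : A ⟶ dual Λ k :=
  ⟨Groth.Agent.Lib.Helper9.dualHomOfDeriv A.res D (fun a b => map_add D a b)
    (fun a b => by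
      rw [Derivation.leibniz, Algebra.smul_def, Algebra.smul_def, hA, hA]
      ring)
    (fun c => D.map_algebraMap c), AlgHom.ext fun _ => rfl⟩

lemma homOfDeriv_snd {A : ArtFun.Art Λ k} [Algebra A k]
    (hA : ∀ a : A, algebraMap A k a = A.res a) (D : Derivation Λ A k) (a : A) :
    TrivSqZeroExt.snd (homOfDeriv hA D a) = D a := rfl

end Aux

/-- (a) ⇔ (c): a morphism f : B → A in the category of Artinian local Λ-algebras with residue field k is
an essential surjection (surjective, and any morphism g into B with g followed by f surjective is
surjective) if and only if the map Ω_{B/Λ} ⊗_B k → Ω_{A/Λ} ⊗_A k is an isomorphism of k-vector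
spaces. These spaces are finite-dimensional, so the isomorphism condition is written as: the map is
surjective (that is, Ω_{A/B} ⊗_A k = 0) and the two spaces have equal dimension. -/
theorem result {Λ : Type u} {k : Type u} [CommRing Λ] [Field k] [Algebra Λ k]
    [IsNoetherianRing Λ] [Module.Finite Λ k]
    {A B : ArtFun.Art Λ k} (f : B ⟶ A) :
    letI : Algebra B A := f.toAlgHom.toRingHom.toAlgebra
    letI : Algebra A k := A.res.toRingHom.toAlgebra
    letI : Algebra B k := B.res.toRingHom.toAlgebra
    (Function.Surjective f ∧ ∀ (C : ArtFun.Art Λ k) (g : C ⟶ B), Function.Surjective (g ≫ f) → Function.Surjective g) ↔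
      (Subsingleton (k ⊗[A] Ω[A⁄B]) ∧
        Module.finrank k (k ⊗[B] Ω[B⁄Λ]) = Module.finrank k (k ⊗[A] Ω[A⁄Λ])) := by
  letI iBA : Algebra B A := f.toAlgHom.toRingHom.toAlgebra
  letI iAk : Algebra A k := A.res.toRingHom.toAlgebra
  letI iBk : Algebra B k := B.res.toRingHom.toAlgebra
  have hA : ∀ a : A, algebraMap A k a = A.res a := fun _ => rfl
  have hB : ∀ b : B, algebraMap B k b = B.res b := fun _ => rfl
  have hBA : ∀ b : B, algebraMap B A b = f b := fun _ => rfl
  haveI : IsScalarTower Λ A k := IsScalarTower.of_algebraMap_eq (fun x => (A.res.commutes x).symm)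
  haveI : IsScalarTower Λ B k := IsScalarTower.of_algebraMap_eq (fun x => (B.res.commutes x).symm)
  haveI : IsScalarTower Λ B A :=
    IsScalarTower.of_algebraMap_eq (fun x => (f.toAlgHom.commutes x).symm)
  haveI : IsScalarTower B A k :=
    IsScalarTower.of_algebraMap_eq (fun b => (Art.res_app f b).symm)
  haveI : Module.Finite Λ A := finite_art A
  haveI : Module.Finite Λ B := finite_art B
  constructor
  · intro hess
    have hess' : IsEssSurj f := hess
    have hf : Function.Surjective f := hess.1
    have hfalg : Function.Surjective (algebraMap B A) := hf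
    constructor
    · haveI : Subsingleton Ω[A⁄B] := KaehlerDifferential.subsingleton_of_surjective B A hfalg
      refine ⟨fun x y => ?_⟩
      have h0 : ∀ z : k ⊗[A] Ω[A⁄B], z = 0 := by
        intro z
        induction z using TensorProduct.induction_on with
        | zero => rfl
        | tmul c ω => rw [Subsingleton.elim ω 0, TensorProduct.tmul_zero]
        | add z₁ z₂ h₁ h₂ => rw [h₁, h₂, add_zero]
      rw [h0 x, h0 y]
    · have hsurj := kaehlerMapK_surjective (R := Λ) (k := k) hfalg
      have hinj : Function.Injective (kaehlerMapK Λ B A k) := by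
        rw [injective_iff_map_eq_zero]
        intro v hv
        apply eq_zero_of_forall_derivFunctional
        intro DB
        -- `DB` kills `ker f`, hence descends to `A`
        let θB : B ⟶ dual Λ k := homOfDeriv hB DB
        have hkill : ∀ x : B, f x = 0 → TrivSqZeroExt.snd (θB x) = 0 :=
          fun x hx => snd_eq_zero_of_isEssSurj f hess' θB x hx
        have hker : RingHom.ker f.toAlgHom ≤ RingHom.ker θB.toAlgHom := by
          intro x hx
          have hx0 : f x = 0 := hx
          rw [RingHom.mem_ker]
          apply TrivSqZeroExt.ext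
          · change TrivSqZeroExt.fst (θB x) = 0
            rw [dual_fst_apply, ← Art.res_app f x, hx0, map_zero]
          · exact hkill x hx0
        let ψA : A →ₐ[Λ] DualNumber k := AlgHom.liftOfSurjective f.toAlgHom hf θB.toAlgHom hker
        have hψA : ∀ b : B, ψA (f b) = θB b := fun b =>
          AlgHom.liftOfSurjective_apply f.toAlgHom hf θB.toAlgHom hker b
        let θA : A ⟶ dual Λ k := ⟨ψA, by
          apply AlgHom.ext
          intro a
          obtain ⟨b, rfl⟩ := hf a
          change TrivSqZeroExt.fst (ψA (f b)) = A.res (f b)
          rw [hψA, Art.res_app]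
          exact dual_fst_apply θB b⟩
        let DA : Derivation Λ A k := derivOfHom hA θA
        have hDB : DB = DA.compAlgebraMap B := by
          ext b
          change DB b = TrivSqZeroExt.snd (ψA (f b))
          rw [hψA]
          rfl
        rw [hDB, ← derivFunctional_comp_kaehlerMapK, LinearMap.comp_apply, hv, map_zero]
      exact (LinearEquiv.ofBijective (kaehlerMapK Λ B A k) ⟨hinj, hsurj⟩).finrank_eq
  · rintro ⟨hsub, hfin⟩
    have hf : Function.Surjective f := by
      apply surjective_of_tangent f
      intro θ hθ a
      -- a `B`-derivation `A → k`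
      let D : Derivation Λ A k := derivOfHom hA θ
      let D' : Derivation B A k := Derivation.mk'
        { toFun := fun a => D a
          map_add' := fun a b => map_add D a b
          map_smul' := fun b a => by
            change D (b • a) = b • D a
            rw [Algebra.smul_def, Derivation.leibniz, hBA]
            have h0 : D (f b) = 0 := hθ b
            rw [h0, smul_zero, add_zero, Algebra.smul_def, Algebra.smul_def, hA, hB, Art.res_app] }
        (fun a b => Derivation.leibniz D a b)
      have h1 := derivFunctional_tmul (R := B) (S := A) (k := k) D' 1 a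
      rw [Subsingleton.elim ((1 : k) ⊗ₜ[A] KaehlerDifferential.D B A a) 0, map_zero, one_mul] at h1
      exact h1.symm
    have hfalg : Function.Surjective (algebraMap B A) := hf
    have hsurj := kaehlerMapK_surjective (R := Λ) (k := k) hfalg
    have hinj : Function.Injective (kaehlerMapK Λ B A k) :=
      (LinearMap.injective_iff_surjective_of_finrank_eq_finrank hfin).2 hsurj
    refine isEssSurj_of_tangent f hf ?_
    intro θ x hx
    let DB : Derivation Λ B k := derivOfHom hB θ
    have h1 := derivFunctional_tmul (R := Λ) (S := B) (k := k) DB 1 x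
    have h2 : (1 : k) ⊗ₜ[B] KaehlerDifferential.D Λ B x = 0 := by
      apply hinj
      rw [kaehlerMapK_tmul, map_zero, hBA, hx, map_zero, TensorProduct.tmul_zero]
    rw [h2, map_zero, one_mul] at h1
    exact h1.symm

end Groth.Agent.S12752
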