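import Groth.Statements.S12753
import Groth.Agent.Lib.Helper64.EssSurjSep
import Groth.Agent.S12709

set_option autoImplicit false
universe u v
open CategoryTheory
open ArtFun ArtFun.Art

namespace Groth.Agent.S12753

/-- Suppose k is separable over the image of Λ → k. A morphism f : B → A in the category of Artinian
local Λ-algebras with residue field k is an essential surjection (surjective, and any morphism g
into B with g followed by f surjective is surjective) if and only if the map of cotangent spaces
relative to Λ, m_B/(m_Λ B + m_B²) → m_A/(m_Λ A + m_A²), is an isomorphism; surjectivity and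
injectivity are written out in terms of ideals, m_Λ being the kernel of Λ → k. -/
theorem result {Λ : Type u} {k : Type u} [CommRing Λ] [Field k] [Algebra Λ k]
    [IsNoetherianRing Λ] [Module.Finite Λ k]
    [Algebra.IsSeparable (↥(algebraMap Λ k).range) k]
    {A B : ArtFun.Art Λ k} (f : B ⟶ A) :
    (Function.Surjective f ∧ ∀ (C : ArtFun.Art Λ k) (g : C ⟶ B), Function.Surjective (g ≫ f) → Function.Surjective g) ↔
      (Ideal.map (algebraMap Λ A) (RingHom.ker (algebraMap Λ k)) ⊔ Ideal.map f.toAlgHom (IsLocalRing.maximalIdeal B) ⊔ IsLocalRing.maximalIdeal A ^ 2 =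
          IsLocalRing.maximalIdeal A ∧
        ∀ b ∈ IsLocalRing.maximalIdeal B, f b ∈ Ideal.map (algebraMap Λ A) (RingHom.ker (algebraMap Λ k)) ⊔ IsLocalRing.maximalIdeal A ^ 2 →
          b ∈ Ideal.map (algebraMap Λ B) (RingHom.ker (algebraMap Λ k)) ⊔ IsLocalRing.maximalIdeal B ^ 2) := by
  have htfae := Groth.Agent.S12709.result f
  constructor
  · intro hess
    have hess' : Groth.Agent.Lib.Helper64.IsEssSurj f := hess
    have hf : Function.Surjective f := hess.1
    refine ⟨(htfae.out 0 2).1 hf, ?_⟩
    intro b hb hfb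
    by_contra hnot
    -- the image of `m_Λ B + m_B²` is `m_Λ A + m_A²`
    have hmap : Ideal.map f.toAlgHom (Ideal.map (algebraMap Λ B) (RingHom.ker (algebraMap Λ k)) ⊔
        IsLocalRing.maximalIdeal B ^ 2) =
        Ideal.map (algebraMap Λ A) (RingHom.ker (algebraMap Λ k)) ⊔ IsLocalRing.maximalIdeal A ^ 2 := by
      rw [Ideal.map_sup, Ideal.map_pow]
      have h2 : Ideal.map f.toAlgHom (IsLocalRing.maximalIdeal B) = IsLocalRing.maximalIdeal A :=
        Groth.Agent.Lib.Helper64.map_maximalIdeal_of_surjective (f.toAlgHom : B →+* A) hf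
      have h1 : Ideal.map f.toAlgHom (Ideal.map (algebraMap Λ B) (RingHom.ker (algebraMap Λ k))) =
          Ideal.map (algebraMap Λ A) (RingHom.ker (algebraMap Λ k)) := by
        change Ideal.map (f.toAlgHom : B →+* A) (Ideal.map (algebraMap Λ B) _) = _
        rw [Ideal.map_map, f.toAlgHom.comp_algebraMap]
      rw [h1, h2]
    rw [← hmap] at hfb
    obtain ⟨b', hb', hb'f⟩ := (Ideal.mem_map_iff_of_surjective f.toAlgHom hf).1 hfb
    have hx0 : f (b - b') = 0 := by
      have : f (b - b') = f b - f b' := map_sub f.toAlgHom b b'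
      rw [this]
      have : f b' = f b := hb'f
      rw [this, sub_self]
    have hle : Ideal.map (algebraMap Λ B) (RingHom.ker (algebraMap Λ k)) ⊔
        IsLocalRing.maximalIdeal B ^ 2 ≤ IsLocalRing.maximalIdeal B :=
      sup_le (Groth.Agent.Lib.Helper64.idealΛ_le B) (Ideal.pow_le_self (by norm_num))
    have hxm : b - b' ∈ IsLocalRing.maximalIdeal B := Ideal.sub_mem _ hb (hle hb')
    have hxn : b - b' ∉ Ideal.map (algebraMap Λ B) (RingHom.ker (algebraMap Λ k)) ⊔
        IsLocalRing.maximalIdeal B ^ 2 := by
      intro h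
      apply hnot
      have : b = (b - b') + b' := by ring
      rw [this]
      exact Ideal.add_mem _ h hb'
    obtain ⟨θ, hθ⟩ := Groth.Agent.Lib.Helper64.exists_tangent_of_not_mem_of_separable B (b - b') hxm hxn
    exact hθ (Groth.Agent.Lib.Helper64.snd_eq_zero_of_isEssSurj f hess' θ (b - b') hx0)
  · rintro ⟨h1, h2⟩
    have hf : Function.Surjective f := (htfae.out 2 0).1 h1
    refine Groth.Agent.Lib.Helper64.isEssSurj_of_ker_le f hf ?_
    intro b hb
    have hb0 : f b = 0 := hb
    apply h2 b
    · rw [Art.mem_maximalIdeal_iff, ← Art.res_app f b, hb0, map_zero]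
    · rw [hb0]
      exact Ideal.zero_mem _

end Groth.Agent.S12753
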