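import Groth.Statements.S12754
import Mathlib

set_option autoImplicit false
universe u
open CategoryTheory
open ArtFun

namespace Groth.Agent.S12754

open CategoryTheory

section
open TensorProduct
variable (K : Type u) [Field K]
  (L : FGModuleCat.{u} K ⥤ ModuleCat.{u} K) [L.Additive] [Functor.Linear K L]

/-- `v ↦ f_v : K ⟶ V`. -/
noncomputable def fv (V : FGModuleCat.{u} K) : V →ₗ[K] (FGModuleCat.of K K ⟶ V) where
  toFun v := ConcreteCategory.ofHom (C := FGModuleCat K) (LinearMap.toSpanSingleton K V v)
  map_add' v w := by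
    apply FGModuleCat.hom_ext
    apply LinearMap.ext
    intro c
    show c • (v + w) = c • v + c • w
    rw [smul_add]
  map_smul' c v := by
    apply FGModuleCat.hom_ext
    apply LinearMap.ext
    intro d
    show d • (c • v) = c • (d • v)
    rw [smul_comm]

lemma fv_apply (V : FGModuleCat.{u} K) (v : V) (c : K) : (fv K V v).hom.hom c = c • v := rfl

/-- the bilinear map `(x, v) ↦ L(f_v) x`. -/
noncomputable def bil (V : FGModuleCat.{u} K) :
    (L.obj (FGModuleCat.of K K)) →ₗ[K] V →ₗ[K] L.obj V :=
  LinearMap.mk₂ K (fun x v => (L.map (fv K V v)).hom x)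
    (fun x y v => map_add _ x y)
    (fun c x v => map_smul _ c x)
    (fun x v w => by
      show (L.map (fv K V (v + w))).hom x = _
      rw [map_add, Functor.map_add]; rfl)
    (fun c x v => by
      show (L.map (fv K V (c • v))).hom x = _
      rw [map_smul, Functor.map_smul]; rfl)

noncomputable def eta (V : FGModuleCat.{u} K) :
    (L.obj (FGModuleCat.of K K)) ⊗[K] V →ₗ[K] L.obj V :=
  TensorProduct.lift (bil K L V)

lemma eta_tmul (V : FGModuleCat.{u} K) (x : L.obj (FGModuleCat.of K K)) (v : V) :
    eta K L V (x ⊗ₜ v) = (L.map (fv K V v)).hom x := rfl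

/-- coordinate morphisms -/
noncomputable def coordHom (V : FGModuleCat.{u} K) {ι : Type} (b : Module.Basis ι K V) (i : ι) :
    V ⟶ FGModuleCat.of K K :=
  ConcreteCategory.ofHom (C := FGModuleCat K) (b.coord i)

noncomputable def inv (V : FGModuleCat.{u} K) {ι : Type} [Fintype ι] (b : Module.Basis ι K V) :
    L.obj V →ₗ[K] (L.obj (FGModuleCat.of K K)) ⊗[K] V :=
  ∑ i, ((TensorProduct.mk K (L.obj (FGModuleCat.of K K)) V).flip (b i)).comp
    (L.map (coordHom K V b i)).hom

omit [L.Additive] [Functor.Linear K L] in
lemma inv_apply (V : FGModuleCat.{u} K) {ι : Type} [Fintype ι] (b : Module.Basis ι K V)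
    (y : L.obj V) :
    inv K L V b y = ∑ i, ((L.map (coordHom K V b i)).hom y) ⊗ₜ[K] b i := by
  simp [inv]

lemma sum_coord_fv (V : FGModuleCat.{u} K) {ι : Type} [Fintype ι] (b : Module.Basis ι K V) :
    ∑ i, coordHom K V b i ≫ fv K V (b i) = 𝟙 V := by
  apply FGModuleCat.hom_ext
  apply LinearMap.ext
  intro v
  have : ((∑ i, coordHom K V b i ≫ fv K V (b i)).hom.hom) v
      = ∑ i, ((coordHom K V b i ≫ fv K V (b i)).hom.hom) v := by
    have h1 : ∀ (s : Finset ι), ((∑ i ∈ s, coordHom K V b i ≫ fv K V (b i)).hom.hom) v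
      = ∑ i ∈ s, ((coordHom K V b i ≫ fv K V (b i)).hom.hom) v := by
      intro s
      classical
      induction s using Finset.induction_on with
      | empty => simp
      | insert a s ha ih =>
        rw [Finset.sum_insert ha, Finset.sum_insert ha, ← ih]; rfl
    exact h1 _
  rw [this]
  show ∑ i, (b.coord i v) • b i = v
  exact b.sum_repr v

lemma fv_coord (V : FGModuleCat.{u} K) {ι : Type} (b : Module.Basis ι K V) (i : ι) (v : V) :
    fv K V v ≫ coordHom K V b i = (b.coord i v) • 𝟙 (FGModuleCat.of K K) := by
  apply FGModuleCat.hom_ext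
  apply LinearMap.ext
  intro c
  show b.coord i (c • v) = (b.coord i v) • c
  rw [map_smul, smul_eq_mul, smul_eq_mul, mul_comm]

lemma eta_inv (V : FGModuleCat.{u} K) {ι : Type} [Fintype ι] (b : Module.Basis ι K V)
    (y : L.obj V) : eta K L V (inv K L V b y) = y := by
  rw [inv_apply, map_sum]
  simp only [eta_tmul]
  have : ∀ i, (L.map (fv K V (b i))).hom ((L.map (coordHom K V b i)).hom y)
      = (L.map (coordHom K V b i ≫ fv K V (b i))).hom y := by
    intro i; rw [L.map_comp]; rfl
  simp only [this]
  have h2 : ∑ i, (L.map (coordHom K V b i ≫ fv K V (b i))).hom y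
      = (L.map (∑ i, coordHom K V b i ≫ fv K V (b i))).hom y := by
    rw [Functor.map_sum]
    have h1 : ∀ (s : Finset ι), (∑ i ∈ s, L.map (coordHom K V b i ≫ fv K V (b i))).hom y
      = ∑ i ∈ s, (L.map (coordHom K V b i ≫ fv K V (b i))).hom y := by
      intro s
      classical
      induction s using Finset.induction_on with
      | empty => simp
      | insert a s ha ih =>
        rw [Finset.sum_insert ha, Finset.sum_insert ha, ← ih]; rfl
    exact (h1 _).symm
  rw [h2, sum_coord_fv, L.map_id]; rfl

lemma inv_eta (V : FGModuleCat.{u} K) {ι : Type} [Fintype ι] (b : Module.Basis ι K V)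
    (z : (L.obj (FGModuleCat.of K K)) ⊗[K] V) : inv K L V b (eta K L V z) = z := by
  induction z using TensorProduct.induction_on with
  | zero => simp
  | add a c ha hc => rw [map_add, map_add, ha, hc]
  | tmul x v =>
    rw [eta_tmul, inv_apply]
    have : ∀ i, (L.map (coordHom K V b i)).hom ((L.map (fv K V v)).hom x)
        = (b.coord i v) • x := by
      intro i
      have h : (L.map (fv K V v ≫ coordHom K V b i)).hom x = (b.coord i v) • x := by
        rw [fv_coord, Functor.map_smul, L.map_id]; rfl
      rw [L.map_comp] at h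
      exact h
    simp only [this]
    simp only [TensorProduct.smul_tmul]
    rw [← TensorProduct.tmul_sum]
    congr 1
    exact b.sum_repr v

end

/-- A K-linear functor L from finite-dimensional K-vector spaces to K-vector spaces (K a field) is
isomorphic to the functor V ↦ L(K) ⊗_K V. (Existence of an isomorphism of functors, which is how the
published statement reads; the natural choice sends x ⊗ v to L(f_v)(x) with f_v : K → V, 1 ↦ v.) -/
theorem result (K : Type u) [Field K]
    (L : FGModuleCat.{u} K ⥤ ModuleCat.{u} K) [L.Additive] [Functor.Linear K L] :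
    Nonempty (L ≅ (ModuleCat.isFG.{u} K).ι ⋙ MonoidalCategory.tensorLeft (L.obj (FGModuleCat.of K K))) := by
  refine ⟨Iso.symm (NatIso.ofComponents (fun V => ?_) ?_)⟩
  · let b := Module.finBasis K V
    exact LinearEquiv.toModuleIso (LinearEquiv.ofLinearMap (eta K L V) (inv K L V b)
      (LinearMap.ext (eta_inv K L V b)) (LinearMap.ext (inv_eta K L V b)))
  · intro V W g
    apply ModuleCat.hom_ext
    apply TensorProduct.ext'
    intro x v
    show eta K L W (x ⊗ₜ (g.hom.hom v)) = (L.map g).hom (eta K L V (x ⊗ₜ v))
    rw [eta_tmul, eta_tmul]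
    have : fv K W (g.hom.hom v) = fv K V v ≫ g := by
      apply FGModuleCat.hom_ext
      apply LinearMap.ext
      intro c
      show c • g.hom.hom v = g.hom.hom (c • v)
      rw [map_smul]
    rw [this, L.map_comp]; rfl

end Groth.Agent.S12754
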