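import Groth.Statements.S12757
import Groth.Agent.Lib.Helper9.ArtCRing
-- import your own Groth.Agent.* helpers here

set_option autoImplicit false
universe u v
open CategoryTheory
open ArtFun

namespace Groth.Agent.S12757

/-- For functors, let F be a functor on Artinian local Λ-algebras with residue field k with F(k) a
point. A versal family of F over a complete local Noetherian R with residue field k which is
bijective on tangent spaces (a hull; bijectivity implies bijectivity on orbits of the derivations of
k) is minimal: every morphism of coefficient rings R' → R along which some formal element over R'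
pushes forward to the formal element of the family is surjective. -/
theorem result {Λ : Type u} {k : Type u} [CommRing Λ] [Field k] [Algebra Λ k]
    [IsNoetherianRing Λ] [Module.Finite Λ k]
    {F : ArtFun.Art Λ k ⥤ Type v} (h0 : ArtFun.H0 F) (P : ArtFun.Hull F) :
    P.family.IsMinimalVersal := by
  refine ⟨P.miniversal.1, ?_⟩
  intro R' u f hf hpush
  apply Groth.Agent.Lib.Helper9.cring_surjective_of_tangent_injective R' P.ring f hf
  intro ψ₁ ψ₂ h12
  apply P.miniversal.2.1
  obtain ⟨ψb₁, hψ₁⟩ := Groth.Agent.Lib.Helper9.homSet_dual_factor_trunc_one P.ring ψ₁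
  obtain ⟨ψb₂, hψ₂⟩ := Groth.Agent.Lib.Helper9.homSet_dual_factor_trunc_one P.ring ψ₂
  have hcomp : ArtFun.CRing.truncMapOfHom f hf 1 ≫ ψb₁ = ArtFun.CRing.truncMapOfHom f hf 1 ≫ ψb₂ := by
    apply ArtFun.Art.hom_ext
    apply AlgHom.ext
    intro x
    obtain ⟨a, rfl⟩ := Ideal.Quotient.mk_surjective x
    have e1 : ψb₁ (Ideal.Quotient.mk _ (f a)) = ψ₁.1 (f a) :=
      congrArg (fun t : ArtFun.HomSet P.ring.carrier P.ring.res _ => t.1 (f a)) hψ₁
    have e2 : ψb₂ (Ideal.Quotient.mk _ (f a)) = ψ₂.1 (f a) :=
      congrArg (fun t : ArtFun.HomSet P.ring.carrier P.ring.res _ => t.1 (f a)) hψ₂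
    change ψb₁ (Ideal.Quotient.mk _ (f a)) = ψb₂ (Ideal.Quotient.mk _ (f a))
    rw [e1, e2]
    exact congrArg (fun t : R'.carrier →ₐ[Λ] _ => t a) h12
  have hξ1 : P.family.app _ (P.ring.truncHom 1) = F.map (ArtFun.CRing.truncMapOfHom f hf 1) (u.elt 1) :=
    (congrArg (fun t : ArtFun.FormalElt F P.ring => t.elt 1) hpush).symm
  rw [← hψ₁, ← hψ₂, P.family.natural, P.family.natural, hξ1, ← Functor.map_comp_apply,
    ← Functor.map_comp_apply, hcomp]

end Groth.Agent.S12757
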