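import Groth.Statements.S1276
import Mathlib
-- import your own Groth.Agent.* helpers here

set_option autoImplicit false
universe u
open FlatMor

namespace Groth.Agent.S1276

open TensorProduct

lemma nontrivial_tensor_of_mem_support {B : Type*} [CommRing B] {N : Type*} [AddCommGroup N]
    [Module B N] [Module.Finite B N] {K : Type*} [Field K] [Algebra B K] (y : PrimeSpectrum B)
    (hy : y.asIdeal = RingHom.ker (algebraMap B K)) (h : y ∈ Module.support B N) :
    Nontrivial (K ⊗[B] N) := by
  have h1 : Nontrivial (y.asIdeal.ResidueField ⊗[B] N) :=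
    (Module.mem_support_iff_nontrivial_residueField_tensorProduct y).1 h
  let g : y.asIdeal.ResidueField →+* K :=
    Ideal.ResidueField.lift y.asIdeal (algebraMap B K) hy.le (by
      intro r hr
      rw [Submonoid.mem_comap, IsUnit.mem_submonoid_iff]
      refine IsUnit.mk0 _ ?_
      intro h0
      exact hr (by rw [hy]; exact RingHom.mem_ker.2 h0))
  letI : Algebra y.asIdeal.ResidueField K := g.toAlgebra
  haveI : IsScalarTower B y.asIdeal.ResidueField K :=
    IsScalarTower.of_algebraMap_eq
      (fun r => (Ideal.ResidueField.lift_algebraMap _ _ _ _ r).symm)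
  let e := TensorProduct.AlgebraTensorModule.cancelBaseChange B y.asIdeal.ResidueField K K N
  haveI : Nontrivial (K ⊗[y.asIdeal.ResidueField] (y.asIdeal.ResidueField ⊗[B] N)) :=
    (Module.FaithfullyFlat.nontrivial_tensorProduct_iff_right y.asIdeal.ResidueField K).2 h1
  exact e.symm.toEquiv.nontrivial

lemma mem_support_baseChange {B C : Type*} [CommRing B] [CommRing C] [Algebra B C] {N : Type*}
    [AddCommGroup N] [Module B N] [Module.Finite B N] (x : PrimeSpectrum C)
    (h : PrimeSpectrum.comap (algebraMap B C) x ∈ Module.support B N) :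
    x ∈ Module.support C (C ⊗[B] N) := by
  rw [Module.mem_support_iff_nontrivial_residueField_tensorProduct]
  haveI hK : Nontrivial (x.asIdeal.ResidueField ⊗[B] N) := by
    apply nontrivial_tensor_of_mem_support _ _ h
    ext r
    rw [PrimeSpectrum.comap_asIdeal, Ideal.mem_comap, RingHom.mem_ker,
      IsScalarTower.algebraMap_apply B C x.asIdeal.ResidueField,
      Ideal.algebraMap_residueField_eq_zero]
  let e := TensorProduct.AlgebraTensorModule.cancelBaseChange B C x.asIdeal.ResidueField
    x.asIdeal.ResidueField N
  exact e.toEquiv.nontrivial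

lemma comap_mem_support {B C : Type*} [CommRing B] [CommRing C] [Algebra B C] {N : Type*}
    [AddCommGroup N] [Module B N] (x : PrimeSpectrum C)
    (h : x ∈ Module.support C (C ⊗[B] N)) :
    PrimeSpectrum.comap (algebraMap B C) x ∈ Module.support B N := by
  by_contra hy
  rw [Module.notMem_support_iff'] at hy
  have hx : x ∉ Module.support C (C ⊗[B] N) := by
    rw [Module.notMem_support_iff']
    intro m
    induction m using TensorProduct.induction_on with
    | zero => exact ⟨1, x.asIdeal.primeCompl.one_mem, smul_zero _⟩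
    | tmul c n =>
      obtain ⟨r, hr, hrn⟩ := hy n
      refine ⟨algebraMap B C r, hr, ?_⟩
      rw [TensorProduct.smul_tmul', algebraMap_smul, TensorProduct.smul_tmul, hrn,
        TensorProduct.tmul_zero]
    | add a b ha hb =>
      obtain ⟨c1, hc1, h1⟩ := ha
      obtain ⟨c2, hc2, h2⟩ := hb
      refine ⟨c1 * c2, x.asIdeal.primeCompl.mul_mem hc1 hc2, ?_⟩
      have ea : (c1 * c2) • a = 0 := by rw [mul_comm, mul_smul, h1, smul_zero]
      have eb : (c1 * c2) • b = 0 := by rw [mul_smul, h2, smul_zero]
      rw [smul_add, ea, eb, add_zero]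
  exact hx h

lemma exists_fg_le_map_eq {B C : Type*} [CommRing B] [CommRing C] (φ : B →+* C) (𝔞 : Ideal B)
    (h : (𝔞.map φ).FG) : ∃ J : Ideal B, J.FG ∧ J ≤ 𝔞 ∧ J.map φ = 𝔞.map φ := by
  classical
  have h' : (Submodule.span C (φ '' (𝔞 : Set B))).FG := h
  obtain ⟨s', hs', hspan⟩ := (Submodule.fg_span_iff_fg_span_finset_subset _).1 h'
  obtain ⟨t, ht, rfl⟩ := Finset.subset_set_image_iff.1 hs'
  refine ⟨Ideal.span (t : Set B), ⟨t, rfl⟩, Ideal.span_le.2 ht, ?_⟩
  rw [Ideal.map_span, ← Finset.coe_image]
  exact hspan.symm

/-- Let B be a finite type A-algebra, N a finite B-module and p a prime of A. Then there is a finitely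
generated ideal J of B annihilating N (so N is a module on the finitely presented closed subscheme
V(J) of Spec B) such that a point of the fibre Spec(κ(p) ⊗ B) lies in V(J) if and only if it lies in
the support of the fibre module of N. -/
theorem result {A B : Type u} [CommRing A] [CommRing B] [Algebra A B] [Algebra.FiniteType A B]
    (N : Type u) [AddCommGroup N] [Module B N] [Module A N] [IsScalarTower A B N] [Module.Finite B N] (p : Ideal A) [p.IsPrime] :
    ∃ J : Ideal B, J.FG ∧ J ≤ Module.annihilator B N ∧
      ∀ x : PrimeSpectrum (p.Fiber B), FlatCA.fiberIdeal p J ≤ x.asIdeal ↔ x ∈ Module.support (p.Fiber B) (FlatCA.fiberMod p B N) := by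
  classical
  letI : Algebra B (p.Fiber B) := Algebra.TensorProduct.rightAlgebra
  haveI : IsNoetherianRing (p.Fiber B) :=
    Algebra.FiniteType.isNoetherianRing p.ResidueField (p.Fiber B)
  obtain ⟨J, hJfg, hJle, hJmap⟩ := exists_fg_le_map_eq
    (Algebra.TensorProduct.includeRight (R := A) (A := p.ResidueField) (B := B)).toRingHom
    (Module.annihilator B N) (IsNoetherian.noetherian _)
  refine ⟨J, hJfg, hJle, fun x => ?_⟩
  have hφ : (Algebra.TensorProduct.includeRight (R := A) (A := p.ResidueField)
      (B := B)).toRingHom = algebraMap B (p.Fiber B) := rfl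
  show J.map _ ≤ x.asIdeal ↔ x ∈ Module.support (p.Fiber B) ((p.Fiber B) ⊗[B] N)
  rw [hJmap, hφ, Ideal.map_le_iff_le_comap]
  constructor
  · intro h
    apply mem_support_baseChange
    rw [Module.support_eq_zeroLocus, PrimeSpectrum.mem_zeroLocus]
    exact fun a ha => h ha
  · intro h
    exact Module.annihilator_le_of_mem_support (comap_mem_support x h)

end Groth.Agent.S1276
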