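import Groth.Statements.S12775
import Groth.Agent.Lib.Helper80.AlgStPsh3

set_option backward.isDefEq.respectTransparency false

set_option autoImplicit false
open CategoryTheory AlgebraicGeometry
universe u
open AlgSt

namespace Groth.Agent.S12775

/-- If `𝒳` and `𝒴` are categories fibred in groupoids over `(Sch/S)` that are both representable by
algebraic spaces, then every 1-morphism `f : 𝒳 ⟶ 𝒴` is representable by algebraic spaces. -/
theorem result {S : Scheme.{u}} {𝒳 𝒴 : AlgSt.Cat S}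
    (h𝒳 : FibCat.IsFibGrpd 𝒳.p) (h𝒴 : FibCat.IsFibGrpd 𝒴.p)
    (hX : AlgSt.RepByAlgSp 𝒳) (hY : AlgSt.RepByAlgSp 𝒴) (f : 𝒳 ⥤ᵇ 𝒴) :
    AlgSt.RepByAlgSp1 f := by
  obtain ⟨F, e, he⟩ := hX
  obtain ⟨G, e', he'⟩ := hY
  obtain ⟨d, hd, ⟨η⟩, ⟨ε⟩⟩ := Groth.Agent.Lib.Helper80.IsEquivOver.symm he'
  let f' : AlgSt.ofSp F.obj ⥤ᵇ AlgSt.ofSp G.obj := BasedFunctor.comp (BasedFunctor.comp e f) d
  have i : BasedFunctor.comp f' e' ≅ BasedFunctor.comp e f :=
    Groth.Agent.Lib.Helper80.whiskerLeftIso (BasedFunctor.comp e f) ε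
  rw [Groth.Agent.Lib.Helper80.repByAlgSp1_iff_of_square f f' e e' he he' i]
  let α : F.obj ⟶ G.obj := ⟨Groth.Agent.Lib.Helper80.pshMapOf f'⟩
  have h1 : AlgSt.RepByAlgSp1 (AlgSt.ofSpMap α) :=
    Groth.Agent.Lib.Helper80.repByAlgSp1_ofSpMap F.property G.property α
  have j : AlgSt.ofSpMap α ≅ f' := Groth.Agent.Lib.Helper80.ofPshMapIso f'
  exact (Groth.Agent.Lib.Helper80.repByAlgSp1_iff_of_square (AlgSt.ofSpMap α) f'
    (BasedFunctor.id _) (BasedFunctor.id _) Groth.Agent.Lib.Helper80.isEquivOver_id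
    Groth.Agent.Lib.Helper80.isEquivOver_id (j.symm : BasedFunctor.comp f' (BasedFunctor.id _) ≅
      BasedFunctor.comp (BasedFunctor.id _) (AlgSt.ofSpMap α))).mp h1

end Groth.Agent.S12775
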