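import Groth.Statements.S12782
import Groth.Agent.Lib.Helper80.AlgStFp

set_option backward.isDefEq.respectTransparency false

set_option autoImplicit false
open CategoryTheory AlgebraicGeometry
universe u
open AlgSt

namespace Groth.Agent.S12782


open Groth.Agent.Lib.Helper80 in
theorem key {S : Scheme.{u}} {𝒳 𝒴 𝒳' 𝒴' : AlgSt.Cat S}
    (P : MorphismProperty (AlgSp.Sp S)) (f : 𝒳 ⥤ᵇ 𝒴) (f' : 𝒳' ⥤ᵇ 𝒴') (a : 𝒳' ⥤ᵇ 𝒳) (b : 𝒴' ⥤ᵇ 𝒴)
    (ha : FibCat.IsEquivOver a) (hb : FibCat.IsEquivOver b)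
    (e : BasedFunctor.comp f' b ≅ BasedFunctor.comp a f)
    {U : Over S} (y' : FibCat.overCat U ⥤ᵇ 𝒴') :
    (∃ (F : AlgSp.Space S) (e : AlgSt.ofSp F.obj ⥤ᵇ FibCat.fp y' f'), FibCat.IsEquivOver e ∧
        P (AlgSt.spMapOfOver (BasedFunctor.comp e (FibCat.fpFst y' f')))) ↔
      (∃ (F : AlgSp.Space S) (e : AlgSt.ofSp F.obj ⥤ᵇ FibCat.fp (BasedFunctor.comp y' b) f),
        FibCat.IsEquivOver e ∧
        P (AlgSt.spMapOfOver (BasedFunctor.comp e (FibCat.fpFst (BasedFunctor.comp y' b) f)))) := by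
  obtain ⟨hbfull, hbfaith, -⟩ := IsEquivOver.isFFEssSurjOver hb
  exact repWith_transfer P (FibCat.fpFst y' f') (FibCat.fpFst (BasedFunctor.comp y' b) f)
    (fpMap (BasedFunctor.comp y' b) f y' f' (BasedFunctor.id _) a b (BasedNatIso.id _) e)
    (fpMap_isEquivOver (BasedFunctor.comp y' b) f y' f' (BasedFunctor.id _) a b
      (BasedNatIso.id _) e isEquivOver_id ha) (BasedNatIso.id _)

/-- Consider a 2-commutative square of 1-morphisms of categories fibred in groupoids over `(Sch/S)` with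
vertical arrows `f' : 𝒳' ⟶ 𝒴'`, `f : 𝒳 ⟶ 𝒴` and horizontal arrows equivalences over `(Sch/S)`. Then
`f` is representable by algebraic spaces with property `P` if and only if `f'` is. (The published
statement assumes `P` stable under base change and fppf local on the base; this row holds for every
property `P`.) -/
theorem result {S : Scheme.{u}} {𝒳 𝒴 𝒳' 𝒴' : AlgSt.Cat S}
    (h𝒳 : FibCat.IsFibGrpd 𝒳.p) (h𝒴 : FibCat.IsFibGrpd 𝒴.p) (h𝒳' : FibCat.IsFibGrpd 𝒳'.p) (h𝒴' : FibCat.IsFibGrpd 𝒴'.p)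
    (P : MorphismProperty (AlgSp.Sp S)) (f : 𝒳 ⥤ᵇ 𝒴) (f' : 𝒳' ⥤ᵇ 𝒴') (a : 𝒳' ⥤ᵇ 𝒳) (b : 𝒴' ⥤ᵇ 𝒴)
    (ha : FibCat.IsEquivOver a) (hb : FibCat.IsEquivOver b) (e : BasedFunctor.comp f' b ≅ BasedFunctor.comp a f) :
    AlgSt.RepByAlgSpWith P f ↔ AlgSt.RepByAlgSpWith P f' := by
  constructor
  · intro hf U y'
    exact (key P f f' a b ha hb e y').mpr (hf U (BasedFunctor.comp y' b))
  · intro hf' U y
    obtain ⟨b', hb', -, ⟨ε⟩⟩ := Groth.Agent.Lib.Helper80.IsEquivOver.symm hb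
    have h1 := (key P f f' a b ha hb e (BasedFunctor.comp y b')).mp (hf' U (BasedFunctor.comp y b'))
    exact (Groth.Agent.Lib.Helper80.repWith_transfer P
      (FibCat.fpFst (BasedFunctor.comp (BasedFunctor.comp y b') b) f) (FibCat.fpFst y f)
      (Groth.Agent.Lib.Helper80.fpMapLeft y f (BasedFunctor.id _)
        (BasedFunctor.comp (BasedFunctor.comp y b') b)
        (Groth.Agent.Lib.Helper80.whiskerLeftIso y ε))
      (Groth.Agent.Lib.Helper80.fpMapLeft_isEquivOver y f (BasedFunctor.id _)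
        (BasedFunctor.comp (BasedFunctor.comp y b') b)
        (Groth.Agent.Lib.Helper80.whiskerLeftIso y ε)
        Groth.Agent.Lib.Helper80.isEquivOver_id) (BasedNatIso.id _)).mp h1

end Groth.Agent.S12782
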