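import Groth.Statements.S12784
import Groth.Agent.Lib.Helper80.FibCat15

set_option backward.isDefEq.respectTransparency false

set_option autoImplicit false
open CategoryTheory CategoryTheory.Limits
universe v u
open FibCat

namespace Groth.Agent.S12784


open Groth.Agent.Lib.Helper80 in
theorem key {C : Type u} [Category.{v} C] {𝒳 𝒴 𝒳' 𝒴' : BasedCategory.{v, max u v} C}
    (f : 𝒳 ⥤ᵇ 𝒴) (f' : 𝒳' ⥤ᵇ 𝒴') (a : 𝒳' ⥤ᵇ 𝒳) (b : 𝒴' ⥤ᵇ 𝒴)
    (ha : FibCat.IsEquivOver a) (hb : FibCat.IsEquivOver b)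
    (e : BasedFunctor.comp f' b ≅ BasedFunctor.comp a f)
    {U : C} (G' : FibCat.overCat U ⥤ᵇ 𝒴') :
    FibCat.IsRepresentable (FibCat.fp G' f') ↔
      FibCat.IsRepresentable (FibCat.fp (BasedFunctor.comp G' b) f) := by
  obtain ⟨hbfull, hbfaith, -⟩ := IsEquivOver.isFFEssSurjOver hb
  exact isRepresentable_iff_of_isEquivOver _
    (fpMap_isEquivOver (BasedFunctor.comp G' b) f G' f' (BasedFunctor.id _) a b
      (BasedNatIso.id _) e isEquivOver_id ha)

/-- Consider a 2-commutative square of functors over `C` with vertical arrows `f' : 𝒳' ⟶ 𝒴'`, `f : 𝒳 ⟶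
𝒴` and horizontal arrows equivalences over `C`. Then `f` is a representable 1-morphism if and only
if `f'` is. (The published statement is for categories fibred in groupoids over schemes over a base;
this row is stated for categories over any base category.) -/
theorem result {C : Type u} [Category.{v} C] {𝒳 𝒴 𝒳' 𝒴' : BasedCategory.{v, max u v} C}
    (f : 𝒳 ⥤ᵇ 𝒴) (f' : 𝒳' ⥤ᵇ 𝒴') (a : 𝒳' ⥤ᵇ 𝒳) (b : 𝒴' ⥤ᵇ 𝒴)
    (ha : FibCat.IsEquivOver a) (hb : FibCat.IsEquivOver b) (e : BasedFunctor.comp f' b ≅ BasedFunctor.comp a f) :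
    FibCat.IsRepresentable1 f ↔ FibCat.IsRepresentable1 f' := by
  constructor
  · intro hf U G'
    exact (key f f' a b ha hb e G').mpr (hf U (BasedFunctor.comp G' b))
  · intro hf' U G
    obtain ⟨b', hb', -, ⟨ε⟩⟩ := Groth.Agent.Lib.Helper80.IsEquivOver.symm hb
    have h1 := (key f f' a b ha hb e (BasedFunctor.comp G b')).mp (hf' U (BasedFunctor.comp G b'))
    exact (Groth.Agent.Lib.Helper80.isRepresentable_iff_of_isEquivOver _
      (Groth.Agent.Lib.Helper80.fpMapLeft_isEquivOver G f (BasedFunctor.id _)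
        (BasedFunctor.comp (BasedFunctor.comp G b') b)
        (Groth.Agent.Lib.Helper80.whiskerLeftIso G ε)
        Groth.Agent.Lib.Helper80.isEquivOver_id)).mp h1

end Groth.Agent.S12784
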