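import Groth.Statements.S12790
import Groth.Agent.Lib.Helper32.Rep1Prod

set_option backward.isDefEq.respectTransparency false

set_option autoImplicit false
open CategoryTheory CategoryTheory.Limits
universe v u
open FibCat

namespace Groth.Agent.S12790

theorem result {C : Type u} [Category.{v} C] {𝒳₁ 𝒳₂ 𝒴₁ 𝒴₂ : BasedCategory.{v, max u v} C}
    (f₁ : 𝒳₁ ⥤ᵇ 𝒴₁) (f₂ : 𝒳₂ ⥤ᵇ 𝒴₂) (hf₁ : FibCat.IsRepresentable1 f₁) (hf₂ : FibCat.IsRepresentable1 f₂)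
    (e : BasedFunctor.comp (BasedFunctor.comp (FibCat.fpFst (FibCat.toSelf 𝒳₁) (FibCat.toSelf 𝒳₂)) f₁) (FibCat.toSelf 𝒴₁) ≅ BasedFunctor.comp (BasedFunctor.comp (FibCat.fpSnd (FibCat.toSelf 𝒳₁) (FibCat.toSelf 𝒳₂)) f₂) (FibCat.toSelf 𝒴₂)) :
    FibCat.IsRepresentable1 (FibCat.fpLift (BasedFunctor.comp (FibCat.fpFst (FibCat.toSelf 𝒳₁) (FibCat.toSelf 𝒳₂)) f₁) (BasedFunctor.comp (FibCat.fpSnd (FibCat.toSelf 𝒳₁) (FibCat.toSelf 𝒳₂)) f₂) e) := by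
  have h1 := Groth.Agent.Lib.Helper32.Rep1Prod.isRep1_fpMap (𝒮 := FibCat.selfOver C)
    (FibCat.toSelf 𝒴₁) (FibCat.toSelf 𝒴₂) (FibCat.toSelf 𝒳₁) (FibCat.toSelf 𝒳₂) f₁ f₂
    (Groth.Agent.Lib.Helper80.selfOverIso _ _) (Groth.Agent.Lib.Helper80.selfOverIso _ _) hf₁ hf₂
  have i : Groth.Agent.Lib.Helper80.fpMap (FibCat.toSelf 𝒴₁) (FibCat.toSelf 𝒴₂) (FibCat.toSelf 𝒳₁)
      (FibCat.toSelf 𝒳₂) f₁ f₂ (BasedFunctor.id _) (Groth.Agent.Lib.Helper80.selfOverIso _ _)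
      (Groth.Agent.Lib.Helper80.selfOverIso _ _) ≅
      FibCat.fpLift (BasedFunctor.comp (FibCat.fpFst (FibCat.toSelf 𝒳₁) (FibCat.toSelf 𝒳₂)) f₁)
        (BasedFunctor.comp (FibCat.fpSnd (FibCat.toSelf 𝒳₁) (FibCat.toSelf 𝒳₂)) f₂) e :=
    Groth.Agent.Lib.Helper32.Rep1Prod.selfIsoMk' (BasedNatIso.id _) (BasedNatIso.id _)
  exact Groth.Agent.Lib.Helper32.Rep1Prod.isRep1_of_iso i h1

end Groth.Agent.S12790
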