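import Groth.Statements.S12798
import Groth.Agent.Lib.Helper32.StkLoc

set_option autoImplicit false
open CategoryTheory
universe w v u
open Stk
open CategoryTheory.Functor

namespace Groth.Agent.S12798

open Groth.Agent.Lib.Helper80 Groth.Agent.Lib.Helper45 in
theorem result {C : Type u} [Category.{v} C] (J : GrothendieckTopology C) {𝒮₁ 𝒮₂ 𝒯₁ : BasedCategory.{v, max u v} C}
    (h₁ : Stk.IsStack J 𝒮₁) (h₂ : Stk.IsStack J 𝒮₂) (h₃ : Stk.IsStack J 𝒯₁) (F : 𝒮₂ ⥤ᵇ 𝒮₁) (G : 𝒯₁ ⥤ᵇ 𝒮₁)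
    (hF : ∀ y : 𝒮₁.obj, ∃ R ∈ J (𝒮₁.p.obj y), ∀ ⦃V : C⦄ (f : V ⟶ 𝒮₁.p.obj y), R f →
      ∃ (x : 𝒮₂.obj) (φ : F.obj x ⟶ y), 𝒮₁.p.IsHomLift f φ)
    (hG' : (FibCat.fpFst F G).toFunctor.Faithful) : G.toFunctor.Faithful := by
  -- vertical endomorphisms killed by `G` are identities
  have key : ∀ (t : 𝒯₁.obj) (χ : t ⟶ t), 𝒯₁.p.IsHomLift (𝟙 (𝒯₁.p.obj t)) χ →
      G.map χ = 𝟙 (G.obj t) → χ = 𝟙 t := by
    intro t χ hχ hGχ
    refine Groth.Agent.Lib.Helper32.StkLoc.loc J h₁.1 h₃ F G hF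
      (fun z γ => G.map γ = 𝟙 (G.obj z)) ?_ ?_ t χ hχ hGχ
    · intro z t φ γ χ hγ hγl hχ
      haveI := hγl
      haveI sc : 𝒮₁.p.IsStronglyCartesian (𝒯₁.p.map φ) (G.map φ) :=
        IsFibGrpd.isStronglyCartesian' 𝒮₁.p h₁.1 _ (G.map φ)
      haveI : 𝒮₁.p.IsHomLift (𝟙 (𝒯₁.p.obj z)) (𝟙 (G.obj z)) := inferInstance
      apply IsStronglyCartesian.ext 𝒮₁.p (𝒯₁.p.map φ) (G.map φ) (𝟙 (𝒯₁.p.obj z))
      rw [← G.map_comp, hγ, G.map_comp, hχ, Category.comp_id, Category.id_comp]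
    · intro x z θ hθ γ hγl hGγ
      let P : (FibCat.fp F G).obj := ⟨⟨x, z, θ⟩, hθ⟩
      let Φ : P ⟶ P := ObjectProperty.homMk
        { fst := 𝟙 x
          snd := γ
          w := by
            change F.map (𝟙 x) ≫ θ.hom = θ.hom ≫ G.map γ
            rw [hGγ, F.map_id, Category.id_comp, Category.comp_id] }
      have e : (FibCat.fpFst F G).toFunctor.map Φ = (FibCat.fpFst F G).toFunctor.map (𝟙 P) := rfl
      have e' : Φ = 𝟙 P := hG'.map_injective e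
      exact congrArg (fun m => m.hom.snd) e'
  constructor
  intro t t' α β hαβ
  haveI hα : 𝒯₁.p.IsHomLift (𝒯₁.p.map β) α := by
    rw [← G.isHomLift_iff]
    change 𝒮₁.p.IsHomLift (𝒯₁.p.map β) (G.toFunctor.map α)
    rw [hαβ]
    exact G.preserves_isHomLift (𝒯₁.p.map β) β
  haveI scβ : 𝒯₁.p.IsStronglyCartesian (𝒯₁.p.map β) β := h₃.1.isStronglyCartesian β
  have hg : 𝒯₁.p.map β = 𝟙 _ ≫ 𝒯₁.p.map β := (Category.id_comp _).symm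
  let χ : t ⟶ t := IsStronglyCartesian.map 𝒯₁.p _ β hg α
  have hχl : 𝒯₁.p.IsHomLift (𝟙 (𝒯₁.p.obj t)) χ := IsStronglyCartesian.map_isHomLift 𝒯₁.p _ β hg α
  have hχ : χ ≫ β = α := IsStronglyCartesian.fac 𝒯₁.p _ β hg α
  have hGχ : G.map χ = 𝟙 (G.obj t) := by
    haveI := hχl
    haveI sc : 𝒮₁.p.IsStronglyCartesian (𝒯₁.p.map β) (G.map β) :=
      IsFibGrpd.isStronglyCartesian' 𝒮₁.p h₁.1 _ (G.map β)
    haveI : 𝒮₁.p.IsHomLift (𝟙 (𝒯₁.p.obj t)) (𝟙 (G.obj t)) := inferInstance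
    apply IsStronglyCartesian.ext 𝒮₁.p (𝒯₁.p.map β) (G.map β) (𝟙 (𝒯₁.p.obj t))
    rw [← G.map_comp, hχ, Category.id_comp]
    exact hαβ
  have := key t χ hχl hGχ
  rw [← hχ, this, Category.id_comp]

end Groth.Agent.S12798
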