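import Groth.Statements.S12799
import Groth.Agent.Lib.Helper32.StkLoc

set_option autoImplicit false
open CategoryTheory
universe w v u
open Stk
open CategoryTheory.Functor

namespace Groth.Agent.S12799

open Groth.Agent.Lib.Helper80 Groth.Agent.Lib.Helper45 in
theorem result {C : Type u} [Category.{v} C] (J : GrothendieckTopology C) {𝒮₁ 𝒮₂ 𝒯₁ : BasedCategory.{v, max u v} C}
    (h₁ : Stk.IsStack J 𝒮₁) (h₂ : Stk.IsStack J 𝒮₂) (h₃ : Stk.IsStack J 𝒯₁) (F : 𝒮₂ ⥤ᵇ 𝒮₁) [F.toFunctor.Full] [F.toFunctor.Faithful]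
    (hF : ∀ y : 𝒮₁.obj, ∃ R ∈ J (𝒮₁.p.obj y), ∀ ⦃V : C⦄ (f : V ⟶ 𝒮₁.p.obj y), R f →
      ∃ (x : 𝒮₂.obj) (φ : F.obj x ⟶ y), 𝒮₁.p.IsHomLift f φ)
    (G : 𝒯₁ ⥤ᵇ 𝒮₁) (h : FibCat.IsFibSetoid (FibCat.fp F G).p) : FibCat.IsFibSetoid 𝒯₁.p := by
  have key : ∀ (t : 𝒯₁.obj) (χ : t ⟶ t), 𝒯₁.p.IsHomLift (𝟙 (𝒯₁.p.obj t)) χ → χ = 𝟙 t := by
    intro t χ hχ
    refine Groth.Agent.Lib.Helper32.StkLoc.loc J h₁.1 h₃ F G hF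
      (fun _ _ => True) (fun _ _ _ _ _ _ => trivial) ?_ t χ hχ trivial
    intro x z θ hθ γ hγl _
    obtain ⟨a, ha⟩ := F.toFunctor.map_surjective (θ.hom ≫ G.map γ ≫ θ.inv)
    let P : (FibCat.fp F G).obj := ⟨⟨x, z, θ⟩, hθ⟩
    let Φ : P ⟶ P := ObjectProperty.homMk
      { fst := a
        snd := γ
        w := by
          change F.toFunctor.map a ≫ θ.hom = θ.hom ≫ G.map γ
          rw [ha]; simp }
    have hxz : 𝒯₁.p.obj z = 𝒮₂.p.obj x :=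
      (G.w_obj z).symm.trans (IsHomLift.codomain_eq 𝒮₁.p (𝟙 (𝒮₂.p.obj x)) θ.hom)
    haveI := hθ
    haveI := hγl
    haveI : 𝒮₁.p.IsHomLift (𝟙 (𝒯₁.p.obj z)) (G.map γ) := inferInstance
    haveI : 𝒮₁.p.IsHomLift (𝟙 (𝒮₂.p.obj x)) (G.map γ) := isHomLift_id_of_eq 𝒮₁.p hxz (G.map γ)
    haveI hΦ : (FibCat.fp F G).p.IsHomLift (𝟙 (𝒮₂.p.obj x)) Φ := by
      rw [fp_isHomLift_iff]
      change 𝒮₂.p.IsHomLift (𝟙 (𝒮₂.p.obj x)) a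
      rw [← F.isHomLift_iff]
      change 𝒮₁.p.IsHomLift (𝟙 (𝒮₂.p.obj x)) (F.toFunctor.map a)
      rw [ha]
      infer_instance
    have hthin := h.2 (𝒮₂.p.obj x)
    let A : (FibCat.fp F G).p.Fiber (𝒮₂.p.obj x) := ⟨P, rfl⟩
    have e : (⟨Φ, hΦ⟩ : A ⟶ A) = 𝟙 A := Subsingleton.elim _ _
    have e' : Φ = 𝟙 P := congrArg Subtype.val e
    exact congrArg (fun m => m.hom.snd) e'
  refine ⟨h₃.1, fun U a b => ⟨fun m m' => ?_⟩⟩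
  obtain ⟨a, rfl⟩ := a
  obtain ⟨b, hb⟩ := b
  apply Functor.Fiber.hom_ext
  have hm := m.2
  have hm' := m'.2
  haveI : IsIso m'.1 := IsFibGrpd.isIso_of_base_isIso 𝒯₁.p h₃.1 (𝟙 (𝒯₁.p.obj a)) m'.1
  have hχ : 𝒯₁.p.IsHomLift (𝟙 (𝒯₁.p.obj a)) (m.1 ≫ inv m'.1) := inferInstance
  have := key a (m.1 ≫ inv m'.1) hχ
  have e2 : m.1 = (m.1 ≫ inv m'.1) ≫ m'.1 := by simp
  change m.1 = m'.1
  rw [e2, this, Category.id_comp]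

end Groth.Agent.S12799
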