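import Groth.Statements.S12806
-- import your own Groth.Agent.* helpers here
import Groth.Statements.S12806
import Groth.Agent.Lib.Helper80.FibCat4
import Groth.Agent.Lib.Helper45.FpFib

set_option autoImplicit false
open CategoryTheory
universe v u
open FibCat
open CategoryTheory.Functor

namespace Groth.Agent.S12806

theorem selfOver_isFibGrpd' {C : Type u} [Category.{v} C] : FibCat.IsFibGrpd (FibCat.selfOver C).p where
  exists_lift := fun {x} {V} f => ⟨V, f, IsHomLift.map (FibCat.selfOver C).p f⟩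
  isStronglyCartesian := fun {y x} φ =>
    { universal_property' := fun {a'} g φ' hφ' => by
        have hg : g ≫ φ = φ' :=
          IsHomLift.eq_of_isHomLift (FibCat.selfOver C).p (g ≫ (FibCat.selfOver C).p.map φ) φ'
        refine ⟨g, ⟨IsHomLift.map (FibCat.selfOver C).p g, hg⟩, ?_⟩
        rintro χ ⟨hχ, -⟩
        exact (IsHomLift.eq_of_isHomLift (FibCat.selfOver C).p g χ).symm }

theorem result {C : Type u} [Category.{v} C] {𝒮 : BasedCategory.{v, max u v} C} (h𝒮 : FibCat.IsFibGrpd 𝒮.p)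
    (U : C) (x y : FibCat.overCat U ⥤ᵇ 𝒮)
    (e : BasedFunctor.comp x (FibCat.toSelf 𝒮) ≅ BasedFunctor.comp y (FibCat.toSelf 𝒮)) :
    FibCat.IsFibSetoid (FibCat.fpFst (FibCat.fpLift x y e) (FibCat.diag (FibCat.toSelf 𝒮))).toFunctor := by
  have hSS : FibCat.IsFibGrpd (FibCat.fp (FibCat.toSelf 𝒮) (FibCat.toSelf 𝒮)).p :=
    Groth.Agent.Lib.Helper80.fp_isFibGrpd _ _ h𝒮 h𝒮 selfOver_isFibGrpd'
  refine ⟨Groth.Agent.Lib.Helper45.fpFst_isFibGrpd _ _ h𝒮 hSS, ?_⟩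
  intro t a b
  constructor
  intro Φ Ψ
  apply Functor.Fiber.hom_ext
  have hΦ := Φ.2
  have hΨ := Ψ.2
  have h1 : Φ.1.hom.fst = Ψ.1.hom.fst := by
    have e1 := IsHomLift.fac' (fpFst (fpLift x y e) (diag (toSelf 𝒮))).toFunctor (𝟙 t) Φ.1
    have e2 := IsHomLift.fac' (fpFst (fpLift x y e) (diag (toSelf 𝒮))).toFunctor (𝟙 t) Ψ.1
    exact e1.trans e2.symm
  have w1 := Φ.1.hom.w
  have w2 := Ψ.1.hom.w
  have h2 : (diag (toSelf 𝒮)).map Φ.1.hom.snd = (diag (toSelf 𝒮)).map Ψ.1.hom.snd := by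
    have a1 : (diag (toSelf 𝒮)).map Φ.1.hom.snd = a.1.obj.iso.inv ≫ (fpLift x y e).map Φ.1.hom.fst ≫ b.1.obj.iso.hom := by
      rw [Iso.eq_inv_comp]; exact w1.symm
    have a2 : (diag (toSelf 𝒮)).map Ψ.1.hom.snd = a.1.obj.iso.inv ≫ (fpLift x y e).map Ψ.1.hom.fst ≫ b.1.obj.iso.hom := by
      rw [Iso.eq_inv_comp]; exact w2.symm
    rw [a1, a2, h1]
  have h3 : Φ.1.hom.snd = Ψ.1.hom.snd := congrArg (fun m => m.hom.fst) h2
  apply ObjectProperty.hom_ext
  exact Limits.CategoricalPullback.hom_ext h1 h3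

end Groth.Agent.S12806
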