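import Groth.Statements.S12807
-- import your own Groth.Agent.* helpers here

set_option autoImplicit false
open CategoryTheory CategoryTheory.Limits
universe v₃ u₃ v₂ u₂ v u
open FibCat

namespace Groth.Agent.S12807

set_option backward.isDefEq.respectTransparency false in
theorem aux {C : Type u} [Category.{v} C] {D : Type u₂} [Category.{v₂} D] (u : C ⥤ D)
    (𝒮 : BasedCategory.{v₃, u₃} D) [𝒮.p.IsFibered] :
    (CategoricalPullback.π₁ u 𝒮.p).IsFibered := by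
  apply Functor.IsFibered.of_exists_isStronglyCartesian
  intro P R f₀
  let f : R ⟶ P.fst := f₀
  -- a cartesian lift of `u f ≫ e` in `𝒮`
  let f' : u.obj R ⟶ 𝒮.p.obj P.snd := u.map f ≫ P.iso.hom
  obtain ⟨y', φ, hφ⟩ := IsPreFibered.exists_isCartesian 𝒮.p (a := P.snd) rfl f'
  have hφs : 𝒮.p.IsStronglyCartesian f' φ := inferInstance
  have hy' : 𝒮.p.obj y' = u.obj R := IsHomLift.domain_eq 𝒮.p f' φ
  have hφmap : 𝒮.p.map φ = eqToHom hy' ≫ f' := by
    rw [IsHomLift.fac' 𝒮.p f' φ]; simp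
  let P' : CategoricalPullback u 𝒮.p := ⟨R, y', eqToIso hy'.symm⟩
  let m : P' ⟶ P := ⟨f, φ, by
    change u.map f ≫ P.iso.hom = eqToHom hy'.symm ≫ 𝒮.p.map φ
    rw [hφmap]; simp [f']⟩
  refine ⟨P', m, ?_⟩
  have hml : (CategoricalPullback.π₁ u 𝒮.p).IsHomLift f₀ m :=
    IsHomLift.map (CategoricalPullback.π₁ u 𝒮.p) m
  refine ⟨fun {Q} g₀ ψ hψ => ?_⟩
  let g : Q.fst ⟶ R := g₀
  have hψ1 : g ≫ f = ψ.fst :=
    IsHomLift.eq_of_isHomLift (CategoricalPullback.π₁ u 𝒮.p) (g₀ ≫ f₀) ψ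
  let g'' : 𝒮.p.obj Q.snd ⟶ u.obj R := Q.iso.inv ≫ u.map g
  have hψ2 : 𝒮.p.IsHomLift (g'' ≫ f') ψ.snd := by
    apply IsHomLift.of_fac' 𝒮.p (g'' ≫ f') ψ.snd rfl rfl
    have hw := ψ.w
    simp only [eqToHom_refl, Category.comp_id, Category.id_comp, g'', f', Category.assoc]
    rw [← u.map_comp_assoc, hψ1, hw, Iso.inv_hom_id_assoc]
  obtain ⟨χ₂, ⟨hχ₂l, hχ₂c⟩, hχ₂u⟩ :=
    Functor.IsStronglyCartesian.universal_property 𝒮.p f' φ g'' (g'' ≫ f') rfl ψ.snd
  have hχ₂map : 𝒮.p.map χ₂ = g'' ≫ eqToHom hy'.symm := by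
    rw [IsHomLift.fac' 𝒮.p g'' χ₂]; simp
  let χ : Q ⟶ P' := ⟨g, χ₂, by
    change u.map g ≫ eqToHom hy'.symm = Q.iso.hom ≫ 𝒮.p.map χ₂
    rw [hχ₂map]; simp [g'']⟩
  refine ⟨χ, ⟨IsHomLift.map (CategoricalPullback.π₁ u 𝒮.p) χ, ?_⟩, ?_⟩
  · apply CategoricalPullback.hom_ext
    · exact hψ1
    · exact hχ₂c
  · rintro χ' ⟨hχ'l, hχ'c⟩
    have h1 : g = χ'.fst := IsHomLift.eq_of_isHomLift (CategoricalPullback.π₁ u 𝒮.p) g₀ χ'
    have h2 : χ'.snd ≫ φ = ψ.snd := by rw [← hχ'c]; rfl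
    have h3 : 𝒮.p.IsHomLift g'' χ'.snd := by
      apply IsHomLift.of_fac' 𝒮.p g'' χ'.snd rfl hy'
      have hw := χ'.w
      change u.map χ'.fst ≫ eqToHom hy'.symm = Q.iso.hom ≫ 𝒮.p.map χ'.snd at hw
      simp only [eqToHom_refl, Category.id_comp, g'', Category.assoc]
      rw [h1, hw]; simp
    apply CategoricalPullback.hom_ext
    · exact h1.symm
    · exact hχ₂u χ'.snd ⟨h3, h2⟩

/-- Let `u : C ⥤ D` be a functor and `𝒮` a category over `D` whose structure functor is a fibred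
category. Then the 2-fibre product `C ×_D 𝒮` of `u` and the structure functor (triples `(U, y, u U ≅
p y)`), with its first projection, is a fibred category over `C`. (The published statement uses the
strict fibre product, pairs with `u U = p y`; for `𝒮` fibred over `D` it is equivalent over `C` to
the 2-fibre product used here.) -/
theorem result {C : Type u} [Category.{v} C] {D : Type u₂} [Category.{v₂} D] (u : C ⥤ D)
    (𝒮 : BasedCategory.{v₃, u₃} D) [𝒮.p.IsFibered] :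
    (CategoricalPullback.π₁ u 𝒮.p).IsFibered :=
  aux u 𝒮

end Groth.Agent.S12807
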