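import Groth.Statements.S12816
import Groth.Agent.Lib.Helper80.FibCat24

set_option backward.isDefEq.respectTransparency false

set_option autoImplicit false
open CategoryTheory
universe v u
open Stk

namespace Groth.Agent.S12816


open Groth.Agent.Lib.Helper80 in
/-- Evaluation at the identity intertwines postcomposition and the fibre functor. -/
def sqIso {C : Type u} [Category.{v} C] {𝒳 𝒴 : BasedCategory.{v, max u v} C}
    (F : 𝒳 ⥤ᵇ 𝒴) (U : C) :
    postcomp (FibCat.overCat U) F ⋙ FibCat.evalAtId 𝒴 U ≅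
      FibCat.evalAtId 𝒳 U ⋙ FibCat.fiberFunctor F U :=
  NatIso.ofComponents (fun G => Iso.refl _) (by
    intro G G' α
    apply Functor.Fiber.hom_ext
    simp
    rfl)

open Groth.Agent.Lib.Helper80 in
theorem key {C : Type u} [Category.{v} C] {𝒳 𝒴 : BasedCategory.{v, max u v} C}
    (h𝒳 : FibCat.IsFibGrpd 𝒳.p) (h𝒴 : FibCat.IsFibGrpd 𝒴.p) (F : 𝒳 ⥤ᵇ 𝒴) (U : C) :
    ((postcomp (FibCat.overCat U) F).Full ∧ (postcomp (FibCat.overCat U) F).Faithful) ↔
      ((FibCat.fiberFunctor F U).Full ∧ (FibCat.fiberFunctor F U).Faithful) := by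
  have h1 := evalAtId_isEquivalence_of_isFibGrpd (U := U) h𝒳
  have h2 := evalAtId_isEquivalence_of_isFibGrpd (U := U) h𝒴
  exact full_faithful_of_square (FibCat.evalAtId 𝒳 U) (FibCat.evalAtId 𝒴 U)
    (postcomp (FibCat.overCat U) F) (FibCat.fiberFunctor F U) (sqIso F U)

/-- Let `𝒳`, `𝒴` be fibred in groupoids over `C` and `F : 𝒳 ⟶ 𝒴` a functor over `C`. Then the underlying
functor of `F` is fully faithful if and only if, for every object `U` of `C`, postcomposition with
`F` is a fully faithful functor from the category of functors `C/U ⟶ 𝒳` over `C` to that of functors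
`C/U ⟶ 𝒴` over `C`; under the 2-Yoneda lemma the latter says that `F` induces bijections between
morphisms of pullbacks `x|_V ⟶ y|_V` and `F(x)|_V ⟶ F(y)|_V` for all objects `x, y` over `U` and all
`V ⟶ U`, that is, isomorphisms of the presheaves of morphisms. (The published statement is for
stacks over a site, not necessarily in groupoids; the stack property plays no role and is not
assumed here, and this row treats categories fibred in groupoids.) -/
theorem result {C : Type u} [Category.{v} C] {𝒳 𝒴 : BasedCategory.{v, max u v} C}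
    (h𝒳 : FibCat.IsFibGrpd 𝒳.p) (h𝒴 : FibCat.IsFibGrpd 𝒴.p) (F : 𝒳 ⟶ 𝒴) :
    (F.toFunctor.Full ∧ F.toFunctor.Faithful) ↔
      ∀ U : C, (Bicategory.postcomp (FibCat.overCat U) F).Full ∧ (Bicategory.postcomp (FibCat.overCat U) F).Faithful := by
  have hpc : ∀ U : C, Bicategory.postcomp (FibCat.overCat U) F =
      Groth.Agent.Lib.Helper80.postcomp (FibCat.overCat U) F := fun U => rfl
  constructor
  · rintro ⟨h1, h2⟩ U
    rw [hpc U, key h𝒳 h𝒴 F U]
    exact ⟨Groth.Agent.Lib.Helper80.fiberFunctor_full_of_full F U,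
      Groth.Agent.Lib.Helper80.fiberFunctor_faithful_of_faithful F U⟩
  · intro h
    have h' : ∀ U : C, (FibCat.fiberFunctor F U).Full ∧ (FibCat.fiberFunctor F U).Faithful := by
      intro U
      have := h U
      rw [hpc U, key h𝒳 h𝒴 F U] at this
      exact this
    exact ⟨Groth.Agent.Lib.Helper80.full_of_fiberFunctor_full F h𝒳 h𝒴 (fun U => (h' U).1),
      Groth.Agent.Lib.Helper80.faithful_of_fiberFunctor_faithful F h𝒳 h𝒴 (fun U => (h' U).2)⟩

end Groth.Agent.S12816
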