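import Groth.Statements.S12824
import Groth.Agent.Lib.Helper80.AlgStPts5
import Groth.Agent.Lib.Helper80.AlgStLoft

set_option backward.isDefEq.respectTransparency false

set_option autoImplicit false
universe u
open CategoryTheory AlgebraicGeometry
open AlgSt

namespace Groth.Agent.S12824

/-- For an algebraic stack `𝒳` over `S`, every open neighbourhood of a point of `|𝒳|` contains a
quasi-compact open neighbourhood of that point; hence `|𝒳|` is locally quasi-compact. -/
theorem result {S : Scheme.{u}} {𝒳 : AlgSt.Cat S}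
    (h𝒳 : AlgSt.IsAlgStack Scheme.fppfPrecoverage 𝒳) (x : AlgSt.Points 𝒳) (W : Set (AlgSt.Points 𝒳)) (hW : IsOpen W) (hx : x ∈ W) :
    ∃ V : Set (AlgSt.Points 𝒳), IsOpen V ∧ IsCompact V ∧ x ∈ V ∧ V ⊆ W := by
  obtain ⟨U, a, ha1, ha2⟩ := h𝒳.atlas
  have hfl : AlgSt.RepByAlgSpWith (AlgSp.LocP @Flat) a :=
    Groth.Agent.Lib.Helper80.repByAlgSpWith_locP_mono (fun _ _ k hk => by
      have : Smooth k := hk
      exact (inferInstance : Flat k)) ha1
  have hfp : AlgSt.RepByAlgSpWith (AlgSp.LocP @LocallyOfFinitePresentation) a :=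
    Groth.Agent.Lib.Helper80.repByAlgSpWith_locP_mono (fun _ _ k hk => by
      have : Smooth k := hk
      exact (inferInstance : LocallyOfFinitePresentation k)) ha1
  obtain ⟨t, rfl⟩ := Groth.Agent.Lib.Helper80.surjective_ofChart h𝒳.isStack.1 a ha2 x
  have hcont := Groth.Agent.Lib.Helper80.continuous_ofChart h𝒳.atlas a
  have hopen := Groth.Agent.Lib.Helper80.isOpenMap_ofChart h𝒳.isStack.1 a hfl hfp
  have hW' : IsOpen (AlgSt.Points.ofChart a ⁻¹' W) := hcont.isOpen_preimage W hW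
  have hx' : t ∈ (⟨_, hW'⟩ : TopologicalSpace.Opens U.left) := hx
  obtain ⟨U₀, hU₀aff, htU₀, hU₀W⟩ :=
    (TopologicalSpace.Opens.isBasis_iff_nbhd.mp (Scheme.isBasis_affineOpens U.left)) hx'
  refine ⟨AlgSt.Points.ofChart a '' (U₀ : Set U.left), hopen _ U₀.2,
    (IsAffineOpen.isCompact hU₀aff).image hcont, ⟨t, htU₀, rfl⟩, ?_⟩
  rintro _ ⟨s, hs, rfl⟩
  exact hU₀W hs

end Groth.Agent.S12824
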