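import Groth.Statements.S12848
import Groth.Agent.Lib.Helper80.AlgStUniv
import Groth.Agent.S10531

set_option backward.isDefEq.respectTransparency false

set_option autoImplicit false
open CategoryTheory AlgebraicGeometry
universe u
open AlgSt

namespace Groth.Agent.S12848

/-- A monomorphism `f : 𝒳 ⟶ 𝒴` of algebraic stacks over `S` induces an injective map `|𝒳| → |𝒴|` on
points. -/
theorem result {S : Scheme.{u}} {𝒳 𝒴 : AlgSt.Cat S}
    (h𝒳 : AlgSt.IsAlgStack Scheme.fppfPrecoverage 𝒳) (h𝒴 : AlgSt.IsAlgStack Scheme.fppfPrecoverage 𝒴) (f : 𝒳 ⥤ᵇ 𝒴) (hf : AlgSt.IsMono f) :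
    Function.Injective (AlgSt.Points.map f) := by
  have hrep : AlgSt.RepByAlgSp1 f := Groth.Agent.Lib.Helper80.repByAlgSp1_of_repByAlgSpWith _ hf
  have h1 : AlgSt.RepByAlgSpWith (AlgSp.UnivSp (Groth.Agent.Lib.Helper80.spProp
      (fun {_ _} _ _ p => Function.Injective p))) f := by
    intro U y
    obtain ⟨F, e, he, hm⟩ := hf U y
    refine ⟨F, e, he, ?_⟩
    have : Mono (AlgSt.spMapOfOver (BasedFunctor.comp e (FibCat.fpFst y f))) := hm
    exact Groth.Agent.S10531.isUnivInjectiveMor_of_mono _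
  have h2 : Function.Injective (AlgSt.Points.map (FibCat.fpFst (BasedFunctor.id 𝒴) f)) :=
    (Groth.Agent.Lib.Helper80.repByAlgSpWith_univSp_iff Groth.Agent.Lib.Helper80.topDesc_injective
      h𝒳 h𝒴 f hrep).mp h1 𝒴 h𝒴 (BasedFunctor.id 𝒴)
  obtain ⟨d, ⟨η⟩, -⟩ := Groth.Agent.Lib.Helper80.fpIdLeftInv_isEquivOver f
  have h3 : Function.Injective (AlgSt.Points.map (Groth.Agent.Lib.Helper80.fpIdLeftInv f)) := by
    have e1 := Groth.Agent.Lib.Helper80.points_map_eq_of_iso η
    rw [Groth.Agent.Lib.Helper80.points_map_comp, Groth.Agent.Lib.Helper80.points_map_id] at e1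
    exact Function.Injective.of_comp (f := AlgSt.Points.map d) (by rw [e1]; exact Function.injective_id)
  have e2 : AlgSt.Points.map f = AlgSt.Points.map (FibCat.fpFst (BasedFunctor.id 𝒴) f) ∘
      AlgSt.Points.map (Groth.Agent.Lib.Helper80.fpIdLeftInv f) := by
    rw [← Groth.Agent.Lib.Helper80.points_map_comp]
    exact Groth.Agent.Lib.Helper80.points_map_eq_of_iso (BasedNatIso.id _ : f ≅
      BasedFunctor.comp (Groth.Agent.Lib.Helper80.fpIdLeftInv f) (FibCat.fpFst (BasedFunctor.id 𝒴) f))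
  rw [e2]
  exact h2.comp h3

end Groth.Agent.S12848
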