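import Groth.Statements.S1285
import Mathlib
import Groth.Agent.Lib.Helper95.FibDimA
import Groth.Agent.Lib.Helper95.FibDimB
import Groth.Agent.Lib.Helper95.FibDimC

set_option autoImplicit false
universe u
open FlatMor

namespace Groth.Agent.S1285

/-- Let (C, D, G) be a one-step dévissage of N/S/R over the prime p (see FlatCA.IsOneStepDevissage), and
suppose pD is prime (the generic point of the fibre of Spec D). Then there are r > 0 and a D-linear
map α from D^r to G which becomes bijective after base change to the residue field of pD; moreover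
for every such α the support of the fibre module over p of the cokernel of α has dimension strictly
less than that of the fibre module of N. -/
theorem result {R S : Type u} [CommRing R] [CommRing S] [Algebra R S] [Algebra.FiniteType R S]
    (N : Type u) [AddCommGroup N] [Module S N] [Module R N] [IsScalarTower R S N] [Module.Finite S N] (p : Ideal R) [p.IsPrime]
    (C D G : Type u) [CommRing C] [CommRing D] [Algebra S C] [Algebra R C] [IsScalarTower R S C]
    [Algebra R D] [Algebra D C] [IsScalarTower R D C] [AddCommGroup G] [Module C G] [Module S G] [IsScalarTower S C G]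
    [Module D G] [IsScalarTower D C G] [Module R G] [IsScalarTower R D G]
    (n : ℕ) (h : FlatCA.IsOneStepDevissage R S N p C D G n) [(p.map (algebraMap R D)).IsPrime] :
    (∃ (r : ℕ) (α : (Fin r → D) →ₗ[D] G), 0 < r ∧ Function.Bijective (α.baseChange (p.map (algebraMap R D)).ResidueField)) ∧
    ∀ (r : ℕ) (α : (Fin r → D) →ₗ[D] G), Function.Bijective (α.baseChange (p.map (algebraMap R D)).ResidueField) →
      Module.supportDim (p.Fiber D) (FlatCA.fiberMod p D (G ⧸ LinearMap.range α)) < (n : WithBot ℕ∞) := by
  obtain ⟨⟨eNG⟩, hsurj, -, hfinDC, hfinCG, hsm, -, hdim⟩ := h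
  have := hfinDC
  have := hfinCG
  have : Module.Finite D G := Module.Finite.trans C G
  have : Algebra.IsIntegral D C := inferInstance
  have hn : ringKrullDim (p.Fiber D) ≤ (n : WithBot ℕ∞) :=
    Groth.Agent.Lib.Helper95.FibDimB.ringKrullDim_fiber_le n hsm p
  have key : ∀ (Q : Type u) [AddCommGroup Q] [Module D Q] [Module R Q] [IsScalarTower R D Q]
      [Module.Finite D Q], Subsingleton (TensorProduct D (p.map (algebraMap R D)).ResidueField Q) →
      Module.supportDim (p.Fiber D) (FlatCA.fiberMod p D Q) < (n : WithBot ℕ∞) := by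
    intro Q _ _ _ _ _ hsub
    obtain ⟨s, hs, hsQ⟩ := Groth.Agent.Lib.Helper95.FibDimA.exists_notMem_forall_smul_eq_zero
      (p.map (algebraMap R D)) Q hsub
    exact Groth.Agent.Lib.Helper95.FibDimA.supportDim_fiberMod_lt p Q s hs hsQ n hn
  constructor
  · obtain ⟨r, α, hbij, hr⟩ := Groth.Agent.Lib.Helper95.FibDimA.exists_alpha (D := D)
      (p.map (algebraMap R D)).ResidueField G
    refine ⟨r, α, ?_, hbij⟩
    rcases hr with hr | hsub
    · exact hr
    · exfalso
      obtain ⟨s, hs, hsG⟩ := Groth.Agent.Lib.Helper95.FibDimA.exists_notMem_forall_smul_eq_zero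
        (p.map (algebraMap R D)) G hsub
      obtain ⟨σ, hσ⟩ := hsurj (algebraMap D C s)
      have hkerN : ∀ a : S, algebraMap S C a = 0 → ∀ x : N, a • x = 0 := by
        intro a ha x
        apply eNG.injective
        rw [map_smul, map_zero, ← algebraMap_smul C a (eNG x), ha, zero_smul]
      have hσN : ∀ x : N, σ • x = 0 := by
        intro x
        apply eNG.injective
        rw [map_smul, map_zero, ← algebraMap_smul C σ (eNG x), hσ, algebraMap_smul, hsG]
      have hle := Groth.Agent.Lib.Helper95.FibDimC.supportDim_fiberMod_le_krullDim_zeroLocus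
        (C := C) (D := D) p N hsurj σ s hσ hkerN hσN
      have hlt := Groth.Agent.Lib.Helper95.FibDimA.krullDim_lt_of_subset_zeroLocus _
        (Groth.Agent.Lib.Helper95.FibDimA.fiber_nzd p s hs) n hn
        _ (Set.Subset.refl _)
      rw [hdim] at hle
      exact absurd (lt_of_le_of_lt hle hlt) (lt_irrefl _)
  · intro r α hbij
    exact key (G ⧸ LinearMap.range α)
      (Groth.Agent.Lib.Helper95.FibDimA.subsingleton_tensor_quot
        (p.map (algebraMap R D)).ResidueField α hbij.2)

end Groth.Agent.S1285
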