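import Groth.Statements.S12854
import Groth.Agent.Lib.Helper80.AlgStSmLoc

set_option autoImplicit false
open CategoryTheory AlgebraicGeometry
universe u
open AlgSt

set_option backward.isDefEq.respectTransparency false

namespace Groth.Agent.S12854

open Groth.Agent.Lib.Helper80 in
theorem main {S : Scheme.{u}} (U : Over S) (P : Scheme.{u} → Prop)
    (hP : ∀ (U : Scheme.{u}) (R : Presieve U), R ∈ Scheme.precoverage @Smooth U →
      (P U ↔ ∀ ⦃V : Scheme.{u}⦄ (g : V ⟶ U), R g → P V)) :
    AlgSt.SmoothLocally P (AlgSt.ofSch U) ↔ P U.left := by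
  have hP' : SmLocalProp P := hP
  have h1 := smoothLocally_ofSp_iff hP' ((AlgSp.ofScheme S).obj U)
  change AlgSt.SmoothLocally P (AlgSt.ofSp ((AlgSp.yon S).obj U)) ↔ _
  refine h1.trans ?_
  constructor
  · rintro ⟨V, p, hp1, hp2, hPV⟩
    obtain ⟨g, rfl⟩ := (AlgSp.yon S).map_surjective p
    have hg1 : Etale g.left := (AlgSp.repWith_yon_map_iff @Etale g).1 hp1
    have hg2 : Surjective g.left := (AlgSp.repWith_yon_map_iff @Surjective g).1 hp2
    exact hP'.of_smooth_surjective g.left inferInstance hg2 hPV
  · intro hPU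
    exact ⟨U, 𝟙 _, AlgSp.repWith_id _ U, AlgSp.repWith_id _ U, hPU⟩

end Groth.Agent.S12854

namespace Groth.Agent.S12854

/-- Suppose `P`, a property of schemes, is local for the smooth topology (for every jointly surjective
family of smooth morphisms `V_i ⟶ U`, `U` has `P` if and only if every `V_i` has `P`) and `U` a
scheme over `S`. Then every scheme admitting a smooth morphism to (the algebraic stack of) `U` has
`P` if and only if `U` has `P`. -/
theorem result {S : Scheme.{u}} (U : Over S) (P : Scheme.{u} → Prop)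
    (hP : ∀ (U : Scheme.{u}) (R : Presieve U), R ∈ Scheme.precoverage @Smooth U →
      (P U ↔ ∀ ⦃V : Scheme.{u}⦄ (g : V ⟶ U), R g → P V)) :
    AlgSt.SmoothLocally P (AlgSt.ofSch U) ↔ P U.left := by

  exact Groth.Agent.S12854.main U P hP

end Groth.Agent.S12854
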