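import Groth.Statements.S12868
-- import your own Groth.Agent.* helpers here

set_option autoImplicit false
open CategoryTheory AlgebraicGeometry
universe u
open AlgSt

namespace Groth.Agent.S12868

/-- A representable immersion into a representable sheaf is a monomorphism of sheaves. -/
theorem mono_of_repWith_isImmersion {S : Scheme.{u}} {F : AlgSp.Sp S} {U : Over S}
    (g : F ⟶ (AlgSp.yon S).obj U) (hg : AlgSp.RepWith @IsImmersion g) : Mono g := by
  obtain ⟨hrep, hP⟩ := (AlgSp.repWith_iff _ g).1 hg
  obtain ⟨V, snd, fst, hpb⟩ := hrep (𝟙 ((AlgSp.yon S).obj U))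
  have himm : IsImmersion snd.left := hP _ _ _ hpb
  have hiso : IsIso fst := hpb.isIso_fst_of_isIso
  have hmono : Mono snd := by
    have : Mono ((Over.forget S).map snd) := by
      change Mono snd.left
      infer_instance
    exact (Over.forget S).mono_of_mono_map this
  have hmono' : Mono ((AlgSp.yon S).map snd) := inferInstance
  have hw : fst ≫ g = (AlgSp.yon S).map snd := by
    simpa using hpb.w
  have : g = inv fst ≫ (AlgSp.yon S).map snd := by
    rw [← hw, IsIso.inv_hom_id_assoc]
  rw [this]
  infer_instance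

theorem result {S : Scheme.{u}} {𝒳 𝒴 : AlgSt.Cat S} (f : 𝒳 ⥤ᵇ 𝒴)
    (hf : AlgSt.IsImm f) : AlgSt.IsMono f := by
  intro U y
  obtain ⟨F, e, he, hP⟩ := hf U y
  exact ⟨F, e, he, mono_of_repWith_isImmersion _ hP⟩

end Groth.Agent.S12868
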