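import Groth.Statements.S12899
import Groth.Agent.Lib.Helper46.FlatGlueBC
import Groth.Agent.Lib.Helper12.DRingPCRep

set_option autoImplicit false
universe u
open CategoryTheory CategoryTheory.Limits
attribute [local instance] HasDerivedCategory.standard
open DRing

namespace Groth.Agent.S12899

open Groth.Agent.Lib.Helper46.FlatGlue Groth.Agent.Lib.Helper46.FlatGlueBC
  Groth.Agent.Lib.Helper36 Groth.Agent.Lib.Helper12 TensorProduct

/-- a complex concentrated in degree `0` is a single complex -/
lemma isIso_toSingle {R : Type u} [CommRing R] (E : DRing.Cx R)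
    (hE : DRing.VanishesOutside E 0 0) :
    IsIso (HomologicalComplex.mkHomToSingle (𝟙 (E.X 0))
      (fun i hi => (hE i (by simp at hi; omega)).eq_of_src _ _) :
      E ⟶ (HomologicalComplex.single (ModuleCat.{u} R) (ComplexShape.up ℤ) 0).obj (E.X 0)) := by
  haveI : ∀ i, IsIso ((HomologicalComplex.mkHomToSingle (𝟙 (E.X 0))
      (fun i hi => (hE i (by simp at hi; omega)).eq_of_src _ _) :
      E ⟶ (HomologicalComplex.single (ModuleCat.{u} R) (ComplexShape.up ℤ) 0).obj (E.X 0)).f i) := by
    intro i
    by_cases hi : i = 0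
    · subst hi
      rw [HomologicalComplex.mkHomToSingle_f]
      infer_instance
    · have h1 : IsZero (E.X i) := hE i (by omega)
      have h2 : IsZero (((HomologicalComplex.single (ModuleCat.{u} R) (ComplexShape.up ℤ) 0).obj
        (E.X 0)).X i) := HomologicalComplex.isZero_single_obj_X _ _ _ _ hi
      exact ⟨⟨0, h1.eq_of_src _ _, h2.eq_of_src _ _⟩⟩
  exact HomologicalComplex.Hom.isIso_of_components _

/-- `P ⊗ Q` is exact in negative degrees for every `Q` -/
theorem good_all {R : Type u} [CommRing R] (f : R)
    [DRing.HasLBaseChange (algebraMap R (Localization.Away f))]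
    [DRing.HasLBaseChange (Ideal.Quotient.mk (Ideal.span ({f} : Set R)))]
    (P : DRing.Cx R) [P.IsKProjective] (hfl : ∀ n, Module.Flat R (P.X n))
    (N₂ : Type u) [AddCommGroup N₂] [Module (Localization.Away f) N₂]
    [Module.Flat (Localization.Away f) N₂]
    (e₂ : (DRing.LBaseChange (algebraMap R (Localization.Away f))).obj (DRing.toD P) ≅
      Dual.inD (Localization.Away f) N₂)
    (N₃ : Type u) [AddCommGroup N₃] [Module (R ⧸ Ideal.span ({f} : Set R)) N₃]
    [Module.Flat (R ⧸ Ideal.span ({f} : Set R)) N₃]
    (e₃ : (DRing.LBaseChange (Ideal.Quotient.mk (Ideal.span ({f} : Set R)))).obj (DRing.toD P) ≅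
      Dual.inD (R ⧸ Ideal.span ({f} : Set R)) N₃)
    (Q : Type u) [AddCommGroup Q] [Module R Q] : Good P Q := by
  refine good_of_base hfl f ?_ ?_ Q
  · intro Q _ _ hQ
    have hM : Module.IsTorsionBy R Q f := fun x => hQ x
    letI : Module (R ⧸ Ideal.span ({f} : Set R)) Q := hM.module
    let Q' : ModuleCat.{u} (R ⧸ Ideal.span ({f} : Set R)) :=
      ModuleCat.of (R ⧸ Ideal.span ({f} : Set R)) Q
    let e : Q ≃ₗ[R] ((ModuleCat.restrictScalars
        (Ideal.Quotient.mk (Ideal.span ({f} : Set R)))).obj Q') :=
      { toFun := fun x => x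
        invFun := fun x => x
        map_add' := fun _ _ => rfl
        map_smul' := fun _ _ => rfl
        left_inv := fun _ => rfl
        right_inv := fun _ => rfl }
    exact good_of_equiv hfl e
      (good_of_lBaseChange (Ideal.Quotient.mk (Ideal.span ({f} : Set R))) P N₃ e₃ Q')
  · intro Q _ _
    let Q' : ModuleCat.{u} (Localization.Away f) :=
      ModuleCat.of (Localization.Away f) (LocalizedModule (Submonoid.powers f) Q)
    let e : LocalizedModule (Submonoid.powers f) Q ≃ₗ[R] ((ModuleCat.restrictScalars
        (algebraMap R (Localization.Away f))).obj Q') :=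
      { toFun := fun x => x
        invFun := fun x => x
        map_add' := fun _ _ => rfl
        map_smul' := fun r x =>
          (algebraMap_smul (Localization.Away f) r
            (show LocalizedModule (Submonoid.powers f) Q from x)).symm
        left_inv := fun _ => rfl
        right_inv := fun _ => rfl }
    exact good_of_equiv hfl e
      (good_of_lBaseChange (algebraMap R (Localization.Away f)) P N₂ e₂ Q')


/-- Let R be a commutative ring, f ∈ R and M an object of D(R) such that (1) H^i(M) = 0 for i &gt; 0,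
(2) in D(R_f), M ⊗^L_R R_f is isomorphic to a flat R_f-module concentrated in degree 0, and (3) in
D(R/fR), M ⊗^L_R R/fR is isomorphic to a flat R/fR-module concentrated in degree 0. Then, in D(R), M
itself is isomorphic to a flat R-module concentrated in degree 0. (The derived base change functors
along R → R_f and R → R/fR are the stated instance hypotheses, both true.) -/
theorem result {R : Type u} [CommRing R] (f : R) (M : Dual.D R)
    [DRing.HasLBaseChange (algebraMap R (Localization.Away f))]
    [DRing.HasLBaseChange (Ideal.Quotient.mk (Ideal.span ({f} : Set R)))]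
    (h1 : ∀ i : ℤ, 0 < i → Subsingleton (Dual.HD R M i))
    (h2 : ∃ (N : Type u) (_ : AddCommGroup N) (_ : Module (Localization.Away f) N),
      Module.Flat (Localization.Away f) N ∧
        Nonempty ((DRing.LBaseChange (algebraMap R (Localization.Away f))).obj M ≅ Dual.inD (Localization.Away f) N))
    (h3 : ∃ (N : Type u) (_ : AddCommGroup N) (_ : Module (R ⧸ Ideal.span ({f} : Set R)) N),
      Module.Flat (R ⧸ Ideal.span ({f} : Set R)) N ∧
        Nonempty ((DRing.LBaseChange (Ideal.Quotient.mk (Ideal.span ({f} : Set R)))).obj M ≅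
          Dual.inD (R ⧸ Ideal.span ({f} : Set R)) N)) :
    ∃ (N : Type u) (_ : AddCommGroup N) (_ : Module R N), Module.Flat R N ∧ Nonempty (M ≅ Dual.inD R N) := by
  obtain ⟨N₂, _, _, hN₂, ⟨e₂⟩⟩ := h2
  obtain ⟨N₃, _, _, hN₃, ⟨e₃⟩⟩ := h3
  obtain ⟨P, hPb, hPp, ⟨eP⟩⟩ := exists_projective_rep M 0
    (fun i hi => @ModuleCat.isZero_of_subsingleton _ _ _ (h1 i hi))
  haveI : P.IsKProjective := isKProjective_of_vanishesAbove P 0 hPb hPp
  have hfl : ∀ n, Module.Flat R (P.X n) := fun n => by
    haveI := hPp n
    infer_instance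
  haveI : ∀ Q : ModuleCat.{u} R, DRing.HasLTensor R Q := fun Q => LT.hasLTensor R Q
  have hgood : ∀ (Q : Type u) [AddCommGroup Q] [Module R Q], Good P Q := fun Q _ _ =>
    good_all f P hfl N₂
      ((DRing.LBaseChange (algebraMap R (Localization.Away f))).mapIso eP ≪≫ e₂) N₃
      ((DRing.LBaseChange (Ideal.Quotient.mk (Ideal.span ({f} : Set R)))).mapIso eP ≪≫ e₃) Q
  have hTA : DRing.HasTorAmplitudeIn R 0 0 M := by
    refine (Groth.Agent.S6945.result R M 0 0).mpr ?_
    intro Q i hi
    rcases hi with hi | hi
    · -- negative degrees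
      have hE : (LT.tensorCx Q P).ExactAt i := by
        rw [HomologicalComplex.exactAt_iff' _ (i - 1) i (i + 1) (by simp) (by simp),
          ShortComplex.ShortExact.moduleCat_exact_iff_function_exact]
        exact hgood Q (i - 1) i (i + 1) (by omega) rfl hi
      have e' : (DRing.LTensor R Q).obj M ≅ DRing.toD (LT.tensorCx Q P) :=
        (DRing.LTensor R Q).mapIso eP.symm ≪≫ LT.lTensorObjIso Q P
      have hz : IsZero ((DerivedCategory.homologyFunctor (ModuleCat.{u} R) i).obj
          (DRing.toD (LT.tensorCx Q P))) := by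
        refine IsZero.of_iso ?_
          ((DerivedCategory.homologyFunctorFactors (ModuleCat.{u} R) i).app (LT.tensorCx Q P))
        exact (HomologicalComplex.exactAt_iff_isZero_homology _ _).1 hE
      exact ModuleCat.subsingleton_of_isZero
        (hz.of_iso ((DerivedCategory.homologyFunctor (ModuleCat.{u} R) i).mapIso e'))
    · exact LT.subsingleton_HD_lTensor_of_flat Q P 0 hPb hfl eP i (hPb i hi)
  obtain ⟨E, hE, hEfl, ⟨eE⟩⟩ := hTA
  haveI := isIso_toSingle E hE
  refine ⟨(E.X 0 : Type u), inferInstance, inferInstance, hEfl 0, ⟨?_⟩⟩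
  exact eE.symm ≪≫ DerivedCategory.Q.mapIso (asIso (HomologicalComplex.mkHomToSingle (𝟙 (E.X 0))
      (fun i hi => (hE i (by simp at hi; omega)).eq_of_src _ _))) ≪≫ toDSingleIso' 0 (E.X 0)

end Groth.Agent.S12899
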