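import Groth.Statements.S12903
import Groth.Agent.Lib.Cohomology.Helper1_KernelSections
import Groth.Agent.Lib.Helper22.QCohLoc

set_option autoImplicit false
universe u
open CategoryTheory CategoryTheory.Limits AlgebraicGeometry Opposite
open Coherent

namespace Groth.Agent.S12903

/-- Let X be a scheme, j : U → X a quasi-compact open immersion with closed complement Z, F a
quasi-coherent O_X-module, V an affine open of X and I a finitely generated ideal of Γ(V, O_X)
cutting out Z ∩ V (a point of V lies outside U if and only if it lies in no basic open X_f with f ∈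
I). Then a section s of F over V belongs to the subsheaf Γ_Z(F) of sections supported in Z (the
kernel of F → j_*(F|_U)) if and only if I^n s = 0 for some n. -/
theorem result {U X : Scheme.{u}} (j : U ⟶ X) [IsOpenImmersion j] [QuasiCompact j]
    (F : X.Modules) (hF : Coh.IsQCoh F) (V : X.Opens) (hV : IsAffineOpen V)
    (I : Ideal (X.ringCatSheaf.obj.obj (op V))) (hI : I.FG)
    (hZ : ∀ x : X, x ∈ V → (x ∉ Set.range j.base ↔ ∀ f ∈ I, x ∉ X.basicOpen (f : Γ(X, V))))
    (s : F.val.obj (op V)) :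
    s ∈ Set.range ((((CxOX.gammaZι j).app F).val.app (op V)).hom) ↔ ∃ n : ℕ, ∀ a ∈ I ^ n, a • s = 0 := by
  haveI : F.IsQuasicoherent := hF
  -- regard `I` as an ideal of the commutative ring `Γ(X, V)` and `s` as a section in `Γ(F, V)`
  let I' : Ideal Γ(X, V) := I
  have hI' : I'.FG := hI
  let s' : Γ(F, V) := s
  have hmem : ∀ (n : ℕ) (a : Γ(X, V)), a ∈ I' ^ n ↔ a ∈ I ^ n := fun n a => Iff.rfl
  -- the unit `F ⟶ j_*(F|_U)`; on sections over `V` it is the restriction to `W = j(j⁻¹ V)`
  have hle : j ''ᵁ (j ⁻¹ᵁ V) ≤ V := j.image_preimage_le V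
  -- membership in the range of the kernel inclusion ↔ restriction to `W` vanishes
  have h1 : s ∈ Set.range ((((CxOX.gammaZι j).app F).val.app (op V)).hom) ↔
      F.presheaf.map (homOfLE hle).op s' = 0 := by
    constructor
    · rintro ⟨t, rfl⟩
      have hc := kernel.condition ((Scheme.Modules.restrictAdjunction j).unit.app F)
      have hc' := congrArg (fun ψ => (Scheme.Modules.Hom.app ψ V) t) hc
      exact hc'
    · intro h
      obtain ⟨t, ht⟩ := Groth.Agent.Lib.Cohomology.exists_kernel_section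
        ((Scheme.Modules.restrictAdjunction j).unit.app F) V s' h
      exact ⟨t, ht⟩
  rw [h1]
  -- basic opens of elements of `I` lie in `W`
  have hsub : ∀ f ∈ I', X.basicOpen f ≤ j ''ᵁ (j ⁻¹ᵁ V) := by
    intro f hf x hx
    have hxV : x ∈ V := X.basicOpen_le _ hx
    have hxr : x ∈ Set.range j.base := by
      by_contra hxr
      exact ((hZ x hxV).mp hxr) f hf hx
    obtain ⟨y, rfl⟩ := hxr
    exact ⟨y, hxV, rfl⟩
  -- and they cover `W`
  have hcov : ∀ x ∈ j ''ᵁ (j ⁻¹ᵁ V), ∃ f ∈ I', x ∈ X.basicOpen f := by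
    rintro x ⟨y, hy, rfl⟩
    by_contra hcon
    have hcon' : ∀ f ∈ I, j.base y ∉ X.basicOpen (f : Γ(X, V)) := fun f hf hx => hcon ⟨f, hf, hx⟩
    exact ((hZ (j.base y) hy).mpr hcon') ⟨y, rfl⟩
  constructor
  · intro hs0
    -- every `f ∈ I` has a power killing `s`
    have hrad : I' ≤ (Ideal.torsionOf Γ(X, V) Γ(F, V) s').radical := by
      intro f hf
      have hres : F.presheaf.map (homOfLE (X.basicOpen_le f)).op s' = 0 := by
        have : (homOfLE (X.basicOpen_le f)) = homOfLE (hsub f hf) ≫ homOfLE hle := rfl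
        rw [this, op_comp, Functor.map_comp, ConcreteCategory.comp_apply, hs0, map_zero]
      obtain ⟨n, hn⟩ := Groth.Agent.Lib.Helper22.exists_pow_smul_eq_zero_of_isAffineOpen F hV
        f s' hres
      exact ⟨n, (Ideal.mem_torsionOf_iff _ _).mpr hn⟩
    obtain ⟨n, hn⟩ := Ideal.exists_pow_le_of_le_radical_of_fg hrad hI'
    refine ⟨n, fun a ha => ?_⟩
    exact (Ideal.mem_torsionOf_iff (R := Γ(X, V)) s' a).mp (hn ((hmem n a).mpr ha))
  · rintro ⟨n, hn⟩
    refine TopCat.Sheaf.eq_of_locally_eq' (⟨F.presheaf, F.isSheaf⟩ : TopCat.Sheaf Ab X)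
      (fun f : I' => X.basicOpen (f.1 : Γ(X, V))) (j ''ᵁ (j ⁻¹ᵁ V))
      (fun f => homOfLE (hsub f.1 f.2)) ?_ _ _ ?_
    · intro x hx
      obtain ⟨f, hf, hxf⟩ := hcov x hx
      exact TopologicalSpace.Opens.mem_iSup.mpr ⟨⟨f, hf⟩, hxf⟩
    · rintro ⟨f, hf⟩
      change F.presheaf.map (homOfLE (hsub f hf)).op (F.presheaf.map (homOfLE hle).op s') =
        F.presheaf.map (homOfLE (hsub f hf)).op 0
      rw [map_zero, ← ConcreteCategory.comp_apply, ← Functor.map_comp, ← op_comp]
      have hcomp : homOfLE (hsub f hf) ≫ homOfLE hle = homOfLE (X.basicOpen_le f) := rfl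
      rw [hcomp]
      have hk : (f ^ n) • s' = 0 := hn _ ((hmem n _).mp (Ideal.pow_mem_pow hf n))
      have hk' := congrArg (F.presheaf.map (homOfLE (X.basicOpen_le f)).op) hk
      rw [Scheme.Modules.map_smul, map_zero, map_pow] at hk'
      have hu : IsUnit (X.presheaf.map (homOfLE (X.basicOpen_le f)).op f) :=
        RingedSpace.isUnit_res_basicOpen X.toRingedSpace f
      exact (hu.pow n).smul_eq_zero.mp hk'

end Groth.Agent.S12903
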