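import Groth.Statements.S1526
import Groth.Agent.S0047
import Groth.Agent.S0020

set_option autoImplicit false
universe u
open CategoryTheory CategoryTheory.Limits AlgebraicGeometry
open Variety

namespace Groth.Agent.S1526

open TopologicalSpace in
/-- in a `T0` space, the points of a closed subset of dimension `≤ 0` are closed -/
lemma isClosed_singleton_of_dim_le_zero {T : Type*} [TopologicalSpace T] [T0Space T] (S : Set T)
    (hS : IsClosed S) (hdim : topologicalKrullDim S ≤ 0) (x : T) (hx : x ∈ S) :
    IsClosed ({x} : Set T) := by
  rw [← closure_subset_iff_isClosed]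
  intro y hy
  have hyS : y ∈ S := (closure_minimal (Set.singleton_subset_iff.2 hx) hS) hy
  let x' : S := ⟨x, hx⟩
  let y' : S := ⟨y, hyS⟩
  have hmax := (Order.krullDim_nonpos_iff_forall_isMax (α := IrreducibleCloseds S)).1 hdim
  let Zx : IrreducibleCloseds S :=
    ⟨closure {x'}, isIrreducible_singleton.closure, isClosed_closure⟩
  let Zy : IrreducibleCloseds S :=
    ⟨closure {y'}, isIrreducible_singleton.closure, isClosed_closure⟩
  have hy' : y' ∈ closure ({x'} : Set S) := by
    rw [Topology.IsInducing.subtypeVal.closure_eq_preimage_closure_image]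
    simpa [x', y'] using hy
  have hle : Zy ≤ Zx := by
    change closure ({y'} : Set S) ⊆ closure {x'}
    exact closure_minimal (Set.singleton_subset_iff.2 hy') isClosed_closure
  have hge : Zx ≤ Zy := hmax Zy hle
  have hx' : x' ∈ closure ({y'} : Set S) := hge (subset_closure (Set.mem_singleton x'))
  have hins : Inseparable x' y' := by
    rw [inseparable_iff_specializes_and]
    exact ⟨specializes_iff_mem_closure.2 hy', specializes_iff_mem_closure.2 hx'⟩
  have := hins.eq
  have hxy : x = y := congrArg Subtype.val this
  exact hxy ▸ Set.mem_singleton x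


/-- On a proper scheme over a field, a coherent module whose support has dimension at most zero has
vanishing cohomology in all positive degrees. -/
theorem result (k : Type u) [Field k] (X : Scheme.{u}) [X.Over (Spec (CommRingCat.of k))] [IsProper (X ↘ (Spec (CommRingCat.of k)))]
    (F : X.Modules) (hF : Coh.IsCoh F) (hsupp : topologicalKrullDim (CohB1.support F) ≤ 0)
    (i : ℕ) (hi : 1 ≤ i) : Subsingleton (Coh.HH X F i) := by
  have : IsLocallyNoetherian X :=
    LocallyOfFiniteType.isLocallyNoetherian (X ↘ (Spec (CommRingCat.of k)))
  have hcl : IsClosed (CohB1.support F) := Groth.Agent.S0020.result X F hF.2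
  exact Groth.Agent.S0047.result X F hF
    (fun x hx => isClosed_singleton_of_dim_le_zero _ hcl hsupp x hx) i hi

end Groth.Agent.S1526
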