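import Groth.Statements.S12905
import Groth.Agent.Lib.Helper77.TwEx
import Groth.Agent.Lib.Helper77.TwSupp
import Groth.Agent.Lib.Cohomology.helper5_HHLES
import Groth.Agent.Lib.QCoh.TensorQCoh
import Groth.Agent.Lib.QCoh.CohKernel
import Groth.Agent.Lib.Proj.Helper3_PnCoh
import Groth.Agent.S1526
import Groth.Agent.S9705

set_option autoImplicit false
universe u
open CategoryTheory CategoryTheory.Limits AlgebraicGeometry
open Variety

namespace Groth.Agent.S12905

/-- Let k be a field and φ : F' → F a monomorphism of coherent modules on P^n_k whose cokernel has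
support of Krull dimension at most zero (a finite set of closed points, possibly empty). If F' is
m-regular then F is m-regular. (The published statement is the case of an ideal sheaf contained in
the ideal sheaf of a curve with quotient supported at finitely many points, phrased as an inequality
of regularities; the argument gives the form stated here.) -/
theorem result (k : Type u) [Field k] (n : ℕ)
    (F' F : (CohB1.ProjSpace n k).Modules) (hF' : Coh.IsCoh F') (hF : Coh.IsCoh F) (φ : F' ⟶ F) [Mono φ]
    (hsupp : topologicalKrullDim (CohB1.support (cokernel φ)) ≤ 0) (m : ℤ)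
    (h : Curv2.IsMRegular k n F' m) : Curv2.IsMRegular k n F m := by
  intro i hi1 hin
  have hS₀ : (ShortComplex.mk φ (cokernel.π φ) (cokernel.condition φ)).ShortExact :=
    { exact := ShortComplex.exact_cokernel φ
      mono_f := inferInstanceAs (Mono φ)
      epi_g := inferInstanceAs (Epi (cokernel.π φ)) }
  have hT := Groth.Agent.Lib.Helper77.TwEx.shortExact_twistProjSpace n k (m - i) hS₀
  have h1 : Subsingleton (Coh.HH (CohB1.ProjSpace n k)
      (CohB1.tensorMod F' (Twist.twistProjSpace n k (m - i))) i) := h i hi1 hin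
  have hQ : Coh.IsCoh (cokernel φ) := Groth.Agent.Lib.QCoh.isCoh_cokernel hF' hF φ
  have hinv := Groth.Agent.Lib.Proj.isInvertible_twist (𝒜 := CohB1.polyGrading n k)
    (Groth.Agent.Lib.Proj.PnCoh.iSup_deg_one n k) (m - i)
  have hq1 : (cokernel φ).IsQuasicoherent := hQ.1
  have hq2 : (cokernel φ).IsFiniteType := hQ.2
  have hq3 : (Twist.twistProjSpace n k (m - i)).IsQuasicoherent :=
    Groth.Agent.Lib.QCoh.isQuasicoherent_of_isInvertible hinv
  have hq4 : (Twist.twistProjSpace n k (m - i)).IsFiniteType :=
    Groth.Agent.Lib.QCoh.isFiniteType_of_isInvertible hinv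
  have hQt : Coh.IsCoh (CohB1.tensorMod (cokernel φ) (Twist.twistProjSpace n k (m - i))) :=
    ⟨Groth.Agent.Lib.QCoh.isQuasicoherent_tensorMod _ _,
      Groth.Agent.Lib.QCoh.isFiniteType_tensorMod _ _⟩
  have hsub := Groth.Agent.Lib.Helper77.TwSupp.support_tensorMod_subset (cokernel φ)
    (Twist.twistProjSpace n k (m - i)) hQ.2
  have hdim : topologicalKrullDim (CohB1.support
      (CohB1.tensorMod (cokernel φ) (Twist.twistProjSpace n k (m - i)))) ≤ 0 :=
    le_trans (Topology.IsEmbedding.inclusion hsub).isInducing.topologicalKrullDim_le hsupp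
  have hprop : IsProper ((CohB1.ProjSpace n k) ↘ (Spec (CommRingCat.of k))) :=
    Groth.Agent.S9705.isProper_toSpec n k
  have h3 : Subsingleton (Coh.HH (CohB1.ProjSpace n k)
      (CohB1.tensorMod (cokernel φ) (Twist.twistProjSpace n k (m - i))) i) :=
    Groth.Agent.S1526.result k (CohB1.ProjSpace n k) _ hQt hdim i hi1
  refine subsingleton_of_forall_eq 0 fun x => ?_
  obtain ⟨y, rfl⟩ := Groth.Agent.Lib.Cohomology.HHLES.exact₂ hT i x (h3.elim _ _)
  have hy : y = 0 := h1.elim y 0
  subst hy
  exact map_zero _

end Groth.Agent.S12905
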