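import Groth.Statements.S12907
import Groth.Agent.Lib.Helper29.HilbertBurch

set_option autoImplicit false
universe u
open CAlgX

namespace Groth.Agent.S12907

/-- Let R be a Noetherian ring and I a nonzero ideal admitting a free resolution 0 → R^m → R^n → I → 0:
an injective matrix Ψ with n rows and m columns, and a linear map π : R^n → R with image I whose
kernel is the image of Ψ. Then n = m + 1; there is a non-zero-divisor a with I = a · I_m(Ψ), where
I_m(Ψ) is the ideal generated by the m × m minors of Ψ; and the I_m(Ψ)-depth of R is at least 2.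
(The published statement also asserts that this depth is exactly 2; only the lower bound is stated
here. The hypothesis that I is nonzero is implicit in the published statement.) -/
theorem result {R : Type u} [CommRing R] [IsNoetherianRing R] (m n : ℕ)
    (Ψ : Matrix (Fin n) (Fin m) R) (π : (Fin n → R) →ₗ[R] R)
    (hΨ : LinearMap.ker Ψ.mulVecLin = ⊥) (hex : LinearMap.ker π = LinearMap.range Ψ.mulVecLin)
    (hI : LinearMap.range π ≠ ⊥) :
    n = m + 1 ∧
      (∃ a : R, a ∈ nonZeroDivisors R ∧ LinearMap.range π = Ideal.span {a} * CAlgX.minorIdeal Ψ m) ∧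
      2 ≤ LocCoh.idealDepth (CAlgX.minorIdeal Ψ m) R := by
  classical
  set c : Fin n → R := fun i => π (fun j => if i = j then 1 else 0) with hcdef
  have hπ : ∀ v : Fin n → R, π v = ∑ i, v i * c i := fun v => by
    rw [LinearMap.pi_apply_eq_sum_univ π v]
    rfl
  have hΨ' : ∀ w : Fin m → R, Ψ.mulVec w = 0 → w = 0 := fun w hw =>
    (LinearMap.ker_eq_bot'.mp hΨ) w hw
  have hex' : ∀ v : Fin n → R, ∑ i, v i * c i = 0 → ∃ w, Ψ.mulVec w = v := by
    intro v hv
    have h1 : v ∈ LinearMap.ker π := by rw [LinearMap.mem_ker, hπ, hv]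
    rw [hex] at h1
    exact h1
  have hcx' : ∀ w : Fin m → R, ∑ i, Ψ.mulVec w i * c i = 0 := by
    intro w
    rw [← hπ]
    have h1 : Ψ.mulVec w ∈ LinearMap.range Ψ.mulVecLin := ⟨w, rfl⟩
    rw [← hex] at h1
    exact h1
  have hc : c ≠ 0 := by
    intro h0
    apply hI
    rw [eq_bot_iff]
    rintro _ ⟨v, rfl⟩
    rw [hπ, h0]
    simp
  have hn := Groth.Agent.Lib.Helper29.HilbertBurch.eq_add_one Ψ c hΨ' hex' hcx' hc
  subst hn
  refine ⟨rfl, ?_, Groth.Agent.Lib.Helper29.HilbertBurch.two_le_idealDepth Ψ c hΨ' hex' hcx'⟩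
  obtain ⟨a, ha, hkey⟩ :=
    Groth.Agent.Lib.Helper29.HilbertBurch.exists_nonZeroDivisor_mul Ψ c hΨ' hex' hcx'
  refine ⟨a, ha, ?_⟩
  rw [Groth.Agent.Lib.Helper15.HilbertBurch.minorIdeal_eq]
  have hmemJ : ∀ v : Fin (m + 1) → R,
      ∑ i : Fin (m + 1), (-1 : R) ^ (i : ℕ) * v i * Groth.Agent.Lib.Helper15.HilbertBurch.D Ψ i ∈
        Ideal.span (Set.range (Groth.Agent.Lib.Helper15.HilbertBurch.D Ψ)) := fun v =>
    Ideal.sum_mem _ fun i _ => Ideal.mul_mem_left _ _ (Ideal.subset_span ⟨i, rfl⟩)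
  ext r
  rw [Ideal.mem_span_singleton_mul]
  constructor
  · rintro ⟨v, rfl⟩
    exact ⟨_, hmemJ v, by rw [hπ, hkey]⟩
  · rintro ⟨d, hd, rfl⟩
    have hrange : ∀ d ∈ Ideal.span (Set.range (Groth.Agent.Lib.Helper15.HilbertBurch.D Ψ)),
        ∃ v : Fin (m + 1) → R, ∑ i : Fin (m + 1), (-1 : R) ^ (i : ℕ) * v i *
          Groth.Agent.Lib.Helper15.HilbertBurch.D Ψ i = d := by
      intro d hd
      induction hd using Submodule.span_induction with
      | mem d hd =>
        obtain ⟨i, rfl⟩ := hd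
        refine ⟨Pi.single i ((-1 : R) ^ (i : ℕ)), ?_⟩
        rw [Finset.sum_eq_single i]
        · rw [Pi.single_eq_same, ← pow_add, ← two_mul, pow_mul]
          simp
        · intro j _ hji
          rw [Pi.single_eq_of_ne hji, mul_zero, zero_mul]
        · intro h
          exact absurd (Finset.mem_univ i) h
      | zero => exact ⟨0, by simp⟩
      | add d₁ d₂ _ _ h₁ h₂ =>
        obtain ⟨v₁, hv₁⟩ := h₁
        obtain ⟨v₂, hv₂⟩ := h₂
        refine ⟨v₁ + v₂, ?_⟩
        rw [← hv₁, ← hv₂, ← Finset.sum_add_distrib]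
        refine Finset.sum_congr rfl fun i _ => ?_
        rw [Pi.add_apply]
        ring
      | smul b d _ h₁ =>
        obtain ⟨v₁, hv₁⟩ := h₁
        refine ⟨b • v₁, ?_⟩
        rw [← hv₁, smul_eq_mul, Finset.mul_sum]
        refine Finset.sum_congr rfl fun i _ => ?_
        rw [Pi.smul_apply, smul_eq_mul]
        ring
    obtain ⟨v, rfl⟩ := hrange d hd
    exact ⟨v, by rw [hπ, hkey]⟩

end Groth.Agent.S12907
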