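import Groth.Statements.S12908
import Groth.Agent.Lib.Helper15.HilbertBurch
import Groth.Agent.Lib.Helper93.ReflexiveDepth

set_option autoImplicit false
universe u
open CAlgX

namespace Groth.Agent.S12908


open Groth.Agent.Lib.Helper15.HilbertBurch Pointwise

/-- A regular pair inside an ideal of depth at least two. -/
theorem exists_regular_pair {R : Type u} [CommRing R] (I : Ideal R)
    (hdepth : 2 ≤ LocCoh.idealDepth I R) :
    ∃ x ∈ I, ∃ y ∈ I, (∀ r, x * r = 0 → r = 0) ∧
      (∀ r, (∃ s, y * r = x * s) → ∃ c, r = x * c) := by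
  by_cases hN : I • (⊤ : Submodule R R) = ⊤
  · have hI : I = ⊤ := by
      rw [Ideal.smul_eq_mul, Ideal.mul_top] at hN
      exact hN
    refine ⟨1, hI ▸ Submodule.mem_top, 1, hI ▸ Submodule.mem_top, fun r hr => by simpa using hr,
      fun r _ => ⟨r, by simp⟩⟩
  · obtain ⟨rs, hreg, hmem, hlen⟩ :=
      Groth.Agent.Lib.Helper93.ReflexiveDepth.exists_regular_of_le_idealDepth I R 2 (by exact_mod_cast hdepth) hN
    match rs, hreg, hmem, hlen with
    | [], _, _, hlen => simp at hlen
    | [_], _, _, hlen => simp at hlen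
    | x :: y :: rest, hreg, hmem, _ =>
      rw [RingTheory.Sequence.isWeaklyRegular_cons_iff] at hreg
      obtain ⟨hx, hreg2⟩ := hreg
      rw [RingTheory.Sequence.isWeaklyRegular_cons_iff] at hreg2
      obtain ⟨hy, -⟩ := hreg2
      refine ⟨x, hmem x (by simp), y, hmem y (by simp), ?_, ?_⟩
      · intro r hr
        apply hx
        simpa using hr
      · rintro r ⟨s, hs⟩
        have h1 : y • (Submodule.Quotient.mk r : QuotSMulTop x R) = y • (0 : QuotSMulTop x R) := by
          rw [smul_zero, ← Submodule.Quotient.mk_smul, Submodule.Quotient.mk_eq_zero, smul_eq_mul,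
            hs]
          exact (Submodule.mem_smul_pointwise_iff_exists _ _ _).mpr ⟨s, Submodule.mem_top, rfl⟩
        have h2 := hy h1
        rw [Submodule.Quotient.mk_eq_zero] at h2
        obtain ⟨c, -, hc⟩ := (Submodule.mem_smul_pointwise_iff_exists _ _ _).mp h2
        exact ⟨c, hc.symm⟩

/-- Let R be a Noetherian ring, t a natural number, Ψ a (t+1) × t matrix over R such that the
I_t(Ψ)-depth of R is at least 2, where I_t(Ψ) is the ideal generated by the t × t minors of Ψ, and a
a non-zero-divisor of R. Put Δ_i = a · (-1)^i det Ψ_i, where Ψ_i is Ψ with row i deleted. Then 0 →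
R^t → R^{t+1} → R, with first map Ψ and second map v ↦ Σ_i Δ_i v_i, is exact: Ψ is injective and the
kernel of the second map equals the image of Ψ; moreover the image of the second map is the ideal a
· I_t(Ψ). (The published statement adds that this ideal has depth 2 exactly when a is a unit; that
clause is not stated here.) -/
theorem result {R : Type u} [CommRing R] [IsNoetherianRing R] (t : ℕ)
    (Ψ : Matrix (Fin (t + 1)) (Fin t) R) (hdepth : 2 ≤ LocCoh.idealDepth (CAlgX.minorIdeal Ψ t) R)
    (a : R) (ha : a ∈ nonZeroDivisors R) :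
    LinearMap.ker Ψ.mulVecLin = ⊥ ∧
      LinearMap.ker (Fintype.linearCombination R
          (fun i : Fin (t + 1) => a * ((-1 : R) ^ (i : ℕ) * (Ψ.submatrix i.succAbove id).det))) =
        LinearMap.range Ψ.mulVecLin ∧
      LinearMap.range (Fintype.linearCombination R
          (fun i : Fin (t + 1) => a * ((-1 : R) ^ (i : ℕ) * (Ψ.submatrix i.succAbove id).det))) =
        Ideal.span {a} * CAlgX.minorIdeal Ψ t := by
  rw [minorIdeal_eq] at hdepth ⊢
  obtain ⟨x, hx, y, hy, hxreg, hyreg⟩ := exists_regular_pair _ hdepth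
  have hD : ∀ i : Fin (t + 1), (Ψ.submatrix i.succAbove id).det = D Ψ i := fun i => rfl
  simp only [hD]
  have hkey : ∀ v : Fin (t + 1) → R,
      (Fintype.linearCombination R
        (fun i : Fin (t + 1) => a * ((-1 : R) ^ (i : ℕ) * D Ψ i))) v =
      a * ∑ i : Fin (t + 1), (-1 : R) ^ (i : ℕ) * v i * D Ψ i := by
    intro v
    rw [Fintype.linearCombination_apply, Finset.mul_sum]
    refine Finset.sum_congr rfl fun i _ => ?_
    simp only [smul_eq_mul]; ring
  refine ⟨?_, ?_, ?_⟩
  · rw [LinearMap.ker_eq_bot']
    intro w hw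
    have h0 : Ψ.mulVec w = 0 := hw
    have h1 := smul_eq_zero_of_mem Ψ w h0 x hx
    funext l
    have := congrFun h1 l
    simp only [Pi.smul_apply, smul_eq_mul, Pi.zero_apply] at this
    exact hxreg _ this
  · ext v
    rw [LinearMap.mem_ker, hkey, LinearMap.mem_range]
    constructor
    · intro h
      have h0 : ∑ i : Fin (t + 1), (-1 : R) ^ (i : ℕ) * v i * D Ψ i = 0 := by
        have := (mem_nonZeroDivisors_iff_right.mp ha) _ (by rw [mul_comm]; exact h)
        exact this
      obtain ⟨w, hw⟩ := mem_range_of_regular_pair Ψ x y hx hy hxreg hyreg v h0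
      exact ⟨w, hw⟩
    · rintro ⟨w, rfl⟩
      have : (Ψ.mulVecLin w) = Ψ.mulVec w := rfl
      rw [this, sum_mulVec_eq_zero, mul_zero]
  · rw [Fintype.range_linearCombination]
    apply le_antisymm
    · rw [Submodule.span_le]
      rintro _ ⟨i, rfl⟩
      exact Ideal.mul_mem_mul (Ideal.mem_span_singleton_self a)
        (Ideal.mul_mem_left _ _ (Ideal.subset_span ⟨i, rfl⟩))
    · rw [Ideal.mul_le]
      intro r hr s hs
      obtain ⟨c, rfl⟩ := Ideal.mem_span_singleton'.mp hr
      have hs' : a * s ∈ Submodule.span R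
          (Set.range fun i : Fin (t + 1) => a * ((-1 : R) ^ (i : ℕ) * D Ψ i)) := by
        induction hs using Submodule.span_induction with
        | mem z hz =>
          obtain ⟨i, rfl⟩ := hz
          have h4 : (-1 : R) ^ (i : ℕ) * (-1 : R) ^ (i : ℕ) = 1 := by
            rw [← pow_add, ← two_mul, pow_mul]; simp
          have h5 : a * D Ψ i = (-1 : R) ^ (i : ℕ) • (a * ((-1 : R) ^ (i : ℕ) * D Ψ i)) := by
            rw [smul_eq_mul]
            calc a * D Ψ i = ((-1 : R) ^ (i : ℕ) * (-1 : R) ^ (i : ℕ)) * (a * D Ψ i) := by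
                  rw [h4, one_mul]
              _ = _ := by ring
          rw [h5]
          exact Submodule.smul_mem _ _ (Submodule.subset_span ⟨i, rfl⟩)
        | zero => rw [mul_zero]; exact Submodule.zero_mem _
        | add z z' _ _ hz hz' => rw [mul_add]; exact Submodule.add_mem _ hz hz'
        | smul b z _ hz =>
          rw [smul_eq_mul, mul_left_comm]
          exact Submodule.smul_mem _ b hz
      have : c * a * s = c • (a * s) := by rw [smul_eq_mul, mul_assoc]
      rw [this]
      exact Submodule.smul_mem _ c hs'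

end Groth.Agent.S12908
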