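import Groth.Statements.S12909
import Mathlib

set_option autoImplicit false
universe u
open CAlgX

namespace Groth.Agent.S12909

section loc

variable {A : Type u} [CommRing A] [IsLocalRing A]

/-- Over a local ring of depth zero (`z ≠ 0` killed by the maximal ideal), an injective map out of a
finite free module stays injective after tensoring with the residue field. -/
lemma lTensor_residueField_injective (z : A) (hz : z ≠ 0)
    (hkill : ∀ x ∈ IsLocalRing.maximalIdeal A, x * z = 0)
    {M N : Type u} [AddCommGroup M] [Module A M] [AddCommGroup N] [Module A N]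
    [Module.Finite A M] [Module.Free A M]
    (f : M →ₗ[A] N) (hf : Function.Injective f) :
    Function.Injective (f.lTensor (A ⧸ IsLocalRing.maximalIdeal A)) := by
  rw [injective_iff_map_eq_zero]
  intro t ht
  obtain ⟨m, rfl⟩ := TensorProduct.mk_surjective A M (A ⧸ IsLocalRing.maximalIdeal A)
    Ideal.Quotient.mk_surjective t
  rw [TensorProduct.mk_apply] at ht ⊢
  rw [LinearMap.lTensor_tmul] at ht
  have h1 : f m ∈ (IsLocalRing.maximalIdeal A) • (⊤ : Submodule A N) := by
    have := congrArg (TensorProduct.quotTensorEquivQuotSMul N (IsLocalRing.maximalIdeal A)) ht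
    rw [map_zero, TensorProduct.quotTensorEquivQuotSMul_mk_one_tmul,
      Submodule.Quotient.mk_eq_zero] at this
    exact this
  have h2 : z • f m = 0 := by
    refine Submodule.smul_induction_on h1 ?_ ?_
    · intro x hx n _
      rw [← mul_smul, mul_comm, hkill x hx, zero_smul]
    · intro a b ha hb
      rw [smul_add, ha, hb, add_zero]
  have h3 : z • m = 0 := hf (by rw [map_smul, h2, map_zero])
  have h4 : m ∈ (IsLocalRing.maximalIdeal A) • (⊤ : Submodule A M) := by
    let b := Module.finBasis A M
    rw [← b.sum_repr m]
    refine Submodule.sum_mem _ fun i _ => Submodule.smul_mem_smul ?_ trivial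
    by_contra hu
    have hunit : IsUnit (b.repr m i) := by
      rwa [IsLocalRing.mem_maximalIdeal, mem_nonunits_iff, not_not] at hu
    have h5 : z * b.repr m i = 0 := by
      have h6 : b.repr (z • m) i = 0 := by rw [h3, map_zero, Finsupp.zero_apply]
      rwa [map_smul, Finsupp.smul_apply, smul_eq_mul] at h6
    exact hz (hunit.mul_left_eq_zero.mp h5)
  apply (TensorProduct.quotTensorEquivQuotSMul M (IsLocalRing.maximalIdeal A)).injective
  rw [map_zero, TensorProduct.quotTensorEquivQuotSMul_mk_one_tmul, Submodule.Quotient.mk_eq_zero]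
  exact h4

/-- Over a local ring of depth zero, the cokernel of an injective map of finite free modules is
free, and ranks are additive. -/
lemma free_and_finrank (z : A) (hz : z ≠ 0)
    (hkill : ∀ x ∈ IsLocalRing.maximalIdeal A, x * z = 0)
    {M N P : Type u} [AddCommGroup M] [Module A M] [AddCommGroup N] [Module A N]
    [AddCommGroup P] [Module A P]
    [Module.Finite A M] [Module.Free A M] [Module.Finite A N] [Module.Free A N]
    (f : M →ₗ[A] N) (g : N →ₗ[A] P) (hf : Function.Injective f) (hfg : Function.Exact f g)
    (hg : Function.Surjective g) :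
    Module.Free A P ∧ Module.finrank A N = Module.finrank A M + Module.finrank A P := by
  have hP : Module.Free A P :=
    Module.free_of_lTensor_residueField_injective f g hg hfg
      (lTensor_residueField_injective z hz hkill f hf)
  refine ⟨hP, ?_⟩
  have : Module.Finite A P := Module.Finite.of_surjective g hg
  obtain ⟨l, hl⟩ := Module.projective_lifting_property g LinearMap.id hg
  obtain ⟨e, he1, he2⟩ := hfg.splitSurjectiveEquiv hf ⟨l, hl⟩
  rw [e.finrank_eq, Module.finrank_prod]

end loc

/-- A free module killed by a nonzero scalar is trivial. -/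
lemma subsingleton_of_free_of_smul_eq_zero {A : Type u} [CommRing A] (K : Type u) [AddCommGroup K]
    [Module A K] [Module.Free A K] (r : A) (hr : r ≠ 0) (h : ∀ y : K, r • y = 0) :
    Subsingleton K := by
  let b := Module.Free.chooseBasis A K
  have hempty : IsEmpty (Module.Free.ChooseBasisIndex A K) := by
    refine ⟨fun i => hr ?_⟩
    have h1 : b.repr (r • b i) i = 0 := by rw [h, map_zero, Finsupp.zero_apply]
    rwa [map_smul, Finsupp.smul_apply, b.repr_self, Finsupp.single_eq_same, smul_eq_mul,
      mul_one] at h1
  refine ⟨fun x y => b.ext_elem fun i => (hempty.false i).elim⟩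

section glob

variable {R : Type u} [CommRing R] [IsNoetherianRing R]

/-- the alternating sum `n 0 - n 1 + ⋯ ± n (d+1)` -/
def chi : ℕ → (ℕ → ℕ) → ℤ
  | 0, n => (n 0 : ℤ) - n 1
  | d + 1, n => (n 0 : ℤ) - chi d (fun i => n (i + 1))

variable (Q : Ideal R) [Q.IsPrime]

/-- the localization at an associated prime has depth zero -/
lemma exists_depth_zero (hQ : Q ∈ associatedPrimes R R) :
    ∃ z : Localization.AtPrime Q, z ≠ 0 ∧
      ∀ x ∈ IsLocalRing.maximalIdeal (Localization.AtPrime Q), x * z = 0 := by
  obtain ⟨_, z, hz⟩ := (isAssociatedPrime_iff (M := R)).mp hQ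
  refine ⟨algebraMap R _ z, ?_, ?_⟩
  · intro h0
    obtain ⟨s, hs⟩ := (IsLocalization.map_eq_zero_iff Q.primeCompl _ z).mp h0
    have : (s : R) ∈ (⊥ : Submodule R R).colon {z} := by
      rw [Submodule.mem_colon_singleton]
      exact hs
    rw [← hz] at this
    exact s.2 this
  · intro x hx
    obtain ⟨⟨a, s⟩, rfl⟩ := IsLocalization.mk'_surjective Q.primeCompl x
    rw [IsLocalization.AtPrime.mk'_mem_maximal_iff (Localization.AtPrime Q) Q] at hx
    have ha : z * a = 0 := by
      rw [hz, Submodule.mem_colon_singleton, Submodule.mem_bot, smul_eq_mul] at hx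
      rw [mul_comm]
      exact hx
    rw [mul_comm, IsLocalization.mul_mk'_eq_mk'_of_mul, ha, IsLocalization.mk'_zero]

/-- one step: `0 → K → R^m → M → 0` exact with `K_Q` free implies `M_Q` free, with ranks. -/
lemma step (z : Localization.AtPrime Q) (hz : z ≠ 0)
    (hkill : ∀ x ∈ IsLocalRing.maximalIdeal (Localization.AtPrime Q), x * z = 0)
    {K M : Type u} [AddCommGroup K] [Module R K] [Module.Finite R K] [AddCommGroup M] [Module R M]
    (m : ℕ) (ι : K →ₗ[R] (Fin m → R)) (π : (Fin m → R) →ₗ[R] M) (hι : Function.Injective ι)
    (hex : Function.Exact ι π) (hπ : Function.Surjective π)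
    (hK : Module.Free (Localization.AtPrime Q) (LocalizedModule Q.primeCompl K)) :
    Module.Free (Localization.AtPrime Q) (LocalizedModule Q.primeCompl M) ∧
      m = Module.finrank (Localization.AtPrime Q) (LocalizedModule Q.primeCompl K) +
        Module.finrank (Localization.AtPrime Q) (LocalizedModule Q.primeCompl M) := by
  have hexS : Function.Exact (LocalizedModule.map Q.primeCompl ι)
      (LocalizedModule.map Q.primeCompl π) := LocalizedModule.map_exact Q.primeCompl ι π hex
  have hιS := LocalizedModule.map_injective Q.primeCompl ι hι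
  have hπS := LocalizedModule.map_surjective Q.primeCompl π hπ
  have : Nontrivial R := (algebraMap R (Localization.AtPrime Q)).domain_nontrivial
  have : Module.Free (Localization.AtPrime Q) (LocalizedModule Q.primeCompl (Fin m → R)) :=
    Module.free_of_isLocalizedModule Q.primeCompl
      (LocalizedModule.mkLinearMap Q.primeCompl (Fin m → R))
  obtain ⟨h1, h2⟩ := free_and_finrank z hz hkill _ _ hιS hexS hπS
  refine ⟨h1, ?_⟩
  rw [← h2, Module.finrank_of_isLocalizedModule_of_free (Localization.AtPrime Q) Q.primeCompl
    (LocalizedModule.mkLinearMap Q.primeCompl (Fin m → R)), Module.finrank_fin_fun]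

/-- A module with a finite free resolution is free of rank the Euler characteristic at every
associated prime of the ring. -/
theorem free_localized (hQ : Q ∈ associatedPrimes R R) (d : ℕ) :
    ∀ (n : ℕ → ℕ) (A : (i : ℕ) → Matrix (Fin (n i)) (Fin (n (i + 1))) R)
      (M : Type u) [AddCommGroup M] [Module R M]
      (π : (Fin (n 0) → R) →ₗ[R] M) (_ : Function.Surjective π)
      (_ : LinearMap.ker π = LinearMap.range (A 0).mulVecLin)
      (_ : ∀ i, i < d →
        LinearMap.ker (A i).mulVecLin = LinearMap.range (A (i + 1)).mulVecLin)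
      (_ : LinearMap.ker (A d).mulVecLin = ⊥),
      Module.Free (Localization.AtPrime Q) (LocalizedModule Q.primeCompl M) ∧
        (Module.finrank (Localization.AtPrime Q) (LocalizedModule Q.primeCompl M) : ℤ) =
          chi d n := by
  obtain ⟨z, hz, hkill⟩ := exists_depth_zero Q hQ
  have : Nontrivial R := (algebraMap R (Localization.AtPrime Q)).domain_nontrivial
  induction d with
  | zero =>
    intro n A M _ _ π hπ h0 hA hlast
    have hinj : Function.Injective (A 0).mulVecLin := LinearMap.ker_eq_bot.mp hlast
    have hex : Function.Exact (A 0).mulVecLin π := by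
      rw [LinearMap.exact_iff]
      exact h0
    have hK : Module.Free (Localization.AtPrime Q)
        (LocalizedModule Q.primeCompl (Fin (n 1) → R)) :=
      Module.free_of_isLocalizedModule Q.primeCompl
        (LocalizedModule.mkLinearMap Q.primeCompl (Fin (n 1) → R))
    obtain ⟨h1, h2⟩ := step Q z hz hkill (n 0) (A 0).mulVecLin π hinj hex hπ hK
    refine ⟨h1, ?_⟩
    rw [Module.finrank_of_isLocalizedModule_of_free (Localization.AtPrime Q) Q.primeCompl
      (LocalizedModule.mkLinearMap Q.primeCompl (Fin (n 1) → R)), Module.finrank_fin_fun] at h2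
    simp only [chi]
    omega
  | succ d ih =>
    intro n A M _ _ π hπ h0 hA hlast
    have hmem : ∀ v, (A 0).mulVecLin v ∈ LinearMap.ker π := by
      intro v
      rw [h0]
      exact LinearMap.mem_range_self _ v
    obtain ⟨hK, hrk⟩ := ih (fun i => n (i + 1)) (fun i => A (i + 1)) (LinearMap.ker π)
      ((A 0).mulVecLin.codRestrict (LinearMap.ker π) hmem)
      (by
        rintro ⟨x, hx⟩
        rw [h0] at hx
        obtain ⟨v, rfl⟩ := hx
        exact ⟨v, rfl⟩)
      (by
        rw [LinearMap.ker_codRestrict]
        exact hA 0 (Nat.succ_pos d))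
      (fun i hi => hA (i + 1) (Nat.succ_lt_succ hi))
      hlast
    have hex : Function.Exact (LinearMap.ker π).subtype π := LinearMap.exact_subtype_ker_map π
    obtain ⟨h1, h2⟩ := step Q z hz hkill (n 0) (LinearMap.ker π).subtype π
      (Submodule.subtype_injective _) hex hπ hK
    refine ⟨h1, ?_⟩
    simp only [chi]
    omega

end glob

/-- Let R be a Noetherian ring and I a nonzero ideal with a finite free resolution 0 → R^{n_e} → … →
R^{n_1} → R^{n_0} → I → 0 with e ≥ 1: the map R^{n_{i+1}} → R^{n_i} is the matrix A_i, the map π :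
R^{n_0} → R is linear with image I, the kernel of π is the image of A_0, the kernel of A_i is the
image of A_{i+1} for 0 ≤ i ≤ e - 2, and A_{e-1} is injective. Then I contains a non-zero-divisor of
R. (The hypothesis that I is nonzero is implicit in the published statement: the zero ideal of a
domain has a finite free resolution and contains no non-zero-divisor.) -/
theorem result {R : Type u} [CommRing R] [IsNoetherianRing R]
    (e : ℕ) (he : 1 ≤ e) (n : ℕ → ℕ) (A : (i : ℕ) → Matrix (Fin (n i)) (Fin (n (i + 1))) R)
    (π : (Fin (n 0) → R) →ₗ[R] R) (hI : LinearMap.range π ≠ ⊥)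
    (h0 : LinearMap.ker π = LinearMap.range (A 0).mulVecLin)
    (hA : ∀ i, i + 2 ≤ e → LinearMap.ker (A i).mulVecLin = LinearMap.range (A (i + 1)).mulVecLin)
    (hlast : LinearMap.ker (A (e - 1)).mulVecLin = ⊥) :
    ∃ x : R, x ∈ LinearMap.range π ∧ x ∈ nonZeroDivisors R := by
  obtain ⟨d, rfl⟩ : ∃ d, e = d + 1 := ⟨e - 1, by omega⟩
  have hlast' : LinearMap.ker (A d).mulVecLin = ⊥ := hlast
  have hA' : ∀ i, i < d →
      LinearMap.ker (A i).mulVecLin = LinearMap.range (A (i + 1)).mulVecLin :=
    fun i hi => hA i (by omega)
  by_contra hcon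
  push Not at hcon
  -- the localizations of `I` at associated primes
  have hB : ∀ (Q : Ideal R) [Q.IsPrime], Q ∈ associatedPrimes R R →
      Module.Free (Localization.AtPrime Q) (LocalizedModule Q.primeCompl (LinearMap.range π)) ∧
        (Module.finrank (Localization.AtPrime Q)
          (LocalizedModule Q.primeCompl (LinearMap.range π)) : ℤ) = chi d n := by
    intro Q _ hQ
    exact free_localized Q hQ d n A (LinearMap.range π) π.rangeRestrict
      π.surjective_rangeRestrict (by rw [LinearMap.ker_rangeRestrict]; exact h0) hA' hlast'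
  -- `I` is contained in an associated prime
  have hfin := associatedPrimes.finite R R
  obtain ⟨P, hP, hIP⟩ : ∃ P ∈ associatedPrimes R R, LinearMap.range π ≤ P := by
    have h1 : ((LinearMap.range π : Ideal R) : Set R) ⊆
        ⋃ i ∈ (↑hfin.toFinset : Set (Ideal R)), ((id i : Ideal R) : Set R) := by
      intro x hx
      have h2 : x ∈ ⋃ p ∈ associatedPrimes R R, (p : Set R) := by
        rw [biUnion_associatedPrimes_eq_compl_nonZeroDivisors]
        exact hcon x hx
      simpa using h2
    obtain ⟨P, hP, hle⟩ := (Ideal.subset_union_prime (s := hfin.toFinset) (f := id) ⊥ ⊥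
      (fun i hi _ _ => (hfin.mem_toFinset.1 hi).isPrime)).1 h1
    exact ⟨P, hfin.mem_toFinset.1 hP, hle⟩
  have hPprime : P.IsPrime := (show IsAssociatedPrime P R from hP).isPrime
  -- hence the Euler characteristic is zero
  have hchi : chi d n = 0 := by
    obtain ⟨hfree, hrk⟩ := hB P hP
    obtain ⟨_, z, hz⟩ := (isAssociatedPrime_iff (M := R)).mp hP
    have hsub : Subsingleton (LocalizedModule P.primeCompl (LinearMap.range π)) := by
      refine subsingleton_of_free_of_smul_eq_zero (A := Localization.AtPrime P) _
        (algebraMap R (Localization.AtPrime P) z) ?_ ?_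
      · intro h0'
        obtain ⟨s, hs⟩ := (IsLocalization.map_eq_zero_iff P.primeCompl _ z).mp h0'
        have : (s : R) ∈ (⊥ : Submodule R R).colon {z} := by
          rw [Submodule.mem_colon_singleton]
          exact hs
        rw [← hz] at this
        exact s.2 this
      · intro y
        induction y using LocalizedModule.induction_on with
        | h a s =>
          rw [algebraMap_smul, LocalizedModule.smul'_mk]
          have ha : (a : R) ∈ P := hIP a.2
          rw [hz, Submodule.mem_colon_singleton] at ha
          have : z • a = 0 := by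
            ext
            simp only [Submodule.coe_smul, smul_eq_mul, Submodule.coe_zero]
            rw [mul_comm]
            exact ha
          rw [this, LocalizedModule.zero_mk]
    rw [← hrk, Module.finrank_zero_of_subsingleton]
    rfl
  -- hence `I` vanishes at every associated prime, so `I = 0`
  apply hI
  rw [eq_bot_iff]
  intro a ha
  rw [Submodule.mem_bot]
  by_contra ha0
  obtain ⟨Q, hQ, hle⟩ := exists_le_isAssociatedPrime_of_isNoetherianRing R a ha0
  have hQprime : Q.IsPrime := hQ.isPrime
  obtain ⟨hfree, hrk⟩ := hB Q hQ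
  rw [hchi] at hrk
  have hr : Module.finrank (Localization.AtPrime Q)
      (LocalizedModule Q.primeCompl (LinearMap.range π)) = 0 := by exact_mod_cast hrk
  have hsub : Subsingleton (LocalizedModule Q.primeCompl (LinearMap.range π)) :=
    (Module.finrank_eq_zero_iff_of_free (Localization.AtPrime Q) _).mp hr
  have h0' : LocalizedModule.mk (⟨a, ha⟩ : LinearMap.range π) (1 : Q.primeCompl) = 0 :=
    Subsingleton.elim _ _
  rw [← LocalizedModule.zero_mk (1 : Q.primeCompl), LocalizedModule.mk_eq] at h0'
  obtain ⟨s, hs⟩ := h0'
  rw [smul_zero] at hs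
  have hsQ : (s : R) ∈ Q := by
    apply hle
    rw [Submodule.mem_colon_singleton]
    have := congrArg Subtype.val hs
    simpa [Submonoid.smul_def] using this
  exact s.2 hsQ

end Groth.Agent.S12909
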