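import Groth.Statements.S12914
import Mathlib
import Groth.Agent.Lib.Helper77.PointsRes

set_option autoImplicit false
universe u
open CAlgX

namespace Groth.Agent.S12914

/-- Let k be a field, Z a finite set of nonzero vectors in k^3, regarded as points of the projective
plane, and I the homogeneous vanishing ideal of Z in k[x_0, x_1, x_2]: a polynomial belongs to I
exactly when every one of its homogeneous components vanishes at every vector of Z. If Z lies on a
curve of degree d, that is I contains a nonzero homogeneous form of degree d, then I is generated by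
at most d + 1 elements. -/
theorem result (k : Type u) [Field k]
    (Z : Finset (Fin 3 → k)) (hZ : ∀ p ∈ Z, p ≠ 0) (I : Ideal (MvPolynomial (Fin 3) k))
    (hI : ∀ f : MvPolynomial (Fin 3) k, f ∈ I ↔
      ∀ p ∈ Z, ∀ j : ℕ, MvPolynomial.eval p (MvPolynomial.homogeneousComponent j f) = 0)
    (d : ℕ) (hf : ∃ f ∈ I, MvPolynomial.IsHomogeneous f d ∧ f ≠ 0) :
    Submodule.spanFinrank I ≤ d + 1 := by
  classical
  by_cases hZne : Z.Nonempty
  · obtain ⟨t, Ψ, g, a, b, h1, h2, h3, h4, h5, h6⟩ :=
      Groth.Agent.Lib.Helper77.PointsRes.exists_data Z hZ hZne I hI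
    have hspan : I = Submodule.span (MvPolynomial (Fin 3) k) (Set.range g) := by
      rw [← h3, Fintype.range_linearCombination]
    -- number of generators
    have hgen : Submodule.spanFinrank I ≤ t + 1 := by
      rw [hspan]
      refine (Submodule.spanFinrank_span_le_ncard_of_finite (Set.finite_range g)).trans ?_
      have : Set.range g = ↑(Finset.univ.image g) := by simp
      rw [this, Set.ncard_coe_finset]
      exact Finset.card_image_le.trans (by simp)
    -- sorting
    let σ₁ : Equiv.Perm (Fin (t + 1)) := Tuple.sort (fun p => -a p)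
    let σ₂ : Equiv.Perm (Fin t) := Tuple.sort (fun q => -b q)
    have ha : Antitone (a ∘ σ₁) := by
      intro i j hij
      have := Tuple.monotone_sort (fun p => -a p) hij
      simp only [Function.comp_apply] at this ⊢
      linarith
    have hb : Antitone (b ∘ σ₂) := by
      intro i j hij
      have := Tuple.monotone_sort (fun q => -b q) hij
      simp only [Function.comp_apply] at this ⊢
      linarith
    have hcolΨ : ∀ q', ∑ p, Ψ p q' * g p = 0 := by
      intro q'
      have hmem : (fun p => Ψ p q') ∈
          LinearMap.ker (Fintype.linearCombination (MvPolynomial (Fin 3) k) g) := by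
        rw [h2]
        refine ⟨Pi.single q' 1, ?_⟩
        rw [Matrix.mulVecLin_apply, Matrix.mulVec_single_one]
        rfl
      rw [LinearMap.mem_ker, Fintype.linearCombination_apply] at hmem
      simpa [smul_eq_mul] using hmem
    let Mx' : Matrix (Fin (t + 1)) (Fin t) (MvPolynomial (Fin 3) k) := Ψ.submatrix σ₁ σ₂
    let G' : Matrix (Fin 1) (Fin (t + 1)) (MvPolynomial (Fin 3) k) := fun _ p => g (σ₁ p)
    have hGM : G' * Mx' = 0 := by
      apply Matrix.ext
      intro i q
      rw [Matrix.mul_apply, Matrix.zero_apply]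
      simp only [G', Mx', Matrix.submatrix_apply]
      rw [Equiv.sum_comp σ₁ (fun p => g p * Ψ p (σ₂ q)), ← hcolΨ (σ₂ q)]
      exact Finset.sum_congr rfl fun p _ => mul_comm _ _
    have hinj : Function.Injective Mx'.mulVec := by
      intro v w hvw
      simp only [Mx', Matrix.submatrix_mulVec_equiv] at hvw
      have h' : Ψ.mulVec (v ∘ ⇑σ₂.symm) = Ψ.mulVec (w ∘ ⇑σ₂.symm) := by
        funext p
        have := congrFun hvw (σ₁.symm p)
        simpa using this
      have h'' := h1 h'
      funext q
      have := congrFun h'' (σ₂ q)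
      simpa using this
    have hcol : ∀ p, ∃ i, G' i p ≠ 0 := fun p => ⟨0, (h5 (σ₁ p)).2⟩
    have hzero : ∀ p q, (b ∘ σ₂) q - (a ∘ σ₁) p ≤ 0 → Mx' p q = 0 := fun p q h =>
      Groth.Agent.Lib.Helper77.eq_zero_of_mem_stdGr_of_mem_irrel k (Fin 3) h
        (h4 (σ₁ p) (σ₂ q)).1 (h4 (σ₁ p) (σ₂ q)).2
    have hef := Groth.Agent.Lib.Helper77.PointsRes.ef_ge_one G' Mx' hGM hinj hcol (a ∘ σ₁) (b ∘ σ₂)
      ha hb hzero
    have hsum' : ∑ p, (a ∘ σ₁) p = ∑ q, (b ∘ σ₂) q := by
      simp only [Function.comp_apply]
      rw [Equiv.sum_comp σ₁ a, Equiv.sum_comp σ₂ b, h6]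
    have hta : ∀ p, (t : ℤ) ≤ a p := by
      intro p
      have := Groth.Agent.Lib.Helper77.PointsRes.le_of_ef t (a ∘ σ₁) (b ∘ σ₂) (fun i => (hef i).1)
        (fun i => (hef i).2) hsum' (σ₁.symm p)
      simpa using this
    -- a generator of degree at most d
    obtain ⟨f, hfI, hfh, hf0⟩ := hf
    have hfgr : f ∈ GrSyz.stdGr k (Fin 3) (d : ℤ) := by
      rw [GrSyz.mem_stdGr_iff]
      intro m hm
      have := hfh hm
      rw [Groth.Agent.Lib.Helper77.PointsRes.weight_one_int, Finsupp.degree_eq_weight_one]
      exact_mod_cast this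
    rw [hspan] at hfI
    obtain ⟨p, hp⟩ := Groth.Agent.Lib.Helper77.PointsRes.exists_deg_le g a (fun p => (h5 p).1) f d
      hfgr hf0 hfI
    have := hta p
    omega
  · have hZ0 : Z = ∅ := Finset.not_nonempty_iff_eq_empty.1 hZne
    have hItop : I = Submodule.span (MvPolynomial (Fin 3) k) {1} := by
      rw [← Ideal.span, Ideal.span_singleton_one]
      ext f
      simp [hI, hZ0]
    rw [hItop]
    refine (Submodule.spanFinrank_span_le_ncard_of_finite (Set.finite_singleton _)).trans ?_
    simp

end Groth.Agent.S12914
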