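import Groth.Statements.S12915
import Mathlib
-- import your own Groth.Agent.* helpers here

set_option autoImplicit false
universe u
open CAlgX

namespace Groth.Agent.S12915

open MvPolynomial Module

theorem finrank_homog (k : Type*) [Field k] (r m : ℕ) :
    finrank k (homogeneousSubmodule (Fin r) k m) = (r + m - 1).choose m := by
  classical
  rw [homogeneousSubmodule_eq_finsupp_supported]
  rw [(AddMonoidAlgebra.supportedEquivFinsupp (R := k) (S := k)
    {d : Fin r →₀ ℕ | d.degree = m}).finrank_eq]
  have hcard : ∀ d : Fin r →₀ ℕ, Multiset.card (Finsupp.toMultiset d) = d.degree := by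
    intro d
    rw [Finsupp.card_toMultiset, Finsupp.degree_apply, Finsupp.sum]
    rfl
  let e : {d : Fin r →₀ ℕ | d.degree = m} ≃ Sym (Fin r) m :=
    { toFun := fun d => ⟨Finsupp.toMultiset d.1, (hcard d.1).trans d.2⟩
      invFun := fun s => ⟨Multiset.toFinsupp s.1, by
        show (Multiset.toFinsupp s.1).degree = m
        rw [← hcard, Multiset.toFinsupp_toMultiset]
        exact s.2⟩
      left_inv := fun d => by
        apply Subtype.ext
        simp
      right_inv := fun s => by
        apply Subtype.ext
        simp }
  letI : Fintype {d : Fin r →₀ ℕ | d.degree = m} := Fintype.ofEquiv _ e.symm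
  rw [Module.finrank_finsupp_self, Fintype.card_congr e, Sym.card_sym_eq_choose, Fintype.card_fin]

lemma hc_mul {σ : Type*} {R : Type*} [CommSemiring R] (f q : MvPolynomial σ R) {m : ℕ}
    (hf : f.IsHomogeneous m) (j : ℕ) :
    homogeneousComponent (m + j) (f * q) = f * homogeneousComponent j q := by
  classical
  have hq : q = ∑ i ∈ Finset.range (q.totalDegree + 1), homogeneousComponent i q :=
    (sum_homogeneousComponent q).symm
  conv_lhs => rw [hq, Finset.mul_sum, map_sum]
  have hterm : ∀ i ∈ Finset.range (q.totalDegree + 1),
      homogeneousComponent (m + j) (f * homogeneousComponent i q) =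
        if i = j then f * homogeneousComponent j q else 0 := by
    intro i _
    have hmem : f * homogeneousComponent i q ∈ homogeneousSubmodule σ R (m + i) :=
      (mem_homogeneousSubmodule _ _).mpr (hf.mul (homogeneousComponent_isHomogeneous i q))
    rw [homogeneousComponent_of_mem hmem]
    by_cases hij : i = j
    · subst hij; simp
    · have hne : m + j ≠ m + i := by omega
      rw [if_neg hne, if_neg hij]
  rw [Finset.sum_congr rfl hterm, Finset.sum_ite_eq']
  split_ifs with hjs
  · rfl
  · have hlt : q.totalDegree < j := by rw [Finset.mem_range] at hjs; omega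
    rw [homogeneousComponent_eq_zero j q hlt, mul_zero]

/-- Let k be a field, S = k[x_0, …, x_r], and f a nonzero homogeneous polynomial of degree m. For every
t ≥ m the image in S/(f) of the homogeneous polynomials of degree t is a k-vector space of dimension
C(t + r, r) - C(t + r - m, r). (The published clause states that the hypersurface f = 0 in P^r has
degree m; its proof computes exactly this Hilbert function, whose polynomial has leading term m
t^(r-1)/(r-1)!, and that computation is what is stated here.) -/
theorem result (k : Type u) [Field k] (r m : ℕ)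
    (f : MvPolynomial (Fin (r + 1)) k) (hf : f.IsHomogeneous m) (hf0 : f ≠ 0) (t : ℕ) (ht : m ≤ t) :
    Module.finrank k
        (Submodule.map ((Ideal.Quotient.mkₐ k (Ideal.span {f})).toLinearMap)
          (MvPolynomial.homogeneousSubmodule (Fin (r + 1)) k t)) =
      Nat.choose (t + r) r - Nat.choose (t + r - m) r := by
  classical
  have hmul : ∀ g ∈ homogeneousSubmodule (Fin (r + 1)) k (t - m),
      f * g ∈ homogeneousSubmodule (Fin (r + 1)) k t := by
    intro g hg
    rw [mem_homogeneousSubmodule] at hg ⊢
    have h1 := hf.mul hg
    rwa [Nat.add_sub_cancel' ht] at h1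
  let μ : homogeneousSubmodule (Fin (r + 1)) k (t - m) →ₗ[k]
      homogeneousSubmodule (Fin (r + 1)) k t :=
    { toFun := fun g => ⟨f * g.1, hmul g.1 g.2⟩
      map_add' := fun a b => Subtype.ext (by simp [mul_add])
      map_smul' := fun c a => Subtype.ext (by simp [mul_smul_comm]) }
  have hμinj : Function.Injective μ := by
    intro a b hab
    have h1 : f * a.1 = f * b.1 := congrArg Subtype.val hab
    exact Subtype.ext (mul_left_cancel₀ hf0 h1)
  let πt : homogeneousSubmodule (Fin (r + 1)) k t →ₗ[k]
      (MvPolynomial (Fin (r + 1)) k ⧸ Ideal.span {f}) :=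
    ((Ideal.Quotient.mkₐ k (Ideal.span {f})).toLinearMap).comp
      (homogeneousSubmodule (Fin (r + 1)) k t).subtype
  have hrange : LinearMap.range πt =
      Submodule.map ((Ideal.Quotient.mkₐ k (Ideal.span {f})).toLinearMap)
        (homogeneousSubmodule (Fin (r + 1)) k t) := by
    show LinearMap.range (LinearMap.comp _ _) = _
    rw [LinearMap.range_comp, Submodule.range_subtype]
  have hker : LinearMap.ker πt = LinearMap.range μ := by
    ext ⟨g, hg⟩
    rw [LinearMap.mem_ker, LinearMap.mem_range]
    constructor
    · intro h0
      have h0' : (Ideal.Quotient.mk (Ideal.span {f})) g = 0 := h0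
      have hgf : g ∈ Ideal.span {f} := Ideal.Quotient.eq_zero_iff_mem.mp h0'
      obtain ⟨q, hq⟩ := Ideal.mem_span_singleton'.mp hgf
      have hg' : g.IsHomogeneous t := (mem_homogeneousSubmodule _ _).mp hg
      have e : f * homogeneousComponent (t - m) q = g := by
        rw [← hc_mul f q hf (t - m), Nat.add_sub_cancel' ht, mul_comm, hq,
          homogeneousComponent_eq_self hg']
      exact ⟨⟨homogeneousComponent (t - m) q, homogeneousComponent_mem _ _⟩, Subtype.ext e⟩
    · rintro ⟨q, hq⟩
      have hgq : g = f * q.1 := (congrArg Subtype.val hq).symm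
      show (Ideal.Quotient.mk (Ideal.span {f})) g = 0
      rw [hgq]
      exact Ideal.Quotient.eq_zero_iff_mem.mpr
        (Ideal.mul_mem_right _ _ (Ideal.subset_span rfl))
  haveI : Module.Finite k (homogeneousSubmodule (Fin (r + 1)) k t) :=
    Module.finite_of_finrank_pos (by rw [finrank_homog]; exact Nat.choose_pos (by omega))
  have h1 := LinearMap.finrank_range_add_finrank_ker πt
  rw [hrange, hker, LinearMap.finrank_range_of_inj hμinj, finrank_homog, finrank_homog] at h1
  have e1 : (r + 1 + t - 1).choose t = (t + r).choose r := by
    have h2 : r + 1 + t - 1 = t + r := by omega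
    rw [h2, Nat.choose_symm_add]
  have e2 : (r + 1 + (t - m) - 1).choose (t - m) = (t + r - m).choose r := by
    have h2 : r + 1 + (t - m) - 1 = (t - m) + r := by omega
    have h3 : t + r - m = (t - m) + r := by omega
    rw [h2, h3, Nat.choose_symm_add]
  rw [e1, e2] at h1
  omega

end Groth.Agent.S12915
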