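import Groth.Statements.S12916
import Groth.Agent.Lib.Helper14.FinLenSupp

set_option autoImplicit false
universe u
open CAlgX

namespace Groth.Agent.S12916

theorem isMaximal_of_X_mem {σ : Type*} {k : Type*} [Field k] (P : Ideal (MvPolynomial σ k))
    (hP : P ≠ ⊤) (hX : ∀ i, (MvPolynomial.X i : MvPolynomial σ k) ∈ P) : P.IsMaximal := by
  have key : ∀ p : MvPolynomial σ k, p - MvPolynomial.C (MvPolynomial.constantCoeff p) ∈ P := by
    intro p
    induction p using MvPolynomial.induction_on with
    | C a => simp
    | add p q hp hq =>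
      have := P.add_mem hp hq
      rw [map_add, map_add]
      convert this using 1
      ring
    | mul_X p i hp =>
      simp only [map_mul, MvPolynomial.constantCoeff_X, mul_zero, map_zero, sub_zero]
      exact P.mul_mem_left _ (hX i)
  rw [Ideal.isMaximal_iff]
  refine ⟨(Ideal.ne_top_iff_one _).1 hP, fun J x hPJ hxP hxJ => ?_⟩
  have hc : MvPolynomial.constantCoeff x ≠ 0 := fun h0 => hxP (by
    have := key x
    rwa [h0, map_zero, sub_zero] at this)
  have h1 : MvPolynomial.C (MvPolynomial.constantCoeff x) ∈ J := by
    have := J.sub_mem hxJ (hPJ (key x))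
    simpa using this
  have := J.mul_mem_left (MvPolynomial.C (MvPolynomial.constantCoeff x)⁻¹) h1
  rwa [← map_mul, inv_mul_cancel₀ hc, map_one] at this

/-- Let k be an infinite field, S = k[x_0, …, x_r], M a finitely generated S-module and d a natural
number. Then some nonzero homogeneous polynomial f of degree d is quasi-regular on M: the submodule
(0 :_M f) of elements of M annihilated by f has finite length. (The published statement assumes M
graded; this row assumes only that M is finitely generated.) -/
theorem result (k : Type u) [Field k] [Infinite k] (r d : ℕ)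
    (M : Type u) [AddCommGroup M] [Module (MvPolynomial (Fin (r + 1)) k) M] [Module.Finite (MvPolynomial (Fin (r + 1)) k) M] :
    ∃ f : MvPolynomial (Fin (r + 1)) k, f.IsHomogeneous d ∧ f ≠ 0 ∧
      IsFiniteLength (MvPolynomial (Fin (r + 1)) k) ↥(Submodule.torsionBy (MvPolynomial (Fin (r + 1)) k) M f) := by
  classical
  have hfin : (associatedPrimes (MvPolynomial (Fin (r + 1)) k) M).Finite :=
    associatedPrimes.finite _ M
  let PP : Set (Ideal (MvPolynomial (Fin (r + 1)) k)) :=
    {P | P ∈ associatedPrimes (MvPolynomial (Fin (r + 1)) k) M ∧ ¬ P.IsMaximal}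
  have hPPfin : PP.Finite := hfin.subset (fun P hP => hP.1)
  let V : Submodule k (MvPolynomial (Fin (r + 1)) k) :=
    MvPolynomial.homogeneousSubmodule (Fin (r + 1)) k d
  have hXV : ∀ j : Fin (r + 1), (MvPolynomial.X j : MvPolynomial (Fin (r + 1)) k) ^ d ∈ V := by
    intro j
    rw [MvPolynomial.mem_homogeneousSubmodule]
    exact MvPolynomial.isHomogeneous_X_pow j d
  let W : Option PP → Subspace k V := fun o => match o with
    | none => ⊥
    | some P => Submodule.comap V.subtype (P.1.restrictScalars k)
  have hfin' : Finite (Option PP) := by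
    have := hPPfin.to_subtype
    infer_instance
  have hne : ∀ o, W o ≠ ⊤ := by
    intro o
    cases o with
    | none =>
      intro h
      have h1 : (⟨_, hXV 0⟩ : V) ∈ (⊥ : Subspace k V) := by
        change _ ∈ W none
        rw [h]; trivial
      rw [Submodule.mem_bot] at h1
      have h2 := congrArg Subtype.val h1
      simp only [Submodule.coe_zero] at h2
      exact (pow_ne_zero d (MvPolynomial.X_ne_zero (0 : Fin (r + 1)))) h2
    | some P =>
      intro h
      obtain ⟨P, hPa, hPm⟩ := P
      apply hPm
      have hprime : P.IsPrime := hPa.1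
      apply isMaximal_of_X_mem P hprime.ne_top
      intro j
      have h1 : (⟨_, hXV j⟩ : V) ∈ W (some ⟨P, hPa, hPm⟩) := by rw [h]; trivial
      have h2 : (MvPolynomial.X j : MvPolynomial (Fin (r + 1)) k) ^ d ∈ P := h1
      exact hprime.mem_of_pow_mem d h2
  have hcov : ⋃ o, (W o : Set V) ≠ Set.univ := fun h => by
    obtain ⟨o, ho⟩ := Subspace.exists_eq_top_of_iUnion_eq_univ h
    exact hne o ho
  obtain ⟨v, hv⟩ : ∃ v : V, v ∉ ⋃ o, (W o : Set V) := by
    by_contra hh
    push_neg at hh
    exact hcov (Set.eq_univ_of_forall hh)
  simp only [Set.mem_iUnion, not_exists] at hv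
  refine ⟨v.1, (MvPolynomial.mem_homogeneousSubmodule _ _).1 v.2, ?_, ?_⟩
  · intro h0
    apply hv none
    change v ∈ (⊥ : Subspace k V)
    rw [Submodule.mem_bot]
    exact Subtype.ext h0
  · apply Groth.Agent.Lib.Helper14.FinLenSupp.isFiniteLength_of_associatedPrimes
    intro P hP
    have hPM : P ∈ associatedPrimes (MvPolynomial (Fin (r + 1)) k) M :=
      associatedPrimes.subset_of_injective (f := Submodule.subtype _) Subtype.val_injective hP
    have hvP : v.1 ∈ P := by
      obtain ⟨hprime, x, hx⟩ := isAssociatedPrime_iff.1 hP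
      rw [hx, Submodule.mem_colon_singleton, Submodule.mem_bot]
      apply Subtype.ext
      have := x.2
      rw [Submodule.mem_torsionBy_iff] at this
      simpa using this
    by_contra hmax
    exact hv (some ⟨P, hPM, hmax⟩) hvP

end Groth.Agent.S12916
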