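import Groth.Statements.S12924
import Groth.Agent.Lib.Helper84.QuotCover
import Groth.Agent.Lib.Helper84.SchemeQuot
import Groth.Agent.S12922

set_option autoImplicit false
universe u
open CategoryTheory AlgebraicGeometry
open HopfRep

namespace Groth.Agent.S12924

/-- Let `k` be a commutative ring, `A` a commutative Hopf algebra over `k`, flat as a `k`-module, `B` a
commutative `k`-algebra with a coaction `ρ : B → B ⊗ A` that is an algebra map and admits a total
integral (a comodule map `α : A → B` with `α 1 = 1`), and `C = B^A`. Then `Spec B → Spec C` is a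
categorical quotient of the action in the category of schemes: for every scheme `Z` and every
morphism `ψ : Spec B → Z` which is invariant, i.e. has the same composite with `Spec (B ⊗ A) → Spec
B` induced by `ρ` and by `b ↦ b ⊗ 1`, there is exactly one morphism `Spec C → Z` through which `ψ`
factors. (The published statement assumes only that taking invariants is exact on `(B, A)`-modules;
a total integral, assumed here, gives that exactness.) -/
theorem result
    (k : Type u) [CommRing k] (A : Type u) [CommRing A] [HopfAlgebra k A] [Module.Flat k A]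
    (B : Type u) [CommRing B] [Algebra k B] [HopfRep.Comod k A B] [GLin.IsCoactAlg k A B]
    (htame : ∃ α : A →ₗ[k] B, Hoch.IsComodHom A α ∧ α 1 = 1)
    (Z : Scheme.{u}) (ψ : Spec (CommRingCat.of B) ⟶ Z)
    (hψ : Spec.map (CommRingCat.ofHom (GLin.coactAlgHom k A B).toRingHom) ≫ ψ =
      Spec.map (CommRingCat.ofHom
        (Algebra.TensorProduct.includeLeftRingHom : B →+* TensorProduct k B A)) ≫ ψ) :
    ∃! χ : Spec (CommRingCat.of (GLin.invariants k A B)) ⟶ Z,
      Spec.map (CommRingCat.ofHom (algebraMap (GLin.invariants k A B) B)) ≫ χ = ψ := by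
  classical
  obtain ⟨α, hα, hα1⟩ := htame
  let φ : CommRingCat.of (GLin.invariants k A B) ⟶ CommRingCat.of B :=
    CommRingCat.ofHom (algebraMap (GLin.invariants k A B) B)
  let ρ : CommRingCat.of B ⟶ CommRingCat.of (TensorProduct k B A) :=
    CommRingCat.ofHom (GLin.coactAlgHom k A B).toRingHom
  let ι : CommRingCat.of B ⟶ CommRingCat.of (TensorProduct k B A) :=
    CommRingCat.ofHom (Algebra.TensorProduct.includeLeftRingHom : B →+* TensorProduct k B A)
  let V : Z.affineOpens → Z.Opens := fun i => i.1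
  let U : Z.affineOpens → Set (PrimeSpectrum B) := fun i => SetLike.coe (ψ ⁻¹ᵁ V i)
  have hU : ∀ i, IsOpen (U i) := fun i => (ψ ⁻¹ᵁ V i).isOpen
  have hinv : ∀ i, PrimeSpectrum.comap (GLin.coactAlgHom k A B).toRingHom ⁻¹' U i =
      PrimeSpectrum.comap
        (Algebra.TensorProduct.includeLeftRingHom : B →+* TensorProduct k B A) ⁻¹' U i := by
    intro i
    have h1 : (Spec.map ρ) ⁻¹ᵁ (ψ ⁻¹ᵁ V i) = (Spec.map ι) ⁻¹ᵁ (ψ ⁻¹ᵁ V i) := by
      rw [← Scheme.Hom.comp_preimage, ← Scheme.Hom.comp_preimage, hψ]
    exact congrArg (fun W : (Spec (CommRingCat.of (TensorProduct k B A))).Opens => SetLike.coe W) h1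
  have hcov : ∀ x, ∃ i, x ∈ U i := by
    intro x
    obtain ⟨_, ⟨W, hW, rfl⟩, hxW, -⟩ :=
      Z.isBasis_affineOpens.exists_subset_of_mem_open (Set.mem_univ (ψ x)) isOpen_univ
    exact ⟨⟨W, hW⟩, hxW⟩
  obtain ⟨f, hf, hfU⟩ := Groth.Agent.Lib.Helper84.exists_invariant_partition α hα hα1 U hU hinv hcov
  refine Groth.Agent.Lib.Helper84.exists_unique_desc_Spec φ ρ ι ?_
    (Groth.Agent.S12922.result k A B ⟨α, hα, hα1⟩) Subtype.val_injective ?_ ψ hψ f V
    (fun i => i.2) hf (fun i => hfU i)
  · ext c
    exact c.2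
  · intro b hb
    exact ⟨⟨b, hb⟩, rfl⟩

end Groth.Agent.S12924
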