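import Groth.Statements.S12926
-- import your own Groth.Agent.* helpers here

set_option autoImplicit false
universe u v
open HopfRep

namespace Groth.Agent.S12926

/-- Let `k` be a commutative ring and `A` a commutative bialgebra over `k`, flat as a `k`-module. If the
submodule `k · 1` of the regular comodule `A` has a complement `H` which is a subcomodule — the case
used when `A` is cosemisimple, i.e. every subcomodule of every comodule is a direct summand as a
comodule — then the trivial action of `Spec A` on `Spec k` is tame: there is a comodule map `α : A →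
k`, for the regular coaction on `A` and the trivial coaction `r ↦ r ⊗ 1` on `k`, with `α 1 = 1`. -/
theorem result
    (k : Type u) [CommRing k] (A : Type v) [CommRing A] [Bialgebra k A] [Module.Flat k A]
    (H : Submodule k A) (hH : HopfRep.IsSubcomod (k := k) (A := A) H)
    (hc : IsCompl (Submodule.span k {(1 : A)}) H) :
    ∃ α : A →ₗ[k] k, @Hoch.IsComodHom k _ A _ _ _ A _ _ _ k _ _ (HopfRep.Comod.trivial k A k) α ∧ α 1 = 1 := by
  classical
  let P := Submodule.projectionOnto (Submodule.span k {(1 : A)}) H hc
  let α : A →ₗ[k] k := Coalgebra.counit ∘ₗ (Submodule.span k {(1 : A)}).subtype ∘ₗ P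
  have hαH : α ∘ₗ H.subtype = 0 := by
    ext w
    have : P (w : A) = 0 := Submodule.projectionOnto_apply_right hc w
    simp [α, this]
  have hα1 : α 1 = 1 := by
    have : P 1 = ⟨1, Submodule.mem_span_singleton_self 1⟩ :=
      Submodule.projectionOnto_apply_left hc ⟨1, Submodule.mem_span_singleton_self 1⟩
    simp [α, this]
  have key : ∀ a : A, α a ⊗ₜ[k] (1 : A) = (α.rTensor A) (Coalgebra.comul (R := k) a) := by
    intro a
    have ha : a ∈ Submodule.span k {(1 : A)} ⊔ H := by rw [hc.sup_eq_top]; trivial
    obtain ⟨x, hx, w, hw, rfl⟩ := Submodule.mem_sup.1 ha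
    obtain ⟨r, rfl⟩ := Submodule.mem_span_singleton.1 hx
    rw [map_add, map_add, map_add, TensorProduct.add_tmul]
    congr 1
    · rw [map_smul, map_smul, map_smul, Bialgebra.comul_one, Algebra.TensorProduct.one_def,
        LinearMap.rTensor_tmul, TensorProduct.smul_tmul']
    · obtain ⟨z, hz⟩ := hH w hw
      have h0 : α w = 0 := LinearMap.congr_fun hαH ⟨w, hw⟩
      rw [h0, TensorProduct.zero_tmul]
      change _ = (α.rTensor A) (HopfRep.Comod.coact (k := k) (A := A) w)
      rw [← hz, ← LinearMap.comp_apply, ← LinearMap.rTensor_comp, hαH, LinearMap.rTensor_zero,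
        LinearMap.zero_apply]
  refine ⟨α, ?_, hα1⟩
  unfold Hoch.IsComodHom
  ext a
  exact key a

end Groth.Agent.S12926
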