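import Groth.Statements.S12929
-- import your own Groth.Agent.* helpers here

set_option autoImplicit false
universe u v w w'
open HopfRep

namespace Groth.Agent.S12929

open TensorProduct

section
variable (k : Type u) [CommRing k] (A : Type v) [CommRing A] [HopfAlgebra k A]
  (M : Type w) [AddCommGroup M] [Module k M] [HopfRep.Comod k A M]
  (N : Type w') [AddCommGroup N] [Module k N]

omit [HopfRep.Comod k A M] in
theorem assoc_symm_nat (h : M →ₗ[k] N) (t : M ⊗[k] (A ⊗[k] A)) :
    (TensorProduct.assoc k N A A).symm (TensorProduct.map h LinearMap.id t) =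
    ((h.rTensor A).rTensor A) ((TensorProduct.assoc k M A A).symm t) := by
  induction t using TensorProduct.induction_on with
  | zero => simp
  | tmul m s =>
    induction s using TensorProduct.induction_on with
    | zero => simp
    | tmul a b => simp
    | add x y hx hy => simp only [tmul_add, map_add, hx, hy]
  | add x y hx hy => simp only [map_add, hx, hy]

theorem coassoc_apply (m : M) :
    ((HopfRep.Comod.coact (k := k) (A := A) : M →ₗ[k] M ⊗[k] A).rTensor A)
        (HopfRep.Comod.coact (k := k) (A := A) m) =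
    (TensorProduct.assoc k M A A).symm ((Coalgebra.comul (R := k) (A := A)).lTensor M
        (HopfRep.Comod.coact (k := k) (A := A) m)) := by
  rw [LinearEquiv.eq_symm_apply]
  exact LinearMap.congr_fun (HopfRep.Comod.coassoc (k := k) (A := A) (V := M)) m

omit [HopfRep.Comod k A M] in
theorem lTensor_rTensor_nat (h : M →ₗ[k] N) (x : M ⊗[k] A) :
    ((Coalgebra.comul (R := k) (A := A)).lTensor N) ((h.rTensor A) x) =
      TensorProduct.map h LinearMap.id (((Coalgebra.comul (R := k) (A := A)).lTensor M) x) := by
  induction x using TensorProduct.induction_on with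
  | zero => simp
  | tmul m a => simp
  | add x y hx hy => simp only [map_add, hx, hy]

theorem part1 (h : M →ₗ[k] N) (m : M) :
    Hoch.Ind.coactAux k A N ((h.rTensor A) (HopfRep.Comod.coact (k := k) (A := A) m)) =
    ((h.rTensor A ∘ₗ HopfRep.Comod.coact (k := k) (A := A)).rTensor A)
      (HopfRep.Comod.coact (k := k) (A := A) m) := by
  rw [LinearMap.rTensor_comp, LinearMap.comp_apply, coassoc_apply, ← assoc_symm_nat,
    ← lTensor_rTensor_nat]
  rfl

/-- `id ⊗ ε : N ⊗ A → N` on plain tensor products -/
noncomputable def cN : N ⊗[k] A →ₗ[k] N :=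
  (TensorProduct.rid k N).toLinearMap ∘ₗ (Coalgebra.counit (R := k) (A := A)).lTensor N

theorem cN_tmul (n : N) (a : A) : cN k A N (n ⊗ₜ[k] a) = Coalgebra.counit (R := k) a • n := by
  simp [cN]

theorem counit_assoc_symm (n : N) (t : A ⊗[k] A) :
    ((cN k A N).rTensor A) ((TensorProduct.assoc k N A A).symm (n ⊗ₜ[k] t)) =
      n ⊗ₜ[k] (TensorProduct.lid k A (((Coalgebra.counit (R := k) (A := A)).rTensor A) t)) := by
  induction t using TensorProduct.induction_on with
  | zero => simp
  | tmul a b =>
    simp [cN_tmul, TensorProduct.smul_tmul]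
  | add x y hx hy => simp only [tmul_add, map_add, hx, hy]

theorem counit_coactAux (y : N ⊗[k] A) :
    ((cN k A N).rTensor A) (Hoch.Ind.coactAux k A N y) = y := by
  induction y using TensorProduct.induction_on with
  | zero => simp
  | tmul n a =>
    rw [Hoch.Ind.coactAux_tmul, counit_assoc_symm, Coalgebra.rTensor_counit_comul]
    simp
  | add x y hx hy => simp only [map_add, hx, hy]

omit [HopfRep.Comod k A M] in
theorem counit_rTensor (h : M →ₗ[k] N) (x : M ⊗[k] A) :
    cN k A N ((h.rTensor A) x) =
      h (TensorProduct.rid k M (((Coalgebra.counit (R := k) (A := A)).lTensor M) x)) := by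
  induction x using TensorProduct.induction_on with
  | zero => simp
  | tmul m a => simp [cN_tmul]
  | add x y hx hy => simp only [map_add, hx, hy]

theorem counit_comp_eq (h : M →ₗ[k] N) (m : M) :
    cN k A N ((h.rTensor A) (HopfRep.Comod.coact (k := k) (A := A) m)) = h m := by
  rw [counit_rTensor]
  have := LinearMap.congr_fun (HopfRep.Comod.counit_comp (k := k) (A := A) (V := M)) m
  simp only [LinearMap.comp_apply] at this
  rw [this]
  simp

theorem part2 (f' : M →ₗ[k] N ⊗[k] A)
    (hf' : ∀ m : M, Hoch.Ind.coactAux k A N (f' m) =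
      (f'.rTensor A) (HopfRep.Comod.coact (k := k) (A := A) m)) (m : M) :
    f' m = ((cN k A N ∘ₗ f').rTensor A) (HopfRep.Comod.coact (k := k) (A := A) m) := by
  rw [LinearMap.rTensor_comp, LinearMap.comp_apply, ← hf' m]
  exact (counit_coactAux k A N (f' m)).symm

end

/-- Let `k` be a commutative ring, `A` a commutative Hopf algebra over `k`, `M` a right `A`-comodule and
`N` a `k`-module; give `N ⊗ A` the coaction `id ⊗ Δ`. Then for every `k`-linear map `h : M → N` the
composite `(h ⊗ id_A) ∘ ρ_M : M → N ⊗ A` is a comodule map, and every comodule map `f : M → N ⊗ A`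
is of this form for exactly one `h` (which is `(id_N ⊗ ε) ∘ f`): comodule maps `M → N ⊗ A`
correspond bijectively to linear maps `M → N`. -/
theorem result
    (k : Type u) [CommRing k] (A : Type v) [CommRing A] [HopfAlgebra k A]
    (M : Type w) [AddCommGroup M] [Module k M] [HopfRep.Comod k A M]
    (N : Type w') [AddCommGroup N] [Module k N] :
    (∀ h : M →ₗ[k] N, Hoch.IsComodHom A
        ((Hoch.Ind.equiv k A N).toLinearMap ∘ₗ h.rTensor A ∘ₗ HopfRep.Comod.coact (k := k) (A := A))) ∧
      ∀ f : M →ₗ[k] Hoch.Ind k A N, Hoch.IsComodHom A f →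
        ∃! h : M →ₗ[k] N,
          f = (Hoch.Ind.equiv k A N).toLinearMap ∘ₗ h.rTensor A ∘ₗ HopfRep.Comod.coact (k := k) (A := A) := by
  refine ⟨fun h => ?_, ?_⟩
  · unfold Hoch.IsComodHom
    ext m
    exact part1 k A M N h m
  intro f hf
  have hf' : ∀ m : M, Hoch.Ind.coactAux k A N (f m) =
      (LinearMap.rTensor A (f : M →ₗ[k] N ⊗[k] A)) (HopfRep.Comod.coact (k := k) (A := A) m) :=
    fun m => LinearMap.congr_fun hf m
  refine ⟨cN k A N ∘ₗ (f : M →ₗ[k] N ⊗[k] A), ?_, ?_⟩
  · ext m
    exact part2 k A M N f hf' m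
  · intro h' hh'
    ext m
    rw [hh']
    exact (counit_comp_eq k A M N h' m).symm

end Groth.Agent.S12929
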