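import Groth.Statements.S12935
import Mathlib.RingTheory.Invariant.Basic

set_option autoImplicit false
universe u v
open InvTh

namespace Groth.Agent.S12935

open scoped Pointwise

section aux

variable (B : Type u) [CommRing B] (Γ : Type v) [Group Γ] [Finite Γ] [MulSemiringAction Γ B]
    (Ω : Subgroup Γ)

instance isInv : Algebra.IsInvariant (FixedPoints.subring B Ω) B Ω :=
  ⟨fun b hb => ⟨⟨b, fun ω => hb ω⟩, rfl⟩⟩

variable {B Γ}

/-- decomposition part -/
theorem decomp (P : Ideal B) [P.IsPrime] (γ : Γ)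
    (h : ∀ x : B, (∀ ω ∈ Ω, ω • x = x) → (x ∈ P ↔ γ • x ∈ P)) :
    ∃ ω ∈ Ω, (γ * ω) • P = P := by
  have hprime : (γ⁻¹ • P).IsPrime := Ideal.IsPrime.smul γ⁻¹
  have hunder : P.under (FixedPoints.subring B Ω) = (γ⁻¹ • P).under (FixedPoints.subring B Ω) := by
    ext ⟨x, hx⟩
    simp only [Ideal.under_def, Ideal.mem_comap]
    change x ∈ P ↔ x ∈ γ⁻¹ • P
    rw [Ideal.mem_pointwise_smul_iff_inv_smul_mem, inv_inv]
    exact h x (fun ω hω => hx ⟨ω, hω⟩)
  obtain ⟨ω, hω⟩ := Algebra.IsInvariant.exists_smul_of_under_eq (FixedPoints.subring B Ω) B Ω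
    P (γ⁻¹ • P) hunder
  refine ⟨ω.1, ω.2, ?_⟩
  rw [mul_smul]
  have : (ω.1 • P) = γ⁻¹ • P := hω.symm
  rw [this, smul_inv_smul]

theorem mem_iff_of_smul_eq (P : Ideal B) (g : Γ) (h : g • P = P) (x : B) :
    x ∈ P ↔ g • x ∈ P := by
  have h' : g⁻¹ • P = P := by
    conv_lhs => rw [← h]
    rw [inv_smul_smul]
  constructor
  · intro hx
    have : g • x ∈ g • P := Ideal.smul_mem_pointwise_smul _ _ _ hx
    rwa [h] at this
  · intro hx
    have : g⁻¹ • (g • x) ∈ g⁻¹ • P := Ideal.smul_mem_pointwise_smul _ _ _ hx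
    rwa [inv_smul_smul, h'] at this

theorem smul_eq_of_mem_iff (P : Ideal B) (g : Γ) (h : ∀ x, x ∈ P ↔ g • x ∈ P) :
    g • P = P := by
  ext x
  rw [Ideal.mem_pointwise_smul_iff_inv_smul_mem, h (g⁻¹ • x), smul_inv_smul]

/-- inertia part -/
theorem inert (P : Ideal B) [P.IsPrime] (γ : Γ)
    (h : ∀ x : B, (∀ ω ∈ Ω, ω • x = x) → γ • x - x ∈ P) :
    ∃ ω ∈ Ω, ∀ x : B, (γ * ω) • x - x ∈ P := by
  have h1 : ∀ x : B, (∀ ω ∈ Ω, ω • x = x) → (x ∈ P ↔ γ • x ∈ P) := by
    intro x hx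
    have := h x hx
    constructor
    · intro hxP
      have := P.add_mem this hxP
      simpa using this
    · intro hxP
      have := P.sub_mem hxP this
      simpa using this
  obtain ⟨ω₁, hω₁, hstab⟩ := decomp Ω P γ h1
  set γ' := γ * ω₁ with hγ'
  -- γ' acts on B/P fixing A/p
  let A := FixedPoints.subring B Ω
  let p : Ideal A := P.under A
  have : P.LiesOver p := ⟨rfl⟩
  have hγ'A : ∀ a : A, γ' • (a : B) - (a : B) ∈ P := by
    intro a
    have : γ' • (a : B) = γ • (a : B) := by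
      rw [hγ', mul_smul]
      congr 1
      exact a.2 ⟨ω₁, hω₁⟩
    rw [this]
    exact h a.1 (fun ω hω => a.2 ⟨ω, hω⟩)
  let σ₀ : (B ⧸ P) ≃+* (B ⧸ P) :=
    Ideal.quotientEquiv P P (MulSemiringAction.toRingEquiv Γ B γ') hstab.symm
  let σ : (B ⧸ P) ≃ₐ[A ⧸ p] (B ⧸ P) :=
    { σ₀ with
      commutes' := by
        rintro ⟨a⟩
        change σ₀ (Ideal.Quotient.mk P (a : B)) = Ideal.Quotient.mk P (a : B)
        change Ideal.Quotient.mk P (γ' • (a : B)) = Ideal.Quotient.mk P (a : B)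
        rw [Ideal.Quotient.eq]
        exact hγ'A a }
  obtain ⟨ω₂, hω₂⟩ := Ideal.Quotient.stabilizerHom_surjective Ω p P σ⁻¹
  refine ⟨ω₁ * ω₂.1.1, Ω.mul_mem hω₁ ω₂.1.2, fun x => ?_⟩
  have h2 : σ⁻¹ (Ideal.Quotient.mk P x) = Ideal.Quotient.mk P (ω₂.1 • x) := by
    rw [← hω₂]
    rfl
  have h3 : σ (σ⁻¹ (Ideal.Quotient.mk P x)) = Ideal.Quotient.mk P x := by
    change σ (σ.symm _) = _
    exact σ.apply_symm_apply _
  rw [h2] at h3
  have h4 : σ (Ideal.Quotient.mk P (ω₂.1 • x)) = Ideal.Quotient.mk P (γ' • (ω₂.1 • x)) := rfl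
  rw [h4, Ideal.Quotient.eq] at h3
  have : (γ * (ω₁ * ω₂.1.1)) • x = γ' • (ω₂.1 • x) := by
    rw [hγ', ← mul_assoc, mul_smul (γ * ω₁)]
    rfl
  rw [this]
  exact h3

end aux

/-- Let `B` be a commutative ring with an action of a finite group `Γ` by ring automorphisms, `Ω` a
normal subgroup of `Γ`, `B^Ω` the subring of `Ω`-invariants (stable under `Γ`, with the induced
action of `Γ/Ω`), and `P` a prime ideal of `B`. Then (decomposition groups) an element `γ` maps `P ∩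
B^Ω` onto itself if and only if `γω` maps `P` onto itself for some `ω ∈ Ω`; and (inertia groups) `γ`
fixes `B^Ω` modulo `P ∩ B^Ω` if and only if `γω` fixes `B` modulo `P` for some `ω ∈ Ω`. In other
words the decomposition and inertia groups of `P ∩ B^Ω` under `Γ/Ω` are the images of those of `P`.
(The published statement also asserts the same for the ramification groups, the Sylow subgroups of
the inertia groups at the residue characteristic; that clause is not included here.) -/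
theorem result
    (B : Type u) [CommRing B] (Γ : Type v) [Group Γ] [Finite Γ] [MulSemiringAction Γ B]
    (Ω : Subgroup Γ) [Ω.Normal] (P : Ideal B) [P.IsPrime] (γ : Γ) :
    ((∀ x : B, (∀ ω ∈ Ω, ω • x = x) → (x ∈ P ↔ γ • x ∈ P)) ↔
        ∃ ω ∈ Ω, ∀ x : B, x ∈ P ↔ (γ * ω) • x ∈ P) ∧
      ((∀ x : B, (∀ ω ∈ Ω, ω • x = x) → γ • x - x ∈ P) ↔
        ∃ ω ∈ Ω, ∀ x : B, (γ * ω) • x - x ∈ P) := by
  constructor
  · constructor
    · intro h
      obtain ⟨ω, hω, hst⟩ := decomp Ω P γ h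
      exact ⟨ω, hω, fun x => mem_iff_of_smul_eq P _ hst x⟩
    · rintro ⟨ω, hω, hx⟩ x hxΩ
      have := hx x
      rwa [mul_smul, hxΩ ω hω] at this
  · constructor
    · intro h
      exact inert Ω P γ h
    · rintro ⟨ω, hω, hx⟩ x hxΩ
      have := hx x
      rwa [mul_smul, hxΩ ω hω] at this

end Groth.Agent.S12935
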