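import Groth.Statements.S12936
import Groth.Agent.S12935

set_option autoImplicit false
universe u v
open InvTh

namespace Groth.Agent.S12936

open scoped Pointwise
open Groth.Agent.S12935 (mem_iff_of_smul_eq smul_eq_of_mem_iff)

section aux

variable {B : Type u} [CommRing B] {Γ : Type v} [Group Γ] [Finite Γ] [MulSemiringAction Γ B]

/-- trace from a subgroup: sum over cosets. -/
theorem exists_trace (D : Subgroup Γ) (z : B) (hz : ∀ d ∈ D, d • z = z) (P : Ideal B)
    (hzP : ∀ γ : Γ, γ ∉ D → γ • z ∈ P) :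
    ∃ c : B, (∀ γ : Γ, γ • c = c) ∧ z - c ∈ P := by
  classical
  cases nonempty_fintype (Γ ⧸ D)
  have key : ∀ g h : Γ, (g⁻¹ * h) ∈ D → g • z = h • z := by
    intro g h hgh
    have := hz _ hgh
    rw [mul_smul] at this
    have := congrArg (g • ·) this
    simpa using this.symm
  refine ⟨∑ q : Γ ⧸ D, q.out • z, ?_, ?_⟩
  · intro γ
    rw [Finset.smul_sum]
    refine Finset.sum_equiv (MulAction.toPerm γ) (by simp) ?_
    intro q _
    rw [← mul_smul]
    apply key
    -- (γ * q.out)⁻¹ * (γ • q).out ∈ D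
    rw [← QuotientGroup.eq]
    simp only [MulAction.toPerm_apply]
    rw [QuotientGroup.out_eq']
    conv_rhs => rw [← QuotientGroup.out_eq' q]
    rfl
  · have h1 : ((1 : Γ) : Γ ⧸ D).out ∈ D := by
      have := QuotientGroup.out_eq' ((1 : Γ) : Γ ⧸ D)
      rw [QuotientGroup.eq] at this
      simpa using D.inv_mem this
    have hsplit : ∑ q : Γ ⧸ D, q.out • z =
        ((1 : Γ) : Γ ⧸ D).out • z + ∑ q ∈ Finset.univ.erase ((1 : Γ) : Γ ⧸ D), q.out • z := by
      exact (Finset.add_sum_erase Finset.univ (fun q : Γ ⧸ D => q.out • z) (Finset.mem_univ _)).symm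
    rw [hsplit, hz _ h1]
    have : z - (z + ∑ q ∈ Finset.univ.erase ((1 : Γ) : Γ ⧸ D), q.out • z) =
        - ∑ q ∈ Finset.univ.erase ((1 : Γ) : Γ ⧸ D), q.out • z := by ring
    rw [this]
    apply P.neg_mem
    apply P.sum_mem
    intro q hq
    apply hzP
    intro hmem
    apply (Finset.mem_erase.mp hq).1
    rw [← QuotientGroup.out_eq' q, QuotientGroup.eq]
    simpa using D.inv_mem hmem

end aux

/-- Let `B` be a commutative ring with an action of a finite group `Γ` by ring automorphisms and `P` a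
maximal ideal of `B`, with decomposition group `D_P = {γ | γP = P}` and decomposition ring `D =
B^{D_P}`. Then `D = B^Γ + (P ∩ D)`: every element of `B` fixed by `D_P` is congruent modulo `P` to a
`Γ`-invariant element. Hence the residue field of `D` at `P ∩ D` is that of `B^Γ` at `P ∩ B^Γ`; for
an arbitrary prime `P` the same equality of residue fields follows by localising at `P ∩ B^Γ`. (The
published statement prints this residue field as `k(P)`; the proof establishes the equality with the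
residue field of `B^Γ` stated here.) -/
theorem result
    (B : Type u) [CommRing B] (Γ : Type v) [Group Γ] [Finite Γ] [MulSemiringAction Γ B]
    (P : Ideal B) [P.IsMaximal] (x : B)
    (hx : ∀ γ : Γ, (∀ y : B, y ∈ P ↔ γ • y ∈ P) → γ • x = x) :
    ∃ c : B, (∀ γ : Γ, γ • c = c) ∧ x - c ∈ P := by
  classical
  cases nonempty_fintype Γ
  have hPmax : P.IsMaximal := inferInstance
  have hPprime : P.IsPrime := hPmax.isPrime
  let D : Subgroup Γ := MulAction.stabilizer Γ P
  have hD : ∀ γ, γ ∈ D ↔ γ • P = P := fun γ => MulAction.mem_stabilizer_iff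
  have hxD : ∀ d ∈ D, d • x = x := fun d hd =>
    hx d (fun y => mem_iff_of_smul_eq P d ((hD d).mp hd) y)
  -- step 1
  let s : Finset Γ := Finset.univ.filter (fun γ => γ • P ≠ P)
  have hnle : ¬ (s.inf (fun γ => γ • P) ≤ P) := by
    rw [Ideal.IsPrime.inf_le' hPprime]
    rintro ⟨γ, hγ, hle⟩
    exact (Finset.mem_filter.mp hγ).2 (smul_eq_of_smul_le hle)
  obtain ⟨u, hu, huP⟩ := SetLike.not_le_iff_exists.mp hnle
  obtain ⟨y, i, hi, hyu⟩ := hPmax.exists_inv huP
  set u₁ := y * u with hu₁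
  have hu₁s : ∀ γ : Γ, γ • P ≠ P → u₁ ∈ γ • P := by
    intro γ hγ
    have hle : s.inf (fun γ => γ • P) ≤ γ • P :=
      Finset.inf_le (f := fun γ => γ • P) (Finset.mem_filter.mpr ⟨Finset.mem_univ _, hγ⟩)
    exact Ideal.mul_mem_left _ _ (hle hu)
  have hu₁P : u₁ - 1 ∈ P := by
    have : u₁ - 1 = - i := by rw [← hyu]; ring
    rw [this]
    exact P.neg_mem hi
  -- step 2
  set u' : B := ∏ δ : D, δ • u₁ with hu'
  have hu'D : ∀ d ∈ D, d • u' = u' := by
    intro d hd
    exact Finset.smul_prod_perm u₁ (⟨d, hd⟩ : D)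
  have hu'P : u' - 1 ∈ P := by
    rw [← Ideal.Quotient.eq, map_one, hu', map_prod]
    apply Finset.prod_eq_one
    intro δ _
    rw [← map_one (Ideal.Quotient.mk P), Ideal.Quotient.eq]
    have h1 : δ • u₁ - 1 = (δ : Γ) • (u₁ - 1) := by
      rw [smul_sub, smul_one]; rfl
    rw [h1]
    have := Ideal.smul_mem_pointwise_smul (δ : Γ) _ P hu₁P
    rwa [(hD _).mp δ.2] at this
  have hu's : ∀ γ : Γ, γ • P ≠ P → u' ∈ γ • P := by
    intro γ hγ
    refine Ideal.mem_of_dvd _ (Finset.dvd_prod_of_mem _ (Finset.mem_univ (1 : D))) ?_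
    rw [one_smul]
    exact hu₁s γ hγ
  -- step 3
  set z := u' * x with hz
  have hzD : ∀ d ∈ D, d • z = z := by
    intro d hd
    rw [hz, smul_mul', hu'D d hd, hxD d hd]
  have hzP : ∀ γ : Γ, γ ∉ D → γ • z ∈ P := by
    intro γ hγ
    have hγ' : γ⁻¹ • P ≠ P := by
      intro h
      exact hγ (by simpa using D.inv_mem ((hD _).mpr h))
    have h1 : z ∈ γ⁻¹ • P := Ideal.mul_mem_right _ _ (hu's _ hγ')
    rwa [Ideal.mem_pointwise_smul_iff_inv_smul_mem, inv_inv] at h1
  obtain ⟨c, hc, hzc⟩ := exists_trace D z hzD P hzP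
  refine ⟨c, hc, ?_⟩
  have h2 : x - c = -((u' - 1) * x) + (z - c) := by rw [hz]; ring
  rw [h2]
  exact P.add_mem (P.neg_mem (P.mul_mem_right _ hu'P)) hzc

end Groth.Agent.S12936
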