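import Groth.Statements.S12937
import Groth.Agent.S12935
import Groth.Agent.S12936
import Mathlib.RingTheory.Invariant.Basic
import Mathlib.FieldTheory.Minpoly.Field
import Mathlib.LinearAlgebra.LinearIndependent.Basic
import Mathlib.Algebra.Squarefree.Basic

set_option autoImplicit false
universe u v
open InvTh

namespace Groth.Agent.S12937

open scoped Pointwise
open Polynomial

section general

variable {B : Type u} [CommRing B]

/-- norm trick: an invariant element outside a maximal stable ideal has an invariant inverse mod `P`. -/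
theorem exists_inv_mod {G : Type*} [Group G] [Finite G] [MulSemiringAction G B]
    (P : Ideal B) [hP : P.IsMaximal] (hG : ∀ (g : G) (x : B), x ∈ P → g • x ∈ P)
    (u : B) (hu : ∀ g : G, g • u = u) (huP : u ∉ P) :
    ∃ u' : B, (∀ g : G, g • u' = u') ∧ u * u' - 1 ∈ P := by
  classical
  cases nonempty_fintype G
  obtain ⟨v, i, hi, hvu⟩ := hP.exists_inv huP
  have hcard : 0 < Fintype.card G := Fintype.card_pos
  refine ⟨u ^ (Fintype.card G - 1) * ∏ g : G, g • v, ?_, ?_⟩
  · intro g
    rw [smul_mul', smul_pow', hu g, Finset.smul_prod_perm]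
  · rw [← Ideal.Quotient.eq, map_one, ← mul_assoc, ← pow_succ', Nat.sub_add_cancel hcard,
      map_mul, map_pow, map_prod]
    have : ∀ g : G, Ideal.Quotient.mk P u * Ideal.Quotient.mk P (g • v) = 1 := by
      intro g
      rw [← map_mul, ← map_one (Ideal.Quotient.mk P), Ideal.Quotient.eq]
      have h1 : u * g • v - 1 = g • (u * v - 1) := by
        rw [smul_sub, smul_mul', hu g, smul_one]
      rw [h1]
      have h2 : u * v - 1 = - i := by rw [← hvu]; ring
      rw [h2, smul_neg]
      apply P.neg_mem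
      exact hG g i hi
    calc Ideal.Quotient.mk P u ^ Fintype.card G * ∏ g : G, Ideal.Quotient.mk P (g • v)
        = ∏ g : G, (Ideal.Quotient.mk P u * Ideal.Quotient.mk P (g • v)) := by
          rw [Finset.prod_mul_distrib, Finset.prod_const, Finset.card_univ]
      _ = 1 := by simp [this]

/-- the sum over cosets of an `H`-invariant element is `G`-invariant -/
theorem smul_cosetSum {G : Type*} [Group G] [MulSemiringAction G B] (H : Subgroup G)
    [Fintype (G ⧸ H)] (w : B) (hw : ∀ h ∈ H, h • w = w) (g : G) :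
    g • ∑ c : G ⧸ H, c.out • w = ∑ c : G ⧸ H, c.out • w := by
  have key : ∀ a b : G, (a⁻¹ * b) ∈ H → a • w = b • w := by
    intro a b hab
    have := hw _ hab
    rw [mul_smul] at this
    have := congrArg (a • ·) this
    simpa using this.symm
  rw [Finset.smul_sum]
  refine Finset.sum_equiv (MulAction.toPerm g) (by simp) ?_
  intro c _
  rw [← mul_smul]
  apply key
  rw [← QuotientGroup.eq]
  simp only [MulAction.toPerm_apply]
  rw [QuotientGroup.out_eq']
  conv_rhs => rw [← QuotientGroup.out_eq' c]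
  rfl

end general

section star

variable {B : Type u} [CommRing B] {Γ : Type v} [Group Γ] [Finite Γ] [MulSemiringAction Γ B]
  (P : Ideal B) [hP : P.IsMaximal]

/-- the characters `w ↦ (c.out • w mod P)` on the inertia ring, indexed by cosets `D/T` -/
noncomputable def chi (c : MulAction.stabilizer Γ P ⧸ P.inertia (MulAction.stabilizer Γ P)) :
    FixedPoints.subring B (P.inertia Γ) →* B ⧸ P where
  toFun w := Ideal.Quotient.mk P ((c.out : MulAction.stabilizer Γ P) • (w : B))
  map_one' := by simp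
  map_mul' a b := by simp [smul_mul']

theorem stab_smul_mem (d : MulAction.stabilizer Γ P) (x : B) (hx : x ∈ P) : d • x ∈ P := by
  have h : (d : Γ) • P = P := d.2
  have := Ideal.smul_mem_pointwise_smul (d : Γ) x P hx
  rw [h] at this
  exact this

theorem mem_inertia_fixed (w : B) (hw : ∀ t ∈ P.inertia Γ, t • w = w)
    (t : MulAction.stabilizer Γ P) (ht : t ∈ P.inertia (MulAction.stabilizer Γ P)) : t • w = w :=
  hw (t : Γ) ht

theorem chi_injective : Function.Injective (chi (Γ := Γ) P) := by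
  intro c c' h
  -- γ = c'.out⁻¹ * c.out fixes the inertia ring mod P
  set γ : MulAction.stabilizer Γ P := c'.out⁻¹ * c.out with hγ
  have hfix : ∀ x : B, (∀ ω ∈ P.inertia (MulAction.stabilizer Γ P), ω • x = x) → γ • x - x ∈ P := by
    intro x hx
    have hxT : ∀ t : P.inertia Γ, t • x = x := by
      intro t
      have hstab : (t : Γ) ∈ MulAction.stabilizer Γ P := Ideal.inertia_le_stabilizer (M := Γ) P t.2
      exact hx ⟨t, hstab⟩ t.2
    have h1 := DFunLike.congr_fun h ⟨x, hxT⟩
    have h2 : (c.out : MulAction.stabilizer Γ P) • x - (c'.out : MulAction.stabilizer Γ P) • x ∈ P :=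
      Ideal.Quotient.eq.mp h1
    have h3 : γ • x - x = (c'.out : MulAction.stabilizer Γ P)⁻¹ •
        ((c.out : MulAction.stabilizer Γ P) • x - (c'.out : MulAction.stabilizer Γ P) • x) := by
      rw [hγ, smul_sub, mul_smul, inv_smul_smul]
    rw [h3]
    exact stab_smul_mem P _ _ h2
  obtain ⟨ω, hω, hωx⟩ := (Groth.Agent.S12935.result B (MulAction.stabilizer Γ P)
    (P.inertia (MulAction.stabilizer Γ P)) P γ).2.mp hfix
  have hγω : γ * ω ∈ P.inertia (MulAction.stabilizer Γ P) := hωx
  have hγT : γ ∈ P.inertia (MulAction.stabilizer Γ P) := by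
    have := Subgroup.mul_mem _ hγω (Subgroup.inv_mem _ hω)
    rwa [mul_inv_cancel_right] at this
  rw [← QuotientGroup.out_eq' c, ← QuotientGroup.out_eq' c']
  exact (QuotientGroup.eq.mpr hγT).symm

/-- there is an inertia-invariant `w` whose coset trace is nonzero mod `P` -/
theorem exists_trace_not_mem
    [Fintype (MulAction.stabilizer Γ P ⧸ P.inertia (MulAction.stabilizer Γ P))] :
    ∃ w : B, (∀ t ∈ P.inertia Γ, t • w = w) ∧
      (∑ c : MulAction.stabilizer Γ P ⧸ P.inertia (MulAction.stabilizer Γ P),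
        (c.out : MulAction.stabilizer Γ P) • w) ∉ P := by
  classical
  letI := Ideal.Quotient.field P
  by_contra hcon
  push Not at hcon
  have hli := (linearIndependent_monoidHom (FixedPoints.subring B (P.inertia Γ)) (B ⧸ P)).comp
    (chi (Γ := Γ) P) (chi_injective P)
  rw [linearIndependent_iff'] at hli
  have hsum : ∑ c : MulAction.stabilizer Γ P ⧸ P.inertia (MulAction.stabilizer Γ P),
      (1 : B ⧸ P) • ((fun f : FixedPoints.subring B (P.inertia Γ) →* B ⧸ P =>
        (f : FixedPoints.subring B (P.inertia Γ) → B ⧸ P)) ∘ chi (Γ := Γ) P) c = 0 := by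
    funext w
    simp only [Function.comp_apply, one_smul, Finset.sum_apply, Pi.zero_apply]
    have := hcon (w : B) (fun t ht => w.2 ⟨t, ht⟩)
    rw [← Ideal.Quotient.eq_zero_iff_mem, map_sum] at this
    exact this
  have := hli Finset.univ (fun _ => 1) hsum (1 : MulAction.stabilizer Γ P) (Finset.mem_univ _)
  exact one_ne_zero this

/-- an inertia-invariant element fixed by the decomposition group mod `P` is congruent
to a `Γ`-invariant element -/
theorem star2 (c : B) (hcT : ∀ t ∈ P.inertia Γ, t • c = c)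
    (hcD : ∀ d : MulAction.stabilizer Γ P, d • c - c ∈ P) :
    ∃ c₁ : B, (∀ γ : Γ, γ • c₁ = c₁) ∧ c - c₁ ∈ P := by
  classical
  letI : Fintype (MulAction.stabilizer Γ P ⧸ P.inertia (MulAction.stabilizer Γ P)) :=
    Fintype.ofFinite _
  obtain ⟨w, hwT, hw⟩ := exists_trace_not_mem (Γ := Γ) P
  set u := ∑ c' : MulAction.stabilizer Γ P ⧸ P.inertia (MulAction.stabilizer Γ P),
    (c'.out : MulAction.stabilizer Γ P) • w with hu
  have huD : ∀ d : MulAction.stabilizer Γ P, d • u = u :=
    smul_cosetSum (P.inertia (MulAction.stabilizer Γ P)) w (mem_inertia_fixed P w hwT)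
  set z := ∑ c' : MulAction.stabilizer Γ P ⧸ P.inertia (MulAction.stabilizer Γ P),
    (c'.out : MulAction.stabilizer Γ P) • (w * c) with hz
  have hzD : ∀ d : MulAction.stabilizer Γ P, d • z = z :=
    smul_cosetSum (P.inertia (MulAction.stabilizer Γ P)) (w * c) (by
      intro t ht
      rw [smul_mul', mem_inertia_fixed P w hwT t ht, mem_inertia_fixed P c hcT t ht])
  have hzuc : z - u * c ∈ P := by
    rw [hz, hu, Finset.sum_mul, ← Finset.sum_sub_distrib]
    apply P.sum_mem
    intro c' _
    rw [smul_mul', ← mul_sub]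
    exact P.mul_mem_left _ (hcD _)
  obtain ⟨u', hu'D, huu'⟩ := exists_inv_mod P (G := MulAction.stabilizer Γ P)
    (stab_smul_mem P) u huD hw
  have hc₀D : ∀ d : MulAction.stabilizer Γ P, d • (z * u') = z * u' := by
    intro d
    rw [smul_mul', hzD, hu'D]
  have hc₀ : c - z * u' ∈ P := by
    have : c - z * u' = -((z - u * c) * u') - c * (u * u' - 1) := by ring
    rw [this]
    exact P.sub_mem (P.neg_mem (P.mul_mem_right _ hzuc)) (P.mul_mem_left _ huu')
  obtain ⟨c₁, hc₁, hc₁P⟩ := Groth.Agent.S12936.result B Γ P (z * u') (by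
    intro γ hγ
    have hγD : γ ∈ MulAction.stabilizer Γ P :=
      MulAction.mem_stabilizer_iff.mpr (Groth.Agent.S12935.smul_eq_of_mem_iff P γ hγ)
    exact hc₀D ⟨γ, hγD⟩)
  refine ⟨c₁, hc₁, ?_⟩
  have : c - c₁ = (c - z * u') + (z * u' - c₁) := by ring
  rw [this]
  exact P.add_mem hc₀ hc₁P

/-- the automorphism of `B ⧸ P` induced by an element of the decomposition group -/
noncomputable def sig (d : MulAction.stabilizer Γ P) : (B ⧸ P) ≃+* (B ⧸ P) :=
  Ideal.quotientEquiv P P (MulSemiringAction.toRingEquiv Γ B (d : Γ))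
    (show P = (d : Γ) • P from d.2.symm)

theorem sig_mk (d : MulAction.stabilizer Γ P) (b : B) :
    sig P d (Ideal.Quotient.mk P b) = Ideal.Quotient.mk P (d • b) := rfl

theorem conj_mem_inertia (d : MulAction.stabilizer Γ P) (t : Γ) (ht : t ∈ P.inertia Γ) :
    (d : Γ)⁻¹ * t * d ∈ P.inertia Γ := by
  intro x
  have h1 : ((d : Γ)⁻¹ * t * d) • x - x = (d⁻¹ : MulAction.stabilizer Γ P) • (t • ((d : Γ) • x) - (d : Γ) • x) := by
    rw [smul_sub, mul_smul, mul_smul]
    show _ = (d : Γ)⁻¹ • t • (d : Γ) • x - (d : Γ)⁻¹ • (d : Γ) • x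
    rw [inv_smul_smul]
  rw [h1]
  exact stab_smul_mem P _ _ (ht _)

theorem smul_fixed (d : MulAction.stabilizer Γ P) (y : B) (hy : ∀ t ∈ P.inertia Γ, t • y = y) :
    ∀ t ∈ P.inertia Γ, t • (d • y) = d • y := by
  intro t ht
  have h := hy _ (conj_mem_inertia P d t ht)
  rw [mul_smul, mul_smul] at h
  have := congrArg ((d : Γ) • ·) h
  simp only [smul_inv_smul] at this
  exact this

theorem forward (x y : B) (hy : ∀ t ∈ P.inertia Γ, t • y = y) (hxy : x - y ∈ P) :
    ∃ g : Polynomial B, (∀ (i : ℕ) (γ : Γ), γ • g.coeff i = g.coeff i) ∧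
      (g.map (Ideal.Quotient.mk P)).Separable ∧ Polynomial.aeval x g ∈ P := by
  classical
  letI := Ideal.Quotient.field P
  cases nonempty_fintype (MulAction.stabilizer Γ P)
  let O : Finset (B ⧸ P) :=
    Finset.univ.image (fun d : MulAction.stabilizer Γ P => Ideal.Quotient.mk P (d • y))
  let h : Polynomial (B ⧸ P) := ∏ z ∈ O, (X - C z)
  have hsep : h.Separable := by
    rw [separable_prod_X_sub_C_iff']
    intro a _ b _ hab
    exact hab
  have hroot : h.eval (Ideal.Quotient.mk P y) = 0 := by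
    rw [eval_prod]
    apply Finset.prod_eq_zero (i := Ideal.Quotient.mk P y)
    · exact Finset.mem_image.mpr ⟨1, Finset.mem_univ _, by rw [one_smul]⟩
    · simp
  have hOimage : ∀ d : MulAction.stabilizer Γ P, O.image (sig P d) = O := by
    intro d
    ext z
    simp only [O, Finset.mem_image, Finset.mem_univ, true_and]
    constructor
    · rintro ⟨_, ⟨d', rfl⟩, rfl⟩
      exact ⟨d * d', by rw [sig_mk, mul_smul]⟩
    · rintro ⟨d', rfl⟩
      exact ⟨_, ⟨d⁻¹ * d', rfl⟩, by rw [sig_mk, mul_smul, smul_inv_smul]⟩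
  have hinv : ∀ d : MulAction.stabilizer Γ P, h.map (sig P d : (B ⧸ P) →+* (B ⧸ P)) = h := by
    intro d
    show (∏ z ∈ O, (X - C z)).map _ = ∏ z ∈ O, (X - C z)
    rw [Polynomial.map_prod]
    conv_rhs => rw [← hOimage d]
    rw [Finset.prod_image (fun a _ b _ hab => (sig P d).injective hab)]
    apply Finset.prod_congr rfl
    intro z _
    simp
  -- coefficients lie in the image of the inertia ring
  let K' : Subring (B ⧸ P) := (FixedPoints.subring B (P.inertia Γ)).map (Ideal.Quotient.mk P)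
  have hO : ∀ z ∈ O, z ∈ K' := by
    intro z hz
    obtain ⟨d, -, rfl⟩ := Finset.mem_image.mp hz
    exact ⟨d • y, fun t => smul_fixed P d y hy t t.2, rfl⟩
  have hlift : h ∈ Polynomial.liftsRing K'.subtype := by
    apply Subring.prod_mem
    intro z hz
    apply Subring.sub_mem
    · exact X_mem_lifts _
    · exact C_mem_lifts K'.subtype ⟨z, hO z hz⟩
  have hcoeff : ∀ i, h.coeff i ∈ K' := by
    intro i
    have := (lifts_iff_coeff_lifts h).mp hlift i
    obtain ⟨a, ha⟩ := this
    rw [← ha]
    exact a.2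
  have hcoeff_lift : ∀ i, ∃ c₁ : B, (∀ γ : Γ, γ • c₁ = c₁) ∧ Ideal.Quotient.mk P c₁ = h.coeff i := by
    intro i
    obtain ⟨c, hcT, hc⟩ := hcoeff i
    have hcD : ∀ d : MulAction.stabilizer Γ P, d • c - c ∈ P := by
      intro d
      rw [← Ideal.Quotient.eq, ← sig_mk, hc]
      have := congrArg (fun p => p.coeff i) (hinv d)
      simp only [coeff_map] at this
      exact this
    obtain ⟨c₁, hc₁, hcc₁⟩ := star2 P c (fun t ht => hcT ⟨t, ht⟩) hcD
    exact ⟨c₁, hc₁, by rw [← hc]; exact (Ideal.Quotient.eq.mpr hcc₁).symm⟩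
  choose c₁ hc₁inv hc₁ using hcoeff_lift
  let g : Polynomial B := ∑ i ∈ Finset.range (h.natDegree + 1), C (c₁ i) * X ^ i
  have hgmap : g.map (Ideal.Quotient.mk P) = h := by
    show (∑ i ∈ Finset.range (h.natDegree + 1), C (c₁ i) * X ^ i).map _ = h
    rw [Polynomial.map_sum]
    conv_rhs => rw [h.as_sum_range]
    apply Finset.sum_congr rfl
    intro i _
    rw [Polynomial.map_mul, Polynomial.map_pow, map_C, map_X, hc₁ i, ← C_mul_X_pow_eq_monomial]
  refine ⟨g, ?_, ?_, ?_⟩
  · intro i γ
    show γ • (∑ j ∈ Finset.range (h.natDegree + 1), C (c₁ j) * X ^ j).coeff i = _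
    rw [finsetSum_coeff, Finset.smul_sum]
    apply Finset.sum_congr rfl
    intro j _
    rw [coeff_C_mul, coeff_X_pow]
    split_ifs
    · rw [mul_one, hc₁inv]
    · rw [mul_zero, smul_zero]
  · rw [hgmap]
    exact hsep
  · rw [← Ideal.Quotient.eq_zero_iff_mem]
    have h1 : Ideal.Quotient.mk P (aeval x g) = (g.map (Ideal.Quotient.mk P)).eval (Ideal.Quotient.mk P x) := by
      rw [eval_map, coe_aeval_eq_eval, Polynomial.eval₂_hom]
    rw [h1, hgmap, Ideal.Quotient.eq.mpr hxy]
    exact hroot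

theorem inertia_smul_mem (t : P.inertia Γ) (x : B) (hx : x ∈ P) : t • x ∈ P := by
  have := P.add_mem (t.2 x) hx
  rw [sub_add_cancel] at this
  exact this

/-- the image of the inertia ring in the residue field, as a subfield -/
noncomputable def Kp : @Subfield (B ⧸ P) (Ideal.Quotient.field P).toDivisionRing :=
  letI := Ideal.Quotient.field P
  { (FixedPoints.subring B (P.inertia Γ)).map (Ideal.Quotient.mk P) with
    inv_mem' := by
      rintro z ⟨b, hb, rfl⟩
      by_cases hbP : b ∈ P
      · rw [Ideal.Quotient.eq_zero_iff_mem.mpr hbP, inv_zero]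
        exact Subring.zero_mem _
      · obtain ⟨u', hu'T, hbu'⟩ := exists_inv_mod P (G := P.inertia Γ) (inertia_smul_mem P) b hb hbP
        have h1 : Ideal.Quotient.mk P b * Ideal.Quotient.mk P u' = 1 := by
          rw [← map_mul, ← map_one (Ideal.Quotient.mk P), Ideal.Quotient.eq]
          exact hbu'
        have h2 : (Ideal.Quotient.mk P b)⁻¹ = Ideal.Quotient.mk P u' :=
          (eq_inv_of_mul_eq_one_right h1).symm
        rw [h2]
        exact ⟨u', hu'T, rfl⟩ }

theorem mem_Kp_iff (z : B ⧸ P) :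
    z ∈ Kp (Γ := Γ) P ↔ ∃ b : B, (∀ t ∈ P.inertia Γ, t • b = b) ∧ Ideal.Quotient.mk P b = z := by
  constructor
  · rintro ⟨b, hb, rfl⟩
    exact ⟨b, fun t ht => hb ⟨t, ht⟩, rfl⟩
  · rintro ⟨b, hb, rfl⟩
    exact ⟨b, fun t => hb t t.2, rfl⟩

theorem backward (x : B) (g : Polynomial B) (hg : ∀ (i : ℕ) (γ : Γ), γ • g.coeff i = g.coeff i)
    (hsep : (g.map (Ideal.Quotient.mk P)).Separable) (hroot : Polynomial.aeval x g ∈ P) :
    ∃ y : B, (∀ γ : Γ, γ ∈ P.inertia Γ → γ • y = y) ∧ x - y ∈ P := by
  classical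
  letI := Ideal.Quotient.field P
  cases nonempty_fintype (P.inertia Γ)
  set K' := Kp (Γ := Γ) P with hK'
  set xb := Ideal.Quotient.mk P x with hxb
  set gb := g.map (Ideal.Quotient.mk P) with hgb
  set n := Fintype.card (P.inertia Γ) with hn
  have hn0 : n ≠ 0 := Fintype.card_ne_zero
  -- lifts to K'[X]
  have hgb_lift : gb ∈ Polynomial.lifts (algebraMap K' (B ⧸ P)) := by
    rw [lifts_iff_coeff_lifts]
    intro i
    have : gb.coeff i ∈ K' := by
      rw [hgb, coeff_map, mem_Kp_iff]
      exact ⟨g.coeff i, fun t _ => hg i t, rfl⟩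
    exact ⟨⟨_, this⟩, rfl⟩
  have hfb : ((X - C xb) ^ n : Polynomial (B ⧸ P)) =
      (MulSemiringAction.charpoly (P.inertia Γ) x).map (Ideal.Quotient.mk P) := by
    rw [MulSemiringAction.charpoly_eq, Polynomial.map_prod]
    have : ∀ t : P.inertia Γ, (X - C (t • x)).map (Ideal.Quotient.mk P) = X - C xb := by
      intro t
      rw [Polynomial.map_sub, map_X, map_C]
      congr 2
      exact Ideal.Quotient.eq.mpr (t.2 x)
    simp only [this, Finset.prod_const, Finset.card_univ, hn]
  have hfb_lift : ((X - C xb) ^ n : Polynomial (B ⧸ P)) ∈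
      Polynomial.lifts (algebraMap K' (B ⧸ P)) := by
    rw [lifts_iff_coeff_lifts]
    intro i
    have : ((X - C xb) ^ n : Polynomial (B ⧸ P)).coeff i ∈ K' := by
      rw [hfb, coeff_map, mem_Kp_iff]
      exact ⟨_, fun t ht => MulSemiringAction.smul_coeff_charpoly x i (⟨t, ht⟩ : P.inertia Γ), rfl⟩
    exact ⟨⟨_, this⟩, rfl⟩
  obtain ⟨G, hG⟩ := (mem_lifts _).mp hgb_lift
  obtain ⟨F, hF⟩ := (mem_lifts _).mp hfb_lift
  have hGroot : aeval xb G = 0 := by
    rw [aeval_def, eval₂_eq_eval_map, hG, hgb, eval_map, hxb, Polynomial.eval₂_hom]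
    rw [← coe_aeval_eq_eval]
    exact Ideal.Quotient.eq_zero_iff_mem.mpr hroot
  have hFroot : aeval xb F = 0 := by
    rw [aeval_def, eval₂_eq_eval_map, hF, eval_pow, eval_sub, eval_X, eval_C, sub_self,
      zero_pow hn0]
  have hG0 : G ≠ 0 := by
    rintro rfl
    rw [Polynomial.map_zero] at hG
    exact hsep.ne_zero hG.symm
  have hint : IsIntegral K' xb := IsAlgebraic.isIntegral ⟨G, hG0, hGroot⟩
  have hdG := minpoly.dvd K' xb hGroot
  have hdF := minpoly.dvd K' xb hFroot
  have hdG' : (minpoly K' xb).map (algebraMap K' (B ⧸ P)) ∣ gb := by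
    rw [← hG]; exact Polynomial.map_dvd _ hdG
  have hdF' : (minpoly K' xb).map (algebraMap K' (B ⧸ P)) ∣ (X - C xb) ^ n := by
    rw [← hF]; exact Polynomial.map_dvd _ hdF
  have hsq : Squarefree ((minpoly K' xb).map (algebraMap K' (B ⧸ P))) :=
    (hsep.of_dvd hdG').squarefree
  have hd1 : (minpoly K' xb).map (algebraMap K' (B ⧸ P)) ∣ X - C xb :=
    (hsq.dvd_pow_iff_dvd hn0).mp hdF'
  have hdeg : (minpoly K' xb).natDegree ≤ 1 := by
    have := natDegree_le_of_dvd hd1 (X_sub_C_ne_zero xb)
    rwa [natDegree_map, natDegree_X_sub_C] at this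
  have hdeg1 : (minpoly K' xb).degree = 1 := by
    have hpos := minpoly.natDegree_pos hint
    have : (minpoly K' xb).natDegree = 1 := by omega
    rw [degree_eq_natDegree (minpoly.ne_zero hint), this]
    rfl
  obtain ⟨⟨z, hz⟩, hzx⟩ := minpoly.mem_range_of_degree_eq_one K' xb hdeg1
  obtain ⟨y, hyT, hy⟩ := (mem_Kp_iff P z).mp hz
  refine ⟨y, fun γ hγ => hyT γ hγ, ?_⟩
  rw [← Ideal.Quotient.eq, hy]
  exact hzx.symm

end star

/-- Let `B` be a commutative ring with an action of a finite group `Γ` by ring automorphisms, `P` a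
maximal ideal of `B`, `T = {γ | γ x - x ∈ P for all x}` its inertia group, `B^T` the inertia ring
and `B^Γ` the ring of invariants, so that `k(P ∩ B^Γ) ⊆ k(P ∩ B^T) ⊆ k(P) = B/P`. Then `k(P ∩ B^T)`
is the largest separable extension of `k(P ∩ B^Γ)` inside `k(P)`: an element `x` of `B` is congruent
modulo `P` to a `T`-invariant element if and only if `x mod P` is a root of some polynomial with
`Γ`-invariant coefficients whose reduction modulo `P` is separable. (The published statement is for
every prime ideal `P`, as an equality of residue fields; this row takes `P` maximal, the case to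
which the published proof reduces by localising at `P ∩ B^Γ`.) -/
theorem result
    (B : Type u) [CommRing B] (Γ : Type v) [Group Γ] [Finite Γ] [MulSemiringAction Γ B]
    (P : Ideal B) [P.IsMaximal] (x : B) :
    (∃ y : B, (∀ γ : Γ, γ ∈ P.inertia Γ → γ • y = y) ∧ x - y ∈ P) ↔
      ∃ g : Polynomial B, (∀ (i : ℕ) (γ : Γ), γ • g.coeff i = g.coeff i) ∧
        (g.map (Ideal.Quotient.mk P)).Separable ∧ Polynomial.aeval x g ∈ P := by
  constructor
  · rintro ⟨y, hy, hxy⟩
    exact forward P x y hy hxy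
  · rintro ⟨g, hg, hsep, hroot⟩
    exact backward P x g hg hsep hroot

end Groth.Agent.S12937
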