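import Groth.Statements.S12932
import Groth.Agent.S12935
import Groth.Agent.S12936
import Groth.Agent.S12937
import Mathlib.RingTheory.Invariant.Basic
import Mathlib.RingTheory.Ideal.GoingUp

set_option autoImplicit false
universe u v
open scoped BigOperators
open InvTh

namespace Groth.Agent.S12932

open scoped Pointwise

/-- sum over a finite group of a right-`H`-invariant function -/
theorem sum_eq_card_nsmul {G : Type*} [Group G] [Fintype G] (H : Subgroup G)
    [Fintype (G ⧸ H)] {M : Type*} [AddCommMonoid M] (f : G → M)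
    (hf : ∀ g : G, ∀ h ∈ H, f (g * h) = f g) :
    ∑ g, f g = Nat.card H • ∑ c : G ⧸ H, f c.out := by
  classical
  letI : Fintype H := Fintype.ofFinite _
  let e : (G ⧸ H) × H ≃ G :=
    { toFun := fun p => p.1.out * p.2
      invFun := fun g => ((g : G ⧸ H), ⟨((g : G ⧸ H)).out⁻¹ * g,
        QuotientGroup.eq.mp (QuotientGroup.out_eq' _)⟩)
      left_inv := by
        rintro ⟨c, t⟩
        have h : ((c.out * (t : G) : G) : G ⧸ H) = c := by
          rw [QuotientGroup.mk_mul_of_mem _ t.2, QuotientGroup.out_eq']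
        apply Prod.ext
        · exact h
        · apply Subtype.ext
          simp only [h, inv_mul_cancel_left]
      right_inv := by
        intro g
        simp }
  rw [← e.sum_comp, Fintype.sum_prod_type]
  have : ∀ c : G ⧸ H, ∑ t : H, f (e (c, t)) = Nat.card H • f c.out := by
    intro c
    have : ∀ t : H, f (e (c, t)) = f c.out := fun t => hf _ _ t.2
    simp only [this, Finset.sum_const, Finset.card_univ, Fintype.card_eq_nat_card]
  simp only [this, Finset.smul_sum]

section main

variable {B : Type u} [CommRing B] {Γ : Type v} [Group Γ] [Fintype Γ] [MulSemiringAction Γ B]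

theorem forward (b : B) (hb : ∑ γ : Γ, γ • b = 1) (P : Ideal B) (hP : P.IsPrime) :
    ((Nat.card (P.inertia Γ) : ℕ) : B ⧸ P) ≠ 0 := by
  classical
  intro h0
  have h1 : ∑ γ : Γ, Ideal.Quotient.mk P (γ⁻¹ • b) = 1 := by
    rw [← map_sum, ← map_one (Ideal.Quotient.mk P), ← hb]
    congr 1
    exact Fintype.sum_equiv (Equiv.inv Γ) _ _ (fun γ => by simp)
  rw [sum_eq_card_nsmul (P.inertia Γ) (fun γ => Ideal.Quotient.mk P (γ⁻¹ • b))] at h1
  · rw [nsmul_eq_mul, h0, zero_mul] at h1
    have : Nontrivial (B ⧸ P) := Ideal.Quotient.nontrivial_iff.mpr hP.ne_top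
    exact zero_ne_one h1
  · intro g t ht
    rw [Ideal.Quotient.eq, mul_inv_rev, mul_smul]
    exact (P.inertia Γ).inv_mem ht (g⁻¹ • b)

/-- the idempotent-like element from the proof of S12936 -/
theorem exists_idem (P : Ideal B) [hPmax : P.IsMaximal] :
    ∃ e : B, (∀ d ∈ MulAction.stabilizer Γ P, d • e = e) ∧ e - 1 ∈ P ∧
      ∀ γ : Γ, γ • P ≠ P → e ∈ γ • P := by
  classical
  have hPprime : P.IsPrime := hPmax.isPrime
  let D : Subgroup Γ := MulAction.stabilizer Γ P
  have hD : ∀ γ, γ ∈ D ↔ γ • P = P := fun γ => MulAction.mem_stabilizer_iff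
  let s : Finset Γ := Finset.univ.filter (fun γ => γ • P ≠ P)
  have hnle : ¬ (s.inf (fun γ => γ • P) ≤ P) := by
    rw [Ideal.IsPrime.inf_le' hPprime]
    rintro ⟨γ, hγ, hle⟩
    exact (Finset.mem_filter.mp hγ).2 (smul_eq_of_smul_le hle)
  obtain ⟨u, hu, huP⟩ := SetLike.not_le_iff_exists.mp hnle
  obtain ⟨y, i, hi, hyu⟩ := hPmax.exists_inv huP
  set u₁ := y * u with hu₁
  have hu₁s : ∀ γ : Γ, γ • P ≠ P → u₁ ∈ γ • P := by
    intro γ hγ
    have hle : s.inf (fun γ => γ • P) ≤ γ • P :=
      Finset.inf_le (f := fun γ => γ • P) (Finset.mem_filter.mpr ⟨Finset.mem_univ _, hγ⟩)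
    exact Ideal.mul_mem_left _ _ (hle hu)
  have hu₁P : u₁ - 1 ∈ P := by
    have : u₁ - 1 = - i := by rw [← hyu]; ring
    rw [this]
    exact P.neg_mem hi
  set u' : B := ∏ δ : D, δ • u₁ with hu'
  have hu'D : ∀ d ∈ D, d • u' = u' := by
    intro d hd
    exact Finset.smul_prod_perm u₁ (⟨d, hd⟩ : D)
  have hu'P : u' - 1 ∈ P := by
    rw [← Ideal.Quotient.eq, map_one, hu', map_prod]
    apply Finset.prod_eq_one
    intro δ _
    rw [← map_one (Ideal.Quotient.mk P), Ideal.Quotient.eq]
    have h1 : δ • u₁ - 1 = (δ : Γ) • (u₁ - 1) := by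
      rw [smul_sub, smul_one]; rfl
    rw [h1]
    have := Ideal.smul_mem_pointwise_smul (δ : Γ) _ P hu₁P
    rwa [(hD _).mp δ.2] at this
  have hu's : ∀ γ : Γ, γ • P ≠ P → u' ∈ γ • P := by
    intro γ hγ
    refine Ideal.mem_of_dvd _ (Finset.dvd_prod_of_mem _ (Finset.mem_univ (1 : D))) ?_
    rw [one_smul]
    exact hu₁s γ hγ
  exact ⟨u', hu'D, hu'P, hu's⟩

theorem card_inertia_stabilizer (P : Ideal B) :
    Nat.card (P.inertia (MulAction.stabilizer Γ P)) = Nat.card (P.inertia Γ) := by
  have h : P.inertia (MulAction.stabilizer Γ P) =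
      (P.inertia Γ).subgroupOf (MulAction.stabilizer Γ P) := by
    ext d
    rfl
  rw [h]
  exact Nat.card_congr
    (Subgroup.subgroupOfEquivOfLe (Ideal.inertia_le_stabilizer (M := Γ) P)).toEquiv

/-- at a tame maximal ideal some trace is a unit mod `P` -/
theorem exists_trace_not_mem (P : Ideal B) [hPmax : P.IsMaximal]
    (htame : ((Nat.card (P.inertia Γ) : ℕ) : B ⧸ P) ≠ 0) :
    ∃ b : B, ∑ γ : Γ, γ • b ∉ P := by
  classical
  letI := Ideal.Quotient.field P
  letI : Fintype (MulAction.stabilizer Γ P ⧸ P.inertia (MulAction.stabilizer Γ P)) :=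
    Fintype.ofFinite _
  obtain ⟨e, heD, heP, hes⟩ := exists_idem (Γ := Γ) P
  obtain ⟨w, hwT, hw⟩ := Groth.Agent.S12937.exists_trace_not_mem (Γ := Γ) P
  refine ⟨e * w, ?_⟩
  rw [← Ideal.Quotient.eq_zero_iff_mem, map_sum]
  have hterm : ∀ γ : Γ, Ideal.Quotient.mk P (γ • (e * w)) =
      if γ ∈ MulAction.stabilizer Γ P then Ideal.Quotient.mk P (γ • w) else 0 := by
    intro γ
    split_ifs with hγ
    · rw [Ideal.Quotient.eq, smul_mul', heD γ hγ, ← sub_one_mul]
      exact P.mul_mem_right _ heP
    · rw [Ideal.Quotient.eq_zero_iff_mem, smul_mul']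
      apply P.mul_mem_right
      have hγ' : γ⁻¹ • P ≠ P := by
        intro h
        have h2 := (MulAction.stabilizer Γ P).inv_mem (MulAction.mem_stabilizer_iff.mpr h)
        rw [inv_inv] at h2
        exact hγ h2
      have := hes _ hγ'
      rwa [Ideal.mem_pointwise_smul_iff_inv_smul_mem, inv_inv] at this
  simp only [hterm]
  rw [← Finset.sum_filter]
  rw [Finset.sum_subtype (Finset.univ.filter (· ∈ MulAction.stabilizer Γ P))
    (p := (· ∈ MulAction.stabilizer Γ P)) (by simp)
    (fun γ => Ideal.Quotient.mk P (γ • w))]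
  have hsum := sum_eq_card_nsmul (P.inertia (MulAction.stabilizer Γ P))
    (fun d : MulAction.stabilizer Γ P => Ideal.Quotient.mk P ((d : Γ) • w)) (by
      intro d t ht
      have : t • w = w := Groth.Agent.S12937.mem_inertia_fixed P w hwT t ht
      show Ideal.Quotient.mk P (((d * t : MulAction.stabilizer Γ P) : Γ) • w) = _
      rw [Subgroup.coe_mul, mul_smul]
      congr 2)
  rw [hsum, card_inertia_stabilizer, nsmul_eq_mul]
  apply mul_ne_zero htame
  rw [← map_sum]
  rw [Ne, Ideal.Quotient.eq_zero_iff_mem]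
  exact hw

end main

/-- Let `B` be a commutative ring with an action of a finite group `Γ` by ring automorphisms, and call a
prime ideal `P` of `B` tame when the order of its inertia group `{γ | γ • x - x ∈ P for all x}` is
not divisible by the characteristic of `B/P` (its ramification group is trivial). Then every prime
of `B` is tame if and only if the trace `b ↦ Σ_γ γ • b`, which takes values in the invariant ring
`B^Γ` and is `B^Γ`-linear, is onto `B^Γ` — equivalently, some element of `B` has trace `1`. -/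
theorem result
    (B : Type u) [CommRing B] (Γ : Type v) [Group Γ] [Fintype Γ] [MulSemiringAction Γ B] :
    (∃ b : B, ∑ γ : Γ, γ • b = 1) ↔
      ∀ P : Ideal B, P.IsPrime → ((Nat.card (P.inertia Γ) : ℕ) : B ⧸ P) ≠ 0 := by
  classical
  constructor
  · rintro ⟨b, hb⟩ P hP
    exact forward b hb P hP
  · intro htame
    -- the invariant ring and the trace ideal
    let A := FixedPoints.subring B Γ
    haveI : Algebra.IsInvariant A B Γ := ⟨fun b hb => ⟨⟨b, hb⟩, rfl⟩⟩
    haveI : Algebra.IsIntegral A B := Algebra.IsInvariant.isIntegral A B Γ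
    have htr : ∀ b : B, ∀ g : Γ, g • ∑ γ : Γ, γ • b = ∑ γ : Γ, γ • b := by
      intro b g
      rw [Finset.smul_sum]
      exact Fintype.sum_equiv (Equiv.mulLeft g) _ _ (fun γ => by simp [mul_smul])
    let I : Ideal A :=
      { carrier := {a | ∃ b : B, ∑ γ : Γ, γ • b = (a : B)}
        add_mem' := by
          rintro a a' ⟨b, hb⟩ ⟨b', hb'⟩
          refine ⟨b + b', ?_⟩
          simp only [smul_add, Finset.sum_add_distrib, hb, hb']
          rfl
        zero_mem' := ⟨0, by simp⟩
        smul_mem' := by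
          rintro c a ⟨b, hb⟩
          refine ⟨(c : B) * b, ?_⟩
          have : ∀ γ : Γ, γ • ((c : B) * b) = (c : B) * γ • b := by
            intro γ
            rw [smul_mul', c.2 γ]
          simp only [this, ← Finset.mul_sum, hb]
          rfl }
    have hItop : I = ⊤ := by
      rw [← Ideal.map_eq_top_iff (algebraMap A B) Subtype.val_injective
        (Algebra.IsIntegral.isIntegral (R := A) (A := B))]
      by_contra hne
      obtain ⟨P, hPmax, hIP⟩ := Ideal.exists_le_maximal _ hne
      obtain ⟨b, hb⟩ := exists_trace_not_mem (Γ := Γ) P (htame P hPmax.isPrime)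
      apply hb
      apply hIP
      apply Ideal.mem_map_of_mem (algebraMap A B) (x := ⟨∑ γ : Γ, γ • b, htr b⟩)
      exact ⟨b, rfl⟩
    have h1 : (1 : A) ∈ I := by rw [hItop]; trivial
    obtain ⟨b, hb⟩ := h1
    exact ⟨b, hb⟩

end Groth.Agent.S12932
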