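import Groth.Statements.S12933
import Mathlib.RingTheory.Flat.Equalizer
import Mathlib.LinearAlgebra.TensorProduct.Pi

set_option autoImplicit false
universe u v w w'
open TensorProduct
open InvTh

namespace Groth.Agent.S12933

/-- Let `R` be a commutative ring, `B` a commutative `R`-algebra with an action of a finite group `Γ` by
`R`-algebra automorphisms, and `R'` a flat commutative `R`-algebra; let `Γ` act on `R' ⊗_R B`
through the factor `B`. Then an element of `R' ⊗_R B` is fixed by every element of `Γ` if and only
if it lies in the `R'`-submodule spanned by the tensors `1 ⊗ b` with `b ∈ B^Γ`: taking invariants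
commutes with flat base change (the map `R' ⊗_R B^Γ → R' ⊗_R B` being moreover injective by
flatness). -/
theorem result
    (R : Type u) [CommRing R] (B : Type v) [CommRing B] [Algebra R B]
    (Γ : Type w) [Group Γ] [Finite Γ] [MulSemiringAction Γ B] [SMulCommClass Γ R B]
    (R' : Type w') [CommRing R'] [Algebra R R'] [Module.Flat R R']
    (x : R' ⊗[R] B) :
    (∀ γ : Γ, Algebra.TensorProduct.map (AlgHom.id R R') (MulSemiringAction.toAlgHom R B γ) x = x) ↔
      x ∈ Submodule.span R' ((fun b : B => (1 : R') ⊗ₜ[R] b) '' {b : B | ∀ γ : Γ, γ • b = b}) := by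
  classical
  cases nonempty_fintype Γ
  let φ : B →ₗ[R] (Γ → B) :=
    LinearMap.pi (fun γ => (MulSemiringAction.toAlgHom R B γ).toLinearMap - LinearMap.id)
  have hker : ∀ b : B, b ∈ LinearMap.ker φ ↔ ∀ γ : Γ, γ • b = b := by
    intro b
    rw [LinearMap.mem_ker]
    constructor
    · intro h γ
      have := congrFun h γ
      simpa [φ, sub_eq_zero] using this
    · intro h
      funext γ
      simp [φ, h γ]
  have hφx : ∀ y : R' ⊗[R] B,
      TensorProduct.piRightHom R R R' (fun _ : Γ => B) (φ.lTensor R' y) = fun γ =>
        Algebra.TensorProduct.map (AlgHom.id R R') (MulSemiringAction.toAlgHom R B γ) y - y := by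
    intro y
    induction y using TensorProduct.induction_on with
    | zero => funext γ; simp
    | tmul r b => funext γ; simp [φ, tmul_sub]
    | add y z hy hz =>
      rw [map_add, map_add, hy, hz]
      funext γ
      simp only [Pi.add_apply, map_add]
      abel
  have hspan : ∀ z : R' ⊗[R] LinearMap.ker φ,
      (LinearMap.ker φ).subtype.lTensor R' z ∈
        Submodule.span R' ((fun b : B => (1 : R') ⊗ₜ[R] b) '' {b : B | ∀ γ : Γ, γ • b = b}) := by
    intro z
    induction z using TensorProduct.induction_on with
    | zero => simp
    | tmul r k =>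
      rw [LinearMap.lTensor_tmul]
      have : r ⊗ₜ[R] ((LinearMap.ker φ).subtype k) = r • ((1 : R') ⊗ₜ[R] (k : B)) := by
        rw [TensorProduct.smul_tmul', smul_eq_mul, mul_one]
        rfl
      rw [this]
      exact Submodule.smul_mem _ _ (Submodule.subset_span ⟨k, (hker k).mp k.2, rfl⟩)
    | add y z hy hz =>
      rw [map_add]
      exact Submodule.add_mem _ hy hz
  constructor
  · intro hx
    have h0 : φ.lTensor R' x = 0 := by
      apply (TensorProduct.piRight R R R' (fun _ : Γ => B)).injective
      rw [map_zero, TensorProduct.piRight_apply, hφx]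
      funext γ
      simp [hx γ]
    have hex := Module.Flat.lTensor_exact R' (LinearMap.exact_subtype_ker_map φ)
    obtain ⟨z, hz⟩ := (hex x).mp h0
    rw [← hz]
    exact hspan z
  · intro hx γ
    induction hx using Submodule.span_induction with
    | mem y hy =>
      obtain ⟨b, hb, rfl⟩ := hy
      simp [hb γ]
    | zero => simp
    | add y z _ _ hy hz => rw [map_add, hy, hz]
    | smul r y _ hy =>
      rw [Algebra.smul_def, map_mul, hy]
      congr 1
      simp [Algebra.TensorProduct.algebraMap_apply]

end Groth.Agent.S12933
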