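import Groth.Statements.S12934
import Mathlib.GroupTheory.Sylow
import Mathlib.RingTheory.RootsOfUnity.PrimitiveRoots
import Mathlib.RingTheory.LocalRing.ResidueField.Basic
import Mathlib.Algebra.CharP.Lemmas
import Mathlib.FieldTheory.Perfect

set_option autoImplicit false
universe u v
open InvTh

namespace Groth.Agent.S12934

open IsLocalRing

section aux

variable {B : Type u} [CommRing B] [IsLocalRing B]
  {Γ : Type v} [Group Γ] [MulSemiringAction Γ B]

theorem residue_eq_of_mul_eq {b u u' : B} (hb : b ≠ 0) (h : b * u = b * u') :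
    residue B u = residue B u' := by
  by_contra hne
  have hnm : u - u' ∉ maximalIdeal B := fun hmem => hne (by
    rw [← sub_eq_zero, ← map_sub]
    exact (residue_eq_zero_iff _).mpr hmem)
  have hunit : IsUnit (u - u') := by
    by_contra hnu
    exact hnm ((mem_maximalIdeal _).mpr hnu)
  have h0 : b * (u - u') = 0 := by rw [mul_sub, h, sub_self]
  exact hb (hunit.mul_left_eq_zero.mp h0)

variable (hin : ∀ (γ : Γ) (b : B), γ • b - b ∈ maximalIdeal B)
  (hst : ∀ (γ : Γ) (b : B), ∃ u : B, γ • b = b * u)

/-- a chosen multiplier -/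
noncomputable def mult (γ : Γ) (b : B) : B := Classical.choose (hst γ b)

theorem mult_spec (γ : Γ) (b : B) : γ • b = b * mult hst γ b := Classical.choose_spec (hst γ b)

include hin in
theorem residue_smul (γ : Γ) (c : B) : residue B (γ • c) = residue B c := by
  rw [← sub_eq_zero, ← map_sub, residue_eq_zero_iff]
  exact hin _ _

/-- the character attached to a nonzero element -/
noncomputable def chi (b : B) (hb : b ≠ 0) : Γ →* ResidueField B where
  toFun γ := residue B (mult hst γ b)
  map_one' := by
    have h := mult_spec hst (1 : Γ) b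
    rw [one_smul] at h
    have h' : b * 1 = b * mult hst 1 b := by rw [mul_one]; exact h
    rw [← residue_eq_of_mul_eq hb h', map_one]
  map_mul' γ δ := by
    have h1 : (γ * δ) • b = b * (mult hst γ b * γ • mult hst δ b) := by
      rw [mul_smul]
      conv_lhs => rw [mult_spec hst δ b, smul_mul', mult_spec hst γ b]
      rw [mul_assoc]
    have h2 : b * mult hst (γ * δ) b = b * (mult hst γ b * γ • mult hst δ b) := by
      rw [← mult_spec, h1]
    rw [residue_eq_of_mul_eq hb h2, map_mul, residue_smul hin]

theorem chi_eq (b : B) (hb : b ≠ 0) (γ : Γ) (u : B) (h : γ • b = b * u) :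
    chi hin hst b hb γ = residue B u := by
  apply residue_eq_of_mul_eq hb
  rw [← mult_spec, h]

/-- the product of all the characters -/
noncomputable def Chi : Γ →* ({b : B // b ≠ 0} → ResidueField B) where
  toFun γ b := chi hin hst b.1 b.2 γ
  map_one' := by
    funext b
    simp
  map_mul' γ δ := by
    funext b
    simp

theorem mem_ker_iff (γ : Γ) :
    γ ∈ (Chi hin hst).ker ↔ ∀ b : B, ∃ x ∈ maximalIdeal B, γ • b = b + b * x := by
  rw [MonoidHom.mem_ker]
  constructor
  · intro h b
    by_cases hb : b = 0
    · subst hb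
      exact ⟨0, zero_mem _, by simp⟩
    · have h1 : chi hin hst b hb γ = 1 := congrFun h ⟨b, hb⟩
      refine ⟨mult hst γ b - 1, ?_, ?_⟩
      · rw [← residue_eq_zero_iff, map_sub, map_one, sub_eq_zero]
        exact h1
      · rw [mult_spec hst γ b]; ring
  · intro h
    funext ⟨b, hb⟩
    obtain ⟨x, hx, hxb⟩ := h b
    show chi hin hst b hb γ = 1
    rw [chi_eq hin hst b hb γ (1 + x) (by rw [hxb]; ring), map_add, map_one,
      (residue_eq_zero_iff _).mpr hx, add_zero]

theorem eq_one_of_mem_ker [FaithfulSMul Γ B] (γ : Γ) (hγ : γ ∈ (Chi hin hst).ker)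
    (hpos : 0 < orderOf γ)
    (hn : (orderOf γ : ResidueField B) ≠ 0) : γ = 1 := by
  classical
  set n := orderOf γ with hn_def
  have hpow : ∀ (i : ℕ) (y : B), ∃ x ∈ maximalIdeal B, γ ^ i • y = y + y * x := by
    intro i y
    exact (mem_ker_iff hin hst (γ ^ i)).mp ((Chi hin hst).ker.pow_mem hγ i) y
  choose x hx hxy using hpow
  have hT : ∀ y : B, ∑ i ∈ Finset.range n, γ ^ i • y =
      y * ((n : B) + ∑ i ∈ Finset.range n, x i y) := by
    intro y
    simp only [hxy, Finset.sum_add_distrib, Finset.sum_const, Finset.card_range, nsmul_eq_mul,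
      ← Finset.mul_sum]
    ring
  have hunit : ∀ y : B, IsUnit ((n : B) + ∑ i ∈ Finset.range n, x i y) := by
    intro y
    by_contra hnu
    have hmem : (n : B) + ∑ i ∈ Finset.range n, x i y ∈ maximalIdeal B :=
      (mem_maximalIdeal _).mpr hnu
    have hsum : ∑ i ∈ Finset.range n, x i y ∈ maximalIdeal B :=
      (maximalIdeal B).sum_mem (fun i _ => hx i y)
    have hnmem : (n : B) ∈ maximalIdeal B := by
      have := (maximalIdeal B).sub_mem hmem hsum
      rwa [add_sub_cancel_right] at this
    apply hn
    have := (residue_eq_zero_iff _).mpr hnmem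
    rwa [map_natCast] at this
  have hshift : ∀ y : B, ∑ i ∈ Finset.range n, γ ^ i • (γ • y) = ∑ i ∈ Finset.range n, γ ^ i • y := by
    intro y
    have h1 := Finset.sum_range_succ' (fun i => γ ^ i • y) n
    have h2 := Finset.sum_range_succ (fun i => γ ^ i • y) n
    rw [h1] at h2
    simp only [pow_zero, one_smul, hn_def, pow_orderOf_eq_one] at h2
    have h3 := add_right_cancel h2
    rw [← h3]
    refine Finset.sum_congr rfl (fun i _ => ?_)
    rw [pow_succ, mul_smul]
  have hfix : ∀ b : B, γ • b = (1 : Γ) • b := by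
    intro b
    rw [one_smul]
    have h0 : ∑ i ∈ Finset.range n, γ ^ i • (γ • b - b) = 0 := by
      simp only [smul_sub, Finset.sum_sub_distrib]
      rw [sub_eq_zero]
      have := hshift b
      simpa only [smul_sub] using this
    rw [hT] at h0
    have := (hunit (γ • b - b)).mul_left_eq_zero.mp h0
    exact sub_eq_zero.mp this
  exact FaithfulSMul.eq_of_smul_eq_smul hfix

end aux

/-- Let `B` be a local commutative ring with maximal ideal `m` and residue field `k`, and `Γ` a finite
group acting faithfully on `B` by ring automorphisms, such that every element of `Γ` acts trivially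
modulo `m` (the whole group is inertia) and maps each principal ideal of `B` into itself (every
ideal is stable). Let `S ⊆ Γ` be the set of `γ` with `γ b ∈ b + b m` for all `b`. Then: if `k` has
characteristic `0`, `S = {1}`; if `k` has characteristic `p > 0`, `S` is (the underlying set of) a
Sylow `p`-subgroup; every commutator of `Γ` lies in `S`, so `Γ/S` is abelian; and whenever the class
of `γ` in `Γ/S` has order `n` (`γ^n ∈ S`, no smaller positive power in `S`), `k` contains a
primitive `n`-th root of unity. (The published statement also bounds the number of generators of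
`Γ/S` by the number of generators of the monoid of principal ideals; that clause is not included.) -/
theorem result
    (B : Type u) [CommRing B] [IsLocalRing B]
    (Γ : Type v) [Group Γ] [Finite Γ] [MulSemiringAction Γ B] [FaithfulSMul Γ B]
    (hin : ∀ (γ : Γ) (b : B), γ • b - b ∈ IsLocalRing.maximalIdeal B)
    (hst : ∀ (γ : Γ) (b : B), ∃ u : B, γ • b = b * u)
    (S : Set Γ)
    (hS : ∀ γ : Γ, γ ∈ S ↔ ∀ b : B, ∃ x ∈ IsLocalRing.maximalIdeal B, γ • b = b + b * x) :
    (ringChar (IsLocalRing.ResidueField B) = 0 → S = {1}) ∧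
      (∀ (p : ℕ) [Fact p.Prime], ringChar (IsLocalRing.ResidueField B) = p →
        ∃ Q : Sylow p Γ, (Q : Set Γ) = S) ∧
      (∀ γ δ : Γ, γ * δ * γ⁻¹ * δ⁻¹ ∈ S) ∧
      (∀ (γ : Γ) (n : ℕ), 0 < n → γ ^ n ∈ S → (∀ i : ℕ, 0 < i → i < n → γ ^ i ∉ S) →
        ∃ ζ : IsLocalRing.ResidueField B, IsPrimitiveRoot ζ n) := by
  classical
  have hSS : ∀ γ : Γ, γ ∈ S ↔ γ ∈ (Chi hin hst).ker := by
    intro γ
    rw [hS, mem_ker_iff hin hst]
  have hchi : ∀ γ : Γ, γ ∈ S ↔ ∀ (b : B) (hb : b ≠ 0), chi hin hst b hb γ = 1 := by
    intro γ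
    rw [hSS, MonoidHom.mem_ker]
    constructor
    · intro h b hb
      exact congrFun h ⟨b, hb⟩
    · intro h
      funext ⟨b, hb⟩
      exact h b hb
  refine ⟨?_, ?_, ?_, ?_⟩
  · -- characteristic zero
    intro h0
    haveI : CharP (ResidueField B) 0 := (ringChar.eq_iff).mp h0
    haveI : CharZero (ResidueField B) := CharP.charP_to_charZero _
    ext γ
    simp only [Set.mem_singleton_iff]
    constructor
    · intro hγ
      apply eq_one_of_mem_ker hin hst γ ((hSS γ).mp hγ) (orderOf_pos γ)
      exact Nat.cast_ne_zero.mpr (orderOf_pos γ).ne'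
    · rintro rfl
      exact (hSS 1).mpr (Subgroup.one_mem _)
  · -- characteristic p
    intro p hp hchar
    haveI : CharP (ResidueField B) p := (ringChar.eq_iff).mp hchar
    have hpgroup : IsPGroup p (Chi hin hst).ker := by
      rintro ⟨g, hg⟩
      obtain ⟨a, m', hm', hord⟩ :=
        Nat.exists_eq_pow_mul_and_not_dvd (orderOf_pos g).ne' p hp.out.ne_one
      refine ⟨a, Subtype.ext ?_⟩
      have hmem : g ^ p ^ a ∈ (Chi hin hst).ker := Subgroup.pow_mem _ hg _
      have hpa : p ^ a ≠ 0 := pow_ne_zero _ hp.out.ne_zero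
      have hordh : orderOf (g ^ p ^ a) = m' := by
        rw [orderOf_pow_of_dvd hpa ⟨m', hord⟩, hord, Nat.mul_div_cancel_left _ (Nat.pos_of_ne_zero hpa)]
      have hm'pos : 0 < m' := by
        rcases Nat.eq_zero_or_pos m' with h | h
        · exact absurd (h ▸ dvd_zero p) hm'
        · exact h
      have := eq_one_of_mem_ker hin hst (g ^ p ^ a) hmem (by rw [hordh]; exact hm'pos) (by
        rw [hordh]
        intro h0
        exact hm' ((CharP.cast_eq_zero_iff (ResidueField B) p m').mp h0))
      simpa using this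
    obtain ⟨Q, hQ⟩ := hpgroup.exists_le_sylow
    refine ⟨Q, ?_⟩
    ext γ
    constructor
    · intro hγQ
      rw [hchi]
      intro b hb
      obtain ⟨a, ha⟩ := Q.isPGroup' ⟨γ, hγQ⟩
      have ha' : γ ^ p ^ a = 1 := by
        have := congrArg Subtype.val ha
        simpa using this
      have h1 : chi hin hst b hb γ ^ p ^ a = 1 := by
        rw [← map_pow, ha', map_one]
      have h2 : (chi hin hst b hb γ - 1) ^ p ^ a = 0 := by
        rw [sub_pow_char_pow, h1, one_pow, sub_self]
      exact sub_eq_zero.mp (pow_eq_zero_iff (pow_ne_zero _ hp.out.ne_zero) |>.mp h2)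
    · intro hγ
      exact hQ ((hSS γ).mp hγ)
  · -- commutators
    intro γ δ
    rw [hchi]
    intro b hb
    have h1 : chi hin hst b hb γ * chi hin hst b hb γ⁻¹ = 1 := by
      rw [← map_mul, mul_inv_cancel, map_one]
    have h2 : chi hin hst b hb δ * chi hin hst b hb δ⁻¹ = 1 := by
      rw [← map_mul, mul_inv_cancel, map_one]
    rw [map_mul, map_mul, map_mul]
    calc chi hin hst b hb γ * chi hin hst b hb δ * chi hin hst b hb γ⁻¹ * chi hin hst b hb δ⁻¹
        = (chi hin hst b hb γ * chi hin hst b hb γ⁻¹) *
          (chi hin hst b hb δ * chi hin hst b hb δ⁻¹) := by ring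
      _ = 1 := by rw [h1, h2, mul_one]
  · -- primitive roots of unity
    intro γ n hn hγn hmin
    haveI : NeZero n := ⟨hn.ne'⟩
    rw [← card_rootsOfUnity_eq_iff_exists_isPrimitiveRoot]
    set d := Nat.card (rootsOfUnity n (ResidueField B)) with hd
    have hdle : d ≤ n := card_rootsOfUnity (ResidueField B) n
    have hdpos : 0 < d := Nat.card_pos
    have hγd : γ ^ d ∈ S := by
      rw [hchi]
      intro b hb
      have hn1 : chi hin hst b hb γ ^ n = 1 := by
        rw [← map_pow]
        exact (hchi _).mp hγn b hb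
      set ζ : (ResidueField B)ˣ := (chi hin hst b hb).toHomUnits γ with hζ
      have hζv : (ζ : ResidueField B) = chi hin hst b hb γ := MonoidHom.coe_toHomUnits _ _
      have hζmem : ζ ∈ rootsOfUnity n (ResidueField B) := by
        rw [mem_rootsOfUnity]
        apply Units.ext
        rw [Units.val_pow_eq_pow_val, hζv, hn1, Units.val_one]
      have hpow : (⟨ζ, hζmem⟩ : rootsOfUnity n (ResidueField B)) ^ d = 1 := pow_card_eq_one'
      have hpow' : ζ ^ d = 1 := by
        have := congrArg Subtype.val hpow
        simpa using this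
      rw [map_pow, ← hζv, ← Units.val_pow_eq_pow_val, hpow', Units.val_one]
    rcases lt_or_eq_of_le hdle with hlt | heq
    · exact absurd hγd (hmin d hdpos hlt)
    · exact heq

end Groth.Agent.S12934
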