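import Groth.Statements.S12943
import Groth.Agent.Lib.Helper80.AlgStBridge
import Groth.Agent.S10277
import Groth.Agent.S10280
import Groth.Agent.S10521

set_option backward.isDefEq.respectTransparency false

set_option autoImplicit false
universe u
open CategoryTheory AlgebraicGeometry
open AlgSt

namespace Groth.Agent.S12943

/-- For a morphism f of algebraic stacks that is representable by algebraic spaces, the following are
equivalent: f is separated (every base change to a scheme is a separated morphism of algebraic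
spaces); the diagonal of f is a closed immersion; the diagonal of f is proper; the diagonal of f is
universally closed. -/
theorem result
    (S : Scheme.{u}) (𝒳 : AlgSt.Cat S) (𝒴 : AlgSt.Cat S)
    (h𝒳 : AlgSt.IsAlgStack Scheme.fppfPrecoverage 𝒳)
    (h𝒴 : AlgSt.IsAlgStack Scheme.fppfPrecoverage 𝒴)
    (f : 𝒳 ⥤ᵇ 𝒴)
    (hf : AlgSt.RepByAlgSp1 f) :
    [AlgSt.RepByAlgSpWith AlgSp.IsSeparatedMor f, AlgSt.IsClosedImm (FibCat.diag f),
      AlgSt.IsSeparatedMor f, AlgSt.RepByAlgSpWith AlgSp.IsUnivClosedMor (FibCat.diag f)].TFAE := by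
  have hAB : AlgSt.RepByAlgSpWith AlgSp.IsSeparatedMor f ↔ AlgSt.IsClosedImm (FibCat.diag f) :=
    (Groth.Agent.Lib.Helper80.repByAlgSpWith_diag_repWith_iff @IsClosedImmersion f hf).symm
  have hBC : AlgSt.IsClosedImm (FibCat.diag f) → AlgSt.IsSeparatedMor f := fun h =>
    Groth.Agent.Lib.Helper80.repByAlgSpWith_congr' _ _ (fun X U a hX ha =>
      Groth.Agent.S10277.result (X := ⟨X, hX⟩) (Y := ⟨(AlgSp.yon S).obj U, AlgSp.IsAlgSpace.yon_obj U⟩)
        (ObjectProperty.homMk a) ha) h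
  have hCD : AlgSt.IsSeparatedMor f → AlgSt.RepByAlgSpWith AlgSp.IsUnivClosedMor (FibCat.diag f) := fun h =>
    Groth.Agent.Lib.Helper80.repByAlgSpWith_congr _ _ (fun X U a ha => ha.2.2) h
  have hQb : ∀ ⦃X₁ Y₁ X₂ Y₂ : AlgSp.Sp S⦄, AlgSp.IsAlgSpace X₁ → AlgSp.IsAlgSpace Y₁ → AlgSp.IsAlgSpace X₂ →
      AlgSp.IsAlgSpace Y₂ → ∀ (a : X₁ ⟶ Y₁) (b : Y₂ ⟶ Y₁) (a' : X₂ ⟶ Y₂) (b' : X₂ ⟶ X₁),
      IsPullback b' a' a b → AlgSp.IsUnivClosedMor a → AlgSp.IsUnivClosedMor a' :=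
    fun _ _ _ _ _ _ _ _ a b a' b' sq ha => Groth.Agent.Lib.Helper30.isUnivClosedMor_snd_of_isPullback sq ha
  have hQ : Groth.Agent.Lib.Helper80.AtlasLocal (S := S) AlgSp.IsUnivClosedMor :=
    Groth.Agent.Lib.Helper80.atlasLocal_of_isLocalOnBase_fppf _
      (Groth.Agent.Lib.Helper80.isLocalOnBase_fppf_of_fpqc (Groth.Agent.S10521.result S))
  have hDA : AlgSt.RepByAlgSpWith AlgSp.IsUnivClosedMor (FibCat.diag f) →
      AlgSt.RepByAlgSpWith AlgSp.IsSeparatedMor f := by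
    intro h
    have h1 := Groth.Agent.Lib.Helper80.repByAlgSpWith_diagonal_of_diag AlgSp.IsUnivClosedMor
      (fun X Y hX hY p hpull hr =>
        (Groth.Agent.Lib.Helper80.repByAlgSpWith_ofSpMap_iff AlgSp.IsUnivClosedMor hQb hQ hX hpull _).mp hr)
      f hf h
    exact Groth.Agent.Lib.Helper80.repByAlgSpWith_congr' _ _ (fun X U a hX ha =>
      ((Groth.Agent.S10280.result (X := ⟨X, hX⟩)
        (Y := ⟨(AlgSp.yon S).obj U, AlgSp.IsAlgSpace.yon_obj U⟩) (ObjectProperty.homMk a)).1).mpr ha) h1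
  tfae_have 1 ↔ 2 := hAB
  tfae_have 2 → 3 := hBC
  tfae_have 3 → 4 := hCD
  tfae_have 4 → 1 := hDA
  tfae_finish

end Groth.Agent.S12943
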