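import Groth.Statements.S12944
import Groth.Agent.Lib.Helper80.AlgStBridge
import Groth.Agent.S10519

set_option backward.isDefEq.respectTransparency false

set_option autoImplicit false
universe u
open CategoryTheory AlgebraicGeometry
open AlgSt

namespace Groth.Agent.S12944

/-- For a morphism f of algebraic stacks that is representable by algebraic spaces, these three
conditions coincide: f is quasi-separated (every base change to a scheme is a quasi-separated
morphism of algebraic spaces); the diagonal of f is quasi-compact; the diagonal of f is of finite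
type. -/
theorem result
    (S : Scheme.{u}) (𝒳 : AlgSt.Cat S) (𝒴 : AlgSt.Cat S)
    (h𝒳 : AlgSt.IsAlgStack Scheme.fppfPrecoverage 𝒳)
    (h𝒴 : AlgSt.IsAlgStack Scheme.fppfPrecoverage 𝒴)
    (f : 𝒳 ⥤ᵇ 𝒴)
    (hf : AlgSt.RepByAlgSp1 f) :
    [AlgSt.RepByAlgSpWith AlgSp.IsQuasiSeparatedMor f,
      AlgSt.RepByAlgSpWith AlgSp.IsQuasiCompactMor (FibCat.diag f),
      AlgSt.RepByAlgSpWith AlgSp.IsFiniteTypeMor (FibCat.diag f)].TFAE := by
  have hQb : ∀ ⦃X₁ Y₁ X₂ Y₂ : AlgSp.Sp S⦄, AlgSp.IsAlgSpace X₁ → AlgSp.IsAlgSpace Y₁ → AlgSp.IsAlgSpace X₂ →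
      AlgSp.IsAlgSpace Y₂ → ∀ (a : X₁ ⟶ Y₁) (b : Y₂ ⟶ Y₁) (a' : X₂ ⟶ Y₂) (b' : X₂ ⟶ X₁),
      IsPullback b' a' a b → AlgSp.IsQuasiCompactMor a → AlgSp.IsQuasiCompactMor a' :=
    fun _ _ _ _ _ _ _ _ a b a' b' sq ha => Groth.Agent.Lib.Helper30.isQuasiCompactMor_snd_of_isPullback sq ha
  have hQ : Groth.Agent.Lib.Helper80.AtlasLocal (S := S) AlgSp.IsQuasiCompactMor :=
    Groth.Agent.Lib.Helper80.atlasLocal_of_isLocalOnBase_fppf _
      (Groth.Agent.Lib.Helper80.isLocalOnBase_fppf_of_fpqc (Groth.Agent.S10519.result S))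
  have hA : AlgSt.RepByAlgSpWith AlgSp.IsQuasiSeparatedMor f ↔
      AlgSt.RepByAlgSpWith (AlgSp.RepWith @QuasiCompact) (FibCat.diag f) :=
    (Groth.Agent.Lib.Helper80.repByAlgSpWith_diag_repWith_iff @QuasiCompact f hf).symm
  have hAB : AlgSt.RepByAlgSpWith AlgSp.IsQuasiSeparatedMor f →
      AlgSt.RepByAlgSpWith AlgSp.IsQuasiCompactMor (FibCat.diag f) := fun h =>
    Groth.Agent.Lib.Helper80.repByAlgSpWith_congr _ _
      (fun X U a ha => Groth.Agent.Lib.Helper30.isQuasiCompactMor_of_repWith ha) (hA.mp h)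
  have hBA : AlgSt.RepByAlgSpWith AlgSp.IsQuasiCompactMor (FibCat.diag f) →
      AlgSt.RepByAlgSpWith AlgSp.IsQuasiSeparatedMor f := by
    intro h
    have h1 := Groth.Agent.Lib.Helper80.repByAlgSpWith_diagonal_of_diag AlgSp.IsQuasiCompactMor
      (fun X Y hX hY p hpull hr =>
        (Groth.Agent.Lib.Helper80.repByAlgSpWith_ofSpMap_iff AlgSp.IsQuasiCompactMor hQb hQ hX hpull _).mp hr)
      f hf h
    exact Groth.Agent.Lib.Helper80.repByAlgSpWith_congr' (AlgSp.IsQuasiCompactMor (S := S)).diagonal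
      AlgSp.IsQuasiSeparatedMor (fun X U a hX ha =>
      (⟨Groth.Agent.Lib.Helper30.representable_diagonal hX.diag a,
        fun U' V' g fst snd sq => Groth.Agent.Lib.Helper30.quasiCompact_of_isQuasiCompactMor ha g fst snd sq⟩ :
        AlgSp.RepWith @QuasiCompact (Limits.pullback.diagonal a))) h1
  have hBC : AlgSt.RepByAlgSpWith AlgSp.IsQuasiCompactMor (FibCat.diag f) →
      AlgSt.RepByAlgSpWith AlgSp.IsFiniteTypeMor (FibCat.diag f) := by
    intro h
    have h1 := Groth.Agent.Lib.Helper80.repByAlgSpWith_loft_diag h𝒳.isStack.1 h𝒳.diag h𝒳.atlas h𝒴.diag f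
    exact Groth.Agent.Lib.Helper80.repByAlgSpWith_congr _ _ (fun X U a ha => ⟨ha.1, ha.2⟩)
      (Groth.Agent.Lib.Helper80.repByAlgSpWith_inf _ _ hQb h1 h)
  have hCB : AlgSt.RepByAlgSpWith AlgSp.IsFiniteTypeMor (FibCat.diag f) →
      AlgSt.RepByAlgSpWith AlgSp.IsQuasiCompactMor (FibCat.diag f) := fun h =>
    Groth.Agent.Lib.Helper80.repByAlgSpWith_congr _ _ (fun X U a ha => ha.2) h
  tfae_have 1 → 2 := hAB
  tfae_have 2 → 3 := hBC
  tfae_have 3 → 1 := fun h => hBA (hCB h)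
  tfae_finish

end Groth.Agent.S12944
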