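import Groth.Statements.S12945
import Groth.Agent.S12944
import Groth.Agent.S12942
import Groth.Agent.Lib.Helper30.AlgSpProper

set_option backward.isDefEq.respectTransparency false

set_option autoImplicit false
universe u
open CategoryTheory AlgebraicGeometry
open AlgSt

namespace Groth.Agent.S12945

/-- For a morphism f of algebraic stacks that is representable by algebraic spaces, f is quasi-separated
in the sense of stacks (diagonal quasi-compact and quasi-separated) if and only if every base change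
of f to a scheme is a quasi-separated morphism of algebraic spaces. (For such f the diagonal is
separated, so the two notions of quasi-separated agree.) -/
theorem result
    (S : Scheme.{u}) (𝒳 : AlgSt.Cat S) (𝒴 : AlgSt.Cat S)
    (h𝒳 : AlgSt.IsAlgStack Scheme.fppfPrecoverage 𝒳)
    (h𝒴 : AlgSt.IsAlgStack Scheme.fppfPrecoverage 𝒴)
    (f : 𝒳 ⥤ᵇ 𝒴)
    (hf : AlgSt.RepByAlgSp1 f) :
    AlgSt.IsQuasiSeparatedMor f ↔ AlgSt.RepByAlgSpWith AlgSp.IsQuasiSeparatedMor f := by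
  have hQb : ∀ ⦃X₁ Y₁ X₂ Y₂ : AlgSp.Sp S⦄, AlgSp.IsAlgSpace X₁ → AlgSp.IsAlgSpace Y₁ → AlgSp.IsAlgSpace X₂ →
      AlgSp.IsAlgSpace Y₂ → ∀ (a : X₁ ⟶ Y₁) (b : Y₂ ⟶ Y₁) (a' : X₂ ⟶ Y₂) (b' : X₂ ⟶ X₁),
      IsPullback b' a' a b → AlgSp.IsQuasiCompactMor a → AlgSp.IsQuasiCompactMor a' :=
    fun _ _ _ _ _ _ _ _ a b a' b' sq ha => Groth.Agent.Lib.Helper30.isQuasiCompactMor_snd_of_isPullback sq ha
  have tf := Groth.Agent.S12944.result S 𝒳 𝒴 h𝒳 h𝒴 f hf
  constructor
  · intro h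
    have h1 : AlgSt.RepByAlgSpWith AlgSp.IsQuasiCompactMor (FibCat.diag f) :=
      Groth.Agent.Lib.Helper80.repByAlgSpWith_congr _ _ (fun X U a ha => ha.1) h
    exact (tf.out 1 0).mp h1
  · intro h
    have h1 : AlgSt.RepByAlgSpWith AlgSp.IsQuasiCompactMor (FibCat.diag f) := (tf.out 0 1).mp h
    have h2 : AlgSt.RepByAlgSpWith AlgSp.IsQuasiSeparatedMor (FibCat.diag f) :=
      Groth.Agent.Lib.Helper80.repByAlgSpWith_congr _ _
        (fun X U a ha => Groth.Agent.Lib.Helper30.isQuasiSeparatedMor_of_isSeparatedMor ha)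
        (Groth.Agent.S12942.result S 𝒳 𝒴 h𝒳 h𝒴 f hf)
    exact Groth.Agent.Lib.Helper80.repByAlgSpWith_congr _ _ (fun X U a ha => ⟨ha.2, ha.1⟩)
      (Groth.Agent.Lib.Helper80.repByAlgSpWith_inf _ _ hQb h2 h1)

end Groth.Agent.S12945
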