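import Groth.Statements.S12947
import Groth.Agent.Lib.Helper80.AlgStLoft
import Groth.Agent.Lib.Helper80.AlgStDiag2
import Groth.Agent.Lib.Helper30.AlgSpUnram

set_option backward.isDefEq.respectTransparency false

set_option autoImplicit false
universe u
open CategoryTheory AlgebraicGeometry
open AlgSt

namespace Groth.Agent.S12947

/-- A morphism of algebraic stacks that is representable by algebraic spaces is DM (its diagonal, a
monomorphism locally of finite type, is unramified). -/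
theorem result
    (S : Scheme.{u}) (𝒳 : AlgSt.Cat S) (𝒴 : AlgSt.Cat S)
    (h𝒳 : AlgSt.IsAlgStack Scheme.fppfPrecoverage 𝒳)
    (h𝒴 : AlgSt.IsAlgStack Scheme.fppfPrecoverage 𝒴)
    (f : 𝒳 ⥤ᵇ 𝒴)
    (hf : AlgSt.RepByAlgSp1 f) :
    AlgSt.IsDMMor f := by
  have h1 := Groth.Agent.Lib.Helper80.isMono_diag_of_repByAlgSp1 h𝒳.isStack.1 h𝒴.isStack.1 h𝒳.diag
    h𝒴.diag f hf
  have h2 := Groth.Agent.Lib.Helper80.repByAlgSpWith_loft_diag h𝒳.isStack.1 h𝒳.diag h𝒳.atlas h𝒴.diag f
  intro T t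
  obtain ⟨F, e, he, hmono⟩ := h1 T t
  obtain ⟨F₂, e₂, he₂, hloft⟩ := h2 T t
  refine ⟨F, e, he, ?_⟩
  have hloft' : AlgSp.LocP @LocallyOfFiniteType
      (AlgSt.spMapOfOver (BasedFunctor.comp e (FibCat.fpFst t (FibCat.diag f)))) :=
    Groth.Agent.Lib.Helper80.prop_of_rep_over _
      (Groth.Agent.Lib.Helper80.locP_baseChange Groth.Agent.Lib.Helper78.AlgSpLocPLoft.etLocalST_loft)
      (FibCat.fpFst t (FibCat.diag f)) F F₂ e e₂ he he₂ hloft
  have : Mono (AlgSt.spMapOfOver (BasedFunctor.comp e (FibCat.fpFst t (FibCat.diag f)))) := hmono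
  have hΔ : AlgSp.RepWith @IsOpenImmersion (Limits.pullback.diagonal
      (AlgSt.spMapOfOver (BasedFunctor.comp e (FibCat.fpFst t (FibCat.diag f))))) :=
    MorphismProperty.of_isIso _ _
  intro U V a b h ha hb comm
  exact ⟨hloft' a b h ha hb comm,
    Groth.Agent.Lib.Helper30.formallyUnramified_of_repWith_isOpenImmersion_diagonal F.property
      (AlgSp.IsAlgSpace.yon_obj T) _ hΔ a b h ha hb comm⟩

end Groth.Agent.S12947
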