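import Groth.Statements.S12953
import Groth.Agent.Lib.Helper80.AlgStDesc2
import Groth.Agent.Lib.Helper78.AlgSpLqfDesc
import Groth.Agent.S10535
import Groth.Agent.S10526
import Groth.Agent.S10519
import Groth.Agent.S10521
import Groth.Agent.S10276

set_option backward.isDefEq.respectTransparency false

set_option autoImplicit false
universe u
open CategoryTheory AlgebraicGeometry
open AlgSt

namespace Groth.Agent.S12953

/-- The composition of two separated morphisms of algebraic stacks is separated (separated: the diagonal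
is representable by algebraic spaces and proper). -/
theorem result
    (S : Scheme.{u}) (𝒳 : AlgSt.Cat S) (𝒴 : AlgSt.Cat S) (𝒵 : AlgSt.Cat S)
    (h𝒳 : AlgSt.IsAlgStack Scheme.fppfPrecoverage 𝒳)
    (h𝒴 : AlgSt.IsAlgStack Scheme.fppfPrecoverage 𝒴)
    (h𝒵 : AlgSt.IsAlgStack Scheme.fppfPrecoverage 𝒵)
    (f : 𝒳 ⥤ᵇ 𝒴) (g : 𝒴 ⥤ᵇ 𝒵) :
    AlgSt.IsSeparatedMor f → AlgSt.IsSeparatedMor g → AlgSt.IsSeparatedMor (BasedFunctor.comp f g) := by
  intro hf hg
  have hP : AlgSp.IsLocalOnBase (AlgSp.IsFpqcCover (S := S)) AlgSp.IsProperMor :=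
    Groth.Agent.Lib.Helper78.AlgSpLqfDesc.isLocalOnBase_and (Groth.Agent.S10535.result S)
      (Groth.Agent.Lib.Helper78.AlgSpLqfDesc.isLocalOnBase_and
        (Groth.Agent.Lib.Helper78.AlgSpLqfDesc.isLocalOnBase_and (Groth.Agent.S10526.result S)
          (Groth.Agent.S10519.result S))
        (Groth.Agent.S10521.result S))
  refine Groth.Agent.Lib.Helper80.repByAlgSpWith_diag_comp h𝒳.isStack.1 h𝒴.isStack.1 _
    (Groth.Agent.Lib.Helper80.atlasLocal_of_isLocalOnBase_fppf _
      (Groth.Agent.Lib.Helper80.isLocalOnBase_fppf_of_fpqc hP)) ?_ f g hf hg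
  intro X Y Z hX hY hZ a b ha hb
  exact Groth.Agent.S10276.result (X := ⟨X, hX⟩) (Y := ⟨Y, hY⟩) (Z := ⟨Z, hZ⟩)
    (ObjectProperty.homMk a) (ObjectProperty.homMk b) ha hb

end Groth.Agent.S12953
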