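import Groth.Statements.S12955
import Groth.Agent.Lib.Helper80.AlgStDesc2
import Groth.Agent.Lib.Helper78.AlgSpLqfDesc
import Groth.Agent.Lib.Helper30.AlgSpQC
import Groth.Agent.S10519
import Groth.Agent.S10520
import Groth.Agent.S10276
import Groth.Agent.S9901

set_option backward.isDefEq.respectTransparency false

set_option autoImplicit false
universe u
open CategoryTheory AlgebraicGeometry
open AlgSt

namespace Groth.Agent.S12955

/-- The composition of two quasi-separated morphisms of algebraic stacks is quasi-separated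
(quasi-separated: the diagonal is representable by algebraic spaces and quasi-compact and
quasi-separated). -/
theorem result
    (S : Scheme.{u}) (𝒳 : AlgSt.Cat S) (𝒴 : AlgSt.Cat S) (𝒵 : AlgSt.Cat S)
    (h𝒳 : AlgSt.IsAlgStack Scheme.fppfPrecoverage 𝒳)
    (h𝒴 : AlgSt.IsAlgStack Scheme.fppfPrecoverage 𝒴)
    (h𝒵 : AlgSt.IsAlgStack Scheme.fppfPrecoverage 𝒵)
    (f : 𝒳 ⥤ᵇ 𝒴) (g : 𝒴 ⥤ᵇ 𝒵) :
    AlgSt.IsQuasiSeparatedMor f → AlgSt.IsQuasiSeparatedMor g → AlgSt.IsQuasiSeparatedMor (BasedFunctor.comp f g) := by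
  intro hf hg
  have hP : AlgSp.IsLocalOnBase (AlgSp.IsFpqcCover (S := S))
      (AlgSp.IsQuasiCompactMor ⊓ AlgSp.IsQuasiSeparatedMor) :=
    Groth.Agent.Lib.Helper78.AlgSpLqfDesc.isLocalOnBase_and (Groth.Agent.S10519.result S)
      (Groth.Agent.S10520.result S)
  refine Groth.Agent.Lib.Helper80.repByAlgSpWith_diag_comp h𝒳.isStack.1 h𝒴.isStack.1 _
    (Groth.Agent.Lib.Helper80.atlasLocal_of_isLocalOnBase_fppf _
      (Groth.Agent.Lib.Helper80.isLocalOnBase_fppf_of_fpqc hP)) ?_ f g hf hg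
  intro X Y Z hX hY hZ a b ha hb
  refine ⟨Groth.Agent.Lib.Helper30.isQuasiCompactMor_comp hY hZ ha.1 hb.1, ?_⟩
  show AlgSp.RepWith @QuasiCompact (Limits.pullback.diagonal (a ≫ b))
  rw [Groth.Agent.S10276.diagonal_comp_mapDesc]
  exact (AlgSp.RepWith @QuasiCompact).comp_mem _ _ ha.2
    ((Groth.Agent.S9901.result (X := ⟨X, hX⟩) (Y := ⟨X, hX⟩) (Z := ⟨Y, hY⟩) (T := ⟨Z, hZ⟩)
      (ObjectProperty.homMk a) (ObjectProperty.homMk a) (ObjectProperty.homMk b)).2.2.2.2.2.2 hb.2)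

end Groth.Agent.S12955
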