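import Groth.Statements.S12956
import Groth.Agent.Lib.Helper80.AlgStCancel2
import Groth.Agent.Lib.Helper78.AlgSpLocPUnram
import Groth.Agent.Lib.Helper78.AlgSpLocPLoft

set_option backward.isDefEq.respectTransparency false

set_option autoImplicit false
universe u
open CategoryTheory AlgebraicGeometry
open AlgSt

namespace Groth.Agent.S12956

/-- If the composite of f : 𝒳 → 𝒴 and g : 𝒴 → 𝒵 (morphisms of algebraic stacks) is DM, then f is DM. -/
theorem result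
    (S : Scheme.{u}) (𝒳 : AlgSt.Cat S) (𝒴 : AlgSt.Cat S) (𝒵 : AlgSt.Cat S)
    (h𝒳 : AlgSt.IsAlgStack Scheme.fppfPrecoverage 𝒳)
    (h𝒴 : AlgSt.IsAlgStack Scheme.fppfPrecoverage 𝒴)
    (h𝒵 : AlgSt.IsAlgStack Scheme.fppfPrecoverage 𝒵)
    (f : 𝒳 ⥤ᵇ 𝒴) (g : 𝒴 ⥤ᵇ 𝒵) :
    AlgSt.IsDMMor (BasedFunctor.comp f g) → AlgSt.IsDMMor f := by
  intro h
  have hQ : Groth.Agent.Lib.Helper78.AlgSpLocP.EtLocalST
      ((@LocallyOfFiniteType ⊓ @FormallyUnramified : MorphismProperty Scheme.{u})) :=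
    Groth.Agent.Lib.Helper78.AlgSpLocPUnram.etLocalST_inf
      Groth.Agent.Lib.Helper78.AlgSpLocPLoft.etLocalST_loft
      Groth.Agent.Lib.Helper78.AlgSpLocPUnram.etLocalST_fu
  refine Groth.Agent.Lib.Helper80.repByAlgSpWith_locP_diag_of_comp hQ ?_ h𝒴.diag h𝒵.diag f g h
  intro A B C u v huv
  have h1 : LocallyOfFiniteType (u ≫ v) := huv.1
  have h2 : FormallyUnramified (u ≫ v) := huv.2
  exact ⟨locallyOfFiniteType_of_comp u v, FormallyUnramified.of_comp u v⟩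

end Groth.Agent.S12956
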