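import Groth.Statements.S12958
import Groth.Agent.Lib.Helper80.AlgStCancel2
import Groth.Agent.S10275
import Groth.Agent.S10278

set_option backward.isDefEq.respectTransparency false

set_option autoImplicit false
universe u
open CategoryTheory AlgebraicGeometry
open AlgSt

namespace Groth.Agent.S12958

/-- If the composite of f : 𝒳 → 𝒴 and g : 𝒴 → 𝒵 (morphisms of algebraic stacks) is separated and the
diagonal of g is separated (as a morphism representable by algebraic spaces), then f is separated. -/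
theorem result
    (S : Scheme.{u}) (𝒳 : AlgSt.Cat S) (𝒴 : AlgSt.Cat S) (𝒵 : AlgSt.Cat S)
    (h𝒳 : AlgSt.IsAlgStack Scheme.fppfPrecoverage 𝒳)
    (h𝒴 : AlgSt.IsAlgStack Scheme.fppfPrecoverage 𝒴)
    (h𝒵 : AlgSt.IsAlgStack Scheme.fppfPrecoverage 𝒵)
    (f : 𝒳 ⥤ᵇ 𝒴) (g : 𝒴 ⥤ᵇ 𝒵) :
    AlgSt.IsSeparatedMor (BasedFunctor.comp f g) →
      AlgSt.RepByAlgSpWith AlgSp.IsSeparatedMor (FibCat.diag g) → AlgSt.IsSeparatedMor f := by
  intro hgf hg
  refine Groth.Agent.Lib.Helper80.repByAlgSpWith_diag_of_diag_comp AlgSp.IsProperMor AlgSp.IsSeparatedMor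
    ?_ ?_ f g hg hgf
  · intro X₁ Y₁ X₂ Y₂ h1 h2 h3 h4 a b a' b' sq ha
    exact Groth.Agent.S10275.result (X := ⟨X₁, h1⟩) (Y := ⟨Y₁, h2⟩) (Y' := ⟨Y₂, h4⟩) (X' := ⟨X₂, h3⟩)
      (ObjectProperty.homMk a) (ObjectProperty.homMk b) (ObjectProperty.homMk b')
      (ObjectProperty.homMk a') sq ha
  · intro X Y Z hX hY hZ a b hb hab
    exact (Groth.Agent.S10278.result (X := ⟨X, hX⟩) (Y := ⟨Y, hY⟩) (B := ⟨Z, hZ⟩)
      (ObjectProperty.homMk a) (ObjectProperty.homMk (a ≫ b)) (ObjectProperty.homMk b) rfl hb).2 hab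

end Groth.Agent.S12958
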