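import Groth.Statements.S12959
import Groth.Agent.Lib.Helper80.AlgStCancel2
import Groth.Agent.Lib.Helper30.AlgSpSep
import Groth.Agent.Lib.Helper30.AlgSpQC
import Groth.Agent.S10276

set_option backward.isDefEq.respectTransparency false

set_option autoImplicit false
universe u
open CategoryTheory AlgebraicGeometry
open AlgSt

namespace Groth.Agent.S12959

/-- If the composite of f : 𝒳 → 𝒴 and g : 𝒴 → 𝒵 (morphisms of algebraic stacks) is quasi-separated and
the diagonal of g is quasi-separated (as a morphism representable by algebraic spaces), then f is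
quasi-separated. -/
theorem result
    (S : Scheme.{u}) (𝒳 : AlgSt.Cat S) (𝒴 : AlgSt.Cat S) (𝒵 : AlgSt.Cat S)
    (h𝒳 : AlgSt.IsAlgStack Scheme.fppfPrecoverage 𝒳)
    (h𝒴 : AlgSt.IsAlgStack Scheme.fppfPrecoverage 𝒴)
    (h𝒵 : AlgSt.IsAlgStack Scheme.fppfPrecoverage 𝒵)
    (f : 𝒳 ⥤ᵇ 𝒴) (g : 𝒴 ⥤ᵇ 𝒵) :
    AlgSt.IsQuasiSeparatedMor (BasedFunctor.comp f g) →
      AlgSt.RepByAlgSpWith AlgSp.IsQuasiSeparatedMor (FibCat.diag g) → AlgSt.IsQuasiSeparatedMor f := by
  intro hgf hg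
  refine Groth.Agent.Lib.Helper80.repByAlgSpWith_diag_of_diag_comp
    (AlgSp.IsQuasiCompactMor ⊓ AlgSp.IsQuasiSeparatedMor) AlgSp.IsQuasiSeparatedMor ?_ ?_ f g hg hgf
  · intro X₁ Y₁ X₂ Y₂ h1 h2 h3 h4 a b a' b' sq ha
    exact ⟨Groth.Agent.Lib.Helper30.isQuasiCompactMor_snd_of_isPullback sq ha.1,
      Groth.Agent.Lib.Helper30.diagonal_of_isPullback (AlgSp.RepWith @QuasiCompact) sq ha.2⟩
  · intro X Y Z hX hY hZ a b hb hab
    refine ⟨Groth.Agent.Lib.Helper30.isQuasiCompactMor_of_comp_of_isQuasiSeparatedMor hX hY hZ a b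
      hab.1 hb, ?_⟩
    have h2 : AlgSp.RepWith @QuasiCompact (Limits.pullback.diagonal (a ≫ b)) := hab.2
    rw [Groth.Agent.S10276.diagonal_comp_mapDesc] at h2
    have : Mono (Limits.pullback.mapDesc a a b) := ⟨fun u v h => by
      apply Limits.pullback.hom_ext
      · simpa using congrArg (· ≫ Limits.pullback.fst _ _) h
      · simpa using congrArg (· ≫ Limits.pullback.snd _ _) h⟩
    exact Groth.Agent.Lib.Helper30.repWith_of_comp_mono @QuasiCompact _ _ h2

end Groth.Agent.S12959
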