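import Groth.Statements.S12962
import Groth.Agent.Lib.Helper80.AlgStDesc2
import Groth.Agent.Lib.Helper78.AlgSpLqfDesc
import Groth.Agent.S10535
import Groth.Agent.S10526
import Groth.Agent.S10519
import Groth.Agent.S10521
import Groth.Agent.S10275

set_option backward.isDefEq.respectTransparency false

set_option autoImplicit false
universe u
open CategoryTheory AlgebraicGeometry
open AlgSt

namespace Groth.Agent.S12962

/-- Let f : 𝒳 → 𝒴 be a morphism of algebraic stacks and W → 𝒴 a surjective, flat, locally finitely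
presented morphism whose source is an algebraic space. Whenever the projection W ×_𝒴 𝒳 → W is
separated, f is separated too (separated: the diagonal is representable by algebraic spaces and
proper). -/
theorem result
    (S : Scheme.{u}) (𝒳 : AlgSt.Cat S) (𝒴 : AlgSt.Cat S)
    (h𝒳 : AlgSt.IsAlgStack Scheme.fppfPrecoverage 𝒳)
    (h𝒴 : AlgSt.IsAlgStack Scheme.fppfPrecoverage 𝒴)
    (f : 𝒳 ⥤ᵇ 𝒴)
    (W : AlgSp.Space S) (w : AlgSt.ofSp W.obj ⥤ᵇ 𝒴)
    (hw₁ : AlgSt.RepByAlgSpWith (AlgSp.LocP @Flat) w)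
    (hw₂ : AlgSt.RepByAlgSpWith (AlgSp.LocP @LocallyOfFinitePresentation) w)
    (hw₃ : AlgSt.RepByAlgSpWith AlgSp.IsSurjectiveMor w) :
    AlgSt.IsSeparatedMor (FibCat.fpFst w f) → AlgSt.IsSeparatedMor f := by
  intro h
  have hP : AlgSp.IsLocalOnBase (AlgSp.IsFpqcCover (S := S)) AlgSp.IsProperMor :=
    Groth.Agent.Lib.Helper78.AlgSpLqfDesc.isLocalOnBase_and (Groth.Agent.S10535.result S)
      (Groth.Agent.Lib.Helper78.AlgSpLqfDesc.isLocalOnBase_and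
        (Groth.Agent.Lib.Helper78.AlgSpLqfDesc.isLocalOnBase_and (Groth.Agent.S10526.result S)
          (Groth.Agent.S10519.result S))
        (Groth.Agent.S10521.result S))
  have hPb : ∀ ⦃X₁ Y₁ X₂ Y₂ : AlgSp.Sp S⦄, AlgSp.IsAlgSpace X₁ → AlgSp.IsAlgSpace Y₁ → AlgSp.IsAlgSpace X₂ →
      AlgSp.IsAlgSpace Y₂ → ∀ (a : X₁ ⟶ Y₁) (b : Y₂ ⟶ Y₁) (a' : X₂ ⟶ Y₂) (b' : X₂ ⟶ X₁),
      IsPullback b' a' a b → AlgSp.IsProperMor a → AlgSp.IsProperMor a' := by
    intro X₁ Y₁ X₂ Y₂ h1 h2 h3 h4 a b a' b' sq ha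
    exact Groth.Agent.S10275.result (X := ⟨X₁, h1⟩) (Y := ⟨Y₁, h2⟩) (Y' := ⟨Y₂, h4⟩) (X' := ⟨X₂, h3⟩)
      (ObjectProperty.homMk a) (ObjectProperty.homMk b) (ObjectProperty.homMk b')
      (ObjectProperty.homMk a') sq ha
  exact Groth.Agent.Lib.Helper80.repByAlgSpWith_diag_of_fppf_cover h𝒳.isStack.1 h𝒴.isStack.1
    (Groth.Agent.Lib.Helper80.ofPsh_isFibSetoid _).1 _ hPb
    (Groth.Agent.Lib.Helper80.isLocalOnBase_fppf_of_fpqc hP)
    f (Groth.Agent.Lib.Helper80.repByAlgSp1_diag_of_diag f h𝒳.diag h𝒴.diag) w hw₁ hw₂ hw₃ h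

end Groth.Agent.S12962
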