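import Groth.Statements.S12963
import Groth.Agent.Lib.Helper80.AlgStDesc2
import Groth.Agent.Lib.Helper78.AlgSpLqfDesc
import Groth.Agent.Lib.Helper30.AlgSpSep
import Groth.Agent.Lib.Helper30.AlgSpQC
import Groth.Agent.S10519
import Groth.Agent.S10520

set_option backward.isDefEq.respectTransparency false

set_option autoImplicit false
universe u
open CategoryTheory AlgebraicGeometry
open AlgSt

namespace Groth.Agent.S12963

/-- Let f : 𝒳 → 𝒴 be a morphism of algebraic stacks and W → 𝒴 a surjective, flat, locally finitely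
presented morphism whose source is an algebraic space. Whenever the projection W ×_𝒴 𝒳 → W is
quasi-separated, f is quasi-separated too (quasi-separated: the diagonal is quasi-compact and
quasi-separated, and representable by algebraic spaces). -/
theorem result
    (S : Scheme.{u}) (𝒳 : AlgSt.Cat S) (𝒴 : AlgSt.Cat S)
    (h𝒳 : AlgSt.IsAlgStack Scheme.fppfPrecoverage 𝒳)
    (h𝒴 : AlgSt.IsAlgStack Scheme.fppfPrecoverage 𝒴)
    (f : 𝒳 ⥤ᵇ 𝒴)
    (W : AlgSp.Space S) (w : AlgSt.ofSp W.obj ⥤ᵇ 𝒴)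
    (hw₁ : AlgSt.RepByAlgSpWith (AlgSp.LocP @Flat) w)
    (hw₂ : AlgSt.RepByAlgSpWith (AlgSp.LocP @LocallyOfFinitePresentation) w)
    (hw₃ : AlgSt.RepByAlgSpWith AlgSp.IsSurjectiveMor w) :
    AlgSt.IsQuasiSeparatedMor (FibCat.fpFst w f) → AlgSt.IsQuasiSeparatedMor f := by
  intro h
  have hP : AlgSp.IsLocalOnBase (AlgSp.IsFpqcCover (S := S))
      (AlgSp.IsQuasiCompactMor ⊓ AlgSp.IsQuasiSeparatedMor) :=
    Groth.Agent.Lib.Helper78.AlgSpLqfDesc.isLocalOnBase_and (Groth.Agent.S10519.result S)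
      (Groth.Agent.S10520.result S)
  have hPb : ∀ ⦃X₁ Y₁ X₂ Y₂ : AlgSp.Sp S⦄, AlgSp.IsAlgSpace X₁ → AlgSp.IsAlgSpace Y₁ → AlgSp.IsAlgSpace X₂ →
      AlgSp.IsAlgSpace Y₂ → ∀ (a : X₁ ⟶ Y₁) (b : Y₂ ⟶ Y₁) (a' : X₂ ⟶ Y₂) (b' : X₂ ⟶ X₁),
      IsPullback b' a' a b → (AlgSp.IsQuasiCompactMor ⊓ AlgSp.IsQuasiSeparatedMor) a →
        (AlgSp.IsQuasiCompactMor ⊓ AlgSp.IsQuasiSeparatedMor) a' := by
    intro X₁ Y₁ X₂ Y₂ h1 h2 h3 h4 a b a' b' sq ha
    exact ⟨Groth.Agent.Lib.Helper30.isQuasiCompactMor_snd_of_isPullback sq ha.1,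
      Groth.Agent.Lib.Helper30.diagonal_of_isPullback (AlgSp.RepWith @QuasiCompact) sq ha.2⟩
  exact Groth.Agent.Lib.Helper80.repByAlgSpWith_diag_of_fppf_cover h𝒳.isStack.1 h𝒴.isStack.1
    (Groth.Agent.Lib.Helper80.ofPsh_isFibSetoid _).1 _ hPb
    (Groth.Agent.Lib.Helper80.isLocalOnBase_fppf_of_fpqc hP)
    f (Groth.Agent.Lib.Helper80.repByAlgSp1_diag_of_diag f h𝒳.diag h𝒴.diag) w hw₁ hw₂ hw₃ h

end Groth.Agent.S12963
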