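import Groth.Statements.S12970
import Groth.Agent.Lib.Helper80.AlgStProd2
import Groth.Agent.Lib.Helper78.AlgSpLqfDesc
import Groth.Agent.Lib.Helper78.AlgSpLocP4

set_option backward.isDefEq.respectTransparency false

set_option autoImplicit false
universe u
open CategoryTheory AlgebraicGeometry
open AlgSt

namespace Groth.Agent.S12970

/-- Let 𝒳 be an algebraic stack and W → 𝒳 a surjective, flat, locally finitely presented morphism from
an algebraic space which is moreover locally quasi-finite. Then 𝒳 is quasi-DM over the base scheme.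
(The published statement concludes quasi-DM over the integers; this row concludes it over the base
scheme, which is equivalent for algebraic stacks.) -/
theorem result
    (S : Scheme.{u}) (𝒳 : AlgSt.Cat S)
    (h𝒳 : AlgSt.IsAlgStack Scheme.fppfPrecoverage 𝒳)
    (W : AlgSp.Space S) (w : AlgSt.ofSp W.obj ⥤ᵇ 𝒳)
    (hw₁ : AlgSt.RepByAlgSpWith (AlgSp.LocP @Flat) w)
    (hw₂ : AlgSt.RepByAlgSpWith (AlgSp.LocP @LocallyOfFinitePresentation) w)
    (hw₃ : AlgSt.RepByAlgSpWith AlgSp.IsSurjectiveMor w)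
    (hw₄ : AlgSt.RepByAlgSpWith (AlgSp.LocP (@LocallyQuasiFinite ⊓ @LocallyOfFiniteType)) w) :
    AlgSt.IsQuasiDMOver 𝒳 := by
  have hQ : Groth.Agent.Lib.Helper78.AlgSpLocP.EtLocalST
      ((@LocallyQuasiFinite ⊓ @LocallyOfFiniteType : MorphismProperty Scheme.{u})) :=
    Groth.Agent.Lib.Helper78.AlgSpLocPLqf.etLocalST_lqf
  refine Groth.Agent.Lib.Helper80.repByAlgSpWith_diag_toSelf_of_cover h𝒳.isStack.1 h𝒳.diag _
    (Groth.Agent.Lib.Helper80.locP_baseChange hQ)
    (Groth.Agent.Lib.Helper80.isLocalOnBase_fppf_of_fpqc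
      (Groth.Agent.Lib.Helper78.AlgSpLqfDesc.isLocalOnBase_fpqc_lqf S))
    ?_ W w hw₁ hw₂ hw₃ hw₄
  intro X Y Z hX hY hZ a b hab
  refine Groth.Agent.Lib.Helper78.AlgSpLocP.locP_of_comp_cancel hQ ?_ a b hX.atlas hY.atlas hZ.atlas hab
  intro A B C u v huv
  have h1 : LocallyQuasiFinite (u ≫ v) := huv.1
  have h2 : LocallyOfFiniteType (u ≫ v) := huv.2
  exact ⟨LocallyQuasiFinite.of_comp u v, locallyOfFiniteType_of_comp u v⟩

end Groth.Agent.S12970
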