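import Groth.Statements.S12972
import Groth.Agent.Lib.Helper80.AlgStBridge2
import Groth.Agent.Lib.Helper80.AlgStDiag
import Groth.Agent.Lib.Helper80.AlgStStack

set_option backward.isDefEq.respectTransparency false

set_option autoImplicit false
universe u
open CategoryTheory AlgebraicGeometry
open AlgSt

namespace Groth.Agent.S12972

/-- For a morphism f : 𝒳 → 𝒴 of algebraic stacks the following are equivalent: the relative inertia
𝓘_{𝒳/𝒴} → 𝒳 is separated; the diagonal of f is separated; the neutral section 𝒳 → 𝓘_{𝒳/𝒴} (the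
second diagonal) is a closed immersion. All three morphisms are representable by algebraic spaces
and the properties are the ones of such morphisms. -/
theorem result
    (S : Scheme.{u}) (𝒳 : AlgSt.Cat S) (𝒴 : AlgSt.Cat S)
    (h𝒳 : AlgSt.IsAlgStack Scheme.fppfPrecoverage 𝒳)
    (h𝒴 : AlgSt.IsAlgStack Scheme.fppfPrecoverage 𝒴)
    (f : 𝒳 ⥤ᵇ 𝒴) :
    [AlgSt.RepByAlgSpWith AlgSp.IsSeparatedMor (FibCat.inertiaToBase f),
      AlgSt.RepByAlgSpWith AlgSp.IsSeparatedMor (FibCat.diag f),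
      AlgSt.IsClosedImm (FibCat.inertiaNeutral f)].TFAE := by
  have hΔ : AlgSt.RepByAlgSp1 (FibCat.diag f) :=
    Groth.Agent.Lib.Helper80.repByAlgSp1_diag_of_diag f h𝒳.diag h𝒴.diag
  have hπ : AlgSt.RepByAlgSp1 (FibCat.fpFst (FibCat.diag f) (FibCat.diag f)) :=
    Groth.Agent.Lib.Helper80.repByAlgSp1_fpFst _ _ hΔ
  tfae_have 2 → 1 := fun h =>
    (Groth.Agent.Lib.Helper80.repByAlgSpWith_inertiaToBase_iff f _).mpr
      (Groth.Agent.Lib.Helper80.repByAlgSpWith_fpFst _ (FibCat.diag f) (FibCat.diag f) h)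
  tfae_have 1 → 3 := fun h => by
    have h1 := (Groth.Agent.Lib.Helper80.sep_iff_isClosedImm_diag _ hπ).mp
      ((Groth.Agent.Lib.Helper80.repByAlgSpWith_inertiaToBase_iff f _).mp h)
    have h2 := Groth.Agent.Lib.Helper80.repByAlgSpWith_section
      (FibCat.fpFst (FibCat.diag f) (FibCat.diag f)) (FibCat.diag (FibCat.diag f))
      (BasedNatIso.id (BasedFunctor.id 𝒳)) _ h1
    exact (Groth.Agent.Lib.Helper80.repByAlgSpWith_inertiaNeutral_iff f _).mpr h2
  tfae_have 3 → 2 := fun h =>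
    (Groth.Agent.Lib.Helper80.sep_iff_isClosedImm_diag _ hΔ).mpr
      ((Groth.Agent.Lib.Helper80.repByAlgSpWith_inertiaNeutral_iff f _).mp h)
  tfae_finish

end Groth.Agent.S12972
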