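import Groth.Statements.S12974
import Groth.Agent.Lib.Helper80.AlgStBridge3
import Groth.Agent.Lib.Helper80.AlgStDiag
import Groth.Agent.Lib.Helper80.AlgStStack

set_option backward.isDefEq.respectTransparency false

set_option autoImplicit false
universe u
open CategoryTheory AlgebraicGeometry
open AlgSt

namespace Groth.Agent.S12974

/-- For a morphism f : 𝒳 → 𝒴 of algebraic stacks, the relative inertia 𝓘_{𝒳/𝒴} → 𝒳 is unramified if and
only if f is DM. -/
theorem result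
    (S : Scheme.{u}) (𝒳 : AlgSt.Cat S) (𝒴 : AlgSt.Cat S)
    (h𝒳 : AlgSt.IsAlgStack Scheme.fppfPrecoverage 𝒳)
    (h𝒴 : AlgSt.IsAlgStack Scheme.fppfPrecoverage 𝒴)
    (f : 𝒳 ⥤ᵇ 𝒴) :
    AlgSt.RepByAlgSpWith (AlgSp.LocP (@LocallyOfFiniteType ⊓ @FormallyUnramified)) (FibCat.inertiaToBase f) ↔
      AlgSt.IsDMMor f := by
  have hΔ : AlgSt.RepByAlgSp1 (FibCat.diag f) :=
    Groth.Agent.Lib.Helper80.repByAlgSp1_diag_of_diag f h𝒳.diag h𝒴.diag
  have hπ : AlgSt.RepByAlgSp1 (FibCat.fpFst (FibCat.diag f) (FibCat.diag f)) :=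
    Groth.Agent.Lib.Helper80.repByAlgSp1_fpFst _ _ hΔ
  constructor
  · intro h
    have h1 := ((Groth.Agent.Lib.Helper80.unram_iff_loft_and_isOpenImm_diag _ hπ).mp
      ((Groth.Agent.Lib.Helper80.repByAlgSpWith_inertiaToBase_iff f _).mp h)).2
    have h2 := Groth.Agent.Lib.Helper80.repByAlgSpWith_section
      (FibCat.fpFst (FibCat.diag f) (FibCat.diag f)) (FibCat.diag (FibCat.diag f))
      (BasedNatIso.id (BasedFunctor.id 𝒳)) _ h1
    exact (Groth.Agent.Lib.Helper80.unram_iff_loft_and_isOpenImm_diag _ hΔ).mpr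
      ⟨Groth.Agent.Lib.Helper80.repByAlgSpWith_loft_diag h𝒳.isStack.1 h𝒳.diag h𝒳.atlas h𝒴.diag f, h2⟩
  · intro h
    exact (Groth.Agent.Lib.Helper80.repByAlgSpWith_inertiaToBase_iff f _).mpr
      (Groth.Agent.Lib.Helper80.repByAlgSpWith_fpFst _ (FibCat.diag f) (FibCat.diag f) h)

end Groth.Agent.S12974
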