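import Groth.Statements.S12979
import Groth.Agent.Lib.Helper80.AlgStBridge2
import Groth.Agent.Lib.Helper80.AlgStDiag
import Groth.Agent.Lib.Helper30.AlgSpUCqc

set_option backward.isDefEq.respectTransparency false

set_option autoImplicit false
universe u
open CategoryTheory AlgebraicGeometry
open AlgSt

namespace Groth.Agent.S12979

/-- If the first and second diagonals of a morphism f of algebraic stacks are both universally closed
(as morphisms representable by algebraic spaces), then f is separated. (The published statement is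
an equivalence; this row states the implication from the two diagonals to separatedness.) -/
theorem result
    (S : Scheme.{u}) (𝒳 : AlgSt.Cat S) (𝒴 : AlgSt.Cat S)
    (h𝒳 : AlgSt.IsAlgStack Scheme.fppfPrecoverage 𝒳)
    (h𝒴 : AlgSt.IsAlgStack Scheme.fppfPrecoverage 𝒴)
    (f : 𝒳 ⥤ᵇ 𝒴) :
    AlgSt.RepByAlgSpWith AlgSp.IsUnivClosedMor (FibCat.diag f) →
      AlgSt.RepByAlgSpWith AlgSp.IsUnivClosedMor (FibCat.diag (FibCat.diag f)) → AlgSt.IsSeparatedMor f := by
  intro h1 h2
  have hΔ : AlgSt.RepByAlgSp1 (FibCat.diag f) :=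
    Groth.Agent.Lib.Helper80.repByAlgSp1_diag_of_diag f h𝒳.diag h𝒴.diag
  have hs := Groth.Agent.Lib.Helper80.sep_of_univClosed_diag _ hΔ h2
  have hl := Groth.Agent.Lib.Helper80.repByAlgSpWith_loft_diag h𝒳.isStack.1 h𝒳.diag h𝒳.atlas h𝒴.diag f
  have h3 := Groth.Agent.Lib.Helper80.repByAlgSpWith_inf _ _
    Groth.Agent.Lib.Helper80.isUnivClosedMor_baseChange
    (Groth.Agent.Lib.Helper80.repByAlgSpWith_inf _ _
      (Groth.Agent.Lib.Helper80.locP_baseChange Groth.Agent.Lib.Helper78.AlgSpLocPLoft.etLocalST_loft) hs hl) h1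
  exact Groth.Agent.Lib.Helper80.repByAlgSpWith_congr' _ _ (fun X U a hX ha =>
    (⟨ha.1.1, ⟨ha.1.2, Groth.Agent.Lib.Helper30.isQuasiCompactMor_of_isUnivClosedMor hX
      (AlgSp.IsAlgSpace.yon_obj U) a ha.2⟩, ha.2⟩ : AlgSp.IsProperMor a)) h3

end Groth.Agent.S12979
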