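import Groth.Statements.S12980
import Groth.Agent.Lib.Helper80.AlgStBridge2
import Groth.Agent.Lib.Helper80.AlgStDiag

set_option backward.isDefEq.respectTransparency false

set_option autoImplicit false
universe u
open CategoryTheory AlgebraicGeometry
open AlgSt

namespace Groth.Agent.S12980

/-- A morphism f of algebraic stacks is quasi-separated if and only if its first and second diagonals
are both quasi-compact (as morphisms representable by algebraic spaces). -/
theorem result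
    (S : Scheme.{u}) (𝒳 : AlgSt.Cat S) (𝒴 : AlgSt.Cat S)
    (h𝒳 : AlgSt.IsAlgStack Scheme.fppfPrecoverage 𝒳)
    (h𝒴 : AlgSt.IsAlgStack Scheme.fppfPrecoverage 𝒴)
    (f : 𝒳 ⥤ᵇ 𝒴) :
    AlgSt.IsQuasiSeparatedMor f ↔
      AlgSt.RepByAlgSpWith AlgSp.IsQuasiCompactMor (FibCat.diag f) ∧
        AlgSt.RepByAlgSpWith AlgSp.IsQuasiCompactMor (FibCat.diag (FibCat.diag f)) := by
  have hΔ : AlgSt.RepByAlgSp1 (FibCat.diag f) :=
    Groth.Agent.Lib.Helper80.repByAlgSp1_diag_of_diag f h𝒳.diag h𝒴.diag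
  constructor
  · intro h
    refine ⟨Groth.Agent.Lib.Helper80.repByAlgSpWith_congr _ _ (fun X U a ha => ha.1) h, ?_⟩
    exact (Groth.Agent.Lib.Helper80.qs_iff_qc_diag _ hΔ).mp
      (Groth.Agent.Lib.Helper80.repByAlgSpWith_congr _ _ (fun X U a ha => ha.2) h)
  · rintro ⟨h1, h2⟩
    have h3 := (Groth.Agent.Lib.Helper80.qs_iff_qc_diag _ hΔ).mpr h2
    exact Groth.Agent.Lib.Helper80.repByAlgSpWith_congr _ _ (fun X U a ha => ⟨ha.2, ha.1⟩)
      (Groth.Agent.Lib.Helper80.repByAlgSpWith_inf _ _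
        Groth.Agent.Lib.Helper80.isQuasiCompactMor_baseChange h3 h1)

end Groth.Agent.S12980
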