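import Groth.Statements.S12983
import Groth.Agent.Lib.Helper80.AlgStPts10

set_option backward.isDefEq.respectTransparency false

set_option autoImplicit false
universe u
open CategoryTheory AlgebraicGeometry
open AlgSt

namespace Groth.Agent.S12983

/-- The composition of two quasi-compact morphisms of algebraic stacks is quasi-compact. -/
theorem result
    (S : Scheme.{u}) (𝒳 : AlgSt.Cat S) (𝒴 : AlgSt.Cat S) (𝒵 : AlgSt.Cat S)
    (h𝒳 : AlgSt.IsAlgStack Scheme.fppfPrecoverage 𝒳)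
    (h𝒴 : AlgSt.IsAlgStack Scheme.fppfPrecoverage 𝒴)
    (h𝒵 : AlgSt.IsAlgStack Scheme.fppfPrecoverage 𝒵)
    (f : 𝒳 ⥤ᵇ 𝒴) (g : 𝒴 ⥤ᵇ 𝒵) :
    AlgSt.IsQuasiCompactMor Scheme.fppfPrecoverage f → AlgSt.IsQuasiCompactMor Scheme.fppfPrecoverage g → AlgSt.IsQuasiCompactMor Scheme.fppfPrecoverage (BasedFunctor.comp f g) := by
  intro hf hg 𝒲 h𝒲 hqc z
  have h1 : AlgSt.IsQuasiCompact (FibCat.fp z g) := hg 𝒲 h𝒲 hqc z
  have a1 : AlgSt.IsAlgStack Scheme.fppfPrecoverage (FibCat.fp z g) :=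
    Groth.Agent.Lib.Helper80.isAlgStack_fp h𝒵.isStack h𝒵.diag h𝒲 h𝒴 z g
  have h2 : AlgSt.IsQuasiCompact (FibCat.fp (FibCat.fpSnd z g) f) := hf _ a1 h1 (FibCat.fpSnd z g)
  obtain ⟨d, hd, -, -⟩ := Groth.Agent.Lib.Helper80.IsEquivOver.symm
    (Groth.Agent.Lib.Helper80.fpPasteRight_isEquivOver z g f)
  exact Groth.Agent.Lib.Helper80.isQuasiCompact_of_isEquivOver d hd h2

end Groth.Agent.S12983
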