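import Groth.Statements.S12984
import Groth.Agent.Lib.Helper80.AlgStQcMor
import Groth.Agent.Lib.Helper30.AlgSpMor

set_option backward.isDefEq.respectTransparency false

set_option autoImplicit false
universe u
open CategoryTheory AlgebraicGeometry
open AlgSt

namespace Groth.Agent.S12984

/-- A closed immersion of algebraic stacks is quasi-compact. -/
theorem result
    (S : Scheme.{u}) (𝒳 : AlgSt.Cat S) (𝒴 : AlgSt.Cat S)
    (h𝒳 : AlgSt.IsAlgStack Scheme.fppfPrecoverage 𝒳)
    (h𝒴 : AlgSt.IsAlgStack Scheme.fppfPrecoverage 𝒴)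
    (f : 𝒳 ⥤ᵇ 𝒴) :
    AlgSt.IsClosedImm f → AlgSt.IsQuasiCompactMor Scheme.fppfPrecoverage f := by
  intro hf
  refine Groth.Agent.Lib.Helper80.isQuasiCompactMor_of_repByAlgSpWith h𝒳 h𝒴 f ?_
  exact Groth.Agent.Lib.Helper80.repByAlgSpWith_congr _ _ (fun _ _ a ha =>
    Groth.Agent.Lib.Helper30.isQuasiCompactMor_of_repWith
      (MorphismProperty.relative_monotone (fun A B k hk => by
        have : IsClosedImmersion k.left := hk
        change QuasiCompact k.left
        infer_instance) _ ha)) hf

end Groth.Agent.S12984
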