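import Groth.Statements.S12997
import Groth.Agent.Lib.Helper80.AlgStLocQ

set_option backward.isDefEq.respectTransparency false

set_option autoImplicit false
universe u
open CategoryTheory AlgebraicGeometry
open AlgSt

namespace Groth.Agent.S12997

/-- An open immersion of algebraic stacks is locally of finite presentation. -/
theorem result
    (S : Scheme.{u}) (𝒳 : AlgSt.Cat S) (𝒴 : AlgSt.Cat S)
    (h𝒳 : AlgSt.IsAlgStack Scheme.fppfPrecoverage 𝒳)
    (h𝒴 : AlgSt.IsAlgStack Scheme.fppfPrecoverage 𝒴)
    (f : 𝒳 ⥤ᵇ 𝒴) :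
    AlgSt.IsOpenImm f → AlgSt.LocQ (AlgSp.LocP @LocallyOfFinitePresentation) f := by
  intro hf
  have h1 : AlgSt.RepByAlgSpWith (AlgSp.LocP @LocallyOfFinitePresentation) f :=
    Groth.Agent.Lib.Helper80.repByAlgSpWith_congr _ _ (fun X U a ha =>
      Groth.Agent.Lib.Helper30.locP_of_repWith @IsOpenImmersion @LocallyOfFinitePresentation
        (fun k i hk hi => by
          have : Etale k := hk
          have : IsOpenImmersion i := hi
          show LocallyOfFinitePresentation (k ≫ i)
          infer_instance) ha) hf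
  exact Groth.Agent.Lib.Helper80.locQ_of_repByAlgSpWith_locP
    Groth.Agent.Lib.Helper78.AlgSpLocPLofp.etLocalST_lofp
    (fun k hk => by
      have : Smooth k := hk
      exact (inferInstance : LocallyOfFinitePresentation k)) h𝒳 h𝒴 f h1

end Groth.Agent.S12997
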