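import Groth.Statements.S1300
import Groth.Agent.Lib.Helper24.SchDenseFibre
-- import your own Groth.Agent.* helpers here

set_option autoImplicit false
universe u
open FlatMor

namespace Groth.Agent.S1300

open AlgebraicGeometry CategoryTheory Limits Groth.Agent.Lib.Helper24.SchDenseFibre
  Groth.Agent.Lib.Helper24.SchDenseScheme Groth.Agent.Lib.Helper24.GenericSchDense
  Groth.Agent.Lib.Helper24.FibreChart

lemma isLocallyNoetherian_fiber {X Y : Scheme.{u}} (f : X ⟶ Y) [LocallyOfFiniteType f] (y : Y) :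
    IsLocallyNoetherian (f.fiber y) := by
  haveI : LocallyOfFiniteType (f.fiberToSpecResidueField y) :=
    inferInstanceAs (LocallyOfFiniteType (pullback.snd f (Y.fromSpecResidueField y)))
  exact LocallyOfFiniteType.isLocallyNoetherian (f.fiberToSpecResidueField y)

/-- Chart-local form. -/
lemma exists_basicOpen_chart {X Y : Scheme.{u}} (f : X ⟶ Y) [IrreducibleSpace ↑Y]
    [LocallyOfFiniteType f] {V : Y.Opens} (hV : IsAffineOpen V) (hη : genericPoint Y ∈ V)
    {W : X.Opens} (hW : IsAffineOpen W) (e : W ≤ f ⁻¹ᵁ V) (U : X.Opens)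
    (h : IsSchemeTheoreticallyDominant (f.fiberι (genericPoint ↑Y) ⁻¹ᵁ U).ι) :
    ∃ a : Γ(Y, V), genericPoint Y ∈ Y.basicOpen a ∧ ∀ y ∈ Y.basicOpen a,
      ∃ (Z : Scheme.{u}) (j : Z ⟶ f.fiber y), IsAffine Z ∧ IsOpenImmersion j ∧
        Set.range j = (f.fiberι y) ⁻¹' (W : Set X) ∧
        IsSchemeTheoreticallyDominant (j ⁻¹ᵁ (f.fiberι y ⁻¹ᵁ U)).ι := by
  letI := (f.appLE V W e).hom.toAlgebra
  letI := (Y.evaluation V (genericPoint Y) hη).hom.toAlgebra
  haveI : Algebra.FiniteType Γ(Y, V) Γ(X, W) :=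
    HasRingHomProperty.appLE (P := @LocallyOfFiniteType) f ‹_› ⟨V, hV⟩ ⟨W, hW⟩ e
  have hnt : NoTorsionAlong (A := Γ(Y, V)) (traceIdeal U hW)
      (Y.residueField (genericPoint Y)) := by
    obtain ⟨j, hjo, -, hiff⟩ := exists_chart_dominant_iff f hV hW e (genericPoint Y) hη U
    haveI := hjo
    haveI := isLocallyNoetherian_fiber f (genericPoint Y)
    haveI := h
    exact hiff.mp (IsSchemeTheoreticallyDominant.of_isPullback
      (isPullback_morphismRestrict j (f.fiberι (genericPoint ↑Y) ⁻¹ᵁ U)))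
  obtain ⟨a, haη, hak⟩ := noTorsionAlong_of_irreducible (A := Γ(Y, V))
    (B := Γ(X, W)) (K := Y.residueField (genericPoint Y)) (exists_evaluation_div hV _ hη)
    (isNilpotent_of_evaluation_genericPoint_eq_zero hV hη) (traceIdeal U hW) hnt
  refine ⟨a, (Scheme.evaluation_ne_zero_iff_mem_basicOpen Y _ hη a).mp haη, fun y hy ↦ ?_⟩
  have hyV : y ∈ V := Y.basicOpen_le a hy
  letI := (Y.evaluation V y hyV).hom.toAlgebra
  obtain ⟨j, hjo, hjr, hiff⟩ := exists_chart_dominant_iff f hV hW e y hyV U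
  exact ⟨_, j, inferInstance, hjo, hjr, hiff.mpr
    (hak (Y.residueField y) ((Scheme.evaluation_ne_zero_iff_mem_basicOpen Y y hyV a).mpr hy))⟩

open AlgebraicGeometry CategoryTheory Limits in
/-- Let f be of finite type with irreducible target and let U be an open of the source whose trace on
the generic fibre is scheme theoretically dense in it (the inclusion has trivial kernel ideal
sheaf). Then over some nonempty open of the target the trace of U on every fibre is scheme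
theoretically dense in that fibre. -/
theorem result {X Y : Scheme.{u}} (f : X ⟶ Y) [IrreducibleSpace ↑Y] [LocallyOfFiniteType f] [QuasiCompact f]
    (U : X.Opens) (h : IsSchemeTheoreticallyDominant (f.fiberι (genericPoint ↑Y) ⁻¹ᵁ U).ι) :
    ∃ V : Y.Opens, (V : Set ↑Y).Nonempty ∧ ∀ y ∈ V, IsSchemeTheoreticallyDominant (f.fiberι y ⁻¹ᵁ U).ι := by
  classical
  set η := genericPoint Y with hη
  obtain ⟨_, ⟨V₀, hV₀ : IsAffineOpen V₀, rfl⟩, hηV, -⟩ :=
    Y.isBasis_affineOpens.exists_subset_of_mem_open (Set.mem_univ η) isOpen_univ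
  have hqc : IsCompact (f ⁻¹ᵁ V₀ : Set X) :=
    (quasiCompact_iff_forall_isAffineOpen.mp ‹QuasiCompact f›) V₀ hV₀
  obtain ⟨s, hsfin, hs⟩ := isCompact_iff_finite_and_eq_biUnion_affineOpens.mp hqc
  have hle : ∀ W ∈ s, (W : X.Opens) ≤ f ⁻¹ᵁ V₀ := by
    intro W hW
    rw [hs]
    exact le_iSup₂ (f := fun (i : X.affineOpens) (_ : i ∈ s) ↦ (i : X.Opens)) W hW
  have key : ∀ W : X.affineOpens, ∀ hW : W ∈ s, ∃ a : Γ(Y, V₀), η ∈ Y.basicOpen a ∧
      ∀ y ∈ Y.basicOpen a, ∃ (Z : Scheme.{u}) (j : Z ⟶ f.fiber y), IsAffine Z ∧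
        IsOpenImmersion j ∧
        Set.range j = (f.fiberι y) ⁻¹' ((W : X.Opens) : Set X) ∧
        IsSchemeTheoreticallyDominant (j ⁻¹ᵁ (f.fiberι y ⁻¹ᵁ U)).ι :=
    fun W hW ↦ exists_basicOpen_chart f hV₀ hηV W.2 (hle W hW) U h
  choose a haη ha using key
  let Vset : Set Y := (V₀ : Set Y) ∩ ⋂ W : s, (Y.basicOpen (a W.1 W.2) : Set Y)
  haveI : Finite s := hsfin
  have hVopen : IsOpen Vset :=
    V₀.isOpen.inter (isOpen_iInter_of_finite fun W ↦ (Y.basicOpen (a W.1 W.2)).isOpen)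
  refine ⟨⟨Vset, hVopen⟩, ⟨η, hηV, Set.mem_iInter.mpr fun W ↦ haη W.1 W.2⟩, fun y hy ↦ ?_⟩
  have hyV₀ : y ∈ V₀ := hy.1
  have hyW : ∀ W : s, y ∈ Y.basicOpen (a W.1 W.2) := fun W ↦ Set.mem_iInter.mp hy.2 W
  choose Z j hZa hjo hjr hjg using fun W : s ↦ ha W.1 W.2 y (hyW W)
  haveI := hjo
  haveI := hZa
  haveI := isLocallyNoetherian_fiber f y
  refine isSchemeTheoreticallyDominant_of_cover (f.fiberι y ⁻¹ᵁ U) Z j (fun z ↦ ?_) hjg
  have hfz : f (f.fiberι y z) = y := by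
    have : f.fiberι y z ∈ Set.range (f.fiberι y) := ⟨z, rfl⟩
    rw [Scheme.Hom.range_fiberι] at this
    exact this
  have hz : f.fiberι y z ∈ (f ⁻¹ᵁ V₀ : X.Opens) := by
    change f (f.fiberι y z) ∈ V₀
    rw [hfz]
    exact hyV₀
  rw [hs] at hz
  simp only [TopologicalSpace.Opens.mem_iSup] at hz
  obtain ⟨W, hWs, hzW⟩ := hz
  refine ⟨⟨W, hWs⟩, ?_⟩
  rw [hjr]
  exact hzW

end Groth.Agent.S1300
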