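import Groth.Statements.S13001
import Groth.Agent.Lib.Helper80.AlgStLocQ7

set_option backward.isDefEq.respectTransparency false

set_option autoImplicit false
universe u
open CategoryTheory AlgebraicGeometry
open AlgSt

namespace Groth.Agent.S13001

/-- Let 𝒳 → 𝒴 → 𝒵 be morphisms of algebraic stacks with 𝒳 → 𝒵 locally of finite type and with 𝒳 → 𝒴
flat, surjective, locally of finite presentation and representable by algebraic spaces. In this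
situation 𝒴 → 𝒵 is also locally of finite type. -/
theorem result
    (S : Scheme.{u}) (𝒳 : AlgSt.Cat S) (𝒴 : AlgSt.Cat S) (𝒵 : AlgSt.Cat S)
    (h𝒳 : AlgSt.IsAlgStack Scheme.fppfPrecoverage 𝒳)
    (h𝒴 : AlgSt.IsAlgStack Scheme.fppfPrecoverage 𝒴)
    (h𝒵 : AlgSt.IsAlgStack Scheme.fppfPrecoverage 𝒵)
    (f : 𝒳 ⥤ᵇ 𝒴) (g : 𝒴 ⥤ᵇ 𝒵)
    (hf₁ : AlgSt.RepByAlgSpWith (AlgSp.LocP @Flat) f)
    (hf₂ : AlgSt.RepByAlgSpWith (AlgSp.LocP @LocallyOfFinitePresentation) f)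
    (hf₃ : AlgSt.RepByAlgSpWith AlgSp.IsSurjectiveMor f) :
    AlgSt.LocQ (AlgSp.LocP @LocallyOfFiniteType) (BasedFunctor.comp f g) → AlgSt.LocQ (AlgSp.LocP @LocallyOfFiniteType) g := by
  intro hfg
  have h1 : AlgSt.LocQ (AlgSp.LocP @Flat) f :=
    Groth.Agent.Lib.Helper80.locQ_of_repByAlgSpWith_locP Groth.Agent.Lib.Helper78.AlgSpLocPFlat.etLocalST_flat
      (fun k hk => Groth.Agent.Lib.Helper80.smooth_flat k hk) h𝒳 h𝒴 f hf₁
  have h2 : AlgSt.LocQ (AlgSp.LocP @LocallyOfFinitePresentation) f :=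
    Groth.Agent.Lib.Helper80.locQ_of_repByAlgSpWith_locP Groth.Agent.Lib.Helper78.AlgSpLocPLofp.etLocalST_lofp
      (fun k hk => Groth.Agent.Lib.Helper80.smooth_lofp k hk) h𝒳 h𝒴 f hf₂
  have h3 : AlgSt.IsSurjective f :=
    Groth.Agent.Lib.Helper80.isSurjective_of_repByAlgSpWith h𝒴.isStack.1 f hf₃
  exact Groth.Agent.Lib.Helper80.locQ_loft_of_comp_of_fppf h𝒳 h𝒴 h𝒵 f g h1 h2 h3 hfg

end Groth.Agent.S13001
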