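import Groth.Statements.S1302
import Groth.Agent.Lib.Helper39.ThickAff.Hom
-- import your own Groth.Agent.* helpers here

set_option autoImplicit false
universe u
open FlatMor

namespace Groth.Agent.S1302

section Helpers

set_option autoImplicit false
open AlgebraicGeometry CategoryTheory

namespace T1302

theorem main1302 {X X' S S' : Scheme.{u}} (iX : X ⟶ X') (iS : S ⟶ S') (f : X ⟶ S) (f' : X' ⟶ S')
    (hX : MoreMor.IsThickening iX) (hS : MoreMor.IsThickening iS) (w : iX ≫ f' = f ≫ iS) :
    IsAffineHom f ↔ IsAffineHom f' := by
  obtain ⟨hXcl, hXs⟩ := hX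
  obtain ⟨hScl, hSs⟩ := hS
  exact Groth.Agent.Lib.Helper39.ThickAff.isAffineHom_iff iX iS f f' hXs.surj w

end T1302

end Helpers

open AlgebraicGeometry CategoryTheory Limits in
/-- For a morphism of thickenings, that is a commutative square whose horizontal maps are thickenings
(closed immersions that are surjective on points), the morphism between the thin schemes is affine
if and only if the morphism between the thick ones is. -/
theorem result {X X' S S' : Scheme.{u}} (iX : X ⟶ X') (iS : S ⟶ S') (f : X ⟶ S) (f' : X' ⟶ S')
    (hX : MoreMor.IsThickening iX) (hS : MoreMor.IsThickening iS) (w : iX ≫ f' = f ≫ iS) :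
    IsAffineHom f ↔ IsAffineHom f' := by
  exact T1302.main1302 iX iS f f' hX hS w

end Groth.Agent.S1302
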