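import Groth.Statements.S13041
import Mathlib.RingTheory.Localization.BaseChange
import Mathlib.RingTheory.Flat.TorsionFree
-- import your own Groth.Agent.* helpers here

set_option autoImplicit false
universe u
open MaxMod

namespace Groth.Agent.S13041

/-- Let R be a domain with fraction field K, let A → B be a homomorphism of commutative R-algebras that
are flat over R, with B module-finite over A, such that the induced map K ⊗_R A → K ⊗_R B is
bijective. If the A-linear map Hom_A(B, A) → A evaluating at 1 is surjective, then A → B is
bijective. (The published statement concerns a finite morphism of flat schemes over a discrete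
valuation ring, with locally free relative dualizing sheaves, that is an isomorphism over a
schematically dense open and whose trace map on dualizing sheaves is surjective; this row is the
statement about rings to which the printed proof reduces it and which that proof establishes, and
the argument uses only that R is a domain.) -/
theorem result
    (R K A B : Type u) [CommRing R] [IsDomain R] [Field K] [Algebra R K] [IsFractionRing R K]
    [CommRing A] [CommRing B] [Algebra R A] [Algebra R B] [Algebra A B] [IsScalarTower R A B]
    [Module.Flat R A] [Module.Flat R B] [Module.Finite A B]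
    (hK : Function.Bijective
      (Algebra.TensorProduct.map (AlgHom.id R K) (IsScalarTower.toAlgHom R A B)))
    (htr : Function.Surjective (fun u : B →ₗ[A] A => u 1)) :
    Function.Bijective (algebraMap A B) := by
  classical
  obtain ⟨u, hu⟩ := htr 1
  have hu1 : u 1 = 1 := hu
  have hleft : ∀ a : A, u (algebraMap A B a) = a := by
    intro a
    rw [Algebra.algebraMap_eq_smul_one, map_smul, hu1, smul_eq_mul, mul_one]
  refine ⟨fun a a' h => ?_, fun b => ?_⟩
  · rw [← hleft a, ← hleft a', h]
  · -- the element 1 ⊗ b comes from K ⊗ A
    obtain ⟨z, hz⟩ := hK.2 ((1 : K) ⊗ₜ[R] b)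
    obtain ⟨⟨a, s⟩, has⟩ := IsLocalizedModule.surj (nonZeroDivisors R) (TensorProduct.mk R K A 1) z
    have has' : s • z = (1 : K) ⊗ₜ[R] a := has
    have h1 : (1 : K) ⊗ₜ[R] ((s : R) • b) = (1 : K) ⊗ₜ[R] (algebraMap A B a) := by
      have := congrArg (Algebra.TensorProduct.map (AlgHom.id R K) (IsScalarTower.toAlgHom R A B)) has'
      rw [Submonoid.smul_def, map_smul, hz] at this
      rw [TensorProduct.tmul_smul]
      rw [this]
      simp
    have h2 : (TensorProduct.mk R K B 1) ((s : R) • b) = (TensorProduct.mk R K B 1) (algebraMap A B a) := h1
    rw [IsLocalizedModule.eq_iff_exists (nonZeroDivisors R)] at h2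
    obtain ⟨c, hc⟩ := h2
    have hregc : IsSMulRegular B (c : R) := Module.Flat.isSMulRegular_of_nonZeroDivisors c.2
    have hregs : IsSMulRegular B (s : R) := Module.Flat.isSMulRegular_of_nonZeroDivisors s.2
    have h3 : (s : R) • b = algebraMap A B a := hregc hc
    have h4 : (s : R) • u b = a := by
      rw [← LinearMap.map_smul_of_tower, h3, hleft]
    refine ⟨u b, ?_⟩
    apply hregs
    change (s : R) • algebraMap A B (u b) = (s : R) • b
    rw [h3, ← h4, Algebra.algebraMap_eq_smul_one, Algebra.algebraMap_eq_smul_one, smul_assoc]

end Groth.Agent.S13041
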