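import Groth.Statements.S13042
import Mathlib
-- import your own Groth.Agent.* helpers here

set_option autoImplicit false
universe u
open MaxMod

namespace Groth.Agent.S13042

section
open MvPolynomial

variable (p : ℕ) [hp : Fact p.Prime] (R : Type u) [CommRing R] [CharP R p] (lam f c : R)

/-- the substitution `X0 ↦ X0 + X1 + λ X0 X1`. -/
noncomputable def al : MvPolynomial (Fin 2) R →ₐ[R] MvPolynomial (Fin 2) R :=
  aeval ![X 0 + X 1 + C lam * X 0 * X 1, X 1]

/-- the inverse substitution. -/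
noncomputable def be : MvPolynomial (Fin 2) R →ₐ[R] MvPolynomial (Fin 2) R :=
  aeval ![(X 0 - X 1) * ((1 + C lam * X 1) ^ (p - 1) * C c), X 1]

omit hp [CharP R p] in
theorem al_X0 : al R lam (X 0) = X 0 + X 1 + C lam * X 0 * X 1 := by simp [al]
omit hp [CharP R p] in
theorem al_X1 : al R lam (X 1) = X 1 := by simp [al]
omit hp [CharP R p] in
theorem be_X0 : be p R lam c (X 0) = (X 0 - X 1) * ((1 + C lam * X 1) ^ (p - 1) * C c) := by
  simp [be]
omit hp [CharP R p] in
theorem be_X1 : be p R lam c (X 1) = X 1 := by simp [be]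

omit hp [CharP R p] in
theorem al_C (r : R) : al R lam (C r) = C r := by simp [al]
omit hp [CharP R p] in
theorem be_C (r : R) : be p R lam c (C r) = C r := by simp [be]

omit hp [CharP R p] in
theorem al_be_X0 : al R lam ((X 0 - X 1) * ((1 + C lam * X 1) ^ (p - 1) * C c)) =
    (X 0 + X 1 + C lam * X 0 * X 1 - X 1) * ((1 + C lam * X 1) ^ (p - 1) * C c) := by
  simp only [map_mul, map_sub, map_pow, map_add, map_one, al_X0, al_X1, al_C]

omit hp [CharP R p] in
theorem be_al_X0 : be p R lam c (X 0 + X 1 + C lam * X 0 * X 1) =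
    (X 0 - X 1) * ((1 + C lam * X 1) ^ (p - 1) * C c) + X 1 +
      C lam * ((X 0 - X 1) * ((1 + C lam * X 1) ^ (p - 1) * C c)) * X 1 := by
  simp only [map_mul, map_add, be_X0, be_X1, be_C]

theorem frob1 : (X 0 + X 1 + C lam * X 0 * X 1 : MvPolynomial (Fin 2) R) ^ p =
    X 0 ^ p + X 1 ^ p + C lam ^ p * X 0 ^ p * X 1 ^ p := by
  rw [add_pow_char, add_pow_char, mul_pow, mul_pow]

theorem frob2 : (1 + C lam * X 1 : MvPolynomial (Fin 2) R) ^ p = 1 + C lam ^ p * X 1 ^ p := by
  rw [add_pow_char, one_pow, mul_pow]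

theorem upow (hc : c * (1 + lam ^ p * f) = 1) :
    ((1 + C lam * X 1) ^ (p - 1) * C c) * (1 + C lam * X 1) - 1 =
      (C c * C lam ^ p : MvPolynomial (Fin 2) R) * (X 1 ^ p - C f) := by
  have h1 : ((1 + C lam * X 1 : MvPolynomial (Fin 2) R) ^ (p - 1) * C c) * (1 + C lam * X 1) =
      (1 + C lam * X 1) ^ p * C c := by
    have : p = (p - 1) + 1 := (Nat.sub_add_cancel hp.out.pos).symm
    conv_rhs => rw [this, pow_succ]
    ring
  have h2 : (C c * (1 + C lam ^ p * C f) : MvPolynomial (Fin 2) R) = 1 := by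
    rw [← C_pow, ← C_mul, ← C_1, ← C_add, ← C_mul, hc]
  rw [h1, frob2]
  linear_combination h2

end

open MvPolynomial in
/-- Let p be a prime, R a local ring of characteristic p, λ an element of the maximal ideal of R and f ∈
R. Then there is an isomorphism of R-algebras R[W₁, W₂]/(W₁^p − f, W₂^p − f) ≅ R[x, W]/(x^p, W^p −
f) with W₁ ↦ x + W + λ·x·W and W₂ ↦ W; that is, Spec R[W]/(W^p − f) with the action w ↦ x + w + λxw
is a torsor under the group scheme Spec R[x]/(x^p) with law x₁ ∘ x₂ = x₁ + x₂ + λx₁x₂. (The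
published statement is over a complete discrete valuation ring of characteristic p with λ a nonzero
nonunit, and also asserts that for f in the fraction field with negative valuation v(f) > −p·v(λ)
the torsor W^p = f extends to a torsor over R, using the coordinate 1/W; that second case fails: for
p = 2, λ = π a uniformizer and f = 1/π, every model is Spec R[π^a t] with t² = π, and none of these
is a torsor since the coaction sends t to t − π(1 + t)x. Only the case f ∈ R is stated, and the
argument there uses only that R is local of characteristic p.) -/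
theorem result
    (p : ℕ) [Fact p.Prime] (R : Type u) [CommRing R] [IsLocalRing R] [CharP R p]
    (lam f : R) (hlam : lam ∈ IsLocalRing.maximalIdeal R) :
    ∃ e : (MvPolynomial (Fin 2) R ⧸ Ideal.span {(X 0 ^ p - C f : MvPolynomial (Fin 2) R), X 1 ^ p - C f}) ≃ₐ[R]
        (MvPolynomial (Fin 2) R ⧸ Ideal.span {(X 0 ^ p : MvPolynomial (Fin 2) R), X 1 ^ p - C f}),
      e (Ideal.Quotient.mk _ (X 0)) = Ideal.Quotient.mk _ (X 0 + X 1 + C lam * X 0 * X 1) ∧
      e (Ideal.Quotient.mk _ (X 1)) = Ideal.Quotient.mk _ (X 1) := by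
  classical
  have hu : IsUnit (1 + lam ^ p * f) := by
    have hmem : lam ^ p * f ∈ IsLocalRing.maximalIdeal R :=
      Ideal.mul_mem_right _ _ (Ideal.pow_mem_of_mem _ hlam p (Fact.out : p.Prime).pos)
    have := (IsLocalRing.maximalIdeal R).sub_mem hmem hmem
    by_contra hnu
    have h1 : 1 + lam ^ p * f ∈ IsLocalRing.maximalIdeal R := hnu
    have := (IsLocalRing.maximalIdeal R).sub_mem h1 hmem
    rw [add_sub_cancel_right] at this
    exact (IsLocalRing.maximalIdeal.isMaximal R).ne_top ((Ideal.eq_top_iff_one _).2 this)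
  obtain ⟨c, hc⟩ := hu.exists_left_inv
  set I1 : Ideal (MvPolynomial (Fin 2) R) := Ideal.span {X 0 ^ p - C f, X 1 ^ p - C f} with hI1
  set I2 : Ideal (MvPolynomial (Fin 2) R) := Ideal.span {X 0 ^ p, X 1 ^ p - C f} with hI2
  -- forward
  have hF : ∀ a ∈ I1, ((Ideal.Quotient.mkₐ R I2).comp (al R lam)) a = 0 := by
    intro a ha
    have hle : I1 ≤ RingHom.ker ((Ideal.Quotient.mkₐ R I2).comp (al R lam)).toRingHom := by
      rw [hI1, Ideal.span_le]
      rintro x (rfl | rfl)
      · rw [SetLike.mem_coe, RingHom.mem_ker]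
        change Ideal.Quotient.mk I2 (al R lam (X 0 ^ p - C f)) = 0
        rw [Ideal.Quotient.eq_zero_iff_mem, map_sub, map_pow, al_X0, frob1, al_C,
          hI2, Ideal.mem_span_pair]
        refine ⟨1 + C lam ^ p * X 1 ^ p, 1, ?_⟩
        ring
      · rw [SetLike.mem_coe, RingHom.mem_ker]
        change Ideal.Quotient.mk I2 (al R lam (X 1 ^ p - C f)) = 0
        rw [Ideal.Quotient.eq_zero_iff_mem, map_sub, map_pow, al_X1, al_C,
          hI2, Ideal.mem_span_pair]
        refine ⟨0, 1, ?_⟩
        ring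
    exact hle ha
  have hG : ∀ a ∈ I2, ((Ideal.Quotient.mkₐ R I1).comp (be p R lam c)) a = 0 := by
    intro a ha
    have hle : I2 ≤ RingHom.ker ((Ideal.Quotient.mkₐ R I1).comp (be p R lam c)).toRingHom := by
      rw [hI2, Ideal.span_le]
      rintro x (rfl | rfl)
      · rw [SetLike.mem_coe, RingHom.mem_ker]
        change Ideal.Quotient.mk I1 (be p R lam c (X 0 ^ p)) = 0
        rw [Ideal.Quotient.eq_zero_iff_mem, map_pow, be_X0, mul_pow, sub_pow_char,
          hI1, Ideal.mem_span_pair]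
        refine ⟨((1 + C lam * X 1) ^ (p - 1) * C c) ^ p, -((1 + C lam * X 1) ^ (p - 1) * C c) ^ p, ?_⟩
        ring
      · rw [SetLike.mem_coe, RingHom.mem_ker]
        change Ideal.Quotient.mk I1 (be p R lam c (X 1 ^ p - C f)) = 0
        rw [Ideal.Quotient.eq_zero_iff_mem, map_sub, map_pow, be_X1, be_C,
          hI1, Ideal.mem_span_pair]
        refine ⟨0, 1, ?_⟩
        ring
    exact hle ha
  let F := Ideal.Quotient.liftₐ I1 ((Ideal.Quotient.mkₐ R I2).comp (al R lam)) hF
  let G := Ideal.Quotient.liftₐ I2 ((Ideal.Quotient.mkₐ R I1).comp (be p R lam c)) hG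
  have hFmk : ∀ q, F (Ideal.Quotient.mk I1 q) = Ideal.Quotient.mk I2 (al R lam q) := fun q => rfl
  have hGmk : ∀ q, G (Ideal.Quotient.mk I2 q) = Ideal.Quotient.mk I1 (be p R lam c q) := fun q => rfl
  have hX1p : (X 1 ^ p - C f : MvPolynomial (Fin 2) R) ∈ I1 :=
    Ideal.subset_span (by simp)
  have hX1p' : (X 1 ^ p - C f : MvPolynomial (Fin 2) R) ∈ I2 :=
    Ideal.subset_span (by simp)
  have hFG : F.comp G = AlgHom.id R _ := by
    apply Ideal.Quotient.algHom_ext
    apply MvPolynomial.algHom_ext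
    intro i
    simp only [AlgHom.comp_apply, Ideal.Quotient.mkₐ_eq_mk, AlgHom.id_apply]
    rw [hGmk, hFmk]
    fin_cases i
    · change Ideal.Quotient.mk I2 (al R lam (be p R lam c (X 0))) = Ideal.Quotient.mk I2 (X 0)
      rw [be_X0, al_be_X0, Ideal.Quotient.eq]
      have hup := upow p R lam f c hc
      have : (X 0 + X 1 + C lam * X 0 * X 1 - X 1) * ((1 + C lam * X 1) ^ (p - 1) * C c) - X 0 =
          (X 0 : MvPolynomial (Fin 2) R) *
            (((1 + C lam * X 1) ^ (p - 1) * C c) * (1 + C lam * X 1) - 1) := by ring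
      rw [this, hup]
      exact Ideal.mul_mem_left _ _ (Ideal.mul_mem_left _ _ hX1p')
    · change Ideal.Quotient.mk I2 (al R lam (be p R lam c (X 1))) = Ideal.Quotient.mk I2 (X 1)
      rw [be_X1, al_X1]
  have hGF : G.comp F = AlgHom.id R _ := by
    apply Ideal.Quotient.algHom_ext
    apply MvPolynomial.algHom_ext
    intro i
    simp only [AlgHom.comp_apply, Ideal.Quotient.mkₐ_eq_mk, AlgHom.id_apply]
    rw [hFmk, hGmk]
    fin_cases i
    · change Ideal.Quotient.mk I1 (be p R lam c (al R lam (X 0))) = Ideal.Quotient.mk I1 (X 0)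
      rw [al_X0, be_al_X0, Ideal.Quotient.eq]
      have hup := upow p R lam f c hc
      have : (X 0 - X 1) * ((1 + C lam * X 1) ^ (p - 1) * C c) + X 1 +
          C lam * ((X 0 - X 1) * ((1 + C lam * X 1) ^ (p - 1) * C c)) * X 1 - X 0 =
          ((X 0 : MvPolynomial (Fin 2) R) - X 1) *
            (((1 + C lam * X 1) ^ (p - 1) * C c) * (1 + C lam * X 1) - 1) := by ring
      rw [this, hup]
      exact Ideal.mul_mem_left _ _ (Ideal.mul_mem_left _ _ hX1p)
    · change Ideal.Quotient.mk I1 (be p R lam c (al R lam (X 1))) = Ideal.Quotient.mk I1 (X 1)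
      rw [al_X1, be_X1]
  refine ⟨AlgEquiv.ofAlgHom F G hFG hGF, ?_, ?_⟩
  · change F (Ideal.Quotient.mk I1 (X 0)) = _
    rw [hFmk, al_X0]
  · change F (Ideal.Quotient.mk I1 (X 1)) = _
    rw [hFmk, al_X1]

end Groth.Agent.S13042
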