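import Groth.Statements.S13044
import Groth.Agent.Lib.Helper55.FunFld.SchDom3
open Groth.Agent.Lib.Helper55

set_option autoImplicit false
universe u
open MaxMod

namespace Groth.Agent.S13044

open CategoryTheory Limits AlgebraicGeometry in
/-- Let R be a discrete valuation ring with fraction field K, let Y be a flat separated R-scheme and let
Γ → Y ×_R Y be a closed subscheme, with projections p₁, p₂ : Γ → Y, such that Γ is flat over R
(equivalently, Γ is the schematic closure of its generic fibre) and p₁, p₂ are flat. If for every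
scheme T over Spec K the relation on the T-valued points of Y defined by the T-valued points of Γ is
an equivalence relation, then for every scheme T over Spec R that relation is an equivalence
relation: Γ is a flat equivalence relation on Y. -/
theorem result
    (R K : Type u) [CommRing R] [IsDomain R] [IsDiscreteValuationRing R]
    [Field K] [Algebra R K] [IsFractionRing R K]
    (Y Γ : Scheme.{u}) (f : Y ⟶ Spec (CommRingCat.of R)) [IsSeparated f] [Flat f]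
    (p₁ p₂ : Γ ⟶ Y) (h : p₁ ≫ f = p₂ ≫ f)
    (hΓ : IsClosedImmersion (pullback.lift p₁ p₂ h))
    [Flat (p₁ ≫ f)] [Flat p₁] [Flat p₂]
    (hK : ∀ (T : Scheme.{u}) (t : T ⟶ Spec (CommRingCat.of R)),
      (∃ s : T ⟶ Spec (CommRingCat.of K), t = s ≫ Spec.map (CommRingCat.ofHom (algebraMap R K))) →
      _root_.Equivalence fun a b : {a : T ⟶ Y // a ≫ f = t} =>
        ∃ c : T ⟶ Γ, c ≫ p₁ = a.1 ∧ c ≫ p₂ = b.1) :
    ∀ (T : Scheme.{u}) (t : T ⟶ Spec (CommRingCat.of R)),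
      _root_.Equivalence fun a b : {a : T ⟶ Y // a ≫ f = t} =>
        ∃ c : T ⟶ Γ, c ≫ p₁ = a.1 ∧ c ≫ p₂ = b.1 := by
  obtain ⟨e, he1, he2⟩ : ∃ e : Y ⟶ Γ, e ≫ p₁ = 𝟙 Y ∧ e ≫ p₂ = 𝟙 Y := by
    have hKY := hK (pullback f (Spec.map (CommRingCat.ofHom (algebraMap R K))))
      (pullback.fst f (Spec.map (CommRingCat.ofHom (algebraMap R K))) ≫ f)
      ⟨pullback.snd f _, pullback.condition⟩
    obtain ⟨c, hc1, hc2⟩ := hKY.refl ⟨pullback.fst f _, rfl⟩
    exact SchDom.lift_pair R K f p₁ p₂ h hΓ f (𝟙 Y) (𝟙 Y) (Category.id_comp _)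
      (Category.id_comp _) c (by rw [hc1, Category.comp_id]) (by rw [hc2, Category.comp_id])
  obtain ⟨s, hs1, hs2⟩ : ∃ s : Γ ⟶ Γ, s ≫ p₁ = p₂ ∧ s ≫ p₂ = p₁ := by
    have hKΓ := hK (pullback (p₁ ≫ f) (Spec.map (CommRingCat.ofHom (algebraMap R K))))
      (pullback.fst (p₁ ≫ f) (Spec.map (CommRingCat.ofHom (algebraMap R K))) ≫ p₁ ≫ f)
      ⟨pullback.snd (p₁ ≫ f) _, pullback.condition⟩
    obtain ⟨c, hc1, hc2⟩ := hKΓ.symm
      (x := ⟨pullback.fst (p₁ ≫ f) _ ≫ p₁, by rw [Category.assoc]⟩)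
      (y := ⟨pullback.fst (p₁ ≫ f) _ ≫ p₂, by rw [Category.assoc, ← h]⟩)
      ⟨pullback.fst (p₁ ≫ f) _, rfl, rfl⟩
    exact SchDom.lift_pair R K f p₁ p₂ h hΓ (p₁ ≫ f) p₂ p₁ h.symm rfl c hc1 hc2
  obtain ⟨m, hm1, hm2⟩ : ∃ m : pullback p₂ p₁ ⟶ Γ, m ≫ p₁ = pullback.fst p₂ p₁ ≫ p₁ ∧
      m ≫ p₂ = pullback.snd p₂ p₁ ≫ p₂ := by
    have hfl : Flat (pullback.fst p₂ p₁ ≫ p₁ ≫ f) := inferInstance
    have hKZ := hK (pullback (pullback.fst p₂ p₁ ≫ p₁ ≫ f)
        (Spec.map (CommRingCat.ofHom (algebraMap R K))))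
      (pullback.fst (pullback.fst p₂ p₁ ≫ p₁ ≫ f)
        (Spec.map (CommRingCat.ofHom (algebraMap R K))) ≫ pullback.fst p₂ p₁ ≫ p₁ ≫ f)
      ⟨pullback.snd _ _, pullback.condition⟩
    obtain ⟨c, hc1, hc2⟩ := hKZ.trans
      (x := ⟨pullback.fst (pullback.fst p₂ p₁ ≫ p₁ ≫ f) _ ≫ pullback.fst p₂ p₁ ≫ p₁, by
        simp only [Category.assoc]⟩)
      (y := ⟨pullback.fst (pullback.fst p₂ p₁ ≫ p₁ ≫ f) _ ≫ pullback.fst p₂ p₁ ≫ p₂, by
        simp only [Category.assoc, ← h]⟩)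
      (z := ⟨pullback.fst (pullback.fst p₂ p₁ ≫ p₁ ≫ f) _ ≫ pullback.snd p₂ p₁ ≫ p₂, by
        simp only [Category.assoc, ← h]
        rw [← pullback.condition_assoc, ← h]⟩)
      ⟨pullback.fst (pullback.fst p₂ p₁ ≫ p₁ ≫ f) _ ≫ pullback.fst p₂ p₁, by
        simp only [Category.assoc], by simp only [Category.assoc]⟩
      ⟨pullback.fst (pullback.fst p₂ p₁ ≫ p₁ ≫ f) _ ≫ pullback.snd p₂ p₁, by
        simp only [Category.assoc, pullback.condition], by simp only [Category.assoc]⟩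
    exact SchDom.lift_pair R K f p₁ p₂ h hΓ (pullback.fst p₂ p₁ ≫ p₁ ≫ f)
      (pullback.fst p₂ p₁ ≫ p₁) (pullback.snd p₂ p₁ ≫ p₂) (by simp only [Category.assoc])
      (by simp only [Category.assoc, ← h]; rw [← pullback.condition_assoc, ← h]) c hc1 hc2
  intro T t
  refine ⟨fun a => ⟨a.1 ≫ e, by rw [Category.assoc, he1, Category.comp_id],
    by rw [Category.assoc, he2, Category.comp_id]⟩, ?_, ?_⟩
  · rintro a b ⟨c, hc1, hc2⟩
    exact ⟨c ≫ s, by rw [Category.assoc, hs1, hc2], by rw [Category.assoc, hs2, hc1]⟩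
  · rintro a b c' ⟨c₁, h11, h12⟩ ⟨c₂, h21, h22⟩
    exact ⟨pullback.lift c₁ c₂ (h12.trans h21.symm) ≫ m,
      by rw [Category.assoc, hm1, pullback.lift_fst_assoc, h11],
      by rw [Category.assoc, hm2, pullback.lift_snd_assoc, h22]⟩

end Groth.Agent.S13044
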