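import Groth.Statements.S13045
import Mathlib.LinearAlgebra.DirectSum.Finsupp
import Mathlib.Algebra.Module.Projective
-- import your own Groth.Agent.* helpers here

set_option autoImplicit false
universe u
open FrobAlg

namespace Groth.Agent.S13045


open TensorProduct in
/-- For a projective module `M`, an element of `M ⊗ N` all of whose coordinates vanish is zero. -/
theorem eq_zero_of_coords {R : Type*} [CommRing R] {M N : Type*} [AddCommGroup M] [Module R M]
    [AddCommGroup N] [Module R N] [Module.Projective R M] (z : M ⊗[R] N)
    (hz : ∀ φ : M →ₗ[R] R, TensorProduct.lid R N (LinearMap.rTensor N φ z) = 0) : z = 0 := by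
  classical
  obtain ⟨s, hs⟩ := Module.projective_def'.1 (inferInstance : Module.Projective R M)
  have h1 : LinearMap.rTensor N s z = 0 := by
    apply (TensorProduct.finsuppScalarLeft R N M).injective
    rw [map_zero]
    ext j
    rw [TensorProduct.finsuppScalarLeft_apply, Finsupp.zero_apply]
    have := hz ((Finsupp.lapply j).comp s)
    rw [LinearMap.rTensor_comp] at this
    simpa using this
  have h2 := congrArg (LinearMap.rTensor N (Finsupp.linearCombination R (id : M → M))) h1
  rw [← LinearMap.comp_apply, ← LinearMap.rTensor_comp, hs, LinearMap.rTensor_id, map_zero] at h2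
  exact h2

open TensorProduct in
/-- For a projective module `M` and a jointly injective family `g i : N → Q i`, the family
`M ⊗ g i` is jointly injective. -/
theorem pi_lTensor_injective {R : Type*} [CommRing R] {M N : Type*} [AddCommGroup M] [Module R M]
    [AddCommGroup N] [Module R N] [Module.Projective R M] {ι : Type*} {Q : ι → Type*}
    [∀ i, AddCommGroup (Q i)] [∀ i, Module R (Q i)] (g : ∀ i, N →ₗ[R] Q i)
    (hg : ∀ n : N, (∀ i, g i n = 0) → n = 0) :
    Function.Injective
      (LinearMap.pi fun i => LinearMap.lTensor M (g i) : M ⊗[R] N →ₗ[R] Π i, M ⊗[R] Q i) := by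
  rw [injective_iff_map_eq_zero]
  intro z hz
  apply eq_zero_of_coords z
  intro φ
  apply hg
  intro i
  have hzi : LinearMap.lTensor M (g i) z = 0 := congrFun hz i
  have key : (g i).comp ((TensorProduct.lid R N).toLinearMap.comp (LinearMap.rTensor N φ)) =
      ((TensorProduct.lid R (Q i)).toLinearMap.comp (LinearMap.rTensor (Q i) φ)).comp
        (LinearMap.lTensor M (g i)) := by
    apply TensorProduct.ext'
    intro m n
    simp
  have := LinearMap.congr_fun key z
  simp only [LinearMap.comp_apply, LinearEquiv.coe_coe] at this
  rw [this, hzi, map_zero, map_zero]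

open TensorProduct in
/-- Let p be a prime, R a commutative ring of characteristic p and A a commutative R-algebra of
characteristic p, with Frobenius twists A^{p^i/R} = R ⊗_{F^i,R} A, relative Frobenius maps F_i :
A^{p^{i+1}/R} → A^{p^i/R} and preperfection A^{p^∞/R} = lim_i A^{p^i/R} ⊆ Π_i A^{p^i/R}. For every
projective R-module M the natural map M ⊗_R A^{p^∞/R} → Π_i (M ⊗_R A^{p^i/R}), m ⊗ x ↦ (m ⊗ x_i)_i,
is injective; in particular the base change map M ⊗_R lim_i A^{p^i/R} → lim_i (M ⊗_R A^{p^i/R}) is
injective. (The published statement is phrased for a projective R-algebra R′ in place of M; the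
printed argument is the module statement given here.) -/
theorem result
    (p : ℕ) [Fact p.Prime] (R : Type u) [CommRing R] [CharP R p]
    (A : Type u) [CommRing A] [Algebra R A] [CharP A p]
    (M : Type u) [AddCommGroup M] [Module R M] [Module.Projective R M] :
    Function.Injective
      (LinearMap.pi fun i : ℕ =>
        LinearMap.lTensor M
          (((Pi.evalAlgHom R (fun k => W4c1imperftorsors.Twist p R A k) i).comp
            (W4c1imperftorsors.prePerf p R A).val).toLinearMap) :
        M ⊗[R] ↥(W4c1imperftorsors.prePerf p R A) →ₗ[R] (Π i : ℕ, M ⊗[R] W4c1imperftorsors.Twist p R A i)) := by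
  apply pi_lTensor_injective
  intro n hn
  apply Subtype.ext
  funext i
  exact hn i

end Groth.Agent.S13045
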