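import Groth.Statements.S13046
import Mathlib.RingTheory.Finiteness.Projective
-- import your own Groth.Agent.* helpers here

set_option autoImplicit false
universe u
open FrobAlg

namespace Groth.Agent.S13046


open TensorProduct in
/-- Finite dual basis expansion in `M ⊗ Q` for a finite projective module `M`. -/
theorem expand {R : Type*} [CommRing R] {M : Type*} [AddCommGroup M] [Module R M]
    {n : ℕ} (f : (Fin n → R) →ₗ[R] M) (g : M →ₗ[R] Fin n → R) (hfg : f ∘ₗ g = .id)
    (Q : Type*) [AddCommGroup Q] [Module R Q] (t : M ⊗[R] Q) :
    ∑ j : Fin n, (f (Pi.single j 1)) ⊗ₜ[R]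
      (TensorProduct.lid R Q (LinearMap.rTensor Q ((LinearMap.proj j).comp g) t)) = t := by
  classical
  induction t using TensorProduct.induction_on with
  | zero => simp
  | tmul m q =>
    simp only [LinearMap.rTensor_tmul, LinearMap.comp_apply, LinearMap.proj_apply,
      TensorProduct.lid_tmul]
    have h1 : ∀ j : Fin n, (f (Pi.single j 1)) ⊗ₜ[R] (g m j • q) =
        ((g m j) • f (Pi.single j 1)) ⊗ₜ[R] q := fun j => by
      rw [TensorProduct.smul_tmul]
    simp_rw [h1]
    rw [← TensorProduct.sum_tmul]
    congr 1
    have h2 : m = f (g m) := by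
      have := LinearMap.congr_fun hfg m
      simpa using this.symm
    conv_rhs => rw [h2]
    have h3 : g m = ∑ j : Fin n, g m j • (Pi.single j (1 : R) : Fin n → R) := by
      ext k
      simp [Finset.sum_apply, Pi.single_apply]
    conv_rhs => rw [h3]
    rw [map_sum]
    simp_rw [map_smul]
  | add a b ha hb =>
    simp only [map_add, TensorProduct.tmul_add, Finset.sum_add_distrib]
    rw [ha, hb]

open TensorProduct in
/-- Let p be a prime, R a commutative ring of characteristic p and A a commutative R-algebra of
characteristic p, with Frobenius twists A^{p^i/R} = R ⊗_{F^i,R} A, relative Frobenius maps F_i :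
A^{p^{i+1}/R} → A^{p^i/R} and preperfection A^{p^∞/R} = lim_i A^{p^i/R} ⊆ Π_i A^{p^i/R}. For every
finitely generated projective R-module M, a sequence y ∈ Π_i (M ⊗_R A^{p^i/R}) lies in the image of
the natural map M ⊗_R A^{p^∞/R} → Π_i (M ⊗_R A^{p^i/R}), m ⊗ x ↦ (m ⊗ x_i)_i, if and only if (M ⊗
F_i)(y_{i+1}) = y_i for all i: the image is exactly the module of compatible sequences. Together
with the injectivity of that map, which holds for every projective M, this says that the base change
map M ⊗_R lim_i A^{p^i/R} → lim_i (M ⊗_R A^{p^i/R}) is an isomorphism. (The published statement is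
phrased for a finite locally free R-algebra R′ in place of M and identifies the target with the
preperfection of A ⊗_R R′ over R′; the printed argument is the module statement given here, and that
identification is not part of this row; the injectivity half is stated separately for all projective
M.) -/
theorem result
    (p : ℕ) [Fact p.Prime] (R : Type u) [CommRing R] [CharP R p]
    (A : Type u) [CommRing A] [Algebra R A] [CharP A p]
    (M : Type u) [AddCommGroup M] [Module R M] [Module.Finite R M] [Module.Projective R M]
    (y : Π i : ℕ, M ⊗[R] W4c1imperftorsors.Twist p R A i) :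
    y ∈ LinearMap.range
        (LinearMap.pi fun i : ℕ =>
        LinearMap.lTensor M
          (((Pi.evalAlgHom R (fun k => W4c1imperftorsors.Twist p R A k) i).comp
            (W4c1imperftorsors.prePerf p R A).val).toLinearMap) :
        M ⊗[R] ↥(W4c1imperftorsors.prePerf p R A) →ₗ[R] (Π i : ℕ, M ⊗[R] W4c1imperftorsors.Twist p R A i)) ↔
      ∀ i : ℕ, LinearMap.lTensor M (W4c1imperftorsors.relFrob p R A i).toLinearMap (y (i + 1)) = y i := by
  classical
  have fact1 : ∀ (x : ↥(W4c1imperftorsors.prePerf p R A)) (i : ℕ),
      W4c1imperftorsors.relFrob p R A i (x.1 (i + 1)) = x.1 i := by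
    intro x i
    have hx := x.2
    unfold W4c1imperftorsors.prePerf at hx
    rw [Algebra.mem_iInf] at hx
    have := hx i
    rw [AlgHom.mem_equalizer] at this
    exact this
  have fact2 : ∀ w : (Π j : ℕ, W4c1imperftorsors.Twist p R A j),
      (∀ i, W4c1imperftorsors.relFrob p R A i (w (i + 1)) = w i) →
        w ∈ W4c1imperftorsors.prePerf p R A := by
    intro w hw
    unfold W4c1imperftorsors.prePerf
    rw [Algebra.mem_iInf]
    intro i
    rw [AlgHom.mem_equalizer]
    exact hw i
  constructor
  · rintro ⟨z, rfl⟩ i
    simp only [LinearMap.pi_apply]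
    rw [← LinearMap.comp_apply, ← LinearMap.lTensor_comp]
    congr 2
    apply LinearMap.ext
    intro x
    exact fact1 x i
  · intro hy
    obtain ⟨n, f, g, -, -, hfg⟩ := Module.Finite.exists_comp_eq_id_of_projective R M
    -- coordinates of y
    let w : Fin n → (Π j : ℕ, W4c1imperftorsors.Twist p R A j) := fun j i =>
      TensorProduct.lid R _ (LinearMap.rTensor _ ((LinearMap.proj j).comp g) (y i))
    have hw : ∀ j, w j ∈ W4c1imperftorsors.prePerf p R A := by
      intro j
      apply fact2
      intro i
      change W4c1imperftorsors.relFrob p R A i (TensorProduct.lid R _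
        (LinearMap.rTensor _ ((LinearMap.proj j).comp g) (y (i + 1)))) =
        TensorProduct.lid R _ (LinearMap.rTensor _ ((LinearMap.proj j).comp g) (y i))
      rw [← hy i]
      generalize y (i + 1) = t
      induction t using TensorProduct.induction_on with
      | zero => simp
      | tmul m q => simp
      | add a b ha hb => simp only [map_add]; rw [ha, hb]
    refine ⟨∑ j : Fin n, (f (Pi.single j 1)) ⊗ₜ[R] (⟨w j, hw j⟩ : ↥(W4c1imperftorsors.prePerf p R A)), ?_⟩
    funext i
    simp only [LinearMap.pi_apply, map_sum, LinearMap.lTensor_tmul]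
    exact expand f g hfg _ (y i)

end Groth.Agent.S13046
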