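import Groth.Statements.S13047
import Mathlib
-- import your own Groth.Agent.* helpers here

set_option autoImplicit false
universe u
open FrobAlg

namespace Groth.Agent.S13047


open W4c1imperftorsors TensorProduct

section twist
variable (p : ℕ) [Fact p.Prime] (R : Type u) [CommRing R] [CharP R p]
  (B : Type u) [CommRing B] [Algebra R B] (j : ℕ)

/-- pure tensor in the twist -/
noncomputable def tw (r : R) (b : B) : Twist p R B j :=
  r ⊗ₜ[Src p R j] ((aEquiv p R B j).symm b)

theorem tw_add_left (r r' : R) (b : B) : tw p R B j (r + r') b = tw p R B j r b + tw p R B j r' b :=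
  TensorProduct.add_tmul _ _ _

theorem tw_add_right (r : R) (b b' : B) : tw p R B j r (b + b') = tw p R B j r b + tw p R B j r b' := by
  unfold tw
  rw [map_add, TensorProduct.tmul_add]

theorem tw_zero_right (r : R) : tw p R B j r 0 = 0 := by
  unfold tw
  rw [map_zero, TensorProduct.tmul_zero]

theorem tw_zero_left (b : B) : tw p R B j 0 b = 0 := by
  unfold tw
  rw [TensorProduct.zero_tmul]

theorem tw_balanced (r s : R) (b : B) :
    tw p R B j (s ^ p ^ j * r) b = tw p R B j r (algebraMap R B s * b) := by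
  unfold tw
  have h1 : s ^ p ^ j * r = ((srcEquiv p R j).symm s) • r := by
    rw [Algebra.smul_def, algebraMap_src, RingEquiv.apply_symm_apply]
  have h2 : (aEquiv p R B j).symm (algebraMap R B s * b) =
      ((srcEquiv p R j).symm s) • ((aEquiv p R B j).symm b) := by
    rw [Algebra.smul_def, algebraMap_aSrc, RingEquiv.apply_symm_apply, map_mul]
  rw [h1, h2, TensorProduct.smul_tmul]

theorem algebraMap_eq_tw (r : R) : algebraMap R (Twist p R B j) r = tw p R B j r 1 := by
  unfold tw
  rw [Algebra.TensorProduct.algebraMap_apply, Algebra.algebraMap_self, RingHom.id_apply, map_one]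

theorem tw_mul (r r' : R) (b b' : B) :
    tw p R B j r b * tw p R B j r' b' = tw p R B j (r * r') (b * b') := by
  unfold tw
  rw [Algebra.TensorProduct.tmul_mul_tmul, map_mul]

theorem twist_induction {P : Twist p R B j → Prop} (h0 : P 0)
    (htw : ∀ r b, P (tw p R B j r b)) (hadd : ∀ x y, P x → P y → P (x + y)) :
    ∀ x, P x := by
  intro x
  induction x using TensorProduct.induction_on with
  | zero => exact h0
  | tmul r b =>
    have : r ⊗ₜ[Src p R j] b = tw p R B j r (aEquiv p R B j b) := by
      unfold tw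
      rw [RingEquiv.symm_apply_apply]
    rw [this]
    exact htw _ _
  | add x y hx hy => exact hadd x y hx hy

theorem twistLift {C : Type*} [CommRing C] (α : R →+* C) (β : B →+* C)
    (h : ∀ s : R, α (s ^ p ^ j) = β (algebraMap R B s)) :
    ∃ Φ : Twist p R B j →+* C, ∀ r b, Φ (tw p R B j r b) = α r * β b := by
  letI : Algebra (Src p R j) C := (α.comp (algebraMap (Src p R j) R)).toAlgebra
  let f : R →ₐ[Src p R j] C := { α with commutes' := fun s => rfl }
  let g : ASrc p R B j →ₐ[Src p R j] C :=
    { toRingHom := β.comp (aEquiv p R B j : ASrc p R B j →+* B)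
      commutes' := fun s => by
        change β (aEquiv p R B j (algebraMap (Src p R j) (ASrc p R B j) s)) =
          α (algebraMap (Src p R j) R s)
        rw [algebraMap_aSrc, RingEquiv.apply_symm_apply, algebraMap_src, h] }
  refine ⟨(Algebra.TensorProduct.lift f g (fun _ _ => Commute.all _ _)).toRingHom, fun r b => ?_⟩
  change Algebra.TensorProduct.lift f g _ (r ⊗ₜ[Src p R j] ((aEquiv p R B j).symm b)) = _
  rw [Algebra.TensorProduct.lift_tmul]
  change α r * β (aEquiv p R B j ((aEquiv p R B j).symm b)) = _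
  rw [RingEquiv.apply_symm_apply]

variable [CharP B p]

theorem relFrob_tw (r : R) (b : B) :
    relFrob p R B j (tw p R B (j + 1) r b) = tw p R B j r (b ^ p) := by
  change relFrobAux p R B j (r ⊗ₜ[Src p R (j + 1)] ((aEquiv p R B (j + 1)).symm b)) = _
  unfold relFrobAux
  rw [Algebra.TensorProduct.lift_tmul]
  change algebraMap R (Twist p R B j) r *
    ((1 : R) ⊗ₜ[Src p R j] ((aEquiv p R B j).symm (frobenius B p
      (aEquiv p R B (j + 1) ((aEquiv p R B (j + 1)).symm b))))) = _
  rw [RingEquiv.apply_symm_apply, frobenius_def, algebraMap_eq_tw]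
  have : ((1 : R) ⊗ₜ[Src p R j] ((aEquiv p R B j).symm (b ^ p))) = tw p R B j 1 (b ^ p) := rfl
  rw [this, tw_mul, mul_one, one_mul]

end twist


section specific
open Polynomial
variable (p : ℕ) [Fact p.Prime] (R : Type u) [CommRing R] [CharP R p] (u v : R)

/-- the ideal -/
noncomputable abbrev II : Ideal R[X] := Ideal.span {(C u * X : R[X]), X ^ 2 - C (v ^ 2)}

/-- the class of X -/
noncomputable abbrev al : R[X] ⧸ II R u v := Ideal.Quotient.mk (II R u v) X

theorem algebraMap_eq_mk (c : R) :
    algebraMap R (R[X] ⧸ II R u v) c = Ideal.Quotient.mk (II R u v) (C c) := rfl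

theorem u_al : algebraMap R (R[X] ⧸ II R u v) u * al R u v = 0 := by
  rw [algebraMap_eq_mk, ← map_mul, Ideal.Quotient.eq_zero_iff_mem]
  exact Ideal.subset_span (by simp)

theorem al_sq : al R u v * al R u v = algebraMap R (R[X] ⧸ II R u v) (v ^ 2) := by
  rw [algebraMap_eq_mk, ← map_mul, ← sub_eq_zero, ← map_sub, Ideal.Quotient.eq_zero_iff_mem]
  have : (X * X - C (v ^ 2) : R[X]) = X ^ 2 - C (v ^ 2) := by ring
  rw [this]
  exact Ideal.subset_span (by simp)

theorem span_one_al (b : R[X] ⧸ II R u v) : ∃ c d : R,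
    b = algebraMap R _ c + algebraMap R _ d * al R u v := by
  obtain ⟨q, rfl⟩ := Ideal.Quotient.mk_surjective b
  induction q using Polynomial.induction_on with
  | C a => exact ⟨a, 0, by rw [map_zero, zero_mul, add_zero]; rfl⟩
  | add f g hf hg =>
    obtain ⟨c, d, h⟩ := hf
    obtain ⟨c', d', h'⟩ := hg
    refine ⟨c + c', d + d', ?_⟩
    rw [map_add, h, h', map_add, map_add]
    ring
  | monomial n a h =>
    obtain ⟨c, d, h⟩ := h
    refine ⟨d * v ^ 2, c, ?_⟩
    have : (C a * X ^ (n + 1) : R[X]) = (C a * X ^ n) * X := by ring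
    rw [this, map_mul, h, add_mul, mul_assoc, al_sq, map_mul]
    ring

theorem al_pow_odd (k : ℕ) : (al R u v) ^ (2 * k + 1) =
    algebraMap R (R[X] ⧸ II R u v) (v ^ (2 * k)) * al R u v := by
  rw [pow_succ, pow_mul, sq, al_sq, ← map_pow, ← pow_mul]

/-- the retraction `α ↦ v`. -/
noncomputable def eps (huv : u * v = 0) : (R[X] ⧸ II R u v) →ₐ[R] R :=
  Ideal.Quotient.liftₐ (II R u v) (Polynomial.aeval v) (by
    intro a ha
    have : II R u v ≤ RingHom.ker (Polynomial.aeval v : R[X] →ₐ[R] R) := by
      rw [Ideal.span_le]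
      intro x hx
      rcases hx with rfl | rfl
      · simp [huv]
      · simp
    exact RingHom.mem_ker.mp (this ha))

theorem eps_al (huv : u * v = 0) : eps R u v huv (al R u v) = v := by
  change Polynomial.aeval v (X : R[X]) = v
  simp

end specific


section maps
open Polynomial
variable (p : ℕ) [Fact p.Prime] (R : Type u) [CommRing R] [CharP R p] (u v : R)

theorem exists_epsJ (huv : u * v = 0) (j : ℕ) :
    ∃ E : Twist p R (R[X] ⧸ II R u v) j →+* R, ∀ r, E (tw p R _ j r 1) = r := by
  obtain ⟨Φ, hΦ⟩ := twistLift p R (R[X] ⧸ II R u v) j (RingHom.id R)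
    ((iterateFrobenius R p j).comp (eps R u v huv).toRingHom) (by
      intro s
      change s ^ p ^ j = iterateFrobenius R p j (eps R u v huv (algebraMap R _ s))
      rw [AlgHom.commutes, iterateFrobenius_def]
      rfl)
  refine ⟨Φ, fun r => ?_⟩
  rw [hΦ]
  change r * iterateFrobenius R p j (eps R u v huv 1) = r
  rw [map_one, map_one, mul_one]

theorem exists_gamJ (j : ℕ) :
    ∃ Γ : Twist p R (R[X] ⧸ II R u v) j →+*
        QuadraticAlgebra (R ⧸ Ideal.span {u ^ p ^ j})
          (Ideal.Quotient.mk (Ideal.span {u ^ p ^ j}) (v ^ (2 * p ^ j))) 0,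
      (∀ r, Γ (tw p R _ j r 1) = ⟨Ideal.Quotient.mk _ r, 0⟩) ∧
      (∀ s, Γ (tw p R _ j s (al R u v)) = ⟨0, Ideal.Quotient.mk _ s⟩) := by
  set J : Ideal R := Ideal.span {u ^ p ^ j} with hJ
  set a : R ⧸ J := Ideal.Quotient.mk J (v ^ (2 * p ^ j)) with ha
  let κ : R →+* QuadraticAlgebra (R ⧸ J) a 0 :=
    (algebraMap (R ⧸ J) (QuadraticAlgebra (R ⧸ J) a 0)).comp
      ((Ideal.Quotient.mk J).comp (iterateFrobenius R p j))
  have hκ : ∀ c : R, κ c = ⟨Ideal.Quotient.mk J (c ^ p ^ j), 0⟩ := by
    intro c
    change algebraMap (R ⧸ J) (QuadraticAlgebra (R ⧸ J) a 0)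
      (Ideal.Quotient.mk J (iterateFrobenius R p j c)) = _
    rw [iterateFrobenius_def, QuadraticAlgebra.algebraMap_eq]
  let ev : R[X] →+* QuadraticAlgebra (R ⧸ J) a 0 :=
    Polynomial.eval₂RingHom κ (QuadraticAlgebra.omega)
  have hker : ∀ q ∈ II R u v, ev q = 0 := by
    have : II R u v ≤ RingHom.ker ev := by
      rw [Ideal.span_le]
      intro x hx
      rcases hx with rfl | rfl
      · rw [SetLike.mem_coe, RingHom.mem_ker]
        change Polynomial.eval₂ κ QuadraticAlgebra.omega (C u * X) = 0
        rw [Polynomial.eval₂_mul, Polynomial.eval₂_C, Polynomial.eval₂_X, hκ]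
        have : Ideal.Quotient.mk J (u ^ p ^ j) = 0 :=
          Ideal.Quotient.eq_zero_iff_mem.mpr (Ideal.subset_span rfl)
        rw [this]
        ext <;> simp
      · rw [SetLike.mem_coe, RingHom.mem_ker]
        change Polynomial.eval₂ κ QuadraticAlgebra.omega (X ^ 2 - C (v ^ 2)) = 0
        rw [Polynomial.eval₂_sub, Polynomial.eval₂_pow, Polynomial.eval₂_C, Polynomial.eval₂_X,
          hκ, sq, QuadraticAlgebra.omega_mul_omega_eq_mk, ← pow_mul, ha]
        ext <;> simp
    exact fun q hq => RingHom.mem_ker.mp (this hq)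
  let γ : (R[X] ⧸ II R u v) →+* QuadraticAlgebra (R ⧸ J) a 0 :=
    Ideal.Quotient.lift (II R u v) ev hker
  have hγal : γ (al R u v) = QuadraticAlgebra.omega := by
    change Polynomial.eval₂ κ QuadraticAlgebra.omega X = _
    rw [Polynomial.eval₂_X]
  have hγalg : ∀ c : R, γ (algebraMap R _ c) = κ c := by
    intro c
    change Polynomial.eval₂ κ QuadraticAlgebra.omega (C c) = _
    rw [Polynomial.eval₂_C]
  obtain ⟨Φ, hΦ⟩ := twistLift p R (R[X] ⧸ II R u v) j
    ((algebraMap (R ⧸ J) (QuadraticAlgebra (R ⧸ J) a 0)).comp (Ideal.Quotient.mk J)) γ (by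
      intro s
      rw [hγalg, hκ]
      rfl)
  refine ⟨Φ, fun r => ?_, fun s => ?_⟩
  · rw [hΦ, map_one, mul_one]
    rfl
  · rw [hΦ, hγal]
    change (⟨Ideal.Quotient.mk J s, 0⟩ : QuadraticAlgebra (R ⧸ J) a 0) * QuadraticAlgebra.omega = _
    ext <;> simp [QuadraticAlgebra.omega]

end maps


section main
open Polynomial
variable (p : ℕ) [Fact p.Prime] (R : Type u) [CommRing R] [CharP R p] (u v : R)

theorem twist_span (j : ℕ) (x : Twist p R (R[X] ⧸ II R u v) j) :
    ∃ r s : R, x = tw p R _ j r 1 + tw p R _ j s (al R u v) := by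
  induction x using twist_induction p R (R[X] ⧸ II R u v) j with
  | h0 => exact ⟨0, 0, by rw [tw_zero_left, tw_zero_left, add_zero]⟩
  | htw r b =>
    obtain ⟨c, d, rfl⟩ := span_one_al R u v b
    refine ⟨c ^ p ^ j * r, d ^ p ^ j * r, ?_⟩
    rw [tw_add_right, tw_balanced, tw_balanced, mul_one]
  | hadd x y hx hy =>
    obtain ⟨r, s, rfl⟩ := hx
    obtain ⟨r', s', rfl⟩ := hy
    refine ⟨r + r', s + s', ?_⟩
    rw [tw_add_left, tw_add_left]
    abel

end main

open Polynomial in
/-- Let p be an odd prime, R a commutative ring of characteristic p and u, v ∈ R with uv = 0, such that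
for every N ≥ 1 an element of R lying in (v^n) + (u^N) for all n lies in (u^N) (v-adic separatedness
of R/(u^N)). Let B = R[α]/(uα, α² − v²), an R-algebra of characteristic p, with Frobenius twists
B^{p^i/R} = R ⊗_{F^i,R} B and preperfection B^{p^∞/R} = lim_i B^{p^i/R} along the relative Frobenius
maps. Then the structure map R → B^{p^∞/R} is bijective: the preperfection of B is R. (The published
statement is for R = F_p[[u, v]]/(uv), where B arises as the preperfection of R[x, y, 1/(x − y)]/(xy
− u), so that the second preperfection of that algebra is R although the first is not perfect; the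
printed computation uses only the hypotheses listed here, which that R satisfies.) -/
theorem result
    (p : ℕ) [Fact p.Prime] (hp : p ≠ 2) (R : Type u) [CommRing R] [CharP R p]
    (u v : R) (huv : u * v = 0)
    (hsep : ∀ N : ℕ, 1 ≤ N → ∀ g : R,
      (∀ n : ℕ, g ∈ Ideal.span {v ^ n} ⊔ Ideal.span {u ^ N}) → g ∈ Ideal.span {u ^ N})
    [CharP (R[X] ⧸ Ideal.span {(C u * X : R[X]), X ^ 2 - C (v ^ 2)}) p] :
    Function.Bijective
      (algebraMap R ↥(W4c1imperftorsors.prePerf p R
        (R[X] ⧸ Ideal.span {(C u * X : R[X]), X ^ 2 - C (v ^ 2)}))) := by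
  have hpp : p.Prime := Fact.out
  have hcoe : ∀ (r : R) (j : ℕ), ((algebraMap R ↥(W4c1imperftorsors.prePerf p R (R[X] ⧸ II R u v)) r :
      ↥(W4c1imperftorsors.prePerf p R (R[X] ⧸ II R u v))) :
        Π j, W4c1imperftorsors.Twist p R (R[X] ⧸ II R u v) j) j =
      tw p R (R[X] ⧸ II R u v) j r 1 := by
    intro r j
    rw [← algebraMap_eq_tw]
    rfl
  have hinjJ : ∀ j, Function.Injective (fun r : R => tw p R (R[X] ⧸ II R u v) j r 1) := by
    intro j r r' h
    obtain ⟨E, hE⟩ := exists_epsJ p R u v huv j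
    have := congrArg E h
    simpa [hE] using this
  constructor
  · intro r r' h
    apply hinjJ 0
    change tw p R (R[X] ⧸ II R u v) 0 r 1 = tw p R (R[X] ⧸ II R u v) 0 r' 1
    rw [← hcoe, ← hcoe, h]
  · intro x
    -- compatibility
    have hcompat : ∀ j, W4c1imperftorsors.relFrob p R (R[X] ⧸ II R u v) j (x.1 (j + 1)) = x.1 j := by
      intro j
      have hx := x.2
      unfold W4c1imperftorsors.prePerf at hx
      rw [Algebra.mem_iInf] at hx
      exact hx j
    choose r s hrs using fun j => twist_span p R u v j (x.1 j)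
    have hexp : ∀ j, p ^ (j + 1) = p ^ j + p ^ j * (p - 1) := by
      intro j
      obtain ⟨q, hq⟩ : ∃ q, p = q + 1 := ⟨p - 1, by have := hpp.two_le; omega⟩
      rw [hq, Nat.add_sub_cancel, pow_succ]
      ring
    -- odd prime
    obtain ⟨k, hk⟩ : ∃ k, p = 2 * k + 1 := by
      rcases hpp.eq_two_or_odd with h2 | hodd
      · exact absurd h2 hp
      · exact ⟨p / 2, by omega⟩
    have hal : (al R u v) ^ p = algebraMap R _ (v ^ (p - 1)) * al R u v := by
      have h1 : p - 1 = 2 * k := by omega
      rw [h1]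
      conv_lhs => rw [hk]
      exact al_pow_odd R u v k
    -- the relation on coefficients
    have hrel : ∀ j, tw p R (R[X] ⧸ II R u v) j (r (j + 1)) 1 +
        tw p R (R[X] ⧸ II R u v) j ((v ^ (p - 1)) ^ p ^ j * s (j + 1)) (al R u v) =
        tw p R (R[X] ⧸ II R u v) j (r j) 1 + tw p R (R[X] ⧸ II R u v) j (s j) (al R u v) := by
      intro j
      have := hcompat j
      rw [hrs (j + 1), hrs j, map_add, relFrob_tw, relFrob_tw, one_pow, hal, ← tw_balanced] at this
      exact this
    have hsrel : ∀ j, s j - (v ^ (p - 1)) ^ p ^ j * s (j + 1) ∈ Ideal.span {u ^ p ^ j} := by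
      intro j
      obtain ⟨Γ, hΓ1, hΓ2⟩ := exists_gamJ p R u v j
      have := congrArg (fun z => QuadraticAlgebra.im (Γ z)) (hrel j)
      simp only [map_add, hΓ1, hΓ2, QuadraticAlgebra.im_add, zero_add] at this
      rw [← Ideal.Quotient.eq]
      exact this.symm
    -- s j lies in (v^k) + (u^(p^j)) for all k
    have hC : ∀ n j, s j ∈ Ideal.span {v ^ n} ⊔ Ideal.span {u ^ p ^ j} := by
      intro n
      induction n with
      | zero =>
        intro j
        rw [pow_zero, Ideal.span_singleton_one, top_sup_eq]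
        exact Submodule.mem_top
      | succ n ih =>
        intro j
        have h1 := hsrel j
        obtain ⟨y, hy, z, hz, hyz⟩ := Submodule.mem_sup.mp (ih (j + 1))
        obtain ⟨a, rfl⟩ := Ideal.mem_span_singleton'.mp hy
        obtain ⟨b, rfl⟩ := Ideal.mem_span_singleton'.mp hz
        have hw : ∃ w', (v ^ (p - 1)) ^ p ^ j = v * w' := by
          have hpos : 1 ≤ (p - 1) * p ^ j := by
            have : 1 ≤ p - 1 := by have := hpp.two_le; omega
            have : 1 ≤ p ^ j := Nat.one_le_pow _ _ hpp.pos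
            nlinarith
          refine ⟨v ^ ((p - 1) * p ^ j - 1), ?_⟩
          rw [← pow_mul, ← pow_succ', Nat.sub_add_cancel hpos]
        obtain ⟨w', hw'⟩ := hw
        have e : s j = (s j - (v ^ (p - 1)) ^ p ^ j * s (j + 1)) +
            (v ^ (p - 1)) ^ p ^ j * s (j + 1) := by ring
        rw [e]
        refine Ideal.add_mem _ (Ideal.mem_sup_right h1) ?_
        rw [← hyz, mul_add]
        refine Ideal.add_mem _ (Ideal.mem_sup_left ?_) (Ideal.mem_sup_right ?_)
        · rw [Ideal.mem_span_singleton']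
          refine ⟨w' * a, ?_⟩
          rw [hw', pow_succ]
          ring
        · rw [Ideal.mem_span_singleton']
          refine ⟨(v ^ (p - 1)) ^ p ^ j * b * u ^ (p ^ j * (p - 1)), ?_⟩
          have : u ^ p ^ (j + 1) = u ^ p ^ j * u ^ (p ^ j * (p - 1)) := by
            rw [← pow_add, hexp]
          rw [this]
          ring
    have hs0 : ∀ j, tw p R (R[X] ⧸ II R u v) j (s j) (al R u v) = 0 := by
      intro j
      have hmem := hsep (p ^ j) (Nat.one_le_pow _ _ hpp.pos) (s j) (fun n => hC n j)
      obtain ⟨t, ht⟩ := Ideal.mem_span_singleton'.mp hmem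
      rw [← ht, mul_comm, tw_balanced, u_al, tw_zero_right]
    have hxj : ∀ j, x.1 j = tw p R (R[X] ⧸ II R u v) j (r j) 1 := by
      intro j
      rw [hrs j, hs0, add_zero]
    have hrconst : ∀ j, r (j + 1) = r j := by
      intro j
      apply hinjJ j
      have := hrel j
      rw [hs0] at this
      change tw p R (R[X] ⧸ II R u v) j (r (j + 1)) 1 = tw p R (R[X] ⧸ II R u v) j (r j) 1
      have h2 : tw p R (R[X] ⧸ II R u v) j ((v ^ (p - 1)) ^ p ^ j * s (j + 1)) (al R u v) = 0 := by
        have hmem := hsep (p ^ (j + 1)) (Nat.one_le_pow _ _ hpp.pos) (s (j + 1))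
          (fun n => hC n (j + 1))
        obtain ⟨t, ht⟩ := Ideal.mem_span_singleton'.mp hmem
        have : (v ^ (p - 1)) ^ p ^ j * s (j + 1) =
            u ^ p ^ j * ((v ^ (p - 1)) ^ p ^ j * t * u ^ (p ^ j * (p - 1))) := by
          rw [← ht]
          have : u ^ p ^ (j + 1) = u ^ p ^ j * u ^ (p ^ j * (p - 1)) := by
            rw [← pow_add, hexp]
          rw [this]
          ring
        rw [this, tw_balanced, u_al, tw_zero_right]
      rw [h2, add_zero, add_zero] at this
      exact this
    have hr0 : ∀ j, r j = r 0 := by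
      intro j
      induction j with
      | zero => rfl
      | succ j ih => rw [hrconst, ih]
    refine ⟨r 0, ?_⟩
    apply Subtype.ext
    funext j
    rw [hcoe, hxj, hr0 j]

end Groth.Agent.S13047
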