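import Groth.Statements.S13048
import Mathlib.RingTheory.Jacobson.Ring
import Mathlib.RingTheory.Filtration
import Mathlib.Algebra.CharP.Algebra
import Mathlib.FieldTheory.IsAlgClosed.Basic
-- import your own Groth.Agent.* helpers here

set_option autoImplicit false
universe u
open FrobAlg

namespace Groth.Agent.S13048

/-- Let k be an algebraically closed field of characteristic p > 0 and let A be a reduced finitely
generated commutative k-algebra with connected spectrum (A ≠ 0 and 0, 1 are its only idempotents).
If x ∈ A is a p^n-th power in A for every n ≥ 0, then x lies in the image of k; that is, ⋂_n A^{p^n}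
= k. (The published statement is: for an artinian local ring R of characteristic p and a flat
R-algebra A of finite type, the maps A^ét → O(π₀(A)) → A^{p^∞/R} from the largest étale subalgebra
to the preperfection are isomorphisms. This row is the case R = k algebraically closed and A reduced
with connected spectrum, where A^ét = k and the preperfection is ⋂_n A^{p^n}; the printed proof
reduces to this case and its last step proves it.) -/
theorem result
    (p : ℕ) [Fact p.Prime] (k : Type u) [Field k] [IsAlgClosed k] [CharP k p]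
    (A : Type u) [CommRing A] [Algebra k A] [Algebra.FiniteType k A] [IsReduced A] [Nontrivial A]
    (hconn : ∀ e : A, IsIdempotentElem e → e = 0 ∨ e = 1)
    (x : A) (hx : ∀ n : ℕ, ∃ a : A, a ^ p ^ n = x) :
    x ∈ (algebraMap k A).range := by
  classical
  have : IsNoetherianRing A := Algebra.FiniteType.isNoetherianRing k A
  have : CharP A p := charP_of_injective_algebraMap (algebraMap k A).injective p
  -- residue fields at maximal ideals are `k`
  have hres : ∀ (m : Ideal A), m.IsMaximal → ∀ a : A, ∃ c : k, a - algebraMap k A c ∈ m := by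
    intro m hm a
    let := Ideal.Quotient.field m
    have : Module.Finite k (A ⧸ m) := finite_of_finite_type_of_isJacobsonRing k (A ⧸ m)
    obtain ⟨c, hc⟩ := (IsAlgClosed.algebraMap_bijective_of_isIntegral (k := k) (K := A ⧸ m)).2
      (Ideal.Quotient.mk m a)
    refine ⟨c, ?_⟩
    rw [← Ideal.Quotient.eq_zero_iff_mem, map_sub, ← hc]
    rw [IsScalarTower.algebraMap_apply k A (A ⧸ m) c]
    simp
  -- local constancy via Krull
  have hloc : ∀ (m : Ideal A), m.IsMaximal → ∃ c : k, ∃ t : A, t ∉ m ∧
      t * (x - algebraMap k A c) = 0 := by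
    intro m hm
    obtain ⟨c, hc⟩ := hres m hm x
    refine ⟨c, ?_⟩
    have hmem : (x - algebraMap k A c) ∈ (⨅ i : ℕ, m ^ i • ⊤ : Submodule A A) := by
      rw [Submodule.mem_iInf]
      intro n
      obtain ⟨a, ha⟩ := hx n
      obtain ⟨d, hd⟩ := hres m hm a
      have h1 : (a - algebraMap k A d) ^ p ^ n ∈ m ^ p ^ n := Ideal.pow_mem_pow hd _
      rw [sub_pow_char_pow, ha, ← map_pow] at h1
      -- d ^ p ^ n = c
      have h2 : algebraMap k A (d ^ p ^ n) - algebraMap k A c ∈ m := by
        have h3 : x - algebraMap k A (d ^ p ^ n) ∈ m :=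
          Ideal.pow_le_self (pow_ne_zero _ (Fact.out : p.Prime).ne_zero) h1
        have := m.sub_mem hc h3
        simpa using this
      have h4 : d ^ p ^ n = c := by
        by_contra hne
        rw [← map_sub] at h2
        have hu : IsUnit (algebraMap k A (d ^ p ^ n - c)) :=
          (IsUnit.mk0 _ (sub_ne_zero.2 hne)).map _
        exact hm.ne_top (Ideal.eq_top_of_isUnit_mem _ h2 hu)
      rw [h4] at h1
      have h5 : m ^ p ^ n ≤ m ^ n := Ideal.pow_le_pow_right (Nat.lt_pow_self (Fact.out : p.Prime).one_lt).le
      have h6 := h5 h1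
      simpa using h6
    obtain ⟨r, hr⟩ := (Ideal.mem_iInf_smul_pow_eq_bot_iff m (x - algebraMap k A c)).1 hmem
    refine ⟨1 - r, ?_, ?_⟩
    · intro h
      have : (1 : A) ∈ m := by
        have := m.add_mem h r.2
        simpa using this
      exact hm.ne_top ((Ideal.eq_top_iff_one m).2 this)
    · rw [sub_mul, one_mul, sub_eq_zero]
      exact hr.symm
  -- pick a maximal ideal
  obtain ⟨m₀, hm₀⟩ := Ideal.exists_maximal A
  obtain ⟨c₀, t₀, ht₀, ht₀'⟩ := hloc m₀ hm₀
  refine ⟨c₀, ?_⟩
  -- the ideals I and J
  let I : Ideal A := (Ideal.span {x - algebraMap k A c₀}).annihilator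
  let J : Ideal A := Submodule.annihilator I
  have hI : ∀ t : A, t ∈ I ↔ t * (x - algebraMap k A c₀) = 0 := fun t =>
    Submodule.mem_annihilator_span_singleton _ _
  have hJ : ∀ t : A, t ∈ J ↔ ∀ s ∈ I, t * s = 0 := fun t => Submodule.mem_annihilator
  have htop : I ⊔ J = ⊤ := by
    by_contra hne
    obtain ⟨m, hm, hle⟩ := Ideal.exists_le_maximal _ hne
    obtain ⟨c, t, ht, ht'⟩ := hloc m hm
    by_cases hc : c = c₀
    · subst hc
      exact ht (hle (Ideal.mem_sup_left ((hI t).2 ht')))
    · apply ht
      apply hle
      apply Ideal.mem_sup_right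
      rw [hJ]
      intro s hs
      rw [hI] at hs
      have h1 : t * s * algebraMap k A (c - c₀) = 0 := by
        have : t * s * algebraMap k A (c - c₀) =
            t * (s * (x - algebraMap k A c₀)) - s * (t * (x - algebraMap k A c)) := by
          rw [map_sub]; ring
        rw [this, hs, ht', mul_zero, mul_zero, sub_zero]
      have h2 : t * s * algebraMap k A (c - c₀) * algebraMap k A (c - c₀)⁻¹ = 0 := by
        rw [h1, zero_mul]
      rw [mul_assoc, ← map_mul, mul_inv_cancel₀ (sub_ne_zero.2 hc), map_one, mul_one] at h2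
      exact h2
  have h1 : (1 : A) ∈ I ⊔ J := by rw [htop]; trivial
  obtain ⟨e, he, f, hf, hef⟩ := Submodule.mem_sup.1 h1
  have hfe : f * e = 0 := (hJ f).1 hf e he
  have hidem : IsIdempotentElem e := by
    change e * e = e
    have : e * e = e * (e + f) - f * e := by ring
    rw [this, hef, hfe, mul_one, sub_zero]
  rcases hconn e hidem with h0 | h1'
  · exfalso
    rw [h0, zero_add] at hef
    rw [hef] at hf
    have := (hJ 1).1 hf t₀ ((hI t₀).2 ht₀')
    rw [one_mul] at this
    exact ht₀ (this ▸ m₀.zero_mem)
  · rw [h1'] at he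
    have := (hI 1).1 he
    rw [one_mul, sub_eq_zero] at this
    exact this.symm

end Groth.Agent.S13048
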