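import Groth.Statements.S13049
-- import your own Groth.Agent.* helpers here

set_option autoImplicit false
universe u
open FrobAlg

namespace Groth.Agent.S13049

/-- Let p be a prime and A a commutative ring of characteristic p whose nilradical N satisfies x^(p^e) =
0 for all x ∈ N and some fixed e (for instance A Noetherian). Then the map between the inverse-limit
perfections along the absolute Frobenius, lim (⋯ → A → A) → lim (⋯ → A/N → A/N), induced by the
projection A → A/N, is bijective. (The published argument takes A of finite type over a field, where
the nilradical is finitely generated; this row assumes only that the nilradical is killed by one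
fixed iterate of Frobenius, which is all that argument uses.) -/
theorem result
    (p : ℕ) [Fact p.Prime] (A : Type u) [CommRing A] [CharP A p]
    [CharP (A ⧸ nilradical A) p] (e : ℕ) (he : ∀ x ∈ nilradical A, x ^ p ^ e = 0) :
    Function.Bijective (Perfection.map p (Ideal.Quotient.mk (nilradical A))) := by
  classical
  have hfrob : ∀ (x y : A) (n : ℕ), (x - y) ^ p ^ n = x ^ p ^ n - y ^ p ^ n := fun x y n =>
    sub_pow_char_pow x y n
  have hcoeff : ∀ (f : Perfection A p) (n m : ℕ),
      Perfection.coeff A p (n + m) f ^ p ^ m = Perfection.coeff A p n f := by
    intro f n m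
    induction m with
    | zero => simp
    | succ m ih =>
      rw [← add_assoc, pow_succ', pow_mul, Perfection.coeff_pow_p', ih]
  constructor
  · -- injectivity
    intro f g hfg
    apply Perfection.ext
    intro n
    have h1 : Perfection.coeff A p (n + e) f - Perfection.coeff A p (n + e) g ∈ nilradical A := by
      have := congrArg (Perfection.coeff (A ⧸ nilradical A) p (n + e)) hfg
      rw [Perfection.coeff_map, Perfection.coeff_map] at this
      exact (Ideal.Quotient.eq).1 this
    have h2 := he _ h1
    rw [hfrob, hcoeff, hcoeff, sub_eq_zero] at h2
    exact h2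
  · -- surjectivity
    intro h
    choose a ha using fun n : ℕ =>
      Ideal.Quotient.mk_surjective (Perfection.coeff (A ⧸ nilradical A) p n h)
    have hrel : ∀ n, a (n + 1) ^ p - a n ∈ nilradical A := by
      intro n
      apply (Ideal.Quotient.eq).1
      rw [map_pow, ha, ha, Perfection.coeff_pow_p']
    have hkey : ∀ n, (a (n + 1 + e) ^ p ^ e) ^ p = a (n + e) ^ p ^ e := by
      intro n
      have h2 := he _ (hrel (n + e))
      rw [hfrob, sub_eq_zero, ← pow_mul, mul_comm, pow_mul] at h2
      rw [show n + 1 + e = n + e + 1 by ring]
      exact h2
    let g : Perfection A p := ⟨fun n => a (n + e) ^ p ^ e, fun n => hkey n⟩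
    refine ⟨g, ?_⟩
    apply Perfection.ext
    intro n
    rw [Perfection.coeff_map]
    change Ideal.Quotient.mk (nilradical A) (a (n + e) ^ p ^ e) = _
    rw [map_pow, ha]
    have hcoeff' : ∀ (f : Perfection (A ⧸ nilradical A) p) (n m : ℕ),
        Perfection.coeff (A ⧸ nilradical A) p (n + m) f ^ p ^ m =
          Perfection.coeff (A ⧸ nilradical A) p n f := by
      intro f n m
      induction m with
      | zero => simp
      | succ m ih =>
        rw [← add_assoc, pow_succ', pow_mul, Perfection.coeff_pow_p', ih]
    exact hcoeff' h n e

end Groth.Agent.S13049
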