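import Groth.Statements.S1305
import Groth.Agent.Lib.Helper39.ThickAff.Hom
-- import your own Groth.Agent.* helpers here

set_option autoImplicit false
universe u
open FlatMor

namespace Groth.Agent.S1305

section Helpers

set_option autoImplicit false
open AlgebraicGeometry CategoryTheory

namespace T1305

theorem main1305 {X X' S S' : Scheme.{u}} (iX : X ⟶ X') (iS : S ⟶ S') (f : X ⟶ S) (f' : X' ⟶ S')
    (hX : MoreMor.IsThickening iX) (hS : MoreMor.IsThickening iS) (w : iX ≫ f' = f ≫ iS) :
    IsIntegralHom f ↔ IsIntegralHom f' := by
  obtain ⟨hXcl, hXs⟩ := hX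
  obtain ⟨hScl, hSs⟩ := hS
  exact Groth.Agent.Lib.Helper39.ThickAff.isIntegralHom_iff iX iS f f' hXs.surj w

end T1305

end Helpers

open AlgebraicGeometry CategoryTheory Limits in
/-- For a morphism of thickenings, that is a commutative square whose horizontal maps are thickenings
(closed immersions that are surjective on points), the morphism between the thin schemes is integral
if and only if the morphism between the thick ones is. -/
theorem result {X X' S S' : Scheme.{u}} (iX : X ⟶ X') (iS : S ⟶ S') (f : X ⟶ S) (f' : X' ⟶ S')
    (hX : MoreMor.IsThickening iX) (hS : MoreMor.IsThickening iS) (w : iX ≫ f' = f ≫ iS) :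
    IsIntegralHom f ↔ IsIntegralHom f' := by
  exact T1305.main1305 iX iS f f' hX hS w

end Groth.Agent.S1305
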