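import Groth.Statements.S13055
import Groth.Agent.Lib.Helper39.PowerSeriesODE
import Mathlib.Tactic
-- import your own Groth.Agent.* helpers here

set_option autoImplicit false
universe u
open CategoryTheory AlgebraicGeometry
open Zeta

namespace Groth.Agent.S13055

section Helpers
open PowerSeries Groth.Agent.Lib.Helper39


theorem constantCoeff_one_sub (c : ℚ) : constantCoeff (1 - C c * X : PowerSeries ℚ) = 1 := by
  simp

theorem coeff_smul_geom (e : ℕ) (c : ℚ) (m : ℕ) :
    coeff m (e • (-(C c * geom c)) : PowerSeries ℚ) = -((e : ℚ) * c ^ (m + 1)) := by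
  rw [nsmul_eq_mul, ← map_natCast (C (R := ℚ)), coeff_C_mul, map_neg, coeff_C_mul]
  simp only [geom, coeff_mk, pow_succ]
  ring

theorem main55 {k : Type u} [Field k] [Finite k] {Y : Scheme.{u}}
    (f : Y ⟶ Spec (CommRingCat.of k)) (P : Polynomial ℤ)
    (hP : ∀ m : ℕ, 1 ≤ m → (Zeta.nPts f m : ℤ) = P.eval ((Nat.card k : ℤ) ^ m)) :
    Zeta.zetaFun f * ∏ i ∈ Finset.range (P.natDegree + 1),
        (1 - PowerSeries.C ((Nat.card k : ℚ) ^ i) * PowerSeries.X) ^ (P.coeff i).toNat =
      ∏ i ∈ Finset.range (P.natDegree + 1),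
        (1 - PowerSeries.C ((Nat.card k : ℚ) ^ i) * PowerSeries.X) ^ (-P.coeff i).toNat := by
  set q : ℚ := (Nat.card k : ℚ) with hq
  set L := Zeta.logZeta f with hL
  have hL0 : constantCoeff L = 0 := by
    rw [← coeff_zero_eq_constantCoeff_apply, hL, Zeta.logZeta, coeff_mk]
    simp
  have hZ : Zeta.zetaFun f = expSubst L := rfl
  have hLD1 : LD (Zeta.zetaFun f * ∏ i ∈ Finset.range (P.natDegree + 1),
        (1 - C (q ^ i) * X) ^ (P.coeff i).toNat)
      (d⁄dX ℚ L + ∑ i ∈ Finset.range (P.natDegree + 1), (P.coeff i).toNat • (-(C (q ^ i) * geom (q ^ i)))) := by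
    rw [hZ]
    exact (expSubst_LD L hL0).mul (LD.prod _ _ _ (fun i _ => (LD_one_sub (q ^ i)).pow _))
  have hLD2 : LD (∏ i ∈ Finset.range (P.natDegree + 1),
        (1 - C (q ^ i) * X : PowerSeries ℚ) ^ (-P.coeff i).toNat)
      (∑ i ∈ Finset.range (P.natDegree + 1), (-P.coeff i).toNat • (-(C (q ^ i) * geom (q ^ i)))) :=
    LD.prod _ _ _ (fun i _ => (LD_one_sub (q ^ i)).pow _)
  have hb : d⁄dX ℚ L + ∑ i ∈ Finset.range (P.natDegree + 1), (P.coeff i).toNat • (-(C (q ^ i) * geom (q ^ i))) =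
      ∑ i ∈ Finset.range (P.natDegree + 1), (-P.coeff i).toNat • (-(C (q ^ i) * geom (q ^ i))) := by
    ext m
    rw [map_add, map_sum, map_sum, coeff_derivative]
    simp only [coeff_smul_geom]
    have h1 : coeff (m + 1) L * ((m : ℚ) + 1) = ((Zeta.nPts f (m + 1) : ℤ) : ℚ) := by
      rw [hL, Zeta.logZeta, coeff_mk]
      have : ((m : ℚ) + 1) ≠ 0 := Nat.cast_add_one_ne_zero m
      push_cast
      field_simp
    rw [h1, hP (m + 1) (by omega), Polynomial.eval_eq_sum_range]
    push_cast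
    rw [← Finset.sum_add_distrib]
    apply Finset.sum_congr rfl
    intro i _
    have h2 := Int.toNat_sub_toNat_neg (P.coeff i)
    have h3 : ((P.coeff i : ℤ) : ℚ) = ((P.coeff i).toNat : ℚ) - ((-P.coeff i).toNat : ℚ) := by
      have := congrArg (fun z : ℤ => (z : ℚ)) h2
      push_cast at this
      linarith
    rw [h3, ← pow_mul, ← pow_mul, mul_comm (m + 1) i]
    ring
  rw [hb] at hLD1
  apply LD.unique hLD1 hLD2
  rw [map_mul, map_prod, map_prod, hZ, constantCoeff_expSubst L hL0]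
  simp

end Helpers

/-- Let X be a scheme of finite type over a finite field k with q elements and P = a_d y^d + ⋯ + a_0 ∈
ℤ[y] with N_m = P(q^m) for every m ≥ 1 (X is of polynomial count). Then Z(X, t) = ∏_{i = 0}^{d} (1 −
q^i t)^{−a_i}; stated cleared of denominators, with the factors of positive exponent moved to the
left. -/
theorem result {k : Type u} [Field k] [Finite k] {X : Scheme.{u}}
    (f : X ⟶ Spec (CommRingCat.of k)) [LocallyOfFiniteType f] [QuasiCompact f] (P : Polynomial ℤ)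
    (hP : ∀ m : ℕ, 1 ≤ m → (Zeta.nPts f m : ℤ) = P.eval ((Nat.card k : ℤ) ^ m)) :
    Zeta.zetaFun f * ∏ i ∈ Finset.range (P.natDegree + 1),
        (1 - PowerSeries.C ((Nat.card k : ℚ) ^ i) * PowerSeries.X) ^ (P.coeff i).toNat =
      ∏ i ∈ Finset.range (P.natDegree + 1),
        (1 - PowerSeries.C ((Nat.card k : ℚ) ^ i) * PowerSeries.X) ^ (-P.coeff i).toNat := by
  exact main55 f P hP

end Groth.Agent.S13055
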