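import Groth.Statements.S13056
import Groth.Agent.Lib.Helper39.PowerSeriesODE
import Mathlib.Algebra.Polynomial.Taylor
import Mathlib.Tactic
-- import your own Groth.Agent.* helpers here

set_option autoImplicit false
universe u v
open Zeta

namespace Groth.Agent.S13056

section Helpers
open Groth.Agent.Lib.Helper39


section
variable {K : Type u} [Field K] {n : Type v} [Fintype n] [DecidableEq n] (M : Matrix n n K)

local notation "R" => PowerSeries K

/-- M with constant power series entries -/
noncomputable def Mr : Matrix n n R := M.map (PowerSeries.C : K →+* R)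

/-- 1 - tM -/
noncomputable def Amat : Matrix n n R := 1 - (PowerSeries.X : R) • Mr M

/-- sum of M^m t^m -/
noncomputable def Nmat : Matrix n n R := Matrix.of fun i j => PowerSeries.mk (fun m => (M ^ m) i j)

theorem Amat_mul_Nmat : Amat M * Nmat M = 1 := by
  unfold Amat
  rw [Matrix.sub_mul, Matrix.one_mul, Matrix.smul_mul]
  ext i j m
  rw [Matrix.sub_apply, map_sub, Matrix.smul_apply, smul_eq_mul]
  cases m with
  | zero =>
    simp [Nmat, Matrix.one_apply]
  | succ m =>
    rw [PowerSeries.coeff_succ_X_mul, Matrix.mul_apply, map_sum]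
    simp only [Mr, Nmat, Matrix.map_apply, Matrix.of_apply, PowerSeries.coeff_C_mul, PowerSeries.coeff_mk]
    rw [pow_succ', Matrix.mul_apply, sub_self]
    simp [Matrix.one_apply]
    split_ifs <;> simp


theorem coe_charpolyRev : ((M.charpolyRev : Polynomial K) : R) = (Amat M).det := by
  unfold Matrix.charpolyRev
  have h := RingHom.map_det (Polynomial.coeToPowerSeries.ringHom : Polynomial K →+* PowerSeries K) (1 - (Polynomial.X : Polynomial K) • M.map Polynomial.C)
  rw [Polynomial.coeToPowerSeries.ringHom_apply] at h
  rw [h]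
  congr 1
  ext i j
  simp only [RingHom.mapMatrix_apply, Matrix.map_apply, Matrix.sub_apply, Matrix.smul_apply, Amat, Mr,
    Polynomial.coeToPowerSeries.ringHom_apply, smul_eq_mul, Matrix.one_apply]
  split_ifs <;> simp <;> exact mul_comm _ _

theorem trace_Nmat_mul : Matrix.trace (Nmat M * Mr M) = PowerSeries.mk (fun m => Matrix.trace (M ^ (m + 1))) := by
  ext m
  rw [PowerSeries.coeff_mk, Matrix.trace, map_sum, pow_succ, Matrix.trace]
  apply Finset.sum_congr rfl
  intro i _
  rw [Matrix.diag_apply, Matrix.diag_apply, Matrix.mul_apply, Matrix.mul_apply, map_sum]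
  apply Finset.sum_congr rfl
  intro l _
  simp only [Mr, Nmat, Matrix.map_apply, Matrix.of_apply]
  rw [mul_comm, PowerSeries.coeff_C_mul, PowerSeries.coeff_mk, mul_comm]


open Polynomial in
/-- the shift hom K[X] → K⟦t⟧[X], X ↦ X + t -/
noncomputable def psi : Polynomial K →+* Polynomial R :=
  (Polynomial.compRingHom (Polynomial.X + Polynomial.C (PowerSeries.X : R))).comp
    (Polynomial.mapRingHom (PowerSeries.C : K →+* R))

theorem psi_coeff_one (p : Polynomial K) : (psi p).coeff 1 = PowerSeries.derivative K (p : R) := by
  have h1 : psi p = Polynomial.taylor (PowerSeries.X : R) (p.map (PowerSeries.C : K →+* R)) := rfl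
  rw [h1, Polynomial.taylor_coeff_one, Polynomial.derivative_map, Polynomial.eval_map,
    Polynomial.eval₂_C_X_eq_coe, PowerSeries.derivative_coe]

theorem psi_charpolyRev : psi M.charpolyRev =
    ((Amat M).map Polynomial.C - (Polynomial.X : Polynomial R) • (Mr M).map Polynomial.C).det := by
  unfold Matrix.charpolyRev
  rw [RingHom.map_det]
  congr 1
  ext1 i j
  simp only [RingHom.mapMatrix_apply, Matrix.map_apply, Matrix.sub_apply, Matrix.smul_apply, Amat, Mr,
    smul_eq_mul, Matrix.one_apply, psi, RingHom.comp_apply, Polynomial.coe_mapRingHom,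
    Polynomial.coe_compRingHom_apply]
  split_ifs <;> simp <;> ring

theorem det_factor : ((Amat M).map Polynomial.C - (Polynomial.X : Polynomial R) • (Mr M).map Polynomial.C).det =
    Polynomial.C (Amat M).det *
      (1 + (Polynomial.X : Polynomial R) • (-(Nmat M * Mr M)).map Polynomial.C).det := by
  have h1 : (Polynomial.C (Amat M).det : Polynomial R) = ((Amat M).map Polynomial.C).det := by
    exact RingHom.map_det (Polynomial.C : R →+* Polynomial R) (Amat M)
  rw [h1, ← Matrix.det_mul]
  congr 1
  rw [Matrix.mul_add, Matrix.mul_one, Matrix.mul_smul]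
  have h2 : (Amat M).map Polynomial.C * (-(Nmat M * Mr M)).map (Polynomial.C : R →+* Polynomial R) =
      -((Mr M).map Polynomial.C) := by
    rw [← Matrix.map_mul, Matrix.mul_neg, ← Matrix.mul_assoc, Amat_mul_Nmat, Matrix.one_mul]
    ext i j
    simp
  rw [h2, smul_neg, sub_eq_add_neg]

theorem jacobi : LD ((Amat M).det) (-(Matrix.trace (Nmat M * Mr M))) := by
  unfold LD
  rw [← coe_charpolyRev, ← psi_coeff_one, psi_charpolyRev, det_factor, Polynomial.coeff_C_mul,
    Matrix.coeff_det_one_add_X_smul_one, Matrix.trace_neg, coe_charpolyRev]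

end

theorem main56 {K : Type u} [Field K] [CharZero K]
    {n : Type v} [Fintype n] [DecidableEq n] (M : Matrix n n K) :
    ((M.charpolyRev : Polynomial K) : PowerSeries K) =
      PowerSeries.subst (PowerSeries.mk fun m : ℕ => -(Matrix.trace (M ^ m)) / (m : K))
        (PowerSeries.exp K) := by
  set a : PowerSeries K := PowerSeries.mk fun m : ℕ => -(Matrix.trace (M ^ m)) / (m : K) with ha
  have ha0 : PowerSeries.constantCoeff a = 0 := by
    rw [← PowerSeries.coeff_zero_eq_constantCoeff_apply, ha, PowerSeries.coeff_mk]
    simp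
  have hda : PowerSeries.derivative K a = -(Matrix.trace (Nmat M * Mr M)) := by
    rw [trace_Nmat_mul]
    ext m
    rw [PowerSeries.coeff_derivative, ha, PowerSeries.coeff_mk, map_neg, PowerSeries.coeff_mk]
    have : ((m : K) + 1) ≠ 0 := Nat.cast_add_one_ne_zero m
    push_cast
    field_simp
  have h1 : LD (expSubst a) (-(Matrix.trace (Nmat M * Mr M))) := hda ▸ expSubst_LD a ha0
  have h2 := jacobi M
  rw [coe_charpolyRev]
  apply LD.unique h2 h1
  rw [constantCoeff_expSubst a ha0, ← coe_charpolyRev, ← PowerSeries.coeff_zero_eq_constantCoeff_apply,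
    Polynomial.coeff_coe, Polynomial.coeff_zero_eq_eval_zero, Matrix.eval_charpolyRev]

end Helpers

/-- For an endomorphism φ of a finite-dimensional vector space over a field K, det(Id − tφ) = exp(−∑_{m
≥ 1} tr(φ^m) t^m / m) as power series in t. Stated for a square matrix M, with det(1 − tM) Mathlib's
reversed characteristic polynomial, and over a field of characteristic zero (the exponential series
needs ℚ ⊆ K; this is the case in which the identity is used). -/
theorem result {K : Type u} [Field K] [CharZero K]
    {n : Type v} [Fintype n] [DecidableEq n] (M : Matrix n n K) :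
    ((M.charpolyRev : Polynomial K) : PowerSeries K) =
      PowerSeries.subst (PowerSeries.mk fun m : ℕ => -(Matrix.trace (M ^ m)) / (m : K))
        (PowerSeries.exp K) := by
  exact main56 M

end Groth.Agent.S13056
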