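import Groth.Statements.S13057
import Mathlib.LinearAlgebra.Basis.VectorSpace
import Mathlib.RingTheory.PowerSeries.Trunc
import Mathlib.LinearAlgebra.Pi
import Mathlib.Tactic.Ring
import Mathlib.Tactic.Linarith
-- import your own Groth.Agent.* helpers here

set_option autoImplicit false
universe u
open Zeta

namespace Groth.Agent.S13057

/-- the window of length `N+1` starting at `i` -/
noncomputable def win {L : Type u} [Field L] (f : PowerSeries L) (N i : ℕ) : Fin (N + 1) → L :=
  fun j => PowerSeries.coeff (i + (j : ℕ)) f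

/-- the polynomial attached to a coefficient vector -/
noncomputable def polyOf {L : Type u} [Field L] (N : ℕ) (c : Fin (N + 1) → L) : Polynomial L :=
  ∑ j : Fin (N + 1), Polynomial.C (c j) * Polynomial.X ^ (N - (j : ℕ))

theorem coeff_mul_polyOf {L : Type u} [Field L] (f : PowerSeries L) (N : ℕ)
    (c : Fin (N + 1) → L) (m : ℕ) (hm : N ≤ m) :
    PowerSeries.coeff m (f * (polyOf N c : PowerSeries L)) =
      ∑ j : Fin (N + 1), c j * win f N (m - N) j := by
  unfold polyOf
  have hcoe : ((∑ j : Fin (N + 1), Polynomial.C (c j) * Polynomial.X ^ (N - (j : ℕ)) :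
      Polynomial L) : PowerSeries L) =
      ∑ j : Fin (N + 1), ((Polynomial.C (c j) * Polynomial.X ^ (N - (j : ℕ)) : Polynomial L) :
        PowerSeries L) :=
    map_sum (Polynomial.coeToPowerSeries.ringHom (R := L))
      (fun j : Fin (N + 1) => Polynomial.C (c j) * Polynomial.X ^ (N - (j : ℕ))) Finset.univ
  rw [hcoe, Finset.mul_sum, map_sum]
  refine Finset.sum_congr rfl fun j _ => ?_
  rw [Polynomial.coe_mul, Polynomial.coe_C, Polynomial.coe_pow, Polynomial.coe_X, ← mul_assoc,
    PowerSeries.coeff_mul_X_pow', if_pos (le_trans (Nat.sub_le _ _) hm), PowerSeries.coeff_mul_C,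
    mul_comm]
  unfold win
  have hj := j.2
  have : m - (N - (j : ℕ)) = m - N + (j : ℕ) := by omega
  rw [this]

theorem polyOf_ne_zero {L : Type u} [Field L] (N : ℕ) (c : Fin (N + 1) → L) (j₀ : Fin (N + 1))
    (h : c j₀ ≠ 0) : polyOf N c ≠ 0 := by
  intro h0
  have h1 : (polyOf N c).coeff (N - (j₀ : ℕ)) = c j₀ := by
    unfold polyOf
    rw [Polynomial.finsetSum_coeff, Finset.sum_eq_single j₀]
    · rw [Polynomial.coeff_C_mul_X_pow, if_pos rfl]
    · intro j _ hj
      rw [Polynomial.coeff_C_mul_X_pow, if_neg]
      intro heq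
      apply hj
      apply Fin.ext
      have := j.2
      have := j₀.2
      omega
    · intro h; exact absurd (Finset.mem_univ _) h
  rw [h0, Polynomial.coeff_zero] at h1
  exact h h1.symm

/-- A power series f = ∑_{m ≥ 0} a_m t^m over a field L lies in L(t), i.e. f · Q = P for some
polynomials P, Q with Q ≠ 0, if and only if there are natural numbers M, N such that the vectors
(a_i, a_{i+1}, …, a_{i+N}) ∈ L^{N+1}, i ≥ M, span a proper subspace. -/
theorem result {L : Type u} [Field L]
    (f : PowerSeries L) :
    (∃ P Q : Polynomial L, Q ≠ 0 ∧ f * (Q : PowerSeries L) = (P : PowerSeries L)) ↔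
      ∃ M N : ℕ, Submodule.span L
          {v : Fin (N + 1) → L | ∃ i : ℕ, M ≤ i ∧ v = fun j : Fin (N + 1) => PowerSeries.coeff (i + (j : ℕ)) f} ≠ ⊤ := by
  constructor
  · rintro ⟨P, Q, hQ, hPQ⟩
    refine ⟨P.natDegree + 1, Q.natDegree, ?_⟩
    set N := Q.natDegree with hN
    -- the functional
    set c : Fin (N + 1) → L := fun j => Q.coeff (N - (j : ℕ)) with hc
    have hQc : Q = polyOf N c := by
      ext t
      unfold polyOf
      rw [Polynomial.finsetSum_coeff]
      by_cases ht : t ≤ N
      · rw [Finset.sum_eq_single (⟨N - t, by omega⟩ : Fin (N + 1))]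
        · rw [Polynomial.coeff_C_mul_X_pow, if_pos (by simp; omega)]
          simp only [hc]
          congr 1
          omega
        · intro j _ hj
          rw [Polynomial.coeff_C_mul_X_pow, if_neg]
          intro heq
          apply hj
          apply Fin.ext
          have := j.2
          simp only
          omega
        · intro h; exact absurd (Finset.mem_univ _) h
      · rw [Polynomial.coeff_eq_zero_of_natDegree_lt (by omega)]
        symm
        refine Finset.sum_eq_zero fun j _ => ?_
        rw [Polynomial.coeff_C_mul_X_pow, if_neg]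
        omega
    set φ : (Fin (N + 1) → L) →ₗ[L] L := ∑ j : Fin (N + 1), c j • LinearMap.proj j with hφ
    have hφ_apply : ∀ v, φ v = ∑ j, c j * v j := by
      intro v
      simp [hφ, LinearMap.sum_apply]
    have hle : Submodule.span L
        {v : Fin (N + 1) → L | ∃ i : ℕ, P.natDegree + 1 ≤ i ∧
          v = fun j : Fin (N + 1) => PowerSeries.coeff (i + (j : ℕ)) f} ≤ LinearMap.ker φ := by
      rw [Submodule.span_le]
      rintro v ⟨i, hi, rfl⟩
      rw [SetLike.mem_coe, LinearMap.mem_ker, hφ_apply]
      have h1 := coeff_mul_polyOf f N c (i + N) (Nat.le_add_left _ _)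
      rw [← hQc, hPQ, Polynomial.coeff_coe,
        Polynomial.coeff_eq_zero_of_natDegree_lt (by omega), Nat.add_sub_cancel] at h1
      exact h1.symm
    intro htop
    rw [htop, top_le_iff, LinearMap.ker_eq_top] at hle
    have h2 := hφ_apply (Pi.single ⟨0, Nat.succ_pos N⟩ 1)
    rw [hle, LinearMap.zero_apply, Finset.sum_eq_single (⟨0, Nat.succ_pos N⟩ : Fin (N + 1))] at h2
    · simp only [hc, Pi.single_eq_same, mul_one, Nat.sub_zero] at h2
      have : Q.leadingCoeff = 0 := h2.symm
      exact hQ (Polynomial.leadingCoeff_eq_zero.1 this)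
    · intro j _ hj
      rw [Pi.single_eq_of_ne hj, mul_zero]
    · intro h; exact absurd (Finset.mem_univ _) h
  · rintro ⟨M, N, hspan⟩
    obtain ⟨φ, hφ0, hφker⟩ := Submodule.exists_le_ker_of_lt_top _ (lt_top_iff_ne_top.2 hspan)
    set c : Fin (N + 1) → L := fun j => φ (fun k => if j = k then 1 else 0) with hc
    have hφ_apply : ∀ v, φ v = ∑ j, c j * v j := by
      intro v
      rw [LinearMap.pi_apply_eq_sum_univ φ v]
      refine Finset.sum_congr rfl fun j _ => ?_
      rw [smul_eq_mul, mul_comm]
    have hcne : ∃ j₀, c j₀ ≠ 0 := by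
      by_contra hcon
      push Not at hcon
      apply hφ0
      apply LinearMap.ext
      intro v
      rw [hφ_apply, LinearMap.zero_apply]
      exact Finset.sum_eq_zero fun j _ => by rw [hcon j, zero_mul]
    obtain ⟨j₀, hj₀⟩ := hcne
    refine ⟨PowerSeries.trunc (M + N) (f * (polyOf N c : PowerSeries L)), polyOf N c,
      polyOf_ne_zero N c j₀ hj₀, ?_⟩
    ext m
    rw [Polynomial.coeff_coe, PowerSeries.coeff_trunc]
    split_ifs with hm
    · rfl
    · rw [coeff_mul_polyOf f N c m (by omega), ← hφ_apply]
      have hmem : win f N (m - N) ∈ Submodule.span L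
          {v : Fin (N + 1) → L | ∃ i : ℕ, M ≤ i ∧
            v = fun j : Fin (N + 1) => PowerSeries.coeff (i + (j : ℕ)) f} :=
        Submodule.subset_span ⟨m - N, by omega, rfl⟩
      exact hφker hmem

end Groth.Agent.S13057
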