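import Groth.Statements.S13058
import Groth.Agent.S13057
import Mathlib.Algebra.Polynomial.Eval.Degree
import Mathlib.LinearAlgebra.Pi
-- import your own Groth.Agent.* helpers here

set_option autoImplicit false
universe u v
open Zeta

namespace Groth.Agent.S13058

/-- If L'/L is a field extension, a power series f ∈ L⟦t⟧ belongs to L(t) exactly when it belongs to
L'(t); here membership in L(t) means f · Q = P for polynomials P, Q over the field in question with
Q ≠ 0. -/
theorem result {L : Type u} {L' : Type v} [Field L] [Field L']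
    [Algebra L L'] (f : PowerSeries L) :
    (∃ P Q : Polynomial L', Q ≠ 0 ∧
        PowerSeries.map (algebraMap L L') f * (Q : PowerSeries L') = (P : PowerSeries L')) ↔
      ∃ P Q : Polynomial L, Q ≠ 0 ∧ f * (Q : PowerSeries L) = (P : PowerSeries L) := by
  constructor
  · intro h
    obtain ⟨M, N, hspan⟩ := (Groth.Agent.S13057.result (PowerSeries.map (algebraMap L L') f)).1 h
    apply (Groth.Agent.S13057.result f).2
    refine ⟨M, N, fun htop => hspan ?_⟩
    set W : Set (Fin (N + 1) → L) := {v | ∃ i : ℕ, M ≤ i ∧
      v = fun j : Fin (N + 1) => PowerSeries.coeff (i + (j : ℕ)) f} with hW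
    set W' : Set (Fin (N + 1) → L') := {v | ∃ i : ℕ, M ≤ i ∧
      v = fun j : Fin (N + 1) =>
        PowerSeries.coeff (i + (j : ℕ)) (PowerSeries.map (algebraMap L L') f)} with hW'
    set S' : Submodule L' (Fin (N + 1) → L') := Submodule.span L' W' with hS'
    set Φ : (Fin (N + 1) → L) →ₗ[L] (Fin (N + 1) → L') :=
      (Algebra.linearMap L L').compLeft (Fin (N + 1)) with hΦ
    have hle : Submodule.span L W ≤ (S'.restrictScalars L).comap Φ := by
      rw [Submodule.span_le]
      rintro w ⟨i, hi, rfl⟩
      rw [SetLike.mem_coe, Submodule.mem_comap, Submodule.restrictScalars_mem]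
      apply Submodule.subset_span
      refine ⟨i, hi, ?_⟩
      funext j
      simp [hΦ, PowerSeries.coeff_map]
    rw [htop, top_le_iff] at hle
    have hmem : ∀ v : Fin (N + 1) → L, Φ v ∈ S' := by
      intro v
      have : v ∈ (S'.restrictScalars L).comap Φ := by rw [hle]; trivial
      exact this
    rw [eq_top_iff]
    rintro v' -
    have hv' : v' = ∑ j, v' j • (Pi.single j (1 : L') : Fin (N + 1) → L') := by
      funext k
      simp [Finset.sum_apply, Pi.single_apply]
    rw [hv']
    refine Submodule.sum_mem _ fun j _ => Submodule.smul_mem _ _ ?_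
    have h1 := hmem (Pi.single j 1)
    have h2 : Φ (Pi.single j 1) = (Pi.single j (1 : L') : Fin (N + 1) → L') := by
      funext k
      by_cases hk : k = j
      · subst hk; simp [hΦ]
      · simp [hΦ, Pi.single_eq_of_ne hk]
    rwa [h2] at h1
  · rintro ⟨P, Q, hQ, hPQ⟩
    refine ⟨P.map (algebraMap L L'), Q.map (algebraMap L L'), ?_, ?_⟩
    · exact (Polynomial.map_ne_zero_iff (algebraMap L L').injective).2 hQ
    · rw [Polynomial.polynomial_map_coe, Polynomial.polynomial_map_coe, ← map_mul, hPQ]

end Groth.Agent.S13058
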