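import Groth.Statements.S13060
import Mathlib.LinearAlgebra.TensorProduct.Basis
import Mathlib.LinearAlgebra.Basis.VectorSpace
-- import your own Groth.Agent.* helpers here

set_option autoImplicit false
universe u v w x
open TensorProduct
open Zeta

namespace Groth.Agent.S13060

/-- Let k be a field, V and W vector spaces over k and G a group acting on V by k-linear automorphisms;
for the induced action on V ⊗_k W (trivial on W) one has (V ⊗_k W)^G = V^G ⊗_k W, i.e. the
invariants of V ⊗ W are the image of V^G ⊗ W → V ⊗ W. -/
theorem result {k : Type u} [Field k] {G : Type v} [Group G]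
    {V : Type w} {W : Type x} [AddCommGroup V] [Module k V] [AddCommGroup W] [Module k W]
    (ρ : Representation k G V) :
    (ρ.tprod (Representation.trivial k G W)).invariants =
      LinearMap.range (TensorProduct.map ρ.invariants.subtype (LinearMap.id : W →ₗ[k] W)) := by
  classical
  apply le_antisymm
  · intro x hx
    rw [Representation.mem_invariants] at hx
    set b := Module.Basis.ofVectorSpace k W with hb
    set e := TensorProduct.equivFinsuppOfBasisRight (M := V) b with he
    -- naturality of components
    have hnat : ∀ (g : G) (y : TensorProduct k V W) (i : Module.Basis.ofVectorSpaceIndex k W),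
        e (TensorProduct.map (ρ g) LinearMap.id y) i = ρ g (e y i) := by
      intro g y i
      induction y using TensorProduct.induction_on with
      | zero => simp
      | tmul v w =>
        rw [TensorProduct.map_tmul, he, TensorProduct.equivFinsuppOfBasisRight_apply_tmul_apply,
          TensorProduct.equivFinsuppOfBasisRight_apply_tmul_apply, LinearMap.id_apply, map_smul]
      | add y₁ y₂ h₁ h₂ =>
        rw [map_add, map_add, Finsupp.add_apply, h₁, h₂, map_add, Finsupp.add_apply, map_add]
    have hinv : ∀ i, e x i ∈ ρ.invariants := by
      intro i
      rw [Representation.mem_invariants]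
      intro g
      rw [← hnat g x i]
      have := hx g
      rw [Representation.tprod_apply] at this
      have h2 : Representation.trivial k G W g = LinearMap.id := rfl
      rw [h2] at this
      rw [this]
    have hx2 : x = e.symm (e x) := (e.symm_apply_apply x).symm
    rw [hx2, he, TensorProduct.equivFinsuppOfBasisRight_symm_apply]
    refine Submodule.sum_mem _ fun i _ => ?_
    exact ⟨(⟨e x i, hinv i⟩ : ρ.invariants) ⊗ₜ b i, by rw [TensorProduct.map_tmul]; rfl⟩
  · rintro x ⟨y, rfl⟩
    rw [Representation.mem_invariants]
    intro g
    induction y using TensorProduct.induction_on with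
    | zero => simp
    | tmul v w =>
      rw [TensorProduct.map_tmul, Representation.tprod_apply, TensorProduct.map_tmul]
      have hv := (Representation.mem_invariants ρ v.1).1 v.2 g
      simp only [Submodule.subtype_apply, LinearMap.id_apply]
      rw [hv]
      rfl
    | add y₁ y₂ h₁ h₂ =>
      rw [map_add, map_add, h₁, h₂]

end Groth.Agent.S13060
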