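import Groth.Statements.S13061
import Mathlib.GroupTheory.Sylow
import Mathlib.RingTheory.Ideal.Quotient.Operations
import Mathlib.Algebra.CharP.Basic
-- import your own Groth.Agent.* helpers here

set_option autoImplicit false
universe u v w
open Zeta

namespace Groth.Agent.S13061

section transfer

variable {k : Type u} [Field k]
    {A : Type v} [CommRing A] [Algebra k A] {G : Type w} [Group G] [Finite G]
    [MulSemiringAction G A] [SMulCommClass G k A] (I : Ideal A)

theorem mk_smul_eq (hI : ∀ (g : G) (a : A), a ∈ I → g • a ∈ I) (g : G) (x y : A)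
    (h : Ideal.Quotient.mk I x = Ideal.Quotient.mk I y) :
    Ideal.Quotient.mk I (g • x) = Ideal.Quotient.mk I (g • y) := by
  rw [Ideal.Quotient.eq] at h ⊢
  rw [← smul_sub]
  exact hI g _ h

theorem transfer (hI : ∀ (g : G) (a : A), a ∈ I → g • a ∈ I) (u : A)
    (hu : ∀ g : G, g • u - u ∈ I) (P : Subgroup G) (hidx : (P.index : k) ≠ 0) :
    ∃ a : A, (∀ g : G, g • a = a) ∧
      Ideal.Quotient.mk I a = Ideal.Quotient.mk I u ^ (Nat.card P) := by
  classical
  have : Fintype G := Fintype.ofFinite G
  have : Fintype P := Fintype.ofFinite P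
  have : Fintype (G ⧸ P) := Fintype.ofFinite _
  have hmku : ∀ g : G, Ideal.Quotient.mk I (g • u) = Ideal.Quotient.mk I u := fun g =>
    Ideal.Quotient.eq.2 (hu g)
  set N : A := ∏ h : P, (h : G) • u with hN
  have hN_inv : ∀ h : P, (h : G) • N = N := by
    intro h
    rw [hN, Finset.smul_prod']
    simp_rw [← mul_smul]
    exact Fintype.prod_equiv (Equiv.mulLeft h) _ _ (fun x => by simp)
  have hN_mod : Ideal.Quotient.mk I N = Ideal.Quotient.mk I u ^ (Nat.card P) := by
    rw [hN, map_prod]
    simp_rw [hmku]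
    rw [Finset.prod_const, Finset.card_univ, Nat.card_eq_fintype_card]
  have hgN_mod : ∀ g : G, Ideal.Quotient.mk I (g • N) = Ideal.Quotient.mk I u ^ (Nat.card P) := by
    intro g
    have h1 : Ideal.Quotient.mk I N = Ideal.Quotient.mk I (u ^ Nat.card P) := by
      rw [hN_mod, map_pow]
    rw [mk_smul_eq I hI g _ _ h1, smul_pow', map_pow, hmku]
  have key : ∀ g₁ g₂ : G, g₁⁻¹ * g₂ ∈ P → g₁ • N = g₂ • N := by
    intro g₁ g₂ h
    have : g₂ = g₁ * (g₁⁻¹ * g₂) := by group
    rw [this, mul_smul, hN_inv ⟨_, h⟩]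
  set T : A := ∑ c : G ⧸ P, (Quotient.out c : G) • N with hT
  have hT_inv : ∀ g : G, g • T = T := by
    intro g
    rw [hT, Finset.smul_sum]
    simp_rw [← mul_smul]
    have h1 : ∀ c : G ⧸ P, (g * (Quotient.out c : G)) • N = (Quotient.out (g • c) : G) • N := by
      intro c
      apply key
      rw [← QuotientGroup.eq]
      have h2 : ((Quotient.out (g • c) : G) : G ⧸ P) = g • c := Quotient.out_eq' _
      have h3 : ((Quotient.out c : G) : G ⧸ P) = c := Quotient.out_eq' _
      rw [h2]
      conv_rhs => rw [← h3]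
      rfl
    simp_rw [h1]
    exact Fintype.sum_equiv (MulAction.toPerm g) _ _ (fun c => rfl)
  have hT_mod : Ideal.Quotient.mk I T = (P.index : ℕ) • Ideal.Quotient.mk I u ^ (Nat.card P) := by
    rw [hT, map_sum]
    simp_rw [hgN_mod]
    rw [Finset.sum_const, Finset.card_univ, Subgroup.index, Nat.card_eq_fintype_card,
      Nat.card_eq_fintype_card]
  refine ⟨(P.index : k)⁻¹ • T, ?_, ?_⟩
  · intro g
    rw [smul_comm, hT_inv]
  · have h1 : Ideal.Quotient.mk I ((P.index : k)⁻¹ • T) =
        (P.index : k)⁻¹ • Ideal.Quotient.mk I T := by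
      rw [← Ideal.Quotient.mkₐ_eq_mk k, map_smul]
    rw [h1, hT_mod, ← Nat.cast_smul_eq_nsmul k, inv_smul_smul₀ hidx]

end transfer

/-- Let A be a commutative algebra over a field k, G a finite group acting on A by k-algebra
automorphisms and I ⊆ A an ideal preserved by G. If p^n is the largest power of p = char(k) dividing
|G| (with p^n = 1 when char(k) = 0), then for every G-invariant b ∈ A/I the power b^{p^n} lies in
the image of A^G → (A/I)^G. (The published statement takes A finitely generated over k, which the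
proof does not use.) -/
theorem result {k : Type u} [Field k]
    {A : Type v} [CommRing A] [Algebra k A] {G : Type w} [Group G] [Finite G]
    [MulSemiringAction G A] [SMulCommClass G k A] (I : Ideal A)
    (hI : ∀ (g : G) (a : A), a ∈ I → g • a ∈ I) (u : A) (hu : ∀ g : G, g • u - u ∈ I) :
    ∃ a : A, (∀ g : G, g • a = a) ∧
      Ideal.Quotient.mk I a =
        Ideal.Quotient.mk I u ^ (ringChar k ^ (Nat.card G).factorization (ringChar k)) := by
  set p := ringChar k with hp
  by_cases hp0 : p = 0
  · have hcz : CharZero k := (CharP.ringChar_zero_iff_CharZero k).1 hp0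
    have hidx : (((⊥ : Subgroup G).index : ℕ) : k) ≠ 0 := by
      rw [Subgroup.index_bot]
      exact Nat.cast_ne_zero.2 Nat.card_pos.ne'
    obtain ⟨a, ha1, ha2⟩ := transfer I hI u hu (⊥ : Subgroup G) hidx
    refine ⟨a, ha1, ?_⟩
    rw [ha2, hp0, Subgroup.card_bot, Nat.factorization_zero_right, pow_zero]
  · have hprime : p.Prime := (CharP.char_is_prime_or_zero k p).resolve_right hp0
    have : Fact p.Prime := ⟨hprime⟩
    let P : Sylow p G := default
    have hidx : ((P : Subgroup G).index : k) ≠ 0 := by
      intro h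
      rw [CharP.cast_eq_zero_iff k p] at h
      exact P.not_dvd_index h
    obtain ⟨a, ha1, ha2⟩ := transfer I hI u hu (P : Subgroup G) hidx
    refine ⟨a, ha1, ?_⟩
    rw [ha2, Sylow.card_eq_multiplicity]

end Groth.Agent.S13061
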