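import Groth.Statements.S13065
import Mathlib.FieldTheory.Finite.Basic
import Mathlib.Tactic
-- import your own Groth.Agent.* helpers here

set_option autoImplicit false
universe u
open Zeta

namespace Groth.Agent.S13065

section Helpers

open Finset

section
variable {K : Type u} [Field K] [Fintype K]

local notation "q" => Fintype.card K

/-- sum of j-th powers over a finite field -/
theorem sum_pow_all [DecidableEq K] (j : ℕ) :
    ∑ x : K, x ^ j = if j ≠ 0 ∧ (q - 1) ∣ j then -1 else 0 := by
  by_cases hj : j = 0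
  · subst hj
    simp [FiniteField.cast_card_eq_zero]
  · let φ : Kˣ ↪ K := ⟨fun x ↦ x, Units.val_injective⟩
    have : univ.map φ = univ \ {0} := by
      ext x
      simpa only [mem_map, mem_univ, Function.Embedding.coeFn_mk, true_and, mem_sdiff,
        mem_singleton, φ] using! isUnit_iff_ne_zero
    calc
      ∑ x : K, x ^ j = ∑ x ∈ univ \ {(0 : K)}, x ^ j := by
        rw [← sum_sdiff ({0} : Finset K).subset_univ, sum_singleton, zero_pow hj, add_zero]
      _ = ∑ x : Kˣ, (x ^ j : K) := by simp [φ, ← this, univ.sum_map φ]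
      _ = if j ≠ 0 ∧ (q - 1) ∣ j then -1 else 0 := by
        rw [FiniteField.sum_pow_units K j]
        simp [hj]

end

section
variable {K : Type u} [Field K] [Fintype K] [DecidableEq K]

local notation "q" => Fintype.card K

theorem sum_monomial (n : ℕ) (m : Fin (n + 1) →₀ ℕ) :
    ∑ a : Fin (n + 1) → K, ∏ i, a i ^ m i = ∏ i, ∑ t : K, t ^ m i := by
  rw [Finset.prod_univ_sum, Fintype.piFinset_univ]

theorem one_lt_card : 1 < q := Fintype.one_lt_card

theorem prod_sum_pow (n : ℕ) (m : Fin (n + 1) →₀ ℕ) (hm : m.degree = (n + 1) * (q - 1)) :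
    ∏ i, ∑ t : K, t ^ m i =
      if m = Finsupp.equivFunOnFinite.symm (fun _ : Fin (n + 1) => q - 1) then (-1) ^ (n + 1) else 0 := by
  have hq : 0 < q - 1 := Nat.sub_pos_of_lt one_lt_card
  simp only [sum_pow_all]
  split_ifs with h
  · subst h
    have : ∀ i : Fin (n + 1), (Finsupp.equivFunOnFinite.symm (fun _ : Fin (n + 1) => q - 1)) i = q - 1 := fun i => rfl
    simp only [this]
    rw [Finset.prod_congr rfl (fun i _ => if_pos ⟨hq.ne', dvd_refl _⟩)]
    simp
  · -- some i fails
    by_contra hne
    apply h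
    have hall : ∀ i, m i ≠ 0 ∧ (q - 1) ∣ m i := by
      intro i
      by_contra hi
      apply hne
      exact Finset.prod_eq_zero (Finset.mem_univ i) (if_neg hi)
    have hge : ∀ i, q - 1 ≤ m i := fun i => Nat.le_of_dvd (Nat.pos_of_ne_zero (hall i).1) (hall i).2
    have hsum : ∑ i, m i = ∑ _i : Fin (n + 1), (q - 1) := by
      rw [← Finsupp.degree_eq_sum, hm]; simp
    ext i
    show m i = q - 1
    by_contra hi
    have hlt : q - 1 < m i := lt_of_le_of_ne (hge i) (Ne.symm hi)
    have := Finset.sum_lt_sum (fun j _ => hge j) ⟨i, Finset.mem_univ i, hlt⟩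
    omega

end

section
variable {K : Type u} [Field K] [Fintype K] [DecidableEq K]

local notation "q" => Fintype.card K

theorem sum_eval_pow (n : ℕ) (F : MvPolynomial (Fin (n + 1)) K)
    (hF : F.IsHomogeneous ((n + 1) * (q - 1))) :
    ∑ a : Fin (n + 1) → K, MvPolynomial.eval a F =
      MvPolynomial.coeff (Finsupp.equivFunOnFinite.symm (fun _ : Fin (n + 1) => q - 1)) F * (-1) ^ (n + 1) := by
  simp only [MvPolynomial.eval_eq']
  rw [Finset.sum_comm]
  simp only [← Finset.mul_sum]
  have : ∀ m ∈ F.support, MvPolynomial.coeff m F * ∑ a : Fin (n + 1) → K, ∏ i, a i ^ m i =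
      if m = Finsupp.equivFunOnFinite.symm (fun _ : Fin (n + 1) => q - 1) then
        MvPolynomial.coeff (Finsupp.equivFunOnFinite.symm (fun _ : Fin (n + 1) => q - 1)) F * (-1) ^ (n + 1) else 0 := by
    intro m hm
    have hdeg : m.degree = (n + 1) * (q - 1) := by
      by_contra hne
      exact (MvPolynomial.mem_support_iff.mp hm) (hF.coeff_eq_zero hne)
    rw [sum_monomial, prod_sum_pow n m hdeg]
    split_ifs with h
    · rw [h]
    · rw [mul_zero]
  rw [Finset.sum_congr rfl this, Finset.sum_ite_eq']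
  split_ifs with h
  · rfl
  · rw [MvPolynomial.notMem_support_iff.mp h, zero_mul]

theorem count_cast (n : ℕ) (f : MvPolynomial (Fin (n + 1)) K) :
    ((Fintype.card {a : Fin (n + 1) → K // MvPolynomial.eval a f = 0} : ℕ) : K) =
      - ∑ a : Fin (n + 1) → K, MvPolynomial.eval a (f ^ (q - 1)) := by
  have hq : q - 1 ≠ 0 := (Nat.sub_pos_of_lt one_lt_card).ne'
  rw [Fintype.card_subtype, Finset.natCast_card_filter]
  have h1 : ∀ a : Fin (n + 1) → K, (if MvPolynomial.eval a f = 0 then (1 : K) else 0) =
      1 - MvPolynomial.eval a (f ^ (q - 1)) := by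
    intro a
    rw [map_pow]
    split_ifs with h
    · rw [h, zero_pow hq, sub_zero]
    · rw [FiniteField.pow_card_sub_one_eq_one _ h, sub_self]
  rw [Finset.sum_congr rfl (fun a _ => h1 a), Finset.sum_sub_distrib]
  have h2 : ∑ _a : Fin (n + 1) → K, (1 : K) = 0 := by
    rw [Finset.sum_const, Finset.card_univ, Fintype.card_fun, Fintype.card_fin]
    simp [FiniteField.cast_card_eq_zero]
  rw [h2, zero_sub]

end

theorem main65 {k : Type u} [Field k] [Finite k] (p : ℕ)
    [CharP k p] (n : ℕ) (f : MvPolynomial (Fin (n + 1)) k)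
    (hf : f.IsHomogeneous (n + 1)) :
    p ∣ Nat.card {a : Fin (n + 1) → k // MvPolynomial.eval a f = 0} ↔
      MvPolynomial.coeff (Finsupp.equivFunOnFinite.symm fun _ : Fin (n + 1) => Nat.card k - 1)
        (f ^ (Nat.card k - 1)) = 0 := by
  classical
  have := Fintype.ofFinite k
  have h1 := count_cast (K := k) n f
  rw [Fintype.card_eq_nat_card, sum_eval_pow n _ (hf.pow _)] at h1
  rw [← CharP.cast_eq_zero_iff k p, h1, Nat.card_eq_fintype_card (α := k)]
  simp

end Helpers

/-- Let k be a finite field with q elements and characteristic p, n ≥ 2, and f ∈ k[x_0, …, x_n]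
homogeneous of degree n + 1, defining the hypersurface Z ⊂ P^n_k. Then #Z(F_q) ≢ 1 (mod p) if and
only if the coefficient of (x_0 ⋯ x_n)^{q−1} in f^{q−1} is nonzero. Stated through the affine count:
#Z(F_q) ≡ 1 (mod p) exactly when p divides the number of zeros of f in k^{n+1} (as (q − 1) #Z(F_q) +
1 is that number). -/
theorem result {k : Type u} [Field k] [Finite k] (p : ℕ)
    [CharP k p] (n : ℕ) (hn : 2 ≤ n) (f : MvPolynomial (Fin (n + 1)) k)
    (hf : f.IsHomogeneous (n + 1)) :
    p ∣ Nat.card {a : Fin (n + 1) → k // MvPolynomial.eval a f = 0} ↔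
      MvPolynomial.coeff (Finsupp.equivFunOnFinite.symm fun _ : Fin (n + 1) => Nat.card k - 1)
        (f ^ (Nat.card k - 1)) = 0 := by
  exact main65 p n f hf

end Groth.Agent.S13065
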