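import Groth.Statements.S13066
import Mathlib.FieldTheory.Finite.Basic
import Mathlib.RingTheory.MvPolynomial.Expand
import Mathlib.Tactic
-- import your own Groth.Agent.* helpers here

set_option autoImplicit false
universe u
open Zeta

namespace Groth.Agent.S13066

section Helpers

open Finset

section
variable {K : Type u} [Field K] (p : ℕ) [hp : Fact p.Prime] [CharP K p]

/-- constant exponent vector -/
noncomputable def cvec (n : ℕ) (c : ℕ) : Fin (n + 1) →₀ ℕ := Finsupp.equivFunOnFinite.symm (fun _ => c)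

@[simp] theorem cvec_apply (n c : ℕ) (i : Fin (n + 1)) : cvec n c i = c := rfl

theorem coeff_pow_char (n : ℕ) (H : MvPolynomial (Fin (n + 1)) K) (b : Fin (n + 1) →₀ ℕ) :
    MvPolynomial.coeff b (H ^ p) = (MvPolynomial.coeff b (MvPolynomial.expand p H)) ^ p := by
  rw [← MvPolynomial.map_frobenius_expand p, MvPolynomial.coeff_map]
  rfl

theorem key (n r : ℕ) (G H : MvPolynomial (Fin (n + 1)) K)
    (hG : G.IsHomogeneous ((n + 1) * (p - 1))) :
    MvPolynomial.coeff (cvec n (p ^ (r + 1) - 1)) (G * H ^ p) =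
      MvPolynomial.coeff (cvec n (p - 1)) G * (MvPolynomial.coeff (cvec n (p ^ r - 1)) H) ^ p := by
  classical
  have hp1 : 1 ≤ p := hp.out.one_le
  have hpr : 1 ≤ p ^ r := Nat.one_le_pow _ _ hp.out.pos
  have hsplit : cvec n (p ^ (r + 1) - 1) = cvec n (p - 1) + p • cvec n (p ^ r - 1) := by
    ext i
    simp only [cvec_apply, Finsupp.add_apply, Finsupp.smul_apply, smul_eq_mul]
    have : p ^ (r + 1) = p * p ^ r := by ring
    rw [this, Nat.mul_sub, mul_one]
    have : p ≤ p * p ^ r := Nat.le_mul_of_pos_right _ (by omega)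
    omega
  rw [MvPolynomial.coeff_mul]
  rw [Finset.sum_eq_single (cvec n (p - 1), p • cvec n (p ^ r - 1))]
  · rw [coeff_pow_char, MvPolynomial.coeff_expand_smul p hp.out.ne_zero]
  · rintro ⟨a, b⟩ hab hne
    rw [Finset.mem_antidiagonal] at hab
    simp only at hab
    by_contra hnz
    have ha : MvPolynomial.coeff a G ≠ 0 := left_ne_zero_of_mul hnz
    have hb : MvPolynomial.coeff b (H ^ p) ≠ 0 := right_ne_zero_of_mul hnz
    rw [coeff_pow_char] at hb
    have hb' : MvPolynomial.coeff b (MvPolynomial.expand p H) ≠ 0 := fun h => hb (by rw [h, zero_pow hp.out.ne_zero])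
    have hdvd : ∀ i, p ∣ b i := by
      intro i
      by_contra hi
      exact hb' (MvPolynomial.coeff_expand_of_not_dvd H hi)
    have hdeg : a.degree = (n + 1) * (p - 1) := by
      by_contra hd
      exact ha (hG.coeff_eq_zero hd)
    have hai : ∀ i, a i + b i = p ^ (r + 1) - 1 := by
      intro i
      have := congrArg (fun v => v i) hab
      simpa using this
    have hge : ∀ i, p - 1 ≤ a i := by
      intro i
      obtain ⟨t, ht⟩ := hdvd i
      have h1 := hai i
      have h2 : p ^ (r + 1) = p * p ^ r := by ring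
      rw [ht, h2] at h1
      -- a i = p * p^r - 1 - p * t
      have h3 : a i + 1 = p * (p ^ r - t) := by
        have : t ≤ p ^ r := by
          by_contra hlt
          push Not at hlt
          have : p * p ^ r < p * t := Nat.mul_lt_mul_of_lt_of_le' hlt le_rfl hp.out.pos |> fun h => by
            simpa [mul_comm] using Nat.mul_lt_mul_of_pos_left hlt hp.out.pos
          omega
        rw [Nat.mul_sub]
        have : p * t ≤ p * p ^ r := Nat.mul_le_mul_left _ this
        have : 1 ≤ p * p ^ r := Nat.one_le_iff_ne_zero.mpr (by positivity)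
        omega
      have h4 : p ^ r - t ≠ 0 := by
        intro h0
        rw [h0, mul_zero] at h3
        omega
      have h5 : p ≤ p * (p ^ r - t) := Nat.le_mul_of_pos_right _ (Nat.pos_of_ne_zero h4)
      omega
    have hsum : ∑ i, a i = ∑ _i : Fin (n + 1), (p - 1) := by
      rw [← Finsupp.degree_eq_sum, hdeg]; simp
    have haeq : a = cvec n (p - 1) := by
      ext i
      show a i = p - 1
      by_contra hi
      have hlt : p - 1 < a i := lt_of_le_of_ne (hge i) (Ne.symm hi)
      have := Finset.sum_lt_sum (fun j _ => hge j) ⟨i, Finset.mem_univ i, hlt⟩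
      omega
    apply hne
    rw [Prod.mk.injEq]
    refine ⟨haeq, ?_⟩
    rw [haeq, hsplit] at hab
    exact add_left_cancel hab
  · intro hnot
    exfalso
    apply hnot
    rw [Finset.mem_antidiagonal]
    exact hsplit.symm

end

section
variable {K : Type u} [Field K] (p : ℕ) [hp : Fact p.Prime] [CharP K p]

theorem coeff_rec (n r : ℕ) (f : MvPolynomial (Fin (n + 1)) K) (hf : f.IsHomogeneous (n + 1)) :
    MvPolynomial.coeff (cvec n (p ^ (r + 1) - 1)) (f ^ (p ^ (r + 1) - 1)) =
      MvPolynomial.coeff (cvec n (p - 1)) (f ^ (p - 1)) *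
        (MvPolynomial.coeff (cvec n (p ^ r - 1)) (f ^ (p ^ r - 1))) ^ p := by
  have hp1 : 1 ≤ p := hp.out.one_le
  have hpr : 1 ≤ p ^ r := Nat.one_le_pow _ _ hp.out.pos
  have hexp : p ^ (r + 1) - 1 = (p - 1) + (p ^ r - 1) * p := by
    have : p ^ (r + 1) = p ^ r * p := by ring
    rw [this, Nat.sub_mul, one_mul]
    have : p ≤ p ^ r * p := Nat.le_mul_of_pos_left _ (by omega)
    omega
  have hpow : f ^ (p ^ (r + 1) - 1) = f ^ (p - 1) * (f ^ (p ^ r - 1)) ^ p := by
    rw [hexp, pow_add, pow_mul]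
  rw [hpow]
  exact key p n r _ _ (hf.pow _)

theorem coeff_ne_zero_iff (n : ℕ) (f : MvPolynomial (Fin (n + 1)) K) (hf : f.IsHomogeneous (n + 1)) (r : ℕ) :
    MvPolynomial.coeff (cvec n (p ^ (r + 1) - 1)) (f ^ (p ^ (r + 1) - 1)) ≠ 0 ↔
      MvPolynomial.coeff (cvec n (p - 1)) (f ^ (p - 1)) ≠ 0 := by
  induction r with
  | zero =>
    simp
  | succ r ih =>
    rw [coeff_rec p n (r + 1) f hf, mul_ne_zero_iff, pow_ne_zero_iff hp.out.ne_zero, ih]
    tauto

end

theorem main66 {k : Type u} [Field k] [Finite k]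
    (p : ℕ) [CharP k p] (n : ℕ) (f : MvPolynomial (Fin (n + 1)) k)
    (hf : f.IsHomogeneous (n + 1)) :
    MvPolynomial.coeff (Finsupp.equivFunOnFinite.symm fun _ : Fin (n + 1) => Nat.card k - 1)
        (f ^ (Nat.card k - 1)) ≠ 0 ↔
      MvPolynomial.coeff (Finsupp.equivFunOnFinite.symm fun _ : Fin (n + 1) => p - 1)
        (f ^ (p - 1)) ≠ 0 := by
  have := Fintype.ofFinite k
  obtain ⟨r, hprime, hcard⟩ := FiniteField.card k p
  have : Fact p.Prime := ⟨hprime⟩
  rw [Nat.card_eq_fintype_card, hcard]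
  obtain ⟨r', hr'⟩ : ∃ r' : ℕ, (r : ℕ) = r' + 1 := ⟨r - 1, by have := r.pos; omega⟩
  rw [hr']
  exact coeff_ne_zero_iff p n f hf r'

end Helpers

/-- Let k be a finite field with q elements and characteristic p, n ≥ 2, and f ∈ k[x_0, …, x_n]
homogeneous of degree n + 1. Then the coefficient of (x_0 ⋯ x_n)^{q−1} in f^{q−1} is nonzero if and
only if the coefficient of (x_0 ⋯ x_n)^{p−1} in f^{p−1} is nonzero. -/
theorem result {k : Type u} [Field k] [Finite k]
    (p : ℕ) [CharP k p] (n : ℕ) (hn : 2 ≤ n) (f : MvPolynomial (Fin (n + 1)) k)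
    (hf : f.IsHomogeneous (n + 1)) :
    MvPolynomial.coeff (Finsupp.equivFunOnFinite.symm fun _ : Fin (n + 1) => Nat.card k - 1)
        (f ^ (Nat.card k - 1)) ≠ 0 ↔
      MvPolynomial.coeff (Finsupp.equivFunOnFinite.symm fun _ : Fin (n + 1) => p - 1)
        (f ^ (p - 1)) ≠ 0 := by
  exact main66 p n f hf

end Groth.Agent.S13066
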