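import Groth.Statements.S13071
import Groth.Agent.Lib.Helper79.FreeQuot
import Mathlib

set_option autoImplicit false
universe u
open CategoryTheory AlgebraicGeometry Limits
open Zeta

namespace Groth.Agent.S13071

theorem aux {k : Type u} [Field k]
    {X : Scheme.{u}} (f : X ⟶ Spec (CommRingCat.of k))
    (g : Spec (CommRingCat.of (AlgebraicClosure k)) ⟶ Spec (CommRingCat.of k))
    (hg : g = Spec.map (CommRingCat.ofHom (algebraMap k (AlgebraicClosure k))))
    (τ : (AlgebraicClosure k ≃ₐ[k] AlgebraicClosure k) → (pullback f g ⟶ pullback f g))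
    (hτ1 : ∀ σ, τ σ ≫ pullback.fst f g = pullback.fst f g)
    (hτ2 : ∀ σ, τ σ ≫ pullback.snd f g =
        pullback.snd f g ≫ Spec.map (CommRingCat.ofHom (σ : AlgebraicClosure k →+* AlgebraicClosure k)))
    (x y : ↑(pullback f g))
    (w : ↑(pullback (pullback.fst f g) (pullback.fst f g)))
    (hw1 : (pullback.fst (pullback.fst f g) (pullback.fst f g)).base w = x)
    (hw2 : (pullback.snd (pullback.fst f g) (pullback.fst f g)).base w = y) :
    ∃ σ, (τ σ).base x = y := by
  -- a geometric point over `w`
  let Ω := AlgebraicClosure ((pullback (pullback.fst f g) (pullback.fst f g)).residueField w)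
  obtain ⟨ξ, hξ⟩ : ∃ ξ : Spec (CommRingCat.of Ω) ⟶ pullback (pullback.fst f g) (pullback.fst f g),
      ∀ t, ξ.base t = w :=
    ⟨Spec.map (CommRingCat.ofHom (algebraMap
      ((pullback (pullback.fst f g) (pullback.fst f g)).residueField w) Ω)) ≫
        (pullback (pullback.fst f g) (pullback.fst f g)).fromSpecResidueField w,
      fun t => by
        show ((pullback (pullback.fst f g) (pullback.fst f g)).fromSpecResidueField w).base _ = w
        exact Scheme.fromSpecResidueField_apply _ _⟩
  obtain ⟨ξx, hξx⟩ : ∃ ξx, ξx = ξ ≫ pullback.fst (pullback.fst f g) (pullback.fst f g) := ⟨_, rfl⟩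
  obtain ⟨ξy, hξy⟩ : ∃ ξy, ξy = ξ ≫ pullback.snd (pullback.fst f g) (pullback.fst f g) := ⟨_, rfl⟩
  have h1 : ξx ≫ pullback.fst f g = ξy ≫ pullback.fst f g := by
    rw [hξx, hξy, Category.assoc, Category.assoc, pullback.condition]
  -- the two embeddings of `k̄`
  obtain ⟨ιx, hιx⟩ : ∃ ι : CommRingCat.of (AlgebraicClosure k) ⟶ CommRingCat.of Ω,
      Spec.map ι = ξx ≫ pullback.snd f g := ⟨Spec.preimage _, Spec.map_preimage _⟩
  obtain ⟨ιy, hιy⟩ : ∃ ι : CommRingCat.of (AlgebraicClosure k) ⟶ CommRingCat.of Ω,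
      Spec.map ι = ξy ≫ pullback.snd f g := ⟨Spec.preimage _, Spec.map_preimage _⟩
  have h2 : CommRingCat.ofHom (algebraMap k (AlgebraicClosure k)) ≫ ιx =
      CommRingCat.ofHom (algebraMap k (AlgebraicClosure k)) ≫ ιy := by
    apply Spec.map_injective
    rw [Spec.map_comp, Spec.map_comp, hιx, hιy, ← hg, Category.assoc, Category.assoc,
      ← pullback.condition, ← Category.assoc, ← Category.assoc, h1]
  obtain ⟨α, hα⟩ := Groth.Agent.Lib.Helper79.FreeQuot.exists_aut_of_normal (F := k)
    (E := AlgebraicClosure k) ιx.hom ιy.hom (by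
      have := congrArg CommRingCat.Hom.hom h2
      rw [CommRingCat.hom_comp, CommRingCat.hom_comp] at this
      exact this)
  refine ⟨α, ?_⟩
  have h3 : ξy = ξx ≫ τ α := by
    apply pullback.hom_ext
    · rw [Category.assoc, hτ1, h1]
    · rw [Category.assoc, hτ2, ← Category.assoc, ← hιx, ← hιy, ← Spec.map_comp]
      congr 1
      apply CommRingCat.hom_ext
      apply RingHom.ext
      intro z
      exact (hα z).symm
  obtain ⟨t⟩ : Nonempty (Spec (CommRingCat.of Ω)) := inferInstance
  have h4 := congrArg (fun m => m.base t) h3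
  have hx : ξx.base t = x := by
    rw [hξx]
    show (pullback.fst (pullback.fst f g) (pullback.fst f g)).base (ξ.base t) = x
    rw [hξ, hw1]
  have hy : ξy.base t = y := by
    rw [hξy]
    show (pullback.snd (pullback.fst f g) (pullback.fst f g)).base (ξ.base t) = y
    rw [hξ, hw2]
  rw [← hx, ← hy]
  exact h4.symm

/-- For a variety X over a perfect field k with algebraic closure k̄, the fibres of the projection π :
X_{k̄} → X are exactly the orbits of G(k̄/k) acting on X_{k̄} (σ acting as id × Spec σ). Stated for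
any scheme of finite type over k; each τ_σ is pinned by τ_σ ≫ pr_1 = pr_1 and τ_σ ≫ pr_2 = pr_2 ≫
Spec σ. -/
theorem result {k : Type u} [Field k] [PerfectField k]
    {X : Scheme.{u}} (f : X ⟶ Spec (CommRingCat.of k)) [LocallyOfFiniteType f] [QuasiCompact f]
    (τ : (AlgebraicClosure k ≃ₐ[k] AlgebraicClosure k) →
      (pullback f (Spec.map (CommRingCat.ofHom (algebraMap k (AlgebraicClosure k)))) ⟶
        pullback f (Spec.map (CommRingCat.ofHom (algebraMap k (AlgebraicClosure k))))))
    (hτ1 : ∀ σ, τ σ ≫ pullback.fst f _ = pullback.fst f _)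
    (hτ2 : ∀ σ, τ σ ≫ pullback.snd f (Spec.map (CommRingCat.ofHom (algebraMap k (AlgebraicClosure k)))) =
        pullback.snd f _ ≫ Spec.map (CommRingCat.ofHom (σ : AlgebraicClosure k →+* AlgebraicClosure k)))
    (x y : ↑(pullback f (Spec.map (CommRingCat.ofHom (algebraMap k (AlgebraicClosure k)))))) :
    (pullback.fst f (Spec.map (CommRingCat.ofHom (algebraMap k (AlgebraicClosure k))))).base x =
        (pullback.fst f (Spec.map (CommRingCat.ofHom (algebraMap k (AlgebraicClosure k))))).base y ↔
      ∃ σ, (τ σ).base x = y := by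
  constructor
  · intro hxy
    -- a point of the fibre product over `(x, y)`
    obtain ⟨w, hw1, hw2⟩ := Scheme.Pullback.exists_preimage_pullback
      (f := pullback.fst f (Spec.map (CommRingCat.ofHom (algebraMap k (AlgebraicClosure k)))))
      (g := pullback.fst f (Spec.map (CommRingCat.ofHom (algebraMap k (AlgebraicClosure k)))))
      x y hxy
    exact Groth.Agent.S13071.aux f _ rfl τ hτ1 hτ2 x y w hw1 hw2
  · rintro ⟨σ, rfl⟩
    exact (congrArg (fun m => m.base x) (hτ1 σ)).symm

end Groth.Agent.S13071
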