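import Groth.Statements.S13075
import Mathlib.RingTheory.PowerSeries.Log
import Mathlib.RingTheory.PowerSeries.Derivative

set_option autoImplicit false
open Zeta

namespace Groth.Agent.S13075

open PowerSeries in
/-- The geometric series `∑ (-1)^n X^n`. -/
noncomputable def G : PowerSeries ℚ := PowerSeries.mk fun n : ℕ => ((-1 : ℚ) ^ n)

open PowerSeries in
lemma G_mul : G * (1 + PowerSeries.X) = 1 := by
  ext n
  rw [mul_add, mul_one, map_add]
  cases n with
  | zero => simp [G]
  | succ n =>
    rw [PowerSeries.coeff_succ_mul_X]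
    simp [G, pow_succ]

open PowerSeries in
lemma log_eq : (PowerSeries.mk fun m : ℕ => if m = 0 then (0 : ℚ) else (-1) ^ (m + 1) / (m : ℚ))
    = PowerSeries.log ℚ := by
  ext n
  simp [PowerSeries.coeff_log]

open PowerSeries in
lemma deriv_log' : d⁄dX ℚ (PowerSeries.log ℚ) = G := by
  rw [PowerSeries.deriv_log]
  ext n
  simp [G]

open PowerSeries in
lemma deriv_G : d⁄dX ℚ G = - (G * G) := by
  have h := congrArg (d⁄dX ℚ) G_mul
  rw [Derivation.leibniz] at h
  simp only [map_add, PowerSeries.derivative_X, smul_eq_mul] at h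
  have h1 : d⁄dX ℚ (1 : PowerSeries ℚ) = 0 := PowerSeries.derivative_one
  rw [h1] at h
  have h2 : (G * (1 + PowerSeries.X)) * d⁄dX ℚ G = - (G * G) := by
    have : (G * (1 + PowerSeries.X)) * d⁄dX ℚ G = G * ((1 + PowerSeries.X) * d⁄dX ℚ G) := by ring
    rw [this]
    have h3 : (1 + PowerSeries.X) * d⁄dX ℚ G = - G := by
      linear_combination h
    rw [h3]; ring
  rwa [G_mul, one_mul] at h2

/-- For the formal power series exp(t) = ∑_{m ≥ 0} t^m / m! and log(1 + t) = ∑_{m ≥ 1} (−1)^{m+1} t^m /
m over ℚ, log(exp(u)) = u and exp(log(1 + u)) = 1 + u for every u ∈ tℚ⟦t⟧; stated for u = t (the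
general case is obtained by substitution): substituting exp(t) − 1 into log(1 + ·) gives t, and
substituting log(1 + t) into exp gives 1 + t. -/
theorem result :
    PowerSeries.subst (PowerSeries.exp ℚ - 1)
        (PowerSeries.mk fun m : ℕ => if m = 0 then (0 : ℚ) else (-1) ^ (m + 1) / (m : ℚ)) =
      PowerSeries.X ∧
    PowerSeries.subst (PowerSeries.mk fun m : ℕ => if m = 0 then (0 : ℚ) else (-1) ^ (m + 1) / (m : ℚ))
        (PowerSeries.exp ℚ) = 1 + PowerSeries.X := by
  rw [log_eq]
  have hs1 : PowerSeries.HasSubst (PowerSeries.exp ℚ - 1) := PowerSeries.HasSubst.exp_sub_one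
  have hs2 : PowerSeries.HasSubst (PowerSeries.log ℚ) := PowerSeries.HasSubst.log
  constructor
  · apply PowerSeries.derivative.ext
    · rw [PowerSeries.derivative_subst hs1, deriv_log', PowerSeries.derivative_X, map_sub,
        PowerSeries.derivative_exp, PowerSeries.derivative_one, sub_zero]
      have h := congrArg (PowerSeries.subst (PowerSeries.exp ℚ - 1)) G_mul
      rw [PowerSeries.subst_mul hs1, PowerSeries.subst_add hs1, PowerSeries.subst_X hs1] at h
      have h1 : PowerSeries.subst (PowerSeries.exp ℚ - 1) (1 : PowerSeries ℚ) = 1 := by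
        rw [← PowerSeries.coe_substAlgHom hs1, map_one]
      rw [h1] at h
      have h2 : (1 : PowerSeries ℚ) + (PowerSeries.exp ℚ - 1) = PowerSeries.exp ℚ := by ring
      rw [h2] at h
      exact h
    · rw [PowerSeries.constantCoeff_X]
      refine PowerSeries.constantCoeff_subst_eq_zero ?_ _ PowerSeries.constantCoeff_log
      rw [map_sub, map_one, ← PowerSeries.constantCoeff_eq, PowerSeries.constantCoeff_exp, sub_self]
  · set E := PowerSeries.subst (PowerSeries.log ℚ) (PowerSeries.exp ℚ) with hE
    have hdE : PowerSeries.derivative ℚ E = E * G := by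
      rw [hE, PowerSeries.derivative_subst hs2, PowerSeries.derivative_exp, deriv_log']
    have hEG : E * G = 1 := by
      apply PowerSeries.derivative.ext
      · rw [Derivation.leibniz, hdE, deriv_G, PowerSeries.derivative_one]
        simp only [smul_eq_mul]
        ring
      · have hE1 : PowerSeries.constantCoeff E = 1 := by
          have h0 : PowerSeries.exp ℚ = 1 + (PowerSeries.exp ℚ - 1) := by ring
          have h1 : PowerSeries.subst (PowerSeries.log ℚ) (1 : PowerSeries ℚ) = 1 := by
            rw [← PowerSeries.coe_substAlgHom hs2, map_one]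
          have h2 : PowerSeries.constantCoeff
              (PowerSeries.subst (PowerSeries.log ℚ) (PowerSeries.exp ℚ - 1)) = 0 := by
            refine PowerSeries.constantCoeff_subst_eq_zero PowerSeries.constantCoeff_log _ ?_
            rw [map_sub, map_one, PowerSeries.constantCoeff_exp, sub_self]
          rw [hE, h0, PowerSeries.subst_add hs2, h1, map_add, h2, map_one, add_zero]
        have hG1 : PowerSeries.constantCoeff G = 1 := by
          rw [← PowerSeries.coeff_zero_eq_constantCoeff_apply]
          simp [G]
        rw [map_mul, hE1, hG1, map_one, mul_one]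
    calc E = E * (G * (1 + PowerSeries.X)) := by rw [G_mul, mul_one]
      _ = (E * G) * (1 + PowerSeries.X) := by ring
      _ = 1 + PowerSeries.X := by rw [hEG, one_mul]

end Groth.Agent.S13075
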