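import Groth.Statements.S13079
import Groth.Agent.Lib.Helper79.QuotFlatBC
import Groth.Agent.Lib.Helper79.QuotStage

set_option autoImplicit false
universe u
open CategoryTheory AlgebraicGeometry Limits
open Zeta

namespace Groth.Agent.S13079

/-- Suppose the finite groups G and H act by algebraic k-automorphisms on schemes X and Y of finite type
over k, both admitting quotients X → X/G and Y → Y/H (equivalently, covered by invariant affine
opens). Then X × Y has the same property for the product action of G × H and (X × Y)/(G × H) ≅ X/G ×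
Y/H: the morphism X ×_k Y → X/G ×_k Y/H with components the two quotient maps is a quotient for the
product action. The product action θ and that morphism π are pinned by their composites with the
projections. -/
theorem result {k : Type u} [Field k] {G H : Type u} [Group G] [Finite G] [Group H]
    [Finite H] {X Y XG YH : Scheme.{u}} (fX : X ⟶ Spec (CommRingCat.of k))
    (fY : Y ⟶ Spec (CommRingCat.of k)) [LocallyOfFiniteType fX] [QuasiCompact fX]
    [LocallyOfFiniteType fY] [QuasiCompact fY] (gX : XG ⟶ Spec (CommRingCat.of k))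
    (gY : YH ⟶ Spec (CommRingCat.of k)) (ρ : G →* Aut X) (σ : H →* Aut Y)
    (hρ : ∀ g, (ρ g).hom ≫ fX = fX) (hσ : ∀ h, (σ h).hom ≫ fY = fY)
    (p : X ⟶ XG) (hp : p ≫ gX = fX) (q : Y ⟶ YH) (hq : q ≫ gY = fY)
    (hP : SGA1.IsQuot ρ p) (hQ : SGA1.IsQuot σ q)
    (θ : G × H →* Aut (pullback fX fY))
    (hθ1 : ∀ gh : G × H, (θ gh).hom ≫ pullback.fst fX fY = pullback.fst fX fY ≫ (ρ gh.1).hom)
    (hθ2 : ∀ gh : G × H, (θ gh).hom ≫ pullback.snd fX fY = pullback.snd fX fY ≫ (σ gh.2).hom)
    (π : pullback fX fY ⟶ pullback gX gY) (hπ1 : π ≫ pullback.fst gX gY = pullback.fst fX fY ≫ p)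
    (hπ2 : π ≫ pullback.snd gX gY = pullback.snd fX fY ≫ q) :
    SGA1.IsQuot θ π := by
  have hflatY : Flat fY := inferInstance
  have hflatX : Flat gX := inferInstance
  let π₁ : pullback fX fY ⟶ pullback gX fY :=
    pullback.map fX fY gX fY p (𝟙 Y) (𝟙 _) (by rw [Category.comp_id, hp]) (by simp)
  let π₂ : pullback gX fY ⟶ pullback gX gY :=
    pullback.map gX fY gX gY (𝟙 XG) q (𝟙 _) (by simp) (by rw [Category.comp_id, hq])
  have hπ₁f : π₁ ≫ pullback.fst gX fY = pullback.fst fX fY ≫ p := by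
    simp only [π₁, pullback.map]
    rw [pullback.lift_fst]
  have hπ₁s : π₁ ≫ pullback.snd gX fY = pullback.snd fX fY := by
    simp only [π₁, pullback.map]
    rw [pullback.lift_snd, Category.comp_id]
  have hπ₂f : π₂ ≫ pullback.fst gX gY = pullback.fst gX fY := by
    simp only [π₂, pullback.map]
    rw [pullback.lift_fst, Category.comp_id]
  have hπ₂s : π₂ ≫ pullback.snd gX gY = pullback.snd gX fY ≫ q := by
    simp only [π₂, pullback.map]
    rw [pullback.lift_snd]
  have hπ : π = π₁ ≫ π₂ := by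
    apply pullback.hom_ext
    · rw [hπ1, Category.assoc, hπ₂f, hπ₁f]
    · rw [hπ2, Category.assoc, hπ₂s, reassoc_of% hπ₁s]
  -- the first stage
  have hsq1 : IsPullback (pullback.fst fX fY) π₁ p (pullback.fst gX fY) := by
    refine IsPullback.of_bot ?_ hπ₁f.symm (IsPullback.of_hasPullback gX fY)
    rw [hπ₁s, hp]
    exact IsPullback.of_hasPullback fX fY
  have hρ1 : (ρ 1).hom = 𝟙 X := by rw [map_one]; rfl
  have hσ1 : (σ 1).hom = 𝟙 Y := by rw [map_one]; rfl
  have h₁ : SGA1.IsQuot (θ.comp (MonoidHom.inl G H)) π₁ := by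
    refine Groth.Agent.Lib.Helper79.QuotFlatBC.isQuot_of_flat_baseChange ρ p hP
      (pullback.fst gX fY) (pullback.fst fX fY) π₁ hsq1 _ (fun g => hθ1 (g, 1)) (fun g => ?_)
    show (θ (g, 1)).hom ≫ π₁ = π₁
    apply pullback.hom_ext
    · rw [Category.assoc, hπ₁f, reassoc_of% (hθ1 (g, 1)), hP.inv]
    · rw [Category.assoc, hπ₁s, hθ2 (g, 1), hσ1, Category.comp_id]
  -- the second stage
  have hsq2 : IsPullback (pullback.snd gX fY) π₂ q (pullback.snd gX gY) := by
    refine IsPullback.of_bot ?_ hπ₂s.symm (IsPullback.of_hasPullback gX gY).flip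
    rw [hπ₂f, hq]
    exact (IsPullback.of_hasPullback gX fY).flip
  have h₂ : SGA1.IsQuot (Groth.Agent.Lib.Helper79.QuotStage.sndAut gX fY σ hσ) π₂ := by
    refine Groth.Agent.Lib.Helper79.QuotFlatBC.isQuot_of_flat_baseChange σ q hQ
      (pullback.snd gX gY) (pullback.snd gX fY) π₂ hsq2 _
      (fun h => Groth.Agent.Lib.Helper79.QuotStage.sndAut_snd gX fY σ hσ h) (fun h => ?_)
    apply pullback.hom_ext
    · rw [Category.assoc, hπ₂f, Groth.Agent.Lib.Helper79.QuotStage.sndAut_fst]
    · rw [Category.assoc, hπ₂s, Groth.Agent.Lib.Helper79.QuotStage.sndAut_snd_assoc, hQ.inv]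
  rw [hπ]
  refine Groth.Agent.Lib.Helper79.QuotStage.isQuot_comp_of_stage θ π₁ π₂ h₁
    (Groth.Agent.Lib.Helper79.QuotStage.sndAut gX fY σ hσ) (fun h => ?_) h₂
  apply pullback.hom_ext
  · rw [Category.assoc, hπ₁f, reassoc_of% (hθ1 (1, h)), hρ1, Category.id_comp, Category.assoc,
      Groth.Agent.Lib.Helper79.QuotStage.sndAut_fst, hπ₁f]
  · rw [Category.assoc, hπ₁s, hθ2 (1, h), Category.assoc,
      Groth.Agent.Lib.Helper79.QuotStage.sndAut_snd, reassoc_of% hπ₁s]

end Groth.Agent.S13079
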