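import Groth.Statements.S13080
import Groth.Agent.Lib.Helper79.QuotCoset
import Groth.Agent.Lib.Helper69.QuotGlue
import Groth.Agent.S13606
import Mathlib

set_option autoImplicit false
universe u
open CategoryTheory AlgebraicGeometry Limits
open Zeta

namespace Groth.Agent.S13080

/-- Let G be a finite group acting by algebraic automorphisms over k on a scheme X of finite type over k
admitting a quotient p : X → X/G, H ⊆ G a subgroup and Y ⊆ X an open subset preserved by H such that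
X is the disjoint union of the translates Y g over the cosets of G mod H. Then the natural morphism
Y/H → X/G is an isomorphism: Y → X/G is a quotient of Y by H. The action of H on Y is pinned by
compatibility with the inclusion Y → X; the coset condition is stated as: the translates of Y cover
X, and g(Y) is disjoint from Y for g ∉ H. -/
theorem result {k : Type u} [Field k] {G : Type u} [Group G]
    [Finite G] {X XG : Scheme.{u}} (fX : X ⟶ Spec (CommRingCat.of k)) [LocallyOfFiniteType fX]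
    [QuasiCompact fX] (ρ : G →* Aut X) (hρ : ∀ g, (ρ g).hom ≫ fX = fX) (p : X ⟶ XG)
    (hP : SGA1.IsQuot ρ p) (H : Subgroup G) (Y : X.Opens)
    (hcov : ∀ x : X, ∃ g : G, x ∈ (ρ g).hom.base '' (Y : Set X))
    (hdisj : ∀ g : G, g ∉ H → Disjoint ((ρ g).hom.base '' (Y : Set X)) (Y : Set X))
    (ρY : H →* Aut (Y : Scheme.{u})) (hρY : ∀ h : H, (ρY h).hom ≫ Y.ι = Y.ι ≫ (ρ (h : G)).hom) :
    SGA1.IsQuot ρY (Y.ι ≫ p) := by
  classical
  -- `Y` is `H`-stable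
  have hYstab : ∀ (h : H) (x : X), x ∈ Y → (ρ (h : G)).hom.base x ∈ Y := by
    intro h x hx
    have h1 := congrArg (fun k => k.base ⟨x, hx⟩) (hρY h)
    have h2 : (ρ (h : G)).hom.base x = Y.ι.base ((ρY h).hom.base ⟨x, hx⟩) := h1.symm
    rw [h2]
    exact ((ρY h).hom.base ⟨x, hx⟩).2
  have hinv : ∀ h : H, (ρY h).hom ≫ Y.ι ≫ p = Y.ι ≫ p := by
    intro h
    rw [← Category.assoc, hρY h, Category.assoc, hP.inv]
  have hpinv : ∀ (g : G) (x : X), p.base ((ρ g).hom.base x) = p.base x := fun g x =>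
    congrArg (fun k => k.base x) (hP.inv g)
  -- `Y` is closed
  have hclosed : IsClosed (Y : Set X) := by
    rw [← isOpen_compl_iff]
    have : (Y : Set X)ᶜ = ⋃ g ∈ {g : G | g ∉ H}, (ρ g).hom.base '' (Y : Set X) := by
      ext x
      simp only [Set.mem_compl_iff, Set.mem_iUnion, exists_prop]
      constructor
      · intro hx
        obtain ⟨g, hg⟩ := hcov x
        refine ⟨g, fun hgH => hx ?_, hg⟩
        obtain ⟨y, hy, rfl⟩ := hg
        exact hYstab ⟨g, hgH⟩ y hy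
      · rintro ⟨g, hgH, hg⟩ hx
        exact (Set.disjoint_left.mp (hdisj g hgH)) hg hx
    rw [this]
    refine isOpen_biUnion fun g _ => ?_
    have : IsIso (ρ g).hom := Iso.isIso_hom (ρ g)
    exact (ρ g).hom.isOpenEmbedding.isOpenMap _ Y.isOpen
  have hci : IsClosedImmersion Y.ι :=
    .of_isPreimmersion _ (by rw [Scheme.Opens.range_ι]; exact hclosed)
  have haff := hP.affine
  refine ⟨inferInstance, hinv, ?_, ?_⟩
  all_goals
    intro U
    have hYW : Y.ι ''ᵁ ((Y.ι ≫ p) ⁻¹ᵁ U) ≤ p ⁻¹ᵁ U := by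
      rintro _ ⟨y, hy, rfl⟩
      exact hy
    have hmemY' : ∀ x : X, x ∈ Y.ι ''ᵁ ((Y.ι ≫ p) ⁻¹ᵁ U) ↔ x ∈ Y ∧ p.base x ∈ U := by
      intro x
      constructor
      · rintro ⟨y, hy, rfl⟩
        exact ⟨y.2, hy⟩
      · rintro ⟨hx, hxU⟩
        exact ⟨⟨x, hx⟩, hxU, rfl⟩
    have hW : ∀ g : G, p ⁻¹ᵁ U ≤ (ρ g).hom ⁻¹ᵁ (p ⁻¹ᵁ U) := fun g =>
      SGA1.preimage_le_of_inv ρ p hP.inv g U
    have hcov' : ∀ x : X, x ∈ p ⁻¹ᵁ U → ∃ g : G, (ρ g).hom.base x ∈ Y.ι ''ᵁ ((Y.ι ≫ p) ⁻¹ᵁ U) := by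
      intro x hx
      obtain ⟨g, y, hy, rfl⟩ := hcov x
      refine ⟨g⁻¹, (hmemY' _).mpr ?_⟩
      have h1 : (ρ g⁻¹).hom.base ((ρ g).hom.base y) = y := by
        have h2 : (ρ g).hom ≫ (ρ g⁻¹).hom = 𝟙 X := by
          rw [← Groth.Agent.Lib.Helper79.QuotCoset.hom_mul, inv_mul_cancel, map_one]; rfl
        exact congrArg (fun k => k.base y) h2
      rw [h1]
      refine ⟨hy, ?_⟩
      have : p.base ((ρ g).hom.base y) ∈ U := hx
      rwa [hpinv] at this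
    have hqapp : ∀ a : Γ(XG, U), ((Y.ι ≫ p).app U).hom a =
        (X.presheaf.map (homOfLE hYW).op).hom ((p.app U).hom a) := fun a => rfl
  · intro a b hab
    apply hP.injective U
    refine Groth.Agent.Lib.Helper79.QuotCoset.eq_of_res_eq ρ _ _ hW hYW hcov' _ _
      (fun g => Groth.Agent.Lib.Helper69.QuotGlue.invariant_of_mem_range ρ p hP.inv U _ ⟨a, rfl⟩ g)
      (fun g => Groth.Agent.Lib.Helper69.QuotGlue.invariant_of_mem_range ρ p hP.inv U _ ⟨b, rfl⟩ g)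
      ?_
    rw [← hqapp, ← hqapp]
    exact hab
  · intro s
    constructor
    · intro hs h
      exact Groth.Agent.Lib.Helper69.QuotGlue.invariant_of_mem_range ρY (Y.ι ≫ p) hinv U s hs h
    · intro hs
      have hH : ∀ h : G, h ∈ H → Y.ι ''ᵁ ((Y.ι ≫ p) ⁻¹ᵁ U) ≤
          (ρ h).hom ⁻¹ᵁ (Y.ι ''ᵁ ((Y.ι ≫ p) ⁻¹ᵁ U)) := by
        intro h hh x hx
        rw [hmemY'] at hx
        show (ρ h).hom.base x ∈ Y.ι ''ᵁ ((Y.ι ≫ p) ⁻¹ᵁ U)
        rw [hmemY', hpinv]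
        exact ⟨hYstab ⟨h, hh⟩ x hx.1, hx.2⟩
      have hdisj' : ∀ (g : G) (x : X), x ∈ Y.ι ''ᵁ ((Y.ι ≫ p) ⁻¹ᵁ U) →
          (ρ g).hom.base x ∈ Y.ι ''ᵁ ((Y.ι ≫ p) ⁻¹ᵁ U) → g ∈ H := by
        intro g x hx hgx
        by_contra hgH
        exact (Set.disjoint_left.mp (hdisj g hgH)) ⟨x, ((hmemY' x).mp hx).1, rfl⟩
          ((hmemY' _).mp hgx).1
      have hs' : ∀ (h : G) (hh : h ∈ H),
          ((ρ h).hom.appLE (Y.ι ''ᵁ ((Y.ι ≫ p) ⁻¹ᵁ U)) (Y.ι ''ᵁ ((Y.ι ≫ p) ⁻¹ᵁ U))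
            (hH h hh)).hom s = s := by
        intro h hh
        have e1 := Groth.Agent.S13606.restrict_appLE (ρY ⟨h, hh⟩).hom (ρ h).hom (hρY ⟨h, hh⟩)
          ((Y.ι ≫ p) ⁻¹ᵁ U) ((Y.ι ≫ p) ⁻¹ᵁ U)
          (SGA1.preimage_le_of_inv ρY (Y.ι ≫ p) hinv ⟨h, hh⟩ U) (hH h hh)
        rw [← e1]
        exact hs ⟨h, hh⟩
      obtain ⟨t, htinv, hts⟩ := Groth.Agent.Lib.Helper79.QuotCoset.exists_invariant_extension ρ
        (Y.ι ''ᵁ ((Y.ι ≫ p) ⁻¹ᵁ U)) (p ⁻¹ᵁ U) H hW hYW hH hdisj' hcov' s hs'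
      obtain ⟨a, ha⟩ := (hP.range_iff U t).mpr htinv
      refine ⟨a, ?_⟩
      rw [hqapp, ha]
      exact hts

end Groth.Agent.S13080
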