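import Groth.Statements.S2913
-- import your own Groth.Agent.* helpers here

set_option autoImplicit false
open CategoryTheory CategoryTheory.Limits AlgebraicGeometry Opposite
universe u
open SGA1

namespace Groth.Agent.S2913

/-- Let g : S' ⟶ S be a surjective morphism of schemes such that for every open U of S the map O_S(U) →
O_{S'}(g⁻¹U) is injective. Then g is an epimorphism in the category of schemes. -/
theorem result {S' S : Scheme.{u}} (g : S' ⟶ S) [Surjective g]
    (hinj : ∀ U : S.Opens, Function.Injective (g.app U).hom) : Epi g := by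
  constructor
  intro Z a b hab
  have hbase : a.base = b.base := by
    have h1 : g.base ≫ a.base = g.base ≫ b.base := by
      have := congrArg (fun f => f.base) hab
      simpa using this
    have : Epi g.base := (TopCat.epi_iff_surjective _).mpr g.surjective
    exact (cancel_epi g.base).mp h1
  refine Scheme.Hom.ext hbase ?_
  intro U
  have hmono : Mono (g.app (b ⁻¹ᵁ U)) :=
    ConcreteCategory.mono_of_injective _ (hinj _)
  rw [← cancel_mono (g.app (b ⁻¹ᵁ U))]
  have hU' : a ⁻¹ᵁ U = b ⁻¹ᵁ U := by rw [hbase]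
  have hU : g ⁻¹ᵁ a ⁻¹ᵁ U = g ⁻¹ᵁ b ⁻¹ᵁ U := by rw [hU']
  have h2 : a.app U ≫ g.app (a ⁻¹ᵁ U) =
      (b.app U ≫ g.app (b ⁻¹ᵁ U)) ≫ S'.presheaf.map (eqToHom hU).op :=
    Scheme.Hom.congr_app hab U
  rw [Category.assoc, Scheme.Hom.naturality, ← Category.assoc, h2]
  rw [Category.assoc, ← Functor.map_comp]
  have : ((eqToHom hU).op ≫ ((TopologicalSpace.Opens.map g.base).map
      (eqToHom (congrArg (fun f => (TopologicalSpace.Opens.map f).obj U) hbase.symm)).op.unop).op) = 𝟙 _ :=
    Subsingleton.elim _ _
  rw [this, S'.presheaf.map_id, Category.comp_id]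

end Groth.Agent.S2913
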