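import Groth.Statements.S13081
import Groth.Agent.Lib.Helper67.QuotAffine
import Groth.Agent.Lib.Helper69.QuotGlue
import Groth.Agent.S2913
import Mathlib

set_option autoImplicit false
universe u
open CategoryTheory AlgebraicGeometry Limits
open Zeta

namespace Groth.Agent.S13081

theorem appLE_congr_hom {X Y : Scheme.{u}} {f f' : X ⟶ Y} (h : f = f') (U : Y.Opens) (V : X.Opens)
    (e : V ≤ f ⁻¹ᵁ U) (e' : V ≤ f' ⁻¹ᵁ U) : f.appLE U V e = f'.appLE U V e' := by
  subst h
  rfl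

/-- compatibility of the actions upstairs and downstairs on sections -/
theorem app_comp_act {X Y : Scheme.{u}} (q : X ⟶ Y) (a : X ⟶ X) (b : Y ⟶ Y) (h : q ≫ b = a ≫ q)
    (V : Y.Opens) (e : q ⁻¹ᵁ V ≤ a ⁻¹ᵁ (q ⁻¹ᵁ V)) (e' : V ≤ b ⁻¹ᵁ V) :
    q.app V ≫ a.appLE (q ⁻¹ᵁ V) (q ⁻¹ᵁ V) e = b.appLE V V e' ≫ q.app V := by
  rw [Scheme.Hom.app_eq_appLE, Scheme.Hom.appLE_comp_appLE, Scheme.Hom.appLE_comp_appLE]
  exact (appLE_congr_hom h _ _ _ _).symm

/-- Let G be a finite group acting by algebraic automorphisms over k on a scheme X of finite type over k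
admitting a quotient X → X/G, and H a normal subgroup of G. Then X/H carries an induced action of
G/H and its quotient by this action is X/G: the induced morphism r : X/H → X/G is a quotient of X/H
by G/H. The induced action ρ̄ is pinned by p_H ≫ ρ̄(ḡ) = ρ(g) ≫ p_H and r by p_H ≫ r = p. -/
theorem result {k : Type u} [Field k] {G : Type u} [Group G]
    [Finite G] {X XG XH : Scheme.{u}} (fX : X ⟶ Spec (CommRingCat.of k)) [LocallyOfFiniteType fX]
    [QuasiCompact fX] (ρ : G →* Aut X) (hρ : ∀ g, (ρ g).hom ≫ fX = fX) (p : X ⟶ XG)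
    (hP : SGA1.IsQuot ρ p) (H : Subgroup G) [H.Normal] (pH : X ⟶ XH)
    (hPH : SGA1.IsQuot (ρ.comp H.subtype) pH) (ρbar : G ⧸ H →* Aut XH)
    (hρbar : ∀ g : G, pH ≫ (ρbar (QuotientGroup.mk g)).hom = (ρ g).hom ≫ pH)
    (r : XH ⟶ XG) (hr : pH ≫ r = p) :
    SGA1.IsQuot ρbar r := by
  subst hr
  obtain ⟨hHsurj, -, -⟩ := Groth.Agent.S2908.result (ρ.comp H.subtype) pH hPH
  have : Surjective pH := ⟨hHsurj⟩
  have : Epi pH := Groth.Agent.S2913.result pH hPH.injective
  have hinv : ∀ gbar : G ⧸ H, (ρbar gbar).hom ≫ r = r := by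
    intro gbar
    obtain ⟨g, rfl⟩ := QuotientGroup.mk_surjective gbar
    rw [← cancel_epi pH, ← Category.assoc, hρbar g, Category.assoc]
    exact hP.inv g
  refine ⟨?_, hinv, ?_, ?_⟩
  · constructor
    intro U hU
    apply Groth.Agent.Lib.Helper67.QuotAffine.isAffineOpen_of_preimage (ρ.comp H.subtype) pH hPH
    exact hP.affine.isAffine_preimage U hU
  · intro U a b hab
    apply hP.injective U
    exact congrArg (pH.app (r ⁻¹ᵁ U)).hom hab
  · intro U s
    constructor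
    · intro hs gbar
      exact Groth.Agent.Lib.Helper69.QuotGlue.invariant_of_mem_range ρbar r hinv U s hs gbar
    · intro hs
      have hs' : ∀ g : G, ((ρ g).hom.appLE ((pH ≫ r) ⁻¹ᵁ U) ((pH ≫ r) ⁻¹ᵁ U)
          (SGA1.preimage_le_of_inv ρ (pH ≫ r) hP.inv g U)).hom ((pH.app (r ⁻¹ᵁ U)).hom s) =
          (pH.app (r ⁻¹ᵁ U)).hom s := by
        intro g
        have h1 := app_comp_act pH (ρ g).hom (ρbar (QuotientGroup.mk g)).hom (hρbar g) (r ⁻¹ᵁ U)
          (SGA1.preimage_le_of_inv ρ (pH ≫ r) hP.inv g U)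
          (SGA1.preimage_le_of_inv ρbar r hinv (QuotientGroup.mk g) U)
        have h2 := congrArg (fun k => k.hom s) h1
        simp only [CommRingCat.hom_comp, RingHom.comp_apply] at h2
        rw [hs (QuotientGroup.mk g)] at h2
        exact h2
      obtain ⟨t, ht⟩ := (hP.range_iff U _).mpr hs'
      refine ⟨t, hPH.injective _ ?_⟩
      exact ht

end Groth.Agent.S13081
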