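import Groth.Statements.S13088
import Groth.Agent.Lib.Helper28.Lie3Orig
import Mathlib.RingTheory.Ideal.MinimalPrime.Basic

set_option autoImplicit false
universe u
open Lie3Mod

namespace Groth.Agent.S13088

open Groth.Agent.Lib.Helper28.Lie3 MvPolynomial Lie3Mod

lemma ker_rhoL (A : Type u) [CommRing A] : RingHom.ker (rhoL A).toRingHom = idL A := by
  ext x
  constructor
  · intro hx
    exact mem_idL_of_rhoL_eq_zero A hx
  · intro hx
    exact rhoL_eq_zero_of_mem A hx

/-- Let A be a commutative domain and D = A[a,b,c,d,e,f,g,h,i]. Then the ideal L = (a − i, b + f, d + h)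
of D is minimal among the prime ideals of D containing the Jacobi ideal I = (Q1, Q2, Q3), where Q1 =
ah + di − fg − bg, Q2 = ie + bd − fh − ae, Q3 = hc + dc − af − bi. (The published statement is made
with a regular base ring in force, used there as a domain; the printed argument uses only that the
base ring is a domain, which is the hypothesis taken here.) -/
theorem result (A : Type u) [CommRing A] [IsDomain A] :
    Lie3Mod.idL A ∈ (Lie3Mod.idI A).minimalPrimes := by
  have hprime : (idL A).IsPrime := by
    rw [← ker_rhoL]
    exact RingHom.ker_isPrime _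
  have hdet : detM A ∉ idL A := by
    intro h
    have h1 := rhoL_eq_zero_of_mem A h
    have h2 := coeff_rhoL_detM A
    rw [h1, coeff_zero] at h2
    have : (1 : A) = 0 := by
      have := congrArg Neg.neg h2
      simpa using this.symm
    exact one_ne_zero this
  refine ⟨⟨hprime, idI_le_idL A⟩, ?_⟩
  rintro q ⟨hq, hIq⟩ hqL x hx
  have h1 : detM A * x ∈ q := hIq (detM_mul_mem_idI A hx)
  rcases hq.mem_or_mem h1 with h2 | h2
  · exact absurd (hqL h2) hdet
  · exact h2

end Groth.Agent.S13088
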