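import Groth.Statements.S13096
import Mathlib
-- import your own Groth.Agent.* helpers here

set_option autoImplicit false
universe u v
open CAlg

namespace Groth.Agent.S13096


/-- A surjective ring endomorphism of a Noetherian ring is injective. -/
theorem noeth_inj {B : Type*} [CommRing B] [IsNoetherianRing B] (f : B →+* B)
    (hf : Function.Surjective f) : Function.Injective f := by
  have hmono : Monotone (fun n : ℕ => RingHom.ker (f ^ n)) := by
    apply monotone_nat_of_le_succ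
    intro n x hx
    rw [RingHom.mem_ker] at hx ⊢
    rw [pow_succ', RingHom.mul_def, RingHom.comp_apply, hx, map_zero]
  obtain ⟨n, hn⟩ := monotone_stabilizes_iff_noetherian.2 ‹IsNoetherianRing B› ⟨_, hmono⟩
  have hsurj : Function.Surjective (f ^ n) := by
    rw [RingHom.coe_pow]
    exact hf.iterate n
  rw [injective_iff_map_eq_zero]
  intro x hx
  obtain ⟨y, rfl⟩ := hsurj x
  have h1 : y ∈ RingHom.ker (f ^ (n + 1)) := by
    rw [RingHom.mem_ker, pow_succ', RingHom.mul_def, RingHom.comp_apply, hx]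
  have h2 : RingHom.ker (f ^ n) = RingHom.ker (f ^ (n + 1)) := hn (n + 1) (Nat.le_succ n)
  rw [← h2, RingHom.mem_ker] at h1
  exact h1

/-- Finitely many polynomials have coefficients in a Noetherian subring. -/
theorem exists_noeth_subring {R : Type*} [CommRing R] {σ : Type*}
    (F : Set (MvPolynomial σ R)) (hF : F.Finite) :
    ∃ R₀ : Subalgebra ℤ R, IsNoetherianRing R₀ ∧
      ∀ f ∈ F, f ∈ Set.range (MvPolynomial.map (algebraMap R₀ R)) := by
  have hfin : (⋃ f ∈ F, (f.coeffs : Set R)).Finite :=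
    hF.biUnion (fun f _ => f.coeffs.finite_toSet)
  refine ⟨Algebra.adjoin ℤ (⋃ f ∈ F, (f.coeffs : Set R)), ?_, ?_⟩
  · have := Algebra.FiniteType.adjoin_of_finite (R := ℤ) hfin
    exact Algebra.FiniteType.isNoetherianRing ℤ _
  · intro f hf
    rw [MvPolynomial.mem_range_map_iff_coeffs_subset]
    intro c hc
    have : c ∈ Algebra.adjoin ℤ (⋃ f ∈ F, (f.coeffs : Set R)) :=
      Algebra.subset_adjoin (Set.mem_biUnion hf hc)
    exact ⟨⟨c, this⟩, rfl⟩


/-- The Noetherian model. -/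
theorem model_inj {R₀ : Type*} [CommRing R₀] [IsNoetherianRing R₀] {n m : ℕ}
    (v₀ : Fin m → MvPolynomial (Fin n) R₀) (g₀ h₀ : Fin n → MvPolynomial (Fin n) R₀)
    (U₀ : MvPolynomial (Fin n) R₀)
    (c1₀ : Fin m → Fin m → MvPolynomial (Fin n) R₀)
    (c2₀ : Fin n → Fin m → MvPolynomial (Fin n) R₀)
    (c3₀ : Fin m → MvPolynomial (Fin n) R₀)
    (w1₀ : ∀ j, ∑ k, c1₀ j k * v₀ k = MvPolynomial.aeval g₀ (v₀ j))
    (w2₀ : ∀ i, ∑ k, c2₀ i k * v₀ k = MvPolynomial.aeval g₀ (h₀ i) - MvPolynomial.X i)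
    (w3₀ : ∑ k, c3₀ k * v₀ k = MvPolynomial.aeval g₀ U₀) :
    ∃ c : Fin m → MvPolynomial (Fin n) R₀, ∑ k, c k * v₀ k = U₀ := by
  classical
  let I₀ : Ideal (MvPolynomial (Fin n) R₀) := Ideal.span (Set.range v₀)
  have hsum : ∀ c : Fin m → MvPolynomial (Fin n) R₀, ∑ k, c k * v₀ k ∈ I₀ := fun c =>
    Ideal.sum_mem _ (fun k _ => Ideal.mul_mem_left _ _ (Ideal.subset_span ⟨k, rfl⟩))
  have hI₀G : ∀ a ∈ I₀, MvPolynomial.aeval g₀ a ∈ I₀ := by
    have : I₀ ≤ Ideal.comap (MvPolynomial.aeval g₀ : MvPolynomial (Fin n) R₀ →ₐ[R₀] _) I₀ := by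
      rw [Ideal.span_le]
      rintro _ ⟨j, rfl⟩
      change MvPolynomial.aeval g₀ (v₀ j) ∈ I₀
      rw [← w1₀ j]
      exact hsum _
    exact fun a ha => this ha
  let β : (MvPolynomial (Fin n) R₀ ⧸ I₀) →+* (MvPolynomial (Fin n) R₀ ⧸ I₀) :=
    Ideal.Quotient.lift I₀ ((Ideal.Quotient.mk I₀).comp
      (MvPolynomial.aeval g₀ : MvPolynomial (Fin n) R₀ →ₐ[R₀] _).toRingHom)
      (fun a ha => Ideal.Quotient.eq_zero_iff_mem.mpr (hI₀G a ha))
  have hβ : ∀ z, β (Ideal.Quotient.mk I₀ z) = Ideal.Quotient.mk I₀ (MvPolynomial.aeval g₀ z) :=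
    fun z => rfl
  have hβsurj : Function.Surjective β := by
    intro b
    obtain ⟨z, rfl⟩ := Ideal.Quotient.mk_surjective b
    induction z using MvPolynomial.induction_on with
    | C r => exact ⟨Ideal.Quotient.mk I₀ (MvPolynomial.C r), by rw [hβ]; simp⟩
    | add p q hp hq =>
      obtain ⟨a, ha⟩ := hp
      obtain ⟨b, hb⟩ := hq
      exact ⟨a + b, by rw [map_add, ha, hb, map_add]⟩
    | mul_X p i hp =>
      obtain ⟨a, ha⟩ := hp
      refine ⟨a * Ideal.Quotient.mk I₀ (h₀ i), ?_⟩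
      rw [map_mul, ha, hβ, map_mul]
      congr 1
      rw [Ideal.Quotient.eq, ← w2₀ i]
      exact hsum _
  have hβinj := noeth_inj β hβsurj
  have hU₀mem : U₀ ∈ I₀ := by
    rw [← Ideal.Quotient.eq_zero_iff_mem]
    apply hβinj
    rw [hβ, map_zero, Ideal.Quotient.eq_zero_iff_mem, ← w3₀]
    exact hsum _
  exact (Ideal.mem_span_range_iff_exists_fun).mp hU₀mem

/-- Let R be a commutative ring and R' a commutative R-algebra of finite presentation. Then every
surjective R-algebra endomorphism α : R' → R' is bijective (an automorphism). -/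
theorem result (R : Type u) [CommRing R]
    (R' : Type v) [CommRing R'] [Algebra R R'] [Algebra.FinitePresentation R R']
    (α : R' →ₐ[R] R') (hα : Function.Surjective α) : Function.Bijective α := by
  classical
  refine ⟨?_, hα⟩
  obtain ⟨n, π, hπ, hker⟩ := Algebra.FinitePresentation.out (R := R) (A := R')
  obtain ⟨m, v, hv⟩ := Submodule.fg_iff_exists_fin_generating_family.mp hker
  have hmem : ∀ z : MvPolynomial (Fin n) R, π z = 0 ↔ ∃ c : Fin m → MvPolynomial (Fin n) R,
      ∑ k, c k * v k = z := by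
    intro z
    rw [← Ideal.mem_span_range_iff_exists_fun]
    change _ ↔ z ∈ Submodule.span _ (Set.range v)
    rw [hv]
    rfl
  have hπv : ∀ k, π (v k) = 0 := fun k => (hmem _).mpr ⟨fun j => if j = k then 1 else 0, by simp⟩
  choose g hg using fun i => hπ (α (π (MvPolynomial.X i)))
  have hG : ∀ z, π (MvPolynomial.aeval g z) = α (π z) := by
    have : π.comp (MvPolynomial.aeval g) = α.comp π :=
      MvPolynomial.algHom_ext (fun i => by simp [hg])
    exact fun z => DFunLike.congr_fun this z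
  choose h hh using fun i : Fin n =>
    (show ∃ z : MvPolynomial (Fin n) R, α (π z) = π (MvPolynomial.X i) from by
      obtain ⟨y, hy⟩ := hα (π (MvPolynomial.X i))
      obtain ⟨z, rfl⟩ := hπ y
      exact ⟨z, hy⟩)
  rw [injective_iff_map_eq_zero]
  intro x hx
  obtain ⟨U, rfl⟩ := hπ x
  -- witnesses
  choose c1 hc1 using fun j : Fin m => (hmem (MvPolynomial.aeval g (v j))).mp
    (by rw [hG, hπv, map_zero])
  choose c2 hc2 using fun i : Fin n => (hmem (MvPolynomial.aeval g (h i) - MvPolynomial.X i)).mp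
    (by rw [map_sub, hG, hh, sub_self])
  obtain ⟨c3, hc3⟩ := (hmem (MvPolynomial.aeval g U)).mp (by rw [hG, hx])
  -- the finite set of polynomials
  let F : Set (MvPolynomial (Fin n) R) :=
    Set.range v ∪ Set.range g ∪ Set.range h ∪ {U} ∪
      Set.range (fun jk : Fin m × Fin m => c1 jk.1 jk.2) ∪
      Set.range (fun ik : Fin n × Fin m => c2 ik.1 ik.2) ∪ Set.range c3
  have hFfin : F.Finite := by
    refine Set.Finite.union (Set.Finite.union (Set.Finite.union (Set.Finite.union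
      (Set.Finite.union (Set.Finite.union ?_ ?_) ?_) ?_) ?_) ?_) ?_
    all_goals first | exact Set.finite_range _ | exact Set.finite_singleton _
  obtain ⟨R₀, hN, hR₀⟩ := exists_noeth_subring F hFfin
  have hι₀ : Function.Injective (MvPolynomial.map (σ := Fin n) (algebraMap R₀ R)) :=
    MvPolynomial.map_injective _ (fun a b hab => Subtype.ext hab)
  choose v₀ hv₀ using fun j => hR₀ (v j) (by simp [F])
  choose g₀ hg₀ using fun i => hR₀ (g i) (by simp [F])
  choose h₀ hh₀ using fun i => hR₀ (h i) (by simp [F])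
  obtain ⟨U₀, hU₀⟩ := hR₀ U (by simp [F])
  choose c1₀ hc1₀ using fun j k => hR₀ (c1 j k) (by simp [F])
  choose c2₀ hc2₀ using fun i k => hR₀ (c2 i k) (by simp [F])
  choose c3₀ hc3₀ using fun k => hR₀ (c3 k) (by simp [F])
  have hGι : ∀ z : MvPolynomial (Fin n) R₀, MvPolynomial.map (algebraMap R₀ R)
      (MvPolynomial.aeval g₀ z) = MvPolynomial.aeval g (MvPolynomial.map (algebraMap R₀ R) z) := by
    have : (MvPolynomial.map (σ := Fin n) (algebraMap R₀ R)).comp
        (MvPolynomial.aeval g₀ : MvPolynomial (Fin n) R₀ →ₐ[R₀] _).toRingHom =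
        (MvPolynomial.aeval g : MvPolynomial (Fin n) R →ₐ[R] _).toRingHom.comp
          (MvPolynomial.map (algebraMap R₀ R)) := by
      apply MvPolynomial.ringHom_ext
      · intro r
        simp
      · intro i
        simp [hg₀]
    exact fun z => DFunLike.congr_fun this z
  have w1₀ : ∀ j, ∑ k, c1₀ j k * v₀ k = MvPolynomial.aeval g₀ (v₀ j) := by
    intro j
    apply hι₀
    rw [hGι, hv₀, ← hc1 j, map_sum]
    simp only [map_mul, hc1₀, hv₀]
  have w2₀ : ∀ i, ∑ k, c2₀ i k * v₀ k = MvPolynomial.aeval g₀ (h₀ i) - MvPolynomial.X i := by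
    intro i
    apply hι₀
    rw [map_sub, hGι, hh₀, MvPolynomial.map_X, ← hc2 i, map_sum]
    simp only [map_mul, hc2₀, hv₀]
  have w3₀ : ∑ k, c3₀ k * v₀ k = MvPolynomial.aeval g₀ U₀ := by
    apply hι₀
    rw [hGι, hU₀, ← hc3, map_sum]
    simp only [map_mul, hc3₀, hv₀]
  obtain ⟨c, hc⟩ := model_inj (R₀ := R₀) v₀ g₀ h₀ U₀ c1₀ c2₀ c3₀ w1₀ w2₀ w3₀
  rw [← hU₀, ← hc, map_sum, map_sum]
  apply Finset.sum_eq_zero
  intro k _
  rw [map_mul, map_mul, hv₀, hπv, mul_zero]

end Groth.Agent.S13096
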