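import Groth.Statements.S13097
import Mathlib.AlgebraicGeometry.Morphisms.Separated
import Mathlib.AlgebraicGeometry.Morphisms.ClosedImmersion
import Mathlib.AlgebraicGeometry.Morphisms.Finite
import Mathlib.AlgebraicGeometry.Morphisms.Integral
import Mathlib.AlgebraicGeometry.PullbackCarrier
-- import your own Groth.Agent.* helpers here

set_option autoImplicit false
universe u
open FlatMor

namespace Groth.Agent.S13097

open CategoryTheory AlgebraicGeometry in
/-- Let f : X → S be a quasi-compact, separated morphism of schemes with a section e : S → X (e followed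
by f is the identity of S), and U ⊆ S an open subscheme such that f⁻¹(U) is schematically dense in X
(for every open V of X, restriction of functions from V to V ∩ f⁻¹(U) is injective) and such that
the restriction f⁻¹(U) → U of f is a homeomorphism of underlying spaces. Then f is universally a
homeomorphism (every base change of f is a homeomorphism), and f is finite as soon as it is locally
of finite type. (The published statement also lists surjectivity of f, which a section forces, and
offers as an alternative to the section the hypothesis that f be flat, still with f⁻¹(U) → U only a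
homeomorphism; that flat alternative fails: the spectrum of a separable quadratic field extension
over the spectrum of the ground field, with U the whole base, is flat, surjective, quasi-compact,
separated and a homeomorphism over U, yet not universally injective. Only the case of a section,
whose published proof is complete, is stated here.) -/
theorem result {X S : Scheme.{u}} (f : X ⟶ S)
    [QuasiCompact f] [IsSeparated f] (U : S.Opens)
    (hdense : CInt.IsSchematicallyDense (f ⁻¹ᵁ U)) (hU : IsHomeomorph (f ∣_ U).base)
    (e : S ⟶ X) (he : e ≫ f = 𝟙 S) :
    FlatMor.IsUnivHomeo f ∧ (LocallyOfFiniteType f → IsFinite f) := by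
  classical
  -- Step 1: the section is a closed immersion
  have hcl : IsClosedImmersion e := by
    have : IsClosedImmersion (e ≫ f) := by rw [he]; infer_instance
    exact IsClosedImmersion.of_comp e f
  -- Step 2: the section is surjective
  have hsub : ((f ⁻¹ᵁ U : X.Opens) : Set X) ⊆ Set.range e := by
    intro x hx
    have hx' : f x ∈ U := hx
    have hy : f (e (f x)) = f x := by
      have := congrArg (fun g : S ⟶ S => g (f x)) he
      simpa using this
    have hy' : e (f x) ∈ (f ⁻¹ᵁ U : X.Opens) := by
      change f (e (f x)) ∈ U
      rw [hy]; exact hx'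
    have hinj : Function.Injective (U.1.restrictPreimage f) := by
      rw [← morphismRestrict_base f U]
      exact hU.injective
    have : (⟨e (f x), hy'⟩ : (f ⁻¹' U.1 : Set X)) = ⟨x, hx⟩ := by
      apply hinj
      apply Subtype.ext
      exact hy
    exact ⟨f x, congrArg Subtype.val this⟩
  have hdenseTop : Dense ((f ⁻¹ᵁ U : X.Opens) : Set X) := by
    rw [dense_iff_inter_open]
    intro V hV hVne
    by_contra hemp
    rw [Set.not_nonempty_iff_eq_empty] at hemp
    let V' : X.Opens := ⟨V, hV⟩
    have hbot : V' ⊓ (f ⁻¹ᵁ U) = ⊥ := by
      ext x
      simp only [TopologicalSpace.Opens.coe_inf, TopologicalSpace.Opens.coe_bot]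
      exact Set.ext_iff.1 hemp x
    have hinj := hdense V'
    have hsubs : Subsingleton Γ(X, V' ⊓ (f ⁻¹ᵁ U)) := by
      rw [hbot]; infer_instance
    have h10 : (1 : Γ(X, V')) = 0 := hinj (Subsingleton.elim _ _)
    have h1 : X.basicOpen (1 : Γ(X, V')) = V' := X.basicOpen_of_isUnit isUnit_one
    rw [h10, X.basicOpen_zero] at h1
    obtain ⟨x, hx⟩ := hVne
    have : x ∈ (⊥ : X.Opens) := by rw [h1]; exact hx
    exact this
  have hsurj : Surjective e := by
    constructor
    intro x
    have hclosed : IsClosed (Set.range e) := e.isClosedEmbedding.isClosed_range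
    have : Set.range e = Set.univ := by
      apply Set.eq_univ_of_univ_subset
      rw [← hdenseTop.closure_eq]
      exact closure_minimal hsub hclosed
    have hx : x ∈ Set.range e := by rw [this]; trivial
    exact hx
  -- Step 3: universal homeomorphism
  have huniv : FlatMor.IsUnivHomeo f := by
    intro X' Y' i₁ i₂ f' h
    let e' : Y' ⟶ X' := h.lift (𝟙 Y') (i₂ ≫ e) (by rw [Category.assoc, he, Category.id_comp, Category.comp_id])
    have he'f : e' ≫ f' = 𝟙 Y' := h.lift_fst _ _ _
    have he'i : e' ≫ i₁ = i₂ ≫ e := h.lift_snd _ _ _
    have hpb : IsPullback e' i₂ i₁ e := by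
      refine IsPullback.of_right ?_ he'i h
      rw [he'f, he]
      exact IsPullback.of_horiz_isIso ⟨by simp⟩
    have hcl' : IsClosedImmersion e' := MorphismProperty.of_isPullback hpb.flip hcl
    have hsurj' : Surjective e' := MorphismProperty.of_isPullback hpb.flip hsurj
    have hhomeo : IsHomeomorph e' := by
      rw [isHomeomorph_iff_isEmbedding_surjective]
      exact ⟨e'.isClosedEmbedding.isEmbedding, hsurj'.surj⟩
    let E := hhomeo.homeomorph
    have hf' : ⇑f' = ⇑E.symm := by
      funext x
      obtain ⟨y, rfl⟩ := E.surjective x
      rw [Homeomorph.symm_apply_apply]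
      change f' (e' y) = y
      have := congrArg (fun g : Y' ⟶ Y' => g y) he'f
      simpa using this
    change IsHomeomorph ⇑f'
    rw [hf']
    exact E.symm.isHomeomorph
  refine ⟨huniv, fun hlft => ?_⟩
  have hfhomeo : IsHomeomorph ⇑f := huniv _ _ _ IsPullback.of_id_snd
  have haff : IsAffineHom f := by
    apply isAffineHom_of_isInducing f hfhomeo.isInducing
    rw [hfhomeo.surjective.range_eq]
    exact isClosed_univ
  have hucl : UniversallyClosed f := by
    constructor
    intro X' Y' i₁ i₂ f' h
    exact (huniv i₁ i₂ f' h).isClosedMap
  have hint : IsIntegralHom f := IsIntegralHom.iff_universallyClosed_and_isAffineHom.2 ⟨hucl, haff⟩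
  exact (IsFinite.iff_isIntegralHom_and_locallyOfFiniteType f).2 ⟨hint, hlft⟩

end Groth.Agent.S13097
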