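import Groth.Statements.S13098
import Mathlib.Tactic.Module
import Mathlib.Algebra.BigOperators.Fin
import Mathlib.LinearAlgebra.Basis.Basic
import Mathlib.LinearAlgebra.LinearIndependent.Lemmas
import Mathlib.Tactic.LinearCombination
-- import your own Groth.Agent.* helpers here

set_option autoImplicit false
universe u v
open Lie3Mod

namespace Groth.Agent.S13098

/-- Let R be a commutative ring, M an R-module with a basis x = bs 0, y = bs 1, z = bs 2 indexed by Fin
3, and B an R-bilinear alternating map on M (B m m = 0) with B x y = a x + b y + c z, B x z = d x +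
e y + f z and B y z = g x + h y + i z. Then B satisfies the Jacobi identity for all triples if and
only if the three Jacobi polynomials vanish: ah + di − fg − bg = 0, ie + bd − fh − ae = 0 and hc +
dc − af − bi = 0. (This is the statement that Lie brackets on a based free module of rank 3 are the
points of the closed subscheme of affine 9-space defined by these three equations.) -/
theorem result (R : Type u) [CommRing R] (M : Type v) [AddCommGroup M] [Module R M]
    (bs : Module.Basis (Fin 3) R M) (B : M →ₗ[R] M →ₗ[R] M) (halt : ∀ m : M, B m m = 0)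
    (a b c d e f g h i : R)
    (hxy : B (bs 0) (bs 1) = a • bs 0 + b • bs 1 + c • bs 2)
    (hxz : B (bs 0) (bs 2) = d • bs 0 + e • bs 1 + f • bs 2)
    (hyz : B (bs 1) (bs 2) = g • bs 0 + h • bs 1 + i • bs 2) :
    (∀ u v w : M, B u (B v w) + B v (B w u) + B w (B u v) = 0) ↔
      (a * h + d * i - f * g - b * g = 0 ∧ i * e + b * d - f * h - a * e = 0 ∧
        h * c + d * c - a * f - b * i = 0) := by
  classical
  have hanti : ∀ u v : M, B v u = - B u v := by
    intro u v
    have h1 := halt (u + v)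
    simp only [map_add, LinearMap.add_apply, halt, zero_add, add_zero] at h1
    exact eq_neg_of_add_eq_zero_left h1
  have hyx : B (bs 1) (bs 0) = -(a • bs 0 + b • bs 1 + c • bs 2) := by rw [hanti, hxy]
  have hzx : B (bs 2) (bs 0) = -(d • bs 0 + e • bs 1 + f • bs 2) := by rw [hanti, hxz]
  have hzy : B (bs 2) (bs 1) = -(g • bs 0 + h • bs 1 + i • bs 2) := by rw [hanti, hyz]
  have bil : ∀ u0 u1 u2 v0 v1 v2 : R,
      B (u0 • bs 0 + u1 • bs 1 + u2 • bs 2) (v0 • bs 0 + v1 • bs 1 + v2 • bs 2) =
        ((u0 * v1 - u1 * v0) * a + (u0 * v2 - u2 * v0) * d + (u1 * v2 - u2 * v1) * g) • bs 0 +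
        ((u0 * v1 - u1 * v0) * b + (u0 * v2 - u2 * v0) * e + (u1 * v2 - u2 * v1) * h) • bs 1 +
        ((u0 * v1 - u1 * v0) * c + (u0 * v2 - u2 * v0) * f + (u1 * v2 - u2 * v1) * i) • bs 2 := by
    intro u0 u1 u2 v0 v1 v2
    simp only [map_add, map_smul, LinearMap.add_apply, LinearMap.smul_apply, halt, hxy, hxz, hyz,
      hyx, hzx, hzy]
    module
  have key : ∀ u0 u1 u2 v0 v1 v2 w0 w1 w2 : R,
      B (u0 • bs 0 + u1 • bs 1 + u2 • bs 2)
          (B (v0 • bs 0 + v1 • bs 1 + v2 • bs 2) (w0 • bs 0 + w1 • bs 1 + w2 • bs 2)) +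
        B (v0 • bs 0 + v1 • bs 1 + v2 • bs 2)
          (B (w0 • bs 0 + w1 • bs 1 + w2 • bs 2) (u0 • bs 0 + u1 • bs 1 + u2 • bs 2)) +
        B (w0 • bs 0 + w1 • bs 1 + w2 • bs 2)
          (B (u0 • bs 0 + u1 • bs 1 + u2 • bs 2) (v0 • bs 0 + v1 • bs 1 + v2 • bs 2)) =
      (u0 * (v1 * w2 - v2 * w1) - u1 * (v0 * w2 - v2 * w0) + u2 * (v0 * w1 - v1 * w0)) •
        ((a * h + d * i - f * g - b * g) • bs 0 + (i * e + b * d - f * h - a * e) • bs 1 +
          (h * c + d * c - a * f - b * i) • bs 2) := by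
    intro u0 u1 u2 v0 v1 v2 w0 w1 w2
    rw [bil v0 v1 v2 w0 w1 w2, bil w0 w1 w2 u0 u1 u2, bil u0 u1 u2 v0 v1 v2, bil, bil, bil]
    module
  have hrepr : ∀ u : M, u = bs.repr u 0 • bs 0 + bs.repr u 1 • bs 1 + bs.repr u 2 • bs 2 := by
    intro u
    conv_lhs => rw [← bs.sum_repr u]
    rw [Fin.sum_univ_three]
  constructor
  · intro hJ
    have h0 := hJ (bs 0) (bs 1) (bs 2)
    have h1 := key 1 0 0 0 1 0 0 0 1
    simp only [one_smul, zero_smul, add_zero, zero_add] at h1
    rw [h0] at h1
    have h2 : (a * h + d * i - f * g - b * g) • bs 0 + (i * e + b * d - f * h - a * e) • bs 1 +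
          (h * c + d * c - a * f - b * i) • bs 2 = 0 := by
      rw [h1]; simp
    have hli := bs.linearIndependent
    rw [Fintype.linearIndependent_iff] at hli
    have h3 := hli ![a * h + d * i - f * g - b * g, i * e + b * d - f * h - a * e,
      h * c + d * c - a * f - b * i] (by
        rw [Fin.sum_univ_three]
        simpa using h2)
    exact ⟨by simpa using h3 0, by simpa using h3 1, by simpa using h3 2⟩
  · rintro ⟨h1, h2, h3⟩ u v w
    rw [hrepr u, hrepr v, hrepr w, key, h1, h2, h3]
    simp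

end Groth.Agent.S13098
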