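import Groth.Statements.S13099
import Mathlib
-- import your own Groth.Agent.* helpers here

set_option autoImplicit false
universe u
open GrpSch

namespace Groth.Agent.S13099


open Polynomial in
theorem part2 (p : ℕ) [Fact p.Prime] (A : Type u) [CommRing A] [CharP A p]
    (I : Ideal A[X]) (hI : I = Ideal.span ({X ^ p ^ 2} : Set A[X]))
    (a₁ ap : A) (φ : (A[X] ⧸ I) →ₐ[A] (A[X] ⧸ I))
    (hφ : φ (Ideal.Quotient.mk I X) =
          Ideal.Quotient.mk I (Polynomial.C a₁ * X + Polynomial.C ap * X ^ p)) :
    (Function.Bijective φ ↔ IsUnit a₁) := by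
  have hp : p.Prime := Fact.out
  have hp2 : 2 ≤ p := hp.two_le
  have hXI : Ideal.Quotient.mk I (X ^ p ^ 2) = 0 :=
    Ideal.Quotient.eq_zero_iff_mem.mpr (hI ▸ Ideal.subset_span rfl)
  -- general formula: φ (mk g) = mk (g.comp h)
  have hcomp : ∀ g : A[X], φ (Ideal.Quotient.mk I g) =
      Ideal.Quotient.mk I (g.comp (Polynomial.C a₁ * X + Polynomial.C ap * X ^ p)) := by
    intro g
    have h1 : (φ.comp (Ideal.Quotient.mkₐ A I)) =
        ((Ideal.Quotient.mkₐ A I).comp (Polynomial.aeval (Polynomial.C a₁ * X + Polynomial.C ap * X ^ p))) := by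
      apply Polynomial.algHom_ext
      simp only [AlgHom.comp_apply, Ideal.Quotient.mkₐ_eq_mk, Polynomial.aeval_X]
      exact hφ
    have := DFunLike.congr_fun h1 g
    simpa [← Polynomial.comp_eq_aeval] using this
  constructor
  · intro hb
    obtain ⟨z, hz⟩ := hb.2 (Ideal.Quotient.mk I X)
    obtain ⟨g, rfl⟩ := Ideal.Quotient.mk_surjective z
    rw [hcomp] at hz
    rw [Ideal.Quotient.eq, hI, Ideal.mem_span_singleton] at hz
    obtain ⟨w, hw⟩ := hz
    -- compare coefficients of X^1
    have hh : Polynomial.C a₁ * X + Polynomial.C ap * X ^ p =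
        (Polynomial.C a₁ + Polynomial.C ap * X ^ (p - 1)) * X := by
      rw [add_mul, mul_assoc, ← pow_succ, Nat.sub_add_cancel (by omega)]
    have hgc : g.comp (Polynomial.C a₁ * X + Polynomial.C ap * X ^ p) =
        ((Polynomial.divX g).comp (Polynomial.C a₁ * X + Polynomial.C ap * X ^ p) *
          (Polynomial.C a₁ + Polynomial.C ap * X ^ (p - 1))) * X + Polynomial.C (g.coeff 0) := by
      have key : ∀ h u : A[X], h = u * X →
          g.comp h = ((Polynomial.divX g).comp h * u) * X + Polynomial.C (g.coeff 0) := by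
        intro h u hu
        conv_lhs => rw [← Polynomial.divX_mul_X_add g]
        rw [Polynomial.add_comp, Polynomial.mul_comp, Polynomial.X_comp, Polynomial.C_comp,
          mul_assoc, ← hu]
      exact key _ _ hh
    have h2 : Polynomial.coeff (g.comp (Polynomial.C a₁ * X + Polynomial.C ap * X ^ p) - X) 1 =
        Polynomial.coeff (X ^ p ^ 2 * w) 1 := congrArg (fun r => Polynomial.coeff r 1) hw
    have hp4 : ¬ (p ^ 2 ≤ 1) := by nlinarith
    have hp1 : p - 1 ≠ 0 := by omega
    rw [Polynomial.coeff_X_pow_mul', if_neg hp4, hgc, Polynomial.coeff_sub, Polynomial.coeff_add,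
      Polynomial.coeff_mul_X, Polynomial.mul_coeff_zero, Polynomial.coeff_C_succ,
      Polynomial.coeff_X_one, Polynomial.coeff_add, Polynomial.coeff_C_zero,
      Polynomial.mul_coeff_zero, Polynomial.coeff_X_pow, if_neg (Ne.symm hp1)] at h2
    rw [isUnit_iff_exists_inv']
    refine ⟨(g.divX.comp (Polynomial.C a₁ * X + Polynomial.C ap * X ^ p)).coeff 0, ?_⟩
    linear_combination h2
  · intro hu
    obtain ⟨b, hb⟩ := isUnit_iff_exists_inv'.mp hu
    have hXmem : ∃ z0, φ z0 = Ideal.Quotient.mk I X := by
      refine ⟨Ideal.Quotient.mk I (Polynomial.C b * X + Polynomial.C (-b * ap * b ^ p) * X ^ p), ?_⟩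
      rw [hcomp]
      have hpow : (Polynomial.C a₁ * X + Polynomial.C ap * X ^ p : A[X]) ^ p =
          Polynomial.C (a₁ ^ p) * X ^ p + Polynomial.C (ap ^ p) * X ^ p ^ 2 := by
        rw [add_pow_char, mul_pow, mul_pow, ← pow_mul, ← Polynomial.C_pow, ← Polynomial.C_pow, sq]
      have hcalc : (Polynomial.C b * X + Polynomial.C (-b * ap * b ^ p) * X ^ p).comp
          (Polynomial.C a₁ * X + Polynomial.C ap * X ^ p) =
          X + Polynomial.C (-b * ap * b ^ p * ap ^ p) * X ^ p ^ 2 := by
        simp only [Polynomial.add_comp, Polynomial.mul_comp, Polynomial.C_comp, Polynomial.X_comp,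
          Polynomial.X_pow_comp, hpow]
        have e1 : (Polynomial.C b * Polynomial.C a₁ : A[X]) = 1 := by
          rw [← Polynomial.C_mul, hb, Polynomial.C_1]
        have e2 : (Polynomial.C b * Polynomial.C ap +
            Polynomial.C (-b * ap * b ^ p) * Polynomial.C (a₁ ^ p) : A[X]) = 0 := by
          rw [← Polynomial.C_mul, ← Polynomial.C_mul, ← Polynomial.C_add, ← Polynomial.C_0]
          congr 1
          have : (b * a₁) ^ p = 1 := by rw [hb, one_pow]
          rw [mul_pow] at this
          linear_combination (-b * ap) * this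
        rw [Polynomial.C_mul (a := -b * ap * b ^ p) (b := ap ^ p)]
        linear_combination X * e1 + X ^ p * e2
      rw [hcalc, map_add, map_mul, hXI, mul_zero, add_zero]
    obtain ⟨z0, hz0⟩ := hXmem
    have hsurj : Function.Surjective φ := by
      intro z
      obtain ⟨f, rfl⟩ := Ideal.Quotient.mk_surjective z
      refine ⟨Polynomial.aeval z0 f, ?_⟩
      rw [← Polynomial.aeval_algHom_apply, hz0, ← Ideal.Quotient.mkₐ_eq_mk A,
        Polynomial.aeval_algHom_apply, Polynomial.aeval_X_left_apply]
    have hmonic : (X ^ p ^ 2 : A[X]).Monic := Polynomial.monic_X_pow _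
    have : Module.Finite A (A[X] ⧸ I) := by
      rw [hI]; exact hmonic.finite_quotient
    exact ⟨OrzechProperty.injective_of_surjective_endomorphism φ.toLinearMap hsurj, hsurj⟩

open Polynomial in
theorem coeffD (A : Type u) [CommRing A] (N : ℕ) (q : A[X]) (hq : q.natDegree < N)
    (d : Fin 2 →₀ ℕ) :
    MvPolynomial.coeff d (Polynomial.aeval (MvPolynomial.X 0 + MvPolynomial.X 1 : MvPolynomial (Fin 2) A) q -
            Polynomial.aeval (MvPolynomial.X 0 : MvPolynomial (Fin 2) A) q -
            Polynomial.aeval (MvPolynomial.X 1 : MvPolynomial (Fin 2) A) q) =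
      ∑ n ∈ Finset.range N, q.coeff n *
        ((if d 0 + d 1 = n then ((n.choose (d 0) : ℕ) : A) else 0) -
          (if Finsupp.single 0 n = d then 1 else 0) - (if Finsupp.single 1 n = d then 1 else 0)) := by
  rw [Polynomial.aeval_eq_sum_range' hq, Polynomial.aeval_eq_sum_range' hq,
    Polynomial.aeval_eq_sum_range' hq]
  simp only [MvPolynomial.coeff_sub, MvPolynomial.coeff_sum, MvPolynomial.coeff_smul,
    MvPolynomial.coeff_add_pow, MvPolynomial.coeff_X_pow, smul_eq_mul,
    Nat.cast_ite, Nat.cast_zero]
  rw [← Finset.sum_sub_distrib, ← Finset.sum_sub_distrib]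
  refine Finset.sum_congr rfl fun n _ => ?_
  have h : ((d 0, d 1) ∈ Finset.HasAntidiagonal.antidiagonal n) ↔ d 0 + d 1 = n :=
    Finset.HasAntidiagonal.mem_antidiagonal
  simp only [h]
  ring

open Polynomial in
theorem part1 (p : ℕ) [Fact p.Prime] (A : Type u) [CommRing A] [CharP A p]
    (q : A[X]) (hq : q.natDegree < p ^ 2) :
      (Polynomial.aeval (MvPolynomial.X 0 + MvPolynomial.X 1 : MvPolynomial (Fin 2) A) q -
            Polynomial.aeval (MvPolynomial.X 0 : MvPolynomial (Fin 2) A) q -
            Polynomial.aeval (MvPolynomial.X 1 : MvPolynomial (Fin 2) A) q ∈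
          Ideal.span ({MvPolynomial.X 0 ^ p ^ 2, MvPolynomial.X 1 ^ p ^ 2} : Set (MvPolynomial (Fin 2) A)) ↔
        ∃ a₁ ap : A, q = Polynomial.C a₁ * X + Polynomial.C ap * X ^ p) := by
  have hp : p.Prime := Fact.out
  have hp2 : 2 ≤ p := hp.two_le
  constructor
  · intro hmem
    have hS : ({MvPolynomial.X 0 ^ p ^ 2, MvPolynomial.X 1 ^ p ^ 2} : Set (MvPolynomial (Fin 2) A)) =
        (fun s => MvPolynomial.monomial s (1 : A)) ''
          ({Finsupp.single 0 (p ^ 2), Finsupp.single 1 (p ^ 2)} : Set (Fin 2 →₀ ℕ)) := by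
      rw [Set.image_pair, MvPolynomial.X_pow_eq_monomial, MvPolynomial.X_pow_eq_monomial]
    rw [hS, MvPolynomial.mem_ideal_span_monomial_image] at hmem
    have hzero : ∀ d : Fin 2 →₀ ℕ, d 0 < p ^ 2 → d 1 < p ^ 2 →
        MvPolynomial.coeff d (Polynomial.aeval (MvPolynomial.X 0 + MvPolynomial.X 1 : MvPolynomial (Fin 2) A) q -
            Polynomial.aeval (MvPolynomial.X 0 : MvPolynomial (Fin 2) A) q -
            Polynomial.aeval (MvPolynomial.X 1 : MvPolynomial (Fin 2) A) q) = 0 := by
      intro d h0 h1
      by_contra hne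
      obtain ⟨s, hs, hsd⟩ := hmem d (MvPolynomial.mem_support_iff.mpr hne)
      rcases hs with rfl | rfl
      · have := hsd 0
        simp at this
        omega
      · have := hsd 1
        simp at this
        omega
    have hc0 : q.coeff 0 = 0 := by
      have h := hzero 0 (by simp; positivity) (by simp; positivity)
      rw [coeffD A (p ^ 2) q hq, Finset.sum_eq_single 0] at h
      · simpa using h
      · intro n _ hn
        have h1 : ¬ (0 = n) := fun h => hn h.symm
        simp [h1, hn]
      · intro h0
        exact absurd (Finset.mem_range.mpr (by positivity)) h0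
    have hij : ∀ i j : ℕ, 1 ≤ i → 1 ≤ j → i + j < p ^ 2 →
        q.coeff (i + j) * (((i + j).choose i : ℕ) : A) = 0 := by
      intro i j hi hj hlt
      have hd0 : (Finsupp.single (0 : Fin 2) i + Finsupp.single (1 : Fin 2) j) 0 = i := by
        simp [Finsupp.add_apply, Finsupp.single_apply]
      have hd1 : (Finsupp.single (0 : Fin 2) i + Finsupp.single (1 : Fin 2) j) 1 = j := by
        simp [Finsupp.add_apply, Finsupp.single_apply]
      have h := hzero (Finsupp.single 0 i + Finsupp.single 1 j) (by rw [hd0]; omega)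
        (by rw [hd1]; omega)
      have hne0 : ∀ n : ℕ, Finsupp.single (0 : Fin 2) n ≠
          Finsupp.single (0 : Fin 2) i + Finsupp.single (1 : Fin 2) j := by
        intro n hn
        have := DFunLike.congr_fun hn 1
        rw [hd1] at this
        simp [Finsupp.single_apply] at this
        omega
      have hne1 : ∀ n : ℕ, Finsupp.single (1 : Fin 2) n ≠
          Finsupp.single (0 : Fin 2) i + Finsupp.single (1 : Fin 2) j := by
        intro n hn
        have := DFunLike.congr_fun hn 0
        rw [hd0] at this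
        simp [Finsupp.single_apply] at this
        omega
      rw [coeffD A (p ^ 2) q hq, Finset.sum_eq_single (i + j)] at h
      · rw [if_neg (hne0 _), if_neg (hne1 _), hd0, hd1, if_pos rfl, sub_zero, sub_zero] at h
        exact h
      · intro n _ hn
        rw [if_neg (hne0 _), if_neg (hne1 _), hd0, hd1, if_neg (Ne.symm hn)]
        simp
      · intro h0
        exact absurd (Finset.mem_range.mpr hlt) h0
    have hcn : ∀ n : ℕ, 2 ≤ n → n ≠ p → n < p ^ 2 → q.coeff n = 0 := by
      intro n hn2 hnp hlt
      by_cases hdvd : p ∣ n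
      · obtain ⟨m, rfl⟩ := hdvd
        have hm2 : 2 ≤ m := by
          rcases m with _ | _ | m
          · omega
          · simp at hnp
          · omega
        have hmp : m < p := by nlinarith
        have h := hij p (p * (m - 1)) (by omega) (by
          have : 1 ≤ m - 1 := by omega
          nlinarith) (by
          have : p + p * (m - 1) = p * m := by
            obtain ⟨k, rfl⟩ : ∃ k, m = k + 1 := ⟨m - 1, by omega⟩
            simp; ring
          omega)
        have e : p + p * (m - 1) = p * m := by
          obtain ⟨k, rfl⟩ : ∃ k, m = k + 1 := ⟨m - 1, by omega⟩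
          simp; ring
        rw [e] at h
        have hunit : IsUnit (((p * m).choose p : ℕ) : A) := by
          rw [CharP.isUnit_natCast_iff hp]
          intro hd
          have h1 : (p * m).choose (p * 1) ≡ m.choose 1 [MOD p] :=
            Choose.choose_mul_mul_modEq_choose_nat
          rw [mul_one, Nat.choose_one_right] at h1
          have h2 : p ∣ m := (Nat.modEq_zero_iff_dvd.mp
            (h1.symm.trans (Nat.modEq_zero_iff_dvd.mpr hd)))
          exact absurd (Nat.le_of_dvd (by omega) h2) (by omega)
        exact hunit.mul_left_eq_zero.mp h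
      · have h := hij 1 (n - 1) le_rfl (by omega) (by omega)
        have e : 1 + (n - 1) = n := by omega
        rw [e, Nat.choose_one_right] at h
        have hunit : IsUnit ((n : ℕ) : A) := (CharP.isUnit_natCast_iff hp).mpr hdvd
        exact hunit.mul_left_eq_zero.mp h
    refine ⟨q.coeff 1, q.coeff p, ?_⟩
    ext n
    have hp1 : p ≠ 1 := hp.ne_one
    simp only [Polynomial.coeff_add, Polynomial.coeff_C_mul, Polynomial.coeff_X,
      Polynomial.coeff_X_pow]
    by_cases h1 : n = 1
    · subst h1
      simp [hp1, Ne.symm hp1]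
    by_cases hnp : n = p
    · subst hnp
      simp [h1, Ne.symm h1]
    have h1' : ¬ (1 = n) := fun h => h1 h.symm
    simp only [h1', hnp, if_false, mul_zero, add_zero]
    rcases Nat.lt_or_ge n 2 with h2 | h2
    · have : n = 0 := by omega
      subst this
      exact hc0
    · rcases Nat.lt_or_ge n (p ^ 2) with h3 | h3
      · exact hcn n h2 hnp h3
      · exact Polynomial.coeff_eq_zero_of_natDegree_lt (by omega)
  · rintro ⟨a₁, ap, rfl⟩
    have : (Polynomial.aeval (MvPolynomial.X 0 + MvPolynomial.X 1 : MvPolynomial (Fin 2) A) (Polynomial.C a₁ * X + Polynomial.C ap * X ^ p) -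
            Polynomial.aeval (MvPolynomial.X 0 : MvPolynomial (Fin 2) A) (Polynomial.C a₁ * X + Polynomial.C ap * X ^ p) -
            Polynomial.aeval (MvPolynomial.X 1 : MvPolynomial (Fin 2) A) (Polynomial.C a₁ * X + Polynomial.C ap * X ^ p)) = 0 := by
      simp only [map_add, map_mul, Polynomial.aeval_C, Polynomial.aeval_X, map_pow, add_pow_char]
      ring
    rw [this]
    exact Ideal.zero_mem _

open Polynomial in
/-- Let p be a prime and A a commutative ring of characteristic p, and consider the infinitesimal group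
scheme Spec A[X]/(X^{p²}) with the additive group law. In coordinates: (1) a polynomial q ∈ A[X] of
degree less than p² satisfies q(Y + Z) − q(Y) − q(Z) ∈ (Y^{p²}, Z^{p²}) in A[Y, Z] (that is, X ↦ q
respects the comultiplication) if and only if q = a₁ X + a_p X^p for some a₁, a_p ∈ A; (2) an
A-algebra endomorphism of A[X]/(X^{p²}) that sends the class of X to the class of a₁ X + a_p X^p is
bijective if and only if a₁ is a unit of A. (The printed statement is that the automorphism group
scheme of this group scheme is the semidirect product of the additive group by the multiplicative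
group, v acting on u by v^{p−1}u; this row records the two computations it consists of, in
coordinates.) -/
theorem result (p : ℕ) [Fact p.Prime] (A : Type u) [CommRing A] [CharP A p] :
    (∀ q : A[X], q.natDegree < p ^ 2 →
      (Polynomial.aeval (MvPolynomial.X 0 + MvPolynomial.X 1 : MvPolynomial (Fin 2) A) q -
            Polynomial.aeval (MvPolynomial.X 0 : MvPolynomial (Fin 2) A) q -
            Polynomial.aeval (MvPolynomial.X 1 : MvPolynomial (Fin 2) A) q ∈
          Ideal.span ({MvPolynomial.X 0 ^ p ^ 2, MvPolynomial.X 1 ^ p ^ 2} : Set (MvPolynomial (Fin 2) A)) ↔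
        ∃ a₁ ap : A, q = Polynomial.C a₁ * X + Polynomial.C ap * X ^ p)) ∧
    (∀ (a₁ ap : A) (φ : (A[X] ⧸ Ideal.span ({X ^ p ^ 2} : Set A[X])) →ₐ[A] (A[X] ⧸ Ideal.span ({X ^ p ^ 2} : Set A[X]))),
      φ (Ideal.Quotient.mk (Ideal.span ({X ^ p ^ 2} : Set A[X])) X) =
          Ideal.Quotient.mk (Ideal.span ({X ^ p ^ 2} : Set A[X])) (Polynomial.C a₁ * X + Polynomial.C ap * X ^ p) →
        (Function.Bijective φ ↔ IsUnit a₁)) := by
  refine ⟨fun q hq => part1 p A q hq, fun a₁ ap φ hφ => part2 p A _ rfl a₁ ap φ hφ⟩

end Groth.Agent.S13099
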