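import Groth.Statements.S13100
import Mathlib.RingTheory.LaurentSeries
import Mathlib.RingTheory.Henselian
import Mathlib.RingTheory.AdicCompletion.Completeness
import Mathlib.FieldTheory.IsAlgClosed.Basic
-- import your own Groth.Agent.* helpers here

set_option autoImplicit false
universe u
open GrpSch

namespace Groth.Agent.S13100


/-- A power series with constant coefficient `1` over a field where `2 ≠ 0` is a square. -/
theorem exists_sq_eq {k : Type*} [Field k] (h2 : (2 : k) ≠ 0) (v : PowerSeries k)
    (hv : PowerSeries.constantCoeff v = 1) : ∃ a : PowerSeries k, a * a = v := by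
  have hH : HenselianRing (PowerSeries k) (Ideal.span {PowerSeries.X}) :=
    IsAdicComplete.henselianRing _ _
  have hmonic : (Polynomial.X ^ 2 - Polynomial.C v : Polynomial (PowerSeries k)).Monic :=
    Polynomial.monic_X_pow_sub_C v two_ne_zero
  have h1 : (Polynomial.X ^ 2 - Polynomial.C v : Polynomial (PowerSeries k)).eval 1 ∈
      Ideal.span {(PowerSeries.X : PowerSeries k)} := by
    rw [Ideal.mem_span_singleton, PowerSeries.X_dvd_iff]
    simp [hv]
  have h2' : IsUnit (2 : PowerSeries k) := by
    rw [PowerSeries.isUnit_iff_constantCoeff]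
    have : PowerSeries.constantCoeff (2 : PowerSeries k) = 2 := by
      rw [show (2 : PowerSeries k) = PowerSeries.C (2 : k) by rw [map_ofNat], PowerSeries.constantCoeff_C]
    rw [this]
    exact isUnit_iff_ne_zero.2 h2
  have hder : IsUnit (Ideal.Quotient.mk (Ideal.span {(PowerSeries.X : PowerSeries k)})
      ((Polynomial.X ^ 2 - Polynomial.C v : Polynomial (PowerSeries k)).derivative.eval 1)) := by
    have : (Polynomial.X ^ 2 - Polynomial.C v : Polynomial (PowerSeries k)).derivative.eval 1 = 2 := by
      simp
      norm_num
    rw [this]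
    exact h2'.map _
  obtain ⟨a, ha, -⟩ := hH.is_henselian _ hmonic 1 h1 hder
  refine ⟨a, ?_⟩
  rw [Polynomial.IsRoot.def] at ha
  simp only [Polynomial.eval_sub, Polynomial.eval_pow, Polynomial.eval_X, Polynomial.eval_C] at ha
  rw [← pow_two]
  exact sub_eq_zero.1 ha

/-- Let k be an algebraically closed field of characteristic different from 2 and K = k((t)) the field
of Laurent series over k. Then a non-zero Laurent series f is a square in K if and only if its order
in t is even; consequently the group Kˣ/Kˣ² of non-zero elements modulo squares has exactly two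
elements, represented by 1 and t. -/
theorem result (k : Type u) [Field k] [IsAlgClosed k] (h2 : (2 : k) ≠ 0)
    (f : LaurentSeries k) (hf : f ≠ 0) : IsSquare f ↔ Even f.order := by
  constructor
  · rintro ⟨g, hg⟩
    have hg0 : g ≠ 0 := by
      rintro rfl
      exact hf (by simpa using hg)
    refine ⟨g.order, ?_⟩
    rw [hg, HahnSeries.order_mul hg0 hg0]
  · rintro ⟨m, hm⟩
    set u := f.powerSeriesPart with hu
    have hc : PowerSeries.constantCoeff u = f.coeff f.order := by
      rw [← PowerSeries.coeff_zero_eq_constantCoeff_apply, hu, LaurentSeries.powerSeriesPart_coeff]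
      simp
    have hc0 : f.coeff f.order ≠ 0 := fun h => hf (HahnSeries.coeff_order_eq_zero.1 h)
    obtain ⟨d, hd⟩ := IsAlgClosed.exists_eq_mul_self (f.coeff f.order)
    have hd0 : d ≠ 0 := by
      rintro rfl
      exact hc0 (by simpa using hd)
    obtain ⟨a, ha⟩ := exists_sq_eq h2 (PowerSeries.C (f.coeff f.order)⁻¹ * u) (by
      rw [map_mul, hc, PowerSeries.constantCoeff_C, inv_mul_cancel₀ hc0])
    have hu' : u = (PowerSeries.C d * a) * (PowerSeries.C d * a) := by
      have : (PowerSeries.C d * a) * (PowerSeries.C d * a) =
          PowerSeries.C (d * d) * (a * a) := by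
        rw [map_mul]; ring
      rw [this, ha, ← hd, ← mul_assoc, ← map_mul, mul_inv_cancel₀ hc0, map_one, one_mul]
    refine ⟨HahnSeries.single m 1 * HahnSeries.ofPowerSeries ℤ k (PowerSeries.C d * a), ?_⟩
    have hsingle : (HahnSeries.single m (1 : k) : LaurentSeries k) * HahnSeries.single m 1 =
        HahnSeries.single f.order 1 := by
      rw [HahnSeries.single_mul_single, mul_one, hm]
    calc f = HahnSeries.single f.order 1 * HahnSeries.ofPowerSeries ℤ k u :=
          (LaurentSeries.single_order_mul_powerSeriesPart f).symm
      _ = _ := by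
          rw [hu', map_mul, ← hsingle]
          ring

end Groth.Agent.S13100
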