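import Groth.Statements.S13101
import Groth.Agent.Lib.Helper66.Lie3
-- import your own Groth.Agent.* helpers here

set_option autoImplicit false
universe u v
open GrpSch

namespace Groth.Agent.S13101

/-- Let A be a commutative ring in which 2 is a unit, and L a Lie algebra over A, free as a module with
basis x = bs 0, y = bs 1, z = bs 2 and brackets [x,y] = y, [x,z] = y + z, [y,z] = 0. Then for every
Lie algebra automorphism φ of L over A there are b, c, h ∈ A and a unit i of A with φ(x) = x + b y +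
c z, φ(y) = i y and φ(z) = h y + i z. Only the form of an automorphism is stated, not that every map
of this form is one. (The published statement identifies the automorphism group scheme with a
semidirect product of two additive groups by the product of the multiplicative and additive group,
for algebras over a field of Laurent series of characteristic not 2, and deduces the vanishing of
its first cohomology; this row records the determination of the automorphisms, over any base ring
with 2 invertible; the cohomological consequence is not restated.) -/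
theorem result (A : Type u) [CommRing A] (h2 : IsUnit (2 : A))
    (L : Type v) [LieRing L] [LieAlgebra A L] (bs : Module.Basis (Fin 3) A L)
    (hxy : ⁅bs 0, bs 1⁆ = bs 1) (hxz : ⁅bs 0, bs 2⁆ = bs 1 + bs 2) (hyz : ⁅bs 1, bs 2⁆ = 0)
    (φ : L ≃ₗ⁅A⁆ L) :
    ∃ b c h i : A, IsUnit i ∧ φ (bs 0) = bs 0 + b • bs 1 + c • bs 2 ∧ φ (bs 1) = i • bs 1 ∧
      φ (bs 2) = h • bs 1 + i • bs 2 := by
  classical
  have hdet := Groth.Agent.Lib.Helper66.isUnit_det3 bs bs φ.toLinearEquiv
  simp only [LieEquiv.coe_toLinearEquiv] at hdet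
  have hx := Groth.Agent.Lib.Helper66.repr3 bs (φ (bs 0))
  have hy := Groth.Agent.Lib.Helper66.repr3 bs (φ (bs 1))
  have hz := Groth.Agent.Lib.Helper66.repr3 bs (φ (bs 2))
  generalize bs.repr (φ (bs 0)) 0 = a0 at hdet hx
  generalize bs.repr (φ (bs 0)) 1 = a1 at hdet hx
  generalize bs.repr (φ (bs 0)) 2 = a2 at hdet hx
  generalize bs.repr (φ (bs 1)) 0 = b0 at hdet hy
  generalize bs.repr (φ (bs 1)) 1 = b1 at hdet hy
  generalize bs.repr (φ (bs 1)) 2 = b2 at hdet hy
  generalize bs.repr (φ (bs 2)) 0 = c0 at hdet hz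
  generalize bs.repr (φ (bs 2)) 1 = c1 at hdet hz
  generalize bs.repr (φ (bs 2)) 2 = c2 at hdet hz
  have e1 := φ.map_lie (bs 0) (bs 1)
  rw [hxy, hx, hy, Groth.Agent.Lib.Helper66.lie3, hxy, hxz, hyz] at e1
  have e1' : b0 • bs 0 + b1 • bs 1 + b2 • bs 2 =
      (0 : A) • bs 0 + ((a0 * b1 - a1 * b0) + (a0 * b2 - a2 * b0)) • bs 1 +
        (a0 * b2 - a2 * b0) • bs 2 := by
    rw [e1]; module
  obtain ⟨hb0, r1, r2⟩ := Groth.Agent.Lib.Helper66.coords3 bs e1'
  have e2 := φ.map_lie (bs 0) (bs 2)
  rw [hxz, map_add, hx, hy, hz, Groth.Agent.Lib.Helper66.lie3, hxy, hxz, hyz] at e2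
  have e2' : (b0 + c0) • bs 0 + (b1 + c1) • bs 1 + (b2 + c2) • bs 2 =
      (0 : A) • bs 0 + ((a0 * c1 - a1 * c0) + (a0 * c2 - a2 * c0)) • bs 1 +
        (a0 * c2 - a2 * c0) • bs 2 := by
    have h0 : (b0 + c0) • bs 0 + (b1 + c1) • bs 1 + (b2 + c2) • bs 2 =
        (b0 • bs 0 + b1 • bs 1 + b2 • bs 2) + (c0 • bs 0 + c1 • bs 1 + c2 • bs 2) := by module
    rw [h0, e2]; module
  obtain ⟨hc0, r3, r4⟩ := Groth.Agent.Lib.Helper66.coords3 bs e2'
  subst hb0
  have hc0' : c0 = 0 := by simpa using hc0
  subst hc0'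
  have hdet' : IsUnit (a0 * (b1 * c2 - b2 * c1)) := by
    convert hdet using 1; ring
  have hD : IsUnit (b1 * c2 - b2 * c1) := isUnit_of_mul_isUnit_right hdet'
  have E2 : (a0 - 1) * b2 = 0 := by linear_combination (-1 : A) * r2
  have E1 : (a0 - 1) * b1 + b2 = 0 := by linear_combination (-1 : A) * r1 - E2
  have E4 : b2 - (a0 - 1) * c2 = 0 := by linear_combination r4
  have E3 : b1 - (a0 - 1) * c1 - a0 * c2 = 0 := by linear_combination r3
  have hs2 : (a0 - 1) ^ 2 = 0 := by
    have : (a0 - 1) ^ 2 * (b1 * c2 - b2 * c1) = 0 := by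
      linear_combination ((a0 - 1) * c2) * E1 - (c2 + (a0 - 1) * c1) * E2
    exact (hD.mul_left_eq_zero).1 this
  have hsc2 : (a0 - 1) * c2 = 0 := by
    have : 2 * ((a0 - 1) * c2) = 0 := by
      linear_combination E1 - E4 - (a0 - 1) * E3 - (c1 + c2) * hs2
    exact (h2.mul_right_eq_zero).1 this
  have hb2 : b2 = 0 := by linear_combination E4 + hsc2
  subst hb2
  have hs : a0 - 1 = 0 := by
    have : (a0 - 1) * (b1 * c2 - 0 * c1) = 0 := by
      linear_combination c2 * E1
    exact (hD.mul_left_eq_zero).1 this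
  have ha0 : a0 = 1 := by linear_combination hs
  subst ha0
  have hb1 : b1 = c2 := by linear_combination E3
  subst hb1
  have hi : IsUnit b1 := by
    have : IsUnit (b1 * b1) := by convert hD using 1; ring
    exact isUnit_of_mul_isUnit_left this
  refine ⟨a1, a2, c1, b1, hi, ?_, ?_, ?_⟩
  · rw [hx, one_smul]
  · rw [hy]; module
  · rw [hz]; module

end Groth.Agent.S13101
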