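import Groth.Statements.S13102
import Groth.Agent.Lib.Helper66.Lie3
-- import your own Groth.Agent.* helpers here

set_option autoImplicit false
universe u v w
open GrpSch

namespace Groth.Agent.S13102

/-- Let K be a field, α ∈ K, A a commutative K-algebra and L a Lie algebra over A which is free as an
A-module with basis x = bs 0, y = bs 1, z = bs 2 and brackets [x,y] = y, [x,z] = α z, [y,z] = 0. If
α² ≠ 1 then every Lie algebra automorphism φ of L over A satisfies φ(x) = x + b y + c z, φ(y) = e y,
φ(z) = i z for some b, c ∈ A and units e, i of A. If α = 1 then every such φ satisfies φ(x) = x + b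
y + c z, φ(y) = e y + f z, φ(z) = h y + i z with e i − f h a unit of A. (The printed statement
identifies the automorphism group schemes with the corresponding semidirect products, treats also α
= −1 in characteristic not 2, and computes first cohomology over a field of Laurent series; those
clauses are not restated here.) -/
theorem result (K : Type u) [Field K] (α : K) (A : Type v) [CommRing A] [Algebra K A]
    (L : Type w) [LieRing L] [LieAlgebra A L] (bs : Module.Basis (Fin 3) A L)
    (hxy : ⁅bs 0, bs 1⁆ = bs 1) (hxz : ⁅bs 0, bs 2⁆ = algebraMap K A α • bs 2) (hyz : ⁅bs 1, bs 2⁆ = 0)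
    (φ : L ≃ₗ⁅A⁆ L) :
    (α ^ 2 ≠ 1 → ∃ b c e i : A, IsUnit e ∧ IsUnit i ∧ φ (bs 0) = bs 0 + b • bs 1 + c • bs 2 ∧
        φ (bs 1) = e • bs 1 ∧ φ (bs 2) = i • bs 2) ∧
    (α = 1 → ∃ b c e f h i : A, IsUnit (e * i - f * h) ∧ φ (bs 0) = bs 0 + b • bs 1 + c • bs 2 ∧
        φ (bs 1) = e • bs 1 + f • bs 2 ∧ φ (bs 2) = h • bs 1 + i • bs 2) := by
  classical
  have hdet := Groth.Agent.Lib.Helper66.isUnit_det3 bs bs φ.toLinearEquiv
  simp only [LieEquiv.coe_toLinearEquiv] at hdet
  have hx := Groth.Agent.Lib.Helper66.repr3 bs (φ (bs 0))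
  have hy := Groth.Agent.Lib.Helper66.repr3 bs (φ (bs 1))
  have hz := Groth.Agent.Lib.Helper66.repr3 bs (φ (bs 2))
  generalize bs.repr (φ (bs 0)) 0 = a0 at hdet hx
  generalize bs.repr (φ (bs 0)) 1 = a1 at hdet hx
  generalize bs.repr (φ (bs 0)) 2 = a2 at hdet hx
  generalize bs.repr (φ (bs 1)) 0 = b0 at hdet hy
  generalize bs.repr (φ (bs 1)) 1 = b1 at hdet hy
  generalize bs.repr (φ (bs 1)) 2 = b2 at hdet hy
  generalize bs.repr (φ (bs 2)) 0 = c0 at hdet hz
  generalize bs.repr (φ (bs 2)) 1 = c1 at hdet hz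
  generalize bs.repr (φ (bs 2)) 2 = c2 at hdet hz
  generalize hβ : algebraMap K A α = β at hxz
  have e1 := φ.map_lie (bs 0) (bs 1)
  rw [hxy, hx, hy, Groth.Agent.Lib.Helper66.lie3, hxy, hxz, hyz] at e1
  have e1' : b0 • bs 0 + b1 • bs 1 + b2 • bs 2 =
      (0 : A) • bs 0 + (a0 * b1 - a1 * b0) • bs 1 + ((a0 * b2 - a2 * b0) * β) • bs 2 := by
    rw [e1]; module
  obtain ⟨hb0, r1, r2⟩ := Groth.Agent.Lib.Helper66.coords3 bs e1'
  have e2 := φ.map_lie (bs 0) (bs 2)
  rw [hxz, map_smul, hx, hz, Groth.Agent.Lib.Helper66.lie3, hxy, hxz, hyz] at e2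
  have e2' : (β * c0) • bs 0 + (β * c1) • bs 1 + (β * c2) • bs 2 =
      (0 : A) • bs 0 + (a0 * c1 - a1 * c0) • bs 1 + ((a0 * c2 - a2 * c0) * β) • bs 2 := by
    have h0 : (β * c0) • bs 0 + (β * c1) • bs 1 + (β * c2) • bs 2 =
        β • (c0 • bs 0 + c1 • bs 1 + c2 • bs 2) := by module
    rw [h0, e2]; module
  obtain ⟨hc0, r3, r4⟩ := Groth.Agent.Lib.Helper66.coords3 bs e2'
  have e3 := φ.map_lie (bs 1) (bs 2)
  rw [hyz, map_zero, hy, hz, Groth.Agent.Lib.Helper66.lie3, hxy, hxz, hyz] at e3
  have e3' : (0 : A) • bs 0 + (0 : A) • bs 1 + (0 : A) • bs 2 =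
      (0 : A) • bs 0 + (b0 * c1 - b1 * c0) • bs 1 + ((b0 * c2 - b2 * c0) * β) • bs 2 := by
    have h0 : (0 : A) • bs 0 + (0 : A) • bs 1 + (0 : A) • bs 2 = 0 := by module
    rw [h0, e3]; module
  obtain ⟨-, r5, r6⟩ := Groth.Agent.Lib.Helper66.coords3 bs e3'
  subst hb0
  constructor
  · intro hα
    have hα1 : α - 1 ≠ 0 := by
      intro h
      apply hα
      have : α = 1 := by linear_combination h
      rw [this]; ring
    have hα2 : α + 1 ≠ 0 := by
      intro h
      apply hα
      have : α = -1 := by linear_combination h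
      rw [this]; ring
    have hu1 : IsUnit (β - 1) := by
      have := (IsUnit.mk0 _ hα1).map (algebraMap K A)
      rw [map_sub, map_one, hβ] at this
      exact this
    have hu2 : IsUnit (β + 1) := by
      have := (IsUnit.mk0 _ hα2).map (algebraMap K A)
      rw [map_add, map_one, hβ] at this
      exact this
    have hc0' : c0 = 0 := by
      by_cases h0 : α = 0
      · have hβ0 : β = 0 := by rw [← hβ, h0, map_zero]
        subst hβ0
        have hb2 : b2 = 0 := by linear_combination r2
        subst hb2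
        have hdet' : IsUnit (b1 * (a0 * c2 - a2 * c0)) := by
          convert hdet using 1; ring
        have hb1u : IsUnit b1 := isUnit_of_mul_isUnit_left hdet'
        have : b1 * c0 = 0 := by linear_combination r5
        exact (hb1u.mul_right_eq_zero).1 this
      · have hβu : IsUnit β := by
          have := (IsUnit.mk0 _ h0).map (algebraMap K A)
          rw [hβ] at this
          exact this
        exact (hβu.mul_right_eq_zero).1 hc0
    subst hc0'
    have hdet' : IsUnit (a0 * (b1 * c2 - b2 * c1)) := by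
      convert hdet using 1; ring
    have hD : IsUnit (b1 * c2 - b2 * c1) := isUnit_of_mul_isUnit_right hdet'
    have R1 : (1 - a0) * b1 = 0 := by linear_combination r1
    have R2 : (1 - β * a0) * b2 = 0 := by linear_combination r2
    have R3 : (β - a0) * c1 = 0 := by linear_combination r3
    have R4 : β * (1 - a0) * c2 = 0 := by linear_combination r4
    have S1 : (1 - a0) * (1 - β * a0) = 0 := by
      have : (1 - a0) * (1 - β * a0) * (b1 * c2 - b2 * c1) = 0 := by
        linear_combination ((1 - β * a0) * c2) * R1 - ((1 - a0) * c1) * R2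
      exact (hD.mul_left_eq_zero).1 this
    have S2 : (1 - a0) * (β - a0) = 0 := by
      have : (1 - a0) * (β - a0) * (b1 * c2 - b2 * c1) = 0 := by
        linear_combination ((β - a0) * c2) * R1 - ((1 - a0) * b2) * R3
      exact (hD.mul_left_eq_zero).1 this
    have S3 : (1 - a0) ^ 2 = 0 := by
      have : (β + 1) * (1 - a0) ^ 2 = 0 := by linear_combination S1 + S2
      exact (hu2.mul_right_eq_zero).1 this
    have S4 : 1 - a0 = 0 := by
      have : (β - 1) * (1 - a0) = 0 := by linear_combination S2 - S3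
      exact (hu1.mul_right_eq_zero).1 this
    have ha0 : a0 = 1 := by linear_combination (-1 : A) * S4
    subst ha0
    have hb2 : b2 = 0 := by
      have : (β - 1) * b2 = 0 := by linear_combination (-1 : A) * R2
      exact (hu1.mul_right_eq_zero).1 this
    have hc1 : c1 = 0 := by
      have : (β - 1) * c1 = 0 := by linear_combination R3
      exact (hu1.mul_right_eq_zero).1 this
    subst hb2
    subst hc1
    have hD' : IsUnit (b1 * c2) := by convert hD using 1; ring
    refine ⟨a1, a2, b1, c2, isUnit_of_mul_isUnit_left hD', isUnit_of_mul_isUnit_right hD', ?_, ?_, ?_⟩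
    · rw [hx, one_smul]
    · rw [hy]; module
    · rw [hz]; module
  · intro hα
    have hβ1 : β = 1 := by rw [← hβ, hα, map_one]
    subst hβ1
    have hc0' : c0 = 0 := by linear_combination hc0
    subst hc0'
    have hdet' : IsUnit (a0 * (b1 * c2 - b2 * c1)) := by
      convert hdet using 1; ring
    have hD : IsUnit (b1 * c2 - b2 * c1) := isUnit_of_mul_isUnit_right hdet'
    have R1 : (1 - a0) * b1 = 0 := by linear_combination r1
    have R2 : (1 - a0) * b2 = 0 := by linear_combination r2
    have S4 : 1 - a0 = 0 := by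
      have : (1 - a0) * (b1 * c2 - b2 * c1) = 0 := by
        linear_combination c2 * R1 - c1 * R2
      exact (hD.mul_left_eq_zero).1 this
    have ha0 : a0 = 1 := by linear_combination (-1 : A) * S4
    subst ha0
    refine ⟨a1, a2, b1, b2, c1, c2, hD, ?_, ?_, ?_⟩
    · rw [hx, one_smul]
    · rw [hy]; module
    · rw [hz]; module

end Groth.Agent.S13102
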