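import Groth.Statements.S13104
import Mathlib.AlgebraicGeometry.Morphisms.Flat
import Mathlib.AlgebraicGeometry.AffineScheme
import Mathlib.RingTheory.DualNumber
import Mathlib.RingTheory.Localization.AtPrime.Basic
-- import your own Groth.Agent.* helpers here

set_option autoImplicit false
universe u
open GrpSch

namespace Groth.Agent.S13104


/-- Injectivity of the induced map on localizations, when every element outside `q` divides the
image of an element outside `p`. -/
theorem localRingHom_injective_of {R S : Type*} [CommRing R] [CommRing S] (f : R →+* S)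
    (hf : Function.Injective f) (q : Ideal S) [q.IsPrime] (p : Ideal R) [p.IsPrime]
    (hpq : p = q.comap f) (h : ∀ s : S, s ∉ q → ∃ r : R, r ∉ p ∧ s ∣ f r) :
    Function.Injective (Localization.localRingHom p q f hpq) := by
  rw [injective_iff_map_eq_zero]
  intro x hx
  obtain ⟨a, r0, rfl⟩ := IsLocalization.mk'_surjective p.primeCompl x
  rw [Localization.localRingHom_mk', IsLocalization.mk'_eq_zero_iff] at hx
  obtain ⟨m, hm⟩ := hx
  obtain ⟨r, hr, t, ht⟩ := h m.1 m.2
  rw [IsLocalization.mk'_eq_zero_iff]
  refine ⟨⟨r, hr⟩, ?_⟩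
  apply hf
  rw [map_mul, map_zero, ht, mul_assoc, mul_comm t, ← mul_assoc, hm, zero_mul]

/-- A ring homomorphism that is injective, surjective on spectra and such that every element
outside a prime `q` divides the image of an element outside the contraction of `q`
induces an epimorphism of affine schemes. -/
theorem epi_specMap_of {R S : CommRingCat.{u}} (f : R ⟶ S)
    (hf : Function.Injective f.hom)
    (hsurj : Function.Surjective (PrimeSpectrum.comap f.hom))
    (h : ∀ (q : Ideal S) [q.IsPrime] (s : S), s ∉ q → ∃ r : R, r ∉ q.comap f.hom ∧ s ∣ f.hom r) :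
    CategoryTheory.Epi (AlgebraicGeometry.Spec.map f) := by
  apply CategoryTheory.Functor.epi_of_epi_map (AlgebraicGeometry.Scheme.forgetToLocallyRingedSpace)
  apply CategoryTheory.Functor.epi_of_epi_map (AlgebraicGeometry.LocallyRingedSpace.forgetToSheafedSpace)
  apply AlgebraicGeometry.SheafedSpace.epi_of_base_surjective_of_stalk_mono _ hsurj
  intro x
  let x' : PrimeSpectrum S := x
  change CategoryTheory.Mono ((AlgebraicGeometry.Spec.map f).stalkMap x')
  rw [← CategoryTheory.MorphismProperty.monomorphisms.iff,
    (CategoryTheory.MorphismProperty.monomorphisms CommRingCat).arrow_mk_iso_iff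
      (AlgebraicGeometry.Scheme.arrowStalkMapSpecIso f x'),
    CategoryTheory.MorphismProperty.monomorphisms.iff]
  apply CategoryTheory.ConcreteCategory.mono_of_injective
  exact localRingHom_injective_of f.hom hf x'.asIdeal _ rfl (fun s hs => h x'.asIdeal s hs)

open CategoryTheory AlgebraicGeometry in
/-- Let B be a commutative ring, B[ε] the ring of dual numbers (ε² = 0) and B[α, β]/(α², β²) the double
dual numbers, realised as dual numbers over the dual numbers with α the inner and β the outer
generator, and let ψ : B[ε] → B[α, β]/(α², β²) be the B-algebra homomorphism with ψ(ε) = αβ. Then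
for every scheme G the map u ↦ Spec(ψ) ≫ u from morphisms Spec B[ε] → G to morphisms Spec
B[α,β]/(α²,β²) → G is injective. (The printed statement is its consequence for a group scheme G: the
map Lie(G)(B) → G(B[α,β]/(α²,β²)), x ↦ exp(αβ x), is injective; the injectivity on all B[ε]-points
stated here is what the printed argument establishes.) -/
theorem result (B : Type u) [CommRing B]
    (ψ : DualNumber B →+* DualNumber (DualNumber B))
    (hψB : ∀ b : B, ψ (algebraMap B (DualNumber B) b) = algebraMap B (DualNumber (DualNumber B)) b)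
    (hψ : ψ DualNumber.eps = algebraMap (DualNumber B) (DualNumber (DualNumber B)) DualNumber.eps * DualNumber.eps)
    (G : Scheme.{u}) :
    Function.Injective (fun u : Spec (CommRingCat.of (DualNumber B)) ⟶ G =>
      Spec.map (CommRingCat.ofHom (R := DualNumber B) (S := DualNumber (DualNumber B)) ψ) ≫ u) := by
  classical
  -- explicit description of ψ
  have hdecomp : ∀ d : DualNumber B,
      d = algebraMap B (DualNumber B) d.fst + algebraMap B (DualNumber B) d.snd * DualNumber.eps := by
    intro d
    conv_lhs => rw [← TrivSqZeroExt.inl_fst_add_inr_snd_eq d]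
    rw [DualNumber.inr_eq_smul_eps, Algebra.smul_def, TrivSqZeroExt.algebraMap_eq_inl]
  have hψd : ∀ d : DualNumber B, ψ d = algebraMap B (DualNumber (DualNumber B)) d.fst +
      algebraMap B (DualNumber (DualNumber B)) d.snd *
        (algebraMap (DualNumber B) (DualNumber (DualNumber B)) DualNumber.eps * DualNumber.eps) := by
    intro d
    conv_lhs => rw [hdecomp d]
    rw [map_add, map_mul, hψB, hψB, hψ]
  have hF1 : ∀ d : DualNumber B, (ψ d).fst.fst = d.fst := by
    intro d
    rw [hψd]
    simp [TrivSqZeroExt.algebraMap_eq_inl']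
  have hF2 : ∀ d : DualNumber B, (ψ d).snd.snd = d.snd := by
    intro d
    rw [hψd]
    simp [TrivSqZeroExt.algebraMap_eq_inl']
  have hinj : Function.Injective ψ := by
    intro d d' h
    apply TrivSqZeroExt.ext
    · rw [← hF1 d, ← hF1 d', h]
    · rw [← hF2 d, ← hF2 d', h]
  -- nilpotent part
  have hnil1 : ∀ d : DualNumber B, IsNilpotent (d - algebraMap B (DualNumber B) d.fst) := by
    intro d
    rw [TrivSqZeroExt.isNilpotent_iff_isNilpotent_fst]
    simp [TrivSqZeroExt.algebraMap_eq_inl]
  have hnil2 : ∀ s : DualNumber (DualNumber B),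
      IsNilpotent (s - algebraMap B (DualNumber (DualNumber B)) s.fst.fst) := by
    intro s
    rw [TrivSqZeroExt.isNilpotent_iff_isNilpotent_fst, TrivSqZeroExt.isNilpotent_iff_isNilpotent_fst]
    simp [TrivSqZeroExt.algebraMap_eq_inl']
  -- the bundled homomorphism
  let φ : CommRingCat.of (DualNumber B) ⟶ CommRingCat.of (DualNumber (DualNumber B)) :=
    CommRingCat.ofHom (R := DualNumber B) (S := DualNumber (DualNumber B)) ψ
  have hφ : ∀ d : DualNumber B, φ.hom d = ψ d := fun _ => rfl
  -- surjectivity on spectra
  have hsurj : Function.Surjective (PrimeSpectrum.comap φ.hom) := by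
    intro p
    let π : DualNumber (DualNumber B) →+* B :=
      (TrivSqZeroExt.fstHom B B B).toRingHom.comp
        (TrivSqZeroExt.fstHom (DualNumber B) (DualNumber B) (DualNumber B)).toRingHom
    have hπ : ∀ s, π s = s.fst.fst := fun s => rfl
    refine ⟨PrimeSpectrum.comap π (PrimeSpectrum.comap (algebraMap B (DualNumber B)) p), ?_⟩
    ext d
    simp only [PrimeSpectrum.comap_asIdeal, Ideal.mem_comap, hπ, hφ, hF1]
    have h2 : d - algebraMap B (DualNumber B) d.fst ∈ p.asIdeal :=
      nilradical_le_prime p.asIdeal ((mem_nilradical).2 (hnil1 d))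
    constructor
    · intro h
      have := p.asIdeal.add_mem h2 h
      simpa using this
    · intro h
      have := p.asIdeal.sub_mem h h2
      simpa using this
  have hdiv : ∀ (q : Ideal (DualNumber (DualNumber B))) [q.IsPrime] (s : DualNumber (DualNumber B)),
      s ∉ q → ∃ r : DualNumber B, r ∉ q.comap φ.hom ∧ s ∣ φ.hom r := by
    intro q hq s hs
    obtain ⟨k, hk⟩ := hnil2 s
    set c := algebraMap B (DualNumber (DualNumber B)) s.fst.fst with hc
    have hcψ : c = ψ (algebraMap B (DualNumber B) s.fst.fst) := (hψB _).symm
    have hnq : s - c ∈ q := hq.mem_of_pow_mem k (by rw [hk]; exact q.zero_mem)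
    refine ⟨(algebraMap B (DualNumber B) s.fst.fst) ^ k, ?_, ?_⟩
    · intro hmem
      rw [Ideal.mem_comap, hφ, map_pow, ← hcψ] at hmem
      have hcq : c ∈ q := hq.mem_of_pow_mem k hmem
      apply hs
      have := q.add_mem hnq hcq
      simpa using this
    · rw [hφ, map_pow, ← hcψ]
      have h1 := sub_dvd_pow_sub_pow c (-(s - c)) k
      have h2 : (-(s - c)) ^ k = 0 := by
        rw [neg_pow, hk, mul_zero]
      rw [h2, sub_zero] at h1
      convert h1 using 1
      ring
  have hepi : Epi (Spec.map φ) := epi_specMap_of φ hinj hsurj hdiv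
  intro u₁ u₂ h
  exact (cancel_epi (Spec.map φ)).1 h

end Groth.Agent.S13104
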