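import Groth.Statements.S13105
import Groth.Agent.Lib.Helper28.Lie3Orig
import Mathlib.RingTheory.Ideal.Maps
import Mathlib.RingTheory.Ideal.Quotient.Operations
import Mathlib.RingTheory.RegularLocalRing.Polynomial
import Mathlib.RingTheory.Localization.Ideal
import Groth.Agent.Lib.Helper73.DimField

set_option autoImplicit false
universe u
open Lie3Mod

namespace Groth.Agent.S13105

open Groth.Agent.Lib.Helper28.Lie3 MvPolynomial


variable (k : Type u) [Field k] (t : k)

/-- the point `[x,y] = y, [x,z] = t z, [y,z] = 0` -/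
def pt : Fin 9 → k := ![0, 1, 0, 0, 0, t, 0, 0, 0]

noncomputable def mP : Ideal (D k) :=
  Ideal.span ({X 0, X 1 - 1, X 2, X 3, X 4, X 5 - C t, X 6, X 7, X 8} : Set (D k))

noncomputable def I2 : Ideal (D k) :=
  Ideal.span ({X 0, X 1 - 1, X 2, X 4, X 5 - C t, X 7} : Set (D k))

lemma aeval_C_eq (v : Fin 9 → k) (p : MvPolynomial (Fin 9) k) :
    aeval (fun j => (C (v j) : MvPolynomial (Fin 9) k)) p = C (eval v p) := by
  induction p using MvPolynomial.induction_on with
  | C a => simp
  | add p q hp hq => rw [map_add, map_add, map_add, hp, hq]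
  | mul_X p j hp => rw [map_mul, map_mul, aeval_X, eval_X, C_mul, hp]

lemma mP_eq_ker : mP k t = RingHom.ker (eval (pt k t)) := by
  apply le_antisymm
  · unfold mP
    rw [Ideal.span_le]
    intro p hp
    simp only [Set.mem_insert_iff, Set.mem_singleton_iff] at hp
    rw [SetLike.mem_coe, RingHom.mem_ker]
    rcases hp with rfl | rfl | rfl | rfl | rfl | rfl | rfl | rfl | rfl <;> simp [pt]
  · intro p hp
    rw [RingHom.mem_ker] at hp
    have h := sub_aeval_mem (fun j => (C (pt k t j) : MvPolynomial (Fin 9) k)) p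
    rw [aeval_C_eq, hp, C_0, sub_zero] at h
    refine Ideal.span_le.2 ?_ h
    rintro _ ⟨j, rfl⟩
    unfold mP
    apply Ideal.subset_span
    fin_cases j <;> simp [pt]

instance mP_isMaximal : (mP k t).IsMaximal := by
  rw [mP_eq_ker]
  exact RingHom.ker_isMaximal_of_surjective _ (fun a => ⟨C a, by simp⟩)

lemma mem_mP_iff (p : D k) : p ∈ mP k t ↔ eval (pt k t) p = 0 := by
  rw [mP_eq_ker, RingHom.mem_ker]

lemma idJ_le_mP : idJ k ≤ mP k t := by
  unfold idJ
  rw [Ideal.span_le]
  intro p hp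
  simp only [Set.mem_insert_iff, Set.mem_singleton_iff] at hp
  rw [SetLike.mem_coe, mem_mP_iff]
  rcases hp with rfl | rfl | rfl | rfl
  · simp [Q1, pt]
  · simp [Q2, pt]
  · simp [Q3, pt]
  · simp [detM, pt]

lemma I2_le_mP : I2 k t ≤ mP k t := by
  unfold I2
  rw [Ideal.span_le]
  intro p hp
  simp only [Set.mem_insert_iff, Set.mem_singleton_iff] at hp
  rw [SetLike.mem_coe, mem_mP_iff]
  rcases hp with rfl | rfl | rfl | rfl | rfl | rfl <;> simp [pt]

lemma eval_L2 : eval (pt k t) (L2 k) = 1 + t := by simp [L2, pt]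

lemma eval_minor : eval (pt k t) (X 1 * X 5 - X 4 * X 2 : MvPolynomial (Fin 9) k) = t := by
  simp [pt]

/-- retraction onto the coordinates `d, g, i`, the other six being specialised to the point -/
noncomputable def w : Fin 9 → MvPolynomial (Fin 9) k :=
  ![0, 1, 0, X 3, 0, C t, X 6, 0, X 8]

lemma sub_rho_mem (p : D k) : p - aeval (w k t) p ∈ I2 k t := by
  have h := sub_aeval_mem (w k t) p
  refine Ideal.span_le.2 ?_ h
  rintro _ ⟨j, rfl⟩
  unfold I2
  fin_cases j
  · exact Ideal.subset_span (by simp [w])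
  · exact Ideal.subset_span (by simp [w])
  · exact Ideal.subset_span (by simp [w])
  · simp [w]
  · exact Ideal.subset_span (by simp [w])
  · exact Ideal.subset_span (by simp [w])
  · simp [w]
  · exact Ideal.subset_span (by simp [w])
  · simp [w]

lemma rho_Q1 : aeval (w k t) (Q1 k) = X 3 * X 8 - C (1 + t) * X 6 := by
  simp [Q1, w]; ring
lemma rho_Q2 : aeval (w k t) (Q2 k) = X 3 := by
  simp [Q2, w]
lemma rho_Q3 : aeval (w k t) (Q3 k) = -X 8 := by
  simp [Q3, w]
lemma rho_detM : aeval (w k t) (detM k) = C t * X 6 := by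
  simp [detM, w]; ring

lemma Q1_mem_J' : Q1 k ∈ idJ k := Ideal.subset_span (by simp)
lemma Q2_mem_J' : Q2 k ∈ idJ k := Ideal.subset_span (by simp)
lemma Q3_mem_J' : Q3 k ∈ idJ k := Ideal.subset_span (by simp)
lemma detM_mem_J' : detM k ∈ idJ k := Ideal.subset_span (by simp)

lemma mem_sup_of_rho {p : D k} (hp : p ∈ idJ k) : aeval (w k t) p ∈ idJ k ⊔ I2 k t := by
  have : aeval (w k t) p = p - (p - aeval (w k t) p) := by ring
  rw [this]
  exact Ideal.sub_mem _ (Ideal.mem_sup_left hp) (Ideal.mem_sup_right (sub_rho_mem k t p))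

lemma X3_mem : (X 3 : MvPolynomial (Fin 9) k) ∈ idJ k ⊔ I2 k t := by
  rw [← rho_Q2 k t]; exact mem_sup_of_rho k t (Q2_mem_J' k)

lemma X8_mem : (X 8 : MvPolynomial (Fin 9) k) ∈ idJ k ⊔ I2 k t := by
  have := mem_sup_of_rho k t (Q3_mem_J' k)
  rw [rho_Q3] at this
  exact (Ideal.neg_mem_iff _).1 this

lemma X6_mem : (X 6 : MvPolynomial (Fin 9) k) ∈ idJ k ⊔ I2 k t := by
  by_cases ht : t = 0
  · have h1 : (1 + t) ≠ 0 := by rw [ht]; simp
    have h2 := mem_sup_of_rho k t (Q1_mem_J' k)
    rw [rho_Q1] at h2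
    have h3 : C (1 + t) * (X 6 : MvPolynomial (Fin 9) k) ∈ idJ k ⊔ I2 k t := by
      have : C (1 + t) * (X 6 : MvPolynomial (Fin 9) k)
          = X 3 * X 8 - (X 3 * X 8 - C (1 + t) * X 6) := by ring
      rw [this]
      exact Ideal.sub_mem _ (Ideal.mul_mem_right _ _ (X3_mem k t)) h2
    have h4 : (X 6 : MvPolynomial (Fin 9) k) = C (1 + t)⁻¹ * (C (1 + t) * X 6) := by
      rw [← mul_assoc, ← C_mul, inv_mul_cancel₀ h1, C_1, one_mul]
    rw [h4]
    exact Ideal.mul_mem_left _ _ h3
  · have h2 := mem_sup_of_rho k t (detM_mem_J' k)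
    rw [rho_detM] at h2
    have h4 : (X 6 : MvPolynomial (Fin 9) k) = C t⁻¹ * (C t * X 6) := by
      rw [← mul_assoc, ← C_mul, inv_mul_cancel₀ ht, C_1, one_mul]
    rw [h4]
    exact Ideal.mul_mem_left _ _ h2

lemma sup_eq_mP : idJ k ⊔ I2 k t = mP k t := by
  apply le_antisymm
  · exact sup_le (idJ_le_mP k t) (I2_le_mP k t)
  · have hI : ∀ p ∈ ({X 0, X 1 - 1, X 2, X 4, X 5 - C t, X 7} : Set (D k)), p ∈ idJ k ⊔ I2 k t :=
      fun p hp => Ideal.mem_sup_right (Ideal.subset_span hp)
    unfold mP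
    rw [Ideal.span_le]
    intro p hp
    simp only [Set.mem_insert_iff, Set.mem_singleton_iff] at hp
    rcases hp with rfl | rfl | rfl | rfl | rfl | rfl | rfl | rfl | rfl
    · exact hI _ (by simp)
    · exact hI _ (by simp)
    · exact hI _ (by simp)
    · exact X3_mem k t
    · exact hI _ (by simp)
    · exact hI _ (by simp)
    · exact X6_mem k t
    · exact hI _ (by simp)
    · exact X8_mem k t

section Quot

open IsLocalRing

variable {A : Type*} [CommRing A]

/-- (after helper98, `Lib/Helper98/FixedReg`) quotient of a local ring by a proper ideal -/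
theorem isLocalRing_quotient [IsLocalRing A] (I : Ideal A) (hI : I ≤ maximalIdeal A) :
    IsLocalRing (A ⧸ I) := by
  have hne : I ≠ ⊤ := ne_top_of_le_ne_top (maximalIdeal.isMaximal A).ne_top hI
  have : Nontrivial (A ⧸ I) := Ideal.Quotient.nontrivial_iff.mpr hne
  exact IsLocalRing.of_surjective' (Ideal.Quotient.mk I) Ideal.Quotient.mk_surjective

theorem map_mk_maximalIdeal [IsLocalRing A] (I : Ideal A) (hI : I ≤ maximalIdeal A)
    [IsLocalRing (A ⧸ I)] :
    (maximalIdeal A).map (Ideal.Quotient.mk I) = maximalIdeal (A ⧸ I) := by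
  have hne : I ≠ ⊤ := ne_top_of_le_ne_top (maximalIdeal.isMaximal A).ne_top hI
  have := IsLocalHom.of_surjective (Ideal.Quotient.mk I) Ideal.Quotient.mk_surjective
  ext x
  obtain ⟨x, rfl⟩ := Ideal.Quotient.mk_surjective x
  simp [sup_eq_left.mpr (le_maximalIdeal hne)]

/-- Quotient of a regular local ring of dimension `n` by an ideal `I₁` generated by `a` elements,
complemented by an ideal `I₂` generated by `b` elements with `a + b ≤ n`: regular of dimension `b`. -/
theorem isRegularLocalRing_quotient_of_sup [IsRegularLocalRing A] (I₁ I₂ : Ideal A) (n a b : ℕ)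
    (hn : (maximalIdeal A).spanFinrank = n) (ha : I₁.spanFinrank ≤ a) (hb : I₂.spanFinrank ≤ b)
    (hab : n = a + b)
    (hsup : I₁ ⊔ I₂ = maximalIdeal A) :
    ∃ _ : IsLocalRing (A ⧸ I₁), IsRegularLocalRing (A ⧸ I₁) ∧ ringKrullDim (A ⧸ I₁) = b := by
  have hI₁ : I₁ ≤ maximalIdeal A := hsup ▸ le_sup_left
  have hloc := isLocalRing_quotient I₁ hI₁
  refine ⟨hloc, ?_⟩
  have hmax : maximalIdeal (A ⧸ I₁) = I₂.map (Ideal.Quotient.mk I₁) := by
    rw [← map_mk_maximalIdeal I₁ hI₁, ← hsup, Ideal.map_sup, Ideal.map_quotient_self, bot_sup_eq]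
  have h1 : (maximalIdeal (A ⧸ I₁)).spanFinrank ≤ I₂.spanFinrank :=
    hmax ▸ Ideal.spanFinrank_map_le_of_fg _ (IsNoetherian.noetherian I₂)
  have h2 := ringKrullDim_le_ringKrullDim_quotient_add_spanFinrank I₁
    (by rw [IsLocalRing.ringJacobson_eq_maximalIdeal]; exact hI₁)
  have h3 : ((maximalIdeal A).spanFinrank : WithBot ℕ∞) = ringKrullDim A :=
    IsRegularLocalRing.spanFinrank_maximalIdeal
  obtain ⟨d, hd⟩ : ∃ d : ℕ∞, ringKrullDim (A ⧸ I₁) = d :=
    ⟨_, (WithBot.coe_unbot _ (ringKrullDim_ne_bot)).symm⟩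
  rw [hd] at h2
  rw [← h3, hn] at h2
  have h4 : (n : ℕ∞) ≤ d + I₁.spanFinrank := by exact_mod_cast h2
  have h5 : (b : ℕ∞) ≤ d := by
    have h6 : ((a + b : ℕ) : ℕ∞) ≤ d + a := by
      rw [← hab]
      refine h4.trans ?_
      gcongr
    rw [Nat.cast_add, add_comm] at h6
    exact (ENat.add_le_add_iff_right (ENat.natCast_ne_top _)).mp h6
  have h7 : ringKrullDim (A ⧸ I₁) ≤ (maximalIdeal (A ⧸ I₁)).spanFinrank :=
    ringKrullDim_le_spanFinrank_maximalIdeal _
  have h8 : (d : WithBot ℕ∞) ≤ (b : ℕ) := by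
    rw [← hd]
    refine h7.trans ?_
    exact_mod_cast h1.trans hb
  have h9 : (d : WithBot ℕ∞) = (b : ℕ) := le_antisymm h8 (by exact_mod_cast h5)
  constructor
  · apply IsRegularLocalRing.of_spanFinrank_maximalIdeal_le
    rw [hd, h9]
    exact_mod_cast h1.trans hb
  · rw [hd, h9]

end Quot

section Loc

open IsLocalRing

variable (k : Type u) [Field k] (t : k)

abbrev AP := Localization.AtPrime (mP k t)

instance : IsRegularLocalRing (AP k t) := inferInstance

lemma height_mP : (mP k t).height = 9 := by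
  obtain ⟨n, -, hdim, hmax, -⟩ :=
    Groth.Agent.Lib.Helper73.DimFormula.exists_trdeg_eq_ringKrullDim k (D k)
  have h9 : ringKrullDim (D k) = 9 := by
    rw [MvPolynomial.ringKrullDim_of_isNoetherianRing, ringKrullDim_eq_zero_of_field]; simp
  rw [hdim] at h9
  have hn : n = 9 := by exact_mod_cast h9
  rw [hmax (mP k t), hn]; rfl

lemma spanFinrank_max : (maximalIdeal (AP k t)).spanFinrank = 9 := by
  have h3 : ((maximalIdeal (AP k t)).spanFinrank : WithBot ℕ∞) = ringKrullDim (AP k t) :=
    IsRegularLocalRing.spanFinrank_maximalIdeal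
  rw [IsLocalization.AtPrime.ringKrullDim_eq_height (mP k t) (AP k t), height_mP] at h3
  exact_mod_cast h3

lemma alg_mem_of_unit_mul {u p : D k} (hu : u ∉ mP k t) (K : Ideal (D k)) (h : u * p ∈ K) :
    algebraMap (D k) (AP k t) p ∈ K.map (algebraMap (D k) (AP k t)) := by
  have hunit : IsUnit (algebraMap (D k) (AP k t) u) :=
    IsLocalization.map_units (AP k t) (⟨u, hu⟩ : (mP k t).primeCompl)
  have h1 := Ideal.mem_map_of_mem (algebraMap (D k) (AP k t)) h
  rw [map_mul] at h1
  exact (Ideal.unit_mul_mem_iff_mem _ hunit).1 h1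

lemma ncard_three {α : Type*} (a b c : α) : ({a, b, c} : Set α).ncard ≤ 3 := by
  have h1 := Set.ncard_insert_le a ({b, c} : Set α)
  have h2 := Set.ncard_insert_le b ({c} : Set α)
  rw [Set.ncard_singleton] at h2
  omega

lemma ncard_six {α : Type*} (a b c d e f : α) : ({a, b, c, d, e, f} : Set α).ncard ≤ 6 := by
  have h1 := Set.ncard_insert_le a ({b, c, d, e, f} : Set α)
  have h2 := Set.ncard_insert_le b ({c, d, e, f} : Set α)
  have h3 := Set.ncard_insert_le c ({d, e, f} : Set α)
  have h4 := ncard_three d e f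
  omega

lemma spanFinrank_map_span_le (G : Set (D k)) (hG : G.Finite) (n : ℕ) (hn : G.ncard ≤ n) :
    ((Ideal.span G).map (algebraMap (D k) (AP k t))).spanFinrank ≤ n := by
  rw [Ideal.map_span]
  have h1 := Submodule.spanFinrank_span_le_ncard_of_finite (R := AP k t) (hG.image
    (algebraMap (D k) (AP k t)))
  exact h1.trans ((Set.ncard_image_le hG).trans hn)

lemma exists_gens : ∃ G : Set (D k), G.Finite ∧ G.ncard ≤ 3 ∧
    (idJ k).map (algebraMap (D k) (AP k t)) = (Ideal.span G).map (algebraMap (D k) (AP k t)) := by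
  by_cases ht : 1 + t = 0
  · -- `t = -1 ≠ 0`
    have ht0 : t ≠ 0 := by
      rintro rfl
      simp at ht
    refine ⟨{Q2 k, Q3 k, detM k}, by simp, ncard_three _ _ _, ?_⟩
    apply le_antisymm
    · rw [Ideal.map_le_iff_le_comap]
      unfold idJ
      rw [Ideal.span_le]
      intro p hp
      simp only [Set.mem_insert_iff, Set.mem_singleton_iff] at hp
      rw [SetLike.mem_coe, Ideal.mem_comap]
      rcases hp with rfl | rfl | rfl | rfl
      · refine alg_mem_of_unit_mul k t (u := X 1 * X 5 - X 4 * X 2) ?_ _ ?_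
        · rw [mem_mP_iff, eval_minor]; exact ht0
        · have : (X 1 * X 5 - X 4 * X 2 : MvPolynomial (Fin 9) k) * Q1 k
              = (X 7 * X 2 + X 8 * X 5) * Q2 k + (-(X 7 * X 1) - X 8 * X 4) * Q3 k
                - L2 k * detM k := by
            have := detM_L2 k
            linear_combination this
          rw [this]
          refine Ideal.sub_mem _ (Ideal.add_mem _ ?_ ?_) ?_
          · exact Ideal.mul_mem_left _ _ (Ideal.subset_span (by simp))
          · exact Ideal.mul_mem_left _ _ (Ideal.subset_span (by simp))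
          · exact Ideal.mul_mem_left _ _ (Ideal.subset_span (by simp))
      · exact Ideal.mem_map_of_mem _ (Ideal.subset_span (by simp))
      · exact Ideal.mem_map_of_mem _ (Ideal.subset_span (by simp))
      · exact Ideal.mem_map_of_mem _ (Ideal.subset_span (by simp))
    · apply Ideal.map_mono
      rw [Ideal.span_le]
      intro p hp
      simp only [Set.mem_insert_iff, Set.mem_singleton_iff] at hp
      rcases hp with rfl | rfl | rfl
      · exact Q2_mem_J' k
      · exact Q3_mem_J' k
      · exact detM_mem_J' k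
  · refine ⟨{Q1 k, Q2 k, Q3 k}, by simp, ncard_three _ _ _, ?_⟩
    apply le_antisymm
    · rw [Ideal.map_le_iff_le_comap]
      unfold idJ
      rw [Ideal.span_le]
      intro p hp
      simp only [Set.mem_insert_iff, Set.mem_singleton_iff] at hp
      rw [SetLike.mem_coe, Ideal.mem_comap]
      rcases hp with rfl | rfl | rfl | rfl
      · exact Ideal.mem_map_of_mem _ (Ideal.subset_span (by simp))
      · exact Ideal.mem_map_of_mem _ (Ideal.subset_span (by simp))
      · exact Ideal.mem_map_of_mem _ (Ideal.subset_span (by simp))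
      · refine alg_mem_of_unit_mul k t (u := L2 k) ?_ _ ?_
        · rw [mem_mP_iff, eval_L2]; exact ht
        · rw [mul_comm]
          exact detM_mul_mem_idI k (L2_mem k)
    · apply Ideal.map_mono
      rw [Ideal.span_le]
      intro p hp
      simp only [Set.mem_insert_iff, Set.mem_singleton_iff] at hp
      rcases hp with rfl | rfl | rfl
      · exact Q1_mem_J' k
      · exact Q2_mem_J' k
      · exact Q3_mem_J' k

/-- the local ring `A_m / J A_m` is regular of dimension 6 -/
theorem quot_regular :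
    ∃ _ : IsLocalRing (AP k t ⧸ (idJ k).map (algebraMap (D k) (AP k t))),
      IsRegularLocalRing (AP k t ⧸ (idJ k).map (algebraMap (D k) (AP k t))) ∧
      ringKrullDim (AP k t ⧸ (idJ k).map (algebraMap (D k) (AP k t))) = (6 : ℕ) := by
  obtain ⟨G, hfin, hcard, hG⟩ := exists_gens k t
  refine isRegularLocalRing_quotient_of_sup _ ((I2 k t).map (algebraMap (D k) (AP k t))) 9 3 6
    (spanFinrank_max k t) ?_ ?_ rfl ?_
  · rw [hG]
    exact spanFinrank_map_span_le k t G hfin 3 hcard
  · unfold I2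
    exact spanFinrank_map_span_le k t _ (by simp) 6 (ncard_six _ _ _ _ _ _)
  · rw [← Ideal.map_sup, sup_eq_mP, Localization.AtPrime.map_eq_maximalIdeal]

instance map_isPrime : (Ideal.map (Ideal.Quotient.mk (idJ k)) (mP k t)).IsPrime :=
  Ideal.map_isPrime_of_surjective Ideal.Quotient.mk_surjective
    (by rw [Ideal.mk_ker]; exact idJ_le_mP k t)

lemma submonoid_eq :
    Algebra.algebraMapSubmonoid (D k ⧸ idJ k) (mP k t).primeCompl
      = (Ideal.map (Ideal.Quotient.mk (idJ k)) (mP k t)).primeCompl := by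
  ext x
  obtain ⟨x, rfl⟩ := Ideal.Quotient.mk_surjective x
  rw [Ideal.mem_primeCompl_iff, Ideal.mem_quotient_iff_mem (idJ_le_mP k t)]
  constructor
  · rintro ⟨y, hy, hxy⟩
    intro hx
    apply hy
    have h1 : y - x ∈ idJ k := by
      rw [← Ideal.Quotient.eq]
      exact hxy
    have : y = (y - x) + x := by ring
    rw [SetLike.mem_coe, this]
    exact Ideal.add_mem _ (idJ_le_mP k t h1) hx
  · intro hx
    exact ⟨x, hx, rfl⟩

theorem main :
    IsRegularLocalRing (Localization.AtPrime (Ideal.map (Ideal.Quotient.mk (idJ k)) (mP k t))) ∧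
      ringKrullDim (Localization.AtPrime (Ideal.map (Ideal.Quotient.mk (idJ k)) (mP k t))) = 6 := by
  obtain ⟨hloc, hreg, hdim⟩ := quot_regular k t
  have inst : IsLocalization (Algebra.algebraMapSubmonoid (D k ⧸ idJ k) (mP k t).primeCompl)
      (AP k t ⧸ (idJ k).map (algebraMap (D k) (AP k t))) := inferInstance
  rw [submonoid_eq] at inst
  let e := IsLocalization.algEquiv (Ideal.map (Ideal.Quotient.mk (idJ k)) (mP k t)).primeCompl
    (AP k t ⧸ (idJ k).map (algebraMap (D k) (AP k t)))
    (Localization.AtPrime (Ideal.map (Ideal.Quotient.mk (idJ k)) (mP k t)))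
  constructor
  · exact IsRegularLocalRing.of_ringEquiv
      (R := AP k t ⧸ (idJ k).map (algebraMap (D k) (AP k t))) e.toRingEquiv
  · rw [← ringKrullDim_eq_of_ringEquiv e.toRingEquiv, hdim]; rfl

end Loc

open MvPolynomial in
/-- Let k be a field, t ∈ k, D = k[a,b,c,d,e,f,g,h,i] and J = (Q1, Q2, Q3, det M) with Q1 = ah + di − fg
− bg, Q2 = ie + bd − fh − ae, Q3 = hc + dc − af − bi, det M = −ch² + gbf + ei² − gec + hbi − ihf.
The maximal ideal (a, b − 1, c, d, e, f − t, g, h, i) of D contains J (it is the point given by the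
Lie algebra with [x,y] = y, [x,z] = t z, [y,z] = 0), and the localization of D/J at the
corresponding prime is a regular local ring of Krull dimension 6: the scheme Spec(D/J) has a smooth
k-rational point. -/
theorem result (k : Type u) [Field k] (t : k)
    (P : Ideal (Lie3Mod.D k ⧸ Lie3Mod.idJ k)) [P.IsPrime]
    (hP : P = Ideal.map (Ideal.Quotient.mk (Lie3Mod.idJ k))
      (Ideal.span ({X 0, X 1 - 1, X 2, X 3, X 4, X 5 - C t, X 6, X 7, X 8} : Set (Lie3Mod.D k)))) :
    IsRegularLocalRing (Localization.AtPrime P) ∧ ringKrullDim (Localization.AtPrime P) = 6 := by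
  subst hP
  exact main k t

end Groth.Agent.S13105
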