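import Groth.Statements.S13106
import Mathlib.AlgebraicGeometry.Morphisms.Separated
import Mathlib.AlgebraicGeometry.Morphisms.ClosedImmersion
import Mathlib.AlgebraicGeometry.IdealSheaf.Basic
-- import your own Groth.Agent.* helpers here

set_option autoImplicit false
universe u
open GrpSch

namespace Groth.Agent.S13106

open CategoryTheory AlgebraicGeometry in
/-- Let f : X → Y be a morphism of schemes and U ⊆ Y a schematically dense open subscheme (for every
open V of Y, restriction of functions from V to V ∩ U is injective) such that the restriction f⁻¹(U)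
→ U of f is an isomorphism. Then two morphisms from Y to a scheme separated over a base T that agree
after composing with f and have the same composite to T are equal: if Z → T is separated and v₁, v₂
: Y → Z satisfy v₁ ≫ (Z → T) = v₂ ≫ (Z → T) and f ≫ v₁ = f ≫ v₂, then v₁ = v₂. (The published
statement is the case of a morphism between two prolongations over A[[t]] of a finite group scheme
over A((t)), where U is the generic fibre, schematically dense by flatness; uniqueness of
prolongation maps follows.) -/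
theorem result {X Y Z T : Scheme.{u}} (f : X ⟶ Y)
    (U : Y.Opens) (hU : CInt.IsSchematicallyDense U) [IsIso (f ∣_ U)]
    (z : Z ⟶ T) [IsSeparated z] (v₁ v₂ : Y ⟶ Z) (hz : v₁ ≫ z = v₂ ≫ z) (h : f ≫ v₁ = f ≫ v₂) :
    v₁ = v₂ := by
  classical
  -- Step 1: agreement on U
  have hUeq : U.ι ≫ v₁ = U.ι ≫ v₂ := by
    rw [← cancel_epi (f ∣_ U)]
    rw [← Category.assoc, ← Category.assoc, morphismRestrict_ι, Category.assoc, Category.assoc, h]
  -- Step 2: the kernel of U.ι is trivial
  have hker : (U.ι).ker = ⊥ := by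
    rw [eq_bot_iff, Scheme.IdealSheafData.le_def]
    intro V
    refine le_trans (Scheme.Hom.ideal_ker_le U.ι V) ?_
    rw [Scheme.IdealSheafData.ideal_bot]
    intro s hs
    rw [RingHom.mem_ker] at hs
    have hinj := hU V.1
    rw [Scheme.Opens.ι_app] at hs
    have h2 : Y.presheaf.map (homOfLE (inf_le_left : V.1 ⊓ U ≤ V.1)).op s = 0 := by
      have e : V.1 ⊓ U ≤ U.ι ''ᵁ U.ι ⁻¹ᵁ V.1 := by
        rw [Scheme.Hom.image_preimage_eq_opensRange_inf, Scheme.Opens.opensRange_ι, inf_comm]
      have h3 : Y.presheaf.map (homOfLE (inf_le_left : V.1 ⊓ U ≤ V.1)).op =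
          Y.presheaf.map (homOfLE (x := U.ι ''ᵁ U.ι ⁻¹ᵁ V.1) (Set.image_preimage_subset _ _)).op ≫
            Y.presheaf.map (homOfLE e).op := by
        rw [← Functor.map_comp]
        rfl
      have hs' : Y.presheaf.map (homOfLE (x := U.ι ''ᵁ U.ι ⁻¹ᵁ V.1)
          (Set.image_preimage_subset _ _)).op s = 0 := hs
      rw [h3, CommRingCat.comp_apply, hs', map_zero]
    have := hinj (by rw [h2, map_zero] : Y.presheaf.map (homOfLE (inf_le_left : V.1 ⊓ U ≤ V.1)).op s =
      Y.presheaf.map (homOfLE (inf_le_left : V.1 ⊓ U ≤ V.1)).op 0)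
    simpa using this
  -- Step 3: equalizer in `Over T`
  let Y' : Over T := Over.mk (v₁ ≫ z)
  let Z' : Over T := Over.mk z
  let w₁ : Y' ⟶ Z' := Over.homMk v₁ rfl
  let w₂ : Y' ⟶ Z' := Over.homMk v₂ hz.symm
  have : IsSeparated Z'.hom := (inferInstance : IsSeparated z)
  have hcl : IsClosedImmersion (Limits.equalizer.ι w₁ w₂).left :=
    isClosedImmersion_equalizer_ι_left w₁ w₂
  let U' : Over T := Over.mk (U.ι ≫ v₁ ≫ z)
  let j : U' ⟶ Y' := Over.homMk U.ι rfl
  have hj : j ≫ w₁ = j ≫ w₂ := by
    apply Over.OverMorphism.ext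
    exact hUeq
  let l : U' ⟶ Limits.equalizer w₁ w₂ := Limits.equalizer.lift j hj
  have hl : l.left ≫ (Limits.equalizer.ι w₁ w₂).left = U.ι := by
    have := congrArg CommaMorphism.left (Limits.equalizer.lift_ι j hj)
    exact this
  have hkerE : ((Limits.equalizer.ι w₁ w₂).left).ker = ⊥ := by
    rw [eq_bot_iff]
    refine le_trans (Scheme.Hom.le_ker_comp l.left (Limits.equalizer.ι w₁ w₂).left) ?_
    rw [hl, hker]
  have hiso : IsIso (Limits.equalizer.ι w₁ w₂).left :=
    IsClosedImmersion.isIso_iff_ker_eq_bot.2 hkerE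
  have hcond := congrArg CommaMorphism.left (Limits.equalizer.condition w₁ w₂)
  have hcond' : (Limits.equalizer.ι w₁ w₂).left ≫ v₁ = (Limits.equalizer.ι w₁ w₂).left ≫ v₂ := hcond
  exact (cancel_epi _).1 hcond'

end Groth.Agent.S13106
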