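import Groth.Statements.S13107
import Groth.Agent.Lib.Helper66.Lie3
import Mathlib.RingTheory.LaurentSeries
-- import your own Groth.Agent.* helpers here

set_option autoImplicit false
universe u v w
open GrpSch

namespace Groth.Agent.S13107


/-- Over a field `K` in which `T` is not the inverse of a square, the two Lie algebras are not
isomorphic. -/
theorem no_iso {K : Type*} [Field K] (T : K) (hTsq : ∀ a : K, a * a * T ≠ 1)
    {F : Type*} [LieRing F] [LieAlgebra K F] (bF : Module.Basis (Fin 3) K F)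
    (hF01 : ⁅bF 0, bF 1⁆ = bF 2) (hF02 : ⁅bF 0, bF 2⁆ = T • bF 1) (hF12 : ⁅bF 1, bF 2⁆ = 0)
    {L : Type*} [LieRing L] [LieAlgebra K L] (bL : Module.Basis (Fin 3) K L)
    (hL01 : ⁅bL 0, bL 1⁆ = bL 1) : IsEmpty (L ≃ₗ⁅K⁆ F) := by
  classical
  constructor
  intro φ
  have hx := Groth.Agent.Lib.Helper66.repr3 bF (φ (bL 0))
  have hy := Groth.Agent.Lib.Helper66.repr3 bF (φ (bL 1))
  generalize bF.repr (φ (bL 0)) 0 = a0 at hx
  generalize bF.repr (φ (bL 0)) 1 = a1 at hx
  generalize bF.repr (φ (bL 0)) 2 = a2 at hx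
  generalize bF.repr (φ (bL 1)) 0 = b0 at hy
  generalize bF.repr (φ (bL 1)) 1 = b1 at hy
  generalize bF.repr (φ (bL 1)) 2 = b2 at hy
  have e1 := φ.map_lie (bL 0) (bL 1)
  rw [hL01, hx, hy, Groth.Agent.Lib.Helper66.lie3, hF01, hF02, hF12] at e1
  have e1' : b0 • bF 0 + b1 • bF 1 + b2 • bF 2 =
      (0 : K) • bF 0 + ((a0 * b2 - a2 * b0) * T) • bF 1 + (a0 * b1 - a1 * b0) • bF 2 := by
    rw [e1]; module
  obtain ⟨hb0, r1, r2⟩ := Groth.Agent.Lib.Helper66.coords3 bF e1'
  subst hb0
  have hyne : φ (bL 1) ≠ 0 := by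
    intro h
    have : bL 1 = 0 := by
      have h' := congrArg φ.symm h
      simpa using h'
    exact bL.ne_zero 1 this
  have R1 : b1 * (1 - a0 * a0 * T) = 0 := by
    linear_combination r1 + (a0 * T) * r2
  have R2 : b2 * (1 - a0 * a0 * T) = 0 := by
    linear_combination r2 + a0 * r1
  have hkey : 1 - a0 * a0 * T = 0 := by
    by_contra hne
    have hb1 : b1 = 0 := (mul_eq_zero.1 R1).resolve_right hne
    have hb2 : b2 = 0 := (mul_eq_zero.1 R2).resolve_right hne
    apply hyne
    rw [hy, hb1, hb2]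
    simp
  exact hTsq a0 (by linear_combination (-1 : K) * hkey)

/-- Let k be a field, K = k((t)) the field of Laurent series over k, F a Lie algebra over K with a basis
x' = bF 0, y' = bF 1, z' = bF 2 and brackets [x',y'] = z', [x',z'] = t y', [y',z'] = 0, and L a Lie
algebra over K with a basis x = bL 0, y = bL 1, z = bL 2 and brackets [x,y] = y, [x,z] = −z, [y,z] =
0. Then there is no K-linear isomorphism of Lie algebras between L and F: F is a non-trivial form of
L over K. (The published result is the classification of three-dimensional Lie algebras over k((t))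
for k algebraically closed of characteristic not 2, with F its only non-split entry; this row states
the non-isomorphism of F and L over k((t)) for every field k.) -/
theorem result (k : Type u) [Field k]
    (F : Type v) [LieRing F] [LieAlgebra (LaurentSeries k) F] (bF : Module.Basis (Fin 3) (LaurentSeries k) F)
    (hF01 : ⁅bF 0, bF 1⁆ = bF 2) (hF02 : ⁅bF 0, bF 2⁆ = (HahnSeries.single 1 (1 : k) : LaurentSeries k) • bF 1)
    (hF12 : ⁅bF 1, bF 2⁆ = 0)
    (L : Type w) [LieRing L] [LieAlgebra (LaurentSeries k) L] (bL : Module.Basis (Fin 3) (LaurentSeries k) L)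
    (hL01 : ⁅bL 0, bL 1⁆ = bL 1) (hL02 : ⁅bL 0, bL 2⁆ = -bL 2) (hL12 : ⁅bL 1, bL 2⁆ = 0) :
    IsEmpty (L ≃ₗ⁅LaurentSeries k⁆ F) := by
  refine no_iso (HahnSeries.single 1 (1 : k) : LaurentSeries k) ?_ bF hF01 hF02 hF12 bL hL01
  intro a hone
  have ha0 : a ≠ 0 := by
    rintro rfl
    simp at hone
  have hT0 : (HahnSeries.single 1 (1 : k) : LaurentSeries k) ≠ 0 := by
    intro h
    rw [h] at hone
    simp at hone
  have hTord : (HahnSeries.single 1 (1 : k) : LaurentSeries k).order = 1 :=
    HahnSeries.order_single one_ne_zero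
  have hord := congrArg HahnSeries.order hone
  rw [HahnSeries.order_mul (mul_ne_zero ha0 ha0) hT0, HahnSeries.order_mul ha0 ha0, hTord,
    HahnSeries.order_one] at hord
  omega

end Groth.Agent.S13107
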