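import Groth.Statements.S13108
import Groth.Agent.Lib.Helper66.Lie3
-- import your own Groth.Agent.* helpers here

set_option autoImplicit false
universe u v w
open GrpSch

namespace Groth.Agent.S13108

/-- Let k be a field and t, t' ∈ k both non-zero; let L be a Lie algebra over k with a basis x = b 0, y
= b 1, z = b 2 and brackets [x,y] = y, [x,z] = t z, [y,z] = 0, and L' a Lie algebra over k with a
basis x' = b' 0, y' = b' 1, z' = b' 2 and brackets [x',y'] = y', [x',z'] = t' z', [y',z'] = 0. Then
L and L' are isomorphic Lie algebras over k if and only if t' = t or t' = t⁻¹. -/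
theorem result (k : Type u) [Field k] (t t' : k) (ht : t ≠ 0) (ht' : t' ≠ 0)
    (L : Type v) [LieRing L] [LieAlgebra k L] (b : Module.Basis (Fin 3) k L)
    (h01 : ⁅b 0, b 1⁆ = b 1) (h02 : ⁅b 0, b 2⁆ = t • b 2) (h12 : ⁅b 1, b 2⁆ = 0)
    (L' : Type w) [LieRing L'] [LieAlgebra k L'] (b' : Module.Basis (Fin 3) k L')
    (h01' : ⁅b' 0, b' 1⁆ = b' 1) (h02' : ⁅b' 0, b' 2⁆ = t' • b' 2) (h12' : ⁅b' 1, b' 2⁆ = 0) :
    Nonempty (L ≃ₗ⁅k⁆ L') ↔ (t' = t ∨ t' = t⁻¹) := by
  classical
  constructor
  · rintro ⟨φ⟩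
    have hdet := Groth.Agent.Lib.Helper66.isUnit_det3 b b' φ.toLinearEquiv
    simp only [LieEquiv.coe_toLinearEquiv] at hdet
    have hx := Groth.Agent.Lib.Helper66.repr3 b' (φ (b 0))
    have hy := Groth.Agent.Lib.Helper66.repr3 b' (φ (b 1))
    have hz := Groth.Agent.Lib.Helper66.repr3 b' (φ (b 2))
    generalize b'.repr (φ (b 0)) 0 = a0 at hdet hx
    generalize b'.repr (φ (b 0)) 1 = a1 at hdet hx
    generalize b'.repr (φ (b 0)) 2 = a2 at hdet hx
    generalize b'.repr (φ (b 1)) 0 = b0 at hdet hy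
    generalize b'.repr (φ (b 1)) 1 = b1 at hdet hy
    generalize b'.repr (φ (b 1)) 2 = b2 at hdet hy
    generalize b'.repr (φ (b 2)) 0 = c0 at hdet hz
    generalize b'.repr (φ (b 2)) 1 = c1 at hdet hz
    generalize b'.repr (φ (b 2)) 2 = c2 at hdet hz
    have e1 := φ.map_lie (b 0) (b 1)
    rw [h01, hx, hy, Groth.Agent.Lib.Helper66.lie3, h01', h02', h12'] at e1
    have e1' : b0 • b' 0 + b1 • b' 1 + b2 • b' 2 =
        (0 : k) • b' 0 + (a0 * b1 - a1 * b0) • b' 1 + ((a0 * b2 - a2 * b0) * t') • b' 2 := by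
      rw [e1]; module
    obtain ⟨hb0, hb1, hb2⟩ := Groth.Agent.Lib.Helper66.coords3 b' e1'
    have e2 := φ.map_lie (b 0) (b 2)
    rw [h02, map_smul, hx, hz, Groth.Agent.Lib.Helper66.lie3, h01', h02', h12'] at e2
    have e2' : (t * c0) • b' 0 + (t * c1) • b' 1 + (t * c2) • b' 2 =
        (0 : k) • b' 0 + (a0 * c1 - a1 * c0) • b' 1 + ((a0 * c2 - a2 * c0) * t') • b' 2 := by
      have h0 : (t * c0) • b' 0 + (t * c1) • b' 1 + (t * c2) • b' 2 =
          t • (c0 • b' 0 + c1 • b' 1 + c2 • b' 2) := by module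
      rw [h0, e2]; module
    obtain ⟨hc0, hc1, hc2⟩ := Groth.Agent.Lib.Helper66.coords3 b' e2'
    have hc0' : c0 = 0 := by
      rcases mul_eq_zero.1 hc0 with h | h
      · exact absurd h ht
      · exact h
    subst hb0
    subst hc0'
    have hD : a0 * (b1 * c2 - b2 * c1) ≠ 0 := by
      have := hdet.ne_zero
      intro h
      apply this
      linear_combination h
    have ha0 : a0 ≠ 0 := left_ne_zero_of_mul hD
    have hD' : b1 * c2 - b2 * c1 ≠ 0 := right_ne_zero_of_mul hD
    have r1 : b1 * (1 - a0) = 0 := by linear_combination hb1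
    have r2 : b2 * (1 - t' * a0) = 0 := by linear_combination hb2
    have r3 : c1 * (t - a0) = 0 := by linear_combination hc1
    have r4 : c2 * (t - t' * a0) = 0 := by linear_combination hc2
    by_cases hcase : b1 * c2 = 0
    · have h' : b2 * c1 ≠ 0 := by
        intro h
        apply hD'
        rw [hcase, h, sub_zero]
      have hb2' : b2 ≠ 0 := left_ne_zero_of_mul h'
      have hc1' : c1 ≠ 0 := right_ne_zero_of_mul h'
      have q1 : 1 - t' * a0 = 0 := (mul_eq_zero.1 r2).resolve_left hb2'
      have q2 : t - a0 = 0 := (mul_eq_zero.1 r3).resolve_left hc1'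
      right
      have : t' * t = 1 := by linear_combination (-1 : k) * q1 + t' * q2
      exact eq_inv_of_mul_eq_one_left this
    · have hb1' : b1 ≠ 0 := left_ne_zero_of_mul hcase
      have hc2' : c2 ≠ 0 := right_ne_zero_of_mul hcase
      have q1 : 1 - a0 = 0 := (mul_eq_zero.1 r1).resolve_left hb1'
      have q2 : t - t' * a0 = 0 := (mul_eq_zero.1 r4).resolve_left hc2'
      left
      linear_combination (-1 : k) * q2 + t' * q1
  · rintro (rfl | rfl)
    · -- same parameter: send basis to basis
      let e : L ≃ₗ[k] L' := b.equiv b' (Equiv.refl _)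
      have he : ∀ i, e (b i) = b' i := fun i => by simp [e]
      refine ⟨Groth.Agent.Lib.Helper66.lieEquivOfBasis3 b e ?_ ?_ ?_⟩
      · rw [h01, he, he, h01']
      · rw [h02, map_smul, he, he, h02']
      · rw [h12, map_zero, he, he, h12']
    · -- inverse parameter: swap the last two basis vectors and rescale the first
      let f : L →ₗ[k] L' := b.constr k ![t • b' 0, b' 2, b' 1]
      let g : L' →ₗ[k] L := b'.constr k ![t⁻¹ • b 0, b 2, b 1]
      have hf0 : f (b 0) = t • b' 0 := by simp [f]
      have hf1 : f (b 1) = b' 2 := by simp [f]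
      have hf2 : f (b 2) = b' 1 := by simp [f]
      have hg0 : g (b' 0) = t⁻¹ • b 0 := by simp [g]
      have hg1 : g (b' 1) = b 2 := by simp [g]
      have hg2 : g (b' 2) = b 1 := by simp [g]
      have hfg : f ∘ₗ g = LinearMap.id := by
        apply b'.ext
        intro i
        fin_cases i
        · simp only [Fin.zero_eta, LinearMap.comp_apply, LinearMap.id_apply, hg0, map_smul, hf0,
            smul_smul, inv_mul_cancel₀ ht, one_smul]
        · simp only [Fin.mk_one, LinearMap.comp_apply, LinearMap.id_apply, hg1, hf2]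
        · simp only [Fin.reduceFinMk, LinearMap.comp_apply, LinearMap.id_apply, hg2, hf1]
      have hgf : g ∘ₗ f = LinearMap.id := by
        apply b.ext
        intro i
        fin_cases i
        · simp only [Fin.zero_eta, LinearMap.comp_apply, LinearMap.id_apply, hf0, map_smul, hg0,
            smul_smul, mul_inv_cancel₀ ht, one_smul]
        · simp only [Fin.mk_one, LinearMap.comp_apply, LinearMap.id_apply, hf1, hg2]
        · simp only [Fin.reduceFinMk, LinearMap.comp_apply, LinearMap.id_apply, hf2, hg1]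
      let e : L ≃ₗ[k] L' := LinearEquiv.ofLinearMap f g hfg hgf
      have he : ∀ v, e v = f v := fun v => rfl
      refine ⟨Groth.Agent.Lib.Helper66.lieEquivOfBasis3 b e ?_ ?_ ?_⟩
      · simp only [he]
        rw [h01, hf0, hf1, smul_lie, h02', smul_smul, mul_inv_cancel₀ ht, one_smul]
      · simp only [he]
        rw [h02, map_smul, hf0, hf2, smul_lie, h01']
      · simp only [he]
        rw [h12, map_zero, hf1, hf2, ← lie_skew, h12', neg_zero]

end Groth.Agent.S13108
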