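import Groth.Statements.S13111
import Mathlib.AlgebraicGeometry.ResidueField
import Mathlib.AlgebraicGeometry.Properties
import Mathlib.RingTheory.IntegralClosure.IntegrallyClosed
import Mathlib.RingTheory.DiscreteValuationRing.Basic
import Mathlib.Tactic.LinearCombination
import Mathlib.Tactic.FieldSimp
import Mathlib.RingTheory.Polynomial.RationalRoot
import Mathlib.RingTheory.PrincipalIdealDomain
-- import your own Groth.Agent.* helpers here

set_option autoImplicit false
universe u
open HTop

namespace Groth.Agent.S13111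


/-- In a field, `u ^ 3 = v ^ 2` gives a square-and-cube root `v / u`. -/
theorem field_root {K : Type*} [Field K] (u v : K) (h : u ^ 3 = v ^ 2) :
    (v / u) ^ 2 = u ∧ (v / u) ^ 3 = v := by
  by_cases hu : u = 0
  · subst hu
    have hv : v = 0 := by
      have : v ^ 2 = 0 := by rw [← h]; ring
      exact pow_eq_zero_iff (two_ne_zero) |>.1 this
    subst hv
    simp
  · constructor
    · field_simp
      exact h.symm
    · field_simp
      linear_combination (-v) * h

/-- In a field, an element is determined by its square and its cube. -/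
theorem field_eq_of_sq_cube {K : Type*} [Field K] (u v : K) (h2 : u ^ 2 = v ^ 2) (h3 : u ^ 3 = v ^ 3) :
    u = v := by
  by_cases hv : v = 0
  · subst hv
    have : u ^ 2 = 0 := by rw [h2]; ring
    exact pow_eq_zero_iff (two_ne_zero) |>.1 this
  · have hu2 : u ^ 2 ≠ 0 := by rw [h2]; exact pow_ne_zero _ hv
    have : u * u ^ 2 = v * u ^ 2 := by
      calc u * u ^ 2 = u ^ 3 := by ring
        _ = v ^ 3 := h3
        _ = v * v ^ 2 := by ring
        _ = v * u ^ 2 := by rw [h2]
    exact mul_right_cancel₀ hu2 this

/-- In an integrally closed domain, `x ^ 3 = y ^ 2` has a solution `s ^ 2 = x`, `s ^ 3 = y`. -/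
theorem normal_root (R : Type*) [CommRing R] [IsDomain R] [IsIntegrallyClosed R] (x y : R)
    (h : x ^ 3 = y ^ 2) : ∃ s : R, s ^ 2 = x ∧ s ^ 3 = y := by
  let K := FractionRing R
  have hK : (algebraMap R K x) ^ 3 = (algebraMap R K y) ^ 2 := by
    rw [← map_pow, ← map_pow, h]
  obtain ⟨h2, h3⟩ := field_root (algebraMap R K x) (algebraMap R K y) hK
  have hint : IsIntegral R ((algebraMap R K y / algebraMap R K x) ^ 2) := by
    rw [h2]; exact isIntegral_algebraMap
  obtain ⟨s, hs⟩ := IsIntegrallyClosed.exists_algebraMap_eq_of_isIntegral_pow (K := K)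
    (two_pos) hint
  refine ⟨s, ?_, ?_⟩
  · apply IsFractionRing.injective R K
    rw [map_pow, hs, h2]
  · apply IsFractionRing.injective R K
    rw [map_pow, hs, h3]

open AlgebraicGeometry W4c1hilbchowinc in
/-- Let A be a reduced Noetherian ring whose integral closure in its total ring of fractions is a finite
A-module. Suppose that any pointwise function on Spec A that is algebraic along every discrete
valuation ring (for every discrete valuation ring R and every morphism Spec R → Spec A there is an
element of R whose values at the two points of Spec R are the images of the chosen values) is the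
family of values of exactly one global section. Then A is seminormal: whenever x^3 = y^2 there is
exactly one a with x = a^2 and y = a^3. Test rings range over the universe of A. -/
theorem result
    (A : Type u) [CommRing A] [IsReduced A] [IsNoetherianRing A]
    (hfin : Module.Finite A (integralClosure A (FractionRing A)))
    (h : ∀ f : PtFun (Spec (CommRingCat.of A)), f.VariesAlongDVR →
      ∃! a : Γ(Spec (CommRingCat.of A), ⊤), PtFun.ofSection (Spec (CommRingCat.of A)) a = f) :
    HTop.IsSeminormalRing A := by
  classical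
  intro x y hxy
  have hred : IsReduced (Spec (CommRingCat.of A)) := (affine_isReduced_iff _).2 inferInstance
  -- vanishing of all evaluations forces vanishing of a global section
  have hzero : ∀ t : Γ(Spec (CommRingCat.of A), ⊤),
      (∀ p, (Spec (CommRingCat.of A)).Γevaluation p t = 0) → t = 0 := by
    intro t ht
    apply AlgebraicGeometry.eq_zero_of_basicOpen_eq_bot (X := Spec (CommRingCat.of A)) (U := ⊤) t
    rw [Scheme.basicOpen_eq_bot_iff_forall_evaluation_eq_zero]
    intro p
    exact ht p.1
  let e : Γ(Spec (CommRingCat.of A), ⊤) ≃+* A :=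
    (Scheme.ΓSpecIso (CommRingCat.of A)).commRingCatIsoToRingEquiv
  obtain ⟨x', hx'⟩ : ∃ x', e x' = x := ⟨e.symm x, e.apply_symm_apply x⟩
  obtain ⟨y', hy'⟩ : ∃ y', e y' = y := ⟨e.symm y, e.apply_symm_apply y⟩
  have hxy' : x' ^ 3 = y' ^ 2 := by
    apply e.injective
    rw [map_pow, map_pow, hx', hy', hxy]
  let ev : ∀ p : Spec (CommRingCat.of A), Γ(Spec (CommRingCat.of A), ⊤) →+*
      (Spec (CommRingCat.of A)).residueField p := fun p => ((Spec (CommRingCat.of A)).Γevaluation p).hom
  let f : PtFun (Spec (CommRingCat.of A)) := fun p => ev p y' / ev p x'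
  have hf : ∀ p, f p ^ 2 = ev p x' ∧ f p ^ 3 = ev p y' := by
    intro p
    apply field_root
    rw [← map_pow, ← map_pow, hxy']
  have hvar : f.VariesAlongDVR := by
    intro R _ _ _ g
    let eR : Γ(Spec (CommRingCat.of R), ⊤) ≃+* R :=
      (Scheme.ΓSpecIso (CommRingCat.of R)).commRingCatIsoToRingEquiv
    have hrel : (eR (g.appTop.hom x')) ^ 3 = (eR (g.appTop.hom y')) ^ 2 := by
      rw [← map_pow, ← map_pow, ← map_pow, ← map_pow, hxy']
    obtain ⟨s0, hs2, hs3⟩ := normal_root R _ _ hrel
    refine ⟨eR.symm s0, ?_⟩
    funext q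
    change ((Spec (CommRingCat.of R)).Γevaluation q).hom (eR.symm s0) =
      (g.residueFieldMap q).hom (f (g q))
    have h2 : (eR.symm s0) ^ 2 = g.appTop.hom x' := by
      apply eR.injective
      rw [map_pow, RingEquiv.apply_symm_apply, hs2]
    have h3 : (eR.symm s0) ^ 3 = g.appTop.hom y' := by
      apply eR.injective
      rw [map_pow, RingEquiv.apply_symm_apply, hs3]
    have nat : ∀ t, (g.residueFieldMap q).hom (ev (g q) t) =
        ((Spec (CommRingCat.of R)).Γevaluation q).hom (g.appTop.hom t) := fun t =>
      Scheme.Γevaluation_naturality_apply g q t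
    apply field_eq_of_sq_cube
    · rw [← map_pow, h2, ← map_pow, (hf (g q)).1, nat]
    · rw [← map_pow, h3, ← map_pow, (hf (g q)).2, nat]
  obtain ⟨a', ha', -⟩ := h f hvar
  have hev : ∀ p, ev p a' = f p := fun p => congrFun ha' p
  have hxa : x' = a' ^ 2 := by
    rw [← sub_eq_zero]
    apply hzero
    intro p
    change ev p (x' - a' ^ 2) = 0
    rw [map_sub, map_pow, hev, (hf p).1, sub_self]
  have hya : y' = a' ^ 3 := by
    rw [← sub_eq_zero]
    apply hzero
    intro p
    change ev p (y' - a' ^ 3) = 0
    rw [map_sub, map_pow, hev, (hf p).2, sub_self]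
  refine ⟨e a', ⟨?_, ?_⟩, ?_⟩
  · rw [← map_pow, ← hxa, hx']
  · rw [← map_pow, ← hya, hy']
  · rintro b ⟨hb2, hb3⟩
    have ha2 : x = (e a') ^ 2 := by rw [← map_pow, ← hxa, hx']
    have ha3 : y = (e a') ^ 3 := by rw [← map_pow, ← hya, hy']
    have hcube : (b - e a') ^ 3 = 0 := by
      have h1 : b ^ 2 = (e a') ^ 2 := by rw [← hb2, ← ha2]
      have h2 : b ^ 3 = (e a') ^ 3 := by rw [← hb3, ← ha3]
      linear_combination (4 : A) * h2 - (3 * b + 3 * e a') * h1
    have := IsReduced.eq_zero _ ⟨3, hcube⟩
    exact sub_eq_zero.1 this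

end Groth.Agent.S13111
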