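import Groth.Statements.S13112
import Groth.Agent.Lib.Helper69.SNSch

set_option autoImplicit false
universe u
open HTop

namespace Groth.Agent.S13112

section Helpers

open CategoryTheory CategoryTheory.Limits AlgebraicGeometry

/-- a morphism from the spectrum of a field factors through the residue field of its image -/
lemma exists_factor {P : Scheme.{u}} (K : Type u) [Field K] (σ : Spec (CommRingCat.of K) ⟶ P)
    (z : P) (hz : σ (IsLocalRing.closedPoint K) = z) :
    ∃ φ : P.residueField z ⟶ CommRingCat.of K, Spec.map φ ≫ P.fromSpecResidueField z = σ := by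
  subst hz
  exact ⟨_, Scheme.descResidueField_stalkClosedPointTo_fromSpecResidueField K P σ⟩

/-- a morphism with a section over every residue field of the target, which is injective, induces
isomorphisms on residue fields -/
lemma resIso_of_sections {P T : Scheme.{u}} (μ : P ⟶ T) (hinj : Function.Injective μ)
    (hsec : ∀ t : T, ∃ σ : Spec (T.residueField t) ⟶ P, σ ≫ μ = T.fromSpecResidueField t) :
    HTop.ResidueFieldsIso μ := by
  intro z
  obtain ⟨σ, hσ⟩ := hsec (μ z)
  have hz : σ (IsLocalRing.closedPoint (T.residueField (μ z))) = z := by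
    apply hinj
    have := congr(($hσ).base (IsLocalRing.closedPoint (T.residueField (μ z))))
    refine this.trans ?_
    exact Scheme.fromSpecResidueField_apply _ _
  obtain ⟨φ, hφ⟩ := exists_factor (T.residueField (μ z)) σ z hz
  have h1 : Spec.map φ ≫ Spec.map (μ.residueFieldMap z) ≫ T.fromSpecResidueField (μ z) =
      𝟙 _ ≫ T.fromSpecResidueField (μ z) := by
    rw [Scheme.Hom.SpecMap_residueFieldMap_fromSpecResidueField, ← Category.assoc, hφ, hσ,
      Category.id_comp]
  rw [← Category.assoc, cancel_mono, ← Spec.map_comp, ← Spec.map_id, Spec.map_inj] at h1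
  -- `μ.residueFieldMap z ≫ φ = 𝟙`
  rw [ConcreteCategory.isIso_iff_bijective]
  have hφinj : Function.Injective φ.hom := φ.hom.injective
  refine ⟨(μ.residueFieldMap z).hom.injective, fun w => ?_⟩
  refine ⟨φ.hom w, ?_⟩
  apply hφinj
  exact congr(($h1).hom (φ.hom w))

end Helpers

open CategoryTheory AlgebraicGeometry in
/-- Let k be a field, T a seminormal scheme of finite type over k, and f : X → Y a proper universally
injective k-morphism of schemes locally of finite type over k. If a morphism of schemes g : T → Y
lifts through f at every point of T, i.e. for every t the composite Spec κ(t) → T → Y factors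
through f, then g itself factors through f. -/
theorem result
    {k : Type u} [Field k] {T X Y : Scheme.{u}}
    (sT : T ⟶ Spec (CommRingCat.of k)) (sX : X ⟶ Spec (CommRingCat.of k)) (sY : Y ⟶ Spec (CommRingCat.of k))
    [LocallyOfFiniteType sT] [QuasiCompact sT] [LocallyOfFiniteType sX] [LocallyOfFiniteType sY]
    (hT : HTop.IsSeminormal T)
    (f : X ⟶ Y) (hf : f ≫ sY = sX) [IsProper f] [UniversallyInjective f]
    (g : T ⟶ Y)
    (hlift : ∀ t : T, ∃ l : Spec (T.residueField t) ⟶ X, l ≫ f = T.fromSpecResidueField t ≫ g) :
    ∃ h : T ⟶ X, h ≫ f = g := by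
  open Groth.Agent.Lib.Helper69 in
  have hsec : ∀ t : T, ∃ σ : Spec (T.residueField t) ⟶ Limits.pullback f g,
      σ ≫ Limits.pullback.snd f g = T.fromSpecResidueField t := by
    intro t
    obtain ⟨l, hl⟩ := hlift t
    exact ⟨Limits.pullback.lift l (T.fromSpecResidueField t) hl, Limits.pullback.lift_snd _ _ _⟩
  have hsurj : Surjective (Limits.pullback.snd f g) := by
    refine ⟨fun t => ?_⟩
    obtain ⟨σ, hσ⟩ := hsec t
    refine ⟨σ (IsLocalRing.closedPoint (T.residueField t)), ?_⟩
    have := congr(($hσ).base (IsLocalRing.closedPoint (T.residueField t)))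
    exact this.trans (Scheme.fromSpecResidueField_apply _ _)
  have hui : UniversallyInjective (Limits.pullback.snd f g) :=
    MorphismProperty.of_isPullback (P := @UniversallyInjective) (IsPullback.of_hasPullback f g)
      inferInstance
  have huc : UniversallyClosed (Limits.pullback.snd f g) := inferInstance
  have hμ : FlatMor.IsUnivHomeo (Limits.pullback.snd f g) :=
    (SpecResidue.isUnivHomeo_iff _).mpr ⟨huc, hui, hsurj⟩
  have hinj : Function.Injective (Limits.pullback.snd f g) := Scheme.Hom.injective _
  have hres := resIso_of_sections (Limits.pullback.snd f g) hinj hsec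
  obtain ⟨s, hs⟩ := SNSch.exists_section_of_isSeminormal _ hμ hres hT
  refine ⟨s ≫ Limits.pullback.fst f g, ?_⟩
  rw [Category.assoc, Limits.pullback.condition, ← Category.assoc, hs, Category.id_comp]

end Groth.Agent.S13112
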