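import Groth.Statements.S13116
import Groth.Agent.Lib.QCoh.Helper74_LocFreeRank
import Groth.Agent.Lib.QCoh.Invertible
import Groth.Agent.Lib.Helper38.PicPnE
import Groth.Agent.S11184

set_option autoImplicit false
universe u
open HilbChow

namespace Groth.Agent.S13116

open CategoryTheory CategoryTheory.Limits AlgebraicGeometry TopologicalSpace Groth.Agent.Lib.QCoh
  Groth.Agent.Lib.Ample in
/-- an invertible module on a scheme finite over the spectrum of a Noetherian local ring is trivial -/
theorem trivial_of_finite_over_local (R : Type u) [CommRing R] [IsLocalRing R] [IsNoetherianRing R]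
    {Z : Scheme.{u}} (g : Z ⟶ Spec (CommRingCat.of R)) [IsFinite g]
    (M : Z.Modules) (hM : PicF.IsInvertible M) :
    Nonempty (M ≅ Coh.structureModule Z) := by
  classical
  haveI : IsAffine Z := isAffine_of_isAffineHom g
  -- `Γ(Z, ⊤)` is finite over `R`
  let ρ : R →+* Γ(Z, ⊤) :=
    (g.app ⊤).hom.comp (Scheme.ΓSpecIso (CommRingCat.of R)).inv.hom
  have hρ : ρ.Finite := by
    refine RingHom.Finite.comp (g.finite_app ⊤ (isAffineOpen_top _)) ?_
    exact RingHom.Finite.of_surjective _
      (ConcreteCategory.bijective_of_isIso (Scheme.ΓSpecIso (CommRingCat.of R)).inv).2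
  letI : Algebra R Γ(Z, ⊤) := ρ.toAlgebra
  haveI : Module.Finite R Γ(Z, ⊤) := hρ
  haveI hfin : Finite (MaximalSpectrum Γ(Z, ⊤)) :=
    Groth.Agent.S11184.finite_maximalSpectrum R Γ(Z, ⊤)
  -- closed points of `Z`
  let F : Set Z := {z | IsClosed ({z} : Set Z)}
  have hF : F.Finite := by
    let e := (Scheme.homeoOfIso Z.isoSpec)
    have h1 : F ⊆ e ⁻¹' (Set.range (MaximalSpectrum.toPrimeSpectrum (R := Γ(Z, ⊤)))) := by
      intro z hz
      have hz' : IsClosed ({e z} : Set (Spec Γ(Z, ⊤))) := by
        have := e.isClosedMap _ hz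
        rwa [Set.image_singleton] at this
      have hmax : (e z).asIdeal.IsMaximal :=
        (PrimeSpectrum.isClosed_singleton_iff_isMaximal _).1 hz'
      exact ⟨⟨(e z).asIdeal, hmax⟩, rfl⟩
    exact ((Set.finite_range _).preimage e.injective.injOn).subset h1
  obtain ⟨U, hFU, -, ⟨φ⟩⟩ := exists_triv_of_finite_subset_affine
    (isFinLocFreeOfRank_one_iff_isInvertible.2 hM) hF (isAffineOpen_top Z) (Set.subset_univ _)
  have hU : U = ⊤ := by
    by_contra hne
    have hne' : ((U : Set Z)ᶜ).Nonempty := by
      rw [Set.nonempty_compl]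
      intro h
      exact hne (TopologicalSpace.Opens.ext h)
    obtain ⟨z, hzU, hz⟩ := IsClosed.exists_closed_singleton U.isOpen.isClosed_compl hne'
    exact hzU (hFU hz)
  subst hU
  obtain ⟨ε, hε⟩ := exists_isGenerator_of_iso ⊤ (φ ≪≫ freeModOneIso _)
  exact Groth.Agent.Lib.Helper38.PicPn.nonempty_iso_unit_of_isGenerator M ε hε

open CategoryTheory CategoryTheory.Limits AlgebraicGeometry in
/-- Let k be a field, X an integral scheme smooth over k that is a closed subscheme of a projective
space over k, R a discrete valuation ring containing k, Z a subscheme of X ×_k Spec R which is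
finite over Spec R, and L an invertible module on X. Then the pullback of L to Z along Z → X ×_k
Spec R → X is isomorphic to the structure sheaf of Z (an isomorphism exists; none is singled out). -/
theorem result
    {k : Type u} [Field k] {X : Scheme.{u}} (sX : X ⟶ Spec (CommRingCat.of k))
    [IsIntegral X] [Smooth sX] (hproj : RelProj.IsHProjective sX)
    (R : Type u) [CommRing R] [IsDomain R] [IsDiscreteValuationRing R] [Algebra k R]
    {Z : Scheme.{u}}
    (i : Z ⟶ pullback sX (Spec.map (CommRingCat.ofHom (algebraMap k R)))) [IsImmersion i]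
    [IsFinite (i ≫ pullback.snd sX (Spec.map (CommRingCat.ofHom (algebraMap k R))))]
    (L : X.Modules) (hL : PicF.IsInvertible L) :
    Nonempty ((Scheme.Modules.pullback
        (i ≫ pullback.fst sX (Spec.map (CommRingCat.ofHom (algebraMap k R))))).obj L ≅
      Coh.structureModule Z) := by
  exact trivial_of_finite_over_local R
    (i ≫ pullback.snd sX (Spec.map (CommRingCat.ofHom (algebraMap k R)))) _
    (Groth.Agent.Lib.QCoh.isInvertible_pullback _ hL)

end Groth.Agent.S13116
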