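import Groth.Statements.S13117
import Mathlib

set_option autoImplicit false
universe u
open HilbChow

namespace Groth.Agent.S13117

section
variable {k : Type u} [Field k]

/-- Lemma L': norm along a surjection whose kernel is fixed by `g`. -/
lemma norm_eq_norm_of_surjective {A B : Type u} [CommRing A] [Algebra k A] [Module.Finite k A]
    [CommRing B] [Algebra k B] [Module.Finite k B]
    (π : A →ₐ[k] B) (hπ : Function.Surjective π) (g : A)
    (hg : ∀ x, π x = 0 → g * x = x) :
    Algebra.norm k g = Algebra.norm k (π g) := by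
  let W : Submodule k A := LinearMap.ker π.toLinearMap
  have he : W ≤ W.comap (Algebra.lmul k A g) := by
    intro x hx
    rw [Submodule.mem_comap]
    have hx' : π x = 0 := hx
    show π (g * x) = 0
    rw [hg x hx', hx']
  have h1 := LinearMap.det_eq_det_mul_det W (Algebra.lmul k A g) he
  have h2 : (Algebra.lmul k A g).restrict he = LinearMap.id := by
    apply LinearMap.ext
    rintro ⟨x, hx⟩
    apply Subtype.ext
    show g * x = x
    exact hg x hx
  rw [h2, LinearMap.det_id, one_mul] at h1
  let q : (A ⧸ W) ≃ₗ[k] B := π.toLinearMap.quotKerEquivOfSurjective hπ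
  have h3 : (q : (A ⧸ W) →ₗ[k] B) ∘ₗ (W.mapQ W (Algebra.lmul k A g) he) ∘ₗ
      (q.symm : B →ₗ[k] (A ⧸ W)) = Algebra.lmul k B (π g) := by
    apply LinearMap.ext
    intro b
    obtain ⟨y, rfl⟩ := q.surjective b
    obtain ⟨a, rfl⟩ := Submodule.Quotient.mk_surjective W y
    simp only [LinearMap.comp_apply, LinearEquiv.coe_coe, LinearEquiv.symm_apply_apply]
    show q (W.mapQ W (Algebra.lmul k A g) he (Submodule.Quotient.mk a)) =
      π g * q (Submodule.Quotient.mk a)
    rw [Submodule.mapQ_apply]
    show π (g * a) = π g * π a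
    rw [map_mul]
  rw [Algebra.norm_apply, h1, ← LinearMap.det_conj _ q, h3, Algebra.norm_apply]

/-- Step C: norm on a local artinian algebra. -/
lemma norm_local {B : Type u} [CommRing B] [Algebra k B] [Module.Finite k B] [IsLocalRing B]
    (b : B) (c : k) (hm : algebraMap k B c - b ∈ IsLocalRing.maximalIdeal B) :
    Algebra.norm k b = c ^ Module.finrank k B := by
  have hart : IsArtinianRing B := IsArtinianRing.of_finite k B
  have hnil : IsNilpotent (algebraMap k B c - b) := by
    obtain ⟨N, hN⟩ := IsArtinianRing.isNilpotent_jacobson_bot (R := B)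
    rw [IsLocalRing.jacobson_eq_maximalIdeal ⊥ bot_ne_top] at hN
    refine ⟨N, ?_⟩
    have := Ideal.pow_mem_pow hm N
    rw [hN] at this
    exact this
  have hnil' : IsNilpotent (Algebra.lmul k B (algebraMap k B c - b)) := hnil.map (Algebra.lmul k B)
  have h1 := hnil'.charpoly_eq_X_pow_finrank
  have h2 := LinearMap.eval_charpoly (Algebra.lmul k B (algebraMap k B c - b)) c
  rw [h1, Polynomial.eval_pow, Polynomial.eval_X] at h2
  rw [Algebra.norm_apply, h2]
  congr 1
  apply LinearMap.ext
  intro x
  simp only [LinearMap.sub_apply, Module.algebraMap_end_apply]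
  show b * x = c • x - (algebraMap k B c - b) * x
  rw [sub_mul, Algebra.smul_def]
  ring

end

/-- Let k be an algebraically closed field, A a finite-dimensional commutative k-algebra (the coordinate
ring of a zero-dimensional subscheme Z of length dim_k A) and f ∈ A. Then the determinant of
multiplication by f on A is the product over the points x of Z — the k-algebra homomorphisms A → k —
of the value f(x) raised to the length of the local ring of Z at x, that length being the
k-dimension of the localisation of A at the corresponding maximal ideal. This is the formula by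
which the Hilbert-to-Chow morphism for zero-cycles sends Z to its fundamental cycle Σ ℓ(O_{Z,x})[x]. -/
theorem result
    (k A : Type u) [Field k] [IsAlgClosed k] [CommRing A] [Algebra k A] [Module.Finite k A] (f : A) :
    Algebra.norm k f =
      ∏ᶠ φ : A →ₐ[k] k, φ f ^ Module.finrank k (Localization.AtPrime (Ideal.comap φ ⊥)) := by
  classical
  have hart : IsArtinianRing A := IsArtinianRing.of_finite k A
  have : Fintype (PrimeSpectrum A) := Fintype.ofFinite _
  let e := PrimeSpectrum.toPiLocalizationEquiv A
  let π : ∀ p : PrimeSpectrum A, A →ₐ[k] Localization.AtPrime p.asIdeal :=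
    fun p => IsScalarTower.toAlgHom k A _
  have hπe : ∀ p x, π p x = e x p := fun p x => rfl
  have hπsurj : ∀ p, Function.Surjective (π p) := by
    intro p y
    refine ⟨e.symm (Pi.single p y), ?_⟩
    rw [hπe, AlgEquiv.apply_symm_apply, Pi.single_eq_same]
  have hfin : ∀ p : PrimeSpectrum A, Module.Finite k (Localization.AtPrime p.asIdeal) :=
    fun p => Module.Finite.of_surjective (π p).toLinearMap (hπsurj p)
  let fp : PrimeSpectrum A → A := fun p => e.symm (Pi.mulSingle p (e f p))
  have hprod : ∏ p, fp p = f := by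
    apply e.injective
    rw [map_prod]
    simp only [fp, AlgEquiv.apply_symm_apply]
    exact Finset.univ_prod_mulSingle (e f)
  have hnorm : ∀ p, Algebra.norm k (fp p) = Algebra.norm k (π p f) := by
    intro p
    rw [norm_eq_norm_of_surjective (π p) (hπsurj p) (fp p)]
    · congr 1
      rw [hπe, hπe]
      simp only [fp, AlgEquiv.apply_symm_apply, Pi.mulSingle_eq_same]
    · intro x hx
      apply e.injective
      rw [map_mul]
      simp only [fp, AlgEquiv.apply_symm_apply]
      funext q
      by_cases hq : q = p
      · subst hq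
        have hxq : e x q = 0 := by rw [← hπe]; exact hx
        rw [Pi.mul_apply, Pi.mulSingle_eq_same, hxq, mul_zero]
      · rw [Pi.mul_apply, Pi.mulSingle_eq_of_ne hq, one_mul]
  conv_lhs => rw [← hprod, map_prod]
  simp only [hnorm]
  have hbot : (⊥ : Ideal k).IsPrime := Ideal.isPrime_bot
  let Φ : (A →ₐ[k] k) → PrimeSpectrum A := fun φ => ⟨Ideal.comap φ ⊥, Ideal.comap_isPrime φ ⊥⟩
  have hΦ : Function.Bijective Φ := by
    constructor
    · intro φ ψ h
      have hker : Ideal.comap φ (⊥ : Ideal k) = Ideal.comap ψ ⊥ := congrArg PrimeSpectrum.asIdeal h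
      apply AlgHom.ext
      intro a
      have h1 : a - algebraMap k A (φ a) ∈ Ideal.comap φ (⊥ : Ideal k) := by
        rw [Ideal.mem_comap, map_sub, AlgHom.commutes, Ideal.mem_bot]
        simp
      rw [hker, Ideal.mem_comap, map_sub, AlgHom.commutes, Ideal.mem_bot] at h1
      have h2 : ψ a - φ a = 0 := by simpa using h1
      exact (sub_eq_zero.1 h2).symm
    · intro p
      have hmax : p.asIdeal.IsMaximal := inferInstance
      let _ : Field (A ⧸ p.asIdeal) := Ideal.Quotient.field p.asIdeal
      have hb : Function.Bijective (algebraMap k (A ⧸ p.asIdeal)) :=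
        IsAlgClosed.algebraMap_bijective_of_isIntegral
      let E : k ≃ₐ[k] (A ⧸ p.asIdeal) := AlgEquiv.ofBijective (Algebra.ofId k (A ⧸ p.asIdeal)) hb
      refine ⟨(E.symm : (A ⧸ p.asIdeal) →ₐ[k] k).comp (Ideal.Quotient.mkₐ k p.asIdeal), ?_⟩
      apply PrimeSpectrum.ext
      ext a
      show a ∈ Ideal.comap _ ⊥ ↔ a ∈ p.asIdeal
      rw [Ideal.mem_comap, Ideal.mem_bot]
      show E.symm (Ideal.Quotient.mk p.asIdeal a) = 0 ↔ _
      rw [map_eq_zero_iff _ E.symm.injective, Ideal.Quotient.eq_zero_iff_mem]
  symm
  rw [finprod_eq_of_bijective (g := fun p => Algebra.norm k (π p f)) Φ hΦ ?_,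
    finprod_eq_prod_of_fintype]
  intro φ
  symm
  have := hfin (Φ φ)
  apply norm_local (π (Φ φ) f) (φ f)
  have h1 : algebraMap k (Localization.AtPrime (Φ φ).asIdeal) (φ f) - π (Φ φ) f =
      algebraMap A _ (algebraMap k A (φ f) - f) := by
    rw [map_sub, ← IsScalarTower.algebraMap_apply]; rfl
  rw [h1, IsLocalization.AtPrime.to_map_mem_maximal_iff _ (Φ φ).asIdeal]
  show algebraMap k A (φ f) - f ∈ Ideal.comap φ ⊥
  rw [Ideal.mem_comap, map_sub, AlgHom.commutes, Ideal.mem_bot]
  simp

end Groth.Agent.S13117
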