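import Groth.Statements.S13120
import Groth.Agent.Lib.Helper48.Char2Grading
-- import your own Groth.Agent.* helpers here

set_option autoImplicit false
universe u
open KumFam
open Groth.Agent.Lib.Helper48.Char2Grading MvPolynomial

namespace Groth.Agent.S13120

section Aux
open MvPolynomial Groth.Agent.Lib.Helper48.Char2Grading

variable {R : Type*} [CommRing R]

lemma X06_mem : (X 0 ^ 6 : MvPolynomial (Fin 2) R) ∈ P R := by
  have : (X 0 ^ 6 : MvPolynomial (Fin 2) R) = (X 0 ^ 2) ^ 3 := by ring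
  rw [this]; exact pow_mem X0sq_mem 3

lemma X16_mem : (X 1 ^ 6 : MvPolynomial (Fin 2) R) ∈ P R := by
  have : (X 1 ^ 6 : MvPolynomial (Fin 2) R) = (X 1 ^ 2) ^ 3 := by ring
  rw [this]; exact pow_mem X1sq_mem 3

lemma decompA {a : MvPolynomial (Fin 2) R}
    (ha : a ∈ Algebra.adjoin R
      ({X 0 ^ 2, X 0 ^ 3, X 1 ^ 2, X 1 ^ 3} : Set (MvPolynomial (Fin 2) R))) :
    ∃ p0 ∈ P R, ∃ p1 ∈ P R, ∃ p2 ∈ P R, ∃ p3 ∈ P R,
      a = p0 + p1 * X 0 ^ 3 + p2 * X 1 ^ 3 + p3 * (X 0 ^ 3 * X 1 ^ 3) := by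
  induction ha using Algebra.adjoin_induction with
  | mem x hx =>
    rcases hx with rfl | rfl | rfl | rfl
    · exact ⟨X 0 ^ 2, X0sq_mem, 0, zero_mem _, 0, zero_mem _, 0, zero_mem _, by ring⟩
    · exact ⟨0, zero_mem _, 1, one_mem _, 0, zero_mem _, 0, zero_mem _, by ring⟩
    · exact ⟨X 1 ^ 2, X1sq_mem, 0, zero_mem _, 0, zero_mem _, 0, zero_mem _, by ring⟩
    · exact ⟨0, zero_mem _, 0, zero_mem _, 1, one_mem _, 0, zero_mem _, by ring⟩
  | algebraMap r =>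
    exact ⟨C r, C_mem r, 0, zero_mem _, 0, zero_mem _, 0, zero_mem _, by
      rw [algebraMap_eq]; ring⟩
  | add x y _ _ hx hy =>
    obtain ⟨p0, hp0, p1, hp1, p2, hp2, p3, hp3, rfl⟩ := hx
    obtain ⟨q0, hq0, q1, hq1, q2, hq2, q3, hq3, rfl⟩ := hy
    exact ⟨p0 + q0, add_mem hp0 hq0, p1 + q1, add_mem hp1 hq1, p2 + q2, add_mem hp2 hq2,
      p3 + q3, add_mem hp3 hq3, by ring⟩
  | mul x y _ _ hx hy =>
    obtain ⟨p0, hp0, p1, hp1, p2, hp2, p3, hp3, rfl⟩ := hx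
    obtain ⟨q0, hq0, q1, hq1, q2, hq2, q3, hq3, rfl⟩ := hy
    have h6 := X06_mem (R := R)
    have h6' := X16_mem (R := R)
    refine ⟨p0 * q0 + p1 * q1 * X 0 ^ 6 + p2 * q2 * X 1 ^ 6 + p3 * q3 * (X 0 ^ 6 * X 1 ^ 6), ?_,
      p0 * q1 + p1 * q0 + (p2 * q3 + p3 * q2) * X 1 ^ 6, ?_,
      p0 * q2 + p2 * q0 + (p1 * q3 + p3 * q1) * X 0 ^ 6, ?_,
      p0 * q3 + p1 * q2 + p2 * q1 + p3 * q0, ?_, by ring⟩
    · exact add_mem (add_mem (add_mem (mul_mem hp0 hq0) (mul_mem (mul_mem hp1 hq1) h6))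
        (mul_mem (mul_mem hp2 hq2) h6')) (mul_mem (mul_mem hp3 hq3) (mul_mem h6 h6'))
    · exact add_mem (add_mem (mul_mem hp0 hq1) (mul_mem hp1 hq0))
        (mul_mem (add_mem (mul_mem hp2 hq3) (mul_mem hp3 hq2)) h6')
    · exact add_mem (add_mem (mul_mem hp0 hq2) (mul_mem hp2 hq0))
        (mul_mem (add_mem (mul_mem hp1 hq3) (mul_mem hp3 hq1)) h6)
    · exact add_mem (add_mem (add_mem (mul_mem hp0 hq3) (mul_mem hp1 hq2)) (mul_mem hp2 hq1))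
        (mul_mem hp3 hq0)

end Aux

open MvPolynomial in
/-- Let R be a commutative ring of characteristic 2 and l0, l2, l4, s0, s2, s4, τ ∈ R with τ a unit.
Inside R[u, v] (u = X 0, v = X 1) let A = R[u², u³, v², v³] be the coordinate ring of the product of
two cuspidal curves, and let D be the R-derivation of R[u, v] with D(u) = v²(l0 u⁴ + τ u³ + l2 u² +
l4) and D(v) = u²(s0 v⁴ + τ v³ + s2 v² + s4); D is u²v² times the rational vector field (l0 u² + τ u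
+ l2 + l4 u⁻²) ∂_u + (s0 v² + τ v + s2 + s4 v⁻²) ∂_v, which maps A into itself, and u²v² is a
non-zero-divisor, so the kernel of that vector field on A is the set of a ∈ A with D(a) = 0. Then
for a ∈ A: D(a) = 0 if and only if a ∈ R[u², v², g], where g = (s0 v⁴ + s2 v² + s4) u³ + (l0 u⁴ + l2
u² + l4) v³ + τ u³ v³. (The published statement identifies this kernel with the ring of invariants
of the corresponding action of the group scheme of square roots of unity; this row states the kernel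
computation that is actually carried out.) -/
theorem result (R : Type u) [CommRing R] [CharP R 2]
    (l0 l2 l4 s0 s2 s4 τ : R) (hτ : IsUnit τ) (a : MvPolynomial (Fin 2) R)
    (ha : a ∈ Algebra.adjoin R
      ({X 0 ^ 2, X 0 ^ 3, X 1 ^ 2, X 1 ^ 3} : Set (MvPolynomial (Fin 2) R))) :
    MvPolynomial.mkDerivation R
        (![X 1 ^ 2 * (C l0 * X 0 ^ 4 + C τ * X 0 ^ 3 + C l2 * X 0 ^ 2 + C l4),
          X 0 ^ 2 * (C s0 * X 1 ^ 4 + C τ * X 1 ^ 3 + C s2 * X 1 ^ 2 + C s4)] :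
          Fin 2 → MvPolynomial (Fin 2) R) a = 0 ↔
      a ∈ Algebra.adjoin R
        ({X 0 ^ 2, X 1 ^ 2,
          (C s0 * X 1 ^ 4 + C s2 * X 1 ^ 2 + C s4) * X 0 ^ 3 +
            (C l0 * X 0 ^ 4 + C l2 * X 0 ^ 2 + C l4) * X 1 ^ 3 +
            C τ * X 0 ^ 3 * X 1 ^ 3} : Set (MvPolynomial (Fin 2) R)) := by
  classical
  have h2 := two_eq_zero (R := R) (Fin 2)
  have hX04 : (X 0 ^ 4 : MvPolynomial (Fin 2) R) ∈ P R := by
    have : (X 0 ^ 4 : MvPolynomial (Fin 2) R) = (X 0 ^ 2) ^ 2 := by ring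
    rw [this]; exact pow_mem X0sq_mem 2
  have hX14 : (X 1 ^ 4 : MvPolynomial (Fin 2) R) ∈ P R := by
    have : (X 1 ^ 4 : MvPolynomial (Fin 2) R) = (X 1 ^ 2) ^ 2 := by ring
    rw [this]; exact pow_mem X1sq_mem 2
  set Se : MvPolynomial (Fin 2) R := C s0 * X 1 ^ 4 + C s2 * X 1 ^ 2 + C s4 with hSedef
  set Le : MvPolynomial (Fin 2) R := C l0 * X 0 ^ 4 + C l2 * X 0 ^ 2 + C l4 with hLedef
  have hSe : Se ∈ P R :=
    add_mem (add_mem (mul_mem (C_mem _) hX14) (mul_mem (C_mem _) X1sq_mem)) (C_mem _)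
  have hLe : Le ∈ P R :=
    add_mem (add_mem (mul_mem (C_mem _) hX04) (mul_mem (C_mem _) X0sq_mem)) (C_mem _)
  set D := MvPolynomial.mkDerivation R
        (![X 1 ^ 2 * (C l0 * X 0 ^ 4 + C τ * X 0 ^ 3 + C l2 * X 0 ^ 2 + C l4),
          X 0 ^ 2 * (C s0 * X 1 ^ 4 + C τ * X 1 ^ 3 + C s2 * X 1 ^ 2 + C s4)] :
          Fin 2 → MvPolynomial (Fin 2) R) with hD
  have hDx : D (X 0) = X 1 ^ 2 * (Le + C τ * X 0 ^ 3) := by
    rw [hD, mkDerivation_X, Matrix.cons_val_zero, hLedef]; ring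
  have hDy : D (X 1) = X 0 ^ 2 * (Se + C τ * X 1 ^ 3) := by
    rw [hD, mkDerivation_X, Matrix.cons_val_one, Matrix.cons_val_zero, hSedef]; ring
  have hDU : D (X 0 ^ 3) = X 0 ^ 2 * X 1 ^ 2 * (Le + C τ * X 0 ^ 3) := by
    rw [Derivation.leibniz_pow, hDx]
    simp only [smul_eq_mul, nsmul_eq_mul, Nat.cast_ofNat, Nat.add_one_sub_one]
    linear_combination (X 0 ^ 2 * X 1 ^ 2 * (Le + C τ * X 0 ^ 3)) * h2
  have hDV : D (X 1 ^ 3) = X 0 ^ 2 * X 1 ^ 2 * (Se + C τ * X 1 ^ 3) := by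
    rw [Derivation.leibniz_pow, hDy]
    simp only [smul_eq_mul, nsmul_eq_mul, Nat.cast_ofNat, Nat.add_one_sub_one]
    linear_combination (X 0 ^ 2 * X 1 ^ 2 * (Se + C τ * X 1 ^ 3)) * h2
  have hDSe : D Se = 0 := deriv_eq_zero_of_mem_P D hSe
  have hDLe : D Le = 0 := deriv_eq_zero_of_mem_P D hLe
  set g : MvPolynomial (Fin 2) R := Se * X 0 ^ 3 + Le * X 1 ^ 3 + C τ * X 0 ^ 3 * X 1 ^ 3 with hg
  have hDg : D g = 0 := by
    rw [hg]
    simp only [map_add, Derivation.leibniz, smul_eq_mul, hDSe, hDLe, hDU, hDV, derivation_C]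
    linear_combination (X 0 ^ 2 * X 1 ^ 2 * (Se * Le + C τ * X 0 ^ 3 * Se + C τ * X 1 ^ 3 * Le +
      C τ ^ 2 * X 0 ^ 3 * X 1 ^ 3)) * h2
  obtain ⟨τ', hττ'⟩ := hτ.exists_right_inv
  have hinv : (C τ * C τ' : MvPolynomial (Fin 2) R) = 1 := by rw [← C_mul, hττ', C_1]
  have hPle : P R ≤ Algebra.adjoin R ({X 0 ^ 2, X 1 ^ 2, g} : Set (MvPolynomial (Fin 2) R)) := by
    apply Algebra.adjoin_mono
    intro x hx
    rcases hx with rfl | rfl
    · simp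
    · simp
  constructor
  · intro hp
    obtain ⟨p0, hp0, p1, hp1, p2, hp2, p3, hp3, rfl⟩ := decompA ha
    have hD0 : D p0 = 0 := deriv_eq_zero_of_mem_P D hp0
    have hD1 : D p1 = 0 := deriv_eq_zero_of_mem_P D hp1
    have hD2 : D p2 = 0 := deriv_eq_zero_of_mem_P D hp2
    have hD3 : D p3 = 0 := deriv_eq_zero_of_mem_P D hp3
    have hDp : (X 0 ^ 2 * X 1 ^ 2 * (p1 * Le + p2 * Se)) +
        ((p1 * C τ + p3 * Se) * (X 0 ^ 2 * X 1 ^ 2 * X 0 ^ 2)) * X 0 +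
        ((p2 * C τ + p3 * Le) * (X 0 ^ 2 * X 1 ^ 2 * X 1 ^ 2)) * X 1 +
        0 * (X 0 * X 1) = 0 := by
      have e : D (p0 + p1 * X 0 ^ 3 + p2 * X 1 ^ 3 + p3 * (X 0 ^ 3 * X 1 ^ 3)) =
          (X 0 ^ 2 * X 1 ^ 2 * (p1 * Le + p2 * Se)) +
          ((p1 * C τ + p3 * Se) * (X 0 ^ 2 * X 1 ^ 2 * X 0 ^ 2)) * X 0 +
          ((p2 * C τ + p3 * Le) * (X 0 ^ 2 * X 1 ^ 2 * X 1 ^ 2)) * X 1 +
            2 * (p3 * C τ * X 0 ^ 5 * X 1 ^ 5) := by
        simp only [map_add, Derivation.leibniz, smul_eq_mul, hD0, hD1, hD2, hD3, hDU, hDV]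
        ring
      rw [hp] at e
      linear_combination (-1) * e - (p3 * C τ * X 0 ^ 5 * X 1 ^ 5) * h2
    have hm : (X 0 ^ 2 * X 1 ^ 2 : MvPolynomial (Fin 2) R) ∈ P R := mul_mem X0sq_mem X1sq_mem
    obtain ⟨-, hq1, hq2, -⟩ := indep
      (mul_mem hm (add_mem (mul_mem hp1 hLe) (mul_mem hp2 hSe)))
      (mul_mem (add_mem (mul_mem hp1 (C_mem τ)) (mul_mem hp3 hSe)) (mul_mem hm X0sq_mem))
      (mul_mem (add_mem (mul_mem hp2 (C_mem τ)) (mul_mem hp3 hLe)) (mul_mem hm X1sq_mem))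
      (zero_mem _) hDp
    have hreg1 : IsRegular (X 0 ^ 2 * X 1 ^ 2 * X 0 ^ 2 : MvPolynomial (Fin 2) R) :=
      ((isRegular_X_pow 2).mul (isRegular_X_pow 2)).mul (isRegular_X_pow 2)
    have hreg2 : IsRegular (X 0 ^ 2 * X 1 ^ 2 * X 1 ^ 2 : MvPolynomial (Fin 2) R) :=
      ((isRegular_X_pow 2).mul (isRegular_X_pow 2)).mul (isRegular_X_pow 2)
    have hq1' : p1 * C τ + p3 * Se = 0 := hreg1.right.eq_iff.mp (by simpa using hq1)
    have hq2' : p2 * C τ + p3 * Le = 0 := hreg2.right.eq_iff.mp (by simpa using hq2)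
    have hc : C τ' * p3 ∈ P R := mul_mem (C_mem τ') hp3
    have hfin : p0 + p1 * X 0 ^ 3 + p2 * X 1 ^ 3 + p3 * (X 0 ^ 3 * X 1 ^ 3) =
        p0 + (C τ' * p3) * g := by
      rw [hg]
      linear_combination (X 0 ^ 3) * (C τ' * hq1' - p1 * hinv - C τ' * p3 * Se * h2)
        + (X 1 ^ 3) * (C τ' * hq2' - p2 * hinv - C τ' * p3 * Le * h2)
        - (X 0 ^ 3 * X 1 ^ 3) * (p3 * hinv)
    rw [hfin]
    exact add_mem (hPle hp0) (mul_mem (hPle hc) (Algebra.subset_adjoin (by simp)))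
  · intro hmem
    have : Set.EqOn D (0 : Derivation R (MvPolynomial (Fin 2) R) (MvPolynomial (Fin 2) R))
        ({X 0 ^ 2, X 1 ^ 2, g} : Set (MvPolynomial (Fin 2) R)) := by
      rintro x (rfl | rfl | rfl)
      · exact deriv_eq_zero_of_mem_P D X0sq_mem
      · exact deriv_eq_zero_of_mem_P D X1sq_mem
      · exact hDg
    exact Derivation.eqOn_adjoin this hmem

end Groth.Agent.S13120
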