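import Groth.Statements.S13121
import Groth.Agent.Lib.Helper48.Char2Grading
-- import your own Groth.Agent.* helpers here

set_option autoImplicit false
universe u
open KumFam
open Groth.Agent.Lib.Helper48.Char2Grading MvPolynomial

namespace Groth.Agent.S13121

open MvPolynomial in
/-- Let R be a commutative ring of characteristic 2 and l0, l2, l4, s0, s2, s4, τ ∈ R with τ a unit. In
R[u, v] (u = X 0, v = X 1) put g = (s0 v⁴ + s2 v² + s4) u³ + (l0 u⁴ + l2 u² + l4) v³ + τ u³ v³. Then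
the kernel of the R-algebra homomorphism R[a, b, c] → R[u, v] (a = X 0, b = X 1, c = X 2) with a ↦
u², b ↦ v², c ↦ g is the ideal generated by c² + s0² a³ b⁴ + s2² a³ b² + s4² a³ + l0² a⁴ b³ + l2² a²
b³ + l4² b³ + τ² a³ b³; its image is the subalgebra R[u², v², g], which is therefore presented by
this one equation. -/
theorem result (R : Type u) [CommRing R] [CharP R 2]
    (l0 l2 l4 s0 s2 s4 τ : R) (hτ : IsUnit τ) :
    RingHom.ker (MvPolynomial.aeval (R := R) (S₁ := MvPolynomial (Fin 2) R)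
        ![X 0 ^ 2, X 1 ^ 2,
          (C s0 * X 1 ^ 4 + C s2 * X 1 ^ 2 + C s4) * X 0 ^ 3 +
            (C l0 * X 0 ^ 4 + C l2 * X 0 ^ 2 + C l4) * X 1 ^ 3 +
            C τ * X 0 ^ 3 * X 1 ^ 3]) =
      Ideal.span {(X 2 ^ 2 + C (s0 ^ 2) * X 0 ^ 3 * X 1 ^ 4 + C (s2 ^ 2) * X 0 ^ 3 * X 1 ^ 2 +
        C (s4 ^ 2) * X 0 ^ 3 + C (l0 ^ 2) * X 0 ^ 4 * X 1 ^ 3 + C (l2 ^ 2) * X 0 ^ 2 * X 1 ^ 3 +
        C (l4 ^ 2) * X 1 ^ 3 + C (τ ^ 2) * X 0 ^ 3 * X 1 ^ 3 : MvPolynomial (Fin 3) R)} := by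
  classical
  have h2 := two_eq_zero (R := R) (Fin 2)
  have hsq : ∀ a b : MvPolynomial (Fin 2) R, (a + b) ^ 2 = a ^ 2 + b ^ 2 :=
    fun a b => by linear_combination (a * b) * h2
  have hX04 : (X 0 ^ 4 : MvPolynomial (Fin 2) R) ∈ P R := by
    have : (X 0 ^ 4 : MvPolynomial (Fin 2) R) = (X 0 ^ 2) ^ 2 := by ring
    rw [this]; exact pow_mem X0sq_mem 2
  have hX14 : (X 1 ^ 4 : MvPolynomial (Fin 2) R) ∈ P R := by
    have : (X 1 ^ 4 : MvPolynomial (Fin 2) R) = (X 1 ^ 2) ^ 2 := by ring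
    rw [this]; exact pow_mem X1sq_mem 2
  have hSe : (C s0 * X 1 ^ 4 + C s2 * X 1 ^ 2 + C s4 : MvPolynomial (Fin 2) R) ∈ P R :=
    add_mem (add_mem (mul_mem (C_mem _) hX14) (mul_mem (C_mem _) X1sq_mem)) (C_mem _)
  have hLe : (C l0 * X 0 ^ 4 + C l2 * X 0 ^ 2 + C l4 : MvPolynomial (Fin 2) R) ∈ P R :=
    add_mem (add_mem (mul_mem (C_mem _) hX04) (mul_mem (C_mem _) X0sq_mem)) (C_mem _)
  have hreg : IsRegular (C τ * X 0 ^ 2 * X 1 ^ 2 : MvPolynomial (Fin 2) R) := by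
    have hu : IsUnit (C τ : MvPolynomial (Fin 2) R) := hτ.map C
    exact (hu.isRegular.mul (isRegular_X_pow 2)).mul (isRegular_X_pow 2)
  have key := ker_eq_span (R := R)
    ((C s0 * X 1 ^ 4 + C s2 * X 1 ^ 2 + C s4) * X 0 ^ 3 +
            (C l0 * X 0 ^ 4 + C l2 * X 0 ^ 2 + C l4) * X 1 ^ 3 +
            C τ * X 0 ^ 3 * X 1 ^ 3)
    ((C s0 * X 1 ^ 4 + C s2 * X 1 ^ 2 + C s4) * X 0 ^ 2)
    ((C l0 * X 0 ^ 4 + C l2 * X 0 ^ 2 + C l4) * X 1 ^ 2)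
    (C τ * X 0 ^ 2 * X 1 ^ 2)
    (mul_mem hSe X0sq_mem) (mul_mem hLe X1sq_mem)
    (mul_mem (mul_mem (C_mem _) X0sq_mem) X1sq_mem) hreg (by ring)
    (C (s0 ^ 2) * X 0 ^ 3 * X 1 ^ 4 + C (s2 ^ 2) * X 0 ^ 3 * X 1 ^ 2 +
        C (s4 ^ 2) * X 0 ^ 3 + C (l0 ^ 2) * X 0 ^ 4 * X 1 ^ 3 + C (l2 ^ 2) * X 0 ^ 2 * X 1 ^ 3 +
        C (l4 ^ 2) * X 1 ^ 3 + C (τ ^ 2) * X 0 ^ 3 * X 1 ^ 3)
    (by
      have hgsq : ((C s0 * X 1 ^ 4 + C s2 * X 1 ^ 2 + C s4) * X 0 ^ 3 +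
            (C l0 * X 0 ^ 4 + C l2 * X 0 ^ 2 + C l4) * X 1 ^ 3 +
            C τ * X 0 ^ 3 * X 1 ^ 3 : MvPolynomial (Fin 2) R) ^ 2 =
          aeval (R := R) ![(X 0 ^ 2 : MvPolynomial (Fin 2) R), X 1 ^ 2]
            (C (s0 ^ 2) * X 0 ^ 3 * X 1 ^ 4 + C (s2 ^ 2) * X 0 ^ 3 * X 1 ^ 2 +
              C (s4 ^ 2) * X 0 ^ 3 + C (l0 ^ 2) * X 0 ^ 4 * X 1 ^ 3 + C (l2 ^ 2) * X 0 ^ 2 * X 1 ^ 3 +
              C (l4 ^ 2) * X 1 ^ 3 + C (τ ^ 2) * X 0 ^ 3 * X 1 ^ 3) := by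
        simp only [hsq, mul_pow, map_add, map_mul, map_pow, aeval_X, aeval_C, algebraMap_eq,
          Matrix.cons_val_zero, Matrix.cons_val_one]
        ring
      rw [hgsq]
      exact CharTwo.add_self_eq_zero _)
  rw [key]
  congr 2
  simp only [map_add, map_mul, map_pow, rename_C, rename_X, Matrix.cons_val_zero,
    Matrix.cons_val_one]
  ring

end Groth.Agent.S13121
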