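import Groth.Statements.S13122
import Groth.Agent.Lib.Helper48.Char2Grading
-- import your own Groth.Agent.* helpers here

set_option autoImplicit false
universe u
open KumFam
open Groth.Agent.Lib.Helper48.Char2Grading MvPolynomial

namespace Groth.Agent.S13122

open MvPolynomial in
/-- Let R be a commutative ring of characteristic 2 and l0, l2, l4, s0, s2, s4, τ ∈ R with τ a unit. On
R[x, y] (x = X 0, y = X 1; the coordinates u⁻¹, v⁻¹ of the smooth chart of the product of two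
cuspidal curves) let D be the R-derivation with D(x) = l4 x⁴ + l2 x² + τ x + l0 and D(y) = s4 y⁴ +
s2 y² + τ y + s0, and put h = (s4 y⁴ + s2 y² + s0) x + (l4 x⁴ + l2 x² + l0) y + τ x y. Then: (1) for
p ∈ R[x, y], D(p) = 0 if and only if p lies in the image of the R-algebra homomorphism R[a, b, c] →
R[x, y] (a = X 0, b = X 1, c = X 2) with a ↦ x², b ↦ y², c ↦ h; (2) the kernel of that homomorphism
is the ideal generated by c² + τ² a b + (s4² b⁴ + s2² b² + s0²) a + (l4² a⁴ + l2² a² + l0²) b. (The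
published statement asserts that the ring of invariants of the action of the group scheme of square
roots of unity given by this vector field is R[a, b, c] modulo this equation, by the same
computation as on the other chart; this row pins the generator h and states the kernel computation.) -/
theorem result (R : Type u) [CommRing R]
    [CharP R 2] (l0 l2 l4 s0 s2 s4 τ : R) (hτ : IsUnit τ) :
    (∀ p : MvPolynomial (Fin 2) R,
      MvPolynomial.mkDerivation R
          (![C l4 * X 0 ^ 4 + C l2 * X 0 ^ 2 + C τ * X 0 + C l0,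
            C s4 * X 1 ^ 4 + C s2 * X 1 ^ 2 + C τ * X 1 + C s0] :
            Fin 2 → MvPolynomial (Fin 2) R) p = 0 ↔
        p ∈ (MvPolynomial.aeval (R := R) (S₁ := MvPolynomial (Fin 2) R)
          ![X 0 ^ 2, X 1 ^ 2,
            (C s4 * X 1 ^ 4 + C s2 * X 1 ^ 2 + C s0) * X 0 +
              (C l4 * X 0 ^ 4 + C l2 * X 0 ^ 2 + C l0) * X 1 + C τ * X 0 * X 1]).range) ∧
    RingHom.ker (MvPolynomial.aeval (R := R) (S₁ := MvPolynomial (Fin 2) R)
        ![X 0 ^ 2, X 1 ^ 2,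
          (C s4 * X 1 ^ 4 + C s2 * X 1 ^ 2 + C s0) * X 0 +
            (C l4 * X 0 ^ 4 + C l2 * X 0 ^ 2 + C l0) * X 1 + C τ * X 0 * X 1]) =
      Ideal.span {(X 2 ^ 2 + C (τ ^ 2) * X 0 * X 1 +
        (C (s4 ^ 2) * X 1 ^ 4 + C (s2 ^ 2) * X 1 ^ 2 + C (s0 ^ 2)) * X 0 +
        (C (l4 ^ 2) * X 0 ^ 4 + C (l2 ^ 2) * X 0 ^ 2 + C (l0 ^ 2)) * X 1 : MvPolynomial (Fin 3) R)} := by
  classical
  have h2 := two_eq_zero (R := R) (Fin 2)
  have hsq : ∀ a b : MvPolynomial (Fin 2) R, (a + b) ^ 2 = a ^ 2 + b ^ 2 :=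
    fun a b => by linear_combination (a * b) * h2
  have hX04 : (X 0 ^ 4 : MvPolynomial (Fin 2) R) ∈ P R := by
    have : (X 0 ^ 4 : MvPolynomial (Fin 2) R) = (X 0 ^ 2) ^ 2 := by ring
    rw [this]; exact pow_mem X0sq_mem 2
  have hX14 : (X 1 ^ 4 : MvPolynomial (Fin 2) R) ∈ P R := by
    have : (X 1 ^ 4 : MvPolynomial (Fin 2) R) = (X 1 ^ 2) ^ 2 := by ring
    rw [this]; exact pow_mem X1sq_mem 2
  set Se : MvPolynomial (Fin 2) R := C s4 * X 1 ^ 4 + C s2 * X 1 ^ 2 + C s0 with hSedef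
  set Le : MvPolynomial (Fin 2) R := C l4 * X 0 ^ 4 + C l2 * X 0 ^ 2 + C l0 with hLedef
  have hSe : Se ∈ P R :=
    add_mem (add_mem (mul_mem (C_mem _) hX14) (mul_mem (C_mem _) X1sq_mem)) (C_mem _)
  have hLe : Le ∈ P R :=
    add_mem (add_mem (mul_mem (C_mem _) hX04) (mul_mem (C_mem _) X0sq_mem)) (C_mem _)
  set D := MvPolynomial.mkDerivation R
          (![C l4 * X 0 ^ 4 + C l2 * X 0 ^ 2 + C τ * X 0 + C l0,
            C s4 * X 1 ^ 4 + C s2 * X 1 ^ 2 + C τ * X 1 + C s0] :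
            Fin 2 → MvPolynomial (Fin 2) R) with hD
  have hDx : D (X 0) = Le + C τ * X 0 := by
    rw [hD, mkDerivation_X, Matrix.cons_val_zero, hLedef]; ring
  have hDy : D (X 1) = Se + C τ * X 1 := by
    rw [hD, mkDerivation_X, Matrix.cons_val_one, Matrix.cons_val_zero, hSedef]; ring
  have hDSe : D Se = 0 := deriv_eq_zero_of_mem_P D hSe
  have hDLe : D Le = 0 := deriv_eq_zero_of_mem_P D hLe
  set h : MvPolynomial (Fin 2) R := Se * X 0 + Le * X 1 + C τ * X 0 * X 1 with hh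
  have hDh : D h = 0 := by
    rw [hh]
    simp only [map_add, Derivation.leibniz, smul_eq_mul, hDSe, hDLe, hDx, hDy, derivation_C]
    linear_combination (Se * Le + C τ * X 0 * Se + C τ * X 1 * Le + C τ ^ 2 * X 0 * X 1) * h2
  obtain ⟨τ', hττ'⟩ := hτ.exists_right_inv
  have hinv : (C τ * C τ' : MvPolynomial (Fin 2) R) = 1 := by rw [← C_mul, hττ', C_1]
  refine ⟨fun p => ⟨fun hp => ?_, ?_⟩, ?_⟩
  · -- kernel ⊆ range
    obtain ⟨p0, hp0, p1, hp1, p2, hp2, p3, hp3, rfl⟩ := exists_decomp p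
    have hD0 : D p0 = 0 := deriv_eq_zero_of_mem_P D hp0
    have hD1 : D p1 = 0 := deriv_eq_zero_of_mem_P D hp1
    have hD2 : D p2 = 0 := deriv_eq_zero_of_mem_P D hp2
    have hD3 : D p3 = 0 := deriv_eq_zero_of_mem_P D hp3
    have hDp : (p1 * Le + p2 * Se) + (p1 * C τ + p3 * Se) * X 0 + (p2 * C τ + p3 * Le) * X 1 +
        0 * (X 0 * X 1) = 0 := by
      have e : D (p0 + p1 * X 0 + p2 * X 1 + p3 * (X 0 * X 1)) =
          (p1 * Le + p2 * Se) + (p1 * C τ + p3 * Se) * X 0 + (p2 * C τ + p3 * Le) * X 1 +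
            2 * (p3 * C τ * X 0 * X 1) := by
        simp only [map_add, Derivation.leibniz, smul_eq_mul, hD0, hD1, hD2, hD3, hDx, hDy]
        ring
      rw [hp] at e
      linear_combination (-1) * e - (p3 * C τ * X 0 * X 1) * h2
    obtain ⟨-, hq1, hq2, -⟩ := indep
      (add_mem (mul_mem hp1 hLe) (mul_mem hp2 hSe))
      (add_mem (mul_mem hp1 (C_mem τ)) (mul_mem hp3 hSe))
      (add_mem (mul_mem hp2 (C_mem τ)) (mul_mem hp3 hLe)) (zero_mem _) hDp
    have hc : C τ' * p3 ∈ P R := mul_mem (C_mem τ') hp3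
    obtain ⟨r0, hr0⟩ := mem_P_iff.mp hp0
    obtain ⟨rc, hrc⟩ := mem_P_iff.mp hc
    refine ⟨rename (![0, 1] : Fin 2 → Fin 3) r0 + rename (![0, 1] : Fin 2 → Fin 3) rc * X 2, ?_⟩
    have e2 : (aeval (R := R) (S₁ := MvPolynomial (Fin 2) R) ![X 0 ^ 2, X 1 ^ 2, h]) (X 2) = h := by
      rw [aeval_X]; rfl
    change (aeval (R := R) (S₁ := MvPolynomial (Fin 2) R) ![X 0 ^ 2, X 1 ^ 2, h]) _ = _
    rw [map_add, map_mul, aeval_rename3, aeval_rename3, e2, hr0, hrc, hh]
    linear_combination (-(X 0)) * (C τ' * hq1 - p1 * hinv - C τ' * p3 * Se * h2)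
      - (X 1) * (C τ' * hq2 - p2 * hinv - C τ' * p3 * Le * h2) + (X 0 * X 1) * (p3 * hinv)
  · -- range ⊆ kernel
    rintro ⟨q, rfl⟩
    change D ((aeval (R := R) (S₁ := MvPolynomial (Fin 2) R) ![X 0 ^ 2, X 1 ^ 2, h]) q) = 0
    induction q using MvPolynomial.induction_on with
    | C r => rw [aeval_C, algebraMap_eq, derivation_C]
    | add p q hp hq => rw [map_add, map_add, hp, hq, add_zero]
    | mul_X p i hp =>
      rw [map_mul, Derivation.leibniz, hp, smul_zero, add_zero, aeval_X]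
      have : D ((![X 0 ^ 2, X 1 ^ 2, h] : Fin 3 → MvPolynomial (Fin 2) R) i) = 0 := by
        fin_cases i
        · exact deriv_eq_zero_of_mem_P D X0sq_mem
        · exact deriv_eq_zero_of_mem_P D X1sq_mem
        · exact hDh
      rw [this, smul_zero]
  · have hreg : IsRegular (C τ : MvPolynomial (Fin 2) R) := (hτ.map C).isRegular
    have key := ker_eq_span (R := R) h Se Le (C τ) hSe hLe (C_mem τ) hreg (by rw [hh]; ring)
      (C (τ ^ 2) * X 0 * X 1 +
        (C (s4 ^ 2) * X 1 ^ 4 + C (s2 ^ 2) * X 1 ^ 2 + C (s0 ^ 2)) * X 0 +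
        (C (l4 ^ 2) * X 0 ^ 4 + C (l2 ^ 2) * X 0 ^ 2 + C (l0 ^ 2)) * X 1)
      (by
        have hgsq : h ^ 2 =
            aeval (R := R) ![(X 0 ^ 2 : MvPolynomial (Fin 2) R), X 1 ^ 2]
              (C (τ ^ 2) * X 0 * X 1 +
                (C (s4 ^ 2) * X 1 ^ 4 + C (s2 ^ 2) * X 1 ^ 2 + C (s0 ^ 2)) * X 0 +
                (C (l4 ^ 2) * X 0 ^ 4 + C (l2 ^ 2) * X 0 ^ 2 + C (l0 ^ 2)) * X 1) := by
          rw [hh, hSedef, hLedef]
          simp only [hsq, mul_pow, map_add, map_mul, map_pow, aeval_X, aeval_C, algebraMap_eq,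
            Matrix.cons_val_zero, Matrix.cons_val_one]
          ring
        rw [hgsq]
        exact CharTwo.add_self_eq_zero _)
    rw [key]
    congr 2
    simp only [map_add, map_mul, map_pow, rename_C, rename_X, Matrix.cons_val_zero,
      Matrix.cons_val_one]
    ring

end Groth.Agent.S13122
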