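import Groth.Statements.S13124
import Mathlib.RingTheory.Localization.FractionRing

set_option autoImplicit false
universe u v w
open KumFam

namespace Groth.Agent.S13124

/-- Let k be a commutative ring, A a commutative k-bialgebra that is flat over k, and R a commutative
k-algebra which is an integrally closed domain, with a coaction R → R ⊗ A that is an algebra
homomorphism. Then the ring of invariants (the elements f with coaction f ⊗ 1) is an integrally
closed domain. (The published statement is for a finite group scheme acting on a normal scheme whose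
quotient is, locally, the spectrum of the ring of invariants; this row is the affine integral case
and allows any commutative bialgebra flat over k, flatness being automatic over a field.) -/
theorem result (k : Type u) [CommRing k]
    (A : Type v) [CommRing A] [Bialgebra k A] [Module.Flat k A]
    (R : Type w) [CommRing R] [Algebra k R] [IsDomain R] [IsIntegrallyClosed R]
    [HopfRep.Comod k A R] [GLin.IsCoactAlg k A R] :
    IsIntegrallyClosed (GLin.invariants k A R) := by
  classical
  set S := GLin.invariants k A R with hS
  let K := FractionRing ↥S
  let L := FractionRing R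
  rw [isIntegrallyClosed_iff K]
  intro x hx
  -- the map of fraction fields
  let g : ↥S →+* L := (algebraMap R L).comp S.val.toRingHom
  have hg : Function.Injective g :=
    (IsFractionRing.injective R L).comp Subtype.val_injective
  let φ : K →+* L := IsFractionRing.lift hg
  have hφ : ∀ s : ↥S, φ (algebraMap ↥S K s) = algebraMap R L (s : R) := fun s =>
    IsFractionRing.lift_algebraMap hg s
  -- φ x is integral over R
  have hint : IsIntegral R (φ x) := by
    obtain ⟨p, hp, hp0⟩ := hx
    refine ⟨p.map S.val.toRingHom, hp.map _, ?_⟩
    rw [Polynomial.eval₂_map]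
    have := congrArg φ hp0
    rw [Polynomial.hom_eval₂, map_zero] at this
    have hcomp : φ.comp (algebraMap ↥S K) = (algebraMap R L).comp S.val.toRingHom := by
      ext s
      exact hφ s
    rw [hcomp] at this
    exact this
  obtain ⟨y, hy⟩ := IsIntegrallyClosed.algebraMap_eq_of_integral hint
  obtain ⟨a, b, hb, rfl⟩ := IsFractionRing.div_surjective (A := ↥S) x
  have hb0 : b ≠ 0 := nonZeroDivisors.ne_zero hb
  have hbR : (b : R) ≠ 0 := fun h => hb0 (Subtype.ext h)
  -- y * b = a in R
  have hyb : y * (b : R) = (a : R) := by
    apply IsFractionRing.injective R L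
    rw [map_mul, hy, map_div₀, hφ, hφ]
    have : algebraMap R L (b : R) ≠ 0 := by
      rw [Ne, map_eq_zero_iff _ (IsFractionRing.injective R L)]
      exact hbR
    exact div_mul_cancel₀ _ this
  -- y is invariant
  have hyS : y ∈ S := by
    change HopfRep.Comod.coact (k := k) (A := A) y = y ⊗ₜ[k] (1 : A)
    have ha : HopfRep.Comod.coact (k := k) (A := A) (a : R) = (a : R) ⊗ₜ[k] (1 : A) := a.2
    have hbb : HopfRep.Comod.coact (k := k) (A := A) (b : R) = (b : R) ⊗ₜ[k] (1 : A) := b.2
    have h1 : HopfRep.Comod.coact (k := k) (A := A) y * ((b : R) ⊗ₜ[k] (1 : A)) =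
        (y ⊗ₜ[k] (1 : A)) * ((b : R) ⊗ₜ[k] (1 : A)) := by
      rw [← hbb, ← GLin.IsCoactAlg.coact_mul, hyb, ha, hbb, Algebra.TensorProduct.tmul_mul_tmul,
        hyb, one_mul]
    -- multiplication by b ⊗ 1 is injective by flatness
    have hinj : Function.Injective ((LinearMap.mulRight k (b : R)).rTensor A) := by
      apply Module.Flat.rTensor_preserves_injective_linearMap
      intro u v huv
      simp only [LinearMap.mulRight_apply] at huv
      exact mul_right_cancel₀ hbR huv
    have hmul : ∀ z : TensorProduct k R A,
        (LinearMap.mulRight k (b : R)).rTensor A z = z * ((b : R) ⊗ₜ[k] (1 : A)) := by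
      intro z
      induction z using TensorProduct.induction_on with
      | zero => simp
      | tmul r s => simp [Algebra.TensorProduct.tmul_mul_tmul]
      | add z w hz hw => rw [map_add, hz, hw, add_mul]
    apply hinj
    rw [hmul, hmul, h1]
  refine ⟨⟨y, hyS⟩, ?_⟩
  have hbK : algebraMap ↥S K b ≠ 0 := by
    rw [Ne, map_eq_zero_iff _ (IsFractionRing.injective ↥S K)]
    exact hb0
  rw [eq_div_iff hbK, ← map_mul]
  congr 1
  exact Subtype.ext hyb

end Groth.Agent.S13124
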