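import Groth.Statements.S13125
import Mathlib.RingTheory.GradedAlgebra.Homogeneous.Ideal
import Mathlib.RingTheory.Ideal.Quotient.Operations

set_option autoImplicit false
universe u v
open KumFam

namespace Groth.Agent.S13125

open DirectSum

section
variable {ι : Type u} [DecidableEq ι] [AddMonoid ι]
    {A : Type v} [CommRing A] (𝒜 : ι → AddSubgroup A) [GradedRing 𝒜]

/-- the projection of a homogeneous element -/
theorem proj_of_mem {i j : ι} {a : A} (ha : a ∈ 𝒜 j) :
    GradedRing.proj 𝒜 i a = if i = j then a else 0 := by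
  rw [GradedRing.proj_apply]
  split_ifs with h
  · subst h; exact decompose_of_mem_same 𝒜 ha
  · exact decompose_of_mem_ne 𝒜 ha (Ne.symm h)

end

/-- (⇐) -/
theorem homogeneous_of_graded (ι : Type u) [DecidableEq ι] [AddMonoid ι]
    (A : Type v) [CommRing A] (𝒜 : ι → AddSubgroup A) [GradedRing 𝒜] (I : Ideal A)
    (ℬ : ι → AddSubgroup (A ⧸ I)) [GradedRing ℬ]
    (hle : ∀ i : ι, (𝒜 i).map (Ideal.Quotient.mk I : A →+ A ⧸ I) ≤ ℬ i) :
    I.IsHomogeneous 𝒜 := by
  have key : ∀ (i : ι) (a : A), GradedRing.proj ℬ i (Ideal.Quotient.mk I a) =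
      Ideal.Quotient.mk I (GradedRing.proj 𝒜 i a) := by
    intro i a
    induction a using DirectSum.Decomposition.inductionOn 𝒜 with
    | zero => simp
    | @homogeneous j m =>
      have hm : Ideal.Quotient.mk I (m : A) ∈ ℬ j := hle j ⟨m, m.2, rfl⟩
      rw [proj_of_mem ℬ hm, proj_of_mem 𝒜 m.2]
      split_ifs <;> simp
    | add m m' h h' => rw [map_add, map_add, h, h', map_add, map_add]
  intro i a ha
  have h0 : Ideal.Quotient.mk I a = 0 := Ideal.Quotient.eq_zero_iff_mem.2 ha
  have := key i a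
  rw [h0, map_zero] at this
  exact Ideal.Quotient.eq_zero_iff_mem.1 this.symm

/-- (⇒) -/
theorem graded_of_homogeneous (ι : Type u) [DecidableEq ι] [AddMonoid ι]
    (A : Type v) [CommRing A] (𝒜 : ι → AddSubgroup A) [GradedRing 𝒜] (I : Ideal A)
    (hI : I.IsHomogeneous 𝒜) :
    ∃ ℬ : ι → AddSubgroup (A ⧸ I), Nonempty (GradedRing ℬ) ∧
        ∀ i : ι, (𝒜 i).map (Ideal.Quotient.mk I : A →+ A ⧸ I) ≤ ℬ i := by
  classical
  let ℬ : ι → AddSubgroup (A ⧸ I) := fun i => (𝒜 i).map (Ideal.Quotient.mk I : A →+ A ⧸ I)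
  have hgm : SetLike.GradedMonoid ℬ :=
    { one_mem := ⟨1, SetLike.GradedOne.one_mem, map_one (Ideal.Quotient.mk I)⟩
      mul_mem := by
        rintro i j _ _ ⟨a, ha, rfl⟩ ⟨b, hb, rfl⟩
        exact ⟨a * b, SetLike.GradedMul.mul_mem ha hb, map_mul (Ideal.Quotient.mk I) a b⟩ }
  have hint : DirectSum.IsInternal ℬ := by
    constructor
    · rw [injective_iff_map_eq_zero]
      intro x hx
      have hex : ∀ i, ∃ a ∈ 𝒜 i, Ideal.Quotient.mk I a = (x i : A ⧸ I) := fun i => (x i).2
      choose f hf hf' using hex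
      set s := x.support with hs
      have hsum : Ideal.Quotient.mk I (∑ i ∈ s, f i) = 0 := by
        rw [map_sum, ← hx, DirectSum.coeAddMonoidHom_eq_dfinsuppSum, DFinsupp.sum]
        exact Finset.sum_congr rfl fun i _ => hf' i
      have hmem : (∑ i ∈ s, f i) ∈ I := Ideal.Quotient.eq_zero_iff_mem.1 hsum
      have hproj : ∀ i ∈ s, GradedRing.proj 𝒜 i (∑ j ∈ s, f j) = f i := by
        intro i hi
        rw [map_sum]
        rw [Finset.sum_congr rfl fun j _ => proj_of_mem 𝒜 (hf j)]
        rw [Finset.sum_ite_eq s i, if_pos hi]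
      ext i
      by_cases hi : i ∈ s
      · have h1 : f i ∈ I := by
          rw [← hproj i hi]
          exact hI i hmem
        have h2 : (x i : A ⧸ I) = 0 := by
          rw [← hf' i]; exact Ideal.Quotient.eq_zero_iff_mem.2 h1
        simpa using h2
      · have : x i = 0 := by simpa [hs] using hi
        rw [this]; rfl
    · intro y
      obtain ⟨a, rfl⟩ := Ideal.Quotient.mk_surjective y
      induction a using DirectSum.Decomposition.inductionOn 𝒜 with
      | zero => exact ⟨0, by simp⟩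
      | @homogeneous j m =>
        refine ⟨DirectSum.of (fun i => ℬ i) j ⟨Ideal.Quotient.mk I (m : A), ⟨m, m.2, rfl⟩⟩, ?_⟩
        rw [DirectSum.coeAddMonoidHom_of]
      | add m m' h h' =>
        obtain ⟨u, hu⟩ := h
        obtain ⟨v, hv⟩ := h'
        exact ⟨u + v, by rw [map_add, hu, hv, map_add]⟩
  letI : DirectSum.Decomposition ℬ := hint.chooseDecomposition
  exact ⟨ℬ, ⟨{ hgm, hint.chooseDecomposition with }⟩, fun i => le_rfl⟩

/-- Let A be a commutative ring graded by an additive monoid ι (an abelian group in the published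
statement) through additive subgroups 𝒜 i, and I an ideal of A. Then I is a homogeneous ideal if and
only if A/I carries a structure of ι-graded ring ℬ for which the quotient map sends 𝒜 i into ℬ i for
all i. -/
theorem result (ι : Type u) [DecidableEq ι] [AddMonoid ι]
    (A : Type v) [CommRing A] (𝒜 : ι → AddSubgroup A) [GradedRing 𝒜] (I : Ideal A) :
    I.IsHomogeneous 𝒜 ↔
      ∃ ℬ : ι → AddSubgroup (A ⧸ I), Nonempty (GradedRing ℬ) ∧
        ∀ i : ι, (𝒜 i).map (Ideal.Quotient.mk I : A →+ A ⧸ I) ≤ ℬ i := by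
  constructor
  · exact graded_of_homogeneous ι A 𝒜 I
  · rintro ⟨ℬ, ⟨hℬ⟩, hle⟩
    exact homogeneous_of_graded ι A 𝒜 I ℬ hle

end Groth.Agent.S13125
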