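import Groth.Statements.S13126
import Mathlib.Algebra.Polynomial.Div
import Mathlib.Algebra.Polynomial.BigOperators
import Mathlib.Algebra.Polynomial.Monic

set_option autoImplicit false
universe u
open KumFam

namespace Groth.Agent.S13126

open Polynomial in
theorem prod_dvd_of_roots {R : Type u} [CommRing R] {ι : Type} [DecidableEq ι] (a : ι → R)
    (hu : ∀ i j, i ≠ j → IsUnit (a i - a j)) (p : R[X]) (s : Finset ι)
    (hs : ∀ i ∈ s, p.IsRoot (a i)) : (∏ i ∈ s, (X - C (a i))) ∣ p := by
  induction s using Finset.induction_on with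
  | empty => simp
  | insert i s hi ih =>
    obtain ⟨p', hp'⟩ := ih (fun j hj => hs j (Finset.mem_insert_of_mem hj))
    have hroot : p.IsRoot (a i) := hs i (Finset.mem_insert_self i s)
    have hq : IsUnit ((∏ j ∈ s, (X - C (a j))).eval (a i)) := by
      rw [eval_prod]
      have : ∀ j ∈ s, IsUnit ((X - C (a j)).eval (a i)) := by
        intro j hj
        simp only [eval_sub, eval_X, eval_C]
        exact hu i j (fun h => hi (h ▸ hj))
      exact Finset.prod_induction _ IsUnit (fun _ _ h1 h2 => h1.mul h2) isUnit_one this
    have hp'root : p'.IsRoot (a i) := by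
      have h0 : p.eval (a i) = 0 := hroot
      rw [hp', eval_mul] at h0
      exact (hq.mul_right_eq_zero).mp h0
    obtain ⟨p'', hp''⟩ := dvd_iff_isRoot.mpr hp'root
    rw [Finset.prod_insert hi]
    exact ⟨p'', by rw [hp', hp'']; ring⟩

open Polynomial in
theorem exists_interp {R : Type u} [CommRing R] {ι : Type} [DecidableEq ι] [Fintype ι] (a : ι → R)
    (hu : ∀ i j, i ≠ j → IsUnit (a i - a j)) (v : ι → R) :
    ∃ p : R[X], ∀ k, p.eval (a k) = v k := by
  have hunit : ∀ i, IsUnit (∏ j ∈ Finset.univ.erase i, (a i - a j)) := by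
    intro i
    have : ∀ j ∈ Finset.univ.erase i, IsUnit (a i - a j) := by
      intro j hj
      exact hu i j (Finset.ne_of_mem_erase hj).symm
    exact Finset.prod_induction _ IsUnit (fun _ _ h1 h2 => h1.mul h2) isUnit_one this
  choose w hw using fun i => (hunit i).exists_left_inv
  refine ⟨∑ i, C (v i * w i) * ∏ j ∈ Finset.univ.erase i, (X - C (a j)), fun k => ?_⟩
  rw [eval_finsetSum, Finset.sum_eq_single k]
  · simp only [eval_mul, eval_C, eval_prod, eval_sub, eval_X]
    rw [mul_assoc, hw k, mul_one]
  · intro i _ hik
    simp only [eval_mul, eval_C, eval_prod, eval_sub, eval_X]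
    have : ∏ j ∈ Finset.univ.erase i, (a k - a j) = 0 := by
      apply Finset.prod_eq_zero (i := k)
      · exact Finset.mem_erase.mpr ⟨fun h => hik h.symm, Finset.mem_univ _⟩
      · exact sub_self _
    rw [this, mul_zero]
  · intro h; exact absurd (Finset.mem_univ k) h

open Polynomial in
/-- Let R be a commutative ring, n a natural number which is a unit in R, and ζ ∈ R with ζ^n = 1 and 1 −
ζ^i a unit for 0 < i < n (a primitive n-th root of unity in the fibrewise sense: the powers ζ^0, …,
ζ^(n−1) are roots of X^n − 1 with pairwise unit differences; over an integral domain in which n is a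
unit this is the same as ζ having multiplicative order n). Then the R-algebra homomorphism R[X] →
(Fin n → R) sending a polynomial to its values at ζ^0, …, ζ^(n−1) is surjective and its kernel is
the ideal generated by X^n − 1; hence R[X]/(X^n − 1) ≅ R^n as R-algebras, i.e. the scheme of n-th
roots of unity over Spec R is the disjoint union of n copies of Spec R. (The published statement
asks that R contain a primitive n-th root of unity without defining the term; its Chinese-remainder
argument uses that the ideals (X − ζ^i), i < n, are pairwise comaximal, which is the unit-difference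
condition taken as the hypothesis here, whereas under the reading 'ζ has multiplicative order n'
alone the surjectivity fails over a product of two fields. The published statement also asserts that
the isomorphism respects the group-scheme structures of the n-th roots of unity and of the constant
group ℤ/n; this row does not state that.) -/
theorem result (R : Type u) [CommRing R]
    (n : ℕ) (hn : IsUnit (n : R)) (ζ : R) (hζ : ζ ^ n = 1)
    (hprim : ∀ i : ℕ, 0 < i → i < n → IsUnit (1 - ζ ^ i)) :
    Function.Surjective (AlgHom.pi (fun i : Fin n => Polynomial.aeval (R := R) (ζ ^ (i : ℕ)))) ∧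
      RingHom.ker (AlgHom.pi (fun i : Fin n => Polynomial.aeval (R := R) (ζ ^ (i : ℕ)))) =
        Ideal.span {(X ^ n - 1 : R[X])} := by
  classical
  -- pairwise unit differences
  have hζu : n ≠ 0 → IsUnit ζ := by
    intro hn0
    obtain ⟨m, rfl⟩ := Nat.exists_eq_succ_of_ne_zero hn0
    rw [pow_succ] at hζ
    exact IsUnit.of_mul_eq_one _ (by rw [mul_comm]; exact hζ)
  have hlt : ∀ i j : Fin n, (i : ℕ) < j → IsUnit (ζ ^ (i : ℕ) - ζ ^ (j : ℕ)) := by
    intro i j hij
    have hn0 : n ≠ 0 := fun h => by subst h; exact i.elim0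
    have : ζ ^ (i : ℕ) - ζ ^ (j : ℕ) = ζ ^ (i : ℕ) * (1 - ζ ^ ((j : ℕ) - (i : ℕ))) := by
      rw [mul_sub, mul_one, ← pow_add, Nat.add_sub_cancel' hij.le]
    rw [this]
    exact ((hζu hn0).pow _).mul (hprim _ (Nat.sub_pos_of_lt hij) (lt_of_le_of_lt (Nat.sub_le _ _) j.2))
  have hu : ∀ i j : Fin n, i ≠ j → IsUnit (ζ ^ (i : ℕ) - ζ ^ (j : ℕ)) := by
    intro i j hij
    rcases lt_or_gt_of_ne (fun h => hij (Fin.ext h)) with h | h
    · exact hlt i j h
    · have := (hlt j i h).neg
      rwa [neg_sub] at this
  -- X^n - 1 is the product of the X - ζ^i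
  have hprod : (∏ i : Fin n, (X - C (ζ ^ (i : ℕ)))) = (X ^ n - 1 : R[X]) := by
    rcases subsingleton_or_nontrivial R with hR | hR
    · exact Subsingleton.elim _ _
    have hmon : (∏ i : Fin n, (X - C (ζ ^ (i : ℕ)))).Monic :=
      monic_prod_of_monic _ _ (fun i _ => monic_X_sub_C _)
    have hn0 : n ≠ 0 := by
      intro h; subst h
      simp at hn
    have hmon' : (X ^ n - 1 : R[X]).Monic := by
      have := monic_X_pow_sub_C (1 : R) hn0
      simpa using this
    have hdvd : (∏ i : Fin n, (X - C (ζ ^ (i : ℕ)))) ∣ (X ^ n - 1 : R[X]) := by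
      apply prod_dvd_of_roots (fun i : Fin n => ζ ^ (i : ℕ)) hu
      intro i _
      simp only [IsRoot, eval_sub, eval_pow, eval_X, eval_one]
      rw [← pow_mul, mul_comm, pow_mul, hζ, one_pow, sub_self]
    have hdeg : (X ^ n - 1 : R[X]).natDegree ≤ (∏ i : Fin n, (X - C (ζ ^ (i : ℕ)))).natDegree := by
      rw [natDegree_prod_of_monic _ _ (fun i _ => monic_X_sub_C _)]
      simp only [natDegree_X_sub_C, Finset.sum_const, Finset.card_univ, Fintype.card_fin, smul_eq_mul,
        mul_one]
      have := natDegree_X_pow_sub_C (R := R) (n := n) (r := 1)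
      simp only [map_one] at this
      rw [this]
    exact (eq_of_monic_of_dvd_of_natDegree_le hmon hmon' hdvd hdeg).symm
  constructor
  · intro v
    obtain ⟨p, hp⟩ := exists_interp (fun i : Fin n => ζ ^ (i : ℕ)) hu v
    refine ⟨p, ?_⟩
    ext k
    simp only [AlgHom.pi_apply, coe_aeval_eq_eval]
    exact hp k
  · ext p
    rw [RingHom.mem_ker, Ideal.mem_span_singleton, ← hprod]
    constructor
    · intro h
      apply prod_dvd_of_roots (fun i : Fin n => ζ ^ (i : ℕ)) hu
      intro i _
      have := congrFun h i
      simpa [AlgHom.pi_apply, coe_aeval_eq_eval] using this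
    · rintro ⟨q, rfl⟩
      ext i
      simp only [AlgHom.pi_apply, coe_aeval_eq_eval, Pi.zero_apply, eval_mul, eval_prod]
      rw [Finset.prod_eq_zero (Finset.mem_univ i) (by simp), zero_mul]

end Groth.Agent.S13126
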