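import Groth.Statements.S13127
import Groth.Agent.Lib.Helper76.PSDeriv
import Mathlib.Algebra.CharP.Two

set_option autoImplicit false
universe u
open KumFam

namespace Groth.Agent.S13127

open MvPowerSeries in
/-- cube root of a unit power series in characteristic two, normalised by a cube root of the
constant term -/
lemma exists_cube_root {R : Type u} [CommRing R] (h2 : (2 : R) = 0) {σ : Type} (sg c κ : R)
    (hsg : IsUnit sg) (hrel : c * κ ^ 3 = sg ^ 2) (U : MvPowerSeries σ R)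
    (hU : constantCoeff U = c) :
    ∃ u : MvPowerSeries σ R, IsUnit (constantCoeff u) ∧ C (sg ^ 2) * u ^ 3 = U := by
  obtain ⟨sgu, rfl⟩ := hsg
  have hκ : IsUnit κ := by
    have h1 : IsUnit (c * κ ^ 3) := by rw [hrel]; exact (sgu.isUnit).pow 2
    exact (isUnit_pow_iff (by norm_num)).mp (isUnit_of_mul_isUnit_right h1)
  obtain ⟨κu, rfl⟩ := hκ
  have h3 : IsUnit ((3 : ℕ) : R) := by
    have : ((3 : ℕ) : R) = 1 := by
      push_cast
      linear_combination h2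
    rw [this]; exact isUnit_one
  have hs : (↑sgu : R) * ↑sgu⁻¹ = 1 := Units.mul_inv sgu
  have hk : (↑κu⁻¹ : R) * ↑κu = 1 := Units.inv_mul κu
  have hW : constantCoeff (C ((↑κu : R) ^ 3 * (↑sgu⁻¹ : R) ^ 2) * U - 1) = 0 := by
    rw [map_sub, map_mul, constantCoeff_C, hU, map_one]
    linear_combination (↑sgu⁻¹ : R) ^ 2 * hrel + ((↑sgu : R) * ↑sgu⁻¹ + 1) * hs
  obtain ⟨w, hw0, hw⟩ := Groth.Agent.Lib.Helper76.PSInv.exists_pow_eq_one_add h3 hW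
  refine ⟨C (↑κu⁻¹ : R) * (1 + w), ?_, ?_⟩
  · rw [map_mul, constantCoeff_C, map_add, map_one, hw0, add_zero, mul_one]
    exact (κu⁻¹).isUnit
  · have e : (C ((↑sgu : R) ^ 2) : MvPowerSeries σ R) * C (↑κu⁻¹ : R) ^ 3 *
        C ((↑κu : R) ^ 3 * (↑sgu⁻¹ : R) ^ 2) = 1 := by
      rw [← map_pow, ← map_mul, ← map_mul, ← map_one (C (σ := σ) (R := R))]
      congr 1
      linear_combination ((↑sgu : R) ^ 2 * (↑sgu⁻¹ : R) ^ 2 *
        (((↑κu⁻¹ : R) * ↑κu) ^ 2 + (↑κu⁻¹ : R) * ↑κu + 1)) * hk +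
        ((↑sgu : R) * ↑sgu⁻¹ + 1) * hs
    calc C ((↑sgu : R) ^ 2) * (C (↑κu⁻¹ : R) * (1 + w)) ^ 3
        = C ((↑sgu : R) ^ 2) * C (↑κu⁻¹ : R) ^ 3 * (1 + w) ^ 3 := by ring
      _ = C ((↑sgu : R) ^ 2) * C (↑κu⁻¹ : R) ^ 3 *
          (C ((↑κu : R) ^ 3 * (↑sgu⁻¹ : R) ^ 2) * U) := by rw [hw]; ring
      _ = (C ((↑sgu : R) ^ 2) * C (↑κu⁻¹ : R) ^ 3 *
          C ((↑κu : R) ^ 3 * (↑sgu⁻¹ : R) ^ 2)) * U := by ring
      _ = U := by rw [e, one_mul]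

open MvPowerSeries in
/-- Let R be a commutative ring of characteristic 2 and l0, l2, l4, s0, s2, s4, τ, lam, sig ∈ R with l4,
s4, lam, sig units, and let κ₁, κ₂ ∈ R satisfy s4² κ₁³ = sig² and l4² κ₂³ = lam² (cube roots of
sig²/s4² and lam²/l4²). In the power series ring R[[a, b, c]] (a = X 0, b = X 1, c = X 2) put F = c²
+ s0² a³ b⁴ + s2² a³ b² + s4² a³ + l0² a⁴ b³ + l2² a² b³ + l4² b³ + τ² a³ b³ and F₀ = c² + sig² a³ +
lam² b³. Then some R-algebra automorphism of R[[a, b, c]] maps F to F₀; consequently R[[a, b,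
c]]/(F) ≅ R[[a, b, c]]/(F₀). (In the published statement lam, sig are the representatives in the
ground field of the residues of l4, s4 at a rational point, so that F₀ is the equation of the
special fibre made constant; this row takes them to be arbitrary units.) -/
theorem result (R : Type u) [CommRing R] [CharP R 2]
    (l0 l2 l4 s0 s2 s4 τ lam sig κ₁ κ₂ : R) (hl4 : IsUnit l4) (hs4 : IsUnit s4) (hlam : IsUnit lam)
    (hsig : IsUnit sig) (h₁ : s4 ^ 2 * κ₁ ^ 3 = sig ^ 2) (h₂ : l4 ^ 2 * κ₂ ^ 3 = lam ^ 2) :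
    ∃ φ : MvPowerSeries (Fin 3) R ≃ₐ[R] MvPowerSeries (Fin 3) R,
      φ ((X 2 ^ 2 + C (s0 ^ 2) * X 0 ^ 3 * X 1 ^ 4 + C (s2 ^ 2) * X 0 ^ 3 * X 1 ^ 2 +
          C (s4 ^ 2) * X 0 ^ 3 + C (l0 ^ 2) * X 0 ^ 4 * X 1 ^ 3 + C (l2 ^ 2) * X 0 ^ 2 * X 1 ^ 3 +
          C (l4 ^ 2) * X 1 ^ 3 + C (τ ^ 2) * X 0 ^ 3 * X 1 ^ 3 : MvPowerSeries (Fin 3) R)) =
        (X 2 ^ 2 + C (sig ^ 2) * X 0 ^ 3 + C (lam ^ 2) * X 1 ^ 3 : MvPowerSeries (Fin 3) R) := by
  classical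
  have h2 : (2 : R) = 0 := CharTwo.two_eq_zero
  obtain ⟨u, hu0, hu⟩ := exists_cube_root h2 (σ := Fin 3) sig (s4 ^ 2) κ₁ hsig h₁
    (C (s4 ^ 2) + C (s2 ^ 2) * X 1 ^ 2 + C (s0 ^ 2) * X 1 ^ 4 + C (τ ^ 2) * X 1 ^ 3) (by simp)
  obtain ⟨v, hv0, hv⟩ := exists_cube_root h2 (σ := Fin 3) lam (l4 ^ 2) κ₂ hlam h₂
    (C (l4 ^ 2) + C (l2 ^ 2) * X 0 ^ 2 + C (l0 ^ 2) * X 0 ^ 4) (by simp)
  let y : Fin 3 → MvPowerSeries (Fin 3) R := ![X 0 * u, X 1 * v, X 2]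
  have hy0 : ∀ s, constantCoeff (y s) = 0 := by
    intro s
    fin_cases s <;> simp [y]
  have hJ : IsUnit (Groth.Agent.Lib.Helper76.PSInv.jac y).det := by
    have hdet : (Groth.Agent.Lib.Helper76.PSInv.jac y).det = constantCoeff u * constantCoeff v := by
      rw [Matrix.det_fin_three]
      simp [Groth.Agent.Lib.Helper76.PSInv.jac, y,
        Groth.Agent.Lib.Helper76.PSInv.coeff_single_mul, coeff_index_single_X]
    rw [hdet]
    exact hu0.mul hv0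
  let ψ := Groth.Agent.Lib.Helper76.PSInv.substEquiv hy0 hJ
  refine ⟨ψ.symm, ?_⟩
  rw [AlgEquiv.symm_apply_eq]
  have hsy : HasSubst y := hasSubst_of_constantCoeff_zero hy0
  show _ = Groth.Agent.Lib.Helper76.PSInv.substEquiv hy0 hJ _
  rw [Groth.Agent.Lib.Helper76.PSInv.substEquiv_apply, subst_add hsy, subst_add hsy, subst_pow hsy,
    subst_mul hsy, subst_mul hsy, subst_pow hsy, subst_pow hsy, subst_X hsy, subst_X hsy,
    subst_X hsy]
  have hC : ∀ r : R, subst y (C r : MvPowerSeries (Fin 3) R) = C r := fun r => subst_C r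
  rw [hC, hC]
  simp only [y, Matrix.cons_val_zero, Matrix.cons_val_one, Matrix.cons_val_two,
    Matrix.head_cons, Matrix.tail_cons]
  linear_combination (-(X 0 : MvPowerSeries (Fin 3) R) ^ 3) * hu - (X 1) ^ 3 * hv

end Groth.Agent.S13127
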