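import Groth.Statements.S13128
import Groth.Agent.Lib.Helper76.PSDeriv
import Mathlib.Algebra.CharP.Two

set_option autoImplicit false
universe u
open KumFam

namespace Groth.Agent.S13128

/-- square roots from an additive polynomial relation in characteristic two -/
lemma exists_sq_eq {R : Type u} [CommRing R] (h2 : (2 : R) = 0) {τ : R} (hτ : IsUnit τ)
    (A B D x : R) (hx : A ^ 2 * x ^ 4 + B ^ 2 * x ^ 2 + τ ^ 2 * x + D ^ 2 = 0) :
    ∃ x' : R, x' ^ 2 = x := by
  obtain ⟨u, rfl⟩ := hτ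
  refine ⟨↑u⁻¹ * (A * x ^ 2 + B * x + D), ?_⟩
  have hu : (↑u⁻¹ : R) * ↑u = 1 := Units.inv_mul u
  linear_combination (↑u⁻¹ : R) ^ 2 * hx +
    ((↑u⁻¹ : R) ^ 2 * (A * B * x ^ 3 + A * D * x ^ 2 + B * D * x) - x) * h2 -
    x * ((↑u⁻¹ : R) * ↑u + 1) * hu

open MvPowerSeries in
/-- Let R be a commutative ring of characteristic 2, l0, l2, l4, s0, s2, s4, τ ∈ R with τ a unit, and α,
β ∈ R with l4² α⁴ + l2² α² + τ² α + l0² = 0 and s4² β⁴ + s2² β² + τ² β + s0² = 0. In characteristic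
2 these relations give τ² α = (l4 α² + l2 α + l0)² and τ² β = (s4 β² + s2 β + s0)², so α = α′² and β
= β′² with α′ = (l4 α² + l2 α + l0)/τ and β′ = (s4 β² + s2 β + s0)/τ. In R[[a, b, c]] (a = X 0, b =
X 1, c = X 2) put h = c² + τ² a b + (s4² b⁴ + s2² b²) a + (l4² a⁴ + l2² a²) b + l4² β a⁴ + l2² β a²
+ s4² α b⁴ + s2² α b²; this is the chart equation c² + τ² a b + (s4² b⁴ + s2² b² + s0²) a + (l4² a⁴
+ l2² a² + l0²) b after the substitution a ↦ a + α, b ↦ b + β, c ↦ c + τ α′ β′, which moves the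
point (α, β, τ α′ β′) of that surface, where all partial derivatives vanish, to the origin. Then
some R-algebra automorphism of R[[a, b, c]] maps h to c² + a b; consequently R[[a, b, c]]/(h) ≅
R[[a, b, c]]/(c² + a b), the completed local ring of an ordinary double point, constant over R. (The
published statement translates only a and b, so that its h carries the additional constant term τ² α
β; with that term h is a unit of R[[a, b, c]] whenever τ α β is a unit, for instance c² + a b + 1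
over the field with two elements with l0 = s0 = τ = α = β = 1 and l2 = l4 = s2 = s4 = 0, and no ring
automorphism carries a unit to c² + a b. The published proof begins by shifting c by a polynomial in
a, b whose constant term is τ α′ β′, a substitution of the polynomial ring which removes the term τ²
α β, and the rest of its argument takes place in R[[a, b, c]]; this row states the result for the
fully translated equation, which is what that argument proves.) -/
theorem result (R : Type u) [CommRing R] [CharP R 2]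
    (l0 l2 l4 s0 s2 s4 τ α β : R) (hτ : IsUnit τ)
    (hα : l4 ^ 2 * α ^ 4 + l2 ^ 2 * α ^ 2 + τ ^ 2 * α + l0 ^ 2 = 0)
    (hβ : s4 ^ 2 * β ^ 4 + s2 ^ 2 * β ^ 2 + τ ^ 2 * β + s0 ^ 2 = 0) :
    ∃ φ : MvPowerSeries (Fin 3) R ≃ₐ[R] MvPowerSeries (Fin 3) R,
      φ ((X 2 ^ 2 + C (τ ^ 2) * X 0 * X 1 + (C (s4 ^ 2) * X 1 ^ 4 + C (s2 ^ 2) * X 1 ^ 2) * X 0 +
          (C (l4 ^ 2) * X 0 ^ 4 + C (l2 ^ 2) * X 0 ^ 2) * X 1 + C (l4 ^ 2 * β) * X 0 ^ 4 +
          C (l2 ^ 2 * β) * X 0 ^ 2 + C (s4 ^ 2 * α) * X 1 ^ 4 + C (s2 ^ 2 * α) * X 1 ^ 2 :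
          MvPowerSeries (Fin 3) R)) =
        (X 2 ^ 2 + X 0 * X 1 : MvPowerSeries (Fin 3) R) := by
  classical
  have h2 : (2 : R) = 0 := CharTwo.two_eq_zero
  obtain ⟨α', hα'⟩ := exists_sq_eq h2 hτ l4 l2 l0 α hα
  obtain ⟨β', hβ'⟩ := exists_sq_eq h2 hτ s4 s2 s0 β hβ
  have h2' : (2 : MvPowerSeries (Fin 3) R) = 0 := by
    have : (2 : MvPowerSeries (Fin 3) R) = C (2 : R) := by rw [map_ofNat]
    rw [this, h2, map_zero]
  let U : MvPowerSeries (Fin 3) R :=
    C (τ ^ 2) + C (s4 ^ 2) * X 1 ^ 3 + C (s2 ^ 2) * X 1 + C (l4 ^ 2) * X 0 ^ 3 + C (l2 ^ 2) * X 0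
  let P : MvPowerSeries (Fin 3) R :=
    C (l4 * β') * X 0 ^ 2 + C (l2 * β') * X 0 + C (s4 * α') * X 1 ^ 2 + C (s2 * α') * X 1
  let y : Fin 3 → MvPowerSeries (Fin 3) R := ![X 0 * U, X 1, X 2 + P]
  have hy0 : ∀ s, constantCoeff (y s) = 0 := by
    intro s
    fin_cases s <;> simp [y, U, P]
  have hJ : IsUnit (Groth.Agent.Lib.Helper76.PSInv.jac y).det := by
    have hdet : (Groth.Agent.Lib.Helper76.PSInv.jac y).det = τ ^ 2 := by
      rw [Matrix.det_fin_three]
      simp [Groth.Agent.Lib.Helper76.PSInv.jac, y, U, P,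
        Groth.Agent.Lib.Helper76.PSInv.coeff_single_mul,
        Groth.Agent.Lib.Helper76.PSInv.coeff_single_pow,
        Groth.Agent.Lib.Helper76.PSInv.coeff_single_C, coeff_index_single_X]
    rw [hdet]
    exact hτ.pow 2
  let ψ := Groth.Agent.Lib.Helper76.PSInv.substEquiv hy0 hJ
  refine ⟨ψ.symm, ?_⟩
  rw [AlgEquiv.symm_apply_eq]
  have hsy : HasSubst y := hasSubst_of_constantCoeff_zero hy0
  show _ = Groth.Agent.Lib.Helper76.PSInv.substEquiv hy0 hJ _
  rw [Groth.Agent.Lib.Helper76.PSInv.substEquiv_apply, subst_add hsy, subst_pow hsy,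
    subst_mul hsy, subst_X hsy, subst_X hsy, subst_X hsy]
  have hαC : (C α' : MvPowerSeries (Fin 3) R) ^ 2 = C α := by rw [← map_pow, hα']
  have hβC : (C β' : MvPowerSeries (Fin 3) R) ^ 2 = C β := by rw [← map_pow, hβ']
  simp only [y, U, P, Matrix.cons_val_zero, Matrix.cons_val_one, Matrix.cons_val_two,
    Matrix.head_cons, Matrix.tail_cons, map_mul, map_pow]
  linear_combination
    (-(X 2 * (C l4 * C β' * X 0 ^ 2 + C l2 * C β' * X 0 + C s4 * C α' * X 1 ^ 2 +
        C s2 * C α' * X 1)) -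
      ((C l4 * C β' * X 0 ^ 2) * (C l2 * C β' * X 0) +
       (C l4 * C β' * X 0 ^ 2) * (C s4 * C α' * X 1 ^ 2) +
       (C l4 * C β' * X 0 ^ 2) * (C s2 * C α' * X 1) +
       (C l2 * C β' * X 0) * (C s4 * C α' * X 1 ^ 2) +
       (C l2 * C β' * X 0) * (C s2 * C α' * X 1) +
       (C s4 * C α' * X 1 ^ 2) * (C s2 * C α' * X 1))) * h2' -
    (C l4 ^ 2 * X 0 ^ 4 + C l2 ^ 2 * X 0 ^ 2) * hβC -
    (C s4 ^ 2 * X 1 ^ 4 + C s2 ^ 2 * X 1 ^ 2) * hαC

end Groth.Agent.S13128
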