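import Groth.Statements.S13130
import Mathlib.RingTheory.IntegralClosure.IsIntegralClosure.Basic
import Mathlib.Algebra.Polynomial.AlgebraMap

set_option autoImplicit false
universe u v
open KumFam

namespace Groth.Agent.S13130

/-- Let R be a nontrivial commutative ring and M a commutative group, with group algebra R[M], the
coordinate ring of the diagonalizable group scheme D(M) over Spec R. Then D(M) is integral over Spec
R, i.e. R[M] is an integral R-algebra, if and only if M is a torsion group. (The published statement
is over an arbitrary base scheme; the question is local and this row is the affine form, with R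
nontrivial so that the elements of M are R-linearly independent.) -/
theorem result (R : Type u) [CommRing R] [Nontrivial R]
    (M : Type v) [CommGroup M] :
    Algebra.IsIntegral R (MonoidAlgebra R M) ↔ IsMulTorsion M := by
  classical
  constructor
  · intro h g
    by_contra hg
    have hinj : Function.Injective (fun n : ℕ => g ^ n) :=
      (injective_pow_iff_not_isOfFinOrder).mpr hg
    obtain ⟨p, hp, hp0⟩ := h.isIntegral (MonoidAlgebra.of R M g)
    rw [← Polynomial.aeval_def, Polynomial.aeval_eq_sum_range] at hp0
    have key := congrArg (fun x : MonoidAlgebra R M => x.coeff (g ^ p.natDegree)) hp0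
    simp only [MonoidAlgebra.coeff_sum, MonoidAlgebra.coeff_zero, Finsupp.coe_zero, Pi.zero_apply,
      Finsupp.coe_finsetSum, Finset.sum_apply] at key
    have hterm : ∀ i ∈ Finset.range (p.natDegree + 1),
        (p.coeff i • (MonoidAlgebra.of R M g) ^ i).coeff (g ^ p.natDegree) =
          if i = p.natDegree then p.coeff i else 0 := by
      intro i _
      rw [← map_pow, MonoidAlgebra.of_apply, MonoidAlgebra.smul_single, MonoidAlgebra.coeff_single,
        Finsupp.single_apply]
      by_cases hi : i = p.natDegree
      · subst hi; simp
      · have : g ^ i ≠ g ^ p.natDegree := fun hh => hi (hinj hh)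
        simp [this, hi]
    rw [Finset.sum_congr rfl hterm] at key
    simp only [Finset.sum_ite_eq', Finset.mem_range, Nat.lt_succ_self, if_true] at key
    rw [Polynomial.coeff_natDegree, hp.leadingCoeff] at key
    exact one_ne_zero key
  · intro h
    refine ⟨fun x => ?_⟩
    induction x using MonoidAlgebra.induction_on with
    | of m =>
      obtain ⟨n, hn, hm⟩ := (h m).exists_pow_eq_one
      refine IsIntegral.of_pow hn ?_
      rw [← map_pow, hm, map_one]
      exact isIntegral_one
    | add x y hx hy => exact hx.add hy
    | smul r x hx => exact hx.smul r

end Groth.Agent.S13130
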