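import Groth.Statements.S13131
import Mathlib
-- import your own Groth.Agent.* helpers here

set_option autoImplicit false
universe u
open CategoryTheory CategoryTheory.Limits AlgebraicGeometry
open KumFam

namespace Groth.Agent.S13131

section
variable (S : Scheme.{u}) (M : Type u)

/-- index of the copy -/
noncomputable def idx (c : ↥(∐ (fun _ : M => S))) : M := ((sigmaMk (fun _ : M => S)).symm c).1

lemma idx_ι (m : M) (s : S) : idx S M ((Sigma.ι (fun _ : M => S) m) s) = m := by
  unfold idx
  rw [← sigmaMk_mk (fun _ : M => S) m s, Homeomorph.symm_apply_apply]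

lemma mem_range_ι_idx (c : ↥(∐ (fun _ : M => S))) :
    c ∈ Set.range (Sigma.ι (fun _ : M => S) (idx S M c)) := by
  obtain ⟨⟨m, s⟩, rfl⟩ := (sigmaMk (fun _ : M => S)).surjective c
  rw [sigmaMk_mk, idx_ι]
  exact ⟨s, rfl⟩

lemma isLocallyConstant_idx : IsLocallyConstant (idx S M) := by
  rw [IsLocallyConstant.iff_isOpen_fiber]
  intro m
  have : idx S M ⁻¹' {m} = Set.range (Sigma.ι (fun _ : M => S) m) := by
    ext c
    constructor
    · intro hc
      have := mem_range_ι_idx S M c
      rwa [show idx S M c = m from hc] at this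
    · rintro ⟨s, rfl⟩
      exact idx_ι S M m s
  rw [this]
  exact (Sigma.ι (fun _ : M => S) m).isOpenEmbedding.isOpen_range

end

section
variable {S : Scheme.{u}} {M : Type u} {T : Scheme.{u}} (p : T ⟶ S) (φ : LocallyConstant T M)

/-- the fibre opens -/
def fibOpen (m : M) : T.Opens := ⟨φ ⁻¹' {m}, φ.isLocallyConstant.isOpen_fiber m⟩

lemma mem_fibOpen (m : M) (t : T) : t ∈ fibOpen φ m ↔ φ t = m := Iff.rfl

lemma isOpenCover_fibOpen : TopologicalSpace.IsOpenCover (fibOpen φ) := by
  rw [TopologicalSpace.IsOpenCover, eq_top_iff]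
  intro t _
  rw [TopologicalSpace.Opens.mem_iSup]
  exact ⟨φ t, rfl⟩

/-- the cover -/
noncomputable def fibCover : T.OpenCover := T.openCoverOfIsOpenCover (fibOpen φ) (isOpenCover_fibOpen φ)

/-- local pieces -/
noncomputable def piece (m : M) : ((fibCover φ).X m) ⟶ ∐ (fun _ : M => S) :=
  (fibOpen φ m).ι ≫ p ≫ Sigma.ι (fun _ : M => S) m

lemma piece_compat (m m' : M) :
    pullback.fst ((fibCover φ).f m) ((fibCover φ).f m') ≫ piece p φ m =
      pullback.snd ((fibCover φ).f m) ((fibCover φ).f m') ≫ piece p φ m' := by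
  by_cases h : m = m'
  · subst h
    simp only [piece]
    have := pullback.condition (f := (fibCover φ).f m) (g := (fibCover φ).f m)
    simp only [fibCover, Scheme.openCoverOfIsOpenCover_f] at this ⊢
    rw [reassoc_of% this]
  · have : IsEmpty ↥(pullback ((fibCover φ).f m) ((fibCover φ).f m')) := by
      constructor
      intro z
      have e := congr($(pullback.condition (f := (fibCover φ).f m) (g := (fibCover φ).f m')) z)
      have e' : (fibOpen φ m).ι (pullback.fst ((fibCover φ).f m) ((fibCover φ).f m') z) =
          (fibOpen φ m').ι (pullback.snd ((fibCover φ).f m) ((fibCover φ).f m') z) := e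
      have h1 : φ ((fibOpen φ m).ι (pullback.fst ((fibCover φ).f m) ((fibCover φ).f m') z)) = m :=
        (pullback.fst ((fibCover φ).f m) ((fibCover φ).f m') z).2
      have h2 : φ ((fibOpen φ m').ι (pullback.snd ((fibCover φ).f m) ((fibCover φ).f m') z)) = m' :=
        (pullback.snd ((fibCover φ).f m) ((fibCover φ).f m') z).2
      rw [e'] at h1
      exact h (h1.symm.trans h2)
    exact (isInitialOfIsEmpty).hom_ext _ _

/-- glued morphism -/
noncomputable def glued : T ⟶ ∐ (fun _ : M => S) :=
  (fibCover φ).glueMorphisms (piece p φ) (piece_compat p φ)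

lemma ι_glued (m : M) : (fibOpen φ m).ι ≫ glued p φ = (fibOpen φ m).ι ≫ p ≫ Sigma.ι (fun _ : M => S) m :=
  (fibCover φ).ι_glueMorphisms (piece p φ) (piece_compat p φ) m

lemma glued_desc : glued p φ ≫ Sigma.desc (fun _ : M => 𝟙 S) = p := by
  apply (fibCover φ).hom_ext
  intro m
  change (fibOpen φ m).ι ≫ _ = (fibOpen φ m).ι ≫ _
  rw [reassoc_of% ι_glued p φ m]
  simp

lemma idx_glued (t : T) : idx S M (glued p φ t) = φ t := by
  have ht : t ∈ fibOpen φ (φ t) := rfl
  have : glued p φ t = (Sigma.ι (fun _ : M => S) (φ t)) (p t) := by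
    have e := congr($(ι_glued p φ (φ t)) ⟨t, ht⟩)
    simpa [Scheme.Hom.comp_apply] using e
  rw [this, idx_ι]

end

/-- Let S be a scheme, M a set and p : T → S a scheme over S. The S-morphisms T → ∐_{m ∈ M} S (the
constant S-scheme on M, with its structure map the codiagonal) are in bijection with the locally
constant maps T → M, a morphism f corresponding to the function sending t to the index of the copy
of S containing f(t). (In the published statement M is a group and ∐_M S the constant group scheme;
the group structures play no role in this description of T-points.) -/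
theorem result (S : Scheme.{u}) (M : Type u)
    (T : Scheme.{u}) (p : T ⟶ S) :
    ∃ e : {f : T ⟶ ∐ (fun _ : M => S) // f ≫ Sigma.desc (fun _ : M => 𝟙 S) = p} ≃
        LocallyConstant T M,
      ∀ (f : {f : T ⟶ ∐ (fun _ : M => S) // f ≫ Sigma.desc (fun _ : M => 𝟙 S) = p}) (t : T),
        e f t = ((sigmaMk (fun _ : M => S)).symm (f.1.base t)).1 := by
  refine ⟨{ toFun := fun f => ⟨fun t => idx S M (f.1 t),
              (isLocallyConstant_idx S M).comp_continuous f.1.continuous⟩
            invFun := fun φ => ⟨glued p φ, glued_desc p φ⟩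
            left_inv := ?_
            right_inv := ?_ }, fun f t => rfl⟩
  · rintro ⟨f, hf⟩
    apply Subtype.ext
    set φ : LocallyConstant T M := ⟨fun t => idx S M (f t),
              (isLocallyConstant_idx S M).comp_continuous f.continuous⟩ with hφ
    change glued p φ = f
    apply (fibCover φ).hom_ext
    intro m
    change (fibOpen φ m).ι ≫ _ = (fibOpen φ m).ι ≫ _
    rw [ι_glued]
    have hr : Set.range ((fibOpen φ m).ι ≫ f) ⊆ Set.range (Sigma.ι (fun _ : M => S) m) := by
      rintro _ ⟨t, rfl⟩
      have h1 : idx S M (f ((fibOpen φ m).ι t)) = m := t.2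
      have h2 := mem_range_ι_idx S M (f ((fibOpen φ m).ι t))
      rw [h1] at h2
      exact h2
    let k := IsOpenImmersion.lift (Sigma.ι (fun _ : M => S) m) ((fibOpen φ m).ι ≫ f) hr
    have hk : k ≫ Sigma.ι (fun _ : M => S) m = (fibOpen φ m).ι ≫ f := IsOpenImmersion.lift_fac _ _ _
    have hk' : k = (fibOpen φ m).ι ≫ p := by
      have := congr($hk ≫ Sigma.desc (fun _ : M => 𝟙 S))
      simpa [hf] using this
    rw [← hk, hk', Category.assoc]
  · intro φ
    ext t
    exact idx_glued p φ t

end Groth.Agent.S13131
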