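import Groth.Statements.S13132
import Mathlib
import Groth.Agent.Lib.Helper83.ArtinFlat

set_option autoImplicit false
universe u v
open CAlg

namespace Groth.Agent.S13132

/-- `f` is a non-zero-divisor iff multiplication by `f` is injective. -/
theorem mem_nonZeroDivisors_iff_injective {A S : Type*} [CommRing A] [CommRing S] [Algebra A S]
    (f : S) : f ∈ nonZeroDivisors S ↔ Function.Injective (LinearMap.mulLeft A f) := by
  rw [mem_nonZeroDivisors_iff_left, injective_iff_map_eq_zero]
  rfl

/-- `f` is a non-zero-divisor modulo `I S` iff `f x ∈ I S → x ∈ I S`. -/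
theorem mk_mem_nonZeroDivisors_iff {A S : Type*} [CommRing A] [CommRing S] [Algebra A S]
    (I : Ideal A) (f : S) :
    Ideal.Quotient.mk (I.map (algebraMap A S)) f ∈ nonZeroDivisors (S ⧸ I.map (algebraMap A S)) ↔
      ∀ x : S, LinearMap.mulLeft A f x ∈ (I • ⊤ : Submodule A S) →
        x ∈ (I • ⊤ : Submodule A S) := by
  have hmem : ∀ x : S, x ∈ (I • ⊤ : Submodule A S) ↔ x ∈ I.map (algebraMap A S) := by
    intro x
    rw [Ideal.smul_top_eq_map]
    rfl
  rw [mem_nonZeroDivisors_iff_left]
  constructor
  · intro h x hx
    rw [hmem] at hx ⊢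
    rw [LinearMap.mulLeft_apply] at hx
    have := h (Ideal.Quotient.mk _ x) (by
      rw [← map_mul]
      exact Ideal.Quotient.eq_zero_iff_mem.mpr hx)
    exact Ideal.Quotient.eq_zero_iff_mem.mp this
  · intro h x hx
    obtain ⟨x, rfl⟩ := Ideal.Quotient.mk_surjective x
    rw [← map_mul, Ideal.Quotient.eq_zero_iff_mem] at hx
    rw [Ideal.Quotient.eq_zero_iff_mem]
    have := h x (by rw [hmem, LinearMap.mulLeft_apply]; exact hx)
    rwa [hmem] at this

/-- Let A' be an Artinian local ring, I a proper ideal of A' and S' a flat A'-algebra. An element f' of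
S' is a non-zero-divisor exactly when its image in S'/IS' is one; and when f' is a non-zero-divisor,
the quotient S'/(f') is flat over A'. (The published statement is for local Artinian algebras with a
fixed residue field over a ring of Witt vectors and a surjection between two of them; the argument
uses only that A' is Artinian local and I is a proper ideal, which is the form taken here.) -/
theorem result
    {A' : Type u} [CommRing A'] [IsArtinianRing A'] [IsLocalRing A'] (I : Ideal A') (hI : I ≠ ⊤)
    {S' : Type v} [CommRing S'] [Algebra A' S'] [Module.Flat A' S'] (f' : S') :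
    (f' ∈ nonZeroDivisors S' ↔
      Ideal.Quotient.mk (I.map (algebraMap A' S')) f' ∈ nonZeroDivisors (S' ⧸ I.map (algebraMap A' S'))) ∧
    (f' ∈ nonZeroDivisors S' → Module.Flat A' (S' ⧸ Ideal.span {f'})) := by
  constructor
  · rw [mem_nonZeroDivisors_iff_injective (A := A'), mk_mem_nonZeroDivisors_iff]
    exact Groth.Agent.Lib.Helper83.ArtinFlat.injective_iff_of_flat _ I hI
  · intro hf
    rw [mem_nonZeroDivisors_iff_injective (A := A')] at hf
    refine Groth.Agent.Lib.Helper83.ArtinFlat.flat_of_injective_of_flat
      (LinearMap.mulLeft A' f') hf (Ideal.Quotient.mkₐ A' (Ideal.span {f'})).toLinearMap ?_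
      (Ideal.Quotient.mkₐ_surjective A' _)
    intro x
    change Ideal.Quotient.mk (Ideal.span {f'}) x = 0 ↔ _
    rw [Ideal.Quotient.eq_zero_iff_mem, Ideal.mem_span_singleton']
    constructor
    · rintro ⟨a, rfl⟩
      exact ⟨a, mul_comm _ _⟩
    · rintro ⟨a, rfl⟩
      exact ⟨a, mul_comm _ _⟩

end Groth.Agent.S13132
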