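import Groth.Statements.S13133
import Mathlib
import Groth.Agent.Lib.Helper83.ArtinFlat

set_option autoImplicit false
universe u v
open CAlg

namespace Groth.Agent.S13133

section helpers

open TensorProduct RingTheory.Sequence Pointwise

variable {A' : Type u} [CommRing A'] [IsArtinianRing A'] [IsLocalRing A'] (I : Ideal A')
  {S' : Type v} [CommRing S'] [Algebra A' S']

theorem mem_smul_top_iff (M : Type*) [AddCommGroup M] [Module S' M] [Module A' M]
    [IsScalarTower A' S' M] (x : M) :
    x ∈ (I.map (algebraMap A' S') • ⊤ : Submodule S' M) ↔ x ∈ (I • ⊤ : Submodule A' M) := by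
  have := Ideal.smul_restrictScalars I (⊤ : Submodule S' M)
  rw [Submodule.restrictScalars_top] at this
  rw [← this]
  rfl

theorem isSMulRegular_iff (hI : I ≠ ⊤) (M : Type v) [AddCommGroup M] [Module S' M] [Module A' M]
    [IsScalarTower A' S' M] [Module.Flat A' M] (r : S') :
    IsSMulRegular M r ↔ IsSMulRegular (M ⊗[S'] (S' ⧸ I.map (algebraMap A' S'))) r := by
  rw [(tensorQuotEquivQuotSMul M (I.map (algebraMap A' S'))).isSMulRegular_congr r,
    isSMulRegular_quotient_iff_mem_of_smul_mem]
  let u : M →ₗ[A'] M := (LinearMap.lsmul S' M r).restrictScalars A'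
  have := Groth.Agent.Lib.Helper83.ArtinFlat.injective_iff_of_flat u I hI
  simp only [mem_smul_top_iff]
  exact this

theorem flat_quotSMulTop (M : Type v) [AddCommGroup M] [Module S' M] [Module A' M]
    [IsScalarTower A' S' M] [Module.Flat A' M] (r : S') (hr : IsSMulRegular M r) :
    Module.Flat A' (QuotSMulTop r M) := by
  let u : M →ₗ[A'] M := (LinearMap.lsmul S' M r).restrictScalars A'
  refine Groth.Agent.Lib.Helper83.ArtinFlat.flat_of_injective_of_flat u hr
    ((Submodule.mkQ (r • ⊤ : Submodule S' M)).restrictScalars A') ?_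
    (Submodule.mkQ_surjective _)
  intro x
  change Submodule.Quotient.mk x = 0 ↔ _
  rw [Submodule.Quotient.mk_eq_zero, Submodule.mem_smul_pointwise_iff_exists]
  constructor
  · rintro ⟨y, -, rfl⟩
    exact ⟨y, rfl⟩
  · rintro ⟨y, rfl⟩
    exact ⟨y, Submodule.mem_top, rfl⟩

theorem isWeaklyRegular_iff (hI : I ≠ ⊤) (rs : List S') :
    ∀ (M : Type v) [AddCommGroup M] [Module S' M] [Module A' M] [IsScalarTower A' S' M]
      [Module.Flat A' M],
      IsWeaklyRegular M rs ↔
        IsWeaklyRegular (M ⊗[S'] (S' ⧸ I.map (algebraMap A' S'))) rs := by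
  induction rs with
  | nil =>
    intro M _ _ _ _ _
    exact ⟨fun _ => IsWeaklyRegular.nil _ _, fun _ => IsWeaklyRegular.nil _ _⟩
  | cons r rs ih =>
    intro M _ _ _ _ _
    rw [isWeaklyRegular_cons_iff, isWeaklyRegular_cons_iff, ← isSMulRegular_iff I hI M r]
    apply and_congr_right
    intro hr
    have : Module.Flat A' (QuotSMulTop r M) := flat_quotSMulTop M r hr
    rw [ih (QuotSMulTop r M)]
    exact (QuotSMulTop.quotSMulTopTensorEquivQuotSMulTop r
      (S' ⧸ I.map (algebraMap A' S')) M).isWeaklyRegular_congr rs

end helpers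

theorem map_le_nilradical {A' : Type u} [CommRing A'] [IsArtinianRing A'] [IsLocalRing A']
    (I : Ideal A') (hI : I ≠ ⊤) {S' : Type v} [CommRing S'] [Algebra A' S'] :
    I.map (algebraMap A' S') ≤ nilradical S' := by
  rw [Ideal.map_le_iff_le_comap]
  intro a ha
  have ham : a ∈ IsLocalRing.maximalIdeal A' := IsLocalRing.le_maximalIdeal hI ha
  have hnil : IsNilpotent (IsLocalRing.maximalIdeal A') := by
    rw [← IsLocalRing.jacobson_eq_maximalIdeal ⊥ bot_ne_top]
    exact IsArtinianRing.isNilpotent_jacobson_bot
  obtain ⟨n, hn⟩ := hnil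
  have h1 : a ^ n ∈ IsLocalRing.maximalIdeal A' ^ n := Ideal.pow_mem_pow ham n
  rw [hn] at h1
  rw [Ideal.mem_comap, mem_nilradical]
  refine ⟨n, ?_⟩
  rw [← map_pow, (Submodule.mem_bot A').mp h1, map_zero]

theorem top_ne_smul_iff {R : Type*} [CommRing R] (K : Ideal R) :
    (⊤ : Submodule R R) ≠ K • (⊤ : Submodule R R) ↔ K ≠ ⊤ := by
  rw [smul_eq_mul, Ideal.mul_top]
  exact ne_comm

/-- Let A' be an Artinian local ring, I a proper ideal of A', S' a flat A'-algebra and f'_1, …, f'_n
elements of S' with n ≥ 1. A family f'_1, …, f'_n in S' is a regular sequence exactly when its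
reduction modulo I·S' is a regular sequence of S'/IS'. (Regular sequences are defined in the
published text over Noetherian rings; this row does not assume S' Noetherian, which the argument
does not use. The published statement is for a surjection of local Artinian algebras with a fixed
residue field over a ring of Witt vectors; only the Artinian local base and the proper ideal are
used, which is the form taken here.) -/
theorem result
    {A' : Type u} [CommRing A'] [IsArtinianRing A'] [IsLocalRing A'] (I : Ideal A') (hI : I ≠ ⊤)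
    {S' : Type v} [CommRing S'] [Algebra A' S'] [Module.Flat A' S'] {n : ℕ} (hn : 1 ≤ n)
    (f' : Fin n → S') :
    RingTheory.Sequence.IsRegular S' (List.ofFn f') ↔
      RingTheory.Sequence.IsRegular (S' ⧸ I.map (algebraMap A' S'))
        (List.ofFn fun i => Ideal.Quotient.mk (I.map (algebraMap A' S')) (f' i)) := by
  set rs := List.ofFn f' with hrs
  have hlist : (List.ofFn fun i => Ideal.Quotient.mk (I.map (algebraMap A' S')) (f' i)) =
      rs.map (algebraMap S' (S' ⧸ I.map (algebraMap A' S'))) := by
    rw [hrs, List.map_ofFn]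
    rfl
  rw [hlist, RingTheory.Sequence.isRegular_iff, RingTheory.Sequence.isRegular_iff]
  apply and_congr
  · rw [RingTheory.Sequence.isWeaklyRegular_map_algebraMap_iff
      (S' ⧸ I.map (algebraMap A' S')) (S' ⧸ I.map (algebraMap A' S')) rs,
      isWeaklyRegular_iff I hI rs S']
    exact (TensorProduct.lid S' (S' ⧸ I.map (algebraMap A' S'))).isWeaklyRegular_congr rs
  · rw [top_ne_smul_iff, top_ne_smul_iff, ← Ideal.map_ofList]
    apply not_congr
    constructor
    · intro h
      rw [h]
      exact Ideal.map_top _
    · intro h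
      have hsurj : Function.Surjective (algebraMap S' (S' ⧸ I.map (algebraMap A' S'))) :=
        Ideal.Quotient.mk_surjective
      have h1 := congrArg (Ideal.comap (algebraMap S' (S' ⧸ I.map (algebraMap A' S')))) h
      rw [Ideal.comap_map_of_surjective _ hsurj, Ideal.comap_top, ← RingHom.ker_eq_comap_bot] at h1
      have hker : RingHom.ker (algebraMap S' (S' ⧸ I.map (algebraMap A' S'))) =
          I.map (algebraMap A' S') := Ideal.mk_ker
      rw [hker] at h1
      by_contra hne
      obtain ⟨M, hM, hle⟩ := Ideal.exists_le_maximal _ hne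
      have h2 : I.map (algebraMap A' S') ≤ M :=
        (map_le_nilradical I hI).trans (nilradical_le_prime M)
      have h3 : (⊤ : Ideal S') ≤ M := by
        rw [← h1]
        exact sup_le hle h2
      exact hM.ne_top (top_le_iff.mp h3)

end Groth.Agent.S13133
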