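import Groth.Statements.S13134
import Mathlib
import Groth.Agent.Lib.Helper83.ArtinFlat

set_option autoImplicit false
universe u v
open CAlg

namespace Groth.Agent.S13134

/-- Let A' be an Artinian local ring, I a proper ideal, A = A'/I and f_1, …, f_m ∈ A[x_1, …, x_n]. Every
flat A'-algebra B' equipped with a surjection π onto A[x]/(f_1, …, f_m) with kernel I·B', compatible
with A' → A, is a quotient of A'[x_1, …, x_n] by the ideal generated by some lifts f'_1, …, f'_m of
the f_i, compatibly with π and with reduction of polynomials modulo I. (The published statement is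
for a surjection of local Artinian algebras with a fixed residue field over a ring of Witt vectors;
only the Artinian local base and the proper ideal are used, which is the form taken here.) -/
theorem result
    {A' : Type u} [CommRing A'] [IsArtinianRing A'] [IsLocalRing A'] (I : Ideal A') (hI : I ≠ ⊤)
    {n m : ℕ} (f : Fin m → MvPolynomial (Fin n) (A' ⧸ I))
    {B' : Type v} [CommRing B'] [Algebra A' B'] [Module.Flat A' B']
    (π : B' →+* MvPolynomial (Fin n) (A' ⧸ I) ⧸ Ideal.span (Set.range f))
    (hπ : Function.Surjective π) (hker : RingHom.ker π = I.map (algebraMap A' B'))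
    (hcomp : π.comp (algebraMap A' B') =
      ((Ideal.Quotient.mk (Ideal.span (Set.range f))).comp MvPolynomial.C).comp (Ideal.Quotient.mk I)) :
    ∃ (f' : Fin m → MvPolynomial (Fin n) A') (ψ : MvPolynomial (Fin n) A' →ₐ[A'] B'),
      (∀ i, MvPolynomial.map (Ideal.Quotient.mk I) (f' i) = f i) ∧
      Function.Surjective ψ ∧ RingHom.ker ψ.toRingHom = Ideal.span (Set.range f') ∧
      ∀ q, π (ψ q) = Ideal.Quotient.mk (Ideal.span (Set.range f)) (MvPolynomial.map (Ideal.Quotient.mk I) q) := by
  classical
  have hnil : IsNilpotent I := by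
    have hnilm : IsNilpotent (IsLocalRing.maximalIdeal A') := by
      rw [← IsLocalRing.jacobson_eq_maximalIdeal ⊥ bot_ne_top]
      exact IsArtinianRing.isNilpotent_jacobson_bot
    obtain ⟨k, hk⟩ := hnilm
    refine ⟨k, ?_⟩
    have := Ideal.pow_right_mono (IsLocalRing.le_maximalIdeal hI) k
    rw [hk] at this
    exact le_bot_iff.mp this
  set σ := Ideal.Quotient.mk (Ideal.span (Set.range f)) with hσ
  set ρ : MvPolynomial (Fin n) A' →+* MvPolynomial (Fin n) (A' ⧸ I) :=
    MvPolynomial.map (Ideal.Quotient.mk I) with hρ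
  have hσs : Function.Surjective σ := Ideal.Quotient.mk_surjective
  have hρs : Function.Surjective ρ := MvPolynomial.map_surjective _ Ideal.Quotient.mk_surjective
  have hkerρ : ∀ g : MvPolynomial (Fin n) A',
      g ∈ (I • ⊤ : Submodule A' (MvPolynomial (Fin n) A')) → ρ g = 0 := by
    intro g hg
    rw [Ideal.smul_top_eq_map] at hg
    have hg' : g ∈ I.map (algebraMap A' (MvPolynomial (Fin n) A')) := hg
    rw [← RingHom.mem_ker, hρ, MvPolynomial.ker_map, Ideal.mk_ker]
    exact hg'
  have hkerρ' : ∀ g : MvPolynomial (Fin n) A', ρ g = 0 →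
      g ∈ (I • ⊤ : Submodule A' (MvPolynomial (Fin n) A')) := by
    intro g hg
    rw [Ideal.smul_top_eq_map]
    change g ∈ I.map (algebraMap A' (MvPolynomial (Fin n) A'))
    rw [← RingHom.mem_ker, hρ, MvPolynomial.ker_map, Ideal.mk_ker] at hg
    exact hg
  -- step 1: lifts of the variables
  choose b hb using fun j : Fin n => hπ (σ (MvPolynomial.X j))
  let ψ : MvPolynomial (Fin n) A' →ₐ[A'] B' := MvPolynomial.aeval b
  -- step 2
  have hπψ' : π.comp ψ.toRingHom = σ.comp ρ := by
    apply MvPolynomial.ringHom_ext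
    · intro a
      have h1 := RingHom.congr_fun hcomp a
      simp only [RingHom.comp_apply] at h1 ⊢
      change π (ψ (MvPolynomial.C a)) = _
      rw [show ψ (MvPolynomial.C a) = algebraMap A' B' a from MvPolynomial.aeval_C b a, h1, hρ,
        MvPolynomial.map_C]
    · intro j
      simp only [RingHom.comp_apply]
      change π (ψ (MvPolynomial.X j)) = _
      rw [show ψ (MvPolynomial.X j) = b j from MvPolynomial.aeval_X b j, hb j, hρ,
        MvPolynomial.map_X]
  have hπψ : ∀ q, π (ψ q) = σ (ρ q) := fun q => RingHom.congr_fun hπψ' q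
  have hkerπ : ∀ x : B', π x = 0 → x ∈ (I • ⊤ : Submodule A' B') := by
    intro x hx
    rw [Ideal.smul_top_eq_map]
    change x ∈ I.map (algebraMap A' B')
    rw [← hker]
    exact hx
  -- step 3: surjectivity
  have hsurj : Function.Surjective ψ := by
    have h1 : (⊤ : Submodule A' B') ≤ LinearMap.range ψ.toLinearMap ⊔ I • ⊤ := by
      intro x _
      obtain ⟨p, hp⟩ := hσs (π x)
      obtain ⟨q, rfl⟩ := hρs p
      have h2 : x - ψ q ∈ (I • ⊤ : Submodule A' B') := by
        apply hkerπ
        rw [map_sub, hπψ, hp, sub_self]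
      have : x = ψ q + (x - ψ q) := by ring
      rw [this]
      exact Submodule.add_mem_sup ⟨q, rfl⟩ h2
    have h3 := Groth.Agent.Lib.Helper83.ArtinFlat.le_of_le_sup_smul_of_isNilpotent I hnil
      (LinearMap.range ψ.toLinearMap) ⊤ h1
    intro x
    obtain ⟨q, hq⟩ := h3 (Submodule.mem_top : x ∈ ⊤)
    exact ⟨q, hq⟩
  -- step 4: lifts of the relations
  choose ft hft using fun i : Fin m => hρs (f i)
  have hψft : ∀ i, ∃ g : MvPolynomial (Fin n) A',
      g ∈ (I • ⊤ : Submodule A' (MvPolynomial (Fin n) A')) ∧ ψ g = ψ (ft i) := by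
    intro i
    have h1 : ψ (ft i) ∈ (I • ⊤ : Submodule A' B') := by
      apply hkerπ
      rw [hπψ, hft, hσ, Ideal.Quotient.eq_zero_iff_mem]
      exact Ideal.subset_span ⟨i, rfl⟩
    have h2 : (I • ⊤ : Submodule A' B') =
        (I • ⊤ : Submodule A' (MvPolynomial (Fin n) A')).map ψ.toLinearMap := by
      rw [Submodule.map_smul'', Submodule.map_top, LinearMap.range_eq_top.mpr hsurj]
    rw [h2] at h1
    obtain ⟨g, hg, hgψ⟩ := h1
    exact ⟨g, hg, hgψ⟩
  choose g hgI hgψ using hψft
  refine ⟨fun i => ft i - g i, ψ, ?_, hsurj, ?_, hπψ⟩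
  · intro i
    change ρ (ft i - g i) = f i
    rw [map_sub, hft, hkerρ _ (hgI i), sub_zero]
  · -- step 5
    set F : Ideal (MvPolynomial (Fin n) A') := Ideal.span (Set.range fun i => ft i - g i) with hF
    have hFle : F ≤ RingHom.ker ψ.toRingHom := by
      rw [hF, Ideal.span_le]
      rintro _ ⟨i, rfl⟩
      change ψ (ft i - g i) = 0
      rw [map_sub, hgψ, sub_self]
    refine le_antisymm ?_ hFle
    have hmapF : F.map ρ = Ideal.span (Set.range f) := by
      rw [hF, Ideal.map_span, ← Set.range_comp]
      have : (⇑ρ ∘ fun i => ft i - g i) = f := by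
        funext i
        change ρ (ft i - g i) = f i
        rw [map_sub, hft, hkerρ _ (hgI i), sub_zero]
      rw [this]
    have hK : LinearMap.ker ψ.toLinearMap ≤
        F.restrictScalars A' ⊔ I • LinearMap.ker ψ.toLinearMap := by
      intro q hq
      have hq0 : ψ q = 0 := hq
      have h1 : ρ q ∈ F.map ρ := by
        rw [hmapF, ← Ideal.Quotient.eq_zero_iff_mem, ← hσ, ← hπψ, hq0, map_zero]
      obtain ⟨φ, hφF, hφ⟩ := (Ideal.mem_map_iff_of_surjective ρ hρs).mp h1
      have hr : ρ (q - φ) = 0 := by rw [map_sub, hφ, sub_self]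
      have hrI := hkerρ' _ hr
      have hrK : q - φ ∈ LinearMap.ker ψ.toLinearMap := by
        change ψ (q - φ) = 0
        rw [map_sub, hq0, zero_sub, neg_eq_zero]
        exact hFle hφF
      have h2 := Groth.Agent.Lib.Helper83.ArtinFlat.mem_smul_of_mem_ker_of_flat ψ.toLinearMap
        hsurj I (q - φ) hrK hrI
      have : q = φ + (q - φ) := by ring
      rw [this]
      exact Submodule.add_mem_sup hφF h2
    have h3 := Groth.Agent.Lib.Helper83.ArtinFlat.le_of_le_sup_smul_of_isNilpotent I hnil _ _ hK
    intro q hq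
    exact h3 hq

end Groth.Agent.S13134
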