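import Groth.Statements.S13135
import Mathlib
import Groth.Agent.Lib.Helper83.ArtinFlat
import Groth.Agent.S13133

set_option autoImplicit false
universe u
open CAlg

namespace Groth.Agent.S13135

section helpers

open TensorProduct RingTheory.Sequence Pointwise

variable {A' : Type u} [CommRing A'] [IsArtinianRing A'] [IsLocalRing A']
  {S' : Type u} [CommRing S'] [Algebra A' S']

/-- Quotient of a flat module by a weakly regular sequence is flat (over an Artinian local
base). -/
theorem flat_quot_ofList (rs : List S') :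
    ∀ (M : Type u) [AddCommGroup M] [Module S' M] [Module A' M] [IsScalarTower A' S' M]
      [Module.Flat A' M], IsWeaklyRegular M rs →
      Module.Flat A' (M ⧸ (Ideal.ofList rs • ⊤ : Submodule S' M)) := by
  induction rs with
  | nil =>
    intro M _ _ _ _ _ _
    have h0 : (Ideal.ofList ([] : List S') • ⊤ : Submodule S' M) = ⊥ := by
      rw [Ideal.ofList_nil, Submodule.bot_smul]
    exact Module.Flat.of_linearEquiv
      ((Submodule.quotEquivOfEqBot _ h0).restrictScalars A')
  | cons r rs ih =>
    intro M _ _ _ _ _ h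
    rw [isWeaklyRegular_cons_iff] at h
    have : Module.Flat A' (QuotSMulTop r M) := Groth.Agent.S13133.flat_quotSMulTop M r h.1
    have := ih (QuotSMulTop r M) h.2
    exact Module.Flat.of_linearEquiv
      ((Submodule.quotOfListConsSMulTopEquivQuotSMulTopInner M r rs).restrictScalars A')

end helpers

/-- Let A' be an Artinian local ring, I a proper ideal, A = A'/I and f_1, …, f_m a regular sequence in
A[x_1, …, x_n]. For every choice of lifts f'_1, …, f'_m in A'[x_1, …, x_n] the quotient A'[x]/(f'_1,
…, f'_m) is flat over A' (so it is a flat lifting of A[x]/(f_1, …, f_m)). (The published statement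
is for a surjection of local Artinian algebras with a fixed residue field over a ring of Witt
vectors; only the Artinian local base and the proper ideal are used, which is the form taken here.) -/
theorem result
    {A' : Type u} [CommRing A'] [IsArtinianRing A'] [IsLocalRing A'] (I : Ideal A') (hI : I ≠ ⊤)
    {n m : ℕ} (f : Fin m → MvPolynomial (Fin n) (A' ⧸ I))
    (hreg : RingTheory.Sequence.IsRegular (MvPolynomial (Fin n) (A' ⧸ I)) (List.ofFn f))
    (f' : Fin m → MvPolynomial (Fin n) A') (hf' : ∀ i, MvPolynomial.map (Ideal.Quotient.mk I) (f' i) = f i) :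
    Module.Flat A' (MvPolynomial (Fin n) A' ⧸ Ideal.span (Set.range f')) := by
  classical
  let ρ : MvPolynomial (Fin n) A' →+* MvPolynomial (Fin n) (A' ⧸ I) :=
    MvPolynomial.map (Ideal.Quotient.mk I)
  have hρs : Function.Surjective ρ := MvPolynomial.map_surjective _ Ideal.Quotient.mk_surjective
  let _ : Algebra (MvPolynomial (Fin n) A') (MvPolynomial (Fin n) (A' ⧸ I)) := ρ.toAlgebra
  set rs := List.ofFn f' with hrs
  have h1 : RingTheory.Sequence.IsWeaklyRegular (MvPolynomial (Fin n) (A' ⧸ I))
      (rs.map (algebraMap (MvPolynomial (Fin n) A') (MvPolynomial (Fin n) (A' ⧸ I)))) := by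
    have : rs.map (algebraMap (MvPolynomial (Fin n) A') (MvPolynomial (Fin n) (A' ⧸ I))) =
        List.ofFn f := by
      rw [hrs, List.map_ofFn]
      congr 1
      funext i
      exact hf' i
    rw [this]
    exact hreg.toIsWeaklyRegular
  rw [RingTheory.Sequence.isWeaklyRegular_map_algebraMap_iff (MvPolynomial (Fin n) (A' ⧸ I))
    (MvPolynomial (Fin n) (A' ⧸ I)) rs] at h1
  let ρl : MvPolynomial (Fin n) A' →ₗ[MvPolynomial (Fin n) A'] MvPolynomial (Fin n) (A' ⧸ I) :=
    Algebra.linearMap _ _
  have hρl : Function.Surjective ρl := hρs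
  have hker : LinearMap.ker ρl = I.map (algebraMap A' (MvPolynomial (Fin n) A')) := by
    ext x
    change ρ x = 0 ↔ _
    rw [← RingHom.mem_ker, MvPolynomial.ker_map, Ideal.mk_ker]
    rfl
  let e : (MvPolynomial (Fin n) A' ⧸ I.map (algebraMap A' (MvPolynomial (Fin n) A')))
      ≃ₗ[MvPolynomial (Fin n) A'] MvPolynomial (Fin n) (A' ⧸ I) :=
    (Submodule.quotEquivOfEq _ _ hker.symm).trans (ρl.quotKerEquivOfSurjective hρl)
  have h2 := (e.isWeaklyRegular_congr rs).mpr h1
  have h3 := ((TensorProduct.lid (MvPolynomial (Fin n) A')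
    (MvPolynomial (Fin n) A' ⧸ I.map (algebraMap A' (MvPolynomial (Fin n) A')))).isWeaklyRegular_congr
    rs).mpr h2
  have h4 := (Groth.Agent.S13133.isWeaklyRegular_iff I hI rs (MvPolynomial (Fin n) A')).mpr h3
  have h5 := flat_quot_ofList (A' := A') rs (MvPolynomial (Fin n) A') h4
  have h6 : (Ideal.ofList rs • ⊤ : Submodule (MvPolynomial (Fin n) A') (MvPolynomial (Fin n) A')) =
      Ideal.span (Set.range f') := by
    rw [smul_eq_mul, Ideal.mul_top, hrs]
    unfold Ideal.ofList
    congr 1
    ext x
    simp [List.mem_ofFn]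
  exact Module.Flat.of_linearEquiv ((Submodule.quotEquivOfEq _ _ h6.symm).restrictScalars A')

end Groth.Agent.S13135
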