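import Groth.Statements.S13137
import Mathlib
import Groth.Agent.S13136
-- import your own Groth.Agent.* helpers here

set_option autoImplicit false
universe u v
open FrobAlg

namespace Groth.Agent.S13137

/-- For a perfect field k of characteristic p, a flat W₂(k)-algebra B and an ideal J of B, the quotient
B/J is flat over W₂(k) if and only if (p) ∩ J = pJ in B. (With B a flat lifting of A = B/pB this
says: B/J is a flat lifting of A modulo the image of J exactly when (p) ∩ J = pJ.) -/
theorem result
    (p : ℕ) [Fact p.Prime] (k : Type u) [Field k] [CharP k p] [PerfectRing k p]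
    (B : Type v) [CommRing B] [Algebra (FrobAlg.W2 p k) B] [Module.Flat (FrobAlg.W2 p k) B]
    (J : Ideal B) :
    Module.Flat (FrobAlg.W2 p k) (B ⧸ J) ↔
      Ideal.span {(p : B)} ⊓ J = Ideal.span {(p : B)} * J := by
  have hp2 : (p : B) * (p : B) = 0 := by
    have h := Groth.Agent.S13136.w2_p_sq p k
    have := congrArg (algebraMap (FrobAlg.W2 p k) B) h
    simpa using this
  have hsm : ∀ (C : Type v) [CommRing C] [Algebra (FrobAlg.W2 p k) C] (c : C),
      (p : FrobAlg.W2 p k) • c = (p : C) * c := by
    intro C _ _ c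
    rw [Algebra.smul_def, map_natCast]
  have hB := (Groth.Agent.S13136.result p k B).mp inferInstance
  rw [Groth.Agent.S13136.result p k (B ⧸ J)]
  constructor
  · intro hflat
    apply le_antisymm
    · rintro x ⟨hx1, hx2⟩
      obtain ⟨b, rfl⟩ := Ideal.mem_span_singleton'.mp hx1
      have h0 : (p : FrobAlg.W2 p k) • (Ideal.Quotient.mk J b) = 0 := by
        rw [hsm, ← map_natCast (Ideal.Quotient.mk J), ← map_mul,
          Ideal.Quotient.eq_zero_iff_mem, mul_comm]
        exact hx2
      obtain ⟨m', hm'⟩ := hflat _ h0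
      obtain ⟨b', rfl⟩ := Ideal.Quotient.mk_surjective m'
      rw [hsm, ← map_natCast (Ideal.Quotient.mk J), ← map_mul,
        Ideal.Quotient.eq] at hm'
      have : b * (p : B) = (p : B) * (b - (p : B) * b') := by
        linear_combination b' * hp2
      rw [this]
      exact Ideal.mul_mem_mul (Ideal.subset_span rfl) hm'
    · exact Ideal.mul_le_inf
  · intro hJ m hm
    obtain ⟨b, rfl⟩ := Ideal.Quotient.mk_surjective m
    rw [hsm, ← map_natCast (Ideal.Quotient.mk J), ← map_mul,
      Ideal.Quotient.eq_zero_iff_mem] at hm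
    have hmem : (p : B) * b ∈ Ideal.span {(p : B)} ⊓ J :=
      ⟨Ideal.mul_mem_right _ _ (Ideal.subset_span rfl), hm⟩
    rw [hJ] at hmem
    obtain ⟨j, hj, hjb⟩ := Ideal.mem_span_singleton_mul.mp hmem
    have h1 : (p : FrobAlg.W2 p k) • (b - j) = 0 := by
      rw [hsm]
      linear_combination -hjb
    obtain ⟨b', hb'⟩ := hB _ h1
    refine ⟨Ideal.Quotient.mk J b', ?_⟩
    rw [hsm, ← map_natCast (Ideal.Quotient.mk J), ← map_mul, Ideal.Quotient.eq]
    rw [hsm] at hb'
    have : b - (p : B) * b' = j := by linear_combination hb'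
    rw [this]
    exact hj

end Groth.Agent.S13137
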