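import Groth.Statements.S13138
import Groth.Agent.Lib.Helper27.W2Poly

set_option autoImplicit false
universe u
open scoped BigOperators
open FrobAlg
open Groth.Agent.Lib.Helper27.W2Poly

namespace Groth.Agent.S13138


section aux

variable (p : ℕ) [Fact p.Prime] (k : Type u) [Field k] [CharP k p] [PerfectRing k p] {n : ℕ}

lemma torsion_of_flat {B : Type u} [CommRing B] (ι : W2 p k →+* B) (h : ι.Flat) (b : B)
    (hb : (p : B) * b = 0) : ∃ b', b = (p : B) * b' := by
  letI := ι.toAlgebra
  have hflat : Module.Flat (W2 p k) B := h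
  have hsmul : ∀ x : B, (p : W2 p k) • x = (p : B) * x := by
    intro x
    rw [Algebra.smul_def, RingHom.algebraMap_toAlgebra, map_natCast]
  obtain ⟨b', hb'⟩ := (Groth.Agent.S13136.result p k B).1 hflat b (by rw [hsmul, hb])
  exact ⟨b', by rw [hb', hsmul]⟩

/-- `J' ∩ pR' = pJ'` when `R'/J'` is flat -/
lemma p_mul_mem (J' : Ideal (MvPolynomial (Fin n) (W2 p k)))
    (hflat : ((Ideal.Quotient.mk J').comp
      (MvPolynomial.C : W2 p k →+* MvPolynomial (Fin n) (W2 p k))).Flat)
    (v : MvPolynomial (Fin n) (W2 p k))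
    (hv : (p : MvPolynomial (Fin n) (W2 p k)) * v ∈ J') :
    (p : MvPolynomial (Fin n) (W2 p k)) * v ∈
      Ideal.span {(p : MvPolynomial (Fin n) (W2 p k))} * J' := by
  have h0 : (p : MvPolynomial (Fin n) (W2 p k) ⧸ J') * Ideal.Quotient.mk J' v = 0 := by
    rw [← map_natCast (Ideal.Quotient.mk J'), ← map_mul, Ideal.Quotient.eq_zero_iff_mem]
    exact hv
  obtain ⟨b', hb'⟩ := torsion_of_flat p k _ hflat _ h0
  obtain ⟨v', rfl⟩ := Ideal.Quotient.mk_surjective b'
  rw [← map_natCast (Ideal.Quotient.mk J'), ← map_mul, Ideal.Quotient.eq] at hb'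
  have : (p : MvPolynomial (Fin n) (W2 p k)) * v =
      (p : MvPolynomial (Fin n) (W2 p k)) * (v - (p : MvPolynomial (Fin n) (W2 p k)) * v') := by
    rw [mul_sub, ← mul_assoc, p_sq, zero_mul, sub_zero]
  rw [this]
  exact Ideal.mul_mem_mul (Ideal.subset_span rfl) hb'

lemma exists_frob_of (J' : Ideal (MvPolynomial (Fin n) (W2 p k)))
    (g : Fin n → MvPolynomial (Fin n) (W2 p k))
    (hJ : ∀ u ∈ J', twistFrob p k n g u ∈ J') :
    ∃ Φ : (MvPolynomial (Fin n) (W2 p k) ⧸ J') →+* (MvPolynomial (Fin n) (W2 p k) ⧸ J'),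
      Φ.comp ((Ideal.Quotient.mk J').comp MvPolynomial.C) =
        ((Ideal.Quotient.mk J').comp MvPolynomial.C).comp (sigma p k) ∧
      ∀ b, Ideal.quotientMap (J'.map (MvPolynomial.map (res p k)))
          (MvPolynomial.map (res p k)) Ideal.le_comap_map (Φ b) =
        (Ideal.quotientMap (J'.map (MvPolynomial.map (res p k)))
          (MvPolynomial.map (res p k)) Ideal.le_comap_map b) ^ p := by
  refine ⟨Ideal.quotientMap J' (twistFrob p k n g) hJ, ?_, ?_⟩
  · ext a
    simp only [RingHom.comp_apply, Ideal.quotientMap_mk, twistFrob_C]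
  · intro b
    obtain ⟨u, rfl⟩ := Ideal.Quotient.mk_surjective b
    simp only [Ideal.quotientMap_mk, red_twistFrob, map_pow]

lemma exists_twist_of (J' : Ideal (MvPolynomial (Fin n) (W2 p k)))
    (Φ : (MvPolynomial (Fin n) (W2 p k) ⧸ J') →+* (MvPolynomial (Fin n) (W2 p k) ⧸ J'))
    (hsemi : Φ.comp ((Ideal.Quotient.mk J').comp MvPolynomial.C) =
        ((Ideal.Quotient.mk J').comp MvPolynomial.C).comp (sigma p k))
    (hred : ∀ b, Ideal.quotientMap (J'.map (MvPolynomial.map (res p k)))
          (MvPolynomial.map (res p k)) Ideal.le_comap_map (Φ b) =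
        (Ideal.quotientMap (J'.map (MvPolynomial.map (res p k)))
          (MvPolynomial.map (res p k)) Ideal.le_comap_map b) ^ p) :
    ∃ g : Fin n → MvPolynomial (Fin n) (W2 p k), ∀ u ∈ J', twistFrob p k n g u ∈ J' := by
  have key : ∀ j : Fin n, ∃ gj : MvPolynomial (Fin n) (W2 p k),
      Ideal.Quotient.mk J' (MvPolynomial.X j ^ p + (p : MvPolynomial (Fin n) (W2 p k)) * gj) =
        Φ (Ideal.Quotient.mk J' (MvPolynomial.X j)) := by
    intro j
    obtain ⟨G, hG⟩ := Ideal.Quotient.mk_surjective (Φ (Ideal.Quotient.mk J' (MvPolynomial.X j)))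
    have h1 := hred (Ideal.Quotient.mk J' (MvPolynomial.X j))
    rw [← hG, Ideal.quotientMap_mk, Ideal.quotientMap_mk, ← map_pow, Ideal.Quotient.eq,
      MvPolynomial.map_X] at h1
    obtain ⟨e, he, hee⟩ := (Ideal.mem_map_iff_of_surjective _ (red_surjective p k n)).1 h1
    have h2 : MvPolynomial.map (res p k) (G - MvPolynomial.X j ^ p - e) = 0 := by
      rw [map_sub, map_sub, hee, map_pow, MvPolynomial.map_X, sub_self]
    obtain ⟨gj, hgj⟩ := (ker_red p k n _).1 h2
    refine ⟨gj, ?_⟩
    rw [← hgj, ← hG]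
    have : MvPolynomial.X j ^ p + (G - MvPolynomial.X j ^ p - e) = G - e := by ring
    rw [this, map_sub, Ideal.Quotient.eq_zero_iff_mem.2 he, sub_zero]
  choose g hg using key
  refine ⟨g, ?_⟩
  have hcomp : (Ideal.Quotient.mk J').comp (twistFrob p k n g) = Φ.comp (Ideal.Quotient.mk J') := by
    apply MvPolynomial.ringHom_ext
    · intro a
      simp only [RingHom.comp_apply, twistFrob_C]
      exact (RingHom.congr_fun hsemi a).symm
    · intro j
      simp only [RingHom.comp_apply, twistFrob_X]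
      exact hg j
  intro u hu
  rw [← Ideal.Quotient.eq_zero_iff_mem]
  have := RingHom.congr_fun hcomp u
  simp only [RingHom.comp_apply] at this
  rw [this, Ideal.Quotient.eq_zero_iff_mem.2 hu, map_zero]

end aux

/-- Let k be a perfect field of characteristic p, R' = W₂(k)[x_1, …, x_n], f'_1, …, f'_m ∈ R' with
reductions f_1, …, f_m ∈ R = k[x_1, …, x_n], J' = (f'_1, …, f'_m), J = (f_1, …, f_m), and assume B'
= R'/J' is flat over W₂(k), so that it is a flat lifting of B = R/J. The Frobenius of B lifts to B'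
— there is a ring endomorphism of B' semilinear for the Witt-vector Frobenius σ₂ of W₂(k) and
reducing to the p-th power map of B — if and only if there are h_1, …, h_n ∈ R' with F'(f'_i) −
f'_i^p − p·Σ_j (∂f'_i/∂x_j)^p h_j ∈ pJ' for every i, where F' is the standard Frobenius lift of R'
(σ₂ on coefficients, x_j ↦ x_j^p). Since multiplication by p identifies R with pR', this is the
congruence P(f'_i) ≡ Σ_j (∂f_i/∂x_j)^p h_j modulo J for the Frobenius residues P(f'_i) = (F'(f'_i) −
f'_i^p)/p. -/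
theorem result
    (p : ℕ) [Fact p.Prime] (k : Type u) [Field k] [CharP k p] [PerfectRing k p]
    {n m : ℕ} (f' : Fin m → MvPolynomial (Fin n) (FrobAlg.W2 p k))
    (hflat : ((Ideal.Quotient.mk (Ideal.span (Set.range f'))).comp
      (MvPolynomial.C : FrobAlg.W2 p k →+* MvPolynomial (Fin n) (FrobAlg.W2 p k))).Flat) :
    (∃ Φ : (MvPolynomial (Fin n) (FrobAlg.W2 p k) ⧸ Ideal.span (Set.range f')) →+*
        (MvPolynomial (Fin n) (FrobAlg.W2 p k) ⧸ Ideal.span (Set.range f')),
      Φ.comp ((Ideal.Quotient.mk (Ideal.span (Set.range f'))).comp MvPolynomial.C) =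
        ((Ideal.Quotient.mk (Ideal.span (Set.range f'))).comp MvPolynomial.C).comp (FrobAlg.sigma p k) ∧
      ∀ b, Ideal.quotientMap ((Ideal.span (Set.range f')).map (MvPolynomial.map (FrobAlg.res p k)))
          (MvPolynomial.map (FrobAlg.res p k)) Ideal.le_comap_map (Φ b) =
        (Ideal.quotientMap ((Ideal.span (Set.range f')).map (MvPolynomial.map (FrobAlg.res p k)))
          (MvPolynomial.map (FrobAlg.res p k)) Ideal.le_comap_map b) ^ p) ↔
    ∃ h : Fin n → MvPolynomial (Fin n) (FrobAlg.W2 p k), ∀ i,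
      FrobAlg.polyFrob p k (Fin n) (f' i) - f' i ^ p
        - (p : MvPolynomial (Fin n) (FrobAlg.W2 p k)) * ∑ j, MvPolynomial.pderiv j (f' i) ^ p * h j
        ∈ Ideal.span {(p : MvPolynomial (Fin n) (FrobAlg.W2 p k))} * Ideal.span (Set.range f') := by
  classical
  constructor
  · rintro ⟨Φ, hsemi, hred⟩
    obtain ⟨g, hg⟩ := exists_twist_of p k _ Φ hsemi hred
    refine ⟨fun j => - g j, fun i => ?_⟩
    have hfi : f' i ∈ Ideal.span (Set.range f') := Ideal.subset_span ⟨i, rfl⟩
    have h1 := hg _ hfi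
    rw [twistFrob_eq'] at h1
    obtain ⟨v₀, hv₀⟩ := polyFrob_sub_pow p k n (f' i)
    have hE : polyFrob p k (Fin n) (f' i) - f' i ^ p
        - (p : MvPolynomial (Fin n) (W2 p k)) * ∑ j, MvPolynomial.pderiv j (f' i) ^ p * (- g j) =
        (p : MvPolynomial (Fin n) (W2 p k)) *
          (v₀ + ∑ j, MvPolynomial.pderiv j (f' i) ^ p * g j) := by
      rw [hv₀]
      simp only [mul_neg, Finset.sum_neg_distrib]
      ring
    rw [hE]
    apply p_mul_mem p k _ hflat
    rw [← hE]
    have h2 : f' i ^ p ∈ Ideal.span (Set.range f') :=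
      Ideal.pow_mem_of_mem _ hfi p (Fact.out : p.Prime).pos
    have : polyFrob p k (Fin n) (f' i) - f' i ^ p
        - (p : MvPolynomial (Fin n) (W2 p k)) * ∑ j, MvPolynomial.pderiv j (f' i) ^ p * (- g j) =
        (polyFrob p k (Fin n) (f' i) +
          (p : MvPolynomial (Fin n) (W2 p k)) * ∑ j, MvPolynomial.pderiv j (f' i) ^ p * g j) -
          f' i ^ p := by
      simp only [mul_neg, Finset.sum_neg_distrib]
      ring
    rw [this]
    exact sub_mem h1 h2
  · rintro ⟨h, hh⟩
    apply exists_frob_of p k _ (fun j => - h j)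
    have hle : Ideal.span (Set.range f') ≤
        Ideal.comap (twistFrob p k n (fun j => - h j)) (Ideal.span (Set.range f')) := by
      rw [Ideal.span_le]
      rintro _ ⟨i, rfl⟩
      show twistFrob p k n (fun j => - h j) (f' i) ∈ Ideal.span (Set.range f')
      have hfi : f' i ∈ Ideal.span (Set.range f') := Ideal.subset_span ⟨i, rfl⟩
      have h2 : f' i ^ p ∈ Ideal.span (Set.range f') :=
        Ideal.pow_mem_of_mem _ hfi p (Fact.out : p.Prime).pos
      have h3 : _ ∈ Ideal.span (Set.range f') := Ideal.mul_le_right (hh i)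
      rw [twistFrob_eq']
      have : polyFrob p k (Fin n) (f' i) +
          (p : MvPolynomial (Fin n) (W2 p k)) * ∑ j, MvPolynomial.pderiv j (f' i) ^ p * (- h j) =
          (polyFrob p k (Fin n) (f' i) - f' i ^ p
            - (p : MvPolynomial (Fin n) (W2 p k)) * ∑ j, MvPolynomial.pderiv j (f' i) ^ p * h j) +
            f' i ^ p := by
        simp only [mul_neg, Finset.sum_neg_distrib]
        ring
      rw [this]
      exact add_mem h3 h2
    exact fun u hu => hle hu


end Groth.Agent.S13138
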