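import Groth.Statements.S13139
import Groth.Agent.Lib.Helper27.W2Poly
import Groth.Agent.Lib.Helper27.W2Descent

set_option autoImplicit false
universe u
open scoped BigOperators
open FrobAlg
open Groth.Agent.Lib.Helper27.W2Poly Groth.Agent.Lib.Helper27.W2Lift

namespace Groth.Agent.S13139


section regular

lemma ofList_take_ofFn {R : Type*} [CommRing R] {m : ℕ} (f : Fin m → R) (i : ℕ) :
    Ideal.ofList ((List.ofFn f).take i) = Ideal.span (f '' {j : Fin m | (j : ℕ) < i}) := by
  unfold Ideal.ofList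
  congr 1
  ext x
  simp only [Set.mem_setOf_eq, Set.mem_image]
  rw [List.mem_take_iff_getElem]
  constructor
  · rintro ⟨j, hj, rfl⟩
    have hj' : j < i ∧ j < m := by simpa using hj
    exact ⟨⟨j, hj'.2⟩, hj'.1, by simp⟩
  · rintro ⟨j, hj, rfl⟩
    exact ⟨j, by simp only [List.length_ofFn, lt_min_iff]; exact ⟨hj, j.2⟩, by simp⟩

lemma regular_cancel {R : Type*} [CommRing R] {m : ℕ} (f : Fin m → R)
    (hreg : RingTheory.Sequence.IsWeaklyRegular R (List.ofFn f)) (i : ℕ) (hi : i < m) (w : R)
    (hw : w * f ⟨i, hi⟩ ∈ Ideal.span (f '' {j : Fin m | (j : ℕ) < i})) :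
    w ∈ Ideal.span (f '' {j : Fin m | (j : ℕ) < i}) := by
  have hlen : i < (List.ofFn f).length := by rw [List.length_ofFn]; exact hi
  have h := hreg.regular_mod_prev i hlen
  have hget : (List.ofFn f)[i] = f ⟨i, hi⟩ := by simp
  have hI : (Ideal.ofList ((List.ofFn f).take i) • ⊤ : Submodule R R) =
      Ideal.span (f '' {j : Fin m | (j : ℕ) < i}) := by
    rw [smul_eq_mul, Ideal.mul_top, ofList_take_ofFn]
  have h0 : (Submodule.Quotient.mk w :
      R ⧸ (Ideal.ofList ((List.ofFn f).take i) • ⊤ : Submodule R R)) = 0 := by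
    apply h
    show (List.ofFn f)[i] • Submodule.Quotient.mk w = (List.ofFn f)[i] • 0
    rw [smul_zero, ← Submodule.Quotient.mk_smul, Submodule.Quotient.mk_eq_zero, hI, hget,
      smul_eq_mul, mul_comm]
    exact hw
  rw [Submodule.Quotient.mk_eq_zero, hI] at h0
  exact h0

end regular

section poly

variable (p : ℕ) [Fact p.Prime] (k : Type u) [Field k] [CharP k p] [PerfectRing k p] {n : ℕ}

lemma torsion_poly (u : MvPolynomial (Fin n) (W2 p k))
    (hu : (p : MvPolynomial (Fin n) (W2 p k)) * u = 0) :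
    ∃ v, u = (p : MvPolynomial (Fin n) (W2 p k)) * v := by
  apply (ker_red p k n u).1
  ext mon
  rw [MvPolynomial.coeff_map, MvPolynomial.coeff_zero]
  have h1 : (p : W2 p k) * MvPolynomial.coeff mon u = 0 := by
    have := congrArg (MvPolynomial.coeff mon) hu
    rwa [← map_natCast (MvPolynomial.C : W2 p k →+* MvPolynomial (Fin n) (W2 p k)),
      MvPolynomial.coeff_C_mul, MvPolynomial.coeff_zero] at this
  rw [res_apply]
  by_contra h0
  have hunit := Groth.Agent.S13136.w2_unit p k _ h0
  exact Groth.Agent.S13136.w2_p_ne_zero p k (hunit.mul_left_eq_zero.mp h1)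

lemma torsion_ci {m : ℕ} (f' : Fin m → MvPolynomial (Fin n) (W2 p k))
    (hreg : RingTheory.Sequence.IsWeaklyRegular (MvPolynomial (Fin n) k)
      (List.ofFn fun i => MvPolynomial.map (res p k) (f' i))) :
    ∀ i : ℕ, i ≤ m → ∀ u : MvPolynomial (Fin n) (W2 p k),
      (p : MvPolynomial (Fin n) (W2 p k)) * u ∈ Ideal.span (f' '' {j : Fin m | (j : ℕ) < i}) →
      ∃ e ∈ Ideal.span (f' '' {j : Fin m | (j : ℕ) < i}), ∃ v,
        u = e + (p : MvPolynomial (Fin n) (W2 p k)) * v := by
  intro i
  induction i with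
  | zero =>
    intro _ u hu
    have : f' '' {j : Fin m | (j : ℕ) < 0} = ∅ := by ext; simp
    rw [this, Ideal.span_empty, Ideal.mem_bot] at hu
    obtain ⟨v, hv⟩ := torsion_poly p k u hu
    exact ⟨0, zero_mem _, v, by rw [hv, zero_add]⟩
  | succ i ih =>
    intro hi u hu
    have him : i < m := hi
    have hset : f' '' {j : Fin m | (j : ℕ) < i + 1} =
        insert (f' ⟨i, him⟩) (f' '' {j : Fin m | (j : ℕ) < i}) := by
      ext x
      simp only [Set.mem_image, Set.mem_setOf_eq, Set.mem_insert_iff]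
      constructor
      · rintro ⟨j, hj, rfl⟩
        by_cases hji : (j : ℕ) = i
        · left
          congr 1
          exact Fin.ext hji
        · right
          exact ⟨j, by omega, rfl⟩
      · rintro (rfl | ⟨j, hj, rfl⟩)
        · exact ⟨⟨i, him⟩, by simp, rfl⟩
        · exact ⟨j, by omega, rfl⟩
    rw [hset, Ideal.mem_span_insert] at hu
    obtain ⟨w, e, he, hwe⟩ := hu
    set S : Set (Fin m) := {j : Fin m | (j : ℕ) < i} with hS
    have hmapspan : Ideal.span ((fun i => MvPolynomial.map (res p k) (f' i)) '' S) =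
        Ideal.map (MvPolynomial.map (res p k)) (Ideal.span (f' '' S)) := by
      rw [Ideal.map_span, Set.image_image]
    have hred : MvPolynomial.map (res p k) w * MvPolynomial.map (res p k) (f' ⟨i, him⟩) ∈
        Ideal.span ((fun i => MvPolynomial.map (res p k) (f' i)) '' S) := by
      have h1 := congrArg (MvPolynomial.map (res p k)) hwe
      rw [map_mul, red_p, zero_mul, map_add, map_mul] at h1
      have h2 : MvPolynomial.map (res p k) w * MvPolynomial.map (res p k) (f' ⟨i, him⟩) =
          - MvPolynomial.map (res p k) e := by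
        rw [eq_neg_iff_add_eq_zero]; exact h1.symm
      rw [h2, hmapspan]
      exact neg_mem (Ideal.mem_map_of_mem _ he)
    have hw := regular_cancel (fun i => MvPolynomial.map (res p k) (f' i)) hreg i him _ hred
    rw [hmapspan] at hw
    obtain ⟨e₂, he₂, hee₂⟩ := (Ideal.mem_map_iff_of_surjective _ (red_surjective p k n)).1 hw
    obtain ⟨w₂, hw₂⟩ := (ker_red p k n (w - e₂)).1 (by rw [map_sub, hee₂, sub_self])
    have h3 : (p : MvPolynomial (Fin n) (W2 p k)) * (u - w₂ * f' ⟨i, him⟩) ∈
        Ideal.span (f' '' S) := by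
      have : (p : MvPolynomial (Fin n) (W2 p k)) * (u - w₂ * f' ⟨i, him⟩) =
          e + e₂ * f' ⟨i, him⟩ := by
        have : (p : MvPolynomial (Fin n) (W2 p k)) * (u - w₂ * f' ⟨i, him⟩) =
            (p : MvPolynomial (Fin n) (W2 p k)) * u -
              ((p : MvPolynomial (Fin n) (W2 p k)) * w₂) * f' ⟨i, him⟩ := by ring
        rw [this, hwe, ← hw₂]
        ring
      rw [this]
      exact add_mem he (Ideal.mul_mem_right _ _ he₂)
    obtain ⟨e₃, he₃, v, hv⟩ := ih (by omega) _ h3
    refine ⟨e₃ + w₂ * f' ⟨i, him⟩, ?_, v, ?_⟩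
    · rw [hset]
      exact add_mem (Ideal.span_mono (Set.subset_insert _ _) he₃)
        (Ideal.mul_mem_left _ _ (Ideal.subset_span (Set.mem_insert _ _)))
    · have : u = (u - w₂ * f' ⟨i, him⟩) + w₂ * f' ⟨i, him⟩ := by ring
      rw [this, hv]
      ring

end poly


section main

variable (p : ℕ) [Fact p.Prime] (k : Type u) [Field k] [CharP k p] [PerfectRing k p] {n m : ℕ}

lemma range_eq_image (f' : Fin m → MvPolynomial (Fin n) (W2 p k)) :
    Set.range f' = f' '' {j : Fin m | (j : ℕ) < m} := by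
  ext x
  simp only [Set.mem_range, Set.mem_image, Set.mem_setOf_eq]
  constructor
  · rintro ⟨j, rfl⟩; exact ⟨j, j.2, rfl⟩
  · rintro ⟨j, -, rfl⟩; exact ⟨j, rfl⟩

theorem fliftable_of (f : Fin m → MvPolynomial (Fin n) k)
    (hreg : RingTheory.Sequence.IsRegular (MvPolynomial (Fin n) k) (List.ofFn f))
    (f' : Fin m → MvPolynomial (Fin n) (W2 p k)) (h : Fin n → MvPolynomial (Fin n) (W2 p k))
    (hf' : ∀ i, MvPolynomial.map (res p k) (f' i) = f i)
    (hcond : ∀ i, polyFrob p k (Fin n) (f' i) - f' i ^ p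
        - (p : MvPolynomial (Fin n) (W2 p k)) * ∑ j, MvPolynomial.pderiv j (f' i) ^ p * h j
        ∈ Ideal.span {(p : MvPolynomial (Fin n) (W2 p k))} * Ideal.span (Set.range f')) :
    FrobAlg.IsFLiftable p k (MvPolynomial (Fin n) k ⧸ Ideal.span (Set.range f)) := by
  classical
  have hfun : (fun i => MvPolynomial.map (res p k) (f' i)) = f := funext hf'
  have hJmap : (Ideal.span (Set.range f')).map (MvPolynomial.map (res p k)) =
      Ideal.span (Set.range f) := by
    rw [Ideal.map_span, ← Set.range_comp]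
    congr 2
  have hle : Ideal.span (Set.range f') ≤
      (Ideal.span (Set.range f)).comap (MvPolynomial.map (res p k)) :=
    Ideal.map_le_iff_le_comap.1 (le_of_eq hJmap)
  -- the twisted Frobenius preserves J'
  have hJ : ∀ u ∈ Ideal.span (Set.range f'),
      twistFrob p k n (fun j => - h j) u ∈ Ideal.span (Set.range f') := by
    have hle' : Ideal.span (Set.range f') ≤
        Ideal.comap (twistFrob p k n (fun j => - h j)) (Ideal.span (Set.range f')) := by
      rw [Ideal.span_le]
      rintro _ ⟨i, rfl⟩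
      show twistFrob p k n (fun j => - h j) (f' i) ∈ Ideal.span (Set.range f')
      have hfi : f' i ∈ Ideal.span (Set.range f') := Ideal.subset_span ⟨i, rfl⟩
      have h2 : f' i ^ p ∈ Ideal.span (Set.range f') :=
        Ideal.pow_mem_of_mem _ hfi p (Fact.out : p.Prime).pos
      have h3 : _ ∈ Ideal.span (Set.range f') := Ideal.mul_le_right (hcond i)
      rw [twistFrob_eq']
      have : polyFrob p k (Fin n) (f' i) +
          (p : MvPolynomial (Fin n) (W2 p k)) * ∑ j, MvPolynomial.pderiv j (f' i) ^ p * (- h j) =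
          (polyFrob p k (Fin n) (f' i) - f' i ^ p
            - (p : MvPolynomial (Fin n) (W2 p k)) * ∑ j, MvPolynomial.pderiv j (f' i) ^ p * h j) +
            f' i ^ p := by
        simp only [mul_neg, Finset.sum_neg_distrib]
        ring
      rw [this]
      exact add_mem h3 h2
    exact fun u hu => hle' hu
  refine ⟨MvPolynomial (Fin n) (W2 p k) ⧸ Ideal.span (Set.range f'), inferInstance,
    (Ideal.Quotient.mk _).comp MvPolynomial.C,
    Ideal.quotientMap (Ideal.span (Set.range f)) (MvPolynomial.map (res p k)) hle,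
    Ideal.quotientMap _ (twistFrob p k n (fun j => - h j)) hJ, ?_⟩
  have hker1 : ∀ b : MvPolynomial (Fin n) (W2 p k) ⧸ Ideal.span (Set.range f'),
      Ideal.quotientMap (Ideal.span (Set.range f)) (MvPolynomial.map (res p k)) hle b = 0 →
      ∃ c, b = (p : MvPolynomial (Fin n) (W2 p k) ⧸ Ideal.span (Set.range f')) * c := by
    intro b hb
    obtain ⟨u, rfl⟩ := Ideal.Quotient.mk_surjective b
    rw [Ideal.quotientMap_mk, Ideal.Quotient.eq_zero_iff_mem, ← hJmap] at hb
    obtain ⟨e, he, hee⟩ := (Ideal.mem_map_iff_of_surjective _ (red_surjective p k n)).1 hb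
    obtain ⟨g, hg⟩ := (ker_red p k n (u - e)).1 (by rw [map_sub, hee, sub_self])
    refine ⟨Ideal.Quotient.mk _ g, ?_⟩
    rw [← map_natCast (Ideal.Quotient.mk (Ideal.span (Set.range f'))), ← map_mul, ← hg,
      Ideal.Quotient.eq]
    have : u - (u - e) = e := by ring
    rw [this]
    exact he
  have hlift : IsLift p k (MvPolynomial (Fin n) k ⧸ Ideal.span (Set.range f))
      (MvPolynomial (Fin n) (W2 p k) ⧸ Ideal.span (Set.range f'))
      ((Ideal.Quotient.mk _).comp MvPolynomial.C)
      (Ideal.quotientMap (Ideal.span (Set.range f)) (MvPolynomial.map (res p k)) hle) := by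
    apply Groth.Agent.Lib.Helper27.W2Descent.isLift_of
    · exact Ideal.quotientMap_surjective (red_surjective p k n)
    · ext a
      simp only [RingHom.comp_apply, Ideal.quotientMap_mk, MvPolynomial.map_C]
      rfl
    · intro b
      refine ⟨hker1 b, ?_⟩
      rintro ⟨c, rfl⟩
      rw [map_mul, map_natCast]
      have : ((p : ℕ) : MvPolynomial (Fin n) k ⧸ Ideal.span (Set.range f)) = 0 := by
        rw [← map_natCast (Ideal.Quotient.mk (Ideal.span (Set.range f))), CharP.cast_eq_zero,
          map_zero]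
      rw [this, zero_mul]
    · intro b hb
      obtain ⟨u, rfl⟩ := Ideal.Quotient.mk_surjective b
      rw [← map_natCast (Ideal.Quotient.mk (Ideal.span (Set.range f'))), ← map_mul,
        Ideal.Quotient.eq_zero_iff_mem, range_eq_image] at hb
      have hreg' : RingTheory.Sequence.IsWeaklyRegular (MvPolynomial (Fin n) k)
          (List.ofFn fun i => MvPolynomial.map (res p k) (f' i)) := by
        rw [hfun]; exact hreg.toIsWeaklyRegular
      obtain ⟨e, he, v, hv⟩ := torsion_ci p k f' hreg' m le_rfl u hb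
      rw [← range_eq_image] at he
      refine ⟨Ideal.Quotient.mk _ v, ?_⟩
      rw [← map_natCast (Ideal.Quotient.mk (Ideal.span (Set.range f'))), ← map_mul,
        Ideal.Quotient.eq, hv]
      have : e + (p : MvPolynomial (Fin n) (W2 p k)) * v -
          (p : MvPolynomial (Fin n) (W2 p k)) * v = e := by ring
      rw [this]
      exact he
  refine ⟨hlift, ?_, ?_⟩
  · ext a
    simp only [RingHom.comp_apply, Ideal.quotientMap_mk, twistFrob_C]
  · intro b
    obtain ⟨u, rfl⟩ := Ideal.Quotient.mk_surjective b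
    simp only [Ideal.quotientMap_mk, red_twistFrob, map_pow]

end main


section converse

variable (p : ℕ) [Fact p.Prime] (k : Type u) [Field k] [CharP k p] [PerfectRing k p] {n m : ℕ}

theorem exists_of_fliftable (f : Fin m → MvPolynomial (Fin n) k)
    (hA : FrobAlg.IsFLiftable p k (MvPolynomial (Fin n) k ⧸ Ideal.span (Set.range f))) :
    ∃ (f' : Fin m → MvPolynomial (Fin n) (W2 p k)) (h : Fin n → MvPolynomial (Fin n) (W2 p k)),
      (∀ i, MvPolynomial.map (res p k) (f' i) = f i) ∧
      ∀ i, polyFrob p k (Fin n) (f' i) - f' i ^ p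
        - (p : MvPolynomial (Fin n) (W2 p k)) * ∑ j, MvPolynomial.pderiv j (f' i) ^ p * h j
        ∈ Ideal.span {(p : MvPolynomial (Fin n) (W2 p k))} * Ideal.span (Set.range f') := by
  classical
  obtain ⟨B, _, ι, π, Φ, hF⟩ := hA
  have hB : IsLift p k (MvPolynomial (Fin n) k ⧸ Ideal.span (Set.range f)) B ι π := hF.toIsLift
  have hpp : (p : B) * (p : B) = 0 := Groth.Agent.Lib.Helper27.W2Lift.p_sq p k ι
  -- presentation of B
  choose b hb using fun j : Fin n => hB.surj (Ideal.Quotient.mk _ (MvPolynomial.X j))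
  set ψ : MvPolynomial (Fin n) (W2 p k) →+* B := MvPolynomial.eval₂Hom ι b with hψ
  have hψC : ∀ a, ψ (MvPolynomial.C a) = ι a := fun a => by
    rw [hψ, MvPolynomial.coe_eval₂Hom, MvPolynomial.eval₂_C]
  have hψX : ∀ j, ψ (MvPolynomial.X j) = b j := fun j => by
    rw [hψ, MvPolynomial.coe_eval₂Hom, MvPolynomial.eval₂_X]
  have hψp : ψ (p : MvPolynomial (Fin n) (W2 p k)) = (p : B) := map_natCast ψ p
  have hπψ : ∀ u, π (ψ u) = Ideal.Quotient.mk (Ideal.span (Set.range f))
      (MvPolynomial.map (res p k) u) := by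
    have : π.comp ψ = (Ideal.Quotient.mk (Ideal.span (Set.range f))).comp
        (MvPolynomial.map (res p k)) := by
      apply MvPolynomial.ringHom_ext
      · intro a
        simp only [RingHom.comp_apply, hψC, MvPolynomial.map_C]
        have := RingHom.congr_fun hB.comm a
        rw [RingHom.comp_apply, RingHom.comp_apply] at this
        rw [this]
        rfl
      · intro j
        simp only [RingHom.comp_apply, hψX, MvPolynomial.map_X, hb]
    intro u
    exact RingHom.congr_fun this u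
  -- ψ is surjective
  have hψ1 : ∀ x : B, ∃ r x', x = ψ r + (p : B) * x' := by
    intro x
    obtain ⟨r₀, hr₀⟩ := Ideal.Quotient.mk_surjective (π x)
    obtain ⟨r, rfl⟩ := red_surjective p k n r₀
    obtain ⟨x', hx'⟩ := (mem_ker_iff p k hB (x - ψ r)).1 (by rw [map_sub, hπψ, hr₀, sub_self])
    exact ⟨r, x', by rw [← hx']; ring⟩
  have hψsurj : Function.Surjective ψ := by
    intro x
    obtain ⟨r, x', hx⟩ := hψ1 x
    obtain ⟨r', x'', hx'⟩ := hψ1 x'
    refine ⟨r + (p : MvPolynomial (Fin n) (W2 p k)) * r', ?_⟩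
    rw [map_add, map_mul, hψp, hx, hx', mul_add, ← mul_assoc, hpp, zero_mul, add_zero]
  -- lifts of the equations in the kernel
  have hf'ex : ∀ i, ∃ f'i : MvPolynomial (Fin n) (W2 p k),
      MvPolynomial.map (res p k) f'i = f i ∧ ψ f'i = 0 := by
    intro i
    obtain ⟨F, hFi⟩ := red_surjective p k n (f i)
    have h0 : π (ψ F) = 0 := by
      rw [hπψ, hFi, Ideal.Quotient.eq_zero_iff_mem]
      exact Ideal.subset_span ⟨i, rfl⟩
    obtain ⟨c, hc⟩ := (mem_ker_iff p k hB _).1 h0
    obtain ⟨r, rfl⟩ := hψsurj c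
    refine ⟨F - (p : MvPolynomial (Fin n) (W2 p k)) * r, ?_, ?_⟩
    · rw [map_sub, map_mul, red_p, zero_mul, sub_zero, hFi]
    · rw [map_sub, map_mul, hψp, hc, sub_self]
  choose f' hf'red hf'ker using hf'ex
  have hJ'le : ∀ u ∈ Ideal.span (Set.range f'), ψ u = 0 := by
    have : Ideal.span (Set.range f') ≤ RingHom.ker ψ := by
      rw [Ideal.span_le]
      rintro _ ⟨i, rfl⟩
      exact hf'ker i
    exact fun u hu => this hu
  have hJmap : (Ideal.span (Set.range f')).map (MvPolynomial.map (res p k)) =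
      Ideal.span (Set.range f) := by
    rw [Ideal.map_span, ← Set.range_comp]
    congr 2
    exact funext hf'red
  -- one step of the kernel computation
  have hstep : ∀ u, ψ u = 0 → ∃ e ∈ Ideal.span (Set.range f'), ∃ v,
      u = e + (p : MvPolynomial (Fin n) (W2 p k)) * v ∧ ψ v = 0 := by
    intro u hu
    have h0 : MvPolynomial.map (res p k) u ∈
        (Ideal.span (Set.range f')).map (MvPolynomial.map (res p k)) := by
      rw [hJmap, ← Ideal.Quotient.eq_zero_iff_mem, ← hπψ, hu, map_zero]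
    obtain ⟨e, he, hee⟩ := (Ideal.mem_map_iff_of_surjective _ (red_surjective p k n)).1 h0
    obtain ⟨v₀, hv₀⟩ := (ker_red p k n (u - e)).1 (by rw [map_sub, hee, sub_self])
    have h1 : (p : B) * ψ v₀ = 0 := by
      rw [← hψp, ← map_mul, ← hv₀, map_sub, hu, hJ'le e he, sub_self]
    obtain ⟨c, hc⟩ := torsion p k hB _ h1
    obtain ⟨r, rfl⟩ := hψsurj c
    refine ⟨e, he, v₀ - (p : MvPolynomial (Fin n) (W2 p k)) * r, ?_, ?_⟩
    · rw [mul_sub, ← mul_assoc, Groth.Agent.Lib.Helper27.W2Poly.p_sq, zero_mul, sub_zero, ← hv₀]; ring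
    · rw [map_sub, map_mul, hψp, hc, sub_self]
  have hker : ∀ u, ψ u = 0 → u ∈ Ideal.span (Set.range f') := by
    intro u hu
    obtain ⟨e, he, v, huv, hv⟩ := hstep u hu
    obtain ⟨e₁, he₁, v₁, hv₁, -⟩ := hstep v hv
    rw [huv, hv₁, mul_add, ← mul_assoc, Groth.Agent.Lib.Helper27.W2Poly.p_sq, zero_mul, add_zero]
    exact add_mem he (Ideal.mul_mem_left _ _ he₁)
  -- the Frobenius lift in coordinates
  have hΦb : ∀ j, ∃ gj : MvPolynomial (Fin n) (W2 p k),
      Φ (b j) = ψ (MvPolynomial.X j ^ p + (p : MvPolynomial (Fin n) (W2 p k)) * gj) := by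
    intro j
    obtain ⟨c, hc⟩ := (mem_ker_iff p k hB (Φ (b j) - b j ^ p)).1 (by
      rw [map_sub, hF.red, map_pow, sub_self])
    obtain ⟨gj, rfl⟩ := hψsurj c
    refine ⟨gj, ?_⟩
    rw [map_add, map_pow, hψX, map_mul, hψp, ← hc]
    ring
  choose g hg using hΦb
  have hcomp : ψ.comp (twistFrob p k n g) = Φ.comp ψ := by
    apply MvPolynomial.ringHom_ext
    · intro a
      simp only [RingHom.comp_apply, twistFrob_C, hψC]
      exact (RingHom.congr_fun hF.semi a).symm
    · intro j
      simp only [RingHom.comp_apply, twistFrob_X, hψX]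
      exact (hg j).symm
  have htw : ∀ u, ψ u = 0 → ψ (twistFrob p k n g u) = 0 := by
    intro u hu
    have := RingHom.congr_fun hcomp u
    simp only [RingHom.comp_apply] at this
    rw [this, hu, map_zero]
  refine ⟨f', fun j => - g j, hf'red, fun i => ?_⟩
  have hfi : f' i ∈ Ideal.span (Set.range f') := Ideal.subset_span ⟨i, rfl⟩
  have h1 : twistFrob p k n g (f' i) ∈ Ideal.span (Set.range f') :=
    hker _ (htw _ (hf'ker i))
  rw [twistFrob_eq'] at h1
  obtain ⟨v₀, hv₀⟩ := polyFrob_sub_pow p k n (f' i)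
  have hE : polyFrob p k (Fin n) (f' i) - f' i ^ p
      - (p : MvPolynomial (Fin n) (W2 p k)) * ∑ j, MvPolynomial.pderiv j (f' i) ^ p * (- g j) =
      (p : MvPolynomial (Fin n) (W2 p k)) *
        (v₀ + ∑ j, MvPolynomial.pderiv j (f' i) ^ p * g j) := by
    rw [hv₀]
    simp only [mul_neg, Finset.sum_neg_distrib]
    ring
  have h2 : f' i ^ p ∈ Ideal.span (Set.range f') :=
    Ideal.pow_mem_of_mem _ hfi p (Fact.out : p.Prime).pos
  have hEmem : (p : MvPolynomial (Fin n) (W2 p k)) *
      (v₀ + ∑ j, MvPolynomial.pderiv j (f' i) ^ p * g j) ∈ Ideal.span (Set.range f') := by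
    rw [← hE]
    have : polyFrob p k (Fin n) (f' i) - f' i ^ p
        - (p : MvPolynomial (Fin n) (W2 p k)) * ∑ j, MvPolynomial.pderiv j (f' i) ^ p * (- g j) =
        (polyFrob p k (Fin n) (f' i) +
          (p : MvPolynomial (Fin n) (W2 p k)) * ∑ j, MvPolynomial.pderiv j (f' i) ^ p * g j) -
          f' i ^ p := by
      simp only [mul_neg, Finset.sum_neg_distrib]
      ring
    rw [this]
    exact sub_mem h1 h2
  rw [hE]
  set V := v₀ + ∑ j, MvPolynomial.pderiv j (f' i) ^ p * g j with hV
  have h3 : (p : B) * ψ V = 0 := by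
    rw [← hψp, ← map_mul]
    exact hJ'le _ hEmem
  obtain ⟨c, hc⟩ := torsion p k hB _ h3
  obtain ⟨r, rfl⟩ := hψsurj c
  have h4 : V - (p : MvPolynomial (Fin n) (W2 p k)) * r ∈ Ideal.span (Set.range f') := by
    apply hker
    rw [map_sub, map_mul, hψp, hc, sub_self]
  have : (p : MvPolynomial (Fin n) (W2 p k)) * V =
      (p : MvPolynomial (Fin n) (W2 p k)) * (V - (p : MvPolynomial (Fin n) (W2 p k)) * r) := by
    rw [mul_sub, ← mul_assoc, Groth.Agent.Lib.Helper27.W2Poly.p_sq, zero_mul, sub_zero]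
  rw [this]
  exact Ideal.mul_mem_mul (Ideal.subset_span rfl) h4

end converse

/-- Let k be a perfect field of characteristic p and f_1, …, f_m a regular sequence in R = k[x_1, …,
x_n]. The complete intersection A = R/(f_1, …, f_m) lifts to W₂(k) compatibly with Frobenius if and
only if for some lifts f'_1, …, f'_m ∈ R' = W₂(k)[x_1, …, x_n] of the f_i and some h_1, …, h_n ∈ R'
one has F'(f'_i) − f'_i^p − p·Σ_j (∂f'_i/∂x_j)^p h_j ∈ p·(f'_1, …, f'_m) for every i, F' being the
standard Frobenius lift of R'. In terms of Frobenius residues P(f') = (F'(f') − f'^p)/p ∈ R, which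
change by g^p when f' changes by pg, this is the congruence P_{f_i} + g_i^p ≡ Σ_j (∂f_i/∂x_j)^p h_j
modulo (f_1, …, f_m) for some g_i, h_j. -/
theorem result
    (p : ℕ) [Fact p.Prime] (k : Type u) [Field k] [CharP k p] [PerfectRing k p]
    {n m : ℕ} (f : Fin m → MvPolynomial (Fin n) k)
    (hreg : RingTheory.Sequence.IsRegular (MvPolynomial (Fin n) k) (List.ofFn f)) :
    FrobAlg.IsFLiftable p k (MvPolynomial (Fin n) k ⧸ Ideal.span (Set.range f)) ↔
    ∃ (f' : Fin m → MvPolynomial (Fin n) (FrobAlg.W2 p k)) (h : Fin n → MvPolynomial (Fin n) (FrobAlg.W2 p k)),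
      (∀ i, MvPolynomial.map (FrobAlg.res p k) (f' i) = f i) ∧
      ∀ i, FrobAlg.polyFrob p k (Fin n) (f' i) - f' i ^ p
        - (p : MvPolynomial (Fin n) (FrobAlg.W2 p k)) * ∑ j, MvPolynomial.pderiv j (f' i) ^ p * h j
        ∈ Ideal.span {(p : MvPolynomial (Fin n) (FrobAlg.W2 p k))} * Ideal.span (Set.range f') := by
  constructor
  · exact exists_of_fliftable p k f
  · rintro ⟨f', h, hf', hcond⟩
    exact fliftable_of p k f hreg f' h hf' hcond


end Groth.Agent.S13139
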