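import Groth.Statements.S13140
import Mathlib.RepresentationTheory.Maschke
import Mathlib.Algebra.Module.Projective
-- import your own Groth.Agent.* helpers here

set_option autoImplicit false
universe u v w
open GrpAlg

namespace Groth.Agent.S13140

/-- Let G be a finite group, R a commutative ring in which |G| is a unit, and M a module over the group
algebra R[G] whose underlying R-module is projective. Then M is a projective R[G]-module. -/
theorem result
    (R : Type u) [CommRing R] (G : Type v) [Group G] [Finite G] (hG : IsUnit ((Nat.card G : ℕ) : R))
    (M : Type w) [AddCommGroup M] [Module R M] [Module (MonoidAlgebra R G) M]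
    [IsScalarTower R (MonoidAlgebra R G) M] [Module.Projective R M] :
    Module.Projective (MonoidAlgebra R G) M := by
  classical
  have : Fintype G := Fintype.ofFinite G
  let f : (M →₀ MonoidAlgebra R G) →ₗ[MonoidAlgebra R G] M :=
    Finsupp.linearCombination (MonoidAlgebra R G) id
  have hf : Function.Surjective f := Finsupp.linearCombination_id_surjective _ M
  obtain ⟨s, hs⟩ := Module.projective_lifting_property (f.restrictScalars R) LinearMap.id hf
  have hs' : ∀ m, f (s m) = m := fun m => LinearMap.congr_fun hs m
  have key : f ∘ₗ (s.equivariantProjection G) = LinearMap.id := by
    apply LinearMap.ext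
    intro m
    rw [LinearMap.comp_apply, LinearMap.equivariantProjection_apply, LinearMap.id_apply]
    rw [LinearMap.map_smul_of_tower, map_sum]
    simp only [LinearMap.conjugate_apply, map_smul, hs']
    simp only [← mul_smul, MonoidAlgebra.single_mul_single, mul_one, inv_mul_cancel]
    rw [← MonoidAlgebra.one_def]
    simp only [one_smul, Finset.sum_const, Finset.card_univ]
    rw [← Nat.cast_smul_eq_nsmul R, smul_smul, Fintype.card_eq_nat_card,
      Ring.inverse_mul_cancel _ hG, one_smul]
  exact Module.Projective.of_split (s.equivariantProjection G) f key

end Groth.Agent.S13140
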