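import Groth.Statements.S13142
import Mathlib.RepresentationTheory.Invariants
import Mathlib.RingTheory.Flat.Basic
import Mathlib.LinearAlgebra.Projection
-- import your own Groth.Agent.* helpers here

set_option autoImplicit false
universe u v
open GrpAlg

namespace Groth.Agent.S13142

/-- Let G be a finite group and R a commutative ring with |G| invertible in R, acting on R[x_1, …, x_n]
by R-algebra automorphisms. The invariant subring R[x_1, …, x_n]^G is a flat R-module (so the
quotient of affine n-space over R by G is flat over R). -/
theorem result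
    (R : Type u) [CommRing R] (G : Type v) [Group G] [Finite G] (hG : IsUnit ((Nat.card G : ℕ) : R))
    (n : ℕ) (ρ : G →* (MvPolynomial (Fin n) R ≃ₐ[R] MvPolynomial (Fin n) R)) :
    Module.Flat R ↥(⨅ g : G, LinearMap.eqLocus (ρ g).toLinearMap (LinearMap.id : MvPolynomial (Fin n) R →ₗ[R] MvPolynomial (Fin n) R)) := by
  classical
  have : Fintype G := Fintype.ofFinite G
  have hG' : IsUnit ((Fintype.card G : ℕ) : R) := by rwa [Fintype.card_eq_nat_card]
  let : Invertible ((Fintype.card G : ℕ) : R) := hG'.invertible
  let ρ' : Representation R G (MvPolynomial (Fin n) R) :=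
    { toFun := fun g => (ρ g).toLinearMap
      map_one' := by
        rw [map_one]
        rfl
      map_mul' := fun g h => by
        rw [map_mul]
        rfl }
  have hN : (⨅ g : G, LinearMap.eqLocus (ρ g).toLinearMap
      (LinearMap.id : MvPolynomial (Fin n) R →ₗ[R] MvPolynomial (Fin n) R)) = ρ'.invariants := by
    ext x
    simp only [Submodule.mem_iInf, LinearMap.mem_eqLocus, Representation.mem_invariants]
    rfl
  have hproj : LinearMap.IsProj (⨅ g : G, LinearMap.eqLocus (ρ g).toLinearMap
      (LinearMap.id : MvPolynomial (Fin n) R →ₗ[R] MvPolynomial (Fin n) R)) ρ'.averageMap := by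
    rw [hN]
    exact ρ'.isProj_averageMap
  refine Module.Flat.of_retract (Submodule.subtype _) hproj.codRestrict ?_
  apply LinearMap.ext
  intro x
  exact hproj.codRestrict_apply_cod x

end Groth.Agent.S13142
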