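import Groth.Statements.S13144
import Groth.Agent.Lib.Helper27.W2Descent

set_option autoImplicit false
universe u
open FrobAlg
open Groth.Agent.Lib.Helper27.W2Descent

namespace Groth.Agent.S13144

/-- Let k be a perfect field of characteristic p, A → B a homomorphism of Noetherian k-algebras with an
A-linear retraction B → A, and A' → B' a homomorphism over W₂(k) between flat liftings of A and B
which reduces to A → B. If the Frobenius of B lifts to B' (a σ₂-semilinear ring endomorphism
reducing to the p-th power map), then the Frobenius of A lifts to A'. (The published statement is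
for an affine morphism whose map on structure sheaves splits linearly; the affine case with an
A-linear splitting is taken here.) -/
theorem result
    (p : ℕ) [Fact p.Prime] (k : Type u) [Field k] [CharP k p] [PerfectRing k p]
    (A B : Type u) [CommRing A] [CommRing B] [Algebra k A] [Algebra k B]
    [IsNoetherianRing A] [IsNoetherianRing B] [Algebra A B] [IsScalarTower k A B]
    (r : B →ₗ[A] A) (hr : ∀ a : A, r (algebraMap A B a) = a)
    (A' B' : Type u) [CommRing A'] [CommRing B']
    (ιA : FrobAlg.W2 p k →+* A') (πA : A' →+* A) (hA : FrobAlg.IsLift p k A A' ιA πA)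
    (ιB : FrobAlg.W2 p k →+* B') (πB : B' →+* B) (hB : FrobAlg.IsLift p k B B' ιB πB)
    (φ' : A' →+* B') (hφι : φ'.comp ιA = ιB) (hφπ : πB.comp φ' = (algebraMap A B).comp πA)
    (ΦB : B' →+* B') (hΦB : FrobAlg.IsFrobLift p k B B' ιB πB ΦB) :
    ∃ ΦA : A' →+* A', FrobAlg.IsFrobLift p k A A' ιA πA ΦA := by
  classical
  have hφπ' : ∀ a', πB (φ' a') = algebraMap A B (πA a') := fun a' => RingHom.congr_fun hφπ a'
  have hφS : ∀ a', φ' a' ∈ S πB A := fun a' => (mem_S πB _).2 ⟨πA a', (hφπ' a').symm⟩
  let φS : A' →+* S πB A := φ'.codRestrict (S πB A) hφS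
  let g : A' →+* (S πB A ⧸ K p r πB) := (Ideal.Quotient.mk _).comp φS
  have hg : ∀ x, πQ p k r hr ιB πB hB (g x) = πA x := by
    intro x
    show r (πB (φ' x)) = πA x
    rw [hφπ', hr]
  have hbij := bijective_of_hom p k hA (descent_isLift p k r hr ιB πB hB) g hg
  let e := RingEquiv.ofBijective g hbij
  have hψS : ∀ a', ΦB (φ' a') ∈ S πB A := fun a' => (mem_S πB _).2 ⟨πA a' ^ p, by
    rw [hΦB.red, map_pow, hφπ']⟩
  let ψS : A' →+* S πB A := (ΦB.comp φ').codRestrict (S πB A) hψS
  refine ⟨e.symm.toRingHom.comp ((Ideal.Quotient.mk _).comp ψS), ⟨hA, ?_, ?_⟩⟩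
  · -- semilinearity
    ext w
    show e.symm (Ideal.Quotient.mk _ (ψS (ιA w))) = ιA (sigma p k w)
    rw [RingEquiv.symm_apply_eq]
    show Ideal.Quotient.mk _ (ψS (ιA w)) = Ideal.Quotient.mk _ (φS (ιA (sigma p k w)))
    congr 1
    apply Subtype.ext
    show ΦB (φ' (ιA w)) = φ' (ιA (sigma p k w))
    have h1 : ∀ w, φ' (ιA w) = ιB w := fun w => RingHom.congr_fun hφι w
    rw [h1, h1]
    exact RingHom.congr_fun hΦB.semi w
  · intro a'
    show πA (e.symm (Ideal.Quotient.mk _ (ψS a'))) = πA a' ^ p
    rw [← hg]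
    have : g (e.symm (Ideal.Quotient.mk _ (ψS a'))) = Ideal.Quotient.mk _ (ψS a') :=
      e.apply_symm_apply _
    rw [this]
    show r (πB (ΦB (φ' a'))) = _
    rw [hΦB.red, hφπ', ← map_pow, hr]


end Groth.Agent.S13144
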