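import Groth.Statements.S13146
import Groth.Agent.Lib.Helper27.W2Lift

set_option autoImplicit false
universe u
open scoped BigOperators
open FrobAlg
open Groth.Agent.Lib.Helper27.W2Obst Groth.Agent.Lib.Helper27.W2Lift

namespace Groth.Agent.S13146


theorem main
    (p : ℕ) [Fact p.Prime] (k : Type u) [Field k] [CharP k p] [PerfectRing k p]
    (n : ℕ) (i₀ i₁ i₂ : Fin n) (h01 : i₀ ≠ i₁) (h02 : i₀ ≠ i₂) (h12 : i₁ ≠ i₂)
    (J : Ideal (MvPolynomial (Fin n × Fin 2) k))
    (hqJ : (∑ i : Fin n, MvPolynomial.X (i, (0 : Fin 2)) * MvPolynomial.X (i, (1 : Fin 2))) ∈ J)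
    (hXJ : ∀ v : Fin n × Fin 2, (MvPolynomial.X v : MvPolynomial (Fin n × Fin 2) k) ^ p ∈ J)
    (hlamJ : ∀ x ∈ J, lam k p i₀ i₁ i₂ x = 0) :
    ¬ FrobAlg.IsW2Liftable p k (MvPolynomial (Fin n × Fin 2) k ⧸ J) := by
  classical
  rintro ⟨B, _, ι, π, h⟩
  have hpr : p.Prime := Fact.out
  have hπ : (p : B) * (p : B) = 0 := p_sq p k ι
  -- lifts of the variables
  choose b hb using fun v : Fin n × Fin 2 => h.surj (Ideal.Quotient.mk J (MvPolynomial.X v))
  set z : Fin n → B := fun i => b (i, 0) * b (i, 1) with hz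
  have hπz : ∀ i, π (z i) = Ideal.Quotient.mk J
      (MvPolynomial.X (i, (0 : Fin 2)) * MvPolynomial.X (i, (1 : Fin 2))) := by
    intro i
    rw [hz]
    simp only [map_mul, hb]
  -- the sum of the z i is a multiple of p
  have hsum : π (∑ i, z i) = 0 := by
    rw [map_sum]
    simp only [hπz]
    rw [← map_sum, Ideal.Quotient.eq_zero_iff_mem]
    exact hqJ
  obtain ⟨β, hβ⟩ := (mem_ker_iff p k h _).1 hsum
  -- p-th powers of the z i vanish
  have hbp : ∀ v, ∃ c, b v ^ p = (p : B) * c := by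
    intro v
    apply (mem_ker_iff p k h _).1
    rw [map_pow, hb, ← map_pow, Ideal.Quotient.eq_zero_iff_mem]
    exact hXJ v
  have hzp : ∀ i, z i ^ p = 0 := by
    intro i
    obtain ⟨c, hc⟩ := hbp (i, 0)
    obtain ⟨c', hc'⟩ := hbp (i, 1)
    rw [hz]
    simp only
    rw [mul_pow, hc, hc']
    have : (p : B) * c * ((p : B) * c') = ((p : B) * (p : B)) * (c * c') := by ring
    rw [this, hπ, zero_mul]
  -- the key identity
  obtain ⟨α, hα, hkey⟩ := bside p hpr (p : B) hπ rfl z β hβ i₀ i₁ i₂ h01 h02 h12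
  rw [hzp i₀, hzp i₁] at hkey
  have hrest : ∑ i ∈ (Finset.univ.erase i₀).erase i₁, z i ^ p = 0 :=
    Finset.sum_eq_zero fun i _ => hzp i
  rw [hrest] at hkey
  have htors : (p : B) * (hpoly p (z i₀) (z i₁) - (-1) ^ p * α) = 0 := by
    have : (p : B) * (hpoly p (z i₀) (z i₁) - (-1) ^ p * α) =
        (0 + 0 + (p : B) * hpoly p (z i₀) (z i₁)) - (-1) ^ p * (0 + (p : B) * α) := by ring
    rw [this, hkey, sub_self]
  obtain ⟨c, hc⟩ := torsion p k h _ htors
  have hπc : π (hpoly p (z i₀) (z i₁) - (-1) ^ p * α) = 0 := (mem_ker_iff p k h _).2 ⟨c, hc⟩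
  -- push to A
  set S : Set (Fin n) := {i | i ≠ i₀ ∧ i ≠ i₁ ∧ i ≠ i₂} with hS
  set Zp : Fin n → MvPolynomial (Fin n × Fin 2) k :=
    fun i => MvPolynomial.X (i, (0 : Fin 2)) * MvPolynomial.X (i, (1 : Fin 2)) with hZp
  have hαmap : π α ∈ Ideal.map (Ideal.Quotient.mk J) (Ideal.span (Zp '' S)) := by
    have h1 : π α ∈ Ideal.map π (Ideal.span (z '' S)) := Ideal.mem_map_of_mem π hα
    rw [Ideal.map_span] at h1
    rw [Ideal.map_span]
    have h2 : (π '' (z '' S)) = (Ideal.Quotient.mk J) '' (Zp '' S) := by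
      rw [Set.image_image, Set.image_image]
      apply Set.image_congr
      intro i _
      exact hπz i
    rwa [h2] at h1
  obtain ⟨a, ha, haα⟩ := (Ideal.mem_map_iff_of_surjective (Ideal.Quotient.mk J)
    Ideal.Quotient.mk_surjective).1 hαmap
  have hmem : hpoly p (Zp i₀) (Zp i₁) - (-1) ^ p * a ∈ J := by
    rw [← Ideal.Quotient.eq_zero_iff_mem, map_sub, map_mul, map_pow, map_neg, map_one, haα,
      map_hpoly, ← hπz, ← hπz, ← map_hpoly]
    rw [map_sub, map_mul, map_pow, map_neg, map_one] at hπc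
    exact hπc
  -- apply the obstruction functional
  have hlamS : ∀ x ∈ Ideal.span (Zp '' S), lam k p i₀ i₁ i₂ x = 0 := by
    apply lam_span_eq_zero
    rintro g ⟨i, hi, rfl⟩ f
    exact lam_mul_Z k p i hi.1 hi.2.1 hi.2.2 f
  have h1 := hlamJ _ hmem
  have h2 : (-1 : MvPolynomial (Fin n × Fin 2) k) ^ p * a ∈ Ideal.span (Zp '' S) :=
    Ideal.mul_mem_left _ _ ha
  rw [map_sub, hlamS _ h2, sub_zero, lam_hpoly k p h01 h02 h12] at h1
  exact one_ne_zero h1

/-- In an even number of variables — for a perfect field k of characteristic p and n ≥ 3, the local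
Artinian algebra k[x_1, y_1, …, x_n, y_n]/(x_1y_1 + ⋯ + x_ny_n, x_1^p, y_1^p, …, x_n^p, y_n^p)
admits no flat lifting over W₂(k). (The published statement covers every number N ≥ 5 of variables,
using x_1x_2 + ⋯ + x_{N−2}x_{N−1} + x_N² for odd N; the printed argument is written out for even N
and the odd case is said to be analogous, so only even N = 2n ≥ 6 is taken here.) -/
theorem result
    (p : ℕ) [Fact p.Prime] (k : Type u) [Field k] [CharP k p] [PerfectRing k p]
    (n : ℕ) (hn : 3 ≤ n) :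
    ¬ FrobAlg.IsW2Liftable p k
      (MvPolynomial (Fin n × Fin 2) k ⧸ Ideal.span
        (insert (∑ i : Fin n, MvPolynomial.X (i, (0 : Fin 2)) * MvPolynomial.X (i, (1 : Fin 2)))
          (Set.range fun v : Fin n × Fin 2 => (MvPolynomial.X v : MvPolynomial (Fin n × Fin 2) k) ^ p))) := by
  have h01 : (⟨0, by omega⟩ : Fin n) ≠ ⟨1, by omega⟩ := by simp [Fin.ext_iff]
  have h02 : (⟨0, by omega⟩ : Fin n) ≠ ⟨2, by omega⟩ := by simp [Fin.ext_iff]
  have h12 : (⟨1, by omega⟩ : Fin n) ≠ ⟨2, by omega⟩ := by simp [Fin.ext_iff]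
  apply main p k n _ _ _ h01 h02 h12
  · exact Ideal.subset_span (Set.mem_insert _ _)
  · intro v
    exact Ideal.subset_span (Set.mem_insert_of_mem _ ⟨v, rfl⟩)
  · apply lam_span_eq_zero
    intro g hg f
    rcases hg with rfl | ⟨v, rfl⟩
    · exact lam_mul_q k p h01 h02 h12 f
    · exact lam_mul_X_pow k p v f


end Groth.Agent.S13146
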