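import Groth.Statements.S13147
import Groth.Agent.Lib.Helper27.W2Coeff
import Groth.Agent.Lib.Helper27.W2Descent

set_option autoImplicit false
universe u
open FrobAlg
open Groth.Agent.Lib.Helper27.W2Obst Groth.Agent.Lib.Helper27.W2Coeff

namespace Groth.Agent.S13147


section aux

variable (p : ℕ) [Fact p.Prime] (k : Type u) [Field k] [CharP k p]
  (A : Type u) [CommRing A] [Algebra k A]

include k in
lemma pA0 : (p : A) = 0 := by
  rw [← map_natCast (algebraMap k A), CharP.cast_eq_zero k p, map_zero]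

include k in
lemma coeff_p_W2 : ((p : ℕ) : W2 p A).coeff 0 = 0 ∧ ((p : ℕ) : W2 p A).coeff 1 = 1 := by
  have h1 : ((p : ℕ) : W2 p A) = WittGrp.truncMap p 2 (algebraMap k A) ((p : ℕ) : W2 p k) := by
    rw [map_natCast]
  have h2 : ((p : ℕ) : W2 p k) = WittVector.truncate 2 ((p : ℕ) : WittVector p k) := by
    rw [map_natCast]
  rw [h1, WittGrp.coeff_truncMap, WittGrp.coeff_truncMap, h2, WittVector.coeff_truncate,
    WittVector.coeff_truncate]
  refine ⟨?_, ?_⟩
  · show algebraMap k A (WittVector.coeff ((p : ℕ) : WittVector p k) 0) = 0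
    rw [WittVector.coeff_p_zero, map_zero]
  · show algebraMap k A (WittVector.coeff ((p : ℕ) : WittVector p k) 1) = 1
    rw [WittVector.coeff_p_one, map_one]

lemma hpoly_zero_zero : hpoly p (0 : A) 0 = 0 := by
  obtain ⟨u, hu⟩ := hpoly_eq_mul_left p (0 : A) 0
  rw [hu, zero_mul]

include k in
lemma F1 (x y : W2 p A) (hx : x.coeff 0 = 0) (hy : y.coeff 0 = 0) :
    (x + y).coeff 0 = 0 ∧ (x + y).coeff 1 = x.coeff 1 + y.coeff 1 := by
  refine ⟨by rw [coeff_zero_add, hx, hy, add_zero], ?_⟩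
  rw [coeff_one_add, hx, hy, hpoly_zero_zero, sub_zero]

include k in
lemma F2 (c y : W2 p A) (hy : y.coeff 0 = 0) :
    (c * y).coeff 0 = 0 ∧ (c * y).coeff 1 = c.coeff 0 ^ p * y.coeff 1 := by
  have hp0 : p ≠ 0 := (Fact.out : p.Prime).ne_zero
  refine ⟨by rw [coeff_zero_mul, hy, mul_zero], ?_⟩
  rw [coeff_one_mul, hy, pA0 p k A, zero_pow hp0]
  ring

include k in
lemma F3 (x : W2 p A) :
    (((p : ℕ) : W2 p A) * x).coeff 0 = 0 ∧ (((p : ℕ) : W2 p A) * x).coeff 1 = x.coeff 0 ^ p := by
  have hp0 : p ≠ 0 := (Fact.out : p.Prime).ne_zero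
  obtain ⟨h0, h1⟩ := coeff_p_W2 p k A
  refine ⟨by rw [coeff_zero_mul, h0, zero_mul], ?_⟩
  rw [coeff_one_mul, h0, h1, pA0 p k A, zero_pow hp0]
  ring

variable {A} (φ : A →+ A) (hφ : ∀ a b : A, φ (a ^ p * b) = a * φ b)

include k hφ in
lemma mem_splitIdeal (x : W2 p A) :
    x ∈ splitIdeal p A φ ↔ x.coeff 0 = 0 ∧ φ (x.coeff 1) = 0 := by
  constructor
  · intro hx
    unfold splitIdeal at hx
    induction hx using Submodule.span_induction with
    | mem y hy => exact ⟨by rw [← res_apply]; exact hy.1, hy.2⟩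
    | zero => exact ⟨TruncatedWittVector.coeff_zero _ _ _ _, by rw [TruncatedWittVector.coeff_zero, map_zero]⟩
    | add y z _ _ hy hz =>
      obtain ⟨h0, h1⟩ := F1 p k A y z hy.1 hz.1
      exact ⟨h0, by rw [h1, map_add, hy.2, hz.2, add_zero]⟩
    | smul a y _ hy =>
      obtain ⟨h0, h1⟩ := F2 p k A a y hy.1
      rw [smul_eq_mul]
      exact ⟨h0, by rw [h1, hφ, hy.2, mul_zero]⟩
  · intro hx
    exact Ideal.subset_span ⟨by rw [res_apply]; exact hx.1, hx.2⟩

end aux

/-- Let k be a perfect field of characteristic p and (A, φ) a k-algebra with a Frobenius splitting (φ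
additive, φ(a^p b) = a φ(b), φ(1) = 1). The quotient of W₂(A) by the ideal generated by the Witt
vectors (0, a) with φ(a) = 0 — the ring of twisted Witt vectors of (A, φ) — is a flat lifting of A
over W₂(k): flat over W₂(k), with reduction map onto A induced by (a₀, a₁) ↦ a₀ whose kernel is
generated by the maximal ideal of W₂(k). (The published statement also asserts that a morphism of
algebras with Frobenius splittings compatible with the splittings induces a ring map between these
quotients; that part is not stated here.) -/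
theorem result
    (p : ℕ) [Fact p.Prime] (k : Type u) [Field k] [CharP k p] [PerfectRing k p]
    (A : Type u) [CommRing A] [Algebra k A] (φ : A →+ A)
    (hφ : ∀ a b : A, φ (a ^ p * b) = a * φ b) (hφ1 : φ 1 = 1) :
    FrobAlg.IsLift p k A (FrobAlg.W2 p A ⧸ FrobAlg.splitIdeal p A φ)
      ((Ideal.Quotient.mk (FrobAlg.splitIdeal p A φ)).comp (WittGrp.truncMap p 2 (algebraMap k A)))
      (FrobAlg.splitRes p A φ) := by
  have hsplit_mk : ∀ x : W2 p A, splitRes p A φ (Ideal.Quotient.mk _ x) = x.coeff 0 := by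
    intro x
    show res p A x = _
    rw [res_apply]
  have hφpow : ∀ a : A, φ (a ^ p) = a := by
    intro a
    have := hφ a 1
    rwa [mul_one, hφ1, mul_one] at this
  have hker1 : ∀ b : W2 p A ⧸ splitIdeal p A φ, splitRes p A φ b = 0 →
      ∃ c, b = (p : W2 p A ⧸ splitIdeal p A φ) * c := by
    intro b hb
    obtain ⟨x, rfl⟩ := Ideal.Quotient.mk_surjective b
    rw [hsplit_mk] at hb
    set c : A := φ (x.coeff 1) with hc
    set y : W2 p A := TruncatedWittVector.mk p ![c, 0] with hy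
    have hy0 : y.coeff 0 = c := by rw [hy, TruncatedWittVector.coeff_mk]; rfl
    refine ⟨Ideal.Quotient.mk _ y, ?_⟩
    rw [← map_natCast (Ideal.Quotient.mk (splitIdeal p A φ)), ← map_mul, Ideal.Quotient.eq,
      mem_splitIdeal p k φ hφ]
    obtain ⟨hpy0, hpy1⟩ := F3 p k A y
    set d : W2 p A := x - (p : W2 p A) * y with hd
    have hd0 : d.coeff 0 = 0 := by
      rw [← res_apply, hd, map_sub, res_apply, res_apply, hb, hpy0, sub_zero]
    have hx : x = d + (p : W2 p A) * y := by rw [hd]; ring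
    have hx1 : x.coeff 1 = d.coeff 1 + y.coeff 0 ^ p := by
      have := (F1 p k A d ((p : W2 p A) * y) hd0 hpy0).2
      rw [← hx, hpy1] at this
      exact this
    refine ⟨hd0, ?_⟩
    have hd1 : d.coeff 1 = x.coeff 1 - c ^ p := by rw [hx1, hy0]; ring
    rw [hd1, map_sub, hφpow, ← hc, sub_self]
  apply Groth.Agent.Lib.Helper27.W2Descent.isLift_of
  · intro a
    refine ⟨Ideal.Quotient.mk _ (TruncatedWittVector.mk p ![a, 0]), ?_⟩
    rw [hsplit_mk, TruncatedWittVector.coeff_mk]
    rfl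
  · ext w
    show splitRes p A φ (Ideal.Quotient.mk _ (WittGrp.truncMap p 2 (algebraMap k A) w)) = _
    rw [hsplit_mk, WittGrp.coeff_truncMap, RingHom.comp_apply, res_apply]
  · intro b
    refine ⟨hker1 b, ?_⟩
    rintro ⟨c, rfl⟩
    rw [map_mul, map_natCast, pA0 p k A, zero_mul]
  · intro b hb
    apply hker1
    obtain ⟨x, rfl⟩ := Ideal.Quotient.mk_surjective b
    rw [← map_natCast (Ideal.Quotient.mk (splitIdeal p A φ)), ← map_mul,
      Ideal.Quotient.eq_zero_iff_mem, mem_splitIdeal p k φ hφ] at hb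
    obtain ⟨-, hpx1⟩ := F3 p k A x
    rw [hsplit_mk]
    have := hb.2
    rwa [hpx1, hφpow] at this


end Groth.Agent.S13147
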