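import Groth.Statements.S13148
import Groth.Agent.S13147
import Groth.Agent.Lib.Helper27.FSplit
import Groth.Agent.Lib.Helper27.TwistLift
import Groth.Agent.Lib.Helper27.W2Lift

set_option autoImplicit false
universe u
open FrobAlg

namespace Groth.Agent.S13148

/-- Over a perfect field k of characteristic p, every smooth affine scheme Spec A admits a flat lifting
over W₂(k) together with a lifting of Frobenius (not necessarily unique). -/
theorem result
    (p : ℕ) [Fact p.Prime] (k : Type u) [Field k] [CharP k p] [PerfectRing k p]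
    (A : Type u) [CommRing A] [Algebra k A] [Algebra.Smooth k A] :
    FrobAlg.IsFLiftable p k A := by
  classical
  -- a Frobenius splitting of `A`
  obtain ⟨φ, hφ, hφ1⟩ := Groth.Agent.Lib.Helper27.FSplit.exists_fsplit p k A
  -- the twisted Witt vector lifting
  have hL := Groth.Agent.S13147.result p k A φ hφ hφ1
  set A' := FrobAlg.W2 p A ⧸ FrobAlg.splitIdeal p A φ with hA'
  set ι : W2 p k →+* A' := (Ideal.Quotient.mk (FrobAlg.splitIdeal p A φ)).comp
    (WittGrp.truncMap p 2 (algebraMap k A)) with hι
  set π : A' →+* A := FrobAlg.splitRes p A φ with hπ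
  -- the kernel of `res` has square zero
  have hres_sq : (RingHom.ker (res p k)) ^ 2 = ⊥ := by
    rw [sq, eq_bot_iff, Ideal.mul_le]
    intro x hx y hy
    rw [RingHom.mem_ker, res_apply] at hx hy
    obtain ⟨c, rfl⟩ := Groth.Agent.S13136.w2_mul_p p k x hx
    obtain ⟨d, rfl⟩ := Groth.Agent.S13136.w2_mul_p p k y hy
    have h0 := Groth.Agent.S13136.w2_p_sq p k
    have : ((p : ℕ) : W2 p k) * c * (((p : ℕ) : W2 p k) * d)
        = ((p : ℕ) : W2 p k) * ((p : ℕ) : W2 p k) * (c * d) := by ring
    rw [Ideal.mem_bot, this, h0, zero_mul]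
  have hres_surj : Function.Surjective (res p k) := by
    intro a
    refine ⟨WittVector.truncate 2 (WittVector.teichmuller p a), ?_⟩
    rw [res_truncate, WittVector.teichmuller_coeff_zero]
  -- formal smoothness of the lifting
  have hfs : ι.FormallySmooth :=
    RingHom.FormallySmooth.of_flat_of_ker_eq_map_of_square_zero ι hL.flat (res p k) π
      (algebraMap k A) hres_surj hL.surj hL.comm hres_sq hL.ker_eq
      (RingHom.formallySmooth_algebraMap.2 inferInstance)
  letI : Algebra (W2 p k) A' := ι.toAlgebra
  haveI : Algebra.FormallySmooth (W2 p k) A' := hfs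
  have halg : ∀ w, algebraMap (W2 p k) A' w = ι w := fun w => rfl
  rcases subsingleton_or_nontrivial A with hA | hA
  · have hA'' : Subsingleton A' := by
      have h1 : (1 : A') ∈ RingHom.ker π := by
        rw [RingHom.mem_ker]; exact Subsingleton.elim _ _
      rw [hL.ker_eq] at h1
      have hnil : (1 : A') ^ 2 ∈ (Ideal.map ι (RingHom.ker (res p k))) ^ 2 :=
        Ideal.pow_mem_pow h1 2
      rw [← Ideal.map_pow, hres_sq, Ideal.map_bot, one_pow, Ideal.mem_bot] at hnil
      exact subsingleton_of_zero_eq_one hnil.symm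
    refine ⟨A', inferInstance, ι, π, RingHom.id A', { toIsLift := hL, semi := ?_, red := ?_ }⟩
    · ext w; exact Subsingleton.elim _ _
    · intro b; exact Subsingleton.elim _ _
  · have : CharP A p := charP_of_injective_algebraMap (algebraMap k A).injective p
    let N : Ideal A' := RingHom.ker π
    have hN : N ^ 2 = ⊥ := by
      change (RingHom.ker π) ^ 2 = ⊥
      rw [hL.ker_eq, ← Ideal.map_pow, hres_sq, Ideal.map_bot]
    let e : A' ⧸ N ≃+* A := RingHom.quotientKerEquivOfSurjective hL.surj
    have he : ∀ s : A', e (Ideal.Quotient.mk N s) = π s := fun s => rfl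
    let g₀ : A' →+* A' ⧸ N := (e.symm : A →+* A' ⧸ N).comp ((frobenius A p).comp π)
    have hcomm : ∀ w, π (ι w) = algebraMap k A (res p k w) := fun w =>
      RingHom.congr_fun hL.comm w
    have hg₀ : ∀ w : W2 p k, g₀ (algebraMap (W2 p k) A' w)
        = Ideal.Quotient.mk N (algebraMap (W2 p k) A' (sigma p k w)) := by
      intro w
      apply e.injective
      rw [he, halg, halg, hcomm]
      simp only [g₀, RingHom.comp_apply, RingHom.coe_coe, RingEquiv.apply_symm_apply,
        frobenius_def, hcomm]
      rw [← map_pow, res_apply, res_apply, WittGrp.coeff_frob]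
    obtain ⟨Ψ, hΨ1, hΨ2⟩ :=
      Groth.Agent.Lib.Helper27.TwistLift.exists_semilinear_lift (R := W2 p k) (S := A')
        (sigma p k) N hN g₀ hg₀
    refine ⟨A', inferInstance, ι, π, Ψ, { toIsLift := hL, semi := ?_, red := ?_ }⟩
    · ext w
      simp only [RingHom.comp_apply]
      rw [← halg, hΨ1, halg]
    · intro s
      rw [← he, hΨ2]
      simp only [g₀, RingHom.comp_apply, RingHom.coe_coe, RingEquiv.apply_symm_apply,
        frobenius_def]

end Groth.Agent.S13148
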