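import Groth.Statements.S13149
import Mathlib

set_option autoImplicit false
universe u
open CAlg

namespace Groth.Agent.S13149

open Matrix

section core

variable {A : Type*} [CommRing A]

lemma det_eq_zero_of_col (P Q R n : Fin 3 → A) (hn : ∃ i, IsUnit (n i))
    (h1 : dotProduct P n = 0) (h2 : dotProduct Q n = 0) (h3 : dotProduct R n = 0) :
    det (Matrix.of ![P, Q, R]) = 0 := by
  set M : Matrix (Fin 3) (Fin 3) A := Matrix.of ![P, Q, R] with hM
  have hMn : M *ᵥ n = 0 := by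
    ext i
    fin_cases i
    · simpa [hM, mulVec] using h1
    · simpa [hM, mulVec] using h2
    · simpa [hM, mulVec] using h3
  have h : (det M • (1 : Matrix (Fin 3) (Fin 3) A)) *ᵥ n = 0 := by
    rw [← adjugate_mul, ← mulVec_mulVec, hMn, mulVec_zero]
  obtain ⟨i, hi⟩ := hn
  have hi' := congrFun h i
  simp only [smul_mulVec, one_mulVec, Pi.smul_apply, smul_eq_mul, Pi.zero_apply] at hi'
  exact hi.mul_left_eq_zero.mp hi'

/-- `ρ v` is known up to a unit. -/
def K {p : ℕ} (ρ : (Fin 3 → ZMod p) → (Fin 3 → A)) (v : Fin 3 → ZMod p) (q : Fin 3 → A) : Prop :=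
  ∃ c : A, IsUnit c ∧ ρ v = c • q

lemma tool {p : ℕ} (ρ : (Fin 3 → ZMod p) → (Fin 3 → A))
    (hdet : ∀ u v w : Fin 3 → ZMod p, u ≠ 0 → v ≠ 0 → w ≠ 0 →
      det (Matrix.of ![u, v, w]) = 0 → det (Matrix.of ![ρ u, ρ v, ρ w]) = 0)
    {v v₁ v₂ : Fin 3 → ZMod p} {q₁ q₂ : Fin 3 → A} (k₁ : K ρ v₁ q₁) (k₂ : K ρ v₂ q₂)
    (hv : v ≠ 0) (hv₁ : v₁ ≠ 0) (hv₂ : v₂ ≠ 0) (hd : det (Matrix.of ![v, v₁, v₂]) = 0) :
    det (Matrix.of ![ρ v, q₁, q₂]) = 0 := by
  obtain ⟨c₁, hc₁, h₁⟩ := k₁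
  obtain ⟨c₂, hc₂, h₂⟩ := k₂
  have := hdet v v₁ v₂ hv hv₁ hv₂ hd
  rw [h₁, h₂] at this
  have e : det (Matrix.of ![ρ v, c₁ • q₁, c₂ • q₂]) = c₁ * c₂ * det (Matrix.of ![ρ v, q₁, q₂]) := by
    simp only [det_fin_three, of_apply, cons_val_zero, cons_val_one, cons_val_two, cons_val', Pi.smul_apply,
      smul_eq_mul, cons_val_fin_one]
    simp
    ring
  rw [e] at this
  exact (hc₁.mul hc₂).mul_right_eq_zero.mp this

end core


section core2

variable {A : Type*} [CommRing A] [Nontrivial A]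

lemma solve {p : ℕ} (ρ : (Fin 3 → ZMod p) → (Fin 3 → A))
    (hpt : ∀ v : Fin 3 → ZMod p, v ≠ 0 → ∃ i, IsUnit (ρ v i))
    (v : Fin 3 → ZMod p) (hv : v ≠ 0) (q : Fin 3 → A) (j : Fin 3) (hj : q j = 1)
    (h : ∀ i, ρ v i = q i * ρ v j) : K ρ v q := by
  refine ⟨ρ v j, ?_, ?_⟩
  · obtain ⟨i, hi⟩ := hpt v hv
    rw [h i] at hi
    exact isUnit_of_mul_isUnit_right hi
  · ext i
    rw [h i]
    simp [mul_comm]

theorem core (p : ℕ) [Fact p.Prime]
    (ρ : (Fin 3 → ZMod p) → (Fin 3 → A))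
    (hpt : ∀ v : Fin 3 → ZMod p, v ≠ 0 → ∃ i, IsUnit (ρ v i))
    (hdet : ∀ u v w : Fin 3 → ZMod p, u ≠ 0 → v ≠ 0 → w ≠ 0 →
      det (Matrix.of ![u, v, w]) = 0 → det (Matrix.of ![ρ u, ρ v, ρ w]) = 0)
    (k0 : K ρ ![1, 0, 0] ![1, 0, 0]) (k1 : K ρ ![0, 1, 0] ![0, 1, 0])
    (k2 : K ρ ![0, 0, 1] ![0, 0, 1]) (kU : K ρ ![1, 1, 1] ![1, 1, 1]) : (p : A) = 0 := by
  have n0 : (![1, 0, 0] : Fin 3 → ZMod p) ≠ 0 := fun h => by simpa using congrFun h 0
  have n1 : (![0, 1, 0] : Fin 3 → ZMod p) ≠ 0 := fun h => by simpa using congrFun h 1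
  have n2 : (![0, 0, 1] : Fin 3 → ZMod p) ≠ 0 := fun h => by simpa using congrFun h 2
  have nU : (![1, 1, 1] : Fin 3 → ZMod p) ≠ 0 := fun h => by simpa using congrFun h 2
  -- (1,0,1)
  have n101 : (![1, 0, 1] : Fin 3 → ZMod p) ≠ 0 := fun h => by simpa using congrFun h 2
  have k101 : K ρ ![1, 0, 1] ![1, 0, 1] := by
    have e1 := tool ρ hdet k0 k2 n101 n0 n2 (by simp [det_fin_three])
    have e2 := tool ρ hdet k1 kU n101 n1 nU (by simp [det_fin_three])
    simp [det_fin_three] at e1 e2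
    refine solve ρ hpt _ n101 _ 2 rfl ?_
    intro i
    fin_cases i
    · simp; linear_combination e2
    · simp; linear_combination e1
    · simp
  -- (0,1,1)
  have n011 : (![0, 1, 1] : Fin 3 → ZMod p) ≠ 0 := fun h => by simpa using congrFun h 2
  have k011 : K ρ ![0, 1, 1] ![0, 1, 1] := by
    have e1 := tool ρ hdet k1 k2 n011 n1 n2 (by simp [det_fin_three])
    have e2 := tool ρ hdet k0 kU n011 n0 nU (by simp [det_fin_three])
    simp [det_fin_three] at e1 e2
    refine solve ρ hpt _ n011 _ 2 rfl ?_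
    intro i
    fin_cases i
    · simp; linear_combination e1
    · simp; linear_combination (-1 : A) * e2
    · simp
  -- (1,-1,0)
  have n1m0 : (![1, -1, 0] : Fin 3 → ZMod p) ≠ 0 := fun h => by simpa using congrFun h 0
  have k1m0 : K ρ ![1, -1, 0] ![-1, 1, 0] := by
    have e1 := tool ρ hdet k0 k1 n1m0 n0 n1 (by simp [det_fin_three])
    have e2 := tool ρ hdet k101 k011 n1m0 n101 n011 (by simp [det_fin_three])
    simp [det_fin_three] at e1 e2
    refine solve ρ hpt _ n1m0 _ 1 rfl ?_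
    intro i
    fin_cases i
    · simp; linear_combination (-1 : A) * e2 + e1
    · simp
    · simp; linear_combination e1
  -- induction
  have main : ∀ a : ℕ, K ρ ![(a : ZMod p), 0, 1] ![(a : A), 0, 1] := by
    intro a
    induction a with
    | zero => simpa using k2
    | succ a ih =>
      have na01 : (![(a : ZMod p), 0, 1] : Fin 3 → ZMod p) ≠ 0 := fun h => by simpa using congrFun h 2
      have na11 : (![(a : ZMod p), 1, 1] : Fin 3 → ZMod p) ≠ 0 := fun h => by simpa using congrFun h 2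
      have ka11 : K ρ ![(a : ZMod p), 1, 1] ![(a : A), 1, 1] := by
        have e1 := tool ρ hdet ih k1 na11 na01 n1 (by simp [det_fin_three])
        have e2 := tool ρ hdet k011 k0 na11 n011 n0 (by simp [det_fin_three])
        simp [det_fin_three] at e1 e2
        refine solve ρ hpt _ na11 _ 2 rfl ?_
        intro i
        fin_cases i
        · simp; linear_combination (-1 : A) * e1
        · simp; linear_combination e2
        · simp
      have ns : (![((a + 1 : ℕ) : ZMod p), 0, 1] : Fin 3 → ZMod p) ≠ 0 := fun h => by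
        simpa using congrFun h 2
      have e1 := tool ρ hdet k0 k2 ns n0 n2 (by simp [det_fin_three])
      have e2 := tool ρ hdet ka11 k1m0 ns na11 n1m0 (by simp [det_fin_three])
      simp [det_fin_three] at e1 e2
      refine solve ρ hpt _ ns _ 2 rfl ?_
      intro i
      fin_cases i
      · simp; linear_combination (-1 : A) * e2 - e1
      · simp; linear_combination e1
      · simp
  obtain ⟨c, hc, h⟩ := main p
  obtain ⟨d, hd, h'⟩ := k2
  rw [ZMod.natCast_self, h'] at h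
  have := congrFun h 0
  simp at this
  exact (hc.mul_right_eq_zero.mp this.symm)

end core2


/-- Let A be a local ring and ρ a map from the points of the projective plane over F_p to the points of
the projective plane over A (vectors with a unit coordinate, up to units) taking collinear triples
to collinear triples (three points are collinear when a vector with a unit coordinate is orthogonal
to all three). If ρ sends the standard frame (1:0:0), (0:1:0), (0:0:1), (1:1:1) to four points in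
general position, then p = 0 in A. (The published statement asks only that ρ preserve collinearity;
a constant map does so over any ring, and the published argument begins by moving the images of the
standard frame to the standard frame, which needs them in general position — that condition is made
a hypothesis here.) -/
theorem result
    (p : ℕ) [Fact p.Prime] (A : Type u) [CommRing A] [IsLocalRing A]
    (ρ : (Fin 3 → ZMod p) → (Fin 3 → A))
    (hpt : ∀ v : Fin 3 → ZMod p, v ≠ 0 → ∃ i, IsUnit (ρ v i))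
    (hcol : ∀ u v w : Fin 3 → ZMod p, u ≠ 0 → v ≠ 0 → w ≠ 0 →
      Matrix.det (Matrix.of ![u, v, w]) = 0 →
      ∃ n : Fin 3 → A, (∃ i, IsUnit (n i)) ∧
        dotProduct (ρ u) n = 0 ∧ dotProduct (ρ v) n = 0 ∧ dotProduct (ρ w) n = 0)
    (hgen : IsUnit (Matrix.det (Matrix.of ![ρ (Pi.single 0 1), ρ (Pi.single 1 1), ρ (Pi.single 2 1)])) ∧
      IsUnit (Matrix.det (Matrix.of ![ρ (Pi.single 0 1), ρ (Pi.single 1 1), ρ (fun _ => 1)])) ∧
      IsUnit (Matrix.det (Matrix.of ![ρ (Pi.single 0 1), ρ (Pi.single 2 1), ρ (fun _ => 1)])) ∧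
      IsUnit (Matrix.det (Matrix.of ![ρ (Pi.single 1 1), ρ (Pi.single 2 1), ρ (fun _ => 1)]))) :
    (p : A) = 0 := by
  classical
  have e0 : (Pi.single 0 1 : Fin 3 → ZMod p) = ![1, 0, 0] := by ext i; fin_cases i <;> simp
  have e1 : (Pi.single 1 1 : Fin 3 → ZMod p) = ![0, 1, 0] := by ext i; fin_cases i <;> simp
  have e2 : (Pi.single 2 1 : Fin 3 → ZMod p) = ![0, 0, 1] := by ext i; fin_cases i <;> simp
  have eU : ((fun _ => 1) : Fin 3 → ZMod p) = ![1, 1, 1] := by ext i; fin_cases i <;> simp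
  rw [e0, e1, e2, eU] at hgen
  obtain ⟨hM, hg2, hg1, hg0⟩ := hgen
  set M : Matrix (Fin 3) (Fin 3) A := Matrix.of ![ρ ![1, 0, 0], ρ ![0, 1, 0], ρ ![0, 0, 1]] with hMdef
  set c : Fin 3 → A := ρ ![1, 1, 1] ᵥ* M⁻¹ with hc
  have hcM : c ᵥ* M = ρ ![1, 1, 1] := by
    rw [hc, vecMul_vecMul, nonsing_inv_mul M hM, vecMul_one]
  have hc2 : IsUnit (c 2) := by
    have : Matrix.of ![ρ ![1, 0, 0], ρ ![0, 1, 0], ρ ![1, 1, 1]] =
        Matrix.of ![![1, 0, 0], ![0, 1, 0], c] * M := by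
      rw [← hcM]
      ext i j
      fin_cases i <;> simp [Matrix.mul_apply, Fin.sum_univ_three, vecMul, dotProduct, hMdef, vecHead, vecTail] <;> ring
    rw [this, det_mul] at hg2
    have hd : det (Matrix.of ![![1, 0, 0], ![0, 1, 0], c]) = c 2 := by simp [det_fin_three]
    rw [hd] at hg2
    exact isUnit_of_mul_isUnit_left hg2
  have hc1 : IsUnit (c 1) := by
    have : Matrix.of ![ρ ![1, 0, 0], ρ ![0, 0, 1], ρ ![1, 1, 1]] =
        Matrix.of ![![1, 0, 0], ![0, 0, 1], c] * M := by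
      rw [← hcM]
      ext i j
      fin_cases i <;> simp [Matrix.mul_apply, Fin.sum_univ_three, vecMul, dotProduct, hMdef, vecHead, vecTail] <;> ring
    rw [this, det_mul] at hg1
    have hd : det (Matrix.of ![![1, 0, 0], ![0, 0, 1], c]) = - c 1 := by simp [det_fin_three]
    rw [hd] at hg1
    exact (IsUnit.neg_iff _).mp (isUnit_of_mul_isUnit_left hg1)
  have hc0 : IsUnit (c 0) := by
    have : Matrix.of ![ρ ![0, 1, 0], ρ ![0, 0, 1], ρ ![1, 1, 1]] =
        Matrix.of ![![0, 1, 0], ![0, 0, 1], c] * M := by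
      rw [← hcM]
      ext i j
      fin_cases i <;> simp [Matrix.mul_apply, Fin.sum_univ_three, vecMul, dotProduct, hMdef, vecHead, vecTail] <;> ring
    rw [this, det_mul] at hg0
    have hd : det (Matrix.of ![![0, 1, 0], ![0, 0, 1], c]) = c 0 := by simp [det_fin_three]
    rw [hd] at hg0
    exact isUnit_of_mul_isUnit_left hg0
  obtain ⟨d0, hd0⟩ := hc0.exists_left_inv
  obtain ⟨d1, hd1⟩ := hc1.exists_left_inv
  obtain ⟨d2, hd2⟩ := hc2.exists_left_inv
  have ud0 : IsUnit d0 := IsUnit.of_mul_eq_one _ hd0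
  have ud1 : IsUnit d1 := IsUnit.of_mul_eq_one _ hd1
  have ud2 : IsUnit d2 := IsUnit.of_mul_eq_one _ hd2
  set D : Matrix (Fin 3) (Fin 3) A := Matrix.diagonal ![d0, d1, d2] with hD
  set C : Matrix (Fin 3) (Fin 3) A := Matrix.diagonal ![c 0, c 1, c 2] with hC
  have hDC : D * C = 1 := by
    rw [hD, hC, diagonal_mul_diagonal, ← diagonal_one]
    congr 1
    ext i
    fin_cases i <;> simp [hd0, hd1, hd2]
  set N : Matrix (Fin 3) (Fin 3) A := M⁻¹ * D with hN
  have hNinv : N * (C * M) = 1 := by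
    rw [hN, Matrix.mul_assoc, ← Matrix.mul_assoc D, hDC, Matrix.one_mul, nonsing_inv_mul M hM]
  set ρ' : (Fin 3 → ZMod p) → (Fin 3 → A) := fun v => ρ v ᵥ* N with hρ'
  have hback : ∀ v, ρ v = ρ' v ᵥ* (C * M) := by
    intro v
    rw [hρ']
    simp only
    rw [vecMul_vecMul, hNinv, vecMul_one]
  have hpt' : ∀ v : Fin 3 → ZMod p, v ≠ 0 → ∃ i, IsUnit (ρ' v i) := by
    intro v hv
    by_contra hcon
    push Not at hcon
    obtain ⟨j, hj⟩ := hpt v hv
    have hmem : ∀ i, ρ' v i ∈ IsLocalRing.maximalIdeal A := fun i =>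
      (IsLocalRing.mem_maximalIdeal _).mpr (hcon i)
    have : ρ v j ∈ IsLocalRing.maximalIdeal A := by
      rw [hback v]
      simp only [vecMul, dotProduct]
      exact Ideal.sum_mem _ fun i _ => Ideal.mul_mem_right _ _ (hmem i)
    exact (IsLocalRing.mem_maximalIdeal _).mp this hj
  have hdet' : ∀ u v w : Fin 3 → ZMod p, u ≠ 0 → v ≠ 0 → w ≠ 0 →
      det (Matrix.of ![u, v, w]) = 0 → det (Matrix.of ![ρ' u, ρ' v, ρ' w]) = 0 := by
    intro u v w hu hv hw h
    obtain ⟨n, hn, h1, h2, h3⟩ := hcol u v w hu hv hw h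
    have h0 := det_eq_zero_of_col _ _ _ n hn h1 h2 h3
    have : Matrix.of ![ρ' u, ρ' v, ρ' w] = Matrix.of ![ρ u, ρ v, ρ w] * N := by
      ext i j
      fin_cases i <;> simp [hρ', Matrix.mul_apply, vecMul, dotProduct]
    rw [this, det_mul, h0, zero_mul]
  have hrow : ∀ (v : Fin 3 → ZMod p) (x : Fin 3 → A), ρ v = x ᵥ* M → ρ' v = (x ᵥ* D) := by
    intro v x hx
    rw [hρ']
    simp only
    rw [hx, hN, vecMul_vecMul, ← Matrix.mul_assoc, mul_nonsing_inv M hM, Matrix.one_mul]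
  have k0 : K ρ' ![1, 0, 0] ![1, 0, 0] := by
    refine ⟨d0, ud0, ?_⟩
    rw [hrow _ ![1, 0, 0]]
    · ext i; fin_cases i <;> simp [hD, vecMul_diagonal]
    · ext j; simp [hMdef, vecMul, dotProduct, Fin.sum_univ_three]
  have k1 : K ρ' ![0, 1, 0] ![0, 1, 0] := by
    refine ⟨d1, ud1, ?_⟩
    rw [hrow _ ![0, 1, 0]]
    · ext i; fin_cases i <;> simp [hD, vecMul_diagonal]
    · ext j; simp [hMdef, vecMul, dotProduct, Fin.sum_univ_three]
  have k2 : K ρ' ![0, 0, 1] ![0, 0, 1] := by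
    refine ⟨d2, ud2, ?_⟩
    rw [hrow _ ![0, 0, 1]]
    · ext i; fin_cases i <;> simp [hD, vecMul_diagonal]
    · ext j; simp [hMdef, vecMul, dotProduct, Fin.sum_univ_three]
  have kU : K ρ' ![1, 1, 1] ![1, 1, 1] := by
    refine ⟨1, isUnit_one, ?_⟩
    rw [hrow _ c hcM.symm]
    ext i; fin_cases i <;> simp [hD, vecMul_diagonal, mul_comm, hd0, hd1, hd2]
  exact core p ρ' hpt' hdet' k0 k1 k2 kU

end Groth.Agent.S13149
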