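import Groth.Statements.S13150
import Groth.Agent.Lib.Helper27.W2Coeff
import Groth.Agent.Lib.Helper27.W2Descent
import Groth.Agent.S13147

set_option autoImplicit false
universe u
open FrobAlg
open Groth.Agent.Lib.Helper27.W2Obst Groth.Agent.Lib.Helper27.W2Coeff Groth.Agent.Lib.Helper27.W2Lift

namespace Groth.Agent.S13150


section w2

variable (p : ℕ) [Fact p.Prime] {A : Type u} [CommRing A]

lemma coeff_one_one : (1 : W2 p A).coeff 1 = 0 := by
  have : (1 : W2 p A) = WittVector.truncate 2 (1 : WittVector p A) := by rw [map_one]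
  rw [this, WittVector.coeff_truncate]
  exact WittVector.one_coeff_eq_of_pos _ _ _ (by norm_num)

lemma coeff_zero_one : (1 : W2 p A).coeff 0 = 1 := by rw [← res_apply, map_one]

lemma coeff_zero_pow (x : W2 p A) (n : ℕ) : (x ^ n).coeff 0 = x.coeff 0 ^ n := by
  rw [← res_apply, ← res_apply, map_pow]

variable (hpA : (p : A) = 0)

include hpA in
lemma coeff_one_mul' (x y : W2 p A) :
    (x * y).coeff 1 = x.coeff 0 ^ p * y.coeff 1 + x.coeff 1 * y.coeff 0 ^ p := by
  rw [coeff_one_mul, hpA]; ring

include hpA in
lemma coeff_one_pow (x : W2 p A) (n : ℕ) :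
    (x ^ (n + 1)).coeff 1 = ((n + 1 : ℕ) : A) * x.coeff 0 ^ (p * n) * x.coeff 1 := by
  induction n with
  | zero => simp
  | succ n ih =>
    rw [pow_succ, coeff_one_mul' p hpA, ih, coeff_zero_pow]
    push_cast
    ring

include hpA in
lemma coeff_one_pow_p (x : W2 p A) : (x ^ p).coeff 1 = 0 := by
  obtain ⟨m, hm⟩ : ∃ m, p = m + 1 := ⟨p - 1, by have := (Fact.out : p.Prime).pos; omega⟩
  have h := coeff_one_pow p hpA x m
  rw [← hm, hpA, zero_mul, zero_mul] at h
  exact h

lemma hpoly_right_zero (x : A) : hpoly p x 0 = 0 := by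
  obtain ⟨u, hu⟩ := hpoly_eq_mul_right p x (0 : A)
  rw [hu, zero_mul]

end w2

section sigma

variable (p : ℕ) [Fact p.Prime] (k : Type u) [Field k] [CharP k p]

lemma sigma_decomp (w : W2 p k) :
    ∃ y : W2 p k, sigma p k w = w ^ p + (p : W2 p k) * y ∧ y.coeff 0 = w.coeff 1 := by
  have hpk : (p : k) = 0 := CharP.cast_eq_zero k p
  set y : W2 p k := TruncatedWittVector.mk p ![w.coeff 1, 0] with hy
  have hy0 : y.coeff 0 = w.coeff 1 := by rw [hy, TruncatedWittVector.coeff_mk]; rfl
  refine ⟨y, ?_, hy0⟩
  obtain ⟨h0, h1⟩ := Groth.Agent.S13147.F3 p k k y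
  apply ext2
  · rw [coeff_zero_add, coeff_zero_pow, h0, add_zero]
    exact WittGrp.coeff_frob p 2 _ w 0
  · rw [coeff_one_add, coeff_one_pow_p p hpk, h1, h0, hpoly_right_zero, hy0, zero_add, sub_zero]
    exact WittGrp.coeff_frob p 2 _ w 1

end sigma

/-- Let k be a perfect field of characteristic p and (B, ι, π) a flat lifting over W₂(k) of a Noetherian
k-algebra A. The Frobenius of A lifts to B (a σ₂-semilinear ring endomorphism of B reducing to the
p-th power map) if and only if there is a ring homomorphism θ : B → W₂(A) over A (the zeroth Witt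
component of θ(b) is π(b)) with θ ∘ ι equal to the map W₂(k) → W₂(A) induced by k → A. (The
published statement is for a flat W₂(k)-extension of the structure sheaf of a scheme and says: the
push-out of that extension along the Frobenius O_X → F_*O_X is isomorphic, as an extension by F_*O_X
over W₂(k), to W₂(O_X); by the universal property of the push-out this is the existence of a
morphism of extensions to W₂(O_X), which in the affine case taken here is the map θ.) -/
theorem result
    (p : ℕ) [Fact p.Prime] (k : Type u) [Field k] [CharP k p] [PerfectRing k p]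
    (A B : Type u) [CommRing A] [Algebra k A] [IsNoetherianRing A] [CommRing B]
    (ι : FrobAlg.W2 p k →+* B) (π : B →+* A) (hB : FrobAlg.IsLift p k A B ι π) :
    (∃ Φ : B →+* B, FrobAlg.IsFrobLift p k A B ι π Φ) ↔
      ∃ θ : B →+* FrobAlg.W2 p A,
        (FrobAlg.res p A).comp θ = π ∧ θ.comp ι = WittGrp.truncMap p 2 (algebraMap k A) := by
  have hpA : (p : A) = 0 := Groth.Agent.S13147.pA0 p k A
  have hπι : ∀ w, π (ι w) = algebraMap k A (w.coeff 0) := by
    intro w
    have := RingHom.congr_fun hB.comm w
    rw [RingHom.comp_apply, RingHom.comp_apply, res_apply] at this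
    exact this
  constructor
  · rintro ⟨Φ, hΦ⟩
    have hΦker : ∀ b, ∃ c, Φ b - b ^ p = (p : B) * c := fun b =>
      (mem_ker_iff p k hB _).1 (by rw [map_sub, hΦ.red, map_pow, sub_self])
    choose cc hcc using hΦker
    have hΦb : ∀ b, Φ b = b ^ p + (p : B) * cc b := fun b => by rw [← hcc]; ring
    have huniq : ∀ b c, Φ b - b ^ p = (p : B) * c → π c = π (cc b) := by
      intro b c hc
      have h0 : (p : B) * (c - cc b) = 0 := by rw [mul_sub, ← hc, ← hcc, sub_self]
      obtain ⟨d, hd⟩ := torsion p k hB _ h0
      have := congrArg π hd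
      rw [map_sub, map_mul, map_p_eq_zero p k hB, zero_mul, sub_eq_zero] at this
      exact this
    set θf : B → W2 p A := fun b => TruncatedWittVector.mk p ![π b, π (cc b)] with hθf
    have hθ0 : ∀ b, (θf b).coeff 0 = π b := fun b => by
      rw [hθf]; simp only [TruncatedWittVector.coeff_mk]; rfl
    have hθ1 : ∀ b, (θf b).coeff 1 = π (cc b) := fun b => by
      rw [hθf]; simp only [TruncatedWittVector.coeff_mk]; rfl
    have hpp : (p : B) * (p : B) = 0 := p_sq p k ι
    let θ : B →+* W2 p A :=
      { toFun := θf
        map_one' := by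
          apply ext2
          · rw [hθ0, coeff_zero_one, map_one]
          · rw [hθ1, coeff_one_one, ← huniq 1 0 (by rw [map_one, one_pow, sub_self, mul_zero]),
              map_zero]
        map_mul' := by
          intro b b'
          apply ext2
          · rw [hθ0, coeff_zero_mul, hθ0, hθ0, map_mul]
          · rw [hθ1, coeff_one_mul' p hpA, hθ0, hθ0, hθ1, hθ1,
              ← huniq (b * b') (b ^ p * cc b' + cc b * b' ^ p) ?_]
            · simp only [map_add, map_mul, map_pow]
            · rw [map_mul, hΦb, hΦb, mul_pow]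
              have : (b ^ p + (p : B) * cc b) * (b' ^ p + (p : B) * cc b') - b ^ p * b' ^ p =
                  (p : B) * (b ^ p * cc b' + cc b * b' ^ p) + ((p : B) * (p : B)) * (cc b * cc b') := by
                ring
              rw [this, hpp, zero_mul, add_zero]
        map_zero' := by
          apply ext2
          · rw [hθ0, map_zero, TruncatedWittVector.coeff_zero]
          · rw [hθ1, TruncatedWittVector.coeff_zero, ← huniq 0 0 (by
              rw [map_zero, zero_pow (Fact.out : p.Prime).ne_zero, sub_self, mul_zero]), map_zero]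
        map_add' := by
          intro b b'
          apply ext2
          · rw [hθ0, coeff_zero_add, hθ0, hθ0, map_add]
          · rw [hθ1, coeff_one_add, hθ0, hθ0, hθ1, hθ1,
              ← huniq (b + b') (cc b + cc b' - hpoly p b b') ?_]
            · rw [map_sub, map_add, map_hpoly]
            · rw [map_add, hΦb, hΦb, add_pow_eq_hpoly p (Fact.out : p.Prime)]
              ring }
    refine ⟨θ, ?_, ?_⟩
    · ext b
      show res p A (θf b) = π b
      rw [res_apply, hθ0]
    · apply RingHom.ext
      intro w
      show θf (ι w) = WittGrp.truncMap p 2 (algebraMap k A) w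
      apply ext2
      · rw [hθ0, WittGrp.coeff_truncMap, hπι]
      · rw [hθ1, WittGrp.coeff_truncMap]
        obtain ⟨y, hy, hy0⟩ := sigma_decomp p k w
        have h1 : Φ (ι w) = ι (sigma p k w) := RingHom.congr_fun hΦ.semi w
        rw [← huniq (ι w) (ι y) ?_, hπι, hy0]
        rw [h1, hy, map_add, map_pow, map_mul, map_natCast]
        ring
  · rintro ⟨θ, hθπ, hθι⟩
    have hθ0 : ∀ b, (θ b).coeff 0 = π b := by
      intro b
      have := RingHom.congr_fun hθπ b
      rw [RingHom.comp_apply, res_apply] at this
      exact this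
    choose cl hcl using fun b => hB.surj ((θ b).coeff 1)
    have hpp : (p : B) * (p : B) = 0 := p_sq p k ι
    have hpeq : ∀ c c', π c = π c' → (p : B) * c = (p : B) * c' := by
      intro c c' h
      obtain ⟨d, hd⟩ := (mem_ker_iff p k hB (c - c')).1 (by rw [map_sub, h, sub_self])
      have : c = c' + (p : B) * d := by rw [← hd]; ring
      rw [this, mul_add, ← mul_assoc, hpp, zero_mul, add_zero]
    let Φ : B →+* B :=
      { toFun := fun b => b ^ p + (p : B) * cl b
        map_one' := by
          show (1 : B) ^ p + (p : B) * cl 1 = 1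
          rw [hpeq (cl 1) 0 (by rw [hcl, map_one, coeff_one_one, map_zero]), mul_zero, one_pow,
            add_zero]
        map_mul' := by
          intro b b'
          show (b * b') ^ p + (p : B) * cl (b * b') =
            (b ^ p + (p : B) * cl b) * (b' ^ p + (p : B) * cl b')
          rw [hpeq (cl (b * b')) (b ^ p * cl b' + cl b * b' ^ p) (by
            rw [hcl, map_mul, coeff_one_mul' p hpA, hθ0, hθ0]
            simp only [map_add, map_mul, map_pow, hcl])]
          have : (b ^ p + (p : B) * cl b) * (b' ^ p + (p : B) * cl b') =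
              b ^ p * b' ^ p + (p : B) * (b ^ p * cl b' + cl b * b' ^ p) +
                ((p : B) * (p : B)) * (cl b * cl b') := by ring
          rw [this, hpp, zero_mul, add_zero, mul_pow]
        map_zero' := by
          show (0 : B) ^ p + (p : B) * cl 0 = 0
          rw [hpeq (cl 0) 0 (by rw [hcl, map_zero, TruncatedWittVector.coeff_zero, map_zero]),
            mul_zero, zero_pow (Fact.out : p.Prime).ne_zero, add_zero]
        map_add' := by
          intro b b'
          show (b + b') ^ p + (p : B) * cl (b + b') =
            (b ^ p + (p : B) * cl b) + (b' ^ p + (p : B) * cl b')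
          rw [hpeq (cl (b + b')) (cl b + cl b' - hpoly p b b') (by
            rw [hcl, map_add, coeff_one_add, hθ0, hθ0, map_sub, map_add, map_hpoly, hcl, hcl]),
            add_pow_eq_hpoly p (Fact.out : p.Prime)]
          ring }
    refine ⟨Φ, ⟨hB, ?_, ?_⟩⟩
    · ext w
      show (ι w) ^ p + (p : B) * cl (ι w) = ι (sigma p k w)
      obtain ⟨y, hy, hy0⟩ := sigma_decomp p k w
      rw [hy, map_add, map_pow, map_mul, map_natCast]
      congr 1
      apply hpeq
      rw [hcl, hπι, hy0]
      have := RingHom.congr_fun hθι w
      rw [RingHom.comp_apply] at this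
      rw [this, WittGrp.coeff_truncMap]
    · intro b
      show π (b ^ p + (p : B) * cl b) = π b ^ p
      rw [map_add, map_mul, map_p_eq_zero p k hB, zero_mul, add_zero, map_pow]


end Groth.Agent.S13150
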