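import Groth.Statements.S13151
import Mathlib.FieldTheory.Minpoly.IsIntegrallyClosed
-- import your own Groth.Agent.* helpers here

set_option autoImplicit false
universe u
open CAlg

namespace Groth.Agent.S13151

/-- Let A → B be an injective ring homomorphism of integral domains which is integral, with A integrally
closed, and let π be an element of A. Then the contraction to A of the ideal πB is πA, i.e. an
element of A which is a multiple of π in B is already a multiple of π in A; in particular if B/πB is
an integral domain then A/πA is an integral domain. (The published statement is for an integral
dominant morphism of integral schemes flat over a discrete valuation ring, with normal target and π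
a uniformizer; flatness and the valuation ring play no role, so π is an arbitrary element here.) -/
theorem result {A B : Type u} [CommRing A] [CommRing B]
    [IsDomain A] [IsDomain B] [IsIntegrallyClosed A] [Algebra A B] [Algebra.IsIntegral A B]
    (hinj : Function.Injective (algebraMap A B)) (π : A) :
    (Ideal.span {algebraMap A B π}).comap (algebraMap A B) = Ideal.span {π} ∧
      (IsDomain (B ⧸ Ideal.span {algebraMap A B π}) → IsDomain (A ⧸ Ideal.span {π})) := by
  classical
  have : Module.IsTorsionFree A B := Module.isTorsionFree_iff_algebraMap_injective.2 hinj
  have hcomap : (Ideal.span {algebraMap A B π}).comap (algebraMap A B) = Ideal.span {π} := by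
    apply le_antisymm
    · intro a ha
      rw [Ideal.mem_comap, Ideal.mem_span_singleton'] at ha
      obtain ⟨b, hb⟩ := ha
      by_cases hπ : π = 0
      · subst hπ
        rw [map_zero, mul_zero] at hb
        have : a = 0 := hinj (by rw [← hb, map_zero])
        rw [this]
        exact Ideal.zero_mem _
      · let q : Polynomial A := Polynomial.C π * Polynomial.X - Polynomial.C a
        have hq : Polynomial.aeval b q = 0 := by
          simp only [q, map_sub, map_mul, Polynomial.aeval_C, Polynomial.aeval_X]
          rw [← hb]; ring
        have hdeg : q.degree = 1 := by
          have h1 : (Polynomial.C π * Polynomial.X : Polynomial A).degree = 1 :=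
            Polynomial.degree_C_mul_X hπ
          have h2 : (Polynomial.C a : Polynomial A).degree < (Polynomial.C π * Polynomial.X : Polynomial A).degree := by
            rw [h1]
            exact lt_of_le_of_lt Polynomial.degree_C_le (by norm_num)
          rw [Polynomial.degree_sub_eq_left_of_degree_lt h2, h1]
        have hq0 : q ≠ 0 := by
          intro h
          rw [h, Polynomial.degree_zero] at hdeg
          exact absurd hdeg (by simp)
        have hlead : q.leadingCoeff = π := by
          have h1 : (Polynomial.C π * Polynomial.X : Polynomial A).degree = 1 :=
            Polynomial.degree_C_mul_X hπ
          have h2 : (Polynomial.C a : Polynomial A).degree < (Polynomial.C π * Polynomial.X : Polynomial A).degree := by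
            rw [h1]
            exact lt_of_le_of_lt Polynomial.degree_C_le (by norm_num)
          rw [Polynomial.leadingCoeff_sub_of_degree_lt h2]
          simp
        have pmin : ∀ r : Polynomial A, r.Monic → Polynomial.aeval b r = 0 → q.degree ≤ r.degree := by
          intro r hr hrb
          rw [hdeg]
          by_contra hlt
          rw [not_le] at hlt
          have hr0 : r.degree ≤ 0 := Nat.WithBot.lt_one_iff_le_zero.1 hlt
          have : r = 1 := by
            have h3 := Polynomial.eq_C_of_degree_le_zero hr0
            have h4 : r.coeff 0 = 1 := by
              have := hr.leadingCoeff
              rw [Polynomial.leadingCoeff, Polynomial.natDegree_eq_zero_iff_degree_le_zero.2 hr0] at this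
              exact this
            rw [h3, h4, map_one]
          rw [this, map_one] at hrb
          exact one_ne_zero hrb
        have hint : IsIntegral A b := Algebra.IsIntegral.isIntegral b
        have hdvd := (minpoly.IsIntegrallyClosed.isIntegral_iff_leadingCoeff_dvd hq hq0 pmin).1 hint
        rw [hlead] at hdvd
        have h5 : Polynomial.C π ∣ Polynomial.C a := by
          have h6 : Polynomial.C π ∣ Polynomial.C π * Polynomial.X := dvd_mul_right _ _
          have := dvd_sub h6 hdvd
          simpa [q] using this
        rw [Polynomial.C_dvd_iff_dvd_coeff] at h5
        have := h5 0
        rw [Polynomial.coeff_C_zero] at this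
        exact Ideal.mem_span_singleton.2 this
    · rw [Ideal.span_le]
      intro x hx
      rw [Set.mem_singleton_iff] at hx
      subst hx
      exact Ideal.subset_span rfl
  refine ⟨hcomap, fun hdom => ?_⟩
  have hle : Ideal.span {π} ≤ (Ideal.span {algebraMap A B π}).comap (algebraMap A B) := hcomap.ge
  have hinj' : Function.Injective (Ideal.quotientMap (Ideal.span {algebraMap A B π}) (algebraMap A B) hle) :=
    Ideal.quotientMap_injective' hcomap.le
  exact hinj'.isDomain _

end Groth.Agent.S13151
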