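import Groth.Statements.S13153
import Mathlib

set_option linter.style.haveILetI false

set_option autoImplicit false
universe u
open CAlg

namespace Groth.Agent.S13153

open scoped IntermediateField.algebraAdjoinAdjoin in
/-- In characteristic zero, the differential of a transcendental element of a field extension
does not vanish. -/
theorem D_ne_zero_of_transcendental {K L : Type*} [Field K] [Field L] [Algebra K L] [CharZero K]
    {t : L} (ht : Transcendental K t) : KaehlerDifferential.D K L t ≠ 0 := by
  classical
  have hs : AlgebraicIndepOn K id ({t} : Set L) := by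
    have : AlgebraicIndependent K (fun x : ({t} : Set L) => (x : L)) :=
      (algebraicIndependent_singleton_iff (⟨t, rfl⟩ : ({t} : Set L))).mpr ht
    exact this
  obtain ⟨B, htB, hB⟩ := exists_isTranscendenceBasis_superset hs
  have htB' : t ∈ B := htB (Set.mem_singleton t)
  obtain ⟨v, hvdef⟩ : ∃ v : B → L, v = (↑) := ⟨_, rfl⟩
  rw [← hvdef] at hB
  have hv : AlgebraicIndependent K v := hB.1
  haveI : Algebra.IsAlgebraic (IntermediateField.adjoin K (Set.range v)) L := hB.isAlgebraic_field
  haveI : CharZero (IntermediateField.adjoin K (Set.range v)) :=
    charZero_of_injective_algebraMap (algebraMap K _).injective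
  haveI : Algebra.IsSeparable (IntermediateField.adjoin K (Set.range v)) L :=
    Algebra.IsAlgebraic.isSeparable_of_perfectField
  haveI : Algebra.FormallyEtale (IntermediateField.adjoin K (Set.range v)) L :=
    Algebra.FormallyEtale.of_isSeparable _ L
  haveI : Algebra.FormallyEtale (Algebra.adjoin K (Set.range v))
      (IntermediateField.adjoin K (Set.range v)) :=
    Algebra.FormallyEtale.of_isLocalization (nonZeroDivisors (Algebra.adjoin K (Set.range v)))
  haveI : IsScalarTower (Algebra.adjoin K (Set.range v))
      (IntermediateField.adjoin K (Set.range v)) L :=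
    IsScalarTower.of_algebraMap_eq (fun _ => rfl)
  haveI : Algebra.FormallyEtale (Algebra.adjoin K (Set.range v)) L :=
    Algebra.FormallyEtale.comp _ (IntermediateField.adjoin K (Set.range v)) L
  letI : Algebra (MvPolynomial B K) (Algebra.adjoin K (Set.range v)) :=
    (hv.aevalEquiv : MvPolynomial B K →+* Algebra.adjoin K (Set.range v)).toAlgebra
  haveI : Algebra.FormallyEtale (MvPolynomial B K) (Algebra.adjoin K (Set.range v)) :=
    Algebra.FormallyEtale.of_equiv (A := MvPolynomial B K)
      { hv.aevalEquiv.toRingEquiv with commutes' := fun _ => rfl }
  letI : Algebra (MvPolynomial B K) L :=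
    (MvPolynomial.aeval v : MvPolynomial B K →ₐ[K] L).toRingHom.toAlgebra
  haveI : IsScalarTower (MvPolynomial B K) (Algebra.adjoin K (Set.range v)) L :=
    IsScalarTower.of_algebraMap_eq (fun p => (hv.algebraMap_aevalEquiv p).symm)
  haveI : IsScalarTower K (MvPolynomial B K) L :=
    IsScalarTower.of_algebraMap_eq (fun k => by
      rw [RingHom.algebraMap_toAlgebra]
      simp)
  haveI : Algebra.FormallyEtale (MvPolynomial B K) L :=
    Algebra.FormallyEtale.comp _ (Algebra.adjoin K (Set.range v)) L
  let e := KaehlerDifferential.tensorKaehlerEquivOfFormallyEtale K (MvPolynomial B K) L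
  let b := (KaehlerDifferential.mvPolynomialBasis K B).baseChange L
  have h1 : e (b ⟨t, htB'⟩) = KaehlerDifferential.D K L t := by
    have hX : algebraMap (MvPolynomial B K) L (MvPolynomial.X ⟨t, htB'⟩) = t := by
      rw [RingHom.algebraMap_toAlgebra]
      simp [hvdef]
    simp only [e, b, Module.Basis.baseChange_apply,
      KaehlerDifferential.tensorKaehlerEquivOfFormallyEtale_apply,
      KaehlerDifferential.mvPolynomialBasis_apply, KaehlerDifferential.mapBaseChange_tmul,
      one_smul, KaehlerDifferential.map_D, hX]
  rw [← h1]
  exact (e.map_ne_zero_iff).mpr (b.ne_zero _)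


/-- Let R be a discrete valuation ring whose fraction field K has characteristic zero, A an integral
domain which is a faithfully flat R-algebra, with fraction field L, such that K is algebraically
closed in L (every element of L algebraic over K is in the image of K). If f ∈ A has vanishing
differential, df = 0 in Ω_{A/R}, then f is the image of an element of R. (The published statement is
the sheaf form: for a faithfully flat morphism X → Spec R with geometrically integral generic fibre,
the kernel of d : O_X → Ω¹_{X/R} is the inverse image of O_{Spec R}; for integral X, geometric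
integrality of the generic fibre in characteristic zero amounts to K being algebraically closed in
the function field, which is the form used here, and this row is the case of global sections over an
affine X = Spec A.) -/
theorem result (R : Type u) [CommRing R] [IsDomain R]
    [IsDiscreteValuationRing R] [CharZero R] (K : Type u) [Field K] [Algebra R K] [IsFractionRing R K]
    (A : Type u) [CommRing A] [IsDomain A] [Algebra R A] [Module.FaithfullyFlat R A]
    (L : Type u) [Field L] [Algebra A L] [IsFractionRing A L] [Algebra R L] [Algebra K L]
    [IsScalarTower R A L] [IsScalarTower R K L]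
    (hac : ∀ x : L, IsAlgebraic K x → x ∈ (algebraMap K L).range)
    (f : A) (hf : KaehlerDifferential.D R A f = 0) : f ∈ (algebraMap R A).range := by
  classical
  have hinjAL : Function.Injective (algebraMap A L) := IsFractionRing.injective A L
  have hRL : ∀ r : R, algebraMap A L (algebraMap R A r) = algebraMap K L (algebraMap R K r) := by
    intro r
    rw [← IsScalarTower.algebraMap_apply R A L, ← IsScalarTower.algebraMap_apply R K L]
  -- Step 1: the differential vanishes over the fraction fields
  have h1 : KaehlerDifferential.D K L (algebraMap A L f) = 0 := by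
    have := congrArg (KaehlerDifferential.map R K A L) hf
    rwa [KaehlerDifferential.map_D, map_zero] at this
  -- Step 2: so `f` is algebraic over `K`, hence in `K`
  haveI : CharZero K := charZero_of_injective_algebraMap (IsFractionRing.injective R K)
  have h2 : IsAlgebraic K (algebraMap A L f) := by
    by_contra hna
    exact D_ne_zero_of_transcendental hna h1
  obtain ⟨x, hx⟩ := hac _ h2
  -- Step 3: `x` is integral
  rcases ValuationRing.isInteger_or_isInteger R x with ⟨r, hr⟩ | ⟨y, hy⟩
  · refine ⟨r, hinjAL ?_⟩
    rw [hRL, hr, hx]
  · by_cases hx0 : x = 0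
    · refine ⟨0, hinjAL ?_⟩
      rw [map_zero, map_zero, ← hx, hx0, map_zero]
    by_cases hyu : IsUnit y
    · obtain ⟨u, rfl⟩ := hyu
      refine ⟨((u⁻¹ : Rˣ) : R), hinjAL ?_⟩
      rw [hRL, ← hx]
      congr 1
      have h3 : algebraMap R K ((u⁻¹ : Rˣ) : R) * algebraMap R K (u : R) = 1 := by
        rw [← map_mul, Units.inv_mul, map_one]
      rw [hy] at h3
      field_simp at h3
      exact h3
    · exfalso
      have hym : y ∈ IsLocalRing.maximalIdeal R := (IsLocalRing.mem_maximalIdeal y).mpr hyu
      have hfy : f * algebraMap R A y = 1 := by
        apply hinjAL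
        rw [map_mul, map_one, hRL, hy, ← hx, ← map_mul, mul_inv_cancel₀ hx0, map_one]
      have htop : Ideal.map (algebraMap R A) (IsLocalRing.maximalIdeal R) = ⊤ :=
        Ideal.eq_top_of_isUnit_mem _ (Ideal.mem_map_of_mem _ hym)
          (IsUnit.of_mul_eq_one _ (by rw [mul_comm]; exact hfy))
      have hne := Module.FaithfullyFlat.submodule_ne_top (R := R) (M := A)
        (IsLocalRing.maximalIdeal.isMaximal R)
      apply hne
      rw [Ideal.smul_top_eq_map, htop]
      rfl

end Groth.Agent.S13153
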