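import Groth.Statements.S13154
import Mathlib
-- import your own Groth.Agent.* helpers here

set_option autoImplicit false
universe u
open scoped TensorProduct
open CAlg

namespace Groth.Agent.S13154


/-- Step 1: exactness of `R → K × A → K ⊗ A` at the middle, elementwise. -/
theorem step1 (R : Type u) [CommRing R] [IsDomain R]
    [IsDiscreteValuationRing R] (K : Type u) [Field K] [Algebra R K] [IsFractionRing R K]
    (A : Type u) [CommRing A] [Algebra R A] [Module.FaithfullyFlat R A]
    (x : K) (a : A) (h : x ⊗ₜ[R] (1 : A) = (1 : K) ⊗ₜ[R] a) :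
    ∃ r : R, algebraMap R K r = x ∧ algebraMap R A r = a := by
  have hinjK : Function.Injective (algebraMap R K) := IsFractionRing.injective R K
  have hinc : Function.Injective (fun a : A => (1 : K) ⊗ₜ[R] a) :=
    Algebra.TensorProduct.includeRight_injective (R := R) (A := K) (B := A) hinjK
  -- torsion-freeness of A
  have htf : ∀ (s : R) (a' : A), s ≠ 0 → s • a' = 0 → a' = 0 := by
    intro s a' hs h0
    apply hinc
    change (1 : K) ⊗ₜ[R] a' = (1 : K) ⊗ₜ[R] (0 : A)
    have hsK : algebraMap R K s ≠ 0 := fun h => hs (hinjK (by rw [h, map_zero]))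
    have e : (1 : K) ⊗ₜ[R] a' = (algebraMap R K s)⁻¹ ⊗ₜ[R] (s • a') := by
      rw [← TensorProduct.smul_tmul, Algebra.smul_def, mul_inv_cancel₀ hsK]
    rw [e, h0, TensorProduct.tmul_zero, TensorProduct.tmul_zero]
  obtain ⟨r, s, hs, rfl⟩ := IsFractionRing.div_surjective (A := R) x
  have hs0 : s ≠ 0 := nonZeroDivisors.ne_zero hs
  have hsK : algebraMap R K s ≠ 0 := fun h => hs0 (hinjK (by rw [h, map_zero]))
  -- algebraMap r = s • a in A
  have h1 : algebraMap R A r = s • a := by
    apply hinc
    change (1 : K) ⊗ₜ[R] (algebraMap R A r) = (1 : K) ⊗ₜ[R] (s • a)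
    have e1 : (1 : K) ⊗ₜ[R] (algebraMap R A r) = s • ((algebraMap R K r / algebraMap R K s) ⊗ₜ[R] (1 : A)) := by
      rw [TensorProduct.smul_tmul', Algebra.smul_def (A := K), mul_div_cancel₀ _ hsK,
        Algebra.algebraMap_eq_smul_one, Algebra.algebraMap_eq_smul_one (A := K),
        TensorProduct.smul_tmul]
    rw [e1, h, TensorProduct.smul_tmul', TensorProduct.smul_tmul]
  rcases ValuationRing.dvd_total s r with ⟨t, ht⟩ | ⟨t, ht⟩
  · -- r = s * t
    refine ⟨t, ?_, ?_⟩
    · rw [ht, map_mul, mul_div_cancel_left₀ _ hsK]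
    · have : s • (algebraMap R A t - a) = 0 := by
        rw [smul_sub, ← h1, ht, map_mul, Algebra.smul_def]
        ring
      exact sub_eq_zero.mp (htf s _ hs0 this)
  · -- s = r * t
    have hr0 : r ≠ 0 := by
      rintro rfl
      exact hs0 (by rw [ht, zero_mul])
    have h2 : algebraMap R A t * a = 1 := by
      have h1' : algebraMap R A r = algebraMap R A r * algebraMap R A t * a := by
        have := h1
        rw [ht, Algebra.smul_def, map_mul] at this
        exact this
      have : r • (algebraMap R A t * a - 1) = 0 := by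
        rw [Algebra.smul_def]
        linear_combination -h1'
      exact sub_eq_zero.mp (htf r _ hr0 this)
    by_cases htu : IsUnit t
    · obtain ⟨t', ht'⟩ := htu.exists_right_inv
      refine ⟨t', ?_, ?_⟩
      · rw [ht, map_mul]
        have hrK : algebraMap R K r ≠ 0 := fun h => hr0 (hinjK (by rw [h, map_zero]))
        have htK : algebraMap R K t * algebraMap R K t' = 1 := by
          rw [← map_mul, ht', map_one]
        have htK' : algebraMap R K t ≠ 0 := by
          intro h0
          rw [h0, zero_mul] at htK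
          exact zero_ne_one htK
        rw [eq_div_iff (mul_ne_zero hrK htK')]
        linear_combination (algebraMap R K r) * htK
      · have : algebraMap R A t * algebraMap R A t' = 1 := by rw [← map_mul, ht', map_one]
        calc algebraMap R A t' = (algebraMap R A t * a) * algebraMap R A t' := by rw [h2, one_mul]
          _ = a * (algebraMap R A t * algebraMap R A t') := by ring
          _ = a := by rw [this, mul_one]
    · exfalso
      have htm : t ∈ IsLocalRing.maximalIdeal R := (IsLocalRing.mem_maximalIdeal t).mpr htu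
      apply Module.FaithfullyFlat.submodule_ne_top (R := R) (M := A)
        (IsLocalRing.maximalIdeal.isMaximal R)
      rw [eq_top_iff]
      intro y _
      have : y = t • (a * y) := by
        rw [Algebra.smul_def, ← mul_assoc, h2, one_mul]
      rw [this]
      exact Submodule.smul_mem_smul htm Submodule.mem_top


/-- Step 2: module-level descent for a flat module `M`. -/
theorem step2 (R : Type u) [CommRing R] [IsDomain R]
    [IsDiscreteValuationRing R] (K : Type u) [Field K] [Algebra R K] [IsFractionRing R K]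
    (A : Type u) [CommRing A] [Algebra R A] [Module.FaithfullyFlat R A]
    (M : Type u) [AddCommGroup M] [Module R M] [Module.Flat R M]
    (y : K ⊗[R] M) (z : A ⊗[R] M)
    (h : LinearMap.rTensor M
        ((Algebra.TensorProduct.includeLeft : K →ₐ[R] K ⊗[R] A).toLinearMap) y =
      LinearMap.rTensor M
        ((Algebra.TensorProduct.includeRight : A →ₐ[R] K ⊗[R] A).toLinearMap) z) :
    ∃ m : M, y = (1 : K) ⊗ₜ[R] m ∧ z = (1 : A) ⊗ₜ[R] m := by
  set incK : K →ₗ[R] K ⊗[R] A :=
    (Algebra.TensorProduct.includeLeft : K →ₐ[R] K ⊗[R] A).toLinearMap with hincK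
  set incA : A →ₗ[R] K ⊗[R] A :=
    (Algebra.TensorProduct.includeRight : A →ₐ[R] K ⊗[R] A).toLinearMap with hincA
  let f : R →ₗ[R] K × A := LinearMap.prod (Algebra.linearMap R K) (Algebra.linearMap R A)
  let g : K × A →ₗ[R] K ⊗[R] A := LinearMap.coprod incK (-incA)
  have hexact : Function.Exact f g := by
    intro p
    constructor
    · intro hp
      obtain ⟨x, a⟩ := p
      have hp' : x ⊗ₜ[R] (1 : A) = (1 : K) ⊗ₜ[R] a := by
        have : x ⊗ₜ[R] (1 : A) - (1 : K) ⊗ₜ[R] a = 0 := by
          simpa [g, incK, incA, sub_eq_add_neg] using hp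
        exact sub_eq_zero.mp this
      obtain ⟨r, hr1, hr2⟩ := step1 R K A x a hp'
      exact ⟨r, by simp [f, hr1, hr2]⟩
    · rintro ⟨r, rfl⟩
      change (algebraMap R K r) ⊗ₜ[R] (1 : A) + -((1 : K) ⊗ₜ[R] (algebraMap R A r)) = 0
      rw [Algebra.algebraMap_eq_smul_one, Algebra.algebraMap_eq_smul_one (A := A),
        TensorProduct.smul_tmul, add_neg_cancel]
  have hexM := Module.Flat.rTensor_exact M hexact
  let w : (K × A) ⊗[R] M :=
    LinearMap.rTensor M (LinearMap.inl R K A) y + LinearMap.rTensor M (LinearMap.inr R K A) z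
  have hgw : LinearMap.rTensor M g w = 0 := by
    simp only [w, map_add, ← LinearMap.rTensor_comp_apply]
    have e1 : g ∘ₗ LinearMap.inl R K A = incK := by
      ext x; simp [g]
    have e2 : g ∘ₗ LinearMap.inr R K A = -incA := by
      ext x; simp [g]
    rw [e1, e2, LinearMap.rTensor_neg, LinearMap.neg_apply, h, add_neg_cancel]
  have key1 : ∀ t : R ⊗[R] M, LinearMap.rTensor M (LinearMap.fst R K A ∘ₗ f) t =
      (1 : K) ⊗ₜ[R] (TensorProduct.lid R M t) := by
    intro t
    induction t using TensorProduct.induction_on with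
    | zero => simp
    | tmul r m =>
      change (algebraMap R K r) ⊗ₜ[R] m = (1 : K) ⊗ₜ[R] (r • m)
      rw [Algebra.algebraMap_eq_smul_one, TensorProduct.smul_tmul]
    | add a b ha hb => rw [map_add, map_add, TensorProduct.tmul_add, ha, hb]
  have key2 : ∀ t : R ⊗[R] M, LinearMap.rTensor M (LinearMap.snd R K A ∘ₗ f) t =
      (1 : A) ⊗ₜ[R] (TensorProduct.lid R M t) := by
    intro t
    induction t using TensorProduct.induction_on with
    | zero => simp
    | tmul r m =>
      change (algebraMap R A r) ⊗ₜ[R] m = (1 : A) ⊗ₜ[R] (r • m)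
      rw [Algebra.algebraMap_eq_smul_one, TensorProduct.smul_tmul]
    | add a b ha hb => rw [map_add, map_add, TensorProduct.tmul_add, ha, hb]
  obtain ⟨t, ht⟩ := (hexM w).mp hgw
  refine ⟨TensorProduct.lid R M t, ?_, ?_⟩
  · have hy : y = LinearMap.rTensor M (LinearMap.fst R K A) w := by
      simp only [w, map_add, ← LinearMap.rTensor_comp_apply]
      rw [LinearMap.fst_comp_inl, LinearMap.fst_comp_inr, LinearMap.rTensor_id_apply,
        LinearMap.rTensor_zero, LinearMap.zero_apply, add_zero]
    rw [hy, ← ht, ← LinearMap.rTensor_comp_apply, key1]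
  · have hz : z = LinearMap.rTensor M (LinearMap.snd R K A) w := by
      simp only [w, map_add, ← LinearMap.rTensor_comp_apply]
      rw [LinearMap.snd_comp_inl, LinearMap.snd_comp_inr, LinearMap.rTensor_id_apply,
        LinearMap.rTensor_zero, LinearMap.zero_apply, zero_add]
    rw [hz, ← ht, ← LinearMap.rTensor_comp_apply, key2]

/-- Let R be a discrete valuation ring with fraction field K, A a faithfully flat R-algebra (an affine
faithfully flat base change S' → S = Spec R) and B₁, B₂ flat R-algebras (two affine S-schemes X₁ =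
Spec B₁, X₂ = Spec B₂, flat over S). Suppose given a K-algebra homomorphism φ_K : K ⊗ B₂ → K ⊗ B₁ (a
morphism of the generic fibres X₁,K → X₂,K) and an A-algebra homomorphism φ_A : A ⊗ B₂ → A ⊗ B₁ (a
morphism X₁ ×_S S' → X₂ ×_S S' over S') which coincide after base change to K ⊗ A, in the sense that
for every b ∈ B₂ the images of φ_K(1 ⊗ b) and φ_A(1 ⊗ b) in (K ⊗ A) ⊗ B₁ agree. Then there is
exactly one R-algebra homomorphism φ : B₂ → B₁ (a morphism X₁ → X₂) whose base changes to K and to A
are φ_K and φ_A. (The published statement assumes only X₂ flat over S; flatness of X₁ is also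
needed: with B₂ = R[t], B₁ = R[e]/(e², πe) for a uniformizer π and A = R[x], the maps t ↦ 0 over K
and t ↦ e x over A agree over K ⊗ A = K[x] but come from no map over R.) -/
theorem result (R : Type u) [CommRing R] [IsDomain R]
    [IsDiscreteValuationRing R] (K : Type u) [Field K] [Algebra R K] [IsFractionRing R K]
    (A : Type u) [CommRing A] [Algebra R A] [Module.FaithfullyFlat R A]
    (B₁ B₂ : Type u) [CommRing B₁] [CommRing B₂] [Algebra R B₁] [Algebra R B₂]
    [Module.Flat R B₁] [Module.Flat R B₂]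
    (φK : K ⊗[R] B₂ →ₐ[K] K ⊗[R] B₁) (φA : A ⊗[R] B₂ →ₐ[A] A ⊗[R] B₁)
    (hcomp : ∀ b : B₂,
      Algebra.TensorProduct.map (Algebra.TensorProduct.includeLeft : K →ₐ[R] K ⊗[R] A) (AlgHom.id R B₁)
          (φK (1 ⊗ₜ b)) =
        Algebra.TensorProduct.map (Algebra.TensorProduct.includeRight : A →ₐ[R] K ⊗[R] A) (AlgHom.id R B₁)
          (φA (1 ⊗ₜ b))) :
    ∃! φ : B₂ →ₐ[R] B₁, (∀ b : B₂, φK (1 ⊗ₜ b) = 1 ⊗ₜ φ b) ∧ (∀ b : B₂, φA (1 ⊗ₜ b) = 1 ⊗ₜ φ b) := by
  have hconv1 : ∀ y : K ⊗[R] B₁,
      Algebra.TensorProduct.map (Algebra.TensorProduct.includeLeft : K →ₐ[R] K ⊗[R] A)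
        (AlgHom.id R B₁) y =
      LinearMap.rTensor B₁
        ((Algebra.TensorProduct.includeLeft : K →ₐ[R] K ⊗[R] A).toLinearMap) y := by
    intro y
    induction y using TensorProduct.induction_on with
    | zero => simp
    | tmul x m => simp
    | add a b ha hb => rw [map_add, map_add, ha, hb]
  have hconv2 : ∀ z : A ⊗[R] B₁,
      Algebra.TensorProduct.map (Algebra.TensorProduct.includeRight : A →ₐ[R] K ⊗[R] A)
        (AlgHom.id R B₁) z =
      LinearMap.rTensor B₁
        ((Algebra.TensorProduct.includeRight : A →ₐ[R] K ⊗[R] A).toLinearMap) z := by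
    intro z
    induction z using TensorProduct.induction_on with
    | zero => simp
    | tmul x m => simp
    | add a b ha hb => rw [map_add, map_add, ha, hb]
  have hex : ∀ b : B₂, ∃ m : B₁, φK (1 ⊗ₜ b) = (1 : K) ⊗ₜ[R] m ∧ φA (1 ⊗ₜ b) = (1 : A) ⊗ₜ[R] m :=
    fun b => step2 R K A B₁ _ _ (by rw [← hconv1, ← hconv2]; exact hcomp b)
  choose φ hφK hφA using hex
  have hinjA : Function.Injective (algebraMap R A) := FaithfulSMul.algebraMap_injective R A
  have hinj : Function.Injective (fun m : B₁ => (1 : A) ⊗ₜ[R] m) :=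
    Algebra.TensorProduct.includeRight_injective (R := R) (A := A) (B := B₁) hinjA
  let φ' : B₂ →ₐ[R] B₁ :=
    { toFun := φ
      map_one' := by
        apply hinj
        change (1 : A) ⊗ₜ[R] φ 1 = (1 : A) ⊗ₜ[R] (1 : B₁)
        rw [← hφA, ← Algebra.TensorProduct.one_def, map_one, Algebra.TensorProduct.one_def]
      map_mul' := by
        intro b b'
        apply hinj
        change (1 : A) ⊗ₜ[R] φ (b * b') = (1 : A) ⊗ₜ[R] (φ b * φ b')
        rw [← hφA]
        have : (1 : A) ⊗ₜ[R] (b * b') = ((1 : A) ⊗ₜ[R] b) * ((1 : A) ⊗ₜ[R] b') := by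
          rw [Algebra.TensorProduct.tmul_mul_tmul, one_mul]
        rw [this, map_mul, hφA, hφA, Algebra.TensorProduct.tmul_mul_tmul, one_mul]
      map_zero' := by
        apply hinj
        change (1 : A) ⊗ₜ[R] φ 0 = (1 : A) ⊗ₜ[R] (0 : B₁)
        rw [← hφA, TensorProduct.tmul_zero, map_zero, TensorProduct.tmul_zero]
      map_add' := by
        intro b b'
        apply hinj
        change (1 : A) ⊗ₜ[R] φ (b + b') = (1 : A) ⊗ₜ[R] (φ b + φ b')
        rw [← hφA, TensorProduct.tmul_add, map_add, hφA, hφA, TensorProduct.tmul_add]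
      commutes' := by
        intro r
        apply hinj
        change (1 : A) ⊗ₜ[R] φ (algebraMap R B₂ r) = (1 : A) ⊗ₜ[R] (algebraMap R B₁ r)
        rw [← hφA]
        have e1 : (1 : A) ⊗ₜ[R] (algebraMap R B₂ r) =
            algebraMap A (A ⊗[R] B₂) (algebraMap R A r) := by
          rw [Algebra.TensorProduct.algebraMap_apply, Algebra.algebraMap_self, RingHom.id_apply,
            Algebra.algebraMap_eq_smul_one, Algebra.algebraMap_eq_smul_one (A := A),
            TensorProduct.smul_tmul]
        have e2 : (1 : A) ⊗ₜ[R] (algebraMap R B₁ r) =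
            algebraMap A (A ⊗[R] B₁) (algebraMap R A r) := by
          rw [Algebra.TensorProduct.algebraMap_apply, Algebra.algebraMap_self, RingHom.id_apply,
            Algebra.algebraMap_eq_smul_one, Algebra.algebraMap_eq_smul_one (A := A),
            TensorProduct.smul_tmul]
        rw [e1, e2, AlgHom.commutes] }
  refine ⟨φ', ⟨hφK, hφA⟩, ?_⟩
  rintro ψ ⟨-, hψA⟩
  ext b
  apply hinj
  change (1 : A) ⊗ₜ[R] ψ b = (1 : A) ⊗ₜ[R] φ b
  rw [← hψA, hφA]

end Groth.Agent.S13154
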