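import Groth.Statements.S13155
import Mathlib.Tactic
import Mathlib.RingTheory.UniqueFactorizationDomain.Multiplicity
import Mathlib.RingTheory.Noetherian.UniqueFactorizationDomain

set_option autoImplicit false
universe u
open CAlg

namespace Groth.Agent.S13155

section kummer

variable {A : Type u} [CommRing A] [IsDomain A] [IsNoetherianRing A]

/-- Step 1-2: if `f` divides a power of the prime element `π`, then `f = π ^ a * u` with `u` a unit. -/
theorem exists_eq_pow_mul_unit (π : A) (hπ : Prime π) (f : A) (N : ℕ) (hfN : f ∣ π ^ N) :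
    ∃ (a : ℕ) (u : Aˣ), f = π ^ a * (u : A) := by
  obtain ⟨g, hg⟩ := hfN
  have hπ0 : π ≠ 0 := hπ.ne_zero
  have hpow0 : π ^ N ≠ 0 := pow_ne_zero N hπ0
  have hf0 : f ≠ 0 := by rintro rfl; rw [zero_mul] at hg; exact hpow0 hg
  have hg0 : g ≠ 0 := by rintro rfl; rw [mul_zero] at hg; exact hpow0 hg
  have hfinf : FiniteMultiplicity π f := FiniteMultiplicity.of_not_isUnit hπ.not_isUnit hf0
  have hfing : FiniteMultiplicity π g := FiniteMultiplicity.of_not_isUnit hπ.not_isUnit hg0
  obtain ⟨u, hu, hπu⟩ := hfinf.exists_eq_pow_mul_and_not_dvd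
  obtain ⟨w, hw, hπw⟩ := hfing.exists_eq_pow_mul_and_not_dvd
  set a := multiplicity π f with ha
  set b := multiplicity π g with hb
  have hπuw : ¬ π ∣ u * w := fun h => (hπ.dvd_or_dvd h).elim hπu hπw
  have hprod : π ^ N = π ^ (a + b) * (u * w) := by
    rw [hg]; conv_lhs => rw [hu, hw]
    ring
  have hab : a + b = N := by
    rcases lt_trichotomy (a + b) N with h | h | h
    · exfalso
      apply hπuw
      have h1 : π ^ (a + b) * π ^ (N - (a + b)) = π ^ (a + b) * (u * w) := by
        rw [← pow_add, Nat.add_sub_cancel' h.le]; exact hprod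
      have h2 := mul_left_cancel₀ (pow_ne_zero _ hπ0) h1
      rw [← h2]
      exact dvd_pow_self π (by omega)
    · exact h
    · exfalso
      have h1 : π ^ N * 1 = π ^ N * (π ^ (a + b - N) * (u * w)) := by
        rw [mul_one, ← mul_assoc, ← pow_add, Nat.add_sub_cancel' h.le]; exact hprod
      have h2 := mul_left_cancel₀ hpow0 h1
      have h3 : IsUnit (π ^ (a + b - N)) := isUnit_iff_exists_inv.2 ⟨_, h2.symm⟩
      exact hπ.not_isUnit ((isUnit_pow_iff (by omega)).1 h3)
  have huw : u * w = 1 := by
    rw [hab] at hprod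
    have h1 : π ^ N * 1 = π ^ N * (u * w) := by rw [mul_one]; exact hprod
    exact (mul_left_cancel₀ hpow0 h1).symm
  exact ⟨a, ⟨u, w, huw, by rw [mul_comm]; exact huw⟩, hu⟩

end kummer

/-- Let R be a discrete valuation ring of characteristic zero with uniformizer π, and A a Noetherian
integrally closed domain which is an R-algebra with injective structure map and in which πA is a
prime ideal (X = Spec A is normal, flat over R, with integral special fibre). Let m ≥ 1 and let f ∈
A be invertible in A[1/π] (so Z^m = f defines a μ_m-torsor over the generic fibre), such that S =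
A[1/π][Z]/(Z^m − f) is an integral domain and, writing B for the integral closure of A in S (the
normalization of X in that cover), πB is a prime ideal of B (the normalization has integral special
fibre). Then f is, up to a unit of A, an m-th power of a power of π: f = π^{mq}·u with q ≥ 0 and u ∈
A^×, so that the cover extends to the μ_m-torsor Z^m = u over all of X. (The published statement is
the existence and uniqueness of the extending μ_m-torsor over a normal faithfully flat R-scheme with
integral fibres, R containing a primitive m-th root of unity; this row is the affine computation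
that carries the proof.) -/
theorem result (R : Type u) [CommRing R]
    [IsDomain R] [IsDiscreteValuationRing R] [CharZero R] (ϖ : R) (hϖ : Irreducible ϖ)
    (A : Type u) [CommRing A] [IsDomain A] [IsNoetherianRing A] [IsIntegrallyClosed A] [Algebra R A]
    (hinj : Function.Injective (algebraMap R A)) (hprime : (Ideal.span {algebraMap R A ϖ}).IsPrime)
    (m : ℕ) (hm : 0 < m) (f : A) (hf : IsUnit (algebraMap A (Localization.Away (algebraMap R A ϖ)) f))
    [IsDomain (AdjoinRoot (Polynomial.X ^ m - Polynomial.C (algebraMap A (Localization.Away (algebraMap R A ϖ)) f)))]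
    (hsp : (Ideal.span {algebraMap A (integralClosure A
        (AdjoinRoot (Polynomial.X ^ m - Polynomial.C (algebraMap A (Localization.Away (algebraMap R A ϖ)) f))))
          (algebraMap R A ϖ)}).IsPrime) :
    ∃ (q : ℕ) (u : Aˣ), f = algebraMap R A ϖ ^ (m * q) * (u : A) := by
  classical
  set π : A := algebraMap R A ϖ with hπdef
  have hπ0 : π ≠ 0 := by
    rw [hπdef, Ne, map_eq_zero_iff _ hinj]; exact hϖ.ne_zero
  have hπprime : Prime π := (Ideal.span_singleton_prime hπ0).1 hprime
  obtain ⟨N, hN⟩ := (IsLocalization.Away.algebraMap_isUnit_iff (x := π)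
    (S := Localization.Away π)).1 hf
  obtain ⟨a, u, hau⟩ := exists_eq_pow_mul_unit π hπprime f N hN
  -- notation
  set Loc := Localization.Away π with hLoc
  set S := AdjoinRoot (Polynomial.X ^ m - Polynomial.C (algebraMap A Loc f)) with hS
  set B := integralClosure A S with hB
  -- division with remainder
  set q := a / m with hq
  set r := a % m with hr
  have hqr : m * q + r = a := Nat.div_add_mod a m
  have hrm : r < m := Nat.mod_lt a hm
  suffices hr0 : r = 0 by
    refine ⟨q, u, ?_⟩
    rw [hau, ← hqr, hr0, add_zero]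
  by_contra hrne
  have hrpos : 0 < r := Nat.pos_of_ne_zero hrne
  -- the root
  set z : S := AdjoinRoot.root _ with hz
  have hzm : z ^ m = algebraMap A S f := by
    have h1 := AdjoinRoot.eval₂_root (Polynomial.X ^ m - Polynomial.C (algebraMap A Loc f))
    rw [Polynomial.eval₂_sub, Polynomial.eval₂_pow, Polynomial.eval₂_X, Polynomial.eval₂_C,
      sub_eq_zero] at h1
    rw [hz, h1, IsScalarTower.algebraMap_apply A Loc S, AdjoinRoot.algebraMap_eq]
  -- π is a unit in S
  have hπS : IsUnit (algebraMap A S π) := by
    rw [IsScalarTower.algebraMap_apply A Loc S]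
    exact (IsLocalization.Away.algebraMap_isUnit π).map _
  obtain ⟨πS, hπSeq⟩ := hπS
  set z' : S := z * ((πS⁻¹ : Sˣ) : S) ^ q with hz'
  have hz'm : z' ^ m = algebraMap A S (π ^ r * (u : A)) := by
    have hf' : f = π ^ (m * q) * (π ^ r * (u : A)) := by
      rw [hau, ← hqr, pow_add, mul_assoc]
    have h1 : algebraMap A S f = (πS : S) ^ (m * q) * algebraMap A S (π ^ r * (u : A)) :=
      (congrArg (algebraMap A S) hf').trans (by rw [map_mul, map_pow, hπSeq])
    rw [hz', mul_pow, hzm, h1, ← pow_mul, mul_comm q m]
    have h2 : ((πS⁻¹ : Sˣ) : S) ^ (m * q) * (πS : S) ^ (m * q) = 1 := by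
      rw [← mul_pow, Units.inv_mul, one_pow]
    calc (πS : S) ^ (m * q) * algebraMap A S (π ^ r * (u : A)) * ((πS⁻¹ : Sˣ) : S) ^ (m * q)
        = (((πS⁻¹ : Sˣ) : S) ^ (m * q) * (πS : S) ^ (m * q)) * algebraMap A S (π ^ r * (u : A)) := by
          ring
      _ = algebraMap A S (π ^ r * (u : A)) := by rw [h2, one_mul]
  have hz'int : IsIntegral A z' := by
    apply IsIntegral.of_pow hm
    rw [hz'm]
    exact isIntegral_algebraMap
  let b : B := ⟨z', hz'int⟩
  have hbm : b ^ m = algebraMap A B (π ^ r * (u : A)) := by
    apply Subtype.ext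
    rw [SubmonoidClass.coe_pow]
    exact hz'm
  set πB : B := algebraMap A B π with hπB
  have hbP : b ∈ Ideal.span {πB} := by
    apply hsp.mem_of_pow_mem m
    rw [hbm, Ideal.mem_span_singleton]
    refine ⟨algebraMap A B (π ^ (r - 1) * (u : A)), ?_⟩
    rw [hπB, ← map_mul]
    congr 1
    rw [← mul_assoc, ← pow_succ', Nat.sub_add_cancel hrpos]
  obtain ⟨b', hb'⟩ := Ideal.mem_span_singleton'.1 hbP
  -- πB ≠ 0
  have hπB0 : πB ≠ 0 := by
    intro h0
    have h1 : ((πB : B) : S) = algebraMap A S π := rfl
    rw [h0, ← hπSeq] at h1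
    exact πS.ne_zero h1.symm
  have hcancel : πB ^ (m - r) * b' ^ m = algebraMap A B (u : A) := by
    have h1 : πB ^ r * (πB ^ (m - r) * b' ^ m) = πB ^ r * algebraMap A B (u : A) := by
      rw [← mul_assoc, ← pow_add, Nat.add_sub_cancel' hrm.le, ← mul_pow, mul_comm πB b', hb', hbm,
        map_mul, map_pow]
    exact mul_left_cancel₀ (pow_ne_zero r hπB0) h1
  have huB : IsUnit (algebraMap A B (u : A)) := u.isUnit.map _
  rw [← hcancel] at huB
  have h1 : IsUnit (πB ^ (m - r)) := isUnit_of_mul_isUnit_left huB
  have h2 : IsUnit πB := (isUnit_pow_iff (by omega)).1 h1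
  exact hsp.ne_top (Ideal.span_singleton_eq_top.2 h2)

end Groth.Agent.S13155
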