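import Groth.Statements.S13156
import Mathlib.Tactic
import Mathlib.Algebra.Polynomial.Taylor
import Mathlib.Algebra.MvPolynomial.Equiv
import Mathlib.Algebra.DualNumber

set_option autoImplicit false
universe u
open scoped Polynomial
open CAlg

namespace Groth.Agent.S13156

section ode

open Polynomial

variable {B : Type u} [CommRing B]

theorem coeff_derivative_mul (μ : B) (H : B[X]) (n : ℕ) :
    (derivative H * (1 + C μ * X)).coeff n =
      H.coeff (n + 1) * ((n : B) + 1) + μ * (H.coeff n * (n : B)) := by
  have e : derivative H * (1 + C μ * X) = derivative H + C μ * derivative H * X := by ring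
  rw [e, coeff_add]
  cases n with
  | zero => simp [coeff_derivative]
  | succ n =>
    rw [coeff_mul_X, coeff_C_mul, coeff_derivative, coeff_derivative]
    push_cast
    rfl

theorem isUnit_natCast_of_lt (p : ℕ) (hu : IsUnit ((Nat.factorial (p - 1) : ℕ) : B)) (n : ℕ)
    (h0 : 0 < n) (hn : n < p) : IsUnit ((n : ℕ) : B) := by
  have hdvd : n ∣ (p - 1).factorial := Nat.dvd_factorial h0 (by omega)
  exact isUnit_of_dvd_unit (Nat.cast_dvd_cast (α := B) hdvd) hu

/-- A polynomial of degree `< p` satisfying `(1 + μT) H' = c H` and `H(0) = 0` vanishes. -/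
theorem eq_zero_of_ode (p : ℕ) (hu : IsUnit ((Nat.factorial (p - 1) : ℕ) : B)) (μ c : B) (H : B[X])
    (hdeg : H.natDegree < p) (hode : derivative H * (1 + C μ * X) = C c * H)
    (h0 : H.coeff 0 = 0) : H = 0 := by
  have hrec : ∀ n : ℕ, H.coeff (n + 1) * ((n : B) + 1) + μ * (H.coeff n * (n : B)) =
      c * H.coeff n := by
    intro n
    rw [← coeff_derivative_mul, hode, coeff_C_mul]
  have hall : ∀ n : ℕ, H.coeff n = 0 := by
    intro n
    induction n with
    | zero => exact h0
    | succ n ih =>
      have h1 := hrec n
      rw [ih, zero_mul, mul_zero, mul_zero, add_zero] at h1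
      by_cases hn : n + 1 < p
      · have hunit := isUnit_natCast_of_lt (B := B) p hu (n + 1) (Nat.succ_pos n) hn
        have h2 : ((n + 1 : ℕ) : B) * H.coeff (n + 1) = 0 := by
          push_cast
          rw [mul_comm]; exact h1
        exact (hunit.mul_right_eq_zero).1 h2
      · exact coeff_eq_zero_of_natDegree_lt (by omega)
  ext n
  rw [hall n, coeff_zero]

/-- The functional equation follows from the differential equation. -/
theorem functional_of_ode (p : ℕ) (hu : IsUnit ((Nat.factorial (p - 1) : ℕ) : B)) (μ s : B)
    (Φ : B[X]) (hdeg : Φ.natDegree < p)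
    (hode : Φ * C (Φ.coeff 1) = derivative Φ * (1 + C μ * X)) :
    Φ * C (Φ.eval s) - C (Φ.coeff 0 ^ 2) =
      Φ.comp (X + C s + C μ * X * C s) - C (Φ.coeff 0) := by
  set c := Φ.coeff 1 with hc
  set c0 := Φ.coeff 0 with hc0
  set u : B[X] := X + C s + C μ * X * C s with hu_def
  have hrec : ∀ n : ℕ, Φ.coeff n * c = Φ.coeff (n + 1) * ((n : B) + 1) + μ * (Φ.coeff n * (n : B)) := by
    intro n
    rw [← coeff_derivative_mul, ← hode, coeff_mul_C]
  have hc0c : c0 * c = c := by
    have := hrec 0
    simpa using this
  -- (c0 - 1) kills the higher coefficients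
  have hkill : ∀ n : ℕ, 1 ≤ n → (c0 - 1) * Φ.coeff n = 0 := by
    intro n hn
    induction n with
    | zero => omega
    | succ n ih =>
      rcases Nat.eq_zero_or_pos n with rfl | hpos
      · simp only [zero_add]
        rw [← hc, sub_mul, one_mul, hc0c, sub_self]
      · have h1 := hrec n
        have h2 : (c0 - 1) * Φ.coeff n = 0 := ih hpos
        by_cases hn' : n + 1 < p
        · have hunit := isUnit_natCast_of_lt (B := B) p hu (n + 1) (Nat.succ_pos n) hn'
          have h3 : ((n + 1 : ℕ) : B) * ((c0 - 1) * Φ.coeff (n + 1)) = 0 := by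
            push_cast
            have : ((n : B) + 1) * ((c0 - 1) * Φ.coeff (n + 1)) =
                (c0 - 1) * (Φ.coeff (n + 1) * ((n : B) + 1)) := by ring
            rw [this]
            have h4 : Φ.coeff (n + 1) * ((n : B) + 1) = Φ.coeff n * c - μ * (Φ.coeff n * (n : B)) := by
              rw [h1]; ring
            rw [h4]
            have : (c0 - 1) * (Φ.coeff n * c - μ * (Φ.coeff n * (n : B))) =
                ((c0 - 1) * Φ.coeff n) * (c - μ * (n : B)) := by ring
            rw [this, h2, zero_mul]
          exact (hunit.mul_right_eq_zero).1 h3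
        · rw [coeff_eq_zero_of_natDegree_lt (by omega), mul_zero]
  have hkill' : C (c0 - 1) * Φ = C ((c0 - 1) * c0) := by
    ext n
    rw [coeff_C_mul, coeff_C]
    rcases Nat.eq_zero_or_pos n with rfl | hpos
    · simp [hc0]
    · rw [hkill n hpos, if_neg (by omega)]
  have heval : (c0 - 1) * Φ.eval s = (c0 - 1) * c0 := by
    have := congrArg (eval s) hkill'
    simpa using this
  -- the difference
  set G : B[X] := Φ * C (Φ.eval s) - C (c0 ^ 2) - (Φ.comp u - C c0) with hG
  suffices hG0 : G = 0 by
    have := sub_eq_zero.1 hG0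
    exact this
  have hu' : derivative u = 1 + C μ * C s := by
    simp only [hu_def, derivative_add, derivative_X, derivative_C, derivative_mul, add_zero,
      mul_one, zero_mul, mul_zero, zero_add]
  have hufac : derivative u * (1 + C μ * X) = 1 + C μ * u := by
    rw [hu', hu_def]; ring
  apply eq_zero_of_ode p hu μ c G
  · -- degree
    have h1 : (Φ * C (Φ.eval s)).natDegree ≤ Φ.natDegree := natDegree_mul_C_le _ _
    have h2 : (C (c0 ^ 2) : B[X]).natDegree = 0 := natDegree_C _
    have h3 : (C c0 : B[X]).natDegree = 0 := natDegree_C _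
    have hudeg : u.natDegree ≤ 1 := by
      have : u = C (1 + μ * s) * X + C s := by
        rw [hu_def]; simp only [C_add, C_mul, C_1]; ring
      rw [this]
      exact natDegree_linear_le
    have h4 : (Φ.comp u).natDegree ≤ Φ.natDegree := by
      refine (natDegree_comp_le).trans ?_
      calc Φ.natDegree * u.natDegree ≤ Φ.natDegree * 1 := Nat.mul_le_mul_left _ hudeg
        _ = Φ.natDegree := mul_one _
    have h5 : (Φ * C (Φ.eval s) - C (c0 ^ 2)).natDegree ≤ Φ.natDegree :=
      (natDegree_sub_le _ _).trans (max_le h1 (by rw [h2]; exact Nat.zero_le _))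
    have h6 : (Φ.comp u - C c0).natDegree ≤ Φ.natDegree :=
      (natDegree_sub_le _ _).trans (max_le h4 (by rw [h3]; exact Nat.zero_le _))
    exact lt_of_le_of_lt ((natDegree_sub_le _ _).trans (max_le h5 h6)) hdeg
  · -- the differential equation
    have hcomp : (1 + C μ * u) * (derivative Φ).comp u = Φ.comp u * C c := by
      have := congrArg (fun q => q.comp u) hode
      simp only [mul_comp, add_comp, one_comp, C_comp, X_comp] at this
      rw [this]; ring
    have hd : derivative G = derivative Φ * C (Φ.eval s) - derivative u * (derivative Φ).comp u := by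
      rw [hG]
      simp only [derivative_sub, derivative_mul, derivative_C, derivative_comp, mul_zero, add_zero,
        sub_zero]
    have hcc : c * c0 ^ 2 - c * c0 = 0 := by
      have : c * c0 = c := by rw [mul_comm]; exact hc0c
      rw [pow_two, ← mul_assoc, this, this, sub_self]
    rw [hd, sub_mul]
    have e1 : derivative Φ * C (Φ.eval s) * (1 + C μ * X) = Φ * C c * C (Φ.eval s) := by
      rw [hode]; ring
    have e2 : derivative u * (derivative Φ).comp u * (1 + C μ * X) = Φ.comp u * C c := by
      rw [← hcomp, ← hufac]; ring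
    rw [e1, e2, hG]
    have e3 : C c * (Φ * C (Φ.eval s) - C (c0 ^ 2) - (Φ.comp u - C c0)) =
        Φ * C c * C (Φ.eval s) - Φ.comp u * C c - C (c * c0 ^ 2 - c * c0) := by
      simp only [C_sub, C_mul, C_pow]; ring
    rw [e3, hcc, C_0, sub_zero]
  · -- constant coefficient
    have hcz : (Φ.comp u).coeff 0 = Φ.eval s := by
      rw [coeff_zero_eq_eval_zero, eval_comp]
      simp [hu_def]
    rw [hG]
    simp only [coeff_sub, coeff_mul_C, coeff_C_zero, hcz]
    rw [← hc0]
    have : c0 * Φ.eval s - c0 ^ 2 - (Φ.eval s - c0) = (c0 - 1) * Φ.eval s - (c0 - 1) * c0 := by ring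
    rw [this, heval, sub_self]

end ode

/-- Let p be a prime number, A a commutative ring in which (p−1)! is invertible, μ an element of A, and
F ∈ A[X] a polynomial of degree at most p − 1 with coefficients a_0, a_1, …. Then the identity
F(S)·F(T) − a_0² = F(S + T + μST) − a_0 holds in the polynomial ring A[S, T] if and only if a_1·F(S)
= F′(S)·(1 + μS) holds in A[S], F′ the formal derivative. (The published statement is over the
quotient of a discrete valuation ring of residue characteristic p by a nonzero element of its
maximal ideal; only the invertibility of 1, …, p − 1 is used, so an arbitrary such ring A is allowed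
here.) -/
theorem result (A : Type u) [CommRing A] (p : ℕ) [Fact p.Prime]
    (hu : IsUnit ((Nat.factorial (p - 1) : ℕ) : A)) (μ : A) (F : A[X]) (hF : F.natDegree < p) :
    (Polynomial.aeval (MvPolynomial.X 0 : MvPolynomial (Fin 2) A) F *
          Polynomial.aeval (MvPolynomial.X 1 : MvPolynomial (Fin 2) A) F - MvPolynomial.C (F.coeff 0 ^ 2) =
        Polynomial.aeval (MvPolynomial.X 0 + MvPolynomial.X 1 +
            MvPolynomial.C μ * MvPolynomial.X 0 * MvPolynomial.X 1 : MvPolynomial (Fin 2) A) F -
          MvPolynomial.C (F.coeff 0)) ↔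
      F * Polynomial.C (F.coeff 1) = Polynomial.derivative F * (1 + Polynomial.C μ * Polynomial.X) := by
  classical
  let B := MvPolynomial (Fin 1) A
  let e := MvPolynomial.finSuccEquiv A 1
  let s : B := MvPolynomial.X 0
  let Φ : Polynomial B := F.map (algebraMap A B)
  let μ' : B := algebraMap A B μ
  let u : Polynomial B := Polynomial.X + Polynomial.C s + Polynomial.C μ' * Polynomial.X * Polynomial.C s
  have h_e0 : e (MvPolynomial.X 0) = Polynomial.X := MvPolynomial.finSuccEquiv_X_zero
  have h_e1 : e (MvPolynomial.X 1) = Polynomial.C s :=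
    MvPolynomial.finSuccEquiv_X_succ (R := A) (n := 1) (j := 0)
  have h_eC : ∀ a : A, e (MvPolynomial.C a) = Polynomial.C (algebraMap A B a) := by
    intro a
    rw [← MvPolynomial.algebraMap_eq, AlgEquiv.commutes]
    rfl
  have h_aeval : ∀ v : MvPolynomial (Fin 2) A, e (Polynomial.aeval v F) = Polynomial.aeval (e v) F :=
    fun v => (Polynomial.aeval_algHom_apply e v F).symm
  have h_comp : ∀ w : Polynomial B, Polynomial.aeval w F = Φ.comp w := by
    intro w
    simp only [Φ, Polynomial.comp, Polynomial.eval₂_map, Polynomial.aeval_def]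
    rfl
  have hΦ0 : Φ.coeff 0 = algebraMap A B (F.coeff 0) := Polynomial.coeff_map _ _
  have hΦ1 : Φ.coeff 1 = algebraMap A B (F.coeff 1) := Polynomial.coeff_map _ _
  have key : (Polynomial.aeval (MvPolynomial.X 0 : MvPolynomial (Fin 2) A) F *
          Polynomial.aeval (MvPolynomial.X 1 : MvPolynomial (Fin 2) A) F - MvPolynomial.C (F.coeff 0 ^ 2) =
        Polynomial.aeval (MvPolynomial.X 0 + MvPolynomial.X 1 +
            MvPolynomial.C μ * MvPolynomial.X 0 * MvPolynomial.X 1 : MvPolynomial (Fin 2) A) F -
          MvPolynomial.C (F.coeff 0)) ↔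
      (Φ * Polynomial.C (Φ.eval s) - Polynomial.C (Φ.coeff 0 ^ 2) =
        Φ.comp u - Polynomial.C (Φ.coeff 0)) := by
    rw [← e.injective.eq_iff]
    simp only [map_sub, map_mul, map_add, h_aeval, h_e0, h_e1, h_eC, h_comp, Polynomial.comp_X,
      Polynomial.comp_C, hΦ0, map_pow]
    rfl
  rw [key]
  have hΦode : (Φ * Polynomial.C (Φ.coeff 1) =
      Polynomial.derivative Φ * (1 + Polynomial.C μ' * Polynomial.X)) ↔
      (F * Polynomial.C (F.coeff 1) = Polynomial.derivative F * (1 + Polynomial.C μ * Polynomial.X)) := by
    have hinj : Function.Injective (Polynomial.map (algebraMap A B)) :=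
      Polynomial.map_injective _ (MvPolynomial.C_injective (Fin 1) A)
    rw [← hinj.eq_iff]
    simp only [Polynomial.map_mul, Polynomial.map_add, Polynomial.map_one, Polynomial.map_C,
      Polynomial.map_X, hΦ1]
    rw [← Polynomial.derivative_map]
  rw [← hΦode]
  constructor
  · intro h
    -- differentiate and evaluate at 0
    have h1 : (Polynomial.derivative (Φ * Polynomial.C (Φ.eval s) -
        Polynomial.C (Φ.coeff 0 ^ 2))).eval 0 =
        (Polynomial.derivative (Φ.comp u - Polynomial.C (Φ.coeff 0))).eval 0 := by rw [h]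
    have hu' : Polynomial.derivative u = 1 + Polynomial.C μ' * Polynomial.C s := by
      simp only [u, Polynomial.derivative_add, Polynomial.derivative_X, Polynomial.derivative_C,
        Polynomial.derivative_mul, add_zero, mul_one, zero_mul, mul_zero, zero_add]
    have hu0 : u.eval 0 = s := by simp [u]
    rw [Polynomial.derivative_sub] at h1
    simp only [Polynomial.derivative_sub, Polynomial.derivative_mul, Polynomial.derivative_C,
      Polynomial.derivative_comp, mul_zero, add_zero, sub_zero, hu', Polynomial.eval_mul,
      Polynomial.eval_add, Polynomial.eval_one, Polynomial.eval_C, Polynomial.eval_comp, hu0] at h1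
    -- h1 : Φ'.eval 0 * Φ.eval s = (1 + μ' * s) * Φ'.eval s
    have h2 : (Polynomial.derivative Φ).eval 0 = Φ.coeff 1 := by
      rw [← Polynomial.coeff_zero_eq_eval_zero, Polynomial.coeff_derivative]
      simp
    rw [h2] at h1
    -- transfer to the polynomial ring `A[X]` through `B = A[s]`
    let θ : B →ₐ[A] Polynomial A := MvPolynomial.aeval (fun _ => Polynomial.X)
    have hθs : θ s = Polynomial.X := MvPolynomial.aeval_X (fun _ => Polynomial.X) 0
    have hθF : ∀ P : Polynomial A, θ ((P.map (algebraMap A B)).eval s) = P := by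
      intro P
      rw [Polynomial.eval_map_algebraMap, ← Polynomial.aeval_algHom_apply, hθs,
        Polynomial.aeval_X_left_apply]
    have h3 := congrArg θ h1
    rw [map_mul, map_mul, map_add, map_one, map_mul, hθs] at h3
    have h4 : θ (Φ.eval s) = F := hθF F
    have h5 : θ ((Polynomial.derivative Φ).eval s) = Polynomial.derivative F := by
      have : Polynomial.derivative Φ = (Polynomial.derivative F).map (algebraMap A B) :=
        Polynomial.derivative_map F _
      rw [this]
      exact hθF _
    have h6 : θ (Φ.coeff 1) = Polynomial.C (F.coeff 1) := by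
      rw [hΦ1, AlgHom.commutes]; rfl
    have h7 : θ μ' = Polynomial.C μ := by
      simp only [μ']
      rw [AlgHom.commutes]; rfl
    rw [h4, h5, h6, h7] at h3
    rw [hΦode]
    rw [mul_comm F, h3]; ring
  · intro h
    have huB : IsUnit ((Nat.factorial (p - 1) : ℕ) : B) := by
      have := hu.map (algebraMap A B)
      rwa [map_natCast] at this
    have hdeg : Φ.natDegree < p := lt_of_le_of_lt Polynomial.natDegree_map_le hF
    exact functional_of_ode p huB μ' s Φ hdeg h

end Groth.Agent.S13156
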