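import Groth.Statements.S13157
import Mathlib.Tactic

set_option autoImplicit false
universe u
open scoped Polynomial
open CAlg

namespace Groth.Agent.S13157

open Polynomial in
theorem identity_iff (A : Type u) [CommRing A] (μ : A) (F : A[X]) :
    F * Polynomial.C (F.coeff 1) = Polynomial.derivative F * (1 + Polynomial.C μ * Polynomial.X) ↔
      ∀ n : ℕ, F.coeff n * F.coeff 1 = F.coeff (n + 1) * ((n : A) + 1) + μ * (F.coeff n * (n : A)) := by
  rw [Polynomial.ext_iff]
  refine forall_congr' fun n => ?_
  have e : Polynomial.derivative F * (1 + Polynomial.C μ * Polynomial.X) =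
      Polynomial.derivative F + Polynomial.C μ * Polynomial.derivative F * Polynomial.X := by ring
  rw [e, Polynomial.coeff_mul_C, Polynomial.coeff_add]
  cases n with
  | zero =>
    simp [Polynomial.coeff_derivative]
  | succ n =>
    rw [Polynomial.coeff_mul_X, Polynomial.coeff_C_mul, Polynomial.coeff_derivative,
      Polynomial.coeff_derivative]
    push_cast
    rfl

/-- (i) ⇔ (ii): let p be a prime number, A a commutative ring in which (p−1)! is invertible, μ ∈ A, and
F ∈ A[X] a polynomial of degree at most p − 1 with constant term a_0 = 1 and coefficients a_1, a_2,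
…. Then the relations a_{r−1}·a_1 = (r − 1)μ·a_{r−1} + r·a_r for 1 ≤ r ≤ p (with a_p = 0), written
here as the single identity a_1·F = F′·(1 + μX), hold if and only if r!·a_r = ∏_{k=0}^{r−1} (a_1 −
kμ) for every 1 ≤ r ≤ p − 1 and ∏_{k=0}^{p−1} (a_1 − kμ) = 0. (The published statement lists the
relations only for 1 ≤ r ≤ p − 1, while its proof uses and derives the relation for r = p as well,
which is needed for the vanishing of the last product; it is included here. The published setting is
the quotient of a discrete valuation ring of residue characteristic p by a nonzero non-unit; only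
the invertibility of 1, …, p − 1 is used.) -/
theorem result (A : Type u) [CommRing A] (p : ℕ) [Fact p.Prime]
    (hu : IsUnit ((Nat.factorial (p - 1) : ℕ) : A)) (μ : A) (F : A[X]) (hF : F.natDegree < p)
    (h0 : F.coeff 0 = 1) :
    F * Polynomial.C (F.coeff 1) = Polynomial.derivative F * (1 + Polynomial.C μ * Polynomial.X) ↔
      ((∀ r : ℕ, 1 ≤ r → r < p →
          (r.factorial : A) * F.coeff r = ∏ k ∈ Finset.range r, (F.coeff 1 - (k : A) * μ)) ∧
        ∏ k ∈ Finset.range p, (F.coeff 1 - (k : A) * μ) = 0) := by
  classical
  rw [identity_iff]
  have hunit : ∀ n : ℕ, n < p → IsUnit ((n.factorial : ℕ) : A) := by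
    intro n hn
    have hdvd : n.factorial ∣ (p - 1).factorial := Nat.factorial_dvd_factorial (by omega)
    exact isUnit_of_dvd_unit (Nat.cast_dvd_cast (α := A) hdvd) hu
  have hdeg : ∀ n : ℕ, p ≤ n → F.coeff n = 0 := fun n hn =>
    Polynomial.coeff_eq_zero_of_natDegree_lt (lt_of_lt_of_le hF hn)
  constructor
  · intro h
    have key : ∀ r : ℕ, (r.factorial : A) * F.coeff r =
        ∏ k ∈ Finset.range r, (F.coeff 1 - (k : A) * μ) := by
      intro r
      induction r with
      | zero => simp [h0]
      | succ r ih =>
        rw [Finset.prod_range_succ, ← ih, Nat.factorial_succ]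
        push_cast
        have := h r
        linear_combination (-(r.factorial : A)) * this
    refine ⟨fun r _ _ => key r, ?_⟩
    rw [← key p, hdeg p le_rfl, mul_zero]
  · rintro ⟨h1, h2⟩
    have key : ∀ r : ℕ, r < p → (r.factorial : A) * F.coeff r =
        ∏ k ∈ Finset.range r, (F.coeff 1 - (k : A) * μ) := by
      intro r hr
      rcases Nat.eq_zero_or_pos r with rfl | hpos
      · simp [h0]
      · exact h1 r hpos hr
    intro n
    rcases lt_trichotomy (n + 1) p with hlt | heq | hgt
    · have hu' := hunit n (by omega)
      apply hu'.mul_left_cancel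
      have k1 := key n (by omega)
      have k2 := key (n + 1) hlt
      rw [Finset.prod_range_succ, ← k1, Nat.factorial_succ] at k2
      push_cast at k2
      linear_combination -k2
    · have hu' := hunit n (by omega)
      apply hu'.mul_left_cancel
      have k1 := key n (by omega)
      rw [← heq, Finset.prod_range_succ, ← k1] at h2
      rw [hdeg (n + 1) (by omega)]
      linear_combination h2
    · rw [hdeg (n + 1) (by omega), hdeg n (by omega)]
      ring

end Groth.Agent.S13157
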