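import Groth.Statements.S13158
import Mathlib.Tactic
import Mathlib.Algebra.CharP.Lemmas
import Mathlib.RingTheory.Flat.FaithfullyFlat.Algebra
import Mathlib.RingTheory.Localization.FractionRing

set_option autoImplicit false
universe u
open CAlg

namespace Groth.Agent.S13158

section base

open Polynomial

variable {A : Type u} [CommRing A] [IsDomain A] [IsIntegrallyClosed A]

/-- Base case: in an integrally closed domain, if `ℓ ^ (p - 1) ∣ p` then
`ℓ ^ p ∣ x ^ p - 1 ↔ ℓ ∣ x - 1`. -/
theorem base_iff (p : ℕ) (hp : p.Prime) (ℓ : A) (hℓ : ℓ ≠ 0) (h : ℓ ^ (p - 1) ∣ (p : A)) (x : A) :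
    ℓ ^ p ∣ x ^ p - 1 ↔ ℓ ∣ x - 1 := by
  obtain ⟨c, hc⟩ := h
  have hpow : ℓ ^ p = ℓ ^ (p - 1) * ℓ := by
    rw [← pow_succ, Nat.sub_add_cancel hp.one_le]
  constructor
  · rintro ⟨z, hz⟩
    let K := FractionRing A
    set L : K := algebraMap A K ℓ with hL
    have hL0 : L ≠ 0 := by
      rw [hL, Ne, map_eq_zero_iff _ (IsFractionRing.injective A K)]
      exact hℓ
    set t : K := algebraMap A K (x - 1) / L with ht
    have hx : algebraMap A K x = L * t + 1 := by
      rw [ht, mul_div_cancel₀ _ hL0, map_sub, map_one]; ring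
    set cK : K := algebraMap A K c with hcK
    have hpK : (p : K) = L ^ (p - 1) * cK := by
      rw [hL, hcK, ← map_pow, ← map_mul, ← hc, map_natCast]
    set Z : K := algebraMap A K z with hZ
    have hzK : L ^ p * Z = (L * t + 1) ^ p - 1 := by
      rw [hL, hZ, ← map_pow, ← map_mul, ← hz, map_sub, map_pow, map_one, hx]
    -- the monic polynomial
    let lower : A[X] := ∑ k ∈ Finset.Ioo 0 p, C (c * ℓ ^ (k - 1) * ((p.choose k / p : ℕ) : A)) * X ^ k - C z
    have hdeg : lower.degree < (p : WithBot ℕ) := by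
      refine (degree_sub_le _ _).trans_lt (max_lt ?_ ?_)
      · refine (degree_sum_le _ _).trans_lt ?_
        refine (Finset.sup_lt_iff (WithBot.bot_lt_coe p)).2 ?_
        intro k hk
        refine (degree_C_mul_X_pow_le _ _).trans_lt ?_
        exact WithBot.coe_lt_coe.2 (Finset.mem_Ioo.1 hk).2
      · refine degree_C_le.trans_lt ?_
        exact_mod_cast hp.pos
    have hmonic : (X ^ p + lower).Monic := monic_X_pow_add hdeg
    have hroot : aeval t (X ^ p + lower) = 0 := by
      apply mul_left_cancel₀ (pow_ne_zero p hL0)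
      rw [mul_zero]
      simp only [lower, map_add, map_sub, map_sum, map_mul, map_pow, aeval_X, aeval_C, map_natCast]
      have hexp := add_pow_prime_eq' hp (L * t) (1 : K)
      simp only [one_pow, mul_one] at hexp
      rw [hexp] at hzK
      have hsum : L ^ p * ∑ k ∈ Finset.Ioo 0 p,
          (algebraMap A K c * algebraMap A K ℓ ^ (k - 1) * ((p.choose k / p : ℕ) : K)) * t ^ k =
          (p : K) * ∑ k ∈ Finset.Ioo 0 p, (L * t) ^ k * ((p.choose k / p : ℕ) : K) := by
        rw [Finset.mul_sum, Finset.mul_sum]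
        refine Finset.sum_congr rfl (fun k hk => ?_)
        have hk1 : 1 ≤ k := (Finset.mem_Ioo.1 hk).1
        have e1 : L ^ k = L ^ (k - 1) * L := by rw [← pow_succ, Nat.sub_add_cancel hk1]
        have e2 : L ^ p = L ^ (p - 1) * L := by rw [← pow_succ, Nat.sub_add_cancel hp.one_le]
        rw [hpK, mul_pow, e1, e2, ← hL, ← hcK]
        ring
      have : L ^ p * (t ^ p + (∑ k ∈ Finset.Ioo 0 p,
          (algebraMap A K c * algebraMap A K ℓ ^ (k - 1) * ((p.choose k / p : ℕ) : K)) * t ^ k -
            algebraMap A K z)) =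
          L ^ p * t ^ p + L ^ p * ∑ k ∈ Finset.Ioo 0 p,
            (algebraMap A K c * algebraMap A K ℓ ^ (k - 1) * ((p.choose k / p : ℕ) : K)) * t ^ k -
            L ^ p * Z := by
        rw [hZ]; ring
      rw [this, hsum, hzK, mul_pow]
      ring
    have hint : IsIntegral A t := ⟨X ^ p + lower, hmonic, hroot⟩
    obtain ⟨y, hy⟩ := IsIntegrallyClosed.isIntegral_iff.1 hint
    refine ⟨y, ?_⟩
    apply IsFractionRing.injective A K
    rw [map_mul, hy, ht, ← hL, mul_div_cancel₀ _ hL0]
  · rintro ⟨y, hy⟩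
    have hx : x = ℓ * y + 1 := by linear_combination hy
    obtain ⟨r, hr⟩ := exists_add_pow_prime_eq hp (ℓ * y) (1 : A)
    refine ⟨y ^ p + c * y * r, ?_⟩
    rw [hx, hr, hc, mul_pow, hpow]
    ring

end base

/-- Let R be a discrete valuation ring of characteristic zero whose maximal ideal contains the prime
number p, let n ≥ 1, and let λ be a nonzero element of R such that λ^(p^(n−1)(p−1)) divides p (the
condition v(p) ≥ p^(n−1)(p−1)·v(λ) under which the polynomial ((1 + λT)^(p^n) − 1)/λ^(p^n) has
coefficients in R). Let A be an integrally closed integral domain which is a faithfully flat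
R-algebra. Then for every unit x of A, λ^(p^n) divides x^(p^n) − 1 in A if and only if λ divides x −
1 in A. -/
theorem result (R : Type u) [CommRing R]
    [IsDomain R] [IsDiscreteValuationRing R] [CharZero R] (p n : ℕ) [Fact p.Prime] (hn : 1 ≤ n)
    (hp : (p : R) ∈ IsLocalRing.maximalIdeal R) (lam : R) (hlam : lam ≠ 0)
    (hstar : lam ^ (p ^ (n - 1) * (p - 1)) ∣ (p : R))
    (A : Type u) [CommRing A] [IsDomain A] [IsIntegrallyClosed A] [Algebra R A] [Module.FaithfullyFlat R A]
    (x : Aˣ) :
    (algebraMap R A lam ^ p ^ n ∣ (x : A) ^ p ^ n - 1) ↔ (algebraMap R A lam ∣ (x : A) - 1) := by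
  have hpprime : p.Prime := Fact.out
  have hinj : Function.Injective (algebraMap R A) := FaithfulSMul.algebraMap_injective R A
  -- general statement by induction on n
  have key : ∀ n : ℕ, 1 ≤ n → ∀ (lam : R), lam ≠ 0 → lam ^ (p ^ (n - 1) * (p - 1)) ∣ (p : R) →
      ∀ x : A, (algebraMap R A lam ^ p ^ n ∣ x ^ p ^ n - 1) ↔ (algebraMap R A lam ∣ x - 1) := by
    intro n hn
    induction n, hn using Nat.le_induction with
    | base =>
      intro lam hlam hstar x
      have hl0 : algebraMap R A lam ≠ 0 := by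
        rw [Ne, map_eq_zero_iff _ hinj]; exact hlam
      have hdvd : algebraMap R A lam ^ (p - 1) ∣ (p : A) := by
        have := map_dvd (algebraMap R A) hstar
        simpa using this
      simpa using base_iff p hpprime (algebraMap R A lam) hl0 hdvd x
    | succ n hn ih =>
      intro lam hlam hstar x
      have hl0 : algebraMap R A lam ≠ 0 := by
        rw [Ne, map_eq_zero_iff _ hinj]; exact hlam
      have hexp : p ^ (n + 1 - 1) * (p - 1) = p * (p ^ (n - 1) * (p - 1)) := by
        rw [Nat.add_sub_cancel, ← mul_assoc, ← pow_succ', Nat.sub_add_cancel hn]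
      have h1 : (lam ^ p) ^ (p ^ (n - 1) * (p - 1)) ∣ (p : R) := by
        rw [← pow_mul, ← hexp]; exact hstar
      have h2 := ih (lam ^ p) (pow_ne_zero p hlam) h1 (x ^ p)
      have hdvd : algebraMap R A lam ^ (p - 1) ∣ (p : A) := by
        have h3 : lam ^ (p - 1) ∣ lam ^ (p ^ (n + 1 - 1) * (p - 1)) := by
          apply pow_dvd_pow
          exact Nat.le_mul_of_pos_left _ (pow_pos hpprime.pos _)
        have := map_dvd (algebraMap R A) (h3.trans hstar)
        simpa using this
      have h4 := base_iff p hpprime (algebraMap R A lam) hl0 hdvd x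
      rw [map_pow] at h2
      rw [← h4, ← h2, ← pow_mul, ← pow_mul, ← pow_succ']
  exact key n hn lam hlam hstar x

end Groth.Agent.S13158
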