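import Groth.Statements.S13159
import Mathlib.RingTheory.IntegralClosure.IntegrallyClosed
import Mathlib.RingTheory.DedekindDomain.Dvr
import Mathlib.RingTheory.Algebraic.Integral

set_option autoImplicit false
universe u
open CAlg

namespace Groth.Agent.S13159

/-- Let R be a discrete valuation ring with fraction field K, C an R-algebra which is finitely generated
as an R-module (the coordinate ring of a finite R-scheme G), and A an integral domain which is an
R-algebra with injective structure map and fraction field L, K → L being compatible, such that every
element of L algebraic over K lies in the image of K (the condition satisfied by the rings of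
nonempty opens of an R-scheme with geometrically integral fibres). Then every R-algebra homomorphism
C → A factors uniquely through the structure map R → A: the points of G with values in A are the
R-points of G. (The published statement is that for Y → Spec R with geometrically integral fibres
and G finite flat, the map H¹(Y, G) → H⁰(Y_Zar, R¹f_*G) from the Leray spectral sequence of Y_fl →
Y_Zar is bijective; this row is the step asserting that G restricted to the Zariski site of Y is the
constant sheaf G(R), for an affine open with function ring A.) -/
theorem result (R : Type u) [CommRing R]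
    [IsDomain R] [IsDiscreteValuationRing R] (K : Type u) [Field K] [Algebra R K] [IsFractionRing R K]
    (C : Type u) [CommRing C] [Algebra R C] [Module.Finite R C]
    (A : Type u) [CommRing A] [IsDomain A] [Algebra R A] (hinj : Function.Injective (algebraMap R A))
    (L : Type u) [Field L] [Algebra A L] [IsFractionRing A L] [Algebra R L] [Algebra K L]
    [IsScalarTower R A L] [IsScalarTower R K L]
    (hac : ∀ x : L, IsAlgebraic K x → x ∈ (algebraMap K L).range)
    (φ : C →ₐ[R] A) : ∃! ψ : C →ₐ[R] R, φ = (Algebra.ofId R A).comp ψ := by
  classical
  have key : ∀ c : C, ∃ r : R, φ c = algebraMap R A r := by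
    intro c
    have hc : IsIntegral R c := Algebra.IsIntegral.isIntegral c
    have h1 : IsIntegral R (φ c) := hc.map φ
    have h2 : IsIntegral R (algebraMap A L (φ c)) := h1.map (IsScalarTower.toAlgHom R A L)
    have h3 : IsAlgebraic K (algebraMap A L (φ c)) := h2.isAlgebraic.extendScalars (IsFractionRing.injective R K)
    obtain ⟨y, hy⟩ := hac _ h3
    have h4 : IsIntegral R y := by
      rw [← isIntegral_algebraMap_iff (algebraMap K L).injective, hy]
      exact h2
    obtain ⟨r, hr⟩ := IsIntegrallyClosed.isIntegral_iff.1 h4
    refine ⟨r, ?_⟩
    apply IsFractionRing.injective A L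
    rw [← hy, ← hr, ← IsScalarTower.algebraMap_apply R K L, ← IsScalarTower.algebraMap_apply R A L]
  have hmem : ∀ c : C, φ c ∈ (⊥ : Subalgebra R A) := by
    intro c
    obtain ⟨r, hr⟩ := key c
    rw [hr]
    exact Subalgebra.algebraMap_mem _ r
  let e := Algebra.botEquivOfInjective hinj
  let ψ : C →ₐ[R] R := (e : (⊥ : Subalgebra R A) →ₐ[R] R).comp (φ.codRestrict ⊥ hmem)
  have hψ : ∀ c : C, algebraMap R A (ψ c) = φ c := by
    intro c
    have : e.symm (ψ c) = ⟨φ c, hmem c⟩ := by
      change e.symm (e ⟨φ c, hmem c⟩) = _
      rw [AlgEquiv.symm_apply_apply]
    have h5 := congrArg Subtype.val this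
    simpa [e, Algebra.botEquivOfInjective] using h5
  refine ⟨ψ, ?_, ?_⟩
  · ext c
    simp only [AlgHom.comp_apply, Algebra.ofId_apply, hψ]
  · intro ψ' h'
    ext c
    apply hinj
    rw [hψ]
    have := congrArg (fun f => f c) h'
    simp only [AlgHom.comp_apply, Algebra.ofId_apply] at this
    exact this.symm

end Groth.Agent.S13159
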