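import Groth.Statements.S13160
import Mathlib.RingTheory.WittVector.Identities
import Mathlib.RingTheory.WittVector.Domain
import Mathlib.RingTheory.WittVector.InitTail
import Mathlib.RingTheory.WittVector.Teichmuller
import Mathlib.RingTheory.Valuation.ValuationRing
import Mathlib.Algebra.CharP.Basic
import Mathlib.Tactic

set_option autoImplicit false
universe u
open CAlg

namespace Groth.Agent.S13160

section witt

variable {p : ℕ} [hp : Fact p.Prime] {S : Type u} [CommRing S] [CharP S p]

open WittVector

/-- Decomposition of a Witt vector into its Teichmüller part and a Verschiebung. -/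
theorem eq_teichmuller_add_verschiebung (w : WittVector p S) :
    w = teichmuller p (w.coeff 0) + verschiebung (w.shift 1) := by
  ext n
  rw [coeff_add_of_disjoint]
  · cases n with
    | zero => rw [teichmuller_coeff_zero, verschiebung_coeff_zero, add_zero]
    | succ n =>
      rw [teichmuller_coeff_pos p _ _ (Nat.succ_pos n), verschiebung_coeff_succ, shift_coeff,
        zero_add, add_comm]
  · intro n
    cases n with
    | zero => right; exact verschiebung_coeff_zero _
    | succ n => left; exact teichmuller_coeff_pos p _ _ (Nat.succ_pos n)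

theorem frobenius_teichmuller_eq_zero (x : S) (hx : x ^ p = 0) :
    frobenius (teichmuller p x) = 0 := by
  ext n
  rw [coeff_frobenius_charP, zero_coeff]
  cases n with
  | zero => rw [teichmuller_coeff_zero, hx]
  | succ n =>
    rw [teichmuller_coeff_pos p _ _ (Nat.succ_pos n), zero_pow hp.out.ne_zero]

theorem teichmuller_mul_of_pow_eq_zero (x : S) (hx : x ^ p = 0) (w : WittVector p S) :
    teichmuller p x * w = teichmuller p (x * w.coeff 0) := by
  conv_lhs => rw [eq_teichmuller_add_verschiebung w]
  rw [mul_add, ← map_mul, mul_comm (teichmuller p x) (verschiebung _),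
    ← verschiebung_mul_frobenius, frobenius_teichmuller_eq_zero x hx, mul_zero, map_zero, add_zero]

theorem teichmuller_add_of_dvd (x z : S) (hx : x ^ p = 0) :
    teichmuller p x + teichmuller p (x * z) = teichmuller p (x + x * z) := by
  have h1 : teichmuller p x + teichmuller p (x * z) =
      teichmuller p x * (1 + teichmuller p z) := by
    rw [mul_add, mul_one, map_mul]
  rw [h1, teichmuller_mul_of_pow_eq_zero x hx, add_coeff_zero, one_coeff_zero,
    teichmuller_coeff_zero, mul_add, mul_one]

theorem teichmuller_add_of_total (hdiv : ∀ x y : S, x ∣ y ∨ y ∣ x) (x y : S) (hx : x ^ p = 0)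
    (hy : y ^ p = 0) : teichmuller p x + teichmuller p y = teichmuller p (x + y) := by
  rcases hdiv x y with ⟨z, rfl⟩ | ⟨z, rfl⟩
  · exact teichmuller_add_of_dvd x z hx
  · rw [add_comm, add_comm (y * z)]
    exact teichmuller_add_of_dvd y z hy

theorem frobenius_eq_zero_iff (a : WittVector p S) :
    frobenius a = 0 ↔ ∀ n, a.coeff n ^ p = 0 := by
  rw [WittVector.ext_iff]
  simp only [coeff_frobenius_charP, zero_coeff]

theorem coeff_add_of_frobenius_eq_zero (hdiv : ∀ x y : S, x ∣ y ∨ y ∣ x) (n : ℕ) :
    ∀ a b : WittVector p S, frobenius a = 0 → frobenius b = 0 →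
      (a + b).coeff n = a.coeff n + b.coeff n := by
  induction n with
  | zero => intro a b _ _; exact add_coeff_zero a b
  | succ n ih =>
    intro a b ha hb
    rw [frobenius_eq_zero_iff] at ha hb
    have ha' : frobenius (a.shift 1) = 0 := by
      rw [frobenius_eq_zero_iff]; intro m; rw [shift_coeff]; exact ha _
    have hb' : frobenius (b.shift 1) = 0 := by
      rw [frobenius_eq_zero_iff]; intro m; rw [shift_coeff]; exact hb _
    have e : a + b = teichmuller p (a.coeff 0 + b.coeff 0) +
        verschiebung (a.shift 1 + b.shift 1) := by
      conv_lhs => rw [eq_teichmuller_add_verschiebung a, eq_teichmuller_add_verschiebung b]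
      rw [← teichmuller_add_of_total hdiv _ _ (ha 0) (hb 0), map_add]
      ring
    rw [e, coeff_add_of_disjoint]
    · rw [teichmuller_coeff_pos p _ _ (Nat.succ_pos n), verschiebung_coeff_succ, zero_add,
        ih _ _ ha' hb', shift_coeff, shift_coeff, add_comm 1 n]
    · intro m
      cases m with
      | zero => right; exact verschiebung_coeff_zero _
      | succ m => left; exact teichmuller_coeff_pos p _ _ (Nat.succ_pos m)

end witt

/-- Let R be a discrete valuation ring, p a prime number and λ an element of R dividing p (so that R/λR
is an 𝔽_p-algebra), and let a and b be p-typical Witt vectors with coefficients in R/λR which are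
killed by the Frobenius endomorphism. Then the Witt sum a + b has components a_n + b_n for every n.
(The published statement allows an arbitrary λ ∈ R and is stated for Witt vectors with finitely many
nonzero components; this row assumes that λ divides p, so that p = 0 in R/λR, and allows all Witt
vectors.) -/
theorem result (R : Type u) [CommRing R] [IsDomain R]
    [IsDiscreteValuationRing R] (p : ℕ) [Fact p.Prime] (lam : R) (hlam : lam ∣ (p : R))
    (a b : WittVector p (R ⧸ Ideal.span {lam})) (ha : WittVector.frobenius a = 0)
    (hb : WittVector.frobenius b = 0) (n : ℕ) : (a + b).coeff n = a.coeff n + b.coeff n := by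
  have hpprime : p.Prime := Fact.out
  rcases subsingleton_or_nontrivial (R ⧸ Ideal.span {lam}) with hsub | hnon
  · exact Subsingleton.elim _ _
  · have hp0 : ((p : ℕ) : R ⧸ Ideal.span {lam}) = 0 := by
      rw [← map_natCast (Ideal.Quotient.mk (Ideal.span {lam}))]
      exact Ideal.Quotient.eq_zero_iff_mem.2 (Ideal.mem_span_singleton.2 hlam)
    have : CharP (R ⧸ Ideal.span {lam}) p := (CharP.charP_iff_prime_eq_zero hpprime).2 hp0
    have hdiv : ∀ x y : R ⧸ Ideal.span {lam}, x ∣ y ∨ y ∣ x := by
      intro x y
      obtain ⟨x', rfl⟩ := Ideal.Quotient.mk_surjective x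
      obtain ⟨y', rfl⟩ := Ideal.Quotient.mk_surjective y
      obtain ⟨c, hc | hc⟩ := ValuationRing.cond x' y'
      · left
        exact ⟨Ideal.Quotient.mk _ c, by rw [← map_mul, hc]⟩
      · right
        exact ⟨Ideal.Quotient.mk _ c, by rw [← map_mul, hc]⟩
    exact coeff_add_of_frobenius_eq_zero hdiv n a b ha hb

end Groth.Agent.S13160
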