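import Groth.Statements.S13161
import Mathlib.Tactic

set_option autoImplicit false
universe u
open scoped TensorProduct
open CAlg

namespace Groth.Agent.S13161

section aux

variable {R : Type u} [CommRing R] [IsDomain R] {K : Type u} [Field K] [Algebra R K]
  [IsFractionRing R K] {A : Type u} [CommRing A] [Algebra R A]

theorem exists_denominator (t : A ⊗[R] K) :
    ∃ s : R, s ≠ 0 ∧ ∃ a : A, s • t = a ⊗ₜ[R] (1 : K) := by
  induction t using TensorProduct.induction_on with
  | zero => exact ⟨1, one_ne_zero, 0, by simp⟩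
  | tmul a k =>
    obtain ⟨⟨r, s⟩, h⟩ := IsLocalization.surj (nonZeroDivisors R) k
    refine ⟨s, nonZeroDivisors.coe_ne_zero s, r • a, ?_⟩
    have h' : (s : R) • k = r • (1 : K) := by
      rw [Algebra.smul_def, Algebra.smul_def, mul_one, mul_comm]
      exact h
    rw [← TensorProduct.tmul_smul, h', TensorProduct.tmul_smul, TensorProduct.smul_tmul']
  | add t₁ t₂ h₁ h₂ =>
    obtain ⟨s₁, hs₁, a₁, e₁⟩ := h₁
    obtain ⟨s₂, hs₂, a₂, e₂⟩ := h₂
    refine ⟨s₁ * s₂, mul_ne_zero hs₁ hs₂, s₂ • a₁ + s₁ • a₂, ?_⟩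
    rw [smul_add, mul_smul s₁ s₂ t₂, e₂, mul_comm s₁ s₂, mul_smul s₂ s₁ t₁, e₁,
      TensorProduct.smul_tmul', TensorProduct.smul_tmul', TensorProduct.add_tmul]

theorem eq_zero_of_smul_eq_zero (s : R) (hs : s ≠ 0) (t : A ⊗[R] K) (h : s • t = 0) : t = 0 := by
  have hsK : algebraMap R K s ≠ 0 := by
    rw [Ne, map_eq_zero_iff _ (IsFractionRing.injective R K)]
    exact hs
  let m : K →ₗ[R] K := LinearMap.mulLeft R ((algebraMap R K s)⁻¹)
  have key : ∀ t : A ⊗[R] K, s • (LinearMap.lTensor A m t) = t := by
    intro t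
    induction t using TensorProduct.induction_on with
    | zero => simp
    | tmul a k =>
      rw [LinearMap.lTensor_tmul, ← TensorProduct.tmul_smul]
      congr 1
      simp only [m, LinearMap.mulLeft_apply, Algebra.smul_def]
      rw [← mul_assoc, mul_inv_cancel₀ hsK, one_mul]
    | add t₁ t₂ h₁ h₂ => rw [map_add, smul_add, h₁, h₂]
  rw [← key t, ← map_smul, h, map_zero]

end aux

/-- Let R be a discrete valuation ring with fraction field K, A an R-algebra which is semireflexive as
an R-module (the map to its double dual is injective: every nonzero a ∈ A has an R-linear form f : A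
→ R with f(a) ≠ 0), and B an A-algebra which is finitely generated as an A-module and flat over R.
Suppose B ⊗ K is semireflexive as a module over A ⊗ K, which for such B amounts to: every nonzero b
∈ B has an A-linear map g : B → A ⊗_R K with g(b) ≠ 0. Then B is semireflexive as an R-module: every
nonzero b ∈ B has an R-linear form h : B → R with h(b) ≠ 0. (The published statement phrases the
hypothesis on B_K as an A_K-module; for B flat over R and finite over A this is the elementwise
condition used here.) -/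
theorem result (R : Type u) [CommRing R] [IsDomain R]
    [IsDiscreteValuationRing R] (K : Type u) [Field K] [Algebra R K] [IsFractionRing R K]
    (A B : Type u) [CommRing A] [CommRing B] [Algebra R A] [Algebra R B] [Algebra A B] [IsScalarTower R A B]
    [Module.Finite A B] [Module.Flat R B]
    (hA : ∀ a : A, a ≠ 0 → ∃ f : A →ₗ[R] R, f a ≠ 0)
    (hBK : ∀ b : B, b ≠ 0 → ∃ g : B →ₗ[A] A ⊗[R] K, g b ≠ 0) :
    ∀ b : B, b ≠ 0 → ∃ h : B →ₗ[R] R, h b ≠ 0 := by
  classical
  intro b hb
  obtain ⟨g, hg⟩ := hBK b hb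
  -- common denominator
  obtain ⟨S, hS⟩ := (Module.finite_def.1 (inferInstance : Module.Finite A B))
  choose sden hsden aden haden using fun x : B => exists_denominator (R := R) (K := K) (g x)
  set s : R := ∏ x ∈ S, sden x with hs_def
  have hs0 : s ≠ 0 := Finset.prod_ne_zero_iff.2 (fun x _ => hsden x)
  have hcommon : ∀ y : B, ∃ a : A, s • g y = a ⊗ₜ[R] (1 : K) := by
    intro y
    have hy : y ∈ Submodule.span A (S : Set B) := by rw [hS]; trivial
    induction hy using Submodule.span_induction with
    | mem x hx =>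
      have hx' : x ∈ S := hx
      refine ⟨(∏ z ∈ S.erase x, sden z) • aden x, ?_⟩
      rw [hs_def, ← Finset.mul_prod_erase S sden hx', mul_comm, mul_smul, haden x,
        TensorProduct.smul_tmul']
    | zero => exact ⟨0, by simp⟩
    | add y z _ _ hy hz =>
      obtain ⟨a₁, e₁⟩ := hy
      obtain ⟨a₂, e₂⟩ := hz
      exact ⟨a₁ + a₂, by rw [map_add, smul_add, e₁, e₂, TensorProduct.add_tmul]⟩
    | smul c y _ hy =>
      obtain ⟨a₁, e₁⟩ := hy
      refine ⟨c * a₁, ?_⟩
      rw [map_smul, smul_comm, e₁, TensorProduct.smul_tmul', smul_eq_mul]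
  obtain ⟨a, ha⟩ := hcommon b
  have ha0 : a ≠ 0 := by
    rintro rfl
    rw [TensorProduct.zero_tmul] at ha
    exact hg (eq_zero_of_smul_eq_zero s hs0 _ ha)
  obtain ⟨f, hf⟩ := hA a ha0
  -- the R-linear map B → K
  let H : B →ₗ[R] K :=
    ((TensorProduct.lid R K).toLinearMap ∘ₗ (LinearMap.rTensor K f)) ∘ₗ
      (s • (g.restrictScalars R))
  have hH : ∀ y : B, ∃ r : R, H y = algebraMap R K r := by
    intro y
    obtain ⟨a', e'⟩ := hcommon y
    refine ⟨f a', ?_⟩
    simp only [H, LinearMap.comp_apply, LinearMap.smul_apply, LinearMap.restrictScalars_apply,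
      LinearEquiv.coe_coe]
    rw [e', LinearMap.rTensor_tmul, TensorProduct.lid_tmul, Algebra.smul_def, mul_one]
  have hHb : H b = algebraMap R K (f a) := by
    simp only [H, LinearMap.comp_apply, LinearMap.smul_apply, LinearMap.restrictScalars_apply,
      LinearEquiv.coe_coe]
    rw [ha, LinearMap.rTensor_tmul, TensorProduct.lid_tmul, Algebra.smul_def, mul_one]
  -- land in R
  let ι : R →ₗ[R] K := Algebra.linearMap R K
  have hι : Function.Injective ι := IsFractionRing.injective R K
  let e := LinearEquiv.ofInjective ι hι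
  have hrange : ∀ y, H y ∈ LinearMap.range ι := by
    intro y
    obtain ⟨r, hr⟩ := hH y
    exact ⟨r, hr.symm⟩
  let h : B →ₗ[R] R := e.symm.toLinearMap ∘ₗ (H.codRestrict (LinearMap.range ι) hrange)
  refine ⟨h, ?_⟩
  have : h b = f a := by
    simp only [h, LinearMap.comp_apply, LinearEquiv.coe_coe]
    rw [LinearEquiv.symm_apply_eq]
    ext
    simp [e, ι, hHb]
  rw [this]
  exact hf

end Groth.Agent.S13161
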