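import Groth.Statements.S13162
import Mathlib.Data.Nat.Choose.Lucas
import Mathlib.Algebra.Polynomial.Coeff
import Mathlib.Algebra.Polynomial.Eval.Coeff
import Mathlib.RingTheory.Ideal.Quotient.Basic
import Mathlib.Data.Nat.Factorization.Basic
import Mathlib.Algebra.Polynomial.BigOperators

set_option autoImplicit false
universe u v
open ZeroCyc

namespace Groth.Agent.S13162

/-- Let a finite group G act on a commutative ring A by ring automorphisms and let p be a prime such
that every integer prime to p is a unit in A. If I is an ideal of A and f ∈ A has G-invariant class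
modulo I, then f^(p^k) is congruent modulo I to a G-invariant element of A, where p^k is the exact
power of p dividing the order of G. (The published statement assumes I stable under G, so that G
acts on A/I and the claim reads: the p^k-th power of an invariant of A/I lies in the image of the
invariants of A; the form here asks only that the class of f be invariant.) -/
theorem result {A : Type u} [CommRing A] {G : Type v} [Group G] [Fintype G]
    [MulSemiringAction G A] (p : ℕ) [Fact p.Prime]
    (hA : ∀ m : ℕ, ¬ p ∣ m → IsUnit (m : A))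
    (I : Ideal A) (f : A) (hf : ∀ g : G, g • f - f ∈ I) :
    ∃ a : A, (∀ g : G, g • a = a) ∧ a - f ^ (p ^ (Fintype.card G).factorization p) ∈ I := by
  classical
  open Polynomial in
  have hp : p.Prime := Fact.out
  set N := Fintype.card G with hN
  have hN0 : N ≠ 0 := Fintype.card_ne_zero
  set k := N.factorization p with hk
  set m := N / p ^ k with hm
  have hNm : p ^ k * m = N := Nat.ordProj_mul_ordCompl_eq_self N p
  have hpm : ¬ p ∣ m := Nat.not_dvd_ordCompl hp hN0
  have hle : p ^ k ≤ N := Nat.le_of_dvd (Nat.pos_of_ne_zero hN0) (Dvd.intro _ hNm)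
  -- the binomial coefficient is prime to p
  have hchoose : ¬ p ∣ N.choose (p ^ k) := by
    have h1 : (p ^ k * m).choose (p ^ k * 1) ≡ m.choose 1 [MOD p] :=
      Choose.choose_pow_mul_pow_mul_modEq_choose_nat
    rw [mul_one, Nat.choose_one_right, hNm] at h1
    rw [h1.dvd_iff (dvd_refl p)]
    exact hpm
  obtain ⟨u, hu⟩ := hA _ hchoose
  -- the polynomial
  set P : Polynomial A := ∏ g : G, (Polynomial.X - Polynomial.C (g • f)) with hP
  have hPinv : ∀ h : G, P.map (MulSemiringAction.toRingHom G A h) = P := by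
    intro h
    rw [hP, Polynomial.map_prod]
    simp only [Polynomial.map_sub, Polynomial.map_X, Polynomial.map_C,
      MulSemiringAction.toRingHom_apply, ← mul_smul]
    exact Fintype.prod_equiv (Equiv.mulLeft h) _ _ (fun g => rfl)
  have hcoeff_inv : ∀ (h : G) (j : ℕ), h • P.coeff j = P.coeff j := by
    intro h j
    conv_rhs => rw [← hPinv h]
    rw [Polynomial.coeff_map]
    rfl
  have hPred : P.map (Ideal.Quotient.mk I) =
      (Polynomial.X + Polynomial.C (- Ideal.Quotient.mk I f)) ^ N := by
    rw [hP, Polynomial.map_prod]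
    have : ∀ g : G, Polynomial.map (Ideal.Quotient.mk I) (Polynomial.X - Polynomial.C (g • f)) =
        Polynomial.X + Polynomial.C (- Ideal.Quotient.mk I f) := by
      intro g
      rw [Polynomial.map_sub, Polynomial.map_X, Polynomial.map_C, Polynomial.C_neg,
        ← sub_eq_add_neg, Ideal.Quotient.eq.2 (hf g)]
    simp only [this, Finset.prod_const, Finset.card_univ, hN]
  have hcoeff : Ideal.Quotient.mk I (P.coeff (N - p ^ k)) =
      (- Ideal.Quotient.mk I f) ^ (p ^ k) * ((N.choose (p ^ k) : ℕ) : A ⧸ I) := by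
    rw [← Polynomial.coeff_map, hPred, Polynomial.coeff_X_add_C_pow, Nat.sub_sub_self hle,
      Nat.choose_symm hle]
  have hginv : ∀ g : G, g • ((u⁻¹ : Aˣ) : A) = ((u⁻¹ : Aˣ) : A) := by
    intro g
    have h1 : g • (u : A) = (u : A) := by
      rw [hu]
      exact map_natCast (MulSemiringAction.toRingHom G A g) _
    have h2 : (g • ((u⁻¹ : Aˣ) : A)) * (u : A) = 1 := by
      conv_lhs => rw [← h1, ← smul_mul', Units.inv_mul, smul_one]
    exact (Units.eq_inv_of_mul_eq_one_left (by rw [mul_comm]; exact h2))
  refine ⟨((u⁻¹ : Aˣ) : A) * (-1) ^ (p ^ k) * P.coeff (N - p ^ k), ?_, ?_⟩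
  · intro g
    rw [smul_mul', smul_mul', hginv, hcoeff_inv, smul_pow', smul_neg, smul_one]
  · rw [← Ideal.Quotient.eq, map_mul, map_mul, hcoeff, map_pow, map_pow, map_neg, map_one]
    have h3 : Ideal.Quotient.mk I ((u⁻¹ : Aˣ) : A) * ((N.choose (p ^ k) : ℕ) : A ⧸ I) = 1 := by
      rw [← map_natCast (Ideal.Quotient.mk I), ← hu, ← map_mul, Units.inv_mul, map_one]
    calc Ideal.Quotient.mk I ((u⁻¹ : Aˣ) : A) * (-1) ^ (p ^ k) *
          ((- Ideal.Quotient.mk I f) ^ (p ^ k) * ((N.choose (p ^ k) : ℕ) : A ⧸ I))
        = (Ideal.Quotient.mk I ((u⁻¹ : Aˣ) : A) * ((N.choose (p ^ k) : ℕ) : A ⧸ I)) *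
            ((-1) ^ (p ^ k) * (- Ideal.Quotient.mk I f) ^ (p ^ k)) := by ring
      _ = Ideal.Quotient.mk I f ^ (p ^ k) := by
        rw [h3, one_mul, ← mul_pow, neg_one_mul, neg_neg]

end Groth.Agent.S13162
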