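import Groth.Statements.S13163
-- import your own Groth.Agent.* helpers here

set_option autoImplicit false
universe u
open ZeroCyc

namespace Groth.Agent.S13163

open Polynomial in
/-- Let P_d(T) = ∏_{0 ≤ i < j ≤ d} (T^i − T^j) − 1 ∈ ℤ[T]. Every residue field of ℤ[T]/(P_d), i.e. every
field receiving a ring homomorphism from it, has at least d + 1 elements. -/
theorem result (d : ℕ) (k : Type u) [Field k]
    (φ : (ℤ[X] ⧸ Ideal.span {(∏ j ∈ Finset.range (d + 1), ∏ i ∈ Finset.range j,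
        ((X : ℤ[X]) ^ i - X ^ j)) - 1}) →+* k) :
    ((d + 1 : ℕ) : Cardinal) ≤ Cardinal.mk k := by
  classical
  let ψ : ℤ[X] →+* k := φ.comp (Ideal.Quotient.mk _)
  have h1 : ψ ((∏ j ∈ Finset.range (d + 1), ∏ i ∈ Finset.range j, ((X : ℤ[X]) ^ i - X ^ j)) - 1) = 0 := by
    change φ (Ideal.Quotient.mk _ _) = 0
    have h0 : Ideal.Quotient.mk (Ideal.span {(∏ j ∈ Finset.range (d + 1), ∏ i ∈ Finset.range j,
        ((X : ℤ[X]) ^ i - X ^ j)) - 1}) ((∏ j ∈ Finset.range (d + 1), ∏ i ∈ Finset.range j,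
        ((X : ℤ[X]) ^ i - X ^ j)) - 1) = 0 :=
      Ideal.Quotient.eq_zero_iff_mem.2 (Ideal.subset_span (Set.mem_singleton _))
    rw [h0, map_zero]
  set t : k := ψ X with ht
  have h2 : ∏ j ∈ Finset.range (d + 1), ∏ i ∈ Finset.range j, (t ^ i - t ^ j) = 1 := by
    rw [map_sub, map_one, sub_eq_zero] at h1
    rw [← h1]
    simp only [map_prod, map_sub, map_pow, ht]
  have hne : ∀ j ∈ Finset.range (d + 1), ∀ i ∈ Finset.range j, t ^ i - t ^ j ≠ 0 := by
    intro j hj i hi h
    have : ∏ j ∈ Finset.range (d + 1), ∏ i ∈ Finset.range j, (t ^ i - t ^ j) = 0 :=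
      Finset.prod_eq_zero hj (Finset.prod_eq_zero hi h)
    rw [h2] at this
    exact one_ne_zero this
  have hinj : Function.Injective (fun i : Fin (d + 1) => t ^ (i : ℕ)) := by
    intro a b hab
    simp only at hab
    by_contra hne'
    rcases lt_or_gt_of_ne (fun h => hne' (Fin.ext h) : (a : ℕ) ≠ b) with h | h
    · exact hne b (Finset.mem_range.2 b.2) a (Finset.mem_range.2 h) (sub_eq_zero.2 hab)
    · exact hne a (Finset.mem_range.2 a.2) b (Finset.mem_range.2 h) (sub_eq_zero.2 hab.symm)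
  have := Cardinal.lift_mk_le_lift_mk_of_injective hinj
  simpa using this

end Groth.Agent.S13163
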