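import Groth.Statements.S13166
import Mathlib.Algebra.Module.Submodule.Lattice
import Mathlib.Data.Finset.Powerset
import Mathlib.Tactic

set_option autoImplicit false
universe u
open ZeroCyc

namespace Groth.Agent.S13166

section unionlemma

variable {ι K M : Type*} [Field K] [AddCommGroup M] [Module K M]

/-- Sharp form: a vector space over `K` is not a union of `n` proper subspaces if `K` has at least
`n` elements. -/
theorem exists_forall_notMem_of_card_le (n : ℕ) (e : Fin n ↪ K) (p : ι → Submodule K M)
    (s : Finset ι) (h₁ : ∀ i ∈ s, p i ≠ ⊤) (hs : s.card ≤ n) :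
    ∃ x : M, ∀ i ∈ s, x ∉ p i := by
  classical
  induction s using Finset.induction_on with
  | empty => exact ⟨0, by simp⟩
  | insert j s hj ih =>
    rw [Finset.card_insert_of_notMem hj] at hs
    obtain ⟨x₀, hx₀⟩ := ih (fun i hi => h₁ i (Finset.mem_insert_of_mem hi)) (by omega)
    by_cases hxj : x₀ ∉ p j
    · refine ⟨x₀, fun i hi => ?_⟩
      rcases Finset.mem_insert.1 hi with rfl | hi
      · exact hxj
      · exact hx₀ i hi
    rw [not_not] at hxj
    obtain ⟨y, hy⟩ : ∃ y, y ∉ p j := by
      by_contra hcon
      push Not at hcon
      exact h₁ j (Finset.mem_insert_self j s) (eq_top_iff.2 fun z _ => hcon z)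
    by_contra hcon
    push Not at hcon
    -- the points on the line
    let φ : K → M := fun t => if t = 0 then y else x₀ + t • y
    have hφj : ∀ t, φ t ∉ p j := by
      intro t
      by_cases ht : t = 0
      · simp only [φ, ht, if_true]; exact hy
      · simp only [φ, ht, if_false]
        intro hmem
        rw [(p j).add_mem_iff_right hxj, (p j).smul_mem_iff ht] at hmem
        exact hy hmem
    have hφs : ∀ t, ∃ i ∈ s, φ t ∈ p i := by
      intro t
      obtain ⟨i, hi, hmem⟩ := hcon (φ t)
      rcases Finset.mem_insert.1 hi with rfl | hi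
      · exact absurd hmem (hφj t)
      · exact ⟨i, hi, hmem⟩
    choose c hc hcmem using hφs
    have hcard : s.card < (Finset.univ : Finset (Fin n)).card := by
      rw [Finset.card_univ, Fintype.card_fin]; omega
    obtain ⟨a, -, b, -, hab, hceq⟩ := Finset.exists_ne_map_eq_of_card_lt_of_maps_to hcard
      (f := fun a => c (e a)) (fun a _ => hc (e a))
    have hne : e a ≠ e b := fun h => hab (e.injective h)
    have h1 := hcmem (e a)
    have h2 := hcmem (e b)
    replace hceq : c (e a) = c (e b) := hceq
    rw [hceq] at h1
    set k := c (e b) with hk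
    have hxk : x₀ ∈ p k := by
      by_cases ha0 : e a = 0
      · have hb0 : e b ≠ 0 := fun h => hne (ha0.trans h.symm)
        simp only [φ, ha0, if_true] at h1
        simp only [φ, hb0, if_false] at h2
        exact ((p k).add_mem_iff_left ((p k).smul_mem _ h1)).1 h2
      · by_cases hb0 : e b = 0
        · simp only [φ, ha0, if_false] at h1
          simp only [φ, hb0, if_true] at h2
          exact ((p k).add_mem_iff_left ((p k).smul_mem _ h2)).1 h1
        · simp only [φ, ha0, if_false] at h1
          simp only [φ, hb0, if_false] at h2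
          have h3 : (e a - e b) • y ∈ p k := by
            have := (p k).sub_mem h1 h2
            rwa [add_sub_add_left_eq_sub, ← sub_smul] at this
          have h4 : y ∈ p k := ((p k).smul_mem_iff (sub_ne_zero.2 hne)).1 h3
          exact ((p k).add_mem_iff_left ((p k).smul_mem _ h4)).1 h1
    exact hx₀ k (hc (e b)) hxk

end unionlemma

/-- Let k be a field, B a k-algebra generated as an algebra by a k-subspace V, k'/k a field extension
and x_1, …, x_d pairwise distinct k'-points of B ⊗_k k' (equivalently, distinct k-algebra
homomorphisms B → k'). If k has at least d(d − 1)/2 elements, then there is b ∈ V whose values at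
x_1, …, x_d are pairwise distinct. -/
theorem result {k : Type u} [Field k] {B : Type u} [CommRing B] [Algebra k B] (V : Submodule k B)
    (hV : Algebra.adjoin k (V : Set B) = ⊤) {k' : Type u} [Field k'] [Algebra k k']
    {d : ℕ} (x : Fin d → (B →ₐ[k] k')) (hx : Function.Injective x)
    (hk : ((d.choose 2 : ℕ) : Cardinal) ≤ Cardinal.mk k) :
    ∃ b ∈ V, Function.Injective fun i => x i b := by
  classical
  obtain ⟨e⟩ : Nonempty (Fin (d.choose 2) ↪ k) := by
    rw [← Cardinal.lift_mk_le']
    simpa using hk
  let p : Finset (Fin d) → Submodule k V := fun t =>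
    { carrier := {b | ∀ i ∈ t, ∀ j ∈ t, x i (b : B) = x j (b : B)}
      add_mem' := by
        intro a b ha hb i hi j hj
        simp only [Submodule.coe_add, map_add]
        rw [ha i hi j hj, hb i hi j hj]
      zero_mem' := by
        intro i _ j _
        simp
      smul_mem' := by
        intro c a ha i hi j hj
        simp only [Submodule.coe_smul, map_smul]
        rw [ha i hi j hj] }
  have hp : ∀ t ∈ Finset.powersetCard 2 (Finset.univ : Finset (Fin d)), p t ≠ ⊤ := by
    intro t ht
    rw [Finset.mem_powersetCard] at ht
    obtain ⟨i, j, hij, rfl⟩ := Finset.card_eq_two.1 ht.2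
    intro htop
    apply hij
    apply hx
    apply AlgHom.ext_of_adjoin_eq_top hV
    intro b hb
    have hmem : (⟨b, hb⟩ : V) ∈ p {i, j} := htop ▸ Submodule.mem_top
    exact hmem i (by simp) j (by simp)
  obtain ⟨b, hb⟩ := exists_forall_notMem_of_card_le _ e p _ hp
    (by rw [Finset.card_powersetCard, Finset.card_univ, Fintype.card_fin])
  refine ⟨b.1, b.2, ?_⟩
  intro i j hij
  by_contra hne
  apply hb {i, j} (by
    rw [Finset.mem_powersetCard]
    exact ⟨Finset.subset_univ _, Finset.card_pair hne⟩)
  intro i' hi' j' hj'
  simp only [Finset.mem_insert, Finset.mem_singleton] at hi' hj'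
  simp only at hij
  rcases hi' with rfl | rfl <;> rcases hj' with rfl | rfl
  · rfl
  · exact hij
  · exact hij.symm
  · rfl

end Groth.Agent.S13166
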