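import Groth.Statements.S13167
import Mathlib.RingTheory.IntegralDomain
import Mathlib.Tactic

set_option autoImplicit false
universe u
open AlgebraicGeometry
open ZeroCyc

namespace Groth.Agent.S13167

section avoid

variable {R A : Type u} [CommRing R] [CommRing A] [Algebra R A]

/-- Avoiding finitely many primes lying over the same prime `p` of `R` by an element of an
`R`-submodule `N`, provided `R ⧸ p` has enough elements. -/
theorem exists_mem_forall_notMem (N : Submodule R A) (p : Ideal R) (n : ℕ) (e : Fin n ↪ R ⧸ p)
    (s : Finset (Ideal A)) (hprime : ∀ P ∈ s, P.IsPrime)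
    (hover : ∀ P ∈ s, P.comap (algebraMap R A) = p)
    (hN : ∀ P ∈ s, ∃ h ∈ N, h ∉ P) (hs : s.card ≤ n) :
    ∃ g ∈ N, ∀ P ∈ s, g ∉ P := by
  classical
  induction s using Finset.induction_on with
  | empty => exact ⟨0, N.zero_mem, by simp⟩
  | insert P s hP ih =>
    rw [Finset.card_insert_of_notMem hP] at hs
    obtain ⟨g', hg'N, hg'⟩ := ih (fun Q hQ => hprime Q (Finset.mem_insert_of_mem hQ))
      (fun Q hQ => hover Q (Finset.mem_insert_of_mem hQ))
      (fun Q hQ => hN Q (Finset.mem_insert_of_mem hQ)) (by omega)
    by_cases hgP : g' ∉ P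
    · refine ⟨g', hg'N, fun Q hQ => ?_⟩
      rcases Finset.mem_insert.1 hQ with rfl | hQ
      · exact hgP
      · exact hg' Q hQ
    rw [not_not] at hgP
    have hPprime : P.IsPrime := hprime P (Finset.mem_insert_self P s)
    have hPover : ∀ r : R, algebraMap R A r ∈ P ↔ r ∈ p := by
      intro r
      rw [← hover P (Finset.mem_insert_self P s), Ideal.mem_comap]
    obtain ⟨h, hhN, hhP⟩ := hN P (Finset.mem_insert_self P s)
    by_contra hcon
    push Not at hcon
    have hrep : ∀ t : R ⧸ p, ∃ r : R, Ideal.Quotient.mk p r = t := Ideal.Quotient.mk_surjective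
    choose rep hrepeq using hrep
    let φ : R ⧸ p → A := fun t => if t = 0 then h else g' + rep t • h
    have hφN : ∀ t, φ t ∈ N := by
      intro t
      by_cases ht : t = 0
      · simp only [φ, ht, if_true]; exact hhN
      · simp only [φ, ht, if_false]
        exact N.add_mem hg'N (N.smul_mem _ hhN)
    have hφP : ∀ t, φ t ∉ P := by
      intro t
      by_cases ht : t = 0
      · simp only [φ, ht, if_true]; exact hhP
      · simp only [φ, ht, if_false]
        intro hmem
        have h1 : rep t • h ∈ P := (P.add_mem_iff_right hgP).1 hmem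
        rw [Algebra.smul_def] at h1
        rcases hPprime.mem_or_mem h1 with h2 | h2
        · rw [hPover, ← Ideal.Quotient.eq_zero_iff_mem, hrepeq] at h2
          exact ht h2
        · exact hhP h2
    have hφs : ∀ t, ∃ Q ∈ s, φ t ∈ Q := by
      intro t
      obtain ⟨Q, hQ, hmem⟩ := hcon (φ t) (hφN t)
      rcases Finset.mem_insert.1 hQ with rfl | hQ
      · exact absurd hmem (hφP t)
      · exact ⟨Q, hQ, hmem⟩
    choose c hc hcmem using hφs
    have hcard : s.card < (Finset.univ : Finset (Fin n)).card := by
      rw [Finset.card_univ, Fintype.card_fin]; omega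
    obtain ⟨a, -, b, -, hab, hceq⟩ := Finset.exists_ne_map_eq_of_card_lt_of_maps_to hcard
      (f := fun a => c (e a)) (fun a _ => hc (e a))
    have hne : e a ≠ e b := fun h => hab (e.injective h)
    have h1 := hcmem (e a)
    have h2 := hcmem (e b)
    replace hceq : c (e a) = c (e b) := hceq
    rw [hceq] at h1
    set Q := c (e b) with hQdef
    have hQs : Q ∈ s := hc (e b)
    have hQprime : Q.IsPrime := hprime Q (Finset.mem_insert_of_mem hQs)
    have hQover : ∀ r : R, algebraMap R A r ∈ Q ↔ r ∈ p := by
      intro r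
      rw [← hover Q (Finset.mem_insert_of_mem hQs), Ideal.mem_comap]
    have hgQ : g' ∈ Q := by
      by_cases ha0 : e a = 0
      · have hb0 : e b ≠ 0 := fun h => hne (ha0.trans h.symm)
        simp only [φ, ha0, if_true] at h1
        simp only [φ, hb0, if_false] at h2
        exact (Q.add_mem_iff_left (Q.smul_of_tower_mem _ h1)).1 h2
      · by_cases hb0 : e b = 0
        · simp only [φ, ha0, if_false] at h1
          simp only [φ, hb0, if_true] at h2
          exact (Q.add_mem_iff_left (Q.smul_of_tower_mem _ h2)).1 h1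
        · simp only [φ, ha0, if_false] at h1
          simp only [φ, hb0, if_false] at h2
          have h3 : (rep (e a) - rep (e b)) • h ∈ Q := by
            have := Q.sub_mem h1 h2
            rwa [add_sub_add_left_eq_sub, ← sub_smul] at this
          rw [Algebra.smul_def] at h3
          have h4 : h ∈ Q := by
            rcases hQprime.mem_or_mem h3 with h5 | h5
            · rw [hQover, ← Ideal.Quotient.eq_zero_iff_mem, map_sub, hrepeq, hrepeq,
                sub_eq_zero] at h5
              exact absurd h5 hne
            · exact h5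
          exact (Q.add_mem_iff_left (Q.smul_of_tower_mem _ h4)).1 h1
    exact hg' Q hQs hgQ

theorem natCast_le_mk_of_isFractionRing (D : Type u) [CommRing D] [IsDomain D] (F : Type u)
    [Field F] [Algebra D F] [IsFractionRing D F] (n : ℕ) (h : (n : Cardinal) ≤ Cardinal.mk F) :
    (n : Cardinal) ≤ Cardinal.mk D := by
  rcases finite_or_infinite D with hfin | hinf
  · have hfield : IsField D := Finite.isField_of_domain D
    have hsurj : Function.Surjective (algebraMap D F) :=
      IsFractionRing.surjective_iff_isField.2 hfield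
    exact h.trans (Cardinal.mk_le_of_surjective hsurj)
  · exact (Cardinal.natCast_lt_aleph0 (n := n)).le.trans (Cardinal.aleph0_le_mk D)

end avoid

section proj

variable {R A : Type u} [CommRing R] [CommRing A] [Algebra R A] (𝒜 : ℕ → Submodule R A)
  [GradedAlgebra 𝒜]

theorem exists_degOne_notMem (hgen : Algebra.adjoin R (𝒜 1 : Set A) = ⊤) (x : Proj 𝒜) :
    ∃ h ∈ 𝒜 1, h ∉ x.asHomogeneousIdeal.toIdeal := by
  by_contra hcon
  push Not at hcon
  apply x.not_irrelevant_le
  intro a ha
  change a ∈ x.asHomogeneousIdeal.toIdeal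
  have key : ∀ b : A, b - GradedRing.projZeroRingHom 𝒜 b ∈ x.asHomogeneousIdeal.toIdeal := by
    intro b
    have hb : b ∈ Algebra.adjoin R (𝒜 1 : Set A) := hgen ▸ Algebra.mem_top
    induction hb using Algebra.adjoin_induction with
    | mem y hy =>
      rw [GradedRing.projZeroRingHom_apply, DirectSum.decompose_of_mem_ne 𝒜 hy one_ne_zero,
        sub_zero]
      exact hcon y hy
    | algebraMap r =>
      have : algebraMap R A r ∈ 𝒜 0 := SetLike.algebraMap_mem_graded 𝒜 r
      rw [GradedRing.projZeroRingHom_apply, DirectSum.decompose_of_mem_same 𝒜 this, sub_self]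
      exact Ideal.zero_mem _
    | add y z _ _ hy hz =>
      rw [map_add, add_sub_add_comm]
      exact Ideal.add_mem _ hy hz
    | mul y z _ _ hy hz =>
      have e : y * z - GradedRing.projZeroRingHom 𝒜 (y * z) =
          (y - GradedRing.projZeroRingHom 𝒜 y) * z +
            GradedRing.projZeroRingHom 𝒜 y * (z - GradedRing.projZeroRingHom 𝒜 z) := by
        rw [map_mul]; ring
      rw [e]
      exact Ideal.add_mem _ (Ideal.mul_mem_right _ _ hy) (Ideal.mul_mem_left _ _ hz)
  have h0 : GradedRing.projZeroRingHom 𝒜 a = 0 := by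
    rw [GradedRing.projZeroRingHom_apply, ← GradedRing.proj_apply]
    exact (HomogeneousIdeal.mem_irrelevant_iff 𝒜 a).1 ha
  have := key a
  rwa [h0, sub_zero] at this

end proj

/-- Let B be a graded R-algebra generated by its degree-one part B_1, with B_1 a finitely generated
R-module, and let x_1, …, x_d be points of X = Proj B lying over one and the same prime p of R. If
the residue field of p has at least d elements, then some f ∈ B_1 ⊆ Γ(X, O_X(1)) has all the x_i in
D_+(f). (Without the hypothesis on the residue field such an f exists in some B_n with n ≥ 1; that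
first assertion is a known property of ample sheaves and is not restated here.) -/
theorem result {R A : Type u} [CommRing R] [CommRing A] [Algebra R A] (𝒜 : ℕ → Submodule R A) [GradedAlgebra 𝒜]
    (hgen : Algebra.adjoin R (𝒜 1 : Set A) = ⊤) (hfg : (𝒜 1).FG)
    (p : Ideal R) [p.IsPrime] {d : ℕ} (x : Fin d → Proj 𝒜)
    (hx : ∀ i, ((x i).asHomogeneousIdeal.toIdeal).comap (algebraMap R A) = p)
    (hcard : (d : Cardinal) ≤ Cardinal.mk p.ResidueField) :
    ∃ g ∈ 𝒜 1, ∀ i, x i ∈ Proj.basicOpen 𝒜 g := by
  classical
  have hle : ((d : ℕ) : Cardinal) ≤ Cardinal.mk (R ⧸ p) :=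
    natCast_le_mk_of_isFractionRing (R ⧸ p) p.ResidueField d hcard
  obtain ⟨e⟩ : Nonempty (Fin d ↪ R ⧸ p) := by
    rw [← Cardinal.lift_mk_le']
    simpa using hle
  let s : Finset (Ideal A) := Finset.univ.image (fun i => (x i).asHomogeneousIdeal.toIdeal)
  have hs : s.card ≤ d := by
    refine (Finset.card_image_le).trans ?_
    rw [Finset.card_univ, Fintype.card_fin]
  obtain ⟨g, hgN, hg⟩ := exists_mem_forall_notMem (𝒜 1) p d e s
    (by
      intro P hP
      obtain ⟨i, -, rfl⟩ := Finset.mem_image.1 hP
      exact (x i).isPrime)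
    (by
      intro P hP
      obtain ⟨i, -, rfl⟩ := Finset.mem_image.1 hP
      exact hx i)
    (by
      intro P hP
      obtain ⟨i, -, rfl⟩ := Finset.mem_image.1 hP
      exact exists_degOne_notMem 𝒜 hgen (x i))
    hs
  refine ⟨g, hgN, fun i => ?_⟩
  rw [Proj.mem_basicOpen]
  exact hg _ (Finset.mem_image.2 ⟨i, Finset.mem_univ i, rfl⟩)

end Groth.Agent.S13167
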