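import Groth.Statements.S13169
import Groth.Agent.Lib.Helper98.TwistGen
import Groth.Agent.Lib.Helper98.TwistAmpleGen
import Groth.Agent.Lib.Helper98.GradedProj

set_option autoImplicit false
universe u
open AlgebraicGeometry
open ZeroCyc

namespace Groth.Agent.S13169

/-- Let B be a graded R-algebra generated by homogeneous elements f_1, …, f_s of positive degrees d_1,
…, d_s, let l be the least common multiple of the d_i and X = Proj B. For n = a l with a ≥ 1, the
twisting sheaf O_X(n) is ample and is generated by its global sections b/1, b ∈ B_n. -/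
theorem result {R A : Type u} [CommRing R] [CommRing A] [Algebra R A] (𝒜 : ℕ → Submodule R A) [GradedAlgebra 𝒜]
    {s : ℕ} (f : Fin s → A) (deg : Fin s → ℕ) (hdeg : ∀ i, 0 < deg i) (hf : ∀ i, f i ∈ 𝒜 (deg i))
    (hgen : Algebra.adjoin R (Set.range f) = ⊤) (a : ℕ) (ha : 0 < a) :
    CohB1.IsAmple (Twist.twist 𝒜 ((a * Finset.univ.lcm deg : ℕ) : ℤ)) ∧
      ProjUP.GeneratedBy (Twist.twist 𝒜 ((a * Finset.univ.lcm deg : ℕ) : ℤ))
        (fun b : 𝒜 (a * Finset.univ.lcm deg) =>
          (Twist.globalOf 𝒜 b : ProjUP.Γm (Twist.twist 𝒜 ((a * Finset.univ.lcm deg : ℕ) : ℤ)))) := by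
  classical
  have hl := Groth.Agent.Lib.Helper98.lcm_pos' deg hdeg
  have hcov := Groth.Agent.Lib.Helper98.exists_generator_notMem 𝒜 f deg hdeg hf hgen
  have hdvd : ∀ i, deg i ∣ Finset.univ.lcm deg := fun i => Finset.dvd_lcm (Finset.mem_univ i)
  choose q hq using hdvd
  have hqpos : ∀ i, 0 < q i := by
    intro i
    rcases Nat.eq_zero_or_pos (q i) with h | h
    · have := hq i
      rw [h, mul_zero] at this
      omega
    · exact h
  refine ⟨?_, ?_⟩
  · refine Groth.Agent.Lib.Helper98.TwistGen.isAmple_twist_of_cover f deg hdeg hf hcov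
      (a * Finset.univ.lcm deg) (fun i => a * q i) (fun i => Nat.mul_pos ha (hqpos i)) ?_
    intro i
    rw [mul_assoc, mul_comm (q i), ← hq i]
  · apply Groth.Agent.Lib.Helper98.TwistGen.generatedBy_of_exists_notMem
    intro x
    have hx : (show Proj 𝒜 from x) ∈
        (⨆ g : 𝒜 (a * Finset.univ.lcm deg), Proj.basicOpen 𝒜 (g : A)) :=
      Groth.Agent.Lib.Helper98.iSup_basicOpen_mul_lcm 𝒜 f deg hdeg hf hgen a ▸ trivial
    obtain ⟨g, hg⟩ := TopologicalSpace.Opens.mem_iSup.mp hx
    exact ⟨g, hg⟩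

end Groth.Agent.S13169
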