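import Groth.Statements.S1317
import Groth.Agent.Lib.Helper7.Deform
import Groth.Agent.Lib.Helper7.DeformRing

set_option autoImplicit false
universe u
open FlatMor

namespace Groth.Agent.S1317

open AlgebraicGeometry CategoryTheory Limits in
/-- Let S ⟶ S' be a finite order thickening, let X' ⟶ Y' be a morphism of schemes over S' with X' flat
over S', and let X ⟶ Y be its base change to S. Then X ⟶ Y is flat if and only if X' ⟶ Y' is. -/
theorem result {X X' Y Y' S S' : Scheme.{u}} (iX : X ⟶ X') (iY : Y ⟶ Y') (iS : S ⟶ S')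
    (f : X ⟶ Y) (f' : X' ⟶ Y') (g : Y ⟶ S) (g' : Y' ⟶ S')
    (hS : MoreMor.IsFiniteOrderThickening iS) (hcX : IsPullback iX (f ≫ g) (f' ≫ g') iS) (hcY : IsPullback iY g g' iS)
    (w : iX ≫ f' = f ≫ iY) [Flat (f' ≫ g')] :
    Flat f ↔ Flat f' := by
  obtain ⟨⟨hS1, hS2⟩, hnil⟩ := hS
  constructor
  · intro hf
    exact Groth.Agent.Lib.Helper7.Deform.of_lift (P := @Flat) (Q := RingHom.Flat)
      (RingHom.Flat.stableUnderComposition.stableUnderCompositionWithLocalizationAway
        RingHom.Flat.holdsForLocalizationAway).1 hcX hcY w hnil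
      (fun α' β' α β πA πB πC h1 h2 hw hπ hn hfl hβ =>
        Groth.Agent.Lib.Helper7.DeformRing.flat_of_deform α' β' α β πA πB πC h1 h2 hw hπ hn hfl hβ)
      hf
  · intro hf'
    exact MorphismProperty.of_isPullback
      (Groth.Agent.Lib.Helper7.Deform.isPullback_left hcX hcY w) hf'

end Groth.Agent.S1317
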