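import Groth.Statements.S13170
import Groth.Agent.Lib.Proj.TwistMul

set_option autoImplicit false
universe u
open AlgebraicGeometry CategoryTheory
open ZeroCyc

namespace Groth.Agent.S13170

/-- Let B be a graded R-algebra generated by homogeneous elements f_1, …, f_s of positive degrees d_1,
…, d_s, let l be the least common multiple of the d_i and X = Proj B. For all integers a and n,
O_X(al) ⊗ O_X(n) ≅ O_X(al + n). (The published statement asserts that the canonical multiplication
map is an isomorphism; this row asserts only that an isomorphism exists.) -/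
theorem result {R A : Type u} [CommRing R] [CommRing A] [Algebra R A] (𝒜 : ℕ → Submodule R A) [GradedAlgebra 𝒜]
    {s : ℕ} (f : Fin s → A) (deg : Fin s → ℕ) (hdeg : ∀ i, 0 < deg i) (hf : ∀ i, f i ∈ 𝒜 (deg i))
    (hgen : Algebra.adjoin R (Set.range f) = ⊤) (a n : ℤ) :
    Nonempty (CohB1.tensorMod (Twist.twist 𝒜 (a * (Finset.univ.lcm deg : ℕ))) (Twist.twist 𝒜 n) ≅
      Twist.twist 𝒜 (a * (Finset.univ.lcm deg : ℕ) + n)) := by
  classical
  -- the `D₊(f i)` cover
  have hcov : ⨆ i, Proj.basicOpen 𝒜 (f i) = ⊤ := by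
    apply Proj.iSup_basicOpen_eq_top' 𝒜 f (fun i => ⟨deg i, hf i⟩)
    rw [eq_top_iff]
    intro x hxtop
    clear hxtop
    have hx : x ∈ Algebra.adjoin R (Set.range f) := hgen ▸ trivial
    induction hx using Algebra.adjoin_induction with
    | mem x hx => exact Algebra.subset_adjoin hx
    | algebraMap r =>
      have : algebraMap R A r = algebraMap (𝒜 0) A ⟨algebraMap R A r, SetLike.algebraMap_mem_graded 𝒜 r⟩ := rfl
      rw [this]
      exact Subalgebra.algebraMap_mem _ _
    | add x y _ _ hx hy => exact Subalgebra.add_mem _ hx hy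
    | mul x y _ _ hx hy => exact Subalgebra.mul_mem _ hx hy
  refine ⟨Groth.Agent.Lib.Proj.twistMulIso _ n _ rfl ?_⟩
  intro x
  have hx : x ∈ ⨆ i, Proj.basicOpen 𝒜 (f i) := hcov ▸ trivial
  obtain ⟨i, hi⟩ := TopologicalSpace.Opens.mem_iSup.mp hx
  obtain ⟨c, hc⟩ : deg i ∣ (Finset.univ.lcm deg : ℕ) := Finset.dvd_lcm (Finset.mem_univ i)
  obtain ⟨k, rfl | rfl⟩ := a.eq_nat_or_neg
  · refine ⟨(k * c) • deg i, 0, ⟨f i ^ (k * c), SetLike.pow_mem_graded _ (hf i)⟩,
      Groth.Agent.Lib.Proj.one0 𝒜, Groth.Agent.Lib.Proj.pow_not_mem hi _,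
      Groth.Agent.Lib.Proj.one_not_mem x, ?_⟩
    rw [hc]
    simp only [smul_eq_mul]
    push_cast
    ring
  · refine ⟨0, (k * c) • deg i, Groth.Agent.Lib.Proj.one0 𝒜,
      ⟨f i ^ (k * c), SetLike.pow_mem_graded _ (hf i)⟩, Groth.Agent.Lib.Proj.one_not_mem x,
      Groth.Agent.Lib.Proj.pow_not_mem hi _, ?_⟩
    rw [hc]
    simp only [smul_eq_mul]
    push_cast
    ring

end Groth.Agent.S13170
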