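import Groth.Statements.S13173
import Groth.Agent.Lib.Proj.TwistAmple

set_option autoImplicit false
universe u
open AlgebraicGeometry
open ZeroCyc

namespace Groth.Agent.S13173

/-- Let B be a graded R-algebra generated by elements of degree at most d, such that X = Proj B is
quasi-compact and covered by the opens D_+(g), g ∈ B_1. Then O_X(n) is ample for every n ≥ 1. (The
published statement does not assume X quasi-compact, which ampleness as used here requires and which
fails for a polynomial ring in infinitely many degree-one variables; this row assumes it.) -/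
theorem result {R A : Type u} [CommRing R] [CommRing A] [Algebra R A] (𝒜 : ℕ → Submodule R A) [GradedAlgebra 𝒜]
    (d : ℕ) (hgen : Algebra.adjoin R (⋃ i ∈ Finset.range (d + 1), (𝒜 i : Set A)) = ⊤)
    (hcov : (⨆ g : 𝒜 1, Proj.basicOpen 𝒜 (g : A)) = ⊤) [CompactSpace (Proj 𝒜)] (n : ℕ) (hn : 0 < n) :
    CohB1.IsAmple (Twist.twist 𝒜 (n : ℤ)) := by
  refine ⟨Groth.Agent.Lib.Proj.isInvertible_twist hcov n, inferInstance, fun x => ?_⟩
  have hx : x ∈ (⨆ g : 𝒜 1, Proj.basicOpen 𝒜 (g : A)) := hcov ▸ trivial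
  obtain ⟨g, hxg⟩ := TopologicalSpace.Opens.mem_iSup.mp hx
  let a : 𝒜 n := ⟨g.1 ^ n, by simpa using SetLike.pow_mem_graded n g.2⟩
  have hD : Proj.basicOpen 𝒜 (g.1 ^ n) = Proj.basicOpen 𝒜 g.1 := by
    ext y
    simp only [SetLike.mem_coe, Proj.mem_basicOpen]
    exact ⟨fun h hg => h (Ideal.pow_mem_of_mem _ hg n hn), fun h hgn => h (y.isPrime.mem_of_pow_mem n hgn)⟩
  have hgl : CohB1.genLocus (CohB1.tensorPow (Twist.twist 𝒜 (n : ℤ)) (0 + 1))
      (CategoryTheory.CategoryStruct.comp (Groth.Agent.Lib.Proj.sectHom a)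
        (Groth.Agent.Lib.QCoh.tensorPowOneIso (Twist.twist 𝒜 (n : ℤ))).symm.hom) =
      Proj.basicOpen 𝒜 g.1 := by
    rw [Groth.Agent.Lib.Ample.genLocus_comp_iso]
    exact (Groth.Agent.Lib.Proj.genLocus_sectHom a
      (Groth.Agent.Lib.Proj.hasUnitFrac_of_cover hcov _)).trans hD
  refine ⟨0, CategoryTheory.CategoryStruct.comp (Groth.Agent.Lib.Proj.sectHom a)
    (Groth.Agent.Lib.QCoh.tensorPowOneIso (Twist.twist 𝒜 (n : ℤ))).symm.hom, ?_, ?_⟩
  · rw [hgl]; exact hxg
  · rw [hgl]; exact Proj.isAffineOpen_basicOpen 𝒜 g.1 g.2 one_pos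

end Groth.Agent.S13173
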