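import Groth.Statements.S13175
-- import your own Groth.Agent.* helpers here

set_option autoImplicit false
universe u v w
open scoped TensorProduct
open ZeroCyc

namespace Groth.Agent.S13175

section aux

variable {A : Type u} [CommRing A] {B : Type v} [CommRing B] [Algebra A B]
  {S : Type u} [CommRing S] [Algebra A S] {T : Type u} [CommRing T] [Algebra A T]

lemma rTensor_eq_map (ψ : T →ₐ[A] S) (z : T ⊗[A] B) :
    ψ.toLinearMap.rTensor B z = Algebra.TensorProduct.map ψ (AlgHom.id A B) z := by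
  induction z using TensorProduct.induction_on with
  | zero => simp
  | tmul s b => simp
  | add x y hx hy => rw [map_add, map_add, hx, hy]

lemma rTensor_mul' (ψ : T →ₐ[A] S) (z w : T ⊗[A] B) :
    ψ.toLinearMap.rTensor B (z * w) = ψ.toLinearMap.rTensor B z * ψ.toLinearMap.rTensor B w := by
  rw [rTensor_eq_map, rTensor_eq_map, rTensor_eq_map, map_mul]

lemma rTensor_one' (ψ : T →ₐ[A] S) :
    ψ.toLinearMap.rTensor B (1 : T ⊗[A] B) = 1 := by
  rw [rTensor_eq_map, map_one]

lemma exists_lift₂ (x y : S ⊗[A] B) :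
    ∃ (n : ℕ) (ψ : MvPolynomial (Fin n) A →ₐ[A] S) (p q : MvPolynomial (Fin n) A ⊗[A] B),
      ψ.toLinearMap.rTensor B p = x ∧ ψ.toLinearMap.rTensor B q = y := by
  obtain ⟨A₁, hA₁, hx⟩ := TensorProduct.Algebra.exists_of_fg x
  obtain ⟨A₂, hA₂, hy⟩ := TensorProduct.Algebra.exists_of_fg y
  have hB : Subalgebra.FG (A₁ ⊔ A₂) := hA₁.sup hA₂
  obtain ⟨gen, hgen⟩ := PolynomialLaw.exists_range_φ_eq_of_fg hB
  have h1 : A₁ ≤ (PolynomialLaw.φ A gen).range := by rw [hgen]; exact le_sup_left
  have h2 : A₂ ≤ (PolynomialLaw.φ A gen).range := by rw [hgen]; exact le_sup_right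
  obtain ⟨p, hp⟩ := PolynomialLaw.exists_lift_of_mem_range_rTensor _ h1 hx
  obtain ⟨q, hq⟩ := PolynomialLaw.exists_lift_of_mem_range_rTensor _ h2 hy
  exact ⟨gen.card, PolynomialLaw.φ A gen, p, q, hp, hq⟩

end aux

/-- Let B and C be A-algebras and F : B → C a polynomial law. If the maps F over the polynomial rings
A[t_1, …, t_n], n ≥ 0, are multiplicative (send 1 to 1 and products to products), then F is a
multiplicative law: F sends 1 to 1 and products to products over every A-algebra. -/
theorem result {A : Type u} [CommRing A] {B : Type v} [CommRing B] [Algebra A B] {C : Type w} [CommRing C] [Algebra A C]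
    (F : B →ₚₗ[A] C)
    (h1 : ∀ n : ℕ, F.toFun' (MvPolynomial (Fin n) A) 1 = 1)
    (hmul : ∀ (n : ℕ) (x y : MvPolynomial (Fin n) A ⊗[A] B),
      F.toFun' (MvPolynomial (Fin n) A) (x * y) = F.toFun' (MvPolynomial (Fin n) A) x * F.toFun' (MvPolynomial (Fin n) A) y) :
    ∀ (S : Type u) [CommRing S] [Algebra A S], F.toFun' S 1 = 1 ∧
      ∀ x y : S ⊗[A] B, F.toFun' S (x * y) = F.toFun' S x * F.toFun' S y := by
  intro S _ _
  constructor
  · -- F 1 = 1 : use the structure map from polynomials in 0 variables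
    let ψ : MvPolynomial (Fin 0) A →ₐ[A] S := MvPolynomial.aeval (fun _ => (0 : S))
    have h := PolynomialLaw.isCompat_apply' (f := F) ψ (1 : MvPolynomial (Fin 0) A ⊗[A] B)
    rw [h1 0, rTensor_one', rTensor_one'] at h
    exact h.symm
  · intro x y
    obtain ⟨n, ψ, p, q, rfl, rfl⟩ := exists_lift₂ x y
    rw [← rTensor_mul', ← PolynomialLaw.isCompat_apply', ← PolynomialLaw.isCompat_apply',
      ← PolynomialLaw.isCompat_apply', hmul, rTensor_mul']

end Groth.Agent.S13175
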