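import Groth.Statements.S13176
import Groth.Agent.Lib.Helper79.QuotGeom
import Groth.Agent.Lib.Helper69.SpecResidue
import Groth.Agent.S13596

set_option autoImplicit false
universe u
open CategoryTheory CategoryTheory.Limits AlgebraicGeometry
open ZeroCyc

namespace Groth.Agent.S13176

/-- Let a finite group G act on a scheme X over S through ρ, let q : X → Y be a quotient of X by G over
S (affine, G-invariant, O_Y = the G-invariant sections of O_X), let S' → S be any morphism and X' =
X ×_S S' with the induced action ρ', and let r : X' → Y' be a quotient of X' by G. Then the morphism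
Y' → Y ×_S S' through which the canonical map X' → Y ×_S S' factors via r is a universal
homeomorphism. (The published statement assumes every G-orbit lies in an affine open, which is what
makes the quotients exist; here the two quotients are hypotheses.) -/
theorem result {X Y S S' Y' : Scheme.{u}} {G : Type u} [Group G] [Finite G]
    (ρ : G →* Aut X) (f : X ⟶ S) (hρ : ∀ σ : G, (ρ σ).hom ≫ f = f)
    (q : X ⟶ Y) (h : Y ⟶ S) (hq : q ≫ h = f) (hquot : SGA1.IsQuot ρ q)
    (g : S' ⟶ S)
    (ρ' : G →* Aut (pullback f g))
    (hρ' : ∀ σ : G, (ρ' σ).hom ≫ pullback.fst f g = pullback.fst f g ≫ (ρ σ).hom ∧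
      (ρ' σ).hom ≫ pullback.snd f g = pullback.snd f g)
    (r : pullback f g ⟶ Y') (hr : SGA1.IsQuot ρ' r)
    (m : Y' ⟶ pullback h g)
    (hm : r ≫ m = pullback.map f g h g q (𝟙 S') (𝟙 S)
      ((Category.comp_id f).trans hq.symm) ((Category.comp_id g).trans (Category.id_comp g).symm)) :
    FlatMor.IsUnivHomeo m := by
  have hn : IsPullback (pullback.map f g h g q (𝟙 S') (𝟙 S)
      ((Category.comp_id f).trans hq.symm) ((Category.comp_id g).trans (Category.id_comp g).symm))
      (pullback.fst f g) (pullback.fst h g) q := by
    refine IsPullback.of_right ?_ (pullback.lift_fst _ _ _) (IsPullback.of_hasPullback h g).flip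
    have e1 : pullback.map f g h g q (𝟙 S') (𝟙 S)
        ((Category.comp_id f).trans hq.symm)
        ((Category.comp_id g).trans (Category.id_comp g).symm) ≫ pullback.snd h g =
        pullback.snd f g := by
      rw [pullback.lift_snd, Category.comp_id]
    rw [e1, hq]
    exact (IsPullback.of_hasPullback f g).flip
  have hqint : IsIntegralHom q := Groth.Agent.S13596.result ρ q hquot
  have hqsurj : Surjective q := ⟨(Groth.Agent.S2908.result ρ q hquot).1⟩
  have hrsurj : Surjective r := ⟨(Groth.Agent.S2908.result ρ' r hr).1⟩
  have hnint : IsIntegralHom (r ≫ m) := by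
    rw [hm]
    exact MorphismProperty.of_isPullback (P := @IsIntegralHom) hn.flip hqint
  have hnsurj : Surjective (r ≫ m) := by
    rw [hm]
    exact MorphismProperty.of_isPullback (P := @Surjective) hn.flip hqsurj
  have hnuc : UniversallyClosed (r ≫ m) := inferInstance
  rw [Groth.Agent.Lib.Helper69.SpecResidue.isUnivHomeo_iff]
  refine ⟨UniversallyClosed.of_comp_surjective r m, ?_, Surjective.of_comp r m⟩
  refine Groth.Agent.Lib.Helper79.QuotGeom.universallyInjective_of_conj ρ' r hr m ?_
  intro K _ _ a b hab
  have h1 : (a ≫ pullback.fst f g) ≫ q = (b ≫ pullback.fst f g) ≫ q := by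
    have := congrArg (fun k => k ≫ pullback.fst h g) hab
    simp only [Category.assoc] at this
    rw [← Category.assoc r, hm, pullback.lift_fst] at this
    simpa only [Category.assoc] using this
  have h2 : a ≫ pullback.snd f g = b ≫ pullback.snd f g := by
    have := congrArg (fun k => k ≫ pullback.snd h g) hab
    simp only [Category.assoc] at this
    rw [← Category.assoc r, hm, pullback.lift_snd, Category.comp_id] at this
    exact this
  obtain ⟨σ, hσ⟩ := Groth.Agent.Lib.Helper79.FreeQuot.exists_conj_of_geometric ρ q hquot K _ _ h1
  refine ⟨σ, ?_⟩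
  apply pullback.hom_ext
  · rw [Category.assoc, (hρ' σ).1, ← Category.assoc, ← hσ]
  · rw [Category.assoc, (hρ' σ).2, h2]

end Groth.Agent.S13176
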