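import Groth.Statements.S13177
import Groth.Agent.Lib.Helper79.QuotGeom
import Groth.Agent.Lib.Helper69.SpecResidue
import Groth.Agent.S13596

set_option autoImplicit false
universe u
open CategoryTheory CategoryTheory.Limits AlgebraicGeometry
open ZeroCyc

namespace Groth.Agent.S13177

/-- the canonical map to the scheme-theoretic image is scheme-theoretically dominant. -/
theorem ker_toImage_eq_bot {X Y : Scheme.{u}} (f : X ⟶ Y) [QuasiCompact f] :
    f.toImage.ker = ⊥ := by
  haveI : IsAffineHom f.imageι := inferInstance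
  refine Scheme.IdealSheafData.ext_of_iSup_eq_top
    (fun U : Y.affineOpens => (⟨f.imageι ⁻¹ᵁ U.1, U.2.preimage f.imageι⟩ : f.image.affineOpens))
    ?_ ?_
  · rw [eq_top_iff]
    intro x _
    have hx : f.imageι.base x ∈ (⨆ U : Y.affineOpens, U.1 : Y.Opens) := by
      rw [iSup_affineOpens_eq_top]; trivial
    obtain ⟨U, hU⟩ := TopologicalSpace.Opens.mem_iSup.1 hx
    exact TopologicalSpace.Opens.mem_iSup.2 ⟨U, hU⟩
  · intro U
    rw [Scheme.Hom.ker_apply, Scheme.IdealSheafData.ideal_bot, Pi.bot_apply,
      ← RingHom.injective_iff_ker_eq_bot]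
    exact f.toImage_app_injective U

/-- Let a finite group G act on a scheme X with quotient q : X → Y (affine, G-invariant, O_Y = the
invariant sections), let i : Z → X be a G-stable closed subscheme with the induced action and r : Z
→ W a quotient of Z by G, and let q(Z) be the scheme-theoretic image of Z in Y. Then the morphism W
→ q(Z) through which Z → q(Z) factors via r is a schematically dominant universal homeomorphism.
(The published statement assumes the quotient of X exists; here both quotients are hypotheses.) -/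
theorem result {X Y Z W : Scheme.{u}} {G : Type u} [Group G] [Finite G]
    (ρ : G →* Aut X) (q : X ⟶ Y) (hquot : SGA1.IsQuot ρ q)
    (i : Z ⟶ X) [IsClosedImmersion i] (ρZ : G →* Aut Z) (hρZ : ∀ σ : G, (ρZ σ).hom ≫ i = i ≫ (ρ σ).hom)
    (r : Z ⟶ W) (hr : SGA1.IsQuot ρZ r)
    (m : W ⟶ (i ≫ q).ker.subscheme) (hm : r ≫ m ≫ (i ≫ q).ker.subschemeι = i ≫ q) :
    FlatMor.IsUnivHomeo m ∧ IsSchemeTheoreticallyDominant m := by
  have hqint : IsIntegralHom q := Groth.Agent.S13596.result ρ q hquot
  haveI : UniversallyClosed (i ≫ q) := inferInstance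
  haveI : QuasiCompact (i ≫ q) := inferInstance
  have hrm : r ≫ m = (i ≫ q).toImage := by
    rw [← cancel_mono (i ≫ q).imageι, Category.assoc, Scheme.Hom.toImage_imageι]
    exact hm
  have hrsurj : Surjective r := ⟨(Groth.Agent.S2908.result ρZ r hr).1⟩
  haveI : UniversallyClosed (r ≫ m) := by rw [hrm]; infer_instance
  haveI : Surjective (r ≫ m) := by
    rw [hrm]
    exact surjective_of_isDominant_of_isClosed_range _
      ((i ≫ q).toImage.isClosedMap).isClosed_range
  constructor
  · rw [Groth.Agent.Lib.Helper69.SpecResidue.isUnivHomeo_iff]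
    refine ⟨UniversallyClosed.of_comp_surjective r m, ?_, Surjective.of_comp r m⟩
    refine Groth.Agent.Lib.Helper79.QuotGeom.universallyInjective_of_conj ρZ r hr m ?_
    intro K _ _ a b hab
    have h1 : (a ≫ i) ≫ q = (b ≫ i) ≫ q := by
      have := congrArg (fun k => k ≫ (i ≫ q).ker.subschemeι) hab
      simp only [Category.assoc] at this
      rw [hm] at this
      simpa only [Category.assoc] using this
    obtain ⟨σ, hσ⟩ := Groth.Agent.Lib.Helper79.FreeQuot.exists_conj_of_geometric ρ q hquot K _ _ h1
    refine ⟨σ, ?_⟩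
    rw [← cancel_mono i, Category.assoc, hρZ σ, ← Category.assoc, ← hσ]
  · constructor
    have h0 := ker_toImage_eq_bot (i ≫ q)
    exact le_bot_iff.1 ((r.le_ker_comp m).trans (by rw [hrm, h0]))

end Groth.Agent.S13177
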