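import Groth.Statements.S13184
import Mathlib
-- import your own Groth.Agent.* helpers here

set_option autoImplicit false
universe u
open ZeroCyc

namespace Groth.Agent.S13184

/-- Frobenius twist evaluation. -/
lemma eval_map_iterateFrobenius {R : Type*} [CommRing R] (p : ℕ) [ExpChar R p] (e : ℕ)
    (G : Polynomial R) (x : R) :
    Polynomial.eval (x ^ p ^ e) (G.map (iterateFrobenius R p e)) = (Polynomial.eval x G) ^ p ^ e := by
  rw [Polynomial.eval_map, ← iterateFrobenius_def, Polynomial.eval₂_hom, iterateFrobenius_def]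

lemma mem_A_pow {k : Type u} [Field k] (p : ℕ) [Fact p.Prime]
    {Ω : Type u} [Field Ω] [Algebra k Ω] (e : ℕ) [CharP Ω p] (a : Ω)
    (ha : a ∈ IntermediateField.adjoin k {y : Ω | y ^ (p ^ e) ∈ Set.range (algebraMap k Ω)}) :
    a ^ (p ^ e) ∈ Set.range (algebraMap k Ω) := by
  induction ha using IntermediateField.adjoin_induction with
  | mem x hx => exact hx
  | algebraMap x => exact ⟨x ^ p ^ e, by rw [map_pow]⟩
  | add x y _ _ hx hy =>
    obtain ⟨a, ha⟩ := hx
    obtain ⟨b, hb⟩ := hy
    exact ⟨a + b, by rw [map_add, ha, hb, add_pow_char_pow]⟩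
  | inv x _ hx =>
    obtain ⟨a, ha⟩ := hx
    exact ⟨a⁻¹, by rw [map_inv₀, ha, inv_pow]⟩
  | mul x y _ _ hx hy =>
    obtain ⟨a, ha⟩ := hx
    obtain ⟨b, hb⟩ := hy
    exact ⟨a * b, by rw [map_mul, ha, hb, mul_pow]⟩

/-- Let k ⊆ K be a finite extension of fields of characteristic p > 0, viewed inside an algebraically
closed field Ω, and for e ≥ 0 let k^{p^{-e}} ⊆ Ω be the field of elements whose p^e-th power lies in
k. Then the compositum k^{p^{-e}}K is separable over k^{p^{-e}} if and only if x^{p^e} is separable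
over k for every x ∈ K; hence the exponent of K/k (the least n ≥ 1 with K^n separable over k, a
power of p) is the least p^e for which k^{p^{-e}} ⊆ k^{p^{-e}}K is separable. -/
theorem result {k : Type u} [Field k] (p : ℕ) [Fact p.Prime] [CharP k p]
    {K : Type u} [Field K] [Algebra k K] [FiniteDimensional k K]
    {Ω : Type u} [Field Ω] [Algebra k Ω] [Algebra K Ω] [IsScalarTower k K Ω] [IsAlgClosed Ω] (e : ℕ) :
    (∀ x : Ω, x ∈ IntermediateField.adjoin k {y : Ω | y ^ (p ^ e) ∈ Set.range (algebraMap k Ω)} ⊔
        IntermediateField.adjoin k (Set.range (algebraMap K Ω)) →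
      IsSeparable (IntermediateField.adjoin k {y : Ω | y ^ (p ^ e) ∈ Set.range (algebraMap k Ω)}) x) ↔
    ∀ x : K, x ^ (p ^ e) ∈ separableClosure k K := by
  classical
  have hcharΩ : CharP Ω p := charP_of_injective_algebraMap (algebraMap k Ω).injective p
  have hexpΩ : ExpChar Ω p := ExpChar.prime (Fact.out)
  obtain ⟨A, hA⟩ : ∃ A : IntermediateField k Ω, A = IntermediateField.adjoin k
    {y : Ω | y ^ (p ^ e) ∈ Set.range (algebraMap k Ω)} := ⟨_, rfl⟩
  rw [← hA]
  constructor
  · intro h x
    have hx' : IsSeparable A (algebraMap K Ω x) :=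
      h _ ((le_sup_right (a := A)) (IntermediateField.subset_adjoin k _ ⟨x, rfl⟩))
    obtain ⟨g, hg⟩ : ∃ g : Polynomial A, g = minpoly A (algebraMap K Ω x) := ⟨_, rfl⟩
    have hgsep : g.Separable := hg ▸ hx'
    have hgx : Polynomial.aeval (algebraMap K Ω x) g = 0 := hg ▸ minpoly.aeval _ _
    obtain ⟨G, hG⟩ : ∃ G : Polynomial Ω, G = (g.map (algebraMap A Ω)).map (iterateFrobenius Ω p e) :=
      ⟨_, rfl⟩
    have hGsep : G.Separable := hG ▸ (hgsep.map).map
    have hGlift : G ∈ Polynomial.lifts (algebraMap k Ω) := by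
      rw [Polynomial.lifts_iff_coeff_lifts]
      intro n
      rw [hG, Polynomial.coeff_map, Polynomial.coeff_map, iterateFrobenius_def]
      apply mem_A_pow p e
      rw [← hA]; exact (g.coeff n).2
    obtain ⟨h0, hh0⟩ := (Polynomial.mem_lifts _).1 hGlift
    have hh0sep : h0.Separable := (Polynomial.separable_map (algebraMap k Ω)).1 (hh0 ▸ hGsep)
    have hroot : Polynomial.aeval ((algebraMap K Ω x) ^ p ^ e) h0 = 0 := by
      rw [Polynomial.aeval_def, ← Polynomial.eval_map, hh0, hG, eval_map_iterateFrobenius,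
        Polynomial.eval_map, ← Polynomial.aeval_def, hgx, zero_pow]
      exact pow_ne_zero _ (Fact.out : p.Prime).ne_zero
    have hsepΩ : IsSeparable k ((algebraMap K Ω x) ^ p ^ e) :=
      hh0sep.of_dvd (minpoly.dvd _ _ hroot)
    rw [← map_pow] at hsepΩ
    rw [mem_separableClosure_iff]
    exact IsSeparable.of_algHom (IsScalarTower.toAlgHom k K Ω) hsepΩ
  · intro h x hx
    have hle : A ⊔ IntermediateField.adjoin k (Set.range (algebraMap K Ω)) ≤
        (separableClosure A Ω).restrictScalars k := by
      apply sup_le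
      · intro a ha
        exact (separableClosure A Ω).algebraMap_mem ⟨a, ha⟩
      · rw [IntermediateField.adjoin_le_iff]
        rintro _ ⟨x, rfl⟩
        show algebraMap K Ω x ∈ separableClosure A Ω
        rw [mem_separableClosure_iff]
        have hz : IsSeparable k (x ^ p ^ e) := mem_separableClosure_iff.1 (h x)
        obtain ⟨h0, hh0⟩ : ∃ h0 : Polynomial k, h0 = minpoly k (x ^ p ^ e) := ⟨_, rfl⟩
        have hh0sep : h0.Separable := hh0 ▸ hz
        have hh0z : Polynomial.aeval (x ^ p ^ e) h0 = 0 := hh0 ▸ minpoly.aeval _ _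
        obtain ⟨H, hH⟩ : ∃ H : Polynomial Ω, H = h0.map (algebraMap k Ω) := ⟨_, rfl⟩
        have hHsep : H.Separable := hH ▸ hh0sep.map
        have hHroot : Polynomial.eval ((algebraMap K Ω x) ^ p ^ e) H = 0 := by
          rw [hH, Polynomial.eval_map, ← Polynomial.aeval_def, ← map_pow,
            Polynomial.aeval_algebraMap_apply, hh0z, map_zero]
        obtain ⟨G, hG⟩ : ∃ G : Polynomial Ω,
          G = H.map ((iterateFrobeniusEquiv Ω p e).symm : Ω →+* Ω) := ⟨_, rfl⟩
        have hGH : G.map (iterateFrobenius Ω p e) = H := by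
          rw [hG, Polynomial.map_map]
          have : (iterateFrobenius Ω p e).comp ((iterateFrobeniusEquiv Ω p e).symm : Ω →+* Ω) =
              RingHom.id Ω := RingHom.ext fun y => (iterateFrobeniusEquiv Ω p e).apply_symm_apply y
          rw [this, Polynomial.map_id]
        have hGsep : G.Separable :=
          (Polynomial.separable_map (iterateFrobenius Ω p e)).1 (hGH.symm ▸ hHsep)
        have hGlift : G ∈ Polynomial.lifts (algebraMap A Ω) := by
          rw [Polynomial.lifts_iff_coeff_lifts]
          intro n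
          have hc : G.coeff n ∈ A := by
            rw [hA]
            apply IntermediateField.subset_adjoin
            show (G.coeff n) ^ p ^ e ∈ Set.range (algebraMap k Ω)
            refine ⟨h0.coeff n, ?_⟩
            have := congrArg (fun P => Polynomial.coeff P n) hGH
            simp only [Polynomial.coeff_map, iterateFrobenius_def] at this
            rw [this, hH, Polynomial.coeff_map]
          exact ⟨⟨G.coeff n, hc⟩, rfl⟩
        obtain ⟨g, hg⟩ := (Polynomial.mem_lifts _).1 hGlift
        have hgsep : g.Separable := (Polynomial.separable_map (algebraMap A Ω)).1 (hg.symm ▸ hGsep)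
        have hGroot : Polynomial.eval (algebraMap K Ω x) G = 0 := by
          have := eval_map_iterateFrobenius p e G (algebraMap K Ω x)
          rw [hGH, hHroot] at this
          exact pow_eq_zero_iff (pow_ne_zero _ (Fact.out : p.Prime).ne_zero) |>.1 this.symm
        have hgroot : Polynomial.aeval (algebraMap K Ω x) g = 0 := by
          rw [Polynomial.aeval_def, ← Polynomial.eval_map, hg, hGroot]
        exact hgsep.of_dvd (minpoly.dvd _ _ hgroot)
    exact mem_separableClosure_iff.1 (hle hx)

end Groth.Agent.S13184
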