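import Groth.Statements.S13186
import Groth.Agent.Lib.Helper86.Hilbert90GL

set_option autoImplicit false
universe u
open GalCoh

namespace Groth.Agent.S13186

/-- Let L/K be a finite Galois extension of fields, n a natural number, and B a map from the Galois
group of L over K to the invertible n × n matrices over L such that B(σ) · σ(B(τ)) = B(στ) for all
σ, τ (σ acting on matrices entrywise, στ applying τ first) and det B(σ) = 1 for every σ. Then there
is an invertible matrix A over L of determinant 1 with B(σ) = A⁻¹ · σ(A) for every σ; that is, every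
1-cocycle of the Galois group with values in SL_n(L) is the coboundary of an element of SL_n(L), so
H¹ of the Galois group with values in SL_n(L) is a point. (The published statement says that every
torsor under the special linear group over K is trivial; this row is the finite-Galois-level cocycle
form that its proof establishes.) -/
theorem result (K L : Type u) [Field K] [Field L]
    [Algebra K L] [FiniteDimensional K L] [IsGalois K L] (n : ℕ)
    (B : (L ≃ₐ[K] L) → GL (Fin n) L)
    (hB : ∀ σ τ : L ≃ₐ[K] L,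
      (B σ : Matrix (Fin n) (Fin n) L) * (B τ : Matrix (Fin n) (Fin n) L).map σ =
        (B (σ * τ) : Matrix (Fin n) (Fin n) L))
    (hdet : ∀ σ : L ≃ₐ[K] L, Matrix.det (B σ : Matrix (Fin n) (Fin n) L) = 1) :
    ∃ A : GL (Fin n) L, Matrix.det (A : Matrix (Fin n) (Fin n) L) = 1 ∧ ∀ σ : L ≃ₐ[K] L,
      (B σ : Matrix (Fin n) (Fin n) L) =
        ((A⁻¹ : GL (Fin n) L) : Matrix (Fin n) (Fin n) L) * (A : Matrix (Fin n) (Fin n) L).map σ := by
  classical
  obtain ⟨A₀, hA₀⟩ := Groth.Agent.Lib.Helper86.hilbert90_GL B hB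
  cases n with
  | zero =>
    refine ⟨A₀, Matrix.det_isEmpty, hA₀⟩
  | succ n =>
    set δ : L := Matrix.det (A₀ : Matrix (Fin (n + 1)) (Fin (n + 1)) L) with hδ
    have hδ0 : δ ≠ 0 := by
      have := Matrix.GeneralLinearGroup.det_ne_zero A₀
      exact this
    -- `δ` is Galois-invariant
    have hinv : ((A₀⁻¹ : GL (Fin (n + 1)) L) : Matrix (Fin (n + 1)) (Fin (n + 1)) L) *
        (A₀ : Matrix (Fin (n + 1)) (Fin (n + 1)) L) = 1 := by
      exact_mod_cast A₀.inv_mul
    have hdetinv : Matrix.det ((A₀⁻¹ : GL (Fin (n + 1)) L) : Matrix (Fin (n + 1)) (Fin (n + 1)) L) * δ = 1 := by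
      rw [hδ, ← Matrix.det_mul, hinv, Matrix.det_one]
    have hσδ : ∀ σ : L ≃ₐ[K] L, σ δ = δ := by
      intro σ
      have h1 := congrArg Matrix.det (hA₀ σ)
      rw [hdet σ, Matrix.det_mul] at h1
      have h2 : Matrix.det ((A₀ : Matrix (Fin (n + 1)) (Fin (n + 1)) L).map σ) = σ δ := by
        have := (RingHom.map_det (σ : L →+* L) (A₀ : Matrix (Fin (n + 1)) (Fin (n + 1)) L)).symm
        simpa [RingHom.mapMatrix_apply] using this
      rw [h2] at h1
      -- 1 = det(A₀⁻¹) * σ δ, and det(A₀⁻¹) * δ = 1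
      have h3 : Matrix.det ((A₀⁻¹ : GL (Fin (n + 1)) L) : Matrix (Fin (n + 1)) (Fin (n + 1)) L) ≠ 0 := by
        intro h
        rw [h, zero_mul] at hdetinv
        exact zero_ne_one hdetinv
      exact mul_left_cancel₀ h3 (h1.symm.trans hdetinv.symm)
    -- the diagonal matrix
    let d : Fin (n + 1) → L := Function.update (fun _ => (1 : L)) 0 δ⁻¹
    let D : Matrix (Fin (n + 1)) (Fin (n + 1)) L := Matrix.diagonal d
    have hdprod : ∏ i, d i = δ⁻¹ := by
      simp [d, Finset.prod_update_of_mem]
    have hDdet : D.det = δ⁻¹ := by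
      rw [Matrix.det_diagonal, hdprod]
    have hDdet0 : D.det ≠ 0 := by
      rw [hDdet]
      exact inv_ne_zero hδ0
    have hDσ : ∀ σ : L ≃ₐ[K] L, D.map σ = D := by
      intro σ
      ext i j
      simp only [D, Matrix.map_apply, Matrix.diagonal_apply]
      split_ifs with hij
      · simp only [d, Function.update_apply]
        split_ifs
        · rw [map_inv₀, hσδ]
        · exact map_one σ
      · exact map_zero σ
    let DG : GL (Fin (n + 1)) L := Matrix.GeneralLinearGroup.mkOfDetNeZero D hDdet0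
    have hDG : (DG : Matrix (Fin (n + 1)) (Fin (n + 1)) L) = D := rfl
    have hDGinv : ((DG⁻¹ : GL (Fin (n + 1)) L) : Matrix (Fin (n + 1)) (Fin (n + 1)) L) * D = 1 := by
      rw [← hDG]
      exact_mod_cast DG.inv_mul
    refine ⟨DG * A₀, ?_, fun σ => ?_⟩
    · rw [Units.val_mul, Matrix.det_mul, hDG, hDdet, ← hδ, inv_mul_cancel₀ hδ0]
    · rw [mul_inv_rev, Units.val_mul, Units.val_mul, hDG]
      have hmap : (D * (A₀ : Matrix (Fin (n + 1)) (Fin (n + 1)) L)).map σ =
          D * (A₀ : Matrix (Fin (n + 1)) (Fin (n + 1)) L).map σ := by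
        have := Matrix.map_mul (L := D) (M := (A₀ : Matrix (Fin (n + 1)) (Fin (n + 1)) L))
          (f := (σ : L →+* L))
        have h' : (D * (A₀ : Matrix (Fin (n + 1)) (Fin (n + 1)) L)).map σ =
            D.map σ * (A₀ : Matrix (Fin (n + 1)) (Fin (n + 1)) L).map σ := this
        rw [h', hDσ]
      rw [hmap, hA₀ σ]
      calc ((A₀⁻¹ : GL (Fin (n + 1)) L) : Matrix (Fin (n + 1)) (Fin (n + 1)) L) *
            (A₀ : Matrix (Fin (n + 1)) (Fin (n + 1)) L).map σ
          = ((A₀⁻¹ : GL (Fin (n + 1)) L) : Matrix (Fin (n + 1)) (Fin (n + 1)) L) *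
            ((((DG⁻¹ : GL (Fin (n + 1)) L) : Matrix (Fin (n + 1)) (Fin (n + 1)) L) * D) *
            (A₀ : Matrix (Fin (n + 1)) (Fin (n + 1)) L).map σ) := by
            rw [hDGinv, one_mul]
        _ = _ := by
            simp only [mul_assoc]

end Groth.Agent.S13186
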