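import Groth.Statements.S13188
-- import your own Groth.Agent.* helpers here

set_option autoImplicit false
universe u v w
open Brauer

namespace Groth.Agent.S13188

section aux

lemma eval_smul_of_isHomogeneous {σ : Type*} {K : Type*} [CommSemiring K]
    {F : MvPolynomial σ K} {d : ℕ} (hF : F.IsHomogeneous d) (t : K) (x : σ → K) :
    MvPolynomial.eval (fun i => t * x i) F = t ^ d * MvPolynomial.eval x F := by
  rw [MvPolynomial.eval_eq, MvPolynomial.eval_eq, Finset.mul_sum]
  refine Finset.sum_congr rfl fun m hm => ?_
  have hd : d = ∑ i ∈ m.support, m i := hF.degree_eq_sum_deg_support hm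
  have : ∏ i ∈ m.support, (t * x i) ^ m i = t ^ d * ∏ i ∈ m.support, x i ^ m i := by
    simp_rw [mul_pow]
    rw [Finset.prod_mul_distrib, Finset.prod_pow_eq_pow_sum, ← hd]
  rw [this]
  ring

end aux

/-- Let K be a field with property C_2 for systems of forms and D a finite-dimensional central division
algebra over K with dim_K D = d². Let N : D → K be multiplicative, a reduced norm of D over K, and
given in the coordinates of a K-basis b of D by a homogeneous polynomial F of degree d, i.e. N(Σ x_i
b_i) = F(x) for every coordinate vector x (the reduced norm of a central simple algebra of dimension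
d² is such a polynomial map of degree d; these data record it). Then N : D → K is surjective. -/
theorem result (K : Type u) [Field K] (hK : Curves.IsCi K 2)
    (D : Type v) [DivisionRing D] [Algebra K D] [Algebra.IsCentral K D] [FiniteDimensional K D]
    (d : ℕ) (hd : Module.finrank K D = d ^ 2)
    (N : D →* K) (hN : CSAGal.IsRedNorm K D N)
    {ι : Type w} [Fintype ι] (b : Module.Basis ι K D)
    (F : MvPolynomial ι K) (hF : F.IsHomogeneous d)
    (hNF : ∀ x : ι → K, N (∑ i, x i • b i) = MvPolynomial.eval x F) :
    Function.Surjective N := by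
  classical
  intro c
  have hN0 : ∀ y : D, y ≠ 0 → N y ≠ 0 := by
    intro y hy h0
    have h1 : N (y * y⁻¹) = 1 := by rw [mul_inv_cancel₀ hy, map_one]
    rw [map_mul, h0, zero_mul] at h1
    exact zero_ne_one h1
  have hcard : Fintype.card ι = d ^ 2 := by
    rw [← hd, Module.finrank_eq_card_basis b]
  have hdpos : 0 < d := by
    rcases Nat.eq_zero_or_pos d with h0 | h0
    · exfalso
      have hfr : 0 < Module.finrank K D := Module.finrank_pos
      rw [hd, h0] at hfr
      simp at hfr
    · exact h0
  -- index equivalence
  let n := d ^ 2 + 1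
  have e : ι ⊕ Unit ≃ Fin n :=
    Fintype.equivFinOfCardEq (by simp [hcard, n])
  let G : MvPolynomial (Fin n) K :=
    MvPolynomial.rename (fun i => e (Sum.inl i)) F - MvPolynomial.C c * MvPolynomial.X (e (Sum.inr ())) ^ d
  have hG : G.IsHomogeneous d :=
    (hF.rename_isHomogeneous).sub (MvPolynomial.isHomogeneous_C_mul_X_pow c _ d)
  obtain ⟨a, ha0, haz⟩ := hK 1 n (fun _ => G) (fun _ => d) (fun _ => hG) (fun _ => hdpos)
    (by simp [n])
  have hz := haz 0
  simp only [G, map_sub, MvPolynomial.eval_rename, map_mul, MvPolynomial.eval_C, map_pow,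
    MvPolynomial.eval_X] at hz
  set x : ι → K := fun i => a (e (Sum.inl i)) with hx
  set z : K := a (e (Sum.inr ())) with hzdef
  have hFx : MvPolynomial.eval x F = c * z ^ d := by
    have : (a ∘ fun i => e (Sum.inl i)) = x := rfl
    rw [this] at hz
    exact sub_eq_zero.1 hz
  by_cases hz0 : z = 0
  · exfalso
    rw [hz0, zero_pow hdpos.ne', mul_zero] at hFx
    have hNx : N (∑ i, x i • b i) = 0 := by rw [hNF, hFx]
    have hsum : ∑ i, x i • b i = 0 := by
      by_contra hne
      exact hN0 _ hne hNx
    have hx0 : ∀ i, x i = 0 := by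
      have := (Fintype.linearIndependent_iff.1 b.linearIndependent) x hsum
      exact this
    apply ha0
    funext j
    obtain ⟨s, rfl⟩ := e.surjective j
    rcases s with i | u
    · exact hx0 i
    · cases u
      exact hz0
  · refine ⟨∑ i, (z⁻¹ * x i) • b i, ?_⟩
    rw [hNF, eval_smul_of_isHomogeneous hF, hFx, inv_pow]
    field_simp

end Groth.Agent.S13188
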