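import Groth.Statements.S13189
import Mathlib
-- import your own Groth.Agent.* helpers here

set_option autoImplicit false
universe u
open CAlg

namespace Groth.Agent.S13189

/-- in a ring where `x ^ q = x` (`q ≥ 2`), every power of `x` equals a power with exponent `≤ q - 1`. -/
lemma pow_red {A : Type u} [CommRing A] (x : A) (q : ℕ) (hq : 2 ≤ q) (hx : x ^ q = x) (a : ℕ) :
    ∃ b, b ≤ q - 1 ∧ x ^ a = x ^ b := by
  induction a using Nat.strong_induction_on with
  | _ a ih =>
    by_cases ha : a ≤ q - 1
    · exact ⟨a, ha, rfl⟩
    · have h1 : q ≤ a := by omega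
      obtain ⟨b, hb, hb'⟩ := ih (a - q + 1) (by omega)
      refine ⟨b, hb, ?_⟩
      rw [← hb', pow_succ, ← Nat.sub_add_cancel h1, pow_add, hx, Nat.add_sub_cancel]

/-- the generators vanish everywhere -/
lemma eval_mem_J (K : Type u) [Field K] [Fintype K] (n : ℕ) (p : MvPolynomial (Fin n) K)
    (hp : p ∈ Ideal.span (Set.range fun i : Fin n =>
        (MvPolynomial.X i ^ Fintype.card K - MvPolynomial.X i : MvPolynomial (Fin n) K)))
    (a : Fin n → K) : MvPolynomial.eval a p = 0 := by
  have : Ideal.span (Set.range fun i : Fin n =>
        (MvPolynomial.X i ^ Fintype.card K - MvPolynomial.X i : MvPolynomial (Fin n) K)) ≤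
      RingHom.ker (MvPolynomial.eval a) := by
    rw [Ideal.span_le]
    rintro _ ⟨i, rfl⟩
    simp [RingHom.mem_ker, FiniteField.pow_card]
  exact this hp

/-- every polynomial is congruent to a reduced one -/
lemma exists_reduced (K : Type u) [Field K] [Fintype K] (n : ℕ) (p : MvPolynomial (Fin n) K) :
    ∃ p' ∈ MvPolynomial.restrictDegree (Fin n) K (Fintype.card K - 1),
      p - p' ∈ Ideal.span (Set.range fun i : Fin n =>
        (MvPolynomial.X i ^ Fintype.card K - MvPolynomial.X i : MvPolynomial (Fin n) K)) := by
  set J := Ideal.span (Set.range fun i : Fin n =>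
        (MvPolynomial.X i ^ Fintype.card K - MvPolynomial.X i : MvPolynomial (Fin n) K)) with hJ
  have hq : 2 ≤ Fintype.card K := Fintype.one_lt_card
  have hx : ∀ i : Fin n, (Ideal.Quotient.mk J (MvPolynomial.X i)) ^ Fintype.card K =
      Ideal.Quotient.mk J (MvPolynomial.X i) := by
    intro i
    rw [← map_pow, ← sub_eq_zero, ← map_sub, Ideal.Quotient.eq_zero_iff_mem]
    exact Ideal.subset_span ⟨i, rfl⟩
  induction p using MvPolynomial.induction_on' with
  | monomial s c =>
    choose b hb hb' using fun i : Fin n =>
      pow_red (Ideal.Quotient.mk J (MvPolynomial.X i)) (Fintype.card K) hq (hx i) (s i)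
    refine ⟨MvPolynomial.monomial (Finsupp.equivFunOnFinite.symm b) c, ?_, ?_⟩
    · rw [MvPolynomial.mem_restrictDegree]
      intro t ht i
      have := MvPolynomial.support_monomial_subset ht
      rw [Finset.mem_singleton] at this
      rw [this]
      exact hb i
    · rw [← Ideal.Quotient.eq_zero_iff_mem, map_sub, sub_eq_zero, MvPolynomial.monomial_eq,
        MvPolynomial.monomial_eq, map_mul, map_mul, Finsupp.prod_fintype _ _ (by simp),
        Finsupp.prod_fintype _ _ (by simp), map_prod, map_prod]
      congr 1
      refine Finset.prod_congr rfl fun i _ => ?_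
      rw [map_pow, map_pow, hb' i]
      rfl
  | add p q hp hq' =>
    obtain ⟨p', hp', hpp⟩ := hp
    obtain ⟨q', hq'', hqq⟩ := hq'
    refine ⟨p' + q', add_mem hp' hq'', ?_⟩
    have : p + q - (p' + q') = (p - p') + (q - q') := by ring
    rw [this]
    exact add_mem hpp hqq

/-- a reduced polynomial in `Fin n` variables vanishing everywhere is zero (universe transport). -/
lemma eq_zero_of_reduced (K : Type u) [Field K] [Fintype K] (n : ℕ) (p : MvPolynomial (Fin n) K)
    (hp : p ∈ MvPolynomial.restrictDegree (Fin n) K (Fintype.card K - 1))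
    (h : ∀ a : Fin n → K, MvPolynomial.eval a p = 0) : p = 0 := by
  let e : Fin n ≃ ULift.{u} (Fin n) := Equiv.ulift.symm
  have h1 : MvPolynomial.rename e p = 0 := by
    apply MvPolynomial.eq_zero_of_eval_eq_zero (ULift.{u} (Fin n)) K
    · intro v
      rw [MvPolynomial.eval_rename]
      exact h _
    · rw [MvPolynomial.mem_restrictDegree] at hp ⊢
      intro t ht i
      have := MvPolynomial.support_rename_of_injective (f := e) e.injective (p := p)
      rw [this, Finset.mem_image] at ht
      obtain ⟨t', ht', rfl⟩ := ht
      have h2 : (Finsupp.mapDomain e t') i = t' (e.symm i) := by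
        have := Finsupp.mapDomain_apply e.injective t' (e.symm i)
        rwa [Equiv.apply_symm_apply] at this
      rw [h2]
      exact hp t' ht' _
  exact MvPolynomial.rename_injective e e.injective (h1.trans (map_zero _).symm)

/-- For a finite field K of cardinality q and n ≥ 0, a polynomial p in n variables over K vanishes at
every point of K^n if and only if p belongs to the ideal generated by the X_i^q − X_i, i = 1, …, n;
in other words that ideal is the kernel of the evaluation homomorphism from K[X_1, …, X_n] to the
ring of K-valued functions on K^n. -/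
theorem result (K : Type u) [Field K] [Fintype K]
    (n : ℕ) (p : MvPolynomial (Fin n) K) :
    (∀ a : Fin n → K, MvPolynomial.eval a p = 0) ↔
      p ∈ Ideal.span (Set.range fun i : Fin n =>
        (MvPolynomial.X i ^ Fintype.card K - MvPolynomial.X i : MvPolynomial (Fin n) K)) := by
  constructor
  · intro h
    obtain ⟨p', hp', hpp⟩ := exists_reduced K n p
    have h0 : p' = 0 := by
      apply eq_zero_of_reduced K n p' hp'
      intro a
      have h1 := eval_mem_J K n _ hpp a
      rw [map_sub, h a, zero_sub, neg_eq_zero] at h1
      exact h1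
    rw [h0, sub_zero] at hpp
    exact hpp
  · intro h a
    exact eval_mem_J K n p h a

end Groth.Agent.S13189
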