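import Groth.Statements.S13191
-- import your own Groth.Agent.* helpers here

set_option autoImplicit false
universe u v w x
open GalCoh

namespace Groth.Agent.S13191

section aux
variable {A : Type v} {E : Type w} [Group A] [MulAction Aᵐᵒᵖ E]

lemma op_smul_op_smul (x y : A) (m : E) :
    MulOpposite.op y • (MulOpposite.op x • m) = MulOpposite.op (x * y) • m := by
  rw [← mul_smul, ← MulOpposite.op_mul]

end aux

/-- Let a group G act by automorphisms on a group A, and let E and E' each be a G-equivariant right
A-torsor (a set with a simply transitive right action of A, written m ↦ m·a, and a left action of G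
with g(m·a) = (gm)·(ga)). Let m ∈ E and m' ∈ E' be points with attached maps a, a' : G → A (g·m =
m·a(g) and g·m' = m'·a'(g) for all g). Then there is a bijection E ≃ E' commuting with the actions
of G and of A if and only if a and a' are cohomologous. (The published statement is for a Galois
group acting on discrete modules; this row takes an arbitrary group acting on a group.) -/
theorem result {G : Type u} {A : Type v} {E : Type w} {E' : Type x}
    [Group G] [Group A] [MulDistribMulAction G A]
    [MulAction G E] [MulAction Aᵐᵒᵖ E]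
    (hfree : ∀ m₁ m₂ : E, ∃! a : A, m₂ = MulOpposite.op a • m₁)
    (hcompat : ∀ (g : G) (a : A) (m : E), g • (MulOpposite.op a • m) = MulOpposite.op (g • a) • g • m)
    [MulAction G E'] [MulAction Aᵐᵒᵖ E']
    (hfree' : ∀ m₁ m₂ : E', ∃! a : A, m₂ = MulOpposite.op a • m₁)
    (hcompat' : ∀ (g : G) (a : A) (m : E'), g • (MulOpposite.op a • m) = MulOpposite.op (g • a) • g • m)
    (m : E) (a : G → A) (ha : ∀ g : G, g • m = MulOpposite.op (a g) • m)
    (m' : E') (a' : G → A) (ha' : ∀ g : G, g • m' = MulOpposite.op (a' g) • m') :
    (∃ f : E ≃ E', (∀ (g : G) (e : E), f (g • e) = g • f e) ∧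
        ∀ (b : A) (e : E), f (MulOpposite.op b • e) = MulOpposite.op b • f e) ↔
      GpH1.Cohomologous a a' := by
  constructor
  · rintro ⟨f, hfG, hfA⟩
    obtain ⟨c, hc, _⟩ := hfree' m' (f m)
    refine ⟨c, fun σ => ?_⟩
    have h1 : σ • f m = MulOpposite.op (c * a σ) • m' := by
      rw [← hfG, ha σ, hfA, hc, op_smul_op_smul]
    have h2 : σ • f m = MulOpposite.op (a' σ * σ • c) • m' := by
      rw [hc, hcompat', ha' σ, op_smul_op_smul]
    have h3 : c * a σ = a' σ * σ • c := (hfree' m' (σ • f m)).unique h1 h2
    have h4 : a σ = c⁻¹ * (c * a σ) := by group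
    rw [h4, h3, mul_assoc]
  · rintro ⟨c, hc⟩
    have hx : ∀ e : E, ∃ x : A, e = MulOpposite.op x • m := fun e => (hfree m e).exists
    have hy : ∀ e : E', ∃ y : A, e = MulOpposite.op y • m' := fun e => (hfree' m' e).exists
    choose x hxs using hx
    choose y hys using hy
    have hxu : ∀ (e : E) (z : A), e = MulOpposite.op z • m → x e = z := fun e z hz =>
      (hfree m e).unique (hxs e) hz
    have hyu : ∀ (e : E') (z : A), e = MulOpposite.op z • m' → y e = z := fun e z hz =>
      (hfree' m' e).unique (hys e) hz
    let f : E → E' := fun e => MulOpposite.op (c * x e) • m'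
    let g : E' → E := fun e => MulOpposite.op (c⁻¹ * y e) • m
    have hfg : ∀ e, g (f e) = e := by
      intro e
      change MulOpposite.op (c⁻¹ * y (MulOpposite.op (c * x e) • m')) • m = e
      rw [hyu _ _ rfl, inv_mul_cancel_left]
      exact (hxs e).symm
    have hgf : ∀ e, f (g e) = e := by
      intro e
      change MulOpposite.op (c * x (MulOpposite.op (c⁻¹ * y e) • m)) • m' = e
      rw [hxu _ _ rfl, mul_inv_cancel_left]
      exact (hys e).symm
    refine ⟨⟨f, g, hfg, hgf⟩, ?_, ?_⟩
    · intro σ e
      change MulOpposite.op (c * x (σ • e)) • m' = σ • (MulOpposite.op (c * x e) • m')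
      have h1 : σ • e = MulOpposite.op (a σ * σ • x e) • m := by
        conv_lhs => rw [hxs e]
        rw [hcompat, ha σ, op_smul_op_smul]
      rw [hxu _ _ h1, hcompat', ha' σ, op_smul_op_smul, hc σ, smul_mul']
      congr 2
      group
    · intro b e
      change MulOpposite.op (c * x (MulOpposite.op b • e)) • m' =
        MulOpposite.op b • (MulOpposite.op (c * x e) • m')
      have h1 : MulOpposite.op b • e = MulOpposite.op (x e * b) • m := by
        conv_lhs => rw [hxs e]
        rw [op_smul_op_smul]
      rw [hxu _ _ h1, op_smul_op_smul, mul_assoc]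

end Groth.Agent.S13191
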