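import Groth.Statements.S13192
-- import your own Groth.Agent.* helpers here

set_option autoImplicit false
universe u v
open GalCoh

namespace Groth.Agent.S13192

section aux
variable {G : Type u} {A : Type v} [Group G] [Group A] [MulDistribMulAction G A]

lemma cocycle_one {a : G → A} (ha : GpH1.IsOneCocycle a) : a 1 = 1 := by
  have h := ha 1 1
  rw [one_mul, one_smul] at h
  exact left_eq_mul.1 h

/-- The twisted action of `G` on `A` : `g ⋆ x = a g * g • x`. -/
def twistAct (a : G → A) (ha : GpH1.IsOneCocycle a) : MulAction G A where
  smul g x := a g * g • x
  one_smul x := by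
    change a 1 * (1 : G) • x = x
    rw [cocycle_one ha, one_mul, one_smul]
  mul_smul g h x := by
    change a (g * h) * (g * h) • x = a g * g • (a h * h • x)
    rw [ha g h, smul_mul', mul_smul, mul_assoc]

/-- Right multiplication action of `A` on itself. -/
def rightAct : MulAction Aᵐᵒᵖ A where
  smul b x := x * b.unop
  one_smul x := by
    change x * (1 : A) = x
    rw [mul_one]
  mul_smul b c x := by
    change x * (c.unop * b.unop) = x * c.unop * b.unop
    rw [mul_assoc]

end aux

/-- Let a group G act by automorphisms on a group A and let a : G → A be a 1-cocycle. Then there exist a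
G-equivariant right A-torsor E (a set with a simply transitive right action of A, written m ↦ m·a,
and a left action of G with g(m·a) = (gm)·(ga)) and a point m of E whose attached map is a, i.e. g·m
= m·a(g) for every g in G. (E is taken in the universe of A. The published statement is for a Galois
group acting on discrete modules; this row takes an arbitrary group acting on a group.) -/
theorem result {G : Type u} {A : Type v}
    [Group G] [Group A] [MulDistribMulAction G A] (a : G → A) (ha : GpH1.IsOneCocycle a) :
    ∃ (E : Type v) (_ : MulAction G E) (_ : MulAction Aᵐᵒᵖ E) (m : E),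
      (∀ m₁ m₂ : E, ∃! b : A, m₂ = MulOpposite.op b • m₁) ∧
      (∀ (g : G) (b : A) (e : E), g • (MulOpposite.op b • e) = MulOpposite.op (g • b) • g • e) ∧
      ∀ g : G, g • m = MulOpposite.op (a g) • m := by
  refine ⟨A, twistAct a ha, rightAct, (1 : A), ?_, ?_, ?_⟩
  · intro m₁ m₂
    change ∃! b : A, m₂ = m₁ * b
    refine ⟨m₁⁻¹ * m₂, by group, ?_⟩
    intro y hy
    rw [hy]; group
  · intro g b e
    change a g * g • (e * b) = a g * g • e * g • b
    rw [smul_mul', mul_assoc]
  · intro g
    change a g * g • (1 : A) = 1 * a g
    rw [smul_one, mul_one, one_mul]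

end Groth.Agent.S13192
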