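import Groth.Statements.S13194
import Mathlib
-- import your own Groth.Agent.* helpers here

set_option autoImplicit false
universe u
open GalCoh

namespace Groth.Agent.S13194

/-- Let K be a field of characteristic p > 0, L a separable closure of K, and χ a locally constant map
from the automorphism group of L over K (Krull topology) to Z/pZ with χ(στ) = χ(σ) + χ(τ) for all σ,
τ — a continuous 1-cocycle for the trivial action. Then there is an element x of L with x^p − x in K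
such that σ(x) − x equals χ(σ), read in the prime field of L, for every σ. Together with the
elementary facts that σ ↦ σ(x) − x is such a cocycle for every x with x^p − x in K and vanishes
exactly when x lies in K, this identifies the first continuous cohomology group of the absolute
Galois group of K with coefficients Z/pZ with K/℘(K), ℘(y) = y^p − y. -/
theorem result (p : ℕ) [Fact p.Prime]
    (K L : Type u) [Field K] [Field L] [Algebra K L] [CharP K p] [IsSepClosure K L]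
    (χ : (L ≃ₐ[K] L) → ZMod p) (hχ : ∀ σ τ : L ≃ₐ[K] L, χ (σ * τ) = χ σ + χ τ)
    (hlc : IsLocallyConstant χ) :
    ∃ x : L, x ^ p - x ∈ Set.range (algebraMap K L) ∧
      ∀ σ : L ≃ₐ[K] L, σ x - x = ((χ σ).val : L) := by
  classical
  have : CharP L p := charP_of_injective_algebraMap (algebraMap K L).injective p
  have : IsGalois K L := inferInstance
  have hχ1 : χ 1 = 0 := by have := hχ 1 1; simpa using this
  have hnhds : χ ⁻¹' {0} ∈ nhds (1 : L ≃ₐ[K] L) :=
    (hlc.isOpen_fiber 0).mem_nhds (by simpa using hχ1)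
  obtain ⟨M, hMfin, hMnorm, hMsub⟩ := (krullTopology_mem_nhds_one_iff_of_normal K L _).1 hnhds
  have := hMfin
  have := hMnorm
  have : IsGalois K M := ⟨⟩
  have hres : ∀ σ σ' : L ≃ₐ[K] L, σ.restrictNormal M = σ'.restrictNormal M → χ σ = χ σ' := by
    intro σ σ' h
    have hmem : σ⁻¹ * σ' ∈ M.fixingSubgroup := by
      rw [IntermediateField.mem_fixingSubgroup_iff]
      intro y hy
      have h1 := AlgEquiv.restrictNormal_commutes σ M ⟨y, hy⟩
      have h2 := AlgEquiv.restrictNormal_commutes σ' M ⟨y, hy⟩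
      rw [h] at h1
      have h3 : σ' y = σ y := h2.symm.trans h1
      show σ⁻¹ (σ' y) = y
      rw [h3]
      exact σ.symm_apply_apply y
    have h0 : χ (σ⁻¹ * σ') = 0 := hMsub hmem
    have : χ σ' = χ (σ * (σ⁻¹ * σ')) := by rw [mul_inv_cancel_left]
    rw [this, hχ, h0, add_zero]
  obtain ⟨c, hc⟩ : ∃ c : ZMod p →+* L, c = ZMod.castHom (dvd_refl p) L := ⟨_, rfl⟩
  have hcval : ∀ z : ZMod p, ((z.val : ℕ) : L) = c z := fun z => by
    rw [hc, ZMod.castHom_apply, ZMod.natCast_val]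
  obtain ⟨χ', hχ'⟩ : ∃ χ' : (M ≃ₐ[K] M) → ZMod p, χ' = fun τ => χ (τ.liftNormal L) := ⟨_, rfl⟩
  have hχ'res : ∀ σ : L ≃ₐ[K] L, χ σ = χ' (σ.restrictNormal M) := fun σ => by
    rw [hχ']
    exact hres _ _ (by rw [AlgEquiv.restrict_liftNormal])
  have hχ'add : ∀ τ₁ τ₂ : M ≃ₐ[K] M, χ' (τ₁ * τ₂) = χ' τ₁ + χ' τ₂ := fun τ₁ τ₂ => by
    rw [hχ']
    show χ ((τ₁ * τ₂).liftNormal L) = χ (τ₁.liftNormal L) + χ (τ₂.liftNormal L)
    rw [← hχ]
    apply hres
    rw [AlgEquiv.restrict_liftNormal]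
    have : ((τ₁.liftNormal L) * (τ₂.liftNormal L)).restrictNormal M =
        (τ₁.liftNormal L).restrictNormal M * (τ₂.liftNormal L).restrictNormal M :=
      map_mul (AlgEquiv.restrictNormalHom (F := K) (K₁ := L) M) (τ₁.liftNormal L) (τ₂.liftNormal L)
    rw [this, AlgEquiv.restrict_liftNormal, AlgEquiv.restrict_liftNormal]
  obtain ⟨θ, hθ⟩ := Algebra.trace_surjective K M 1
  have htr : ∑ τ : M ≃ₐ[K] M, τ θ = 1 := by
    rw [← trace_eq_sum_automorphisms θ, hθ, map_one]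
  obtain ⟨y, hy⟩ : ∃ y : L, y = ∑ τ : M ≃ₐ[K] M, c (χ' τ) * ((τ θ : M) : L) := ⟨_, rfl⟩
  have hσy : ∀ σ : L ≃ₐ[K] L, σ y = y - c (χ σ) := by
    intro σ
    obtain ⟨ρ0, hρ0⟩ : ∃ ρ0 : M ≃ₐ[K] M, ρ0 = σ.restrictNormal M := ⟨_, rfl⟩
    have h1 : σ y = ∑ τ : M ≃ₐ[K] M, c (χ' τ) * (((ρ0 * τ) θ : M) : L) := by
      rw [hy, map_sum]
      refine Finset.sum_congr rfl (fun τ _ => ?_)
      rw [map_mul, ← hcval, map_natCast, hρ0]
      congr 1
      exact (AlgEquiv.restrictNormal_commutes σ M (τ θ)).symm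
    have h2 : ∑ τ : M ≃ₐ[K] M, c (χ' τ) * (((ρ0 * τ) θ : M) : L) =
        ∑ ρ : M ≃ₐ[K] M, c (χ' (ρ0⁻¹ * ρ)) * ((ρ θ : M) : L) := by
      refine Fintype.sum_equiv (Equiv.mulLeft ρ0) _ _ (fun τ => ?_)
      simp only [Equiv.coe_mulLeft, inv_mul_cancel_left]
    have h3 : ∀ ρ : M ≃ₐ[K] M, c (χ' (ρ0⁻¹ * ρ)) = c (χ' ρ) - c (χ' ρ0) := by
      intro ρ
      have : χ' ρ = χ' ρ0 + χ' (ρ0⁻¹ * ρ) := by rw [← hχ'add, mul_inv_cancel_left]
      rw [this, map_add]; ring
    have h4 : ∑ ρ : M ≃ₐ[K] M, ((ρ θ : M) : L) = 1 := by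
      have := congrArg (algebraMap M L) htr
      rw [map_sum, map_one] at this
      exact this
    rw [h1, h2]
    simp only [h3, sub_mul]
    rw [Finset.sum_sub_distrib, ← Finset.mul_sum, h4, mul_one, ← hy, hχ'res σ, hρ0]
  refine ⟨-y, ?_, fun σ => ?_⟩
  · rw [InfiniteGalois.mem_range_algebraMap_iff_fixed]
    intro σ
    have hpow : (c (χ σ)) ^ p = c (χ σ) := by rw [← map_pow, ZMod.pow_card]
    rw [map_sub, map_pow, map_neg, hσy σ]
    have : (-(y - c (χ σ))) = -y + c (χ σ) := by ring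
    rw [this, add_pow_char, hpow]
    ring
  · rw [map_neg, hσy σ, hcval]
    ring

end Groth.Agent.S13194
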