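import Groth.Statements.S13195
import Mathlib
-- import your own Groth.Agent.* helpers here

set_option autoImplicit false
universe u
open GalCoh

namespace Groth.Agent.S13195


open scoped Topology in
theorem exists_level (K L : Type u) [Field K] [Field L] [Algebra K L] [Normal K L]
    {X : Type*} (a : (L ≃ₐ[K] L) → X) (hlc : IsLocallyConstant a) :
    ∃ E : IntermediateField K L, FiniteDimensional K E ∧ Normal K E ∧
      ∀ u ∈ E.fixingSubgroup, a u = a 1 := by
  have hopen : IsOpen (a ⁻¹' {a 1}) := hlc.isOpen_fiber (a 1)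
  have hmem : a ⁻¹' {a 1} ∈ 𝓝 (1 : L ≃ₐ[K] L) := hopen.mem_nhds rfl
  obtain ⟨E, h1, h2, h3⟩ := (krullTopology_mem_nhds_one_iff_of_normal K L _).mp hmem
  exact ⟨E, h1, h2, fun u hu => h3 hu⟩

/-- Multiplicative Hilbert 90 at infinite level, with values in `L`. -/
theorem hilbert90_mul (K L : Type u) [Field K] [Field L] [Algebra K L] [Normal K L]
    (A : (L ≃ₐ[K] L) → L) (hA0 : ∀ σ, A σ ≠ 0)
    (hA : ∀ σ τ : L ≃ₐ[K] L, A (σ * τ) = A σ * σ (A τ)) (hlc : IsLocallyConstant A) :
    ∃ c : L, c ≠ 0 ∧ ∀ σ : L ≃ₐ[K] L, A σ * c = σ c := by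
  classical
  have hA1 : A 1 = 1 := by
    have := hA 1 1
    rw [mul_one, AlgEquiv.one_apply] at this
    exact (mul_right_cancel₀ (hA0 1) (by rw [one_mul]; exact this)).symm
  obtain ⟨E, hfin, hnorm, hE⟩ := exists_level K L A hlc
  -- A depends only on the restriction to E
  have hdep : ∀ σ σ' : L ≃ₐ[K] L, AlgEquiv.restrictNormalHom E σ = AlgEquiv.restrictNormalHom E σ' →
      A σ = A σ' := by
    intro σ σ' h
    have hu : σ⁻¹ * σ' ∈ E.fixingSubgroup := by
      rw [← IntermediateField.restrictNormalHom_ker, MonoidHom.mem_ker, map_mul, map_inv, h,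
        inv_mul_cancel]
    have : σ' = σ * (σ⁻¹ * σ') := by group
    rw [this, hA, hE _ hu, hA1, map_one, mul_one]
  have hsurj : Function.Surjective
      (AlgEquiv.restrictNormalHom E : (L ≃ₐ[K] L) → (E ≃ₐ[K] E)) :=
    AlgEquiv.restrictNormalHom_surjective L
  choose lift hlift using hsurj
  let b : (E ≃ₐ[K] E) → L := fun g => A (lift g)
  have hb : ∀ τ : L ≃ₐ[K] L, b (AlgEquiv.restrictNormalHom E τ) = A τ := fun τ =>
    hdep _ _ (hlift _)
  have : Fintype (E ≃ₐ[K] E) := Fintype.ofFinite _
  -- Dedekind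
  have hind := linearIndependent_monoidHom E L
  have hex : ∃ x : E, ∑ g : E ≃ₐ[K] E, b g * algebraMap E L (g x) ≠ 0 := by
    by_contra hcon
    push Not at hcon
    let χ : (E ≃ₐ[K] E) → (E →* L) := fun g =>
      ((algebraMap E L : E →* L)).comp (g : E →* E)
    have hχinj : Function.Injective χ := by
      intro g g' h
      ext x
      have := DFunLike.congr_fun h x
      exact this
    have hind' := hind.comp χ hχinj
    have := Fintype.linearIndependent_iff.mp hind' b (by
      funext x
      simpa [χ] using hcon x)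
    exact hA0 _ (this 1)
  obtain ⟨x, hx⟩ := hex
  refine ⟨(∑ g : E ≃ₐ[K] E, b g * algebraMap E L (g x))⁻¹, inv_ne_zero hx, ?_⟩
  intro τ
  have key : τ (∑ g : E ≃ₐ[K] E, b g * algebraMap E L (g x)) * A τ =
      ∑ g : E ≃ₐ[K] E, b g * algebraMap E L (g x) := by
    rw [map_sum, Finset.sum_mul]
    rw [← Equiv.sum_comp (Equiv.mulLeft (AlgEquiv.restrictNormalHom E τ))
      (fun g => b g * algebraMap E L (g x))]
    refine Finset.sum_congr rfl fun g _ => ?_
    simp only [Equiv.coe_mulLeft, map_mul]
    have h1 : b (AlgEquiv.restrictNormalHom E τ * g) = A τ * τ (b g) := by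
      have : AlgEquiv.restrictNormalHom E τ * g = AlgEquiv.restrictNormalHom E (τ * lift g) := by
        rw [map_mul, hlift]
      rw [this, hb, hA]
    have h2 : τ (algebraMap E L (g x)) =
        algebraMap E L ((AlgEquiv.restrictNormalHom E τ * g) x) := by
      rw [AlgEquiv.mul_apply]
      exact (AlgEquiv.restrictNormal_commutes τ E (g x)).symm
    rw [h1, h2]
    ring
  rw [map_inv₀]
  have hτ0 : τ (∑ g : E ≃ₐ[K] E, b g * algebraMap E L (g x)) ≠ 0 := by
    rw [Ne, map_eq_zero_iff _ τ.injective]; exact hx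
  calc A τ * (∑ g : E ≃ₐ[K] E, b g * algebraMap E L (g x))⁻¹
      = A τ * (τ (∑ g : E ≃ₐ[K] E, b g * algebraMap E L (g x)) * A τ)⁻¹ := by rw [key]
    _ = (τ (∑ g : E ≃ₐ[K] E, b g * algebraMap E L (g x)))⁻¹ := by
      have := hA0 τ
      field_simp

/-- Let K be a field and L a separable closure of K. Every map a from the automorphism group of L over K
to the units of L which is locally constant for the Krull topology and satisfies the 1-cocycle
identity a(στ) = a(σ) · σ(a(τ)) for all σ, τ has the form a(σ) = c⁻¹ · σ(c) for a single unit c of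
L; that is, the first cohomology set of the absolute Galois group of K with continuous cochains and
values in the multiplicative group of the separable closure is reduced to its base point. (The
finite-level statement for a finite Galois extension is the classical Hilbert 90; this row is the
statement for the absolute Galois group.) -/
theorem result (K L : Type u) [Field K] [Field L]
    [Algebra K L] [IsSepClosure K L] (a : (L ≃ₐ[K] L) → Lˣ)
    (ha : ∀ σ τ : L ≃ₐ[K] L, a (σ * τ) = a σ * σ • a τ) (hlc : IsLocallyConstant a) :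
    ∃ c : Lˣ, ∀ σ : L ≃ₐ[K] L, a σ = c⁻¹ * σ • c := by
  have hnorm : Normal K L := inferInstance
  have hsmul : ∀ (σ : L ≃ₐ[K] L) (u : Lˣ), ((σ • u : Lˣ) : L) = σ (u : L) := fun σ u => rfl
  obtain ⟨c, hc0, hc⟩ := hilbert90_mul K L (fun σ => (a σ : L)) (fun σ => (a σ).ne_zero)
    (fun σ τ => by rw [ha, Units.val_mul, hsmul]) (hlc.comp _)
  refine ⟨Units.mk0 c hc0, fun σ => ?_⟩
  apply Units.ext
  rw [Units.val_mul, hsmul, Units.val_inv_eq_inv_val, Units.val_mk0, ← hc σ]
  field_simp

end Groth.Agent.S13195
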