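import Groth.Statements.S13196
import Mathlib
import Groth.Agent.S13195
-- import your own Groth.Agent.* helpers here

set_option autoImplicit false
universe u
open GalCoh

namespace Groth.Agent.S13196

/-- Let K be a field and L a separable closure of K. Every map a from the automorphism group of L over K
to L which is locally constant for the Krull topology and satisfies a(στ) = a(σ) + σ(a(τ)) for all
σ, τ is of the form a(σ) = σ(y) − y for a single y in L. (The published statement asserts vanishing
in every positive degree; this row is the degree-one statement for the absolute Galois group with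
continuous cochains.) -/
theorem result (K L : Type u) [Field K] [Field L] [Algebra K L]
    [IsSepClosure K L] (a : (L ≃ₐ[K] L) → L)
    (ha : ∀ σ τ : L ≃ₐ[K] L, a (σ * τ) = a σ + σ (a τ)) (hlc : IsLocallyConstant a) :
    ∃ y : L, ∀ σ : L ≃ₐ[K] L, a σ = σ y - y := by
  classical
  have hnorm : Normal K L := inferInstance
  have hA1 : a 1 = 0 := by
    have := ha 1 1
    rw [mul_one, AlgEquiv.one_apply] at this
    linear_combination -this
  obtain ⟨E, hfin, hnormE, hE⟩ := Groth.Agent.S13195.exists_level K L a hlc
  have hdep : ∀ σ σ' : L ≃ₐ[K] L, AlgEquiv.restrictNormalHom E σ = AlgEquiv.restrictNormalHom E σ' →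
      a σ = a σ' := by
    intro σ σ' h
    have hu : σ⁻¹ * σ' ∈ E.fixingSubgroup := by
      rw [← IntermediateField.restrictNormalHom_ker, MonoidHom.mem_ker, map_mul, map_inv, h,
        inv_mul_cancel]
    have : σ' = σ * (σ⁻¹ * σ') := by group
    rw [this, ha, hE _ hu, hA1, map_zero, add_zero]
  have hsurj : Function.Surjective
      (AlgEquiv.restrictNormalHom E : (L ≃ₐ[K] L) → (E ≃ₐ[K] E)) :=
    AlgEquiv.restrictNormalHom_surjective L
  choose lift hlift using hsurj
  let b : (E ≃ₐ[K] E) → L := fun g => a (lift g)
  have hb : ∀ τ : L ≃ₐ[K] L, b (AlgEquiv.restrictNormalHom E τ) = a τ := fun τ =>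
    hdep _ _ (hlift _)
  have : Fintype (E ≃ₐ[K] E) := Fintype.ofFinite _
  have hind := linearIndependent_monoidHom E L
  have hex : ∃ x : E, ∑ g : E ≃ₐ[K] E, algebraMap E L (g x) ≠ 0 := by
    by_contra hcon
    push Not at hcon
    let χ : (E ≃ₐ[K] E) → (E →* L) := fun g =>
      ((algebraMap E L : E →* L)).comp (g : E →* E)
    have hχinj : Function.Injective χ := by
      intro g g' h
      ext x
      have := DFunLike.congr_fun h x
      exact this
    have hind' := hind.comp χ hχinj
    have := Fintype.linearIndependent_iff.mp hind' (fun _ => (1 : L)) (by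
      funext x
      simpa [χ] using hcon x)
    exact one_ne_zero (this 1)
  obtain ⟨x, hx⟩ := hex
  set t : L := ∑ g : E ≃ₐ[K] E, algebraMap E L (g x) with ht
  set S : L := ∑ g : E ≃ₐ[K] E, b g * algebraMap E L (g x) with hS
  have hcomm : ∀ (τ : L ≃ₐ[K] L) (g : E ≃ₐ[K] E), τ (algebraMap E L (g x)) =
        algebraMap E L ((AlgEquiv.restrictNormalHom E τ * g) x) := by
    intro τ g
    rw [AlgEquiv.mul_apply]
    exact (AlgEquiv.restrictNormal_commutes τ E (g x)).symm
  have htfix : ∀ τ : L ≃ₐ[K] L, τ t = t := by
    intro τ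
    rw [ht, map_sum]
    rw [← Equiv.sum_comp (Equiv.mulLeft (AlgEquiv.restrictNormalHom E τ))
      (fun g => algebraMap E L (g x))]
    refine Finset.sum_congr rfl fun g _ => ?_
    simp only [Equiv.coe_mulLeft]
    exact hcomm τ g
  have hSτ : ∀ τ : L ≃ₐ[K] L, τ S = S - a τ * t := by
    intro τ
    rw [hS, map_sum, ht, Finset.mul_sum, ← Finset.sum_sub_distrib]
    rw [← Equiv.sum_comp (Equiv.mulLeft (AlgEquiv.restrictNormalHom E τ))
      (fun g => b g * algebraMap E L (g x) - a τ * algebraMap E L (g x))]
    refine Finset.sum_congr rfl fun g _ => ?_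
    simp only [Equiv.coe_mulLeft, map_mul]
    have h1 : b (AlgEquiv.restrictNormalHom E τ * g) = a τ + τ (b g) := by
      have : AlgEquiv.restrictNormalHom E τ * g = AlgEquiv.restrictNormalHom E (τ * lift g) := by
        rw [map_mul, hlift]
      rw [this, hb, ha]
    rw [h1, hcomm τ g]
    ring
  refine ⟨-(S / t), fun τ => ?_⟩
  rw [map_neg, map_div₀, htfix, hSτ]
  field_simp
  ring

end Groth.Agent.S13196
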