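import Groth.Statements.S13197
import Mathlib
import Groth.Agent.S13195
-- import your own Groth.Agent.* helpers here

set_option autoImplicit false
universe u
open GalCoh

namespace Groth.Agent.S13197

/-- Let K be a field, n ≥ 1 an integer invertible in K, L a separable closure of K, and a a map from the
automorphism group of L over K to the units of L, locally constant for the Krull topology, with
a(στ) = a(σ) · σ(a(τ)) and a(σ)^n = 1 for all σ, τ. Then there is a unit α of L with α^n in K and
a(σ) = α⁻¹ · σ(α) for every σ; that is, every continuous 1-cocycle of the absolute Galois group with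
values in the n-th roots of unity is the Kummer boundary of the class of α^n. -/
theorem result (K L : Type u) [Field K] [Field L]
    [Algebra K L] [IsSepClosure K L] (n : ℕ) (hn : 0 < n) (hnK : (n : K) ≠ 0)
    (a : (L ≃ₐ[K] L) → Lˣ)
    (ha : ∀ σ τ : L ≃ₐ[K] L, a (σ * τ) = a σ * σ • a τ) (hroot : ∀ σ : L ≃ₐ[K] L, a σ ^ n = 1)
    (hlc : IsLocallyConstant a) :
    ∃ α : Lˣ, ((α ^ n : Lˣ) : L) ∈ Set.range (algebraMap K L) ∧
      ∀ σ : L ≃ₐ[K] L, a σ = α⁻¹ * σ • α := by
  obtain ⟨c, hc⟩ := Groth.Agent.S13195.result K L a ha hlc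
  refine ⟨c, ?_, hc⟩
  rw [InfiniteGalois.mem_range_algebraMap_iff_fixed]
  intro σ
  have hsmul : ((σ • c : Lˣ) : L) = σ (c : L) := rfl
  have h1 : (σ • c) ^ n = c ^ n := by
    have := hroot σ
    rw [hc σ, mul_pow, inv_pow] at this
    calc (σ • c) ^ n = c ^ n * ((c ^ n)⁻¹ * (σ • c) ^ n) := by
          rw [← mul_assoc, mul_inv_cancel, one_mul]
      _ = c ^ n := by rw [this, mul_one]
  have h2 := congrArg (fun u : Lˣ => (u : L)) h1
  simp only [Units.val_pow_eq_pow_val, hsmul] at h2
  rw [Units.val_pow_eq_pow_val, map_pow]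
  exact h2

end Groth.Agent.S13197
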