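import Groth.Statements.S13199
import Groth.Agent.Lib.Helper37.Hz59

set_option autoImplicit false
universe u
open Hensel

namespace Groth.Agent.S13199

/-- Let R be a Noetherian integral domain which is a strictly henselian local ring (henselian with
separably closed residue field), R' a smooth R-algebra and p a prime ideal of R' lying over the
maximal ideal of R (that is, containing its image). Then the local ring R'_p is an integral domain
and is geometrically unibranch: the integral closure of R'_p in its fraction field is a local ring
whose residue field is purely inseparable over that of R'_p. (The published statement concludes that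
every strict henselization of R'_p is an integral domain; for a local ring this is equivalent to
being an integral domain which is geometrically unibranch, the conclusion stated here.) -/
theorem result
    (R R' : Type u) [CommRing R] [IsDomain R] [IsNoetherianRing R] [HenselianLocalRing R]
    [IsSepClosed (IsLocalRing.ResidueField R)]
    [CommRing R'] [Algebra R R'] [Algebra.Smooth R R']
    (p : Ideal R') [p.IsPrime] (hp : (IsLocalRing.maximalIdeal R).map (algebraMap R R') ≤ p) :
    IsDomain (Localization.AtPrime p) ∧ CAlg2.IsGeomUnibranch (Localization.AtPrime p) := by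
  classical
  -- the strict henselization of the local ring
  haveI hS : Hensel.IsStrictHenselization (Localization.AtPrime p)
      (Groth.Agent.Lib.Helper37.Hz.SHens (Localization.AtPrime p)) := inferInstance
  letI : Algebra R' (Groth.Agent.Lib.Helper37.Hz.SHens (Localization.AtPrime p)) :=
    ((algebraMap (Localization.AtPrime p)
      (Groth.Agent.Lib.Helper37.Hz.SHens (Localization.AtPrime p))).comp
      (algebraMap R' (Localization.AtPrime p))).toAlgebra
  haveI : IsScalarTower R' (Localization.AtPrime p)
      (Groth.Agent.Lib.Helper37.Hz.SHens (Localization.AtPrime p)) :=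
    IsScalarTower.of_algebraMap_eq' rfl
  letI : Algebra R (Groth.Agent.Lib.Helper37.Hz.SHens (Localization.AtPrime p)) :=
    ((algebraMap R' (Groth.Agent.Lib.Helper37.Hz.SHens (Localization.AtPrime p))).comp
      (algebraMap R R')).toAlgebra
  haveI : IsScalarTower R R' (Groth.Agent.Lib.Helper37.Hz.SHens (Localization.AtPrime p)) :=
    IsScalarTower.of_algebraMap_eq' rfl
  have hloc : IsLocalHom
      (algebraMap R (Groth.Agent.Lib.Helper37.Hz.SHens (Localization.AtPrime p))) := by
    refine ((IsLocalRing.local_hom_TFAE _).out 2 0).mp ?_
    rw [Ideal.map_le_iff_le_comap]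
    intro r hr
    rw [Ideal.mem_comap]
    change algebraMap (Localization.AtPrime p) _ (algebraMap R' (Localization.AtPrime p)
      (algebraMap R R' r)) ∈ _
    have h1 : algebraMap R R' r ∈ p := hp (Ideal.mem_map_of_mem _ hr)
    have h2 : algebraMap R' (Localization.AtPrime p) (algebraMap R R' r) ∈
        IsLocalRing.maximalIdeal (Localization.AtPrime p) := by
      rw [← Localization.AtPrime.map_eq_maximalIdeal]
      exact Ideal.mem_map_of_mem _ h1
    have h3 : IsLocalHom (algebraMap (Localization.AtPrime p)
      (Groth.Agent.Lib.Helper37.Hz.SHens (Localization.AtPrime p))) := inferInstance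
    have h4 : (IsLocalRing.maximalIdeal (Localization.AtPrime p)).map
        (algebraMap (Localization.AtPrime p)
          (Groth.Agent.Lib.Helper37.Hz.SHens (Localization.AtPrime p))) ≤
        IsLocalRing.maximalIdeal (Groth.Agent.Lib.Helper37.Hz.SHens (Localization.AtPrime p)) :=
      ((IsLocalRing.local_hom_TFAE (algebraMap (Localization.AtPrime p)
        (Groth.Agent.Lib.Helper37.Hz.SHens (Localization.AtPrime p)))).out 0 2).mp h3
    exact h4 (Ideal.mem_map_of_mem _ h2)
  have hT := Groth.Agent.Lib.Helper37.Hz.SmoothBr.hasFactorization_of_isStrictHenselization_atPrime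
    R' p (Groth.Agent.Lib.Helper37.Hz.SHens (Localization.AtPrime p))
  haveI hdom : IsDomain (Groth.Agent.Lib.Helper37.Hz.SHens (Localization.AtPrime p)) :=
    Groth.Agent.Lib.Helper37.Hz.SmoothBr.isDomain_of_smooth_of_isSepClosed R R' _ hloc hT
  haveI : Module.FaithfullyFlat (Localization.AtPrime p)
      (Groth.Agent.Lib.Helper37.Hz.SHens (Localization.AtPrime p)) :=
    Groth.Agent.Lib.Helper37.Hz.faithfullyFlat_of_isStrictHenselization _ _
  refine ⟨?_, ?_⟩
  · exact (FaithfulSMul.algebraMap_injective (Localization.AtPrime p)
      (Groth.Agent.Lib.Helper37.Hz.SHens (Localization.AtPrime p))).isDomain _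
  · rw [Groth.Agent.Lib.Helper37.Hz.Unibranch.isGeomUnibranch_iff_nilradical_isPrime
      (Localization.AtPrime p) (Groth.Agent.Lib.Helper37.Hz.SHens (Localization.AtPrime p))]
    rw [nilradical_eq_zero]
    exact Ideal.isPrime_bot

end Groth.Agent.S13199
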