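import Groth.Statements.S17803
import Groth.Agent.Lib.Helper49.AdicFibres2
import Groth.Agent.Lib.Helper49.SmoothHom
import Groth.Agent.Lib.Helper49.EtaleNormal
import Groth.Agent.Lib.Helper96.GRingCompletion
import Groth.Agent.Lib.Helper96.RegularLoc
import Groth.Agent.Lib.Helper69.GRingLocal
import Groth.Agent.S5785
import Groth.Agent.Lib.Helper96.ComplRegular
-- import your own Groth.Agent.* helpers here

set_option autoImplicit false
universe u
open EGA4

namespace Groth.Agent.S17803

open Groth.Agent.Lib.Helper49 in
/-- A localization of a G-ring is a G-ring. -/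
theorem isGRing_of_isLocalization {T : Type u} [CommRing T] (M : Submonoid T)
    (T' : Type u) [CommRing T'] [Algebra T T'] [IsLocalization M T']
    (h : CAlg.IsGRing T) : CAlg.IsGRing T' := by
  haveI := h.1
  refine ⟨IsLocalization.isNoetherianRing M T' h.1, fun Q' hQ' => ?_⟩
  haveI hloc2 : IsLocalization.AtPrime (Localization.AtPrime Q')
      (Q'.comap (algebraMap T T')) :=
    IsLocalization.isLocalization_isLocalization_atPrime_isLocalization M
      (Localization.AtPrime Q') Q'
  have e : Localization.AtPrime (Q'.comap (algebraMap T T')) ≃ₐ[T] Localization.AtPrime Q' :=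
    IsLocalization.algEquiv (Q'.comap (algebraMap T T')).primeCompl _ _
  exact Groth.Agent.Lib.Helper69.GRingLocal.regular_completion_of_ringEquiv e.toRingEquiv
    (h.2 (Q'.comap (algebraMap T T')))

/-- A regular homomorphism is a normal homomorphism. -/
theorem isNormalHom_of_isRegularHom (A B : Type u) [CommRing A] [CommRing B] [Algebra A B]
    (h : CAlg.IsRegularHom A B) : EGA4.IsNormalHom A B := by
  obtain ⟨hflat, hfib⟩ := h
  refine ⟨hflat, fun p _ k' _ _ hfin => ?_⟩
  haveI := (hfib p).2 k' hfin
  exact Groth.Agent.Lib.Helper49.SmoothHom.isNormalRing_of_isRegularRing _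


/-- Let A be an excellent normal domain which is a quotient of a regular ring, I an ideal of A and f ∈
A. Then the I-adic completion of the localization A_f is a normal ring (its localization at every
prime ideal is an integrally closed domain), and it is a quotient of a regular ring. -/
theorem result (A : Type u) [CommRing A] [IsDomain A] [IsIntegrallyClosed A] (hexc : EGA4.IsExcellent A) (hreg : ∃ (R : Type u) (_ : CommRing R) (_ : IsRegularRing R) (φ : R →+* A), Function.Surjective φ) (I : Ideal A) (f : A) : EGA4.IsNormalRing (AdicCompletion (I.map (algebraMap A (Localization.Away f))) (Localization.Away f)) ∧ ∃ (R' : Type u) (_ : CommRing R') (_ : IsRegularRing R') (ψ : R' →+* AdicCompletion (I.map (algebraMap A (Localization.Away f))) (Localization.Away f)), Function.Surjective ψ := by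
  obtain ⟨hN, -, hG, -⟩ := hexc
  obtain ⟨R, _, _, φ, hφ⟩ := hreg
  obtain ⟨g, rfl⟩ := hφ f
  have hNB : IsNoetherianRing (Localization.Away (φ g)) :=
    IsLocalization.isNoetherianRing (Submonoid.powers (φ g)) _ hN
  have hGB : CAlg.IsGRing (Localization.Away (φ g)) :=
    isGRing_of_isLocalization (Submonoid.powers (φ g)) _ hG
  have hregH := Groth.Agent.Lib.Helper96.isRegularHom_adicCompletion_of_isGRing
    (Localization.Away (φ g)) (I.map (algebraMap A (Localization.Away (φ g)))) hGB
  have : IsNoetherianRing (AdicCompletion (I.map (algebraMap A (Localization.Away (φ g))))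
      (Localization.Away (φ g))) :=
    Groth.Agent.Lib.Helper83.isNoetherianRing_adicCompletion _
  have hnormB : EGA4.IsNormalRing (Localization.Away (φ g)) :=
    Groth.Agent.Lib.Helper49.AdicFibres.isNormalRing_of_isLocalization (Submonoid.powers (φ g)) _
      (Groth.Agent.Lib.Helper49.EtaleNormal.isNormalRing_of_isIntegrallyClosed A)
  refine ⟨Groth.Agent.Lib.Helper49.EtaleNormal.isNormalRing_of_isNormalHom _ _ hnormB
    (isNormalHom_of_isRegularHom _ _ hregH), ?_⟩
  have hRg : IsRegularRing (Localization.Away g) :=
    Groth.Agent.Lib.Helper96.isRegularRing_of_isLocalization (Submonoid.powers g) _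
  let ψ : Localization.Away g →+* Localization.Away (φ g) :=
    IsLocalization.Away.map (Localization.Away g) (Localization.Away (φ g)) φ g
  have hψ : Function.Surjective ψ := by
    intro y
    obtain ⟨a, ⟨_, n, rfl⟩, rfl⟩ := IsLocalization.exists_mk'_eq (Submonoid.powers (φ g)) y
    obtain ⟨r, rfl⟩ := hφ a
    refine ⟨IsLocalization.mk' (Localization.Away g) r (⟨g ^ n, n, rfl⟩ : Submonoid.powers g), ?_⟩
    simp only [ψ, IsLocalization.Away.map, IsLocalization.map_mk']
    congr 1
    ext
    simp
  set J := (I.map (algebraMap A (Localization.Away (φ g)))).comap ψ with hJ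
  have hJmap : J.map ψ = I.map (algebraMap A (Localization.Away (φ g))) :=
    Ideal.map_comap_of_surjective ψ hψ _
  haveI := Groth.Agent.S5785.result (Localization.Away g) J
  refine ⟨AdicCompletion J (Localization.Away g), inferInstance, inferInstance,
    Groth.Agent.Lib.Helper96.complMap J _ ψ hJmap.le, ?_⟩
  refine Groth.Agent.Lib.Helper83.ComplMap.surjective J _ ψ _
    (fun a => Groth.Agent.Lib.Helper96.complMap_of J _ ψ hJmap.le a)
    (IsNoetherian.noetherian J) hJmap (fun b => ?_)
  obtain ⟨a, rfl⟩ := hψ b
  exact ⟨a, by simp⟩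

end Groth.Agent.S17803
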