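import Groth.Statements.S13200
-- import your own Groth.Agent.* helpers here
import Groth.Agent.S2811
import Groth.Agent.S4754
import Groth.Agent.S0600
import Groth.Agent.S17803
import Groth.Agent.Lib.Helper86.OlivierE
import Groth.Agent.Lib.Helper15.ComplQuot

set_option autoImplicit false
set_option linter.style.haveILetI false
universe u
open Hensel

namespace Groth.Agent.S13200

/-- Let R be an excellent local ring which is strictly henselian (henselian with separably closed
residue field), and let R^ denote its completion at the maximal ideal. An element Δ of R is a prime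
element of R exactly when its image in R^ is a prime element of R^. -/
theorem result
    (R : Type u) [CommRing R] [HenselianLocalRing R] [IsSepClosed (IsLocalRing.ResidueField R)]
    (hR : EGA4.IsExcellent R) (Δ : R) :
    Prime Δ ↔ Prime (algebraMap R (AdicCompletion (IsLocalRing.maximalIdeal R) R) Δ) := by
  classical
  obtain ⟨hN, -, hG, -⟩ := hR
  haveI := hN
  have hreg : CAlg.IsRegularHom R (EGA4.Cpl R) :=
    Groth.Agent.S0600.result R hG (IsLocalRing.maximalIdeal R)
  have hnorm : EGA4.HasGeomNormalFormalFibres R :=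
    (Groth.Agent.S17803.isNormalHom_of_isRegularHom R (EGA4.Cpl R) hreg).2
  haveI : Module.FaithfullyFlat R (EGA4.Cpl R) := Module.FaithfullyFlat.of_flat_of_isLocalHom
  have hinj : Function.Injective (algebraMap R (EGA4.Cpl R)) :=
    FaithfulSMul.algebraMap_injective _ _
  have hspan : Ideal.span {algebraMap R (EGA4.Cpl R) Δ} =
      (Ideal.span {Δ}).map (algebraMap R (EGA4.Cpl R)) := by
    rw [Ideal.map_span, Set.image_singleton]
  constructor
  · intro hΔ
    have hΔ0 : algebraMap R (EGA4.Cpl R) Δ ≠ 0 := fun h0 =>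
      hΔ.ne_zero (hinj (by rw [h0, map_zero]))
    rw [← Ideal.span_singleton_prime hΔ0, hspan]
    have hp : (Ideal.span {Δ}).IsPrime := (Ideal.span_singleton_prime hΔ.ne_zero).2 hΔ
    haveI := hp
    haveI : HenselianLocalRing (R ⧸ Ideal.span {Δ}) :=
      Groth.Agent.Lib.Helper86.Olivier.henselianLocalRing_quotient _ hp.ne_top
    have hB : EGA4.HasGeomNormalFormalFibres (R ⧸ Ideal.span {Δ}) :=
      Groth.Agent.S4754.result R hnorm (Ideal.span {Δ})
    haveI hdom : IsDomain (EGA4.Cpl (R ⧸ Ideal.span {Δ})) :=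
      Groth.Agent.S2811.result (R ⧸ Ideal.span {Δ}) hB
    have hmax : IsLocalRing.maximalIdeal (R ⧸ Ideal.span {Δ}) =
        (IsLocalRing.maximalIdeal R).map (Ideal.Quotient.mk (Ideal.span {Δ})) := by
      haveI : IsLocalHom (Ideal.Quotient.mk (Ideal.span {Δ})) :=
        IsLocalHom.of_surjective _ Ideal.Quotient.mk_surjective
      refine le_antisymm ?_ (((IsLocalRing.local_hom_TFAE
        (Ideal.Quotient.mk (Ideal.span {Δ}))).out 0 2).mp ‹_›)
      intro x hx
      obtain ⟨a, rfl⟩ := Ideal.Quotient.mk_surjective x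
      apply Ideal.mem_map_of_mem
      rw [IsLocalRing.mem_maximalIdeal] at hx ⊢
      intro ha
      exact hx (ha.map _)
    have key : ∀ (J : Ideal (R ⧸ Ideal.span {Δ})),
        J = (IsLocalRing.maximalIdeal R).map (Ideal.Quotient.mk (Ideal.span {Δ})) →
        IsDomain (AdicCompletion J (R ⧸ Ideal.span {Δ})) →
        ((Ideal.span {Δ}).map (algebraMap R (EGA4.Cpl R))).IsPrime := by
      intro J hJ hd
      subst hJ
      rw [← Groth.Agent.Lib.Helper15.ComplQuot.ker_Φ (IsLocalRing.maximalIdeal R) (Ideal.span {Δ})]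
      exact RingHom.ker_isPrime _
    exact key _ hmax hdom
  · intro hΔ
    have hΔ0 : Δ ≠ 0 := fun h0 => hΔ.ne_zero (by rw [h0, map_zero])
    refine ⟨hΔ0, fun hu => hΔ.not_isUnit (hu.map _), fun a b hab => ?_⟩
    have hmem : ∀ c : R, algebraMap R (EGA4.Cpl R) Δ ∣ algebraMap R (EGA4.Cpl R) c → Δ ∣ c := by
      intro c hc
      rw [← Ideal.mem_span_singleton] at hc ⊢
      rw [hspan] at hc
      have h1 : c ∈ ((Ideal.span {Δ}).map (algebraMap R (EGA4.Cpl R))).comap
          (algebraMap R (EGA4.Cpl R)) := hc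
      rwa [Ideal.comap_map_eq_self_of_faithfullyFlat] at h1
    have h2 : algebraMap R (EGA4.Cpl R) Δ ∣
        algebraMap R (EGA4.Cpl R) a * algebraMap R (EGA4.Cpl R) b := by
      rw [← map_mul]
      exact map_dvd _ hab
    rcases hΔ.dvd_or_dvd h2 with h | h
    · exact Or.inl (hmem a h)
    · exact Or.inr (hmem b h)

end Groth.Agent.S13200
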