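import Groth.Statements.S13206
import Mathlib
-- import your own Groth.Agent.* helpers here

set_option autoImplicit false
universe u
open CategoryTheory AlgebraicGeometry
open AlgGrp

namespace Groth.Agent.S13206
open CategoryTheory AlgebraicGeometry Limits TopologicalSpace Topology Opposite


/-- equalizer of two morphisms over a separated base morphism, as a closed immersion -/
lemma exists_eq_closed {Z X S : Scheme.{u}} (p : X ⟶ S) [IsSeparated p] (a b : Z ⟶ X)
    (hab : a ≫ p = b ≫ p) :
    ∃ (E : Scheme.{u}) (e : E ⟶ Z), IsClosedImmersion e ∧ e ≫ a = e ≫ b ∧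
      ∀ (T : Scheme.{u}) (z : T ⟶ Z), z ≫ a = z ≫ b → ∃ z' : T ⟶ E, z' ≫ e = z := by
  refine ⟨pullback (pullback.lift a b hab) (pullback.diagonal p), pullback.fst _ _,
    MorphismProperty.pullback_fst _ _ inferInstance, ?_, ?_⟩
  · have h := pullback.condition (f := pullback.lift a b hab) (g := pullback.diagonal p)
    have h1 := congr($h ≫ pullback.fst p p)
    have h2 := congr($h ≫ pullback.snd p p)
    simp only [Category.assoc, pullback.lift_fst, pullback.lift_snd, pullback.diagonal_fst,
      pullback.diagonal_snd, Category.comp_id] at h1 h2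
    rw [h1, h2]
  · intro T z hz
    refine ⟨pullback.lift z (z ≫ a) ?_, pullback.lift_fst _ _ _⟩
    apply pullback.hom_ext
    · simp only [Category.assoc, pullback.lift_fst, pullback.diagonal_fst, Category.comp_id]
    · simp only [Category.assoc, pullback.lift_snd, pullback.diagonal_snd, Category.comp_id, hz]


/-- Let X → S be a separated morphism of schemes and let a finite group G act on X through
S-automorphisms. Then the functor of G-fixed points is represented by a closed subscheme of X: there
are a scheme Z and a closed immersion i : Z → X with i ∘ g = i for all g ∈ G such that every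
morphism x : T → X with g ∘ x = x for all g ∈ G factors uniquely through i. (The published statement
is for an algebraic space X over S, also treats the locally separated case and notes compatibility
with base change; this row is the separated case for schemes.) -/
theorem result
    {X S : Scheme.{u}} (p : X ⟶ S) [IsSeparated p]
    (G : Type u) [Group G] [Finite G] (ρ : G →* Aut X) (hρ : ∀ g : G, (ρ g).hom ≫ p = p) :
    ∃ (Z : Scheme.{u}) (i : Z ⟶ X), IsClosedImmersion i ∧ (∀ g : G, i ≫ (ρ g).hom = i) ∧
      ∀ (T : Scheme.{u}) (x : T ⟶ X), (∀ g : G, x ≫ (ρ g).hom = x) → ∃! z : T ⟶ Z, z ≫ i = x := by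
  classical
  have key : ∀ l : List G, ∃ (Z : Scheme.{u}) (i : Z ⟶ X), IsClosedImmersion i ∧
      (∀ g ∈ l, i ≫ (ρ g).hom = i) ∧
      ∀ (T : Scheme.{u}) (x : T ⟶ X), (∀ g ∈ l, x ≫ (ρ g).hom = x) → ∃ z : T ⟶ Z, z ≫ i = x := by
    intro l
    induction l with
    | nil => exact ⟨X, 𝟙 X, inferInstance, by simp, fun T x _ => ⟨x, by simp⟩⟩
    | cons g l ih =>
      obtain ⟨Z, i, hi, hfix, huniv⟩ := ih
      obtain ⟨E, e, he, hee, hE⟩ := exists_eq_closed p (i ≫ (ρ g).hom) i
        (by rw [Category.assoc, hρ])
      refine ⟨E, e ≫ i, inferInstance, ?_, ?_⟩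
      · intro g' hg'
        rcases List.mem_cons.mp hg' with rfl | hg'
        · rw [Category.assoc, hee]
        · rw [Category.assoc, hfix g' hg']
      · intro T x hx
        obtain ⟨z, hz⟩ := huniv T x (fun g' hg' => hx g' (List.mem_cons_of_mem _ hg'))
        obtain ⟨z', hz'⟩ := hE T z (by
          rw [← Category.assoc, hz, hx g (List.mem_cons_self)])
        exact ⟨z', by rw [← Category.assoc, hz', hz]⟩
  haveI := Fintype.ofFinite G
  obtain ⟨Z, i, hi, hfix, huniv⟩ := key (Finset.univ : Finset G).toList
  refine ⟨Z, i, hi, fun g => hfix g (by simp), fun T x hx => ?_⟩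
  obtain ⟨z, hz⟩ := huniv T x (fun g _ => hx g)
  refine ⟨z, hz, fun z' hz' => ?_⟩
  rw [← cancel_mono i, hz, hz']

end Groth.Agent.S13206
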