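import Groth.Statements.S13209
-- import your own Groth.Agent.* helpers here
import Groth.Agent.Lib.Helper40.NeronSp

set_option autoImplicit false
universe u
open CategoryTheory CategoryTheory.Limits AlgebraicGeometry
open Neron

namespace Groth.Agent.S13209

/-- Let S be a scheme, U ⊆ S a schematically dense open subscheme and N → S a smooth S-scheme with the
Néron mapping property for schemes with respect to U: for every smooth S-scheme Y, composition with
the projection Y ×_S U → Y is a bijection from S-morphisms Y → N onto S-morphisms Y ×_S U → N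
(equivalently, onto U-morphisms Y ×_S U → N ×_S U). Then N also has the Néron mapping property with
respect to smooth algebraic spaces: for every algebraic space F over S (an fppf sheaf of sets on
S-schemes with representable diagonal and an étale surjective chart from a scheme) whose structure
map to h_S is smooth, composition with the first projection F × h_U → F is a bijection from
morphisms of sheaves F → h_N onto morphisms F × h_U → h_N. -/
theorem result
    {S : Scheme.{u}} (U : S.Opens) (hU : CInt.IsSchematicallyDense U) (N : Over S) [Smooth N.hom]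
    (hN : ∀ Y : Over S, Smooth Y.hom →
      Function.Bijective (fun g : Y ⟶ N => (Over.mapPullbackAdj U.ι).counit.app Y ≫ g))
    (F : AlgSp.Sp S) (hF : AlgSp.IsAlgSpace F)
    (sF : F ⟶ (AlgSp.yon S).obj (Over.mk (𝟙 S))) (hsm : AlgSp.LocP @Smooth sF) :
    Function.Bijective (fun φ : F ⟶ (AlgSp.yon S).obj N =>
      (Limits.prod.fst : F ⨯ (AlgSp.yon S).obj (Over.mk U.ι) ⟶ F) ≫ φ) := by
  obtain ⟨V, p, hpe, hps⟩ := hF.atlas
  haveI hpepi : Epi p := Groth.Agent.Lib.Helper40.NeronSp.epi_of_repWith_etale_surjective p hpe hps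
  -- `V` is smooth over `S`
  have hVsm : Smooth V.hom := by
    have h0 := hsm p (𝟙 _) (Over.homMk V.hom (by simp) : V ⟶ Over.mk (𝟙 S)) hpe
      (AlgSp.repWith_id _ _) (Groth.Agent.Lib.Helper40.NeronSp.hom_to_yon_terminal _ _)
    exact h0
  -- the kernel pair
  have sq := hpe.rep.isPullback' p
  have hpr₂ : Etale (hpe.rep.snd p).left := hpe.property_snd p
  have hRsm : Smooth (hpe.rep.pullback p).hom := by
    rw [← Over.w (hpe.rep.snd p)]
    infer_instance
  haveI hepi2 : Epi (prod.map p (𝟙 ((AlgSp.yon S).obj (Over.mk U.ι)))) :=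
    Groth.Agent.Lib.Helper40.NeronSp.epi_of_repWith_etale_surjective _
      (MorphismProperty.of_isPullback (P := AlgSp.RepWith @Etale)
        (Groth.Agent.Lib.Helper40.NeronSp.isPullback_prod_map_fst p _) hpe)
      (MorphismProperty.of_isPullback (P := AlgSp.RepWith @Surjective)
        (Groth.Agent.Lib.Helper40.NeronSp.isPullback_prod_map_fst p _) hps)
  haveI hepi3 := Groth.Agent.Lib.Helper40.NeronSp.epi_kap U V
  have hkf := Groth.Agent.Lib.Helper40.NeronSp.kap_fst U V
  constructor
  · intro φ₁ φ₂ h12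
    have h12' : (Limits.prod.fst : F ⨯ (AlgSp.yon S).obj (Over.mk U.ι) ⟶ F) ≫ φ₁ =
        Limits.prod.fst ≫ φ₂ := h12
    rw [← cancel_epi p]
    have hpre : (AlgSp.yon S).preimage (p ≫ φ₁) = (AlgSp.yon S).preimage (p ≫ φ₂) := by
      apply (hN V hVsm).injective
      show Groth.Agent.Lib.Helper40.NeronSp.cU U V ≫ _ = Groth.Agent.Lib.Helper40.NeronSp.cU U V ≫ _
      apply (AlgSp.yon S).map_injective
      rw [Functor.map_comp, Functor.map_comp, Functor.map_preimage, Functor.map_preimage, ← hkf]
      have e : ∀ φ : F ⟶ (AlgSp.yon S).obj N,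
          (Groth.Agent.Lib.Helper40.NeronSp.kap U V ≫ Limits.prod.fst) ≫ p ≫ φ =
          Groth.Agent.Lib.Helper40.NeronSp.kap U V ≫
            prod.map p (𝟙 ((AlgSp.yon S).obj (Over.mk U.ι))) ≫ Limits.prod.fst ≫ φ := by
        intro φ
        rw [Category.assoc, prod.map_fst_assoc]
      rw [e φ₁, e φ₂, h12']
    calc p ≫ φ₁ = (AlgSp.yon S).map ((AlgSp.yon S).preimage (p ≫ φ₁)) :=
          (Functor.map_preimage _ _).symm
      _ = (AlgSp.yon S).map ((AlgSp.yon S).preimage (p ≫ φ₂)) := by rw [hpre]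
      _ = p ≫ φ₂ := Functor.map_preimage _ _
  · intro ψ
    obtain ⟨gU, hgU⟩ : ∃ gU : Groth.Agent.Lib.Helper40.NeronSp.YU U V ⟶ N,
        (AlgSp.yon S).map gU = Groth.Agent.Lib.Helper40.NeronSp.kap U V ≫
          prod.map p (𝟙 ((AlgSp.yon S).obj (Over.mk U.ι))) ≫ ψ :=
      ⟨(AlgSp.yon S).preimage _, Functor.map_preimage _ _⟩
    obtain ⟨g, hg⟩ := (hN V hVsm).surjective gU
    have hg' : Groth.Agent.Lib.Helper40.NeronSp.cU U V ≫ g = gU := hg
    have heq : hpe.rep.fst' p ≫ g = hpe.rep.snd p ≫ g := by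
      apply (hN _ hRsm).injective
      show Groth.Agent.Lib.Helper40.NeronSp.cU U _ ≫ hpe.rep.fst' p ≫ g =
        Groth.Agent.Lib.Helper40.NeronSp.cU U _ ≫ hpe.rep.snd p ≫ g
      rw [← Category.assoc, ← Groth.Agent.Lib.Helper40.NeronSp.mapU_cU U (hpe.rep.fst' p),
        ← Category.assoc, ← Groth.Agent.Lib.Helper40.NeronSp.mapU_cU U (hpe.rep.snd p),
        Category.assoc, Category.assoc, hg']
      apply (AlgSp.yon S).map_injective
      rw [Functor.map_comp, Functor.map_comp, hgU, ← Category.assoc,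
        Groth.Agent.Lib.Helper40.NeronSp.map_kap, ← Category.assoc
          ((AlgSp.yon S).map (Groth.Agent.Lib.Helper40.NeronSp.mapU U (hpe.rep.snd p))),
        Groth.Agent.Lib.Helper40.NeronSp.map_kap]
      simp only [Category.assoc]
      rw [prod.map_map_assoc, prod.map_map_assoc, sq.w]
    obtain ⟨φ, hφ⟩ := Groth.Agent.Lib.Helper40.NeronSp.exists_desc_of_epi p sq
      ((AlgSp.yon S).map g) (by rw [← Functor.map_comp, ← Functor.map_comp, heq])
    refine ⟨φ, ?_⟩
    show (Limits.prod.fst : F ⨯ (AlgSp.yon S).obj (Over.mk U.ι) ⟶ F) ≫ φ = ψ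
    rw [← cancel_epi (prod.map p (𝟙 ((AlgSp.yon S).obj (Over.mk U.ι)))),
      ← cancel_epi (Groth.Agent.Lib.Helper40.NeronSp.kap U V), ← hgU, ← hg', Functor.map_comp,
      ← hφ, prod.map_fst_assoc, ← Category.assoc, hkf]

end Groth.Agent.S13209
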