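import Groth.Statements.S1323
import Groth.Agent.Lib.Helper7.Deform
import Groth.Agent.Lib.Helper39.ThickAff.Hom

set_option autoImplicit false
universe u
open FlatMor

namespace Groth.Agent.S1323

open AlgebraicGeometry CategoryTheory Limits in
/-- Let S ⟶ S' be a finite order thickening, let X' ⟶ Y' be a morphism of schemes over S' with X' flat
over S', and let X ⟶ Y be its base change to S. Then X ⟶ Y is finite locally free of rank d if and
only if X' ⟶ Y' is. -/
theorem result (d : ℕ) {X X' Y Y' S S' : Scheme.{u}} (iX : X ⟶ X') (iY : Y ⟶ Y') (iS : S ⟶ S')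
    (f : X ⟶ Y) (f' : X' ⟶ Y') (g : Y ⟶ S) (g' : Y' ⟶ S')
    (hS : MoreMor.IsFiniteOrderThickening iS) (hcX : IsPullback iX (f ≫ g) (f' ≫ g') iS) (hcY : IsPullback iY g g' iS)
    (w : iX ≫ f' = f ≫ iY) [Flat (f' ≫ g')] :
    Mor2.IsFinLocFreeOfDeg d f ↔ Mor2.IsFinLocFreeOfDeg d f' := by
  obtain ⟨⟨hS1, hS2⟩, hnil⟩ := hS
  have hleft : IsPullback iX f f' iY := Groth.Agent.Lib.Helper7.Deform.isPullback_left hcX hcY w
  have hiY : IsClosedImmersion iY := MorphismProperty.of_isPullback hcY.flip hS1
  have hiX : IsClosedImmersion iX := MorphismProperty.of_isPullback hcX.flip hS1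
  have hsY : Surjective iY := MorphismProperty.of_isPullback hcY.flip hS2
  have hsX : Surjective iX := MorphismProperty.of_isPullback hcX.flip hS2
  constructor
  · rintro ⟨⟨hfin, hflat, hfp⟩, hrk⟩
    have hflat' : Flat f' := Groth.Agent.Lib.Helper7.Deform.flat_of_flat hcX hcY w hnil hflat
    have hfp' : LocallyOfFinitePresentation f' :=
      Groth.Agent.Lib.Helper7.Deform.locallyOfFinitePresentation_of_locallyOfFinitePresentation
        hcX hcY w hnil hfp
    have hint' : IsIntegralHom f' :=
      (Groth.Agent.Lib.Helper39.ThickAff.isIntegralHom_iff iX iY f f' iX.surjective w).1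
        inferInstance
    have hfin' : IsFinite f' := by
      rw [IsFinite.iff_isIntegralHom_and_locallyOfFiniteType]
      exact ⟨hint', inferInstance⟩
    refine ⟨⟨hfin', hflat', hfp'⟩, ?_⟩
    intro y'
    obtain ⟨y, rfl⟩ := iY.surjective y'
    rw [← Scheme.Hom.finrank_of_isPullback iX f f' iY hleft y]
    exact hrk y
  · rintro ⟨⟨hfin', hflat', hfp'⟩, hrk'⟩
    have hfin : IsFinite f := MorphismProperty.of_isPullback hleft hfin'
    have hflat : Flat f := MorphismProperty.of_isPullback hleft hflat'
    have hfp : LocallyOfFinitePresentation f := MorphismProperty.of_isPullback hleft hfp'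
    refine ⟨⟨hfin, hflat, hfp⟩, ?_⟩
    intro y
    rw [Scheme.Hom.finrank_of_isPullback iX f f' iY hleft y]
    exact hrk' _

end Groth.Agent.S1323
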