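import Groth.Statements.S1328
import Mathlib
import Groth.Agent.Lib.Helper21.GenericComponents
-- import your own Groth.Agent.* helpers here

set_option autoImplicit false
universe u
open FlatMor

namespace Groth.Agent.S1328
open Groth.Agent.Lib.Helper21 Groth.Agent.Lib.Helper21.FieldDim Groth.Agent.Lib.Helper21.IrrFibres Groth.Agent.Lib.Helper21.GenericSpread

open AlgebraicGeometry CategoryTheory Limits in
/-- Let f be of finite type with irreducible target. If the generic fibre has exactly n irreducible
components, then over some nonempty open of the target every fibre has at least n irreducible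
components. -/
theorem result {X Y : Scheme.{u}} (f : X ⟶ Y) [IrreducibleSpace ↑Y] [LocallyOfFiniteType f] [QuasiCompact f] (n : ℕ)
    (h : (irreducibleComponents ↑(f.fiber (genericPoint ↑Y))).encard = n) :
    ∃ V : Y.Opens, (V : Set ↑Y).Nonempty ∧ ∀ y ∈ V, (n : ℕ∞) ≤ (irreducibleComponents ↑(f.fiber y)).encard := by
  classical
  set η : Y := genericPoint ↑Y with hηdef
  have hηgen : ∀ y : Y, η ⤳ y := fun y => (genericPoint_spec Y).specializes (Set.mem_univ y)
  have hηmax : ∀ z : Y, z ⤳ η → η ⤳ z := fun z _ => hηgen z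
  set C0 := irreducibleComponents ↑(f.fiber η) with hC0
  have hfin : C0.Finite := Set.finite_of_encard_eq_coe h
  haveI : Finite ↥C0 := hfin.to_subtype
  have hgp : ∀ T : ↥C0, ∃ z : f.fiber η, IsGenericPoint z (T : Set ↑(f.fiber η)) := fun T =>
    QuasiSober.sober T.2.1 (isClosed_of_mem_irreducibleComponents T.1 T.2)
  choose gp hgp' using hgp
  set ξ : ↥C0 → X := fun T => f.fiberι η (gp T) with hξ
  have hinj : Function.Injective (f.fiberι η) := (f.fiberι η).isEmbedding.injective
  have hξη : ∀ T, f (ξ T) = η := by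
    intro T
    have : ξ T ∈ Set.range (f.fiberι η) := ⟨_, rfl⟩
    rw [Scheme.Hom.range_fiberι] at this
    exact this
  have hξmax : ∀ T, ∀ ξ' : X, ξ' ⤳ ξ T → f ξ' = η → ξ' = ξ T := by
    intro T ξ' hsp hf
    obtain ⟨z', rfl⟩ : ξ' ∈ Set.range (f.fiberι η) := by
      rw [Scheme.Hom.range_fiberι]; exact hf
    have hsp' : z' ⤳ gp T := (f.fiberι η).isEmbedding.toIsInducing.specializes_iff.mp hsp
    have hmax := maximal_of_closure_singleton_mem_irreducibleComponents (x := gp T)
      (by rw [(hgp' T).def]; exact T.2)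
    have := (hmax z' hsp').antisymm hsp'
    show f.fiberι η z' = f.fiberι η (gp T)
    rw [this.eq]
  have hdist : ∀ T T' : ↥C0, T' ≠ T → ξ T ∉ closure ({ξ T'} : Set X) := by
    intro T T' hne hmem
    have hsp : ξ T' ⤳ ξ T := specializes_iff_mem_closure.mpr hmem
    have h1 := hξmax T (ξ T') hsp (hξη T')
    have h2 : gp T' = gp T := hinj h1
    apply hne
    apply Subtype.ext
    rw [← (hgp' T').def, ← (hgp' T).def, h2]
  set D : ↥C0 → Set X := fun T => ⋃ T' ∈ {T' : ↥C0 | T' ≠ T}, closure ({ξ T'} : Set X) with hD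
  have hDc : ∀ T, IsClosed (D T) := fun T =>
    (Set.toFinite _).isClosed_biUnion fun T' _ => isClosed_closure
  have hξD : ∀ T, ξ T ∉ D T := by
    intro T hmem
    obtain ⟨T', hT', hm⟩ := Set.mem_iUnion₂.mp hmem
    exact hdist T T' hT' hm
  choose V hVo hηV hV using fun T : ↥C0 =>
    exists_open_forall_exists_good f hηmax hηgen (hξη T) (hξmax T) (D T) (hDc T) (hξD T)
  refine ⟨⟨⋂ T, V T, isOpen_iInter_of_finite hVo⟩, ⟨η, Set.mem_iInter.mpr hηV⟩, ?_⟩
  intro y hy
  have hy' : ∀ T, y ∈ V T := fun T => Set.mem_iInter.mp hy T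
  choose t ht using fun T : ↥C0 => hV T y (hy' T)
  have hzt : ∀ T, ∃ z : f.fiber y, f.fiberι y z = t T := by
    intro T
    have : t T ∈ Set.range (f.fiberι y) := by
      rw [Scheme.Hom.range_fiberι]; exact (ht T).1
    exact this
  choose zt hzt' using hzt
  -- the key: a generic point of the component through `zt T` equals `zt T`
  have key : ∀ T (m' : f.fiber y), m' ⤳ zt T → f.fiberι y m' = t T := by
    intro T m' hm
    set m := f.fiberι y m' with hm'
    have hsp : m ⤳ t T := by
      have := hm.map (f.fiberι y).continuous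
      rwa [hzt'] at this
    have hfm : f m = y := by
      have : m ∈ Set.range (f.fiberι y) := ⟨_, rfl⟩
      rw [Scheme.Hom.range_fiberι] at this
      exact this
    by_contra hne
    have h1 := tdR_lt_of_specializes f hsp hne (hfm.trans (ht T).1.symm)
    have h2 := (fibreDimAt_le_iff f (t T) _).mp (ht T).2.2.2.2 m hsp (hfm.trans (ht T).1.symm)
    have h3 : tdR f m ≤ tdR f (ξ T) := by exact_mod_cast h2
    have h4 := (ht T).2.2.2.1
    omega
  let τ : ↥C0 → ↥(irreducibleComponents ↑(f.fiber y)) := fun T =>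
    ⟨irreducibleComponent (zt T), irreducibleComponent_mem_irreducibleComponents _⟩
  have hτ : Function.Injective τ := by
    intro T T' hTT'
    by_contra hne
    have hK : irreducibleComponent (zt T) = irreducibleComponent (zt T') :=
      congrArg Subtype.val hTT'
    obtain ⟨m', hm'⟩ := QuasiSober.sober (isIrreducible_irreducibleComponent (x := zt T))
      isClosed_irreducibleComponent
    have hm1 : m' ⤳ zt T := hm'.specializes mem_irreducibleComponent
    have hm2 : m' ⤳ zt T' := hm'.specializes (by rw [hK]; exact mem_irreducibleComponent)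
    have e1 := key T m' hm1
    have e2 := key T' m' hm2
    have e3 : t T = t T' := e1.symm.trans e2
    have h5 : t T' ∈ closure ({ξ T'} : Set X) := (ht T').2.1.mem_closure
    have h6 : t T ∉ D T := (ht T).2.2.1
    apply h6
    rw [e3]
    exact Set.mem_iUnion₂.mpr ⟨T', fun h => hne h.symm, h5⟩
  have hle := (⟨τ, hτ⟩ : ↥C0 ↪ ↥(irreducibleComponents ↑(f.fiber y))).encard_le
  rw [h] at hle
  exact hle

end Groth.Agent.S1328
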