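import Groth.Statements.S1329
import Groth.Agent.S1299
import Groth.Agent.Lib.Helper21.GenericSpread
-- import your own Groth.Agent.* helpers here

set_option autoImplicit false
universe u
open FlatMor

namespace Groth.Agent.S1329

/-- a partition of a space into `n` nonempty closed pieces gives at least `n` connected components. -/
theorem le_card_connectedComponents_of_partition {F : Type*} [TopologicalSpace F] {n : ℕ}
    (A : Fin n → Set F) (hcl : ∀ i, IsClosed (A i))
    (hdis : ∀ i j, i ≠ j → Disjoint (A i) (A j)) (hcov : ⋃ i, A i = Set.univ)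
    (hne : ∀ i, (A i).Nonempty) : (n : ℕ∞) ≤ ENat.card (_root_.ConnectedComponents F) := by
  classical
  have hopen : ∀ i, IsOpen (A i) := by
    intro i
    have : A i = (⋃ j ∈ {j : Fin n | j ≠ i}, A j)ᶜ := by
      ext x
      simp only [Set.mem_compl_iff, Set.mem_iUnion, Set.mem_setOf_eq, not_exists]
      constructor
      · intro hx j hj hxj
        exact (Set.disjoint_left.mp (hdis j i hj) hxj) hx
      · intro h
        have hx : x ∈ ⋃ i, A i := by rw [hcov]; trivial
        obtain ⟨j, hj⟩ := Set.mem_iUnion.mp hx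
        by_cases hji : j = i
        · rw [← hji]; exact hj
        · exact absurd hj (h j hji)
    rw [this]
    exact ((Set.toFinite _).isClosed_biUnion fun j _ => hcl j).isOpen_compl
  have hex : ∀ x : F, ∃ i, x ∈ A i := fun x => by
    have hx : x ∈ ⋃ i, A i := by rw [hcov]; trivial
    exact Set.mem_iUnion.mp hx
  choose g hg using hex
  have hguniq : ∀ x i, x ∈ A i → g x = i := by
    intro x i hx
    by_contra hne'
    exact (Set.disjoint_left.mp (hdis _ _ hne') (hg x)) hx
  have hlc : IsLocallyConstant g := by
    rw [IsLocallyConstant.iff_isOpen_fiber]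
    intro i
    have : g ⁻¹' {i} = A i := by
      ext x
      constructor
      · intro hx
        have h1 : g x = i := hx
        rw [← h1]; exact hg x
      · intro hx
        exact hguniq x i hx
    rw [this]
    exact hopen i
  choose a ha using hne
  let s : Fin n → _root_.ConnectedComponents F := fun i => ConnectedComponents.mk (a i)
  have hs : Function.Injective s := by
    intro i j hij
    have h1 : a i ∈ connectedComponent (a j) := ConnectedComponents.coe_eq_coe'.mp hij
    have h2 := hlc.apply_eq_of_isPreconnected isPreconnected_connectedComponent h1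
      mem_connectedComponent
    rw [hguniq _ _ (ha i), hguniq _ _ (ha j)] at h2
    exact h2
  have := ENat.card_le_card_of_injective hs
  simpa using this

open AlgebraicGeometry CategoryTheory Limits in
/-- Let f be of finite type with irreducible target. If the generic fibre has exactly n connected
components, then over some nonempty open of the target every fibre has at least n connected
components. -/
theorem result {X Y : Scheme.{u}} (f : X ⟶ Y) [IrreducibleSpace ↑Y] [LocallyOfFiniteType f] [QuasiCompact f] (n : ℕ)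
    (h : ENat.card (_root_.ConnectedComponents ↑(f.fiber (genericPoint ↑Y))) = n) :
    ∃ V : Y.Opens, (V : Set ↑Y).Nonempty ∧ ∀ y ∈ V, (n : ℕ∞) ≤ ENat.card (_root_.ConnectedComponents ↑(f.fiber y)) := by
  classical
  open Groth.Agent.Lib.Helper21.GenericSpread in
  set η : Y := genericPoint ↑Y with hηdef
  have hηmax : ∀ z : Y, z ⤳ η → η ⤳ z := fun z _ => (genericPoint_spec Y).specializes (Set.mem_univ z)
  have hηopen : ∀ U : Set Y, IsOpen U → U.Nonempty → η ∈ U := fun U hU hne =>
    ((genericPoint_spec Y).mem_open_set_iff hU).mpr (by rwa [Set.univ_inter])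
  set F := f.fiber η with hF
  have hfin : Finite (_root_.ConnectedComponents ↑F) := by
    by_contra hinf
    rw [not_finite_iff_infinite] at hinf
    rw [ENat.card_eq_top_of_infinite] at h
    exact absurd h (by simp)
  have hcard : Nat.card (_root_.ConnectedComponents ↑F) = n := by
    rw [ENat.card_eq_coe_natCard] at h
    exact_mod_cast h
  let e : _root_.ConnectedComponents ↑F ≃ Fin n := Finite.equivFinOfCardEq hcard
  let C : Fin n → Set ↑F := fun i => ConnectedComponents.mk ⁻¹' {e.symm i}
  have hCcl : ∀ i, IsClosed (C i) := by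
    intro i
    obtain ⟨x, hx⟩ := ConnectedComponents.surjective_coe (e.symm i)
    have : C i = connectedComponent x := by
      change ConnectedComponents.mk ⁻¹' {e.symm i} = _
      rw [← hx]
      exact connectedComponents_preimage_singleton
    rw [this]
    exact isClosed_connectedComponent
  have hCcov : ⋃ i, C i = Set.univ := by
    rw [Set.eq_univ_iff_forall]
    intro x
    refine Set.mem_iUnion.mpr ⟨e (ConnectedComponents.mk x), ?_⟩
    change ConnectedComponents.mk x ∈ ({e.symm (e (ConnectedComponents.mk x))} : Set _)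
    rw [Equiv.symm_apply_apply]
    rfl
  have hCdis : ∀ i j, i ≠ j → ∀ w, w ∈ C i → w ∉ C j := by
    intro i j hij w hwi hwj
    have h1 : ConnectedComponents.mk w = e.symm i := hwi
    have h2 : ConnectedComponents.mk w = e.symm j := hwj
    exact hij (e.symm.injective (h1.symm.trans h2))
  have hCne : ∀ i, (C i).Nonempty := by
    intro i
    obtain ⟨x, hx⟩ := ConnectedComponents.surjective_coe (e.symm i)
    exact ⟨x, hx⟩
  set T : Fin n → Set X := fun i => closure ((f.fiberι η) '' C i) with hT
  have hfib : ∀ (y : Y) (w : f.fiber y), f (f.fiberι y w) = y := by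
    intro y w
    have hz : f.fiberι y w ∈ Set.range (f.fiberι y) := ⟨w, rfl⟩
    rw [Scheme.Hom.range_fiberι] at hz
    exact hz
  -- trace of `T i` on the generic fibre
  have hTη : ∀ i (w : F), f.fiberι η w ∈ T i → w ∈ C i := by
    intro i w hw
    have hind := (f.fiberι η).isEmbedding.toIsInducing
    have : w ∈ closure (C i) := by
      rw [hind.closure_eq_preimage_closure_image]
      exact hw
    rwa [(hCcl i).closure_eq] at this
  obtain ⟨V₀, hV₀ne, hV₀⟩ := Groth.Agent.S1299.result f C hCcl hCcov
  -- disjointness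
  have hV₁ : ∀ i j, i ≠ j → η ∉ closure (f '' (T i ∩ T j)) := by
    intro i j hij hcl
    obtain ⟨x, ⟨hxi, hxj⟩, hx⟩ := exists_mem_of_maximal_of_mem_closure_image f
      (isClosed_closure.inter isClosed_closure) hηmax hcl
    obtain ⟨w, rfl⟩ : x ∈ Set.range (f.fiberι η) := by rw [Scheme.Hom.range_fiberι]; exact hx
    exact hCdis i j hij w (hTη i w hxi) (hTη j w hxj)
  -- nonemptiness
  have hV₂ : ∀ i, ∃ U : Set Y, IsOpen U ∧ η ∈ U ∧ U ⊆ f '' T i := by
    intro i
    obtain ⟨c, hc⟩ := hCne i
    obtain ⟨U, hUo, hUd, hUi⟩ := exists_open_subset_image_closure f (f.fiberι η c)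
    have hclη : closure ({f (f.fiberι η c)} : Set Y) = Set.univ := by
      rw [hfib]; exact (genericPoint_spec Y).def
    rw [hclη, Set.inter_univ] at hUd hUi
    have hUne : U.Nonempty := by
      by_contra hne
      rw [Set.not_nonempty_iff_eq_empty] at hne
      rw [hne, closure_empty] at hUd
      exact hUd (Set.mem_univ η)
    refine ⟨U, hUo, hηopen U hUo hUne, hUi.trans (Set.image_mono ?_)⟩
    exact closure_mono (Set.singleton_subset_iff.mpr ⟨c, hc, rfl⟩)
  choose U hUo hηU hUT using hV₂
  let W : Set Y := (V₀ : Set Y) ∩ (⋂ i, ⋂ j, ⋂ (_ : i ≠ j), (closure (f '' (T i ∩ T j)))ᶜ) ∩ ⋂ i, U i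
  have hWo : IsOpen W := by
    refine (V₀.2.inter ?_).inter (isOpen_iInter_of_finite hUo)
    refine isOpen_iInter_of_finite fun i => isOpen_iInter_of_finite fun j => ?_
    by_cases hij : i = j
    · have : (⋂ (_ : i ≠ j), (closure (f '' (T i ∩ T j)))ᶜ) = Set.univ := by
        simp [hij]
      rw [this]; exact isOpen_univ
    · have : (⋂ (_ : i ≠ j), (closure (f '' (T i ∩ T j)))ᶜ) = (closure (f '' (T i ∩ T j)))ᶜ := by
        simp [hij]
      rw [this]; exact isClosed_closure.isOpen_compl
  have hηW : η ∈ W := by
    refine ⟨⟨hηopen _ V₀.2 hV₀ne, ?_⟩, Set.mem_iInter.mpr hηU⟩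
    simp only [Set.mem_iInter]
    intro i j hij
    exact hV₁ i j hij
  refine ⟨⟨W, hWo⟩, ⟨η, hηW⟩, ?_⟩
  rintro y ⟨⟨hy0, hy1⟩, hy2⟩
  simp only [Set.mem_iInter] at hy1 hy2
  refine le_card_connectedComponents_of_partition (fun i => (f.fiberι y) ⁻¹' T i)
    (fun i => isClosed_closure.preimage (f.fiberι y).continuous) ?_ (hV₀ y hy0) ?_
  · intro i j hij
    rw [Set.disjoint_left]
    intro w hwi hwj
    refine hy1 i j hij (subset_closure ⟨f.fiberι y w, ⟨hwi, hwj⟩, hfib y w⟩)
  · intro i
    obtain ⟨x, hxT, hx⟩ := hUT i (hy2 i)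
    obtain ⟨w, rfl⟩ : x ∈ Set.range (f.fiberι y) := by rw [Scheme.Hom.range_fiberι]; exact hx
    exact ⟨w, hxT⟩

end Groth.Agent.S1329
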