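import Groth.Statements.S1330
import Groth.Agent.Lib.Helper24.FibreChart
import Groth.Agent.Lib.Helper24.GenericNonReduced
-- import your own Groth.Agent.* helpers here

set_option autoImplicit false
universe u
open FlatMor

namespace Groth.Agent.S1330

open AlgebraicGeometry CategoryTheory Limits TensorProduct Groth.Agent.Lib.Helper24.FibreChart
  Groth.Agent.Lib.Helper24.GenericInj

/-- If the fibre is reduced then so are the rings of its affine charts. -/
lemma isReduced_tensor_of_isReduced_fiber {X Y : Scheme.{u}} (f : X ⟶ Y) {V : Y.Opens}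
    (hV : IsAffineOpen V) {W : X.Opens} (hW : IsAffineOpen W) (e : W ≤ f ⁻¹ᵁ V) (y : Y)
    (hy : y ∈ V) [IsReduced (f.fiber y)] :
    letI := (f.appLE V W e).hom.toAlgebra
    letI := (Y.evaluation V y hy).hom.toAlgebra
    _root_.IsReduced ((Y.residueField y) ⊗[Γ(Y, V)] Γ(X, W)) := by
  letI := (f.appLE V W e).hom.toAlgebra
  letI := (Y.evaluation V y hy).hom.toAlgebra
  obtain ⟨j, hj, -, -⟩ := exists_specChart f hV hW e y hy
  have : IsReduced (Spec (.of ((Y.residueField y) ⊗[Γ(Y, V)] Γ(X, W)))) :=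
    isReduced_of_isOpenImmersion j
  exact (affine_isReduced_iff _).mp this

open AlgebraicGeometry CategoryTheory Limits in
/-- Let f be of finite type with irreducible target. If the generic fibre is not reduced, then over some
nonempty open of the target no fibre is reduced. -/
theorem result {X Y : Scheme.{u}} (f : X ⟶ Y) [IrreducibleSpace ↑Y] [LocallyOfFiniteType f] [QuasiCompact f]
    (h : ¬ IsReduced (f.fiber (genericPoint ↑Y))) :
    ∃ V : Y.Opens, (V : Set ↑Y).Nonempty ∧ ∀ y ∈ V, ¬ IsReduced (f.fiber y) := by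
  classical
  set η := genericPoint Y with hη
  obtain ⟨z, hz⟩ : ∃ z : f.fiber η, ¬ _root_.IsReduced ((f.fiber η).presheaf.stalk z) := by
    by_contra hcon
    push_neg at hcon
    haveI := hcon
    exact h (isReduced_of_isReduced_stalk _)
  obtain ⟨_, ⟨V, hV : IsAffineOpen V, rfl⟩, hηV, -⟩ :=
    Y.isBasis_affineOpens.exists_subset_of_mem_open (Set.mem_univ η) isOpen_univ
  have hfz : f (f.fiberι η z) = η := by
    have : f.fiberι η z ∈ Set.range (f.fiberι η) := ⟨z, rfl⟩
    rw [Scheme.Hom.range_fiberι] at this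
    exact this
  have hxV : f.fiberι η z ∈ (f ⁻¹ᵁ V : Set X) := by
    change f (f.fiberι η z) ∈ V
    rw [hfz]
    exact hηV
  obtain ⟨_, ⟨W, hW : IsAffineOpen W, rfl⟩, hxW, hWV⟩ :=
    X.isBasis_affineOpens.exists_subset_of_mem_open hxV (f ⁻¹ᵁ V).isOpen
  letI := (f.appLE V W hWV).hom.toAlgebra
  letI := (Y.evaluation V η hηV).hom.toAlgebra
  haveI : Algebra.FiniteType Γ(Y, V) Γ(X, W) :=
    HasRingHomProperty.appLE (P := @LocallyOfFiniteType) f ‹_› ⟨V, hV⟩ ⟨W, hW⟩ hWV
  have hnr : ¬ _root_.IsReduced ((Y.residueField η) ⊗[Γ(Y, V)] Γ(X, W)) := by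
    intro hred
    obtain ⟨j, hj, hrange, -⟩ := exists_specChart f hV hW hWV η hηV
    have hzr : z ∈ Set.range j := by rw [hrange]; exact hxW
    obtain ⟨z', rfl⟩ := hzr
    apply hz
    exact isReduced_of_injective (j.stalkMap z').hom
      (ConcreteCategory.bijective_of_isIso (j.stalkMap z')).injective
  obtain ⟨a, haη, hak⟩ := exists_not_isReduced_of_irreducible (A := Γ(Y, V)) (B := Γ(X, W))
    (K := Y.residueField η) (exists_evaluation_div hV η hηV)
    (isNilpotent_of_evaluation_genericPoint_eq_zero hV hηV) hnr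
  refine ⟨Y.basicOpen a, ⟨η, (Scheme.evaluation_ne_zero_iff_mem_basicOpen Y η hηV a).mp haη⟩,
    fun y hy hred ↦ ?_⟩
  have hyV : y ∈ V := Y.basicOpen_le a hy
  letI := (Y.evaluation V y hyV).hom.toAlgebra
  exact hak (Y.residueField y) ((Scheme.evaluation_ne_zero_iff_mem_basicOpen Y y hyV a).mpr hy)
    (isReduced_tensor_of_isReduced_fiber f hV hW hWV y hyV)

end Groth.Agent.S1330
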