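import Groth.Statements.S1331
import Groth.Agent.Lib.Helper24.GeomRedFibre
import Groth.Agent.Lib.Helper24.GenericNotGeomReduced
-- import your own Groth.Agent.* helpers here

set_option autoImplicit false
universe u
open FlatMor

namespace Groth.Agent.S1331

open AlgebraicGeometry CategoryTheory Limits TensorProduct Groth.Agent.Lib.Helper24.GeomRedFibre
  Groth.Agent.Lib.Helper24.GeomRedScheme Groth.Agent.Lib.Helper24.FibreChart
  Groth.Agent.Lib.Helper24.GenericNotGeomReduced

/-- A fibre all of whose chart rings are geometrically reduced is geometrically reduced. -/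
lemma geometricallyReduced_fiber_of_forall_chart {X Y : Scheme.{u}} (f : X ⟶ Y) {V : Y.Opens}
    (hV : IsAffineOpen V) (y : Y) (hy : y ∈ V)
    (H : ∀ (W : X.Opens) (hW : IsAffineOpen W) (e : W ≤ f ⁻¹ᵁ V),
      letI := (f.appLE V W e).hom.toAlgebra
      letI := (Y.evaluation V y hy).hom.toAlgebra
      Algebra.IsGeometricallyReduced (Y.residueField y)
        ((Y.residueField y) ⊗[Γ(Y, V)] Γ(X, W))) :
    GeometricallyReduced (f.fiberToSpecResidueField y) := by
  let ι := {W : X.affineOpens // (W : X.Opens) ≤ f ⁻¹ᵁ V}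
  choose U j hjo hjr hjg using fun W : ι ↦
    exists_chart_geometricallyReduced f hV W.1.2 W.2 y hy (H W.1.1 W.1.2 W.2)
  haveI := hjo
  refine geometricallyReduced_of_openCover (f.fiberToSpecResidueField y) U j (fun z ↦ ?_) hjg
  have hfz : f (f.fiberι y z) = y := by
    have : f.fiberι y z ∈ Set.range (f.fiberι y) := ⟨z, rfl⟩
    rw [Scheme.Hom.range_fiberι] at this
    exact this
  have hz : f.fiberι y z ∈ (f ⁻¹ᵁ V : Set X) := by
    change f (f.fiberι y z) ∈ V
    rw [hfz]
    exact hy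
  obtain ⟨_, ⟨W, hW : IsAffineOpen W, rfl⟩, hzW, hWV⟩ :=
    X.isBasis_affineOpens.exists_subset_of_mem_open hz (f ⁻¹ᵁ V).isOpen
  refine ⟨⟨⟨W, hW⟩, hWV⟩, ?_⟩
  rw [hjr]
  exact hzW

open AlgebraicGeometry CategoryTheory Limits in
/-- Let f be of finite type with irreducible target. If the generic fibre is not geometrically reduced,
then over some nonempty open of the target no fibre is geometrically reduced. -/
theorem result {X Y : Scheme.{u}} (f : X ⟶ Y) [IrreducibleSpace ↑Y] [LocallyOfFiniteType f] [QuasiCompact f]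
    (h : ¬ GeometricallyReduced (f.fiberToSpecResidueField (genericPoint ↑Y))) :
    ∃ V : Y.Opens, (V : Set ↑Y).Nonempty ∧ ∀ y ∈ V, ¬ GeometricallyReduced (f.fiberToSpecResidueField y) := by
  classical
  set η := genericPoint Y with hη
  obtain ⟨_, ⟨V₀, hV₀ : IsAffineOpen V₀, rfl⟩, hηV, -⟩ :=
    Y.isBasis_affineOpens.exists_subset_of_mem_open (Set.mem_univ η) isOpen_univ
  obtain ⟨W, hW, e, hnot⟩ : ∃ (W : X.Opens) (hW : IsAffineOpen W) (e : W ≤ f ⁻¹ᵁ V₀),
      ¬ (letI := (f.appLE V₀ W e).hom.toAlgebra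
        letI := (Y.evaluation V₀ η hηV).hom.toAlgebra
        Algebra.IsGeometricallyReduced (Y.residueField η)
          ((Y.residueField η) ⊗[Γ(Y, V₀)] Γ(X, W))) := by
    by_contra hcon
    push_neg at hcon
    exact h (geometricallyReduced_fiber_of_forall_chart f hV₀ η hηV hcon)
  letI := (f.appLE V₀ W e).hom.toAlgebra
  letI := (Y.evaluation V₀ η hηV).hom.toAlgebra
  haveI : Algebra.FiniteType Γ(Y, V₀) Γ(X, W) :=
    HasRingHomProperty.appLE (P := @LocallyOfFiniteType) f ‹_› ⟨V₀, hV₀⟩ ⟨W, hW⟩ e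
  obtain ⟨a, haη, hak⟩ := exists_not_isGeometricallyReduced_of_irreducible (A := Γ(Y, V₀))
    (B := Γ(X, W)) (K := Y.residueField η) (exists_evaluation_div hV₀ η hηV)
    (isNilpotent_of_evaluation_genericPoint_eq_zero hV₀ hηV) hnot
  refine ⟨Y.basicOpen a, ⟨η, (Scheme.evaluation_ne_zero_iff_mem_basicOpen Y η hηV a).mp haη⟩,
    fun y hy hred ↦ ?_⟩
  have hyV : y ∈ V₀ := Y.basicOpen_le a hy
  letI := (Y.evaluation V₀ y hyV).hom.toAlgebra
  haveI := hred
  exact hak (Y.residueField y) ((Scheme.evaluation_ne_zero_iff_mem_basicOpen Y y hyV a).mpr hy)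
    (isGeometricallyReduced_tensor_of_fiber f hV₀ hW e y hyV)

end Groth.Agent.S1331
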