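import Groth.Statements.S1332
import Mathlib
import Groth.Agent.Lib.Helper21.GenericSpread
-- import your own Groth.Agent.* helpers here

set_option autoImplicit false
universe u
open FlatMor

namespace Groth.Agent.S1332
open Groth.Agent.Lib.Helper21.FieldDim Groth.Agent.Lib.Helper21.IrrFibres Groth.Agent.Lib.Helper21.GenericSpread

open AlgebraicGeometry CategoryTheory Limits in
/-- Let f be of finite type with irreducible target. If the generic fibre has dimension n, then over
some nonempty open of the target every fibre has dimension n. -/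
theorem result {X Y : Scheme.{u}} (f : X ⟶ Y) [IrreducibleSpace ↑Y] [LocallyOfFiniteType f] [QuasiCompact f] (n : ℕ)
    (h : topologicalKrullDim ↑(f.fiber (genericPoint ↑Y)) = n) :
    ∃ V : Y.Opens, (V : Set ↑Y).Nonempty ∧ ∀ y ∈ V, topologicalKrullDim ↑(f.fiber y) = n := by
  classical
  set η : Y := genericPoint ↑Y with hηdef
  have hηmax : ∀ z : Y, z ⤳ η → η ⤳ z := fun z _ => (genericPoint_spec Y).specializes (Set.mem_univ z)
  -- points of the generic fibre have `tdR ≤ n`, and some point has `tdR = n`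
  have hle : ∀ x : X, f x = η → ((tdR f x : ℕ) : WithBot ℕ∞) ≤ (n : WithBot ℕ∞) :=
    (dim_fiber_le_iff f η _).mp h.le
  have hex : ∃ ξ : X, f ξ = η ∧ n ≤ tdR f ξ := by
    by_contra hne
    push Not at hne
    rcases Nat.eq_zero_or_pos n with hn | hn
    · have : topologicalKrullDim (f.fiber η) ≤ ⊥ := by
        rw [dim_fiber_le_iff]
        intro x hx
        have := hne x hx
        omega
      rw [h, hn] at this
      exact absurd this (by simp)
    · have : topologicalKrullDim (f.fiber η) ≤ ((n - 1 : ℕ) : WithBot ℕ∞) := by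
        rw [dim_fiber_le_iff]
        intro x hx
        have := hne x hx
        have h2 : tdR f x ≤ n - 1 := by omega
        exact_mod_cast h2
      rw [h] at this
      have h3 : n ≤ n - 1 := by exact_mod_cast this
      omega
  obtain ⟨ξ, hξη, hξn⟩ := hex
  -- upper bound: Chevalley semicontinuity
  have hUo : IsOpen {x : X | FlatMor.fibreDimAt f x ≤ (n : WithBot ℕ∞)} := Groth.Agent.S0402.result f n
  set C : Set X := {x : X | FlatMor.fibreDimAt f x ≤ (n : WithBot ℕ∞)}ᶜ with hC
  have hCc : IsClosed C := hUo.isClosed_compl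
  have hηC : η ∉ closure (f '' C) := by
    intro hcl
    obtain ⟨x, hxC, hx⟩ := exists_mem_of_maximal_of_mem_closure_image f hCc hηmax hcl
    apply hxC
    change FlatMor.fibreDimAt f x ≤ (n : WithBot ℕ∞)
    refine (fibreDimAt_le_dim_fiber f x).trans ?_
    rw [hx, h]
  -- lower bound: generic image
  obtain ⟨U₂, hU₂o, hU₂d, hU₂i⟩ := exists_open_subset_image_closure f ξ
  have hclη : closure ({f ξ} : Set Y) = Set.univ := by
    rw [hξη]; exact (genericPoint_spec Y).def
  rw [hclη, Set.inter_univ] at hU₂d hU₂i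
  have hU₂ne : U₂.Nonempty := by
    by_contra hne
    rw [Set.not_nonempty_iff_eq_empty] at hne
    rw [hne, closure_empty] at hU₂d
    exact hU₂d (Set.mem_univ η)
  have hηU₂ : η ∈ U₂ := ((genericPoint_spec Y).mem_open_set_iff hU₂o).mpr (by
    rwa [Set.univ_inter])
  refine ⟨⟨(closure (f '' C))ᶜ ∩ U₂, isClosed_closure.isOpen_compl.inter hU₂o⟩, ⟨η, hηC, hηU₂⟩, ?_⟩
  rintro y ⟨hy1, hy2⟩
  apply le_antisymm
  · rw [dim_fiber_le_iff]
    intro x hx
    have hxC : x ∉ C := fun hxC => hy1 (subset_closure ⟨x, hxC, hx⟩)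
    have hxU : FlatMor.fibreDimAt f x ≤ (n : WithBot ℕ∞) := by
      by_contra hcon
      exact hxC hcon
    exact (tdR_le_fibreDimAt f x).trans hxU
  · obtain ⟨x, hxcl, hx⟩ := hU₂i hy2
    have hsp : ξ ⤳ x := specializes_iff_mem_closure.mpr hxcl
    obtain ⟨ξ', -, -, hξ'x, hle'⟩ := exists_between_tdR_le f hsp
    have h1 := tdR_le_dim_fiber f ξ'
    rw [hξ'x, hx] at h1
    refine le_trans ?_ h1
    exact_mod_cast hξn.trans hle'

end Groth.Agent.S1332
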