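import Groth.Statements.S4339
import Mathlib
import Groth.Agent.Lib.Helper22.LinTopLib
import Groth.Agent.Lib.Helper83.CompleteNoeth

set_option autoImplicit false
universe u
open AdicRing

namespace Groth.Agent.S4339

/-- In an inverse system of sets with surjective transition maps, every element at level `n`
extends to a compatible family. -/
theorem exists_compat : ∀ (n : ℕ) (B : ℕ → Type u) (u : ∀ n, B (n + 1) → B n)
    (_ : ∀ n, Function.Surjective (u n)) (b : B n),
    ∃ y : ∀ k, B k, (∀ k, u k (y (k + 1)) = y k) ∧ y n = b := by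
  intro n
  induction n with
  | zero =>
    intro B u hu b
    refine ⟨fun k => Nat.rec (motive := fun k => B k) b (fun k yk => (hu k yk).choose) k,
      fun k => ?_, rfl⟩
    exact (hu k _).choose_spec
  | succ n ih =>
    intro B u hu b
    obtain ⟨y', hy', hb⟩ := ih (fun k => B (k + 1)) (fun k => u (k + 1)) (fun k => hu (k + 1)) b
    refine ⟨fun k => match k with
      | 0 => u 0 (y' 0)
      | k + 1 => y' k, fun k => ?_, hb⟩
    cases k with
    | zero => rfl
    | succ k => exact hy' k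

section

variable {B : ℕ → Type u} [∀ n, CommRing (B n)]
    (u : ∀ n, B (n + 1) →+* B n) (hu : ∀ n, Function.Surjective (u n))
    (v : ∀ n, B n →+* B 0) (hv0 : v 0 = RingHom.id (B 0)) (hv : ∀ n, (v n).comp (u n) = v (n + 1))
    (hker : ∀ n, RingHom.ker (u n) = RingHom.ker (v (n + 1)) ^ (n + 1))
    {A : Type u} [CommRing A] (p : ∀ n, A →+* B n)
    (hp : ∀ n, (u n).comp (p (n + 1)) = p n)
    (hinj : ∀ x : A, (∀ n, p n x = 0) → x = 0)
    (hlift : ∀ y : (∀ n, B n), (∀ n, u n (y (n + 1)) = y n) → ∃ x : A, ∀ n, p n x = y n)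

include hu hlift in
theorem p_surjective (n : ℕ) : Function.Surjective (p n) := by
  intro b
  obtain ⟨y, hy, hb⟩ := exists_compat n B (fun n => u n) hu b
  obtain ⟨x, hx⟩ := hlift y hy
  exact ⟨x, (hx n).trans hb⟩

include hv0 hv hp in
theorem v_comp_p (n : ℕ) : (v n).comp (p n) = p 0 := by
  induction n with
  | zero => rw [hv0]; rfl
  | succ n ih => rw [← hv n, RingHom.comp_assoc, hp n, ih]

include hu hv in
theorem map_u_ker_v (n : ℕ) : Ideal.map (u n) (RingHom.ker (v (n + 1))) = RingHom.ker (v n) := by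
  have : RingHom.ker (v (n + 1)) = Ideal.comap (u n) (RingHom.ker (v n)) := by
    rw [← hv n]; rfl
  rw [this, Ideal.map_comap_of_surjective _ (hu n)]

include hu hv hker in
theorem ker_v_pow (n : ℕ) : RingHom.ker (v n) ^ (n + 1) = ⊥ := by
  rw [← map_u_ker_v u hu v hv n, ← Ideal.map_pow, ← hker n]
  exact (Ideal.map_eq_bot_iff_le_ker _).mpr le_rfl

include hu hv0 hv hp hlift in
theorem map_p_ker (n : ℕ) : Ideal.map (p n) (RingHom.ker (p 0)) = RingHom.ker (v n) := by
  have : RingHom.ker (p 0) = Ideal.comap (p n) (RingHom.ker (v n)) := by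
    rw [← v_comp_p u v hv0 hv p hp n]; rfl
  rw [this, Ideal.map_comap_of_surjective _ (p_surjective u hu p hlift n)]

include hu hv0 hv hker hp hlift in
theorem ker_p_zero_pow_le (n : ℕ) : RingHom.ker (p 0) ^ (n + 1) ≤ RingHom.ker (p n) := by
  have h : Ideal.map (p n) (RingHom.ker (p 0) ^ (n + 1)) = ⊥ := by
    rw [Ideal.map_pow, map_p_ker u hu v hv0 hv p hp hlift n, ker_v_pow u hu v hv hker n]
  exact (Ideal.map_eq_bot_iff_le_ker _).mp h

include hp in
theorem ker_p_succ_le (n : ℕ) : RingHom.ker (p (n + 1)) ≤ RingHom.ker (p n) := by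
  intro z hz
  rw [RingHom.mem_ker] at hz ⊢
  rw [← hp n, RingHom.comp_apply, hz, map_zero]

include hp in
theorem ker_p_antitone : Antitone (fun n => RingHom.ker (p n)) :=
  antitone_nat_of_succ_le (ker_p_succ_le u p hp)

include hu hv0 hv hker hp hlift in
/-- (F7) -/
theorem ker_p_le_sup (n : ℕ) :
    RingHom.ker (p n) ≤ RingHom.ker (p 0) ^ (n + 1) ⊔ RingHom.ker (p (n + 1)) := by
  intro z hz
  have h1 : p (n + 1) z ∈ RingHom.ker (u n) := by
    rw [RingHom.mem_ker, ← RingHom.comp_apply, hp n]; exact hz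
  rw [hker n, ← map_p_ker u hu v hv0 hv p hp hlift (n + 1), ← Ideal.map_pow] at h1
  obtain ⟨w, hw, hwz⟩ := (Ideal.mem_map_iff_of_surjective _
    (p_surjective u hu p hlift (n + 1))).mp h1
  rw [Submodule.mem_sup]
  refine ⟨w, hw, z - w, ?_, by ring⟩
  rw [RingHom.mem_ker, map_sub, hwz, sub_self]

include hu hv0 hv hker hp hlift in
/-- (F9) -/
theorem ker_p_le_sup_of_le (n m : ℕ) (hnm : n ≤ m) :
    RingHom.ker (p n) ≤ RingHom.ker (p 0) ^ (n + 1) ⊔ RingHom.ker (p m) := by
  induction m, hnm using Nat.le_induction with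
  | base => exact le_sup_right
  | succ m hnm ih =>
    refine ih.trans (sup_le le_sup_left ?_)
    refine (ker_p_le_sup u hu v hv0 hv hker p hp hlift m).trans (sup_le ?_ le_sup_right)
    exact le_sup_of_le_left (Ideal.pow_le_pow_right (by omega))

include hu hv0 hv hker hp hlift in
/-- (F8) -/
theorem ker_p_mul_le (i j : ℕ) :
    RingHom.ker (p i) * RingHom.ker (p j) ≤ RingHom.ker (p (i + j + 1)) := by
  rw [Ideal.mul_le]
  intro z hz w hw
  have hz' := ker_p_le_sup_of_le u hu v hv0 hv hker p hp hlift i (i + j + 1) (by omega) hz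
  have hw' := ker_p_le_sup_of_le u hu v hv0 hv hker p hp hlift j (i + j + 1) (by omega) hw
  obtain ⟨z1, hz1, z2, hz2, rfl⟩ := Submodule.mem_sup.mp hz'
  obtain ⟨w1, hw1, w2, hw2, rfl⟩ := Submodule.mem_sup.mp hw'
  have h11 : z1 * w1 ∈ RingHom.ker (p (i + j + 1)) := by
    apply ker_p_zero_pow_le u hu v hv0 hv hker p hp hlift (i + j + 1)
    have : i + j + 1 + 1 = (i + 1) + (j + 1) := by ring
    rw [this, pow_add]
    exact Ideal.mul_mem_mul hz1 hw1
  have : (z1 + z2) * (w1 + w2) = z1 * w1 + (z2 * (w1 + w2) + z1 * w2) := by ring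
  rw [this]
  exact add_mem h11 (add_mem (Ideal.mul_mem_right _ _ hz2) (Ideal.mul_mem_left _ _ hw2))

include hu hv0 hv hp hlift in
theorem exists_fg_ideal (hfg : (RingHom.ker (v 1)).FG) :
    ∃ 𝔞 : Ideal A, 𝔞.FG ∧ 𝔞 ≤ RingHom.ker (p 0) ∧
      RingHom.ker (p 0) ≤ 𝔞 ⊔ RingHom.ker (p 1) := by
  classical
  obtain ⟨s, hs⟩ := hfg
  have hsurj := p_surjective u hu p hlift 1
  let σ := Function.surjInv hsurj
  have hσ : ∀ b, p 1 (σ b) = b := Function.surjInv_eq hsurj
  refine ⟨Ideal.span ((s.image σ : Finset A) : Set A), ⟨s.image σ, rfl⟩, ?_, ?_⟩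
  · rw [Ideal.span_le]
    intro a ha
    obtain ⟨b, hb, rfl⟩ := Finset.mem_image.mp (Finset.mem_coe.mp ha)
    rw [SetLike.mem_coe, RingHom.mem_ker, ← v_comp_p u v hv0 hv p hp 1, RingHom.comp_apply, hσ]
    have : b ∈ RingHom.ker (v 1) := hs ▸ Ideal.subset_span hb
    exact this
  · intro z hz
    have h1 : p 1 z ∈ RingHom.ker (v 1) := by
      rw [RingHom.mem_ker, ← RingHom.comp_apply, v_comp_p u v hv0 hv p hp 1]; exact hz
    have hmap : Ideal.map (p 1) (Ideal.span ((s.image σ : Finset A) : Set A)) =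
        RingHom.ker (v 1) := by
      rw [Ideal.map_span, ← hs]
      congr 1
      ext b
      simp only [Finset.coe_image, Set.mem_image, Finset.mem_coe, exists_exists_and_eq_and, hσ,
        exists_eq_right]
    rw [← hmap] at h1
    obtain ⟨w, hw, hwz⟩ := (Ideal.mem_map_iff_of_surjective _ hsurj).mp h1
    exact Submodule.mem_sup.mpr
      ⟨w, hw, z - w, by rw [RingHom.mem_ker, map_sub, hwz, sub_self], by ring⟩

include hu hv0 hv hker hp hlift in
theorem ker_p_zero_pow_le_sup (𝔞 : Ideal A) (h1 : 𝔞 ≤ RingHom.ker (p 0))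
    (h2 : RingHom.ker (p 0) ≤ 𝔞 ⊔ RingHom.ker (p 1)) (n : ℕ) :
    RingHom.ker (p 0) ^ (n + 1) ≤ 𝔞 ^ (n + 1) ⊔ RingHom.ker (p (n + 1)) := by
  induction n with
  | zero => simpa using h2
  | succ n ih =>
    have hpow : 𝔞 ^ (n + 1) ≤ RingHom.ker (p n) :=
      (Ideal.pow_right_mono h1 _).trans (ker_p_zero_pow_le u hu v hv0 hv hker p hp hlift n)
    rw [pow_succ (RingHom.ker (p 0)) (n + 1)]
    refine (Ideal.mul_mono ih h2).trans ?_
    rw [Ideal.sup_mul, Ideal.mul_sup, Ideal.mul_sup]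
    refine sup_le (sup_le ?_ ?_) (sup_le ?_ ?_)
    · rw [← pow_succ]; exact le_sup_left
    · exact le_sup_of_le_right ((Ideal.mul_mono_left hpow).trans
        (ker_p_mul_le u hu v hv0 hv hker p hp hlift n 1))
    · exact le_sup_of_le_right ((Ideal.mul_mono_right h1).trans
        (ker_p_mul_le u hu v hv0 hv hker p hp hlift (n + 1) 0))
    · exact le_sup_of_le_right ((ker_p_mul_le u hu v hv0 hv hker p hp hlift (n + 1) 1).trans
        (ker_p_antitone u p hp (by omega)))

include hu hv0 hv hker hp hlift in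
/-- (F10) -/
theorem ker_p_le_pow_sup (𝔞 : Ideal A) (h1 : 𝔞 ≤ RingHom.ker (p 0))
    (h2 : RingHom.ker (p 0) ≤ 𝔞 ⊔ RingHom.ker (p 1)) (n : ℕ) :
    RingHom.ker (p n) ≤ 𝔞 ^ (n + 1) ⊔ RingHom.ker (p (n + 1)) :=
  (ker_p_le_sup u hu v hv0 hv hker p hp hlift n).trans
    (sup_le (ker_p_zero_pow_le_sup u hu v hv0 hv hker p hp hlift 𝔞 h1 h2 n) le_sup_right)

include hu hv0 hv hker hp hinj hlift in
/-- Successive approximation: `ker (p n) ≤ 𝔞 ^ (n + 1)`. -/
theorem ker_p_le_pow (𝔞 : Ideal A) (hfg : 𝔞.FG) (h1 : 𝔞 ≤ RingHom.ker (p 0))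
    (h2 : RingHom.ker (p 0) ≤ 𝔞 ⊔ RingHom.ker (p 1)) (n : ℕ) :
    RingHom.ker (p n) ≤ 𝔞 ^ (n + 1) := by
  classical
  intro z hz
  -- one approximation step
  have hstep : ∀ (k : ℕ) (z' : A), z' ∈ RingHom.ker (p (n + k)) →
      ∃ a z'', a ∈ 𝔞 ^ (n + k + 1) ∧ z'' ∈ RingHom.ker (p (n + k + 1)) ∧ z' = a + z'' := by
    intro k z' hz'
    obtain ⟨a, ha, z'', hz'', e⟩ := Submodule.mem_sup.mp
      (ker_p_le_pow_sup u hu v hv0 hv hker p hp hlift 𝔞 h1 h2 (n + k) hz')
    exact ⟨a, z'', ha, hz'', e.symm⟩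
  choose! fa fz hfa hfz hfeq using hstep
  let Z : ℕ → A := fun k => Nat.rec z (fun k zk => fz k zk) k
  have hZ : ∀ k, Z k ∈ RingHom.ker (p (n + k)) := by
    intro k
    induction k with
    | zero => exact hz
    | succ k ih => exact hfz k (Z k) ih
  let a : ℕ → A := fun k => fa k (Z k)
  have ha : ∀ k, a k ∈ 𝔞 ^ (n + k + 1) := fun k => hfa k (Z k) (hZ k)
  have hZa : ∀ k, Z k = a k + Z (k + 1) := fun k => hfeq k (Z k) (hZ k)
  have htel : ∀ m, z = ∑ k ∈ Finset.range m, a k + Z m := by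
    intro m
    induction m with
    | zero => simp [Z]
    | succ m ih => rw [Finset.sum_range_succ, add_assoc, ← hZa m]; exact ih
  -- coefficients
  obtain ⟨S, hS⟩ := hfg.pow (n := n + 1)
  have hcoef : ∀ k, ∃ c : A → A, (∀ s, c s ∈ 𝔞 ^ k) ∧ a k = ∑ s ∈ S, s * c s := by
    intro k
    apply Groth.Agent.Lib.Helper22.exists_coeff_of_mem_span_finset_mul
    rw [hS, ← pow_add]
    have : n + 1 + k = n + k + 1 := by ring
    rw [this]; exact ha k
  choose c hc hac using hcoef
  have hck : ∀ k s, c (k + 1) s ∈ RingHom.ker (p k) := fun k s =>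
    ker_p_zero_pow_le u hu v hv0 hv hker p hp hlift k (Ideal.pow_right_mono h1 _ (hc (k + 1) s))
  -- limits of the coefficient series
  have hC : ∀ s : A, ∃ C : A, ∀ m, p m C = p m (∑ k ∈ Finset.range (m + 1), c k s) := by
    intro s
    apply hlift (fun m => p m (∑ k ∈ Finset.range (m + 1), c k s))
    intro m
    rw [← RingHom.comp_apply, hp m, Finset.sum_range_succ _ (m + 1), map_add,
      (RingHom.mem_ker).mp (hck m s), add_zero]
  choose C hC using hC
  have hzC : z = ∑ s ∈ S, s * C s := by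
    rw [← sub_eq_zero]
    apply hinj
    intro m
    have hZm : p m (Z (m + 1)) = 0 :=
      (RingHom.mem_ker).mp (ker_p_antitone u p hp (by omega : m ≤ n + (m + 1)) (hZ (m + 1)))
    rw [map_sub, sub_eq_zero]
    conv_lhs => rw [htel (m + 1)]
    rw [map_add, hZm, add_zero, map_sum, map_sum]
    simp_rw [hac, map_sum, map_mul, hC]
    rw [Finset.sum_comm]
    refine Finset.sum_congr rfl fun s _ => ?_
    rw [map_sum, Finset.mul_sum]
  rw [hzC, ← hS]
  exact Ideal.sum_mem _ fun s hs => Ideal.mul_mem_right _ _ (Ideal.subset_span hs)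

include hu hv0 hv hker hp hinj hlift in
theorem ker_p_eq_pow (hfg : (RingHom.ker (v 1)).FG) (n : ℕ) :
    RingHom.ker (p n) = RingHom.ker (p 0) ^ (n + 1) := by
  obtain ⟨𝔞, h𝔞, h1, h2⟩ := exists_fg_ideal u hu v hv0 hv p hp hlift hfg
  apply le_antisymm
  · exact (ker_p_le_pow u hu v hv0 hv hker p hp hinj hlift 𝔞 h𝔞 h1 h2 n).trans
      (Ideal.pow_right_mono h1 _)
  · exact ker_p_zero_pow_le u hu v hv0 hv hker p hp hlift n

include hu hv0 hv hker hp hinj hlift in
theorem isAdicComplete_ker (hfg : (RingHom.ker (v 1)).FG) :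
    IsAdicComplete (RingHom.ker (p 0)) A := by
  have hK := ker_p_eq_pow u hu v hv0 hv hker p hp hinj hlift hfg
  have e : ∀ n : ℕ, (RingHom.ker (p 0) ^ n • ⊤ : Submodule A A) = RingHom.ker (p 0) ^ n :=
    fun n => by rw [smul_eq_mul]; exact Ideal.mul_top _
  have haus : IsHausdorff (RingHom.ker (p 0)) A := ⟨fun x hx => by
    apply hinj
    intro n
    have := hx (n + 1)
    rw [SModEq.zero, e, ← hK n] at this
    exact this⟩
  have prec : IsPrecomplete (RingHom.ker (p 0)) A := ⟨fun f hf => by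
    obtain ⟨L, hL⟩ := hlift (fun n => p n (f (n + 1))) (fun n => by
      rw [← RingHom.comp_apply, hp n, ← sub_eq_zero, ← map_sub, ← RingHom.mem_ker, hK n]
      have := (hf (Nat.le_succ (n + 1))).symm
      rwa [SModEq.sub_mem, e] at this)
    refine ⟨L, fun n => ?_⟩
    rw [SModEq.sub_mem, e]
    cases n with
    | zero => simp
    | succ m =>
      rw [← hK m, RingHom.mem_ker, map_sub, hL m, sub_self]⟩
  exact { haus with prec' := prec.prec' }

end

/-- A ring with a finitely generated nilpotent ideal `I` with `R ⧸ I` Noetherian is Noetherian;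
stated for a surjection with nilpotent f.g. kernel. -/
theorem isNoetherianRing_of_surjective_of_nilpotent_ker {R S : Type*} [CommRing R] [CommRing S]
    [IsNoetherianRing S] (f : R →+* S) (hf : Function.Surjective f) (hfg : (RingHom.ker f).FG)
    (n : ℕ) (hn : RingHom.ker f ^ n = ⊥) : IsNoetherianRing R := by
  apply IsNoetherianRing.of_prime
  intro P hP
  have hle : RingHom.ker f ≤ P := Ideal.IsPrime.le_of_pow_le (n := n) (hn ▸ bot_le)
  refine Ideal.fg_of_fg_map_of_fg_inf_ker_of_surjective (f := f)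
    (IsNoetherian.noetherian _) ?_ hf
  rw [inf_eq_right.mpr hle]
  exact hfg



/-- Let (B_n) be an inverse system of rings with surjective transition maps B_{n+1} → B_n whose kernels
are the (n+1)-st powers of the kernels of the maps B_{n+1} → B_0, the kernel of B_1 → B_0 being
finitely generated, and let A be its inverse limit. Then A is Noetherian if and only if B_0 is
Noetherian. -/
theorem result
    (B : ℕ → Type u) [∀ n, CommRing (B n)]
    (u : ∀ n, B (n + 1) →+* B n) (hu : ∀ n, Function.Surjective (u n))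
    (v : ∀ n, B n →+* B 0) (hv0 : v 0 = RingHom.id (B 0)) (hv : ∀ n, (v n).comp (u n) = v (n + 1))
    (hker : ∀ n, RingHom.ker (u n) = RingHom.ker (v (n + 1)) ^ (n + 1))
    (hfg : (RingHom.ker (v 1)).FG)
    (A : Type u) [CommRing A] (p : ∀ n, A →+* B n)
    (hp : ∀ n, (u n).comp (p (n + 1)) = p n)
    (hinj : ∀ x : A, (∀ n, p n x = 0) → x = 0)
    (hlift : ∀ y : (∀ n, B n), (∀ n, u n (y (n + 1)) = y n) → ∃ x : A, ∀ n, p n x = y n) :
    IsNoetherianRing A ↔ IsNoetherianRing (B 0) := by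
  constructor
  · intro h
    exact isNoetherianRing_of_surjective A (B 0) (p 0) (p_surjective u hu p hlift 0)
  · intro h0
    obtain ⟨𝔞, h𝔞, h1, h2⟩ := exists_fg_ideal u hu v hv0 hv p hp hlift hfg
    have hK0 : RingHom.ker (p 0) = 𝔞 :=
      le_antisymm (by simpa using ker_p_le_pow u hu v hv0 hv hker p hp hinj hlift 𝔞 h𝔞 h1 h2 0) h1
    have hfgK : (RingHom.ker (p 0)).FG := hK0 ▸ h𝔞
    have hc := isAdicComplete_ker u hu v hv0 hv hker p hp hinj hlift hfg
    have hq : IsNoetherianRing (A ⧸ RingHom.ker (p 0)) :=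
      isNoetherianRing_of_ringEquiv (B 0)
        (RingHom.quotientKerEquivOfSurjective (p_surjective u hu p hlift 0)).symm
    exact Groth.Agent.Lib.Helper83.isNoetherianRing_of_isAdicComplete (RingHom.ker (p 0)) hfgK

end Groth.Agent.S4339
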