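import Groth.Statements.S13347
import Groth.Agent.S4339
import Groth.Agent.Lib.Helper20.ThickLift2
-- import your own Groth.Agent.* helpers here

set_option autoImplicit false
open CategoryTheory CategoryTheory.Limits
universe u
open Opposite
open FCompl

namespace Groth.Agent.S13347


section Aux

open AlgebraicGeometry Groth.Agent.Lib.Helper20

/-- An open of a locally nilpotent thickening of `X` is affine as soon as its preimage is. -/
theorem isAffineOpen_of_preimage_of_isNilpotent {X X' : Scheme.{u}} (t : X ⟶ X')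
    [IsClosedImmersion t] (ht : Function.Surjective t) (U' : X'.Opens)
    (hnil : ∀ V : X'.affineOpens, IsNilpotent (t.ker.ideal V))
    (h : IsAffineOpen (t ⁻¹ᵁ U')) : IsAffineOpen U' := by
  have : IsAffine (t ⁻¹ᵁ U').toScheme := h
  have hsurj : Function.Surjective (t ∣_ U') := by
    rintro ⟨y, hy⟩
    obtain ⟨x, rfl⟩ := ht y
    exact ⟨⟨x, hy⟩, Subtype.ext (morphismRestrict_base_coe t U' ⟨x, hy⟩)⟩
  exact ThickAffine.isAffine_of_isNilpotent (t ∣_ U') hsurj (fun V => by
    rw [Scheme.ker_morphismRestrict_ideal]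
    exact hnil _)

variable (𝔛 : FSch.Sys.{u}) (h : 𝔛.IsFormal)

theorem toX_preimage_lvU (n : ℕ) (U : (𝔛.X 0).Opens) : (𝔛.toX n) ⁻¹ᵁ (𝔛.lvU h n U) = U := by
  change (TopologicalSpace.Opens.map ((𝔛.toX n).base ≫ 𝔛.gInv h n)).obj U = _
  rw [FSch.Sys.toX_base_gInv]
  rfl

end Aux

open AlgebraicGeometry in
/-- Let (X_i) be an inductive system of preschemes on one underlying space with surjective transition
homomorphisms whose kernels O_{X_i} → O_{X_0} are locally nilpotent — here a system of thickenings
(closed immersions surjective on points) with the kernel ideal of X_0 → X_i nilpotent on every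
affine open of X_i — and O_𝔛 = lim O_{X_i} the structure sheaf of the formal prescheme it defines.
Then the canonical homomorphisms O_𝔛 → O_{X_i} are surjective: over every affine open U of X_0 the
map on sections Γ(U, O_𝔛) → Γ(U_i, O_{X_i}) is onto. -/
theorem result (𝔛 : FSch.Sys.{u}) (h : 𝔛.IsFormal)
    (hb : ∀ (i : ℕ) (V : (𝔛.X i).affineOpens), IsNilpotent ((𝔛.toX i).ker.ideal V))
    (i : ℕ) (U : (𝔛.X 0).Opens) (hU : IsAffineOpen U) :
    Function.Surjective ((𝔛.OshProj h i).hom.app (op U)) := by
  classical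
  have hci : ∀ n, IsClosedImmersion (𝔛.ι n) := fun n => (h n).1
  have hciX : ∀ n, IsClosedImmersion (𝔛.toX n) := fun n =>
    Groth.Agent.Lib.Helper20.isClosedImmersion_toX h n
  have haff : ∀ n, IsAffineOpen (𝔛.lvU h n U) := fun n =>
    isAffineOpen_of_preimage_of_isNilpotent (𝔛.toX n)
      (Groth.Agent.Lib.Helper20.ThickLift.surjective_toX 𝔛 h n) _ (hb n)
      (by rw [toX_preimage_lvU]; exact hU)
  let F := 𝔛.levelRing h
  let E : Sheaf (Opens.grothendieckTopology (𝔛.X 0)) CommRingCat.{u} ⥤ Type u :=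
    sheafToPresheaf _ _ ⋙ (evaluation _ _).obj (op U) ⋙ forget CommRingCat
  have hlim : IsLimit (E.mapCone (limit.cone F)) := isLimitOfPreserves E (limit.isLimit F)
  -- transition maps
  let B : ℕ → Type u := fun n => Γ(𝔛.X n, 𝔛.lvU h n U)
  let uu : ∀ n, B (n + 1) → B n := fun n => ((𝔛.levelMap h n).hom.app (op U)).hom
  have hu : ∀ n, Function.Surjective (uu n) := by
    intro n
    change Function.Surjective ((𝔛.ι n).appLE (𝔛.lvU h (n + 1) U) (𝔛.lvU h n U) (𝔛.lvU_le h n U)).hom
    rw [Scheme.Hom.appLE, CommRingCat.hom_comp]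
    exact (Groth.Agent.Lib.Helper20.ThickLift.presheaf_map_bijective_of_eq
      (𝔛.lvU_succ h n U).symm _).2.comp ((𝔛.ι n).app_surjective _ (haff (n + 1)))
  -- compatibility of the functor with the sequence
  have hmap : ∀ (n m : ℕ) (hnm : n ≤ m) (y : ∀ k, B k), (∀ k, uu k (y (k + 1)) = y k) →
      (F ⋙ E).map (homOfLE hnm).op (y m) = y n := by
    intro n m hnm y hy
    induction m, hnm using Nat.le_induction with
    | base =>
      have : (homOfLE (le_refl n)).op = 𝟙 (op n) := Subsingleton.elim _ _
      rw [this, (F ⋙ E).map_id]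
      rfl
    | succ m hnm ih =>
      have : (homOfLE (hnm.trans (Nat.le_succ m))).op =
          (homOfLE (Nat.le_add_right m 1)).op ≫ (homOfLE hnm).op := Subsingleton.elim _ _
      rw [this, (F ⋙ E).map_comp]
      change (F ⋙ E).map (homOfLE hnm).op ((F ⋙ E).map (homOfLE (Nat.le_add_right m 1)).op (y (m + 1))) = _
      have h2 : (F ⋙ E).map (homOfLE (Nat.le_add_right m 1)).op (y (m + 1)) = y m := by
        change E.map (F.map (homOfLE (Nat.le_add_right m 1)).op) (y (m + 1)) = _
        rw [𝔛.levelRing_map_succ h m]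
        exact hy m
      rw [h2]
      exact ih
  intro t
  obtain ⟨y, hy, hyi⟩ := Groth.Agent.S4339.exists_compat i B uu hu t
  let s : (F ⋙ E).sections := ⟨fun j => y j.unop, by
    intro j j' f
    obtain ⟨m⟩ := j
    obtain ⟨n⟩ := j'
    have hnm : n ≤ m := leOfHom f.unop
    have : f = (homOfLE hnm).op := Subsingleton.elim _ _
    rw [this]
    exact hmap n m hnm y hy⟩
  refine ⟨(Types.isLimitEquivSections hlim).symm s, ?_⟩
  have h3 := Types.isLimitEquivSections_symm_apply hlim s (op i)
  exact h3.trans hyi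

end Groth.Agent.S13347
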