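import Groth.Statements.S13355
import Groth.Agent.Lib.Helper67.ExpP

set_option autoImplicit false
universe u
open GaDual

namespace Groth.Agent.S13355

theorem algebraMap_inv_factorial_mul (A : Type u) [CommRing A] [Algebra ℚ A] (n : ℕ) :
    algebraMap ℚ A (1 / (n.factorial : ℚ)) * ((n.factorial : ℕ) : A) = 1 := by
  rw [← map_natCast (algebraMap ℚ A), ← map_mul, one_div,
    inv_mul_cancel₀ (Nat.cast_ne_zero.2 (Nat.factorial_ne_zero n)), map_one]

theorem choose_mul_inv_factorial (A : Type u) [CommRing A] [Algebra ℚ A] (i j : ℕ) :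
    ((i + j).choose i : A) * algebraMap ℚ A (1 / ((i + j).factorial : ℚ)) =
      algebraMap ℚ A (1 / (i.factorial : ℚ)) * algebraMap ℚ A (1 / (j.factorial : ℚ)) := by
  rw [← map_natCast (algebraMap ℚ A), ← map_mul, ← map_mul]
  congr 1
  have h := Nat.add_choose_mul_factorial_mul_factorial i j
  rw [← Nat.choose_symm_add] at h
  have h' : (((i + j).choose i : ℕ) : ℚ) * (i.factorial : ℚ) * (j.factorial : ℚ) =
      ((i + j).factorial : ℚ) := by exact_mod_cast h
  have hi : (i.factorial : ℚ) ≠ 0 := Nat.cast_ne_zero.2 (Nat.factorial_ne_zero i)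
  have hj : (j.factorial : ℚ) ≠ 0 := Nat.cast_ne_zero.2 (Nat.factorial_ne_zero j)
  have hij : ((i + j).factorial : ℚ) ≠ 0 := Nat.cast_ne_zero.2 (Nat.factorial_ne_zero _)
  have hc : (((i + j).choose i : ℕ) : ℚ) ≠ 0 :=
    Nat.cast_ne_zero.2 (Nat.choose_pos (Nat.le_add_right i j)).ne'
  rw [← h']
  field_simp

/-- `rescale a exp` is a formal character. -/
theorem rescale_exp_char (A : Type u) [CommRing A] [Algebra ℚ A] (a : A) :
    PowerSeries.constantCoeff (PowerSeries.rescale a (PowerSeries.exp A)) = 1 ∧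
      PowerSeries.subst (MvPowerSeries.X 0 + MvPowerSeries.X 1 : MvPowerSeries (Fin 2) A)
          (PowerSeries.rescale a (PowerSeries.exp A)) =
        PowerSeries.subst (MvPowerSeries.X 0 : MvPowerSeries (Fin 2) A)
            (PowerSeries.rescale a (PowerSeries.exp A)) *
          PowerSeries.subst (MvPowerSeries.X 1 : MvPowerSeries (Fin 2) A)
            (PowerSeries.rescale a (PowerSeries.exp A)) := by
  constructor
  · rw [← PowerSeries.coeff_zero_eq_constantCoeff_apply, PowerSeries.coeff_rescale,
      PowerSeries.coeff_exp]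
    simp
  · ext e
    rw [Groth.Agent.Lib.Helper67.ExpP.fin2_eq_single_add e,
      Groth.Agent.Lib.Helper67.ExpP.coeff_subst_add,
      Groth.Agent.Lib.Helper67.ExpP.coeff_subst_mul]
    simp only [PowerSeries.coeff_rescale, PowerSeries.coeff_exp]
    have := choose_mul_inv_factorial A (e 0) (e 1)
    calc ((e 0 + e 1).choose (e 0) : A) *
          (a ^ (e 0 + e 1) * algebraMap ℚ A (1 / ((e 0 + e 1).factorial : ℚ)))
        = a ^ (e 0 + e 1) * (((e 0 + e 1).choose (e 0) : A) *
            algebraMap ℚ A (1 / ((e 0 + e 1).factorial : ℚ))) := by ring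
      _ = _ := by rw [this, pow_add]; ring

/-- a formal character is `rescale (χ₁) exp`. -/
theorem char_eq_rescale_exp (A : Type u) [CommRing A] [Algebra ℚ A] (χ : PowerSeries A)
    (h0 : PowerSeries.constantCoeff χ = 1)
    (hmul : PowerSeries.subst (MvPowerSeries.X 0 + MvPowerSeries.X 1 : MvPowerSeries (Fin 2) A) χ =
        PowerSeries.subst (MvPowerSeries.X 0 : MvPowerSeries (Fin 2) A) χ *
          PowerSeries.subst (MvPowerSeries.X 1 : MvPowerSeries (Fin 2) A) χ) :
    (∀ n : ℕ, ((n.factorial : ℕ) : A) * PowerSeries.coeff n χ = PowerSeries.coeff 1 χ ^ n) ∧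
      χ = PowerSeries.rescale (PowerSeries.coeff 1 χ) (PowerSeries.exp A) := by
  have hc0 : PowerSeries.coeff 0 χ = 1 := by
    rw [PowerSeries.coeff_zero_eq_constantCoeff_apply]; exact h0
  have hrel : ∀ i j : ℕ, ((i + j).choose i : A) * PowerSeries.coeff (i + j) χ =
      PowerSeries.coeff i χ * PowerSeries.coeff j χ := by
    intro i j
    have := congrArg (MvPowerSeries.coeff (Finsupp.single (0 : Fin 2) i + Finsupp.single 1 j)) hmul
    rw [Groth.Agent.Lib.Helper67.ExpP.coeff_subst_add,
      Groth.Agent.Lib.Helper67.ExpP.coeff_subst_mul] at this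
    exact this
  have hfac : ∀ n : ℕ, ((n.factorial : ℕ) : A) * PowerSeries.coeff n χ =
      PowerSeries.coeff 1 χ ^ n := by
    intro n
    induction n with
    | zero => simp [hc0]
    | succ n ih =>
      have h1 := hrel 1 n
      rw [Nat.choose_one_right] at h1
      rw [Nat.factorial_succ, pow_succ, ← ih, add_comm n 1]
      push_cast at h1 ⊢
      linear_combination (n.factorial : A) * h1
  refine ⟨hfac, ?_⟩
  ext n
  rw [PowerSeries.coeff_rescale, PowerSeries.coeff_exp]
  have h1 := algebraMap_inv_factorial_mul A n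
  calc PowerSeries.coeff n χ
      = (algebraMap ℚ A (1 / (n.factorial : ℚ)) * ((n.factorial : ℕ) : A)) * PowerSeries.coeff n χ := by
        rw [h1, one_mul]
    _ = algebraMap ℚ A (1 / (n.factorial : ℚ)) * (((n.factorial : ℕ) : A) * PowerSeries.coeff n χ) := by
        ring
    _ = _ := by rw [hfac n]; ring

/-- Over a commutative algebra A over the rationals, the formal characters (power series with constant
term 1 satisfying χ(X+Y) = χ(X)χ(Y) in two variables) are exactly the power series exp(aX) for a in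
A. -/
theorem result (A : Type u) [CommRing A] [Algebra ℚ A] (χ : PowerSeries A) :
    (PowerSeries.constantCoeff χ = 1 ∧
      PowerSeries.subst (MvPowerSeries.X 0 + MvPowerSeries.X 1 : MvPowerSeries (Fin 2) A) χ =
        PowerSeries.subst (MvPowerSeries.X 0 : MvPowerSeries (Fin 2) A) χ *
          PowerSeries.subst (MvPowerSeries.X 1 : MvPowerSeries (Fin 2) A) χ) ↔
      ∃ a : A, χ = PowerSeries.rescale a (PowerSeries.exp A) := by
  constructor
  · rintro ⟨h0, hmul⟩
    exact ⟨_, (char_eq_rescale_exp A χ h0 hmul).2⟩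
  · rintro ⟨a, rfl⟩
    exact rescale_exp_char A a

end Groth.Agent.S13355
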