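import Groth.Statements.S13356
import Groth.Agent.S13355

set_option autoImplicit false
universe u
open GaDual

namespace Groth.Agent.S13356

theorem coe_aeval (A : Type u) [CommRing A] (x : MvPolynomial (Fin 2) A) (f : Polynomial A) :
    ((Polynomial.aeval x f : MvPolynomial (Fin 2) A) : MvPowerSeries (Fin 2) A) =
      Polynomial.aeval (x : MvPowerSeries (Fin 2) A) f := by
  induction f using Polynomial.induction_on' with
  | add f g hf hg => rw [map_add, map_add, MvPolynomial.coe_add, hf, hg]
  | monomial n a =>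
    rw [Polynomial.aeval_monomial, Polynomial.aeval_monomial, MvPolynomial.coe_mul,
      MvPolynomial.coe_pow]
    congr 1
    rw [MvPolynomial.algebraMap_eq, MvPolynomial.coe_C]
    rfl

theorem subst_identity_iff (A : Type u) [CommRing A] (f : Polynomial A) :
    (PowerSeries.subst (MvPowerSeries.X 0 + MvPowerSeries.X 1 : MvPowerSeries (Fin 2) A)
        (f : PowerSeries A) =
      PowerSeries.subst (MvPowerSeries.X 0 : MvPowerSeries (Fin 2) A) (f : PowerSeries A) *
        PowerSeries.subst (MvPowerSeries.X 1 : MvPowerSeries (Fin 2) A) (f : PowerSeries A)) ↔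
    (Polynomial.aeval (MvPolynomial.X 0 + MvPolynomial.X 1 : MvPolynomial (Fin 2) A) f =
        Polynomial.aeval (MvPolynomial.X 0 : MvPolynomial (Fin 2) A) f *
          Polynomial.aeval (MvPolynomial.X 1 : MvPolynomial (Fin 2) A) f) := by
  have hs : PowerSeries.HasSubst (MvPowerSeries.X 0 + MvPowerSeries.X 1 : MvPowerSeries (Fin 2) A) :=
    (PowerSeries.HasSubst.X 0).add (PowerSeries.HasSubst.X 1)
  rw [PowerSeries.subst_coe hs, PowerSeries.subst_coe (PowerSeries.HasSubst.X 0),
    PowerSeries.subst_coe (PowerSeries.HasSubst.X 1), ← MvPolynomial.coe_inj (R := A),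
    MvPolynomial.coe_mul, coe_aeval, coe_aeval, coe_aeval, MvPolynomial.coe_add,
    MvPolynomial.coe_X, MvPolynomial.coe_X]

/-- Over a commutative algebra A over the rationals, the polynomials f with f(0) = 1 and f(X+Y) =
f(X)f(Y) (the characters of the additive group into the multiplicative group over A) are exactly the
polynomials exp(aX) with a in A nilpotent. -/
theorem result (A : Type u) [CommRing A] [Algebra ℚ A] (f : Polynomial A) :
    (f.eval 0 = 1 ∧
      Polynomial.aeval (MvPolynomial.X 0 + MvPolynomial.X 1 : MvPolynomial (Fin 2) A) f =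
        Polynomial.aeval (MvPolynomial.X 0 : MvPolynomial (Fin 2) A) f *
          Polynomial.aeval (MvPolynomial.X 1 : MvPolynomial (Fin 2) A) f) ↔
      ∃ a : A, IsNilpotent a ∧ (f : PowerSeries A) = PowerSeries.rescale a (PowerSeries.exp A) := by
  constructor
  · rintro ⟨h0, hmul⟩
    have hχ0 : PowerSeries.constantCoeff (f : PowerSeries A) = 1 := by
      rw [← PowerSeries.coeff_zero_eq_constantCoeff_apply, Polynomial.coeff_coe,
        Polynomial.coeff_zero_eq_eval_zero]
      exact h0
    obtain ⟨hfac, hχ⟩ := Groth.Agent.S13355.char_eq_rescale_exp A (f : PowerSeries A) hχ0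
      ((subst_identity_iff A f).2 hmul)
    refine ⟨_, ⟨f.natDegree + 1, ?_⟩, hχ⟩
    rw [← hfac, Polynomial.coeff_coe,
      Polynomial.coeff_eq_zero_of_natDegree_lt (Nat.lt_succ_self _), mul_zero]
  · rintro ⟨a, _, hf⟩
    obtain ⟨h1, h2⟩ := Groth.Agent.S13355.rescale_exp_char A a
    rw [← hf] at h1 h2
    refine ⟨?_, (subst_identity_iff A f).1 h2⟩
    rw [← Polynomial.coeff_zero_eq_eval_zero, ← Polynomial.coeff_coe,
      PowerSeries.coeff_zero_eq_constantCoeff_apply]
    exact h1

end Groth.Agent.S13356
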