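import Groth.Statements.S13359
import Groth.Agent.Lib.Helper67.ProdLoc
import Groth.Agent.Lib.Helper67.IntClosedCrit
import Mathlib.RingTheory.Localization.Integer
-- import your own Groth.Agent.* helpers here

set_option autoImplicit false
universe u
open UltraProd
open Groth.Agent.Lib.Helper67

namespace Groth.Agent.S13359

/-- If (R_i) is a nonempty family of integrally closed domains, then the localization of the product
ring ∏ R_i at any prime ideal is an integrally closed domain. -/
theorem result {ι : Type u} [Nonempty ι] (R : ι → Type u)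
    [∀ i, CommRing (R i)] [∀ i, IsDomain (R i)] [∀ i, IsIntegrallyClosed (R i)]
    (P : Ideal (∀ i, R i)) [P.IsPrime] :
    IsDomain (Localization.AtPrime P) ∧ IsIntegrallyClosed (Localization.AtPrime P) := by
  classical
  have hdom : IsDomain (Localization.AtPrime P) := ProdLoc.isDomain_localization P
  refine ⟨hdom, ?_⟩
  apply IntClosedCrit.isIntegrallyClosed_of_dvd
  intro n c a b hb hE
  cases n with
  | zero => simp at hE
  | succ m =>
  -- common denominators
  obtain ⟨t, ht⟩ := IsLocalization.exist_integer_multiples_of_finite P.primeCompl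
    (Sum.elim c ![a, b])
  obtain ⟨x, hx⟩ := ht (Sum.inr 0)
  obtain ⟨y, hy⟩ := ht (Sum.inr 1)
  have hz : ∀ j : Fin (m + 1), ∃ z, algebraMap (∀ i, R i) (Localization.AtPrime P) z =
      ((t : ∀ i, R i)) • c j := fun j => ht (Sum.inl j)
  choose z hz using hz
  simp only [Sum.elim_inr, Matrix.cons_val_zero, Matrix.cons_val_one, Algebra.smul_def] at hx hy
  simp only [Algebra.smul_def] at hz
  set τ := algebraMap (∀ i, R i) (Localization.AtPrime P) (t : ∀ i, R i) with hτ
  have hτu : IsUnit τ := IsLocalization.map_units _ t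
  -- the main equation upstairs
  have hmain : algebraMap (∀ i, R i) (Localization.AtPrime P)
      ((t : ∀ i, R i) * x ^ (m + 1) +
        ∑ j : Fin (m + 1), z j * x ^ (j : ℕ) * y ^ (m + 1 - (j : ℕ))) = 0 := by
    have : algebraMap (∀ i, R i) (Localization.AtPrime P)
      ((t : ∀ i, R i) * x ^ (m + 1) +
        ∑ j : Fin (m + 1), z j * x ^ (j : ℕ) * y ^ (m + 1 - (j : ℕ))) =
        τ ^ (m + 2) * (a ^ (m + 1) + ∑ j : Fin (m + 1), c j * a ^ (j : ℕ) * b ^ (m + 1 - (j : ℕ))) := by
      simp only [map_add, map_mul, map_pow, map_sum, hx, hy, hz, mul_add, Finset.mul_sum]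
      congr 1
      · ring
      · apply Finset.sum_congr rfl
        intro j _
        have hj : m + 2 = 1 + (j : ℕ) + (m + 1 - (j : ℕ)) := by have := j.isLt; omega
        rw [hj, pow_add, pow_add, mul_pow, mul_pow]
        ring
    rw [this, hE, mul_zero]
  obtain ⟨u, hu, hu0⟩ := ProdLoc.exists_of_map_eq_zero P hmain
  -- componentwise divisibility
  have key : ∀ i, y i ≠ 0 → y i ∣ (u i * (t : ∀ i, R i) i) * x i := by
    intro i hyi
    apply IntClosedCrit.dvd_of_eqn (m + 1)
      (fun j => u i * z j i * (u i * (t : ∀ i, R i) i) ^ (m - (j : ℕ))) _ _ hyi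
    have hi := congrFun hu0 i
    simp only [Pi.mul_apply, Pi.add_apply, Pi.pow_apply, Finset.sum_apply, Pi.zero_apply] at hi
    have : (u i * (t : ∀ i, R i) i * x i) ^ (m + 1) +
        ∑ j : Fin (m + 1), u i * z j i * (u i * (t : ∀ i, R i) i) ^ (m - (j : ℕ)) *
          (u i * (t : ∀ i, R i) i * x i) ^ (j : ℕ) * y i ^ (m + 1 - (j : ℕ)) =
        (u i * (t : ∀ i, R i) i) ^ m * (u i * ((t : ∀ i, R i) i * x i ^ (m + 1) +
          ∑ j : Fin (m + 1), z j i * x i ^ (j : ℕ) * y i ^ (m + 1 - (j : ℕ)))) := by
      rw [mul_add, mul_add, Finset.mul_sum, Finset.mul_sum]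
      congr 1
      · ring
      · apply Finset.sum_congr rfl
        intro j _
        have hj : m = (m - (j : ℕ)) + (j : ℕ) := by have := j.isLt; omega
        have h' : (u i * (t : ∀ i, R i) i) ^ m =
            (u i * (t : ∀ i, R i) i) ^ (m - (j : ℕ)) * (u i * (t : ∀ i, R i) i) ^ (j : ℕ) := by
          rw [← pow_add, ← hj]
        rw [h']
        ring
    rw [this, hi, mul_zero]
  let J : Set ι := {i | y i ≠ 0}
  have hw : ∀ i, ∃ w : R i, i ∈ J → (u i * (t : ∀ i, R i) i) * x i = y i * w := by
    intro i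
    by_cases h : y i ≠ 0
    · obtain ⟨w, hw⟩ := key i h
      exact ⟨w, fun _ => hw⟩
    · exact ⟨0, fun h' => absurd h' h⟩
  choose w hw using hw
  have e1 : (1 - ProdLoc.idem R J) * y = 0 := by
    funext i
    by_cases h : i ∈ J
    · simp [ProdLoc.idem, h]
    · have : y i = 0 := by
        by_contra h'
        exact h h'
      simp [this]
  have e2 : ProdLoc.idem R J * (u * (t : ∀ i, R i) * x) = ProdLoc.idem R J * (y * w) := by
    funext i
    by_cases h : i ∈ J
    · simp [Pi.mul_apply, hw i h]
    · simp [ProdLoc.idem, h]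
  have hb' : τ * b ≠ 0 := mul_ne_zero hτu.ne_zero hb
  have h1 : algebraMap (∀ i, R i) (Localization.AtPrime P) (ProdLoc.idem R J) = 1 := by
    have e1' := congrArg (algebraMap (∀ i, R i) (Localization.AtPrime P)) e1
    rw [map_mul, hy, map_zero] at e1'
    rcases mul_eq_zero.mp e1' with h0 | h0
    · rw [map_sub, map_one, sub_eq_zero] at h0
      exact h0.symm
    · exact absurd h0 hb'
  have e2' := congrArg (algebraMap (∀ i, R i) (Localization.AtPrime P)) e2
  simp only [map_mul, h1, one_mul, hx, hy] at e2'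
  -- e2' : img u * τ * (τ * a) = τ * b * img w
  have hυ : IsUnit (algebraMap (∀ i, R i) (Localization.AtPrime P) u) :=
    IsLocalization.map_units _ (⟨u, hu⟩ : P.primeCompl)
  obtain ⟨υ', hυ'⟩ := hυ.exists_right_inv
  obtain ⟨τ', hτ'⟩ := hτu.exists_right_inv
  refine ⟨algebraMap (∀ i, R i) (Localization.AtPrime P) w * υ' * τ', ?_⟩
  have e3 : algebraMap (∀ i, R i) (Localization.AtPrime P) u * τ * a =
      b * algebraMap (∀ i, R i) (Localization.AtPrime P) w := by
    apply hτu.mul_left_cancel
    calc τ * (algebraMap (∀ i, R i) (Localization.AtPrime P) u * τ * a)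
        = algebraMap (∀ i, R i) (Localization.AtPrime P) u * τ * (τ * a) := by ring
      _ = τ * b * algebraMap (∀ i, R i) (Localization.AtPrime P) w := e2'
      _ = τ * (b * algebraMap (∀ i, R i) (Localization.AtPrime P) w) := by ring
  have e4 : (algebraMap (∀ i, R i) (Localization.AtPrime P) u * τ * a) * (υ' * τ') =
      (algebraMap (∀ i, R i) (Localization.AtPrime P) u * υ') * (τ * τ') * a := by ring
  calc a = (algebraMap (∀ i, R i) (Localization.AtPrime P) u * τ * a) * (υ' * τ') := by
          rw [e4, hυ', hτ', one_mul, one_mul]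
    _ = b * (algebraMap (∀ i, R i) (Localization.AtPrime P) w * υ' * τ') := by
          rw [e3]; ring

end Groth.Agent.S13359
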