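import Groth.Statements.S13360
import Groth.Agent.Lib.Helper67.ProdLoc
-- import your own Groth.Agent.* helpers here

set_option autoImplicit false
universe u
open UltraProd
open Groth.Agent.Lib.Helper67

namespace Groth.Agent.S13360

/-- If (R_i) is a nonempty family of valuation rings, then the localization of the product ring ∏ R_i at
any prime ideal is a valuation ring: a domain in which, of any two elements, one divides the other. -/
theorem result {ι : Type u} [Nonempty ι] (R : ι → Type u)
    [∀ i, CommRing (R i)] [∀ i, IsDomain (R i)] [∀ i, ValuationRing (R i)]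
    (P : Ideal (∀ i, R i)) [P.IsPrime] :
    IsDomain (Localization.AtPrime P) ∧ PreValuationRing (Localization.AtPrime P) := by
  classical
  refine ⟨ProdLoc.isDomain_localization P, ⟨fun a b => ?_⟩⟩
  obtain ⟨x, v, hv, hx⟩ := ProdLoc.exists_unit_mul P a
  obtain ⟨y, w, hw, hy⟩ := ProdLoc.exists_unit_mul P b
  obtain ⟨v', hv'⟩ := hv.exists_right_inv
  obtain ⟨w', hw'⟩ := hw.exists_right_inv
  -- J = set of indices where x i divides y i
  let J : Set ι := {i | x i ∣ y i}
  have hc : ∀ i, ∃ c : R i, (i ∈ J → x i * c = y i) ∧ (i ∉ J → y i * c = x i) := by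
    intro i
    by_cases h : i ∈ J
    · have h2 : x i ∣ y i := h
      obtain ⟨c, hc⟩ := h2
      exact ⟨c, fun _ => hc.symm, fun h' => absurd h h'⟩
    · obtain ⟨c, hc⟩ := PreValuationRing.cond (x i) (y i)
      rcases hc with hc | hc
      · exact absurd (⟨c, hc.symm⟩ : x i ∣ y i) h
      · exact ⟨c, fun h' => absurd h' h, fun _ => hc⟩
  choose c hc1 hc2 using hc
  have e1 : ProdLoc.idem R J * (x * c) = ProdLoc.idem R J * y := by
    funext i
    by_cases h : i ∈ J
    · simp [Pi.mul_apply, hc1 i h]
    · simp [ProdLoc.idem, h]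
  have e2 : (1 - ProdLoc.idem R J) * (y * c) = (1 - ProdLoc.idem R J) * x := by
    funext i
    by_cases h : i ∈ J
    · simp [ProdLoc.idem, h]
    · simp [Pi.mul_apply, hc2 i h]
  rcases ProdLoc.idem_mem_or P J with hJ | hJ
  · -- e ∈ P: 1 - e maps to 1
    have h0 := ProdLoc.map_idem_eq_zero_of_mem P hJ
    have e2' := congrArg (algebraMap (∀ i, R i) (Localization.AtPrime P)) e2
    simp only [map_mul, map_sub, map_one, h0, sub_zero, one_mul] at e2'
    -- y * c = x in the localization
    refine ⟨w * algebraMap _ _ c * v', Or.inr ?_⟩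
    calc b * (w * algebraMap _ _ c * v') = (b * w) * algebraMap _ _ c * v' := by ring
      _ = a * (v * v') := by rw [hy, e2', ← hx]; ring
      _ = a := by rw [hv', mul_one]
  · have h1 := ProdLoc.map_idem_eq_one_of_compl_mem P hJ
    have e1' := congrArg (algebraMap (∀ i, R i) (Localization.AtPrime P)) e1
    simp only [map_mul, h1, one_mul] at e1'
    refine ⟨v * algebraMap _ _ c * w', Or.inl ?_⟩
    calc a * (v * algebraMap _ _ c * w') = (a * v) * algebraMap _ _ c * w' := by ring
      _ = b * (w * w') := by rw [hx, e1', ← hy]; ring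
      _ = b := by rw [hw', mul_one]

end Groth.Agent.S13360
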