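import Groth.Statements.S13361
import Mathlib.Tactic.Linarith
import Mathlib.GroupTheory.QuotientGroup.Finite
import Mathlib.GroupTheory.OrderOfElement
import Mathlib.GroupTheory.QuotientGroup.Basic
import Mathlib.Data.ZMod.QuotientGroup
import Mathlib.GroupTheory.SpecificGroups.Cyclic
import Mathlib.GroupTheory.Perm.Cycle.Type
import Mathlib.GroupTheory.Exponent
-- import your own Groth.Agent.* helpers here

set_option autoImplicit false
universe u
open ProCompl

namespace Groth.Agent.S13361

/-- A finite abelian group with a nonzero element contained in every nonzero subgroup is isomorphic to a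
cyclic group of prime-power order Z/p^n. -/
theorem cyc (N : ℕ) : ∀ (A : Type u) [AddCommGroup A], N ≠ 0 → (∀ x : A, N • x = 0) →
    ∀ a : A, a ≠ 0 → (∀ B : AddSubgroup A, B ≠ ⊥ → a ∈ B) → ∃ y : A, ∀ x, x ∈ AddSubgroup.zmultiples y := by
  induction N using Nat.strong_induction_on with
  | _ N ih =>
    intro A _ hN hexp a ha h
    have hN1 : N ≠ 1 := by
      rintro rfl
      exact ha (by simpa using hexp a)
    obtain ⟨p, hp, hpN⟩ := Nat.exists_prime_and_dvd hN1
    obtain ⟨M, rfl⟩ := hpN
    have hM0 : M ≠ 0 := by
      rintro rfl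
      exact hN (by simp)
    have hMlt : M < p * M := by
      have := hp.two_le
      have hMpos : 0 < M := Nat.pos_of_ne_zero hM0
      nlinarith
    -- the multiplication by p map
    let φ : A →+ A := DistribSMul.toAddMonoidHom A p
    have hφ : ∀ x, φ x = p • x := fun x => rfl
    -- a has finite order
    have hafin : IsOfFinAddOrder a := by
      rw [isOfFinAddOrder_iff_nsmul_eq_zero]
      exact ⟨p * M, Nat.pos_of_ne_zero hN, hexp a⟩
    have hfinza : Finite (AddSubgroup.zmultiples a) := hafin.finite_zmultiples.to_subtype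
    have : Fact p.Prime := ⟨hp⟩
    -- kernel is contained in zmultiples a
    have hker : φ.ker ≤ AddSubgroup.zmultiples a := by
      intro x hx
      by_cases hx0 : x = 0
      · rw [hx0]; exact zero_mem _
      have hkne : φ.ker ≠ ⊥ := by
        intro hbot
        rw [hbot, AddSubgroup.mem_bot] at hx
        exact hx0 hx
      have hak : a ∈ φ.ker := h _ hkne
      have hpa : p • a = 0 := hak
      have hpx : p • x = 0 := hx
      have hoa : addOrderOf a = p := addOrderOf_eq_prime hpa ha
      have hox : addOrderOf x = p := addOrderOf_eq_prime hpx hx0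
      have hzx : AddSubgroup.zmultiples x ≠ ⊥ := by
        intro hbot
        have : x ∈ AddSubgroup.zmultiples x := AddSubgroup.mem_zmultiples x
        rw [hbot, AddSubgroup.mem_bot] at this
        exact hx0 this
      have hle : AddSubgroup.zmultiples a ≤ AddSubgroup.zmultiples x := by
        rw [AddSubgroup.zmultiples_le]
        exact h _ hzx
      have hxfin : IsOfFinAddOrder x := by
        rw [isOfFinAddOrder_iff_nsmul_eq_zero]
        exact ⟨p, hp.pos, hpx⟩
      have hfinzx : Finite (AddSubgroup.zmultiples x) := hxfin.finite_zmultiples.to_subtype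
      have heq : AddSubgroup.zmultiples a = AddSubgroup.zmultiples x := by
        apply AddSubgroup.eq_of_le_of_card_ge hle
        rw [Nat.card_zmultiples, Nat.card_zmultiples, hoa, hox]
      rw [heq]
      exact AddSubgroup.mem_zmultiples x
    by_cases hr : φ.range = ⊥
    · refine ⟨a, fun x => hker ?_⟩
      change φ x = 0
      have : φ x ∈ φ.range := ⟨x, rfl⟩
      rw [hr, AddSubgroup.mem_bot] at this
      exact this
    · have har : a ∈ φ.range := h _ hr
      obtain ⟨⟨_, y, rfl⟩, hy⟩ := ih M hMlt φ.range hM0 (by
          rintro ⟨y, x, rfl⟩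
          apply Subtype.ext
          change M • φ x = 0
          rw [hφ, smul_smul, mul_comm]
          exact hexp x) ⟨a, har⟩ (by
          intro h0
          exact ha (congrArg Subtype.val h0)) (by
          intro B hB
          have hB' : B.map φ.range.subtype ≠ ⊥ := by
            intro hbot
            apply hB
            rw [AddSubgroup.map_eq_bot_iff_of_injective _ (AddSubgroup.subtype_injective _)] at hbot
            exact hbot
          obtain ⟨b, hb, hba⟩ := h _ hB'
          have : b = ⟨a, har⟩ := Subtype.ext hba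
          rw [← this]
          exact hb)
      refine ⟨y, fun x => ?_⟩
      -- y ≠ 0
      have hy0 : AddSubgroup.zmultiples y ≠ ⊥ := by
        intro hbot
        have hy00 : y = 0 := by
          have : y ∈ AddSubgroup.zmultiples y := AddSubgroup.mem_zmultiples y
          rw [hbot, AddSubgroup.mem_bot] at this
          exact this
        apply hr
        rw [eq_bot_iff]
        rintro _ ⟨x', rfl⟩
        obtain ⟨k, hk⟩ := AddSubgroup.mem_zmultiples_iff.mp (hy ⟨φ x', x', rfl⟩)
        have hk' := congrArg Subtype.val hk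
        simp only [AddSubgroup.coe_zsmul] at hk'
        rw [AddSubgroup.mem_bot, ← hk', hy00, map_zero, smul_zero]
      have hay : a ∈ AddSubgroup.zmultiples y := h _ hy0
      obtain ⟨k, hk⟩ := AddSubgroup.mem_zmultiples_iff.mp (hy ⟨φ x, x, rfl⟩)
      have hk' : k • φ y = φ x := by
        have := congrArg Subtype.val hk
        simpa only [AddSubgroup.coe_zsmul] using this
      have hmem : x - k • y ∈ φ.ker := by
        change φ (x - k • y) = 0
        rw [map_sub, map_zsmul, hk', sub_self]
      have h1 : x - k • y ∈ AddSubgroup.zmultiples y :=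
        (AddSubgroup.zmultiples_le.mpr hay) (hker hmem)
      have h2 : k • y ∈ AddSubgroup.zmultiples y :=
        AddSubgroup.zsmul_mem _ (AddSubgroup.mem_zmultiples y) k
      have := add_mem h1 h2
      rwa [sub_add_cancel] at this

theorem result {A : Type u} [AddCommGroup A] [Finite A]
    (a : A) (ha : a ≠ 0) (h : ∀ B : AddSubgroup A, B ≠ ⊥ → a ∈ B) :
    ∃ p n : ℕ, p.Prime ∧ Nonempty (A ≃+ ZMod (p ^ n)) := by
  have hcard0 : Nat.card A ≠ 0 := Nat.card_pos.ne'
  obtain ⟨y, hy⟩ := cyc (Nat.card A) A hcard0 (fun x => card_nsmul_eq_zero') a ha h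
  have hcyc : IsAddCyclic A := ⟨⟨y, hy⟩⟩
  have hnontriv : Nontrivial A := ⟨⟨a, 0, ha⟩⟩
  have hcard1 : Nat.card A ≠ 1 := by
    intro h1
    have := (Nat.card_eq_one_iff_unique.mp h1).1
    exact ha (Subsingleton.elim a 0)
  -- every prime dividing card A equals addOrderOf a
  have hprime : ∀ {q : ℕ}, q.Prime → q ∣ Nat.card A → q = addOrderOf a := by
    intro q hq hqd
    have : Fact q.Prime := ⟨hq⟩
    obtain ⟨x, hx⟩ := exists_prime_addOrderOf_dvd_card' q hqd
    have hx0 : x ≠ 0 := by
      rintro rfl
      rw [addOrderOf_zero] at hx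
      exact hq.one_lt.ne hx
    have hzx : AddSubgroup.zmultiples x ≠ ⊥ := by
      intro hbot
      have : x ∈ AddSubgroup.zmultiples x := AddSubgroup.mem_zmultiples x
      rw [hbot, AddSubgroup.mem_bot] at this
      exact hx0 this
    obtain ⟨k, hk⟩ := AddSubgroup.mem_zmultiples_iff.mp (h _ hzx)
    have hqa : q • a = 0 := by
      rw [← hk, smul_comm, ← hx, addOrderOf_nsmul_eq_zero, smul_zero]
    exact (addOrderOf_eq_prime hqa ha).symm
  obtain ⟨q, hq, hqd⟩ := Nat.exists_prime_and_dvd hcard1
  have hqa := hprime hq hqd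
  refine ⟨addOrderOf a, (Nat.card A).primeFactorsList.length, hqa ▸ hq, ?_⟩
  have hpow : Nat.card A = addOrderOf a ^ (Nat.card A).primeFactorsList.length :=
    Nat.eq_prime_pow_of_unique_prime_dvd hcard0 hprime
  rw [← hpow]
  exact ⟨(zmodAddCyclicAddEquiv hcyc).symm⟩

end Groth.Agent.S13361
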