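import Groth.Statements.S13362
import Mathlib.Tactic.Linarith
import Mathlib.GroupTheory.QuotientGroup.Finite
import Mathlib.GroupTheory.OrderOfElement
import Mathlib.GroupTheory.QuotientGroup.Basic
import Mathlib.Data.ZMod.QuotientGroup
-- import your own Groth.Agent.* helpers here

set_option autoImplicit false
universe u
open ProCompl

namespace Groth.Agent.S13362

/-- An abelian group of finite exponent having a nonzero element contained in every nonzero subgroup is
finite. -/
theorem aux (N : ℕ) : ∀ (A : Type u) [AddCommGroup A], N ≠ 0 → (∀ x : A, N • x = 0) →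
    ∀ a : A, a ≠ 0 → (∀ B : AddSubgroup A, B ≠ ⊥ → a ∈ B) → Finite A := by
  induction N using Nat.strong_induction_on with
  | _ N ih =>
    intro A _ hN hexp a ha h
    have hN1 : N ≠ 1 := by
      rintro rfl
      exact ha (by simpa using hexp a)
    obtain ⟨p, hp, hpN⟩ := Nat.exists_prime_and_dvd hN1
    obtain ⟨M, rfl⟩ := hpN
    have hM0 : M ≠ 0 := by
      rintro rfl
      exact hN (by simp)
    have hMlt : M < p * M := by
      have := hp.two_le
      have hMpos : 0 < M := Nat.pos_of_ne_zero hM0
      nlinarith
    -- the multiplication by p map
    let φ : A →+ A := DistribSMul.toAddMonoidHom A p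
    have hφ : ∀ x, φ x = p • x := fun x => rfl
    -- a has finite order
    have hafin : IsOfFinAddOrder a := by
      rw [isOfFinAddOrder_iff_nsmul_eq_zero]
      exact ⟨p * M, Nat.pos_of_ne_zero hN, hexp a⟩
    have hfinza : Finite (AddSubgroup.zmultiples a) := hafin.finite_zmultiples.to_subtype
    have : Fact p.Prime := ⟨hp⟩
    -- kernel is contained in zmultiples a
    have hker : φ.ker ≤ AddSubgroup.zmultiples a := by
      intro x hx
      by_cases hx0 : x = 0
      · rw [hx0]; exact zero_mem _
      have hkne : φ.ker ≠ ⊥ := by
        intro hbot
        rw [hbot, AddSubgroup.mem_bot] at hx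
        exact hx0 hx
      have hak : a ∈ φ.ker := h _ hkne
      have hpa : p • a = 0 := hak
      have hpx : p • x = 0 := hx
      have hoa : addOrderOf a = p := addOrderOf_eq_prime hpa ha
      have hox : addOrderOf x = p := addOrderOf_eq_prime hpx hx0
      have hzx : AddSubgroup.zmultiples x ≠ ⊥ := by
        intro hbot
        have : x ∈ AddSubgroup.zmultiples x := AddSubgroup.mem_zmultiples x
        rw [hbot, AddSubgroup.mem_bot] at this
        exact hx0 this
      have hle : AddSubgroup.zmultiples a ≤ AddSubgroup.zmultiples x := by
        rw [AddSubgroup.zmultiples_le]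
        exact h _ hzx
      have hxfin : IsOfFinAddOrder x := by
        rw [isOfFinAddOrder_iff_nsmul_eq_zero]
        exact ⟨p, hp.pos, hpx⟩
      have hfinzx : Finite (AddSubgroup.zmultiples x) := hxfin.finite_zmultiples.to_subtype
      have heq : AddSubgroup.zmultiples a = AddSubgroup.zmultiples x := by
        apply AddSubgroup.eq_of_le_of_card_ge hle
        rw [Nat.card_zmultiples, Nat.card_zmultiples, hoa, hox]
      rw [heq]
      exact AddSubgroup.mem_zmultiples x
    have hkerfin : Finite φ.ker := by
      have : Finite (AddSubgroup.zmultiples a) := hfinza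
      exact Finite.of_injective (AddSubgroup.inclusion hker) (AddSubgroup.inclusion_injective hker)
    -- the range is finite
    have hrangefin : Finite φ.range := by
      by_cases hr : φ.range = ⊥
      · rw [hr]
        infer_instance
      · have har : a ∈ φ.range := h _ hr
        refine ih M hMlt φ.range hM0 ?_ ⟨a, har⟩ ?_ ?_
        · rintro ⟨y, x, rfl⟩
          apply Subtype.ext
          change M • φ x = 0
          rw [hφ, smul_smul, mul_comm]
          exact hexp x
        · intro h0
          exact ha (congrArg Subtype.val h0)
        · intro B hB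
          have hB' : B.map φ.range.subtype ≠ ⊥ := by
            intro hbot
            apply hB
            rw [AddSubgroup.map_eq_bot_iff_of_injective _ (AddSubgroup.subtype_injective _)] at hbot
            exact hbot
          obtain ⟨b, hb, hba⟩ := h _ hB'
          have : b = ⟨a, har⟩ := Subtype.ext hba
          rw [← this]
          exact hb
    have hquot : Finite (A ⧸ φ.ker) :=
      Finite.of_equiv _ (QuotientAddGroup.quotientKerEquivRange φ).symm.toEquiv
    exact Finite.of_addSubgroup_quotient φ.ker

theorem result {A : Type u} [AddCommGroup A]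
    (hA : AddMonoid.exponent A ≠ 0) (a : A) (ha : a ≠ 0) (h : ∀ B : AddSubgroup A, B ≠ ⊥ → a ∈ B) :
    Finite A := by
  exact aux (AddMonoid.exponent A) A hA (fun x => AddMonoid.exponent_nsmul_eq_zero x) a ha h

end Groth.Agent.S13362
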