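import Groth.Statements.S13363
import Groth.Agent.S13362
import Mathlib.Order.Zorn
import Mathlib.Topology.Algebra.OpenSubgroup
import Mathlib.GroupTheory.IndexNSmul
-- import your own Groth.Agent.* helpers here

set_option autoImplicit false
universe u
open ProCompl

namespace Groth.Agent.S13363

/-- Let A be a topological abelian group such that the subgroup n·A is open for each n > 0, and a ∈ A.
Then A has an open subgroup of finite index not containing a if and only if a does not lie in the
subgroup of divisible elements ∩_n nA. -/
theorem result {A : Type u} [AddCommGroup A]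
    [TopologicalSpace A] [IsTopologicalAddGroup A]
    (hn : ∀ n : ℕ, 0 < n → IsOpen (Set.range (fun x : A => n • x))) (a : A) :
    (∃ B : AddSubgroup A, IsOpen (B : Set A) ∧ B.FiniteIndex ∧ a ∉ B) ↔
      ¬ (∀ n : ℕ, 0 < n → ∃ b : A, n • b = a) := by
  constructor
  · rintro ⟨B, -, hBfin, haB⟩ hdiv
    have hidx : B.index ≠ 0 := hBfin.index_ne_zero
    obtain ⟨b, hb⟩ := hdiv B.index (Nat.pos_of_ne_zero hidx)
    apply haB
    rw [← hb]
    exact B.nsmul_index_mem b
  · intro hnd
    push Not at hnd
    obtain ⟨n, hn0, hna⟩ := hnd
    -- the open subgroup nA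
    let ψ : A →+ A := DistribSMul.toAddMonoidHom A n
    have hψ : ∀ x, ψ x = n • x := fun x => rfl
    have hCopen : IsOpen (ψ.range : Set A) := by
      have : (ψ.range : Set A) = Set.range (fun x : A => n • x) := by
        ext y
        simp [ψ]
      rw [this]
      exact hn n hn0
    have haC : a ∉ ψ.range := by
      rintro ⟨b, hb⟩
      exact hna b hb
    -- Zorn
    obtain ⟨B, hCB, hBmax⟩ := zorn_le_nonempty₀ {B : AddSubgroup A | a ∉ B} (by
      intro c hc hchain y hy
      refine ⟨sSup c, ?_, fun z hz => le_sSup hz⟩
      intro hmem
      rw [AddSubgroup.mem_sSup_of_directedOn ⟨y, hy⟩ hchain.directedOn] at hmem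
      obtain ⟨D, hD, haD⟩ := hmem
      exact hc hD haD) ψ.range haC
    have haB : a ∉ B := hBmax.prop
    refine ⟨B, AddSubgroup.isOpen_mono hCB hCopen, ?_, haB⟩
    -- finiteness of the quotient
    have hfin : Finite (A ⧸ B) := by
      refine Groth.Agent.S13362.aux n (A ⧸ B) hn0.ne' ?_ (QuotientAddGroup.mk a) ?_ ?_
      · intro x
        induction x using QuotientAddGroup.induction_on with
        | H x =>
          change ((n • x : A) : A ⧸ B) = 0
          rw [QuotientAddGroup.eq_zero_iff]
          exact hCB ⟨x, rfl⟩
      · intro h0
        rw [QuotientAddGroup.eq_zero_iff] at h0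
        exact haB h0
      · intro D hD
        by_contra haD
        have hle : B ≤ D.comap (QuotientAddGroup.mk' B) := by
          intro x hx
          rw [AddSubgroup.mem_comap]
          have : (QuotientAddGroup.mk' B) x = 0 := by
            rw [QuotientAddGroup.mk'_apply, QuotientAddGroup.eq_zero_iff]
            exact hx
          rw [this]
          exact zero_mem _
        have hmem : D.comap (QuotientAddGroup.mk' B) ∈ {B : AddSubgroup A | a ∉ B} := by
          intro ha'
          exact haD ha'
        have hle' := hBmax.le_of_ge hmem hle
        apply hD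
        rw [eq_bot_iff]
        intro d hd
        induction d using QuotientAddGroup.induction_on with
        | H x =>
          rw [AddSubgroup.mem_bot, QuotientAddGroup.eq_zero_iff]
          exact hle' hd
    exact AddSubgroup.finiteIndex_of_finite_quotient

end Groth.Agent.S13363
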