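import Groth.Statements.S13365
import Mathlib.Topology.Algebra.ClopenNhdofOne
-- import your own Groth.Agent.* helpers here

set_option autoImplicit false
universe u
open ProCompl

namespace Groth.Agent.S13365

/-- The quotient of a profinite (compact, Hausdorff, totally disconnected) abelian topological group by
a compact subgroup is profinite. -/
theorem result {A : Type u} [AddCommGroup A] [TopologicalSpace A]
    [IsTopologicalAddGroup A] [CompactSpace A] [T2Space A] [TotallyDisconnectedSpace A]
    (B : AddSubgroup A) (hB : IsCompact (B : Set A)) :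
    CompactSpace (A ⧸ B) ∧ T2Space (A ⧸ B) ∧ TotallyDisconnectedSpace (A ⧸ B) := by
  have hBc : IsClosed (B : Set A) := hB.isClosed
  refine ⟨inferInstance, inferInstance, ?_⟩
  rw [totallyDisconnectedSpace_iff_connectedComponent_zero]
  apply Set.Subset.antisymm
  · intro x hx
    induction x using QuotientAddGroup.induction_on with
    | H g =>
      rw [Set.mem_singleton_iff, QuotientAddGroup.eq_zero_iff]
      by_contra hg
      have hsInf := ProfiniteGrp.closedAddSubgroup_eq_sInf_open (⟨B, hBc⟩ : ClosedAddSubgroup A)
      have hg' : g ∉ sInf {N : AddSubgroup A | IsOpen (N : Set A) ∧ B ≤ N} := by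
        intro hmem
        apply hg
        have : g ∈ ((⟨B, hBc⟩ : ClosedAddSubgroup A) : AddSubgroup A) := by
          rw [hsInf]
          exact hmem
        exact this
      rw [AddSubgroup.mem_sInf] at hg'
      push Not at hg'
      obtain ⟨N, ⟨hNo, hBN⟩, hgN⟩ := hg'
      -- the image of N in the quotient
      let N' : AddSubgroup (A ⧸ B) := N.map (QuotientAddGroup.mk' B)
      have hN'o : IsOpen (N' : Set (A ⧸ B)) := by
        have : (N' : Set (A ⧸ B)) = (QuotientAddGroup.mk : A → A ⧸ B) '' (N : Set A) := rfl
        rw [this]
        exact QuotientAddGroup.isOpenMap_coe _ hNo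
      have hN'c : IsClopen (N' : Set (A ⧸ B)) := ⟨N'.isClosed_of_isOpen hN'o, hN'o⟩
      have h0 : (0 : A ⧸ B) ∈ (N' : Set (A ⧸ B)) := N'.zero_mem
      have hsub := hN'c.connectedComponent_subset h0
      obtain ⟨n, hn, hng⟩ := hsub hx
      apply hgN
      have hng' : ((n : A) : A ⧸ B) = (g : A ⧸ B) := hng
      rw [QuotientAddGroup.eq] at hng'
      have h1 : -n + g ∈ N := hBN hng'
      have := add_mem hn h1
      rwa [add_neg_cancel_left] at this
  · rw [Set.singleton_subset_iff]
    exact mem_connectedComponent

end Groth.Agent.S13365
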