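import Groth.Statements.S13368
import Mathlib

set_option autoImplicit false
universe u
open GaDual

namespace Groth.Agent.S13368

open Polynomial

section aux

variable {p : ℕ} [hp : Fact p.Prime] {R : Type u} [CommRing R] [IsDomain R]

/-- Key divisibility lemma: if `π ^ p ∣ ∑ π ^ i z_i ^ p` then `π ∣ z_i` for all `i`. -/
theorem dvd_of_sum (π : R) (hπ : Prime π) (z : Fin p → R)
    (h : π ^ p ∣ ∑ i : Fin p, π ^ (i : ℕ) * z i ^ p) : ∀ i, π ∣ z i := by
  have key : ∀ n : ℕ, ∀ i : Fin p, (i : ℕ) = n → π ∣ z i := by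
    intro n
    induction n using Nat.strong_induction_on with
    | _ n ih =>
      intro i hi
      have h1 : π ^ ((i : ℕ) + 1) ∣ ∑ j ∈ Finset.univ.erase i, π ^ (j : ℕ) * z j ^ p := by
        refine Finset.dvd_sum fun j hj => ?_
        have hne : j ≠ i := Finset.ne_of_mem_erase hj
        rcases lt_or_gt_of_ne (fun h => hne (Fin.ext h) : (j : ℕ) ≠ (i : ℕ)) with hlt | hgt
        · have hj' : π ∣ z j := ih j (hi ▸ hlt) j rfl
          have : π ^ p ∣ z j ^ p := pow_dvd_pow_of_dvd hj' p
          exact dvd_mul_of_dvd_right (dvd_trans (pow_dvd_pow π (Nat.succ_le_of_lt i.2)) this) _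
        · exact dvd_mul_of_dvd_left (pow_dvd_pow π (Nat.succ_le_of_lt hgt)) _
      have h2 : π ^ ((i : ℕ) + 1) ∣ ∑ j : Fin p, π ^ (j : ℕ) * z j ^ p :=
        dvd_trans (pow_dvd_pow π (Nat.succ_le_of_lt i.2)) h
      rw [← Finset.sum_erase_add _ _ (Finset.mem_univ i)] at h2
      have h3 : π ^ ((i : ℕ) + 1) ∣ π ^ (i : ℕ) * z i ^ p := (dvd_add_right h1).1 h2
      rw [pow_succ] at h3
      have h4 : π ∣ z i ^ p := (mul_dvd_mul_iff_left (pow_ne_zero _ hπ.ne_zero)).1 h3
      exact hπ.dvd_of_dvd_pow h4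
  intro i
  exact key i i rfl

theorem pow_dvd_of_sum (π : R) (hπ : Prime π) :
    ∀ (N : ℕ) (z : Fin p → R) (s : R),
      ∑ i : Fin p, π ^ (i : ℕ) * z i ^ p = π ^ (p * N) * s → ∀ i, π ^ N ∣ z i := by
  intro N
  induction N with
  | zero => intro z s _ i; simp
  | succ N ih =>
    intro z s h i
    have hdvd : π ^ p ∣ ∑ i : Fin p, π ^ (i : ℕ) * z i ^ p := by
      rw [h, Nat.mul_succ, pow_add, mul_comm (π ^ (p * N)), mul_assoc]
      exact dvd_mul_right _ _
    have h1 := dvd_of_sum π hπ z hdvd
    choose w hw using h1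
    have h2 : ∑ i : Fin p, π ^ (i : ℕ) * w i ^ p = π ^ (p * N) * s := by
      have : π ^ p * ∑ i : Fin p, π ^ (i : ℕ) * w i ^ p = π ^ p * (π ^ (p * N) * s) := by
        have e : π ^ p * (π ^ (p * N) * s) = π ^ (p * (N + 1)) * s := by
          rw [Nat.mul_succ, pow_add]; ring
        rw [e, ← h, Finset.mul_sum]
        refine Finset.sum_congr rfl fun j _ => ?_
        rw [hw j]; ring
      exact mul_left_cancel₀ (pow_ne_zero _ hπ.ne_zero) this
    obtain ⟨c, hc⟩ := ih w s h2 i
    exact ⟨c, by rw [hw i, hc]; ring⟩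

variable [IsDiscreteValuationRing R]

theorem eq_zero_of_sum (π : R) (hπ : Irreducible π) (z : Fin p → R)
    (h : ∑ i : Fin p, π ^ (i : ℕ) * z i ^ p = 0) : z = 0 := by
  funext i
  by_contra hne
  have hfin : FiniteMultiplicity π (z i) := FiniteMultiplicity.of_not_isUnit hπ.not_isUnit hne
  obtain ⟨n, hn⟩ := hfin
  exact hn (pow_dvd_of_sum π hπ.prime (n + 1) z 0 (by rw [h, mul_zero]) i)

end aux

section frac

variable {p : ℕ} [hp : Fact p.Prime] {R : Type u} [CommRing R] [IsDomain R]
  [IsDiscreteValuationRing R]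

theorem exists_pow_mul (π : R) (hπ : Irreducible π) (y : FractionRing R) :
    ∃ (N : ℕ) (z : R),
      y * (algebraMap R (FractionRing R) π) ^ N = algebraMap R (FractionRing R) z := by
  obtain ⟨a, b, hb, rfl⟩ := IsFractionRing.div_surjective (A := R) y
  have hb0 : b ≠ 0 := nonZeroDivisors.ne_zero hb
  obtain ⟨n, u, hu⟩ := IsDiscreteValuationRing.eq_unit_mul_pow_irreducible hb0 hπ
  refine ⟨n, a * ((u⁻¹ : Rˣ) : R), ?_⟩
  have hbK : algebraMap R (FractionRing R) b ≠ 0 := by
    simpa using (IsFractionRing.to_map_ne_zero_of_mem_nonZeroDivisors (K := FractionRing R) hb)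
  rw [div_mul_eq_mul_div, div_eq_iff hbK, ← map_pow, ← map_mul, ← map_mul]
  congr 1
  rw [hu, mul_assoc, ← mul_assoc ((u⁻¹ : Rˣ) : R), Units.inv_mul, one_mul]

theorem exists_pow_mul_family (π : R) (hπ : Irreducible π) (y : Fin p → FractionRing R) :
    ∃ (N : ℕ) (z : Fin p → R),
      ∀ i, y i * (algebraMap R (FractionRing R) π) ^ N = algebraMap R (FractionRing R) (z i) := by
  choose N z h using fun i => exists_pow_mul π hπ (y i)
  refine ⟨∑ i, N i, fun i => z i * π ^ ((∑ j, N j) - N i), fun i => ?_⟩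
  have hle : N i ≤ ∑ j, N j := Finset.single_le_sum (fun _ _ => Nat.zero_le _) (Finset.mem_univ i)
  have : (algebraMap R (FractionRing R) π) ^ (∑ j, N j) =
      (algebraMap R (FractionRing R) π) ^ (N i) *
        (algebraMap R (FractionRing R) π) ^ ((∑ j, N j) - N i) := by
    rw [← pow_add, Nat.add_sub_cancel' hle]
  rw [this, ← mul_assoc, h i, map_mul, map_pow]

theorem exists_coeff (π : R) (hπ : Irreducible π) (y : Fin p → FractionRing R) (r : R)
    (h : ∑ i : Fin p, (algebraMap R (FractionRing R) π) ^ (i : ℕ) * y i ^ p =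
      algebraMap R (FractionRing R) r) :
    ∃ c : Fin p → R, (∀ i, y i = algebraMap R (FractionRing R) (c i)) ∧
      ∑ i : Fin p, π ^ (i : ℕ) * c i ^ p = r := by
  have hinj := IsFractionRing.injective R (FractionRing R)
  obtain ⟨N, z, hz⟩ := exists_pow_mul_family π hπ y
  have h1 : ∑ i : Fin p, π ^ (i : ℕ) * z i ^ p = π ^ (p * N) * r := by
    apply hinj
    rw [map_mul, ← h, map_sum, Finset.mul_sum]
    refine Finset.sum_congr rfl fun i _ => ?_
    rw [map_mul, map_pow, map_pow, ← hz i, map_pow, mul_pow, ← pow_mul, mul_comm N p]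
    ring
  have h2 := pow_dvd_of_sum π hπ.prime N z r h1
  choose c hc using h2
  have hπK : (algebraMap R (FractionRing R) π) ^ N ≠ 0 := by
    apply pow_ne_zero
    exact (map_ne_zero_iff _ hinj).2 hπ.ne_zero
  have hy : ∀ i, y i = algebraMap R (FractionRing R) (c i) := by
    intro i
    have := hz i
    rw [hc i, map_mul, map_pow, mul_comm] at this
    exact mul_left_cancel₀ hπK this
  refine ⟨c, hy, ?_⟩
  apply hinj
  rw [← h, map_sum]
  refine Finset.sum_congr rfl fun i _ => ?_
  rw [map_mul, map_pow, map_pow, hy i]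

theorem part1 [CharP R p] (kp : Subfield (FractionRing R))
    (hkp : ∀ x : FractionRing R, x ∈ kp ↔ ∃ y : FractionRing R, y ^ p = x)
    (hdeg : Module.finrank kp (FractionRing R) = p)
    (π : R) (hπ : Irreducible π) :
    ∀ r : R, ∃! c : Fin p → R, r = ∑ i : Fin p, π ^ (i : ℕ) * c i ^ p := by
  have hinj := IsFractionRing.injective R (FractionRing R)
  -- linear independence of the powers of π over kp
  have hli : LinearIndependent kp
      (fun i : Fin p => (algebraMap R (FractionRing R) π) ^ (i : ℕ)) := by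
    rw [Fintype.linearIndependent_iff]
    intro g hg i
    have hy : ∀ i, ∃ y : FractionRing R, y ^ p = (g i : FractionRing R) :=
      fun i => (hkp _).1 (g i).2
    choose y hy using hy
    have h0 : ∑ i : Fin p, (algebraMap R (FractionRing R) π) ^ (i : ℕ) * y i ^ p =
        algebraMap R (FractionRing R) 0 := by
      rw [map_zero, ← hg]
      refine Finset.sum_congr rfl fun i _ => ?_
      rw [hy i, Subfield.smul_def, smul_eq_mul, mul_comm]
    obtain ⟨c, hc, hsum⟩ := exists_coeff π hπ y 0 h0
    have hc0 := eq_zero_of_sum π hπ c hsum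
    have : (g i : FractionRing R) = 0 := by
      rw [← hy i, hc i, hc0]; simp [hp.out.ne_zero]
    exact Subtype.ext this
  have hfin : Module.Finite kp (FractionRing R) :=
    Module.finite_of_finrank_pos (by rw [hdeg]; exact hp.out.pos)
  have hspan : Submodule.span kp
      (Set.range (fun i : Fin p => (algebraMap R (FractionRing R) π) ^ (i : ℕ))) = ⊤ :=
    hli.span_eq_top_of_card_eq_finrank' (by rw [Fintype.card_fin, hdeg])
  intro r
  have hr : algebraMap R (FractionRing R) r ∈ Submodule.span kp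
      (Set.range (fun i : Fin p => (algebraMap R (FractionRing R) π) ^ (i : ℕ))) := by
    rw [hspan]; trivial
  rw [Submodule.mem_span_range_iff_exists_fun] at hr
  obtain ⟨g, hg⟩ := hr
  have hy : ∀ i, ∃ y : FractionRing R, y ^ p = (g i : FractionRing R) :=
    fun i => (hkp _).1 (g i).2
  choose y hy using hy
  have h0 : ∑ i : Fin p, (algebraMap R (FractionRing R) π) ^ (i : ℕ) * y i ^ p =
      algebraMap R (FractionRing R) r := by
    rw [← hg]
    refine Finset.sum_congr rfl fun i _ => ?_
    rw [hy i, Subfield.smul_def, smul_eq_mul, mul_comm]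
  obtain ⟨c, -, hsum⟩ := exists_coeff π hπ y r h0
  refine ⟨c, hsum.symm, ?_⟩
  intro c' hc'
  have hd : ∑ i : Fin p, π ^ (i : ℕ) * (c' - c) i ^ p = 0 := by
    have : ∀ i : Fin p, π ^ (i : ℕ) * (c' - c) i ^ p =
        π ^ (i : ℕ) * c' i ^ p - π ^ (i : ℕ) * c i ^ p := by
      intro i
      rw [Pi.sub_apply, sub_pow_char, mul_sub]
    rw [Finset.sum_congr rfl (fun i _ => this i), Finset.sum_sub_distrib, ← hc', hsum, sub_self]
  have := eq_zero_of_sum π hπ (c' - c) hd
  exact sub_eq_zero.1 this

end frac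

section kaehler

/-- Frobenius on the coefficients followed by evaluation at `π`. -/
noncomputable def Φ (p : ℕ) [Fact p.Prime] {R : Type u} [CommRing R] [CharP R p] (π : R) :
    R[X] →+* R :=
  Polynomial.eval₂RingHom (frobenius R p) π

variable {p : ℕ} [hp : Fact p.Prime] {R : Type u} [CommRing R] [CharP R p]

theorem Φ_apply (π : R) (f : R[X]) : Φ p π f = eval₂ (frobenius R p) π f := rfl

@[simp] theorem Φ_X (π : R) : Φ p π X = π := by simp [Φ_apply]

@[simp] theorem Φ_C (π a : R) : Φ p π (C a) = a ^ p := by simp [Φ_apply, frobenius_def]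

theorem Φ_of_natDegree_lt (π : R) (f : R[X]) (hf : f.natDegree < p) :
    Φ p π f = ∑ i : Fin p, π ^ (i : ℕ) * (f.coeff i) ^ p := by
  rw [Φ_apply, eval₂_eq_sum_range' _ hf, Finset.sum_range]
  refine Finset.sum_congr rfl fun i _ => ?_
  rw [frobenius_def, mul_comm]

theorem Φ_derivative_eq_zero (π : R)
    (huniq : ∀ z : Fin p → R, ∑ i : Fin p, π ^ (i : ℕ) * z i ^ p = 0 → z = 0)
    (f : R[X]) (hf : Φ p π f = 0) : Φ p π (derivative f) = 0 := by
  nontriviality R
  set m : R[X] := X ^ p - C π with hm_def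
  have hm : m.Monic := monic_X_pow_sub_C π hp.out.ne_zero
  have hmdeg : m.natDegree = p := natDegree_X_pow_sub_C
  have hΦm : Φ p π m = 0 := by
    rw [hm_def, map_sub, map_pow, Φ_X, Φ_C, sub_self]
  have hm1 : m ≠ 1 := by
    intro h
    have := congrArg natDegree h
    rw [hmdeg, natDegree_one] at this
    exact hp.out.ne_zero this
  have hfr : f %ₘ m + m * (f /ₘ m) = f := modByMonic_add_div f m
  have hrdeg : (f %ₘ m).natDegree < p := by
    have := natDegree_modByMonic_lt f hm hm1
    rwa [hmdeg] at this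
  have hΦr : Φ p π (f %ₘ m) = 0 := by
    have := congrArg (Φ p π) hfr
    rw [map_add, map_mul, hΦm, zero_mul, add_zero, hf] at this
    exact this
  have hr0 : f %ₘ m = 0 := by
    have hz := huniq (fun i => (f %ₘ m).coeff i)
      (by rw [← Φ_of_natDegree_lt π _ hrdeg]; exact hΦr)
    ext n
    rw [coeff_zero]
    by_cases hn : n < p
    · exact congrFun hz ⟨n, hn⟩
    · exact coeff_eq_zero_of_natDegree_lt (lt_of_lt_of_le hrdeg (not_lt.1 hn))
  have hdm : derivative m = 0 := by
    rw [hm_def, derivative_sub, derivative_X_pow, derivative_C, sub_zero,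
      CharP.cast_eq_zero R p, C_0, zero_mul]
  rw [← hfr, hr0, zero_add, derivative_mul, hdm, zero_mul, zero_add, map_mul, hΦm, zero_mul]

theorem Φ_surjective (π : R)
    (hex : ∀ r : R, ∃ c : Fin p → R, r = ∑ i : Fin p, π ^ (i : ℕ) * c i ^ p) :
    Function.Surjective (Φ p π) := by
  intro r
  obtain ⟨c, hc⟩ := hex r
  refine ⟨∑ i : Fin p, C (c i) * X ^ (i : ℕ), ?_⟩
  rw [hc, map_sum]
  refine Finset.sum_congr rfl fun i _ => ?_
  rw [map_mul, map_pow, Φ_X, Φ_C, mul_comm]

/-- The derivation `d/dπ` of `R`. -/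
noncomputable def δfun (π : R) (hs : Function.Surjective (Φ p π)) (r : R) : R :=
  Φ p π (derivative (Classical.choose (hs r)))

theorem δfun_spec (π : R)
    (huniq : ∀ z : Fin p → R, ∑ i : Fin p, π ^ (i : ℕ) * z i ^ p = 0 → z = 0)
    (hs : Function.Surjective (Φ p π)) (f : R[X]) :
    δfun π hs (Φ p π f) = Φ p π (derivative f) := by
  unfold δfun
  have h1 : Φ p π (Classical.choose (hs (Φ p π f))) = Φ p π f := Classical.choose_spec (hs (Φ p π f))
  have h2 : Φ p π (Classical.choose (hs (Φ p π f)) - f) = 0 := by rw [map_sub, h1, sub_self]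
  have h3 := Φ_derivative_eq_zero π huniq _ h2
  rw [derivative_sub, map_sub, sub_eq_zero] at h3
  exact h3

/-- `d/dπ` as a derivation. -/
noncomputable def δ (π : R)
    (huniq : ∀ z : Fin p → R, ∑ i : Fin p, π ^ (i : ℕ) * z i ^ p = 0 → z = 0)
    (hs : Function.Surjective (Φ p π)) : Derivation ℤ R R :=
  Derivation.mk'
    (AddMonoidHom.toIntLinearMap
      { toFun := δfun π hs
        map_zero' := by
          have := δfun_spec π huniq hs 0
          rwa [map_zero, derivative_zero, map_zero] at this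
        map_add' := by
          intro a b
          obtain ⟨f, rfl⟩ := hs a
          obtain ⟨g, rfl⟩ := hs b
          rw [← map_add, δfun_spec π huniq hs, δfun_spec π huniq hs, δfun_spec π huniq hs,
            derivative_add, map_add] })
    (by
      intro a b
      obtain ⟨f, rfl⟩ := hs a
      obtain ⟨g, rfl⟩ := hs b
      show δfun π hs (Φ p π f * Φ p π g) = Φ p π f • δfun π hs (Φ p π g) + Φ p π g • δfun π hs (Φ p π f)
      rw [← map_mul, δfun_spec π huniq hs, δfun_spec π huniq hs, δfun_spec π huniq hs,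
        derivative_mul, map_add, map_mul, map_mul, smul_eq_mul, smul_eq_mul]
      ring)

theorem δ_apply_π (π : R)
    (huniq : ∀ z : Fin p → R, ∑ i : Fin p, π ^ (i : ℕ) * z i ^ p = 0 → z = 0)
    (hs : Function.Surjective (Φ p π)) : δ π huniq hs π = 1 := by
  show δfun π hs π = 1
  have := δfun_spec π huniq hs X
  rwa [Φ_X, derivative_X, map_one] at this

theorem D_Φ (π : R) (f : R[X]) :
    KaehlerDifferential.D ℤ R (Φ p π f) = Φ p π (derivative f) • KaehlerDifferential.D ℤ R π := by
  induction f using Polynomial.induction_on' with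
  | add f g hf hg =>
    rw [map_add, map_add, hf, hg, derivative_add, map_add, add_smul]
  | monomial n a =>
    have hpz : ∀ x : Ω[R⁄ℤ], p • x = 0 := by
      intro x
      rw [← Nat.cast_smul_eq_nsmul R, CharP.cast_eq_zero R p, zero_smul]
    have e1 : Φ p π (monomial n a) = a ^ p * π ^ n := by
      rw [← C_mul_X_pow_eq_monomial, map_mul, map_pow, Φ_X, Φ_C]
    have e2 : Φ p π (derivative (monomial n a)) = a ^ p * (n : R) * π ^ (n - 1) := by
      rw [derivative_monomial, ← C_mul_X_pow_eq_monomial, map_mul, map_pow, Φ_X, Φ_C, mul_pow,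
        ← frobenius_def p (n : R), map_natCast]
    rw [e1, e2, Derivation.leibniz, Derivation.leibniz_pow, Derivation.leibniz_pow, hpz, smul_zero,
      add_zero, ← Nat.cast_smul_eq_nsmul R n, smul_smul, smul_smul, mul_assoc]

end kaehler

/-- Let R be a discrete valuation ring of prime characteristic p whose fraction field k has degree p
over its subfield k^p of p-th powers, and π a uniformizer. Then every element of R is, in a unique
way, a sum of π^i c_i^p over 0 ≤ i < p with c_i in R, and the Kähler differentials of R (absolute,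
i.e. over the integers, equivalently over the prime field) form a free module of rank one generated
by dπ. -/
theorem result (p : ℕ) [Fact p.Prime] {R : Type u} [CommRing R]
    [IsDomain R] [IsDiscreteValuationRing R] [CharP R p]
    (kp : Subfield (FractionRing R)) (hkp : ∀ x : FractionRing R, x ∈ kp ↔ ∃ y : FractionRing R, y ^ p = x)
    (hdeg : Module.finrank kp (FractionRing R) = p)
    (π : R) (hπ : Irreducible π) :
    (∀ r : R, ∃! c : Fin p → R, r = ∑ i : Fin p, π ^ (i : ℕ) * c i ^ p) ∧
      Function.Bijective (fun r : R => r • KaehlerDifferential.D ℤ R π) := by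
  have h1 := part1 kp hkp hdeg π hπ
  refine ⟨h1, ?_⟩
  have huniq : ∀ z : Fin p → R, ∑ i : Fin p, π ^ (i : ℕ) * z i ^ p = 0 → z = 0 :=
    fun z hz => eq_zero_of_sum π hπ z hz
  have hs : Function.Surjective (Φ p π) :=
    Φ_surjective π (fun r => (h1 r).exists)
  constructor
  · intro a b hab
    have := congrArg (δ π huniq hs).liftKaehlerDifferential hab
    simp only [map_smul, Derivation.liftKaehlerDifferential_comp_D, δ_apply_π, smul_eq_mul,
      mul_one] at this
    exact this
  · intro ω
    have hmem : ω ∈ Submodule.span R (Set.range (KaehlerDifferential.D ℤ R)) := by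
      rw [KaehlerDifferential.span_range_derivation]; trivial
    induction hmem using Submodule.span_induction with
    | mem x hx =>
      obtain ⟨r, rfl⟩ := hx
      obtain ⟨f, rfl⟩ := hs r
      exact ⟨Φ p π (derivative f), (D_Φ π f).symm⟩
    | zero => exact ⟨0, zero_smul _ _⟩
    | add x y _ _ hx hy =>
      obtain ⟨a, ha⟩ := hx
      obtain ⟨b, hb⟩ := hy
      exact ⟨a + b, by simp only [add_smul]; rw [← ha, ← hb]⟩
    | smul c x _ hx =>
      obtain ⟨a, ha⟩ := hx
      exact ⟨c * a, by simp only [mul_smul]; rw [← ha]⟩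

end Groth.Agent.S13368
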