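import Groth.Statements.S13369
import Mathlib
import Groth.Agent.Lib.Helper13.Admissible

set_option autoImplicit false
universe u
open GaDual


namespace Groth.Agent.S13369

theorem field_case (p : ℕ) [Fact p.Prime] {K : Type u} [Field K] [CharP K p] (x : K)
    (hx : KaehlerDifferential.D (⊥ : Subfield K) K x = 0) : ∃ y : K, y ^ p = x := by
  have h1 := (Groth.Agent.Lib.Helper13.Admissible.D_eq_zero_iff p (k := (⊥ : Subfield K)) x).mp hx
  let T : Subalgebra (⊥ : Subfield K) K :=
    { (frobenius K p).fieldRange.toSubring.toSubsemiring with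
      algebraMap_mem' := fun y => (bot_le : (⊥ : Subfield K) ≤ (frobenius K p).fieldRange) y.2 }
  have hle : EGA41.pPowerSubalgebra p (⊥ : Subfield K) K ≤ T := by
    refine Algebra.adjoin_le ?_
    rintro _ ⟨y, rfl⟩
    exact ⟨y, rfl⟩
  obtain ⟨y, hy⟩ := hle h1
  exact ⟨y, hy⟩

theorem aux (p : ℕ) [Fact p.Prime] {A : Type u} [CommRing A] [IsDomain A]
    [IsIntegrallyClosed A] [CharP A p] (K : Type u) [Field K] [Algebra A K] [IsFractionRing A K]
    (s : A) (hs : KaehlerDifferential.D ℤ A s = 0) :
    ∃ f : A, f ^ p = s := by
  haveI : CharP K p := charP_of_injective_algebraMap (IsFractionRing.injective A K) p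
  have h0 : KaehlerDifferential.D (⊥ : Subfield K) K (algebraMap A K s) = 0 := by
    rw [← KaehlerDifferential.map_D ℤ (⊥ : Subfield K) A K, hs, map_zero]
  obtain ⟨y, hy⟩ := field_case p (algebraMap A K s) h0
  have hint : IsIntegral A y := by
    refine ⟨Polynomial.X ^ p - Polynomial.C s,
      Polynomial.monic_X_pow_sub_C s (Fact.out : p.Prime).ne_zero, ?_⟩
    simp [hy]
  obtain ⟨f, rfl⟩ := IsIntegrallyClosed.isIntegral_iff.mp hint
  refine ⟨f, IsFractionRing.injective A K ?_⟩
  rw [map_pow, hy]

end Groth.Agent.S13369

namespace Groth.Agent.S13369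

/-- For a normal Noetherian domain A of prime characteristic p, an element whose differential vanishes
in the absolute Kähler differentials of A is a p-th power; that is, the sequence F : A → A, d : A →
Ω_A (F the Frobenius) is exact at the middle term. (The published statement is for normal locally
Noetherian schemes of characteristic p; this row is the case of the spectrum of a normal Noetherian
domain.) -/
theorem result (p : ℕ) [Fact p.Prime] {A : Type u} [CommRing A] [IsDomain A]
    [IsNoetherianRing A] [IsIntegrallyClosed A] [CharP A p] (s : A) (hs : KaehlerDifferential.D ℤ A s = 0) :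
    ∃ f : A, f ^ p = s := by
  exact aux p (FractionRing A) s hs

end Groth.Agent.S13369
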