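import Groth.Statements.S13370
import Mathlib

set_option autoImplicit false
universe u
open GaDual

namespace Groth.Agent.S13370

open AlgebraicGeometry CategoryTheory CategoryTheory.Limits AffineSpace

/-- affine reduced case: every unit is pulled back from the base -/
lemma affine_case (n : Type u) (R : CommRingCat.{u}) [IsReduced (Spec R)]
    (w : Γ(𝔸(n; Spec R), ⊤)) (hw : IsUnit w) :
    ∃ c : Γ(Spec R, ⊤), (𝔸(n; Spec R) ↘ Spec R).appTop c = w := by
  haveI : _root_.IsReduced R := by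
    have := (affine_isReduced_iff R).mp inferInstance
    exact this
  -- transport w to a polynomial
  let e := SpecIso n R
  let p : MvPolynomial n R := (Scheme.ΓSpecIso (.of (MvPolynomial n R))).hom (e.inv.appTop w)
  have hp : IsUnit p := (hw.map e.inv.appTop.hom).map (Scheme.ΓSpecIso _).hom.hom
  obtain ⟨r, -, hr⟩ := MvPolynomial.isUnit_iff_eq_C_of_isReduced.mp hp
  refine ⟨(Scheme.ΓSpecIso R).inv r, ?_⟩
  -- e.inv ≫ π = Spec.map C
  have h1 := SpecIso_inv_over (n := n) R
  have h2 : e.inv.appTop ((𝔸(n; Spec R) ↘ Spec R).appTop ((Scheme.ΓSpecIso R).inv r))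
      = e.inv.appTop w := by
    have h3 : (𝔸(n; Spec R) ↘ Spec R).appTop ≫ e.inv.appTop
        = (Spec.map (CommRingCat.ofHom (MvPolynomial.C (σ := n) (R := R)))).appTop := by
      rw [← Scheme.Hom.comp_appTop, h1]
    have h4 := congrArg (fun φ => φ ((Scheme.ΓSpecIso R).inv r)) (congrArg (fun ψ => ψ.hom) h3)
    simp only [CommRingCat.hom_comp, RingHom.coe_comp, Function.comp_apply] at h4
    rw [h4]
    apply (Scheme.ΓSpecIso (.of (MvPolynomial n R))).commRingCatIsoToRingEquiv.injective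
    change (Scheme.ΓSpecIso (.of (MvPolynomial n R))).hom _ = p
    rw [hr]
    have h5 := Scheme.ΓSpecIso_naturality (CommRingCat.ofHom (MvPolynomial.C (σ := n) (R := R)))
    have h6 := congrArg (fun φ => φ.hom ((Scheme.ΓSpecIso R).inv r)) h5
    simp only [CommRingCat.hom_comp, RingHom.coe_comp, Function.comp_apply] at h6
    rw [h6]
    change MvPolynomial.C _ = MvPolynomial.C r
    congr 1
    exact congrArg (fun φ => φ.hom r) (Scheme.ΓSpecIso R).inv_hom_id
  have hinj : Function.Injective e.inv.appTop := by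
    have h7 : e.inv.appTop ≫ e.hom.appTop = 𝟙 _ := by
      rw [← Scheme.Hom.comp_appTop, e.hom_inv_id]; rfl
    intro a b hab
    have ha := congrArg (fun φ => φ.hom a) h7
    have hb := congrArg (fun φ => φ.hom b) h7
    simp only [CommRingCat.hom_comp, RingHom.coe_comp, Function.comp_apply] at ha hb
    have : e.hom.appTop (e.inv.appTop a) = e.hom.appTop (e.inv.appTop b) := by rw [hab]
    exact ha.symm.trans (this.trans hb)
  exact hinj h2

open AlgebraicGeometry in
/-- Over a reduced scheme X, each invertible global function on 𝔸ⁿ_X comes, by pullback along the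
projection to X, from an invertible global function on X. -/
theorem result (n : Type u) [Finite n] (X : Scheme.{u}) [IsReduced X]
    (w : Γ(𝔸(n; X), ⊤)) (hw : IsUnit w) :
    ∃ v : Γ(X, ⊤), IsUnit v ∧ (𝔸(n; X) ↘ X).appTop v = w := by
  classical
  let s : X ⟶ 𝔸(n; X) := homOfVector (𝟙 X) 0
  have hs : s ≫ 𝔸(n; X) ↘ X = 𝟙 X := homOfVector_over _ _
  refine ⟨s.appTop w, hw.map s.appTop.hom, ?_⟩
  let 𝒰 := X.affineOpenCover
  have hopen : ∀ i, IsOpenImmersion (map n (𝒰.f i)) := fun i =>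
    MorphismProperty.of_isPullback (P := @IsOpenImmersion) (isPullback_map (n := n) (𝒰.f i)).flip
      (𝒰.map_prop i)
  let 𝒱 : 𝔸(n; X).OpenCover := Scheme.Cover.mkOfCovers 𝒰.I₀ (fun i => 𝔸(n; Spec (𝒰.X i)))
    (fun i => map n (𝒰.f i)) (by
      intro x
      obtain ⟨y, hy⟩ := 𝒰.covers ((𝔸(n; X) ↘ X).base x)
      obtain ⟨o, ho, -⟩ := Scheme.exists_preimage_of_isPullback
        (isPullback_map (n := n) (𝒰.f _)) x y hy.symm
      exact ⟨_, o, ho⟩) hopen
  apply 𝒱.ext_elem
  intro i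
  change (map n (𝒰.f i)).appTop _ = (map n (𝒰.f i)).appTop w
  have hι : IsOpenImmersion (𝒰.f i) := 𝒰.map_prop i
  have : IsReduced (Spec (𝒰.X i)) := isReduced_of_isOpenImmersion (𝒰.f i)
  obtain ⟨c, hc⟩ := affine_case n (𝒰.X i) ((map n (𝒰.f i)).appTop w)
    (hw.map (map n (𝒰.f i)).appTop.hom)
  let s' : Spec (𝒰.X i) ⟶ 𝔸(n; Spec (𝒰.X i)) := homOfVector (𝟙 _) 0
  have hs' : s' ≫ 𝔸(n; Spec (𝒰.X i)) ↘ Spec (𝒰.X i) = 𝟙 _ := homOfVector_over _ _
  have hcomm : s' ≫ map n (𝒰.f i) = 𝒰.f i ≫ s := by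
    apply AffineSpace.hom_ext
    · rw [Category.assoc, Category.assoc, hs, map_over, reassoc_of% hs', Category.comp_id]
    · intro k
      rw [Scheme.Hom.comp_appTop, Scheme.Hom.comp_appTop, CommRingCat.comp_apply,
        CommRingCat.comp_apply, map_appTop_coord, homOfVector_appTop_coord,
        homOfVector_appTop_coord]
      simp
  have e1 : ∀ a : Γ(X, ⊤), (map n (𝒰.f i)).appTop ((𝔸(n; X) ↘ X).appTop a)
      = (𝔸(n; Spec (𝒰.X i)) ↘ Spec (𝒰.X i)).appTop ((𝒰.f i).appTop a) := by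
    intro a
    rw [← CommRingCat.comp_apply, ← CommRingCat.comp_apply, ← Scheme.Hom.comp_appTop,
      ← Scheme.Hom.comp_appTop, map_over]
  have e2 : ∀ a : Γ(𝔸(n; X), ⊤), (𝒰.f i).appTop (s.appTop a)
      = s'.appTop ((map n (𝒰.f i)).appTop a) := by
    intro a
    rw [← CommRingCat.comp_apply, ← CommRingCat.comp_apply, ← Scheme.Hom.comp_appTop,
      ← Scheme.Hom.comp_appTop, hcomm]
  have e3 : ∀ a : Γ(Spec (𝒰.X i), ⊤),
      s'.appTop ((𝔸(n; Spec (𝒰.X i)) ↘ Spec (𝒰.X i)).appTop a) = a := by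
    intro a
    rw [← CommRingCat.comp_apply, ← Scheme.Hom.comp_appTop, hs']
    rfl
  rw [e1, e2, ← hc, e3]

end Groth.Agent.S13370
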