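import Groth.Statements.S13373
import Groth.Agent.Lib.Helper67.ExpP

set_option autoImplicit false
universe u
open GaDual

namespace Groth.Agent.S13373

/-- Over a commutative algebra A of prime characteristic p, the formal characters (power series χ with
constant term 1 and χ(X+Y) = χ(X)χ(Y)) are exactly the infinite products ∏_n exp_p(a_n X^(p^n)) with
a_n^p = 0, where exp_p(Y) = Σ_{j<p} Y^j/j!; the infinite product is expressed through its
truncations: χ mod X^(p^m) equals the finite product over n < m. -/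
theorem result (p : ℕ) [Fact p.Prime] (A : Type u) [CommRing A] [CharP A p]
    (χ : PowerSeries A) :
    (PowerSeries.constantCoeff χ = 1 ∧
      PowerSeries.subst (MvPowerSeries.X 0 + MvPowerSeries.X 1 : MvPowerSeries (Fin 2) A) χ =
        PowerSeries.subst (MvPowerSeries.X 0 : MvPowerSeries (Fin 2) A) χ *
          PowerSeries.subst (MvPowerSeries.X 1 : MvPowerSeries (Fin 2) A) χ) ↔
      ∃ a : ℕ → A, (∀ n, a n ^ p = 0) ∧ ∀ m : ℕ,
        PowerSeries.trunc (p ^ m) χ = ∏ n ∈ Finset.range m, ∑ j ∈ Finset.range p,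
          Polynomial.C (Ring.inverse (j.factorial : A) * a n ^ j) * Polynomial.X ^ (j * p ^ n) := by
  have hp1 : 1 < p := (Fact.out : p.Prime).one_lt
  constructor
  · rintro ⟨h0, hmul⟩
    have hc0 : PowerSeries.coeff 0 χ = 1 := by
      rw [PowerSeries.coeff_zero_eq_constantCoeff_apply]; exact h0
    have hrel : ∀ i j : ℕ, ((i + j).choose i : A) * PowerSeries.coeff (i + j) χ =
        PowerSeries.coeff i χ * PowerSeries.coeff j χ := by
      intro i j
      have := congrArg (MvPowerSeries.coeff (Finsupp.single (0 : Fin 2) i + Finsupp.single 1 j)) hmul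
      rw [Groth.Agent.Lib.Helper67.ExpP.coeff_subst_add,
        Groth.Agent.Lib.Helper67.ExpP.coeff_subst_mul] at this
      exact this
    refine ⟨fun l => PowerSeries.coeff (p ^ l) χ, ?_, ?_⟩
    · intro n
      exact (Groth.Agent.Lib.Helper67.ExpP.char_coeff p (n + 1) (fun k => PowerSeries.coeff k χ) hc0
        (fun i j _ _ => hrel i j)).2 n (Nat.lt_succ_self n)
    · intro m
      show PowerSeries.trunc (p ^ m) χ =
        Groth.Agent.Lib.Helper67.ExpP.P p m (fun l => PowerSeries.coeff (p ^ l) χ)
      ext k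
      rw [PowerSeries.coeff_trunc]
      by_cases hk : k < p ^ m
      · rw [if_pos hk]
        exact (Groth.Agent.Lib.Helper67.ExpP.char_coeff p m (fun k => PowerSeries.coeff k χ) hc0
          (fun i j _ _ => hrel i j)).1 k hk
      · rw [if_neg hk, Groth.Agent.Lib.Helper67.ExpP.coeff_P_eq_zero p m _ k (not_lt.1 hk)]
  · rintro ⟨a, ha, htr⟩
    have hck : ∀ m k : ℕ, k < p ^ m → PowerSeries.coeff k χ =
        (Groth.Agent.Lib.Helper67.ExpP.P p m a).coeff k := by
      intro m k hk
      have h1 : PowerSeries.trunc (p ^ m) χ = Groth.Agent.Lib.Helper67.ExpP.P p m a := htr m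
      rw [← h1, PowerSeries.coeff_trunc, if_pos hk]
    constructor
    · rw [← PowerSeries.coeff_zero_eq_constantCoeff_apply, hck 0 0 (by simp),
        Groth.Agent.Lib.Helper67.ExpP.coeff_P_zero]
    · ext e
      rw [Groth.Agent.Lib.Helper67.ExpP.fin2_eq_single_add e,
        Groth.Agent.Lib.Helper67.ExpP.coeff_subst_add,
        Groth.Agent.Lib.Helper67.ExpP.coeff_subst_mul]
      have hm : e 0 + e 1 < p ^ (e 0 + e 1 + 1) :=
        lt_trans (Nat.lt_succ_self _) (Nat.lt_pow_self hp1)
      rw [hck _ _ hm, hck (e 0 + e 1 + 1) (e 0) (by omega), hck (e 0 + e 1 + 1) (e 1) (by omega)]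
      exact Groth.Agent.Lib.Helper67.ExpP.coeff_rel _
        (Groth.Agent.Lib.Helper67.ExpP.aeval_P_add p _ a (fun l _ => ha l) _ _) (e 0) (e 1)

end Groth.Agent.S13373
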