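import Groth.Statements.S13378
import Groth.Agent.Lib.Helper67.ProfCompl
import Groth.Agent.Lib.Helper67.ProfSub

set_option autoImplicit false
universe u
open ProCompl

namespace Groth.Agent.S13378

open Groth.Agent.Lib.Helper67.ProfCompl

/-- For an abelian group A (written multiplicatively, discrete) and a subgroup A' such that the quotient
A/A' has no nontrivial divisible element and its torsion elements are killed by one positive
integer, the map induced on profinite completions by the inclusion of A' in A is injective. (The
published statement is for topological abelian groups in which every nA is open, with completions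
formed from open subgroups of finite index; this row is the case of the discrete topology.) -/
theorem result (A : Type u) [CommGroup A] (A' : Subgroup A)
    (hdiv : ∀ x : A ⧸ A', (∀ n : ℕ, 0 < n → ∃ y : A ⧸ A', y ^ n = x) → x = 1)
    (htors : ∃ N : ℕ, 0 < N ∧ ∀ x : A ⧸ A', IsOfFinOrder x → x ^ N = 1) :
    Function.Injective (ProfiniteGrp.profiniteCompletion.map (GrpCat.ofHom A'.subtype)).hom := by
  classical
  let i : GrpCat.of A' ⟶ GrpCat.of A := GrpCat.ofHom A'.subtype
  rw [injective_iff_map_eq_one]
  intro x hx
  have hx' : (ProfiniteGrp.profiniteCompletion.map i).hom x = 1 := hx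
  refine ext_ev (GrpCat.of A') x 1 ?_
  intro H'
  haveI : H'.toSubgroup.FiniteIndex := inferInstance
  obtain ⟨K0, hK0fin, hK0⟩ := Groth.Agent.Lib.Helper67.ProfSub.exists_finiteIndex_inf_le_mul A' hdiv htors
    H'.toSubgroup
  haveI : K0.Normal := Subgroup.normal_of_comm _
  let K : FiniteIndexNormalSubgroup (GrpCat.of A) := { toSubgroup := K0 }
  have h1 : qmap i K (ev (GrpCat.of A') (K.comap i.hom) x) =
      (1 : (ProfiniteGrp.ProfiniteCompletion.diagram (GrpCat.of A)).obj K) := by
    rw [← ev_map i K x, hx']
    rfl
  have hz : ev (GrpCat.of A') (K.comap i.hom) x = 1 := by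
    obtain ⟨a, ha⟩ := QuotientGroup.mk_surjective (ev (GrpCat.of A') (K.comap i.hom) x)
    rw [← ha] at h1 ⊢
    rw [qmap_mk] at h1
    have h2 : i.hom a ∈ K.toSubgroup := (QuotientGroup.eq_one_iff _).1 h1
    exact (QuotientGroup.eq_one_iff a).2 h2
  have hle : K.comap i.hom ≤ H' := by
    intro a ha
    exact hK0 a ha
  have h3 := ev_compat (GrpCat.of A') hle x
  rw [hz] at h3
  rw [← h3]
  exact (map_one (QuotientGroup.map (K.comap i.hom).toSubgroup H'.toSubgroup
    (MonoidHom.id (GrpCat.of A')) hle))

end Groth.Agent.S13378
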