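import Groth.Statements.S13379
import Groth.Agent.Lib.Helper67.ProfCompl

set_option autoImplicit false
universe u
open ProCompl

namespace Groth.Agent.S13379

open Groth.Agent.Lib.Helper67.ProfCompl

/-- Profinite completion is right exact: for an abelian group A (written multiplicatively, discrete) and
a subgroup A', the map on profinite completions induced by A → A/A' is surjective and its kernel is
the image of the completion of A'. (The published statement is right-exactness for topological
abelian groups with completions formed from open subgroups of finite index; this row is the case of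
the discrete topology.) -/
theorem result (A : Type u) [CommGroup A] (A' : Subgroup A) :
    Function.Surjective (ProfiniteGrp.profiniteCompletion.map (GrpCat.ofHom (QuotientGroup.mk' A'))).hom ∧
      (ProfiniteGrp.profiniteCompletion.map (GrpCat.ofHom (QuotientGroup.mk' A'))).hom.toMonoidHom.ker =
        (ProfiniteGrp.profiniteCompletion.map (GrpCat.ofHom A'.subtype)).hom.toMonoidHom.range := by
  classical
  let p : GrpCat.of A ⟶ GrpCat.of (A ⧸ A') := GrpCat.ofHom (QuotientGroup.mk' A')
  let i : GrpCat.of A' ⟶ GrpCat.of A := GrpCat.ofHom A'.subtype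
  have hpc : Continuous (ProfiniteGrp.profiniteCompletion.map p).hom :=
    (ProfiniteGrp.profiniteCompletion.map p).hom.continuous_toFun
  have hic : Continuous (ProfiniteGrp.profiniteCompletion.map i).hom :=
    (ProfiniteGrp.profiniteCompletion.map i).hom.continuous_toFun
  constructor
  · -- surjectivity
    have hclosed : IsClosed (Set.range (ProfiniteGrp.profiniteCompletion.map p).hom) :=
      (isCompact_range hpc).isClosed
    have hsub : Set.range (ProfiniteGrp.ProfiniteCompletion.etaFn (GrpCat.of (A ⧸ A'))) ⊆
        Set.range (ProfiniteGrp.profiniteCompletion.map p).hom := by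
      rintro _ ⟨q, rfl⟩
      obtain ⟨a, rfl⟩ := QuotientGroup.mk_surjective q
      exact ⟨ProfiniteGrp.ProfiniteCompletion.etaFn (GrpCat.of A) a, map_eta p a⟩
    have hdense : Dense (Set.range (ProfiniteGrp.profiniteCompletion.map p).hom) :=
      (ProfiniteGrp.ProfiniteCompletion.denseRange (GrpCat.of (A ⧸ A'))).mono hsub
    intro y
    have : y ∈ closure (Set.range (ProfiniteGrp.profiniteCompletion.map p).hom) := hdense y
    rwa [hclosed.closure_eq] at this
  · ext x
    rw [MonoidHom.mem_ker, MonoidHom.mem_range]
    constructor
    · intro hx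
      have hx' : (ProfiniteGrp.profiniteCompletion.map p).hom x = 1 := hx
      have hclosed : IsClosed (Set.range (ProfiniteGrp.profiniteCompletion.map i).hom) :=
        (isCompact_range hic).isClosed
      suffices hmem : x ∈ closure (Set.range (ProfiniteGrp.profiniteCompletion.map i).hom) by
        rw [hclosed.closure_eq] at hmem
        exact hmem
      refine (mem_closure_iff_ev (GrpCat.of A) _ x).2 ?_
      intro H
      -- the image of H in the quotient
      have hKn : (H.toSubgroup.map (QuotientGroup.mk' A')).Normal := Subgroup.normal_of_comm _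
      have hKf : (H.toSubgroup.map (QuotientGroup.mk' A')).FiniteIndex := by
        constructor
        intro h0
        have := Subgroup.index_map_dvd H.toSubgroup (QuotientGroup.mk'_surjective A')
        rw [h0, zero_dvd_iff] at this
        exact Subgroup.FiniteIndex.index_ne_zero this
      let K : FiniteIndexNormalSubgroup (GrpCat.of (A ⧸ A')) :=
        { toSubgroup := H.toSubgroup.map (QuotientGroup.mk' A') }
      have h1 : (1 : (ProfiniteGrp.ProfiniteCompletion.diagram (GrpCat.of (A ⧸ A'))).obj K) =
          qmap p K (ev (GrpCat.of A) (K.comap p.hom) x) := by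
        rw [← ev_map p K x, hx']
        rfl
      -- z = ev at comap is trivial
      have hz : ev (GrpCat.of A) (K.comap p.hom) x = 1 := by
        obtain ⟨a, ha⟩ := QuotientGroup.mk_surjective (ev (GrpCat.of A) (K.comap p.hom) x)
        rw [← ha] at h1 ⊢
        rw [qmap_mk] at h1
        have h2 : p.hom a ∈ K.toSubgroup := (QuotientGroup.eq_one_iff _).1 h1.symm
        exact (QuotientGroup.eq_one_iff a).2 h2
      have hle : H ≤ K.comap p.hom := by
        intro a ha
        exact Subgroup.mem_map_of_mem _ ha
      have h3 := ev_compat (GrpCat.of A) hle x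
      rw [hz] at h3
      obtain ⟨a₀, ha₀⟩ := QuotientGroup.mk_surjective (ev (GrpCat.of A) H x)
      rw [← ha₀] at h3
      have h4 : a₀ ∈ (K.comap p.hom).toSubgroup := by
        have : (QuotientGroup.mk a₀ : A ⧸ (K.comap p.hom).toSubgroup) = 1 := h3
        exact (QuotientGroup.eq_one_iff a₀).1 this
      obtain ⟨h, hhH, hh⟩ := Subgroup.mem_map.1 h4
      have h5 : a₀ * h⁻¹ ∈ A' := by
        have : (QuotientGroup.mk' A') (a₀ * h⁻¹) = 1 := by
          rw [map_mul, map_inv, hh]
          exact mul_inv_cancel _
        exact (QuotientGroup.eq_one_iff _).1 this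
      refine ⟨ProfiniteGrp.ProfiniteCompletion.etaFn (GrpCat.of A) (a₀ * h⁻¹),
        ⟨ProfiniteGrp.ProfiniteCompletion.etaFn (GrpCat.of A') ⟨a₀ * h⁻¹, h5⟩, map_eta i _⟩, ?_⟩
      rw [ev_eta, ← ha₀]
      apply QuotientGroup.eq.2
      have : (a₀ * h⁻¹)⁻¹ * a₀ = h := by group
      rw [this]
      exact hhH
    · rintro ⟨y, rfl⟩
      have hcl : IsClosed {y | (ProfiniteGrp.profiniteCompletion.map p).hom
          ((ProfiniteGrp.profiniteCompletion.map i).hom y) = 1} :=
        isClosed_eq (hpc.comp hic) continuous_const
      have hsub : Set.range (ProfiniteGrp.ProfiniteCompletion.etaFn (GrpCat.of A')) ⊆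
          {y | (ProfiniteGrp.profiniteCompletion.map p).hom
            ((ProfiniteGrp.profiniteCompletion.map i).hom y) = 1} := by
        rintro _ ⟨a', rfl⟩
        show (ProfiniteGrp.profiniteCompletion.map p).hom
            ((ProfiniteGrp.profiniteCompletion.map i).hom _) = 1
        rw [map_eta, map_eta]
        have : p.hom (i.hom a') = 1 := (QuotientGroup.eq_one_iff _).2 a'.2
        rw [this]
        rfl
      have := (ProfiniteGrp.ProfiniteCompletion.denseRange (GrpCat.of A')).closure_eq
      have hy : y ∈ closure (Set.range (ProfiniteGrp.ProfiniteCompletion.etaFn (GrpCat.of A'))) := by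
        rw [this]; trivial
      exact (hcl.closure_subset_iff.2 hsub) hy

end Groth.Agent.S13379
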