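import Groth.Statements.S13380
import Groth.Agent.Lib.Helper85.GaGmStep
import Groth.Agent.Lib.Helper85.GaGmRoots

set_option autoImplicit false
universe u
open GaDual
open Groth.Agent.Lib.Helper85.GaGm

namespace Groth.Agent.S13380

/-- Over a commutative ring R of prime characteristic p whose Frobenius is surjective, every commutative
extension of the additive group by the multiplicative group that has a scheme-theoretic section
splits. In the coordinates given by such a section the extension is the product G_m × G_a with law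
(t,x)(t',x') = (tt'h(x,x'), x+x') for an invertible polynomial h with h(X,0) = 1, h symmetric and
h(Y,Z)h(X,Y+Z) = h(X+Y,Z)h(X,Y), and a group-theoretic section is an invertible polynomial f with
f(X+Y) = f(X)f(Y)h(X,Y); the row states the existence of such f for every such h. -/
theorem result (p : ℕ) [Fact p.Prime] (R : Type u)
    [CommRing R] [CharP R p] (hF : Function.Surjective (frobenius R p))
    (h : MvPolynomial (Fin 2) R) (hu : IsUnit h)
    (h0 : MvPolynomial.aeval ![(MvPolynomial.X 0 : MvPolynomial (Fin 2) R), 0] h = 1)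
    (hsymm : MvPolynomial.aeval ![(MvPolynomial.X 1 : MvPolynomial (Fin 2) R), MvPolynomial.X 0] h = h)
    (hcoc : MvPolynomial.aeval ![(MvPolynomial.X 1 : MvPolynomial (Fin 3) R), MvPolynomial.X 2] h *
        MvPolynomial.aeval ![MvPolynomial.X 0, MvPolynomial.X 1 + MvPolynomial.X 2] h =
      MvPolynomial.aeval ![MvPolynomial.X 0 + MvPolynomial.X 1, MvPolynomial.X 2] h *
        MvPolynomial.aeval ![MvPolynomial.X 0, MvPolynomial.X 1] h) :
    ∃ f : Polynomial R, IsUnit f ∧
      Polynomial.aeval (MvPolynomial.X 0 + MvPolynomial.X 1 : MvPolynomial (Fin 2) R) f =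
        Polynomial.aeval (MvPolynomial.X 0 : MvPolynomial (Fin 2) R) f *
          Polynomial.aeval (MvPolynomial.X 1 : MvPolynomial (Fin 2) R) f * h := by
  classical
  have hp := (Fact.out : p.Prime)
  obtain ⟨hU, hhU⟩ : ∃ hU : (MvPolynomial (Fin 2) R)ˣ, (hU : MvPolynomial (Fin 2) R) = h :=
    ⟨hu.unit, hu.unit_spec⟩
  -- `h` is a symmetric multiplicative cocycle
  have hZ : hU ∈ (Zc : Subgroup (MvPolynomial (Fin 2) R)ˣ) := by
    rw [mem_Zc]
    constructor
    · apply Units.ext
      rw [um_val, hhU]
      exact hsymm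
    · apply Units.ext
      rw [Units.val_mul, Units.val_mul, um_val, um_val, um_val, um_val, hhU]
      exact hcoc
  -- the constant coefficient
  have key : ∀ q : MvPolynomial (Fin 2) R, MvPolynomial.aeval (fun _ : Fin 2 => (0 : R))
      (MvPolynomial.aeval ![(MvPolynomial.X 0 : MvPolynomial (Fin 2) R), 0] q) =
      MvPolynomial.constantCoeff q := by
    intro q
    induction q using MvPolynomial.induction_on with
    | C a => simp
    | add p q hp hq => simp only [map_add, hp, hq]
    | mul_X p i hp =>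
      fin_cases i <;> simp
  have hc0 : MvPolynomial.coeff 0 h = 1 := by
    have := key h
    rw [h0, map_one] at this
    exact this.symm
  -- nilpotency of the coefficients of `h - 1`
  have hnilc : ∀ m, IsNilpotent (MvPolynomial.coeff m (h - 1)) := by
    intro m
    by_cases hm : m = 0
    · subst hm
      rw [MvPolynomial.coeff_sub, hc0, MvPolynomial.coeff_one, if_pos rfl, sub_self]
      exact IsNilpotent.zero
    · rw [MvPolynomial.coeff_sub, MvPolynomial.coeff_one, if_neg (Ne.symm hm), sub_zero]
      exact (MvPolynomial.isUnit_iff.1 hu).2 m hm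
  obtain ⟨a, ha⟩ : ∃ a : ↥((h - 1).support) → R,
      ∀ m : ↥((h - 1).support), a m = MvPolynomial.coeff (m : Fin 2 →₀ ℕ) (h - 1) :=
    ⟨fun m => MvPolynomial.coeff (m : Fin 2 →₀ ℕ) (h - 1), fun m => rfl⟩
  have hanil : ∀ j, ∃ n : ℕ, a j ^ n = 0 := fun j => by rw [ha]; exact hnilc j
  choose nj hnj using hanil
  obtain ⟨n, hn⟩ : ∃ n : ℕ, n = Finset.univ.sup nj := ⟨_, rfl⟩
  have han : ∀ j, a j ^ p ^ n = 0 := by
    intro j
    have h1 : nj j ≤ n := hn ▸ Finset.le_sup (Finset.mem_univ j)
    have h2 : n ≤ p ^ n := (Nat.lt_pow_self hp.one_lt).le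
    exact pow_eq_zero_of_le (h1.trans h2) (hnj j)
  -- base case
  have hbase : hU ∈ congr1 (Ideal.map (MvPolynomial.C : R →+* MvPolynomial (Fin 2) R)
      (rootIdeal p hF a 0)) := by
    rw [mem_congr1, hhU, MvPolynomial.mem_map_C_iff, rootIdeal_zero]
    intro m
    by_cases hm : m ∈ (h - 1).support
    · have : MvPolynomial.coeff m (h - 1) = a ⟨m, hm⟩ := by rw [ha]
      rw [this]
      exact Ideal.subset_span (Set.mem_range_self _)
    · rw [MvPolynomial.notMem_support_iff.1 hm]
      exact Ideal.zero_mem _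
  -- the induction
  have hind : ∀ k : ℕ, ∃ u : (Polynomial R)ˣ, hU * (bd u)⁻¹ ∈
      congr1 (Ideal.map (MvPolynomial.C : R →+* MvPolynomial (Fin 2) R)
        (rootIdeal p hF a k ^ (p + 1) ^ k)) := by
    intro k
    induction k with
    | zero =>
      refine ⟨1, ?_⟩
      rw [map_one, inv_one, mul_one, pow_zero, pow_one]
      exact hbase
    | succ k ih =>
      obtain ⟨u, hu'⟩ := ih
      have hZ' : hU * (bd u)⁻¹ ∈ (Zc : Subgroup (MvPolynomial (Fin 2) R)ˣ) :=
        Zc.mul_mem hZ (Zc.inv_mem (bd_mem_Zc u))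
      have hne : (p + 1) ^ k ≠ 0 := pow_ne_zero _ (Nat.succ_ne_zero p)
      obtain ⟨u', hu''⟩ := step p (rootIdeal p hF a k ^ (p + 1) ^ k)
        (rootIdeal p hF a (k + 1) ^ (p + 1) ^ (k + 1))
        ((Ideal.pow_le_self hne).trans (rootIdeal_le_nilradical p hF a n han k))
        (by
          rw [← pow_mul]
          refine (Ideal.pow_right_mono (rootIdeal_le p hF a k) _).trans ?_
          rw [← pow_mul]
          apply Ideal.pow_le_pow_right
          rw [pow_succ]
          have : (p + 1) ^ k * (p + 1) ≤ (p + 1) ^ k * (p * 2) := Nat.mul_le_mul_left _ (by have := hp.pos; omega)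
          calc (p + 1) ^ k * (p + 1) ≤ (p + 1) ^ k * (p * 2) := this
            _ = p * ((p + 1) ^ k * 2) := by ring)
        (by
          intro r hr
          obtain ⟨y, hy, hyr⟩ := rootIdeal_pow_roots p hF a k _ r hr
          refine ⟨y, hyr, ?_⟩
          rw [pow_succ, pow_mul]
          exact Ideal.pow_mem_pow hy _)
        _ hZ' hu'
      refine ⟨u * u', ?_⟩
      have : hU * (bd (u * u'))⁻¹ = hU * (bd u)⁻¹ * (bd u')⁻¹ := by
        rw [map_mul, mul_inv, mul_assoc]
      rw [this]
      exact hu''
  -- termination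
  obtain ⟨K, hK⟩ := exists_numeric p (Fintype.card ((h - 1).support : Type _)) n hp.pos
  obtain ⟨u, hu'⟩ := hind K
  have hbot : rootIdeal p hF a K ^ (p + 1) ^ K = ⊥ := by
    rw [eq_bot_iff, ← rootIdeal_pow_eq_bot p hF a n han K]
    exact Ideal.pow_le_pow_right hK
  rw [hbot, Ideal.map_bot] at hu'
  have h1 := eq_one_of_mem_congr1_bot hu'
  rw [mul_inv_eq_one] at h1
  refine ⟨(u : Polynomial R), u.isUnit, ?_⟩
  rw [← hhU]
  exact eq_of_eq_bd h1

end Groth.Agent.S13380
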