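import Groth.Statements.S13386
-- import your own Groth.Agent.* helpers here

set_option autoImplicit false
universe u
open scoped TensorProduct
open ZeroCyc

namespace Groth.Agent.S13386

/-- Let A' = T⁻¹A be a localization of the ring A, M an A-module and M' = A' ⊗_A M. In the divided power
algebra Γ_{A'}(M') the A'-span of the d-th divided powers γ_d(1 ⊗ m), m ∈ M, is the A'-span of
γ_d(M'). (The published statement phrases this as the surjectivity of the natural map from (γ_d(M))
⊗_A A' onto (γ_d(M')); its further clause through the base-change isomorphism Γ_A(M) ⊗_A A' ≅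
Γ_{A'}(M') is not restated here.) -/
theorem result {A A' M : Type u} [CommRing A] [CommRing A']
    [Algebra A A'] (T : Submonoid A) [IsLocalization T A'] [AddCommGroup M] [Module A M] (d : ℕ) :
    Submodule.span A' (Set.range fun m : M => DividedPowerAlgebra.dp A' d ((1 : A') ⊗ₜ[A] m)) =
      Submodule.span A' (Set.range (DividedPowerAlgebra.dp A' d (M := A' ⊗[A] M))) := by
  -- every element of the base change is a unit multiple of some `1 ⊗ m`
  have hsurj : ∀ x : A' ⊗[A] M, ∃ (c : A') (m : M), c • ((1 : A') ⊗ₜ[A] m) = x := by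
    intro x
    induction x using TensorProduct.induction_on with
    | zero => exact ⟨0, 0, by simp⟩
    | tmul a' m =>
      refine ⟨a', m, ?_⟩
      rw [TensorProduct.smul_tmul', smul_eq_mul, mul_one]
    | add x y hx hy =>
      obtain ⟨c1, m1, rfl⟩ := hx
      obtain ⟨c2, m2, rfl⟩ := hy
      -- common denominator
      obtain ⟨⟨a1, t1⟩, h1⟩ := IsLocalization.surj T c1
      obtain ⟨⟨a2, t2⟩, h2⟩ := IsLocalization.surj T c2
      simp only at h1 h2
      obtain ⟨u1, hu1⟩ := (IsLocalization.map_units A' t1).exists_right_inv
      obtain ⟨u2, hu2⟩ := (IsLocalization.map_units A' t2).exists_right_inv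
      refine ⟨u1 * u2, (t2 : A) • a1 • m1 + (t1 : A) • a2 • m2, ?_⟩
      have e1 : c1 = u1 * u2 * (algebraMap A A' t2 * algebraMap A A' a1) := by
        calc c1 = c1 * (algebraMap A A' t1 * u1) * (algebraMap A A' t2 * u2) := by
              rw [hu1, hu2, mul_one, mul_one]
          _ = (c1 * algebraMap A A' t1) * u1 * (algebraMap A A' t2 * u2) := by ring
          _ = u1 * u2 * (algebraMap A A' t2 * algebraMap A A' a1) := by rw [h1]; ring
      have e2 : c2 = u1 * u2 * (algebraMap A A' t1 * algebraMap A A' a2) := by
        calc c2 = c2 * (algebraMap A A' t2 * u2) * (algebraMap A A' t1 * u1) := by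
              rw [hu1, hu2, mul_one, mul_one]
          _ = (c2 * algebraMap A A' t2) * u2 * (algebraMap A A' t1 * u1) := by ring
          _ = u1 * u2 * (algebraMap A A' t1 * algebraMap A A' a2) := by rw [h2]; ring
      have key : ∀ (a b : A) (m : M), ((1 : A') ⊗ₜ[A] (a • b • m)) =
          (algebraMap A A' a * algebraMap A A' b) • ((1 : A') ⊗ₜ[A] m) := by
        intro a b m
        rw [TensorProduct.tmul_smul, TensorProduct.tmul_smul, TensorProduct.smul_tmul',
          TensorProduct.smul_tmul', TensorProduct.smul_tmul', Algebra.smul_def, Algebra.smul_def,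
          mul_one, smul_eq_mul, mul_one]
      rw [TensorProduct.tmul_add, smul_add, key, key, smul_smul, smul_smul, ← e1, ← e2]
  apply le_antisymm
  · apply Submodule.span_mono
    rintro y ⟨m, rfl⟩
    exact ⟨_, rfl⟩
  · rw [Submodule.span_le]
    rintro y ⟨x, rfl⟩
    obtain ⟨c, m, rfl⟩ := hsurj x
    simp only [DividedPowerAlgebra.dp_smul]
    exact Submodule.smul_mem _ _ (Submodule.subset_span ⟨m, rfl⟩)

end Groth.Agent.S13386
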