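import Groth.Statements.S13387
import Mathlib

set_option autoImplicit false
universe u
open ZeroCyc

namespace Groth.Agent.S13387

section Aux

open DividedPowerAlgebra

variable {A M : Type u} [CommRing A] [AddCommGroup M] [Module A M]

/-- local-to-global for membership in a submodule -/
lemma mem_of_forall_prime {Q : Type*} [AddCommGroup Q] [Module A Q] (N : Submodule A Q) (x : Q)
    (h : ∀ P : PrimeSpectrum A, ∃ s : A, s ∉ P.asIdeal ∧ s • x ∈ N) : x ∈ N := by
  let I : Ideal A :=
    { carrier := {s | s • x ∈ N}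
      add_mem' := fun {a b} ha hb => by
        show (a + b) • x ∈ N
        rw [add_smul]; exact N.add_mem ha hb
      zero_mem' := by
        show (0 : A) • x ∈ N
        rw [zero_smul]; exact N.zero_mem
      smul_mem' := fun c a ha => by
        show (c • a) • x ∈ N
        rw [smul_assoc]; exact N.smul_mem c ha }
  by_contra hx
  have hI : I ≠ ⊤ := by
    intro h'
    apply hx
    have h1 : (1 : A) ∈ I := by rw [h']; trivial
    have h2 : (1 : A) • x ∈ N := h1
    rwa [one_smul] at h2
  obtain ⟨m, hm, hIm⟩ := Ideal.exists_le_maximal I hI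
  obtain ⟨s, hs, hsx⟩ := h ⟨m, hm.isPrime⟩
  exact hs (hIm hsx)

/-- the span of the `e`-th divided powers -/
noncomputable abbrev spanDp (A M : Type u) [CommRing A] [AddCommGroup M] [Module A M] (e : ℕ) :
    Submodule A (DividedPowerAlgebra A M) :=
  Submodule.span A (Set.range (dp A e : M → DividedPowerAlgebra A M))

/-- two-factor polarization away from a prime, with `r = e - 1` nonzero distinct nodes mod `P` -/
lemma two_factor_local (P : Ideal A) [P.IsPrime] (r : ℕ) (t : Fin r → A) (ht : ∀ j, t j ∉ P)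
    (htd : ∀ i j, i ≠ j → t i - t j ∉ P) (a b : ℕ) (hab : a + b = r + 1) (m n : M) :
    ∃ s : A, s ∉ P ∧ s • (dp A a m * dp A b n) ∈ spanDp A M (r + 1) := by
  classical
  have h1P : (1 : A) ∉ P := fun h => (Ideal.IsPrime.ne_top ‹_›) ((Ideal.eq_top_iff_one P).2 h)
  by_cases hb0 : b = 0
  · subst hb0
    refine ⟨1, h1P, ?_⟩
    rw [one_smul, dp_zero, mul_one]
    have : a = r + 1 := by omega
    rw [this]
    exact Submodule.subset_span ⟨m, rfl⟩
  by_cases ha0 : a = 0
  · subst ha0
    refine ⟨1, h1P, ?_⟩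
    rw [one_smul, dp_zero, one_mul]
    have : b = r + 1 := by omega
    rw [this]
    exact Submodule.subset_span ⟨n, rfl⟩
  -- the matrix
  set V : Matrix (Fin r) (Fin r) A := Matrix.of fun j q => t j * Matrix.vandermonde t j q with hV
  have hdet : V.det = (∏ j, t j) * ∏ i : Fin r, ∏ j ∈ Finset.Ioi i, (t j - t i) := by
    rw [hV, Matrix.det_mul_column, Matrix.det_vandermonde]
  have hdetP : V.det ∉ P := by
    rw [hdet]
    intro h
    rcases (Ideal.IsPrime.mul_mem_iff_mem_or_mem ‹_›).1 h with h | h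
    · obtain ⟨j, _, hj⟩ := Ideal.IsPrime.prod_mem_iff.1 h
      exact ht j hj
    · obtain ⟨i, _, hi⟩ := Ideal.IsPrime.prod_mem_iff.1 h
      obtain ⟨j, hj, hij⟩ := Ideal.IsPrime.prod_mem_iff.1 hi
      exact htd j i (ne_of_gt (Finset.mem_Ioi.1 hj)) hij
  -- the vectors
  let w : Fin r → DividedPowerAlgebra A M := fun q =>
    dp A ((q : ℕ) + 1) n * dp A (r - (q : ℕ)) m
  let c : Fin r → DividedPowerAlgebra A M := fun j =>
    dp A (r + 1) (t j • n + m) - dp A (r + 1) m - t j ^ (r + 1) • dp A (r + 1) n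
  have hcS : ∀ j, c j ∈ spanDp A M (r + 1) := fun j =>
    Submodule.sub_mem _ (Submodule.sub_mem _ (Submodule.subset_span ⟨_, rfl⟩)
      (Submodule.subset_span ⟨_, rfl⟩)) (Submodule.smul_mem _ _ (Submodule.subset_span ⟨_, rfl⟩))
  have hc : ∀ j, c j = ∑ q, V j q • w q := by
    intro j
    show dp A (r + 1) (t j • n + m) - dp A (r + 1) m - t j ^ (r + 1) • dp A (r + 1) n = _
    rw [dp_add, Finset.Nat.sum_antidiagonal_eq_sum_range_succ_mk, Finset.sum_range_succ,
      Finset.sum_range_succ', Finset.sum_range]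
    simp only [dp_smul, dp_zero, pow_zero, one_smul, one_mul, mul_one, Nat.sub_zero, Nat.sub_self]
    have : ∀ q : Fin r, V j q • w q =
        t j ^ ((q : ℕ) + 1) • dp A ((q : ℕ) + 1) n * dp A (r + 1 - ((q : ℕ) + 1)) m := by
      intro q
      show (t j * t j ^ (q : ℕ)) • (dp A ((q : ℕ) + 1) n * dp A (r - (q : ℕ)) m) = _
      rw [smul_mul_assoc, ← pow_succ']
      congr 3
      omega
    rw [Finset.sum_congr rfl (fun q _ => this q)]
    abel
  have hw : ∀ q, V.det • w q = ∑ j, V.adjugate q j • c j := by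
    intro q
    have h1 : ∀ j, V.adjugate q j • c j = ∑ q', (V.adjugate q j * V j q') • w q' := by
      intro j
      rw [hc j, Finset.smul_sum]
      exact Finset.sum_congr rfl (fun q' _ => by rw [smul_smul])
    rw [Finset.sum_congr rfl (fun j _ => h1 j), Finset.sum_comm]
    have h2 : ∀ q', ∑ j, (V.adjugate q j * V j q') • w q' = ((V.adjugate * V) q q') • w q' := by
      intro q'
      rw [Matrix.mul_apply, Finset.sum_smul]
    rw [Finset.sum_congr rfl (fun q' _ => h2 q'), Matrix.adjugate_mul]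
    simp only [Matrix.smul_apply, Matrix.one_apply, smul_eq_mul, mul_ite, mul_one, mul_zero,
      ite_smul, zero_smul]
    rw [Finset.sum_ite_eq, if_pos (Finset.mem_univ q)]
  have hb1 : b - 1 < r := by omega
  refine ⟨V.det, hdetP, ?_⟩
  have e2 : w ⟨b - 1, hb1⟩ = dp A a m * dp A b n := by
    show dp A (b - 1 + 1) n * dp A (r - (b - 1)) m = _
    have h1 : b - 1 + 1 = b := by omega
    have h2 : r - (b - 1) = a := by omega
    rw [h1, h2, mul_comm]
  rw [← e2, hw]
  exact Submodule.sum_mem _ (fun j _ => Submodule.smul_mem _ _ (hcS j))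

/-- multiplication by a divided power, away from a prime -/
lemma mul_mem_local (P : Ideal A) [P.IsPrime] (d : ℕ) (t : Fin (d - 1) → A) (ht : ∀ j, t j ∉ P)
    (htd : ∀ i j, i ≠ j → t i - t j ∉ P) (a e' : ℕ) (hae : a + e' ≤ d) (m : M) :
    ∀ y ∈ spanDp A M e', ∃ s : A, s ∉ P ∧ s • (dp A a m * y) ∈ spanDp A M (a + e') := by
  have h1P : (1 : A) ∉ P := fun h => (Ideal.IsPrime.ne_top ‹_›) ((Ideal.eq_top_iff_one P).2 h)
  intro y hy
  induction hy using Submodule.span_induction with
  | mem z hz =>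
    obtain ⟨n, rfl⟩ := hz
    by_cases h0 : a + e' = 0
    · have ha : a = 0 := by omega
      have he : e' = 0 := by omega
      subst ha he
      refine ⟨1, h1P, ?_⟩
      rw [one_smul, dp_zero, dp_zero, mul_one]
      exact Submodule.subset_span ⟨0, dp_zero⟩
    · obtain ⟨r', hr'⟩ : ∃ r', a + e' = r' + 1 := ⟨a + e' - 1, by omega⟩
      have hle : r' ≤ d - 1 := by omega
      obtain ⟨s, hs, hmem⟩ := two_factor_local P r' (fun j => t (Fin.castLE hle j))
        (fun j => ht _) (fun i j hij => htd _ _ (fun h => hij (Fin.castLE_injective hle h)))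
        a e' hr' m n
      rw [← hr'] at hmem
      exact ⟨s, hs, hmem⟩
  | zero =>
    refine ⟨1, h1P, ?_⟩
    rw [mul_zero, smul_zero]; exact Submodule.zero_mem _
  | add x y _ _ hx hy =>
    obtain ⟨sx, hsx, hx'⟩ := hx
    obtain ⟨sy, hsy, hy'⟩ := hy
    refine ⟨sx * sy, fun h => ?_, ?_⟩
    · rcases (Ideal.IsPrime.mul_mem_iff_mem_or_mem ‹_›).1 h with h | h
      · exact hsx h
      · exact hsy h
    · rw [mul_add, smul_add]
      refine Submodule.add_mem _ ?_ ?_
      · rw [mul_comm sx sy, mul_smul]; exact Submodule.smul_mem _ _ hx'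
      · rw [mul_smul]; exact Submodule.smul_mem _ _ hy'
  | smul c x _ hx =>
    obtain ⟨sx, hsx, hx'⟩ := hx
    refine ⟨sx, hsx, ?_⟩
    rw [mul_smul_comm, smul_comm]
    exact Submodule.smul_mem _ _ hx'

lemma prod_mem_local (P : Ideal A) [P.IsPrime] (d : ℕ) (t : Fin (d - 1) → A) (ht : ∀ j, t j ∉ P)
    (htd : ∀ i j, i ≠ j → t i - t j ∉ P) :
    ∀ (r : ℕ) (k : Fin r → ℕ) (m : Fin r → M), (∑ i, k i) ≤ d →
      ∃ s : A, s ∉ P ∧ s • ∏ i, dp A (k i) (m i) ∈ spanDp A M (∑ i, k i) := by
  have h1P : (1 : A) ∉ P := fun h => (Ideal.IsPrime.ne_top ‹_›) ((Ideal.eq_top_iff_one P).2 h)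
  intro r
  induction r with
  | zero =>
    intro k m _
    refine ⟨1, h1P, ?_⟩
    simp only [Finset.univ_eq_empty, Finset.prod_empty, Finset.sum_empty, one_smul]
    exact Submodule.subset_span ⟨0, dp_zero⟩
  | succ r ih =>
    intro k m hk
    rw [Fin.prod_univ_succ, Fin.sum_univ_succ]
    rw [Fin.sum_univ_succ] at hk
    have hk' : (∑ i : Fin r, k i.succ) ≤ d := by omega
    obtain ⟨s₁, hs₁, htail⟩ := ih (fun i => k i.succ) (fun i => m i.succ) hk'
    obtain ⟨s₂, hs₂, h2⟩ := mul_mem_local P d t ht htd (k 0) _ hk (m 0) _ htail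
    refine ⟨s₂ * s₁, fun h => ?_, ?_⟩
    · rcases (Ideal.IsPrime.mul_mem_iff_mem_or_mem ‹_›).1 h with h | h
      · exact hs₂ h
      · exact hs₁ h
    · rw [mul_smul, ← mul_smul_comm]
      exact h2

/-- all divided powers of a single element: products are multiples of one divided power -/
lemma prod_dp_same (m₀ : M) : ∀ (r : ℕ) (k : Fin r → ℕ),
    ∏ i, dp A (k i) m₀ ∈ spanDp A M (∑ i, k i) := by
  intro r
  induction r with
  | zero =>
    intro k
    simp only [Finset.univ_eq_empty, Finset.prod_empty, Finset.sum_empty]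
    exact Submodule.subset_span ⟨0, dp_zero⟩
  | succ r ih =>
    intro k
    rw [Fin.prod_univ_succ, Fin.sum_univ_succ]
    -- the tail is a multiple of `dp _ m₀`: strengthen
    have htail : ∀ (r : ℕ) (k : Fin r → ℕ), ∃ c : A, ∏ i, dp A (k i) m₀ = c • dp A (∑ i, k i) m₀ := by
      intro r
      induction r with
      | zero =>
        intro k
        refine ⟨1, ?_⟩
        simp only [Finset.univ_eq_empty, Finset.prod_empty, Finset.sum_empty, one_smul]
        exact dp_zero.symm
      | succ r ih' =>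
        intro k
        obtain ⟨c, hc⟩ := ih' (fun i => k i.succ)
        refine ⟨c * ((k 0 + ∑ i : Fin r, k i.succ).choose (k 0) : A), ?_⟩
        rw [Fin.prod_univ_succ, Fin.sum_univ_succ, hc, mul_smul_comm, dp_mul, mul_smul,
          Nat.cast_smul_eq_nsmul]
    obtain ⟨c, hc⟩ := htail (r + 1) k
    rw [Fin.prod_univ_succ, Fin.sum_univ_succ] at hc
    rw [hc]
    exact Submodule.smul_mem _ _ (Submodule.subset_span ⟨m₀, rfl⟩)

lemma exists_gen_of_cyclic (P : Ideal A) [P.IsPrime]
    (x : LocalizedModule P.primeCompl M)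
    (hx : Submodule.span (Localization.AtPrime P) {x} = ⊤) :
    ∃ m₀ : M, ∀ m : M, ∃ s : A, s ∉ P ∧ ∃ a : A, s • m = a • m₀ := by
  induction x using LocalizedModule.induction_on with
  | h m₀ s₀ =>
    refine ⟨m₀, fun m => ?_⟩
    have hm : LocalizedModule.mk m (1 : P.primeCompl) ∈
        Submodule.span (Localization.AtPrime P) {LocalizedModule.mk m₀ s₀} := by
      rw [hx]; trivial
    obtain ⟨c, hc⟩ := Submodule.mem_span_singleton.1 hm
    obtain ⟨a, s, rfl⟩ := IsLocalization.exists_mk'_eq P.primeCompl c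
    rw [← Localization.mk_eq_mk', LocalizedModule.mk_smul_mk, LocalizedModule.mk_eq] at hc
    obtain ⟨u, hu⟩ := hc
    refine ⟨(u : A) * ((s : A) * (s₀ : A)), ?_, (u : A) * a, ?_⟩
    · intro h
      rcases (Ideal.IsPrime.mul_mem_iff_mem_or_mem ‹_›).1 h with h | h
      · exact u.2 h
      · rcases (Ideal.IsPrime.mul_mem_iff_mem_or_mem ‹_›).1 h with h | h
        · exact s.2 h
        · exact s₀.2 h
    · have hu' : (u : A) • ((1 : P.primeCompl) : A) • a • m₀ = (u : A) • ((s * s₀ : P.primeCompl) : A) • m :=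
        hu
      rw [Submonoid.coe_one, one_smul, Submonoid.coe_mul] at hu'
      rw [mul_smul (u : A) a, hu', mul_smul]

lemma prod_mem_local_cyclic (P : Ideal A) [P.IsPrime] (m₀ : M)
    (hm₀ : ∀ m : M, ∃ s : A, s ∉ P ∧ ∃ a : A, s • m = a • m₀)
    (r : ℕ) (k : Fin r → ℕ) (m : Fin r → M) :
    ∃ s : A, s ∉ P ∧ s • ∏ i, dp A (k i) (m i) ∈ spanDp A M (∑ i, k i) := by
  choose s hs a ha using hm₀
  refine ⟨∏ i, s (m i) ^ k i, fun h => ?_, ?_⟩
  · obtain ⟨i, _, hi⟩ := Ideal.IsPrime.prod_mem_iff.1 h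
    exact hs (m i) (Ideal.IsPrime.mem_of_pow_mem ‹_› _ hi)
  · have h1 : (∏ i, s (m i) ^ k i) • ∏ i, dp A (k i) (m i) =
        (∏ i, a (m i) ^ k i) • ∏ i, dp A (k i) m₀ := by
      rw [← Finset.prod_smul, ← Finset.prod_smul]
      refine Finset.prod_congr rfl (fun i _ => ?_)
      rw [← dp_smul, ← dp_smul, ha]
    rw [h1]
    exact Submodule.smul_mem _ _ (prod_dp_same m₀ r k)

lemma exists_nodes (P : Ideal A) [P.IsPrime] (d : ℕ)
    (h : (d : Cardinal) ≤ Cardinal.mk P.ResidueField) :
    ∃ t : Fin (d - 1) → A, (∀ j, t j ∉ P) ∧ (∀ i j, i ≠ j → t i - t j ∉ P) := by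
  classical
  -- `d` distinct elements of the residue field
  have hemb : Nonempty (Fin d ↪ P.ResidueField) := by
    rw [← Cardinal.lift_mk_le']
    simpa using h
  obtain ⟨g⟩ := hemb
  -- `d - 1` distinct nonzero elements
  have hnodes : ∃ g' : Fin (d - 1) → P.ResidueField, Function.Injective g' ∧ ∀ j, g' j ≠ 0 := by
    cases d with
    | zero => exact ⟨fun j => j.elim0, fun j => j.elim0, fun j => j.elim0⟩
    | succ d' =>
      by_cases h0 : ∃ i₀, g i₀ = 0
      · obtain ⟨i₀, hi₀⟩ := h0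
        refine ⟨fun j => g (i₀.succAbove j), fun a b hab => ?_, fun j hj => ?_⟩
        · exact Fin.succAbove_right_injective (g.injective hab)
        · have := g.injective (hj.trans hi₀.symm)
          exact Fin.succAbove_ne i₀ j this
      · push_neg at h0
        exact ⟨fun j => g (Fin.castSucc j), fun a b hab => Fin.castSucc_injective _ (g.injective hab),
          fun j => h0 _⟩
  obtain ⟨g', hg'inj, hg'0⟩ := hnodes
  -- numerators and denominators
  have hfrac : ∀ x : P.ResidueField, ∃ a s : A, s ∉ P ∧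
      x * algebraMap A P.ResidueField s = algebraMap A P.ResidueField a := by
    intro x
    obtain ⟨⟨b, c⟩, hbc⟩ := IsLocalization.surj (nonZeroDivisors (A ⧸ P)) x
    obtain ⟨a, rfl⟩ := Ideal.Quotient.mk_surjective b
    obtain ⟨s, hs⟩ := Ideal.Quotient.mk_surjective (c : A ⧸ P)
    refine ⟨a, s, fun hsP => ?_, ?_⟩
    · have : (c : A ⧸ P) = 0 := by rw [← hs]; exact Ideal.Quotient.eq_zero_iff_mem.2 hsP
      exact nonZeroDivisors.ne_zero c.2 this
    · simp only at hbc
      rw [← hs] at hbc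
      exact hbc
  choose a s hs has using hfrac
  let S : A := ∏ i, s (g' i)
  have hS : algebraMap A P.ResidueField S ≠ 0 := by
    rw [Ne, Ideal.algebraMap_residueField_eq_zero]
    intro h'
    obtain ⟨i, _, hi⟩ := Ideal.IsPrime.prod_mem_iff.1 h'
    exact hs _ hi
  let t : Fin (d - 1) → A := fun j => a (g' j) * ∏ i ∈ Finset.univ.erase j, s (g' i)
  have ht : ∀ j, algebraMap A P.ResidueField (t j) = g' j * algebraMap A P.ResidueField S := by
    intro j
    show algebraMap A P.ResidueField (a (g' j) * ∏ i ∈ Finset.univ.erase j, s (g' i)) = _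
    rw [map_mul, ← has, mul_assoc, ← map_mul,
      Finset.mul_prod_erase Finset.univ (fun i => s (g' i)) (Finset.mem_univ j)]
  refine ⟨t, fun j hj => ?_, fun i j hij hd => ?_⟩
  · have := Ideal.algebraMap_residueField_eq_zero.2 hj
    rw [ht] at this
    exact (mul_ne_zero (hg'0 j) hS) this
  · have := Ideal.algebraMap_residueField_eq_zero.2 hd
    rw [map_sub, ht, ht, ← sub_mul] at this
    exact (mul_ne_zero (sub_ne_zero.2 (fun h' => hij (hg'inj h'))) hS) this

end Aux

/-- Let A be a commutative ring, M an A-module and d ≥ 0. Suppose that at each prime p of A either k(p)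
has d or more elements, or the localisation M_p is a cyclic A_p-module. Then the degree-d piece
Γ^d_A(M) of the divided power algebra Γ_A(M) is spanned over A by the d-th divided powers γ_d(m), m
∈ M. -/
theorem result {A M : Type u} [CommRing A] [AddCommGroup M]
    [Module A M] (d : ℕ)
    (h : ∀ p : PrimeSpectrum A, (d : Cardinal) ≤ Cardinal.mk p.asIdeal.ResidueField ∨
      ∃ x : LocalizedModule p.asIdeal.primeCompl M, Submodule.span (Localization.AtPrime p.asIdeal) {x} = ⊤) :
    Submodule.span A (Set.range (DividedPowerAlgebra.dp A d : M → DividedPowerAlgebra A M)) =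
      PolLaw.gammaPiece A M d := by
  classical
  apply le_antisymm
  · rw [Submodule.span_le]
    rintro _ ⟨m, rfl⟩
    apply Submodule.subset_span
    refine ⟨1, fun _ => d, fun _ => m, by simp, by simp⟩
  · unfold PolLaw.gammaPiece
    rw [Submodule.span_le]
    rintro _ ⟨r, k, m, hk, rfl⟩
    apply mem_of_forall_prime
    intro P
    rcases h P with hcard | ⟨x, hx⟩
    · obtain ⟨t, ht, htd⟩ := exists_nodes P.asIdeal d hcard
      obtain ⟨s, hs, hmem⟩ := prod_mem_local P.asIdeal d t ht htd r k m (le_of_eq hk)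
      rw [hk] at hmem
      exact ⟨s, hs, hmem⟩
    · obtain ⟨m₀, hm₀⟩ := exists_gen_of_cyclic P.asIdeal x hx
      obtain ⟨s, hs, hmem⟩ := prod_mem_local_cyclic P.asIdeal m₀ hm₀ r k m
      rw [hk] at hmem
      exact ⟨s, hs, hmem⟩

end Groth.Agent.S13387
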