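import Groth.Statements.S13388
import Mathlib
import Groth.Agent.Lib.Helper14.DPModel

set_option autoImplicit false
universe u
open ZeroCyc

namespace Groth.Agent.S13388

open IsLocalRing in
theorem cyclic_of_quot {A M : Type u} [CommRing A] [AddCommGroup M] [Module A M] [Module.Finite A M]
    (P : Ideal A) [P.IsPrime] (m₀ : M)
    (hm₀ : ∀ m : M, ∃ a : A, m - a • m₀ ∈ (P • ⊤ : Submodule A M)) :
    ∃ x : LocalizedModule P.primeCompl M, Submodule.span (Localization.AtPrime P) {x} = ⊤ := by
  set ι := LocalizedModule.mkLinearMap P.primeCompl M with hι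
  refine ⟨ι m₀, ?_⟩
  haveI : Module.Finite (Localization.AtPrime P) (LocalizedModule P.primeCompl M) :=
    Module.Finite.of_isLocalizedModule P.primeCompl ι
  rw [eq_top_iff]
  apply Submodule.le_of_le_smul_of_le_jacobson_bot Module.Finite.fg_top
    (IsLocalRing.maximalIdeal_le_jacobson ⊥)
  intro y _
  induction y using LocalizedModule.induction_on with
  | h m s =>
    obtain ⟨a, ha⟩ := hm₀ m
    have hz : ∀ z ∈ (P • ⊤ : Submodule A M), ι z ∈
        (maximalIdeal (Localization.AtPrime P)) •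
          (⊤ : Submodule (Localization.AtPrime P) (LocalizedModule P.primeCompl M)) := by
      intro z hz
      refine Submodule.smul_induction_on hz ?_ ?_
      · intro r hr n _
        rw [map_smul, ← algebraMap_smul (Localization.AtPrime P) r (ι n)]
        exact Submodule.smul_mem_smul
          ((IsLocalization.AtPrime.to_map_mem_maximal_iff (Localization.AtPrime P) P r).2 hr) trivial
      · intro x y hx hy
        rw [map_add]
        exact add_mem hx hy
    have hy : LocalizedModule.mk m s = (Localization.mk 1 s) • ι m := by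
      rw [hι, LocalizedModule.mkLinearMap_apply, LocalizedModule.mk_smul_mk, one_smul, mul_one]
    rw [hy]
    have hm : ι m = (algebraMap A (Localization.AtPrime P) a) • ι m₀ + ι (m - a • m₀) := by
      rw [algebraMap_smul, ← map_smul, ← map_add]
      congr 1
      abel
    rw [hm]
    apply Submodule.smul_mem
    exact Submodule.add_mem_sup (Submodule.smul_mem _ _ (Submodule.mem_span_singleton_self _))
      (hz _ ha)

theorem exists_map_of_not_cyclic {A M : Type u} [CommRing A] [AddCommGroup M] [Module A M]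
    (P : Ideal A) [hP : P.IsMaximal]
    (hN : ¬ ∃ m₀ : M, ∀ m : M, ∃ a : A, m - a • m₀ ∈ (P • ⊤ : Submodule A M)) :
    ∃ (ψ : M →ₗ[A] (A ⧸ P) × (A ⧸ P)) (m1 m2 : M), ψ m1 = (1, 0) ∧ ψ m2 = (0, 1) := by
  letI : Field (A ⧸ P) := Ideal.Quotient.field P
  let π : M →ₗ[A] M ⧸ (P • ⊤ : Submodule A M) := Submodule.mkQ _
  have hsm : ∀ (a : A) (n : M ⧸ (P • ⊤ : Submodule A M)),
      algebraMap A (A ⧸ P) a • n = a • n := by
    intro a n
    obtain ⟨m, rfl⟩ := Submodule.mkQ_surjective _ n
    rfl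
  haveI : IsScalarTower A (A ⧸ P) (M ⧸ (P • ⊤ : Submodule A M)) :=
    IsScalarTower.of_algebraMap_smul hsm
  have hπ0 : ∀ m, π m = 0 ↔ m ∈ (P • ⊤ : Submodule A M) := fun m =>
    Submodule.Quotient.mk_eq_zero _
  have h1 : ∃ m1 : M, π m1 ≠ 0 := by
    by_contra hcon
    push Not at hcon
    refine hN ⟨0, fun m => ⟨0, ?_⟩⟩
    rw [smul_zero, sub_zero]
    exact (hπ0 m).1 (hcon m)
  obtain ⟨m1, hm1⟩ := h1
  have h2 : ∃ m2 : M, ∀ c : A ⧸ P, c • π m1 ≠ π m2 := by
    by_contra hcon
    push Not at hcon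
    refine hN ⟨m1, fun m => ?_⟩
    obtain ⟨c, hc⟩ := hcon m
    obtain ⟨a, rfl⟩ := Ideal.Quotient.mk_surjective c
    refine ⟨a, ?_⟩
    rw [← hπ0, map_sub, map_smul, ← hc, sub_eq_zero]
    exact hsm a (π m1)
  obtain ⟨m2, hm2⟩ := h2
  have hli : LinearIndependent (A ⧸ P) ![π m1, π m2] := by
    rw [LinearIndependent.pair_iff]
    intro s t hst
    have ht : t = 0 := by
      by_contra ht
      apply hm2 (-(t⁻¹ * s))
      have h3 : t • π m2 = -(s • π m1) := eq_neg_of_add_eq_zero_right hst
      calc (-(t⁻¹ * s)) • π m1 = t⁻¹ • (-(s • π m1)) := by rw [neg_smul, mul_smul, smul_neg]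
        _ = t⁻¹ • (t • π m2) := by rw [h3]
        _ = π m2 := by rw [smul_smul, inv_mul_cancel₀ ht, one_smul]
    subst ht
    rw [zero_smul, add_zero] at hst
    refine ⟨?_, rfl⟩
    rcases smul_eq_zero.1 hst with h | h
    · exact h
    · exact absurd h hm1
  rw [linearIndependent_iff_injective_fintypeLinearCombination] at hli
  obtain ⟨g, hg⟩ := LinearMap.exists_leftInverse_of_injective _ (LinearMap.ker_eq_bot.2 hli)
  let ψ1 : M →ₗ[A] A ⧸ P := ((LinearMap.proj 0 ∘ₗ g).restrictScalars A) ∘ₗ π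
  let ψ2 : M →ₗ[A] A ⧸ P := ((LinearMap.proj 1 ∘ₗ g).restrictScalars A) ∘ₗ π
  have e1 : π m1 = Fintype.linearCombination (A ⧸ P) ![π m1, π m2] (Pi.single 0 1) := by
    simp [Fintype.linearCombination_apply, Fin.sum_univ_two]
  have e2 : π m2 = Fintype.linearCombination (A ⧸ P) ![π m1, π m2] (Pi.single 1 1) := by
    simp [Fintype.linearCombination_apply, Fin.sum_univ_two]
  have g1 : g (π m1) = Pi.single 0 1 := by
    rw [e1]
    exact LinearMap.congr_fun hg _
  have g2 : g (π m2) = Pi.single 1 1 := by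
    rw [e2]
    exact LinearMap.congr_fun hg _
  refine ⟨ψ1.prod ψ2, m1, m2, ?_, ?_⟩
  · refine Prod.ext ?_ ?_
    · change g (π m1) 0 = 1
      rw [g1]; simp
    · change g (π m1) 1 = 0
      rw [g1]; simp
  · refine Prod.ext ?_ ?_
    · change g (π m2) 0 = 0
      rw [g2]; simp
    · change g (π m2) 1 = 1
      rw [g2]; simp

/-- Let A be a commutative ring, M a finitely generated A-module and d ≥ 0. If the degree-d piece
Γ^d_A(M) of Γ_A(M) is spanned over A by the divided powers γ_d(m), m ∈ M, then at each prime p of A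
either k(p) has d or more elements, or the localisation M_p is a cyclic A_p-module. -/
theorem result {A M : Type u} [CommRing A] [AddCommGroup M]
    [Module A M] [Module.Finite A M] (d : ℕ)
    (h : Submodule.span A (Set.range (DividedPowerAlgebra.dp A d : M → DividedPowerAlgebra A M)) =
      PolLaw.gammaPiece A M d)
    (p : PrimeSpectrum A) :
    (d : Cardinal) ≤ Cardinal.mk p.asIdeal.ResidueField ∨
      ∃ x : LocalizedModule p.asIdeal.primeCompl M, Submodule.span (Localization.AtPrime p.asIdeal) {x} = ⊤ := by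
  classical
  by_contra hcon
  push Not at hcon
  obtain ⟨hcard, hncyc⟩ := hcon
  set P := p.asIdeal with hPdef
  haveI : P.IsPrime := p.isPrime
  have hfinκ : Finite P.ResidueField :=
    Cardinal.lt_aleph0_iff_finite.1 (lt_trans hcard (Cardinal.nat_lt_aleph0 d))
  have hinj := Ideal.injective_algebraMap_quotient_residueField P
  haveI : Finite (A ⧸ P) := Finite.of_injective _ hinj
  have hPmax : P.IsMaximal := Ideal.Quotient.maximal_of_isField P (Finite.isField_of_domain (A ⧸ P))
  letI : Field (A ⧸ P) := Ideal.Quotient.field P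
  letI : Fintype (A ⧸ P) := Fintype.ofFinite _
  have hq : Fintype.card (A ⧸ P) < d := by
    have h1 : Nat.card (A ⧸ P) ≤ Nat.card P.ResidueField := Nat.card_le_card_of_injective _ hinj
    have h2 : Nat.card P.ResidueField < d := by
      have h3 := hcard
      rw [← Nat.cast_card] at h3
      exact_mod_cast h3
    rw [← Nat.card_eq_fintype_card]
    omega
  obtain ⟨Λ, hΛ1, hΛ2⟩ := Groth.Agent.Lib.Helper14.DPModel.exists_functional (A ⧸ P) d hq
  have hN : ¬ ∃ m₀ : M, ∀ m : M, ∃ a : A, m - a • m₀ ∈ (P • ⊤ : Submodule A M) := by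
    rintro ⟨m₀, hm₀⟩
    obtain ⟨x, hx⟩ := cyclic_of_quot P m₀ hm₀
    exact hncyc x hx
  obtain ⟨ψ, m1, m2, h1, h2⟩ := exists_map_of_not_cyclic P hN
  let Θ : DividedPowerAlgebra A M →ₐ[A] DividedPowerAlgebra (A ⧸ P) ((A ⧸ P) × (A ⧸ P)) :=
    DividedPowerAlgebra.map (A ⧸ P) ψ
  let Λ' : DividedPowerAlgebra A M →ₗ[A] (A ⧸ P) := (Λ.restrictScalars A) ∘ₗ Θ.toLinearMap
  have hΛ'0 : ∀ x ∈ PolLaw.gammaPiece A M d, Λ' x = 0 := by
    rw [← h]
    intro x hx
    induction hx using Submodule.span_induction with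
    | mem x hx =>
      obtain ⟨m, rfl⟩ := hx
      change Λ (Θ (DividedPowerAlgebra.dp A d m)) = 0
      rw [DividedPowerAlgebra.map_apply_dp]
      exact hΛ1 _
    | zero => exact map_zero _
    | add x y _ _ hx hy => rw [map_add, hx, hy, add_zero]
    | smul a x _ hx => rw [map_smul, hx, smul_zero]
  have hd1 : 1 ≤ d := by omega
  have hmem : DividedPowerAlgebra.dp A 1 m1 * DividedPowerAlgebra.dp A (d - 1) m2 ∈
      PolLaw.gammaPiece A M d := by
    apply Submodule.subset_span
    refine ⟨2, ![1, d - 1], ![m1, m2], ?_, ?_⟩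
    · simp [Fin.sum_univ_two]
      omega
    · simp [Fin.prod_univ_two]
  have h0 := hΛ'0 _ hmem
  change Λ (Θ (DividedPowerAlgebra.dp A 1 m1 * DividedPowerAlgebra.dp A (d - 1) m2)) = 0 at h0
  rw [map_mul, DividedPowerAlgebra.map_apply_dp, DividedPowerAlgebra.map_apply_dp, h1, h2, hΛ2] at h0
  exact one_ne_zero h0

end Groth.Agent.S13388
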