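import Groth.Statements.S13389
import Mathlib.LinearAlgebra.Vandermonde
import Mathlib.LinearAlgebra.Matrix.NonsingularInverse

set_option autoImplicit false
universe u
open ZeroCyc

namespace Groth.Agent.S13389

open DividedPowerAlgebra in
/-- Two-factor polarization: if all `t^i - t^j` (`i < j ≤ e`) are units, then
`dp a m * dp b n` lies in the span of the `dp e _`, where `a + b = e`. -/
lemma two_factor {A M : Type u} [CommRing A] [AddCommGroup M] [Module A M] (t : A) (e : ℕ)
    (hunit : ∀ i j : ℕ, i < j → j ≤ e → IsUnit (t ^ i - t ^ j))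
    (a b : ℕ) (hab : a + b = e) (m n : M) :
    dp A a m * dp A b n ∈ Submodule.span A (Set.range (dp A e : M → DividedPowerAlgebra A M)) := by
  classical
  set V : Matrix (Fin (e + 1)) (Fin (e + 1)) A := Matrix.vandermonde (fun j => t ^ (j : ℕ)) with hV
  have hdet : IsUnit V.det := by
    rw [hV, Matrix.det_vandermonde]
    rw [IsUnit.prod_univ_iff]
    intro i
    rw [IsUnit.prod_iff]
    intro j hj
    have hij : i < j := Finset.mem_Ioi.1 hj
    have := hunit i j hij (Nat.lt_succ_iff.1 j.2)
    have e1 : t ^ (j : ℕ) - t ^ (i : ℕ) = -(t ^ (i : ℕ) - t ^ (j : ℕ)) := by ring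
    rw [e1]
    exact this.neg
  -- the vectors
  let w : Fin (e + 1) → DividedPowerAlgebra A M := fun q => dp A (q : ℕ) n * dp A (e - (q : ℕ)) m
  let c : Fin (e + 1) → DividedPowerAlgebra A M := fun j => dp A e (t ^ (j : ℕ) • n + m)
  have hc : ∀ j, c j = ∑ q, V j q • w q := by
    intro j
    show dp A e (t ^ (j : ℕ) • n + m) = _
    rw [dp_add, Finset.Nat.sum_antidiagonal_eq_sum_range_succ_mk, Finset.sum_range]
    apply Finset.sum_congr rfl
    intro q _
    rw [dp_smul, hV, Matrix.vandermonde_apply, smul_mul_assoc]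
  have hcS : ∀ j, c j ∈ Submodule.span A (Set.range (dp A e : M → DividedPowerAlgebra A M)) :=
    fun j => Submodule.subset_span ⟨_, rfl⟩
  have hw : ∀ q, w q = ∑ j, V⁻¹ q j • c j := by
    intro q
    simp_rw [hc, Finset.smul_sum, smul_smul]
    rw [Finset.sum_comm]
    simp_rw [← Finset.sum_smul, ← Matrix.mul_apply]
    rw [Matrix.nonsing_inv_mul V hdet]
    simp [Matrix.one_apply]
  have hwS : ∀ q, w q ∈ Submodule.span A (Set.range (dp A e : M → DividedPowerAlgebra A M)) := by
    intro q
    rw [hw q]
    exact Submodule.sum_mem _ (fun j _ => Submodule.smul_mem _ _ (hcS j))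
  have hb : b < e + 1 := by omega
  have := hwS ⟨b, hb⟩
  have e2 : w ⟨b, hb⟩ = dp A a m * dp A b n := by
    show dp A b n * dp A (e - b) m = _
    have : e - b = a := by omega
    rw [this, mul_comm]
  rwa [e2] at this

open DividedPowerAlgebra in
lemma prod_mem {A M : Type u} [CommRing A] [AddCommGroup M] [Module A M] (t : A) (d : ℕ)
    (hunit : ∀ i j : ℕ, i < j → j ≤ d → IsUnit (t ^ i - t ^ j)) :
    ∀ (r : ℕ) (k : Fin r → ℕ) (m : Fin r → M), (∑ i, k i) ≤ d →
      ∏ i, dp A (k i) (m i) ∈
        Submodule.span A (Set.range (dp A (∑ i, k i) : M → DividedPowerAlgebra A M)) := by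
  intro r
  induction r with
  | zero =>
    intro k m _
    simp only [Finset.univ_eq_empty, Finset.prod_empty, Finset.sum_empty]
    exact Submodule.subset_span ⟨0, dp_zero⟩
  | succ r ih =>
    intro k m hk
    rw [Fin.prod_univ_succ, Fin.sum_univ_succ]
    rw [Fin.sum_univ_succ] at hk
    have hk' : (∑ i : Fin r, k i.succ) ≤ d := by omega
    have htail := ih (fun i => k i.succ) (fun i => m i.succ) hk'
    -- multiply
    have key : ∀ y ∈ Submodule.span A (Set.range (dp A (∑ i : Fin r, k i.succ) : M → DividedPowerAlgebra A M)),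
        dp A (k 0) (m 0) * y ∈ Submodule.span A
          (Set.range (dp A (k 0 + ∑ i : Fin r, k i.succ) : M → DividedPowerAlgebra A M)) := by
      intro y hy
      induction hy using Submodule.span_induction with
      | mem z hz =>
        obtain ⟨n, rfl⟩ := hz
        exact two_factor t _ (fun i j hij hj => hunit i j hij (le_trans hj hk)) _ _ rfl _ _
      | zero => rw [mul_zero]; exact Submodule.zero_mem _
      | add x y _ _ hx hy => rw [mul_add]; exact Submodule.add_mem _ hx hy
      | smul c x _ hx => rw [mul_smul_comm]; exact Submodule.smul_mem _ _ hx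
    exact key _ htail


open Polynomial in
/-- Let P_d(T) = ∏_{0 ≤ i < j ≤ d} (T^i − T^j) − 1 ∈ ℤ[T]. If A is an algebra over ℤ[T]/(P_d), i.e.
receives a ring homomorphism from it, then for every A-module M the degree-d piece Γ^d_A(M) of the
divided power algebra Γ_A(M) is spanned over A by the d-th divided powers γ_d(m), m ∈ M. (The
published statement adds that consequently every ring has a finite faithfully flat extension,
independent of M, over which this holds; that clause is not restated.) -/
theorem result {A M : Type u} [CommRing A] [AddCommGroup M]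
    [Module A M] (d : ℕ)
    (φ : (ℤ[X] ⧸ Ideal.span {(∏ j ∈ Finset.range (d + 1), ∏ i ∈ Finset.range j,
        ((X : ℤ[X]) ^ i - X ^ j)) - 1}) →+* A) :
    Submodule.span A (Set.range (DividedPowerAlgebra.dp A d : M → DividedPowerAlgebra A M)) =
      PolLaw.gammaPiece A M d := by
  classical
  set t : A := φ (Ideal.Quotient.mk _ X) with ht
  have hrel : (∏ j ∈ Finset.range (d + 1), ∏ i ∈ Finset.range j, (t ^ i - t ^ j)) = 1 := by
    have h0 : (Ideal.Quotient.mk (Ideal.span {(∏ j ∈ Finset.range (d + 1), ∏ i ∈ Finset.range j,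
        ((X : ℤ[X]) ^ i - X ^ j)) - 1})) ((∏ j ∈ Finset.range (d + 1), ∏ i ∈ Finset.range j,
        ((X : ℤ[X]) ^ i - X ^ j)) - 1) = 0 :=
      Ideal.Quotient.eq_zero_iff_mem.2 (Ideal.subset_span rfl)
    have h1 := congrArg φ h0
    simp only [map_sub, map_prod, map_pow, map_one, map_zero] at h1
    rw [sub_eq_zero] at h1
    exact h1
  have hunit : ∀ i j : ℕ, i < j → j ≤ d → IsUnit (t ^ i - t ^ j) := by
    intro i j hij hj
    have h1 : IsUnit (∏ j ∈ Finset.range (d + 1), ∏ i ∈ Finset.range j, (t ^ i - t ^ j)) := by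
      rw [hrel]; exact isUnit_one
    rw [IsUnit.prod_iff] at h1
    have h2 := h1 j (Finset.mem_range.2 (by omega))
    rw [IsUnit.prod_iff] at h2
    exact h2 i (Finset.mem_range.2 hij)
  apply le_antisymm
  · rw [Submodule.span_le]
    rintro _ ⟨m, rfl⟩
    apply Submodule.subset_span
    refine ⟨1, fun _ => d, fun _ => m, by simp, by simp⟩
  · unfold PolLaw.gammaPiece
    rw [Submodule.span_le]
    rintro _ ⟨r, k, m, hk, rfl⟩
    have := prod_mem (A := A) (M := M) t d hunit r k m (le_of_eq hk)
    rwa [hk] at this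

end Groth.Agent.S13389
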