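import Groth.Statements.S13399
import Groth.Agent.Lib.Helper59.TopCoeff

set_option autoImplicit false
universe u
open scoped TensorProduct
open ZeroCyc

namespace Groth.Agent.S13399

/-- Let A be a commutative ring, B an A-algebra and e ≥ 0; let (C_{e+1}, γ_{e+1}) and (C_e, γ_e) be the
divided power algebras Γ^{e+1}_A(B) and Γ^e_A(B) of B with their universal multiplicative laws of
degrees e + 1 and e (every multiplicative law of that degree out of B factors uniquely through
them), and let ω : Γ^{e+1}_A(B) ⊗_A B → Γ^e_A(B) ⊗_A B be Iversen's canonical algebra homomorphism,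
taken here as data characterised by ω(γ_{e+1}(x) ⊗ y) = γ_e(x) ⊗ x·y for all x, y ∈ S ⊗_A B and
every base change A → S. Then ω is surjective. -/
theorem result {A B Cd Ce : Type u} [CommRing A] [CommRing B] [Algebra A B]
    [CommRing Cd] [Algebra A Cd] [CommRing Ce] [Algebra A Ce] (e : ℕ)
    (γd : PolLaw.MulLaw A B Cd (e + 1)) (hγd : PolLaw.IsGammaD γd)
    (γe : PolLaw.MulLaw A B Ce e) (hγe : PolLaw.IsGammaD γe)
    (ω : Cd ⊗[A] B →ₐ[A] Ce ⊗[A] B)
    (hω : ∀ (S : Type u) [CommSemiring S] [Algebra A S] (x y : S ⊗[A] B),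
      ω.toLinearMap.lTensor S
        ((Algebra.TensorProduct.includeLeft : Cd →ₐ[A] Cd ⊗[A] B).toLinearMap.lTensor S (γd.law.toFun' S x) *
          (Algebra.TensorProduct.includeRight : B →ₐ[A] Cd ⊗[A] B).toLinearMap.lTensor S y) =
      (Algebra.TensorProduct.includeLeft : Ce →ₐ[A] Ce ⊗[A] B).toLinearMap.lTensor S (γe.law.toFun' S x) *
        (Algebra.TensorProduct.includeRight : B →ₐ[A] Ce ⊗[A] B).toLinearMap.lTensor S (x * y)) :
    Function.Surjective ω := by
  classical
  -- `1 ⊗ b` lies in the range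
  have hone : ∀ (D : Type u) [CommRing D] [Algebra A D],
      (Algebra.TensorProduct.includeLeft : D →ₐ[A] D ⊗[A] B).toLinearMap.lTensor A
        (1 : A ⊗[A] D) = 1 := by
    intro D _ _
    rw [Algebra.TensorProduct.one_def, LinearMap.lTensor_tmul]
    simp [Algebra.TensorProduct.one_def]
  have h1 : ∀ b : B, (1 : Ce) ⊗ₜ[A] b ∈ ω.range := by
    intro b
    have h := hω A (1 : A ⊗[A] B) ((1 : A) ⊗ₜ[A] b)
    rw [(γd.mult A).1, (γe.mult A).1, one_mul, hone, hone, one_mul, one_mul] at h
    simp only [LinearMap.lTensor_tmul] at h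
    have h' := congrArg (TensorProduct.lid A (Ce ⊗[A] B)) h
    rw [TensorProduct.lid_tmul, TensorProduct.lid_tmul, one_smul, one_smul] at h'
    exact ⟨_, h'⟩
  -- `c ⊗ 1` lies in the range
  let C₀ : Submodule A Ce := Submodule.comap
    (Algebra.TensorProduct.includeLeft : Ce →ₐ[A] Ce ⊗[A] B).toLinearMap
    (Subalgebra.toSubmodule ω.range)
  have hC₀ : C₀ = ⊤ := by
    apply Groth.Agent.Lib.Helper59.PolarGamma.span_coeff γe hγe
    intro S _ _ lam z
    show (Algebra.TensorProduct.includeLeft : Ce →ₐ[A] Ce ⊗[A] B)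
      (Groth.Agent.Lib.Helper59.CHCore.lamT lam (γe.law.toFun' S z)) ∈ ω.range
    let t : MvPolynomial Unit S := MvPolynomial.X ()
    let w : MvPolynomial Unit S ⊗[A] B := Groth.Agent.Lib.Helper59.Polar.inc A B Unit S (-z)
    let x : MvPolynomial Unit S ⊗[A] B := Groth.Agent.Lib.Helper59.TopCoeff.x₁ z
    let y : MvPolynomial Unit S ⊗[A] B := ∑ k ∈ Finset.range (e + 1), (t • w) ^ k
    have hx : x = 1 - t • w := by
      show Groth.Agent.Lib.Helper59.TopCoeff.x₁ z = _
      rw [Groth.Agent.Lib.Helper59.TopCoeff.x₁]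
      simp only [w, t, map_neg, smul_neg, sub_neg_eq_add]
    have hxy : x * y = 1 - t ^ (e + 1) • w ^ (e + 1) := by
      rw [hx, mul_neg_geom_sum, smul_pow]
    have H := hω (MvPolynomial Unit S) x y
    rw [hxy] at H
    let Lam := Groth.Agent.Lib.Helper59.CHCore.lamT (Ω := Ce ⊗[A] B)
      (lam ∘ₗ Groth.Agent.Lib.Helper59.Polar.coefL A Unit S (Finsupp.single () e))
    have H' := congrArg Lam H
    have hL : Lam (ω.toLinearMap.lTensor (MvPolynomial Unit S)
        ((Algebra.TensorProduct.includeLeft : Cd →ₐ[A] Cd ⊗[A] B).toLinearMap.lTensor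
            (MvPolynomial Unit S) (γd.law.toFun' (MvPolynomial Unit S) x) *
          (Algebra.TensorProduct.includeRight : B →ₐ[A] Cd ⊗[A] B).toLinearMap.lTensor
            (MvPolynomial Unit S) y)) ∈ ω.range := by
      show Groth.Agent.Lib.Helper59.CHCore.lamT _ _ ∈ ω.range
      rw [Groth.Agent.Lib.Helper59.PolarGamma.lamT_lTensor]
      exact ⟨_, rfl⟩
    rw [H'] at hL
    have hR : Lam ((Algebra.TensorProduct.includeLeft : Ce →ₐ[A] Ce ⊗[A] B).toLinearMap.lTensor
          (MvPolynomial Unit S) (γe.law.toFun' (MvPolynomial Unit S) x) *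
        (Algebra.TensorProduct.includeRight : B →ₐ[A] Ce ⊗[A] B).toLinearMap.lTensor
          (MvPolynomial Unit S) (1 - t ^ (e + 1) • w ^ (e + 1))) =
        (Algebra.TensorProduct.includeLeft : Ce →ₐ[A] Ce ⊗[A] B)
          (Groth.Agent.Lib.Helper59.CHCore.lamT lam (γe.law.toFun' S z)) := by
      rw [Groth.Agent.Lib.Helper59.GammaGen.lTensor_eq_map
          (Algebra.TensorProduct.includeRight : B →ₐ[A] Ce ⊗[A] B), map_sub, map_one,
        Groth.Agent.Lib.Helper59.GammaGen.lmap_smul, mul_sub, mul_one, mul_smul_comm, map_sub]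
      show Groth.Agent.Lib.Helper59.CHCore.lamT _ _ - Groth.Agent.Lib.Helper59.CHCore.lamT _ _ = _
      rw [Groth.Agent.Lib.Helper59.TopCoeff.lamT_coef_X_pow_smul, sub_zero,
        Groth.Agent.Lib.Helper59.PolarGamma.lamT_lTensor,
        Groth.Agent.Lib.Helper59.TopCoeff.lamT_comp,
        Groth.Agent.Lib.Helper59.TopCoeff.top_coeff γe.law γe.homog]
      rfl
    rw [hR] at hL
    exact hL
  -- conclusion
  intro v
  have hv : v ∈ ω.range := by
    induction v using TensorProduct.induction_on with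
    | zero => exact Subalgebra.zero_mem _
    | tmul c b =>
      have hc : (Algebra.TensorProduct.includeLeft : Ce →ₐ[A] Ce ⊗[A] B) c ∈ ω.range := by
        have : c ∈ C₀ := hC₀ ▸ Submodule.mem_top
        exact this
      have hcb : c ⊗ₜ[A] b =
          (Algebra.TensorProduct.includeLeft : Ce →ₐ[A] Ce ⊗[A] B) c * ((1 : Ce) ⊗ₜ[A] b) := by
        rw [Algebra.TensorProduct.includeLeft_apply, Algebra.TensorProduct.tmul_mul_tmul, mul_one,
          one_mul]
      rw [hcb]
      exact Subalgebra.mul_mem _ hc (h1 b)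
    | add a b ha hb => exact Subalgebra.add_mem _ ha hb
  exact hv

end Groth.Agent.S13399
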