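import Groth.Statements.S1340
import Mathlib.AlgebraicGeometry.Normalization
import Mathlib.AlgebraicGeometry.Morphisms.Proper

set_option autoImplicit false
universe u
open FlatMor

namespace Groth.Agent.S1340

open AlgebraicGeometry CategoryTheory Limits Opposite in
/-- A morphism of schemes inducing isomorphisms on sections over a basis of opens induces
isomorphisms on sections over all opens. -/
theorem isIso_app_of_isBasis {X Y : Scheme.{u}} (t : X ⟶ Y) {ι : Type*} (B : ι → Y.Opens)
    (hB : TopologicalSpace.Opens.IsBasis (Set.range B)) (h : ∀ i, IsIso (t.app (B i)))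
    (U : Y.Opens) : IsIso (t.app U) := by
  let φ : Y.sheaf ⟶ (TopCat.Sheaf.pushforward CommRingCat t.base).obj X.sheaf := ⟨t.c⟩
  have h1 : IsIso φ := TopCat.Sheaf.isIso_iff_isIso_basis (φ := φ) hB (fun i => h i)
  have h2 : IsIso ((TopCat.Sheaf.forget _ _).map φ) := inferInstance
  exact NatIso.isIso_app_of_isIso ((TopCat.Sheaf.forget _ _).map φ) (op U)

open AlgebraicGeometry CategoryTheory Limits Opposite in
/-- For a qcqs scheme `Y`, the canonical map `Y ⟶ Spec Γ(Y, ⊤)` induces isomorphisms on sections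
over all opens. -/
theorem isIso_toSpecΓ_app {Y : Scheme.{u}} [CompactSpace Y] [QuasiSeparatedSpace Y]
    (U : (Spec Γ(Y, ⊤)).Opens) : IsIso (Y.toSpecΓ.app U) :=
  isIso_app_of_isBasis Y.toSpecΓ (fun f : Γ(Y, ⊤) => PrimeSpectrum.basicOpen f)
    PrimeSpectrum.isBasis_basic_opens (fun _ => inferInstance) U

open AlgebraicGeometry CategoryTheory Limits Opposite in
/-- The variant for a qcqs open subscheme. -/
theorem isIso_opens_toSpecΓ_app {X : Scheme.{u}} (V : X.Opens)
    [CompactSpace ((V : X.Opens) : Scheme.{u})] [QuasiSeparatedSpace ((V : X.Opens) : Scheme.{u})]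
    (U : (Spec Γ(X, V)).Opens) : IsIso (V.toSpecΓ.app U) := by
  have key : V.toSpecΓ.app U = (Spec.map V.topIso.inv).app U ≫
      (V : Scheme.{u}).toSpecΓ.app ((Spec.map V.topIso.inv) ⁻¹ᵁ U) := rfl
  rw [key]
  exact @IsIso.comp_isIso _ _ _ _ _ _ _ inferInstance
    (isIso_toSpecΓ_app (Y := (V : Scheme.{u})) ((Spec.map V.topIso.inv) ⁻¹ᵁ U))

open AlgebraicGeometry CategoryTheory Limits Opposite in
/-- Sections over the preimage of an affine open are integral for a universally closed
morphism. -/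
theorem isIntegral_app_of_universallyClosed {X S : Scheme.{u}} (f : X ⟶ S) [UniversallyClosed f]
    (W : S.Opens) (hW : IsAffineOpen W) : (f.app W).hom.IsIntegral := by
  haveI : IsAffine (W : Scheme.{u}) := hW
  have h0 : (f ∣_ W).appTop.hom.IsIntegral := isIntegral_appTop_of_universallyClosed (f ∣_ W)
  have h := (arrowResLEAppIso f W (f ⁻¹ᵁ W) le_rfl).hom.w
  simp only [Arrow.mk_hom, Functor.id_obj, Functor.id_map] at h
  have h' : (f ∣_ W).appTop ≫ (f ⁻¹ᵁ W).topIso.hom = W.topIso.hom ≫ f.app W := by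
    rw [← Scheme.Hom.appLE_eq_app, ← Scheme.Hom.resLE_eq_morphismRestrict]
    exact h.symm
  have e : f.app W = W.topIso.inv ≫ (f ∣_ W).appTop ≫ (f ⁻¹ᵁ W).topIso.hom := by
    rw [h', Iso.inv_hom_id_assoc]
  rw [e]
  simp only [CommRingCat.hom_comp]
  refine RingHom.IsIntegral.trans _ _ ?_ (RingHom.IsIntegral.trans _ _ h0 ?_)
  · exact RingHom.isIntegral_of_surjective _
      (ConcreteCategory.bijective_of_isIso W.topIso.inv).2
  · exact RingHom.isIntegral_of_surjective _
      (ConcreteCategory.bijective_of_isIso (f ⁻¹ᵁ W).topIso.hom).2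

open AlgebraicGeometry CategoryTheory Limits in
/-- Stein factorization, universally closed case: let f : X ⟶ S be universally closed and
quasi-separated, and let X ⟶ X' ⟶ S be its factorization through the normalization X' of S in X.
Then the canonical morphism X ⟶ X' identifies the structure sheaf of X' with the pushforward of the
structure sheaf of X: for every open U of X' the induced map from O_{X'}(U) to the sections of O_X
over the inverse image of U is an isomorphism. (That X ⟶ X' is surjective and universally closed and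
that X' ⟶ S is integral are separate facts not restated here.) -/
theorem result {X S : Scheme.{u}} (f : X ⟶ S) [UniversallyClosed f] [QuasiSeparated f]
    (U : f.normalization.Opens) : IsIso (f.toNormalization.app U) := by
  classical
  haveI : QuasiCompact f := inferInstance
  -- the basis: opens contained in the preimage of an affine open of `S`
  refine isIso_app_of_isBasis f.toNormalization
    (fun U' : {U' : f.normalization.Opens // ∃ W : S.affineOpens,
      U' ≤ f.fromNormalization ⁻¹ᵁ W.1} => U'.1) ?_ ?_ U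
  · rw [TopologicalSpace.Opens.isBasis_iff_nbhd]
    intro V x hx
    obtain ⟨_, ⟨W, hW, rfl⟩, hxW, -⟩ :=
      S.isBasis_affineOpens.exists_subset_of_mem_open (Set.mem_univ (f.fromNormalization x))
        isOpen_univ
    exact ⟨V ⊓ f.fromNormalization ⁻¹ᵁ W, ⟨⟨_, ⟨W, hW⟩, inf_le_right⟩, rfl⟩, ⟨hx, hxW⟩, inf_le_left⟩
  · rintro ⟨U', W, hU'W⟩
    show IsIso (f.toNormalization.app U')
    letI alg : Algebra Γ(S, W.1) Γ(X, f ⁻¹ᵁ W.1) := (f.app W.1).hom.toAlgebra
    haveI : CompactSpace ((f ⁻¹ᵁ W.1 : X.Opens) : Scheme.{u}) :=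
      isCompact_iff_compactSpace.mp (f.isCompact_preimage W.2.isCompact)
    haveI : QuasiSeparatedSpace ((f ⁻¹ᵁ W.1 : X.Opens) : Scheme.{u}) :=
      (isQuasiSeparated_iff_quasiSeparatedSpace _ (f ⁻¹ᵁ W.1).isOpen).mp
        (f.isQuasiSeparated_preimage W.2.isQuasiSeparated)
    have hint : ∀ b : Γ(X, f ⁻¹ᵁ W.1), b ∈ integralClosure Γ(S, W.1) Γ(X, f ⁻¹ᵁ W.1) :=
      fun b => isIntegral_app_of_universallyClosed f W.1 W.2 b
    have hbij : Function.Bijective
        (integralClosure Γ(S, W.1) Γ(X, f ⁻¹ᵁ W.1)).val.toRingHom :=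
      ⟨Subtype.val_injective, fun b => ⟨⟨b, hint b⟩, rfl⟩⟩
    haveI hval : IsIso (CommRingCat.ofHom
        (integralClosure Γ(S, W.1) Γ(X, f ⁻¹ᵁ W.1)).val.toRingHom) :=
      (ConcreteCategory.isIso_iff_bijective _).mpr hbij
    have E := f.ι_toNormalization W
    haveI hopen : IsOpenImmersion (f.normalizationOpenCover.f W) :=
      f.normalizationOpenCover.map_prop W
    have hU'r : U' ≤ (f.normalizationOpenCover.f W).opensRange := by
      rw [← f.fromNormalization_preimage W]
      exact hU'W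
    haveI i1 : IsIso ((f.normalizationOpenCover.f W).app U') :=
      Scheme.Hom.isIso_app _ U' hU'r
    have hcomp : IsIso (((f ⁻¹ᵁ W.1).ι ≫ f.toNormalization).app U') := by
      rw [Scheme.Hom.congr_app E U']
      have key : ((f ⁻¹ᵁ W.1).toSpecΓ ≫ Spec.map (CommRingCat.ofHom (integralClosure Γ(S, W.1)
          Γ(X, f ⁻¹ᵁ W.1)).val.toRingHom) ≫ f.normalizationOpenCover.f W).app U' =
          (f.normalizationOpenCover.f W).app U' ≫
          (Spec.map (CommRingCat.ofHom (integralClosure Γ(S, W.1)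
            Γ(X, f ⁻¹ᵁ W.1)).val.toRingHom)).app ((f.normalizationOpenCover.f W) ⁻¹ᵁ U') ≫
          (f ⁻¹ᵁ W.1).toSpecΓ.app ((Spec.map (CommRingCat.ofHom (integralClosure Γ(S, W.1)
            Γ(X, f ⁻¹ᵁ W.1)).val.toRingHom)) ⁻¹ᵁ ((f.normalizationOpenCover.f W) ⁻¹ᵁ U')) := rfl
      rw [key]
      have hc := isIso_opens_toSpecΓ_app (f ⁻¹ᵁ W.1)
        ((Spec.map (CommRingCat.ofHom (integralClosure Γ(S, W.1)
          Γ(X, f ⁻¹ᵁ W.1)).val.toRingHom)) ⁻¹ᵁ ((f.normalizationOpenCover.f W) ⁻¹ᵁ U'))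
      have hb : IsIso ((Spec.map (CommRingCat.ofHom (integralClosure Γ(S, W.1)
          Γ(X, f ⁻¹ᵁ W.1)).val.toRingHom)).app ((f.normalizationOpenCover.f W) ⁻¹ᵁ U')) :=
        inferInstance
      exact @IsIso.comp_isIso _ _ _ _ _ _ _ (@IsIso.comp_isIso _ _ _ _ _ _ _ i1
        (@IsIso.comp_isIso _ _ _ _ _ _ _ hb hc)) inferInstance
    rw [Scheme.Hom.comp_app] at hcomp
    have hle : f.toNormalization ⁻¹ᵁ U' ≤ (f ⁻¹ᵁ W.1).ι.opensRange := by
      rw [Scheme.Opens.opensRange_ι]
      intro x hx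
      have h1 : f.toNormalization x ∈ f.fromNormalization ⁻¹ᵁ W.1 := hU'W hx
      have h2 : (f.toNormalization ≫ f.fromNormalization) x ∈ W.1 := h1
      rw [f.toNormalization_fromNormalization] at h2
      exact h2
    haveI i2 : IsIso ((f ⁻¹ᵁ W.1).ι.app (f.toNormalization ⁻¹ᵁ U')) :=
      Scheme.Hom.isIso_app _ _ hle
    exact @IsIso.of_isIso_comp_right _ _ _ _ _ (f.toNormalization.app U')
      ((f ⁻¹ᵁ W.1).ι.app (f.toNormalization ⁻¹ᵁ U')) i2 hcomp

end Groth.Agent.S1340
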