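import Groth.Statements.S13404
import Mathlib
import Groth.Agent.Lib.Helper37.HenselFinite
-- import your own Groth.Agent.* helpers here

set_option autoImplicit false
universe u v
open Hopf

namespace Groth.Agent.S13404

open TensorProduct

section Aux

variable {R : Type u} [CommRing R] [IsLocalRing R]

lemma exists_pow_mem {Q : Type v} [CommRing Q] [IsLocalRing Q] [Algebra R Q] [Module.Finite R Q]
    (u : Q) (hu : u ∈ IsLocalRing.maximalIdeal Q) :
    ∃ n : ℕ, u ^ n ∈ (IsLocalRing.maximalIdeal R).map (algebraMap R Q) := by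
  set mR := IsLocalRing.maximalIdeal R with hmR
  set I : Ideal Q := mR.map (algebraMap R Q) with hI
  have hfinq : Module.Finite (R ⧸ mR) (Q ⧸ I) :=
    Module.Finite.of_restrictScalars_finite R (R ⧸ mR) (Q ⧸ I)
  let _ : Field (R ⧸ mR) := Ideal.Quotient.field mR
  have hart : IsArtinianRing (Q ⧸ I) := IsArtinianRing.of_finite (R ⧸ mR) (Q ⧸ I)
  have hxj : Ideal.Quotient.mk I u ∈ Ideal.jacobson (⊥ : Ideal (Q ⧸ I)) := by
    refine Groth.Agent.Lib.Helper37.map_le_jacobson_of_surjective _ Ideal.Quotient.mk_surjective ?_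
      (Ideal.mem_map_of_mem _ hu)
    rw [IsLocalRing.jacobson_eq_maximalIdeal ⊥ bot_ne_top]
  obtain ⟨n, hn⟩ := IsArtinianRing.isNilpotent_jacobson_bot (R := Q ⧸ I)
  refine ⟨n, ?_⟩
  have h1 : (Ideal.Quotient.mk I u) ^ n ∈ Ideal.jacobson (⊥ : Ideal (Q ⧸ I)) ^ n :=
    Ideal.pow_mem_pow hxj n
  rw [hn] at h1
  rw [← Ideal.Quotient.eq_zero_iff_mem, map_pow]
  exact h1

lemma idem_eq_zero {Q : Type v} [CommRing Q] [IsLocalRing Q] [Algebra R Q] [Module.Finite R Q]
    (εb : Q →ₐ[R] R) (ψ : Q ⊗[R] Q →ₐ[R] R) (hψ : ∀ a b : Q, ψ (a ⊗ₜ[R] b) = εb a * εb b)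
    (g : Q ⊗[R] Q) (hg : IsIdempotentElem g) (hψg : ψ g = 0) : g = 0 := by
  set mR := IsLocalRing.maximalIdeal R with hmR
  set aC : Ideal (Q ⊗[R] Q) := mR.map (algebraMap R (Q ⊗[R] Q)) with haC
  set aQ : Ideal Q := mR.map (algebraMap R Q) with haQ
  have hι : ∀ (ι : Q →ₐ[R] Q ⊗[R] Q) (u : Q), εb u = 0 → ι u ∈ aC.radical := by
    intro ι u hu
    have hum : u ∈ IsLocalRing.maximalIdeal Q := by
      rw [IsLocalRing.mem_maximalIdeal, mem_nonunits_iff]
      intro hunit
      have := hunit.map εb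
      rw [hu] at this
      exact not_isUnit_zero this
    obtain ⟨n, hn⟩ := exists_pow_mem (R := R) u hum
    refine ⟨n, ?_⟩
    rw [← map_pow]
    have hmap : aQ.map ι.toRingHom = aC := by
      rw [haQ, haC, Ideal.map_map]
      congr 1
      exact ι.comp_algebraMap
    rw [← hmap]
    exact Ideal.mem_map_of_mem ι.toRingHom hn
  have hmul : ∀ x y : Q, x ⊗ₜ[R] y =
      (Algebra.TensorProduct.includeLeft : Q →ₐ[R] Q ⊗[R] Q) x *
        (Algebra.TensorProduct.includeRight : Q →ₐ[R] Q ⊗[R] Q) y := by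
    intro x y
    rw [Algebra.TensorProduct.includeLeft_apply, Algebra.TensorProduct.includeRight_apply,
      Algebra.TensorProduct.tmul_mul_tmul, mul_one, one_mul]
  have claim1 : ∀ c : Q ⊗[R] Q, c - ψ c • (1 : Q ⊗[R] Q) ∈ aC.radical := by
    intro c
    induction c using TensorProduct.induction_on with
    | zero =>
      rw [map_zero, zero_smul, sub_zero]
      exact Ideal.zero_mem _
    | tmul a b =>
      have e : a ⊗ₜ[R] b - ψ (a ⊗ₜ[R] b) • (1 : Q ⊗[R] Q) =
          (a - εb a • (1 : Q)) ⊗ₜ[R] b + (εb a • (1 : Q)) ⊗ₜ[R] (b - εb b • (1 : Q)) := by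
        rw [hψ, TensorProduct.sub_tmul, TensorProduct.tmul_sub, sub_add_sub_cancel,
          TensorProduct.smul_tmul_smul, Algebra.TensorProduct.one_def]
      rw [e, hmul (a - εb a • (1 : Q)) b, hmul (εb a • (1 : Q)) (b - εb b • (1 : Q))]
      refine Ideal.add_mem _ (Ideal.mul_mem_right _ _ (hι _ _ ?_))
        (Ideal.mul_mem_left _ _ (hι _ _ ?_))
      · rw [map_sub, map_smul, map_one, smul_eq_mul, mul_one, sub_self]
      · rw [map_sub, map_smul, map_one, smul_eq_mul, mul_one, sub_self]
    | add x y hx hy =>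
      have e : x + y - ψ (x + y) • (1 : Q ⊗[R] Q) =
          (x - ψ x • (1 : Q ⊗[R] Q)) + (y - ψ y • (1 : Q ⊗[R] Q)) := by
        rw [map_add, add_smul]; abel
      rw [e]
      exact Ideal.add_mem _ hx hy
  have hg_rad : g ∈ aC.radical := by
    have := claim1 g
    rw [hψg, zero_smul, sub_zero] at this
    exact this
  obtain ⟨n, hn⟩ := hg_rad
  have hg_a : g ∈ aC := by
    have h1 : g ^ (n + 1) ∈ aC := by
      rw [pow_succ]
      exact Ideal.mul_mem_right _ _ hn
    rwa [hg.pow_succ_eq] at h1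
  have hjac : aC ≤ Ideal.jacobson ⊥ := by
    have : Algebra.IsIntegral R (Q ⊗[R] Q) := Algebra.IsIntegral.of_finite R (Q ⊗[R] Q)
    refine Groth.Agent.Lib.Helper37.map_le_jacobson_of_isIntegral ?_
    rw [IsLocalRing.jacobson_eq_maximalIdeal ⊥ bot_ne_top]
  have hunit : IsUnit (1 - g) := by
    have := Ideal.mem_jacobson_bot.1 (hjac hg_a) (-1)
    have e : g * -1 + 1 = 1 - g := by ring
    rwa [e] at this
  have h0 : g * (1 - g) = 0 := by rw [mul_sub, mul_one, hg.eq, sub_self]
  exact (hunit.mul_left_eq_zero).1 h0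

end Aux


/-- Let R be a henselian local ring and G = Spec A a finite flat group scheme over R (A a commutative
Hopf algebra over R, finite and flat as an R-module; G need not be commutative). Let e be an
idempotent of A on which the counit takes the value 1 and such that A/(1 - e) is a local ring, so
that Spec A/(1 - e) is the connected component G⁰ of G containing the unit section. Then the ideal
(1 - e) is a Hopf ideal (G⁰ is a closed subgroup scheme of G), A/(1 - e) is a henselian local ring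
with the same residue field as R (the composite R → A/(1 - e) → residue field is surjective), and
A/(1 - e) is flat over R. (The published statement also asserts that G⁰ is normal in G; this row
does not state normality.) -/
theorem result (R : Type u) [CommRing R] [HenselianLocalRing R]
    (A : Type v) [CommRing A] [HopfAlgebra R A] [Module.Finite R A] [Module.Flat R A]
    (e : A) (he : IsIdempotentElem e) (hε : Bialgebra.counitAlgHom R A e = 1)
    [IsLocalRing (A ⧸ Ideal.span ({1 - e} : Set A))] :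
    (Ideal.span ({1 - e} : Set A)).IsHopfIdeal R ∧ HenselianLocalRing (A ⧸ Ideal.span ({1 - e} : Set A)) ∧
      Function.Surjective (⇑(IsLocalRing.residue (A ⧸ Ideal.span ({1 - e} : Set A))) ∘ ⇑(algebraMap R (A ⧸ Ideal.span ({1 - e} : Set A)))) ∧
      Module.Flat R (A ⧸ Ideal.span ({1 - e} : Set A)) := by
  set I : Ideal A := Ideal.span ({1 - e} : Set A) with hI
  have hε0 : ∀ a ∈ I, Bialgebra.counitAlgHom R A a = 0 := by
    intro a ha
    obtain ⟨b, rfl⟩ := Ideal.mem_span_singleton'.1 ha
    rw [map_mul, map_sub, map_one, hε, sub_self, mul_zero]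
  let εb : (A ⧸ I) →ₐ[R] R := Ideal.Quotient.liftₐ I (Bialgebra.counitAlgHom R A) hε0
  have hεb : ∀ a : A, εb (Ideal.Quotient.mk I a) = Bialgebra.counitAlgHom R A a := fun a => rfl
  have hidem : ∀ q : A ⧸ I, IsIdempotentElem q → εb q = 1 → q = 1 := by
    intro q hq h1
    rcases IsLocalRing.isUnit_or_isUnit_one_sub_self q with hu | hu
    · have h0 : q * (q - 1) = 0 := by rw [mul_sub, mul_one, hq.eq, sub_self]
      have := (hu.mul_right_eq_zero).1 h0
      exact sub_eq_zero.1 this
    · exfalso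
      have h0 : q * (1 - q) = 0 := by rw [mul_sub, mul_one, hq.eq, sub_self]
      have hq0 : q = 0 := (hu.mul_left_eq_zero).1 h0
      rw [hq0, map_zero] at h1
      exact zero_ne_one h1
  have hS : ∀ x ∈ I, HopfAlgebraStruct.antipode R x ∈ I := by
    intro x hx
    obtain ⟨b, rfl⟩ := Ideal.mem_span_singleton'.1 hx
    rw [HopfAlgebra.antipode_mul_distrib, map_sub, HopfAlgebra.antipode_one]
    apply Ideal.mul_mem_left
    have hq : Ideal.Quotient.mk I (HopfAlgebraStruct.antipode R e) = 1 := by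
      apply hidem
      · have h1 : IsIdempotentElem (HopfAlgebraStruct.antipode R e) := by
          unfold IsIdempotentElem
          rw [← HopfAlgebra.antipode_mul_distrib, he.eq]
        exact h1.map (Ideal.Quotient.mk I)
      · rw [hεb]
        show CoalgebraStruct.counit (R := R) (HopfAlgebraStruct.antipode R e) = 1
        rw [HopfAlgebra.counit_antipode]
        exact hε
    rw [← Ideal.Quotient.eq_zero_iff_mem, map_sub, map_one, hq, sub_self]
  obtain ⟨ψ, hψ⟩ : ∃ ψ : (A ⧸ I) ⊗[R] (A ⧸ I) →ₐ[R] R, ∀ a b, ψ (a ⊗ₜ[R] b) = εb a * εb b :=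
    ⟨(Algebra.TensorProduct.lmul' R).comp (Algebra.TensorProduct.map εb εb), fun a b => by
      rw [AlgHom.comp_apply, Algebra.TensorProduct.map_tmul, Algebra.TensorProduct.lmul'_apply_tmul]⟩
  have hΔ : ∀ x ∈ I, (Algebra.TensorProduct.map (Ideal.Quotient.mkₐ R I) (Ideal.Quotient.mkₐ R I))
      (Bialgebra.comulAlgHom R A x) = 0 := by
    obtain ⟨φ, hφ⟩ : ∃ φ : A →ₐ[R] (A ⧸ I) ⊗[R] (A ⧸ I), ∀ a, φ a =
        (Algebra.TensorProduct.map (Ideal.Quotient.mkₐ R I) (Ideal.Quotient.mkₐ R I))
          (Bialgebra.comulAlgHom R A a) :=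
      ⟨(Algebra.TensorProduct.map (Ideal.Quotient.mkₐ R I) (Ideal.Quotient.mkₐ R I)).comp
        (Bialgebra.comulAlgHom R A), fun a => rfl⟩
    have hψφ : ∀ a : A, ψ (φ a) = Bialgebra.counitAlgHom R A a := by
      intro a
      let r := Coalgebra.Repr.arbitrary R a
      have h1 : Bialgebra.comulAlgHom R A a = ∑ i ∈ r.index, r.left i ⊗ₜ[R] r.right i :=
        r.eq.symm
      rw [hφ, h1, map_sum, map_sum]
      have h2 : ∀ i ∈ r.index, ψ ((Algebra.TensorProduct.map (Ideal.Quotient.mkₐ R I)
          (Ideal.Quotient.mkₐ R I)) (r.left i ⊗ₜ[R] r.right i)) =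
          Bialgebra.counitAlgHom R A (CoalgebraStruct.counit (R := R) (r.left i) • r.right i) := by
        intro i _
        rw [Algebra.TensorProduct.map_tmul, hψ, map_smul, smul_eq_mul]
        rfl
      rw [Finset.sum_congr rfl h2, ← map_sum, Coalgebra.sum_counit_smul]
    have hfe : φ e = 1 := by
      have hf : IsIdempotentElem (φ e) := he.map φ
      have hg : IsIdempotentElem (1 - φ e) := hf.one_sub
      have h0 : ψ (1 - φ e) = 0 := by rw [map_sub, map_one, hψφ, hε, sub_self]
      have := idem_eq_zero (R := R) εb ψ hψ (1 - φ e) hg h0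
      exact (sub_eq_zero.1 this).symm
    intro x hx
    obtain ⟨b, rfl⟩ := Ideal.mem_span_singleton'.1 hx
    rw [← hφ, map_mul, map_sub, map_one, hfe, sub_self, mul_zero]
  refine ⟨?_, ?_, ?_, ?_⟩
  · exact
      { counit_eq_zero := fun x hx => hε0 x hx
        map_mkQ_comul_eq_zero := fun x hx => hΔ x hx
        antipode_mem := fun x hx => hS x hx }
  · exact Groth.Agent.Lib.Helper37.henselianLocalRing_of_finite R (A ⧸ I)
  · intro z
    obtain ⟨y, rfl⟩ := IsLocalRing.residue_surjective z
    refine ⟨εb y, ?_⟩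
    show IsLocalRing.residue (A ⧸ I) (algebraMap R (A ⧸ I) (εb y)) = IsLocalRing.residue (A ⧸ I) y
    rw [← sub_eq_zero, ← map_sub, IsLocalRing.residue_eq_zero_iff, IsLocalRing.mem_maximalIdeal,
      mem_nonunits_iff]
    intro hunit
    have h0 : εb (algebraMap R (A ⧸ I) (εb y) - y) = 0 := by
      rw [map_sub, AlgHom.commutes]
      exact sub_self _
    have := hunit.map εb
    rw [h0] at this
    exact not_isUnit_zero this
  · have h1 : IsLocalization.Away e (A ⧸ I) := IsLocalization.Away.quotient_of_isIdempotentElem he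
    have h2 : Module.Flat A (A ⧸ I) := IsLocalization.flat (A ⧸ I) (Submonoid.powers e)
    exact Module.Flat.trans R A (A ⧸ I)

end Groth.Agent.S13404
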