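import Groth.Statements.S13405
-- import your own Groth.Agent.* helpers here
import Groth.Agent.S7949
import Groth.Agent.Lib.Helper15.ConnFF

set_option autoImplicit false
universe u v
open Hopf

namespace Groth.Agent.S13405

/-- Let R be a complete discrete valuation ring whose residue field is perfect of characteristic p > 0,
and let G = Spec A be a connected finite flat group scheme over R: A is a commutative Hopf algebra
over R, finite and flat as an R-module, and a local ring. Then for some n there are natural numbers
e_1, ..., e_n and power series f_1, ..., f_n in R[[x_1, ..., x_n]] such that A is isomorphic as an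
R-algebra to R[[x_1, ..., x_n]]/(f_1, ..., f_n) and each f_i is x_i ^ (p ^ e_i) plus a polynomial
all of whose coefficients lie in the maximal ideal of R and whose degree in x_i is less than p ^
e_i. -/
theorem result (R : Type u) [CommRing R] [IsDomain R]
    [IsDiscreteValuationRing R] [IsAdicComplete (IsLocalRing.maximalIdeal R) R]
    (p : ℕ) [Fact p.Prime] [CharP (IsLocalRing.ResidueField R) p] [PerfectField (IsLocalRing.ResidueField R)]
    (A : Type v) [CommRing A] [HopfAlgebra R A] [Module.Finite R A] [Module.Flat R A] [IsLocalRing A] :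
    ∃ (n : ℕ) (e : Fin n → ℕ) (g : Fin n → MvPolynomial (Fin n) R),
      (∀ i, (∀ d, (g i).coeff d ∈ IsLocalRing.maximalIdeal R) ∧ (g i).degreeOf i < p ^ e i) ∧
      Nonempty (A ≃ₐ[R] (MvPowerSeries (Fin n) R ⧸
        Ideal.span (Set.range fun i => (MvPowerSeries.X i : MvPowerSeries (Fin n) R) ^ p ^ e i + ↑(g i)))) := by
  classical
  open TensorProduct in
  have : Module.Finite (IsLocalRing.ResidueField R) (IsLocalRing.ResidueField R ⊗[R] A) :=
    inferInstance
  let ι : A →ₐ[R] (IsLocalRing.ResidueField R ⊗[R] A) := Algebra.TensorProduct.includeRight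
  have hιsurj : Function.Surjective ι :=
    TensorProduct.mk_surjective R A (IsLocalRing.ResidueField R) Ideal.Quotient.mk_surjective
  have hnt : Nontrivial (IsLocalRing.ResidueField R ⊗[R] A) := by
    rw [← not_subsingleton_iff_nontrivial,
      IsLocalRing.subsingleton_tensorProduct (R := R) (M := A)]
    exact not_subsingleton A
  have : IsLocalRing (IsLocalRing.ResidueField R ⊗[R] A) :=
    IsLocalRing.of_surjective' (ι : A →+* (IsLocalRing.ResidueField R ⊗[R] A)) hιsurj
  obtain ⟨n, e, -, ⟨φ⟩⟩ := Groth.Agent.S7949.result (IsLocalRing.ResidueField R)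
    (IsLocalRing.ResidueField R ⊗[R] A) p
  obtain ⟨g, hg, hiso⟩ := Groth.Agent.Lib.Helper15.ConnFF.exists_presentation R A
    (fun i => p ^ e i) φ
  refine ⟨n, e, g, fun i => ⟨(hg i).1, ?_⟩, hiso⟩
  rw [MvPolynomial.degreeOf_lt_iff (pow_pos (Fact.out : p.Prime).pos _)]
  exact fun d hd => (hg i).2 d hd i

end Groth.Agent.S13405
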