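import Groth.Statements.S13407
import Mathlib
-- import your own Groth.Agent.* helpers here

set_option autoImplicit false
universe u
open TensorProduct
open Hopf

namespace Groth.Agent.S13407


section Crit
variable (R : Type u) [CommRing R] {A : Type u} [CommRing A] [HopfAlgebra R A]

noncomputable def comulQ (J : Ideal A) : A →ₐ[R] (A ⧸ J) ⊗[R] (A ⧸ J) :=
  (Algebra.TensorProduct.map (Ideal.Quotient.mkₐ R J) (Ideal.Quotient.mkₐ R J)).comp
    (Bialgebra.comulAlgHom R A)

theorem isHopfIdeal_of (J : Ideal A) (h1 : ∀ x ∈ J, Coalgebra.counit (R := R) x = 0)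
    (h2 : ∀ x ∈ J, comulQ R J x = 0) (h3 : ∀ x ∈ J, HopfAlgebra.antipode R x ∈ J) :
    J.IsHopfIdeal R :=
  { counit_eq_zero := fun x hx => h1 x hx
    map_mkQ_comul_eq_zero := fun x hx => h2 x hx
    antipode_mem := fun x hx => h3 x hx }

theorem comulQ_eq_zero (J : Ideal A) [hJ : J.IsHopfIdeal R] (x : A) (hx : x ∈ J) :
    comulQ R J x = 0 :=
  Submodule.IsCoideal.map_mkQ_comul_eq_zero (I := J.restrictScalars R) hx

theorem counit_eq_zero' (J : Ideal A) [hJ : J.IsHopfIdeal R] (x : A) (hx : x ∈ J) :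
    Coalgebra.counit (R := R) x = 0 :=
  Submodule.IsCoideal.counit_eq_zero (I := J.restrictScalars R) hx
end Crit

section Compat
variable (R : Type u) [CommRing R] (K : Type u) [CommRing K] [Algebra R K]
  (A : Type u) [CommRing A] [HopfAlgebra R A]

lemma counit_incl (a : A) :
    Coalgebra.counit (R := K) ((1 : K) ⊗ₜ[R] a) = algebraMap R K (Coalgebra.counit (R := R) a) := by
  simp [Algebra.algebraMap_eq_smul_one]

lemma antipode_incl (a : A) :
    HopfAlgebra.antipode K ((1 : K) ⊗ₜ[R] a) = (1 : K) ⊗ₜ[R] (HopfAlgebra.antipode R a) := by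
  simp

variable {A}

noncomputable def iotaBar (J' : Ideal A) (J : Ideal (K ⊗[R] A))
    (hle : J' ≤ J.comap (Algebra.TensorProduct.includeRight : A →ₐ[R] K ⊗[R] A)) :
    A ⧸ J' →ₐ[R] (K ⊗[R] A) ⧸ J :=
  Ideal.quotientMapₐ J Algebra.TensorProduct.includeRight hle

noncomputable def Phi (J' : Ideal A) (J : Ideal (K ⊗[R] A))
    (hle : J' ≤ J.comap (Algebra.TensorProduct.includeRight : A →ₐ[R] K ⊗[R] A)) :
    (A ⧸ J') ⊗[R] (A ⧸ J') →ₗ[R] ((K ⊗[R] A) ⧸ J) ⊗[K] ((K ⊗[R] A) ⧸ J) :=
  (TensorProduct.mapOfCompatibleSMul K R R _ _) ∘ₗ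
    (TensorProduct.map (iotaBar R K J' J hle).toLinearMap (iotaBar R K J' J hle).toLinearMap)

lemma Phi_comulQ (J' : Ideal A) (J : Ideal (K ⊗[R] A))
    (hle : J' ≤ J.comap (Algebra.TensorProduct.includeRight : A →ₐ[R] K ⊗[R] A)) (x : A) :
    Phi R K J' J hle (comulQ R J' x) = comulQ K J ((1 : K) ⊗ₜ[R] x) := by
  have h1 := RingHom.congr_fun
    (Bialgebra.comul_includeRight (R := R) (A := K) (B := A)) x
  have key : ∀ t : A ⊗[R] A,
      Phi R K J' J hle
        (Algebra.TensorProduct.map (Ideal.Quotient.mkₐ R J') (Ideal.Quotient.mkₐ R J') t)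
      = Algebra.TensorProduct.map (Ideal.Quotient.mkₐ K J) (Ideal.Quotient.mkₐ K J)
        (Algebra.TensorProduct.mapRingHom (algebraMap R K)
        (RingHomClass.toRingHom (Algebra.TensorProduct.includeRight (R := R) (A := K) (B := A)))
        (RingHomClass.toRingHom (Algebra.TensorProduct.includeRight (R := R) (A := K) (B := A)))
        (by simp [← IsScalarTower.algebraMap_eq])
        (by simp [← IsScalarTower.algebraMap_eq]) t) := by
    intro t
    induction t using TensorProduct.induction_on with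
    | zero => simp
    | add x y hx hy => simp only [map_add, hx, hy]
    | tmul a b => simp [Phi, iotaBar]
  simp only [comulQ, AlgHom.comp_apply]
  rw [key]
  congr 1
  exact h1.symm

end Compat

section PartI
variable (R : Type u) [CommRing R] (K : Type u) [CommRing K] [Algebra R K]
  (A : Type u) [CommRing A] [HopfAlgebra R A]

theorem map_isHopfIdeal (J' : Ideal A) [J'.IsHopfIdeal R] :
    (Ideal.map (Algebra.TensorProduct.includeRight : A →ₐ[R] K ⊗[R] A) J').IsHopfIdeal K := by
  have hle : J' ≤ (Ideal.map (Algebra.TensorProduct.includeRight : A →ₐ[R] K ⊗[R] A) J').comap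
      (Algebra.TensorProduct.includeRight : A →ₐ[R] K ⊗[R] A) := Ideal.le_comap_map
  have H1 : Ideal.map (Algebra.TensorProduct.includeRight : A →ₐ[R] K ⊗[R] A) J' ≤
      RingHom.ker (Bialgebra.counitAlgHom K (K ⊗[R] A)) := by
    rw [Ideal.map_le_iff_le_comap]
    intro a ha
    rw [Ideal.mem_comap, RingHom.mem_ker]
    show Coalgebra.counit (R := K) ((1 : K) ⊗ₜ[R] a) = 0
    rw [counit_incl, counit_eq_zero' R J' a ha, map_zero]
  have H2 : Ideal.map (Algebra.TensorProduct.includeRight : A →ₐ[R] K ⊗[R] A) J' ≤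
      RingHom.ker (comulQ K
        (Ideal.map (Algebra.TensorProduct.includeRight : A →ₐ[R] K ⊗[R] A) J')) := by
    rw [Ideal.map_le_iff_le_comap]
    intro a ha
    rw [Ideal.mem_comap, RingHom.mem_ker]
    show comulQ K _ ((1 : K) ⊗ₜ[R] a) = 0
    rw [← Phi_comulQ R K J' _ hle, comulQ_eq_zero R J' a ha, map_zero]
  have H3 : Ideal.map (Algebra.TensorProduct.includeRight : A →ₐ[R] K ⊗[R] A) J' ≤
      (Ideal.map (Algebra.TensorProduct.includeRight : A →ₐ[R] K ⊗[R] A) J').comap
        (HopfAlgebra.antipodeAlgHom K (K ⊗[R] A)) := by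
    rw [Ideal.map_le_iff_le_comap]
    intro a ha
    rw [Ideal.mem_comap, Ideal.mem_comap]
    show HopfAlgebra.antipode K ((1 : K) ⊗ₜ[R] a) ∈ _
    rw [antipode_incl]
    exact Ideal.mem_map_of_mem _ (Ideal.IsHopfIdeal.antipode_mem (R := R) ha)
  exact isHopfIdeal_of K _ (fun x hx => H1 hx) (fun x hx => H2 hx) (fun x hx => H3 hx)

end PartI

section PartIII
variable (R : Type u) [CommRing R] [IsDomain R] (K : Type u) [Field K] [Algebra R K]
  [IsFractionRing R K] (A : Type u) [CommRing A] [HopfAlgebra R A]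

instance flat_quot (J : Ideal (K ⊗[R] A)) : Module.Flat R ((K ⊗[R] A) ⧸ J) :=
  haveI : Module.Flat R K := IsLocalization.flat K (nonZeroDivisors R)
  haveI : Module.Free K ((K ⊗[R] A) ⧸ J) := Module.Free.of_divisionRing K _
  haveI : Module.Flat K ((K ⊗[R] A) ⧸ J) := Module.Flat.of_free
  Module.Flat.trans R K _

variable {A}

lemma iotaBar_injective (J : Ideal (K ⊗[R] A)) :
    Function.Injective (iotaBar R K (J.comap
      (Algebra.TensorProduct.includeRight : A →ₐ[R] K ⊗[R] A)) J le_rfl) := by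
  rw [injective_iff_map_eq_zero]
  intro q hq
  obtain ⟨a, rfl⟩ := Ideal.Quotient.mk_surjective q
  have : Ideal.Quotient.mk J ((1 : K) ⊗ₜ[R] a) = 0 := hq
  rw [Ideal.Quotient.eq_zero_iff_mem] at this ⊢
  exact this

lemma Phi_injective (J : Ideal (K ⊗[R] A))
    [Module.Flat R (A ⧸ J.comap (Algebra.TensorProduct.includeRight : A →ₐ[R] K ⊗[R] A))] :
    Function.Injective (Phi R K (J.comap
      (Algebra.TensorProduct.includeRight : A →ₐ[R] K ⊗[R] A)) J le_rfl) := by
  have := IsLocalization.tensorProduct_compatibleSMul (nonZeroDivisors R) K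
    ((K ⊗[R] A) ⧸ J) ((K ⊗[R] A) ⧸ J)
  have h1 : Function.Injective (TensorProduct.mapOfCompatibleSMul K R R
      ((K ⊗[R] A) ⧸ J) ((K ⊗[R] A) ⧸ J)) :=
    (TensorProduct.equivOfCompatibleSMul K R R ((K ⊗[R] A) ⧸ J) ((K ⊗[R] A) ⧸ J)).injective
  have h2 := TensorProduct.map_injective_of_flat_flat'
    (iotaBar R K (J.comap (Algebra.TensorProduct.includeRight : A →ₐ[R] K ⊗[R] A)) J
      le_rfl).toLinearMap
    (iotaBar R K (J.comap (Algebra.TensorProduct.includeRight : A →ₐ[R] K ⊗[R] A)) J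
      le_rfl).toLinearMap (iotaBar_injective R K J) (iotaBar_injective R K J)
  exact h1.comp h2

end PartIII

section Final
variable (R : Type u) [CommRing R] [IsDomain R] (K : Type u) [Field K] [Algebra R K]
  [IsFractionRing R K] (A : Type u) [CommRing A] [HopfAlgebra R A]

attribute [local instance] Algebra.TensorProduct.rightAlgebra

variable {A}

omit [HopfAlgebra R A] in
lemma mem_of_incl_mem_map [Algebra R A] (J' : Ideal A) [Module.IsTorsionFree R (A ⧸ J')] (x : A)
    (hx : (1 : K) ⊗ₜ[R] x ∈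
      Ideal.map (Algebra.TensorProduct.includeRight : A →ₐ[R] K ⊗[R] A) J') : x ∈ J' := by
  have h := (IsLocalization.algebraMap_mem_map_algebraMap_iff
    (Algebra.algebraMapSubmonoid A (nonZeroDivisors R)) (K ⊗[R] A) J' x).mp hx
  obtain ⟨m, ⟨r, hr, rfl⟩, hm⟩ := h
  have h0 : r • (Ideal.Quotient.mk J' x) = 0 := by
    rw [← Ideal.Quotient.eq_zero_iff_mem] at hm
    rw [← hm, Algebra.smul_def]
    rfl
  have hr0 : r ≠ 0 := nonZeroDivisors.ne_zero hr
  rw [smul_eq_zero_iff_right hr0] at h0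
  exact Ideal.Quotient.eq_zero_iff_mem.mp h0

omit [HopfAlgebra R A] in
lemma comap_map_incl [Algebra R A] (J' : Ideal A) [Module.IsTorsionFree R (A ⧸ J')] :
    Ideal.comap (Algebra.TensorProduct.includeRight : A →ₐ[R] K ⊗[R] A)
      (Ideal.map (Algebra.TensorProduct.includeRight : A →ₐ[R] K ⊗[R] A) J') = J' :=
  le_antisymm (fun x hx => mem_of_incl_mem_map R K J' x hx) Ideal.le_comap_map

omit [HopfAlgebra R A] in
lemma map_comap_incl [Algebra R A] (J : Ideal (K ⊗[R] A)) :
    Ideal.map (Algebra.TensorProduct.includeRight : A →ₐ[R] K ⊗[R] A)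
      (Ideal.comap (Algebra.TensorProduct.includeRight : A →ₐ[R] K ⊗[R] A) J) = J :=
  IsLocalization.map_under (Algebra.algebraMapSubmonoid A (nonZeroDivisors R)) (K ⊗[R] A) J

lemma torsionFree_comap (J : Ideal (K ⊗[R] A)) :
    Module.IsTorsionFree R
      (A ⧸ Ideal.comap (Algebra.TensorProduct.includeRight : A →ₐ[R] K ⊗[R] A) J) :=
  Function.Injective.moduleIsTorsionFree (iotaBar R K _ J le_rfl) (iotaBar_injective R K J)
    (fun r m => map_smul _ r m)

theorem comap_isHopfIdeal (J : Ideal (K ⊗[R] A)) [J.IsHopfIdeal K]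
    [Module.Flat R (A ⧸ J.comap (Algebra.TensorProduct.includeRight : A →ₐ[R] K ⊗[R] A))] :
    (J.comap (Algebra.TensorProduct.includeRight : A →ₐ[R] K ⊗[R] A)).IsHopfIdeal R := by
  refine isHopfIdeal_of R _ ?_ ?_ ?_
  · intro x hx
    have h := counit_eq_zero' K J _ (Ideal.mem_comap.mp hx)
    change Coalgebra.counit (R := K) ((1 : K) ⊗ₜ[R] x) = 0 at h
    rw [counit_incl] at h
    exact (IsFractionRing.injective R K) (h.trans (map_zero _).symm)
  · intro x hx
    have h := comulQ_eq_zero K J _ (Ideal.mem_comap.mp hx)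
    change comulQ K J ((1 : K) ⊗ₜ[R] x) = 0 at h
    rw [← Phi_comulQ R K _ J le_rfl] at h
    exact Phi_injective R K J (h.trans (map_zero _).symm)
  · intro x hx
    have h := Ideal.IsHopfIdeal.antipode_mem (R := K) (Ideal.mem_comap.mp hx)
    change HopfAlgebra.antipode K ((1 : K) ⊗ₜ[R] x) ∈ J at h
    rw [antipode_incl] at h
    exact h

end Final


/-- Let R be a Dedekind domain with fraction field K and let G = Spec A be a finite flat group scheme
over R (A a commutative Hopf algebra over R, finite and flat as an R-module). Closed flat R-subgroup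
schemes of G correspond one-to-one to closed K-subgroup schemes of the generic fibre G_K under H ↦
H_K: the map sending a Hopf ideal J' of A with A/J' flat over R to the ideal it generates in K ⊗_R A
is a bijection onto the set of Hopf ideals of the Hopf algebra K ⊗_R A over K (its inverse takes a
Hopf ideal of K ⊗_R A to its preimage in A). -/
theorem result (R : Type u) [CommRing R] [IsDedekindDomain R]
    (K : Type u) [Field K] [Algebra R K] [IsFractionRing R K]
    (A : Type u) [CommRing A] [HopfAlgebra R A] [Module.Finite R A] [Module.Flat R A] :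
    Set.BijOn (fun J' : Ideal A => Ideal.map (Algebra.TensorProduct.includeRight : A →ₐ[R] K ⊗[R] A) J')
      {J' : Ideal A | J'.IsHopfIdeal R ∧ Module.Flat R (A ⧸ J')}
      {J : Ideal (K ⊗[R] A) | J.IsHopfIdeal K} := by
  refine ⟨?_, ?_, ?_⟩
  · rintro J' ⟨hJ', _⟩
    exact map_isHopfIdeal R K A J'
  · rintro J₁ ⟨_, hf1⟩ J₂ ⟨_, hf2⟩ h
    have h' : Ideal.map (Algebra.TensorProduct.includeRight : A →ₐ[R] K ⊗[R] A) J₁ =
      Ideal.map (Algebra.TensorProduct.includeRight : A →ₐ[R] K ⊗[R] A) J₂ := h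
    rw [← comap_map_incl R K J₁, ← comap_map_incl R K J₂, h']
  · intro J hJ
    have hJ' : J.IsHopfIdeal K := hJ
    haveI := torsionFree_comap R K J
    haveI : Module.Flat R
      (A ⧸ Ideal.comap (Algebra.TensorProduct.includeRight : A →ₐ[R] K ⊗[R] A) J) :=
      inferInstance
    exact ⟨Ideal.comap (Algebra.TensorProduct.includeRight : A →ₐ[R] K ⊗[R] A) J,
      ⟨comap_isHopfIdeal R K J, inferInstance⟩, map_comap_incl R K J⟩

end Groth.Agent.S13407
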