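import Groth.Statements.S13409
-- import your own Groth.Agent.* helpers here
import Mathlib
import Groth.Agent.Lib.Helper72.BipLab

set_option autoImplicit false
universe u v
open CombGraph

namespace Groth.Agent.S13409

/-- Let `A` be an abelian group and `G` a finite connected simple graph on `V` that is bipartite for a
two-colouring `c : V → Bool` (adjacent vertices get different colours). If `a : V → A` has the same
sum over the vertices of each colour, then some labelling `x` of the edges by elements of `A` has,
at every vertex `v`, the sum of `x` over the edges incident to `v` equal to `a v`. (The published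
statement concerns finite bipartite graphs in general; this row treats simple graphs.) -/
theorem result {V : Type u} [Fintype V] [DecidableEq V]
    (G : SimpleGraph V) [DecidableRel G.Adj] (hconn : G.Connected) (c : V → Bool)
    (hbip : ∀ v w : V, G.Adj v w → c v ≠ c w) (A : Type v) [AddCommGroup A] (a : V → A)
    (hsum : ∑ v ∈ Finset.univ.filter (fun v => c v = true), a v =
      ∑ v ∈ Finset.univ.filter (fun v => c v = false), a v) :
    ∃ x : Sym2 V → A, ∀ v : V, ∑ e ∈ G.incidenceFinset v, x e = a v := by
  classical
  obtain ⟨r⟩ := hconn.nonempty
  let p : ∀ v, G.Walk v r := fun v => (hconn.preconnected v r).some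
  refine ⟨∑ v, Groth.Agent.Lib.Helper72.BipLab.walkLab G (a v) (p v), fun u => ?_⟩
  simp only [Finset.sum_apply]
  rw [Finset.sum_comm]
  simp only [Groth.Agent.Lib.Helper72.BipLab.sum_walkLab]
  rw [Finset.sum_add_distrib, Finset.sum_ite_eq, if_pos (Finset.mem_univ u)]
  by_cases hur : u = r
  · subst hur
    simp only [if_true]
    have hε : ∀ v, ((-1 : ℤ) ^ ((p v).length + 1)) • a v = if c v = c u then -(a v) else a v := by
      intro v
      by_cases hv : c v = c u
      · rw [if_pos hv]
        have := (Groth.Agent.Lib.Helper72.BipLab.even_length_iff G c hbip (p v)).2 hv
        rw [Odd.neg_one_pow (Even.add_one this), neg_smul, one_smul]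
      · rw [if_neg hv]
        have : ¬ Even (p v).length := fun h =>
          hv ((Groth.Agent.Lib.Helper72.BipLab.even_length_iff G c hbip (p v)).1 h)
        rw [Nat.not_even_iff_odd] at this
        rw [Even.neg_one_pow (Odd.add_one this), one_smul]
    rw [Finset.sum_congr rfl (fun v _ => hε v), Finset.sum_ite, Finset.sum_neg_distrib]
    have hfalse : ∀ b : Bool, (Finset.univ.filter fun v => ¬ c v = b) =
        Finset.univ.filter fun v => c v = !b := by
      intro b
      ext v
      simp only [Finset.mem_filter, Finset.mem_univ, true_and]
      cases c v <;> cases b <;> simp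
    rw [hfalse]
    cases hcu : c u
    · simp only [Bool.not_false]
      rw [hsum]
      abel
    · simp only [Bool.not_true]
      rw [hsum]
      abel
  · simp only [if_neg hur, smul_zero, Finset.sum_const_zero, add_zero]

end Groth.Agent.S13409
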