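import Groth.Statements.S13418
import Mathlib
-- import your own Groth.Agent.* helpers here

set_option autoImplicit false
universe u
open CategoryTheory AlgebraicGeometry
open NeronHD

namespace Groth.Agent.S13418
open Limits


section
variable {S S₀ : Scheme.{u}} (f : S₀ ⟶ S)

lemma map_left_fst {N M : Over S} (g : N ⟶ M) :
    ((Over.pullback f).map g).left ≫ pullback.fst M.hom f = pullback.fst N.hom f ≫ g.left := by
  simp only [Over.pullback_map_left]
  rw [pullback.lift_fst]

lemma map_left_snd {N M : Over S} (g : N ⟶ M) :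
    ((Over.pullback f).map g).left ≫ pullback.snd M.hom f = pullback.snd N.hom f := by
  simp only [Over.pullback_map_left]
  rw [pullback.lift_snd]

/-- the product object -/
noncomputable abbrev P (N M : Over S) : Over S := Over.mk (pullback.fst N.hom M.hom ≫ N.hom)

noncomputable def π₁ (N M : Over S) : P N M ⟶ N := Over.homMk (pullback.fst N.hom M.hom) rfl
noncomputable def π₂ (N M : Over S) : P N M ⟶ M :=
  Over.homMk (pullback.snd N.hom M.hom) (by
    change pullback.snd N.hom M.hom ≫ M.hom = pullback.fst N.hom M.hom ≫ N.hom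
    rw [pullback.condition])

lemma π₁_left (N M : Over S) : (π₁ N M).left = pullback.fst N.hom M.hom := rfl
lemma π₂_left (N M : Over S) : (π₂ N M).left = pullback.snd N.hom M.hom := rfl

noncomputable def lift' {N M Z : Over S} (a : Z ⟶ N) (b : Z ⟶ M) : Z ⟶ P N M :=
  Over.homMk (pullback.lift a.left b.left (by rw [Over.w a, Over.w b])) (by
    change pullback.lift _ _ _ ≫ pullback.fst N.hom M.hom ≫ N.hom = Z.hom
    rw [pullback.lift_fst_assoc, Over.w])

lemma lift'_π₁ {N M Z : Over S} (a : Z ⟶ N) (b : Z ⟶ M) : lift' a b ≫ π₁ N M = a := by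
  ext
  change pullback.lift _ _ _ ≫ pullback.fst N.hom M.hom = a.left
  rw [pullback.lift_fst]

lemma lift'_π₂ {N M Z : Over S} (a : Z ⟶ N) (b : Z ⟶ M) : lift' a b ≫ π₂ N M = b := by
  ext
  change pullback.lift _ _ _ ≫ pullback.snd N.hom M.hom = b.left
  rw [pullback.lift_snd]

lemma hom_ext_P {N M Z : Over S} (g g' : Z ⟶ P N M) (h1 : g ≫ π₁ N M = g' ≫ π₁ N M)
    (h2 : g ≫ π₂ N M = g' ≫ π₂ N M) : g = g' := by
  ext
  apply pullback.hom_ext
  · exact congrArg (fun φ => φ.left) h1
  · exact congrArg (fun φ => φ.left) h2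

lemma hom_ext_FP {N M : Over S} {W : Over S₀} (h h' : W ⟶ (Over.pullback f).obj (P N M))
    (h1 : h ≫ (Over.pullback f).map (π₁ N M) = h' ≫ (Over.pullback f).map (π₁ N M))
    (h2 : h ≫ (Over.pullback f).map (π₂ N M) = h' ≫ (Over.pullback f).map (π₂ N M)) : h = h' := by
  ext
  refine pullback.hom_ext (f := (P N M).hom) (g := f) ?_ ?_
  · apply pullback.hom_ext
    · have e := congrArg (fun φ => φ.left ≫ pullback.fst _ _) h1
      simp only [Over.comp_left, Category.assoc] at e
      rw [map_left_fst, π₁_left] at e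
      simpa only [Category.assoc] using e
    · have e := congrArg (fun φ => φ.left ≫ pullback.fst _ _) h2
      simp only [Over.comp_left, Category.assoc] at e
      rw [map_left_fst, π₂_left] at e
      simpa only [Category.assoc] using e
  · have e1 := Over.w h
    have e2 := Over.w h'
    exact e1.trans e2.symm

theorem main (N M : Over S)
    (hN : ∀ Z : Over S, Smooth Z.hom → Function.Bijective (fun g : Z ⟶ N => (Over.pullback f).map g))
    (hM : ∀ Z : Over S, Smooth Z.hom → Function.Bijective (fun g : Z ⟶ M => (Over.pullback f).map g)) :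
    ∀ Z : Over S, Smooth Z.hom → Function.Bijective (fun g : Z ⟶ P N M => (Over.pullback f).map g) := by
  intro Z hZ
  constructor
  · intro g g' hgg'
    simp only at hgg'
    apply hom_ext_P
    · apply (hN Z hZ).1
      simp only [Functor.map_comp, hgg']
    · apply (hM Z hZ).1
      simp only [Functor.map_comp, hgg']
  · intro h
    obtain ⟨g₁, hg₁⟩ := (hN Z hZ).2 (h ≫ (Over.pullback f).map (π₁ N M))
    obtain ⟨g₂, hg₂⟩ := (hM Z hZ).2 (h ≫ (Over.pullback f).map (π₂ N M))
    refine ⟨lift' g₁ g₂, ?_⟩
    simp only at hg₁ hg₂ ⊢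
    apply hom_ext_FP
    · rw [← Functor.map_comp, lift'_π₁, hg₁]
    · rw [← Functor.map_comp, lift'_π₂, hg₂]

end

/-- Let S be a locally Noetherian scheme over a field of characteristic 0 and S₀ ⊆ S a
scheme-theoretically dense open. If N and M are smooth S-schemes having the Néron mapping property
for S₀ ⊆ S (for every smooth S-scheme Z, restriction to S₀ is a bijection from S-morphisms Z → N
onto S₀-morphisms Z|S₀ → N|S₀), then the fibre product N ×_S M has the Néron mapping property for S₀
⊆ S (its smoothness over S being automatic). (This row is the case of schemes, with smooth test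
schemes, of a statement about algebraic spaces.) -/
theorem result {k : Type u} [Field k] [CharZero k] {S : Scheme.{u}} (σ : S ⟶ Spec (CommRingCat.of k)) [IsLocallyNoetherian S] (S₀ : S.Opens) (hS₀ : CInt.IsSchematicallyDense S₀)
    (N M : Over S) [Smooth N.hom] [Smooth M.hom]
    (hN : ∀ Z : Over S, Smooth Z.hom → Function.Bijective (fun g : Z ⟶ N => (Over.pullback S₀.ι).map g))
    (hM : ∀ Z : Over S, Smooth Z.hom → Function.Bijective (fun g : Z ⟶ M => (Over.pullback S₀.ι).map g)) :
    ∀ Z : Over S, Smooth Z.hom → Function.Bijective (fun g : Z ⟶ Over.mk (Limits.pullback.fst N.hom M.hom ≫ N.hom) => (Over.pullback S₀.ι).map g) := by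
  exact main S₀.ι N M hN hM

end Groth.Agent.S13418
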