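import Groth.Statements.S13421
import Mathlib
-- import your own Groth.Agent.* helpers here

set_option autoImplicit false
universe u
open CategoryTheory AlgebraicGeometry
open NeronHD

namespace Groth.Agent.S13421
open Limits


instance smoothMul : MorphismProperty.IsMultiplicative @Smooth where
  id_mem X := inferInstanceAs (Smooth (𝟙 X))

instance smoothPostcompEtale : MorphismProperty.HasOfPostcompProperty @Smooth @Etale := by
  rw [MorphismProperty.hasOfPostcompProperty_iff_le_diagonal]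
  intro X Y f hf
  have : Etale f := hf
  have : Etale (pullback.diagonal f) := inferInstance
  exact inferInstanceAs (Smooth (pullback.diagonal f))

lemma smooth_of_comp_etale {X Y Z : Scheme.{u}} (a : X ⟶ Y) (f : Y ⟶ Z) [Etale f] [Smooth (a ≫ f)] : Smooth a :=
  MorphismProperty.of_postcomp (W := @Smooth) (W' := @Etale) a f ‹_› ‹_›

section
variable {S S₀ : Scheme.{u}} (f₀ : S₀ ⟶ S)

lemma map_left_fst {N M : Over S} (g : N ⟶ M) :
    ((Over.pullback f₀).map g).left ≫ pullback.fst M.hom f₀ = pullback.fst N.hom f₀ ≫ g.left := by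
  simp only [Over.pullback_map_left]
  rw [pullback.lift_fst]

lemma map_left_snd {N M : Over S} (g : N ⟶ M) :
    ((Over.pullback f₀).map g).left ≫ pullback.snd M.hom f₀ = pullback.snd N.hom f₀ := by
  simp only [Over.pullback_map_left]
  rw [pullback.lift_snd]

end

section
variable {T S N : Scheme.{u}} (T₀ : T.Opens) (f : S ⟶ T) (g : N ⟶ S)

/-- comparison iso `Z ×_S S₀ ≅ Z ×_T T₀` -/
lemma isPullback_cmp {Z : Scheme.{u}} (a : Z ⟶ S) (z : Z ⟶ T) (haz : a ≫ f = z) :
    IsPullback (pullback.fst a (f ⁻¹ᵁ T₀).ι) (pullback.snd a (f ⁻¹ᵁ T₀).ι ≫ (f ∣_ T₀)) z T₀.ι := by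
  have := ((IsPullback.of_hasPullback a (f ⁻¹ᵁ T₀).ι).flip.paste_horiz (isPullback_morphismRestrict f T₀)).flip
  rwa [haz] at this

noncomputable def cmp {Z : Scheme.{u}} (a : Z ⟶ S) (z : Z ⟶ T) (haz : a ≫ f = z) :
    pullback a (f ⁻¹ᵁ T₀).ι ≅ pullback z T₀.ι :=
  (isPullback_cmp T₀ f a z haz).isoPullback

lemma cmp_fst {Z : Scheme.{u}} (a : Z ⟶ S) (z : Z ⟶ T) (haz : a ≫ f = z) :
    (cmp T₀ f a z haz).hom ≫ pullback.fst z T₀.ι = pullback.fst a (f ⁻¹ᵁ T₀).ι := by
  simp [cmp]

lemma cmp_snd {Z : Scheme.{u}} (a : Z ⟶ S) (z : Z ⟶ T) (haz : a ≫ f = z) :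
    (cmp T₀ f a z haz).hom ≫ pullback.snd z T₀.ι = pullback.snd a (f ⁻¹ᵁ T₀).ι ≫ (f ∣_ T₀) := by
  simp [cmp]


theorem main [Etale f] [Smooth g]
    (hS : ∀ Z : Over T, Smooth Z.hom → Function.Bijective (fun γ : Z ⟶ Over.mk f => (Over.pullback T₀.ι).map γ))
    (hN : ∀ Z : Over S, Smooth Z.hom → Function.Bijective (fun γ : Z ⟶ Over.mk g => (Over.pullback (f ⁻¹ᵁ T₀).ι).map γ)) :
    ∀ Z : Over T, Smooth Z.hom → Function.Bijective (fun γ : Z ⟶ Over.mk (g ≫ f) => (Over.pullback T₀.ι).map γ) := by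
  intro Z hZ
  let ĝ : Over.mk (g ≫ f) ⟶ Over.mk f := Over.homMk g rfl
  have hĝ : ĝ.left = g := rfl
  constructor
  · intro γ γ' hγ
    simp only at hγ
    have ha : γ ≫ ĝ = γ' ≫ ĝ := by
      apply (hS Z hZ).1
      simp only [Functor.map_comp, hγ]
    have ha' : γ.left ≫ g = γ'.left ≫ g := congrArg (fun φ => φ.left) ha
    have hαf : (γ.left ≫ g) ≫ f = Z.hom := by
      rw [Category.assoc]; exact Over.w γ
    have hsm : Smooth ((γ.left ≫ g) ≫ f) := by rw [hαf]; exact hZ
    have hα : Smooth (γ.left ≫ g) := smooth_of_comp_etale (γ.left ≫ g) f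
    let γt : Over.mk (γ.left ≫ g) ⟶ Over.mk g := Over.homMk γ.left rfl
    let γt' : Over.mk (γ.left ≫ g) ⟶ Over.mk g := Over.homMk γ'.left ha'.symm
    have key : γt = γt' := by
      apply (hN (Over.mk (γ.left ≫ g)) hα).1
      simp only
      ext
      refine pullback.hom_ext (f := g) (g := (f ⁻¹ᵁ T₀).ι) ?_ ?_
      · erw [map_left_fst, map_left_fst]
        change pullback.fst (γ.left ≫ g) (f ⁻¹ᵁ T₀).ι ≫ γ.left = pullback.fst (γ.left ≫ g) (f ⁻¹ᵁ T₀).ι ≫ γ'.left
        rw [← cmp_fst T₀ f (γ.left ≫ g) Z.hom hαf, Category.assoc, Category.assoc]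
        congr 1
        have e1 := congrArg (fun φ => φ.left ≫ pullback.fst _ _) hγ
        beta_reduce at e1
        erw [map_left_fst, map_left_fst] at e1
        exact e1
      · erw [map_left_snd, map_left_snd]
    ext
    exact congrArg (fun φ => φ.left) key
  · intro h
    obtain ⟨a, ha⟩ := (hS Z hZ).2 (h ≫ (Over.pullback T₀.ι).map ĝ)
    simp only at ha
    have haf : a.left ≫ f = Z.hom := Over.w a
    have hsm : Smooth (a.left ≫ f) := by rw [haf]; exact hZ
    have hα : Smooth a.left := smooth_of_comp_etale a.left f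
    -- key relation
    have hrel : h.left ≫ pullback.fst (g ≫ f) T₀.ι ≫ g = pullback.fst Z.hom T₀.ι ≫ a.left := by
      have e1 := congrArg (fun φ => φ.left ≫ pullback.fst _ _) ha
      simp only [Over.comp_left, Category.assoc] at e1
      erw [map_left_fst, map_left_fst] at e1
      exact e1.symm
    let c := cmp T₀ f a.left Z.hom haf
    have hcond : (c.hom ≫ h.left ≫ pullback.fst (g ≫ f) T₀.ι) ≫ g =
        pullback.snd a.left (f ⁻¹ᵁ T₀).ι ≫ (f ⁻¹ᵁ T₀).ι := by
      rw [Category.assoc, Category.assoc, hrel, ← Category.assoc, cmp_fst, pullback.condition]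
    let ht : (Over.pullback (f ⁻¹ᵁ T₀).ι).obj (Over.mk a.left) ⟶ (Over.pullback (f ⁻¹ᵁ T₀).ι).obj (Over.mk g) :=
      Over.homMk (pullback.lift (c.hom ≫ h.left ≫ pullback.fst (g ≫ f) T₀.ι) (pullback.snd a.left (f ⁻¹ᵁ T₀).ι) hcond)
        (by
          change pullback.lift _ _ _ ≫ pullback.snd g (f ⁻¹ᵁ T₀).ι = pullback.snd a.left (f ⁻¹ᵁ T₀).ι
          rw [pullback.lift_snd])
    obtain ⟨γt, hγt⟩ := (hN (Over.mk a.left) hα).2 ht
    simp only at hγt
    have hw : γt.left ≫ g = a.left := Over.w γt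
    let γ : Z ⟶ Over.mk (g ≫ f) := Over.homMk γt.left (by
      change γt.left ≫ g ≫ f = Z.hom
      rw [← Category.assoc, hw, haf])
    refine ⟨γ, ?_⟩
    simp only
    ext
    refine pullback.hom_ext (f := g ≫ f) (g := T₀.ι) ?_ ?_
    · erw [map_left_fst]
      change pullback.fst Z.hom T₀.ι ≫ γt.left = h.left ≫ pullback.fst (g ≫ f) T₀.ι
      rw [← cancel_epi c.hom, ← Category.assoc, cmp_fst]
      have e1 := congrArg (fun φ => φ.left ≫ pullback.fst _ _) hγt
      beta_reduce at e1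
      erw [map_left_fst] at e1
      change pullback.fst a.left (f ⁻¹ᵁ T₀).ι ≫ γt.left = pullback.lift _ _ _ ≫ pullback.fst g (f ⁻¹ᵁ T₀).ι at e1
      rw [pullback.lift_fst] at e1
      exact e1
    · erw [map_left_snd]
      exact (Over.w h).symm

end

/-- Let T be a locally Noetherian scheme over a field of characteristic 0 and T₀ ⊆ T a
scheme-theoretically dense open. Let f : S → T be étale and such that S, viewed as a T-scheme, has
the Néron mapping property for T₀ ⊆ T, and let g : N → S be smooth and such that N, viewed as an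
S-scheme, has the Néron mapping property for f⁻¹(T₀) ⊆ S (restriction of morphisms from smooth
schemes over the base is bijective). Then N → T, the composite g ≫ f, has the Néron mapping property
for T₀ ⊆ T. (Case of schemes, with smooth test schemes, of a statement about algebraic spaces.) -/
theorem result {k : Type u} [Field k] [CharZero k] {T : Scheme.{u}} (τ : T ⟶ Spec (CommRingCat.of k)) [IsLocallyNoetherian T] (T₀ : T.Opens) (hT₀ : CInt.IsSchematicallyDense T₀)
    {S N : Scheme.{u}} (f : S ⟶ T) [Etale f] (g : N ⟶ S) [Smooth g]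
    (hS : ∀ Z : Over T, Smooth Z.hom → Function.Bijective (fun g : Z ⟶ Over.mk f => (Over.pullback T₀.ι).map g))
    (hN : ∀ Z : Over S, Smooth Z.hom → Function.Bijective (fun g : Z ⟶ Over.mk g => (Over.pullback (f ⁻¹ᵁ T₀).ι).map g)) :
    ∀ Z : Over T, Smooth Z.hom → Function.Bijective (fun g : Z ⟶ Over.mk (g ≫ f) => (Over.pullback T₀.ι).map g) := by
  exact main T₀ f g hS hN

end Groth.Agent.S13421
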