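import Groth.Statements.S13422
import Groth.Agent.Lib.Helper7.FibClosedPt
import Groth.Agent.Lib.Helper7.SmEtDense
import Groth.Agent.Lib.Helper35.SmoothSliceScheme
import Groth.Agent.Lib.QCoh.Helper18_HartogsSmooth
import Groth.Agent.Lib.QCoh.Helper18_SchDenseExt

set_option autoImplicit false
universe u
open CategoryTheory AlgebraicGeometry
open NeronHD

namespace Groth.Agent.S13422

/-- Let S be a locally Noetherian scheme over a field of characteristic 0, S₀ ⊆ S a scheme-theoretically
dense open, and N a smooth S-scheme with the weak Néron mapping property for S₀ ⊆ S: for every étale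
S-scheme U, restriction to S₀ is a bijection from S-morphisms U → N onto S₀-morphisms U|S₀ → N|S₀.
Then N has the uniqueness half of the Néron mapping property: for every smooth S-scheme Z,
restriction of S-morphisms Z → N to S₀ is injective. (Case of schemes of a statement about algebraic
spaces.) -/
theorem result {k : Type u} [Field k] [CharZero k] {S : Scheme.{u}} (σ : S ⟶ Spec (CommRingCat.of k)) [IsLocallyNoetherian S] (S₀ : S.Opens) (hS₀ : CInt.IsSchematicallyDense S₀)
    (N : Over S) [Smooth N.hom]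
    (hN : ∀ U : Over S, Etale U.hom → Function.Bijective (fun g : U ⟶ N => (Over.pullback S₀.ι).map g))
    (Z : Over S) [Smooth Z.hom] :
    Function.Injective (fun g : Z ⟶ N => (Over.pullback S₀.ι).map g) := by
  open Groth.Agent.Lib.Helper7 Limits in
  intro g₁ g₂ h
  have h' : (Over.pullback S₀.ι).map g₁ = (Over.pullback S₀.ι).map g₂ := h
  apply Over.OverMorphism.ext
  have hd : Dense (S₀ : Set S) := SmEtDense.dense_of_isSchematicallyDense S₀ hS₀
  let Z₀ : Z.left.Opens := Z.hom ⁻¹ᵁ S₀
  have hZ₀ : CInt.IsSchematicallyDense Z₀ :=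
    Groth.Agent.Lib.QCoh.Hartogs.isSchematicallyDense_preimage_of_flat' Z.hom S₀ hS₀
  have hZ₀d : Dense (Z₀ : Set ↥Z.left) := hd.preimage Z.hom.isOpenMap
  -- agreement over `S₀`
  have h0 : Z₀.ι ≫ g₁.left = Z₀.ι ≫ g₂.left := by
    have e1 : ((Over.pullback S₀.ι).map g₁).left ≫ pullback.fst N.hom S₀.ι =
        pullback.fst Z.hom S₀.ι ≫ g₁.left := by
      simp only [Over.pullback_map_left]
      exact pullback.lift_fst _ _ _
    have e2 : ((Over.pullback S₀.ι).map g₂).left ≫ pullback.fst N.hom S₀.ι =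
        pullback.fst Z.hom S₀.ι ≫ g₂.left := by
      simp only [Over.pullback_map_left]
      exact pullback.lift_fst _ _ _
    have e3 : pullback.fst Z.hom S₀.ι ≫ g₁.left = pullback.fst Z.hom S₀.ι ≫ g₂.left := by
      rw [← e1, ← e2, h']
    let c : (Z₀ : Scheme.{u}) ⟶ pullback Z.hom S₀.ι :=
      pullback.lift Z₀.ι (Z.hom ∣_ S₀) (morphismRestrict_ι Z.hom S₀).symm
    have hc : c ≫ pullback.fst Z.hom S₀.ι = Z₀.ι := pullback.lift_fst _ _ _
    rw [← hc, Category.assoc, Category.assoc, e3]
  -- the pair `(g₁, g₂)`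
  have hw : g₁.left ≫ N.hom = g₂.left ≫ N.hom := by rw [Over.w g₁, Over.w g₂]
  let pr : Z.left ⟶ pullback N.hom N.hom := pullback.lift g₁.left g₂.left hw
  have hpr1 : pr ≫ pullback.fst N.hom N.hom = g₁.left := pullback.lift_fst _ _ _
  have hpr2 : pr ≫ pullback.snd N.hom N.hom = g₂.left := pullback.lift_snd _ _ _
  -- if `i ≫ g₁ = i ≫ g₂` then `i` lands in the preimage of the diagonal
  have hkey : ∀ {T : Scheme.{u}} (i : T ⟶ Z.left), i ≫ g₁.left = i ≫ g₂.left →
      ∀ t : T, pr (i t) ∈ Set.range (pullback.diagonal N.hom) := by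
    intro T i hi t
    have : i ≫ pr = (i ≫ g₁.left) ≫ pullback.diagonal N.hom := by
      apply pullback.hom_ext
      · rw [Category.assoc, hpr1, Category.assoc, pullback.diagonal_fst, Category.comp_id]
      · rw [Category.assoc, hpr2, Category.assoc, pullback.diagonal_snd, Category.comp_id, hi]
    refine ⟨(i ≫ g₁.left) t, ?_⟩
    rw [← Scheme.Hom.comp_apply, ← this, Scheme.Hom.comp_apply]
  let L : Set ↥Z.left := pr ⁻¹' Set.range (pullback.diagonal N.hom)
  have hLlc : IsLocallyClosed L :=
    (pullback.diagonal N.hom).isLocallyClosed_range.preimage pr.continuous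
  have hZ₀L : (Z₀ : Set ↥Z.left) ⊆ L := by
    intro x hx
    have := hkey Z₀.ι h0 ⟨x, hx⟩
    exact this
  have hLopen : IsOpen L := by
    obtain ⟨U, K, hU, hK, hL⟩ := hLlc
    have hKuniv : K = Set.univ := by
      apply Set.eq_univ_of_univ_subset
      rw [← hZ₀d.closure_eq]
      exact hK.closure_subset_iff.mpr (fun x hx => (hL ▸ hZ₀L hx : x ∈ U ∩ K).2)
    rw [hL, hKuniv, Set.inter_univ]
    exact hU
  have hLuniv : L = Set.univ := by
    by_contra hne
    have hne' : Lᶜ.Nonempty := by rw [Set.nonempty_compl]; exact hne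
    obtain ⟨x, hxL, hunr⟩ := FibClosedPt.exists_mem_formallyUnramified Z.hom σ Lᶜ
      hLopen.isClosed_compl hne'
    obtain ⟨T, i, t, hi1, hi2, hit, -⟩ :=
      Groth.Agent.Lib.Helper35.SmoothSliceScheme.exists_etale_slice Z.hom x hunr
    let U : Over S := Over.mk (i ≫ Z.hom)
    let u : U ⟶ Z := Over.homMk i rfl
    have hinj := (hN U hi2).1
    have huu : u ≫ g₁ = u ≫ g₂ := by
      apply hinj
      show (Over.pullback S₀.ι).map (u ≫ g₁) = (Over.pullback S₀.ι).map (u ≫ g₂)
      rw [Functor.map_comp, Functor.map_comp, h']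
    have hi : i ≫ g₁.left = i ≫ g₂.left := congrArg (fun m => m.left) huu
    apply hxL
    have := hkey i hi t
    rw [hit] at this
    exact this
  have hpt : ∀ x : ↥Z.left, g₁.left x = g₂.left x := by
    intro x
    have hx : x ∈ L := hLuniv ▸ Set.mem_univ x
    obtain ⟨n, hn⟩ := hx
    have e1 : g₁.left x = (pullback.fst N.hom N.hom) (pr x) := by
      rw [← Scheme.Hom.comp_apply, hpr1]
    have e2 : g₂.left x = (pullback.snd N.hom N.hom) (pr x) := by
      rw [← Scheme.Hom.comp_apply, hpr2]
    rw [e1, e2, ← hn, ← Scheme.Hom.comp_apply, ← Scheme.Hom.comp_apply,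
      pullback.diagonal_fst, pullback.diagonal_snd]
  exact Groth.Agent.Lib.QCoh.ext_of_isSchematicallyDense_of_forall_eq Z₀ hZ₀ hpt h0

end Groth.Agent.S13422
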