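import Groth.Statements.S4997
import Mathlib
import Groth.Agent.Lib.Helper62.DimSmooth
import Groth.Agent.Lib.Helper62.FibDim

set_option autoImplicit false
set_option linter.style.haveILetI false
universe u
open CategoryTheory CategoryTheory.Limits AlgebraicGeometry TopologicalSpace
open Unram17

namespace Groth.Agent.S4997

open TensorProduct

/-- a finite smooth algebra over an algebraically closed field has no differentials. -/
theorem subsingleton_kaehler_of_finite_algClosed (K : Type u) [Field K] [IsAlgClosed K]
    (T : Type u) [CommRing T] [Algebra K T] [Algebra.Smooth K T] [Module.Finite K T] :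
    Subsingleton Ω[T⁄K] := by
  haveI : IsArtinianRing T := IsArtinianRing.of_finite K T
  haveI : Module.Finite T Ω[T⁄K] := inferInstance
  haveI : Module.Projective T Ω[T⁄K] := inferInstance
  rw [← Module.rankAtStalk_eq_zero_iff_subsingleton (R := T)]
  funext q
  haveI : q.asIdeal.IsMaximal := inferInstance
  haveI : Algebra.FormallyEtale T (Localization.AtPrime q.asIdeal) :=
    .of_isLocalization q.asIdeal.primeCompl
  have hsm : Algebra.IsSmoothAt K q.asIdeal :=
    Algebra.FormallySmooth.comp K T (Localization.AtPrime q.asIdeal)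
  have h1 := Groth.Agent.Lib.Helper62.DimSmooth.ringKrullDim_localization_of_isSmoothAt K T
    q.asIdeal hsm
  have h2 : ringKrullDim (Localization.AtPrime q.asIdeal) ≤ 0 := by
    have := Groth.Agent.Lib.Helper62.FibDim.ringKrullDim_le_of_isLocalization q.asIdeal.primeCompl
      (Localization.AtPrime q.asIdeal)
    refine this.trans ?_
    exact_mod_cast (Ring.krullDimLE_iff (n := 0) (R := T)).mp inferInstance
  rw [h1] at h2
  have : (Module.rankAtStalk Ω[T⁄K] ⟨q.asIdeal, inferInstance⟩ : ℕ) ≤ 0 := by
    exact_mod_cast h2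
  simpa using this


/-- a finite smooth algebra over a field has no differentials. -/
theorem subsingleton_kaehler_of_finite (k : Type u) [Field k]
    (F : Type u) [CommRing F] [Algebra k F] [Algebra.Smooth k F] [Module.Finite k F] :
    Subsingleton Ω[F⁄k] := by
  let K := AlgebraicClosure k
  haveI : Subsingleton Ω[K ⊗[k] F⁄K] := subsingleton_kaehler_of_finite_algClosed K (K ⊗[k] F)
  letI : Algebra F (K ⊗[k] F) := Algebra.TensorProduct.rightAlgebra
  have e := KaehlerDifferential.tensorKaehlerEquivBase k K F (K ⊗[k] F)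
  haveI : Subsingleton (K ⊗[k] Ω[F⁄k]) := e.toEquiv.subsingleton
  by_contra hne
  rw [not_subsingleton_iff_nontrivial] at hne
  haveI : Nontrivial (K ⊗[k] Ω[F⁄k]) := inferInstance
  exact not_subsingleton (K ⊗[k] Ω[F⁄k]) inferInstance


/-- rank of differentials of a smooth quasi-finite algebra vanishes at every field-valued point. -/
theorem rankAtStalk_kaehler_eq_zero (R S K : Type u) [CommRing R] [CommRing S]
    [Algebra R S] [Algebra.Smooth R S] [Algebra.QuasiFinite R S] [Field K] [Algebra R K]
    (g : S →ₐ[R] K) :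
    Module.rankAtStalk Ω[S⁄R] ⟨RingHom.ker g.toRingHom, RingHom.ker_isPrime _⟩ = 0 := by
  haveI : Module.Finite S Ω[S⁄R] := inferInstance
  haveI : Module.Projective S Ω[S⁄R] := inferInstance
  let T := K ⊗[R] S
  haveI : Module.Finite K T := Module.Finite.of_quasiFinite
  haveI : Subsingleton Ω[T⁄K] := subsingleton_kaehler_of_finite K T
  letI : Algebra S T := Algebra.TensorProduct.rightAlgebra
  have e := KaehlerDifferential.tensorKaehlerEquiv R K S T
  haveI : Subsingleton (T ⊗[S] Ω[S⁄R]) := e.toEquiv.subsingleton
  let φ : T →ₐ[K] K := Algebra.TensorProduct.lift (AlgHom.id K K) g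
    (fun _ _ => Commute.all _ _)
  let Q : PrimeSpectrum T := ⟨RingHom.ker φ.toRingHom, RingHom.ker_isPrime _⟩
  have hQ : Q.comap (algebraMap S T) = ⟨RingHom.ker g.toRingHom, RingHom.ker_isPrime _⟩ := by
    ext x
    simp only [PrimeSpectrum.comap_asIdeal, Ideal.mem_comap]
    change φ (algebraMap S T x) = 0 ↔ g x = 0
    rw [Algebra.TensorProduct.right_algebraMap_apply]
    change (Algebra.TensorProduct.lift (AlgHom.id K K) g (fun _ _ => Commute.all _ _))
      ((1 : K) ⊗ₜ[R] x) = 0 ↔ g x = 0
    rw [Algebra.TensorProduct.lift_tmul]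
    simp
  have h1 := Module.rankAtStalk_baseChange (R := S) (M := Ω[S⁄R]) (S := T) Q
  rw [hQ] at h1
  rw [← h1, Module.rankAtStalk_eq_zero_of_subsingleton]
  rfl

/-- a smooth quasi-finite algebra is formally unramified. -/
theorem formallyUnramified_of_smooth_of_quasiFinite (R S : Type u) [CommRing R] [CommRing S]
    [Algebra R S] [Algebra.Smooth R S] [Algebra.QuasiFinite R S] :
    Algebra.FormallyUnramified R S := by
  rw [Algebra.formallyUnramified_iff]
  haveI : Module.Finite S Ω[S⁄R] := inferInstance
  haveI : Module.Projective S Ω[S⁄R] := inferInstance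
  rw [← Module.rankAtStalk_eq_zero_iff_subsingleton (R := S)]
  funext q
  have h := rankAtStalk_kaehler_eq_zero R S q.asIdeal.ResidueField
    (IsScalarTower.toAlgHom R S q.asIdeal.ResidueField)
  rw [Pi.zero_apply, ← h]
  congr 1
  ext x
  simp


theorem lqf_of_etale {X Y : Scheme.{u}} (f : X ⟶ Y) [Etale f] : LocallyQuasiFinite f := by
  rw [HasRingHomProperty.iff_appLE (P := @LocallyQuasiFinite)]
  intro U V e
  have h1 : RingHom.Etale (f.appLE U V e).hom :=
    HasRingHomProperty.appLE @Etale f inferInstance U V e
  algebraize [(f.appLE U V e).hom]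
  change Algebra.QuasiFinite _ _
  infer_instance

theorem etale_of_smooth_of_lqf {X Y : Scheme.{u}} (f : X ⟶ Y) [Smooth f] [LocallyQuasiFinite f] :
    Etale f := by
  rw [HasRingHomProperty.iff_appLE (P := @Etale)]
  intro U V e
  have h1 : RingHom.Smooth (f.appLE U V e).hom :=
    HasRingHomProperty.appLE @Smooth f inferInstance U V e
  have h2 : RingHom.QuasiFinite (f.appLE U V e).hom :=
    HasRingHomProperty.appLE @LocallyQuasiFinite f inferInstance U V e
  algebraize [(f.appLE U V e).hom]
  haveI := formallyUnramified_of_smooth_of_quasiFinite Γ(Y, U.1) Γ(X, V.1)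
  change Algebra.Etale _ _
  exact Algebra.Etale.iff_formallyUnramified_and_smooth.mpr ⟨inferInstance, inferInstance⟩

/-- A morphism of schemes is etale if and only if it is smooth and locally quasi-finite. -/
theorem result {X Y : Scheme.{u}} (f : X ⟶ Y) :
    Etale f ↔ Smooth f ∧ LocallyQuasiFinite f := by
  constructor
  · intro h
    exact ⟨inferInstance, lqf_of_etale f⟩
  · rintro ⟨h1, h2⟩
    exact etale_of_smooth_of_lqf f

end Groth.Agent.S4997
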