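import Groth.Statements.S9714
import Mathlib
-- import your own Groth.Agent.* helpers here

set_option autoImplicit false
universe u
open CategoryTheory CategoryTheory.Limits AlgebraicGeometry
open Mor

namespace Groth.Agent.S9714

set_option backward.isDefEq.respectTransparency false in
theorem backward (k : Type u) [Field k] {X : Scheme.{u}} (f : X ⟶ Spec (CommRingCat.of k))
    (ι : Type u) (K : ι → Type u) [∀ i, Field (K i)] [∀ i, Algebra k (K i)]
    (hK : ∀ i, FiniteDimensional k (K i) ∧ Algebra.IsSeparable k (K i))
    (e : X ≅ ∐ (fun i => Spec (CommRingCat.of (K i))))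
    (he : e.hom ≫ Sigma.desc (fun i => Spec.map (CommRingCat.ofHom (algebraMap k (K i)))) = f) :
    FormallyUnramified f ∧ LocallyOfFiniteType f := by
  subst he
  constructor
  · have : MorphismProperty.RespectsIso @FormallyUnramified.{u} := MorphismProperty.IsStableUnderBaseChange.respectsIso
    rw [MorphismProperty.cancel_left_of_respectsIso (P := @FormallyUnramified)]
    rw [IsZariskiLocalAtSource.iff_of_openCover (P := @FormallyUnramified) (sigmaOpenCover _)]
    intro i
    simp only [sigmaOpenCover_f, colimit.ι_desc, Cofan.mk_pt, Cofan.mk_ι_app]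
    rw [HasRingHomProperty.Spec_iff (P := @FormallyUnramified)]
    simp only [CommRingCat.hom_ofHom]
    rw [RingHom.formallyUnramified_algebraMap]
    have := (hK i).2
    exact Algebra.FormallyUnramified.of_isSeparable k (K i)
  · have : MorphismProperty.RespectsIso @LocallyOfFiniteType.{u} := MorphismProperty.IsStableUnderBaseChange.respectsIso
    rw [MorphismProperty.cancel_left_of_respectsIso (P := @LocallyOfFiniteType)]
    rw [IsZariskiLocalAtSource.iff_of_openCover (P := @LocallyOfFiniteType) (sigmaOpenCover _)]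
    intro i
    simp only [sigmaOpenCover_f, colimit.ι_desc, Cofan.mk_pt, Cofan.mk_ι_app]
    rw [HasRingHomProperty.Spec_iff (P := @LocallyOfFiniteType)]
    simp only [CommRingCat.hom_ofHom]
    rw [RingHom.finiteType_algebraMap]
    have := (hK i).1
    infer_instance

theorem ring_facts (k : Type u) [Field k] (A : Type u) [CommRing A] (ψ : k →+* A)
    (h1 : ψ.FormallyUnramified) (h2 : ψ.FiniteType) :
    ψ.Finite ∧ IsReduced A ∧ IsArtinianRing A := by
  algebraize [ψ]
  have hfin : Module.Finite k A := Algebra.FormallyUnramified.finite_of_free k A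
  exact ⟨hfin, Algebra.FormallyUnramified.isReduced_of_field k A, isArtinian_of_tower k inferInstance⟩

set_option backward.isDefEq.respectTransparency false in
theorem forward (k : Type u) [Field k] {X : Scheme.{u}} (f : X ⟶ Spec (CommRingCat.of k))
    (hfu : FormallyUnramified f) (hft : LocallyOfFiniteType f) :
    ∃ (ι : Type u) (K : ι → Type u) (_ : ∀ i, Field (K i)) (_ : ∀ i, Algebra k (K i)),
        (∀ i, FiniteDimensional k (K i) ∧ Algebra.IsSeparable k (K i)) ∧
        ∃ e : X ≅ ∐ (fun i => Spec (CommRingCat.of (K i))),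
          e.hom ≫ Sigma.desc (fun i => Spec.map (CommRingCat.ofHom (algebraMap k (K i)))) = f := by
  classical
  let ψ : ∀ V : X.Opens, CommRingCat.of k ⟶ Γ(X, V) := fun V =>
    (Scheme.ΓSpecIso (CommRingCat.of k)).inv ≫ f.appLE ⊤ V le_top
  have hψ : ∀ V : X.Opens, IsAffineOpen V →
      (ψ V).hom.FormallyUnramified ∧ (ψ V).hom.FiniteType := by
    intro V hV
    constructor
    · have h := HasRingHomProperty.appLE (P := @FormallyUnramified) _ hfu
        ⟨⊤, isAffineOpen_top _⟩ ⟨V, hV⟩ le_top
      exact (RingHom.FormallyUnramified.propertyIsLocal.respectsIso.cancel_left_isIso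
        (Scheme.ΓSpecIso (CommRingCat.of k)).inv (f.appLE ⊤ V le_top)).mpr h
    · have h := HasRingHomProperty.appLE (P := @LocallyOfFiniteType) _ hft
        ⟨⊤, isAffineOpen_top _⟩ ⟨V, hV⟩ le_top
      exact (RingHom.finiteType_respectsIso.cancel_left_isIso
        (Scheme.ΓSpecIso (CommRingCat.of k)).inv (f.appLE ⊤ V le_top)).mpr h
  have hring : ∀ V : X.Opens, IsAffineOpen V →
      (ψ V).hom.Finite ∧ IsReduced Γ(X, V) ∧ IsArtinianRing Γ(X, V) := fun V hV =>
    ring_facts k _ _ (hψ V hV).1 (hψ V hV).2
  have : IsLocallyArtinian X := ⟨fun U => (hring U.1 U.2).2.2⟩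
  have hdisc : DiscreteTopology X := inferInstance
  let U : X → X.Opens := fun x => ⟨{x}, isOpen_discrete _⟩
  have hU : ∀ x, IsAffineOpen (U x) := by
    intro x
    obtain ⟨_, ⟨W, hW, rfl⟩, hxW, hWU⟩ := X.isBasis_affineOpens.exists_subset_of_mem_open
      (show x ∈ ((U x : X.Opens) : Set X) from rfl) (U x).2
    have hWeq : W = U x := by
      apply le_antisymm
      · exact hWU
      · intro y hy
        have : y = x := hy
        rw [this]; exact hxW
    rw [← hWeq]; exact hW
  have hloc : ∀ x, IsLocalRing Γ(X, U x) := by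
    intro x
    have e := Scheme.homeoOfIso (hU x).isoSpec
    have hsubU : Subsingleton ↥(U x).toScheme := by
      constructor
      rintro ⟨a, ha⟩ ⟨b, hb⟩
      have h1 : a = x := ha
      have h2 : b = x := hb
      subst h1; subst h2; rfl
    have hsub : Subsingleton (PrimeSpectrum Γ(X, U x)) :=
      ⟨fun p q => e.symm.injective (Subsingleton.elim _ _)⟩
    have hne : Nonempty (PrimeSpectrum Γ(X, U x)) := ⟨e ⟨x, rfl⟩⟩
    have : Nontrivial Γ(X, U x) := PrimeSpectrum.nonempty_iff_nontrivial.mp hne
    have : Subsingleton (MaximalSpectrum Γ(X, U x)) :=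
      ⟨fun m₁ m₂ => by
        have := hsub.elim m₁.toPrimeSpectrum m₂.toPrimeSpectrum
        ext1
        exact congrArg PrimeSpectrum.asIdeal this⟩
    exact IsLocalRing.of_singleton_maximalSpectrum
  have hmax : ∀ x, @IsLocalRing.maximalIdeal Γ(X, U x) _ (hloc x) = ⊥ := fun x => by
    have := hloc x
    have := (hring _ (hU x)).2.1
    have := (hring _ (hU x)).2.2
    exact IsLocalRing.isField_iff_maximalIdeal_eq.mp
      (IsArtinianRing.isField_of_isReduced_of_isLocalRing _)
  let K : X → Type u := fun x => @IsLocalRing.ResidueField Γ(X, U x) _ (hloc x)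
  let fld : ∀ x, Field (K x) := fun x => @IsLocalRing.ResidueField.field _ _ (hloc x)
  let res : ∀ x, Γ(X, U x) →+* K x := fun x => @IsLocalRing.residue Γ(X, U x) _ (hloc x)
  let alg : ∀ x, Algebra k (K x) := fun x => ((res x).comp (ψ (U x)).hom).toAlgebra
  have hres_surj : ∀ x, Function.Surjective (res x) := fun x =>
    @IsLocalRing.residue_surjective _ _ (hloc x)
  have hres_bij : ∀ x, Function.Bijective (res x) := fun x => by
    refine ⟨?_, hres_surj x⟩
    rw [RingHom.injective_iff_ker_eq_bot]
    have := @IsLocalRing.ker_residue Γ(X, U x) _ (hloc x)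
    rw [this, hmax]
  refine ⟨X, K, fld, alg, ?_, ?_⟩
  · intro x
    have hfin : ((res x).comp (ψ (U x)).hom).Finite :=
      (RingHom.Finite.of_surjective _ (hres_surj x)).comp (hring _ (hU x)).1
    have hunr : ((res x).comp (ψ (U x)).hom).FormallyUnramified :=
      (hψ _ (hU x)).1.comp (RingHom.FormallyUnramified.of_surjective (hres_surj x))
    have hfin' : Module.Finite k (K x) := hfin
    have hunr' : Algebra.FormallyUnramified k (K x) := hunr
    exact ⟨hfin', Algebra.FormallyUnramified.isSeparable k (K x)⟩
  · let g : ∀ x, Spec (CommRingCat.of (K x)) ⟶ X := fun x =>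
      Spec.map (CommRingCat.ofHom (res x)) ≫ (hU x).fromSpec
    have hiso : ∀ x, IsIso (Spec.map (CommRingCat.ofHom (res x))) := fun x => by
      have : IsIso (CommRingCat.ofHom (res x)) :=
        (RingEquiv.ofBijective (res x) (hres_bij x)).toCommRingCatIso.isIso_hom
      infer_instance
    have hgo : ∀ x, IsOpenImmersion (g x) := fun x => by
      have := hiso x
      infer_instance
    have hrange : ∀ x, (g x).opensRange = U x := fun x => by
      have := hiso x
      rw [Scheme.Hom.opensRange_comp_of_isIso, IsAffineOpen.opensRange_fromSpec]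
    have hcov : ⨆ x, (g x).opensRange = ⊤ := by
      rw [eq_top_iff]
      intro y _
      rw [TopologicalSpace.Opens.mem_iSup]
      exact ⟨y, by rw [hrange]; rfl⟩
    have hdisj : Pairwise (Function.onFun Disjoint (fun x => (g x).opensRange)) := by
      intro x y hxy
      simp only [Function.onFun, hrange]
      rw [disjoint_iff]
      ext z
      simp only [TopologicalSpace.Opens.coe_inf, TopologicalSpace.Opens.coe_bot, Set.mem_inter_iff,
        Set.mem_empty_iff_false, iff_false, not_and]
      intro h1 h2
      have e1 : z = x := h1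
      have e2 : z = y := h2
      exact hxy (e1.symm.trans e2)
    obtain ⟨hc⟩ := nonempty_isColimit_cofanMk_of g hcov hdisj
    let e : X ≅ ∐ (fun x => Spec (CommRingCat.of (K x))) :=
      hc.coconePointUniqueUpToIso (coproductIsCoproduct _)
    refine ⟨e, ?_⟩
    apply Cofan.IsColimit.hom_ext hc
    intro x
    have h1 : (Cofan.mk X g).inj x ≫ e.hom = Sigma.ι (fun x => Spec (CommRingCat.of (K x))) x :=
      IsColimit.comp_coconePointUniqueUpToIso_hom hc (coproductIsCoproduct _) ⟨x⟩
    rw [← Category.assoc, h1, colimit.ι_desc]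
    simp only [Cofan.mk_pt, Cofan.mk_ι_app, Cofan.inj]
    change Spec.map (CommRingCat.ofHom (algebraMap k (K x))) =
      (Spec.map (CommRingCat.ofHom (res x)) ≫ (hU x).fromSpec) ≫ f
    have h2 : algebraMap k (K x) = (res x).comp (ψ (U x)).hom := rfl
    rw [h2, Category.assoc, ← IsAffineOpen.SpecMap_appLE_fromSpec f (isAffineOpen_top _) (hU x) le_top,
      IsAffineOpen.fromSpec_top, Scheme.isoSpec_Spec_inv, ← Spec.map_comp, ← Spec.map_comp]
    rfl

/-- Let k be a field and X a scheme over k. The structure morphism X ⟶ Spec k is unramified (formally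
unramified and locally of finite type) if and only if X is isomorphic over k to a disjoint union of
spectra of finite separable field extensions of k. -/
theorem result (k : Type u) [Field k] {X : Scheme.{u}}
    (f : X ⟶ Spec (CommRingCat.of k)) :
    (FormallyUnramified f ∧ LocallyOfFiniteType f) ↔
      ∃ (ι : Type u) (K : ι → Type u) (_ : ∀ i, Field (K i)) (_ : ∀ i, Algebra k (K i)),
        (∀ i, FiniteDimensional k (K i) ∧ Algebra.IsSeparable k (K i)) ∧
        ∃ e : X ≅ ∐ (fun i => Spec (CommRingCat.of (K i))),
          e.hom ≫ Sigma.desc (fun i => Spec.map (CommRingCat.ofHom (algebraMap k (K i)))) = f := by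
  constructor
  · rintro ⟨hfu, hft⟩
    exact forward k f hfu hft
  · rintro ⟨ι, K, _, _, hK, e, he⟩
    exact backward k f ι K hK e he

end Groth.Agent.S9714
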