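import Groth.Statements.S13423
import Groth.Agent.Lib.Helper7.DomGenericPt
import Groth.Agent.Lib.Helper7.GUSchDich
import Groth.Agent.S4997
import Groth.Agent.S9720
import Groth.Agent.S2258

set_option autoImplicit false
universe u
open CategoryTheory AlgebraicGeometry
open NeronHD

namespace Groth.Agent.S13423

/-- Let S be a reduced, locally Noetherian scheme over a field of characteristic 0 whose local rings are
all geometrically unibranch, and let f : X → S be quasi-finite (locally of finite type,
quasi-compact, with finite discrete fibres), separated and dominant, with X connected and nonempty,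
such that every fibre X_s over the residue field k(s) is smooth. Then f is étale. (Case of schemes
of a statement about algebraic spaces.) -/
theorem result {k : Type u} [Field k] [CharZero k] {S : Scheme.{u}} (σ : S ⟶ Spec (CommRingCat.of k)) [IsLocallyNoetherian S] [IsReduced S]
    (hS : ∀ s : S, CAlg2.IsGeomUnibranch (S.presheaf.stalk s))
    {X : Scheme.{u}} (f : X ⟶ S) [LocallyOfFiniteType f] [QuasiCompact f] [LocallyQuasiFinite f] [IsSeparated f] [IsDominant f]
    [ConnectedSpace X]
    (hfib : ∀ s : S, Smooth (Limits.pullback.snd f (S.fromSpecResidueField s))) :
    Etale f := by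
  open Groth.Agent.Lib.Helper7 in
  -- the fibres are étale
  have hfibEt : ∀ s : S, Etale (Limits.pullback.snd f (S.fromSpecResidueField s)) := fun s => by
    haveI := hfib s
    haveI : LocallyQuasiFinite (Limits.pullback.snd f (S.fromSpecResidueField s)) :=
      MorphismProperty.pullback_snd _ _ inferInstance
    exact Groth.Agent.S4997.etale_of_smooth_of_lqf _
  haveI : FormallyUnramified f :=
    Groth.Agent.S9720.formallyUnramified_of_fiberToSpecResidueField f (fun y => by
      haveI := hfibEt y
      exact inferInstanceAs
        (FormallyUnramified (Limits.pullback.snd f (S.fromSpecResidueField y))))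
  -- `S` is integral
  haveI : IrreducibleSpace S := by
    refine DomGenericPt.irreducibleSpace_of_connected_denseRange f f.continuous f.denseRange ?_
    intro s
    have hA := hS s
    haveI : IsDomain (CAlg2.red (S.presheaf.stalk s)) := hA.1.1
    have hnil : (nilradical (S.presheaf.stalk s)).IsPrime :=
      (Ideal.Quotient.isDomain_iff_prime _).mp inferInstance
    obtain ⟨U, hsU, hU⟩ := Groth.Agent.S2258.result S s hnil
    exact ⟨U, U.isOpen, hsU, hU⟩
  haveI : IsIntegral S := isIntegral_of_irreducibleSpace_of_isReduced S
  have hη : ∃ x : X, f x = genericPoint S := DomGenericPt.exists_eq_genericPoint f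
  exact (GUSch.global f hS hη).1

end Groth.Agent.S13423
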