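import Groth.Statements.S13425
import Groth.Agent.Lib.Helper7.BiratIso

set_option autoImplicit false
universe u
open CategoryTheory AlgebraicGeometry
open NeronHD

namespace Groth.Agent.S13425

theorem bijective_stalkMap_congr {A B : Scheme.{u}} (a b : A ⟶ B) (e : a = b) (p : A)
    (hb : Function.Bijective (b.stalkMap p).hom) : Function.Bijective (a.stalkMap p).hom := by
  subst e
  exact hb

/-- Let k be a characteristic-zero algebraically closed field and X, Y integral schemes, separated and
of finite type over k, with Y normal, and let f : X → Y be a dominant k-morphism which is injective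
on k-rational points. Then f is an open immersion. (Case of schemes of a statement about algebraic
spaces.) -/
theorem result {k : Type u} [Field k] [IsAlgClosed k] [CharZero k]
    {X Y : Scheme.{u}} (sX : X ⟶ Spec (CommRingCat.of k)) (sY : Y ⟶ Spec (CommRingCat.of k))
    [IsIntegral X] [IsIntegral Y] [IsSeparated sX] [IsSeparated sY]
    [LocallyOfFiniteType sX] [QuasiCompact sX] [LocallyOfFiniteType sY] [QuasiCompact sY]
    (hY : Pi1.IsNormalScheme Y)
    (f : X ⟶ Y) (hf : f ≫ sY = sX) [IsDominant f]
    (hinj : ∀ a b : Spec (CommRingCat.of k) ⟶ X, a ≫ sX = 𝟙 _ → b ≫ sX = 𝟙 _ → a ≫ f = b ≫ f → a = b) :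
    IsOpenImmersion f := by
  open Groth.Agent.Lib.Helper7 in
  haveI : LocallyOfFiniteType f := by
    haveI : LocallyOfFiniteType (f ≫ sY) := hf ▸ inferInstance
    exact locallyOfFiniteType_of_comp f sY
  haveI : IsSeparated f := by
    haveI : IsSeparated (f ≫ sY) := hf ▸ inferInstance
    exact IsSeparated.of_comp f sY
  haveI : QuasiCompact f := by
    haveI : QuasiCompact (f ≫ sY) := hf ▸ inferInstance
    exact QuasiCompact.of_comp f sY
  -- Step 1: the diagonal is surjective
  let sP : Limits.pullback f f ⟶ Spec (CommRingCat.of k) := Limits.pullback.fst f f ≫ sX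
  haveI : LocallyOfFiniteType sP := inferInstance
  haveI : JacobsonSpace ↥(Limits.pullback f f) := LocallyOfFiniteType.jacobsonSpace sP
  have hcl : IsClosed (Set.range (Limits.pullback.diagonal f)) :=
    (Limits.pullback.diagonal f).isClosedEmbedding.isClosed_range
  have hrange : Set.range (Limits.pullback.diagonal f) = Set.univ := by
    by_contra hne
    have hne' : (Set.range (Limits.pullback.diagonal f))ᶜ.Nonempty := by
      rw [Set.nonempty_compl]; exact hne
    obtain ⟨w, hw1, hw2⟩ := nonempty_inter_closedPoints hne' hcl.isOpen_compl.isLocallyClosed
    apply hw1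
    have hw : IsClosed {w} := hw2
    let c := pointOfClosedPoint sP w hw
    have hc : c ≫ sP = 𝟙 _ := pointOfClosedPoint_comp sP w hw
    have ha : (c ≫ Limits.pullback.fst f f) ≫ sX = 𝟙 _ := by
      rw [Category.assoc]; exact hc
    have hb : (c ≫ Limits.pullback.snd f f) ≫ sX = 𝟙 _ := by
      rw [← hc]
      simp only [sP, Category.assoc, ← hf]
      rw [Limits.pullback.condition_assoc]
    have hab : (c ≫ Limits.pullback.fst f f) ≫ f = (c ≫ Limits.pullback.snd f f) ≫ f := by
      rw [Category.assoc, Category.assoc, Limits.pullback.condition]
    have hEq := hinj _ _ ha hb hab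
    have hcd : c = (c ≫ Limits.pullback.fst f f) ≫ Limits.pullback.diagonal f := by
      apply Limits.pullback.hom_ext
      · simp
      · rw [Category.assoc, Limits.pullback.diagonal_snd, Category.comp_id, hEq]
    refine ⟨(c ≫ Limits.pullback.fst f f) (IsLocalRing.closedPoint k), ?_⟩
    rw [← Scheme.Hom.comp_apply, ← hcd]
    exact pointOfClosedPoint_apply sP w hw _
  haveI : Surjective (Limits.pullback.diagonal f) := ⟨by
    rw [← Set.range_eq_univ]; exact hrange⟩
  haveI : UniversallyInjective f := (UniversallyInjective.iff_diagonal f).mpr inferInstance
  have hUI := ((tfae_universallyInjective f).out 0 2).mp ‹UniversallyInjective f›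
  -- `f ξ_X = ξ_Y`
  have hgen : f (genericPoint X) = genericPoint Y := by
    have h1 : IsGenericPoint (f (genericPoint X)) (closure (f '' Set.univ)) :=
      (genericPoint_spec X).image f.continuous
    have h2 : closure (f '' Set.univ) = Set.univ := by
      rw [Set.image_univ]; exact f.denseRange.closure_range
    rw [h2] at h1
    exact h1.eq (genericPoint_spec Y)
  -- the residue field map at `ξ_X` is bijective
  have hres : Function.Bijective (f.residueFieldMap (genericPoint X)).hom := by
    have hpi := hUI.2 (genericPoint X)
    let φ : CommRingCat.of k ⟶ Y.residueField (f (genericPoint X)) :=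
      (Scheme.ΓSpecIso (CommRingCat.of k)).inv ≫ sY.appTop ≫
        Y.presheaf.germ ⊤ (f (genericPoint X)) trivial ≫ Y.residue (f (genericPoint X))
    haveI : CharZero (Y.residueField (f (genericPoint X))) :=
      charZero_of_injective_ringHom (f := φ.hom) (RingHom.injective _)
    algebraize [(f.residueFieldMap (genericPoint X)).hom]
    haveI : Algebra.IsAlgebraic (Y.residueField (f (genericPoint X)))
        (X.residueField (genericPoint X)) := inferInstance
    haveI : Algebra.IsSeparable (Y.residueField (f (genericPoint X)))
        (X.residueField (genericPoint X)) := Algebra.IsAlgebraic.isSeparable_of_perfectField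
    exact ⟨RingHom.injective _, IsPurelyInseparable.surjective_algebraMap_of_isSeparable _ _⟩
  -- hence so is the stalk map
  have hstalk : Function.Bijective (f.stalkMap (genericPoint X)).hom := by
    have hYf : IsField (Y.presheaf.stalk (f (genericPoint X))) :=
      BiratIso.isField_stalk_of_eq_genericPoint' _ hgen
    have hXf : IsField (X.presheaf.stalk (genericPoint X)) := Field.toIsField X.functionField
    have e := Scheme.residue_residueFieldMap f (genericPoint X)
    have hYr : Function.Bijective (Y.residue (f (genericPoint X))).hom := by
      letI := hYf.toField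
      exact ⟨RingHom.injective _, Ideal.Quotient.mk_surjective⟩
    have hXr : Function.Bijective (X.residue (genericPoint X)).hom := by
      letI := hXf.toField
      exact ⟨RingHom.injective _, Ideal.Quotient.mk_surjective⟩
    have key : ∀ c, (X.residue (genericPoint X)).hom ((f.stalkMap (genericPoint X)).hom c) =
        (f.residueFieldMap (genericPoint X)).hom ((Y.residue (f (genericPoint X))).hom c) :=
      fun c => (congr($(e).hom c)).symm
    refine ⟨fun a b hab => ?_, fun c => ?_⟩
    · apply hYr.1; apply hres.1; rw [← key, ← key, hab]
    · obtain ⟨d, hd⟩ := hres.2 ((X.residue (genericPoint X)).hom c)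
      obtain ⟨d', hd'⟩ := hYr.2 d
      refine ⟨d', hXr.1 ?_⟩
      rw [key, hd', hd]
  -- Zariski's main theorem
  haveI : IsOpenImmersion f.toNormalization := inferInstance
  have hfac : f.toNormalization ≫ f.fromNormalization = f := f.toNormalization_fromNormalization
  have hp : f.toNormalization (genericPoint X) = genericPoint f.normalization :=
    genericPoint_eq_of_isOpenImmersion f.toNormalization
  have hψgen : f.fromNormalization (f.toNormalization (genericPoint X)) = genericPoint Y := by
    rw [← Scheme.Hom.comp_apply, hfac]; exact hgen
  have hbij : Function.Bijective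
      (f.fromNormalization.stalkMap (f.toNormalization (genericPoint X))).hom := by
    apply BiratIso.bijective_stalkMap_of_comp f.toNormalization f.fromNormalization
      (genericPoint X) hp
    exact bijective_stalkMap_congr _ _ hfac _ hstalk
  haveI : IsIso f.fromNormalization := BiratIso.isIso_of_isIntegralHom_of_birational' hY
    f.fromNormalization (f.toNormalization (genericPoint X)) hp hψgen hbij
  rw [← hfac]
  infer_instance

end Groth.Agent.S13425
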