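import Groth.Statements.S13427
import Mathlib
-- import your own Groth.Agent.* helpers here

set_option autoImplicit false
universe u
open CategoryTheory AlgebraicGeometry
open NeronHD

namespace Groth.Agent.S13427
open Limits


section
variable {S S₀ : Scheme.{u}} (f₀ : S₀ ⟶ S)

lemma map_left_fst {N M : Over S} (g : N ⟶ M) :
    ((Over.pullback f₀).map g).left ≫ pullback.fst M.hom f₀ = pullback.fst N.hom f₀ ≫ g.left := by
  simp only [Over.pullback_map_left]
  rw [pullback.lift_fst]

lemma map_left_snd {N M : Over S} (g : N ⟶ M) :
    ((Over.pullback f₀).map g).left ≫ pullback.snd M.hom f₀ = pullback.snd N.hom f₀ := by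
  simp only [Over.pullback_map_left]
  rw [pullback.lift_snd]

variable {G H : Over S} (f : G ⟶ H) (e : S ⟶ H.left) (he : e ≫ H.hom = 𝟙 S)

/-- the fibre -/
noncomputable abbrev K : Over S := Over.mk (pullback.snd f.left e)

include he in
lemma κ_w : pullback.fst f.left e ≫ G.hom = pullback.snd f.left e := by
  rw [← Over.w f, ← Category.assoc, pullback.condition, Category.assoc, he, Category.comp_id]

noncomputable def κ : K f e ⟶ G := Over.homMk (pullback.fst f.left e) (κ_w f e he)

/-- the section as a morphism from any object -/
noncomputable def ε (Z : Over S) : Z ⟶ H := Over.homMk (Z.hom ≫ e) (by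
  rw [Category.assoc, he, Category.comp_id])

lemma κ_f : κ f e he ≫ f = ε e he (K f e) := by
  ext
  change pullback.fst f.left e ≫ f.left = pullback.snd f.left e ≫ e
  exact pullback.condition

lemma ε_nat {Z Z' : Over S} (φ : Z ⟶ Z') : φ ≫ ε e he Z' = ε e he Z := by
  ext
  change φ.left ≫ Z'.hom ≫ e = Z.hom ≫ e
  rw [← Category.assoc, Over.w]

lemma Fε {Z Z' : Over S} (h : (Over.pullback f₀).obj Z ⟶ (Over.pullback f₀).obj Z') :
    h ≫ (Over.pullback f₀).map (ε e he Z') = (Over.pullback f₀).map (ε e he Z) := by
  ext
  refine pullback.hom_ext (f := H.hom) (g := f₀) ?_ ?_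
  · simp only [Over.comp_left, Category.assoc]
    rw [map_left_fst, map_left_fst]
    change h.left ≫ pullback.fst Z'.hom f₀ ≫ Z'.hom ≫ e = pullback.fst Z.hom f₀ ≫ Z.hom ≫ e
    have e1 := Over.w h
    change h.left ≫ pullback.snd Z'.hom f₀ = pullback.snd Z.hom f₀ at e1
    rw [← Category.assoc (pullback.fst Z'.hom f₀), pullback.condition, ← Category.assoc (pullback.fst Z.hom f₀),
      pullback.condition, Category.assoc, Category.assoc, ← Category.assoc h.left, e1]
  · simp only [Over.comp_left, Category.assoc]
    rw [map_left_snd, map_left_snd]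
    exact Over.w h

include he in
theorem main
    (hG : ∀ Z : Over S, Smooth Z.hom → Function.Bijective (fun g : Z ⟶ G => (Over.pullback f₀).map g))
    (hH : ∀ Z : Over S, Smooth Z.hom → Function.Bijective (fun g : Z ⟶ H => (Over.pullback f₀).map g)) :
    ∀ Z : Over S, Smooth Z.hom → Function.Bijective (fun g : Z ⟶ K f e => (Over.pullback f₀).map g) := by
  intro Z hZ
  constructor
  · intro g g' hgg'
    simp only at hgg'
    have h1 : g ≫ κ f e he = g' ≫ κ f e he := by
      apply (hG Z hZ).1
      simp only [Functor.map_comp, hgg']
    ext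
    apply pullback.hom_ext
    · exact congrArg (fun φ => φ.left) h1
    · exact (Over.w g).trans (Over.w g').symm
  · intro h
    obtain ⟨g₁, hg₁⟩ := (hG Z hZ).2 (h ≫ (Over.pullback f₀).map (κ f e he))
    simp only at hg₁
    have h2 : g₁ ≫ f = ε e he Z := by
      apply (hH Z hZ).1
      simp only [Functor.map_comp, hg₁, Category.assoc]
      rw [← Functor.map_comp, κ_f, Fε]
    have h2' : g₁.left ≫ f.left = Z.hom ≫ e := congrArg (fun φ => φ.left) h2
    let g : Z ⟶ K f e := Over.homMk (pullback.lift g₁.left Z.hom h2') (by
      change pullback.lift _ _ _ ≫ pullback.snd f.left e = Z.hom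
      rw [pullback.lift_snd])
    have hgκ : g ≫ κ f e he = g₁ := by
      ext
      change pullback.lift _ _ _ ≫ pullback.fst f.left e = g₁.left
      rw [pullback.lift_fst]
    refine ⟨g, ?_⟩
    simp only
    ext
    refine pullback.hom_ext (f := (K f e).hom) (g := f₀) ?_ ?_
    · apply pullback.hom_ext
      · have e1 : (Over.pullback f₀).map g ≫ (Over.pullback f₀).map (κ f e he) =
            h ≫ (Over.pullback f₀).map (κ f e he) := by
          rw [← Functor.map_comp, hgκ, hg₁]
        have e2 := congrArg (fun φ => φ.left ≫ pullback.fst _ _) e1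
        simp only [Over.comp_left, Category.assoc] at e2
        rw [map_left_fst] at e2
        have e3 : (κ f e he).left = pullback.fst f.left e := rfl
        rw [e3] at e2
        simpa only [Category.assoc] using e2
      · have c1 : pullback.fst (K f e).hom f₀ ≫ pullback.snd f.left e = pullback.snd (K f e).hom f₀ ≫ f₀ :=
          pullback.condition
        rw [Category.assoc, Category.assoc, c1, ← Category.assoc, ← Category.assoc]
        congr 1
        exact (Over.w ((Over.pullback f₀).map g)).trans (Over.w h).symm
    · exact (Over.w ((Over.pullback f₀).map g)).trans (Over.w h).symm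

end

/-- Let S be a locally Noetherian scheme over a field of characteristic 0, S₀ ⊆ S a scheme-theoretically
dense open, and G, H smooth S-schemes with the Néron mapping property for S₀ ⊆ S (restriction to S₀
of S-morphisms from smooth S-schemes is bijective). Let f : G → H be an S-morphism and e : S → H a
section of H → S, and let K = G ×_H S be the fibre of f over e (the case in view: f a homomorphism
of smooth group schemes, e the unit, K the kernel, so that 1 → K → G → H is left exact). If K → S is
smooth, then K has the Néron mapping property for S₀ ⊆ S. (Case of schemes, with smooth test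
schemes, of a statement about group algebraic spaces.) -/
theorem result {k : Type u} [Field k] [CharZero k] {S : Scheme.{u}} (σ : S ⟶ Spec (CommRingCat.of k)) [IsLocallyNoetherian S] (S₀ : S.Opens) (hS₀ : CInt.IsSchematicallyDense S₀)
    (G H : Over S) [Smooth G.hom] [Smooth H.hom]
    (hG : ∀ Z : Over S, Smooth Z.hom → Function.Bijective (fun g : Z ⟶ G => (Over.pullback S₀.ι).map g))
    (hH : ∀ Z : Over S, Smooth Z.hom → Function.Bijective (fun g : Z ⟶ H => (Over.pullback S₀.ι).map g))
    (f : G ⟶ H) (e : S ⟶ H.left) (he : e ≫ H.hom = 𝟙 S)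
    [Smooth (Limits.pullback.snd f.left e)] :
    ∀ Z : Over S, Smooth Z.hom → Function.Bijective (fun g : Z ⟶ Over.mk (Limits.pullback.snd f.left e) => (Over.pullback S₀.ι).map g) := by
  exact main S₀.ι f e he hG hH

end Groth.Agent.S13427
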