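import Groth.Statements.S13428
import Groth.Agent.Lib.Helper7.SmEtDense
import Groth.Agent.S3694

set_option autoImplicit false
universe u
open CategoryTheory AlgebraicGeometry
open NeronHD

namespace Groth.Agent.S13428

/-- Let S be a normal Noetherian scheme over a field of characteristic 0 and S₀ ⊆ S a
scheme-theoretically dense open. Let N be a smooth, separated and quasi-compact S-scheme with the
Néron mapping property for S₀ ⊆ S (restriction to S₀ of S-morphisms from smooth S-schemes is
bijective) such that N|S₀ → S₀ is étale, so that N is a quasi-projective Néron model of the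
quasi-projective étale S₀-scheme N|S₀. If M is a separated, quasi-compact, étale S-scheme and φ : M
→ N is an S-morphism restricting to an isomorphism over S₀ (so M is another quasi-projective étale
extension of N|S₀, and φ is its canonical map to the Néron model), then φ is an open immersion.
(Case of schemes of the published statement.) -/
theorem result {k : Type u} [Field k] [CharZero k] {S : Scheme.{u}} (σ : S ⟶ Spec (CommRingCat.of k)) [IsNoetherian S] (hS : Pi1.IsNormalScheme S) (S₀ : S.Opens) (hS₀ : CInt.IsSchematicallyDense S₀)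
    (N : Over S) [Smooth N.hom] [IsSeparated N.hom] [QuasiCompact N.hom]
    (hN : ∀ Z : Over S, Smooth Z.hom → Function.Bijective (fun g : Z ⟶ N => (Over.pullback S₀.ι).map g))
    [Etale ((Over.pullback S₀.ι).obj N).hom]
    (M : Over S) [Etale M.hom] [IsSeparated M.hom] [QuasiCompact M.hom]
    (φ : M ⟶ N) [IsIso ((Over.pullback S₀.ι).map φ)] :
    IsOpenImmersion φ.left := by
  open Groth.Agent.Lib.Helper7 Limits in
  have hd : Dense (S₀ : Set S) := SmEtDense.dense_of_isSchematicallyDense S₀ hS₀
  haveI : Etale (pullback.snd N.hom S₀.ι) :=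
    inferInstanceAs (Etale ((Over.pullback S₀.ι).obj N).hom)
  haveI : Etale N.hom := SmEtDense.etale_of_smooth_of_dense N.hom S₀ hd
  have hw : φ.left ≫ N.hom = M.hom := Over.w φ
  haveI : Etale (φ.left ≫ N.hom) := hw ▸ inferInstance
  haveI : Etale φ.left := Etale.of_comp φ.left N.hom
  haveI : IsSeparated φ.left := by
    haveI : IsSeparated (φ.left ≫ N.hom) := hw ▸ inferInstance
    exact IsSeparated.of_comp φ.left N.hom
  -- the diagonal of `φ` is surjective
  let g : pullback φ.left φ.left ⟶ S := pullback.fst φ.left φ.left ≫ M.hom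
  haveI : Etale g := inferInstance
  let W : (pullback φ.left φ.left).Opens := g ⁻¹ᵁ S₀
  have hWd : Dense (W : Set ↥(pullback φ.left φ.left)) := hd.preimage g.isOpenMap
  have hcl : IsClosed (Set.range (pullback.diagonal φ.left)) :=
    (pullback.diagonal φ.left).isClosedEmbedding.isClosed_range
  have hWsub : (W : Set ↥(pullback φ.left φ.left)) ⊆ Set.range (pullback.diagonal φ.left) := by
    let a : (W : Scheme.{u}) ⟶ M.left := W.ι ≫ pullback.fst φ.left φ.left
    let b : (W : Scheme.{u}) ⟶ M.left := W.ι ≫ pullback.snd φ.left φ.left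
    let c : (W : Scheme.{u}) ⟶ (S₀ : Scheme.{u}) := g ∣_ S₀
    have hc : c ≫ S₀.ι = W.ι ≫ g := morphismRestrict_ι g S₀
    have hac : a ≫ M.hom = c ≫ S₀.ι := by
      rw [hc]; simp only [a, g, Category.assoc]
    have hbc : b ≫ M.hom = c ≫ S₀.ι := by
      rw [hc]; simp only [b, g, Category.assoc]; rw [← hw, pullback.condition_assoc]
    let ψ := (Over.pullback S₀.ι).map φ
    haveI : IsIso ψ.left := inferInstanceAs (IsIso ((Over.forget _).map ψ))
    let a₀ : (W : Scheme.{u}) ⟶ pullback M.hom S₀.ι := pullback.lift a c hac
    let b₀ : (W : Scheme.{u}) ⟶ pullback M.hom S₀.ι := pullback.lift b c hbc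
    have h0 : a₀ ≫ ψ.left = b₀ ≫ ψ.left := by
      have e1 : ψ.left ≫ pullback.fst N.hom S₀.ι = pullback.fst M.hom S₀.ι ≫ φ.left := by
        simp only [ψ, Over.pullback_map_left]
        exact pullback.lift_fst _ _ _
      have e2 : ψ.left ≫ pullback.snd N.hom S₀.ι = pullback.snd M.hom S₀.ι := by
        simp only [ψ, Over.pullback_map_left]
        exact pullback.lift_snd _ _ _
      have ea : a₀ ≫ pullback.fst M.hom S₀.ι = a := pullback.lift_fst _ _ _
      have eb : b₀ ≫ pullback.fst M.hom S₀.ι = b := pullback.lift_fst _ _ _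
      have ea' : a₀ ≫ pullback.snd M.hom S₀.ι = c := pullback.lift_snd _ _ _
      have eb' : b₀ ≫ pullback.snd M.hom S₀.ι = c := pullback.lift_snd _ _ _
      apply pullback.hom_ext
      · rw [Category.assoc, Category.assoc, e1, ← Category.assoc, ← Category.assoc, ea, eb]
        simp only [a, b, Category.assoc, pullback.condition]
      · rw [Category.assoc, Category.assoc, e2, ea', eb']
    have h1 : a₀ = b₀ := (cancel_mono ψ.left).mp h0
    have hab : a = b := by
      have ea : a₀ ≫ pullback.fst M.hom S₀.ι = a := pullback.lift_fst _ _ _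
      have eb : b₀ ≫ pullback.fst M.hom S₀.ι = b := pullback.lift_fst _ _ _
      rw [← ea, ← eb, h1]
    have hWι : W.ι = a ≫ pullback.diagonal φ.left := by
      apply pullback.hom_ext
      · simp [a]
      · rw [Category.assoc, pullback.diagonal_snd, Category.comp_id, hab]
    intro w hw'
    refine ⟨a ⟨w, hw'⟩, ?_⟩
    rw [← Scheme.Hom.comp_apply, ← hWι]
    rfl
  have hrange : Set.range (pullback.diagonal φ.left) = Set.univ := by
    apply Set.eq_univ_of_univ_subset
    rw [← hWd.closure_eq]
    exact hcl.closure_subset_iff.mpr hWsub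
  haveI : Surjective (pullback.diagonal φ.left) := ⟨by
    rw [← Set.range_eq_univ]; exact hrange⟩
  haveI : UniversallyInjective φ.left := (UniversallyInjective.iff_diagonal _).mpr inferInstance
  exact Groth.Agent.S3694.result φ.left

end Groth.Agent.S13428
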