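import Groth.Statements.S13431
-- import your own Groth.Agent.* helpers here
import Groth.Agent.Lib.Helper40.NeronTorsor

set_option autoImplicit false
universe u
open CategoryTheory MonoidalCategory CartesianMonoidalCategory MonObj GrpObj AlgebraicGeometry
open NeronHD

namespace Groth.Agent.S13431

/-- Let S be a locally Noetherian scheme over a field of characteristic 0 and S₀ ⊆ S a
scheme-theoretically dense open. Let G be a smooth group scheme over S and N a smooth S-scheme with
N → S surjective, equipped with an action of G making N a pseudo-torsor: the translation map G ×_S N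
→ N ×_S N, (g, x) ↦ (g·x, x), is an isomorphism. Then G has the Néron mapping property for S₀ ⊆ S
(restriction to S₀ of S-morphisms from smooth S-schemes is bijective) if and only if N has it. (The
published statement says 'G-torsor' with torsor defined as an action whose translation map is an
isomorphism; for N empty that holds and N has the mapping property while G need not, so surjectivity
of N → S — which gives étale-local sections — is assumed here, as the published proof uses. Case of
schemes of a statement about algebraic spaces.) -/
theorem result {k : Type u} [Field k] [CharZero k] {S : Scheme.{u}} (σ : S ⟶ Spec (CommRingCat.of k)) [IsLocallyNoetherian S] (S₀ : S.Opens) (hS₀ : CInt.IsSchematicallyDense S₀)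
    (G : Over S) [GrpObj G] [Smooth G.hom]
    (N : Over S) [Smooth N.hom] [Surjective N.hom]
    (a : AlgGrp.Action G N) (ha : NonAbH1.IsPseudoTorsorSch a) :
    (∀ Z : Over S, Smooth Z.hom → Function.Bijective (fun g : Z ⟶ G => (Over.pullback S₀.ι).map g)) ↔
    (∀ Z : Over S, Smooth Z.hom → Function.Bijective (fun g : Z ⟶ N => (Over.pullback S₀.ι).map g)) := by
  have hNcov : Groth.Agent.Lib.Helper40.FpqcCov.IsCov N.hom :=
    (Groth.Agent.Lib.Helper40.FpqcCov.IsQCov.of_fppf N.hom).isCov
  have hP : ∀ Z : Over S, Smooth Z.hom → Smooth (Z ⊗ N).hom := by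
    intro Z hZ
    have h1 : (Z ⊗ N).hom = (fst Z N).left ≫ Z.hom := (Over.w (fst Z N)).symm
    have h2 : Smooth (fst Z N).left := by
      rw [Over.fst_left]
      infer_instance
    rw [h1]
    infer_instance
  have key := Groth.Agent.Lib.Helper40.NeronTorsor.bijective_iff
    (Over.pullback S₀.ι ⋙ Over.map S₀.ι) (Over.mapPullbackAdj S₀.ι).counit a
    (fun f hf => Groth.Agent.Lib.Helper40.NeronTorsor.epi_map_of_isCov S₀.ι f hf) ha hNcov
    (fun Z => Smooth Z.hom) hP
  constructor
  · intro H Z hZ
    rw [Groth.Agent.Lib.Helper40.NeronTorsor.bijective_pullback_map_iff]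
    exact key.1 (fun Z hZ =>
      (Groth.Agent.Lib.Helper40.NeronTorsor.bijective_pullback_map_iff S₀.ι Z G).1 (H Z hZ)) Z hZ
  · intro H Z hZ
    rw [Groth.Agent.Lib.Helper40.NeronTorsor.bijective_pullback_map_iff]
    exact key.2 (fun Z hZ =>
      (Groth.Agent.Lib.Helper40.NeronTorsor.bijective_pullback_map_iff S₀.ι Z N).1 (H Z hZ)) Z hZ

end Groth.Agent.S13431
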