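import Groth.Statements.S13434
import Groth.Agent.Lib.Helper28.HilbT11

set_option autoImplicit false
universe u
open W4c1hilbpn

namespace Groth.Agent.S13434

open Groth.Agent.Lib.Helper28.HilbT in
theorem vanish (k : Type u) [Field k]
    (n : ℕ) (hn : 2 ≤ n) (I : Ideal (MvPolynomial (Fin n) k)) (hI : IsMonomial I)
    [Module.Finite k (MvPolynomial (Fin n) k ⧸ I)] (α : Fin n → ℤ)
    (h : (∀ i, 0 ≤ α i) ∨ (∀ i, α i < 0)) : tPiece I α = ⊥ := by
  rcases h with h | h
  · exact tPiece_eq_bot_of_nonneg hI h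
  · exact tPiece_eq_bot_of_two_neg hI (⟨0, by omega⟩ : Fin n) (⟨1, by omega⟩ : Fin n)
      (by simp [Fin.ext_iff]) (h _) (h _) (fun l => (h l).le)

open W4c1hilbpn in
/-- Let k be an infinite field, n ≥ 2, S the polynomial ring over k in n variables, I a monomial ideal
of S of finite colength and T(I) = Hom_S(I, S/I) with its grading by integer vectors. The graded
piece of T(I) in every multidegree all of whose entries are nonnegative, or all of whose entries are
negative, vanishes, and T(I) is spanned by its pieces of non-constant sign pattern (the spans, over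
the sets N of variable indices that are neither empty nor all indices, of the graded pieces whose
multidegree is negative exactly at N). -/
theorem result (k : Type u) [Field k] [Infinite k]
    (n : ℕ) (hn : 2 ≤ n) (I : Ideal (MvPolynomial (Fin n) k)) (hI : IsMonomial I)
    [Module.Finite k (MvPolynomial (Fin n) k ⧸ I)] :
    (∀ α : Fin n → ℤ, ((∀ i, 0 ≤ α i) ∨ (∀ i, α i < 0)) → tPiece I α = ⊥) ∧
      (⨆ N : {N : Set (Fin n) // N.Nonempty ∧ N ≠ Set.univ}, sigPiece I N.1) = ⊤ := by
  refine ⟨fun α h => vanish k n hn I hI α h, ?_⟩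
  rw [eq_top_iff, ← Groth.Agent.Lib.Helper28.HilbT.iSup_tPiece_eq_top I hI]
  apply iSup_le
  intro α
  by_cases hc : (∀ i, 0 ≤ α i) ∨ (∀ i, α i < 0)
  · rw [vanish k n hn I hI α hc]
    exact bot_le
  · push Not at hc
    obtain ⟨⟨i, hi⟩, ⟨j, hj⟩⟩ := hc
    have hN : ({l | α l < 0} : Set (Fin n)).Nonempty ∧ ({l | α l < 0} : Set (Fin n)) ≠ Set.univ := by
      refine ⟨⟨i, hi⟩, fun h => ?_⟩
      have : j ∈ ({l | α l < 0} : Set (Fin n)) := by rw [h]; exact Set.mem_univ _
      exact absurd this (not_lt.mpr hj)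
    refine le_trans ?_ (le_iSup (fun N : {N : Set (Fin n) // N.Nonempty ∧ N ≠ Set.univ} =>
      sigPiece I N.1) ⟨{l | α l < 0}, hN⟩)
    exact Groth.Agent.Lib.Helper28.HilbT.tPiece_le_sigPiece I α _ (fun l => Iff.rfl)

end Groth.Agent.S13434
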