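import Groth.Statements.S1344
-- import your own Groth.Agent.* helpers here
import Mathlib
import Groth.Agent.Lib.Helper73.FlatRelDim3
import Groth.Agent.Lib.Helper73.Equidim
import Groth.Agent.Lib.Helper82.ChevalleyPt
import Groth.Agent.Lib.Helper62.DimLoc4
import Groth.Agent.Lib.Helper21.CMEquidim

set_option autoImplicit false
universe u
open FlatMor

namespace Groth.Agent.S1344

open AlgebraicGeometry CategoryTheory Limits

/-- dimension count: flat + equidimensional at a point. -/
theorem core {X Y : Scheme.{u}} (f : X ⟶ Y) [IsLocallyNoetherian X] [IsLocallyNoetherian Y]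
    [LocallyOfFiniteType f] [Flat f] (x : X) (hEq : EGA43.IsEquidimAt f x) :
    FlatMor.localDim ↑X x = FlatMor.localDim ↑Y (f x) + FlatMor.fibreDimAt f x := by
  obtain ⟨e, U, hxU, -, hB⟩ := (Groth.Agent.Lib.Helper73.SchemeDim.isEquidimAt_iff f x).mp hEq
  have hfd : FlatMor.fibreDimAt f x = (e : WithBot ℕ∞) :=
    Groth.Agent.Lib.Helper82.ChevalleyPt.fibreDimAt_eq_of_data f e U hB x hxU
  set g := U.ι ≫ f with hg
  haveI : Flat g := inferInstance
  haveI : LocallyOfFiniteType g := inferInstance
  have hrel : Cyc.HasRelDim g e := by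
    rw [Groth.Agent.Lib.Helper73.FlatRelDim.hasRelDim_iff]
    intro ζ hζmax
    rw [Groth.Agent.Lib.Helper73.SchemeDim.trdeg_opensι_comp f U ζ]
    apply hB _ ζ.2
    intro z' hsp hfz'
    have hz'U : z' ∈ U := hsp.mem_open U.isOpen ζ.2
    have h1 : (⟨z', hz'U⟩ : ↥U) ⤳ ζ :=
      U.ι.isEmbedding.isInducing.specializes_iff.mp hsp
    have h2 := hζmax ⟨z', hz'U⟩ h1 hfz'
    exact congrArg Subtype.val h2
  have h3 := Groth.Agent.Lib.Helper73.FlatRelDim.localDim_eq_add_of_flat_hasRelDim g e hrel
    ⟨x, hxU⟩
  have h4 : FlatMor.localDim ↥U ⟨x, hxU⟩ = FlatMor.localDim ↑X x :=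
    Groth.Agent.Lib.Helper62.DimLoc.localDim_eq_of_isOpenEmbedding _
      U.isOpen.isOpenEmbedding_subtypeVal ⟨x, hxU⟩
  rw [hfd, ← h4]
  exact h3

open AlgebraicGeometry CategoryTheory Limits in
/-- Let f be locally of finite type between locally Noetherian schemes and Cohen–Macaulay at every
point. Then for every point x of the source with image y, the local dimension of the source at x
equals the local dimension of the target at y plus the local dimension at x of the fibre over y. -/
theorem result {X Y : Scheme.{u}} (f : X ⟶ Y) [IsLocallyNoetherian X] [IsLocallyNoetherian Y] [LocallyOfFiniteType f]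
    (hf : ∀ x : X, MoreMor.IsCMAt f x) (x : X) :
    FlatMor.localDim ↑X x = FlatMor.localDim ↑Y (f x) + FlatMor.fibreDimAt f x := by
  haveI : Flat f := (Flat.iff_flat_stalkMap f).mpr (fun x => (hf x).1)
  exact core f x (Groth.Agent.Lib.Helper21.CMEquidim.isEquidimAt_of_isCMAt f x (hf x))

end Groth.Agent.S1344
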