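import Groth.Statements.S13441
import Groth.Agent.Lib.Helper68.HilbBasic
-- import your own Groth.Agent.* helpers here

set_option autoImplicit false
universe u
open W4c1hilbpn

namespace Groth.Agent.S13441

open Groth.Agent.Lib.Helper68

theorem e3_injective_right (a b : ℕ) : Function.Injective (fun c : ℕ => e3 a b c) := by
  intro c c' h
  have := congrArg (fun f : Fin 3 →₀ ℕ => f 2) h
  simpa [e3] using this

theorem e3_injective_mid (a c : ℕ) : Function.Injective (fun b : ℕ => e3 a b c) := by
  intro b b' h
  have := congrArg (fun f : Fin 3 →₀ ℕ => f 1) h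
  simpa [e3] using this

theorem e3_apply_zero (a b c : ℕ) : e3 a b c 0 = a := by simp [e3]
theorem e3_apply_one (a b c : ℕ) : e3 a b c 1 = b := by simp [e3]
theorem e3_apply_two (a b c : ℕ) : e3 a b c 2 = c := by simp [e3]

theorem e3_ext {f g : Fin 3 →₀ ℕ} (h0 : f 0 = g 0) (h1 : f 1 = g 1) (h2 : f 2 = g 2) : f = g := by
  ext i
  fin_cases i
  · exact h0
  · exact h1
  · exact h2

open W4c1hilbpn in
/-- Let k be an infinite field, S = k[x,y,z] with variables ordered x > y > z, and I a strongly stable
ideal of finite colength, with staircase numbers b^z_{i,j} = the number of c with x^i y^j z^c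
outside I and b^y_{i,j} = the number of b with x^i y^b z^j outside I. Then b^z_{i+1,j} ≤ b^z_{i,j+1}
and b^y_{i+1,j} ≤ b^y_{i,j+1} for all i and j (equivalently the maximum of the two neighbouring
staircase numbers is the second one). -/
theorem result (k : Type u) [Field k] [Infinite k]
    (I : Ideal (MvPolynomial (Fin 3) k)) (hI : IsStronglyStable I) [Module.Finite k (MvPolynomial (Fin 3) k ⧸ I)] (i j : ℕ) :
    stairZ I (i + 1) j ≤ stairZ I i (j + 1) ∧ stairY I (i + 1) j ≤ stairY I i (j + 1) := by
  have hfin : Finite {β : Fin 3 →₀ ℕ // β ∉ exps I} := finite_not_mem_exps I hI.1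
  constructor
  · -- z-staircase
    have hF : Finite {c : ℕ // e3 i (j + 1) c ∉ exps I} :=
      Finite.of_injective (fun c => (⟨e3 i (j + 1) c.1, c.2⟩ : {β : Fin 3 →₀ ℕ // β ∉ exps I}))
        (fun c c' h => Subtype.ext (e3_injective_right _ _ (congrArg Subtype.val h)))
    have himp : ∀ c : ℕ, e3 (i + 1) j c ∉ exps I → e3 i (j + 1) c ∉ exps I := by
      intro c hc hmem
      apply hc
      have h := hI.2 _ hmem (0 : Fin 3) (1 : Fin 3) (by decide) (by rw [e3_apply_one]; omega)
      convert h using 1
      refine e3_ext ?_ ?_ ?_ <;>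
        simp [e3_apply_zero, e3_apply_one, e3_apply_two]
    unfold stairZ
    exact Nat.card_le_card_of_injective
      (fun c : {c : ℕ // e3 (i + 1) j c ∉ exps I} =>
        (⟨c.1, himp c.1 c.2⟩ : {c : ℕ // e3 i (j + 1) c ∉ exps I}))
      (fun c c' h => Subtype.ext (by simpa using congrArg Subtype.val h))
  · -- y-staircase
    have hF : Finite {b : ℕ // e3 i b (j + 1) ∉ exps I} :=
      Finite.of_injective (fun c => (⟨e3 i c.1 (j + 1), c.2⟩ : {β : Fin 3 →₀ ℕ // β ∉ exps I}))
        (fun c c' h => Subtype.ext (e3_injective_mid _ _ (congrArg Subtype.val h)))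
    have himp : ∀ b : ℕ, e3 (i + 1) b j ∉ exps I → e3 i b (j + 1) ∉ exps I := by
      intro b hb hmem
      apply hb
      have h := hI.2 _ hmem (0 : Fin 3) (2 : Fin 3) (by decide) (by rw [e3_apply_two]; omega)
      convert h using 1
      refine e3_ext ?_ ?_ ?_ <;>
        simp [e3_apply_zero, e3_apply_one, e3_apply_two]
    unfold stairY
    exact Nat.card_le_card_of_injective
      (fun c : {b : ℕ // e3 (i + 1) b j ∉ exps I} =>
        (⟨c.1, himp c.1 c.2⟩ : {b : ℕ // e3 i b (j + 1) ∉ exps I}))
      (fun c c' h => Subtype.ext (by simpa using congrArg Subtype.val h))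

end Groth.Agent.S13441
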