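import Groth.Statements.S13444
import Mathlib
import Groth.Agent.Lib.Helper83.HomLenB
import Groth.Agent.Lib.Helper83.HomLenC
import Groth.Agent.Lib.Helper83.HomLenD
import Groth.Agent.Lib.Helper83.HomLenE

set_option autoImplicit false
universe u
open W4c1hilbpn

namespace Groth.Agent.S13444

/-- Let R be a regular local ring of Krull dimension 2 and I, J ideals of R such that R/I and R/J have
finite length. Then the length of Hom_R(I, R/J) equals the length of R/J plus the length of (I :
J)/I; here the last length is moved to the other side as the length of R/(I : J), using that I ⊆ (I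
: J) and all lengths are finite. -/
theorem result (R : Type u) [CommRing R]
    [IsRegularLocalRing R] (hdim : ringKrullDim R = 2) (I J : Ideal R)
    (hI : Module.length R (R ⧸ I) < ⊤) (hJ : Module.length R (R ⧸ J) < ⊤) :
    Module.length R (↥I →ₗ[R] (R ⧸ J)) + Module.length R (R ⧸ I.colon J) =
      Module.length R (R ⧸ J) + Module.length R (R ⧸ I) := by
  classical
  have hI0 : I ≠ ⊥ := Groth.Agent.Lib.Helper83.HomLenD.ne_bot_of_length R hdim I hI
  obtain ⟨r, f, hf, ⟨e⟩⟩ := Groth.Agent.Lib.Helper83.HomLenD.exists_presentation R hdim I hI0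
  have hM : IsFiniteLength R (R ⧸ I) := Module.length_ne_top_iff.mp hI.ne
  have h3 := Groth.Agent.Lib.Helper83.HomLenC.length_hom_add_length_ext_one
    (Fin (r + 1) → R) I (R ⧸ J) f hf
  rw [Groth.Agent.Lib.Helper83.HomLenE.length_hom_pi,
    (LinearEquiv.congrLeft (R ⧸ J) R e).length_eq,
    Groth.Agent.Lib.Helper83.HomLenE.length_hom_pi,
    Groth.Agent.Lib.Helper83.HomLenC.length_ext_one_ideal,
    Groth.Agent.Lib.Helper83.HomLenB.length_ext_two R hdim (R ⧸ I) (R ⧸ J) hM] at h3
  have h5 := Groth.Agent.Lib.Helper83.HomLenE.length_hom_quot_add I J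
  change Module.length R (↥I →ₗ[R] (R ⧸ J)) + Module.length R (R ⧸ I.colon (J : Set R)) = _
  rw [← h5]
  generalize Module.length R (R ⧸ I.colon (J : Set R)) = c at *
  generalize Module.length R ((R ⧸ J) →ₗ[R] (R ⧸ I)) = h at *
  generalize Module.length R (↥I →ₗ[R] (R ⧸ J)) = a at *
  obtain ⟨l, hl⟩ := ENat.ne_top_iff_exists.mp hJ.ne
  rw [← hl] at h3 ⊢
  have key : a + ((r * l : ℕ) : ℕ∞) = ((l : ℕ∞) + h) + ((r * l : ℕ) : ℕ∞) := by
    push_cast
    rw [← h3]
    push_cast
    ring
  have := (ENat.add_left_injective_of_ne_top (ENat.coe_ne_top (r * l))) key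
  rw [this, add_assoc]

end Groth.Agent.S13444
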