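import Groth.Statements.S13447
-- import your own Groth.Agent.* helpers here
import Mathlib
import Groth.Agent.Lib.Helper72.Nest4S

set_option autoImplicit false
universe u
open W4c1hilbpn

namespace Groth.Agent.S13447

open W4c1hilbpn in
/-- Let k be a field and S = k[x_0, ..., x_n] with its standard grading; for an ideal I write Hom_S(I,
S/I)_0 for the degree-0 homomorphisms (for a monomial ideal: the span of the multigraded pieces
whose multidegree has entry sum 0). Let n ≥ 4, q ≥ 1 and r be natural numbers with r + 3 ≤ n and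
either r ≥ 2, or r = 1 and q ≥ 3, and let I = x_0·(x_0, ..., x_{n-1}) + x_1^q·(x_1, ..., x_{n-r-1}).
Then Hom_S(I, S/I)_0 has dimension 3n - 1 + (n-r-2)(r+1) + C(n+q-1, n-1). (The published statement
gives this as the dimension of the tangent space to the Hilbert scheme at the point I, identified
with Hom_S(I, S/I)_0 through the comparison of graded pieces with global sections; the row records
the dimension count itself. The published statement also assumes r + 3 ≤ n, through its standing
conventions; for r = n − 2 the count is different.) -/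
theorem result (k : Type u) [Field k] (n q r : ℕ) (hn : 4 ≤ n)
    (hq : 1 ≤ q) (hr : r + 3 ≤ n) (hcase : 2 ≤ r ∨ (r = 1 ∧ 3 ≤ q)) :
    Module.finrank k ↥(⨆ α : {α : Fin (n + 1) → ℤ // ∑ i, α i = 0}, tPiece (Ideal.span ({f : MvPolynomial (Fin (n + 1)) k | ∃ i : Fin (n + 1), i.val + 1 ≤ n ∧ f = MvPolynomial.X 0 * MvPolynomial.X i} ∪ {f : MvPolynomial (Fin (n + 1)) k | ∃ i : Fin (n + 1), 1 ≤ i.val ∧ i.val ≤ n - r - 1 ∧ f = MvPolynomial.X 1 ^ q * MvPolynomial.X i})) α.1) =
      3 * n - 1 + (n - r - 2) * (r + 1) + Nat.choose (n + q - 1) (n - 1) := by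
  classical
  have hr1 : 1 ≤ r := by omega
  have v1 : ((1 : Fin (n + 1)) : ℕ) = 1 := by
    rw [Fin.val_one']
    exact Nat.mod_eq_of_lt (by omega)
  have e0 : ∀ x : Fin (n + 1), x = 0 ↔ x.val = 0 := fun x => by
    rw [Fin.ext_iff]; simp
  have e1 : ∀ x : Fin (n + 1), x = 1 ↔ x.val = 1 := fun x => by
    rw [Fin.ext_iff, v1]
  have el : ∀ x : Fin (n + 1), x = Fin.last n ↔ x.val = n := fun x => by
    rw [Fin.ext_iff]; simp
  have h01 : (0 : Fin (n + 1)) ≠ 1 := by
    rw [Ne, e1]; simp
  have h0l : (0 : Fin (n + 1)) ≠ Fin.last n := by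
    rw [Ne, el]; simp; omega
  have h1l : (1 : Fin (n + 1)) ≠ Fin.last n := by
    rw [Ne, el, v1]; omega
  obtain ⟨C, hC⟩ : ∃ C : Groth.Agent.Lib.Helper72.Nest4.Cfg (Fin (n + 1)),
      C = ⟨0, 1, Fin.last n, fun x => 2 ≤ x.val ∧ x.val ≤ n - r - 1,
        fun x => n - r ≤ x.val ∧ x.val ≤ n - 1, q, hq, h01, h0l, h1l,
        fun x hx => ⟨by rw [Ne, e0]; omega, by rw [Ne, e1]; omega, by rw [Ne, el]; omega,
          by intro h; omega⟩,
        fun x hx => ⟨by rw [Ne, e0]; omega, by rw [Ne, e1]; omega, by rw [Ne, el]; omega⟩,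
        fun x => by
          rw [e0, e1, el]
          have := x.isLt
          omega⟩ := ⟨_, rfl⟩
  have hCa : C.a = 0 := by rw [hC]
  have hCb : C.b = 1 := by rw [hC]
  have hCz : C.z = Fin.last n := by rw [hC]
  have hCq : C.q = q := by rw [hC]
  have hCM : ∀ x, C.M x ↔ (2 ≤ x.val ∧ x.val ≤ n - r - 1) := by
    intro x; rw [hC]
  have hCW : ∀ x, C.W x ↔ (n - r ≤ x.val ∧ x.val ≤ n - 1) := by
    intro x; rw [hC]
  obtain ⟨gens, hgens⟩ : ∃ gens : ({i : Fin (n + 1) // i.val + 1 ≤ n} ⊕
      {i : Fin (n + 1) // 1 ≤ i.val ∧ i.val ≤ n - r - 1}) → (Fin (n + 1) →₀ ℕ),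
      gens = Sum.elim (fun i => Groth.Agent.Lib.Helper72.HomGen.gen2 0 i.1)
        (fun i => Finsupp.single 1 q + Finsupp.single i.1 1) := ⟨_, rfl⟩
  have hmon : ∀ i : Fin (n + 1), (MvPolynomial.X 1 ^ q * MvPolynomial.X i :
      MvPolynomial (Fin (n + 1)) k) =
      MvPolynomial.monomial (Finsupp.single 1 q + Finsupp.single i 1) 1 := by
    intro i
    rw [MvPolynomial.X_pow_eq_monomial, MvPolynomial.X, MvPolynomial.monomial_mul, mul_one]
  have hIeq : Ideal.span ({f : MvPolynomial (Fin (n + 1)) k | ∃ i : Fin (n + 1), i.val + 1 ≤ n ∧ f = MvPolynomial.X 0 * MvPolynomial.X i} ∪ {f : MvPolynomial (Fin (n + 1)) k | ∃ i : Fin (n + 1), 1 ≤ i.val ∧ i.val ≤ n - r - 1 ∧ f = MvPolynomial.X 1 ^ q * MvPolynomial.X i}) =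
      Groth.Agent.Lib.Helper72.HomGen.genIdeal (k := k) gens := by
    unfold Groth.Agent.Lib.Helper72.HomGen.genIdeal
    congr 1
    ext f
    constructor
    · rintro (⟨i, hi, rfl⟩ | ⟨i, hi1, hi2, rfl⟩)
      · refine ⟨Sum.inl ⟨i, hi⟩, ?_⟩
        rw [hgens]
        exact Groth.Agent.Lib.Helper72.HomGen.monomial_gen2 0 i
      · refine ⟨Sum.inr ⟨i, hi1, hi2⟩, ?_⟩
        rw [hgens, hmon]
        rfl
    · rintro ⟨γ | γ, rfl⟩
      · left
        refine ⟨γ.1, γ.2, ?_⟩
        rw [hgens]
        exact Groth.Agent.Lib.Helper72.HomGen.monomial_gen2 0 γ.1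
      · right
        refine ⟨γ.1, γ.2.1, γ.2.2, ?_⟩
        rw [hgens, hmon]
        rfl
  rw [hIeq]
  have hI := Groth.Agent.Lib.Helper72.HomGen.isMonomial_genIdeal (k := k) gens
  have hE : Groth.Agent.Lib.Helper72.Nest4.HE C
      (Groth.Agent.Lib.Helper72.HomGen.genIdeal (k := k) gens) := by
    intro β
    rw [Groth.Agent.Lib.Helper72.HomGen.mem_exps_genIdeal,
      Groth.Agent.Lib.Helper72.Nest4.memI_nat, hCa, hCb, hCz, hCq]
    constructor
    · rintro ⟨γ | γ, hγ⟩
      · rw [hgens] at hγ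
        simp only [Sum.elim_inl] at hγ
        rw [Groth.Agent.Lib.Helper72.HomGen.gen2_le_iff] at hγ
        by_cases h0 : (0 : Fin (n + 1)) = γ.1
        · exact Or.inl (hγ.2 h0)
        · obtain ⟨h1, h2⟩ := hγ.1 h0
          refine Or.inr (Or.inl ⟨γ.1, Ne.symm h0, ?_, h1, h2⟩)
          rw [Ne, el]
          have := γ.2
          omega
      · rw [hgens] at hγ
        simp only [Sum.elim_inr] at hγ
        have h1 := hγ 1
        have h2 := hγ γ.1
        rw [Finsupp.add_apply, Finsupp.single_apply, Finsupp.single_apply] at h1 h2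
        rw [if_pos rfl] at h1
        rw [if_pos rfl] at h2
        by_cases hγ1 : γ.1 = 1
        · rw [if_pos hγ1] at h1
          exact Or.inr (Or.inr (Or.inl h1))
        · have hv : γ.1.val ≠ 1 := fun h => hγ1 ((e1 _).mpr h)
          refine Or.inr (Or.inr (Or.inr ⟨γ.1, ?_, ?_, ?_⟩))
          · rw [hCM]
            have := γ.2
            omega
          · rw [if_neg hγ1] at h1
            simpa using h1
          · omega
    · rintro (h | ⟨y, hy0, hyl, h1, h2⟩ | h | ⟨i, hi, h1, h2⟩)
      · refine ⟨Sum.inl ⟨0, by simp; omega⟩, ?_⟩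
        rw [hgens]
        simp only [Sum.elim_inl]
        rw [Groth.Agent.Lib.Helper72.HomGen.gen2_le_iff]
        exact ⟨fun h' => absurd rfl h', fun _ => h⟩
      · have hyv : y.val + 1 ≤ n := by
          have h3 : y.val ≠ n := fun h => hyl ((el y).mpr h)
          have := y.isLt
          omega
        refine ⟨Sum.inl ⟨y, hyv⟩, ?_⟩
        rw [hgens]
        simp only [Sum.elim_inl]
        rw [Groth.Agent.Lib.Helper72.HomGen.gen2_le_iff]
        exact ⟨fun _ => ⟨h1, h2⟩, fun h' => absurd h'.symm hy0⟩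
      · refine ⟨Sum.inr ⟨1, by rw [v1], by rw [v1]; omega⟩, ?_⟩
        rw [hgens]
        simp only [Sum.elim_inr]
        intro x
        rw [Finsupp.add_apply, Finsupp.single_apply, Finsupp.single_apply]
        by_cases hx : (1 : Fin (n + 1)) = x
        · rw [if_pos hx, if_pos hx, ← hx]; exact h
        · rw [if_neg hx, if_neg hx]; exact Nat.zero_le _
      · rw [hCM] at hi
        have hi1 : i ≠ 1 := by rw [Ne, e1]; omega
        refine ⟨Sum.inr ⟨i, by omega, hi.2⟩, ?_⟩
        rw [hgens]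
        simp only [Sum.elim_inr]
        intro x
        rw [Finsupp.add_apply, Finsupp.single_apply, Finsupp.single_apply]
        by_cases hx : (1 : Fin (n + 1)) = x
        · rw [if_pos hx, ← hx, if_neg hi1]; simpa using h1
        · rw [if_neg hx]
          by_cases hx' : i = x
          · rw [if_pos hx', ← hx']; simpa using h2
          · rw [if_neg hx']; exact Nat.zero_le _
  have hMne : ∃ i, C.M i := by
    refine ⟨⟨2, by omega⟩, ?_⟩
    rw [hCM]
    simp
    omega
  have hWne : ∃ j, C.W j := by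
    refine ⟨⟨n - 1, by omega⟩, ?_⟩
    rw [hCW]
    simp
    omega
  have hcase' : (∃ j j', C.W j ∧ C.W j' ∧ j ≠ j') ∨ 3 ≤ C.q := by
    rcases hcase with h | ⟨h1, h2⟩
    · left
      refine ⟨⟨n - 1, by omega⟩, ⟨n - 2, by omega⟩, ?_, ?_, ?_⟩
      · rw [hCW]; simp; omega
      · rw [hCW]; simp; omega
      · intro h'
        have := congrArg Fin.val h'
        simp at this
        omega
    · right; rw [hCq]; exact h2
  have : DecidablePred C.M := fun _ => Classical.propDecidable _
  have : DecidablePred C.W := fun _ => Classical.propDecidable _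
  rw [Groth.Agent.Lib.Helper72.Nest4.finrank_hom0 hI hE hMne hWne hcase']
  have cardIcc : ∀ (lo hi' : ℕ), hi' < n + 1 → lo ≤ hi' + 1 →
      Fintype.card {x : Fin (n + 1) // lo ≤ x.val ∧ x.val ≤ hi'} = hi' + 1 - lo := by
    intro lo hi' h1 h2
    have e : {x : Fin (n + 1) // lo ≤ x.val ∧ x.val ≤ hi'} ≃ Fin (hi' + 1 - lo) :=
      { toFun := fun x => ⟨x.1.val - lo, by have := x.2; omega⟩
        invFun := fun t => ⟨⟨t.val + lo, by have := t.isLt; omega⟩, by
          have := t.isLt
          constructor <;> simp <;> omega⟩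
        left_inv := fun x => by
          apply Subtype.ext
          apply Fin.ext
          have := x.2
          simp
          omega
        right_inv := fun t => by
          apply Fin.ext
          simp }
    rw [Fintype.card_congr e, Fintype.card_fin]
  have hcM : Fintype.card (Groth.Agent.Lib.Helper72.Nest4.Mid C) = n - r - 2 := by
    have e : Groth.Agent.Lib.Helper72.Nest4.Mid C ≃
        {x : Fin (n + 1) // 2 ≤ x.val ∧ x.val ≤ n - r - 1} :=
      Equiv.subtypeEquivRight (fun x => hCM x)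
    rw [Fintype.card_congr e, cardIcc 2 (n - r - 1) (by omega) (by omega)]
    omega
  have hcW : Fintype.card (Groth.Agent.Lib.Helper72.Nest4.WW C) = r := by
    have e : Groth.Agent.Lib.Helper72.Nest4.WW C ≃
        {x : Fin (n + 1) // n - r ≤ x.val ∧ x.val ≤ n - 1} :=
      Equiv.subtypeEquivRight (fun x => hCW x)
    rw [Fintype.card_congr e, cardIcc (n - r) (n - 1) (by omega) (by omega)]
    omega
  have hBB := Groth.Agent.Lib.Helper72.Nest4.card_BB C
  rw [Groth.Agent.Lib.Helper72.Nest4.card_AA, Fintype.card_fin, hCq] at hBB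
  have hch : Nat.choose (n + 1 - 1 + q - 1) q = Nat.choose (n + q - 1) (n - 1) := by
    have e1 : n + 1 - 1 + q - 1 = n + q - 1 := by omega
    rw [e1]
    exact Nat.choose_symm_of_eq_add (by omega)
  rw [hch] at hBB
  rw [hcM, hcW]
  obtain ⟨s, hs⟩ : ∃ s, s = n - r - 2 := ⟨_, rfl⟩
  rw [← hs]
  have hsn : s + r + 2 = n := by omega
  have hmul : s * (r + 1) = s * r + s := by ring
  rw [hmul]
  omega

end Groth.Agent.S13447
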