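import Groth.Statements.S13449
-- import your own Groth.Agent.* helpers here
import Mathlib
import Groth.Agent.Lib.Helper72.NestE

set_option autoImplicit false
universe u
open W4c1hilbpn

namespace Groth.Agent.S13449

open W4c1hilbpn in
/-- Let k be a field and S = k[x_0, ..., x_n] with its standard grading; for an ideal I write Hom_S(I,
S/I)_0 for the degree-0 homomorphisms (for a monomial ideal: the span of the multigraded pieces
whose multidegree has entry sum 0). Let n ≥ 3 and I = x_0·(x_0, ..., x_{n-1}) + x_1·(x_1, ...,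
x_{n-1}) (the case q = 1, r = 0 of the two-block family). Then Hom_S(I, S/I)_0 has dimension 6n - 4.
(The published statement gives this as the dimension of the tangent space to the Hilbert scheme at
the point I; the row records the dimension count.) -/
theorem result (k : Type u) [Field k] (n : ℕ) (hn : 3 ≤ n) :
    Module.finrank k ↥(⨆ α : {α : Fin (n + 1) → ℤ // ∑ i, α i = 0}, tPiece (Ideal.span ({f : MvPolynomial (Fin (n + 1)) k | ∃ i : Fin (n + 1), i.val + 1 ≤ n ∧ f = MvPolynomial.X 0 * MvPolynomial.X i} ∪ {f : MvPolynomial (Fin (n + 1)) k | ∃ i : Fin (n + 1), 1 ≤ i.val ∧ i.val ≤ n - 1 ∧ f = MvPolynomial.X 1 * MvPolynomial.X i})) α.1) = 6 * n - 4 := by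
  classical
  have v1 : ((1 : Fin (n + 1)) : ℕ) = 1 := by
    rw [Fin.val_one']
    exact Nat.mod_eq_of_lt (by omega)
  have h01 : (0 : Fin (n + 1)) ≠ 1 := by
    intro h
    have := congrArg Fin.val h
    rw [v1] at this
    simp at this
  have h0l : (0 : Fin (n + 1)) ≠ Fin.last n := by
    intro h
    have := congrArg Fin.val h
    simp at this
    omega
  have h1l : (1 : Fin (n + 1)) ≠ Fin.last n := by
    intro h
    have := congrArg Fin.val h
    rw [v1] at this
    simp at this
    omega
  obtain ⟨C, hC⟩ : ∃ C : Groth.Agent.Lib.Helper72.Nest.Cfg (Fin (n + 1)),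
      C = ⟨0, 1, Fin.last n, fun x => x ≠ 0 ∧ x ≠ 1 ∧ x ≠ Fin.last n, h01, h0l, h1l,
        fun x => Iff.rfl⟩ := ⟨_, rfl⟩
  have hCa : C.a = 0 := by rw [hC]
  have hCb : C.b = 1 := by rw [hC]
  have hCz : C.z = Fin.last n := by rw [hC]
  have hCM : ∀ x, C.M x ↔ (x ≠ 0 ∧ x ≠ 1 ∧ x ≠ Fin.last n) := by
    intro x; rw [hC]
  obtain ⟨gens, hgens⟩ : ∃ gens : ({i : Fin (n + 1) // i.val + 1 ≤ n} ⊕
      {i : Fin (n + 1) // 1 ≤ i.val ∧ i.val ≤ n - 1}) → (Fin (n + 1) →₀ ℕ),
      gens = Sum.elim (fun i => Groth.Agent.Lib.Helper72.HomGen.gen2 0 i.1)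
        (fun i => Groth.Agent.Lib.Helper72.HomGen.gen2 1 i.1) := ⟨_, rfl⟩
  have hIeq : Ideal.span ({f : MvPolynomial (Fin (n + 1)) k | ∃ i : Fin (n + 1), i.val + 1 ≤ n ∧ f = MvPolynomial.X 0 * MvPolynomial.X i} ∪ {f : MvPolynomial (Fin (n + 1)) k | ∃ i : Fin (n + 1), 1 ≤ i.val ∧ i.val ≤ n - 1 ∧ f = MvPolynomial.X 1 * MvPolynomial.X i}) =
      Groth.Agent.Lib.Helper72.HomGen.genIdeal (k := k) gens := by
    unfold Groth.Agent.Lib.Helper72.HomGen.genIdeal
    congr 1
    ext f
    constructor
    · rintro (⟨i, hi, rfl⟩ | ⟨i, hi1, hi2, rfl⟩)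
      · refine ⟨Sum.inl ⟨i, hi⟩, ?_⟩
        rw [hgens]
        exact Groth.Agent.Lib.Helper72.HomGen.monomial_gen2 0 i
      · refine ⟨Sum.inr ⟨i, hi1, hi2⟩, ?_⟩
        rw [hgens]
        exact Groth.Agent.Lib.Helper72.HomGen.monomial_gen2 1 i
    · rintro ⟨γ | γ, rfl⟩
      · left
        refine ⟨γ.1, γ.2, ?_⟩
        rw [hgens]
        exact Groth.Agent.Lib.Helper72.HomGen.monomial_gen2 0 γ.1
      · right
        refine ⟨γ.1, γ.2.1, γ.2.2, ?_⟩
        rw [hgens]
        exact Groth.Agent.Lib.Helper72.HomGen.monomial_gen2 1 γ.1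
  rw [hIeq]
  have hI := Groth.Agent.Lib.Helper72.HomGen.isMonomial_genIdeal (k := k) gens
  have hE : Groth.Agent.Lib.Helper72.Nest.HE C
      (Groth.Agent.Lib.Helper72.HomGen.genIdeal (k := k) gens) := by
    intro β
    rw [Groth.Agent.Lib.Helper72.HomGen.mem_exps_genIdeal,
      Groth.Agent.Lib.Helper72.Nest.memI_nat, hCa, hCb, hCz]
    constructor
    · rintro ⟨γ | γ, hγ⟩
      · rw [hgens] at hγ
        simp only [Sum.elim_inl] at hγ
        rw [Groth.Agent.Lib.Helper72.HomGen.gen2_le_iff] at hγ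
        by_cases h0 : (0 : Fin (n + 1)) = γ.1
        · exact Or.inl (hγ.2 h0)
        · obtain ⟨h1, h2⟩ := hγ.1 h0
          refine Or.inr (Or.inr ⟨0, γ.1, Or.inl rfl, ?_, h0, h1, h2⟩)
          intro h
          have := γ.2
          rw [h] at this
          simp at this
      · rw [hgens] at hγ
        simp only [Sum.elim_inr] at hγ
        rw [Groth.Agent.Lib.Helper72.HomGen.gen2_le_iff] at hγ
        by_cases h0 : (1 : Fin (n + 1)) = γ.1
        · exact Or.inr (Or.inl (hγ.2 h0))
        · obtain ⟨h1, h2⟩ := hγ.1 h0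
          refine Or.inr (Or.inr ⟨1, γ.1, Or.inr rfl, ?_, h0, h1, h2⟩)
          intro h
          have := γ.2.2
          rw [h] at this
          simp at this
          omega
    · rintro (h | h | ⟨x, y, hx | hx, hy, hxy, h1, h2⟩)
      · refine ⟨Sum.inl ⟨0, by simp; omega⟩, ?_⟩
        rw [hgens]
        simp only [Sum.elim_inl]
        rw [Groth.Agent.Lib.Helper72.HomGen.gen2_le_iff]
        exact ⟨fun h' => absurd rfl h', fun _ => h⟩
      · refine ⟨Sum.inr ⟨1, by rw [v1], by rw [v1]; omega⟩, ?_⟩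
        rw [hgens]
        simp only [Sum.elim_inr]
        rw [Groth.Agent.Lib.Helper72.HomGen.gen2_le_iff]
        exact ⟨fun h' => absurd rfl h', fun _ => h⟩
      · subst hx
        have hyv : y.val + 1 ≤ n := by
          have h3 : y.val ≠ n := fun h => hy (Fin.ext (by simp [h]))
          have := y.isLt
          omega
        refine ⟨Sum.inl ⟨y, hyv⟩, ?_⟩
        rw [hgens]
        simp only [Sum.elim_inl]
        rw [Groth.Agent.Lib.Helper72.HomGen.gen2_le_iff]
        exact ⟨fun _ => ⟨h1, h2⟩, fun h' => absurd h' hxy⟩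
      · subst hx
        by_cases hy0 : y = 0
        · subst hy0
          refine ⟨Sum.inl ⟨1, by rw [v1]; omega⟩, ?_⟩
          rw [hgens]
          simp only [Sum.elim_inl]
          rw [Groth.Agent.Lib.Helper72.HomGen.gen2_le_iff]
          exact ⟨fun _ => ⟨h2, h1⟩, fun h' => absurd h' h01⟩
        · have hyv : y.val ≤ n - 1 := by
            have h3 : y.val ≠ n := fun h => hy (Fin.ext (by simp [h]))
            have := y.isLt
            omega
          have hyv' : 1 ≤ y.val := by
            have h3 : y.val ≠ 0 := fun h => hy0 (Fin.ext (by simp [h]))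
            omega
          refine ⟨Sum.inr ⟨y, hyv', hyv⟩, ?_⟩
          rw [hgens]
          simp only [Sum.elim_inr]
          rw [Groth.Agent.Lib.Helper72.HomGen.gen2_le_iff]
          exact ⟨fun _ => ⟨h1, h2⟩, fun h' => absurd h' hxy⟩
  have hMne : ∃ i, C.M i := by
    refine ⟨⟨2, by omega⟩, ?_⟩
    rw [hCM]
    refine ⟨?_, ?_, ?_⟩
    · intro h
      have := congrArg Fin.val h
      simp at this
    · intro h
      have := congrArg Fin.val h
      rw [v1] at this
      simp at this
    · intro h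
      have := congrArg Fin.val h
      simp at this
      omega
  have : DecidablePred C.M := fun _ => Classical.propDecidable _
  rw [Groth.Agent.Lib.Helper72.Nest.finrank_hom0 hI hE hMne]
  have hcard : Fintype.card (Groth.Agent.Lib.Helper72.Nest.Mid C) = n - 2 := by
    have e : Groth.Agent.Lib.Helper72.Nest.Mid C ≃
        {x : Fin (n + 1) // ¬ (x = 0 ∨ x = 1 ∨ x = Fin.last n)} :=
      Equiv.subtypeEquivRight (fun x => by rw [hCM]; tauto)
    rw [Fintype.card_congr e, Fintype.card_subtype_compl, Fintype.card_fin, Fintype.card_subtype]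
    have h3 : (Finset.univ.filter fun x : Fin (n + 1) => x = 0 ∨ x = 1 ∨ x = Fin.last n) =
        {0, 1, Fin.last n} := by
      ext x
      simp
    rw [h3, Finset.card_insert_of_notMem, Finset.card_insert_of_notMem, Finset.card_singleton]
    · omega
    all_goals
      first
      | exact fun h => h1l (Finset.mem_singleton.mp h)
      | (intro h
         rcases Finset.mem_insert.mp h with h | h
         · exact h01 h
         · exact h0l (Finset.mem_singleton.mp h))
  rw [hcard]
  omega

end Groth.Agent.S13449
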