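import Groth.Statements.S13451
-- import your own Groth.Agent.* helpers here
import Mathlib
import Groth.Agent.Lib.Helper72.TwoPlaneC

set_option autoImplicit false
universe u
open W4c1hilbpn

namespace Groth.Agent.S13451

open W4c1hilbpn in
/-- Let k be an algebraically closed field of characteristic different from 2, S = k[x_0, ..., x_n] with
its standard grading, 2 ≤ c ≤ d with n ≥ c + d, and I = (x_0, ..., x_{c-1})·(x_{n-d+1}, ..., x_n),
the ideal of the union of two coordinate linear spaces of codimensions c and d meeting transversely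
and not spanning the ambient space. Then the degree-0 homomorphisms Hom_S(I, S/I)_0 form a space of
dimension c(n-c+1) + d(n-d+1). (The published statement gives this number as the dimension of the
tangent space to the Hilbert scheme at the pair of planes, for every n; the row records the count of
degree-0 homomorphisms in the non-spanning range n ≥ c + d, where that tangent space is Hom_S(I,
S/I)_0.) -/
theorem result (k : Type u) [Field k] [IsAlgClosed k] (hchar : ringChar k ≠ 2)
    (n c d : ℕ) (hc : 2 ≤ c) (hcd : c ≤ d) (hn : c + d ≤ n) :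
    Module.finrank k ↥(⨆ α : {α : Fin (n + 1) → ℤ // ∑ i, α i = 0},
      tPiece (Ideal.span {f : MvPolynomial (Fin (n + 1)) k | ∃ i j : Fin (n + 1), i.val + 1 ≤ c ∧ n + 1 ≤ j.val + d ∧
        f = MvPolynomial.X i * MvPolynomial.X j}) α.1) = c * (n - c + 1) + d * (n - d + 1) := by
  classical
  have hIeq : Ideal.span {f : MvPolynomial (Fin (n + 1)) k | ∃ i j : Fin (n + 1), i.val + 1 ≤ c ∧ n + 1 ≤ j.val + d ∧
        f = MvPolynomial.X i * MvPolynomial.X j} =
      Groth.Agent.Lib.Helper72.HomGen.genIdeal (k := k)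
        (Groth.Agent.Lib.Helper72.TwoPlane.gen (fun i : Fin (n + 1) => i.val + 1 ≤ c)
          (fun j : Fin (n + 1) => n + 1 ≤ j.val + d)) := by
    unfold Groth.Agent.Lib.Helper72.HomGen.genIdeal
    congr 1
    ext f
    constructor
    · rintro ⟨i, j, hi, hj, rfl⟩
      exact ⟨⟨(i, j), hi, hj⟩, Groth.Agent.Lib.Helper72.HomGen.monomial_gen2 i j⟩
    · rintro ⟨γ, rfl⟩
      exact ⟨γ.1.1, γ.1.2, γ.2.1, γ.2.2, Groth.Agent.Lib.Helper72.HomGen.monomial_gen2 _ _⟩
  rw [hIeq]
  have hdisj : ∀ x : Fin (n + 1), x.val + 1 ≤ c → n + 1 ≤ x.val + d → False := by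
    intro x h1 h2
    omega
  have hE : ∀ β : Fin (n + 1) →₀ ℕ,
      β ∈ exps (Groth.Agent.Lib.Helper72.HomGen.genIdeal (k := k)
        (Groth.Agent.Lib.Helper72.TwoPlane.gen (fun i : Fin (n + 1) => i.val + 1 ≤ c)
          (fun j : Fin (n + 1) => n + 1 ≤ j.val + d))) ↔
      ∃ i j : Fin (n + 1), i.val + 1 ≤ c ∧ n + 1 ≤ j.val + d ∧ 1 ≤ β i ∧ 1 ≤ β j := by
    intro β
    rw [Groth.Agent.Lib.Helper72.HomGen.mem_exps_genIdeal]
    exact Groth.Agent.Lib.Helper72.TwoPlane.exists_gen_le_iff hdisj β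
  have hI := Groth.Agent.Lib.Helper72.HomGen.isMonomial_genIdeal (k := k)
    (Groth.Agent.Lib.Helper72.TwoPlane.gen (fun i : Fin (n + 1) => i.val + 1 ≤ c)
      (fun j : Fin (n + 1) => n + 1 ≤ j.val + d))
  have hP2 : ∀ i : Fin (n + 1), i.val + 1 ≤ c → ∃ i' : Fin (n + 1), i'.val + 1 ≤ c ∧ i' ≠ i := by
    intro i hi
    by_cases h0 : i.val = 0
    · refine ⟨⟨1, by omega⟩, by simp; omega, ?_⟩
      intro h
      have := congrArg Fin.val h
      simp at this
      omega
    · refine ⟨⟨0, by omega⟩, by simp; omega, ?_⟩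
      intro h
      have := congrArg Fin.val h
      simp at this
      omega
  have hQ2 : ∀ j : Fin (n + 1), n + 1 ≤ j.val + d → ∃ j' : Fin (n + 1), n + 1 ≤ j'.val + d ∧ j' ≠ j := by
    intro j hj
    by_cases h0 : j.val = n
    · refine ⟨⟨n - 1, by omega⟩, by simp; omega, ?_⟩
      intro h
      have := congrArg Fin.val h
      simp at this
      omega
    · refine ⟨⟨n, by omega⟩, by simp; omega, ?_⟩
      intro h
      have := congrArg Fin.val h
      simp at this
      omega
  have hPne : ∃ i : Fin (n + 1), i.val + 1 ≤ c := ⟨⟨0, by omega⟩, by simp; omega⟩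
  have hQne : ∃ j : Fin (n + 1), n + 1 ≤ j.val + d := ⟨⟨n, by omega⟩, by simp; omega⟩
  rw [Groth.Agent.Lib.Helper72.TwoPlane.finrank_hom0 _ hdisj hE hI hP2 hQ2 hPne hQne]
  have c1 : Fintype.card {i : Fin (n + 1) // i.val + 1 ≤ c} = c :=
    Groth.Agent.Lib.Helper72.HomGen.card_subtype_val_lt (n + 1) c (by omega)
  have c2 : Fintype.card {i : Fin (n + 1) // ¬ (i.val + 1 ≤ c)} = n + 1 - c :=
    Groth.Agent.Lib.Helper72.HomGen.card_subtype_not_val_lt (n + 1) c (by omega)
  have c3 : Fintype.card {j : Fin (n + 1) // n + 1 ≤ j.val + d} = d := by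
    have e : {j : Fin (n + 1) // n + 1 ≤ j.val + d} ≃ {j : Fin (n + 1) // n + 1 - d ≤ j.val} :=
      Equiv.subtypeEquivRight (fun j => by omega)
    rw [Fintype.card_congr e, Groth.Agent.Lib.Helper72.HomGen.card_subtype_val_ge (n + 1) (n + 1 - d) (by omega)]
    omega
  have c4 : Fintype.card {j : Fin (n + 1) // ¬ (n + 1 ≤ j.val + d)} = n + 1 - d := by
    have e : {j : Fin (n + 1) // ¬ (n + 1 ≤ j.val + d)} ≃ {j : Fin (n + 1) // ¬ (n + 1 - d ≤ j.val)} :=
      Equiv.subtypeEquivRight (fun j => by omega)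
    rw [Fintype.card_congr e, Groth.Agent.Lib.Helper72.HomGen.card_subtype_not_val_ge (n + 1) (n + 1 - d) (by omega)]
  rw [c1, c2, c3, c4]
  have e1 : n + 1 - c = n - c + 1 := by omega
  have e2 : n + 1 - d = n - d + 1 := by omega
  rw [e1, e2]

end Groth.Agent.S13451
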