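import Groth.Statements.S13455
import Mathlib
-- import your own Groth.Agent.* helpers here

set_option autoImplicit false
universe u
open W4c1hilbpn

namespace Groth.Agent.S13455

section helpers

def SA (n k0 e1 e2 : ℕ) : Set (Fin (n + 1) →₀ ℕ) :=
  {s | (∃ p q : Fin (n + 1), e1 ≤ p.val ∧ p.val ≤ e2 ∧ e1 ≤ q.val ∧ q.val ≤ e2 ∧
        s = Finsupp.single p 1 + Finsupp.single q 1) ∨
       (∃ p q m : Fin (n + 1), e1 ≤ p.val ∧ p.val < q.val ∧ q.val ≤ e2 ∧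
        m.val + k0 = n + 1 + q.val ∧ s = Finsupp.single p 1 + Finsupp.single m 1)}

def SB (n k0 e1 e2 : ℕ) (j : Fin (n + 1)) : Set (Fin (n + 1) →₀ ℕ) :=
  {s | (∃ i : Fin (n + 1), e1 ≤ i.val ∧ i.val ≤ e2 ∧ i ≠ j ∧ s = Finsupp.single i 1) ∨
       s = Finsupp.single j 2 ∨
       (∃ q m : Fin (n + 1), j.val < q.val ∧ q.val ≤ e2 ∧ m.val + k0 = n + 1 + q.val ∧
        s = Finsupp.single m 1)}

lemma pair_le {σ : Type} (d : σ →₀ ℕ) (x y : σ) (hxy : x ≠ y) (hx : 1 ≤ d x) (hy : 1 ≤ d y) :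
    Finsupp.single x 1 + Finsupp.single y 1 ≤ d := by
  classical
  rw [Finsupp.le_def]
  intro t
  rw [Finsupp.add_apply, Finsupp.single_apply, Finsupp.single_apply]
  by_cases h1 : x = t
  · subst h1
    rw [if_pos rfl, if_neg (Ne.symm hxy)]
    omega
  · rw [if_neg h1]
    by_cases h2 : y = t
    · subst h2
      rw [if_pos rfl]
      omega
    · rw [if_neg h2]
      omega

lemma double_le {σ : Type} (d : σ →₀ ℕ) (x : σ) (hx : 2 ≤ d x) :
    Finsupp.single x 1 + Finsupp.single x 1 ≤ d := by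
  classical
  rw [Finsupp.le_def]
  intro t
  rw [Finsupp.add_apply, Finsupp.single_apply]
  by_cases h1 : x = t
  · subst h1
    rw [if_pos rfl]
    omega
  · rw [if_neg h1]
    omega

lemma comb (n k0 e1 e2 : ℕ) (hk : 1 ≤ k0) (hn : 2 * k0 ≤ n + 1) (he : e1 ≤ e2)
    (he2 : e2 + 1 ≤ k0) (d : Fin (n + 1) →₀ ℕ)
    (h : ∀ j : Fin (n + 1), e1 ≤ j.val → j.val ≤ e2 → ∃ s ∈ SB n k0 e1 e2 j, s ≤ d) :
    ∃ s ∈ SA n k0 e1 e2, s ≤ d := by
  have hge : ∀ (i : Fin (n + 1)) (c : ℕ), Finsupp.single i c ≤ d → c ≤ d i := by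
    intro i c hle
    have := (Finsupp.le_def.mp hle) i
    rwa [Finsupp.single_eq_same] at this
  obtain ⟨p, hp1, hp2, hdp⟩ : ∃ p : Fin (n + 1), e1 ≤ p.val ∧ p.val ≤ e2 ∧ 1 ≤ d p := by
    obtain ⟨s, hs, hsd⟩ := h ⟨e2, by omega⟩ he le_rfl
    rcases hs with ⟨i, hi1, hi2, _, rfl⟩ | rfl | ⟨q, m, hq1, hq2, _, rfl⟩
    · exact ⟨i, hi1, hi2, hge i 1 hsd⟩
    · exact ⟨⟨e2, by omega⟩, he, le_rfl, by have := hge _ 2 hsd; omega⟩
    · exfalso
      have h' : e2 < q.val := hq1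
      omega
  obtain ⟨s, hs, hsd⟩ := h p hp1 hp2
  rcases hs with ⟨i, hi1, hi2, hip, rfl⟩ | rfl | ⟨q, m, hq1, hq2, hm, rfl⟩
  · exact ⟨_, Or.inl ⟨p, i, hp1, hp2, hi1, hi2, rfl⟩,
      pair_le d p i (Ne.symm hip) hdp (hge i 1 hsd)⟩
  · exact ⟨_, Or.inl ⟨p, p, hp1, hp2, hp1, hp2, rfl⟩, double_le d p (hge p 2 hsd)⟩
  · refine ⟨_, Or.inr ⟨p, q, m, hp1, hq1, hq2, hm, rfl⟩, pair_le d p m ?_ hdp (hge m 1 hsd)⟩
    intro hpm
    rw [hpm] at hp2
    omega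

variable (k : Type u) [Field k]

lemma XX {n : ℕ} (p q : Fin (n + 1)) :
    MvPolynomial.monomial (Finsupp.single p 1 + Finsupp.single q 1) (1 : k)
      = MvPolynomial.X p * MvPolynomial.X q := by
  simp only [MvPolynomial.X, MvPolynomial.monomial_mul, _root_.mul_one]

lemma Bj_le (n k0 e1 e2 : ℕ) (j : Fin (n + 1)) :
    Ideal.span ({f : MvPolynomial (Fin (n + 1)) k | ∃ i : Fin (n + 1), e1 ≤ i.val ∧ i.val ≤ e2 ∧ i ≠ j ∧ f = MvPolynomial.X i} ∪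
        {MvPolynomial.X j ^ 2} ∪
        {f : MvPolynomial (Fin (n + 1)) k | ∃ q m : Fin (n + 1), j.val < q.val ∧ q.val ≤ e2 ∧ m.val + k0 = n + 1 + q.val ∧
          f = MvPolynomial.X m})
      ≤ Ideal.span ((fun s => MvPolynomial.monomial s (1 : k)) '' SB n k0 e1 e2 j) := by
  rw [Ideal.span_le]
  rintro f ((⟨i, h1, h2, h3, rfl⟩ | rfl) | ⟨q, m, h1, h2, h3, rfl⟩)
  · exact Ideal.subset_span ⟨Finsupp.single i 1, Or.inl ⟨i, h1, h2, h3, rfl⟩, rfl⟩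
  · exact Ideal.subset_span ⟨Finsupp.single j 2, Or.inr (Or.inl rfl),
      MvPolynomial.X_pow_eq_monomial.symm⟩
  · exact Ideal.subset_span ⟨Finsupp.single m 1, Or.inr (Or.inr ⟨q, m, h1, h2, h3, rfl⟩), rfl⟩

lemma A'_le (n k0 e1 e2 : ℕ) :
    Ideal.span ((fun s => MvPolynomial.monomial s (1 : k)) '' SA n k0 e1 e2) ≤
    Ideal.span ({f : MvPolynomial (Fin (n + 1)) k | ∃ p q : Fin (n + 1), e1 ≤ p.val ∧ p.val ≤ e2 ∧ e1 ≤ q.val ∧ q.val ≤ e2 ∧
        f = MvPolynomial.X p * MvPolynomial.X q} ∪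
      {f : MvPolynomial (Fin (n + 1)) k | ∃ p q m : Fin (n + 1), e1 ≤ p.val ∧ p.val < q.val ∧ q.val ≤ e2 ∧
        m.val + k0 = n + 1 + q.val ∧ f = MvPolynomial.X p * MvPolynomial.X m}) := by
  rw [Ideal.span_le]
  rintro _ ⟨s, (⟨p, q, h1, h2, h3, h4, rfl⟩ | ⟨p, q, m, h1, h2, h3, h4, rfl⟩), rfl⟩
  · exact Ideal.subset_span (Or.inl ⟨p, q, h1, h2, h3, h4, XX k p q⟩)
  · exact Ideal.subset_span (Or.inr ⟨p, q, m, h1, h2, h3, h4, XX k p m⟩)

end helpers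


/-- Let k be an algebraically closed field of characteristic different from 2, k0 ≥ 1 and n ≥ 2k0 - 1
natural numbers, S = k[x_0, ..., x_n], and e1 ≤ e2 ≤ k0 - 1. The ideal generated by all products x_p
x_q with e1 ≤ p, q ≤ e2 together with the products x_p x_{n-k0+1+q} for e1 ≤ p < q ≤ e2 is the
intersection, over j from e1 to e2, of the ideals generated by the variables x_i with e1 ≤ i ≤ e2
and i ≠ j, the square x_j^2, and the variables x_{n-k0+1+q} for j < q ≤ e2 (a primary decomposition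
of this monomial ideal). -/
theorem result (k : Type u) [Field k] [IsAlgClosed k] (hchar : ringChar k ≠ 2)
    (n k0 e1 e2 : ℕ) (hk : 1 ≤ k0) (hn : 2 * k0 ≤ n + 1) (he : e1 ≤ e2) (he2 : e2 + 1 ≤ k0) :
    Ideal.span ({f : MvPolynomial (Fin (n + 1)) k | ∃ p q : Fin (n + 1), e1 ≤ p.val ∧ p.val ≤ e2 ∧ e1 ≤ q.val ∧ q.val ≤ e2 ∧
        f = MvPolynomial.X p * MvPolynomial.X q} ∪
      {f : MvPolynomial (Fin (n + 1)) k | ∃ p q m : Fin (n + 1), e1 ≤ p.val ∧ p.val < q.val ∧ q.val ≤ e2 ∧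
        m.val + k0 = n + 1 + q.val ∧ f = MvPolynomial.X p * MvPolynomial.X m}) =
    ⨅ j : Fin (n + 1), ⨅ (_ : e1 ≤ j.val ∧ j.val ≤ e2),
      Ideal.span ({f : MvPolynomial (Fin (n + 1)) k | ∃ i : Fin (n + 1), e1 ≤ i.val ∧ i.val ≤ e2 ∧ i ≠ j ∧ f = MvPolynomial.X i} ∪
        {MvPolynomial.X j ^ 2} ∪
        {f : MvPolynomial (Fin (n + 1)) k | ∃ q m : Fin (n + 1), j.val < q.val ∧ q.val ≤ e2 ∧ m.val + k0 = n + 1 + q.val ∧
          f = MvPolynomial.X m}) := by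
  classical
  apply le_antisymm
  · rw [Ideal.span_le]
    rintro f (⟨p, q, hp1, hp2, hq1, hq2, rfl⟩ | ⟨p, q, m, hp1, hpq, hq2, hm, rfl⟩)
    · rw [SetLike.mem_coe, Ideal.mem_iInf]
      intro j
      rw [Ideal.mem_iInf]
      intro hj
      by_cases hpj : p = j
      · by_cases hqj : q = j
        · have hsq : (MvPolynomial.X p * MvPolynomial.X q : MvPolynomial (Fin (n + 1)) k)
              = MvPolynomial.X j ^ 2 := by rw [hpj, hqj, pow_two]
          rw [hsq]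
          exact Ideal.subset_span (Or.inl (Or.inr rfl))
        · exact Ideal.mul_mem_left _ _
            (Ideal.subset_span (Or.inl (Or.inl ⟨q, hq1, hq2, hqj, rfl⟩)))
      · exact Ideal.mul_mem_right _ _
          (Ideal.subset_span (Or.inl (Or.inl ⟨p, hp1, hp2, hpj, rfl⟩)))
    · rw [SetLike.mem_coe, Ideal.mem_iInf]
      intro j
      rw [Ideal.mem_iInf]
      intro hj
      by_cases hpj : p = j
      · have hjq : j.val < q.val := hpj ▸ hpq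
        exact Ideal.mul_mem_left _ _
          (Ideal.subset_span (Or.inr ⟨q, m, hjq, hq2, hm, rfl⟩))
      · exact Ideal.mul_mem_right _ _
          (Ideal.subset_span (Or.inl (Or.inl ⟨p, hp1, by omega, hpj, rfl⟩)))
  · intro f hf
    rw [Ideal.mem_iInf] at hf
    apply A'_le k n k0 e1 e2
    rw [MvPolynomial.mem_ideal_span_monomial_image]
    intro d hd
    apply comb n k0 e1 e2 hk hn he he2 d
    intro j hj1 hj2
    have hfj := hf j
    rw [Ideal.mem_iInf] at hfj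
    have hB' := Bj_le k n k0 e1 e2 j (hfj ⟨hj1, hj2⟩)
    rw [MvPolynomial.mem_ideal_span_monomial_image] at hB'
    exact hB' d hd

end Groth.Agent.S13455
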