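import Groth.Statements.S13456
import Mathlib
import Groth.Agent.Lib.Helper28.GrFlat4

set_option autoImplicit false
universe u
open W4c1hilbpn

namespace Groth.Agent.S13456

open TensorProduct Groth.Agent.Lib.Helper45 Groth.Agent.Lib.Helper45.Fitting Groth.Agent.Lib.Helper28.GrFlat in
theorem main (A : Type u) [CommRing A] [IsNoetherianRing A]
    (R : Type u) [CommRing R] [Algebra A R] [Algebra.FiniteType A R]
    (M : Type u) [AddCommGroup M] [Module A M] [Module R M] [IsScalarTower A R M] [Module.Finite R M]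
    (ℳ : ℤ → Submodule A M) [DirectSum.Decomposition ℳ]
    (hfg : ∀ v : ℤ, Module.Finite A ↥(ℳ v)) (h : ℤ → ℕ) :
    ∃ a b : Ideal A, ∀ (B : Type u) [CommRing B] [Algebra A B],
      ((∀ v : ℤ, Module.Finite B (B ⊗[A] ↥(ℳ v)) ∧ Module.Projective B (B ⊗[A] ↥(ℳ v)) ∧
          ∀ p : PrimeSpectrum B, Module.rankAtStalk (B ⊗[A] ↥(ℳ v)) p = h v) ↔
        (Ideal.map (algebraMap A B) a = ⊥ ∧ Ideal.map (algebraMap A B) b = ⊤)) := by
  classical
  set a : Ideal A := ⨆ v : ℤ, ⨆ k : Fin (h v), Fitt.ideal A (ℳ v) k with ha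
  set C : Set (PrimeSpectrum A) :=
    {p : PrimeSpectrum A | a ≤ p.asIdeal ∧ ∃ v, Fitt.ideal A (ℳ v) (h v) ≤ p.asIdeal} with hC
  have hCcl : IsClosed C := by
    refine isClosed_bad a (fun v => Fitt.ideal A (ℳ v) (h v)) ?_
    intro J hJ
    obtain ⟨f, hfJ, hf⟩ := gf_graded (R := R) ℳ hfg J
    exact ⟨f, hfJ, fun p hp hJp hfp v => hf p hJp hfp v (h v)⟩
  have hb : ∀ p : PrimeSpectrum A, PrimeSpectrum.vanishingIdeal C ≤ p.asIdeal ↔ p ∈ C := by
    intro p
    have h1 : PrimeSpectrum.zeroLocus (PrimeSpectrum.vanishingIdeal C : Set A) = C := by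
      rw [PrimeSpectrum.zeroLocus_vanishingIdeal_eq_closure, hCcl.closure_eq]
    conv_rhs => rw [← h1]
    rfl
  have hale : ∀ (v : ℤ) (k : ℕ), k < h v → Fitt.ideal A (ℳ v) k ≤ a := by
    intro v k hk
    exact le_trans (le_iSup (fun k : Fin (h v) => Fitt.ideal A (ℳ v) k) ⟨k, hk⟩)
      (le_iSup (fun v : ℤ => ⨆ k : Fin (h v), Fitt.ideal A (ℳ v) k) v)
  refine ⟨a, PrimeSpectrum.vanishingIdeal C, fun B _ _ => ?_⟩
  have hfinB : ∀ v, Module.Finite B (B ⊗[A] ↥(ℳ v)) := fun v => by
    haveI := hfg v
    infer_instance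
  have hper : ∀ v, (Module.Finite B (B ⊗[A] ↥(ℳ v)) ∧ Module.Projective B (B ⊗[A] ↥(ℳ v)) ∧
        ∀ p : PrimeSpectrum B, Module.rankAtStalk (B ⊗[A] ↥(ℳ v)) p = h v) ↔
      ((∀ k, k < h v → (Fitt.ideal A (ℳ v) k).map (algebraMap A B) = ⊥) ∧
        (∀ k, h v ≤ k → (Fitt.ideal A (ℳ v) k).map (algebraMap A B) = ⊤)) := by
    intro v
    haveI := hfg v
    haveI := hfinB v
    have := locfree_iff (B := B) (B ⊗[A] ↥(ℳ v)) (h v)
    simp only [fitt_baseChange] at this
    rw [← this]
    exact ⟨fun h3 => h3.2, fun h3 => ⟨hfinB v, h3⟩⟩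
  -- primes of `B` containing a proper ideal
  have hprime : ∀ K : Ideal B, K ≠ ⊤ → ∃ q : PrimeSpectrum B, K ≤ q.asIdeal := by
    intro K hK
    obtain ⟨m, hm, hle⟩ := Ideal.exists_le_maximal K hK
    exact ⟨⟨m, hm.isPrime⟩, hle⟩
  constructor
  · intro hall
    constructor
    · rw [ha, Ideal.map_iSup]
      simp only [Ideal.map_iSup]
      rw [eq_bot_iff]
      refine iSup_le fun v => iSup_le fun k => ?_
      rw [((hper v).mp (hall v)).1 k k.2]
    · by_contra hne
      obtain ⟨q, hq⟩ := hprime _ hne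
      rw [Ideal.map_le_iff_le_comap] at hq
      have hmem : q.comap (algebraMap A B) ∈ C := (hb (q.comap (algebraMap A B))).mp hq
      obtain ⟨v, hv⟩ := hmem.2
      have hv' : (Fitt.ideal A (ℳ v) (h v)).map (algebraMap A B) ≤ q.asIdeal :=
        Ideal.map_le_iff_le_comap.mpr hv
      rw [((hper v).mp (hall v)).2 (h v) le_rfl] at hv'
      exact q.2.ne_top (top_le_iff.mp hv')
  · rintro ⟨h1, h2⟩ v
    rw [hper v]
    constructor
    · intro k hk
      rw [eq_bot_iff, ← h1]
      exact Ideal.map_mono (hale v k hk)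
    · intro k hk
      haveI := hfg v
      have hmono : Fitt.ideal A (ℳ v) (h v) ≤ Fitt.ideal A (ℳ v) k := fitt_mono hk
      suffices hs : (Fitt.ideal A (ℳ v) (h v)).map (algebraMap A B) = ⊤ by
        rw [eq_top_iff, ← hs]; exact Ideal.map_mono hmono
      by_contra hne
      obtain ⟨q, hq⟩ := hprime _ hne
      rw [Ideal.map_le_iff_le_comap] at hq
      have haq : a ≤ (q.comap (algebraMap A B)).asIdeal := by
        have : a.map (algebraMap A B) ≤ q.asIdeal := by rw [h1]; exact bot_le
        exact Ideal.map_le_iff_le_comap.mp this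
      have hmem : q.comap (algebraMap A B) ∈ C := ⟨haq, v, hq⟩
      have hbq := (hb _).mpr hmem
      have : (PrimeSpectrum.vanishingIdeal C).map (algebraMap A B) ≤ q.asIdeal :=
        Ideal.map_le_iff_le_comap.mpr hbq
      rw [h2] at this
      exact q.2.ne_top (top_le_iff.mp this)

open TensorProduct in
/-- Let A be a Noetherian ring, R a finitely generated graded A-algebra (graded by the integers), M a
finitely generated graded R-module and h a function from the integers to the natural numbers. Then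
the functor sending an A-algebra B to the condition 'every graded piece of M ⊗_A B is a finitely
generated locally free B-module of rank h(v)' is represented by a locally closed subscheme of Spec
A: there are ideals a and b of A such that, for every A-algebra B, all B ⊗_A M_v are finitely
generated projective of constant rank h(v) if and only if a generates the zero ideal of B and b
generates the unit ideal of B. (The graded pieces M_v are assumed finitely generated over A, as they
are when R is positively graded with degree-zero part finite over A; the published setup allows any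
finitely generated graded algebra, where graded pieces need not be finitely generated over A. Test
algebras B range over one universe.) -/
theorem result
    (A : Type u) [CommRing A] [IsNoetherianRing A]
    (R : Type u) [CommRing R] [Algebra A R] [Algebra.FiniteType A R]
    (𝒜 : ℤ → Submodule A R) [GradedAlgebra 𝒜]
    (M : Type u) [AddCommGroup M] [Module A M] [Module R M] [IsScalarTower A R M] [Module.Finite R M]
    (ℳ : ℤ → Submodule A M) [DirectSum.Decomposition ℳ] [SetLike.GradedSMul 𝒜 ℳ]
    (hfg : ∀ v : ℤ, Module.Finite A ↥(ℳ v)) (h : ℤ → ℕ) :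
    ∃ a b : Ideal A, ∀ (B : Type u) [CommRing B] [Algebra A B],
      ((∀ v : ℤ, Module.Finite B (B ⊗[A] ↥(ℳ v)) ∧ Module.Projective B (B ⊗[A] ↥(ℳ v)) ∧
          ∀ p : PrimeSpectrum B, Module.rankAtStalk (B ⊗[A] ↥(ℳ v)) p = h v) ↔
        (Ideal.map (algebraMap A B) a = ⊥ ∧ Ideal.map (algebraMap A B) b = ⊤)) := by
  exact main A R M ℳ hfg h

end Groth.Agent.S13456
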