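import Groth.Statements.S13458
import Groth.Agent.Lib.QCoh.Helper50_DiffCompatSections
import Groth.Agent.Lib.QCoh.Helper50_KaehlerAlg4
import Groth.Agent.Lib.QCoh.Helper50_GenericEval
import Groth.Agent.Lib.QCoh.Helper50_AffineDict

set_option autoImplicit false
universe u
open CategoryTheory CategoryTheory.Limits AlgebraicGeometry TopologicalSpace
open SmVar

namespace Groth.Agent.S13458

/-- Let k be a field, X and Y integral schemes each smooth over Spec k and of the same dimension, and φ
: X → Y a morphism over k which is dominant and separable: the residue field of X at its generic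
point is a separable algebraic extension of the residue field of Y at the image point (the function
field of Y, as φ is dominant). Let Ω_Y and Ω_X be sheaves of differentials of Y and of X over k,
given as universal derivations, and c : φ^*Ω_Y → Ω_X the compatible map (it sends the pullback of
d_Y s to d_X(φ^♯ s)). Then c is a monomorphism of O_X-modules, so the relative cotangent sequence of
φ is exact on the left as well. (The injectivity is what is stated here; the identification of the
cokernel with Ω_{X/Y} is the general cotangent sequence.) -/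
theorem result (k : Type u) [Field k] {X Y : Scheme.{u}}
    (pX : X ⟶ Spec (CommRingCat.of k)) (pY : Y ⟶ Spec (CommRingCat.of k)) (φ : X ⟶ Y) (w : φ ≫ pY = pX)
    [IsIntegral X] [IsIntegral Y] [Smooth pX] [Smooth pY]
    (hdim : topologicalKrullDim X = topologicalKrullDim Y) (hdom : DenseRange φ.base)
    (hsep : letI := (φ.residueFieldMap (genericPoint X)).hom.toAlgebra
      Algebra.IsSeparable (Y.residueField (φ.base (genericPoint X))) (X.residueField (genericPoint X)))
    (ΩY : Y.Modules) (dY : OmegaSh.Der pY ΩY) (hY : OmegaSh.IsUniversal dY)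
    (ΩX : X.Modules) (dX : OmegaSh.Der pX ΩX) (hX : OmegaSh.IsUniversal dX)
    (c : (Scheme.Modules.pullback φ).obj ΩY ⟶ ΩX) (hc : OmegaSh.IsDiffCompat φ dY dX c) :
    Mono c := by
  have hq : ΩY.IsQuasicoherent :=
    Groth.Agent.Lib.QCoh.ReceptacleLocal.isQuasicoherent_of_isUniversal dY hY
  let Idx := {p : X.Opens × Y.Opens × (Spec (CommRingCat.of k)).Opens // IsAffineOpen p.1 ∧
    IsAffineOpen p.2.1 ∧ IsAffineOpen p.2.2 ∧ p.1 ≤ φ ⁻¹ᵁ p.2.1 ∧ p.2.1 ≤ pY ⁻¹ᵁ p.2.2 ∧
    (p.1 : Set X).Nonempty}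
  refine Groth.Agent.Lib.QCoh.mono_of_injective_of_isBasis (fun i : Idx => i.1.1) ?_ c fun i => ?_
  · rw [TopologicalSpace.Opens.isBasis_iff_nbhd]
    intro N x hx
    obtain ⟨V, hV, hxV⟩ := Groth.Agent.Lib.QCoh.ReceptacleLocal.exists_affine_nbhd (pY (φ x))
    obtain ⟨_, ⟨U, hU : IsAffineOpen U, rfl⟩, hxU, hUV⟩ :=
      (Y.isBasis_affineOpens).exists_subset_of_mem_open
        (show φ x ∈ ((pY ⁻¹ᵁ V : Y.Opens) : Set Y) from hxV) (pY ⁻¹ᵁ V).2
    obtain ⟨_, ⟨W, hW : IsAffineOpen W, rfl⟩, hxW, hWN⟩ :=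
      (X.isBasis_affineOpens).exists_subset_of_mem_open
        (show x ∈ ((N ⊓ φ ⁻¹ᵁ U : X.Opens) : Set X) from ⟨hx, hxU⟩) (N ⊓ φ ⁻¹ᵁ U).2
    exact ⟨W, ⟨⟨(W, U, V), hW, hU, hV, fun y hy => (hWN hy).2, hUV, ⟨x, hxW⟩⟩, rfl⟩, hxW,
      fun y hy => (hWN hy).1⟩
  · obtain ⟨⟨W, U, V⟩, hW, hU, hV, e, hUV, hne⟩ := i
    subst w
    have hWV : W ≤ (φ ≫ pY) ⁻¹ᵁ V := fun x hx => hUV (e hx)
    have fac : 𝟙 Γ(Spec (CommRingCat.of k), V) ≫ (φ ≫ pY).appLE V W hWV =
        pY.appLE V U hUV ≫ φ.appLE U W e := by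
      rw [Category.id_comp, Scheme.Hom.appLE_comp_appLE]
    have hη : genericPoint X ∈ W := Groth.Agent.Lib.QCoh.GenericEval.genericPoint_mem W hne
    exact Groth.Agent.Lib.QCoh.DiffCompatSections.injective_app_of_injective_algMap φ dY dX c e hUV
      hWV fac hY hX hc hU hW hV hV
      (Groth.Agent.Lib.QCoh.KaehlerAlg.transp_injective_of_generic fac
        (X.residueField (genericPoint X)) (X.evaluation W (genericPoint X) hη).hom
        (Groth.Agent.Lib.QCoh.GenericEval.evaluation_injective W hη)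
        (Groth.Agent.Lib.QCoh.GenericEval.flat_kaehler_of_smooth pY hV hU hUV)
        (Groth.Agent.Lib.QCoh.GenericEval.formallySmooth_comp_evaluation φ hdom hsep hU e hη))

end Groth.Agent.S13458
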