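import Groth.Statements.S13460
import Mathlib
import Groth.Agent.Lib.Helper91.CDivFact6

set_option autoImplicit false
universe u
open CategoryTheory CategoryTheory.Limits AlgebraicGeometry TopologicalSpace
open WDiv

namespace Groth.Agent.S13460
open CategoryTheory AlgebraicGeometry TopologicalSpace
open Groth.Agent.Lib.Helper91.CDivSupp
set_option linter.style.haveILetI false

variable {X : Scheme.{u}} [IsIntegral X] [IsLocallyNoetherian X]

/-- the order at `y`, as a homomorphism on units of the function field -/
noncomputable def ordU (y : X) : (X.functionField)ˣ →* Multiplicative ℤ where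
  toFun u := Multiplicative.ofAdd (Scheme.ord (u : X.functionField) y)
  map_one' := by
    have h := Scheme.ord_mul (x := y) (f := (1 : X.functionField)) (g := 1) one_ne_zero one_ne_zero
    rw [mul_one] at h
    have : Scheme.ord (1 : X.functionField) y = 0 := by omega
    simp [this]
  map_mul' u v := by
    rw [Units.val_mul, Scheme.ord_mul u.ne_zero v.ne_zero, ofAdd_add]

theorem ordU_apply (y : X) (u : (X.functionField)ˣ) :
    Multiplicative.toAdd (ordU y u) = Scheme.ord (u : X.functionField) y := rfl

/-- version of helper91's `ord_algebraMap_eq_one` without normality: the prime is principal -/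
theorem ord_gen_eq_one {U : X.Opens}
    (hU : IsAffineOpen U) [Nonempty U] {x₀ : X} (hx₀U : x₀ ∈ U) (hx₀ : Order.coheight x₀ = 1)
    {a : Γ(X, U)} (ha0 : a ≠ 0)
    (hP : (hU.primeIdealOf ⟨x₀, hx₀U⟩).asIdeal = Ideal.span {a}) :
    Scheme.ord (algebraMap Γ(X, U) X.functionField a) x₀ = 1 := by
  haveI := functionField_isFractionRing_of_isAffineOpen X U hU
  letI az : Algebra Γ(X, U) (X.presheaf.stalk x₀) :=
    TopCat.Presheaf.algebra_section_stalk X.presheaf ⟨x₀, hx₀U⟩
  haveI tz : IsScalarTower Γ(X, U) (X.presheaf.stalk x₀) X.functionField :=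
    functionField_isScalarTower X U ⟨x₀, hx₀U⟩
  haveI lz : IsLocalization.AtPrime (X.presheaf.stalk x₀) (hU.primeIdealOf ⟨x₀, hx₀U⟩).asIdeal :=
    hU.isLocalization_stalk ⟨x₀, hx₀U⟩
  have hm : IsLocalRing.maximalIdeal (X.presheaf.stalk x₀) =
      Ideal.span {algebraMap Γ(X, U) (X.presheaf.stalk x₀) a} := by
    rw [← IsLocalization.AtPrime.map_eq_maximalIdeal (hU.primeIdealOf ⟨x₀, hx₀U⟩).asIdeal
      (X.presheaf.stalk x₀), hP, Ideal.map_span, Set.image_singleton]
  have hne : algebraMap Γ(X, U) X.functionField a ≠ 0 := by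
    rw [Ne, map_eq_zero_iff _ (IsFractionRing.injective Γ(X, U) X.functionField)]
    exact ha0
  have hne' : algebraMap Γ(X, U) (X.presheaf.stalk x₀) a ≠ 0 := by
    intro h
    apply hne
    rw [IsScalarTower.algebraMap_apply Γ(X, U) (X.presheaf.stalk x₀) X.functionField, h, map_zero]
  have hnf : ¬ IsField (X.presheaf.stalk x₀) := by
    rw [IsLocalRing.isField_iff_maximalIdeal_eq, hm, Ideal.span_singleton_eq_bot]
    exact hne'
  haveI : IsDiscreteValuationRing (X.presheaf.stalk x₀) :=
    ((IsDiscreteValuationRing.TFAE (X.presheaf.stalk x₀) hnf).out 0 4).mpr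
      (⟨⟨_, hm⟩⟩ : (IsLocalRing.maximalIdeal (X.presheaf.stalk x₀)).IsPrincipal)
  have hirr : Irreducible (algebraMap Γ(X, U) (X.presheaf.stalk x₀) a) :=
    (IsDiscreteValuationRing.irreducible_iff_uniformizer _).mpr hm
  rw [Scheme.ord_eq_iff hx₀ hne,
    IsScalarTower.algebraMap_apply Γ(X, U) (X.presheaf.stalk x₀) X.functionField]
  show Ring.ordFrac (X.presheaf.stalk x₀) _ = _
  rw [Ring.ordFrac_irreducible hirr]
  rfl


theorem main' (hU : IsAffineOpen (⊤ : X.Opens)) [UniqueFactorizationMonoid Γ(X, ⊤)]
    (D : X → ℤ) (hD : ∀ x, Order.coheight x ≠ 1 → D x = 0)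
    (hfin : {x | D x ≠ 0}.Finite) :
    ∃ f : X.functionField, f ≠ 0 ∧
      ∀ x : X, Order.coheight x = 1 → Scheme.ord f x = D x := by
  classical
  haveI : Nonempty (⊤ : X.Opens) := ⟨⟨genericPoint X, trivial⟩⟩
  haveI := functionField_isFractionRing_of_isAffineOpen X ⊤ hU
  -- generators of the height one primes
  have key : ∀ x : X, Order.coheight x = 1 → ∃ a : Γ(X, ⊤), a ≠ 0 ∧
      (hU.primeIdealOf ⟨x, trivial⟩).asIdeal = Ideal.span {a} := by
    intro x hx
    letI az : Algebra Γ(X, ⊤) (X.presheaf.stalk x) :=
      TopCat.Presheaf.algebra_section_stalk X.presheaf (⟨x, trivial⟩ : (⊤ : X.Opens))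
    haveI lz : IsLocalization.AtPrime (X.presheaf.stalk x) (hU.primeIdealOf ⟨x, trivial⟩).asIdeal :=
      hU.isLocalization_stalk ⟨x, trivial⟩
    have hht : (hU.primeIdealOf ⟨x, trivial⟩).asIdeal.height = 1 := by
      have h1 := ringKrullDim_stalk_eq_coheight x
      rw [IsLocalization.AtPrime.ringKrullDim_eq_height (hU.primeIdealOf ⟨x, trivial⟩).asIdeal
        (X.presheaf.stalk x), hx] at h1
      exact_mod_cast h1
    obtain ⟨π, hπ⟩ := UniqueFactorizationMonoid.isPrincipal_of_height_eq_one hht
    refine ⟨π, ?_, hπ⟩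
    rintro rfl
    rw [hπ] at hht
    simp at hht
  choose a ha0 haP using key
  let a' : X → Γ(X, ⊤) := fun x => if h : Order.coheight x = 1 then a x h else 1
  have ha'0 : ∀ x, algebraMap Γ(X, ⊤) X.functionField (a' x) ≠ 0 := by
    intro x
    rw [Ne, map_eq_zero_iff _ (IsFractionRing.injective Γ(X, ⊤) X.functionField)]
    by_cases h : Order.coheight x = 1
    · simp only [a', dif_pos h]; exact ha0 x h
    · simp only [a', dif_neg h]; exact one_ne_zero
  let u : X → (X.functionField)ˣ := fun x => Units.mk0 _ (ha'0 x)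
  let F : (X.functionField)ˣ := ∏ x ∈ hfin.toFinset, u x ^ D x
  refine ⟨(F : X.functionField), F.ne_zero, ?_⟩
  intro y hy
  rw [← ordU_apply, map_prod, toAdd_prod]
  -- each term
  have hterm : ∀ x ∈ hfin.toFinset, Multiplicative.toAdd (ordU y (u x ^ D x)) =
      if x = y then D y else 0 := by
    intro x hx
    have hx1 : Order.coheight x = 1 := by
      by_contra h
      exact (hfin.mem_toFinset.mp hx) (hD x h)
    rw [map_zpow, toAdd_zpow, ordU_apply]
    change D x • Scheme.ord (algebraMap Γ(X, ⊤) X.functionField (a' x)) y = _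
    have hax : a' x = a x hx1 := by simp only [a', dif_pos hx1]
    rw [hax]
    by_cases hxy : x = y
    · subst hxy
      rw [if_pos rfl, ord_gen_eq_one hU trivial hx1 (ha0 x hx1) (haP x hx1)]
      simp
    · rw [if_neg hxy]
      have hnot : a x hx1 ∉ (hU.primeIdealOf ⟨y, trivial⟩).asIdeal := by
        intro hmem
        apply hxy
        -- P_x ≤ P_y, both height one
        have hle : (hU.primeIdealOf ⟨x, trivial⟩).asIdeal ≤ (hU.primeIdealOf ⟨y, trivial⟩).asIdeal := by
          rw [haP x hx1, Ideal.span_singleton_le_iff_mem]; exact hmem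
        have hspec : x ⤳ y := (specializes_iff_primeIdealOf_le hU trivial trivial).mpr hle
        by_contra hne
        have hlt : y < x := ⟨hspec, fun h => hne (h.antisymm hspec).eq.symm⟩
        have h1 := Order.coheight_strictAnti hlt (by rw [hx1]; exact ENat.one_lt_top)
        rw [hx1, hy] at h1
        exact lt_irrefl _ h1
      rw [ord_algebraMap_eq_zero_of_notMem hU trivial hnot]
      simp
  rw [Finset.sum_congr rfl hterm, Finset.sum_ite_eq']
  split_ifs with h
  · rfl
  · have : D y = 0 := by
      by_contra h'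
      exact h (hfin.mem_toFinset.mpr h')
    rw [this]

theorem main (A : Type u) [CommRing A] [IsDomain A] [IsNoetherianRing A]
    [UniqueFactorizationMonoid A]
    (D : ↥(Spec (CommRingCat.of A)) → ℤ) (hD : ∀ x, Order.coheight x ≠ 1 → D x = 0)
    (hfin : {x | D x ≠ 0}.Finite) :
    ∃ f : ↑(Spec (CommRingCat.of A)).functionField, f ≠ 0 ∧
      ∀ x : ↥(Spec (CommRingCat.of A)), Order.coheight x = 1 → Scheme.ord f x = D x := by
  let e : Γ(Spec (CommRingCat.of A), ⊤) ≃+* A :=
    (Scheme.ΓSpecIso (CommRingCat.of A)).commRingCatIsoToRingEquiv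
  haveI : UniqueFactorizationMonoid Γ(Spec (CommRingCat.of A), ⊤) :=
    e.toMulEquiv.symm.uniqueFactorizationMonoid inferInstance
  exact main' (isAffineOpen_top _) D hD hfin


end Groth.Agent.S13460

namespace Groth.Agent.S13460

/-- Let A be a Noetherian integral domain which is a unique factorization domain, and X = Spec A. Then
the divisor class group of X vanishes: every Weil divisor D on X, an integer-valued function on the
points of X with finite support inside the points of coheight 1 (codimension one), is the divisor of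
a nonzero rational function f on X, i.e. the order of vanishing of f at every point x of coheight 1
is D(x). (The published statement assumes only that A is a unique factorization domain; this row
also assumes A Noetherian.) -/
theorem result (A : Type u) [CommRing A] [IsDomain A] [IsNoetherianRing A]
    [UniqueFactorizationMonoid A]
    (D : ↥(Spec (CommRingCat.of A)) → ℤ) (hD : ∀ x, Order.coheight x ≠ 1 → D x = 0) (hfin : {x | D x ≠ 0}.Finite) :
    ∃ f : ↑(Spec (CommRingCat.of A)).functionField, f ≠ 0 ∧
      ∀ x : ↥(Spec (CommRingCat.of A)), Order.coheight x = 1 → Scheme.ord f x = D x := by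

  exact Groth.Agent.S13460.main A D hD hfin

end Groth.Agent.S13460
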