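import Groth.Statements.S1347
-- import your own Groth.Agent.* helpers here
import Mathlib
import Groth.Agent.S1346
import Groth.Agent.Lib.Helper67.FlatAtBC

set_option autoImplicit false
universe u
open FlatMor

namespace Groth.Agent.S1347

open CategoryTheory CategoryTheory.Limits AlgebraicGeometry
open FlatMor

lemma flat_stalkMap_congr {X Y : Scheme.{u}} (u v : X ⟶ Y) (e : u = v) (x : X)
    (h : (v.stalkMap x).hom.Flat) : (u.stalkMap x).hom.Flat := by
  subst e; exact h

/-- if `f' ≫ g = g' ≫ f`, `g` flat at `f' x'`, `f'` flat at `x'` and `g'` flat at `x'`, then `f` is flat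
at `g' x'`. -/
lemma flat_of_square {X Y X' Y' : Scheme.{u}} (f : X ⟶ Y) (f' : X' ⟶ Y') (g' : X' ⟶ X) (g : Y' ⟶ Y)
    (w : g' ≫ f = f' ≫ g) (x' : X') (hg : (g.stalkMap (f' x')).hom.Flat)
    (hf' : (f'.stalkMap x').hom.Flat) (hg' : (g'.stalkMap x').hom.Flat) :
    (f.stalkMap (g' x')).hom.Flat := by
  have h1a : (g.stalkMap (f' x') ≫ f'.stalkMap x').hom.Flat := by
    rw [CommRingCat.hom_comp]
    exact RingHom.Flat.comp hg hf'
  have h1 : ((f' ≫ g).stalkMap x').hom.Flat := by
    have e : (f' ≫ g).stalkMap x' = g.stalkMap (f' x') ≫ f'.stalkMap x' :=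
      Scheme.Hom.stalkMap_comp ..
    rw [e]
    exact h1a
  have h2 : ((g' ≫ f).stalkMap x').hom.Flat := flat_stalkMap_congr _ _ w x' h1
  have e2 : (g' ≫ f).stalkMap x' = f.stalkMap (g' x') ≫ g'.stalkMap x' :=
    Scheme.Hom.stalkMap_comp ..
  have h3a : (f.stalkMap (g' x') ≫ g'.stalkMap x').hom.Flat := by
    have := h2
    rwa [e2] at this
  have h3 : ((g'.stalkMap x').hom.comp (f.stalkMap (g' x')).hom).Flat := by
    rw [← CommRingCat.hom_comp]
    exact h3a
  letI algAB : Algebra (Y.presheaf.stalk (f (g' x'))) (X.presheaf.stalk (g' x')) :=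
    (f.stalkMap (g' x')).hom.toAlgebra
  letI algBC : Algebra (X.presheaf.stalk (g' x')) (X'.presheaf.stalk x') :=
    (g'.stalkMap x').hom.toAlgebra
  letI algAC : Algebra (Y.presheaf.stalk (f (g' x'))) (X'.presheaf.stalk x') :=
    ((g'.stalkMap x').hom.comp (f.stalkMap (g' x')).hom).toAlgebra
  haveI : IsScalarTower (Y.presheaf.stalk (f (g' x'))) (X.presheaf.stalk (g' x'))
      (X'.presheaf.stalk x') := IsScalarTower.of_algebraMap_eq' rfl
  haveI : Module.Flat (X.presheaf.stalk (g' x')) (X'.presheaf.stalk x') := hg'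
  haveI : IsLocalHom (algebraMap (X.presheaf.stalk (g' x')) (X'.presheaf.stalk x')) :=
    inferInstanceAs (IsLocalHom (g'.stalkMap x').hom)
  haveI : Module.FaithfullyFlat (X.presheaf.stalk (g' x')) (X'.presheaf.stalk x') :=
    Module.FaithfullyFlat.of_flat_of_isLocalHom
  haveI : Module.Flat (Y.presheaf.stalk (f (g' x'))) (X'.presheaf.stalk x') := h3
  exact Groth.Agent.Lib.Helper67.FlatAtBC.flat_of_faithfullyFlat_of_flat
    (Y.presheaf.stalk (f (g' x'))) (X.presheaf.stalk (g' x')) (X'.presheaf.stalk x')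

open AlgebraicGeometry CategoryTheory Limits in
/-- Let f have locally Noetherian fibres and let f' be its base change along a morphism g locally of
finite type. Given a point x' at which f' is Cohen–Macaulay, with g flat at f'(x'), the morphism f
is Cohen–Macaulay at the image g'(x') of x'. -/
theorem result {X Y X' Y' : Scheme.{u}} (f : X ⟶ Y) (hN : ∀ y : Y, IsLocallyNoetherian (f.fiber y))
    (f' : X' ⟶ Y') (g' : X' ⟶ X) (g : Y' ⟶ Y) [LocallyOfFiniteType g] (hc : IsPullback g' f' f g) (x' : X')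
    (hflat : (g.stalkMap (f' x')).hom.Flat) (h : MoreMor.IsCMAt f' x') : MoreMor.IsCMAt f (g' x') := by
  have hg' : (g'.stalkMap x').hom.Flat :=
    Groth.Agent.Lib.Helper67.FlatAtBC.flat_stalkMap_of_isPullback hc x' hflat
  have hfx : (f.stalkMap (g' x')).hom.Flat := flat_of_square f f' g' g hc.w x' hflat h.1 hg'
  exact Groth.Agent.S1346.result f hN f' g' g hc x' hfx h

end Groth.Agent.S1347
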