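import Groth.Statements.S1348
import Groth.Agent.Lib.Helper35.RegSlice4
import Mathlib.AlgebraicGeometry.Morphisms.Flat
import Mathlib.AlgebraicGeometry.Morphisms.FinitePresentation

set_option autoImplicit false
universe u
open FlatMor

namespace Groth.Agent.S1348

section Helpers
set_option linter.style.haveILetI false
set_option maxHeartbeats 400000
open AlgebraicGeometry CategoryTheory Limits IsLocalRing TensorProduct
open Groth.Agent.Lib.Helper35

set_option backward.defeqAttrib.useBackward true in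
set_option backward.isDefEq.respectTransparency false in
theorem mem_basicOpen_of_not_mem_primeIdealOf {Y : Scheme.{u}} {U : Y.Opens} (hU : IsAffineOpen U)
    (y : Y) (hy : y ∈ U) (a : Γ(Y, U)) (h : a ∉ (hU.primeIdealOf ⟨y, hy⟩).asIdeal) :
    y ∈ Y.basicOpen a := by
  rwa [← PrimeSpectrum.mem_basicOpen, IsAffineOpen.primeIdealOf, ← hU.fromSpec_preimage_basicOpen,
    Scheme.Hom.mem_preimage, ← Scheme.Hom.comp_apply, IsAffineOpen.isoSpec_hom,
    IsAffineOpen.toSpecΓ_fromSpec] at h

theorem aux {X S : Scheme.{u}} (f : X ⟶ S) [LocallyOfFinitePresentation f] (x : X)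
    (hflat : (f.stalkMap x).hom.Flat) (h : X.presheaf.stalk x)
    (hreg : Ideal.Quotient.mk (Ideal.map (f.stalkMap x).hom (IsLocalRing.maximalIdeal (S.presheaf.stalk (f x)))) h ∈
      nonZeroDivisors (X.presheaf.stalk x ⧸ Ideal.map (f.stalkMap x).hom (IsLocalRing.maximalIdeal (S.presheaf.stalk (f x))))) :
    ∃ (U : X.Opens) (hU : IsAffineOpen U) (hx : x ∈ U) (h' : Γ(X, U)), X.presheaf.germ U x hx h' = h ∧ h' ∈ nonZeroDivisors Γ(X, U) ∧
      Flat (Spec.map (CommRingCat.ofHom (Ideal.Quotient.mk (Ideal.span {h'}))) ≫ hU.fromSpec ≫ f) ∧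
      LocallyOfFinitePresentation (Spec.map (CommRingCat.ofHom (Ideal.Quotient.mk (Ideal.span {h'}))) ≫ hU.fromSpec ≫ f) := by
  obtain ⟨W, hxW, s, hs⟩ := X.presheaf.exists_germ_eq (x := x) h
  -- affine opens
  obtain ⟨_, ⟨V, hV, rfl⟩, hxV, -⟩ := S.isBasis_affineOpens.exists_subset_of_mem_open
    (Set.mem_univ (f x)) isOpen_univ
  obtain ⟨V, rfl⟩ : ∃ V' : S.Opens, V' = V := ⟨V, rfl⟩
  replace hV : IsAffineOpen V := hV
  obtain ⟨_, ⟨U, hU, rfl⟩, hxU, hUle⟩ := X.isBasis_affineOpens.exists_subset_of_mem_open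
    (show x ∈ W ⊓ f ⁻¹ᵁ V from ⟨hxW, hxV⟩) (W ⊓ f ⁻¹ᵁ V).2
  obtain ⟨U, rfl⟩ : ∃ U' : X.Opens, U' = U := ⟨U, rfl⟩
  replace hU : IsAffineOpen U := hU
  have hUW : U ≤ W := fun p hp => (hUle hp).1
  have hUV : U ≤ f ⁻¹ᵁ V := fun p hp => (hUle hp).2
  obtain ⟨g, hg⟩ : ∃ g : Γ(X, U), g = X.presheaf.map (homOfLE hUW).op s := ⟨_, rfl⟩
  have hgh : X.presheaf.germ U x hxU g = h := by
    rw [hg, ← hs]
    exact X.presheaf.germ_res_apply (homOfLE hUW) x hxU s
  -- ring-level setup
  have hfp := f.finitePresentation_appLE hV hU hUV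
  letI algAB : Algebra Γ(S, V) Γ(X, U) := (f.appLE V U hUV).hom.toAlgebra
  haveI : Algebra.FinitePresentation Γ(S, V) Γ(X, U) := hfp
  let p := (hV.primeIdealOf ⟨f x, hUV hxU⟩).asIdeal
  let q := (hU.primeIdealOf ⟨x, hxU⟩).asIdeal
  haveI : q.LiesOver p :=
    ⟨congr($(IsAffineOpen.comap_primeIdealOf_appLE V hV U hU hUV hxU).1).symm⟩
  letI := S.presheaf.algebra_section_stalk ⟨f x, hUV hxU⟩
  haveI := hV.isLocalization_stalk ⟨f x, hUV hxU⟩
  letI := X.presheaf.algebra_section_stalk ⟨x, hxU⟩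
  haveI := hU.isLocalization_stalk ⟨x, hxU⟩
  have hσ : (f.stalkMap x).hom.comp (algebraMap Γ(S, V) (S.presheaf.stalk (f x))) =
      (algebraMap Γ(X, U) (X.presheaf.stalk x)).comp (algebraMap Γ(S, V) Γ(X, U)) := by
    ext a
    simp only [RingHom.algebraMap_toAlgebra, Scheme.Hom.germ_stalkMap_apply, Scheme.Hom.appLE,
      homOfLE_leOfHom, CommRingCat.hom_comp, RingHom.coe_comp, Function.comp_apply,
      X.presheaf.germ_res_apply]
  have hreg' : Ideal.Quotient.mk ((IsLocalRing.maximalIdeal (S.presheaf.stalk (f x))).map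
      (f.stalkMap x).hom) (algebraMap Γ(X, U) (X.presheaf.stalk x) g) ∈
      nonZeroDivisors (X.presheaf.stalk x ⧸ (IsLocalRing.maximalIdeal (S.presheaf.stalk (f x))).map
      (f.stalkMap x).hom) := by
    have : algebraMap Γ(X, U) (X.presheaf.stalk x) g = h := hgh
    rw [this]
    exact hreg
  obtain ⟨w, hwq, H⟩ := RegSlice4.exists_slice_stalk p q (S.presheaf.stalk (f x))
    (X.presheaf.stalk x) (f.stalkMap x).hom hσ hflat g hreg'
  haveI := hU.isLocalization_basicOpen w
  have hxU' : x ∈ X.basicOpen w := mem_basicOpen_of_not_mem_primeIdealOf hU x hxU w hwq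
  have hUV' : X.basicOpen w ≤ f ⁻¹ᵁ V := (X.basicOpen_le w).trans hUV
  letI algAB' : Algebra Γ(S, V) Γ(X, X.basicOpen w) :=
    (f.appLE V (X.basicOpen w) hUV').hom.toAlgebra
  have hcomp : (algebraMap Γ(X, U) Γ(X, X.basicOpen w)).comp (algebraMap Γ(S, V) Γ(X, U)) =
      (f.appLE V (X.basicOpen w) hUV').hom := by
    rw [RingHom.algebraMap_toAlgebra, RingHom.algebraMap_toAlgebra, ← CommRingCat.hom_comp,
      Scheme.Hom.appLE_map]
  haveI : IsScalarTower Γ(S, V) Γ(X, U) Γ(X, X.basicOpen w) :=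
    IsScalarTower.of_algebraMap_eq (fun a => (congr($hcomp a)).symm)
  obtain ⟨hnzd, hfl⟩ := H Γ(X, X.basicOpen w)
  refine ⟨X.basicOpen w, hU.basicOpen w, hxU',
    algebraMap Γ(X, U) Γ(X, X.basicOpen w) g, ?_, hnzd, ?_, ?_⟩
  · rw [← hgh]
    exact X.presheaf.germ_res_apply (homOfLE (X.basicOpen_le w)) x hxU' g
  · rw [← IsAffineOpen.SpecMap_appLE_fromSpec f hV (hU.basicOpen w) hUV', ← Category.assoc,
      ← Spec.map_comp]
    haveI : Flat (Spec.map (f.appLE V (X.basicOpen w) hUV' ≫
        CommRingCat.ofHom (Ideal.Quotient.mk (Ideal.span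
          {algebraMap Γ(X, U) Γ(X, X.basicOpen w) g})))) := by
      rw [HasRingHomProperty.Spec_iff (P := @Flat), CommRingCat.hom_comp]
      have h1 : (CommRingCat.ofHom (Ideal.Quotient.mk (Ideal.span
          {algebraMap Γ(X, U) Γ(X, X.basicOpen w) g}))).hom.comp
          (f.appLE V (X.basicOpen w) hUV').hom =
          algebraMap Γ(S, V) (Γ(X, X.basicOpen w) ⧸ Ideal.span
            {algebraMap Γ(X, U) Γ(X, X.basicOpen w) g}) := rfl
      rw [h1, RingHom.flat_algebraMap_iff]
      exact hfl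
    infer_instance
  · rw [← IsAffineOpen.SpecMap_appLE_fromSpec f hV (hU.basicOpen w) hUV', ← Category.assoc,
      ← Spec.map_comp]
    haveI : LocallyOfFinitePresentation (Spec.map (f.appLE V (X.basicOpen w) hUV' ≫
        CommRingCat.ofHom (Ideal.Quotient.mk (Ideal.span
          {algebraMap Γ(X, U) Γ(X, X.basicOpen w) g})))) := by
      rw [HasRingHomProperty.Spec_iff (P := @LocallyOfFinitePresentation), CommRingCat.hom_comp]
      refine RingHom.FinitePresentation.comp ?_
        (f.finitePresentation_appLE hV (hU.basicOpen w) hUV')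
      refine RingHom.FinitePresentation.of_surjective _ Ideal.Quotient.mk_surjective ?_
      rw [CommRingCat.hom_ofHom, Ideal.mk_ker]
      exact Submodule.fg_span_singleton _
    infer_instance

end Helpers

open AlgebraicGeometry CategoryTheory Limits in
/-- Let f be locally of finite presentation and flat at a point x with image s, and let h be an element
of the maximal ideal of the local ring at x whose image in the local ring of the fibre (the local
ring at x modulo the ideal generated by the maximal ideal at s) is a nonzerodivisor. Then there is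
an affine open neighbourhood U of x and a nonzerodivisor of its coordinate ring with germ h at x (so
its zero locus is an effective Cartier divisor of U through x) whose zero scheme is flat and locally
of finite presentation over the base. -/
theorem result {X S : Scheme.{u}} (f : X ⟶ S) [LocallyOfFinitePresentation f] (x : X)
    (hflat : (f.stalkMap x).hom.Flat) (h : X.presheaf.stalk x) (hm : h ∈ IsLocalRing.maximalIdeal (X.presheaf.stalk x))
    (hreg : Ideal.Quotient.mk (Ideal.map (f.stalkMap x).hom (IsLocalRing.maximalIdeal (S.presheaf.stalk (f x)))) h ∈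
      nonZeroDivisors (X.presheaf.stalk x ⧸ Ideal.map (f.stalkMap x).hom (IsLocalRing.maximalIdeal (S.presheaf.stalk (f x))))) :
    ∃ (U : X.Opens) (hU : IsAffineOpen U) (hx : x ∈ U) (h' : Γ(X, U)), X.presheaf.germ U x hx h' = h ∧ h' ∈ nonZeroDivisors Γ(X, U) ∧
      Flat (Spec.map (CommRingCat.ofHom (Ideal.Quotient.mk (Ideal.span {h'}))) ≫ hU.fromSpec ≫ f) ∧
      LocallyOfFinitePresentation (Spec.map (CommRingCat.ofHom (Ideal.Quotient.mk (Ideal.span {h'}))) ≫ hU.fromSpec ≫ f) := by
  exact aux f x hflat h hreg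

end Groth.Agent.S1348
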