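import Groth.Statements.S2107
import Groth.Agent.Lib.Helper54.MapFibre7
import Groth.Agent.Lib.Helper54.EssLoc1

set_option autoImplicit false
set_option linter.style.haveILetI false
universe u
open CAlg

namespace Groth.Agent.S2107

open Groth.Agent.Lib.Helper54 TensorProduct in
/-- The fibre condition in tensor form. -/
theorem fibre_injective {R S M N : Type u} [CommRing R] [CommRing S] [IsLocalRing R]
    [Algebra R S]
    [AddCommGroup M] [Module S M] [Module R M] [IsScalarTower R S M]
    [AddCommGroup N] [Module S N] [Module R N] [IsScalarTower R S N]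
    (u : M →ₗ[S] N)
    (hu : ∀ x : M, u x ∈ (IsLocalRing.maximalIdeal R).map (algebraMap R S) • (⊤ : Submodule S N) →
      x ∈ (IsLocalRing.maximalIdeal R).map (algebraMap R S) • (⊤ : Submodule S M))
    (z : M ⊗[R] (R ⧸ IsLocalRing.maximalIdeal R))
    (hz : (u.restrictScalars R).rTensor (R ⧸ IsLocalRing.maximalIdeal R) z = 0) : z = 0 := by
  let eM := TensorProduct.tensorQuotEquivQuotSMul M (IsLocalRing.maximalIdeal R)
  let eN := TensorProduct.tensorQuotEquivQuotSMul N (IsLocalRing.maximalIdeal R)
  obtain ⟨x, hx⟩ := Submodule.Quotient.mk_surjective _ (eM z)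
  have hzx : z = x ⊗ₜ[R] 1 := by
    apply eM.injective
    rw [← hx]
    exact (eM.apply_symm_apply (Submodule.Quotient.mk x)).symm
  rw [hzx, LinearMap.rTensor_tmul] at hz
  have h1 : (Submodule.Quotient.mk (u x) :
      N ⧸ (IsLocalRing.maximalIdeal R • ⊤ : Submodule R N)) = 0 := by
    have h2 : eN ((u x) ⊗ₜ[R] (1 : R ⧸ IsLocalRing.maximalIdeal R)) =
        Submodule.Quotient.mk (u x) :=
      eN.apply_symm_apply (Submodule.Quotient.mk (u x))
    rw [← h2]
    exact (congrArg eN hz).trans (map_zero _)
  rw [Submodule.Quotient.mk_eq_zero] at h1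
  have h3 : u x ∈ ((IsLocalRing.maximalIdeal R).map (algebraMap R S) •
      (⊤ : Submodule S N)).restrictScalars R := by
    rw [Ideal.smul_restrictScalars, Submodule.restrictScalars_top]
    exact h1
  have h4 := hu x h3
  have h5 : x ∈ ((IsLocalRing.maximalIdeal R).map (algebraMap R S) •
      (⊤ : Submodule S M)).restrictScalars R := h4
  rw [Ideal.smul_restrictScalars, Submodule.restrictScalars_top] at h5
  rw [hzx]
  have h6 : eM (x ⊗ₜ[R] (1 : R ⧸ IsLocalRing.maximalIdeal R)) = 0 := by
    have h7 : eM (x ⊗ₜ[R] (1 : R ⧸ IsLocalRing.maximalIdeal R)) = Submodule.Quotient.mk x :=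
      eM.apply_symm_apply (Submodule.Quotient.mk x)
    rw [h7, Submodule.Quotient.mk_eq_zero]
    exact h5
  exact (LinearEquiv.map_eq_zero_iff eM).1 h6

/-- Let `R → S` be a local homomorphism of local rings with `S` essentially of finite presentation over
`R`, `M`, `N` finitely presented `S`-modules with `N` flat over `R`, and `u : M → N` an `S`-linear
map which is injective modulo `𝔪_R`. Then `u` is injective and its cokernel is flat over `R`. -/
theorem result {R S M N : Type u} [CommRing R] [CommRing S] [IsLocalRing R]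
    [IsLocalRing S] [Algebra R S] [IsLocalHom (algebraMap R S)] (hS : CAlgX.IsEssFinitePresentation R S)
    [AddCommGroup M] [Module S M] [Module R M] [IsScalarTower R S M] [Module.FinitePresentation S M]
    [AddCommGroup N] [Module S N] [Module R N] [IsScalarTower R S N] [Module.FinitePresentation S N] [Module.Flat R N]
    (u : M →ₗ[S] N)
    (hu : ∀ x : M, u x ∈ (IsLocalRing.maximalIdeal R).map (algebraMap R S) • (⊤ : Submodule S N) →
      x ∈ (IsLocalRing.maximalIdeal R).map (algebraMap R S) • (⊤ : Submodule S M)) :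
    Function.Injective u ∧ Module.Flat R (N ⧸ LinearMap.range u) := by
  obtain ⟨S₀, i1, i2, i3, i4, W, hfp, hloc⟩ := hS
  set q : Ideal S₀ := (IsLocalRing.maximalIdeal S).comap (algebraMap S₀ S) with hq
  haveI hat : IsLocalization.AtPrime S q := Groth.Agent.Lib.Helper54.EssLoc1.isLocalization_atPrime W
  letI modS₀M : Module S₀ M := Module.compHom M (algebraMap S₀ S)
  letI modS₀N : Module S₀ N := Module.compHom N (algebraMap S₀ S)
  haveI tow1M : IsScalarTower S₀ S M := ⟨fun a b n => by
    show (a • b) • n = algebraMap S₀ S a • (b • n)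
    rw [Algebra.smul_def, mul_smul]⟩
  haveI tow1N : IsScalarTower S₀ S N := ⟨fun a b n => by
    show (a • b) • n = algebraMap S₀ S a • (b • n)
    rw [Algebra.smul_def, mul_smul]⟩
  haveI tow2M : IsScalarTower R S₀ M := ⟨fun r a n => by
    show algebraMap S₀ S (r • a) • n = r • (algebraMap S₀ S a • n)
    rw [Algebra.smul_def, map_mul, ← IsScalarTower.algebraMap_apply, mul_smul, algebraMap_smul]⟩
  haveI tow2N : IsScalarTower R S₀ N := ⟨fun r a n => by
    show algebraMap S₀ S (r • a) • n = r • (algebraMap S₀ S a • n)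
    rw [Algebra.smul_def, map_mul, ← IsScalarTower.algebraMap_apply, mul_smul, algebraMap_smul]⟩
  obtain ⟨M₁, j1, j2, hM₁fp, fM, hfM⟩ :=
    Groth.Agent.Lib.Helper54.EssLoc1.exists_fp_model (S := S) q.primeCompl M
  obtain ⟨N₁, j3, j4, hN₁fp, fN, hfN⟩ :=
    Groth.Agent.Lib.Helper54.EssLoc1.exists_fp_model (S := S) q.primeCompl N
  letI modRM₁ : Module R M₁ := Module.compHom M₁ (algebraMap R S₀)
  letI modRN₁ : Module R N₁ := Module.compHom N₁ (algebraMap R S₀)
  haveI tow3M : IsScalarTower R S₀ M₁ := ⟨fun r a n => by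
    show (r • a) • n = algebraMap R S₀ r • (a • n)
    rw [Algebra.smul_def, mul_smul]⟩
  haveI tow3N : IsScalarTower R S₀ N₁ := ⟨fun r a n => by
    show (r • a) • n = algebraMap R S₀ r • (a • n)
    rw [Algebra.smul_def, mul_smul]⟩
  have hK : ∀ a : R, algebraMap R (IsLocalRing.ResidueField R) a = 0 ↔
      algebraMap R S₀ a ∈ q := by
    intro a
    rw [hq, Ideal.mem_comap, ← IsScalarTower.algebraMap_apply, IsLocalRing.mem_maximalIdeal,
      mem_nonunits_iff, isUnit_map_iff]
    show IsLocalRing.residue R a = 0 ↔ _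
    rw [IsLocalRing.residue_eq_zero_iff, IsLocalRing.mem_maximalIdeal, mem_nonunits_iff]
  let uS₀ : M →ₗ[S₀] N := u.restrictScalars S₀
  have hfib : ∀ z : TensorProduct R M (IsLocalRing.ResidueField R),
      TensorProduct.AlgebraTensorModule.rTensor R (IsLocalRing.ResidueField R) uS₀ z = 0 →
        z = 0 := by
    intro z hz
    have hcmp : ∀ z : TensorProduct R M (IsLocalRing.ResidueField R),
        (u.restrictScalars R).rTensor (R ⧸ IsLocalRing.maximalIdeal R) z =
          TensorProduct.AlgebraTensorModule.rTensor R (IsLocalRing.ResidueField R) uS₀ z := by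
      intro z
      induction z with
      | zero => exact (map_zero _).trans (map_zero _).symm
      | add x y hx hy => exact (map_add _ x y).trans ((congrArg₂ (· + ·) hx hy).trans (map_add _ x y).symm)
      | tmul m k => rfl
    exact fibre_injective u hu z ((hcmp z).trans hz)
  obtain ⟨c1, c2⟩ := Groth.Agent.Lib.Helper54.MapFibre7.core_map_loc q fM fN uS₀
    (IsLocalRing.ResidueField R) hK inferInstance hfib
  refine ⟨c1, ?_⟩
  have hrange : (LinearMap.range u).restrictScalars S₀ = LinearMap.range uS₀ := by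
    ext n
    simp only [Submodule.restrictScalars_mem, LinearMap.mem_range]
    rfl
  let e₁ : (N ⧸ LinearMap.range uS₀) ≃ₗ[S₀] (N ⧸ (LinearMap.range u).restrictScalars S₀) :=
    Submodule.quotEquivOfEq _ _ hrange.symm
  let e₂ : (N ⧸ (LinearMap.range u).restrictScalars S₀) ≃ₗ[S₀] (N ⧸ LinearMap.range u) :=
    Submodule.Quotient.restrictScalarsEquiv S₀ (LinearMap.range u)
  exact Module.Flat.of_linearEquiv ((e₁.trans e₂).restrictScalars R).symm

end Groth.Agent.S2107
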