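import Groth.Statements.S1351
import Groth.Agent.S2049
import Groth.Agent.S2107
import Groth.Agent.Lib.Helper54.FibCx1

set_option maxHeartbeats 1000000
set_option linter.style.haveILetI false

set_option autoImplicit false
universe u
open FlatMor

namespace Groth.Agent.S1351

/-- Finiteness is inherited along a surjective ring homomorphism. -/
theorem finite_compHom {B' B : Type*} [CommRing B'] [CommRing B] (ψ : B' →+* B)
    (hψ : Function.Surjective ψ) (M : Type*) [AddCommGroup M] [Module B M] [Module.Finite B M] :
    letI := Module.compHom M ψ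
    Module.Finite B' M := by
  letI := Module.compHom M ψ
  obtain ⟨s, hs⟩ := Module.Finite.fg_top (R := B) (M := M)
  refine ⟨⟨s, ?_⟩⟩
  rw [eq_top_iff]
  intro x _
  have hx : x ∈ Submodule.span B (s : Set M) := hs ▸ Submodule.mem_top
  refine Submodule.span_induction (p := fun x _ => x ∈ Submodule.span B' (s : Set M))
    ?_ ?_ ?_ ?_ hx
  · intro y hy
    exact Submodule.subset_span hy
  · exact Submodule.zero_mem _
  · intro y z _ _ hy hz
    exact Submodule.add_mem _ hy hz
  · intro b y _ hy
    obtain ⟨b', rfl⟩ := hψ b
    exact Submodule.smul_mem _ b' hy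

open Groth.Agent.Lib.Helper54 in
/-- The statement for an essentially finitely presented local algebra, in elementwise form. -/
theorem core {A B : Type u} [CommRing A] [IsDomain A] [ValuationRing A] [CommRing B]
    [IsLocalRing B] [Algebra A B] [IsLocalHom (algebraMap A B)] [Algebra.EssFiniteType A B]
    (hS : CAlgX.IsEssFinitePresentation A B)
    {N M : Type u} [AddCommGroup N] [Module B N] [Module A N] [IsScalarTower A B N]
    [Module.Finite B N] [AddCommGroup M] [Module B M] [Module A M] [IsScalarTower A B M]
    [Module.Finite B M] [Module.Flat A M] (u : N →ₗ[B] M)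
    (hu : ∀ x : N, u x ∈ (IsLocalRing.maximalIdeal A • ⊤ : Submodule A M) →
      x ∈ (IsLocalRing.maximalIdeal A • ⊤ : Submodule A N)) :
    Function.Injective u ∧ Module.Flat A (M ⧸ LinearMap.range u) := by
  classical
  haveI fpM : Module.FinitePresentation B M := Groth.Agent.S2049.result (A := A) (B := B) (M := M)
  haveI tfM : Module.IsTorsionFree A M := inferInstance
  haveI tfN₁ : Module.IsTorsionFree A (LinearMap.range u) :=
    Function.Injective.moduleIsTorsionFree ((LinearMap.range u).subtype : LinearMap.range u → M)
      (LinearMap.range u).subtype_injective (fun _ _ => rfl)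
  haveI flatN₁ : Module.Flat A (LinearMap.range u) :=
    (Module.Flat.flat_iff_torsion_eq_bot_of_isBezout).2
      (Submodule.isTorsionFree_iff_torsion_eq_bot.1 inferInstance)
  haveI finN₁ : Module.Finite B (LinearMap.range u) := inferInstance
  haveI fpN₁ : Module.FinitePresentation B (LinearMap.range u) :=
    Groth.Agent.S2049.result (A := A) (B := B) (M := LinearMap.range u)
  have key := Groth.Agent.S2107.result (R := A) (S := B) hS (M := LinearMap.range u) (N := M)
    (LinearMap.range u).subtype (by
      intro y hy
      rw [Groth.Agent.Lib.Helper46.FibreFlat.mem_map_smul_top_iff] at hy ⊢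
      obtain ⟨x, hx⟩ := y.2
      have hx' : u x ∈ (IsLocalRing.maximalIdeal A • ⊤ : Submodule A M) := by
        rw [hx]
        exact hy
      have h1 := hu x hx'
      have h2 := FibCx1.map_mem_smul_top ((u.rangeRestrict).restrictScalars A)
        (IsLocalRing.maximalIdeal A) x h1
      have h3 : (u.rangeRestrict.restrictScalars A) x = y := Subtype.ext hx
      rw [← h3]
      exact h2)
  obtain ⟨-, hflat⟩ := key
  have hrange : LinearMap.range (LinearMap.range u).subtype = LinearMap.range u :=
    Submodule.range_subtype _
  rw [hrange] at hflat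
  refine ⟨?_, hflat⟩
  rw [← LinearMap.ker_eq_bot, ← LinearMap.ker_rangeRestrict u]
  have hKfg : (LinearMap.ker u.rangeRestrict).FG :=
    Module.FinitePresentation.fg_ker u.rangeRestrict u.surjective_rangeRestrict
  apply Submodule.eq_bot_of_le_smul_of_le_jacobson_bot (IsLocalRing.maximalIdeal B) _ hKfg ?_
    (IsLocalRing.maximalIdeal_le_jacobson _)
  intro x hx
  have hux : u x = 0 := by
    have h0 : u.rangeRestrict x = 0 := hx
    have h1 := congrArg Subtype.val h0
    exact h1
  have h1 : x ∈ (IsLocalRing.maximalIdeal A • ⊤ : Submodule A N) :=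
    hu x (by rw [hux]; exact Submodule.zero_mem _)
  have h2 := FlatCoker.mem_smul_top_of_flat_coker (R := A)
    ((LinearMap.ker u.rangeRestrict).subtype.restrictScalars A)
    (u.rangeRestrict.restrictScalars A) (LinearMap.ker u.rangeRestrict).subtype_injective
    (LinearMap.exact_subtype_ker_map u.rangeRestrict) u.surjective_rangeRestrict
    (IsLocalRing.maximalIdeal A) ⟨x, hx⟩ h1
  have h3 : ∀ k : LinearMap.ker u.rangeRestrict,
      k ∈ (IsLocalRing.maximalIdeal A • ⊤ : Submodule A (LinearMap.ker u.rangeRestrict)) →
      (k : N) ∈ (IsLocalRing.maximalIdeal B • LinearMap.ker u.rangeRestrict : Submodule B N) := by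
    intro k hk
    refine Submodule.smul_induction_on hk ?_ ?_
    · intro a ha y _
      have hab : algebraMap A B a ∈ IsLocalRing.maximalIdeal B := by
        rw [IsLocalRing.mem_maximalIdeal, map_mem_nonunits_iff]
        exact ha
      have : ((a • y : LinearMap.ker u.rangeRestrict) : N) = algebraMap A B a • (y : N) := by
        rw [algebraMap_smul]
        rfl
      rw [this]
      exact Submodule.smul_mem_smul hab y.2
    · intro y z hy hz
      rw [Submodule.coe_add]
      exact Submodule.add_mem _ hy hz
  exact h3 ⟨x, hx⟩ h2

/-- Let A be a valuation ring, A → B a local homomorphism of local rings essentially of finite type, and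
u : N → M a B-linear map of finite B-modules with M flat over A. If u is injective after tensoring
with the residue field of A (that is, modulo the maximal ideal of A), then u is injective and its
cokernel is flat over A. -/
theorem result {A B : Type u} [CommRing A] [IsDomain A] [ValuationRing A] [CommRing B] [IsLocalRing B]
    [Algebra A B] [IsLocalHom (algebraMap A B)] [Algebra.EssFiniteType A B]
    {N M : Type u} [AddCommGroup N] [Module B N] [Module A N] [IsScalarTower A B N] [Module.Finite B N]
    [AddCommGroup M] [Module B M] [Module A M] [IsScalarTower A B M] [Module.Finite B M] [Module.Flat A M]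
    (u : N →ₗ[B] M)
    (hu : Function.Injective (Submodule.mapQ (IsLocalRing.maximalIdeal A • ⊤ : Submodule A N) (IsLocalRing.maximalIdeal A • ⊤ : Submodule A M) (u.restrictScalars A)
      (fun n hn => Submodule.smul_top_le_comap_smul_top _ _ hn))) :
    Function.Injective u ∧ Module.Flat A (M ⧸ LinearMap.range u) := by
  classical
  have hu' : ∀ x : N, u x ∈ (IsLocalRing.maximalIdeal A • ⊤ : Submodule A M) →
      x ∈ (IsLocalRing.maximalIdeal A • ⊤ : Submodule A N) := by
    intro x hx
    have h0 : Submodule.mapQ (IsLocalRing.maximalIdeal A • ⊤ : Submodule A N)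
        (IsLocalRing.maximalIdeal A • ⊤ : Submodule A M) (u.restrictScalars A)
        (fun n hn => Submodule.smul_top_le_comap_smul_top _ _ hn) (Submodule.Quotient.mk x) = 0 := by
      rw [Submodule.mapQ_apply]
      exact (Submodule.Quotient.mk_eq_zero _).2 hx
    have h1 := hu (h0.trans (map_zero _).symm)
    exact (Submodule.Quotient.mk_eq_zero _).1 h1
  obtain ⟨σ, hσ⟩ := (Algebra.essFiniteType_iff A B).1 (inferInstance : Algebra.EssFiniteType A B)
  let φ : MvPolynomial (Set.Elem (σ : Set B)) A →ₐ[A] B := MvPolynomial.aeval Subtype.val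
  have hφrange : ∀ b ∈ Algebra.adjoin A (σ : Set B), ∃ x, φ x = b := by
    intro b hb
    rw [Algebra.adjoin_eq_range] at hb
    exact (AlgHom.mem_range _).1 hb
  let q' : Ideal (MvPolynomial (Set.Elem (σ : Set B)) A) := (IsLocalRing.maximalIdeal B).comap φ.toRingHom
  haveI hq' : q'.IsPrime := Ideal.comap_isPrime _ _
  have hunit : ∀ y : q'.primeCompl, IsUnit (φ.toRingHom y) := fun y => by
    have h0 : φ y ∉ IsLocalRing.maximalIdeal B := y.2
    rwa [IsLocalRing.mem_maximalIdeal, mem_nonunits_iff, not_not] at h0
  let ψ : Localization.AtPrime q' →+* B := IsLocalization.lift (M := q'.primeCompl) hunit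
  have hψ : ∀ x, ψ (algebraMap _ (Localization.AtPrime q') x) = φ x :=
    fun x => IsLocalization.lift_eq _ _
  have hψsurj : Function.Surjective ψ := by
    intro b
    obtain ⟨t, ht, htu, hbt⟩ := hσ b
    obtain ⟨y, hy⟩ := hφrange t ht
    obtain ⟨x, hx⟩ := hφrange (b * t) hbt
    have hyq : y ∈ q'.primeCompl := by
      show φ y ∉ IsLocalRing.maximalIdeal B
      rw [hy, IsLocalRing.mem_maximalIdeal, mem_nonunits_iff, not_not]
      exact htu
    refine ⟨IsLocalization.mk' (Localization.AtPrime q') x ⟨y, hyq⟩, ?_⟩
    rw [IsLocalization.lift_mk'_spec]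
    show φ x = φ y * b
    rw [hx, hy, mul_comm]
  have hψA : ∀ a : A, ψ (algebraMap A (Localization.AtPrime q') a) = algebraMap A B a := by
    intro a
    rw [IsScalarTower.algebraMap_apply A (MvPolynomial (Set.Elem (σ : Set B)) A) (Localization.AtPrime q'),
      hψ, φ.commutes]
  letI modN : Module (Localization.AtPrime q') N := Module.compHom N ψ
  letI modM : Module (Localization.AtPrime q') M := Module.compHom M ψ
  have hsmN : ∀ (b' : Localization.AtPrime q') (n : N), b' • n = ψ b' • n := fun _ _ => rfl
  have hsmM : ∀ (b' : Localization.AtPrime q') (m : M), b' • m = ψ b' • m := fun _ _ => rfl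
  haveI towN : IsScalarTower A (Localization.AtPrime q') N := ⟨fun a b' n => by
    rw [hsmN, hsmN, Algebra.smul_def, map_mul, hψA, mul_smul, algebraMap_smul]⟩
  haveI towM : IsScalarTower A (Localization.AtPrime q') M := ⟨fun a b' m => by
    rw [hsmM, hsmM, Algebra.smul_def, map_mul, hψA, mul_smul, algebraMap_smul]⟩
  haveI finN : Module.Finite (Localization.AtPrime q') N := finite_compHom ψ hψsurj N
  haveI finM : Module.Finite (Localization.AtPrime q') M := finite_compHom ψ hψsurj M
  haveI locHom : IsLocalHom (algebraMap A (Localization.AtPrime q')) := ⟨fun a ha => by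
    have h0 : IsUnit (algebraMap A B a) := by
      rw [← hψA]
      exact ha.map ψ
    exact (isUnit_map_iff (algebraMap A B) a).1 h0⟩
  haveI eft : Algebra.EssFiniteType A (Localization.AtPrime q') :=
    Algebra.EssFiniteType.comp A (MvPolynomial (Set.Elem (σ : Set B)) A) (Localization.AtPrime q')
  have hS : CAlgX.IsEssFinitePresentation A (Localization.AtPrime q') :=
    ⟨MvPolynomial (Set.Elem (σ : Set B)) A, inferInstance, inferInstance, inferInstance, inferInstance,
      q'.primeCompl, inferInstance, inferInstance⟩
  let u' : N →ₗ[Localization.AtPrime q'] M :=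
    { toFun := u
      map_add' := u.map_add
      map_smul' := fun b' n => by
        rw [hsmN, RingHom.id_apply, hsmM]
        exact u.map_smul _ _ }
  obtain ⟨c1, c2⟩ := core hS u' hu'
  refine ⟨c1, ?_⟩
  have hrange : (LinearMap.range u').restrictScalars A = (LinearMap.range u).restrictScalars A := by
    ext m
    simp only [Submodule.restrictScalars_mem, LinearMap.mem_range]
    rfl
  let e₁ : (M ⧸ (LinearMap.range u').restrictScalars A) ≃ₗ[A] (M ⧸ LinearMap.range u') :=
    Submodule.Quotient.restrictScalarsEquiv A (LinearMap.range u')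
  let e₂ : (M ⧸ (LinearMap.range u').restrictScalars A) ≃ₗ[A]
      (M ⧸ (LinearMap.range u).restrictScalars A) := Submodule.quotEquivOfEq _ _ hrange
  let e₃ : (M ⧸ (LinearMap.range u).restrictScalars A) ≃ₗ[A] (M ⧸ LinearMap.range u) :=
    Submodule.Quotient.restrictScalarsEquiv A (LinearMap.range u)
  exact Module.Flat.of_linearEquiv ((e₁.symm.trans e₂).trans e₃).symm

end Groth.Agent.S1351
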