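import Groth.Statements.S13513
import Groth.Agent.Lib.Helper68.FibSiteAdj

set_option autoImplicit false
universe u
open CategoryTheory CategoryTheory.Limits Opposite Pseudofunctor.CoGrothendieck
open FibSite

namespace Groth.Agent.S13513

/-- Let `F` be a fibred site over a small category `𝒮` with small fibres (every inverse-image functor is
a morphism of sites) and let `i` be a final object of `𝒮`. Then the left adjoint `α_{i!}` of the
restriction of sheaves of sets from the total site to the fibre over `i` is full and faithful;
equivalently the composite "extend from the fibre over `i`, then restrict back" is isomorphic to the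
identity through the unit of the adjunction. The continuity of the fibre inclusion and the existence
of the left adjoint are carried as instance hypotheses. -/
theorem result {𝒮 : Type u} [SmallCategory 𝒮]
    (F : Pseudofunctor (LocallyDiscrete 𝒮ᵒᵖ) Cat.{u, u}) (J : FibSite.Topologies F)
    (hF : FibSite.IsFibSite F J) (i : 𝒮) (hi : IsTerminal i)
    [(ι F i).IsContinuous (J i) (FibSite.totalTopology F J)]
    [((ι F i).sheafPushforwardContinuous (Type u) (J i) (FibSite.totalTopology F J)).IsRightAdjoint] :
    (FibSite.extend F J (Type u) i).Full ∧ (FibSite.extend F J (Type u) i).Faithful := by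
  have hpre := hF.isPreFibSite
  have := Groth.Agent.Lib.Helper68.ι_full_of_isTerminal F i hi
  have := Groth.Agent.Lib.Helper68.isCocontinuous_ι F J hpre i
  obtain ⟨h⟩ := Groth.Agent.Lib.Helper68.sheafPullback_fullyFaithful_of_fullyFaithful (ι F i)
    (Type u) (J i) (FibSite.totalTopology F J)
  exact ⟨h.full, h.faithful⟩

end Groth.Agent.S13513
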