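import Groth.Statements.S13514
import Groth.Agent.Lib.Helper68.FibSiteLan

set_option autoImplicit false
universe u
open CategoryTheory CategoryTheory.Limits Opposite Pseudofunctor.CoGrothendieck
open FibSite

namespace Groth.Agent.S13514

/-- Let `F` be a fibred site over a small category `𝒮` with small fibres (every inverse-image functor is
a morphism of sites) and let `i` be a final object of `𝒮`. Then the left adjoint `α_{i!}` of the
restriction of sheaves of sets from the total site to the fibre over `i` is left exact (it preserves
finite limits), so that the pair (`α_{i!}`, restriction) is a morphism of topoi from the total topos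
to the topos of the fibre. The continuity of the fibre inclusion and the existence of the left
adjoint are carried as instance hypotheses. -/
theorem result {𝒮 : Type u} [SmallCategory 𝒮]
    (F : Pseudofunctor (LocallyDiscrete 𝒮ᵒᵖ) Cat.{u, u}) (J : FibSite.Topologies F)
    (hF : FibSite.IsFibSite F J) (i : 𝒮) (hi : IsTerminal i)
    [(ι F i).IsContinuous (J i) (FibSite.totalTopology F J)]
    [((ι F i).sheafPushforwardContinuous (Type u) (J i) (FibSite.totalTopology F J)).IsRightAdjoint] :
    PreservesFiniteLimits (FibSite.extend F J (Type u) i) := by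
  have hpre := hF.isPreFibSite
  have hcont : ∀ S : 𝒮, (ι F S).IsContinuous (J S) (FibSite.totalTopology F J) :=
    Groth.Agent.Lib.Helper68.isContinuous_ι F J hpre
  apply Groth.Agent.Lib.Helper68.preservesFiniteLimits_of_restr F J
  intro T
  have huniq : Unique (T ⟶ i) := ⟨⟨hi.from T⟩, fun f => hi.hom_ext _ _⟩
  have := Groth.Agent.Lib.Helper68.isCocontinuous_ι F J hpre T
  have : ∀ P : (F.obj ⟨op T⟩)ᵒᵖ ⥤ Type u, (ι F T).op.HasPointwiseRightKanExtension P :=
    fun P => inferInstance
  have hc : ∀ f : T ⟶ i, (FibSite.invImage F f).IsContinuous (J i) (J T) := fun f => (hF f).1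
  have hr : ∀ f : T ⟶ i, ((FibSite.invImage F f).sheafPushforwardContinuous (Type u) (J i)
      (J T)).IsRightAdjoint := fun f => (hF f).2.1
  have hpres : PreservesFiniteLimits
      ((FibSite.invImage F (default : T ⟶ i)).sheafPullback (Type u) (J i) (J T)) :=
    (hF (default : T ⟶ i)).2.2
  have hiso : ∀ a : Sheaf (J i) (Type u),
      IsIso (Groth.Agent.Lib.Helper68.extendInj F J i T a default) :=
    fun a => Groth.Agent.Lib.Helper68.isIso_extendInj_of_unique F J i T a
  let ν : (FibSite.invImage F (default : T ⟶ i)).sheafPullback (Type u) (J i) (J T) ≅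
      FibSite.extend F J (Type u) i ⋙ FibSite.restr F J (Type u) T :=
    NatIso.ofComponents (fun a => asIso (Groth.Agent.Lib.Helper68.extendInj F J i T a default))
      (fun h => Groth.Agent.Lib.Helper68.extendInj_naturality F J i T h default)
  exact preservesFiniteLimits_of_natIso ν

end Groth.Agent.S13514
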