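import Groth.Statements.S13515
import Groth.Agent.Lib.Helper68.FibSiteMap

set_option autoImplicit false
universe u
open CategoryTheory CategoryTheory.Limits Opposite Pseudofunctor.CoGrothendieck
open scoped CategoryTheory.Pseudofunctor.StrongTrans
open FibSite

namespace Groth.Agent.S13515

/-- Let `F` and `G` be fibred sites over a small category `𝒮` with small fibres and let `α : G ⟶ F` be a
strong transformation of pseudofunctors, i.e. a cartesian functor `∫ᶜ G ⥤ ∫ᶜ F` over `𝒮`, which is a
morphism of fibred sites: on each fibre the functor `α_S : G(S) ⥤ F(S)` is a morphism of sites from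
`(F(S), J S)` to `(G(S), K S)` (continuous, with left exact inverse image on sheaves of sets). Then
the induced functor between the total categories is a morphism of sites from the total site of `F`
to the total site of `G`: it is continuous for the total topologies and the inverse image of sheaves
of sets along it exists and is left exact. -/
theorem result {𝒮 : Type u} [SmallCategory 𝒮]
    (F G : Pseudofunctor (LocallyDiscrete 𝒮ᵒᵖ) Cat.{u, u}) (J : FibSite.Topologies F) (K : FibSite.Topologies G)
    (hF : FibSite.IsFibSite F J) (hG : FibSite.IsFibSite G K) (α : G ⟶ F)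
    (hα : ∀ S : 𝒮, ∃ (_ : (α.app ⟨op S⟩).toFunctor.IsContinuous (K S) (J S))
      (_ : ((α.app ⟨op S⟩).toFunctor.sheafPushforwardContinuous (Type u) (K S) (J S)).IsRightAdjoint),
      PreservesFiniteLimits ((α.app ⟨op S⟩).toFunctor.sheafPullback (Type u) (K S) (J S))) :
    ∃ (_ : (Pseudofunctor.CoGrothendieck.map α).IsContinuous
        (FibSite.totalTopology G K) (FibSite.totalTopology F J))
      (_ : ((Pseudofunctor.CoGrothendieck.map α).sheafPushforwardContinuous (Type u)
        (FibSite.totalTopology G K) (FibSite.totalTopology F J)).IsRightAdjoint),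
      PreservesFiniteLimits ((Pseudofunctor.CoGrothendieck.map α).sheafPullback (Type u)
        (FibSite.totalTopology G K) (FibSite.totalTopology F J)) := by
  have hFp := hF.isPreFibSite
  have hGp := hG.isPreFibSite
  have hαc : ∀ S : 𝒮, (α.app ⟨op S⟩).toFunctor.IsContinuous (K S) (J S) := fun S => (hα S).1
  have hM := Groth.Agent.Lib.Helper68.isContinuous_map α J K hFp hGp hαc
  have hR : ((Pseudofunctor.CoGrothendieck.map α).sheafPushforwardContinuous (Type u)
      (FibSite.totalTopology G K) (FibSite.totalTopology F J)).IsRightAdjoint := inferInstance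
  refine ⟨hM, hR, ?_⟩
  have : ∀ S : 𝒮, (ι F S).IsContinuous (J S) (FibSite.totalTopology F J) :=
    Groth.Agent.Lib.Helper68.isContinuous_ι F J hFp
  have : ∀ S : 𝒮, (ι G S).IsContinuous (K S) (FibSite.totalTopology G K) :=
    Groth.Agent.Lib.Helper68.isContinuous_ι G K hGp
  have : ∀ S : 𝒮, (ι F S).IsCocontinuous (J S) (FibSite.totalTopology F J) :=
    Groth.Agent.Lib.Helper68.isCocontinuous_ι F J hFp
  have : ∀ S : 𝒮, (ι G S).IsCocontinuous (K S) (FibSite.totalTopology G K) :=
    Groth.Agent.Lib.Helper68.isCocontinuous_ι G K hGp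
  have : ∀ (S : 𝒮) (P : (F.obj ⟨op S⟩)ᵒᵖ ⥤ Type u), (ι F S).op.HasPointwiseRightKanExtension P :=
    fun S P => inferInstance
  have : ∀ (S : 𝒮) (P : (G.obj ⟨op S⟩)ᵒᵖ ⥤ Type u), (ι G S).op.HasPointwiseRightKanExtension P :=
    fun S P => inferInstance
  have : ∀ S : 𝒮, ((α.app ⟨op S⟩).toFunctor.sheafPushforwardContinuous (Type u) (K S)
      (J S)).IsRightAdjoint := fun S => (hα S).2.1
  have : ∀ S : 𝒮, PreservesFiniteLimits (FibSite.restr G K (Type u) S) := fun S => by
    have : (FibSite.restr G K (Type u) S).IsRightAdjoint := inferInstance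
    infer_instance
  exact Groth.Agent.Lib.Helper68.preservesFiniteLimits_sheafPullback_map α J K
    (fun S => (hα S).2.2)

end Groth.Agent.S13515
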