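import Groth.Statements.S13516
import Groth.Agent.Lib.Helper68.FibSiteExact
import Groth.Agent.Lib.Helper68.FibSiteContFibre
import Mathlib.CategoryTheory.Limits.Constructions.LimitsOfProductsAndEqualizers

set_option autoImplicit false
universe u
open CategoryTheory CategoryTheory.Limits Opposite Pseudofunctor.CoGrothendieck
open scoped CategoryTheory.Pseudofunctor.StrongTrans
open FibSite

namespace Groth.Agent.S13516

/-- Let `F` and `G` be fibred sites over a small category `𝒮` with small fibres and let `α : G ⟶ F` be a
strong transformation of pseudofunctors, i.e. a cartesian functor `∫ᶜ G ⥤ ∫ᶜ F` over `𝒮`. If the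
induced functor between the total categories is a morphism of sites from the total site of `F` to
the total site of `G` (continuous, with left exact inverse image on sheaves of sets), then `α` is a
morphism of fibred sites: for every `S` the fibre functor `α_S : G(S) ⥤ F(S)` is a morphism of sites
from `(F(S), J S)` to `(G(S), K S)`. (The published statement is for an arbitrary functor over `𝒮`
between the total categories; this row takes a cartesian one.) -/
theorem result {𝒮 : Type u} [SmallCategory 𝒮]
    (F G : Pseudofunctor (LocallyDiscrete 𝒮ᵒᵖ) Cat.{u, u}) (J : FibSite.Topologies F) (K : FibSite.Topologies G)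
    (hF : FibSite.IsFibSite F J) (hG : FibSite.IsFibSite G K) (α : G ⟶ F)
    (hα : ∃ (_ : (Pseudofunctor.CoGrothendieck.map α).IsContinuous
        (FibSite.totalTopology G K) (FibSite.totalTopology F J))
      (_ : ((Pseudofunctor.CoGrothendieck.map α).sheafPushforwardContinuous (Type u)
        (FibSite.totalTopology G K) (FibSite.totalTopology F J)).IsRightAdjoint),
      PreservesFiniteLimits ((Pseudofunctor.CoGrothendieck.map α).sheafPullback (Type u)
        (FibSite.totalTopology G K) (FibSite.totalTopology F J))) (S : 𝒮) :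
    ∃ (_ : (α.app ⟨op S⟩).toFunctor.IsContinuous (K S) (J S))
      (_ : ((α.app ⟨op S⟩).toFunctor.sheafPushforwardContinuous (Type u) (K S) (J S)).IsRightAdjoint),
      PreservesFiniteLimits ((α.app ⟨op S⟩).toFunctor.sheafPullback (Type u) (K S) (J S)) := by
  obtain ⟨hM, hMR, hMex⟩ := hα
  have hFp := hF.isPreFibSite
  have hGp := hG.isPreFibSite
  have hαc : ∀ T : 𝒮, (α.app ⟨op T⟩).toFunctor.IsContinuous (K T) (J T) := fun T =>
    Groth.Agent.Lib.Helper68.isContinuous_fibre_of_isContinuous_map α J K hFp hGp T
  have hαR : ∀ T : 𝒮, ((α.app ⟨op T⟩).toFunctor.sheafPushforwardContinuous (Type u) (K T)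
      (J T)).IsRightAdjoint := fun T => inferInstance
  refine ⟨hαc S, hαR S, ?_⟩
  have : ∀ T : 𝒮, (ι F T).IsContinuous (J T) (FibSite.totalTopology F J) :=
    Groth.Agent.Lib.Helper68.isContinuous_ι F J hFp
  have : ∀ T : 𝒮, (ι G T).IsContinuous (K T) (FibSite.totalTopology G K) :=
    Groth.Agent.Lib.Helper68.isContinuous_ι G K hGp
  have : ∀ T : 𝒮, (ι F T).IsCocontinuous (J T) (FibSite.totalTopology F J) :=
    Groth.Agent.Lib.Helper68.isCocontinuous_ι F J hFp
  have : ∀ T : 𝒮, (ι G T).IsCocontinuous (K T) (FibSite.totalTopology G K) :=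
    Groth.Agent.Lib.Helper68.isCocontinuous_ι G K hGp
  have : ∀ (T : 𝒮) (P : (F.obj ⟨op T⟩)ᵒᵖ ⥤ Type u), (ι F T).op.HasPointwiseRightKanExtension P :=
    fun T P => inferInstance
  have : ∀ (T : 𝒮) (P : (G.obj ⟨op T⟩)ᵒᵖ ⥤ Type u), (ι G T).op.HasPointwiseRightKanExtension P :=
    fun T P => inferInstance
  have : ∀ f : S ⟶ S, (FibSite.invImage G f).IsContinuous (K S) (K S) := fun f => hGp f
  have : ((ι G S).sheafPushforwardContinuous (Type u) (K S)
      (FibSite.totalTopology G K)).IsRightAdjoint := inferInstance
  have : ∀ f : S ⟶ S, ((FibSite.invImage G f).sheafPushforwardContinuous (Type u) (K S)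
      (K S)).IsRightAdjoint := fun f => inferInstance
  have : (FibSite.restr G K (Type u) S).IsRightAdjoint := inferInstance
  have : (FibSite.restr F J (Type u) S).IsRightAdjoint := inferInstance
  have : PreservesFiniteLimits ((FibSite.invImage G (𝟙 S)).sheafPullback (Type u) (K S) (K S)) :=
    (hG (𝟙 S)).2.2
  have h1 := Groth.Agent.Lib.Helper68.preservesPullbacks_sheafPullback_fibre α J K S
  have h2 := Groth.Agent.Lib.Helper68.preservesTerminal_sheafPullback_fibre α J K S
  exact preservesFiniteLimits_of_preservesTerminal_and_pullbacks _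

end Groth.Agent.S13516
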