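import Groth.Statements.S1352
import Groth.Agent.Lib.Helper49.IrrSpread
-- import your own Groth.Agent.* helpers here

set_option autoImplicit false
universe u
open FlatMor

namespace Groth.Agent.S1352

open Groth.Agent.Lib.Helper49


/-- For a domain A and a polynomial P in finitely many variables over A which is irreducible over an
algebraic closure of the fraction field of A: Then there is a nonzero f in A such that for every
ring map from A[1/f] to a field (in the same universe) the image of P is irreducible. (The source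
leaves the nonvanishing of f implicit; for f = 0 the conclusion would be vacuous.) -/
theorem result {A : Type u} [CommRing A] [IsDomain A] {n : ℕ} (P : MvPolynomial (Fin n) A)
    (hP : Irreducible (MvPolynomial.map (algebraMap A (AlgebraicClosure (FractionRing A))) P)) :
    ∃ f : A, f ≠ 0 ∧ ∀ (κ : Type u) [Field κ] (φ : Localization.Away f →+* κ),
      Irreducible (MvPolynomial.map (φ.comp (algebraMap A (Localization.Away f))) P) := by
  classical
  set d := P.totalDegree with hd
  -- `P` is not constant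
  have hPne : ∃ m0 : Fin n →₀ ℕ, m0 ≠ 0 ∧ MvPolynomial.coeff m0 P ≠ 0 := by
    by_contra hcon
    push Not at hcon
    have hPC : P = MvPolynomial.C (MvPolynomial.coeff 0 P) := by
      ext m
      by_cases hm : m = 0
      · simp [hm]
      · rw [hcon m hm, MvPolynomial.coeff_C, if_neg (Ne.symm hm)]
    rw [hPC, MvPolynomial.map_C] at hP
    by_cases hc : algebraMap A (AlgebraicClosure (FractionRing A)) (MvPolynomial.coeff 0 P) = 0
    · rw [hc, map_zero] at hP
      exact not_irreducible_zero hP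
    · exact hP.not_isUnit ((isUnit_iff_ne_zero.mpr hc).map MvPolynomial.C)
  obtain ⟨m0, hm0, hc0⟩ := hPne
  have hall : ∀ p : ↥(IrrSpread.box n d) × ↥(IrrSpread.box n d), ∃ s : A, s ≠ 0 ∧
      (p.1.1 ≠ 0 → p.2.1 ≠ 0 → ∃ N : ℕ,
        MvPolynomial.C s * (MvPolynomial.X (Sum.inl p.1) * MvPolynomial.X (Sum.inr p.2) :
          MvPolynomial (IrrSpread.Idx n d) A) ^ N ∈ IrrSpread.Iu P d) := by
    intro p
    by_cases h1 : p.1.1 = 0
    · exact ⟨1, one_ne_zero, fun h => absurd h1 h⟩
    by_cases h2 : p.2.1 = 0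
    · exact ⟨1, one_ne_zero, fun _ h => absurd h2 h⟩
    obtain ⟨s, hs, N, hN⟩ := IrrSpread.exists_mul_pow_mem P hP p.1 p.2 h1 h2
    exact ⟨s, hs, fun _ _ => ⟨N, hN⟩⟩
  choose s hs hsN using hall
  obtain ⟨f, hf⟩ : ∃ f : A, f = MvPolynomial.coeff m0 P *
      ∏ p : ↥(IrrSpread.box n d) × ↥(IrrSpread.box n d), s p := ⟨_, rfl⟩
  refine ⟨f, by rw [hf]; exact mul_ne_zero hc0 (Finset.prod_ne_zero_iff.mpr fun p _ => hs p), ?_⟩
  intro κ _ φ
  obtain ⟨θ, hθ⟩ : ∃ θ : A →+* κ, θ = φ.comp (algebraMap A (Localization.Away f)) := ⟨_, rfl⟩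
  rw [← hθ]
  have hθf : θ f ≠ 0 := by
    rw [hθ]
    exact (IsUnit.map φ (IsLocalization.Away.algebraMap_isUnit f)).ne_zero
  have hθc : θ (MvPolynomial.coeff m0 P) ≠ 0 := by
    intro h
    apply hθf
    rw [hf, map_mul, h, zero_mul]
  have hθs : ∀ p, θ (s p) ≠ 0 := by
    intro p h
    apply hθf
    rw [hf, map_mul, map_prod, Finset.prod_eq_zero (Finset.mem_univ p) h, mul_zero]
  have hPκ0 : MvPolynomial.coeff m0 (MvPolynomial.map θ P) ≠ 0 := by
    rw [MvPolynomial.coeff_map]
    exact hθc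
  have hPκne : MvPolynomial.map θ P ≠ 0 := fun h => hPκ0 (by rw [h, MvPolynomial.coeff_zero])
  have hconst : ∀ Q : MvPolynomial (Fin n) κ, (∀ m, m ≠ 0 → MvPolynomial.coeff m Q = 0) →
      Q = MvPolynomial.C (MvPolynomial.coeff 0 Q) := by
    intro Q hQ
    ext m
    by_cases hm : m = 0
    · simp [hm]
    · rw [hQ m hm, MvPolynomial.coeff_C, if_neg (Ne.symm hm)]
  rw [irreducible_iff]
  refine ⟨?_, ?_⟩
  · intro hu
    obtain ⟨r, -, hr⟩ := MvPolynomial.isUnit_iff_eq_C_of_isReduced.mp hu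
    apply hPκ0
    rw [hr, MvPolynomial.coeff_C, if_neg (Ne.symm hm0)]
  · intro Q R hQR
    by_contra hcon
    push Not at hcon
    obtain ⟨hQ, hR⟩ := hcon
    have hQ0 : Q ≠ 0 := by
      rintro rfl
      exact hPκne (by rw [hQR, zero_mul])
    have hR0 : R ≠ 0 := by
      rintro rfl
      exact hPκne (by rw [hQR, mul_zero])
    have hQnc : ∃ m1 : Fin n →₀ ℕ, m1 ≠ 0 ∧ MvPolynomial.coeff m1 Q ≠ 0 := by
      by_contra h
      push Not at h
      have hQC := hconst Q h
      apply hQ
      rw [hQC]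
      apply IsUnit.map
      rw [isUnit_iff_ne_zero]
      intro h0
      apply hQ0
      rw [hQC, h0, map_zero]
    have hRnc : ∃ m2 : Fin n →₀ ℕ, m2 ≠ 0 ∧ MvPolynomial.coeff m2 R ≠ 0 := by
      by_contra h
      push Not at h
      have hRC := hconst R h
      apply hR
      rw [hRC]
      apply IsUnit.map
      rw [isUnit_iff_ne_zero]
      intro h0
      apply hR0
      rw [hRC, h0, map_zero]
    obtain ⟨m1, hm1, hc1⟩ := hQnc
    obtain ⟨m2, hm2, hc2⟩ := hRnc
    have hdeg : Q.totalDegree + R.totalDegree = (MvPolynomial.map θ P).totalDegree := by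
      rw [hQR, MvPolynomial.totalDegree_mul_of_isDomain hQ0 hR0]
    have hPd : (MvPolynomial.map θ P).totalDegree ≤ d :=
      Finset.sup_mono (MvPolynomial.support_map_subset _ _)
    have hQbox : ∀ m, MvPolynomial.coeff m Q ≠ 0 → m ∈ IrrSpread.box n d := fun m hm =>
      IrrSpread.mem_box.mpr fun i => by
        have h1 := MvPolynomial.monomial_le_degreeOf i (MvPolynomial.mem_support_iff.mpr hm)
        have h2 := MvPolynomial.degreeOf_le_totalDegree Q i
        omega
    have hRbox : ∀ m, MvPolynomial.coeff m R ≠ 0 → m ∈ IrrSpread.box n d := fun m hm =>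
      IrrSpread.mem_box.mpr fun i => by
        have h1 := MvPolynomial.monomial_le_degreeOf i (MvPolynomial.mem_support_iff.mpr hm)
        have h2 := MvPolynomial.degreeOf_le_totalDegree R i
        omega
    obtain ⟨ψ, hψC, hψI, hψQ, hψR⟩ := IrrSpread.exists_point P θ Q R hQbox hRbox hQR.symm
    obtain ⟨N, hN⟩ := hsN (⟨m1, hQbox m1 hc1⟩, ⟨m2, hRbox m2 hc2⟩) hm1 hm2
    have h0 := hψI hN
    rw [RingHom.mem_ker, map_mul, map_pow, map_mul, hψQ, hψR] at h0
    have hCs : ψ (MvPolynomial.C (s (⟨m1, hQbox m1 hc1⟩, ⟨m2, hRbox m2 hc2⟩))) =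
        θ (s (⟨m1, hQbox m1 hc1⟩, ⟨m2, hRbox m2 hc2⟩)) := by
      rw [← hψC]
      rfl
    rw [hCs] at h0
    rcases mul_eq_zero.mp h0 with h | h
    · exact hθs _ h
    · exact (mul_ne_zero hc1 hc2) (pow_eq_zero_iff (by
        intro hN0
        rw [hN0, pow_zero] at h
        exact one_ne_zero h) |>.mp h)

end Groth.Agent.S1352
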