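import Groth.Statements.S13532
import Groth.Agent.S1608
import Groth.Agent.Lib.Helper73.SubspaceDim
-- import your own Groth.Agent.* helpers here

set_option autoImplicit false
universe u
open CategoryTheory CategoryTheory.Limits AlgebraicGeometry
open ResProp

namespace Groth.Agent.S13532

/-- A morphism of finite type between locally Noetherian schemes which is birational (an isomorphism
over a dense open of the target whose preimage is dense in the source) has finite fibres over all
points of the target of codimension at most 1, i.e. whose local ring has Krull dimension at most 1. -/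
theorem result {X Y : Scheme.{u}}
    [IsLocallyNoetherian X] [IsLocallyNoetherian Y] (f : Y ⟶ X) [LocallyOfFiniteType f] [QuasiCompact f]
    (U : X.Opens) (hU : Dense (U : Set X)) (hU' : Dense ((f ⁻¹ᵁ U : Y.Opens) : Set Y)) (hiso : IsIso (f ∣_ U))
    (x : X) (hx : ringKrullDim (X.presheaf.stalk x) ≤ 1) :
    (f.base ⁻¹' {x}).Finite := by
  -- injectivity of `f` over `U`
  have hinj : ∀ a b : Y, f.base a ∈ U → f.base a = f.base b → a = b := by
    intro a b ha hab
    have hb : f.base b ∈ U := hab ▸ ha
    let a' : ((f ⁻¹ᵁ U : Y.Opens) : Scheme.{u}) := ⟨a, ha⟩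
    let b' : ((f ⁻¹ᵁ U : Y.Opens) : Scheme.{u}) := ⟨b, hb⟩
    have hbij : Function.Injective (f ∣_ U).base :=
      (ConcreteCategory.bijective_of_isIso (f ∣_ U).base).1
    have : (f ∣_ U).base a' = (f ∣_ U).base b' := by
      apply Subtype.ext
      rw [morphismRestrict_base_coe, morphismRestrict_base_coe]
      exact hab
    exact congrArg Subtype.val (hbij this)
  -- quasi-finite at all maximal points
  have hgen : ∀ Z ∈ irreducibleComponents (Y : Type u), ∀ η : Y, IsGenericPoint η Z →
      f.QuasiFiniteAt η := by
    intro Z hZ η hη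
    have hmax : ∀ η' : Y, η' ⤳ η → η' = η := by
      apply Groth.Agent.Lib.Helper73.SchemeDim.maximal_of_closure_singleton_mem_irreducibleComponents
      rw [hη.def]; exact hZ
    have hηU : η ∈ ((f ⁻¹ᵁ U : Y.Opens) : Set Y) :=
      Groth.Agent.Lib.Helper73.SchemeDim.mem_of_dense_of_isOpen_of_maximal (f ⁻¹ᵁ U).isOpen hU' hmax
    rw [Scheme.Hom.quasiFiniteAt_iff_isOpen_singleton_asFiber]
    haveI : Subsingleton (f.fiber (f.base η)) := by
      refine ⟨fun a b => ?_⟩
      apply (f.fiberι (f.base η)).isEmbedding.injective
      have ha := Groth.Agent.Lib.Helper73.SchemeDim.base_fiberι' f (f.base η) a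
      have hb := Groth.Agent.Lib.Helper73.SchemeDim.base_fiberι' f (f.base η) b
      exact hinj _ _ (by rw [ha]; exact hηU) (ha.trans hb.symm)
    exact isOpen_discrete _
  have hqf : ∀ y : Y, f.base y = x → f.QuasiFiniteAt y :=
    fun y hy => Groth.Agent.S1608.result f x hx hgen y hy
  -- the fibre is compact and discrete
  have hcomp : IsCompact (f.base ⁻¹' {x}) := f.isCompact_preimage_singleton x
  haveI : CompactSpace ↥(f.base ⁻¹' {x}) := isCompact_iff_compactSpace.mp hcomp
  haveI : DiscreteTopology ↥(f.base ⁻¹' {x}) := by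
    rw [discreteTopology_iff_isOpen_singleton]
    rintro ⟨y, hy⟩
    have hy' : f.base y = x := hy
    subst hy'
    have h1 := (Scheme.Hom.quasiFiniteAt_iff_isOpen_singleton_asFiber).mp (hqf y rfl)
    have h2 := (f.fiberHomeo (f.base y)).isOpen_image.mpr h1
    rw [Set.image_singleton] at h2
    convert h2
    rw [Scheme.Hom.fiberHomeo_apply, Scheme.Hom.fiberι_asFiber]
  exact Set.finite_coe_iff.mp (finite_of_compact_of_discrete)

end Groth.Agent.S13532
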