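import Groth.Statements.S1355
import Groth.Agent.Lib.Helper21.FibreBC
import Groth.Agent.Lib.Helper21.FiniteSepLevel
import Groth.Agent.Lib.Helper70.EtaleNbhd
-- import your own Groth.Agent.* helpers here

set_option autoImplicit false
universe u
open FlatMor

namespace Groth.Agent.S1355

open AlgebraicGeometry CategoryTheory Limits in
/-- Let f : X → S and s a point of S. The fibre of f over s is geometrically connected if and only if
for every étale morphism U → S and every point u over s, the fibre over u of the base change of f to
U is connected. -/
theorem result {X S : Scheme.{u}} (f : X ⟶ S) (s : S) :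
    GeometricallyConnected (f.fiberToSpecResidueField s) ↔
      ∀ (U : Scheme.{u}) (g : U ⟶ S) (u : U), Etale g → g u = s → ConnectedSpace ↑((pullback.snd f g).fiber u) := by
  constructor
  · intro hgc U g u _ hu
    have h1 : ConnectedSpace ↥(pullback (f.fiberToSpecResidueField s)
        (Spec.map (Groth.Agent.Lib.Helper21.resMapOfEq g u hu))) :=
      pullback_of_geometrically (P := (ConnectedSpace ·))
        hgc.geometrically_connectedSpace (U.residueField u)
        (Spec.map (Groth.Agent.Lib.Helper21.resMapOfEq g u hu))
    exact ((Groth.Agent.Lib.Helper21.fiberBaseChangeIso f g u hu).hom.homeomorph.connectedSpace_iff).2 h1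
  · intro h
    have key : GeometricallyConnected
        (show f.fiber s ⟶ Spec (CommRingCat.of (S.residueField s)) from
          f.fiberToSpecResidueField s) := by
      apply Groth.Agent.Lib.Helper21.geometricallyConnected_of_finite_separable
      intro K _ _ _ _
      obtain ⟨U, g, u, hu, hg, ⟨e⟩⟩ :=
        Groth.Agent.Lib.Helper70.EtaleNbhd.exists_etale_nbhd S s K
      have hconn := h U g u hg hu
      have h1 : ConnectedSpace ↥(pullback (f.fiberToSpecResidueField s)
          (Spec.map (Groth.Agent.Lib.Helper21.resMapOfEq g u hu))) :=
        ((Groth.Agent.Lib.Helper21.fiberBaseChangeIso f g u hu).hom.homeomorph.connectedSpace_iff).1 hconn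
      -- the isomorphism `Spec κ(u) ≅ Spec K`
      let _ := ((S.residueFieldCongr hu).inv ≫ g.residueFieldMap u).hom.toAlgebra
      let ψ : CommRingCat.of K ⟶ U.residueField u := CommRingCat.ofHom (e : K →+* U.residueField u)
      let ψinv : U.residueField u ⟶ CommRingCat.of K :=
        CommRingCat.ofHom (e.symm : U.residueField u →+* K)
      have h12 : ψinv ≫ ψ = 𝟙 _ := by
        ext x
        exact e.apply_symm_apply x
      have h21 : ψ ≫ ψinv = 𝟙 _ := by
        ext x
        exact e.symm_apply_apply x
      let i : Spec (U.residueField u) ≅ Spec (CommRingCat.of K) :=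
        ⟨Spec.map ψ, Spec.map ψinv, by rw [← Spec.map_comp, h12, Spec.map_id],
          by rw [← Spec.map_comp, h21, Spec.map_id]⟩
      have hi : Spec.map (Groth.Agent.Lib.Helper21.resMapOfEq g u hu) =
          i.hom ≫ Spec.map (CommRingCat.ofHom (algebraMap (S.residueField s) K)) := by
        change _ = Spec.map ψ ≫ Spec.map _
        rw [← Spec.map_comp]
        congr 1
        ext x
        exact (e.commutes x).symm
      rw [hi] at h1
      exact ((Groth.Agent.Lib.Helper21.pullbackPrecompIso (f.fiberToSpecResidueField s)
        (Spec.map (CommRingCat.ofHom (algebraMap (S.residueField s) K))) i).hom.homeomorph.connectedSpace_iff).1 h1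
    exact key

end Groth.Agent.S1355
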