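import Groth.Statements.S13578
import Groth.Agent.Lib.Helper68.LTenKill
import Groth.Agent.Lib.Helper68.LTenKoszulCoh
import Groth.Agent.Lib.Helper68.LTenChainA
import Groth.Agent.Lib.Helper68.LTenChainB
import Groth.Agent.Lib.Helper87.KoszulTensor
import Groth.Agent.Lib.Helper46.DTenAssoc
import Groth.Agent.Lib.Helper12.DRingPCModule

set_option autoImplicit false
universe u
open CategoryTheory CategoryTheory.Limits MonoidalCategory
attribute [local instance] HasDerivedCategory.standard
open DTen
open Groth.Agent.Lib.Helper68.LTK Groth.Agent.Lib.Helper68.LTKz Groth.Agent.Lib.Helper68.LTC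
open Groth.Agent.Lib.Helper12 Groth.Agent.Lib.Helper36 Groth.Agent.Lib.Helper94.KoszulReg

namespace Groth.Agent.S13578

/-- Let `A` be a Noetherian commutative ring (the derived tensor product on `D(A)` being assumed to
exist and to be computed by K-flat complexes), `I` an ideal and `M` a finite `A`-module. Then there
is an integer `n > 0` such that the inclusion `I^n M ⟶ M`, viewed in `D(A)` in degree `0`, factors
through the canonical morphism `I ⊗^L M ⟶ M` (the map `I ⊗^L M ⟶ A ⊗^L M` induced by `I ⊆ A`,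
followed by the unit isomorphism). -/
theorem result (A : Type u) [CommRing A] [IsNoetherianRing A]
    [DTen.HasLTen A] [DTen.KFlatComputes A] (I : Ideal A) (M : Type u) [AddCommGroup M] [Module A M]
    [Module.Finite A M] :
    ∃ (n : ℕ) (_ : 0 < n)
      (g : DerivedCategory.Q.obj ((HomologicalComplex.single (ModuleCat.{u} A) (ComplexShape.up ℤ) 0).obj
              (ModuleCat.of A ↥(I ^ n • (⊤ : Submodule A M)))) ⟶
            (DTen.LTen₂ A).obj (DerivedCategory.Q.obj ((HomologicalComplex.single (ModuleCat.{u} A) (ComplexShape.up ℤ) 0).obj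
              (ModuleCat.of A ↥I)),
              DerivedCategory.Q.obj ((HomologicalComplex.single (ModuleCat.{u} A) (ComplexShape.up ℤ) 0).obj
              (ModuleCat.of A M)))),
      g ≫ (DTen.LTen₂ A).map (Prod.mkHom
              (DerivedCategory.Q.map ((HomologicalComplex.single (ModuleCat.{u} A) (ComplexShape.up ℤ) 0).map
                (ModuleCat.ofHom I.subtype)))
              (𝟙 _)) ≫
          (DTen.unitL A).app (DerivedCategory.Q.obj ((HomologicalComplex.single (ModuleCat.{u} A) (ComplexShape.up ℤ) 0).obj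
              (ModuleCat.of A M))) =
        DerivedCategory.Q.map ((HomologicalComplex.single (ModuleCat.{u} A) (ComplexShape.up ℤ) 0).map
          (ModuleCat.ofHom (I ^ n • (⊤ : Submodule A M)).subtype)) := by
  classical
  obtain ⟨S, hS⟩ := (IsNoetherian.noetherian I : I.FG)
  let l : List A := S.toList
  have hI : I = Ideal.span {y | y ∈ l} := by
    rw [← hS]; congr 1; ext y; simp [l]
  have hl : ∀ y ∈ l, y ∈ I := fun y hy => by
    rw [hI]; exact Ideal.subset_span hy
  let MM : ModuleCat.{u} A := ModuleCat.of A M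
  let U : DRing.Cx A := 𝟙_ (DRing.Cx A)
  let j := jmap U l
  let sM : DRing.Cx A := TS.sM MM
  obtain ⟨πA, hπj, hfib⟩ := exists_fiber j
  have : (kz U l).IsKProjective := isKProjective_kz U l
  have : (CochainComplex.mappingCone j).IsKProjective := isKProjective_mappingCone j
  let P : DRing.Cx A := (CochainComplex.mappingCone j)⟦(-1 : ℤ)⟧
  have : P.IsKProjective := inferInstanceAs ((CochainComplex.mappingCone j)⟦(-1 : ℤ)⟧).IsKProjective
  obtain ⟨πD, hπD⟩ := exists_piD I l hl P πA hπj
  let X : Dual.D A := DerivedCategory.Q.obj (kz U l ⊗ sM)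
  obtain ⟨eKT⟩ := Groth.Agent.Lib.Helper87.KoszulTensor.nonempty_kz_tensor U sM l
  have hZ0 : KCond ([] : List A) (Dual.inD A M) := by
    refine ⟨fun i hi => isZero_HF_single 0 MM i (by omega),
      fun i hi => isZero_HF_single 0 MM i (by simp at hi; omega), fun i => ?_, fun i y hy => by simp at hy⟩
    by_cases hi : i = 0
    · subst hi
      exact Module.Finite.equiv (HFSingleIso 0 MM).symm.toLinearEquiv
    · have := ModuleCat.subsingleton_of_isZero (isZero_HF_single 0 MM i hi)
      infer_instance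
  have hZ : KCond ([] : List A) (DerivedCategory.Q.obj (Groth.Agent.Lib.Helper87.CochainWhisker.T U sM)) :=
    KCond.of_iso ((DerivedCategory.Q : _ ⥤ Dual.D A).mapIso (λ_ sM)).symm hZ0
  have hX : KCond l X :=
    KCond.of_iso ((DerivedCategory.Q : _ ⥤ Dual.D A).mapIso eKT.symm) (kcond_kz _ hZ l)
  have hQ : ∀ i, Tors I ((HF A i).obj X) := fun i => by
    have := hX.fin i
    exact tors_of_kcond I l hI _ (hX.kill i)
  have hkilled := killed_of_bounded_tors I X (-(l.length : ℤ)) 0
    (fun i hi => hi.elim (hX.neg i) (hX.pos i)) hQ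
  let e : Dual.inD A M ⟶ X :=
    DerivedCategory.Q.map (λ_ sM).inv ≫ DerivedCategory.Q.map (j ▷ sM)
  obtain ⟨n0, hn0⟩ := hkilled M e
  obtain ⟨jn, hjn⟩ := incl_le I M (Nat.le_succ n0)
  have hn : incl I (n0 + 1) M ≫ e = 0 := by
    rw [hjn, Category.assoc, hn0, comp_zero]
  refine ⟨n0 + 1, Nat.succ_pos _, ?_⟩
  let e0' : Dual.inD A ↥(I ^ (n0 + 1) • (⊤ : Submodule A M)) ⟶ DerivedCategory.Q.obj (U ⊗ sM) :=
    incl I (n0 + 1) M ≫ DerivedCategory.Q.map (λ_ sM).inv
  have he0 : e0' ≫ DerivedCategory.Q.map (j ▷ sM) = 0 := by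
    exact (Category.assoc _ _ _).trans hn
  have hz : (e0' ≫ DerivedCategory.Q.map (TS.tensorSingleIso U MM).hom) ≫
      DerivedCategory.Q.map ((Gc MM).map j) = 0 := by
    rw [Category.assoc, ← Functor.map_comp, ← tsi_hom_naturality, Functor.map_comp,
      ← Category.assoc, he0, zero_comp]
  obtain ⟨h', hh'⟩ := hfib MM _ hz
  let h : Dual.inD A ↥(I ^ (n0 + 1) • (⊤ : Submodule A M)) ⟶ DerivedCategory.Q.obj (P ⊗ sM) :=
    h' ≫ DerivedCategory.Q.map (TS.tensorSingleIso P MM).inv
  have hh : h ≫ DerivedCategory.Q.map (πA ▷ sM) = e0' := by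
    show (h' ≫ DerivedCategory.Q.map (TS.tensorSingleIso P MM).inv) ≫
      DerivedCategory.Q.map (πA ▷ sM) = e0'
    rw [Category.assoc, ← Functor.map_comp, tsi_inv_naturality, Functor.map_comp,
      ← Category.assoc, hh', Category.assoc, ← Functor.map_comp, Iso.hom_inv_id,
      CategoryTheory.Functor.map_id, Category.comp_id]
  have : IsIso ((DTen.ε A).app (P, sM)) :=
    Groth.Agent.Lib.Helper46.DTenAssoc.isIso_ε_left A P sM
  refine ⟨h ≫ inv ((DTen.ε A).app (P, sM)) ≫
    (DTen.LTen₂ A).map (Prod.mkHom πD (𝟙 (DerivedCategory.Q.obj sM))), ?_⟩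
  -- naturality of the counit
  have hnat := (DTen.ε A).naturality (Prod.mkHom πA (𝟙 sM) : (P, sM) ⟶ (U, sM))
  dsimp at hnat
  simp only [MonoidalCategory.whiskerLeft_id, Category.comp_id] at hnat
  have hcomp : (DTen.LTen₂ A).map (Prod.mkHom πD (𝟙 (DerivedCategory.Q.obj sM))) ≫
      (DTen.LTen₂ A).map (Prod.mkHom
        (DerivedCategory.Q.map ((HomologicalComplex.single (ModuleCat.{u} A) (ComplexShape.up ℤ) 0).map
          (ModuleCat.ofHom I.subtype))) (𝟙 (DerivedCategory.Q.obj sM))) =
      (DTen.LTen₂ A).map (Prod.mkHom (DerivedCategory.Q.map πA)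
        (DerivedCategory.Q.map (𝟙 sM))) := by
    rw [← Functor.map_comp]
    congr 1
    rw [CategoryTheory.Functor.map_id]
    show Prod.mkHom (πD ≫ _) (𝟙 _ ≫ 𝟙 _) = _
    rw [hπD, Category.comp_id]
  have hunit := DTen.unitL_app A sM
  have h5 : DerivedCategory.Q.map (λ_ sM).inv ≫ DerivedCategory.Q.map (λ_ sM).hom =
      𝟙 (DerivedCategory.Q.obj sM : Dual.D A) := by
    rw [← Functor.map_comp, Iso.inv_hom_id, CategoryTheory.Functor.map_id]
  have h6 : e0' ≫ DerivedCategory.Q.map (λ_ sM).hom = incl I (n0 + 1) M :=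
    (Category.assoc _ _ _).trans
      ((congrArg (fun z => incl I (n0 + 1) M ≫ z) h5).trans (Category.comp_id (incl I (n0 + 1) M)))
  have main : h ≫ inv ((DTen.ε A).app (P, sM)) ≫
        (((DTen.LTen₂ A).map (Prod.mkHom πD (𝟙 (DerivedCategory.Q.obj sM))) ≫
        (DTen.LTen₂ A).map (Prod.mkHom
          (DerivedCategory.Q.map ((HomologicalComplex.single (ModuleCat.{u} A) (ComplexShape.up ℤ) 0).map
            (ModuleCat.ofHom I.subtype))) (𝟙 (DerivedCategory.Q.obj sM)))) ≫
        (DTen.unitL A).app (DerivedCategory.Q.obj sM)) = incl I (n0 + 1) M := by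
    rw [hcomp, hunit, ← Category.assoc ((DTen.LTen₂ A).map _), hnat]
    simp only [Category.assoc, IsIso.inv_hom_id_assoc]
    rw [← Category.assoc, hh]
    exact h6
  exact (Category.assoc _ _ _).trans ((congrArg (fun z => h ≫ z) ((Category.assoc _ _ _).trans
    (congrArg (fun z => inv ((DTen.ε A).app (P, sM)) ≫ z) (Category.assoc _ _ _).symm))).trans main)

end Groth.Agent.S13578
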