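import Groth.Statements.S13582
import Groth.Agent.Lib.Helper34.ModSiteSS
import Groth.Agent.Lib.Helper34.NullHom
import Groth.Agent.Lib.Cohomology.Helper3_ExtDelta
-- import your own Groth.Agent.* helpers here

set_option autoImplicit false
universe u
open CategoryTheory CategoryTheory.Limits
open ExtSupp

namespace Groth.Agent.S13582

/-- On a ringed site, for an object `U` with closed complement `Z` and a sheaf of modules `M`, the
`q`-th right derived functor of `N ↦ Γ_Z(ℋom_O(M, N))`, which is the definition of Ext with supports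
`Ext^q_{O,Z}(M, -)` as a derived functor, is isomorphic as a functor of `N` to `N ↦ Ext^q_O(M ⊗ O_Z,
N) = Ext^q_O(M/M_U, N)`. Existence of an isomorphism of functors only. The internal hom out of `M`,
the right adjoint of restriction to `U` and injective resolutions of sheaves of modules are assumed
to exist. -/
theorem result {C : Type u} [SmallCategory C]
    {J : GrothendieckTopology C} {O : Sheaf J CommRingCat.{u}} [HasExt.{u} (ModSite.Mod O)]
    (U : C) [ModSite.HasPushOver O U] (M : ModSite.Mod O) [ModSite.HasSheafHom M]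
    [HasInjectiveResolutions (ModSite.Mod O)] (q : ℕ) :
    Nonempty (ExtSupp.ExtZR U M q ≅ Abelian.extFunctorObj ((ModSite.quotOn O U).obj M) q) := by
  classical
  haveI := Groth.Agent.Lib.Helper34.SS.enoughInjectives_of_hasInjectiveResolutions (ModSite.Mod O)
  let Γ : ModSite.Mod O ⥤ AddCommGrpCat.{u} :=
    preadditiveCoyoneda.obj (Opposite.op (ModSite.unit O))
  let A : ModSite.Mod O := (ModSite.quotOn O U).obj M
  let e0 : preadditiveCoyoneda.obj (Opposite.op A) ≅ ExtSupp.gammaZHom U M :=
    Groth.Agent.Lib.Helper34.NullTorsion.coyonedaQuotOnIso M ≪≫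
      Functor.isoWhiskerLeft (ModSite.sectOn O U)
        (Groth.Agent.Lib.Helper34.ModSiteSS.coyonedaSheafHomIso M) ≪≫
      (Functor.associator _ _ _).symm ≪≫
      Functor.isoWhiskerRight (Groth.Agent.Lib.Helper34.NullHom.sheafHomSectOnIso (U := U) M) Γ ≪≫
      Functor.associator _ _ _
  let e1 : preadditiveCoyoneda.obj (Opposite.op A) ≅ Abelian.extFunctorObj.{u} A 0 :=
    NatIso.ofComponents (fun N => (Abelian.Ext.addEquiv₀ (X := A) (Y := N)).symm.toAddCommGrpIso)
      (by
        intro N N' g
        ext φ
        change Abelian.Ext.mk₀ (φ ≫ g) = (Abelian.Ext.mk₀ φ).comp (Abelian.Ext.mk₀ g) (add_zero 0)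
        rw [Abelian.Ext.mk₀_comp_mk₀])
  exact Groth.Agent.Lib.Cohomology.ExtDelta.nonempty_rightDerived_iso_extFunctorObj A
    (ExtSupp.gammaZHom U M) (e0.symm ≪≫ e1) q

end Groth.Agent.S13582
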