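import Groth.Statements.S13586
import Groth.Agent.Lib.Helper34.ModSiteSS
import Groth.Agent.Lib.Helper34.NullHom
import Groth.Agent.Lib.Helper34.HZRD
-- import your own Groth.Agent.* helpers here

set_option autoImplicit false
universe u
open CategoryTheory CategoryTheory.Limits
open ExtSupp

namespace Groth.Agent.S13586

/-- On a ringed site, for an object `U` with closed complement `Z` and sheaves of modules `M`, `N`,
there is a bounded `E_2` spectral sequence of abelian groups with `E_2^{p,q}` isomorphic to
`H^p_Z(ℰxt^q_O(M, N))` for `p, q ≥ 0` and zero otherwise, together with abutment data whose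
filtrations are finite on `Ext^n_Z(M, N)` (`n ≥ 0`; zero for `n < 0`). The `E_2` identifications and
the abutment isomorphisms are asserted to exist only and are not pinned to the canonical maps, so
edge maps are not part of this statement; the internal hom out of `M`, the right adjoint of
restriction to `U` and injective resolutions of sheaves of modules are assumed to exist. (The
published statement, on a ringed topos and likewise on a ringed space, is functorial in `M`, `N` and
in an object `X` of the topos; this row is the case of the final object.) -/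
theorem result {C : Type u} [SmallCategory C]
    {J : GrothendieckTopology C} {O : Sheaf J CommRingCat.{u}} [HasExt.{u} (ModSite.Mod O)]
    (U : C) [ModSite.HasPushOver O U] (M N : ModSite.Mod O) [ModSite.HasSheafHom M]
    [HasInjectiveResolutions (ModSite.Mod O)] :
    ∃ (E : E₂CohomologicalSpectralSequence AddCommGrpCat.{u})
      (a : SpSeq.Abutment E (fun n : ℤ =>
        if 0 ≤ n then AddCommGrpCat.of (ExtSupp.ExtZ U M N n.toNat) else AddCommGrpCat.of PUnit.{u + 1})),
      (∀ n, a.IsFinite n) ∧ SpSeq.IsBounded E ∧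
      ∀ p q : ℤ, Nonempty ((E.page 2 le_rfl).X (p, q) ≅
        (if 0 ≤ p ∧ 0 ≤ q then AddCommGrpCat.of (ModSite.HZ U ((ModSite.extSh M q.toNat).obj N) p.toNat)
         else AddCommGrpCat.of PUnit.{u + 1})) := by
  classical
  haveI := Groth.Agent.Lib.Helper34.SS.enoughInjectives_of_hasInjectiveResolutions (ModSite.Mod O)
  let Γ : ModSite.Mod O ⥤ AddCommGrpCat.{u} :=
    preadditiveCoyoneda.obj (Opposite.op (ModSite.unit O))
  let S : ModSite.Mod O ⥤ AddCommGrpCat.{u} := Groth.Agent.Lib.Helper34.HZRD.ΓZ (O := O) U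
  let T : ModSite.Mod O ⥤ ModSite.Mod O := ModSite.sheafHom M
  have hT : ∀ Q : ModSite.Mod O, Injective Q → ∀ q : ℕ, 0 < q →
      IsZero ((S.rightDerived q).obj (T.obj Q)) := by
    intro Q hQ q hq
    obtain ⟨k, rfl⟩ := Nat.exists_eq_succ_of_ne_zero hq.ne'
    obtain ⟨e⟩ := Groth.Agent.Lib.Helper34.HZRD.nonempty_HZ_iso_rightDerived U (T.obj Q) (k + 1)
    refine IsZero.of_iso ?_ e.symm
    have h6 := Groth.Agent.Lib.Helper34.HZRD.subsingleton_HZ_of_isTotallyAcyclic U (T.obj Q)
      (Groth.Agent.Lib.Helper94.HomFlasque.isTotallyAcyclic_sheafHom O M Q) k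
    exact @AddCommGrpCat.isZero_of_subsingleton _ h6
  let e0 : preadditiveCoyoneda.obj (Opposite.op ((ModSite.quotOn O U).obj M)) ≅ T ⋙ S :=
    Groth.Agent.Lib.Helper34.NullTorsion.coyonedaQuotOnIso M ≪≫
      Functor.isoWhiskerLeft (ModSite.sectOn O U)
        (Groth.Agent.Lib.Helper34.ModSiteSS.coyonedaSheafHomIso M) ≪≫
      (Functor.associator _ _ _).symm ≪≫
      Functor.isoWhiskerRight (Groth.Agent.Lib.Helper34.NullHom.sheafHomSectOnIso (U := U) M) Γ ≪≫
      Functor.associator _ _ _
  refine Groth.Agent.Lib.Helper34.SS.grothendieck_spectralSequence_flex T S hT N _ _ ?_ ?_ ?_ ?_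
  · intro n
    rw [if_pos (Int.natCast_nonneg n), Int.toNat_natCast]
    obtain ⟨e⟩ := Groth.Agent.Lib.Helper34.LocCohSS.nonempty_ext_iso_rightDerived_coyoneda
      ((ModSite.quotOn O U).obj M) N n
    exact ⟨e ≪≫ (Groth.Agent.Lib.Helper34.SS.rightDerivedIsoOfIso e0 n).app N⟩
  · intro n hn
    rw [if_neg (by lia)]
    exact AddCommGrpCat.isZero_of_subsingleton _
  · intro p q
    rw [if_pos ⟨Int.natCast_nonneg p, Int.natCast_nonneg q⟩, Int.toNat_natCast, Int.toNat_natCast]
    exact Groth.Agent.Lib.Helper34.HZRD.nonempty_HZ_iso_rightDerived U _ p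
  · intro p q h
    rw [if_neg h]
    exact AddCommGrpCat.isZero_of_subsingleton _

end Groth.Agent.S13586
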