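import Groth.Statements.S1359
import Groth.Agent.S9738
import Groth.Agent.Lib.Helper35.InfNbhdScheme
import Groth.Agent.Lib.Helper35.InfNbhdSmooth
import Mathlib.AlgebraicGeometry.Morphisms.Smooth

set_option autoImplicit false
universe u
open FlatMor

namespace Groth.Agent.S1359


open AlgebraicGeometry CategoryTheory Limits in
/-- Let S be locally Noetherian, f : X → S of finite type, and Z the closed subscheme of S cut out by an
ideal sheaf I, with infinitesimal neighbourhoods cut out by the powers of I. If the base change of f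
to every infinitesimal neighbourhood is smooth, then every point of X lying over Z is in the smooth
locus of f. -/
theorem result {X S : Scheme.{u}} (f : X ⟶ S) [IsLocallyNoetherian S] [LocallyOfFinitePresentation f] [QuasiCompact f]
    (I : S.IdealSheafData) (h : ∀ n : ℕ, Smooth (pullback.snd f (I ^ (n + 1)).subschemeι)) (x : X) (hx : f x ∈ I.support) :
    x ∈ f.smoothLocus := by
  have hXN : IsLocallyNoetherian X := LocallyOfFiniteType.isLocallyNoetherian f
  have h2 : (f.stalkMap x).hom.Flat :=
    Groth.Agent.S9738.result f I (fun n => by haveI := h n; infer_instance) x hx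
  obtain ⟨_, ⟨U, hU, rfl⟩, hxU, -⟩ :=
    S.isBasis_affineOpens.exists_subset_of_mem_open (Set.mem_univ (f x)) isOpen_univ
  obtain ⟨_, ⟨V, hV, rfl⟩, hxV, hVU⟩ :=
    X.isBasis_affineOpens.exists_subset_of_mem_open hxU (U.2.preimage f.continuous)
  have hfp := f.finitePresentation_appLE hU hV hVU
  algebraize [(f.appLE U V hVU).hom]
  rw [Scheme.Hom.mem_smoothLocus, formallySmooth_stalkMap_iff U hU V hV hVU hxV]
  let p := (hU.primeIdealOf ⟨f x, hVU hxV⟩).asIdeal
  let q := (hV.primeIdealOf ⟨x, hxV⟩).asIdeal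
  have : q.LiesOver p :=
    ⟨congr($(IsAffineOpen.comap_primeIdealOf_appLE U hU V hV hVU hxV).1).symm⟩
  let := Localization.AtPrime.algebraOfLiesOver p q
  have hfl : Module.Flat Γ(S, U) (Localization.AtPrime q) := by
    have : Module.Flat (Localization.AtPrime p) (Localization.AtPrime q) := by
      rw [← RingHom.flat_algebraMap_iff]
      exact (RingHom.Flat.respectsIso.arrow_mk_iso_iff
        (IsAffineOpen.arrowStalkMapIso f U hU V hV hVU hxV)).mp h2
    exact Module.Flat.trans _ (Localization.AtPrime p) _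
  let J : Ideal Γ(S, U) := I.ideal ⟨U, hU⟩
  have hJp : J ≤ p :=
    Groth.Agent.Lib.Helper35.ideal_le_primeIdealOf_of_mem_support I hU (f x) (hVU hxV) hx
  have hJq : J.map (algebraMap Γ(S, U) Γ(X, V)) ≤ q := by
    rw [Ideal.map_le_iff_le_comap]
    refine hJp.trans (le_of_eq ?_)
    exact (Ideal.LiesOver.over (p := p) (P := q))
  have hJ1 : (I ^ (0 + 1)).ideal ⟨U, hU⟩ = J := by simp [J]
  have hsm := Groth.Agent.Lib.Helper35.ringHomProperty_quotient_tensor_of_pullback @Smooth f
    (I ^ (0 + 1)) (h 0) hU hV hVU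
  rw [hJ1, RingHom.smooth_algebraMap] at hsm
  haveI : Algebra.FormallySmooth (Γ(S, U) ⧸ J) (TensorProduct Γ(S, U) (Γ(S, U) ⧸ J) Γ(X, V)) :=
    hsm.formallySmooth
  exact Groth.Agent.Lib.Helper35.isSmoothAt_of_flat_of_formallySmooth_quotient J q hJq

end Groth.Agent.S1359
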