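import Groth.Statements.S13590
import Mathlib
import Groth.Agent.Lib.Helper43.SuppAdj
import Groth.Agent.Lib.Helper68.RestrDer

set_option autoImplicit false
set_option linter.style.haveILetI false
universe u
open CategoryTheory TopologicalSpace
open SuppFam

namespace Groth.Agent.S13590

open CategoryTheory.Limits Groth.Agent.Lib.Helper43.SuppAdj Groth.Agent.Lib.Helper43.ClosedPushAb

attribute [local instance] CategoryTheory.Limits.reflectsLimits_of_reflectsIsomorphisms in
instance pull_pfl {X Y : TopCat.{u}} (f : X ⟶ Y) : PreservesFiniteLimits (CohTop.pull f) := by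
  dsimp only [CohTop.pull, TopCat.Sheaf.pullback]
  apply Functor.sheafPullbackConstruction.preservesFiniteLimits

/-- restriction to an open is left adjoint to pushforward along the inclusion -/
noncomputable def adjOpen {X : TopCat.{u}} (U : Opens X) :
    CohTop.restrFunctor U ⊣ CohTop.push (CohCx.incl U) :=
  haveI H : Topology.IsOpenEmbedding (CohCx.incl U) := U.isOpenEmbedding
  haveI := H.functor_isContinuous
  haveI : (Opens.map (CohCx.incl U)).IsContinuous (Opens.grothendieckTopology X)
      (Opens.grothendieckTopology (TopCat.of U)) :=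
    instIsContinuousOpensCarrierMapGrothendieckTopology _
  Adjunction.sheafPushforwardContinuous (E := AddCommGrpCat.{u}) H.isOpenMap.adjunction
    (Opens.grothendieckTopology (TopCat.of U)) (Opens.grothendieckTopology X)

theorem sectSuppF_injective {Y : TopCat.{u}} (U : Opens Y) (I : CohTop.Ab Y) (hI : Injective I) :
    Injective ((LocCohZ.sectSuppF U).obj I) := by
  have hi := isClosedEmbedding_inclCompl U
  -- `i^! I` is injective
  have h1 : Injective ((LocCohZ.sectSuppF U ⋙ CohTop.pull (CohCx.inclCompl U)).obj I) := by
    haveI : (CohTop.push (CohCx.inclCompl U)).IsRightAdjoint :=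
      (adjI (CohCx.inclCompl U)).isRightAdjoint
    haveI : (CohTop.push (CohCx.inclCompl U)).PreservesMonomorphisms := inferInstance
    exact (adjunction U).map_injective I hI
  obtain ⟨G, ⟨e⟩⟩ := sectSupp_mem_essImage U I
  have hG : Injective G := by
    let e2 : G ≅ (CohTop.pull (CohCx.inclCompl U)).obj ((LocCohZ.sectSuppF U).obj I) :=
      ((pushPullIso hi.isInducing).app G).symm ≪≫ (CohTop.pull (CohCx.inclCompl U)).mapIso e
    exact Injective.of_iso e2.symm h1
  have h2 : Injective ((CohTop.push (CohCx.inclCompl U)).obj G) := by
    haveI h0 : PreservesFiniteLimits (CohTop.pull (CohCx.inclCompl U)) := pull_pfl _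
    haveI h00 : PreservesLimitsOfShape WalkingCospan (CohTop.pull (CohCx.inclCompl U)) :=
      inferInstance
    haveI : (CohTop.pull (CohCx.inclCompl U)).PreservesMonomorphisms :=
      preservesMonomorphisms_of_preservesLimitsOfShape _
    exact (adjI (CohCx.inclCompl U)).map_injective G hG
  exact Injective.of_iso e h2

/-- For an abelian sheaf `F` on a topological space `X` and a locally closed `Z = V ∖ W` (`W ≤ V`
opens), if `F` is injective then the sheaf `Γ_Z(F) = i_* i^!(F)` of sections of `F` with supports in
`Z` is injective. -/
theorem result {X : TopCat.{u}} (F : CohTop.Ab X) {W V : Opens X} (h : W ≤ V)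
    (hF : Injective F) : Injective ((SuppFam.sectSuppLC h).obj F) := by
  have h1 : Injective ((CohTop.restrFunctor V).obj F) := by
    haveI : (Groth.Agent.Lib.Helper68.RestrDer.jShriek V).PreservesMonomorphisms := inferInstance
    exact (Groth.Agent.Lib.Helper68.RestrDer.jAdj V).map_injective F hF
  have h2 := sectSuppF_injective (inOpen V W) _ h1
  have h3 : Injective ((CohTop.push (CohCx.incl V)).obj
      ((LocCohZ.sectSuppF (inOpen V W)).obj ((CohTop.restrFunctor V).obj F))) := by
    haveI : (CohTop.restrFunctor V).IsRightAdjoint :=
      (Groth.Agent.Lib.Helper68.RestrDer.jAdj V).isRightAdjoint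
    haveI : (CohTop.restrFunctor V).PreservesMonomorphisms := inferInstance
    exact (adjOpen V).map_injective _ h2
  exact h3

end Groth.Agent.S13590
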