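import Groth.Statements.S13599
import Mathlib
import Groth.Agent.Lib.Helper22.FinFlatDeg
import Groth.Agent.Lib.Helper22.EtInv
-- import your own Groth.Agent.* helpers here

set_option autoImplicit false
universe u
open CategoryTheory AlgebraicGeometry
open CategoryTheory.Limits
open Cyc

namespace Groth.Agent.S13599

section PRE
open IsLocalRing Groth.Agent.Lib.Helper22

lemma spec_field_props (k : Type u) [Field k] (L : Type u) [Field L] [Algebra k L]
    [FiniteDimensional k L] :
    IsFinite (Spec.map (CommRingCat.ofHom (algebraMap k L))) ∧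
    Flat (Spec.map (CommRingCat.ofHom (algebraMap k L))) ∧
    Surjective (Spec.map (CommRingCat.ofHom (algebraMap k L))) := by
  refine ⟨?_, ?_⟩
  · rw [IsFinite.SpecMap_iff]
    show (algebraMap k L).Finite
    rw [RingHom.finite_algebraMap]
    infer_instance
  · rw [flat_and_surjective_SpecMap_iff]
    show (algebraMap k L).FaithfullyFlat
    rw [RingHom.faithfullyFlat_algebraMap_iff]
    infer_instance

lemma spec_univInj (k : Type u) [Field k] (L : Type u) [Field L] [Algebra k L]
    [IsPurelyInseparable k L] :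
    UniversallyInjective (Spec.map (CommRingCat.ofHom (algebraMap k L))) := by
  have h := (tfae_universallyInjective (Spec.map (CommRingCat.ofHom (algebraMap k L)))).out 0 1
  rw [h]
  intro K _ g₁ g₂ hg
  dsimp only at hg
  rw [← Spec.map_preimage g₁, ← Spec.map_preimage g₂] at hg ⊢
  rw [← Spec.map_comp, ← Spec.map_comp] at hg
  have h2 := Spec.map_injective hg
  congr 1
  ext y
  have h3 : ((Spec.preimage g₁).hom.comp (algebraMap k L)) =
      ((Spec.preimage g₂).hom.comp (algebraMap k L)) := by
    ext c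
    exact congrArg (fun φ => φ.hom c) h2
  letI : Algebra k K := ((Spec.preimage g₁).hom.comp (algebraMap k L)).toAlgebra
  let φ₁ : L →ₐ[k] K := { (Spec.preimage g₁).hom with commutes' := fun c => rfl }
  let φ₂ : L →ₐ[k] K := { (Spec.preimage g₂).hom with
    commutes' := fun c => (congrArg (fun φ => φ c) h3).symm }
  have : φ₁ = φ₂ := Subsingleton.elim _ _
  exact congrArg (fun φ => φ y) this

lemma spec_unram (k : Type u) [Field k] (L : Type u) [Field L] [Algebra k L]
    [FiniteDimensional k L] [Algebra.IsSeparable k L] :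
    FormallyUnramified (Spec.map (CommRingCat.ofHom (algebraMap k L))) ∧
    LocallyOfFiniteType (Spec.map (CommRingCat.ofHom (algebraMap k L))) := by
  refine ⟨?_, ?_⟩
  · rw [HasRingHomProperty.Spec_iff (P := @FormallyUnramified)]
    show (algebraMap k L).FormallyUnramified
    rw [RingHom.formallyUnramified_algebraMap]
    exact Algebra.FormallyUnramified.of_isSeparable k L
  · rw [HasRingHomProperty.Spec_iff (P := @LocallyOfFiniteType)]
    show (algebraMap k L).FiniteType
    rw [RingHom.finiteType_algebraMap]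
    infer_instance

section tower

lemma length_dvd_aux {X' Xs X : Scheme.{u}} (p : X' ⟶ X) (h : X' ⟶ Xs) (ps : Xs ⟶ X)
    (e : h ≫ ps = p) [IsFinite h] [Flat h] [UniversallyInjective h] [FormallyUnramified ps]
    [LocallyOfFiniteType ps] (q : ℕ) (hq : ∀ y, h.finrank y = q) (x' : X') :
    ∃ m : ℕ, (Module.length (X'.presheaf.stalk x') (X'.presheaf.stalk x' ⧸
        Ideal.map (p.stalkMap x').hom (maximalIdeal (X.presheaf.stalk (p x'))))).toNat * m = q := by
  have hideal : Ideal.map (p.stalkMap x').hom (maximalIdeal (X.presheaf.stalk (p x'))) =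
      Ideal.map (h.stalkMap x').hom (maximalIdeal (Xs.presheaf.stalk (h x'))) := by
    rw [EtInv.map_max_congr p (h ≫ ps) e.symm x', EtInv.map_max_comp h ps x',
      EtInv.map_max_unram ps (h x')]
  have hsum := FinFlatDeg.sum_locNum h (h x')
  have hfib : h ⁻¹' {h x'} = {x'} := by
    ext y
    simp only [Set.mem_preimage, Set.mem_singleton_iff]
    exact ⟨fun e => h.injective e, fun e => by rw [e]⟩
  rw [hfib, finsum_mem_singleton, hq] at hsum
  refine ⟨h.residueDegree x', ?_⟩
  rw [← hsum, hideal]
  rfl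

variable {k : Type u} [Field k] {k' : Type u} [Field k'] [Algebra k k'] [FiniteDimensional k k']
  {X : Scheme.{u}} (f : X ⟶ Spec (CommRingCat.of k))

/-- key divisibility: the ramification length divides the inseparable degree. -/
theorem length_dvd (x' : ↥(pullback f (Spec.map (CommRingCat.ofHom (algebraMap k k'))))) :
    ∃ m : ℕ, (Module.length ((pullback f (Spec.map (CommRingCat.ofHom (algebraMap k k')))).presheaf.stalk x')
      ((pullback f (Spec.map (CommRingCat.ofHom (algebraMap k k')))).presheaf.stalk x' ⧸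
        Ideal.map ((pullback.fst f (Spec.map (CommRingCat.ofHom (algebraMap k k')))).stalkMap x').hom
          (maximalIdeal (X.presheaf.stalk
            ((pullback.fst f (Spec.map (CommRingCat.ofHom (algebraMap k k')))) x'))))).toNat * m =
      Field.finInsepDegree k k' := by
  let g' := Spec.map (CommRingCat.ofHom (algebraMap k k'))
  let p := pullback.fst f g'
  let s' := pullback.snd f g'
  let ks : IntermediateField k k' := separableClosure k k'
  let gs := Spec.map (CommRingCat.ofHom (algebraMap k ks))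
  let gh := Spec.map (CommRingCat.ofHom (algebraMap ks k'))
  have hcomp : gh ≫ gs = g' := by
    show Spec.map _ ≫ Spec.map _ = Spec.map _
    rw [← Spec.map_comp]
    rfl
  let ps := pullback.fst f gs
  let ss := pullback.snd f gs
  let h : pullback f g' ⟶ pullback f gs :=
    pullback.lift p (s' ≫ gh) (by rw [Category.assoc, hcomp]; exact pullback.condition)
  have hh1 : h ≫ ps = p := pullback.lift_fst _ _ _
  have hh2 : h ≫ ss = s' ≫ gh := pullback.lift_snd _ _ _
  have hpb : IsPullback h s' ss gh := by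
    refine IsPullback.of_right ?_ hh2 (IsPullback.of_hasPullback f gs)
    rw [hh1, hcomp]
    exact IsPullback.of_hasPullback f g'
  have hfin : IsFinite gh := (spec_field_props ks k').1
  have hflat : Flat gh := (spec_field_props ks k').2.1
  haveI : IsPurelyInseparable ks k' := separableClosure.isPurelyInseparable k k'
  have hinj : UniversallyInjective gh := spec_univInj ks k'
  haveI : IsFinite h := MorphismProperty.of_isPullback (P := @IsFinite) hpb.flip hfin
  haveI : Flat h := MorphismProperty.of_isPullback (P := @Flat) hpb.flip hflat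
  haveI : UniversallyInjective h :=
    MorphismProperty.of_isPullback (P := @UniversallyInjective) hpb.flip hinj
  haveI : Algebra.IsSeparable k ks := separableClosure.isSeparable k k'
  haveI hun : FormallyUnramified gs := (spec_unram k ks).1
  haveI hlft : LocallyOfFiniteType gs := (spec_unram k ks).2
  haveI : FormallyUnramified ps := MorphismProperty.pullback_fst (P := @FormallyUnramified) f gs hun
  haveI : LocallyOfFiniteType ps := MorphismProperty.pullback_fst (P := @LocallyOfFiniteType) f gs hlft
  have hrank : ∀ y, h.finrank y = Field.finInsepDegree k k' := by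
    intro y
    rw [Scheme.Hom.finrank_of_isPullback s' h gh ss hpb.flip y]
    show Scheme.Hom.finrank (Spec.map (CommRingCat.ofHom (algebraMap ks k'))) _ = _
    rw [Scheme.Hom.finrank_SpecMap_algebraMap, Module.rankAtStalk_eq_finrank_of_free]
    rfl
  exact length_dvd_aux p h ps hh1 (Field.finInsepDegree k k') hrank x'

end tower

section trans
variable {k : Type u} [Field k] {k' : Type u} [Field k'] [Algebra k k']
  {X : Scheme.{u}} (f : X ⟶ Spec (CommRingCat.of k))

lemma alg_comp (σ : k' ≃ₐ[k] k') :
    CommRingCat.ofHom (algebraMap k k') ≫ CommRingCat.ofHom σ.toAlgHom.toRingHom =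
      CommRingCat.ofHom (algebraMap k k') := by
  ext c
  exact σ.commutes c

/-- the automorphism of `X'` induced by `σ`. -/
noncomputable def tσ (σ : k' ≃ₐ[k] k') :
    pullback f (Spec.map (CommRingCat.ofHom (algebraMap k k'))) ⟶
      pullback f (Spec.map (CommRingCat.ofHom (algebraMap k k'))) :=
  pullback.lift (pullback.fst f _)
    (pullback.snd f _ ≫ Spec.map (CommRingCat.ofHom σ.toAlgHom.toRingHom)) (by
      rw [Category.assoc, ← Spec.map_comp, alg_comp]
      exact pullback.condition)

@[reassoc]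
lemma tσ_fst (σ : k' ≃ₐ[k] k') : tσ f σ ≫ pullback.fst f _ = pullback.fst f _ :=
  pullback.lift_fst _ _ _

@[reassoc]
lemma tσ_snd (σ : k' ≃ₐ[k] k') : tσ f σ ≫ pullback.snd f _ =
    pullback.snd f _ ≫ Spec.map (CommRingCat.ofHom σ.toAlgHom.toRingHom) :=
  pullback.lift_snd _ _ _

lemma tσ_comp (σ τ : k' ≃ₐ[k] k') (hστ : ∀ y, σ (τ y) = y) : tσ f σ ≫ tσ f τ = 𝟙 _ := by
  apply pullback.hom_ext
  · rw [Category.assoc, tσ_fst, tσ_fst, Category.id_comp]
  · rw [Category.assoc, tσ_snd, tσ_snd_assoc, ← Spec.map_comp, Category.id_comp]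
    have : CommRingCat.ofHom τ.toAlgHom.toRingHom ≫ CommRingCat.ofHom σ.toAlgHom.toRingHom =
        𝟙 _ := by
      ext y
      exact hστ y
    rw [this, Spec.map_id, Category.comp_id]

instance tσ_isIso (σ : k' ≃ₐ[k] k') : IsIso (tσ f σ) :=
  ⟨⟨tσ f σ.symm, tσ_comp f σ σ.symm (fun y => σ.apply_symm_apply y),
    tσ_comp f σ.symm σ (fun y => σ.symm_apply_apply y)⟩⟩

theorem exists_tσ [Normal k k']
    (x₁ x₂ : ↥(pullback f (Spec.map (CommRingCat.ofHom (algebraMap k k')))))
    (hx : pullback.fst f (Spec.map (CommRingCat.ofHom (algebraMap k k'))) x₁ =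
      pullback.fst f (Spec.map (CommRingCat.ofHom (algebraMap k k'))) x₂) :
    ∃ σ : k' ≃ₐ[k] k', tσ f σ x₁ = x₂ := by
  let g' := Spec.map (CommRingCat.ofHom (algebraMap k k'))
  let p := pullback.fst f g'
  let s' := pullback.snd f g'
  obtain ⟨w, hw1, hw2⟩ := Scheme.Pullback.exists_preimage_pullback (f := p) (g := p) x₁ x₂ hx
  let Ω := (pullback p p).residueField w
  let c := (pullback p p).fromSpecResidueField w
  let c₁ := c ≫ pullback.fst p p
  let c₂ := c ≫ pullback.snd p p
  have hc : c₁ ≫ p = c₂ ≫ p := by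
    show (c ≫ pullback.fst p p) ≫ p = (c ≫ pullback.snd p p) ≫ p
    rw [Category.assoc, Category.assoc, pullback.condition]
  let b₁ := c₁ ≫ s'
  let b₂ := c₂ ≫ s'
  let β₁ : CommRingCat.of k' ⟶ Ω := Spec.preimage b₁
  let β₂ : CommRingCat.of k' ⟶ Ω := Spec.preimage b₂
  have hβ₁ : Spec.map β₁ = b₁ := Spec.map_preimage _
  have hβ₂ : Spec.map β₂ = b₂ := Spec.map_preimage _
  have hβ : CommRingCat.ofHom (algebraMap k k') ≫ β₁ = CommRingCat.ofHom (algebraMap k k') ≫ β₂ := by
    apply Spec.map_injective
    rw [Spec.map_comp, Spec.map_comp, hβ₁, hβ₂]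
    have hcond : p ≫ f = s' ≫ g' := pullback.condition
    calc b₁ ≫ g' = c₁ ≫ (s' ≫ g') := Category.assoc _ _ _
      _ = c₁ ≫ (p ≫ f) := by rw [hcond]
      _ = (c₁ ≫ p) ≫ f := (Category.assoc _ _ _).symm
      _ = (c₂ ≫ p) ≫ f := by rw [hc]
      _ = c₂ ≫ (p ≫ f) := Category.assoc _ _ _
      _ = c₂ ≫ (s' ≫ g') := by rw [hcond]
      _ = b₂ ≫ g' := (Category.assoc _ _ _).symm
  letI : Algebra k Ω := (β₁.hom.comp (algebraMap k k')).toAlgebra
  letI : Algebra k' Ω := β₁.hom.toAlgebra
  haveI : IsScalarTower k k' Ω := IsScalarTower.of_algebraMap_eq' rfl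
  let β₂' : k' →ₐ[k] Ω := { β₂.hom with
    commutes' := fun a => (congrArg (fun φ => φ.hom a) hβ).symm }
  let σ : k' ≃ₐ[k] k' := Normal.algHomEquivAut k Ω k' β₂'
  have hσ : ∀ y, β₁.hom (σ y) = β₂.hom y := by
    intro y
    have h0 := (Normal.algHomEquivAut k Ω k').symm_apply_apply β₂'
    exact congrArg (fun φ => φ y) h0
  refine ⟨σ, ?_⟩
  have hcomp : c₁ ≫ tσ f σ = c₂ := by
    apply pullback.hom_ext
    · rw [Category.assoc, tσ_fst]
      exact hc
    · rw [Category.assoc, tσ_snd, ← Category.assoc]
      show b₁ ≫ _ = b₂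
      rw [← hβ₁, ← hβ₂, ← Spec.map_comp]
      congr 1
      ext y
      exact hσ y
  have h1 : c₁ (closedPoint Ω) = x₁ := by
    show (c ≫ pullback.fst p p) (closedPoint Ω) = x₁
    rw [Scheme.Hom.comp_apply, Scheme.fromSpecResidueField_apply, hw1]
  have h2 : c₂ (closedPoint Ω) = x₂ := by
    show (c ≫ pullback.snd p p) (closedPoint Ω) = x₂
    rw [Scheme.Hom.comp_apply, Scheme.fromSpecResidueField_apply, hw2]
  rw [← h1, ← Scheme.Hom.comp_apply, hcomp, h2]

end trans

section inv
variable {k : Type u} [Field k] {k' : Type u} [Field k'] [Algebra k k']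
  {X : Scheme.{u}} (f : X ⟶ Spec (CommRingCat.of k))

/-- the ramification length at a point of `X'`. -/
noncomputable def ell (x' : ↥(pullback f (Spec.map (CommRingCat.ofHom (algebraMap k k'))))) : ℕ :=
  (Module.length ((pullback f (Spec.map (CommRingCat.ofHom (algebraMap k k')))).presheaf.stalk x')
      ((pullback f (Spec.map (CommRingCat.ofHom (algebraMap k k')))).presheaf.stalk x' ⧸
        Ideal.map ((pullback.fst f (Spec.map (CommRingCat.ofHom (algebraMap k k')))).stalkMap x').hom
          (maximalIdeal (X.presheaf.stalk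
            ((pullback.fst f (Spec.map (CommRingCat.ofHom (algebraMap k k')))) x'))))).toNat

lemma ell_tσ (σ : k' ≃ₐ[k] k')
    (x' : ↥(pullback f (Spec.map (CommRingCat.ofHom (algebraMap k k'))))) :
    ell f (tσ f σ x') = ell f x' := by
  have hsq : tσ f σ ≫ pullback.fst f (Spec.map (CommRingCat.ofHom (algebraMap k k'))) =
      pullback.fst f (Spec.map (CommRingCat.ofHom (algebraMap k k'))) ≫ 𝟙 X := by
    rw [tσ_fst, Category.comp_id]
  have := EtInv.length_eq (tσ f σ) (pullback.fst f (Spec.map (CommRingCat.ofHom (algebraMap k k'))))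
    (pullback.fst f (Spec.map (CommRingCat.ofHom (algebraMap k k')))) (𝟙 X) hsq x'
  unfold ell
  rw [this]

end inv

section fin
variable {k : Type u} [Field k] {k' : Type u} [Field k'] [Algebra k k'] [FiniteDimensional k k']
  {X : Scheme.{u}} (f : X ⟶ Spec (CommRingCat.of k))

lemma pullFun_eq (α : X → ℤ)
    (x' : ↥(pullback f (Spec.map (CommRingCat.ofHom (algebraMap k k'))))) :
    Cyc.pullFun (pullback.fst f (Spec.map (CommRingCat.ofHom (algebraMap k k'))))
      (fun _ => 0) (fun _ => 0) 0 α x' =
    α (pullback.fst f (Spec.map (CommRingCat.ofHom (algebraMap k k'))) x') * (ell f x' : ℤ) := by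
  unfold Cyc.pullFun ell
  rw [if_pos (by norm_num)]

lemma insep_ne_zero : Field.finInsepDegree k k' ≠ 0 := by
  intro h
  have h1 := Field.finSepDegree_mul_finInsepDegree k k'
  rw [h, mul_zero] at h1
  have h2 : 0 < Module.finrank k k' := Module.finrank_pos
  omega

theorem main [Normal k k']
    (Z' : AlgebraicCycle (pullback f (Spec.map (CommRingCat.ofHom (algebraMap k k')))) ℤ)
    (hZ' : ∀ (σ : k' ≃ₐ[k] k')
      (t : pullback f (Spec.map (CommRingCat.ofHom (algebraMap k k'))) ⟶
        pullback f (Spec.map (CommRingCat.ofHom (algebraMap k k')))),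
      t ≫ pullback.fst f _ = pullback.fst f _ →
      t ≫ pullback.snd f _ = pullback.snd f _ ≫ Spec.map (CommRingCat.ofHom σ.toAlgHom.toRingHom) →
      ∀ x', Z' (t.base x') = Z' x') :
    ∃! Z : AlgebraicCycle X ℤ, ∀ x' : ↥(pullback f (Spec.map (CommRingCat.ofHom (algebraMap k k')))),
      (Field.finInsepDegree k k' : ℤ) * Z' x' =
        Cyc.pullFun (pullback.fst f (Spec.map (CommRingCat.ofHom (algebraMap k k'))))
          (fun _ => 0) (fun _ => 0) 0 ⇑Z x' := by
  classical
  let g' := Spec.map (CommRingCat.ofHom (algebraMap k k'))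
  let p := pullback.fst f g'
  have hg'fin : IsFinite g' := (spec_field_props k k').1
  have hg'surj : Surjective g' := (spec_field_props k k').2.2
  haveI : IsFinite p := MorphismProperty.pullback_fst (P := @IsFinite) f g' hg'fin
  haveI : Surjective p := MorphismProperty.pullback_fst (P := @Surjective) f g' hg'surj
  set q := Field.finInsepDegree k k' with hq
  have hq0 : q ≠ 0 := insep_ne_zero (k := k) (k' := k')
  have hdvd : ∀ x' : ↥(pullback f g'), ∃ m : ℕ, ell f x' * m = q := fun x' => length_dvd f x'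
  have hell0 : ∀ x' : ↥(pullback f g'), ell f x' ≠ 0 := by
    intro x' h0
    obtain ⟨m, hm⟩ := hdvd x'
    rw [h0, zero_mul] at hm
    exact hq0 hm.symm
  have hinv : ∀ x₁ x₂ : ↥(pullback f g'), p x₁ = p x₂ → ell f x₁ = ell f x₂ ∧ Z' x₁ = Z' x₂ := by
    intro x₁ x₂ h12
    obtain ⟨σ, hσ⟩ := exists_tσ f x₁ x₂ h12
    refine ⟨?_, ?_⟩
    · rw [← hσ, ell_tσ]
    · rw [← hσ]
      exact (hZ' σ (tσ f σ) (tσ_fst f σ) (tσ_snd f σ) x₁).symm
  let sec : X → ↥(pullback f g') := Function.surjInv p.surjective
  have hsec : ∀ x, p (sec x) = x := Function.surjInv_eq p.surjective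
  let Zfun : X → ℤ := fun x => (q : ℤ) * Z' (sec x) / (ell f (sec x) : ℤ)
  have hZfun : ∀ x' : ↥(pullback f g'), Zfun (p x') * (ell f x' : ℤ) = (q : ℤ) * Z' x' := by
    intro x'
    obtain ⟨h1, h2⟩ := hinv (sec (p x')) x' (hsec (p x'))
    show (q : ℤ) * Z' (sec (p x')) / (ell f (sec (p x')) : ℤ) * (ell f x' : ℤ) = _
    rw [h1, h2]
    obtain ⟨m, hm⟩ := hdvd x'
    have hne : (ell f x' : ℤ) ≠ 0 := by exact_mod_cast hell0 x'
    have : (q : ℤ) = (ell f x' : ℤ) * (m : ℤ) := by exact_mod_cast hm.symm
    rw [this, mul_assoc, Int.mul_ediv_cancel_left _ hne]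
    ring
  -- local finiteness
  have hlf : ∀ z : X, ∃ t ∈ nhds z, Set.Finite (t ∩ Function.support Zfun) := by
    intro z
    have hfibfin : (p ⁻¹' {z}).Finite := p.finite_preimage_singleton z
    have hloc : ∀ y : ↥(pullback f g'), ∃ U : Set ↥(pullback f g'), IsOpen U ∧ y ∈ U ∧
        (U ∩ Function.support Z').Finite := by
      intro y
      obtain ⟨t, ht, htfin⟩ := Z'.supportLocallyFiniteWithinDomain y (Set.mem_univ y)
      obtain ⟨U, hUt, hUo, hyU⟩ := mem_nhds_iff.mp ht
      exact ⟨U, hUo, hyU, htfin.subset (Set.inter_subset_inter_left _ hUt)⟩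
    choose U hUo hyU hUfin using hloc
    let W : Set ↥(pullback f g') := ⋃ y ∈ p ⁻¹' {z}, U y
    have hWo : IsOpen W := isOpen_biUnion (fun y _ => hUo y)
    have hWfin : (W ∩ Function.support Z').Finite := by
      have : W ∩ Function.support Z' = ⋃ y ∈ p ⁻¹' {z}, (U y ∩ Function.support Z') := by
        simp only [W, Set.iUnion_inter]
      rw [this]
      exact hfibfin.biUnion (fun y _ => hUfin y)
    have hclosed : IsClosed (p '' Wᶜ) := p.isClosedMap _ hWo.isClosed_compl
    refine ⟨(p '' Wᶜ)ᶜ, hclosed.isOpen_compl.mem_nhds ?_, ?_⟩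
    · rintro ⟨y, hyW, hyz⟩
      apply hyW
      exact Set.mem_biUnion (show y ∈ p ⁻¹' {z} from hyz) (hyU y)
    · refine (hWfin.image p).subset ?_
      rintro x ⟨hxN, hxs⟩
      refine ⟨sec x, ⟨?_, ?_⟩, hsec x⟩
      · by_contra hW
        exact hxN ⟨sec x, hW, hsec x⟩
      · intro h0
        apply hxs
        show (q : ℤ) * Z' (sec x) / (ell f (sec x) : ℤ) = 0
        have h0' : Z' (sec x) = 0 := h0
        rw [h0', mul_zero, Int.zero_ediv]
  let Z : AlgebraicCycle X ℤ :=
    { toFun := Zfun
      supportWithinDomain' := Set.subset_univ _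
      supportLocallyFiniteWithinDomain' := fun z _ => hlf z }
  refine ⟨Z, ?_, ?_⟩
  · intro x'
    show (q : ℤ) * Z' x' = _
    rw [pullFun_eq]
    exact (hZfun x').symm
  · intro Z₁ hZ₁
    ext x
    obtain ⟨x', rfl⟩ := p.surjective x
    have h1 := hZ₁ x'
    rw [pullFun_eq] at h1
    have h2 := hZfun x'
    have hne : (ell f x' : ℤ) ≠ 0 := by exact_mod_cast hell0 x'
    apply mul_right_cancel₀ hne
    show Z₁ (p x') * (ell f x' : ℤ) = Zfun (p x') * (ell f x' : ℤ)
    rw [h2, ← h1]

end fin

end PRE

/-- Let k be a field, X a separated k-scheme of finite type, and k' a finite normal extension field of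
k, with G the group of k-automorphisms of k'; put X' = X ×_k Spec k' with first projection p. The
group G acts on X' over X (σ acts through Spec σ on the second factor). If Z' is a cycle on X' (an
integer-valued function on the points of X' with locally finite support) invariant under every σ ∈
G, then there is exactly one cycle Z on X with [k' : k]_insep · Z' = p^*Z, where [k' : k]_insep is
the inseparable degree and p^*Z is the flat pullback of cycles along p: its coefficient at x' is Z(p
x') times the length of the Artinian local ring O_{X',x'}/𝔪_{p x'}O_{X',x'} (p has discrete fibres,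
so there is no dimension condition; the two auxiliary dimension functions are taken to be zero). -/
theorem result
    {k : Type u} [Field k] {k' : Type u} [Field k'] [Algebra k k'] [FiniteDimensional k k'] [Normal k k']
    {X : Scheme.{u}} (f : X ⟶ Spec (CommRingCat.of k)) [LocallyOfFiniteType f] [QuasiCompact f]
    [IsSeparated f]
    (Z' : AlgebraicCycle (pullback f (Spec.map (CommRingCat.ofHom (algebraMap k k')))) ℤ)
    (hZ' : ∀ (σ : k' ≃ₐ[k] k')
      (t : pullback f (Spec.map (CommRingCat.ofHom (algebraMap k k'))) ⟶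
        pullback f (Spec.map (CommRingCat.ofHom (algebraMap k k')))),
      t ≫ pullback.fst f _ = pullback.fst f _ →
      t ≫ pullback.snd f _ = pullback.snd f _ ≫ Spec.map (CommRingCat.ofHom σ.toAlgHom.toRingHom) →
      ∀ x', Z' (t.base x') = Z' x') :
    ∃! Z : AlgebraicCycle X ℤ, ∀ x' : ↥(pullback f (Spec.map (CommRingCat.ofHom (algebraMap k k')))),
      (Field.finInsepDegree k k' : ℤ) * Z' x' =
        Cyc.pullFun (pullback.fst f (Spec.map (CommRingCat.ofHom (algebraMap k k'))))
          (fun _ => 0) (fun _ => 0) 0 ⇑Z x' := by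
  exact main f Z' hZ'

end Groth.Agent.S13599
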