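import Groth.Statements.S1360
import Groth.Agent.S9738
import Groth.Agent.Lib.Helper35.InfNbhdUnram
import Groth.Agent.Lib.Helper35.EtaleLocalScheme2
import Mathlib.AlgebraicGeometry.Morphisms.FormallyUnramified
import Mathlib.AlgebraicGeometry.Morphisms.Etale

set_option autoImplicit false
universe u
open FlatMor

namespace Groth.Agent.S1360

section Helpers
open AlgebraicGeometry CategoryTheory Limits TensorProduct

/-- unramifiedness at points over `V(K)` from formal unramifiedness of the base change to `V(K)`. -/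
lemma isUnramifiedAt_of_formallyUnramified_pullback {X S : Scheme.{u}} (f : X ⟶ S)
    [LocallyOfFiniteType f] (K : S.IdealSheafData)
    [FormallyUnramified (pullback.snd f K.subschemeι)] {U : S.Opens} (hU : IsAffineOpen U)
    {V : X.Opens} (hV : IsAffineOpen V) (hVU : V ≤ f ⁻¹ᵁ U) (q : Ideal Γ(X, V)) [q.IsPrime]
    (hKq : (K.ideal ⟨U, hU⟩).map (f.appLE U V hVU).hom ≤ q) :
    letI := (f.appLE U V hVU).hom.toAlgebra
    Algebra.IsUnramifiedAt Γ(S, U) q := by
  letI := (f.appLE U V hVU).hom.toAlgebra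
  have hft : Algebra.FiniteType Γ(S, U) Γ(X, V) := f.finiteType_appLE hU hV hVU
  let ι := K.subschemeι
  let UT : K.subscheme.Opens := ι ⁻¹ᵁ U
  have hUT : IsAffineOpen UT := hU.preimage ι
  have H : IsPullback (pullback.fst f ι) (pullback.snd f ι) f ι := IsPullback.of_hasPullback f ι
  let UY : (pullback f ι).Opens := pullback.fst f ι ⁻¹ᵁ V ⊓ pullback.snd f ι ⁻¹ᵁ UT
  have hUY : IsAffineOpen UY :=
    Groth.Agent.Lib.Helper35.isAffineOpen_pullback_chart H le_rfl hVU rfl hU hUT hV
  have hpush := Groth.Agent.Lib.Helper35.isPushout_appLE_of_isAffineOpen H (UT := UT) le_rfl hVU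
    (UY := UY) rfl hU hUT hV
  have hur : ((pullback.snd f ι).appLE UT UY (by simp [UY])).hom.FormallyUnramified :=
    HasRingHomProperty.appLE (P := @FormallyUnramified) (pullback.snd f ι) inferInstance
      ⟨UT, hUT⟩ ⟨UY, hUY⟩ _
  have hsurj : Function.Surjective (ι.appLE U UT le_rfl).hom := by
    rw [Scheme.Hom.appLE_eq_app]
    exact K.subschemeι_app_surjective ⟨U, hU⟩
  have hker : RingHom.ker (ι.appLE U UT le_rfl).hom = K.ideal ⟨U, hU⟩ := by
    rw [Scheme.Hom.appLE_eq_app]
    exact K.ker_subschemeι_app ⟨U, hU⟩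
  let a : Γ(S, U) →+* Γ(X, V) := (f.appLE U V hVU).hom
  let b : Γ(S, U) →+* Γ(K.subscheme, UT) := (ι.appLE U UT le_rfl).hom
  let c : Γ(X, V) →+* Γ(pullback f ι, UY) := ((pullback.fst f ι).appLE V UY (by simp [UY])).hom
  let d : Γ(K.subscheme, UT) →+* Γ(pullback f ι, UY) :=
    ((pullback.snd f ι).appLE UT UY (by simp [UY])).hom
  have hw : c.comp a = d.comp b := congrArg CommRingCat.Hom.hom hpush.w
  letI : Algebra Γ(S, U) Γ(K.subscheme, UT) := b.toAlgebra
  letI : Algebra Γ(X, V) Γ(pullback f ι, UY) := c.toAlgebra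
  letI : Algebra Γ(K.subscheme, UT) Γ(pullback f ι, UY) := d.toAlgebra
  letI : Algebra Γ(S, U) Γ(pullback f ι, UY) := (d.comp b).toAlgebra
  haveI : IsScalarTower Γ(S, U) Γ(K.subscheme, UT) Γ(pullback f ι, UY) :=
    IsScalarTower.of_algebraMap_eq' rfl
  haveI : IsScalarTower Γ(S, U) Γ(X, V) Γ(pullback f ι, UY) :=
    IsScalarTower.of_algebraMap_eq' hw.symm
  haveI : Algebra.IsPushout Γ(S, U) Γ(K.subscheme, UT) Γ(X, V) Γ(pullback f ι, UY) :=
    CommRingCat.isPushout_iff_isPushout.mp hpush.flip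
  haveI : Algebra.FormallyUnramified Γ(K.subscheme, UT) Γ(pullback f ι, UY) := hur
  exact Groth.Agent.Lib.Helper35.isUnramifiedAt_of_isPushout_quotient (R := Γ(S, U)) (T := Γ(X, V))
    (Rn := Γ(K.subscheme, UT)) (Pn := Γ(pullback f ι, UY)) (K.ideal ⟨U, hU⟩) hsurj hker q hKq

end Helpers

open AlgebraicGeometry CategoryTheory Limits in
/-- Let S be locally Noetherian, f : X → S of finite type, and Z the closed subscheme of S cut out by an
ideal sheaf I. If the base change of f to every infinitesimal neighbourhood of Z is étale, then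
every point of X over Z has an open neighbourhood on which f is étale. -/
theorem result {X S : Scheme.{u}} (f : X ⟶ S) [IsLocallyNoetherian S] [LocallyOfFinitePresentation f] [QuasiCompact f]
    (I : S.IdealSheafData) (h : ∀ n : ℕ, Etale (pullback.snd f (I ^ (n + 1)).subschemeι)) (x : X) (hx : f x ∈ I.support) :
    ∃ U : X.Opens, x ∈ U ∧ Etale (U.ι ≫ f) := by
  have hXN : IsLocallyNoetherian X := LocallyOfFiniteType.isLocallyNoetherian f
  have h2 : (f.stalkMap x).hom.Flat :=
    Groth.Agent.S9738.result f I (fun n => by haveI := h n; infer_instance) x hx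
  refine Groth.Agent.Lib.Helper35.exists_etale_nhd_of_flat_of_formallyUnramified_stalkMap f x ?_ h2
  obtain ⟨_, ⟨U, hU, rfl⟩, hxU, -⟩ :=
    S.isBasis_affineOpens.exists_subset_of_mem_open (Set.mem_univ (f x)) isOpen_univ
  obtain ⟨_, ⟨V, hV, rfl⟩, hxV, hVU⟩ :=
    X.isBasis_affineOpens.exists_subset_of_mem_open hxU (U.2.preimage f.continuous)
  algebraize [(f.appLE U V hVU).hom]
  let p := (hU.primeIdealOf ⟨f x, hVU hxV⟩).asIdeal
  let q := (hV.primeIdealOf ⟨x, hxV⟩).asIdeal
  have : q.LiesOver p :=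
    ⟨congr($(IsAffineOpen.comap_primeIdealOf_appLE U hU V hV hVU hxV).1).symm⟩
  let := Localization.AtPrime.algebraOfLiesOver p q
  suffices hur : Algebra.IsUnramifiedAt Γ(S, U) q by
    have h1 : Algebra.FormallyUnramified (Localization.AtPrime p) (Localization.AtPrime q) :=
      Algebra.FormallyUnramified.of_restrictScalars Γ(S, U) _ _
    rw [← RingHom.formallyUnramified_algebraMap] at h1
    exact (RingHom.FormallyUnramified.respectsIso.arrow_mk_iso_iff
        (IsAffineOpen.arrowStalkMapIso f U hU V hV hVU hxV)).mpr h1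
  let J : Ideal Γ(S, U) := I.ideal ⟨U, hU⟩
  have hJp : J ≤ p := by
    have h1 : f x ∈ S.zeroLocus (U := U) (I.ideal ⟨U, hU⟩) :=
      (Scheme.IdealSheafData.mem_support_iff_of_mem (U := ⟨U, hU⟩) (hVU hxV)).mp hx
    have h2 : hU.primeIdealOf ⟨f x, hVU hxV⟩ ∈ hU.fromSpec ⁻¹' S.zeroLocus (U := U) (I.ideal ⟨U, hU⟩) := by
      change hU.fromSpec (hU.primeIdealOf ⟨f x, hVU hxV⟩) ∈ S.zeroLocus (U := U) (I.ideal ⟨U, hU⟩)
      rw [hU.fromSpec_primeIdealOf]
      exact h1
    rw [hU.fromSpec_preimage_zeroLocus] at h2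
    exact h2
  have hJq : J.map (algebraMap Γ(S, U) Γ(X, V)) ≤ q := by
    rw [Ideal.map_le_iff_le_comap]
    refine hJp.trans (le_of_eq ?_)
    exact (Ideal.LiesOver.over (p := p) (P := q))
  haveI : Etale (pullback.snd f (I ^ (0 + 1)).subschemeι) := h 0
  have hJ1 : (I ^ (0 + 1)).ideal ⟨U, hU⟩ = J := by simp [J]
  exact isUnramifiedAt_of_formallyUnramified_pullback f (I ^ (0 + 1)) hU hV hVU q (hJ1 ▸ hJq)

end Groth.Agent.S1360
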