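import Groth.Statements.S13602

set_option autoImplicit false
universe u
open CategoryTheory CategoryTheory.Limits AlgebraicGeometry
open SymProd

namespace Groth.Agent.S13602

/-- Prime avoidance: a finite set of points of an affine open `U` lying in an open `W` lies in a
basic open `X_g ⊆ W` with `g ∈ Γ(X, U)`. -/
theorem exists_basicOpen_le_of_finset {X : Scheme.{u}} {U : X.Opens} (hU : IsAffineOpen U)
    (W : X.Opens) (T : Finset X) (hTU : ∀ x ∈ T, x ∈ U) (hTW : ∀ x ∈ T, x ∈ W) :
    ∃ g : Γ(X, U), X.basicOpen g ≤ W ∧ ∀ x ∈ T, x ∈ X.basicOpen g := by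
  classical
  rcases T.eq_empty_or_nonempty with rfl | ⟨x₀, hx₀⟩
  · exact ⟨0, by simp, by simp⟩
  let I : Ideal Γ(X, U) := PrimeSpectrum.vanishingIdeal (hU.fromSpec ⁻¹' (W : Set X)ᶜ)
  let p : X → Ideal Γ(X, U) := fun x =>
    if h : x ∈ U then (hU.primeIdealOf ⟨x, h⟩).asIdeal else ⊤
  have hpx : ∀ x (h : x ∈ U), p x = (hU.primeIdealOf ⟨x, h⟩).asIdeal := fun x h => dif_pos h
  have hp : ∀ x ∈ T, (p x).IsPrime := fun x hx => by
    rw [hpx x (hTU x hx)]; exact (hU.primeIdealOf ⟨x, hTU x hx⟩).isPrime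
  have hclosed : IsClosed (hU.fromSpec ⁻¹' (W : Set X)ᶜ) :=
    (W.isOpen.isClosed_compl).preimage hU.fromSpec.continuous
  have hI : ∀ x ∈ T, ¬ I ≤ p x := by
    intro x hx hle
    rw [hpx x (hTU x hx)] at hle
    have hmem : hU.primeIdealOf ⟨x, hTU x hx⟩ ∈ PrimeSpectrum.zeroLocus (I : Set Γ(X, U)) := by
      rw [PrimeSpectrum.mem_zeroLocus]; exact hle
    rw [PrimeSpectrum.zeroLocus_vanishingIdeal_eq_closure] at hmem
    have h2 : hU.fromSpec (hU.primeIdealOf ⟨x, hTU x hx⟩) ∈ (W : Set X)ᶜ :=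
      hclosed.closure_subset hmem
    rw [hU.fromSpec_primeIdealOf] at h2
    exact h2 (hTW x hx)
  have hnot : ¬ ((I : Set Γ(X, U)) ⊆ ⋃ x ∈ (T : Set X), (p x : Set Γ(X, U))) := by
    rw [Ideal.subset_union_prime x₀ x₀ (fun x hx _ _ => hp x hx)]
    rintro ⟨x, hx, hle⟩
    exact hI x hx hle
  rw [Set.not_subset] at hnot
  obtain ⟨g, hgI, hgp⟩ := hnot
  simp only [Set.mem_iUnion, not_exists] at hgp
  have key : ∀ y (hy : y ∈ U), y ∈ X.basicOpen g ↔ g ∉ (hU.primeIdealOf ⟨y, hy⟩).asIdeal := by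
    intro y hy
    have h1 : hU.primeIdealOf ⟨y, hy⟩ ∈ hU.fromSpec ⁻¹ᵁ X.basicOpen g ↔ y ∈ X.basicOpen g := by
      change hU.fromSpec (hU.primeIdealOf ⟨y, hy⟩) ∈ X.basicOpen g ↔ _
      rw [hU.fromSpec_primeIdealOf]
    rw [← h1, hU.fromSpec_preimage_basicOpen]
    rfl
  refine ⟨g, ?_, ?_⟩
  · intro y hy
    have hyU : y ∈ U := X.basicOpen_le g hy
    by_contra hyW
    have hmem : hU.primeIdealOf ⟨y, hyU⟩ ∈ hU.fromSpec ⁻¹' (W : Set X)ᶜ := by
      change hU.fromSpec (hU.primeIdealOf ⟨y, hyU⟩) ∈ (W : Set X)ᶜ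
      rw [hU.fromSpec_primeIdealOf]; exact hyW
    have := (PrimeSpectrum.mem_vanishingIdeal _ _).1 hgI _ hmem
    exact (key y hyU).1 hy this
  · intro x hx
    rw [key x (hTU x hx)]
    intro hg
    apply hgp x hx
    rw [hpx x (hTU x hx)]
    exact hg

/-- Let f : X ⟶ S be a morphism of schemes satisfying (AF): every finite set of points of X over a
single point of S lies in an affine open of X. Then for every d ≥ 0 and every point x of the d-fold
fibre power X ×_S ⋯ ×_S X, some affine open of the fibre power contains the whole orbit of x under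
the symmetric group on d letters permuting the factors. (With the existence of a quotient by a
finite group whose orbits lie in affine opens, this is the existence of the symmetric power
Sym^d(X/S) for X/S satisfying (AF).) -/
theorem result {X S : Scheme.{u}} (f : X ⟶ S) (hAF : SymProd.IsAF f)
    (d : ℕ) (x : ↥(SymProd.fibPow f d)) :
    ∃ U : (SymProd.fibPow f d).Opens, IsAffineOpen U ∧
      ∀ σ : Equiv.Perm (Fin d), (SymProd.permHom f d σ).base x ∈ U := by
  classical
  let b : fibPow f d ⟶ S := WidePullback.base _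
  let π : ∀ i : Fin d, fibPow f d ⟶ X := fun i => WidePullback.π _ i
  have hπb : ∀ i, π i ≫ f = b := fun i => WidePullback.π_arrow _ i
  let T : Finset X := Finset.univ.image (fun i => (π i).base x)
  obtain ⟨U, hU, hTU⟩ := hAF (b.base x) T (by
    intro y hy
    obtain ⟨i, -, rfl⟩ := Finset.mem_image.1 hy
    rw [← hπb i]; rfl)
  obtain ⟨V, hV, hsV⟩ : ∃ V : S.Opens, IsAffineOpen V ∧ b.base x ∈ V := by
    obtain ⟨V, hV, hsV, -⟩ := TopologicalSpace.Opens.isBasis_iff_nbhd.1 S.isBasis_affineOpens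
      (U := ⊤) (x := b.base x) trivial
    exact ⟨V, hV, hsV⟩
  obtain ⟨g, hgW, hTg⟩ := exists_basicOpen_le_of_finset hU (f ⁻¹ᵁ V) T hTU (by
    intro y hy
    obtain ⟨i, -, rfl⟩ := Finset.mem_image.1 hy
    change f.base ((π i).base x) ∈ V
    have : f.base ((π i).base x) = b.base x := by rw [← hπb i]; rfl
    rw [this]; exact hsV)
  have hU' : IsAffineOpen (X.basicOpen g) := hU.basicOpen g
  have hTg' : ∀ i, (π i).base x ∈ X.basicOpen g := fun i =>
    hTg _ (Finset.mem_image.2 ⟨i, Finset.mem_univ _, rfl⟩)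
  -- the open subset
  let O : (fibPow f d).Opens := ⟨{y | b.base y ∈ V ∧ ∀ i, (π i).base y ∈ X.basicOpen g}, by
    have : {y : fibPow f d | b.base y ∈ V ∧ ∀ i, (π i).base y ∈ X.basicOpen g} =
        (b.base ⁻¹' (V : Set S)) ∩ ⋂ i, (π i).base ⁻¹' (X.basicOpen g : Set X) := by
      ext y; simp
    rw [this]
    exact (V.isOpen.preimage b.continuous).inter
      (isOpen_iInter_of_finite fun i => (X.basicOpen g).isOpen.preimage (π i).continuous)⟩
  have hO : ∀ y, y ∈ O ↔ (b.base y ∈ V ∧ ∀ i, (π i).base y ∈ X.basicOpen g) := fun y => Iff.rfl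
  refine ⟨O, ?_, ?_⟩
  · -- affineness
    let U' : X.Opens := X.basicOpen g
    let f' : U'.toScheme ⟶ V.toScheme := f.resLE V U' hgW
    have hf' : f' ≫ V.ι = U'.ι ≫ f := f.resLE_comp_ι hgW
    let Q : Scheme.{u} := widePullback V.toScheme (fun _ : Fin d => U'.toScheme) (fun _ => f')
    have hQ : IsAffine Q := by
      have : ∀ j, IsAffine ((WidePullbackShape.wideCospan V.toScheme
          (fun _ : Fin d => U'.toScheme) (fun _ => f')).obj j) := by
        rintro (_ | i)
        · exact hV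
        · exact hU'
      exact Scheme.isAffine_of_isLimit _ (limit.isLimit _)
    let b' : Q ⟶ V.toScheme := WidePullback.base _
    let π' : ∀ i : Fin d, Q ⟶ U'.toScheme := fun i => WidePullback.π _ i
    have hπb' : ∀ i, π' i ≫ f' = b' := fun i => WidePullback.π_arrow _ i
    let j : Q ⟶ fibPow f d := WidePullback.lift (b' ≫ V.ι) (fun i => π' i ≫ U'.ι) (by
      intro i
      rw [Category.assoc, ← hf', ← Category.assoc, hπb'])
    have hjπ : ∀ i, j ≫ π i = π' i ≫ U'.ι := fun i => WidePullback.lift_π _ _ _ _ i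
    have hjb : j ≫ b = b' ≫ V.ι := WidePullback.lift_base _ _ _ _
    have hjO : Set.range j.base ⊆ Set.range O.ι.base := by
      rintro _ ⟨q, rfl⟩
      rw [Scheme.Opens.range_ι]
      change j.base q ∈ O
      rw [hO]
      constructor
      · rw [← Scheme.Hom.comp_apply, hjb, Scheme.Hom.comp_apply]
        exact (b'.base q).2
      · intro i
        rw [← Scheme.Hom.comp_apply, hjπ, Scheme.Hom.comp_apply]
        exact ((π' i).base q).2
    let j' : Q ⟶ O.toScheme := IsOpenImmersion.lift O.ι j hjO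
    have hj' : j' ≫ O.ι = j := IsOpenImmersion.lift_fac _ _ _
    have hkV : Set.range (O.ι ≫ b).base ⊆ Set.range V.ι.base := by
      rintro _ ⟨y, rfl⟩
      rw [Scheme.Opens.range_ι]
      exact ((hO _).1 y.2).1
    have hkU : ∀ i, Set.range (O.ι ≫ π i).base ⊆ Set.range U'.ι.base := by
      intro i
      rintro _ ⟨y, rfl⟩
      rw [Scheme.Opens.range_ι]
      exact ((hO _).1 y.2).2 i
    let kV : O.toScheme ⟶ V.toScheme := IsOpenImmersion.lift V.ι (O.ι ≫ b) hkV
    let kU : ∀ i, O.toScheme ⟶ U'.toScheme := fun i =>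
      IsOpenImmersion.lift U'.ι (O.ι ≫ π i) (hkU i)
    have hkVf : kV ≫ V.ι = O.ι ≫ b := IsOpenImmersion.lift_fac _ _ _
    have hkUf : ∀ i, kU i ≫ U'.ι = O.ι ≫ π i := fun i => IsOpenImmersion.lift_fac _ _ _
    let k : O.toScheme ⟶ Q := WidePullback.lift kV kU (by
      intro i
      rw [← cancel_mono V.ι, Category.assoc, hf', ← Category.assoc, hkUf, Category.assoc, hπb i,
        hkVf])
    have hkπ : ∀ i, k ≫ π' i = kU i := fun i => WidePullback.lift_π _ _ _ _ i
    have hkb : k ≫ b' = kV := WidePullback.lift_base _ _ _ _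
    have h1 : k ≫ j' = 𝟙 _ := by
      rw [← cancel_mono O.ι, Category.assoc, hj', Category.id_comp]
      apply WidePullback.hom_ext
      · intro i
        change (k ≫ j) ≫ π i = O.ι ≫ π i
        rw [Category.assoc, hjπ, ← Category.assoc, hkπ, hkUf]
      · change (k ≫ j) ≫ b = O.ι ≫ b
        rw [Category.assoc, hjb, ← Category.assoc, hkb, hkVf]
    have h2 : j' ≫ k = 𝟙 _ := by
      apply WidePullback.hom_ext
      · intro i
        change (j' ≫ k) ≫ π' i = 𝟙 _ ≫ π' i
        rw [Category.assoc, hkπ, Category.id_comp, ← cancel_mono U'.ι, Category.assoc, hkUf,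
          ← Category.assoc, hj', hjπ]
      · change (j' ≫ k) ≫ b' = 𝟙 _ ≫ b'
        rw [Category.assoc, hkb, Category.id_comp, ← cancel_mono V.ι, Category.assoc, hkVf,
          ← Category.assoc, hj', hjb]
    have : IsIso k := ⟨j', h1, h2⟩
    exact IsAffine.of_isIso k
  · intro σ
    rw [hO]
    constructor
    · have : b.base ((permHom f d σ).base x) = b.base x := by
        rw [← Scheme.Hom.comp_apply, permHom_base]
      rw [this]; exact hsV
    · intro i
      have : (π i).base ((permHom f d σ).base x) = (π (σ.symm i)).base x := by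
        rw [← Scheme.Hom.comp_apply, permHom_π]
      rw [this]; exact hTg' _

end Groth.Agent.S13602
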