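import Groth.Statements.S13603
-- import your own Groth.Agent.* helpers here

set_option autoImplicit false
universe u v
open CAlg

namespace Groth.Agent.S13603

/-- Let a group G act on a commutative ring B by ring automorphisms so that every element of B has a
finite orbit, and let S ⊆ B be a multiplicative set of G-fixed elements (so each g ∈ G induces an
endomorphism of the localization S⁻¹B; the hypothesis that g maps S into S is implied by the
previous one and is only carried to name that endomorphism). Then an element of S⁻¹B is fixed by all
of G if and only if it is a fraction b/s with b fixed by G and s ∈ S: the canonical map S⁻¹(B^G) →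
(S⁻¹B)^G is onto. -/
theorem result {B : Type u} [CommRing B]
    {G : Type v} [Group G] [MulSemiringAction G B] (hfin : ∀ b : B, (MulAction.orbit G b).Finite)
    (S : Submonoid B) (hS : ∀ (g : G) (s : B), s ∈ S → g • s = s)
    (hS' : ∀ g : G, S ≤ S.comap (MulSemiringAction.toRingHom G B g)) (x : Localization S) :
    (∀ g : G, IsLocalization.map (Localization S) (MulSemiringAction.toRingHom G B g) (hS' g) x = x) ↔
      ∃ (b : B) (s : S), (∀ g : G, g • b = b) ∧ x = IsLocalization.mk' (Localization S) b s := by
  classical
  constructor
  · intro hx
    obtain ⟨b, s, rfl⟩ := IsLocalization.exists_mk'_eq S x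
    -- for each element of the orbit choose a witness
    have hwit : ∀ y : B, y ∈ MulAction.orbit G b → ∃ c : S, (c : B) * ((s : B) * y) = (c : B) * ((s : B) * b) := by
      rintro y ⟨g, rfl⟩
      have h1 := hx g
      rw [IsLocalization.map_mk', IsLocalization.eq] at h1
      obtain ⟨c, hc⟩ := h1
      refine ⟨c, ?_⟩
      have h2 : (MulSemiringAction.toRingHom G B g) (s : B) = (s : B) := hS g s s.2
      simp only [h2] at hc
      exact hc
    choose! c hc using hwit
    let F : Finset B := (hfin b).toFinset
    let C : S := ∏ y ∈ F, c y
    have hC : ∀ y ∈ MulAction.orbit G b, (C : B) * ((s : B) * y) = (C : B) * ((s : B) * b) := by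
      intro y hy
      have hyF : y ∈ F := (Set.Finite.mem_toFinset _).2 hy
      have h3 : C = (∏ y' ∈ F.erase y, c y') * c y := by
        rw [Finset.prod_erase_mul _ _ hyF]
      rw [h3, Submonoid.coe_mul, mul_assoc, hc y hy, ← mul_assoc]
    have hfix : ∀ g : G, g • ((C : B) * ((s : B) * b)) = (C : B) * ((s : B) * b) := by
      intro g
      rw [smul_mul', smul_mul', hS g _ C.2, hS g _ s.2]
      exact hC _ ⟨g, rfl⟩
    refine ⟨(C : B) * ((s : B) * b), C * (s * s), hfix, ?_⟩
    rw [IsLocalization.eq]
    refine ⟨1, ?_⟩
    simp only [Submonoid.coe_mul, OneMemClass.coe_one, one_mul]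
    ring
  · rintro ⟨b, s, hb, rfl⟩ g
    rw [IsLocalization.map_mk']
    congr 1
    · exact hb g
    · exact Subtype.ext (hS g s s.2)

end Groth.Agent.S13603
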