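import Groth.Statements.S13604
import Mathlib
import Groth.Agent.Lib.Helper91.StalkIdealComap
import Groth.Agent.S1570

set_option autoImplicit false
universe u
open CategoryTheory AlgebraicGeometry
open CategoryTheory.Limits
open Cyc

namespace Groth.Agent.S13604

/-- Let k be a field, X a separated k-scheme of finite type, smooth of relative dimension r, and Z ⊆ X a
closed subscheme (a quasi-coherent ideal sheaf) of pure dimension r − 1, i.e. the local ring of X at
every maximal point of Z has dimension 1. If for some field extension K/k the base change Z_K ⊆ X_K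
= X ×_k Spec K (the inverse image ideal sheaf along the first projection) is an effective Cartier
divisor, then the ideal of Z is locally generated by a single non-zero-divisor, i.e. Z too is
effective Cartier. -/
theorem result {k : Type u} [Field k] {K : Type u} [Field K]
    [Algebra k K] {X : Scheme.{u}} (f : X ⟶ Spec (CommRingCat.of k)) (r : ℕ) [SmoothOfRelativeDimension r f]
    [QuasiCompact f] [IsSeparated f] (𝓘 : X.IdealSheafData)
    (hpure : ∀ z : ↥𝓘.subscheme, (∀ z' : ↥𝓘.subscheme, z' ⤳ z → z' = z) →
      ringKrullDim ↑(X.presheaf.stalk (𝓘.subschemeι.base z)) = 1)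
    (hK : BlowUp.IsEffCartierIdeal
      (𝓘.comap (pullback.fst f (Spec.map (CommRingCat.ofHom (algebraMap k K)))))) :
    BlowUp.IsEffCartierIdeal 𝓘 := by
  haveI : Smooth f := SmoothOfRelativeDimension.smooth r f
  haveI : IsLocallyNoetherian X := LocallyOfFiniteType.isLocallyNoetherian f
  haveI hflatK : Flat (Spec.map (CommRingCat.ofHom (algebraMap k K))) := by
    rw [Flat.SpecMap_iff]
    show (algebraMap k K).Flat
    rw [RingHom.flat_algebraMap_iff]
    infer_instance
  haveI hsurjK : Surjective (Spec.map (CommRingCat.ofHom (algebraMap k K))) := by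
    constructor
    intro x
    haveI : Nonempty (Spec (CommRingCat.of K)) := inferInstanceAs (Nonempty (PrimeSpectrum K))
    obtain ⟨y⟩ := ‹Nonempty (Spec (CommRingCat.of K))›
    refine ⟨y, ?_⟩
    haveI : Subsingleton (Spec (CommRingCat.of k)) :=
      inferInstanceAs (Subsingleton (PrimeSpectrum k))
    exact Subsingleton.elim _ _
  apply Groth.Agent.S1570.result
  intro x hx U hxU
  obtain ⟨y, rfl⟩ := (pullback.fst f (Spec.map (CommRingCat.ofHom (algebraMap k K)))).surjective x
  obtain ⟨g, hg, hgen⟩ := Groth.Agent.Lib.Helper91.StalkIdeal.exists_generator hK y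
  rw [Groth.Agent.Lib.Helper91.StalkIdeal.stalkIdeal_comap] at hgen
  letI alg := ((pullback.fst f (Spec.map (CommRingCat.ofHom (algebraMap k K)))).stalkMap y).hom.toAlgebra
  haveI hfl : Module.Flat (X.presheaf.stalk
      ((pullback.fst f (Spec.map (CommRingCat.ofHom (algebraMap k K)))) y))
      ((pullback f (Spec.map (CommRingCat.ofHom (algebraMap k K)))).presheaf.stalk y) :=
    Flat.stalkMap (pullback.fst f (Spec.map (CommRingCat.ofHom (algebraMap k K)))) y
  haveI hloc : IsLocalHom (algebraMap (X.presheaf.stalk
      ((pullback.fst f (Spec.map (CommRingCat.ofHom (algebraMap k K)))) y))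
      ((pullback f (Spec.map (CommRingCat.ofHom (algebraMap k K)))).presheaf.stalk y)) :=
    inferInstanceAs (IsLocalHom
      ((pullback.fst f (Spec.map (CommRingCat.ofHom (algebraMap k K)))).stalkMap y).hom)
  obtain ⟨f0, hf0, hI⟩ := Groth.Agent.Lib.Helper91.StalkIdeal.exists_span_eq_of_map_eq_span
    (Groth.Agent.Lib.Helper91.StalkIdeal.stalkIdeal 𝓘
      ((pullback.fst f (Spec.map (CommRingCat.ofHom (algebraMap k K)))) y))
    (IsNoetherian.noetherian _) hg hgen
  refine ⟨f0, hf0, ?_⟩
  rw [← Groth.Agent.Lib.Helper91.StalkIdeal.stalkIdeal_eq 𝓘 U hxU]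
  exact hI

end Groth.Agent.S13604
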