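import Groth.Statements.S13605
import Groth.Agent.Lib.Helper61.FibPowAffine
import Groth.Agent.S13602
import Groth.Agent.S2908

set_option autoImplicit false
universe u
open CategoryTheory AlgebraicGeometry
open CategoryTheory.Limits
open SymProd

namespace Groth.Agent.S13605

/-- Let f : X ⟶ S be a morphism of schemes satisfying (AF) (every finite set of points of X over a
single point of S lies in an affine open of X), let 𝒮 be a cover of S by affine opens, let d ≥ 1 and
let (Y, q, g) be a d-th symmetric power of X over S: q : X ×_S ⋯ ×_S X ⟶ Y is a quotient by the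
symmetric group on d letters permuting the factors (affine, invariant, sections of O_Y = invariant
sections) and q ≫ g is the structure map of the fibre power. Then Y is covered by affine opens of
the form Sym^d(U/V) with V in the given cover: for every point y of Y there are V ∈ 𝒮 and an affine
open U ⊆ f⁻¹V of X such that the open W = ⋂_i pr_i⁻¹ U of the fibre power (the fibre power of U over
V) is affine and stable under every permutation of the factors, and an affine open W' of Y
containing y with q⁻¹ W' = W. (The published statement also fixes an affine open cover of X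
subordinate to the cover of S, in which any d points over a common point of a member V lie in a
common member mapping into V, and concludes that the corresponding opens Sym^d(U/V) cover Y; this
row states the pointwise form, producing U for each y.) -/
theorem result {X S Y : Scheme.{u}} (f : X ⟶ S) (hAF : SymProd.IsAF f)
    (𝒮 : Set S.Opens) (h𝒮 : ∀ V ∈ 𝒮, IsAffineOpen V) (hcov : ∀ s : S, ∃ V ∈ 𝒮, s ∈ V)
    (d : ℕ) (hd : 0 < d) (q : SymProd.fibPow f d ⟶ Y) (g : Y ⟶ S) (hq : SymProd.IsSymProd f d q g) (y : Y) :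
    ∃ V ∈ 𝒮, ∃ U : X.Opens, IsAffineOpen U ∧ U ≤ f ⁻¹ᵁ V ∧
      ∃ W : (SymProd.fibPow f d).Opens,
        (W : Set ↥(SymProd.fibPow f d)) =
          ⋂ i : Fin d, (WidePullback.π (fun _ : Fin d => f) i).base ⁻¹' (U : Set X) ∧
        IsAffineOpen W ∧ (∀ σ : Equiv.Perm (Fin d), (SymProd.permHom f d σ) ⁻¹ᵁ W = W) ∧
        ∃ W' : Y.Opens, y ∈ W' ∧ IsAffineOpen W' ∧ q ⁻¹ᵁ W' = W := by
  classical
  have hQ := hq.isQuot
  obtain ⟨hsurj, -, -⟩ := Groth.Agent.S2908.result (permActU f d) q hQ
  obtain ⟨x, rfl⟩ := hsurj y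
  let b : fibPow f d ⟶ S := WidePullback.base _
  let π : ∀ i : Fin d, fibPow f d ⟶ X := fun i => WidePullback.π _ i
  have hπb : ∀ i, π i ≫ f = b := fun i => WidePullback.π_arrow _ i
  obtain ⟨V, hV𝒮, hsV⟩ := hcov (b.base x)
  have hV : IsAffineOpen V := h𝒮 V hV𝒮
  let T : Finset X := Finset.univ.image (fun i => (π i).base x)
  obtain ⟨U₀, hU₀, hTU⟩ := hAF (b.base x) T (by
    intro y hy
    obtain ⟨i, -, rfl⟩ := Finset.mem_image.1 hy
    rw [← hπb i]; rfl)
  obtain ⟨g₀, hgW, hTg⟩ := Groth.Agent.S13602.exists_basicOpen_le_of_finset hU₀ (f ⁻¹ᵁ V) T hTU (by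
    intro y hy
    obtain ⟨i, -, rfl⟩ := Finset.mem_image.1 hy
    change f.base ((π i).base x) ∈ V
    have : f.base ((π i).base x) = b.base x := by rw [← hπb i]; rfl
    rw [this]; exact hsV)
  have hU' : IsAffineOpen (X.basicOpen g₀) := hU₀.basicOpen g₀
  have hTg' : ∀ i, (π i).base x ∈ X.basicOpen g₀ := fun i =>
    hTg _ (Finset.mem_image.2 ⟨i, Finset.mem_univ _, rfl⟩)
  let W : (fibPow f d).Opens := ⟨⋂ i : Fin d, (π i).base ⁻¹' (X.basicOpen g₀ : Set X),
    isOpen_iInter_of_finite fun i => (X.basicOpen g₀).isOpen.preimage (π i).continuous⟩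
  have hW : ∀ y, y ∈ W ↔ ∀ i, (π i).base y ∈ X.basicOpen g₀ := fun y => by
    change y ∈ ⋂ i : Fin d, (π i).base ⁻¹' (X.basicOpen g₀ : Set X) ↔ _
    simp
  have hWO : ∀ y, y ∈ W ↔ (b.base y ∈ V ∧ ∀ i, (π i).base y ∈ X.basicOpen g₀) := by
    intro y
    rw [hW]
    refine ⟨fun h => ⟨?_, h⟩, fun h => h.2⟩
    have h0 := hgW (h ⟨0, hd⟩)
    have : b.base y = f.base ((π ⟨0, hd⟩).base y) := by rw [← hπb ⟨0, hd⟩]; rfl
    rw [this]; exact h0
  have hWaff : IsAffineOpen W :=
    Groth.Agent.Lib.Helper61.FibPowAffine.isAffineOpen_fibPow f d V hV _ hU' hgW W hWO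
  have hstab : ∀ (σ : Equiv.Perm (Fin d)) (y : fibPow f d), y ∈ W → (permHom f d σ).base y ∈ W := by
    intro σ y hy
    rw [hW] at hy ⊢
    intro i
    have : (π i).base ((permHom f d σ).base y) = (π (σ.symm i)).base y := by
      rw [← Scheme.Hom.comp_apply, permHom_π]
    rw [this]; exact hy _
  refine ⟨V, hV𝒮, X.basicOpen g₀, hU', hgW, W, rfl, hWaff, ?_, ?_⟩
  · intro σ
    apply le_antisymm
    · intro y hy
      have h1 := hstab σ⁻¹ _ hy
      have h2 : (permHom f d σ⁻¹).base ((permHom f d σ).base y) = y := by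
        rw [← Scheme.Hom.comp_apply, ← permHom_mul, inv_mul_cancel, permHom_one]; rfl
      rwa [h2] at h1
    · intro y hy
      exact hstab σ y hy
  · obtain ⟨W', hW'⟩ := Groth.Agent.Lib.Helper79.QuotGlueF.exists_opens_preimage_eq
      (permActU f d) q hQ W (fun σ y hy => hstab σ.down y hy)
    refine ⟨W', ?_, ?_, hW'⟩
    · change x ∈ q ⁻¹ᵁ W'
      rw [hW', hW]; exact hTg'
    · apply Groth.Agent.Lib.Helper61.FibPowAffine.isAffineOpen_of_isQuot (permActU f d) q hQ W'
      rw [hW']; exact hWaff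

end Groth.Agent.S13605
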