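import Groth.Statements.S13608
import Groth.Agent.Lib.Helper44.AdicRetract
import Mathlib.RingTheory.AdicCompletion.Completeness

set_option autoImplicit false
universe u v
open CAlg

namespace Groth.Agent.S13608

/-- Let A be a commutative ring, I a finitely generated ideal of A and (M_n) an inverse system of
A-modules with transition maps f_n : M_(n+1) → M_n such that I^(n+1) M_n = 0 for every n. If L is an
inverse limit of the system (projections π_n compatible with the f_n, jointly injective, and such
that every compatible family of elements lifts to L), then L is complete and separated for the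
I-adic topology. No surjectivity of the transition maps is assumed. -/
theorem result
    (A : Type u) [CommRing A] (I : Ideal A) (hI : I.FG)
    (M : ℕ → Type v) [∀ n, AddCommGroup (M n)] [∀ n, Module A (M n)]
    (f : ∀ n, M (n + 1) →ₗ[A] M n)
    (hkill : ∀ n, I ^ (n + 1) • (⊤ : Submodule A (M n)) = ⊥)
    (L : Type v) [AddCommGroup L] [Module A L] (π : ∀ n, L →ₗ[A] M n)
    (hπ : ∀ n, f n ∘ₗ π (n + 1) = π n)
    (hinj : ∀ x : L, (∀ n, π n x = 0) → x = 0)
    (hlift : ∀ y : (∀ n, M n), (∀ n, f n (y (n + 1)) = y n) → ∃ x : L, ∀ n, π n x = y n) :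
    IsAdicComplete I L := by
  classical
  have hker : ∀ n, (I ^ (n + 1) • ⊤ : Submodule A L) ≤ LinearMap.ker (π n) := by
    intro n
    rw [Submodule.smul_le]
    intro r hr x _
    rw [LinearMap.mem_ker, map_smul]
    have h1 : r • π n x ∈ (I ^ (n + 1) • ⊤ : Submodule A (M n)) :=
      Submodule.smul_mem_smul hr trivial
    rw [hkill n] at h1
    exact (Submodule.mem_bot A).1 h1
  let ρn : ∀ n, AdicCompletion I L →ₗ[A] M n := fun n =>
    (Submodule.liftQ _ (π n) (hker n)) ∘ₗ AdicCompletion.eval I L (n + 1)
  have hcompat : ∀ (x : AdicCompletion I L) (n : ℕ), f n (ρn (n + 1) x) = ρn n x := by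
    intro x n
    show f n (Submodule.liftQ _ (π (n + 1)) (hker (n + 1)) (AdicCompletion.eval I L (n + 1 + 1) x)) =
      Submodule.liftQ _ (π n) (hker n) (AdicCompletion.eval I L (n + 1) x)
    have h1 := AdicCompletion.transitionMap_comp_eval_apply (I := I) (M := L) (Nat.le_succ (n + 1)) x
    rw [AdicCompletion.eval_apply, AdicCompletion.eval_apply, ← h1]
    obtain ⟨y, hy⟩ := Submodule.mkQ_surjective _ (x.val (n + 1).succ)
    rw [← hy]
    show f n (π (n + 1) y) = π n y
    rw [← hπ n]
    rfl
  have hex : ∀ x : AdicCompletion I L, ∃ l : L, ∀ n, π n l = ρn n x :=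
    fun x => hlift (fun n => ρn n x) (hcompat x)
  choose ρ hρ using hex
  have huniq : ∀ a b : L, (∀ n, π n a = π n b) → a = b := by
    intro a b h
    have := hinj (a - b) (fun n => by rw [map_sub, h n, sub_self])
    exact sub_eq_zero.1 this
  let ρl : AdicCompletion I L →ₗ[A] L :=
    { toFun := ρ
      map_add' := fun x y => huniq _ _ fun n => by rw [hρ, map_add, map_add, hρ, hρ]
      map_smul' := fun r x => huniq _ _ fun n => by
        rw [hρ, map_smul, RingHom.id_apply, map_smul, hρ] }
  have hret : ∀ x : L, ρl (AdicCompletion.of I L x) = x := by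
    intro x
    apply huniq
    intro n
    show π n (ρ _) = _
    rw [hρ]
    show Submodule.liftQ _ (π n) (hker n) (AdicCompletion.eval I L (n + 1) (AdicCompletion.of I L x)) = _
    rw [AdicCompletion.eval_of]
    rfl
  have := AdicCompletion.isAdicComplete (I := I) (M := L) hI
  exact Groth.Agent.Lib.Helper44.AdicRetract.isAdicComplete_of_retract I (AdicCompletion.of I L) ρl hret

end Groth.Agent.S13608
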