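import Groth.Statements.S13621
import Mathlib.CategoryTheory.Limits.Preserves.FunctorCategory
import Mathlib.CategoryTheory.Limits.Preserves.Shapes.Kernels
import Mathlib.CategoryTheory.Adjunction.Limits
import Mathlib.CategoryTheory.Limits.ConeCategory
-- import your own Groth.Agent.* helpers here

set_option autoImplicit false
open CategoryTheory CategoryTheory.Limits Opposite
universe v u
open ARSys

namespace Groth.Agent.S13621

section Helpers

variable {C : Type u} [Category.{v} C]

/-- the canonical map `X[r] ⟶ X` -/
def sigma (X : ARSys.PS C) (r : ℕ) : (ARSys.shift C r).obj X ⟶ X where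
  app n := ARSys.shiftMap X r n.unop
  naturality := by
    intro n m f
    change X.map _ ≫ X.map _ = X.map _ ≫ X.map _
    rw [← X.map_comp, ← X.map_comp]
    congr 1

theorem sigma_naturality {X Y : ARSys.PS C} (f : X ⟶ Y) (r : ℕ) :
    (ARSys.shift C r).map f ≫ sigma Y r = sigma X r ≫ f := by
  ext n
  exact (f.naturality (homOfLE (Nat.le_add_right n.unop r)).op).symm

theorem isARNull_iff [HasZeroMorphisms C] (K : ARSys.PS C) :
    ARSys.IsARNull K ↔ ∃ r, sigma K r = 0 := by
  constructor
  · rintro ⟨r, hr⟩
    exact ⟨r, by ext n; exact hr n.unop⟩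
  · rintro ⟨r, hr⟩
    exact ⟨r, fun n => congrArg (fun t => NatTrans.app t (op n)) hr⟩

theorem isIso_limMap_sigma [HasLimitsOfShape ℕᵒᵖ C] (X : ARSys.PS C) (r : ℕ) :
    IsIso (limMap (sigma X r)) := by
  let c : Cone ((ARSys.shift C r).obj X) :=
    { pt := limit X
      π :=
        { app := fun n => limit.π X (op (n.unop + r))
          naturality := by
            intro n m f
            simp only [Functor.const_obj_obj, Functor.const_obj_map, Category.id_comp]
            exact (limit.w X ((ARSys.addF r).op.map f)).symm } }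
  refine ⟨limit.lift _ c, ?_, ?_⟩
  · apply limit.hom_ext
    intro n
    rw [Category.assoc, limit.lift_π, Category.id_comp]
    change limMap (sigma X r) ≫ limit.π X (op (n.unop + r)) = _
    rw [limMap_π]
    change limit.π _ (op (n.unop + r)) ≫ ((ARSys.shift C r).obj X).map
      (homOfLE (Nat.le_add_right n.unop r)).op = _
    exact limit.w _ _
  · apply limit.hom_ext
    intro n
    rw [Category.assoc, limMap_π, ← Category.assoc, limit.lift_π, Category.id_comp]
    exact limit.w X (homOfLE (Nat.le_add_right n.unop r)).op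

section Ab

variable [Abelian C] [HasLimitsOfShape ℕᵒᵖ C]

theorem limMap_comp' {X Y Z : ARSys.PS C} (f : X ⟶ Y) (g : Y ⟶ Z) :
    limMap (f ≫ g) = limMap f ≫ limMap g := by
  rw [← lim_map, ← lim_map, ← lim_map, Functor.map_comp]

theorem isZero_limit_of_isARNull (K : ARSys.PS C) (h : ARSys.IsARNull K) : IsZero (limit K) := by
  obtain ⟨r, hr⟩ := h
  rw [IsZero.iff_id_eq_zero]
  apply limit.hom_ext
  intro n
  rw [Category.id_comp, zero_comp, ← limit.w K (homOfLE (Nat.le_add_right n.unop r)).op]
  have := hr n.unop
  change K.map (homOfLE (Nat.le_add_right n.unop r)).op = 0 at this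
  rw [this, comp_zero]

instance : (lim : (ℕᵒᵖ ⥤ C) ⥤ C).PreservesZeroMorphisms :=
  ⟨fun X Y => by apply limit.hom_ext; intro n; simp⟩

theorem mono_limMap_of_isARNull_kernel {X Y : ARSys.PS C} (f : X ⟶ Y)
    (h : ARSys.IsARNull (kernel f)) : Mono (limMap f) := by
  rw [← lim_map]
  haveI : PreservesLimitsOfSize.{0, 0} (lim : (ℕᵒᵖ ⥤ C) ⥤ C) :=
    (constLimAdj (J := ℕᵒᵖ) (C := C)).rightAdjoint_preservesLimits
  apply Preadditive.mono_of_kernel_zero
  rw [← PreservesKernel.iso_inv_ι lim f]
  have hz : IsZero (lim.obj (kernel f)) := isZero_limit_of_isARNull _ h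
  rw [hz.eq_of_src (lim.map (kernel.ι f)) 0, comp_zero]

theorem isIso_limMap_of_mono {X Y : ARSys.PS C} (f : X ⟶ Y) [Mono f] (s : ℕ)
    (hs : sigma Y s ≫ cokernel.π f = 0) : IsIso (limMap f) := by
  have ha : Abelian.monoLift f (sigma Y s) hs ≫ f = sigma Y s := Abelian.monoLift_comp f _ hs
  have h1 : limMap (Abelian.monoLift f (sigma Y s) hs) ≫ limMap f = limMap (sigma Y s) := by
    rw [← limMap_comp', ha]
  haveI := isIso_limMap_sigma Y s
  haveI : Epi (limMap f) := epi_of_epi_fac h1
  haveI : PreservesLimitsOfSize.{0, 0} (lim : (ℕᵒᵖ ⥤ C) ⥤ C) :=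
    (constLimAdj (J := ℕᵒᵖ) (C := C)).rightAdjoint_preservesLimits
  haveI : Mono (limMap f) := by
    rw [← lim_map]; infer_instance
  exact isIso_of_mono_of_epi _

instance (r : ℕ) : (ARSys.shift C r).PreservesZeroMorphisms :=
  ⟨fun X Y => by ext n; rfl⟩

theorem epi_limMap_of_epi {X Y : ARSys.PS C} (f : X ⟶ Y) [Epi f] (r : ℕ)
    (hr : (ARSys.shift C r).map (kernel.ι f) ≫ sigma X r = 0) : Epi (limMap f) := by
  haveI : PreservesColimitsOfShape WalkingSpan (ARSys.shift C r) := by
    unfold ARSys.shift; infer_instance
  haveI : PreservesLimitsOfShape WalkingParallelPair (ARSys.shift C r) := by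
    unfold ARSys.shift; infer_instance
  haveI : Epi ((ARSys.shift C r).map f) := inferInstance
  have h0 : kernel.ι ((ARSys.shift C r).map f) ≫ sigma X r = 0 := by
    rw [← PreservesKernel.iso_inv_ι (ARSys.shift C r) f, Category.assoc, hr, comp_zero]
  have hb : (ARSys.shift C r).map f ≫ Abelian.epiDesc ((ARSys.shift C r).map f) (sigma X r) h0 =
      sigma X r := Abelian.comp_epiDesc _ _ h0
  have hbf : Abelian.epiDesc ((ARSys.shift C r).map f) (sigma X r) h0 ≫ f = sigma Y r := by
    rw [← cancel_epi ((ARSys.shift C r).map f), ← Category.assoc, hb, sigma_naturality]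
  have h1 : limMap (Abelian.epiDesc ((ARSys.shift C r).map f) (sigma X r) h0) ≫ limMap f =
      limMap (sigma Y r) := by
    rw [← limMap_comp', hbf]
  haveI := isIso_limMap_sigma Y r
  exact epi_of_epi_fac h1

end Ab

end Helpers

/-- The inverse limit is a well-defined functor on projective systems up to translation. Concretely: in
an abelian category with limits of shape ℕᵒᵖ, a morphism u : X ⟶ Y of projective systems indexed by
the natural numbers whose kernel and cokernel are null up to translation induces an isomorphism lim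
X ⟶ lim Y. (The published statement is the functoriality of lim on the category of systems up to
translation; combined with the description of isomorphisms there as the morphisms with null kernel
and cokernel, this is the form stated.) -/
theorem result {C : Type u} [Category.{v} C] [Abelian C] [HasLimitsOfShape ℕᵒᵖ C]
    {X Y : ARSys.PS C} (u : X ⟶ Y) (hu : ARSys.IsARIso u) : IsIso (limMap u) := by
  obtain ⟨hK, hQ⟩ := hu
  have fac : Abelian.factorThruImage u ≫ Abelian.image.ι u = u := Abelian.image.fac u
  haveI hmono_u : Mono (limMap u) := mono_limMap_of_isARNull_kernel u hK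
  obtain ⟨s, hs⟩ := (isARNull_iff _).1 hQ
  obtain ⟨r, hr⟩ := (isARNull_iff _).1 hK
  haveI hi : IsIso (limMap (Abelian.image.ι u)) := by
    apply isIso_limMap_of_mono (Abelian.image.ι u) s
    have h0 : u ≫ cokernel.π (Abelian.image.ι u) = 0 := by
      have : (Abelian.factorThruImage u ≫ Abelian.image.ι u) ≫ cokernel.π (Abelian.image.ι u) = 0 := by
        rw [Category.assoc, cokernel.condition, comp_zero]
      rwa [fac] at this
    have h1 : cokernel.π u ≫ cokernel.desc u (cokernel.π (Abelian.image.ι u)) h0 =
        cokernel.π (Abelian.image.ι u) := cokernel.π_desc _ _ _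
    have h2 : sigma Y s ≫ cokernel.π u = 0 := by
      rw [← sigma_naturality, hs, comp_zero]
    rw [← h1, ← Category.assoc, h2, zero_comp]
  have hcomp : limMap (Abelian.factorThruImage u) ≫ limMap (Abelian.image.ι u) = limMap u := by
    rw [← limMap_comp', fac]
  haveI hp_epi : Epi (limMap (Abelian.factorThruImage u)) := by
    apply epi_limMap_of_epi (Abelian.factorThruImage u) r
    have h0 : kernel.ι (Abelian.factorThruImage u) ≫ u = 0 := by
      have : kernel.ι (Abelian.factorThruImage u) ≫
          (Abelian.factorThruImage u ≫ Abelian.image.ι u) = 0 := by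
        rw [← Category.assoc, kernel.condition, zero_comp]
      rwa [fac] at this
    have h1 : kernel.lift u (kernel.ι (Abelian.factorThruImage u)) h0 ≫ kernel.ι u =
        kernel.ι (Abelian.factorThruImage u) := kernel.lift_ι _ _ _
    rw [← h1, Functor.map_comp, Category.assoc, sigma_naturality, hr, zero_comp, comp_zero]
  haveI hp_mono : Mono (limMap (Abelian.factorThruImage u)) := by
    haveI : Mono (limMap (Abelian.factorThruImage u) ≫ limMap (Abelian.image.ι u)) := by
      rw [hcomp]; exact hmono_u
    exact mono_of_mono _ (limMap (Abelian.image.ι u))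
  haveI hp : IsIso (limMap (Abelian.factorThruImage u)) := isIso_of_mono_of_epi _
  rw [← hcomp]
  infer_instance

end Groth.Agent.S13621
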