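import Groth.Statements.S13622
import Mathlib
import Groth.Agent.Lib.Helper83.ArtinFlat
import Groth.Agent.Lib.Helper83.AdicConv

set_option autoImplicit false
universe u v
open CAlg

namespace Groth.Agent.S13622

/-- Let A be a commutative ring, I a finitely generated ideal and (M_n) an inverse system of finitely
generated A-modules whose transition maps f_n : M_(n+1) → M_n are surjective with kernel I^(n+1)
M_(n+1), and with I^(n+1) M_n = 0 for all n. If L is an inverse limit of the system (projections π_n
compatible with the f_n, jointly injective, every compatible family lifting to L), endowed with a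
module structure over the I-adic completion A^ of A that is compatible with its A-module structure,
then L is finitely generated as an A^-module. No completeness of A is assumed. -/
theorem result
    (A : Type u) [CommRing A] (I : Ideal A) (hI : I.FG)
    (M : ℕ → Type v) [∀ n, AddCommGroup (M n)] [∀ n, Module A (M n)] [∀ n, Module.Finite A (M n)]
    (f : ∀ n, M (n + 1) →ₗ[A] M n) (hf : ∀ n, Function.Surjective (f n))
    (hker : ∀ n, LinearMap.ker (f n) = I ^ (n + 1) • (⊤ : Submodule A (M (n + 1))))
    (hkill : ∀ n, I ^ (n + 1) • (⊤ : Submodule A (M n)) = ⊥)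
    (L : Type v) [AddCommGroup L] [Module A L] (π : ∀ n, L →ₗ[A] M n)
    (hπ : ∀ n, f n ∘ₗ π (n + 1) = π n)
    (hinj : ∀ x : L, (∀ n, π n x = 0) → x = 0)
    (hlift : ∀ y : (∀ n, M n), (∀ n, f n (y (n + 1)) = y n) → ∃ x : L, ∀ n, π n x = y n)
    [Module (AdicCompletion I A) L] [IsScalarTower A (AdicCompletion I A) L] :
    Module.Finite (AdicCompletion I A) L := by
  classical
  have hcompl : IsAdicComplete I (AdicCompletion I A) := AdicCompletion.isAdicComplete hI
  have hcompl' : IsAdicComplete (I.map (algebraMap A (AdicCompletion I A)))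
      (AdicCompletion I A) :=
    (IsAdicComplete.map_algebraMap_iff (S := AdicCompletion I A) I (AdicCompletion I A)).mpr hcompl
  have hprec : IsPrecomplete (I.map (algebraMap A (AdicCompletion I A))) (AdicCompletion I A) :=
    hcompl'.toIsPrecomplete
  -- (1) `π 0` is surjective
  have hπ0 : Function.Surjective (π 0) := by
    intro g
    let y : ∀ n, M n := fun n => Nat.rec (motive := fun n => M n) g
      (fun n yn => (hf n yn).choose) n
    have hy : ∀ n, f n (y (n + 1)) = y n := fun n => (hf n (y n)).choose_spec
    obtain ⟨x, hx⟩ := hlift y hy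
    exact ⟨x, hx 0⟩
  have hπf : ∀ n (z : L), f n (π (n + 1) z) = π n z := fun n z => by
    rw [← hπ n]; rfl
  -- (2) generators
  obtain ⟨s, hs⟩ := (Module.Finite.fg_top : (⊤ : Submodule A (M 0)).FG)
  let x : s → L := fun i => (hπ0 i.1).choose
  have hx0 : ∀ i : s, π 0 (x i) = i.1 := fun i => (hπ0 i.1).choose_spec
  -- (3) images generate each `M n`
  have hgen : ∀ n, Submodule.span A (Set.range fun i : s => π n (x i)) = ⊤ := by
    intro n
    induction n with
    | zero =>
      have : (Set.range fun i : s => π 0 (x i)) = (s : Set (M 0)) := by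
        ext z
        constructor
        · rintro ⟨i, rfl⟩
          change π 0 (x i) ∈ (s : Set (M 0))
          rw [hx0]; exact i.2
        · intro hz
          exact ⟨⟨z, hz⟩, hx0 _⟩
      rw [this, hs]
    | succ n ih =>
      set S := Submodule.span A (Set.range fun i : s => π (n + 1) (x i)) with hS
      have hmap : S.map (f n) = ⊤ := by
        rw [hS, Submodule.map_span, ← Set.range_comp, ← ih]
        congr 2
        funext i
        exact hπf n (x i)
      have h1 : (⊤ : Submodule A (M (n + 1))) ≤ S ⊔ I • ⊤ := by
        have h2 : S ⊔ LinearMap.ker (f n) = ⊤ := by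
          rw [← Submodule.comap_map_eq, hmap, Submodule.comap_top]
        refine le_trans (le_of_eq h2.symm) ?_
        rw [hker n]
        exact sup_le_sup le_rfl
          (Submodule.smul_mono (Ideal.pow_le_self (Nat.succ_ne_zero n)) le_rfl)
      have h3 := Groth.Agent.Lib.Helper83.ArtinFlat.le_sup_pow_smul_of_le_sup_smul I S ⊤ h1
        (n + 1 + 1)
      rw [hkill (n + 1), sup_bot_eq] at h3
      exact top_le_iff.mp h3
  -- (4) compatibility of the `Â`-action with `π n`
  have hI1 : ∀ n (a' : AdicCompletion I A) (y : L),
      a' ∈ (I ^ (n + 1) • ⊤ : Submodule A (AdicCompletion I A)) → π n (a' • y) = 0 := by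
    intro n a' y ha'
    refine Submodule.smul_induction_on ha' ?_ ?_
    · intro c hc e _
      rw [smul_assoc, map_smul]
      have : c • π n (e • y) ∈ (I ^ (n + 1) • ⊤ : Submodule A (M n)) :=
        Submodule.smul_mem_smul hc Submodule.mem_top
      rw [hkill n] at this
      exact (Submodule.mem_bot A).mp this
    · intro u v hu hv
      rw [add_smul, map_add, hu, hv, add_zero]
  have hI2 : ∀ n (a' : AdicCompletion I A) (y : L), ∃ a : A, π n (a' • y) = a • π n y := by
    intro n a' y
    obtain ⟨a, ha⟩ := Submodule.mkQ_surjective _ (AdicCompletion.eval I A (n + 1) a')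
    refine ⟨a, ?_⟩
    have h1 : a' - AdicCompletion.of I A a ∈
        (I ^ (n + 1) • ⊤ : Submodule A (AdicCompletion I A)) := by
      rw [AdicCompletion.pow_smul_top_eq_ker_eval hI, LinearMap.mem_ker, map_sub,
        AdicCompletion.eval_of, ← ha, Submodule.mkQ_apply, sub_self]
    have h2 := hI1 n _ y h1
    rw [sub_smul, map_sub, sub_eq_zero] at h2
    rw [h2]
    have : AdicCompletion.of I A a • y = a • y := by
      rw [← algebraMap_smul (AdicCompletion I A) a y]
      rfl
    rw [this, map_smul]
  -- (5) the filtration
  let Nn : ℕ → Submodule (AdicCompletion I A) L := fun n =>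
    { carrier := {y | ∀ k, k < n → π k y = 0}
      add_mem' := fun {u v} hu hv k hk => by rw [map_add, hu k hk, hv k hk, add_zero]
      zero_mem' := fun k _ => map_zero _
      smul_mem' := fun a' y hy k hk => by
        obtain ⟨a, ha⟩ := hI2 k a' y
        rw [ha, hy k hk, smul_zero] }
  have hNmem : ∀ n y, y ∈ Nn n ↔ ∀ k, k < n → π k y = 0 := fun n y => Iff.rfl
  have hstepI : ∀ i (c : A), c ∈ I → ∀ y, y ∈ Nn i → π i (c • y) = 0 := by
    intro i c hc y hy
    rw [map_smul]
    have h1 : π i y ∈ (I ^ i • ⊤ : Submodule A (M i)) := by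
      cases i with
      | zero => rw [pow_zero, Ideal.one_eq_top, Submodule.top_smul]; exact Submodule.mem_top
      | succ j =>
        have hk : π j y = 0 := hy j (Nat.lt_succ_self j)
        rw [← hker j, LinearMap.mem_ker, hπf, hk]
    have h2 : c • π i y ∈ (I ^ (i + 1) • ⊤ : Submodule A (M i)) := by
      rw [pow_succ', ← smul_eq_mul, Submodule.smul_assoc]
      exact Submodule.smul_mem_smul hc h1
    rw [hkill i] at h2
    exact (Submodule.mem_bot A).mp h2
  let F : (I.map (algebraMap A (AdicCompletion I A))).Filtration L :=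
    { N := Nn
      mono := fun i y hy k hk => hy k (Nat.lt_succ_of_lt hk)
      smul_le := fun i => by
        rw [Submodule.smul_le]
        intro b hb y hy
        refine Submodule.span_induction (p := fun b _ => b • y ∈ Nn (i + 1)) ?_ ?_ ?_ ?_ hb
        · rintro _ ⟨c, hc, rfl⟩
          intro k hk
          rw [algebraMap_smul]
          rcases Nat.lt_succ_iff_lt_or_eq.mp hk with hlt | rfl
          · rw [map_smul, hy k hlt, smul_zero]
          · exact hstepI k c hc y hy
        · rw [zero_smul]; exact Submodule.zero_mem _
        · intro u v _ _ hu hv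
          rw [add_smul]; exact Submodule.add_mem _ hu hv
        · intro e u _ hu
          rw [smul_eq_mul, mul_smul]
          exact Submodule.smul_mem _ e hu }
  have hsep : ⨅ n, F.N n = ⊥ := by
    rw [eq_bot_iff]
    intro y hy
    rw [Submodule.mem_iInf] at hy
    rw [Submodule.mem_bot]
    exact hinj y (fun n => hy (n + 1) n (Nat.lt_succ_self n))
  have hstep : ∀ n (m : L), True → m ∈ F.N n → ∃ a : s → AdicCompletion I A,
      (∀ i, a i ∈ (I.map (algebraMap A (AdicCompletion I A))) ^ (n - 0)) ∧
      True ∧ m - ∑ i, a i • x i ∈ F.N (n + 1) := by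
    intro n m _ hm
    have hm' : ∀ k, k < n → π k m = 0 := hm
    have h1 : π n m ∈ (I ^ n • ⊤ : Submodule A (M n)) := by
      cases n with
      | zero => rw [pow_zero, Ideal.one_eq_top, Submodule.top_smul]; exact Submodule.mem_top
      | succ j =>
        rw [← hker j, LinearMap.mem_ker, hπf, hm' j (Nat.lt_succ_self j)]
    rw [← hgen n, Submodule.mem_ideal_smul_span_iff_exists_sum] at h1
    obtain ⟨b, hb, hsum⟩ := h1
    have hsum' : ∑ i, b i • π n (x i) = π n m := by
      rw [← hsum, Finsupp.sum_fintype]
      intro i
      exact zero_smul _ _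
    refine ⟨fun i => algebraMap A (AdicCompletion I A) (b i), fun i => ?_, trivial, ?_⟩
    · rw [Nat.sub_zero, ← Ideal.map_pow]
      exact Ideal.mem_map_of_mem _ (hb i)
    · intro k hk
      have hrew : ∀ i, algebraMap A (AdicCompletion I A) (b i) • x i = b i • x i :=
        fun i => algebraMap_smul _ _ _
      simp only [hrew]
      rw [map_sub, map_sum]
      simp only [map_smul]
      rcases Nat.lt_succ_iff_lt_or_eq.mp hk with hlt | rfl
      · rw [hm' k hlt, zero_sub, neg_eq_zero]
        apply Finset.sum_eq_zero
        intro i _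
        have h2 : b i • π k (x i) ∈ (I ^ (k + 1) • ⊤ : Submodule A (M k)) :=
          Submodule.smul_mem_smul (Ideal.pow_le_pow_right (by omega) (hb i)) Submodule.mem_top
        rw [hkill k] at h2
        exact (Submodule.mem_bot A).mp h2
      · rw [hsum', sub_self]
  have key := Groth.Agent.Lib.Helper83.exists_eq_sum_of_step F hsep (fun _ : s => 0) x
    (fun i k hk => absurd hk (Nat.not_lt_zero k)) (fun _ => True) hstep
  refine ⟨⟨Finset.univ.image x, ?_⟩⟩
  rw [eq_top_iff]
  intro m _
  obtain ⟨a, -, ha⟩ := key 0 m trivial (fun k hk => absurd hk (Nat.not_lt_zero k))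
  rw [ha]
  refine Submodule.sum_mem _ (fun i _ => Submodule.smul_mem _ _ (Submodule.subset_span ?_))
  exact Finset.mem_coe.mpr (Finset.mem_image_of_mem x (Finset.mem_univ i))

end Groth.Agent.S13622
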