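import Groth.Statements.S13623
import Mathlib

set_option autoImplicit false
universe u
open TensorProduct
open CAlg


namespace Groth.Agent.S13623

open TensorProduct

theorem decompose_mem_adjoin {A B : Type u} [CommRing A] [CommRing B] [Algebra A B]
    (𝒜 : ℕ → Submodule A B) [GradedAlgebra 𝒜] (n : ℕ) (c : B)
    (hc : c ∈ Algebra.adjoin A (𝒜 1 : Set B)) :
    ((DirectSum.decompose 𝒜 c) n : B) ∈ Algebra.adjoin A (𝒜 1 : Set B) := by
  classical
  rw [← Subalgebra.mem_toSubmodule, Algebra.adjoin_eq_span] at hc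
  induction hc using Submodule.span_induction with
  | mem x hx =>
    have hx' : x ∈ Algebra.adjoin A (𝒜 1 : Set B) := by
      rw [← Subalgebra.mem_toSubmodule, Algebra.adjoin_eq_span]
      exact Submodule.subset_span hx
    have hhom : ∃ l, x ∈ 𝒜 l := by
      clear hx'
      induction hx using Submonoid.closure_induction with
      | mem y hy => exact ⟨1, hy⟩
      | one => exact ⟨0, SetLike.GradedOne.one_mem⟩
      | mul y z _ _ hy hz =>
        obtain ⟨l, hl⟩ := hy
        obtain ⟨l', hl'⟩ := hz
        exact ⟨l + l', SetLike.GradedMul.mul_mem hl hl'⟩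
    obtain ⟨l, hl⟩ := hhom
    by_cases hln : l = n
    · subst hln
      rw [DirectSum.decompose_of_mem_same 𝒜 hl]
      exact hx'
    · rw [DirectSum.decompose_of_mem_ne 𝒜 hl hln]
      exact Subalgebra.zero_mem _
  | zero => simp
  | add x y _ _ hx hy =>
    rw [DirectSum.decompose_add, DirectSum.add_apply, Submodule.coe_add]
    exact Subalgebra.add_mem _ hx hy
  | smul a x _ hx =>
    rw [DirectSum.decompose_smul, DirectSum.smul_apply, Submodule.coe_smul]
    exact Subalgebra.smul_mem _ hx a

theorem nontrivial_tensor_field {K L V : Type u} [Field K] [Field L] [Algebra K L]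
    [AddCommGroup V] [Module K V] [Nontrivial V] : Nontrivial (L ⊗[K] V) := by
  have hff : Module.FaithfullyFlat K L := inferInstance
  exact Module.FaithfullyFlat.lTensor_nontrivial _ _ _

end Groth.Agent.S13623

namespace Groth.Agent.S13623

/-- Let A be a commutative ring and B a commutative A-algebra, graded by A-submodules B_m (m ≥ 0)
forming a graded-algebra structure, such that every B_m is a finitely generated A-module. If for
every algebraically closed field k and every A-algebra structure on k the k-algebra k ⊗_A B is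
generated by the image of B_1 under b ↦ 1 ⊗ b, then its degree-one part B_1 generates the A-algebra
B. (Algebraically closed fields are taken in the universe of A.) -/
theorem result
    (A : Type u) [CommRing A] (B : Type u) [CommRing B] [Algebra A B]
    (𝒜 : ℕ → Submodule A B) [GradedAlgebra 𝒜]
    (hfin : ∀ m : ℕ, Module.Finite A (𝒜 m))
    (hgen : ∀ (k : Type u) [Field k] [IsAlgClosed k] [Algebra A k],
      Algebra.adjoin k ((Algebra.TensorProduct.includeRight : B →ₐ[A] k ⊗[A] B) '' (𝒜 1 : Set B)) = ⊤) :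
    Algebra.adjoin A (𝒜 1 : Set B) = ⊤ := by
  classical
  by_contra hne
  have hexn : ∃ n, ¬ ((𝒜 n : Set B) ⊆ (Algebra.adjoin A (𝒜 1 : Set B) : Set B)) := by
    by_contra hall
    push Not at hall
    apply hne
    rw [eq_top_iff]
    intro b _
    rw [← DirectSum.sum_support_decompose 𝒜 b]
    exact Subalgebra.sum_mem _ fun i _ => hall i (Submodule.coe_mem _)
  obtain ⟨n, hn⟩ := hexn
  obtain ⟨b₀, hb₀, hb₀C⟩ := Set.not_subset.1 hn
  let Cn : Submodule A (𝒜 n) :=
    (Subalgebra.toSubmodule (Algebra.adjoin A (𝒜 1 : Set B))).comap (𝒜 n).subtype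
  have hfinn : Module.Finite A (𝒜 n) := hfin n
  have hQne : Nontrivial ((𝒜 n) ⧸ Cn) := by
    rw [Submodule.Quotient.nontrivial_iff]
    intro htop
    have : (⟨b₀, hb₀⟩ : 𝒜 n) ∈ Cn := htop ▸ Submodule.mem_top
    exact hb₀C this
  let projn : B →ₗ[A] 𝒜 n :=
    (DirectSum.component A ℕ (fun i => 𝒜 i) n) ∘ₗ (DirectSum.decomposeLinearEquiv 𝒜).toLinearMap
  have hprojn : ∀ b, projn b = (DirectSum.decompose 𝒜 b) n := fun b => rfl
  let θ : B →ₗ[A] (𝒜 n) ⧸ Cn := Cn.mkQ ∘ₗ projn
  have hθsurj : Function.Surjective θ := by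
    intro q
    obtain ⟨b, rfl⟩ := Cn.mkQ_surjective q
    refine ⟨b, ?_⟩
    simp only [θ, LinearMap.comp_apply, hprojn]
    rw [DirectSum.decompose_coe, DirectSum.of_eq_same]
  have hθC : ∀ c ∈ Algebra.adjoin A (𝒜 1 : Set B), θ c = 0 := by
    intro c hc
    simp only [θ, LinearMap.comp_apply, hprojn, Submodule.mkQ_apply]
    rw [Submodule.Quotient.mk_eq_zero]
    exact Groth.Agent.S13623.decompose_mem_adjoin 𝒜 n c hc
  obtain ⟨p, hp⟩ : (Module.support A ((𝒜 n) ⧸ Cn)).Nonempty := by
    rw [Set.nonempty_iff_ne_empty, Ne, Module.support_eq_empty_iff]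
    exact not_subsingleton _
  have hnt : Nontrivial (p.asIdeal.ResidueField ⊗[A] ((𝒜 n) ⧸ Cn)) :=
    (Module.mem_support_iff_nontrivial_residueField_tensorProduct p).1 hp
  have hnt' : Nontrivial (AlgebraicClosure p.asIdeal.ResidueField ⊗[A] ((𝒜 n) ⧸ Cn)) := by
    have e := TensorProduct.AlgebraTensorModule.cancelBaseChange A p.asIdeal.ResidueField
      (AlgebraicClosure p.asIdeal.ResidueField) (AlgebraicClosure p.asIdeal.ResidueField)
      ((𝒜 n) ⧸ Cn)
    have hnt2 : Nontrivial (AlgebraicClosure p.asIdeal.ResidueField ⊗[p.asIdeal.ResidueField]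
        (p.asIdeal.ResidueField ⊗[A] ((𝒜 n) ⧸ Cn))) :=
      Groth.Agent.S13623.nontrivial_tensor_field
    exact e.symm.toEquiv.nontrivial
  have hsub : Subsingleton (AlgebraicClosure p.asIdeal.ResidueField ⊗[A] ((𝒜 n) ⧸ Cn)) := by
    have hk := hgen (AlgebraicClosure p.asIdeal.ResidueField)
    have hle : Algebra.adjoin (AlgebraicClosure p.asIdeal.ResidueField)
        ((Algebra.TensorProduct.includeRight :
          B →ₐ[A] AlgebraicClosure p.asIdeal.ResidueField ⊗[A] B) '' (𝒜 1 : Set B)) ≤
        (Algebra.TensorProduct.map (AlgHom.id (AlgebraicClosure p.asIdeal.ResidueField)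
          (AlgebraicClosure p.asIdeal.ResidueField))
          (Algebra.adjoin A (𝒜 1 : Set B)).val).range := by
      apply Algebra.adjoin_le
      rintro _ ⟨b, hb, rfl⟩
      exact ⟨1 ⊗ₜ ⟨b, Algebra.subset_adjoin hb⟩, by simp⟩
    rw [hk] at hle
    have hzero : ∀ z : AlgebraicClosure p.asIdeal.ResidueField ⊗[A] B,
        (LinearMap.lTensor (AlgebraicClosure p.asIdeal.ResidueField) θ) z = 0 := by
      intro z
      obtain ⟨w, rfl⟩ := hle (Algebra.mem_top : z ∈ ⊤)
      induction w using TensorProduct.induction_on with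
      | zero => simp
      | tmul c x =>
        simp only [AlgHom.toRingHom_eq_coe, RingHom.coe_coe, Algebra.TensorProduct.map_tmul,
          AlgHom.coe_id, id_eq, Subalgebra.coe_val, LinearMap.lTensor_tmul]
        rw [hθC x x.2, tmul_zero]
      | add a b ha hb =>
        rw [map_add, map_add, ha, hb, add_zero]
    have hs : Function.Surjective
        (LinearMap.lTensor (AlgebraicClosure p.asIdeal.ResidueField) θ) :=
      LinearMap.lTensor_surjective _ hθsurj
    constructor
    intro a b
    obtain ⟨a', rfl⟩ := hs a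
    obtain ⟨b', rfl⟩ := hs b
    rw [hzero, hzero]
  exact not_subsingleton _ hsub

end Groth.Agent.S13623
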