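import Groth.Statements.S13631
import Mathlib.LinearAlgebra.Matrix.Nondegenerate
import Mathlib.LinearAlgebra.FreeModule.Finite.Basic
import Mathlib.RingTheory.Noetherian.Basic
import Mathlib.LinearAlgebra.Quotient.Basic
import Mathlib.LinearAlgebra.FiniteDimensional.Basic
-- import your own Groth.Agent.* helpers here

set_option autoImplicit false
universe u v w
open CAlg

namespace Groth.Agent.S13631

/-- Let k be a field, R an integral domain which is a k-algebra of infinite dimension over k, M a finite
free R-module, σ a ring automorphism of R mapping the image of k onto itself, and φ : M → M a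
σ-semilinear map. If the cokernel of φ is finite-dimensional over k, in the sense that some finitely
generated k-subspace N of M satisfies M = N + φ(M), then φ is injective. -/
theorem result
    {k : Type u} {R : Type v} {M : Type w} [Field k] [CommRing R] [IsDomain R] [Algebra k R]
    (hR : ¬ Module.Finite k R)
    [AddCommGroup M] [Module R M] [Module k M] [IsScalarTower k R M]
    [Module.Finite R M] [Module.Free R M]
    (σ : R ≃+* R)
    (hσ : ∀ x : k, ∃ y : k, σ (algebraMap k R x) = algebraMap k R y)
    (hσ' : ∀ y : k, ∃ x : k, σ (algebraMap k R x) = algebraMap k R y)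
    (φ : M →ₛₗ[(σ : R →+* R)] M)
    (hcoker : ∃ N : Submodule k M, N.FG ∧ ∀ m : M, ∃ n ∈ N, ∃ m' : M, m = n + φ m') :
    Function.Injective φ := by
  classical
  obtain ⟨N, hNfg, hN⟩ := hcoker
  -- `range φ` is stable under `R`-scalars
  have hrange_smul : ∀ (r : R) (m : M), ∃ m' : M, φ m' = r • φ m := by
    intro r m
    refine ⟨σ.symm r • m, ?_⟩
    rw [map_smulₛₗ]
    simp
  -- `range φ` as a `k`-subspace
  let P : Submodule k M :=
    { carrier := Set.range φ
      add_mem' := by
        rintro _ _ ⟨a, rfl⟩ ⟨b, rfl⟩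
        exact ⟨a + b, map_add φ a b⟩
      zero_mem' := ⟨0, map_zero φ⟩
      smul_mem' := by
        rintro c _ ⟨a, rfl⟩
        obtain ⟨m', hm'⟩ := hrange_smul (algebraMap k R c) a
        exact ⟨m', by rw [hm', algebraMap_smul]⟩ }
  have hPmem : ∀ x, x ∈ P ↔ ∃ m', φ m' = x := fun x => Iff.rfl
  -- the quotient is finite dimensional
  haveI : Module.Finite k N := Module.Finite.iff_fg.2 hNfg
  have hsurj : Function.Surjective (P.mkQ ∘ₗ N.subtype) := by
    intro q
    obtain ⟨m, rfl⟩ := P.mkQ_surjective q
    obtain ⟨n, hn, m', hm'⟩ := hN m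
    refine ⟨⟨n, hn⟩, ?_⟩
    change P.mkQ n = P.mkQ m
    rw [hm', map_add]
    have : P.mkQ (φ m') = 0 := by
      rw [Submodule.mkQ_apply, Submodule.Quotient.mk_eq_zero]
      exact ⟨m', rfl⟩
    rw [this, add_zero]
  haveI : Module.Finite k (M ⧸ P) := Module.Finite.of_surjective _ hsurj
  -- every element is torsion modulo `range φ`
  have htors : ∀ m : M, ∃ r : R, r ≠ 0 ∧ ∃ m', φ m' = r • m := by
    intro m
    let g : R →ₗ[k] M ⧸ P := P.mkQ ∘ₗ (LinearMap.toSpanSingleton R M m).restrictScalars k
    by_contra hcon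
    push Not at hcon
    apply hR
    apply Module.Finite.of_injective g
    rw [← LinearMap.ker_eq_bot, LinearMap.ker_eq_bot']
    intro r hr
    by_contra hr0
    have h1 : r • m ∈ P := by
      have : P.mkQ (r • m) = 0 := hr
      rwa [Submodule.mkQ_apply, Submodule.Quotient.mk_eq_zero] at this
    obtain ⟨m', hm'⟩ := (hPmem _).1 h1
    exact hcon r hr0 m' hm'
  -- basis and common denominator
  let b := Module.Free.chooseBasis R M
  choose r hr0 hr using fun i => htors (b i)
  let d : R := ∏ i, r i
  have hd0 : d ≠ 0 := Finset.prod_ne_zero_iff.2 fun i _ => hr0 i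
  have hd : ∀ i, ∃ m', φ m' = d • b i := by
    intro i
    obtain ⟨m₀, hm₀⟩ := hr i
    have : d = (∏ j ∈ Finset.univ.erase i, r j) * r i := by
      rw [Finset.prod_erase_mul _ _ (Finset.mem_univ i)]
    obtain ⟨m', hm'⟩ := hrange_smul (∏ j ∈ Finset.univ.erase i, r j) m₀
    exact ⟨m', by rw [hm', hm₀, this, mul_smul]⟩
  choose mm hmm using hd
  -- matrices
  let A : Matrix _ _ R := fun i j => b.repr (φ (b j)) i
  have hA : ∀ m : M, (b.repr (φ m) : _ → R) = A.mulVec (fun j => σ (b.repr m j)) := by
    intro m
    conv_lhs => rw [← b.sum_repr m]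
    rw [map_sum]
    funext i
    simp only [map_smulₛₗ, map_sum, map_smul, Finsupp.coe_finset_sum, Finset.sum_apply,
      Finsupp.coe_smul, Pi.smul_apply, smul_eq_mul, Matrix.mulVec, dotProduct, A]
    apply Finset.sum_congr rfl
    intro j _
    rw [mul_comm]
    rfl
  let V : Matrix _ _ R := fun j i => σ (b.repr (mm i) j)
  have hAV : A * V = d • (1 : Matrix _ _ R) := by
    ext l i
    have h1 := congrFun (hA (mm i)) l
    rw [hmm i] at h1
    simp only [map_smul, Finsupp.coe_smul, Pi.smul_apply, smul_eq_mul, Module.Basis.repr_self] at h1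
    rw [Matrix.mul_apply]
    change ∑ j, A l j * σ (b.repr (mm i) j) = _
    have h2 : A.mulVec (fun j => σ (b.repr (mm i) j)) l = ∑ j, A l j * σ (b.repr (mm i) j) := rfl
    rw [← h2, ← h1]
    simp [Matrix.one_apply, Finsupp.single_apply, eq_comm]
  have hdet : A.det ≠ 0 := by
    intro h0
    have := congrArg Matrix.det hAV
    rw [Matrix.det_mul, h0, zero_mul, Matrix.det_smul, Matrix.det_one, mul_one] at this
    exact pow_ne_zero _ hd0 this.symm
  -- injectivity
  rw [injective_iff_map_eq_zero]
  intro x hx
  have h1 := hA x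
  rw [hx, map_zero] at h1
  have h2 := Matrix.eq_zero_of_mulVec_eq_zero hdet h1.symm
  apply b.repr.injective
  ext j
  have := congrFun h2 j
  simpa using this

end Groth.Agent.S13631
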