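import Groth.Statements.S13632
import Mathlib

set_option autoImplicit false
universe u
open TensorProduct
open CAlg

namespace Groth.Agent.S13632

theorem local_key {R A B L K : Type u} [CommRing R] [CommRing A] [CommRing B] [Algebra R A]
    [Algebra R B] [Module.Finite R A] [Module.Flat R A] [Algebra.FiniteType R B]
    [CommRing L] [IsLocalRing L] [Algebra R L] [Field K] [Algebra R K] [Algebra L K]
    [IsScalarTower R L K] (hK : Function.Surjective (algebraMap L K))
    (f : B →ₐ[R] A) (hf : Function.Surjective f)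
    (hinj : Function.Injective (LinearMap.lTensor K f.toLinearMap)) :
    ∃ e ∈ (IsLocalRing.maximalIdeal L).map (algebraMap L (L ⊗[R] B)),
      ∀ b : B, f b = 0 → (1 - e) * ((1 : L) ⊗ₜ[R] b) = 0 := by
  classical
  obtain ⟨fL, hfL⟩ : ∃ fL : L ⊗[R] B →ₐ[L] L ⊗[R] A, fL = Algebra.TensorProduct.map (AlgHom.id L L) f :=
    ⟨_, rfl⟩
  have hfLlin : ∀ x, fL x = LinearMap.lTensor L f.toLinearMap x := by
    intro x
    induction x using TensorProduct.induction_on with
    | zero => simp
    | tmul a b => simp [hfL]
    | add x y hx hy => simp [hx, hy]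
  have hfLsurj : Function.Surjective fL := by
    intro y
    obtain ⟨x, hx⟩ := LinearMap.lTensor_surjective L (g := f.toLinearMap) hf y
    exact ⟨x, by rw [hfLlin, hx]⟩
  have : Module.Free L (L ⊗[R] A) := Module.free_of_flat_of_isLocalRing
  have : Module.FinitePresentation L (L ⊗[R] A) := Module.finitePresentation_of_projective _ _
  have : Algebra.FinitePresentation L (L ⊗[R] A) := inferInstance
  have : Algebra.FiniteType L (L ⊗[R] B) := inferInstance
  -- kernel fg
  have hJfg : (RingHom.ker fL.toRingHom).FG := by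
    letI : Algebra (L ⊗[R] B) (L ⊗[R] A) := fL.toRingHom.toAlgebra
    have : IsScalarTower L (L ⊗[R] B) (L ⊗[R] A) :=
      IsScalarTower.of_algebraMap_eq (fun x => (fL.commutes x).symm)
    have : Algebra.FinitePresentation (L ⊗[R] B) (L ⊗[R] A) :=
      Algebra.FinitePresentation.of_restrict_scalars_finitePresentation L _ _
    have := Algebra.FinitePresentation.ker_fG_of_surjective
      (Algebra.ofId (L ⊗[R] B) (L ⊗[R] A)) (by intro y; exact hfLsurj y)
    exact this
  obtain ⟨J, hJ⟩ : ∃ J : Ideal (L ⊗[R] B), J = RingHom.ker fL.toRingHom := ⟨_, rfl⟩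
  obtain ⟨I, hI⟩ : ∃ I : Ideal (L ⊗[R] B),
    I = (IsLocalRing.maximalIdeal L).map (algebraMap L (L ⊗[R] B)) := ⟨_, rfl⟩
  have memJ : ∀ x, x ∈ J ↔ fL x = 0 := by
    intro x; rw [hJ]; exact RingHom.mem_ker
  -- (1) J ≤ I
  have hJI : J ≤ I := by
    intro x hx
    rw [memJ, hfLlin] at hx
    let res : L →ₗ[R] K := (IsScalarTower.toAlgHom R L K).toLinearMap
    have hres : Function.Surjective res := hK
    have hsq : LinearMap.lTensor K f.toLinearMap (LinearMap.rTensor B res x) =
        LinearMap.rTensor A res (LinearMap.lTensor L f.toLinearMap x) := by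
      rw [← LinearMap.comp_apply, ← LinearMap.comp_apply, LinearMap.lTensor_comp_rTensor,
        LinearMap.rTensor_comp_lTensor]
    rw [hx, map_zero] at hsq
    have h0 : LinearMap.rTensor B res x = 0 := hinj (by rw [hsq, map_zero])
    have hex := rTensor_exact B (LinearMap.exact_subtype_ker_map res) hres
    have key : ∀ y, LinearMap.rTensor B (LinearMap.ker res).subtype y ∈ I := by
      intro y
      induction y using TensorProduct.induction_on with
      | zero => simp
      | tmul m b =>
        have hm : (m : L) ∈ IsLocalRing.maximalIdeal L := by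
          have h1 : algebraMap L K (m : L) = 0 := m.2
          rw [IsLocalRing.mem_maximalIdeal, mem_nonunits_iff]
          intro hu
          exact (hu.map (algebraMap L K)).ne_zero h1
        have : LinearMap.rTensor B (LinearMap.ker res).subtype (m ⊗ₜ[R] b) =
            algebraMap L (L ⊗[R] B) (m : L) * ((1 : L) ⊗ₜ[R] b) := by
          simp [Algebra.TensorProduct.algebraMap_apply]
        rw [this, hI]
        exact Ideal.mul_mem_right _ _ (Ideal.mem_map_of_mem _ hm)
      | add y z hy hz =>
        rw [map_add]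
        exact I.add_mem hy hz
    obtain ⟨y, rfl⟩ := (hex x).mp h0
    exact key y
  -- (2) retraction
  obtain ⟨σ, hσ⟩ := Module.projective_lifting_property fL.toLinearMap LinearMap.id hfLsurj
  have hσ' : ∀ y, fL (σ y) = y := fun y => by
    have := LinearMap.congr_fun hσ y
    simpa using this
  have hJIJ : J ≤ I • J := by
    intro x hx
    have hxI := hJI hx
    have hIeq : (I.restrictScalars L) = (IsLocalRing.maximalIdeal L) • (⊤ : Submodule L (L ⊗[R] B)) := by
      rw [hI, Ideal.smul_top_eq_map]
    have hxI' : x ∈ (IsLocalRing.maximalIdeal L) • (⊤ : Submodule L (L ⊗[R] B)) := by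
      rw [← hIeq]; exact hxI
    have key : ∀ y ∈ (IsLocalRing.maximalIdeal L) • (⊤ : Submodule L (L ⊗[R] B)),
        y - σ (fL y) ∈ I • J := by
      intro y hy
      refine Submodule.smul_induction_on (p := fun y => y - σ (fL y) ∈ I • J) hy ?_ ?_
      · intro m hm z _
        have h1 : m • z - σ (fL (m • z)) = algebraMap L (L ⊗[R] B) m * (z - σ (fL z)) := by
          rw [map_smul, map_smul, Algebra.smul_def, Algebra.smul_def, mul_sub]
        rw [h1, smul_eq_mul]
        refine Ideal.mul_mem_mul ?_ ?_
        · rw [hI]; exact Ideal.mem_map_of_mem _ hm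
        · rw [memJ, map_sub, hσ', sub_self]
      · intro y z hy hz
        have : y + z - σ (fL (y + z)) = (y - σ (fL y)) + (z - σ (fL z)) := by
          rw [map_add, map_add]; ring
        rw [this]
        exact Submodule.add_mem _ hy hz
    have := key x hxI'
    rwa [(memJ x).mp hx, map_zero, sub_zero] at this
  have hJfg' : J.FG := hJ ▸ hJfg
  obtain ⟨r, hr1, hr2⟩ := Submodule.exists_sub_one_mem_and_smul_eq_zero_of_fg_of_le_smul I J hJfg' hJIJ
  refine ⟨1 - r, ?_, ?_⟩
  · rw [← hI]
    have : 1 - r = -(r - 1) := by ring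
    rw [this]; exact I.neg_mem hr1
  · intro b hb
    have hbJ : (1 : L) ⊗ₜ[R] b ∈ J := by
      rw [memJ, hfL]; simp [hb]
    have := hr2 _ hbJ
    rw [smul_eq_mul] at this
    rw [sub_sub_cancel]; exact this

theorem result
    {R A B : Type u} [CommRing R] [CommRing A] [CommRing B] [Algebra R A] [Algebra R B]
    [Module.Finite R A] [Module.Flat R A] [Algebra.FiniteType R B]
    (f : B →ₐ[R] A)
    (hrank : ∀ p : PrimeSpectrum R,
      Module.rank p.asIdeal.ResidueField (p.asIdeal.ResidueField ⊗[R] B) =
        Module.rank p.asIdeal.ResidueField (p.asIdeal.ResidueField ⊗[R] A))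
    (hmax : ∀ (m : Ideal R) [m.IsMaximal],
      Function.Bijective (LinearMap.lTensor m.ResidueField f.toLinearMap)) :
    Function.Bijective f := by
  classical
  -- surjectivity
  have hsurj : Function.Surjective f := by
    obtain ⟨N, hN⟩ : ∃ N : Submodule R A, N = LinearMap.range f.toLinearMap := ⟨_, rfl⟩
    have hQ : Subsingleton (A ⧸ N) := by
      rw [← Module.support_eq_empty_iff (R := R)]
      by_contra hne
      obtain ⟨p, hp⟩ := Set.nonempty_iff_ne_empty.mpr hne
      obtain ⟨m, hm, hpm⟩ := Ideal.exists_le_maximal p.asIdeal p.2.ne_top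
      have hm' : (⟨m, hm.isPrime⟩ : PrimeSpectrum R) ∈ Module.support R (A ⧸ N) :=
        Module.mem_support_mono (q := ⟨m, hm.isPrime⟩) hpm hp
      rw [Module.mem_support_iff_nontrivial_residueField_tensorProduct] at hm'
      have hex : Function.Exact f.toLinearMap N.mkQ := by
        rw [hN]; exact LinearMap.exact_map_mkQ_range _
      have hex2 := lTensor_exact m.ResidueField hex (Submodule.mkQ_surjective N)
      have hs2 := LinearMap.lTensor_surjective m.ResidueField (Submodule.mkQ_surjective N)
      have : Subsingleton (m.ResidueField ⊗[R] (A ⧸ N)) := by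
        refine subsingleton_of_forall_eq 0 fun z => ?_
        obtain ⟨y, rfl⟩ := hs2 z
        obtain ⟨x, rfl⟩ := (hmax m).2 y
        exact (hex2 _).mpr ⟨x, rfl⟩
      exact not_subsingleton _ this
    intro a
    have : N.mkQ a = 0 := Subsingleton.elim _ _
    rw [Submodule.mkQ_apply, Submodule.Quotient.mk_eq_zero, hN] at this
    obtain ⟨b, hb⟩ := this
    exact ⟨b, hb⟩
  refine ⟨?_, hsurj⟩
  -- fibrewise injectivity
  have hfib : ∀ p : PrimeSpectrum R,
      Function.Injective (LinearMap.lTensor p.asIdeal.ResidueField f.toLinearMap) := by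
    intro p
    have h1 : Module.rank p.asIdeal.ResidueField (p.asIdeal.ResidueField ⊗[R] A) < Cardinal.aleph0 :=
      Module.rank_lt_aleph0_iff.mpr inferInstance
    have h2 : Module.Finite p.asIdeal.ResidueField (p.asIdeal.ResidueField ⊗[R] B) :=
      Module.rank_lt_aleph0_iff.mp ((hrank p).symm ▸ h1)
    have h3 : Module.finrank p.asIdeal.ResidueField (p.asIdeal.ResidueField ⊗[R] B) =
        Module.finrank p.asIdeal.ResidueField (p.asIdeal.ResidueField ⊗[R] A) :=
      congrArg Cardinal.toNat (hrank p)
    have h4 := LinearMap.injective_iff_surjective_of_finrank_eq_finrank h3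
      (f := LinearMap.baseChange p.asIdeal.ResidueField f.toLinearMap)
    have h5 : Function.Surjective (LinearMap.baseChange p.asIdeal.ResidueField f.toLinearMap) := by
      intro y
      obtain ⟨x, hx⟩ := LinearMap.lTensor_surjective p.asIdeal.ResidueField (g := f.toLinearMap) hsurj y
      exact ⟨x, by rw [← hx]; rfl⟩
    have h6 := h4.mpr h5
    intro x y hxy
    exact h6 hxy
  rw [injective_iff_map_eq_zero]
  intro b hb
  by_contra hb0
  obtain ⟨Ann, hAnn⟩ : ∃ Ann : Ideal B, Ann = LinearMap.ker (LinearMap.toSpanSingleton B B b) := ⟨_, rfl⟩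
  have memAnn : ∀ c, c ∈ Ann ↔ c * b = 0 := by
    intro c; rw [hAnn, LinearMap.mem_ker, LinearMap.toSpanSingleton_apply, smul_eq_mul]
  have hne : Ann ≠ ⊤ := by
    intro h
    have : (1 : B) ∈ Ann := h ▸ Submodule.mem_top
    rw [memAnn, one_mul] at this
    exact hb0 this
  obtain ⟨q, hq, hAq⟩ := Ideal.exists_le_maximal Ann hne
  have hqp : q.IsPrime := hq.isPrime
  obtain ⟨p, hp⟩ : ∃ p : Ideal R, p = q.comap (algebraMap R B) := ⟨_, rfl⟩
  have hpp : p.IsPrime := hp ▸ Ideal.comap_isPrime _ _
  obtain ⟨e, he, hekill⟩ := local_key (L := Localization.AtPrime p) (K := p.ResidueField)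
    IsLocalRing.residue_surjective f hsurj (hfib ⟨p, hpp⟩)
  -- the map to B_q
  have hunit : ∀ y : p.primeCompl, IsUnit ((Algebra.ofId R (Localization.AtPrime q)) y) := by
    intro y
    have : algebraMap R B y ∈ q.primeCompl := by
      intro hmem
      apply y.2
      have : (y : R) ∈ q.comap (algebraMap R B) := hmem
      exact hp ▸ this
    rw [Algebra.ofId_apply, IsScalarTower.algebraMap_apply R B (Localization.AtPrime q)]
    exact IsLocalization.map_units (Localization.AtPrime q) ⟨_, this⟩
  let φ : Localization.AtPrime p →ₐ[R] Localization.AtPrime q := IsLocalization.liftAlgHom hunit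
  let ψ : Localization.AtPrime p ⊗[R] B →ₐ[R] Localization.AtPrime q :=
    Algebra.TensorProduct.lift φ (IsScalarTower.toAlgHom R B (Localization.AtPrime q))
      (fun _ _ => Commute.all _ _)
  have hψe : ψ e ∈ IsLocalRing.maximalIdeal (Localization.AtPrime q) := by
    rw [← IsLocalization.AtPrime.map_eq_maximalIdeal p (Localization.AtPrime p), Ideal.map_map] at he
    have hle : Ideal.map ((algebraMap (Localization.AtPrime p) (Localization.AtPrime p ⊗[R] B)).comp
        (algebraMap R (Localization.AtPrime p))) p ≤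
        (IsLocalRing.maximalIdeal (Localization.AtPrime q)).comap ψ.toRingHom := by
      rw [Ideal.map_le_iff_le_comap]
      intro r hr
      rw [Ideal.mem_comap, Ideal.mem_comap]
      have : ψ.toRingHom (((algebraMap (Localization.AtPrime p) (Localization.AtPrime p ⊗[R] B)).comp
        (algebraMap R (Localization.AtPrime p))) r) = algebraMap B (Localization.AtPrime q) (algebraMap R B r) := by
        rw [RingHom.comp_apply, ← IsScalarTower.algebraMap_apply, ← IsScalarTower.algebraMap_apply]
        exact ψ.commutes r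
      rw [this, IsLocalization.AtPrime.to_map_mem_maximal_iff (Localization.AtPrime q) q]
      rw [hp] at hr; exact hr
    exact hle he
  have h1 := hekill b hb
  have h2 := congrArg ψ h1
  rw [map_mul, map_sub, map_one, map_zero] at h2
  have hu : IsUnit (1 - ψ e) := IsLocalRing.isUnit_one_sub_self_of_mem_nonunits _ hψe
  have h3 : ψ ((1 : Localization.AtPrime p) ⊗ₜ[R] b) = 0 := (hu.mul_right_eq_zero).mp h2
  have h4 : algebraMap B (Localization.AtPrime q) b = 0 := by
    rw [← h3]; simp [ψ]
  obtain ⟨t, ht⟩ := (IsLocalization.map_eq_zero_iff q.primeCompl (Localization.AtPrime q) b).mp h4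
  exact t.2 (hAq ((memAnn _).mpr ht))

end Groth.Agent.S13632
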