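import Groth.Statements.S13634
-- import your own Groth.Agent.* helpers here
import Groth.Agent.Lib.Helper40.MultSchApi

set_option autoImplicit false
universe u
open CategoryTheory CategoryTheory.Limits MonoidalCategory CartesianMonoidalCategory MonObj AlgebraicGeometry
open MultSch

namespace Groth.Agent.S13634

/-- Let π : M → M'' be a homomorphism of commutative group schemes over a scheme S which is an
epimorphism of fppf sheaves, H a commutative group scheme over S and φ : (M'')^r → H a multilinear
morphism. If the composite of φ with π^r : M^r → (M'')^r is alternating, then φ is alternating. (The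
published statement is for module schemes over a ring R and an R-multilinear φ; the ring action
plays no role, so this row states it for commutative group schemes, which contains that case.) -/
theorem result
    {S : Scheme.{u}} {M M'' H : Over S}
    [GrpObj M] [IsCommMonObj M] [GrpObj M''] [IsCommMonObj M''] [GrpObj H] [IsCommMonObj H]
    (π : M ⟶ M'') [IsMonHom π] (hπ : Epi (CGrpSh.ptsMap Scheme.fppfPrecoverage π))
    {r : ℕ} (φ : MultSch.pow M'' r ⟶ H) (hφ : MultSch.IsMultilinear φ)
    (halt : ∀ (T : Over S) (x : Fin r → (T ⟶ M)) (i j : Fin r), i ≠ j → x i = x j →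
      MultSch.tuple (fun l => x l ≫ π) ≫ φ = 1) :
    MultSch.IsAlternating φ := by
  classical
  have hq := (Groth.Agent.Lib.Helper40.CGrpShApi.epi_ptsMap_iff Scheme.fppfPrecoverage π).mp hπ
  intro T y i j hij hyij
  have hE := Groth.Agent.Lib.Helper40.MultSchApi.sieveForall_mem
    (QuotSh.J Scheme.fppfPrecoverage S) (Finset.univ : Finset (Fin r))
    (fun l => Groth.Agent.Lib.Helper40.QuotShApi.liftSieve π (y l)) (fun l _ => hq T (y l))
  refine Groth.Agent.Lib.Helper40.MultSchApi.eq_of_locally_eq
    (QuotSh.J Scheme.fppfPrecoverage S) _ _ _ hE ?_
  intro T' g hg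
  choose x hx using fun l => hg l (Finset.mem_univ l)
  let x' : Fin r → (T' ⟶ M) := Function.update x j (x i)
  have hx' : ∀ l, x' l ≫ π = g ≫ y l := by
    intro l
    by_cases hl : l = j
    · subst hl
      simp only [x', Function.update_self]
      rw [hx i, hyij]
    · simp only [x', Function.update_of_ne hl]
      exact hx l
  have hx'ij : x' i = x' j := by
    simp only [x', Function.update_self, Function.update_of_ne hij]
  rw [← Category.assoc, Groth.Agent.Lib.Helper40.MultSchApi.comp_tuple, MonObj.comp_one]
  have := halt T' x' i j hij hx'ij
  simp only [hx'] at this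
  exact this

end Groth.Agent.S13634
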