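import Groth.Statements.S13635
-- import your own Groth.Agent.* helpers here
import Groth.Agent.Lib.Helper40.MultSchApi

set_option autoImplicit false
universe u w
open CategoryTheory CategoryTheory.Limits MonoidalCategory CartesianMonoidalCategory MonObj AlgebraicGeometry
open MultSch

namespace Groth.Agent.S13635

/-- Let M₁ → M₂ → M₃ → 0 be a sequence of R-module schemes over a scheme S, with R-linear homomorphisms
j : M₁ → M₂ and π : M₂ → M₃, exact as a sequence of fppf sheaves. For n ≥ 1 and an R-module scheme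
N, the sequence 0 → Alt(M₃^n, N) → Alt(M₂^n, N) → Alt(M₁ × M₂^(n-1), N) of R-multilinear alternating
morphisms is exact: an R-multilinear alternating φ : M₂^n → N which is trivial on all points with
first coordinate in the image of j is of the form φ' ∘ π^n for a unique morphism φ' : M₃^n → N
(unique among all morphisms), and this φ' is R-multilinear and alternating. -/
theorem result
    {S : Scheme.{u}} {R : Type w} [CommRing R] {M₁ M₂ M₃ N : Over S}
    [GrpObj M₁] [IsCommMonObj M₁] [GrpObj M₂] [IsCommMonObj M₂] [GrpObj M₃] [IsCommMonObj M₃]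
    [GrpObj N] [IsCommMonObj N]
    (ρ₁ : MultSch.RMod R M₁) (ρ₂ : MultSch.RMod R M₂) (ρ₃ : MultSch.RMod R M₃) (ρN : MultSch.RMod R N)
    (j : M₁ ⟶ M₂) (π : M₂ ⟶ M₃) [IsMonHom j] [IsMonHom π]
    (hj : ∀ a : R, j ≫ ρ₂.act a = ρ₁.act a ≫ j) (hπ : ∀ a : R, π ≫ ρ₃.act a = ρ₂.act a ≫ π)
    (w : j ≫ π = 1) (hex : (CGrpSh.seq Scheme.fppfPrecoverage j π w).Exact)
    (hepi : Epi (CGrpSh.ptsMap Scheme.fppfPrecoverage π))
    {n : ℕ} (hn : 1 ≤ n) (φ : MultSch.pow M₂ n ⟶ N)
    (hmult : MultSch.IsMultilinear φ) (hlin : MultSch.IsRLinear ρ₂ ρN φ) (halt : MultSch.IsAlternating φ)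
    (hvan : ∀ (T : Over S) (y : T ⟶ M₁) (x : Fin n → (T ⟶ M₂)), x ⟨0, hn⟩ = y ≫ j →
      MultSch.tuple x ≫ φ = 1) :
    ∃ φ' : MultSch.pow M₃ n ⟶ N,
      (∀ (T : Over S) (x : Fin n → (T ⟶ M₂)), MultSch.tuple x ≫ φ = MultSch.tuple (fun l => x l ≫ π) ≫ φ') ∧
      MultSch.IsMultilinear φ' ∧ MultSch.IsRLinear ρ₃ ρN φ' ∧ MultSch.IsAlternating φ' ∧
      ∀ φ'' : MultSch.pow M₃ n ⟶ N,
        (∀ (T : Over S) (x : Fin n → (T ⟶ M₂)), MultSch.tuple x ≫ φ = MultSch.tuple (fun l => x l ≫ π) ≫ φ'') →
          φ'' = φ' := by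
  classical
  have hq := (Groth.Agent.Lib.Helper40.CGrpShApi.epi_ptsMap_iff Scheme.fppfPrecoverage π).mp hepi
  have hker : ∀ (T : Over S) (d : T ⟶ M₂), d ≫ π = 1 →
      Groth.Agent.Lib.Helper40.QuotShApi.liftSieve j d ∈ QuotSh.J Scheme.fppfPrecoverage S T :=
    fun T d hd => Groth.Agent.Lib.Helper40.CGrpShApi.liftSieve_mem_of_exact
      Scheme.fppfPrecoverage j π w hex d hd
  have hnat : ∀ {A : Over S} {T T' : Over S} {m : ℕ} (g : T' ⟶ T) (x : Fin m → (T ⟶ A))
      (θ : MultSch.pow A m ⟶ N),
      g ≫ MultSch.tuple x ≫ θ = MultSch.tuple (fun l => g ≫ x l) ≫ θ := by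
    intro A T T' m g x θ
    rw [← Category.assoc, Groth.Agent.Lib.Helper40.MultSchApi.comp_tuple]
  let i0 : Fin n := ⟨0, hn⟩
  have hV : ∀ {T : Over S} (x : Fin n → (T ⟶ M₂)), x i0 ≫ π = 1 → MultSch.tuple x ≫ φ = 1 := by
    intro T x hx
    refine Groth.Agent.Lib.Helper40.MultSchApi.eq_of_locally_eq
      (QuotSh.J Scheme.fppfPrecoverage S) _ _ _ (hker T (x i0) hx) ?_
    rintro T' g ⟨d', hd'⟩
    rw [hnat, MonObj.comp_one]
    exact hvan T' d' _ hd'.symm
  have hK : ∀ {T : Over S} (k : Fin n) (x : Fin n → (T ⟶ M₂)), x k ≫ π = 1 →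
      MultSch.tuple x ≫ φ = 1 := by
    intro T k x hx
    by_cases hk : k = i0
    · subst hk
      exact hV x hx
    · have hne : i0 ≠ k := Ne.symm hk
      have hw : MultSch.tuple (Function.update (Function.update x k (x i0 * x k)) i0 (x i0 * x k)) ≫ φ
          = 1 := by
        apply halt T _ i0 k hne
        rw [Function.update_self, Function.update_of_ne hk, Function.update_self]
      have h1 := hmult T (Function.update x k (x i0 * x k)) i0 (x i0) (x k)
      have h2 : MultSch.tuple (Function.update (Function.update x k (x i0 * x k)) i0 (x k)) ≫ φ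
          = 1 := hV _ (by rw [Function.update_self]; exact hx)
      have h3 : Function.update (Function.update x k (x i0 * x k)) i0 (x i0) =
          Function.update x k (x i0 * x k) := by
        have := Function.update_eq_self i0 (Function.update x k (x i0 * x k))
        rw [Function.update_of_ne hne] at this
        exact this
      have h4 := hmult T x k (x i0) (x k)
      have h5 : MultSch.tuple (Function.update x k (x i0)) ≫ φ = 1 := by
        apply halt T _ i0 k hne
        rw [Function.update_of_ne hne, Function.update_self]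
      have h6 : Function.update x k (x k) = x := Function.update_eq_self k x
      rw [h1, h2, _root_.mul_one, h3, h4, h5, _root_.one_mul, h6] at hw
      exact hw
  have hf' : ∀ {T : Over S} (x₁ x₂ : Fin n → (T ⟶ M₂)), (∀ l, x₁ l ≫ π = x₂ l ≫ π) →
      MultSch.tuple x₁ ≫ φ = MultSch.tuple x₂ ≫ φ := by
    intro T x₁ x₂ h
    have key : ∀ s : Finset (Fin n),
        MultSch.tuple (fun l => if l ∈ s then x₂ l else x₁ l) ≫ φ = MultSch.tuple x₁ ≫ φ := by
      intro s
      induction s using Finset.induction_on with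
      | empty => simp
      | insert a s ha ih =>
        have e1 : (fun l => if l ∈ insert a s then x₂ l else x₁ l) =
            Function.update (fun l => if l ∈ s then x₂ l else x₁ l) a (x₂ a) := by
          funext l
          by_cases hl : l = a
          · subst hl
            simp
          · rw [Function.update_of_ne hl]
            simp [Finset.mem_insert, hl]
        have e2 : (fun l => if l ∈ s then x₂ l else x₁ l) =
            Function.update (fun l => if l ∈ s then x₂ l else x₁ l) a (x₁ a) := by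
          funext l
          by_cases hl : l = a
          · subst hl
            simp [ha]
          · rw [Function.update_of_ne hl]
        have hd : ((x₁ a)⁻¹ * x₂ a) ≫ π = 1 := by
          rw [MonObj.mul_comp, GrpObj.inv_comp, h a, inv_mul_cancel]
        have hx2 : x₂ a = x₁ a * ((x₁ a)⁻¹ * x₂ a) := by rw [mul_inv_cancel_left]
        have hone : MultSch.tuple (Function.update (fun l => if l ∈ s then x₂ l else x₁ l) a
            ((x₁ a)⁻¹ * x₂ a)) ≫ φ = 1 :=
          hK a _ (by rw [Function.update_self]; exact hd)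
        rw [e1, hx2, hmult, ← e2, ih, hone, _root_.mul_one]
    have := key Finset.univ
    simp only [Finset.mem_univ, if_true] at this
    exact this.symm
  set e : MultSch.pow M₂ n ⟶ MultSch.pow M₃ n :=
    Groth.Agent.Lib.Helper40.MultSchApi.powMap π n with he_def
  have he : Groth.Agent.Lib.Helper40.MultSchApi.liftSieve' e ∈
      QuotSh.J Scheme.fppfPrecoverage S (MultSch.pow M₃ n) := by
    have hE := Groth.Agent.Lib.Helper40.MultSchApi.sieveForall_mem
      (QuotSh.J Scheme.fppfPrecoverage S) (Finset.univ : Finset (Fin n))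
      (fun l => Groth.Agent.Lib.Helper40.QuotShApi.liftSieve π
        (Groth.Agent.Lib.Helper40.MultSchApi.proj M₃ l))
      (fun l _ => hq _ _)
    refine GrothendieckTopology.superset_covering _ ?_ hE
    intro T g hg
    choose x hx using fun l => hg l (Finset.mem_univ l)
    refine ⟨MultSch.tuple x, ?_⟩
    rw [he_def, Groth.Agent.Lib.Helper40.MultSchApi.tuple_powMap]
    simp only [hx]
    exact (Groth.Agent.Lib.Helper40.MultSchApi.eq_tuple_proj g).symm
  have hf : ∀ (T : Over S) (a₁ a₂ : T ⟶ MultSch.pow M₂ n), a₁ ≫ e = a₂ ≫ e →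
      a₁ ≫ φ = a₂ ≫ φ := by
    intro T a₁ a₂ h12
    rw [Groth.Agent.Lib.Helper40.MultSchApi.eq_tuple_proj a₁,
      Groth.Agent.Lib.Helper40.MultSchApi.eq_tuple_proj a₂] at h12 ⊢
    apply hf'
    intro l
    rw [he_def, Groth.Agent.Lib.Helper40.MultSchApi.tuple_powMap,
      Groth.Agent.Lib.Helper40.MultSchApi.tuple_powMap] at h12
    have := congrArg (fun k => k ≫ Groth.Agent.Lib.Helper40.MultSchApi.proj M₃ l) h12
    simpa only [Groth.Agent.Lib.Helper40.MultSchApi.tuple_proj] using this
  obtain ⟨φ', hφ', huniq⟩ :=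
    Groth.Agent.Lib.Helper40.MultSchApi.existsUnique_desc_of_liftSieve_mem
      (QuotSh.J Scheme.fppfPrecoverage S) e he φ hf
  have hKF : ∀ {T : Over S} (x : Fin n → (T ⟶ M₂)),
      MultSch.tuple (fun l => x l ≫ π) ≫ φ' = MultSch.tuple x ≫ φ := by
    intro T x
    rw [← Groth.Agent.Lib.Helper40.MultSchApi.tuple_powMap, Category.assoc, ← he_def, hφ']
  have hH0 : ∀ {T T' : Over S} (g : T' ⟶ T) (x : Fin n → (T ⟶ M₃)) (x' : Fin n → (T' ⟶ M₂)),
      (∀ l, x' l ≫ π = g ≫ x l) → g ≫ MultSch.tuple x ≫ φ' = MultSch.tuple x' ≫ φ := by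
    intro T T' g x x' hx'
    rw [hnat, ← hKF]
    simp only [hx']
  have hH : ∀ {T T' : Over S} (g : T' ⟶ T) (x : Fin n → (T ⟶ M₃)) (x' : Fin n → (T' ⟶ M₂)),
      (∀ l, x' l ≫ π = g ≫ x l) → ∀ (i : Fin n) (v : T ⟶ M₃) (v' : T' ⟶ M₂), v' ≫ π = g ≫ v →
      g ≫ MultSch.tuple (Function.update x i v) ≫ φ' =
        MultSch.tuple (Function.update x' i v') ≫ φ := by
    intro T T' g x x' hx' i v v' hv'
    apply hH0
    intro l
    by_cases hl : l = i
    · subst hl
      rw [Function.update_self, Function.update_self, hv']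
    · rw [Function.update_of_ne hl, Function.update_of_ne hl, hx']
  have hlift : ∀ {T : Over S} (x : Fin n → (T ⟶ M₃)),
      Groth.Agent.Lib.Helper40.MultSchApi.sieveForall (Finset.univ : Finset (Fin n))
        (fun l => Groth.Agent.Lib.Helper40.QuotShApi.liftSieve π (x l)) ∈
        QuotSh.J Scheme.fppfPrecoverage S T :=
    fun x => Groth.Agent.Lib.Helper40.MultSchApi.sieveForall_mem _ _ _ (fun l _ => hq _ (x l))
  refine ⟨φ', fun T x => (hKF x).symm, ?_, ?_, ?_, ?_⟩
  · intro T x i y z
    have hE := GrothendieckTopology.intersection_covering _ (hlift x)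
      (GrothendieckTopology.intersection_covering _ (hq T y) (hq T z))
    refine Groth.Agent.Lib.Helper40.MultSchApi.eq_of_locally_eq
      (QuotSh.J Scheme.fppfPrecoverage S) _ _ _ hE ?_
    rintro T' g ⟨hg, ⟨y', hy'⟩, ⟨z', hz'⟩⟩
    choose x' hx' using fun l => hg l (Finset.mem_univ l)
    have hyz : (y' * z') ≫ π = g ≫ (y * z) := by
      rw [MonObj.mul_comp, MonObj.comp_mul, hy', hz']
    rw [hH g x x' hx' i _ _ hyz, MonObj.comp_mul, hH g x x' hx' i _ _ hy', hH g x x' hx' i _ _ hz',
      hmult]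
  · intro T x i a
    refine Groth.Agent.Lib.Helper40.MultSchApi.eq_of_locally_eq
      (QuotSh.J Scheme.fppfPrecoverage S) _ _ _ (hlift x) ?_
    intro T' g hg
    choose x' hx' using fun l => hg l (Finset.mem_univ l)
    have hv : (x' i ≫ ρ₂.act a) ≫ π = g ≫ x i ≫ ρ₃.act a := by
      rw [Category.assoc, ← hπ, ← Category.assoc, hx', Category.assoc]
    rw [hH g x x' hx' i _ _ hv, hlin, ← hH0 g x x' hx', Category.assoc, Category.assoc]
  · intro T x i k hik hxik
    refine Groth.Agent.Lib.Helper40.MultSchApi.eq_of_locally_eq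
      (QuotSh.J Scheme.fppfPrecoverage S) _ _ _ (hlift x) ?_
    intro T' g hg
    choose x' hx' using fun l => hg l (Finset.mem_univ l)
    have hx'' : ∀ l, Function.update x' k (x' i) l ≫ π = g ≫ x l := by
      intro l
      by_cases hl : l = k
      · subst hl
        rw [Function.update_self, hx', hxik]
      · rw [Function.update_of_ne hl, hx']
    rw [hH0 g x _ hx'', MonObj.comp_one]
    apply halt T' _ i k hik
    rw [Function.update_of_ne hik, Function.update_self]
  · intro φ'' h''
    apply huniq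
    have h1 := h'' (MultSch.pow M₂ n) (fun l => Groth.Agent.Lib.Helper40.MultSchApi.proj M₂ l)
    have hid : MultSch.tuple (fun l => Groth.Agent.Lib.Helper40.MultSchApi.proj M₂ l) =
        𝟙 (MultSch.pow M₂ n) := by
      have := Groth.Agent.Lib.Helper40.MultSchApi.eq_tuple_proj (𝟙 (MultSch.pow M₂ n))
      simp only [Category.id_comp] at this
      exact this.symm
    rw [hid, Category.id_comp] at h1
    exact h1.symm

end Groth.Agent.S13635
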