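import Groth.Statements.S13636
-- import your own Groth.Agent.* helpers here
import Groth.Agent.Lib.Helper40.MultSchApi

set_option autoImplicit false
universe u w
open CategoryTheory CategoryTheory.Limits MonoidalCategory CartesianMonoidalCategory MonObj AlgebraicGeometry
open MultSch

namespace Groth.Agent.S13636

/-- Let M' → M → M'' → 0 be a sequence of R-module schemes over a scheme S, with R-linear homomorphisms
j and π, exact as fppf sheaves, and let ψ : P × M × Q → N be a morphism to an R-module scheme N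
which is additive and R-linear in the coordinate M (on T-valued points) and trivial on all points
whose M-coordinate lies in the image of j. Then ψ = ψ' ∘ (id × π × id) for a unique morphism ψ' : P
× M'' × Q → N, and ψ' is additive and R-linear in the coordinate M''. (The published statement has a
product M₁ × ⋯ × M_r of R-module schemes with the exact sequence in the i-th factor and ψ
R-multilinear; here the factors before and after the i-th are collected into single S-schemes P and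
Q, and only linearity in the i-th coordinate, the one the statement is about, is carried; linearity
in the other coordinates passes between ψ and ψ' formally.) -/
theorem result
    {S : Scheme.{u}} {R : Type w} [CommRing R] {P Q M' M M'' N : Over S}
    [GrpObj M'] [IsCommMonObj M'] [GrpObj M] [IsCommMonObj M] [GrpObj M''] [IsCommMonObj M'']
    [GrpObj N] [IsCommMonObj N]
    (ρ' : MultSch.RMod R M') (ρ : MultSch.RMod R M) (ρ'' : MultSch.RMod R M'') (ρN : MultSch.RMod R N)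
    (j : M' ⟶ M) (π : M ⟶ M'') [IsMonHom j] [IsMonHom π]
    (hj : ∀ a : R, j ≫ ρ.act a = ρ'.act a ≫ j) (hπ : ∀ a : R, π ≫ ρ''.act a = ρ.act a ≫ π)
    (w : j ≫ π = 1) (hex : (CGrpSh.seq Scheme.fppfPrecoverage j π w).Exact)
    (hepi : Epi (CGrpSh.ptsMap Scheme.fppfPrecoverage π))
    (ψ : P ⊗ (M ⊗ Q) ⟶ N)
    (hadd : ∀ (T : Over S) (p : T ⟶ P) (q : T ⟶ Q) (y z : T ⟶ M),
      lift p (lift (y * z) q) ≫ ψ = (lift p (lift y q) ≫ ψ) * (lift p (lift z q) ≫ ψ))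
    (hlin : ∀ (T : Over S) (p : T ⟶ P) (q : T ⟶ Q) (y : T ⟶ M) (a : R),
      lift p (lift (y ≫ ρ.act a) q) ≫ ψ = (lift p (lift y q) ≫ ψ) ≫ ρN.act a)
    (hvan : ∀ (T : Over S) (p : T ⟶ P) (q : T ⟶ Q) (y' : T ⟶ M'), lift p (lift (y' ≫ j) q) ≫ ψ = 1) :
    ∃ ψ' : P ⊗ (M'' ⊗ Q) ⟶ N,
      (P ◁ (π ▷ Q)) ≫ ψ' = ψ ∧
      (∀ (T : Over S) (p : T ⟶ P) (q : T ⟶ Q) (y z : T ⟶ M''),
        lift p (lift (y * z) q) ≫ ψ' = (lift p (lift y q) ≫ ψ') * (lift p (lift z q) ≫ ψ')) ∧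
      (∀ (T : Over S) (p : T ⟶ P) (q : T ⟶ Q) (y : T ⟶ M'') (a : R),
        lift p (lift (y ≫ ρ''.act a) q) ≫ ψ' = (lift p (lift y q) ≫ ψ') ≫ ρN.act a) ∧
      ∀ ψ'' : P ⊗ (M'' ⊗ Q) ⟶ N, (P ◁ (π ▷ Q)) ≫ ψ'' = ψ → ψ'' = ψ' := by
  classical
  have hq := (Groth.Agent.Lib.Helper40.CGrpShApi.epi_ptsMap_iff Scheme.fppfPrecoverage π).mp hepi
  have hker : ∀ (T : Over S) (d : T ⟶ M), d ≫ π = 1 →
      Groth.Agent.Lib.Helper40.QuotShApi.liftSieve j d ∈ QuotSh.J Scheme.fppfPrecoverage S T :=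
    fun T d hd => Groth.Agent.Lib.Helper40.CGrpShApi.liftSieve_mem_of_exact
      Scheme.fppfPrecoverage j π w hex d hd
  set e : P ⊗ (M ⊗ Q) ⟶ P ⊗ (M'' ⊗ Q) := P ◁ (π ▷ Q) with he_def
  have hpt_e : ∀ {T : Over S} (p : T ⟶ P) (y : T ⟶ M) (q : T ⟶ Q),
      lift p (lift y q) ≫ e = lift p (lift (y ≫ π) q) := by
    intro T p y q
    rw [he_def, lift_whiskerLeft, lift_whiskerRight]
  have hcomp : ∀ {A : Over S} {T T' : Over S} (g : T' ⟶ T) (p : T ⟶ P) (y : T ⟶ A) (q : T ⟶ Q),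
      g ≫ lift p (lift y q) = lift (g ≫ p) (lift (g ≫ y) (g ≫ q)) := by
    intro A T T' g p y q
    rw [comp_lift, comp_lift]
  have hdec : ∀ {A : Over S} {T : Over S} (a : T ⟶ P ⊗ (A ⊗ Q)),
      a = lift (a ≫ fst _ _) (lift (a ≫ snd _ _ ≫ fst _ _) (a ≫ snd _ _ ≫ snd _ _)) := by
    intro A T a
    apply CartesianMonoidalCategory.hom_ext
    · rw [lift_fst]
    · rw [lift_snd]
      apply CartesianMonoidalCategory.hom_ext
      · rw [lift_fst, Category.assoc]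
      · rw [lift_snd, Category.assoc]
  -- vanishing on the kernel of π
  have hvan' : ∀ {T : Over S} (p : T ⟶ P) (q : T ⟶ Q) (d : T ⟶ M), d ≫ π = 1 →
      lift p (lift d q) ≫ ψ = 1 := by
    intro T p q d hd
    refine Groth.Agent.Lib.Helper40.MultSchApi.eq_of_locally_eq
      (QuotSh.J Scheme.fppfPrecoverage S) _ _ _ (hker T d hd) ?_
    rintro T' g ⟨d', hd'⟩
    rw [← Category.assoc, hcomp, ← hd', hvan, MonObj.comp_one]
  have he : Groth.Agent.Lib.Helper40.MultSchApi.liftSieve' e ∈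
      QuotSh.J Scheme.fppfPrecoverage S (P ⊗ (M'' ⊗ Q)) := by
    refine GrothendieckTopology.superset_covering _ ?_
      (hq (P ⊗ (M'' ⊗ Q)) (snd P (M'' ⊗ Q) ≫ fst M'' Q))
    rintro T g ⟨x, hx⟩
    refine ⟨lift (g ≫ fst _ _) (lift x (g ≫ snd _ _ ≫ snd _ _)), ?_⟩
    rw [hpt_e, hx]
    exact (hdec g).symm
  have hf : ∀ (T : Over S) (a₁ a₂ : T ⟶ P ⊗ (M ⊗ Q)), a₁ ≫ e = a₂ ≫ e → a₁ ≫ ψ = a₂ ≫ ψ := by
    intro T a₁ a₂ h12
    rw [hdec a₁, hdec a₂, hpt_e, hpt_e] at h12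
    have h1 := congrArg (fun k => k ≫ fst _ _) h12
    have h2 := congrArg (fun k => k ≫ snd _ _ ≫ fst _ _) h12
    have h3 := congrArg (fun k => k ≫ snd _ _ ≫ snd _ _) h12
    simp only [lift_fst, lift_snd_assoc, lift_snd] at h1 h2 h3
    set p₁ := a₁ ≫ fst _ _
    set p₂ := a₂ ≫ fst _ _
    set y₁ := a₁ ≫ snd _ _ ≫ fst _ _
    set y₂ := a₂ ≫ snd _ _ ≫ fst _ _
    set q₁ := a₁ ≫ snd _ _ ≫ snd _ _
    set q₂ := a₂ ≫ snd _ _ ≫ snd _ _
    rw [hdec a₁, hdec a₂]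
    change lift p₁ (lift y₁ q₁) ≫ ψ = lift p₂ (lift y₂ q₂) ≫ ψ
    rw [h1, h3]
    have hd : (y₂⁻¹ * y₁) ≫ π = 1 := by
      rw [MonObj.mul_comp, GrpObj.inv_comp, h2, inv_mul_cancel]
    have hy : y₁ = y₂ * (y₂⁻¹ * y₁) := by rw [mul_inv_cancel_left]
    rw [hy, hadd, hvan' p₂ q₂ _ hd, _root_.mul_one]
  obtain ⟨ψ', hψ', huniq⟩ :=
    Groth.Agent.Lib.Helper40.MultSchApi.existsUnique_desc_of_liftSieve_mem
      (QuotSh.J Scheme.fppfPrecoverage S) e he ψ hf
  have hψ'pt : ∀ {T : Over S} (p : T ⟶ P) (x : T ⟶ M) (q : T ⟶ Q),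
      lift p (lift (x ≫ π) q) ≫ ψ' = lift p (lift x q) ≫ ψ := by
    intro T p x q
    rw [← hpt_e, Category.assoc, hψ']
  refine ⟨ψ', hψ', ?_, ?_, fun ψ'' h'' => huniq ψ'' h''⟩
  · intro T p q y z
    have hE := GrothendieckTopology.intersection_covering _ (hq T y) (hq T z)
    refine Groth.Agent.Lib.Helper40.MultSchApi.eq_of_locally_eq
      (QuotSh.J Scheme.fppfPrecoverage S) _ _ _ hE ?_
    rintro T' g ⟨⟨xy, hxy⟩, ⟨xz, hxz⟩⟩
    rw [← Category.assoc, hcomp, MonObj.comp_mul, MonObj.comp_mul, ← Category.assoc,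
      ← Category.assoc, hcomp, hcomp, ← hxy, ← hxz, ← MonObj.mul_comp, hψ'pt, hψ'pt, hψ'pt, hadd]
  · intro T p q y a
    refine Groth.Agent.Lib.Helper40.MultSchApi.eq_of_locally_eq
      (QuotSh.J Scheme.fppfPrecoverage S) _ _ _ (hq T y) ?_
    rintro T' g ⟨x, hx⟩
    rw [← Category.assoc, hcomp, ← Category.assoc g, ← hx, Category.assoc x, hπ,
      ← Category.assoc x, hψ'pt, hlin, ← Category.assoc, ← Category.assoc, hcomp, ← hx, hψ'pt]

end Groth.Agent.S13636
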