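import Groth.Statements.S13642
-- import your own Groth.Agent.* helpers here

set_option autoImplicit false
open CategoryTheory
universe u
open FSch

namespace Groth.Agent.S13642

open AlgebraicGeometry

/-- Let f : 𝔛 ⟶ 𝔜 be a finite morphism of locally Noetherian formal schemes (adic, with finite morphism
of smallest levels). Then for every open U of 𝔜 the restriction f⁻¹(U) ⟶ U of f to the induced
formal schemes on U and on its inverse image is a finite morphism. -/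
theorem result (𝔛 𝔜 : FSch.Sys.{u}) (h𝔛 : 𝔛.IsLocNoethFormal) (h𝔜 : 𝔜.IsLocNoethFormal)
    (f : 𝔛 ⟶ 𝔜) (hf : FSch.IsFiniteHom f) (U : (𝔜.X 0).Opens) :
    FSch.IsFiniteHom (FSch.Hom.restrictOpen f h𝔛.1 h𝔜.1 U) := by
  obtain ⟨hadic, hfin⟩ := hf
  refine ⟨fun n => ?_, ?_⟩
  · exact AlgebraicGeometry.Scheme.Hom.isPullback_resLE (hadic n)
      (𝔜.lvU_le h𝔜.1 n U) (FSch.Hom.lvU_preimage f h𝔛.1 h𝔜.1 (n + 1) U).ge
      (by rw [𝔛.lvU_succ h𝔛.1 n, FSch.Hom.lvU_preimage f h𝔛.1 h𝔜.1 n U, inf_idem])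
  · change AlgebraicGeometry.IsFinite (((f : FSch.Hom 𝔛 𝔜).app 0).resLE (𝔜.lvU h𝔜.1 0 U)
      (𝔛.lvU h𝔛.1 0 ((f : FSch.Hom 𝔛 𝔜).app 0 ⁻¹ᵁ U)) (FSch.Hom.lvU_preimage f h𝔛.1 h𝔜.1 0 U).ge)
    refine (AlgebraicGeometry.Scheme.Hom.resLE_congr ((f : FSch.Hom 𝔛 𝔜).app 0) _ rfl
      (FSch.Hom.lvU_preimage f h𝔛.1 h𝔜.1 0 U).symm @AlgebraicGeometry.IsFinite).mpr ?_
    rw [AlgebraicGeometry.Scheme.Hom.resLE_eq_morphismRestrict]
    have := hfin
    infer_instance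

end Groth.Agent.S13642
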