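import Groth.Statements.S13663
-- import your own Groth.Agent.* helpers here

set_option autoImplicit false
universe u
open GrRing

namespace Groth.Agent.S13663

section Helpers

variable {R A : Type u} [CommRing R] [CommRing A] [Algebra R A]
    (𝒜 : ℤ → Submodule R A) [GradedAlgebra 𝒜]
    {p : ℕ} (f : Fin p → A) (deg : Fin p → ℤ)

/-- the monomial `∏ f_i ^ α_i` -/
def mon (α : Fin p → ℕ) : A := ∏ i, f i ^ α i

/-- its weight `∑ α_i * deg_i` -/
def wt (α : Fin p → ℕ) : ℤ := ∑ i, (α i : ℤ) * deg i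

theorem mon_add (α β : Fin p → ℕ) : mon f (α + β) = mon f α * mon f β := by
  simp [mon, pow_add, Finset.prod_mul_distrib]

theorem wt_add (α β : Fin p → ℕ) : wt deg (α + β) = wt deg α + wt deg β := by
  simp [wt, add_mul, Finset.sum_add_distrib]

theorem mon_single (i : Fin p) (m : ℕ) : mon f (Pi.single i m) = f i ^ m := by
  unfold mon
  rw [Finset.prod_eq_single i]
  · simp
  · intro j _ hj
    simp [Pi.single_eq_of_ne hj]
  · intro h; exact absurd (Finset.mem_univ i) h

theorem wt_single (i : Fin p) (m : ℕ) : wt deg (Pi.single i m) = (m : ℤ) * deg i := by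
  unfold wt
  rw [Finset.sum_eq_single i]
  · simp
  · intro j _ hj
    simp [Pi.single_eq_of_ne hj]
  · intro h; exact absurd (Finset.mem_univ i) h

theorem mon_mem (hf : ∀ i, f i ∈ 𝒜 (deg i)) (α : Fin p → ℕ) : mon f α ∈ 𝒜 (wt deg α) := by
  unfold mon wt
  refine SetLike.prod_mem_graded _ _ _ (fun i _ => ?_)
  have := SetLike.pow_mem_graded (α i) (hf i)
  rwa [nsmul_eq_mul] at this

theorem decomp (hf : ∀ i, f i ∈ 𝒜 (deg i))
    (hgen : Ideal.span {a : A | ∃ n : ℤ, 0 < n ∧ a ∈ 𝒜 n} = Ideal.span (Set.range f))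
    {n : ℤ} (hn : 0 < n) {a : A} (ha : a ∈ 𝒜 n) :
    ∃ c : Fin p → A, (∀ i, c i ∈ 𝒜 (n - deg i)) ∧ a = ∑ i, c i * f i := by
  have h1 : a ∈ Ideal.span (Set.range f) := by
    rw [← hgen]; exact Ideal.subset_span ⟨n, hn, ha⟩
  obtain ⟨c, hc⟩ := (Submodule.mem_span_range_iff_exists_fun A).1 h1
  simp only [smul_eq_mul] at hc
  refine ⟨fun i => (DirectSum.decompose 𝒜 (c i) (n - deg i) : A), fun i => SetLike.coe_mem _, ?_⟩
  have h2 : a = (DirectSum.decompose 𝒜 a n : A) := (DirectSum.decompose_of_mem_same 𝒜 ha).symm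
  rw [h2, ← hc, DirectSum.decompose_sum, DFinsupp.finsetSum_apply, AddSubmonoidClass.coe_finsetSum]
  refine Finset.sum_congr rfl (fun i _ => ?_)
  have h3 := DirectSum.coe_decompose_mul_add_of_right_mem 𝒜 (i := n - deg i) (a := c i) (hf i)
  rw [sub_add_cancel] at h3
  exact h3

variable (d : ℤ)

theorem big (hf : ∀ i, f i ∈ 𝒜 (deg i)) (e : Fin p → ℕ) (he : ∀ i, (e i : ℤ) * deg i = d)
    {n : ℤ} {a : A} (ha : a ∈ 𝒜 n) (α : Fin p → ℕ) (i : Fin p) (hi : e i ≤ α i) :
    a * mon f α ∈ 𝒜 d * 𝒜 (n + wt deg α - d) := by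
  obtain ⟨β, rfl⟩ : ∃ β : Fin p → ℕ, α = β + Pi.single i (e i) := by
    refine ⟨α - Pi.single i (e i), ?_⟩
    funext j
    by_cases hj : j = i
    · subst hj; simp; omega
    · simp [Pi.single_eq_of_ne hj]
  rw [mon_add, wt_add, mon_single, wt_single, he]
  have h1 : f i ^ e i ∈ 𝒜 d := by
    have := SetLike.pow_mem_graded (e i) (hf i)
    rwa [nsmul_eq_mul, he] at this
  have h2 : a * mon f β ∈ 𝒜 (n + wt deg β) := SetLike.mul_mem_graded ha (mon_mem 𝒜 f deg hf β)
  have h3 : a * (mon f β * f i ^ e i) = f i ^ e i * (a * mon f β) := by ring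
  rw [h3]
  have h4 : n + (wt deg β + d) - d = n + wt deg β := by ring
  rw [h4]
  exact Submodule.mul_mem_mul h1 h2

theorem wt_le (hdeg : ∀ i, 0 < deg i) (e : Fin p → ℕ) (he : ∀ i, (e i : ℤ) * deg i = d)
    (α : Fin p → ℕ) (h : ∀ i, α i < e i) : wt deg α ≤ d * p - ∑ i, deg i := by
  unfold wt
  have h1 : ∑ i, (α i : ℤ) * deg i ≤ ∑ i : Fin p, (d - deg i) := by
    refine Finset.sum_le_sum (fun i _ => ?_)
    have h2 : (α i : ℤ) ≤ (e i : ℤ) - 1 := by have := h i; omega
    calc (α i : ℤ) * deg i ≤ ((e i : ℤ) - 1) * deg i :=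
          mul_le_mul_of_nonneg_right h2 (hdeg i).le
      _ = d - deg i := by rw [sub_mul, he, one_mul]
  refine h1.trans (le_of_eq ?_)
  rw [Finset.sum_sub_distrib, Finset.sum_const, Finset.card_univ, Fintype.card_fin, nsmul_eq_mul]
  ring

theorem key (hdeg : ∀ i, 0 < deg i) (hf : ∀ i, f i ∈ 𝒜 (deg i))
    (hgen : Ideal.span {a : A | ∃ n : ℤ, 0 < n ∧ a ∈ 𝒜 n} = Ideal.span (Set.range f))
    (e : Fin p → ℕ) (he : ∀ i, (e i : ℤ) * deg i = d) :
    ∀ k : ℕ, ∀ n : ℤ, n ≤ k → ∀ (α : Fin p → ℕ) (a : A), a ∈ 𝒜 n →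
      d * p - ∑ i, deg i < n + wt deg α → a * mon f α ∈ 𝒜 d * 𝒜 (n + wt deg α - d) := by
  intro k
  induction k with
  | zero =>
    intro n hn α a ha hB
    by_cases h : ∃ i, e i ≤ α i
    · obtain ⟨i, hi⟩ := h
      exact big 𝒜 f deg d hf e he ha α i hi
    · push Not at h
      have := wt_le deg d hdeg e he α h
      have hn' : n ≤ 0 := by exact_mod_cast hn
      omega
  | succ k ih =>
    intro n hn α a ha hB
    by_cases h : ∃ i, e i ≤ α i
    · obtain ⟨i, hi⟩ := h
      exact big 𝒜 f deg d hf e he ha α i hi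
    · push Not at h
      have hw := wt_le deg d hdeg e he α h
      have hn0 : 0 < n := by omega
      obtain ⟨c, hc, rfl⟩ := decomp 𝒜 f deg hf hgen hn0 ha
      rw [Finset.sum_mul]
      refine Submodule.sum_mem _ (fun j _ => ?_)
      have h1 : c j * f j * mon f α = c j * mon f (α + Pi.single j 1) := by
        rw [mon_add, mon_single, pow_one]; ring
      have h2 : n - deg j + wt deg (α + Pi.single j 1) = n + wt deg α := by
        rw [wt_add, wt_single]; push_cast; ring
      have h3 := ih (n - deg j) (by have := hdeg j; push_cast at hn; omega) (α + Pi.single j 1) (c j) (hc j)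
        (by rw [h2]; exact hB)
      rw [h2] at h3
      rw [h1]
      exact h3

end Helpers

/-- Let A be a commutative ring graded by the integers whose ideal generated by the homogeneous elements
of positive degree has homogeneous generators f_1, …, f_p, of positive degrees d_1, …, d_p, and let
d be a positive integer divisible by each d_i. Then A_N = A_d · A_{N-d} for every integer N > dp -
(d_1 + ⋯ + d_p). -/
theorem result {R A : Type u} [CommRing R] [CommRing A] [Algebra R A]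
    (𝒜 : ℤ → Submodule R A) [GradedAlgebra 𝒜]
    {p : ℕ} (f : Fin p → A) (deg : Fin p → ℤ) (hdeg : ∀ i, 0 < deg i) (hf : ∀ i, f i ∈ 𝒜 (deg i))
    (hgen : Ideal.span {a : A | ∃ n : ℤ, 0 < n ∧ a ∈ 𝒜 n} = Ideal.span (Set.range f))
    (d : ℤ) (hd : 0 < d) (hdvd : ∀ i, deg i ∣ d) (N : ℤ) (hN : d * p - ∑ i, deg i < N) :
    𝒜 N = 𝒜 d * 𝒜 (N - d) := by
  have he : ∀ i, (((d / deg i).toNat : ℕ) : ℤ) * deg i = d := by
    intro i
    rw [Int.toNat_of_nonneg (Int.ediv_nonneg hd.le (hdeg i).le)]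
    exact Int.ediv_mul_cancel (hdvd i)
  apply le_antisymm
  · intro x hx
    have h := key 𝒜 f deg d hdeg hf hgen (fun i => (d / deg i).toNat) he N.toNat N
      (Int.self_le_toNat N) (fun _ => 0) x hx
    have hw : wt deg (fun _ : Fin p => 0) = 0 := by simp [wt]
    have hm : mon f (fun _ : Fin p => 0) = 1 := by simp [mon]
    rw [hw, hm, add_zero, mul_one] at h
    exact h hN
  · rw [Submodule.mul_le]
    intro a ha b hb
    have := SetLike.mul_mem_graded ha hb
    rwa [add_sub_cancel] at this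

end Groth.Agent.S13663
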