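import Groth.Statements.S13664
import Mathlib.RingTheory.Finiteness.Ideal
import Mathlib.RingTheory.Ideal.Operations
-- import your own Groth.Agent.* helpers here

set_option autoImplicit false
universe u
open GrRing

namespace Groth.Agent.S13664

section Helpers

variable {R A : Type u} [CommRing R] [CommRing A] [Algebra R A]
    (𝒜 : ℤ → Submodule R A) [GradedAlgebra 𝒜]
    {p : ℕ} (f : Fin p → A) (deg : Fin p → ℤ)

theorem decomp (hf : ∀ i, f i ∈ 𝒜 (deg i))
    (hgen : Ideal.span {a : A | ∃ n : ℤ, 0 < n ∧ a ∈ 𝒜 n} = Ideal.span (Set.range f))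
    {n : ℤ} (hn : 0 < n) {a : A} (ha : a ∈ 𝒜 n) :
    ∃ c : Fin p → A, (∀ i, c i ∈ 𝒜 (n - deg i)) ∧ a = ∑ i, c i * f i := by
  have h1 : a ∈ Ideal.span (Set.range f) := by
    rw [← hgen]; exact Ideal.subset_span ⟨n, hn, ha⟩
  obtain ⟨c, hc⟩ := (Submodule.mem_span_range_iff_exists_fun A).1 h1
  simp only [smul_eq_mul] at hc
  refine ⟨fun i => (DirectSum.decompose 𝒜 (c i) (n - deg i) : A), fun i => SetLike.coe_mem _, ?_⟩
  have h2 : a = (DirectSum.decompose 𝒜 a n : A) := (DirectSum.decompose_of_mem_same 𝒜 ha).symm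
  rw [h2, ← hc, DirectSum.decompose_sum, DFinsupp.finsetSum_apply, AddSubmonoidClass.coe_finsetSum]
  refine Finset.sum_congr rfl (fun i _ => ?_)
  have h3 := DirectSum.coe_decompose_mul_add_of_right_mem 𝒜 (i := n - deg i) (a := c i) (hf i)
  rw [sub_add_cancel] at h3
  exact h3

theorem piece_le_pow (hf : ∀ i, f i ∈ 𝒜 (deg i))
    (hgen : Ideal.span {a : A | ∃ n : ℤ, 0 < n ∧ a ∈ 𝒜 n} = Ideal.span (Set.range f))
    (d : ℤ) (hd : 0 < d) (hdvd : ∀ i, deg i ∣ d) :
    ∀ k : ℕ, ∀ n : ℤ, (k : ℤ) * d < n → ∀ a ∈ 𝒜 n, a ∈ (Ideal.span (Set.range f)) ^ k := by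
  intro k
  induction k with
  | zero => intro n _ a _; simp
  | succ k ih =>
    intro n hn a ha
    have hkd : (0 : ℤ) ≤ (k : ℤ) * d := mul_nonneg (Int.natCast_nonneg k) hd.le
    have hn0 : 0 < n := by push_cast at hn; nlinarith
    obtain ⟨c, hc, rfl⟩ := decomp 𝒜 f deg hf hgen hn0 ha
    refine Ideal.sum_mem _ (fun j _ => ?_)
    rw [pow_succ]
    refine Ideal.mul_mem_mul (ih (n - deg j) ?_ (c j) (hc j)) (Ideal.subset_span ⟨j, rfl⟩)
    have := Int.le_of_dvd hd (hdvd j)
    push_cast at hn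
    linarith

theorem pow_piece_le (d : ℤ) : ∀ n : ℕ, (𝒜 d) ^ n ≤ 𝒜 ((n : ℤ) * d) := by
  intro n
  induction n with
  | zero =>
    rw [pow_zero, Submodule.one_le]
    simpa using SetLike.GradedOne.one_mem (A := 𝒜)
  | succ n ih =>
    rw [pow_succ, Submodule.mul_le]
    intro a ha b hb
    have := SetLike.mul_mem_graded (ih ha) hb
    have h2 : ((n + 1 : ℕ) : ℤ) * d = (n : ℤ) * d + d := by push_cast; ring
    rwa [h2]

end Helpers

/-- Let A be a commutative ring graded by the integers whose ideal I generated by the homogeneous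
elements of positive degree has homogeneous generators f_1, …, f_p, of positive degrees d_1, …, d_p,
let d be a positive integer divisible by each d_i, and let x be an element of an A-module M. The
following are equivalent: x is annihilated by some power of I; x is annihilated by (A_d)^n for all
sufficiently large n; there is an integer s such that A_n x = 0 for all n ≥ s. (The published
statement is for a homogeneous element of a graded module; this row drops both the grading of M and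
the homogeneity of x, which play no role.) -/
theorem result {R A : Type u} [CommRing R] [CommRing A] [Algebra R A]
    (𝒜 : ℤ → Submodule R A) [GradedAlgebra 𝒜]
    {p : ℕ} (f : Fin p → A) (deg : Fin p → ℤ) (hdeg : ∀ i, 0 < deg i) (hf : ∀ i, f i ∈ 𝒜 (deg i))
    (hgen : Ideal.span {a : A | ∃ n : ℤ, 0 < n ∧ a ∈ 𝒜 n} = Ideal.span (Set.range f))
    (d : ℤ) (hd : 0 < d) (hdvd : ∀ i, deg i ∣ d)
    {M : Type u} [AddCommGroup M] [Module A M] (x : M) :
    [x ∈ GrLC.gam (Ideal.span (Set.range f)) M,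
     ∃ n₀ : ℕ, ∀ n : ℕ, n₀ ≤ n → ∀ r ∈ (𝒜 d) ^ n, r • x = 0,
     ∃ s : ℤ, ∀ n : ℤ, s ≤ n → ∀ r ∈ 𝒜 n, r • x = 0].TFAE := by
  tfae_have 1 → 3 := by
    rintro ⟨k, hk⟩
    refine ⟨(k : ℤ) * d + 1, fun n hn r hr => hk r ?_⟩
    exact piece_le_pow 𝒜 f deg hf hgen d hd hdvd k n (by omega) r hr
  tfae_have 3 → 2 := by
    rintro ⟨s, hs⟩
    refine ⟨s.toNat, fun n hn r hr => hs ((n : ℤ) * d) ?_ r (pow_piece_le 𝒜 d n hr)⟩
    have h1 : s ≤ (n : ℤ) := by
      have := Int.self_le_toNat s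
      have : (s.toNat : ℤ) ≤ (n : ℤ) := by exact_mod_cast hn
      omega
    have h2 : (0 : ℤ) ≤ (n : ℤ) := Int.natCast_nonneg n
    nlinarith
  tfae_have 2 → 1 := by
    rintro ⟨n₀, hn₀⟩
    have he : ∀ i, (((d / deg i).toNat : ℕ) : ℤ) * deg i = d := by
      intro i
      rw [Int.toNat_of_nonneg (Int.ediv_nonneg hd.le (hdeg i).le)]
      exact Int.ediv_mul_cancel (hdvd i)
    have hrad : Ideal.span (Set.range f) ≤ Ideal.radical (LinearMap.ker (LinearMap.toSpanSingleton A M x)) := by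
      rw [Ideal.span_le]
      rintro _ ⟨i, rfl⟩
      refine ⟨(d / deg i).toNat * n₀, ?_⟩
      rw [LinearMap.mem_ker, LinearMap.toSpanSingleton_apply, pow_mul]
      refine hn₀ n₀ le_rfl _ (Submodule.pow_mem_pow _ ?_ n₀)
      have := SetLike.pow_mem_graded (d / deg i).toNat (hf i)
      rwa [nsmul_eq_mul, he] at this
    obtain ⟨k, hk⟩ := Ideal.exists_pow_le_of_le_radical_of_fg hrad
      (Submodule.fg_span (Set.finite_range f))
    refine ⟨k, fun r hr => ?_⟩
    have := hk hr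
    rwa [LinearMap.mem_ker, LinearMap.toSpanSingleton_apply] at this
  tfae_finish

end Groth.Agent.S13664
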