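import Groth.Statements.S13665
import Mathlib.Tactic
import Mathlib.RingTheory.GradedAlgebra.Homogeneous.Ideal
import Mathlib.RingTheory.FiniteType
import Mathlib.RingTheory.Adjoin.FG
import Mathlib.RingTheory.Noetherian.Basic
-- import your own Groth.Agent.* helpers here

set_option autoImplicit false
universe u
open GrRing

namespace Groth.Agent.S13665

open DirectSum

section
variable {R A : Type u} [CommRing R] [CommRing A] [Algebra R A]
    (𝒜 : ℤ → Submodule R A) [GradedAlgebra 𝒜]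

/-- Lemma K: homogeneous combination. -/
theorem lemmaK (s : Finset A) (d : A → ℤ) (hd : ∀ t ∈ s, t ∈ 𝒜 (d t)) (n : ℤ) (y : A)
    (hy : y ∈ 𝒜 n) (hys : y ∈ Ideal.span (s : Set A)) :
    ∃ c : A → A, (∀ t ∈ s, c t ∈ 𝒜 (n - d t)) ∧ y = ∑ t ∈ s, c t * t := by
  obtain ⟨f, hf⟩ := (Submodule.mem_span_finset).1 hys
  refine ⟨fun t => (decompose 𝒜 (f t) (n - d t) : A), fun t _ => SetLike.coe_mem _, ?_⟩
  have h1 : (decompose 𝒜 y n : A) = y := decompose_of_mem_same 𝒜 hy
  rw [← h1, ← hf.2, decompose_sum, DFinsupp.finsetSum_apply, AddSubmonoidClass.coe_finsetSum]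
  apply Finset.sum_congr rfl
  intro t ht
  have h2 : n = (n - d t) + d t := by ring
  rw [smul_eq_mul]
  conv_lhs => rw [h2]
  exact coe_decompose_mul_add_of_right_mem 𝒜 (hd t ht)

variable (H : ∀ I : Ideal A, I.IsHomogeneous 𝒜 → I.FG)
include H

theorem fgSubset (P : Set A) (hP : ∀ x ∈ P, SetLike.IsHomogeneousElem 𝒜 x) :
    ∃ s : Finset A, (s : Set A) ⊆ P ∧ Ideal.span P = Ideal.span (s : Set A) := by
  have h1 : (Ideal.span P).FG := H _ (Ideal.homogeneous_span 𝒜 P hP)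
  exact (Submodule.fg_span_iff_fg_span_finset_subset P).1 h1

theorem lemmaM (n : ℤ) (N : Set A) (hN : N ⊆ 𝒜 n) :
    ∃ s : Finset A, (s : Set A) ⊆ N ∧ ∀ y ∈ N, ∃ c : A → A,
      (∀ t ∈ s, c t ∈ 𝒜 0) ∧ y = ∑ t ∈ s, c t * t := by
  obtain ⟨s, hsN, hs⟩ := fgSubset 𝒜 H N (fun x hx => ⟨n, hN hx⟩)
  refine ⟨s, hsN, fun y hy => ?_⟩
  have hys : y ∈ Ideal.span (s : Set A) := by
    rw [← hs]; exact Ideal.subset_span hy
  obtain ⟨c, hc, hyc⟩ := lemmaK 𝒜 s (fun _ => n) (fun t ht => hN (hsN ht)) n y (hN hy) hys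
  refine ⟨c, fun t ht => ?_, hyc⟩
  have := hc t ht
  rwa [sub_self] at this

theorem noeth0 : IsNoetherianRing (𝒜 0) := by
  classical
  rw [isNoetherianRing_iff_ideal_fg]
  intro I
  obtain ⟨s, hsN, hs⟩ := lemmaM 𝒜 H 0 ((↑) '' (I : Set (𝒜 0)))
    (by rintro _ ⟨x, _, rfl⟩; exact x.2)
  have hs0 : ∀ t ∈ s, t ∈ 𝒜 0 := fun t ht => by
    obtain ⟨x, _, rfl⟩ := hsN ht; exact x.2
  let S' : Finset (𝒜 0) := s.attach.image (fun t => ⟨t.1, hs0 t.1 t.2⟩)
  refine ⟨S', le_antisymm ?_ ?_⟩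
  · rw [Submodule.span_le]
    intro x hx
    simp only [S', Finset.coe_image, Set.mem_image, Finset.mem_coe, Finset.mem_attach,
      true_and] at hx
    obtain ⟨t, rfl⟩ := hx
    obtain ⟨x', hx', hxt⟩ := hsN t.2
    have : (⟨t.1, hs0 t.1 t.2⟩ : 𝒜 0) = x' := Subtype.ext hxt.symm
    rw [this]; exact hx'
  · intro a ha
    obtain ⟨c, hc, hac⟩ := hs a.1 ⟨a, ha, rfl⟩
    have : a = ∑ t ∈ s.attach, (⟨c t.1, hc t.1 t.2⟩ : 𝒜 0) * ⟨t.1, hs0 t.1 t.2⟩ := by
      apply Subtype.ext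
      rw [hac, ← Finset.sum_attach]
      simp
    rw [this]
    refine Submodule.sum_mem _ (fun t _ => ?_)
    refine Ideal.mul_mem_left _ _ (Submodule.subset_span ?_)
    simp only [S', Finset.coe_image, Set.mem_image, Finset.mem_coe, Finset.mem_attach, true_and]
    exact ⟨t, rfl⟩

theorem half_fg (σ : ℤ) (hσ : σ * σ = 1) :
    (Algebra.adjoin (𝒜 0) {a : A | ∃ n : ℤ, 0 ≤ σ * n ∧ a ∈ 𝒜 n}).FG := by
  classical
  set Q : Set A := {a : A | ∃ n : ℤ, 0 ≤ σ * n ∧ a ∈ 𝒜 n} with hQ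
  set P : Set A := {a : A | ∃ n : ℤ, 0 < σ * n ∧ a ∈ 𝒜 n} with hP
  obtain ⟨s, hsP, hs⟩ := fgSubset 𝒜 H P (fun x hx => ⟨_, hx.choose_spec.2⟩)
  have hex : ∀ t : A, ∃ n : ℤ, t ∈ s → (0 < σ * n ∧ t ∈ 𝒜 n) := by
    intro t
    by_cases h : t ∈ s
    · obtain ⟨n, hn⟩ := hsP h
      exact ⟨n, fun _ => hn⟩
    · exact ⟨0, fun h' => absurd h' h⟩
  choose d hd using hex
  obtain ⟨D, hD⟩ := Finset.exists_le (s.image (fun t => σ * d t))
  have hD' : ∀ t ∈ s, σ * d t ≤ D := fun t ht => hD _ (Finset.mem_image_of_mem _ ht)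
  have hG := fun m : ℕ => lemmaM 𝒜 H (σ * m) (𝒜 (σ * m)) subset_rfl
  choose G hG1 hG2 using hG
  let Gen : Finset A := s ∪ (Finset.range D.toNat).biUnion G
  have hσσ : ∀ z : ℤ, σ * (σ * z) = z := fun z => by rw [← mul_assoc, hσ, one_mul]
  have claim1 : (Gen : Set A) ⊆ Q := by
    intro t ht
    simp only [Gen, Finset.coe_union, Finset.coe_biUnion, Set.mem_union, Finset.mem_coe,
      Set.mem_iUnion] at ht
    rcases ht with ht | ⟨m, -, ht⟩
    · obtain ⟨n, hn, htn⟩ := hsP ht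
      exact ⟨n, hn.le, htn⟩
    · exact ⟨σ * m, by rw [hσσ]; exact Int.natCast_nonneg m, hG1 m ht⟩
  have claim2 : ∀ m : ℕ, ∀ y ∈ 𝒜 (σ * m), y ∈ Algebra.adjoin (𝒜 0) (Gen : Set A) := by
    intro m
    induction m using Nat.strong_induction_on with
    | _ m ih =>
      intro y hy
      rcases Nat.eq_zero_or_pos m with rfl | hm
      · simp only [Nat.cast_zero, mul_zero] at hy
        exact (Algebra.adjoin (𝒜 0) (Gen : Set A)).algebraMap_mem ⟨y, hy⟩
      · by_cases hmD : (m : ℤ) < D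
        · -- module generation
          obtain ⟨c, hc, hyc⟩ := hG2 m y hy
          rw [hyc]
          refine Subalgebra.sum_mem _ (fun t ht => ?_)
          have ht' : t ∈ Algebra.adjoin (𝒜 0) (Gen : Set A) := by
            apply Algebra.subset_adjoin
            simp only [Gen, Finset.coe_union, Finset.coe_biUnion, Set.mem_union, Finset.mem_coe,
              Set.mem_iUnion]
            refine Or.inr ⟨m, ?_, ht⟩
            rw [Finset.mem_range]
            omega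
          exact Subalgebra.mul_mem _
            ((Algebra.adjoin (𝒜 0) (Gen : Set A)).algebraMap_mem ⟨c t, hc t ht⟩) ht'
        · -- ideal generation
          have hyP : y ∈ P := ⟨σ * m, by rw [hσσ]; exact_mod_cast hm, hy⟩
          have hys : y ∈ Ideal.span (s : Set A) := by
            rw [← hs]; exact Ideal.subset_span hyP
          obtain ⟨c, hc, hyc⟩ := lemmaK 𝒜 s d (fun t ht => (hd t ht).2) (σ * m) y hy hys
          rw [hyc]
          refine Subalgebra.sum_mem _ (fun t ht => ?_)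
          have ht' : t ∈ Algebra.adjoin (𝒜 0) (Gen : Set A) := by
            apply Algebra.subset_adjoin
            simp only [Gen, Finset.coe_union, Set.mem_union, Finset.mem_coe]
            exact Or.inl ht
          have h1 := (hd t ht).1
          have h2 := hD' t ht
          -- the σ-degree of c t
          have hdeg : σ * m - d t = σ * ((m - σ * d t).toNat : ℤ) := by
            rw [Int.toNat_of_nonneg (by omega), mul_sub, hσσ]
          have hlt : (m - σ * d t).toNat < m := by omega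
          have hct := hc t ht
          rw [hdeg] at hct
          exact Subalgebra.mul_mem _ (ih _ hlt _ hct) ht'
  refine ⟨Gen, le_antisymm (Algebra.adjoin_mono claim1) (Algebra.adjoin_le ?_)⟩
  rintro a ⟨n, hn, han⟩
  have : n = σ * ((σ * n).toNat : ℤ) := by
    rw [Int.toNat_of_nonneg hn, hσσ]
  rw [this] at han
  exact claim2 _ a han

end

/-- For a commutative ring A graded by the integers, with degree-zero subring A_0, the following are
equivalent: A is Noetherian; each homogeneous ideal of A has a finite generating set; A_0 is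
Noetherian and the subalgebras A_{≥0}, A_{≤0} are each of finite type over A_0; A_0 is Noetherian
and A is an A_0-algebra of finite type. -/
theorem result {R A : Type u} [CommRing R] [CommRing A] [Algebra R A]
    (𝒜 : ℤ → Submodule R A) [GradedAlgebra 𝒜] :
    [IsNoetherianRing A,
     ∀ I : Ideal A, I.IsHomogeneous 𝒜 → I.FG,
     IsNoetherianRing (𝒜 0) ∧ (Algebra.adjoin (𝒜 0) {a : A | ∃ n : ℤ, 0 ≤ n ∧ a ∈ 𝒜 n}).FG ∧
       (Algebra.adjoin (𝒜 0) {a : A | ∃ n : ℤ, n ≤ 0 ∧ a ∈ 𝒜 n}).FG,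
     IsNoetherianRing (𝒜 0) ∧ Algebra.FiniteType (𝒜 0) A].TFAE := by
  tfae_have 1 → 2 := fun h I _ => IsNoetherian.noetherian I
  tfae_have 2 → 3 := by
    intro H
    refine ⟨noeth0 𝒜 H, ?_, ?_⟩
    · have := half_fg 𝒜 H 1 (by norm_num)
      simpa using this
    · have := half_fg 𝒜 H (-1) (by norm_num)
      simpa using this
  tfae_have 3 → 4 := by
    rintro ⟨h0, hp, hn⟩
    refine ⟨h0, ⟨?_⟩⟩
    have htop : (⊤ : Subalgebra (𝒜 0) A) =
        Algebra.adjoin (𝒜 0) {a : A | ∃ n : ℤ, 0 ≤ n ∧ a ∈ 𝒜 n} ⊔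
          Algebra.adjoin (𝒜 0) {a : A | ∃ n : ℤ, n ≤ 0 ∧ a ∈ 𝒜 n} := by
      symm
      rw [eq_top_iff]
      intro a _
      classical
      rw [← DirectSum.sum_support_decompose 𝒜 a]
      refine Subalgebra.sum_mem _ (fun i _ => ?_)
      rcases le_total 0 i with hi | hi
      · exact (le_sup_left : Algebra.adjoin (𝒜 0) {a : A | ∃ n : ℤ, 0 ≤ n ∧ a ∈ 𝒜 n} ≤ _)
          (Algebra.subset_adjoin ⟨i, hi, SetLike.coe_mem _⟩)
      · exact (le_sup_right : Algebra.adjoin (𝒜 0) {a : A | ∃ n : ℤ, n ≤ 0 ∧ a ∈ 𝒜 n} ≤ _)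
          (Algebra.subset_adjoin ⟨i, hi, SetLike.coe_mem _⟩)
    rw [htop]
    exact hp.sup hn
  tfae_have 4 → 1 := by
    rintro ⟨h1, h2⟩
    exact Algebra.FiniteType.isNoetherianRing (𝒜 0) A
  tfae_finish

end Groth.Agent.S13665
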