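import Groth.Statements.S13682
import Mathlib

set_option autoImplicit false
universe u v w
open scoped BigOperators
open BTGrp

namespace Groth.Agent.S13682

section helpers

variable {A : Type u} [CommRing A] {r : ℕ} {M : Fin r → Type v} {N : Type w}
  [∀ i, AddCommGroup (M i)] [∀ i, Module A (M i)] [AddCommGroup N] [Module A N]

theorem tele (φ : MultilinearMap A M N) (a b : ∀ k, M k) :
    φ a - φ b = ∑ c : Fin r, φ (fun l => if l < c then a l else if c = l then a l - b l else b l) := by
  have := φ.map_sub_map_piecewise a b Finset.univ
  rw [Finset.piecewise_univ] at this
  rw [this]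
  refine Finset.sum_congr rfl fun c _ => ?_
  congr 1
  funext l
  simp

end helpers

/-- Let A be a commutative ring, α ∈ A a non-zero-divisor, M_1, …, M_r and N modules over A and φ : M_1
× ⋯ × M_r → N an A-multilinear map. Let n be a natural number and let y_{i,j} (j < n) and w_{i,j} (j
≤ n) be elements of M_i with w_{i,j+1} = w_{i,j} + α y_{i,j} for all i and all j < n. Then Σ_i
Σ_{j<n} φ(w_{1,j+1}, …, w_{i-1,j+1}, y_{i,j}, w_{i+1,j}, …, w_{r,j}) = Σ_i Σ_{j<n} φ(w_{1,n}, …,
w_{i-1,n}, y_{i,j}, w_{i+1,0}, …, w_{r,0}). (The published statement takes n ≥ 1; for n = 0 both
sides are empty sums. The families y, w are indexed by all natural numbers here and only the indices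
named above enter.) -/
theorem result {A : Type u} [CommRing A] (α : A) (hα : α ∈ nonZeroDivisors A)
    {r : ℕ} (M : Fin r → Type v) (N : Type w) [∀ i, AddCommGroup (M i)] [∀ i, Module A (M i)]
    [AddCommGroup N] [Module A N] (φ : MultilinearMap A M N) (n : ℕ)
    (y w : ∀ i, ℕ → M i) (hw : ∀ i, ∀ j < n, w i (j + 1) = w i j + α • y i j) :
    (∑ i : Fin r, ∑ j ∈ Finset.range n,
        φ (fun k => if k < i then w k (j + 1) else if k = i then y k j else w k j)) =
      ∑ i : Fin r, ∑ j ∈ Finset.range n,
        φ (fun k => if k < i then w k n else if k = i then y k j else w k 0) := by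
  classical
  induction n with
  | zero => simp
  | succ n ih =>
    have ih' := ih (fun i j hj => hw i j (by omega))
    have hYsum : ∀ k, w k n - w k 0 = α • ∑ j ∈ Finset.range n, y k j := by
      intro k
      have : ∀ m, m ≤ n → w k m - w k 0 = α • ∑ j ∈ Finset.range m, y k j := by
        intro m
        induction m with
        | zero => intro _; simp
        | succ m ihm =>
          intro hm
          rw [Finset.sum_range_succ, smul_add, ← ihm (by omega), hw k m (by omega)]
          abel
      exact this n le_rfl
    have hstep : ∀ k, w k (n + 1) - w k n = α • y k n := by
      intro k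
      rw [hw k n (by omega)]
      abel
    -- the four kinds of vectors
    let vecL : Fin r → ∀ k, M k := fun i k =>
      if k < i then w k (n + 1) else if k = i then y k n else w k n
    let vecL0 : Fin r → ∀ k, M k := fun i k =>
      if k < i then w k (n + 1) else if k = i then y k n else w k 0
    let vecR : Fin r → ℕ → ∀ k, M k := fun i j k =>
      if k < i then w k (n + 1) else if k = i then y k j else w k 0
    let vecR0 : Fin r → ℕ → ∀ k, M k := fun i j k =>
      if k < i then w k n else if k = i then y k j else w k 0
    let tL : Fin r → Fin r → ∀ l, M l := fun i c l =>
      if l < c then vecL i l else if c = l then vecL i l - vecL0 i l else vecL0 i l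
    let tR : Fin r → ℕ → Fin r → ∀ l, M l := fun k j c l =>
      if l < c then vecR k j l else if c = l then vecR k j l - vecR0 k j l else vecR0 k j l
    have claim : ∀ i c : Fin r, φ (tL i c) = ∑ j ∈ Finset.range n, φ (tR c j i) := by
      intro i c
      by_cases hic : i < c
      · let X : ∀ l, M l := fun l =>
          if l < i then w l (n + 1) else if l < c then w l n else w l 0
        have hne : i ≠ c := ne_of_lt hic
        have e1 : tL i c = Function.update (Function.update X i (y i n)) c
            (α • ∑ j ∈ Finset.range n, y c j) := by
          funext l
          by_cases hlc : l = c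
          · subst hlc
            rw [Function.update_self]
            have h1 : ¬ l < l := lt_irrefl l
            have h2 : ¬ l < i := not_lt.mpr hic.le
            have h3 : l ≠ i := hne.symm
            simp only [tL, vecL, vecL0, h1, h2, h3, if_false, if_true]
            exact hYsum l
          · rw [Function.update_of_ne hlc]
            by_cases hli : l = i
            · subst hli
              rw [Function.update_self]
              have h1 : ¬ l < l := lt_irrefl l
              simp only [tL, vecL, hic, h1, if_true, if_false]
            · rw [Function.update_of_ne hli]
              rcases lt_or_gt_of_ne hlc with h | h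
              · simp only [tL, vecL, X, h, if_true, hli, if_false]
              · have h1 : ¬ l < c := not_lt.mpr h.le
                have h2 : ¬ l < i := not_lt.mpr (hic.trans h).le
                have h3 : c ≠ l := ne_of_lt h
                simp only [tL, vecL0, X, h1, h2, h3, hli, if_false]
        have e2 : ∀ j, tR c j i = Function.update (Function.update X c (y c j)) i
            (α • y i n) := by
          intro j
          funext l
          by_cases hli : l = i
          · subst hli
            rw [Function.update_self]
            have h1 : ¬ l < l := lt_irrefl l
            simp only [tR, vecR, vecR0, h1, hic, if_false, if_true]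
            exact hstep l
          · rw [Function.update_of_ne hli]
            by_cases hlc : l = c
            · subst hlc
              rw [Function.update_self]
              have h1 : ¬ l < i := not_lt.mpr hic.le
              have h2 : ¬ l < l := lt_irrefl l
              have h3 : i ≠ l := hne
              simp only [tR, vecR0, h1, h2, h3, if_false, if_true]
            · rw [Function.update_of_ne hlc]
              rcases lt_or_gt_of_ne hli with h | h
              · have h1 : l < c := h.trans hic
                simp only [tR, vecR, X, h, h1, if_true]
              · have h1 : ¬ l < i := not_lt.mpr h.le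
                have h3 : i ≠ l := ne_of_lt h
                simp only [tR, vecR0, X, h1, h3, hlc, if_false]
        rw [e1, MultilinearMap.map_update_smul, MultilinearMap.map_update_sum, Finset.smul_sum]
        refine Finset.sum_congr rfl fun j _ => ?_
        rw [e2 j, MultilinearMap.map_update_smul, Function.update_comm hne]
      · have hci : c ≤ i := not_lt.mp hic
        have z1 : φ (tL i c) = 0 := by
          apply φ.map_coord_zero c
          have h1 : ¬ c < c := lt_irrefl c
          simp only [tL, h1, if_false, if_true]
          rcases hci.lt_or_eq with h | h
          · simp only [vecL, vecL0, h, if_true, sub_self]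
          · subst h
            simp only [vecL, vecL0, h1, if_false, if_true, sub_self]
        have z2 : ∀ j, φ (tR c j i) = 0 := by
          intro j
          apply φ.map_coord_zero i
          have h1 : ¬ i < i := lt_irrefl i
          simp only [tR, h1, if_false, if_true]
          rcases hci.lt_or_eq with h | h
          · have h2 : ¬ i < c := hic
            have h3 : i ≠ c := (ne_of_lt h).symm
            simp only [vecR, vecR0, h2, h3, if_false, sub_self]
          · subst h
            simp only [vecR, vecR0, h1, if_false, if_true, sub_self]
        rw [z1]
        exact (Finset.sum_eq_zero fun j _ => z2 j).symm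
    have key : (∑ i : Fin r, φ (vecL i)) - ∑ i : Fin r, φ (vecL0 i) =
        (∑ i : Fin r, ∑ j ∈ Finset.range n, φ (vecR i j)) -
          ∑ i : Fin r, ∑ j ∈ Finset.range n, φ (vecR0 i j) := by
      rw [← Finset.sum_sub_distrib, ← Finset.sum_sub_distrib]
      have hL : ∀ i, φ (vecL i) - φ (vecL0 i) = ∑ c : Fin r, φ (tL i c) := fun i => tele φ _ _
      have hR : ∀ k, (∑ j ∈ Finset.range n, φ (vecR k j)) - ∑ j ∈ Finset.range n, φ (vecR0 k j) =
          ∑ j ∈ Finset.range n, ∑ c : Fin r, φ (tR k j c) := by
        intro k
        rw [← Finset.sum_sub_distrib]
        exact Finset.sum_congr rfl fun j _ => tele φ _ _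
      simp only [hL, hR, claim]
      rw [Finset.sum_comm]
      refine Finset.sum_congr rfl fun c _ => ?_
      rw [Finset.sum_comm]
    simp only [Finset.sum_range_succ]
    rw [Finset.sum_add_distrib, Finset.sum_add_distrib, ih']
    have key' := key
    rw [sub_eq_sub_iff_add_eq_add] at key'
    change (∑ i : Fin r, ∑ j ∈ Finset.range n, φ (vecR0 i j)) + ∑ i : Fin r, φ (vecL i) =
      (∑ i : Fin r, ∑ j ∈ Finset.range n, φ (vecR i j)) + ∑ i : Fin r, φ (vecL0 i)
    rw [add_comm, key', add_comm]

end Groth.Agent.S13682
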