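import Groth.Statements.S13685
import Mathlib

set_option autoImplicit false
set_option maxHeartbeats 400000
universe u v w
open Disp

namespace Groth.Agent.S13685

open W4c1extbt610

section aux

variable {p : ℕ} [Fact p.Prime] {R : Type u} [CommRing R]
variable {P : Type v} [AddCommGroup P] [Module (WittVector p R) P]

/-- in any 3n-display, `V(1) • x ∈ Q` -/
theorem V1_smul_mem (D : Display3n p R P) (x : P) :
    (WittVector.verschiebung (1 : WittVector p R)) • x ∈ D.Q :=
  D.IV_smul_le (Submodule.smul_mem_smul (verschiebung_mem_IV p R 1) Submodule.mem_top)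

/-- in any 3n-display, `F x = Vinv (V(1) • x)` -/
theorem F_eq (D : Display3n p R P) (x : P) :
    D.F x = D.Vinv ⟨(WittVector.verschiebung (1 : WittVector p R)) • x, V1_smul_mem D x⟩ := by
  have := D.Vinv_verschiebung_smul 1 x
  rw [one_smul] at this
  exact this.symm

end aux

/-- Let p be a prime, R a commutative ring, W its ring of p-typical Witt vectors, D = (P, Q, F, V⁻¹) a
3n-display over R with a normal decomposition P = L ⊕ T, Q = L + I_R T in which T is free of rank
one over W, and E the 3n-display structure on ⋀^r P whose distinguished submodule is spanned by the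
wedges of elements of Q and whose V⁻¹ sends q_1 ∧ ⋯ ∧ q_r to V⁻¹q_1 ∧ ⋯ ∧ V⁻¹q_r. Then the wedge map
λ : P^r → ⋀^r P is an alternating multilinear morphism of 3n-displays from D to E, and for every
3n-display D' = (P', Q', F', V'⁻¹) and every alternating multilinear morphism of 3n-displays φ : P^r
→ P' (W-multilinear alternating, φ(Q^r) ⊆ Q', V'⁻¹(φ(q)) = φ(V⁻¹q_1, …, V⁻¹q_r), F'(φ(q_1, …, x_i,
…, q_r)) = φ(V⁻¹q_1, …, F x_i, …, V⁻¹q_r)) there is a unique W-linear ψ : ⋀^r P → P' that is a
morphism of 3n-displays from E to D' (ψ maps E's submodule into Q' and commutes with F and V⁻¹) with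
ψ ∘ λ = φ. (The published statement has T projective of rank one; this row takes T free of rank
one.) -/
theorem result (p : ℕ) [Fact p.Prime] (R : Type u) [CommRing R]
    (P : Type v) [AddCommGroup P] [Module (WittVector p R) P] (D : W4c1extbt610.Display3n p R P)
    (hT : ∃ L T : Submodule (WittVector p R) P, IsCompl L T ∧ D.Q = L ⊔ W4c1extbt610.IV p R • T ∧
      Nonempty (T ≃ₗ[WittVector p R] WittVector p R))
    (r : ℕ) (E : W4c1extbt610.Display3n p R (⋀[WittVector p R]^r P)) (hE : W4c1extbt610.IsExtPow D r E) :
    W4c1extbt610.IsAltMult D E (exteriorPower.ιMulti (WittVector p R) r) ∧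
      ∀ (P' : Type w) [AddCommGroup P'] [Module (WittVector p R) P'] (D' : W4c1extbt610.Display3n p R P')
        (φ : P [⋀^Fin r]→ₗ[WittVector p R] P'), W4c1extbt610.IsAltMult D D' φ →
        ∃! ψ : ⋀[WittVector p R]^r P →ₗ[WittVector p R] P',
          W4c1extbt610.IsHom E D' ψ ∧ ψ.compAlternatingMap (exteriorPower.ιMulti (WittVector p R) r) = φ := by
  classical
  obtain ⟨hEQ, hEV⟩ := hE
  -- wedges of elements of Q lie in E.Q
  have hmem : ∀ q : Fin r → D.Q,
      exteriorPower.ιMulti (WittVector p R) r (fun i => (q i : P)) ∈ E.Q := by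
    intro q
    rw [hEQ]
    exact Submodule.subset_span ⟨q, rfl⟩
  refine ⟨⟨hmem, fun q => hEV q (hmem q), ?_⟩, ?_⟩
  · -- F-condition
    intro i x q
    rw [F_eq E]
    -- V(1) • wedge = wedge with V(1) • x in slot i
    set q' : Fin r → D.Q := Function.update q i
      ⟨(WittVector.verschiebung (1 : WittVector p R)) • x, V1_smul_mem D x⟩ with hq'
    have h1 : (WittVector.verschiebung (1 : WittVector p R)) •
        exteriorPower.ιMulti (WittVector p R) r (Function.update (fun j => (q j : P)) i x) =
        exteriorPower.ιMulti (WittVector p R) r (fun j => (q' j : P)) := by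
      have h2 : (fun j => (q' j : P)) = Function.update (fun j => (q j : P)) i
          ((WittVector.verschiebung (1 : WittVector p R)) • x) := by
        funext j
        by_cases hj : j = i
        · subst hj
          simp [hq']
        · simp [hq', Function.update_of_ne hj]
      rw [h2, AlternatingMap.map_update_smul]
    have h3 : (⟨(WittVector.verschiebung (1 : WittVector p R)) •
        exteriorPower.ιMulti (WittVector p R) r (Function.update (fun j => (q j : P)) i x),
        V1_smul_mem E _⟩ : E.Q) = ⟨_, hmem q'⟩ := Subtype.ext h1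
    rw [h3, hEV q' (hmem q')]
    congr 1
    funext j
    by_cases hj : j = i
    · subst hj
      simp only [hq', Function.update_self]
      exact (F_eq D x).symm
    · simp [hq', Function.update_of_ne hj]
  · -- universal property
    intro P' _ _ D' φ hφ
    refine ⟨exteriorPower.alternatingMapLinearEquiv φ, ⟨?_, ?_⟩, ?_⟩
    · -- IsHom
      have hψ : ∀ a : Fin r → P, exteriorPower.alternatingMapLinearEquiv φ
          (exteriorPower.ιMulti (WittVector p R) r a) = φ a :=
        fun a => exteriorPower.alternatingMapLinearEquiv_apply_ιMulti φ a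
      have hmaps : ∀ y : ⋀[WittVector p R]^r P, y ∈ E.Q →
          exteriorPower.alternatingMapLinearEquiv φ y ∈ D'.Q := by
        intro y hy
        rw [hEQ] at hy
        induction hy using Submodule.span_induction with
        | mem y hy =>
          obtain ⟨q, rfl⟩ := hy
          rw [hψ]
          exact hφ.mapsTo q
        | zero => rw [map_zero]; exact Submodule.zero_mem _
        | add y z _ _ hy hz => rw [map_add]; exact Submodule.add_mem _ hy hz
        | smul a y _ hy => rw [map_smul]; exact Submodule.smul_mem _ a hy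
      have hV : ∀ (y : ⋀[WittVector p R]^r P) (hy : y ∈ E.Q),
          exteriorPower.alternatingMapLinearEquiv φ (E.Vinv ⟨y, hy⟩) =
            D'.Vinv ⟨exteriorPower.alternatingMapLinearEquiv φ y, hmaps y hy⟩ := by
        intro y hy
        have hy' := hy
        rw [hEQ] at hy'
        induction hy' using Submodule.span_induction with
        | mem y hy'' =>
          obtain ⟨q, rfl⟩ := hy''
          rw [hEV q hy, hψ]
          have : (⟨exteriorPower.alternatingMapLinearEquiv φ
              (exteriorPower.ιMulti (WittVector p R) r (fun i => (q i : P))), hmaps _ hy⟩ : D'.Q) =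
              ⟨φ (fun i => (q i : P)), hφ.mapsTo q⟩ := Subtype.ext (hψ _)
          rw [this, hφ.vCond q]
        | zero =>
          have e1 : (⟨0, hy⟩ : E.Q) = 0 := rfl
          have e2 : (⟨exteriorPower.alternatingMapLinearEquiv φ 0, hmaps 0 hy⟩ : D'.Q) = 0 :=
            Subtype.ext (map_zero _)
          rw [e1, e2, map_zero, map_zero, map_zero]
        | add y z hy1 hz1 ihy ihz =>
          have hyQ : y ∈ E.Q := by rw [hEQ]; exact hy1
          have hzQ : z ∈ E.Q := by rw [hEQ]; exact hz1
          have e1 : (⟨y + z, hy⟩ : E.Q) = ⟨y, hyQ⟩ + ⟨z, hzQ⟩ := rfl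
          have e2 : (⟨exteriorPower.alternatingMapLinearEquiv φ (y + z), hmaps _ hy⟩ : D'.Q) =
              ⟨exteriorPower.alternatingMapLinearEquiv φ y, hmaps y hyQ⟩ +
              ⟨exteriorPower.alternatingMapLinearEquiv φ z, hmaps z hzQ⟩ :=
            Subtype.ext (map_add _ _ _)
          rw [e1, e2, map_add, map_add, map_add, ihy hyQ, ihz hzQ]
        | smul a y hy1 ihy =>
          have hyQ : y ∈ E.Q := by rw [hEQ]; exact hy1
          have e1 : (⟨a • y, hy⟩ : E.Q) = a • ⟨y, hyQ⟩ := rfl
          have e2 : (⟨exteriorPower.alternatingMapLinearEquiv φ (a • y), hmaps _ hy⟩ : D'.Q) =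
              a • ⟨exteriorPower.alternatingMapLinearEquiv φ y, hmaps y hyQ⟩ :=
            Subtype.ext (map_smul _ _ _)
          rw [e1, e2]
          have h1 := E.Vinv.map_smulₛₗ a ⟨y, hyQ⟩
          have h2 := D'.Vinv.map_smulₛₗ a
            ⟨exteriorPower.alternatingMapLinearEquiv φ y, hmaps y hyQ⟩
          rw [h1, h2, map_smul, ihy hyQ]
      refine ⟨hmaps, ?_, fun q => hV q q.2⟩
      intro x
      rw [F_eq E, F_eq D', hV]
      congr 1
      exact Subtype.ext (map_smul _ _ _)
    · exact exteriorPower.alternatingMapLinearEquiv_comp_ιMulti φ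
    · intro ψ' hψ'
      apply exteriorPower.linearMap_ext
      rw [hψ'.2, exteriorPower.alternatingMapLinearEquiv_comp_ιMulti]

end Groth.Agent.S13685
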