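import Groth.Statements.S13684
import Mathlib
import Groth.Agent.S13685
import Groth.Agent.Lib.Helper60.DispMk
import Groth.Agent.Lib.Helper60.ExtDisp

set_option autoImplicit false
set_option maxHeartbeats 400000
universe u v
open Disp

namespace Groth.Agent.S13684

open Groth.Agent.Lib.Helper60 Groth.Agent.Lib.Helper60.ExtDisp W4c1extbt610

section aux

variable {p : ℕ} [Fact p.Prime] {R : Type u} [CommRing R]
variable {P : Type v} [AddCommGroup P] [Module (WittVector p R) P]

/-- exterior powers of finite projective modules are projective -/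
theorem projective_extPow {A : Type u} [CommRing A] (M : Type v) [AddCommGroup M] [Module A M]
    [Module.Finite A M] [Module.Projective A M] (r : ℕ) : Module.Projective A (⋀[A]^r M) := by
  obtain ⟨n, f, g, -, -, h⟩ := Module.Finite.exists_comp_eq_id_of_projective A M
  refine Module.Projective.of_split (exteriorPower.map r g) (exteriorPower.map r f) ?_
  rw [← exteriorPower.map_comp, h, exteriorPower.map_id]

/-- a free rank one submodule is spanned by one element -/
theorem exists_span_singleton {A : Type u} [CommRing A] {M : Type v} [AddCommGroup M] [Module A M]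
    (T : Submodule A M) (hT : Nonempty (T ≃ₗ[A] A)) : ∃ t : M, T = Submodule.span A {t} := by
  obtain ⟨ε⟩ := hT
  refine ⟨(ε.symm 1 : T), le_antisymm ?_ ?_⟩
  · intro y hy
    have h : (⟨y, hy⟩ : T) = ε ⟨y, hy⟩ • ε.symm 1 := by
      rw [← map_smul, smul_eq_mul, mul_one, LinearEquiv.symm_apply_apply]
    rw [Submodule.mem_span_singleton]
    exact ⟨ε ⟨y, hy⟩, (congrArg Subtype.val h).symm⟩
  · rw [Submodule.span_le, Set.singleton_subset_iff]
    exact (ε.symm 1).2

/-- two `V⁻¹`'s that agree on a spanning set of the common `Q` agree -/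
theorem Vinv_eq_of_span (E E' : Display3n p R P) (S : Set P)
    (h1 : E.Q = Submodule.span (WittVector p R) S) (h2 : E'.Q = Submodule.span (WittVector p R) S)
    (hS : ∀ x ∈ S, ∀ (h : x ∈ E.Q) (h' : x ∈ E'.Q), E.Vinv ⟨x, h⟩ = E'.Vinv ⟨x, h'⟩) :
    ∀ (x : P) (h : x ∈ E.Q) (h' : x ∈ E'.Q), E.Vinv ⟨x, h⟩ = E'.Vinv ⟨x, h'⟩ := by
  intro x h h'
  have hx : x ∈ Submodule.span (WittVector p R) S := h1 ▸ h
  induction hx using Submodule.span_induction with
  | mem y hy => exact hS y hy h h'
  | zero =>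
    have e1 : (⟨0, h⟩ : E.Q) = 0 := rfl
    have e2 : (⟨0, h'⟩ : E'.Q) = 0 := rfl
    rw [e1, e2, map_zero, map_zero]
  | add y z hy hz ihy ihz =>
    have hy1 : y ∈ E.Q := h1 ▸ hy
    have hy2 : y ∈ E'.Q := h2 ▸ hy
    have hz1 : z ∈ E.Q := h1 ▸ hz
    have hz2 : z ∈ E'.Q := h2 ▸ hz
    have e1 : (⟨y + z, h⟩ : E.Q) = ⟨y, hy1⟩ + ⟨z, hz1⟩ := rfl
    have e2 : (⟨y + z, h'⟩ : E'.Q) = ⟨y, hy2⟩ + ⟨z, hz2⟩ := rfl
    rw [e1, e2, map_add, map_add, ihy hy1 hy2, ihz hz1 hz2]
  | smul a y hy ihy =>
    have hy1 : y ∈ E.Q := h1 ▸ hy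
    have hy2 : y ∈ E'.Q := h2 ▸ hy
    have e1 : (⟨a • y, h⟩ : E.Q) = a • ⟨y, hy1⟩ := rfl
    have e2 : (⟨a • y, h'⟩ : E'.Q) = a • ⟨y, hy2⟩ := rfl
    rw [e1, e2, LinearMap.map_smulₛₗ, LinearMap.map_smulₛₗ, ihy hy1 hy2]

/-- uniqueness of the exterior power structure -/
theorem isExtPow_unique (D : Display3n p R P) (r : ℕ)
    (E E' : Display3n p R (⋀[WittVector p R]^r P)) (hE : IsExtPow D r E) (hE' : IsExtPow D r E') :
    E' = E := by
  have hV : ∀ (x : ⋀[WittVector p R]^r P) (h : x ∈ E'.Q) (h' : x ∈ E.Q),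
      E'.Vinv ⟨x, h⟩ = E.Vinv ⟨x, h'⟩ := by
    refine Vinv_eq_of_span E' E _ hE'.1 hE.1 ?_
    rintro _ ⟨q, rfl⟩ h h'
    rw [hE'.2 q h, hE.2 q h']
  refine S16538.display_ext E' E (hE'.1.trans hE.1.symm) (fun x => ?_) hV
  rw [S13685.F_eq E', S13685.F_eq E]
  exact hV _ _ _

end aux

/-- Let p be a prime, R a commutative ring, W its ring of p-typical Witt vectors and D = (P, Q, F, V⁻¹)
a 3n-display over R whose tangent module has rank one, in the sense that some normal decomposition P
= L ⊕ T, Q = L + I_R T has T free of rank one over W. Then for every natural number r the exterior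
power ⋀^r P carries exactly one 3n-display structure whose distinguished submodule is spanned by the
wedges q_1 ∧ ⋯ ∧ q_r of elements of Q and whose V⁻¹ sends each such wedge to V⁻¹q_1 ∧ ⋯ ∧ V⁻¹q_r.
(The published statement allows T projective of rank one and also records the height and rank of the
new 3n-display, that it is a display when D is, and compatibility with base change; this row takes T
free of rank one and keeps only the existence and uniqueness of the structure.) -/
theorem result (p : ℕ) [Fact p.Prime] (R : Type u) [CommRing R]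
    (P : Type v) [AddCommGroup P] [Module (WittVector p R) P] (D : W4c1extbt610.Display3n p R P)
    (hT : ∃ L T : Submodule (WittVector p R) P, IsCompl L T ∧ D.Q = L ⊔ W4c1extbt610.IV p R • T ∧
      Nonempty (T ≃ₗ[WittVector p R] WittVector p R))
    (r : ℕ) :
    ∃ E : W4c1extbt610.Display3n p R (⋀[WittVector p R]^r P), W4c1extbt610.IsExtPow D r E ∧
      ∀ E' : W4c1extbt610.Display3n p R (⋀[WittVector p R]^r P), W4c1extbt610.IsExtPow D r E' → E' = E := by
  classical
  obtain ⟨L, T, hLT, hQ, hTfree⟩ := hT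
  obtain ⟨t, hTt⟩ := exists_span_singleton T hTfree
  have ht : t ∈ T := by rw [hTt]; exact Submodule.mem_span_singleton_self t
  haveI := D.finite
  haveI := D.projective
  haveI := projective_extPow (A := WittVector p R) P r
  have hLQ : L ≤ D.Q := by rw [hQ]; exact le_sup_left
  -- the semilinear map Φ
  let πQ : P →ₗ[WittVector p R] D.Q :=
    LinearMap.codRestrict D.Q (prL L T hLT) (fun x => hLQ (prL_mem L T hLT x))
  let Φ : P →ₛₗ[(WittVector.frobenius : WittVector p R →+* WittVector p R)] P :=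
    D.Vinv.comp πQ + D.F.comp (LinearMap.id - prL L T hLT)
  have hΦ : ∀ x, Φ x = D.Vinv ⟨prL L T hLT x, hLQ (prL_mem L T hLT x)⟩ +
      D.F (x - prL L T hLT x) := fun x => rfl
  have hΦL : ∀ (l : P) (hl : l ∈ L), Φ l = D.Vinv ⟨l, hLQ hl⟩ := by
    intro l hl
    rw [hΦ]
    have e1 : (⟨prL L T hLT l, hLQ (prL_mem L T hLT l)⟩ : D.Q) = ⟨l, hLQ hl⟩ :=
      Subtype.ext (prL_of_mem_L L T hLT l hl)
    rw [e1, prL_of_mem_L L T hLT l hl, sub_self, map_zero, add_zero]
  have hΦt : Φ t = D.F t := by
    rw [hΦ]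
    have e1 : (⟨prL L T hLT t, hLQ (prL_mem L T hLT t)⟩ : D.Q) = 0 :=
      Subtype.ext (prL_of_mem_T L T hLT t ht)
    rw [e1, map_zero, zero_add, prL_of_mem_T L T hLT t ht, sub_zero]
  -- `Vinv` on an element of `Q` in terms of `Φ`
  have hVq : ∀ (l : P) (hl : l ∈ L) (w : WittVector p R)
      (h : l + WittVector.verschiebung w • t ∈ D.Q),
      D.Vinv ⟨l + WittVector.verschiebung w • t, h⟩ = Φ l + w • Φ t := by
    intro l hl w h
    have h2 : WittVector.verschiebung w • t ∈ D.Q := D.IV_smul_le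
      (Submodule.smul_mem_smul (verschiebung_mem_IV p R w) Submodule.mem_top)
    have e1 : (⟨l + WittVector.verschiebung w • t, h⟩ : D.Q) =
        ⟨l, hLQ hl⟩ + ⟨WittVector.verschiebung w • t, h2⟩ := rfl
    rw [e1, map_add, hΦL l hl, hΦt]
    congr 1
    exact D.Vinv_verschiebung_smul w t
  have hΦspan : Submodule.span (WittVector p R) (Set.range Φ) = ⊤ := by
    rw [eq_top_iff, ← D.span_range_Vinv, Submodule.span_le]
    rintro _ ⟨q, rfl⟩
    have hq : (q : P) ∈ L ⊔ IV p R • T := hQ ▸ q.2
    obtain ⟨l, hl, c, hc, hqe⟩ := mem_Q_iff L T t (IV p R) hTt (q : P) hq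
    obtain ⟨w, rfl⟩ := S16535.exists_eq_verschiebung c hc
    have e1 : q = ⟨l + WittVector.verschiebung w • t, hqe ▸ q.2⟩ := Subtype.ext hqe
    rw [e1, hVq l hl w]
    exact Submodule.add_mem _ (Submodule.subset_span ⟨_, rfl⟩)
      (Submodule.smul_mem _ _ (Submodule.subset_span ⟨_, rfl⟩))
  -- the display structure
  obtain ⟨E, hEQ, hEa, hEb⟩ := DispMk.exists_display (eL L T hLT r) (eL_eL L T hLT r)
    (extSemi _ Φ r) (span_range_extSemi _ Φ r hΦspan)
  have hEQ' : E.Q = wedgeSpan D.Q r := by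
    rw [hEQ, hQ, wedgeSpan_eq L T hLT t (IV p R) r hTt]
  have hExt : IsExtPow D r E := by
    refine ⟨hEQ', ?_⟩
    intro q hq
    have hq' : ∀ i, (q i : P) ∈ L ⊔ IV p R • T := fun i => hQ ▸ (q i).2
    choose l hl c hc hqe using fun i => mem_Q_iff L T t (IV p R) hTt (q i : P) (hq' i)
    choose w hw using fun i => S16535.exists_eq_verschiebung (c i) (hc i)
    have hqe' : ∀ i, (q i : P) = l i + WittVector.verschiebung (w i) • t := by
      intro i; rw [hqe i, hw i]
    have hfun : (fun i => (q i : P)) = fun i => l i + WittVector.verschiebung (w i) • t :=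
      funext hqe'
    -- right hand side
    have hR : (fun i => D.Vinv (q i)) = fun i => Φ (l i) + w i • Φ t := by
      funext i
      have e1 : q i = ⟨l i + WittVector.verschiebung (w i) • t, hqe' i ▸ (q i).2⟩ :=
        Subtype.ext (hqe' i)
      rw [e1, hVq (l i) (hl i) (w i)]
    rw [hR, ιMulti_add_smul]
    -- left hand side
    have hdec : exteriorPower.ιMulti (WittVector p R) r (fun i => (q i : P)) =
        exteriorPower.ιMulti (WittVector p R) r l + ∑ k, WittVector.verschiebung (w k) •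
          exteriorPower.ιMulti (WittVector p R) r (Function.update l k t) := by
      rw [hfun, ιMulti_add_smul]
    have hmemA : exteriorPower.ιMulti (WittVector p R) r l ∈ E.Q := by
      rw [hEQ]
      exact Submodule.mem_sup_left ⟨_, eL_ιMulti_of_mem_L L T hLT r l hl⟩
    have hmemB : ∀ k, WittVector.verschiebung (w k) •
        exteriorPower.ιMulti (WittVector p R) r (Function.update l k t) ∈ E.Q := fun k =>
      E.IV_smul_le (Submodule.smul_mem_smul (verschiebung_mem_IV p R (w k)) Submodule.mem_top)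
    have e1 : (⟨exteriorPower.ιMulti (WittVector p R) r (fun i => (q i : P)), hq⟩ : E.Q) =
        ⟨_, hmemA⟩ + ∑ k, ⟨_, hmemB k⟩ := by
      apply Subtype.ext
      rw [Submodule.coe_add, Submodule.coe_sum]
      exact hdec
    rw [e1, map_add, map_sum, hEa _ hmemA (eL_ιMulti_of_mem_L L T hLT r l hl), extSemi_ιMulti]
    congr 1
    refine Finset.sum_congr rfl (fun k _ => ?_)
    rw [hEb (w k) _ (hmemB k) (eL_ιMulti_update L T hLT r l k t ht), extSemi_ιMulti]
    congr 2
    funext i
    by_cases hik : i = k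
    · subst hik; rw [Function.update_self, Function.update_self]
    · rw [Function.update_of_ne hik, Function.update_of_ne hik]
  exact ⟨E, hExt, fun E' hE' => isExtPow_unique D r E E' hExt hE'⟩

end Groth.Agent.S13684
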