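import Groth.Statements.S13686
import Mathlib
import Groth.Agent.S13684
import Groth.Agent.Lib.Helper60.ExtDispRank

set_option autoImplicit false
set_option maxHeartbeats 400000
universe u v
open Disp

namespace Groth.Agent.S13686

open Groth.Agent.Lib.Helper60 Groth.Agent.Lib.Helper60.ExtDisp W4c1extbt610 Module

section aux

variable {A : Type u} [CommRing A] [Nontrivial A] {P : Type v} [AddCommGroup P] [Module A P]

theorem ker_eL_free_finrank (L T : Submodule A P) (hLT : IsCompl L T) [Module.Finite A P]
    (hL : Module.Free A L) (m : ℕ) (hLr : Module.finrank A L = m) (ε : T ≃ₗ[A] A)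
    (r : ℕ) (hr : 1 ≤ r) :
    Module.Free A (LinearMap.ker (eL L T hLT r)) ∧
      Module.finrank A (LinearMap.ker (eL L T hLT r)) = m.choose (r - 1) := by
  classical
  have hsurj : Function.Surjective (L.projectionOnto T hLT) := fun l =>
    ⟨l, Submodule.projectionOnto_apply_left hLT l⟩
  haveI : Module.Finite A L := Module.Finite.of_surjective _ hsurj
  haveI : Fintype (Module.Free.ChooseBasisIndex A L) := Module.Free.ChooseBasisIndex.fintype A L
  let bL := Module.Free.chooseBasis A L
  let bT : Basis Unit A T := (Basis.singleton Unit A).map ε.symm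
  let b : Basis (Module.Free.ChooseBasisIndex A L ⊕ Unit) A P :=
    (bL.prod bT).map (Submodule.prodEquivOfIsCompl L T hLT)
  letI : LinearOrder (Module.Free.ChooseBasisIndex A L ⊕ Unit) := linearOrderOfSTO WellOrderingRel
  have hbL : ∀ j, j ≠ Sum.inr () → b j ∈ L := by
    intro j hj
    rcases j with j | j
    · have : b (Sum.inl j) = (bL j : P) := by
        simp [b, Submodule.coe_prodEquivOfIsCompl']
      rw [this]; exact (bL j).2
    · exact absurd rfl hj
  have hbT : b (Sum.inr ()) ∈ T := by
    have : b (Sum.inr ()) = (bT () : P) := by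
      simp [b, Submodule.coe_prodEquivOfIsCompl']
    rw [this]; exact (bT ()).2
  let B := b.exteriorPower r
  let S : Set (Set.powersetCard (Module.Free.ChooseBasisIndex A L ⊕ Unit) r) :=
    {s | Sum.inr () ∈ s}
  have hker : LinearMap.ker (eL L T hLT r) =
      Submodule.span A (Set.range fun s : S => B s) := by
    rw [← image_eq_range]
    exact ker_eq_span_of_diag B _ S
      (fun s hs => (eL_basis L T hLT r b (Sum.inr ()) hbL hbT s).1 hs)
      (fun s hs => (eL_basis L T hLT r b (Sum.inr ()) hbL hbT s).2 hs)
  have hfree : Module.Free A (LinearMap.ker (eL L T hLT r)) := by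
    rw [hker]; exact Module.Free.of_basis (spanImageBasis B S)
  refine ⟨hfree, ?_⟩
  haveI : Module.Finite A (LinearMap.ker (eL L T hLT r)) := by
    rw [hker]; exact Module.Finite.of_basis (spanImageBasis B S)
  haveI : Module.Free A P := Module.Free.of_basis b
  have hP : Module.finrank A P = m + 1 := by
    rw [Module.finrank_eq_card_basis b, Fintype.card_sum,
      ← Module.finrank_eq_card_basis bL, hLr, Fintype.card_unit]
  have hN : Module.finrank A (⋀[A]^r P) = (m + 1).choose r := by
    rw [exteriorPower.finrank_eq, hP]
  have hrange : LinearMap.range (eL L T hLT r) =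
      LinearMap.range (exteriorPower.map r L.subtype) := by
    have h1 : eL L T hLT r =
        exteriorPower.map r L.subtype ∘ₗ exteriorPower.map r (L.projectionOnto T hLT) := by
      rw [← exteriorPower.map_comp]; rfl
    rw [h1]
    exact LinearMap.range_comp_of_range_eq_top _
      (LinearMap.range_eq_top.mpr (exteriorPower.map_surjective hsurj))
  have hinj : Function.Injective (exteriorPower.map r L.subtype) :=
    exteriorPower.map_injective (L.projectionOnto T hLT)
      (LinearMap.ext fun l => Submodule.projectionOnto_apply_left hLT l)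
  let φ : ⋀[A]^r L ≃ₗ[A] LinearMap.range (eL L T hLT r) :=
    (LinearEquiv.ofInjective _ hinj).trans (LinearEquiv.ofEq _ _ hrange.symm)
  haveI : Module.Free A (LinearMap.range (eL L T hLT r)) := Module.Free.of_equiv φ
  have hR : Module.finrank A (LinearMap.range (eL L T hLT r)) = m.choose r := by
    rw [← φ.finrank_eq, exteriorPower.finrank_eq, hLr]
  have hsum : Module.finrank A (⋀[A]^r P) =
      Module.finrank A (LinearMap.range (eL L T hLT r)) +
        Module.finrank A (LinearMap.ker (eL L T hLT r)) := by
    rw [← Module.finrank_prod,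
      (Submodule.prodEquivOfIsCompl _ _ (isCompl_eL L T hLT r)).finrank_eq]
  obtain ⟨k, rfl⟩ : ∃ k, r = k + 1 := ⟨r - 1, by omega⟩
  have h1 : (m + 1).choose (k + 1) = m.choose k + m.choose (k + 1) := Nat.choose_succ_succ m k
  rw [hN, hR, h1] at hsum
  rw [Nat.add_sub_cancel]
  omega

end aux

/-- Let p be a prime, R a nontrivial commutative ring, W its ring of p-typical Witt vectors and D = (P,
Q, F, V⁻¹) a 3n-display over R with a normal decomposition P = L ⊕ T, Q = L + I_R T in which L is
free of rank m and T is free of rank one over W (so P is free of rank m + 1, the height). For r ≥ 1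
let E be the 3n-display structure on ⋀^r P whose distinguished submodule is spanned by the wedges of
elements of Q and whose V⁻¹ acts factorwise on them. Then E admits a normal decomposition ⋀^r P = L'
⊕ T', with distinguished submodule L' + I_R T', in which T' is free of rank (m choose r−1) over W:
with h = m + 1 the height, the tangent module of the exterior power has rank (h−1 choose r−1). (The
published statement has T projective of rank one and P of height h; this row takes L and T free, R
nontrivial and r ≥ 1.) -/
theorem result (p : ℕ) [Fact p.Prime] (R : Type u) [CommRing R] [Nontrivial R]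
    (P : Type v) [AddCommGroup P] [Module (WittVector p R) P] (D : W4c1extbt610.Display3n p R P) (m : ℕ)
    (L T : Submodule (WittVector p R) P) (hLT : IsCompl L T) (hQ : D.Q = L ⊔ W4c1extbt610.IV p R • T)
    (hL : Module.Free (WittVector p R) L) (hLr : Module.finrank (WittVector p R) L = m)
    (hT : Nonempty (T ≃ₗ[WittVector p R] WittVector p R))
    (r : ℕ) (hr : 1 ≤ r) (E : W4c1extbt610.Display3n p R (⋀[WittVector p R]^r P)) (hE : W4c1extbt610.IsExtPow D r E) :
    ∃ L' T' : Submodule (WittVector p R) (⋀[WittVector p R]^r P), IsCompl L' T' ∧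
      E.Q = L' ⊔ W4c1extbt610.IV p R • T' ∧ Module.Free (WittVector p R) T' ∧
      Module.finrank (WittVector p R) T' = m.choose (r - 1) := by
  classical
  obtain ⟨t, hTt⟩ := S13684.exists_span_singleton T hT
  obtain ⟨ε⟩ := hT
  haveI := D.finite
  have hEQ : E.Q = LinearMap.range (eL L T hLT r) ⊔ IV p R • LinearMap.ker (eL L T hLT r) := by
    have h1 : E.Q = wedgeSpan D.Q r := hE.1
    rw [h1, hQ, wedgeSpan_eq L T hLT t (IV p R) r hTt]
  obtain ⟨hfree, hrank⟩ := ker_eL_free_finrank L T hLT hL m hLr ε r hr
  exact ⟨_, _, isCompl_eL L T hLT r, hEQ, hfree, hrank⟩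

end Groth.Agent.S13686
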