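import Groth.Statements.S13702
import Mathlib
-- import your own Groth.Agent.* helpers here

set_option autoImplicit false
universe u
open ZeroCyc

namespace Groth.Agent.S13702

section PRE
open Polynomial

theorem main {A : Type u} [CommRing A] [IsLocalRing A] (p : ℕ) [Fact p.Prime]
    [CharP (IsLocalRing.ResidueField A) p] (g : Polynomial A) (hg : g.Monic) (hsep : g.Separable) (s : ℕ) :
    ∃ b : Module.Basis (Fin g.natDegree) A (AdjoinRoot g),
      ∀ i : Fin g.natDegree, b i = AdjoinRoot.root g ^ (p ^ s * (i : ℕ)) := by
  classical
  have hfree := hg.free_adjoinRoot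
  have hfin := hg.finite_adjoinRoot
  have hfp : Module.FinitePresentation A (AdjoinRoot g) := Module.finitePresentation_of_projective _ _
  have hli : LinearIndependent (IsLocalRing.ResidueField A)
      (TensorProduct.mk A (IsLocalRing.ResidueField A) (AdjoinRoot g) 1 ∘
        fun i : Fin g.natDegree => AdjoinRoot.root g ^ (p ^ s * (i : ℕ))) := by
    rw [Fintype.linearIndependent_iff]
    intro c hc
    -- the polynomial over the algebraic closure
    have hcharΩ : CharP (AlgebraicClosure (IsLocalRing.ResidueField A)) p :=
      charP_of_injective_algebraMap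
        (algebraMap (IsLocalRing.ResidueField A) (AlgebraicClosure (IsLocalRing.ResidueField A))).injective p
    set gΩ : Polynomial (AlgebraicClosure (IsLocalRing.ResidueField A)) :=
      g.map (algebraMap A (AlgebraicClosure (IsLocalRing.ResidueField A))) with hgΩ
    have hgΩm : gΩ.Monic := hg.map _
    have hgΩd : gΩ.natDegree = g.natDegree := hg.natDegree_map _
    have hgΩs : gΩ.Separable := hsep.map
    have hcard : gΩ.roots.card = g.natDegree := by
      rw [← hgΩd]; exact splits_iff_card_roots.1 (IsAlgClosed.splits gΩ)
    have hnd : gΩ.roots.Nodup := nodup_roots hgΩs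
    set S := gΩ.roots.toFinset with hS
    have hScard : S.card = g.natDegree := by
      rw [hS, Multiset.toFinset_card_of_nodup hnd, hcard]
    have hinj : Function.Injective
        (fun x : AlgebraicClosure (IsLocalRing.ResidueField A) => x ^ p ^ s) := by
      intro x y hxy
      have h1 : (x - y) ^ p ^ s = 0 := by
        rw [sub_pow_char_pow]; exact sub_eq_zero.2 hxy
      exact sub_eq_zero.1 (pow_eq_zero_iff (pow_ne_zero _ (Fact.out : p.Prime).ne_zero) |>.1 h1)
    set S' := S.image (fun x => x ^ p ^ s) with hS'
    have hS'card : S'.card = g.natDegree := by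
      rw [hS', Finset.card_image_of_injective _ hinj, hScard]
    set h : Polynomial (AlgebraicClosure (IsLocalRing.ResidueField A)) :=
      ∑ i : Fin g.natDegree, C (algebraMap (IsLocalRing.ResidueField A) _ (c i)) * X ^ (i : ℕ)
      with hh
    have hroot : ∀ β ∈ S', h.eval β = 0 := by
      intro β hβ
      rw [hS', Finset.mem_image] at hβ
      obtain ⟨α, hα, rfl⟩ := hβ
      rw [hS, Multiset.mem_toFinset, mem_roots hgΩm.ne_zero, IsRoot.def, hgΩ, eval_map] at hα
      let ψ : AdjoinRoot g →ₐ[A] AlgebraicClosure (IsLocalRing.ResidueField A) :=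
        AdjoinRoot.liftAlgHom g (Algebra.ofId A _) α hα
      have hψ : ψ (AdjoinRoot.root g) = α := by
        simp [ψ]
      have := congrArg (LinearMap.liftBaseChange (IsLocalRing.ResidueField A) ψ.toLinearMap) hc
      rw [map_sum, map_zero] at this
      rw [hh, eval_finset_sum, ← this]
      refine Finset.sum_congr rfl fun i _ => ?_
      rw [map_smul, Function.comp_apply, TensorProduct.mk_apply, LinearMap.liftBaseChange_tmul,
        one_smul, AlgHom.toLinearMap_apply, map_pow, hψ, eval_mul, eval_C, eval_pow, eval_X,
        Algebra.smul_def, pow_mul]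
    intro i
    have hpos : 0 < g.natDegree := i.pos
    have hzero : h = 0 := by
      by_contra hne
      apply hne
      apply eq_zero_of_natDegree_lt_card_of_eval_eq_zero' h S' hroot
      rw [hS'card]
      have := degree_sum_fin_lt
        (fun i : Fin g.natDegree => algebraMap (IsLocalRing.ResidueField A)
          (AlgebraicClosure (IsLocalRing.ResidueField A)) (c i))
      exact (natDegree_lt_iff_degree_lt hne).2 this
    have hcoef := congrArg (fun q => q.coeff (i : ℕ)) hzero
    simp only [hh, finset_sum_coeff, coeff_C_mul, coeff_X_pow, coeff_zero] at hcoef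
    rw [Finset.sum_eq_single i] at hcoef
    · simpa using hcoef
    · intro j _ hj
      have : (i : ℕ) ≠ (j : ℕ) := fun e => hj (Fin.ext e.symm)
      simp [this]
    · simp
  have hsp : Submodule.span (IsLocalRing.ResidueField A)
      (Set.range (TensorProduct.mk A (IsLocalRing.ResidueField A) (AdjoinRoot g) 1 ∘
        fun i : Fin g.natDegree => AdjoinRoot.root g ^ (p ^ s * (i : ℕ)))) = ⊤ := by
    apply hli.span_eq_top_of_card_eq_finrank'
    rw [Fintype.card_fin, Module.finrank_baseChange, (AdjoinRoot.powerBasis' hg).finrank,
      AdjoinRoot.powerBasis'_dim]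
  exact Module.exists_basis_of_basis_baseChange _ hli hsp
    (Module.Flat.rTensor_preserves_injective_linearMap _ Subtype.val_injective)

end PRE

/-- Let A be a local ring with residue field of characteristic p > 0, let g ∈ A[X] be monic and
separable of degree n, so that A' = A[X]/(g) is an étale A-algebra, and let q = p^s with s ≥ 0. Then
the powers 1, t^q, t^{2q}, …, t^{(n-1)q} of the class t of X form a basis of A' as an A-module. -/
theorem result {A : Type u} [CommRing A] [IsLocalRing A] (p : ℕ) [Fact p.Prime]
    [CharP (IsLocalRing.ResidueField A) p] (g : Polynomial A) (hg : g.Monic) (hsep : g.Separable) (s : ℕ) :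
    ∃ b : Module.Basis (Fin g.natDegree) A (AdjoinRoot g),
      ∀ i : Fin g.natDegree, b i = AdjoinRoot.root g ^ (p ^ s * (i : ℕ)) := by
  exact main p g hg hsep s

end Groth.Agent.S13702
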