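import Groth.Statements.S13707
import Groth.Agent.Lib.Helper59.ResEmb
import Groth.Agent.S13695

set_option autoImplicit false
universe u
open scoped TensorProduct
open ZeroCyc

namespace Groth.Agent.S13707

/-- Let k be a field, B a commutative k-algebra and F : B → k a multiplicative polynomial law
homogeneous of degree d. Then the spectrum of B/ker F (the image of the family of zero-cycles of
degree d on Spec B defined by F) is a finite set of at most d closed points, and the residue field
at each of them has finite separable degree over k. -/
theorem result {k : Type u} [Field k] {B : Type u} [CommRing B] [Algebra k B]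
    {d : ℕ} (F : PolLaw.MulLaw k B k d) :
    Finite (PrimeSpectrum (PolLaw.image F.law)) ∧ Nat.card (PrimeSpectrum (PolLaw.image F.law)) ≤ d ∧
      ∀ P : PrimeSpectrum (PolLaw.image F.law), P.asIdeal.IsMaximal ∧
        Finite (Field.Emb k P.asIdeal.ResidueField) := by
  classical
  have hint : Algebra.IsIntegral k (PolLaw.image F.law) := Groth.Agent.S13695.result F
  have hcount := Groth.Agent.Lib.Helper59.FibreCount.fibre_card_le F k
  let e : PrimeSpectrum (k ⊗[k] PolLaw.image F.law) ≃ PrimeSpectrum (PolLaw.image F.law) :=
    (PrimeSpectrum.comapEquiv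
      (Algebra.TensorProduct.lid k (PolLaw.image F.law)).toRingEquiv).toEquiv
  have hfin0 := hcount.1
  have hfin : Finite (PrimeSpectrum (PolLaw.image F.law)) := Finite.of_equiv _ e
  refine ⟨hfin, ?_, ?_⟩
  · rw [← Nat.card_congr e]
    exact hcount.2
  · intro P
    refine ⟨?_, ?_⟩
    · apply Ideal.Quotient.maximal_of_isField
      have : Algebra.IsIntegral k (PolLaw.image F.law ⧸ P.asIdeal) :=
        Algebra.IsIntegral.of_surjective (Ideal.Quotient.mkₐ k P.asIdeal)
          (Ideal.Quotient.mkₐ_surjective k _)
      exact isField_of_isIntegral_of_isField' (R := k) (S := PolLaw.image F.law ⧸ P.asIdeal)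
        (Field.toIsField k)
    · have h1 := (Groth.Agent.Lib.Helper59.FibreCount.fibre_card_le F
        (AlgebraicClosure P.asIdeal.ResidueField)).1
      have h2 : Finite (PolLaw.image F.law →ₐ[k] AlgebraicClosure P.asIdeal.ResidueField) :=
        Groth.Agent.Lib.Helper59.ResEmb.finite_algHom_of_finite_spec h1
      let ψ : Field.Emb k P.asIdeal.ResidueField →
          (PolLaw.image F.law →ₐ[k] AlgebraicClosure P.asIdeal.ResidueField) := fun σ =>
        σ.comp (IsScalarTower.toAlgHom k (PolLaw.image F.law) P.asIdeal.ResidueField)
      apply Finite.of_injective ψ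
      intro σ₁ σ₂ h12
      exact Ideal.ResidueField.algHom_ext h12

end Groth.Agent.S13707
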