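import Groth.Statements.S13708
import Mathlib
import Groth.Agent.Lib.Helper81.SepCrit
-- import your own Groth.Agent.* helpers here

set_option autoImplicit false
universe u
open CategoryTheory CategoryTheory.Limits AlgebraicGeometry
open ZeroCyc

namespace Groth.Agent.S13708
open CategoryTheory AlgebraicGeometry Limits TopologicalSpace Topology



/-- Let X be a scheme over S such that every finite set of points of X over a common point of S lies in
some affine open subscheme of X (the condition (AF)). Then X is separated over S. (The published
condition (AF) asks for an open U with U → S quasi-affine rather than U affine; with U affine, as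
here, the same argument applies verbatim, and the two conditions agree over a quasi-separated base.) -/
theorem result {X S : Scheme.{u}} (f : X ⟶ S) (hX : SymProd.IsAF f) :
    IsSeparated f := by
  classical
  apply Groth.Agent.Lib.Helper81.SepCrit.isSeparated_of_forall
  intro z
  left
  have e : f.base ((pullback.fst f f).base z) = f.base ((pullback.snd f f).base z) := by
    rw [← Scheme.Hom.comp_apply, ← Scheme.Hom.comp_apply, pullback.condition]
  obtain ⟨U, hU, hmem⟩ := hX (f.base ((pullback.snd f f).base z))
    {(pullback.fst f f).base z, (pullback.snd f f).base z} (by
      intro x hx
      rcases Finset.mem_insert.mp hx with rfl | hx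
      · exact e
      · rw [Finset.mem_singleton.mp hx])
  haveI : IsAffine (U : Scheme.{u}) := hU
  exact ⟨U, hmem _ (Finset.mem_insert_self _ _),
    hmem _ (Finset.mem_insert_of_mem (Finset.mem_singleton_self _)), inferInstance⟩

end Groth.Agent.S13708
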