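import Groth.Statements.S13718
import Groth.Agent.Lib.Helper59.CHCons

set_option autoImplicit false
universe u
open scoped TensorProduct
open ZeroCyc

namespace Groth.Agent.S13718

/-- Let φ : B' → B be a map of commutative algebras over the commutative ring A and F : B → A a
multiplicative polynomial law homogeneous of degree d, with push-forward the law F ∘ φ : B' → A.
Then the radical of the kernel of F ∘ φ equals the radical of the inverse image under φ of the
kernel of F: the support of the pushed-forward family of zero-cycles on Spec B' is the image of the
support of the family on Spec B. (The published statement is for affine morphisms X → Y → S of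
algebraic spaces; this row is the case of an affine base.) -/
theorem result {A : Type u} [CommRing A] {B : Type u} [CommRing B] [Algebra A B]
    {B' : Type u} [CommRing B'] [Algebra A B'] {d : ℕ} (F : PolLaw.MulLaw A B A d) (φ : B' →ₐ[A] B) :
    (PolLaw.ker (F.precomp φ).law).radical = ((PolLaw.ker F.law).comap φ).radical := by
  have hle : (PolLaw.ker F.law).comap φ ≤ PolLaw.ker (F.precomp φ).law := by
    intro b' hb'
    rw [Ideal.mem_comap] at hb'
    intro S _ _ x w
    rw [Groth.Agent.Lib.Helper59.CHThm.precomp_toFun', Groth.Agent.Lib.Helper59.CHThm.precomp_toFun',
      map_add, map_mul, Algebra.TensorProduct.map_tmul, map_one]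
    exact hb' S _ _
  have hge : PolLaw.ker (F.precomp φ).law ≤ ((PolLaw.ker F.law).comap φ).radical := by
    intro b' hb'
    refine ⟨d, ?_⟩
    rw [Ideal.mem_comap, map_pow]
    apply Groth.Agent.Lib.Helper59.CHCons.pow_mem_ker
    rw [← Groth.Agent.Lib.Helper59.CHCons.chi_precomp]
    exact Groth.Agent.Lib.Helper59.CHCons.chi_of_mem_ker _ hb'
  apply le_antisymm
  · calc (PolLaw.ker (F.precomp φ).law).radical ≤ (((PolLaw.ker F.law).comap φ).radical).radical :=
          Ideal.radical_mono hge
      _ = ((PolLaw.ker F.law).comap φ).radical := Ideal.radical_idem _
  · exact Ideal.radical_mono hle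

end Groth.Agent.S13718
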