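import Groth.Statements.S13720
import Mathlib

set_option autoImplicit false
universe u
open scoped TensorProduct
open ZeroCyc

namespace Groth.Agent.S13720

/-- Let B be the filtered direct limit of a directed system (B_i, t_ij : B_i → B_j) of commutative
algebras over the commutative ring A, with structure maps φ_i : B_i → B (jointly surjective, and an
element of B_i vanishing in B already vanishes in some B_j), and let F : B → C be a multiplicative
polynomial law homogeneous of degree d, with restrictions F_i = F ∘ φ_i. Then an element b of B lies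
in the kernel of F if and only if it is the image of some x ∈ B_i whose images in B_j lie in the
kernel of F_j for every j ≥ i; that is, the kernel of F is the direct limit of the kernels of the
F_i. -/
theorem result {A : Type u} [CommRing A] {B : Type u} [CommRing B] [Algebra A B]
    {C : Type u} [CommRing C] [Algebra A C] {ι : Type u} [Preorder ι] [IsDirected ι (fun i j => i ≤ j)] [Nonempty ι]
    (Bi : ι → Type u) [∀ i, CommRing (Bi i)] [∀ i, Algebra A (Bi i)]
    (t : ∀ i j : ι, i ≤ j → (Bi i →ₐ[A] Bi j)) (φ : ∀ i : ι, Bi i →ₐ[A] B)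
    (hcomp : ∀ (i j : ι) (h : i ≤ j), (φ j).comp (t i j h) = φ i)
    (hsurj : ∀ b : B, ∃ (i : ι) (x : Bi i), φ i x = b)
    (hzero : ∀ (i : ι) (x : Bi i), φ i x = 0 → ∃ (j : ι) (h : i ≤ j), t i j h x = 0)
    {d : ℕ} (F : PolLaw.MulLaw A B C d) (b : B) :
    b ∈ PolLaw.ker F.law ↔ ∃ (i : ι) (x : Bi i), φ i x = b ∧
      ∀ (j : ι) (h : i ≤ j), t i j h x ∈ PolLaw.ker (F.precomp (φ j)).law := by
  classical
  -- the value of the precomposed law
  have hpre : ∀ (j : ι) (S : Type u) [CommSemiring S] [Algebra A S] (y : S ⊗[A] Bi j),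
      (F.precomp (φ j)).law.toFun' S y = F.law.toFun' S ((φ j).toLinearMap.lTensor S y) :=
    fun j S _ _ y => rfl
  -- transporting along the system
  have htr : ∀ (i j : ι) (h : i ≤ j) (S : Type u) [CommSemiring S] [Algebra A S] (y : S ⊗[A] Bi i),
      (φ j).toLinearMap.lTensor S ((t i j h).toLinearMap.lTensor S y) =
        (φ i).toLinearMap.lTensor S y := by
    intro i j h S _ _ y
    rw [← LinearMap.comp_apply, ← LinearMap.lTensor_comp, ← AlgHom.comp_toLinearMap, hcomp]
  -- lifting a tensor to a stage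
  have hlift : ∀ (S : Type u) [CommSemiring S] [Algebra A S] (X : S ⊗[A] B) (i₀ : ι),
      ∃ (j : ι) (_ : i₀ ≤ j) (X' : S ⊗[A] Bi j), (φ j).toLinearMap.lTensor S X' = X := by
    intro S _ _ X i₀
    induction X using TensorProduct.induction_on with
    | zero => exact ⟨i₀, le_rfl, 0, by simp⟩
    | tmul s c =>
        obtain ⟨k, y, hy⟩ := hsurj c
        obtain ⟨j, hkj, hij⟩ := exists_ge_ge k i₀
        refine ⟨j, hij, s ⊗ₜ[A] (t k j hkj y), ?_⟩
        rw [LinearMap.lTensor_tmul, AlgHom.toLinearMap_apply, ← AlgHom.comp_apply, hcomp, hy]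
    | add X₁ X₂ h₁ h₂ =>
        obtain ⟨j₁, hj₁, X₁', hX₁⟩ := h₁
        obtain ⟨j₂, hj₂, X₂', hX₂⟩ := h₂
        obtain ⟨j, h1j, h2j⟩ := exists_ge_ge j₁ j₂
        refine ⟨j, hj₁.trans h1j, (t j₁ j h1j).toLinearMap.lTensor S X₁' +
          (t j₂ j h2j).toLinearMap.lTensor S X₂', ?_⟩
        rw [map_add, htr, htr, hX₁, hX₂]
  have hmul : ∀ (j : ι) (S : Type u) [CommSemiring S] [Algebra A S] (X' W' : S ⊗[A] Bi j) (c : Bi j),
      (φ j).toLinearMap.lTensor S (X' + W' * ((1 : S) ⊗ₜ[A] c)) =
        (φ j).toLinearMap.lTensor S X' + (φ j).toLinearMap.lTensor S W' * ((1 : S) ⊗ₜ[A] (φ j c)) := by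
    intro j S _ _ X' W' c
    rw [PolLaw.lTensor_algHom_apply, PolLaw.lTensor_algHom_apply, PolLaw.lTensor_algHom_apply,
      map_add, map_mul, Algebra.TensorProduct.map_tmul, AlgHom.id_apply]
  constructor
  · intro hb
    obtain ⟨i, x, hx⟩ := hsurj b
    refine ⟨i, x, hx, ?_⟩
    intro j h S _ _ X' W'
    rw [hpre, hpre, hmul]
    have : φ j (t i j h x) = b := by rw [← AlgHom.comp_apply, hcomp, hx]
    rw [this]
    exact hb S _ _
  · rintro ⟨i, x, hx, hker⟩
    intro S _ _ X W
    obtain ⟨j₁, hj₁, X₁, hX₁⟩ := hlift S X i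
    obtain ⟨j, hj, W', hW⟩ := hlift S W j₁
    have hij : i ≤ j := hj₁.trans hj
    have h1 := hker j hij S ((t j₁ j hj).toLinearMap.lTensor S X₁) W'
    rw [hpre, hpre, hmul, htr, hX₁, hW] at h1
    have : φ j (t i j hij x) = b := by rw [← AlgHom.comp_apply, hcomp, hx]
    rw [this] at h1
    exact h1

end Groth.Agent.S13720
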