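import Groth.Statements.S13724
import Groth.Agent.Lib.Helper59.FibreCount
import Groth.Agent.S13695

set_option autoImplicit false
universe u
open scoped TensorProduct
open ZeroCyc

namespace Groth.Agent.S13724

/-- Let A be a commutative ring with finitely many maximal ideals, B a commutative A-algebra and F : B →
A a multiplicative polynomial law homogeneous of degree d. Then B/ker F, the coordinate ring of the
image of the family of zero-cycles defined by F, has finitely many maximal ideals. -/
theorem result {A : Type u} [CommRing A] [Finite (MaximalSpectrum A)] {B : Type u} [CommRing B] [Algebra A B]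
    {d : ℕ} (F : PolLaw.MulLaw A B A d) :
    Finite (MaximalSpectrum (PolLaw.image F.law)) := by
  classical
  have hint : Algebra.IsIntegral A (PolLaw.image F.law) := Groth.Agent.S13695.result F
  let φ : MaximalSpectrum (PolLaw.image F.law) → MaximalSpectrum A := fun n =>
    ⟨n.asIdeal.comap (algebraMap A (PolLaw.image F.law)),
      have := n.isMaximal
      Ideal.isMaximal_comap_of_isIntegral_of_isMaximal (R := A) n.asIdeal⟩
  rw [← Set.finite_univ_iff]
  apply Set.Finite.of_finite_fibers φ (Set.toFinite _)
  intro m _
  have hmp : m.asIdeal.IsPrime := m.isMaximal.isPrime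
  let m' : PrimeSpectrum A := ⟨m.asIdeal, hmp⟩
  have hfin : Finite (PrimeSpectrum (m'.asIdeal.ResidueField ⊗[A] PolLaw.image F.law)) :=
    (Groth.Agent.Lib.Helper59.FibreCount.fibre_card_le F _).1
  have hfin2 : Finite (PrimeSpectrum.comap (algebraMap A (PolLaw.image F.law)) ⁻¹' {m'}) :=
    Finite.of_equiv _ (PrimeSpectrum.preimageEquivFiber A (PolLaw.image F.law) m').symm
  let g : ↥(Set.univ ∩ φ ⁻¹' {m}) →
      ↥(PrimeSpectrum.comap (algebraMap A (PolLaw.image F.law)) ⁻¹' {m'}) := fun n =>
    ⟨n.1.toPrimeSpectrum, by
      have h2 : φ n.1 = m := n.2.2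
      have h3 : n.1.asIdeal.comap (algebraMap A (PolLaw.image F.law)) = m.asIdeal :=
        congrArg MaximalSpectrum.asIdeal h2
      show PrimeSpectrum.comap (algebraMap A (PolLaw.image F.law)) n.1.toPrimeSpectrum = m'
      exact PrimeSpectrum.ext h3⟩
  have hg : Function.Injective g := by
    intro n₁ n₂ h
    have h1 : n₁.1.toPrimeSpectrum = n₂.1.toPrimeSpectrum := congrArg Subtype.val h
    have h2 : n₁.1.asIdeal = n₂.1.asIdeal := congrArg PrimeSpectrum.asIdeal h1
    exact Subtype.ext (MaximalSpectrum.ext h2)
  have := Finite.of_injective g hg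
  exact Set.toFinite _

end Groth.Agent.S13724
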