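import Groth.Statements.S13725
import Mathlib.Algebra.CharP.Algebra
import Mathlib.Algebra.CharP.Lemmas
-- import your own Groth.Agent.* helpers here

set_option autoImplicit false
universe u
open scoped TensorProduct
open ZeroCyc

namespace Groth.Agent.S13725

/-- Let k be a field of characteristic p > 0 and let F : k → k be the law x ↦ x^p, multiplicative and
homogeneous of degree p over k. The kernel of F is the zero ideal, but after the flat base change k
→ A' = k[X]/(X^p) the kernel of the base-changed law on A' ⊗_k k is not zero (the class of X lies in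
it). So in characteristic p, forming the kernel of a multiplicative law is not compatible with flat
base change. -/
theorem result {k : Type u} [Field k] (p : ℕ) [Fact p.Prime] [CharP k p] :
    PolLaw.ker (PolLaw.MulLaw.pow k k p).law = ⊥ ∧
      PolLaw.kerBC (PolLaw.MulLaw.pow k k p).law (AdjoinRoot ((Polynomial.X : Polynomial k) ^ p)) ≠ ⊥ := by
  have hp : p.Prime := Fact.out
  constructor
  · rw [eq_bot_iff]
    intro b hb
    have h := hb k 0 1
    change (0 + 1 * ((1 : k) ⊗ₜ[k] b)) ^ p = (0 : k ⊗[k] k) ^ p at h
    rw [zero_add, one_mul, Algebra.TensorProduct.tmul_pow, one_pow, zero_pow hp.ne_zero] at h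
    have h2 := congrArg (Algebra.TensorProduct.lid k k) h
    rw [Algebra.TensorProduct.lid_tmul, map_zero, one_smul] at h2
    exact (Ideal.mem_bot).2 (pow_eq_zero_iff hp.ne_zero |>.1 h2)
  · intro hbot
    have hmem : (AdjoinRoot.root ((Polynomial.X : Polynomial k) ^ p)) ⊗ₜ[k] (1 : k) ∈
        PolLaw.kerBC (PolLaw.MulLaw.pow k k p).law (AdjoinRoot ((Polynomial.X : Polynomial k) ^ p)) := by
      intro R _ _ _ _ x w
      change (x + w * _) ^ p = x ^ p
      rw [Algebra.TensorProduct.map_tmul]
      have hroot : (AdjoinRoot.root ((Polynomial.X : Polynomial k) ^ p)) ^ p = 0 := by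
        rw [← AdjoinRoot.mk_X, ← map_pow, AdjoinRoot.mk_self]
      have hm : ((IsScalarTower.toAlgHom k (AdjoinRoot ((Polynomial.X : Polynomial k) ^ p)) R)
          (AdjoinRoot.root ((Polynomial.X : Polynomial k) ^ p)) ⊗ₜ[k] (AlgHom.id k k) 1) ^ p = 0 := by
        rw [Algebra.TensorProduct.tmul_pow, ← map_pow, hroot, map_zero, TensorProduct.zero_tmul]
      rcases subsingleton_or_nontrivial (R ⊗[k] k) with hs | hn
      · exact Subsingleton.elim _ _
      · have : CharP (R ⊗[k] k) p :=
          charP_of_injective_algebraMap (RingHom.injective (algebraMap k (R ⊗[k] k))) p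
        rw [add_pow_char, mul_pow, hm, mul_zero, add_zero]
    rw [hbot, Ideal.mem_bot] at hmem
    have h2 := congrArg (Algebra.TensorProduct.rid k k (AdjoinRoot ((Polynomial.X : Polynomial k) ^ p))) hmem
    rw [Algebra.TensorProduct.rid_tmul, one_smul, map_zero] at h2
    rw [← AdjoinRoot.mk_X, AdjoinRoot.mk_eq_zero] at h2
    have h3 := Polynomial.degree_le_of_dvd h2 Polynomial.X_ne_zero
    rw [Polynomial.degree_X_pow, Polynomial.degree_X] at h3
    have h4 : p ≤ 1 := by exact_mod_cast h3
    have := hp.two_le
    omega

end Groth.Agent.S13725
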