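import Groth.Statements.S13726
import Mathlib
-- import your own Groth.Agent.* helpers here

set_option autoImplicit false
universe u
open scoped TensorProduct
open ZeroCyc

namespace Groth.Agent.S13726

section helpers
open MvPolynomial

noncomputable abbrev JJ (k : Type u) [Field k] (p : ℕ) : Ideal (MvPolynomial ℕ k) :=
  Ideal.span (Set.range fun i : ℕ => (MvPolynomial.X i : MvPolynomial ℕ k) ^ p)

abbrev QQ (k : Type u) [Field k] (p : ℕ) : Type u := MvPolynomial ℕ k ⧸ JJ k p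

variable {k : Type u} [Field k] (p : ℕ) [hp : Fact p.Prime] [CharP k p]

lemma natCast_p_eq_zero : ((p : ℕ) : QQ k p) = 0 := by
  have h : ((p : ℕ) : QQ k p) = algebraMap k (QQ k p) ((p : ℕ) : k) :=
    (map_natCast (algebraMap k (QQ k p)) p).symm
  rw [h, CharP.cast_eq_zero k p, map_zero]

noncomputable def ev : QQ k p →+* k :=
  Ideal.Quotient.lift (JJ k p) (MvPolynomial.eval (0 : ℕ → k)) (by
    intro a ha
    have hle : JJ k p ≤ RingHom.ker (MvPolynomial.eval (0 : ℕ → k)) := by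
      rw [Ideal.span_le]
      rintro _ ⟨i, rfl⟩
      simp [RingHom.mem_ker, hp.out.ne_zero]
    exact hle ha)

lemma ev_mk (f : MvPolynomial ℕ k) :
    ev p (Ideal.Quotient.mk (JJ k p) f) = MvPolynomial.eval (0 : ℕ → k) f :=
  Ideal.Quotient.lift_mk _ _ _

lemma mem_m_iff (q : QQ k p) :
    q ∈ (Ideal.span (Set.range fun i : ℕ => (MvPolynomial.X i : MvPolynomial ℕ k))).map
        (Ideal.Quotient.mk (JJ k p)) ↔ ev p q = 0 := by
  constructor
  · intro hq
    have hle : (Ideal.span (Set.range fun i : ℕ => (X i : MvPolynomial ℕ k))).map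
        (Ideal.Quotient.mk (JJ k p)) ≤ RingHom.ker (ev p) := by
      rw [Ideal.map_le_iff_le_comap, Ideal.span_le]
      rintro _ ⟨i, rfl⟩
      simp [RingHom.mem_ker, ev_mk]
    exact hle hq
  · intro hq
    obtain ⟨f, rfl⟩ := Ideal.Quotient.mk_surjective q
    rw [ev_mk, MvPolynomial.eval_zero] at hq
    apply Ideal.mem_map_of_mem
    rw [← Set.image_univ, MvPolynomial.mem_ideal_span_X_image]
    intro m hm
    have hm0 : m ≠ 0 := by
      rintro rfl
      rw [MvPolynomial.mem_support_iff] at hm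
      exact hm hq
    obtain ⟨i, hi⟩ := DFunLike.ne_iff.mp hm0
    exact ⟨i, Set.mem_univ _, by simpa using hi⟩

lemma pow_p_eq_zero_of_mem (b : QQ k p)
    (hb : b ∈ (Ideal.span (Set.range fun i : ℕ => (X i : MvPolynomial ℕ k))).map
      (Ideal.Quotient.mk (JJ k p))) : b ^ p = 0 := by
  rw [Ideal.map_span] at hb
  refine Submodule.span_induction (p := fun b _ => b ^ p = 0) ?_ ?_ ?_ ?_ hb
  · rintro _ ⟨_, ⟨i, rfl⟩, rfl⟩
    show Ideal.Quotient.mk (JJ k p) (X i) ^ p = 0
    rw [← map_pow]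
    exact Ideal.Quotient.eq_zero_iff_mem.mpr (Ideal.subset_span ⟨i, rfl⟩)
  · exact zero_pow hp.out.ne_zero
  · intro x y _ _ hx hy
    rw [add_pow_prime_eq' hp.out, hx, hy, natCast_p_eq_zero, zero_mul, add_zero, add_zero]
  · intro a x _ hx
    rw [smul_eq_mul, mul_pow, hx, mul_zero]

lemma mem_ker_of_pow_eq_zero (b : QQ k p) (hb : b ^ p = 0) :
    b ∈ PolLaw.ker (PolLaw.MulLaw.pow (QQ k p) (QQ k p) p).law := by
  intro S _ _ x w
  show (x + w * ((1 : S) ⊗ₜ[QQ k p] b)) ^ p = x ^ p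
  have hpS : ((p : ℕ) : S ⊗[QQ k p] QQ k p) = 0 := by
    have h := (map_natCast
      (Algebra.TensorProduct.includeRight : QQ k p →ₐ[QQ k p] S ⊗[QQ k p] QQ k p) p)
    rw [← h, natCast_p_eq_zero, map_zero]
  have hb' : ((1 : S) ⊗ₜ[QQ k p] b) ^ p = 0 := by
    rw [Algebra.TensorProduct.tmul_pow, hb, TensorProduct.tmul_zero]
  rw [add_pow_prime_eq' hp.out, mul_pow, hb', mul_zero, hpS, zero_mul, add_zero, add_zero]

omit hp in
lemma pow_eq_zero_of_mem_ker_gen (A : Type u) [CommRing A] (n : ℕ) (hn : n ≠ 0) (b : A)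
    (hb : b ∈ PolLaw.ker (PolLaw.MulLaw.pow A A n).law) : b ^ n = 0 := by
  have h := hb A 0 1
  change (0 + 1 * ((1 : A) ⊗ₜ[A] b)) ^ n = (0 : A ⊗[A] A) ^ n at h
  rw [zero_add, _root_.one_mul, zero_pow hn] at h
  have h2 := congrArg (Algebra.TensorProduct.lmul' A (S := A)) h
  rw [map_pow, map_zero, Algebra.TensorProduct.lmul'_apply_tmul, _root_.one_mul] at h2
  exact h2

lemma pow_eq_zero_of_mem_ker (b : QQ k p)
    (hb : b ∈ PolLaw.ker (PolLaw.MulLaw.pow (QQ k p) (QQ k p) p).law) : b ^ p = 0 :=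
  pow_eq_zero_of_mem_ker_gen (QQ k p) p hp.out.ne_zero b hb

lemma ker_eq : PolLaw.ker (PolLaw.MulLaw.pow (QQ k p) (QQ k p) p).law =
    (Ideal.span (Set.range fun i : ℕ => (MvPolynomial.X i : MvPolynomial ℕ k))).map
      (Ideal.Quotient.mk (JJ k p)) := by
  ext b
  constructor
  · intro hb
    rw [mem_m_iff]
    have h2 := pow_eq_zero_of_mem_ker p b hb
    have h3 : ev p b ^ p = 0 := by rw [← map_pow, h2, map_zero]
    exact (pow_eq_zero_iff hp.out.ne_zero).mp h3
  · intro hb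
    exact mem_ker_of_pow_eq_zero p b (pow_p_eq_zero_of_mem p b hb)

lemma not_fg : ¬ ((Ideal.span (Set.range fun i : ℕ => (X i : MvPolynomial ℕ k))).map
    (Ideal.Quotient.mk (JJ k p))).FG := by
  intro hfg
  rw [Ideal.map_span] at hfg
  obtain ⟨s', hs'sub, hs'eq⟩ := (Submodule.fg_span_iff_fg_span_finset_subset _).mp hfg
  have hidx : ∀ y ∈ s', ∃ i : ℕ, Ideal.Quotient.mk (JJ k p) (X i) = y := by
    intro y hy
    obtain ⟨_, ⟨i, rfl⟩, rfl⟩ := hs'sub hy
    exact ⟨i, rfl⟩
  choose! idx hidx' using hidx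
  obtain ⟨n, hn⟩ : ∃ n, n = s'.sup idx + 1 := ⟨_, rfl⟩
  let φ : MvPolynomial ℕ k →+* DualNumber k :=
    (MvPolynomial.aeval (fun i : ℕ => if i = n then (DualNumber.eps : DualNumber k) else 0) :
      MvPolynomial ℕ k →ₐ[k] DualNumber k).toRingHom
  have hφX : ∀ i, φ (X i) = if i = n then (DualNumber.eps : DualNumber k) else 0 := by
    intro i
    simp [φ]
  have hφJ : ∀ a ∈ JJ k p, φ a = 0 := by
    intro a ha
    have hle : JJ k p ≤ RingHom.ker φ := by
      rw [Ideal.span_le]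
      rintro _ ⟨i, rfl⟩
      show φ (X i ^ p) = 0
      rw [map_pow, hφX]
      split_ifs with h
      · obtain ⟨c, hc⟩ : ∃ c, p = 2 + c := ⟨p - 2, by have := hp.out.two_le; omega⟩
        rw [hc, pow_add, DualNumber.eps_pow_two, zero_mul]
      · exact zero_pow hp.out.ne_zero
    exact hle ha
  have hψ : ∀ i, Ideal.Quotient.lift (JJ k p) φ hφJ (Ideal.Quotient.mk (JJ k p) (X i))
      = if i = n then (DualNumber.eps : DualNumber k) else 0 := by
    intro i
    rw [Ideal.Quotient.lift_mk, hφX]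
  have hmem : Ideal.Quotient.mk (JJ k p) (X n) ∈
      Ideal.span (⇑(Ideal.Quotient.mk (JJ k p)) ''
        Set.range fun i : ℕ => (X i : MvPolynomial ℕ k)) :=
    Ideal.subset_span ⟨_, ⟨n, rfl⟩, rfl⟩
  have hker : Submodule.span (QQ k p) (s' : Set (QQ k p))
      ≤ RingHom.ker (Ideal.Quotient.lift (JJ k p) φ hφJ) := by
    rw [Submodule.span_le]
    intro y hy
    have hy' : y ∈ s' := Finset.mem_coe.mp hy
    rw [SetLike.mem_coe, RingHom.mem_ker, ← hidx' y hy', hψ, if_neg]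
    have : idx y ≤ s'.sup idx := Finset.le_sup hy'
    omega
  have h0 : Ideal.Quotient.lift (JJ k p) φ hφJ (Ideal.Quotient.mk (JJ k p) (X n)) = 0 :=
    hker (hs'eq.le hmem)
  rw [hψ, if_pos rfl] at h0
  have h1 := congrArg TrivSqZeroExt.snd h0
  simp at h1

end helpers


/-- Let k be a field of characteristic p > 0 and A = k[t_i : i ∈ ℕ]/(t_i^p : i ∈ ℕ). The law x ↦ x^p
from A to A is multiplicative and homogeneous of degree p over A; its kernel is the ideal generated
by the classes of the variables t_i, and this ideal is not finitely generated. Hence the image of a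
family of zero-cycles need not be of finite presentation over the base even when X → S is. -/
theorem result {k : Type u} [Field k] (p : ℕ) [Fact p.Prime] [CharP k p] :
    PolLaw.ker (PolLaw.MulLaw.pow
        (MvPolynomial ℕ k ⧸ Ideal.span (Set.range fun i : ℕ => (MvPolynomial.X i : MvPolynomial ℕ k) ^ p))
        (MvPolynomial ℕ k ⧸ Ideal.span (Set.range fun i : ℕ => (MvPolynomial.X i : MvPolynomial ℕ k) ^ p)) p).law =
      (Ideal.span (Set.range fun i : ℕ => (MvPolynomial.X i : MvPolynomial ℕ k))).map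
        (Ideal.Quotient.mk (Ideal.span (Set.range fun i : ℕ => (MvPolynomial.X i : MvPolynomial ℕ k) ^ p))) ∧
    ¬ (PolLaw.ker (PolLaw.MulLaw.pow
        (MvPolynomial ℕ k ⧸ Ideal.span (Set.range fun i : ℕ => (MvPolynomial.X i : MvPolynomial ℕ k) ^ p))
        (MvPolynomial ℕ k ⧸ Ideal.span (Set.range fun i : ℕ => (MvPolynomial.X i : MvPolynomial ℕ k) ^ p)) p).law).FG := by
  have key : ∀ I₁ I₂ : Ideal (QQ k p), I₁ = I₂ → ¬ I₂.FG → (I₁ = I₂ ∧ ¬ I₁.FG) :=
    fun _ _ h1 h2 => ⟨h1, h1 ▸ h2⟩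
  exact key _ _ (ker_eq p) (not_fg p)

end Groth.Agent.S13726
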