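import Groth.Statements.S13731
import Groth.Agent.Lib.Helper69.SubmDVR

set_option autoImplicit false
universe u
open HTop

namespace Groth.Agent.S13731

open CategoryTheory CategoryTheory.Limits AlgebraicGeometry in
/-- Let X be a separated Noetherian scheme and {p_i : U_i → X} a finite family of separated morphisms of
finite type whose induced morphism from the disjoint union of the U_i to X is universally submersive
(an h-covering). Then every point x of X is p_i(u) for some i and some point u of U_i admitting a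
generization ξ in U_i whose image p_i(ξ) is a generic point of an irreducible component of X.
Equivalently, the irreducible components of the U_i dominating an irreducible component of X jointly
cover X. -/
theorem result {X : Scheme.{u}} [IsNoetherian X] [X.IsSeparated] (E : PreZeroHypercover.{u} X) [Finite E.I₀] [∀ i, LocallyOfFiniteType (E.f i)] [∀ i, QuasiCompact (E.f i)] [∀ i, IsSeparated (E.f i)] (hE : SGA1.UnivSubmersive (Sigma.desc E.f)) (x : X) : ∃ (i : E.I₀) (ξ u : E.X i), ξ ⤳ u ∧ E.f i u = x ∧ closure {E.f i ξ} ∈ irreducibleComponents ↥X := by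
  open Groth.Agent.Lib.Helper69.SubmDVR in
  let σ := Sigma.desc E.f
  have hσsurj : Function.Surjective σ := (hE (𝟙 _) (𝟙 _) σ .of_id_snd).surjective
  obtain ⟨η, hη⟩ := QuasiSober.sober (isIrreducible_irreducibleComponent (x := x))
    isClosed_irreducibleComponent
  have hηcl : closure {η} = irreducibleComponent x := hη.def
  have hηx : η ⤳ x := specializes_iff_mem_closure.mpr (hηcl ▸ mem_irreducibleComponent)
  have key : ∃ u₁ u₀ : (∐ E.X : Scheme.{u}), u₁ ⤳ u₀ ∧ σ u₁ = η ∧ σ u₀ = x := by
    by_cases hxe : x = η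
    · obtain ⟨u₀, hu₀⟩ := hσsurj x
      exact ⟨u₀, u₀, specializes_rfl, hu₀.trans hxe, hu₀⟩
    · obtain ⟨A, _, _, _, g, hg1, hg2⟩ := exists_dvr_hom_of_specializes η x hηx hxe
      have hq := hE (pullback.fst σ g) g (pullback.snd σ g) (IsPullback.of_hasPullback σ g).flip
      obtain ⟨p₁, p₀, hsp, h1, h0⟩ := exists_specializes_of_isQuotientMap A (pullback.snd σ g) hq
      have hc : ∀ z, σ (pullback.fst σ g z) = g (pullback.snd σ g z) := fun z =>
        congr(($(pullback.condition (f := σ) (g := g))).base z)
      refine ⟨pullback.fst σ g p₁, pullback.fst σ g p₀,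
        hsp.map (pullback.fst σ g).continuous, ?_, ?_⟩
      · rw [hc]; exact hg1 _ h1
      · rw [hc]; exact hg2 _ h0
  obtain ⟨u₁, u₀, hsp, h1, h0⟩ := key
  obtain ⟨⟨i, u⟩, rfl⟩ := (sigmaMk E.X).surjective u₀
  rw [sigmaMk_mk] at hsp h0
  have hopen : IsOpen (Set.range (Sigma.ι E.X i)) :=
    (Sigma.ι E.X i).isOpenEmbedding.isOpen_range
  obtain ⟨ξ, rfl⟩ := hopen.stableUnderGeneralization hsp ⟨u, rfl⟩
  have hι : ∀ z, σ (Sigma.ι E.X i z) = E.f i z := fun z =>
    congr(($(Sigma.ι_desc E.f i)).base z)
  refine ⟨i, ξ, u, (Sigma.ι E.X i).isOpenEmbedding.isInducing.specializes_iff.mp hsp, ?_, ?_⟩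
  · rw [← hι]; exact h0
  · rw [← hι, h1, hηcl]
    exact irreducibleComponent_mem_irreducibleComponents x

end Groth.Agent.S13731
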