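import Groth.Statements.S13737
import Groth.Agent.Lib.Helper69.SubmDVR

set_option linter.style.haveILetI false
set_option linter.unusedSectionVars false

set_option autoImplicit false
universe u
open HTop

namespace Groth.Agent.S13737

open AlgebraicGeometry CategoryTheory CategoryTheory.Limits Groth.Agent.Lib.Helper69

section Helpers

/-- a point has a generization outside the support of an effective Cartier ideal -/
theorem exists_generization_not_mem_support {X' : Scheme.{u}} (𝓙 : X'.IdealSheafData)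
    (h : BlowUp.IsEffCartierIdeal 𝓙) (x' : X') : ∃ ξ' : X', ξ' ⤳ x' ∧ ξ' ∉ 𝓙.support := by
  obtain ⟨V, hxV, t, ht, hVt⟩ := h x'
  have hV : IsAffineOpen V.1 := V.2
  set 𝔭 := hV.primeIdealOf ⟨x', hxV⟩ with h𝔭def
  have h𝔭 : hV.fromSpec 𝔭 = x' := hV.fromSpec_primeIdealOf ⟨x', hxV⟩
  let M : Submonoid Γ(X', V.1) := 𝔭.asIdeal.primeCompl ⊔ Submonoid.powers t
  have h0 : (0 : Γ(X', V.1)) ∉ M := by
    intro h0
    obtain ⟨s, hs, z, ⟨n, rfl⟩, hsz⟩ := Submonoid.mem_sup.mp h0
    have hs0 : s = 0 :=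
      (mul_right_mem_nonZeroDivisors_eq_zero_iff (pow_mem ht n)).mp hsz
    rw [hs0] at hs
    exact hs (𝔭.asIdeal.zero_mem)
  obtain ⟨Q, hQ, -, hdisj⟩ := Ideal.exists_le_prime_disjoint (⊥ : Ideal Γ(X', V.1)) M (by
    rw [Set.disjoint_left]
    intro x hx hxM
    rw [SetLike.mem_coe, Ideal.mem_bot] at hx
    rw [hx] at hxM
    exact h0 hxM)
  let q : PrimeSpectrum Γ(X', V.1) := ⟨Q, hQ⟩
  have hq1 : q.asIdeal ≤ 𝔭.asIdeal := by
    intro x hx
    by_contra hxp
    exact Set.disjoint_left.mp hdisj hx (Submonoid.mem_sup_left hxp)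
  have hq2 : t ∉ q.asIdeal := by
    intro hb
    exact Set.disjoint_left.mp hdisj hb (Submonoid.mem_sup_right (Submonoid.mem_powers t))
  refine ⟨hV.fromSpec q, ?_, ?_⟩
  · rw [← h𝔭]
    exact ((PrimeSpectrum.le_iff_specializes q 𝔭).mp hq1).map hV.fromSpec.continuous
  · have hqV : hV.fromSpec q ∈ V.1 := by
      have h1 : hV.fromSpec q ∈ hV.fromSpec.opensRange := ⟨q, rfl⟩
      rw [hV.opensRange_fromSpec] at h1
      exact h1
    rw [Scheme.IdealSheafData.mem_support_iff_of_mem (U := V) hqV, hVt, Scheme.mem_zeroLocus_iff]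
    intro hall
    apply hall t (Ideal.mem_span_singleton_self t)
    have h2 : q ∈ hV.fromSpec ⁻¹ᵁ X'.basicOpen t := by
      rw [hV.fromSpec_preimage_basicOpen]
      exact hq2
    exact h2

/-- a DVR through a (not necessarily strict) specialization -/
theorem exists_dvr_through {X' : Scheme.{u}} [IsLocallyNoetherian X'] (ξ' x' : X') (h : ξ' ⤳ x') :
    ∃ (R : Type u) (_ : CommRing R) (_ : IsDomain R) (_ : IsDiscreteValuationRing R)
      (φ : Spec (CommRingCat.of R) ⟶ X'),
      (∀ y : Spec (CommRingCat.of R), y.asIdeal = ⊥ → φ y = ξ') ∧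
      (∀ y : Spec (CommRingCat.of R), y.asIdeal = IsLocalRing.maximalIdeal R → φ y = x') := by
  by_cases hne : x' = ξ'
  · subst hne
    refine ⟨PowerSeries (X'.residueField x'), inferInstance, inferInstance, inferInstance,
      Spec.map (CommRingCat.ofHom (PowerSeries.C (R := X'.residueField x'))) ≫
        X'.fromSpecResidueField x', ?_, ?_⟩
    · intro y _
      rw [Scheme.Hom.comp_apply]
      exact Scheme.fromSpecResidueField_apply x' _
    · intro y _
      rw [Scheme.Hom.comp_apply]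
      exact Scheme.fromSpecResidueField_apply x' _
  · exact SubmDVR.exists_dvr_hom_of_specializes ξ' x' h hne

/-- on the spectrum of a DVR, an ideal sheaf whose support is not everything is effective Cartier -/
theorem isEffCartierIdeal_of_dvr (R' : Type u) [CommRing R'] [IsDomain R']
    [IsDiscreteValuationRing R'] (𝓙 : (Spec (CommRingCat.of R')).IdealSheafData)
    (η : Spec (CommRingCat.of R')) (hη : η ∉ 𝓙.support) : BlowUp.IsEffCartierIdeal 𝓙 := by
  intro y
  refine ⟨⟨⊤, isAffineOpen_top _⟩, trivial, ?_⟩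
  let e : Γ(Spec (CommRingCat.of R'), ⊤) ≃+* R' :=
    (Scheme.ΓSpecIso (CommRingCat.of R')).commRingCatIsoToRingEquiv
  haveI : IsDomain Γ(Spec (CommRingCat.of R'), ⊤) := e.toMulEquiv.isDomain _
  haveI : IsPrincipalIdealRing Γ(Spec (CommRingCat.of R'), ⊤) :=
    IsPrincipalIdealRing.of_surjective e.symm.toRingHom e.symm.surjective
  obtain ⟨f, hf⟩ := (IsPrincipalIdealRing.principal
    (𝓙.ideal ⟨⊤, isAffineOpen_top (Spec (CommRingCat.of R'))⟩)).principal
  have hf' : 𝓙.ideal ⟨⊤, isAffineOpen_top (Spec (CommRingCat.of R'))⟩ = Ideal.span {f} := hf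
  refine ⟨f, ?_, hf'⟩
  apply mem_nonZeroDivisors_of_ne_zero
  rintro rfl
  apply hη
  rw [Scheme.IdealSheafData.mem_support_iff_of_mem
    (U := ⟨⊤, isAffineOpen_top (Spec (CommRingCat.of R'))⟩) trivial, hf',
    Scheme.mem_zeroLocus_iff]
  intro g hg
  rw [SetLike.mem_coe, Ideal.mem_span_singleton'] at hg
  obtain ⟨r, rfl⟩ := hg
  rw [mul_zero, Scheme.basicOpen_zero]
  exact fun h => h

end Helpers


open CategoryTheory CategoryTheory.Limits AlgebraicGeometry in
/-- Let X be a separated integral Noetherian scheme, b : X' → X a blow-up of X in a quasi-coherent sheaf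
of ideals (characterised by the universal property of blowing up), with X' separated and b of finite
type, and let U be an open subscheme of X' whose composite U → X' → X is universally submersive (an
h-covering). Then U = X'. (The published statement takes X only integral; its proof applies the
surjectivity of dominating components for Noetherian schemes, so this row takes X Noetherian.) -/
theorem result {X X' : Scheme.{u}} [IsNoetherian X] [X.IsSeparated] [IsIntegral X] [X'.IsSeparated] (𝓘 : X.IdealSheafData) (b : X' ⟶ X) [LocallyOfFiniteType b] [QuasiCompact b] (hb : BlowUp.IsBlowUp b 𝓘) (U : X'.Opens) (hU : SGA1.UnivSubmersive (U.ι ≫ b)) : U = ⊤ := by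
  rw [eq_top_iff]
  intro x' _
  haveI : IsLocallyNoetherian X' := LocallyOfFiniteType.isLocallyNoetherian b
  obtain ⟨ξ', hsp, hξ'⟩ := exists_generization_not_mem_support (𝓘.comap b) hb.1 x'
  obtain ⟨R, _, _, _, φ, hφgen, hφcl⟩ := exists_dvr_through ξ' x' hsp
  -- the base change of `U → X` to `Spec R`
  have hq : Topology.IsQuotientMap (pullback.snd (U.ι ≫ b) (φ ≫ b)) :=
    hU _ _ _ (IsPullback.of_hasPullback (U.ι ≫ b) (φ ≫ b)).flip
  obtain ⟨p₁, p₀, hsp', hp₁, hp₀⟩ :=
    SubmDVR.exists_specializes_of_isQuotientMap R (pullback.snd (U.ι ≫ b) (φ ≫ b)) hq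
  haveI : IsLocallyNoetherian (pullback (U.ι ≫ b) (φ ≫ b)) :=
    LocallyOfFiniteType.isLocallyNoetherian (pullback.snd (U.ι ≫ b) (φ ≫ b))
  have hne : p₀ ≠ p₁ := by
    intro h
    rw [h, hp₁] at hp₀
    exact IsDiscreteValuationRing.not_a_field R hp₀.symm
  obtain ⟨R', _, _, _, ψ, hψgen, hψcl⟩ := SubmDVR.exists_dvr_hom_of_specializes p₁ p₀ hsp' hne
  set c₁ : Spec (CommRingCat.of R') ⟶ X' := ψ ≫ pullback.snd (U.ι ≫ b) (φ ≫ b) ≫ φ with hc₁
  set c₂ : Spec (CommRingCat.of R') ⟶ X' := ψ ≫ pullback.fst (U.ι ≫ b) (φ ≫ b) ≫ U.ι with hc₂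
  have hc : c₂ ≫ b = c₁ ≫ b := by
    simp only [hc₁, hc₂, Category.assoc]
    rw [pullback.condition]
  -- the generic point of `Spec R'` avoids the centre
  let η' : Spec (CommRingCat.of R') := ⟨⊥, Ideal.isPrime_bot⟩
  let cl' : Spec (CommRingCat.of R') := ⟨IsLocalRing.maximalIdeal R', inferInstance⟩
  have hη'1 : ψ η' = p₁ := hψgen η' rfl
  have hη'2 : c₁ η' = ξ' := by
    rw [hc₁, Scheme.Hom.comp_apply, Scheme.Hom.comp_apply, hη'1]
    exact hφgen _ hp₁
  have hcart : BlowUp.IsEffCartierIdeal (𝓘.comap (c₁ ≫ b)) := by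
    apply isEffCartierIdeal_of_dvr R' _ η'
    rw [Scheme.IdealSheafData.comap_comp, Scheme.IdealSheafData.support_comap]
    intro h
    apply hξ'
    rw [← hη'2]
    exact h
  obtain ⟨h, -, huniq⟩ := hb.2 _ (c₁ ≫ b) hcart
  have h12 : c₁ = c₂ := (huniq c₁ rfl).trans (huniq c₂ hc).symm
  have hcl1 : c₁ cl' = x' := by
    rw [hc₁, Scheme.Hom.comp_apply, Scheme.Hom.comp_apply, hψcl cl' rfl]
    exact hφcl _ hp₀
  rw [← hcl1, h12, hc₂, Scheme.Hom.comp_apply, Scheme.Hom.comp_apply]
  exact (pullback.fst (U.ι ≫ b) (φ ≫ b) (ψ cl')).2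

end Groth.Agent.S13737
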