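import Groth.Statements.S13738
import Groth.Agent.Lib.Helper21.FibreBC
import Groth.Agent.Lib.Helper21.FieldBC
-- import your own Groth.Agent.* helpers here

set_option autoImplicit false
universe u
open SGA1

namespace Groth.Agent.S13738

open CategoryTheory CategoryTheory.Limits AlgebraicGeometry in
/-- Let S be a separated irreducible Noetherian scheme, q : X → S finite and surjective with X
separated, and G a finite group acting on X by S-automorphisms, transitively on the geometric points
of X over every geometric point of S. Then every irreducible component of X maps onto S and G acts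
transitively on the set of irreducible components of X. -/
theorem result {X S : Scheme.{u}} [IsNoetherian S] [S.IsSeparated] [X.IsSeparated] [IrreducibleSpace ↥S] (q : X ⟶ S) [IsFinite q] [Surjective q] {G : Type u} [Group G] [Finite G] (ρ : G →* Aut X) (hρ : ∀ g : G, (ρ g).hom ≫ q = q) (htrans : ∀ (Ω : Type u) [Field Ω] [IsAlgClosed Ω] (τ₁ τ₂ : Spec (CommRingCat.of Ω) ⟶ X), τ₁ ≫ q = τ₂ ≫ q → ∃ g : G, τ₁ ≫ (ρ g).hom = τ₂) : (∀ T ∈ irreducibleComponents ↥X, Set.image (fun x => q x) T = Set.univ) ∧ ∀ T₁ ∈ irreducibleComponents ↥X, ∀ T₂ ∈ irreducibleComponents ↥X, ∃ g : G, Set.image (fun x => (ρ g).hom x) T₁ = T₂ := by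
  classical
  -- the action on points
  have hmul : ∀ (a b : G) (x : X), (ρ (a * b)).hom x = (ρ a).hom ((ρ b).hom x) := by
    intro a b x
    rw [map_mul, Aut.Aut_mul_def]
    rfl
  have hone : ∀ x : X, (ρ 1).hom x = x := by
    intro x
    rw [map_one]
    rfl
  have hinv : ∀ (a : G) (x : X), (ρ a⁻¹).hom ((ρ a).hom x) = x := by
    intro a x
    rw [← hmul, inv_mul_cancel, hone]
  have hqg : ∀ (g : G) (x : X), q ((ρ g).hom x) = q x := by
    intro g x
    rw [← Scheme.Hom.comp_apply, hρ]
  -- `X` is Noetherian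
  have hlft : LocallyOfFiniteType q := inferInstance
  have hLN : IsLocallyNoetherian X := LocallyOfFiniteType.isLocallyNoetherian q
  have hcpt : CompactSpace ↥X := QuasiCompact.compactSpace_of_compactSpace q
  have hN : IsNoetherian X := { }
  have hfin : (irreducibleComponents ↥X).Finite :=
    TopologicalSpace.NoetherianSpace.finite_irreducibleComponents
  have hclosed : IsClosedMap q := q.isClosedMap
  -- images of components under the action
  have himg : ∀ (g : G) (T : Set ↥X), T ∈ irreducibleComponents ↥X →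
      (fun x => (ρ g).hom x) '' T ∈ irreducibleComponents ↥X := by
    intro g T hT
    have hiso : IsIso (ρ g).hom := Iso.isIso_hom (ρ g)
    have h1 : (fun x => (ρ g).hom x) '' T = (ρ g).hom.homeomorph.symm ⁻¹' T := by
      rw [← Homeomorph.image_eq_preimage_symm]
      rfl
    rw [h1]
    refine preimage_mem_irreducibleComponents hT (ρ g).hom.homeomorph.symm.isOpenEmbedding ?_
    rw [(ρ g).hom.homeomorph.symm.surjective.range_eq, Set.inter_univ]
    exact hT.1.1
  -- a component dominating `S`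
  obtain ⟨T₀, hT₀, hT₀S⟩ : ∃ T₀ ∈ irreducibleComponents ↥X, (fun x => q x) '' T₀ = Set.univ := by
    have hirr : IsIrreducible (Set.univ : Set ↥S) := IrreducibleSpace.isIrreducible_univ _
    have hcov : (Set.univ : Set ↥S) ⊆
        ⋃₀ ((hfin.image (fun T => (fun x => q x) '' T)).toFinset : Set (Set ↥S)) := by
      intro s _
      obtain ⟨x, rfl⟩ := q.surjective s
      obtain ⟨T, hT, hxT⟩ := exists_mem_irreducibleComponents_subset_of_isIrreducible
        ({x} : Set ↥X) isIrreducible_singleton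
      refine ⟨(fun x => q x) '' T, ?_, ⟨x, hxT rfl, rfl⟩⟩
      simp only [Set.Finite.coe_toFinset]
      exact ⟨T, hT, rfl⟩
    obtain ⟨Z, hZ, hZuniv⟩ := (isIrreducible_iff_sUnion_isClosed.1 hirr) _ (by
      intro Z hZ
      simp only [Set.Finite.mem_toFinset] at hZ
      obtain ⟨T, hT, rfl⟩ := hZ
      exact hclosed _ (isClosed_of_mem_irreducibleComponents T hT)) hcov
    simp only [Set.Finite.mem_toFinset] at hZ
    obtain ⟨T, hT, rfl⟩ := hZ
    exact ⟨T, hT, Set.eq_univ_of_univ_subset hZuniv⟩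
  -- every component is a translate of `T₀`
  have hkey : ∀ T ∈ irreducibleComponents ↥X, ∃ g : G, (fun x => (ρ g).hom x) '' T₀ = T := by
    intro T hT
    have hTcl := isClosed_of_mem_irreducibleComponents T hT
    let ξ := hT.1.genericPoint
    have hξ : IsGenericPoint ξ T := hT.1.isGenericPoint_genericPoint hTcl
    obtain ⟨x₁, hx₁T, hx₁⟩ : ∃ x₁ ∈ T₀, q x₁ = q ξ := by
      have : q ξ ∈ (fun x => q x) '' T₀ := hT₀S ▸ Set.mem_univ _
      obtain ⟨x₁, h1, h2⟩ := this
      exact ⟨x₁, h1, h2⟩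
    let φ₁ := Groth.Agent.Lib.Helper21.resMapOfEq q x₁ hx₁
    let φ₂ := Groth.Agent.Lib.Helper21.resMapOfEq q ξ rfl
    let _ : Algebra (S.residueField (q ξ)) (X.residueField x₁) := φ₁.hom.toAlgebra
    let _ : Algebra (S.residueField (q ξ)) (X.residueField ξ) := φ₂.hom.toAlgebra
    obtain ⟨M, _, i, j, hij⟩ := Groth.Agent.Lib.Helper21.exists_common_extension
      (S.residueField (q ξ)) (X.residueField x₁) (X.residueField ξ)
    let Ω := AlgebraicClosure M
    let a₁ : X.residueField x₁ ⟶ CommRingCat.of Ω :=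
      CommRingCat.ofHom ((algebraMap M Ω).comp i)
    let a₂ : X.residueField ξ ⟶ CommRingCat.of Ω :=
      CommRingCat.ofHom ((algebraMap M Ω).comp j)
    let τ₁ : Spec (CommRingCat.of Ω) ⟶ X := Spec.map a₁ ≫ X.fromSpecResidueField x₁
    let τ₂ : Spec (CommRingCat.of Ω) ⟶ X := Spec.map a₂ ≫ X.fromSpecResidueField ξ
    have hτ : τ₁ ≫ q = τ₂ ≫ q := by
      simp only [τ₁, τ₂, Category.assoc]
      rw [Groth.Agent.Lib.Helper21.fromSpecResidueField_comp_eq q x₁ hx₁,
        Groth.Agent.Lib.Helper21.fromSpecResidueField_comp_eq q ξ rfl]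
      rw [← Category.assoc, ← Category.assoc, ← Spec.map_comp, ← Spec.map_comp]
      congr 2
      ext r
      have := congrArg (fun ψ : _ →+* M => algebraMap M Ω (ψ r)) hij
      exact this
    obtain ⟨g, hg⟩ := htrans Ω τ₁ τ₂ hτ
    obtain ⟨pt⟩ : Nonempty ↥(Spec (CommRingCat.of Ω)) := inferInstance
    have h1 : τ₁ pt = x₁ := by
      simp only [τ₁]
      rw [Scheme.Hom.comp_apply, Scheme.fromSpecResidueField_apply]
    have h2 : τ₂ pt = ξ := by
      simp only [τ₂]
      rw [Scheme.Hom.comp_apply, Scheme.fromSpecResidueField_apply]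
    have h3 : (ρ g).hom x₁ = ξ :=
      calc (ρ g).hom x₁ = (ρ g).hom (τ₁ pt) := by rw [h1]
        _ = (τ₁ ≫ (ρ g).hom) pt := (Scheme.Hom.comp_apply _ _ _).symm
        _ = τ₂ pt := by rw [hg]
        _ = ξ := h2
    refine ⟨g, ?_⟩
    have hT' := himg g T₀ hT₀
    have hξT' : ξ ∈ (fun x => (ρ g).hom x) '' T₀ := ⟨x₁, hx₁T, h3⟩
    have hsub : T ⊆ (fun x => (ρ g).hom x) '' T₀ := by
      rw [← hξ.def]
      exact (isClosed_of_mem_irreducibleComponents _ hT').closure_subset_iff.2
        (Set.singleton_subset_iff.2 hξT')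
    exact Set.Subset.antisymm (hT.2 hT'.1 hsub) hsub
  constructor
  · intro T hT
    obtain ⟨g, rfl⟩ := hkey T hT
    rw [Set.image_image]
    simp only [hqg]
    exact hT₀S
  · intro T₁ hT₁ T₂ hT₂
    obtain ⟨g₁, rfl⟩ := hkey T₁ hT₁
    obtain ⟨g₂, rfl⟩ := hkey T₂ hT₂
    refine ⟨g₂ * g₁⁻¹, ?_⟩
    rw [Set.image_image]
    congr 1
    funext x
    rw [hmul, hinv]

end Groth.Agent.S13738
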