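import Groth.Statements.S13739
import Groth.Agent.Lib.Helper89.SplitFold2

set_option autoImplicit false
universe u
open SGA1

namespace Groth.Agent.S13739

open CategoryTheory CategoryTheory.Limits AlgebraicGeometry in
/-- Let S be a separated Noetherian scheme, q : X → S finite surjective with X separated, G a finite
group acting on X by S-automorphisms and transitively on the geometric points of X over every
geometric point of S, and r : Y → X a morphism with Y separated. If υ is the morphism from the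
disjoint union of G copies of Y to Y ×_S X (Y over S through r ≫ q) whose σ-th component is (id_Y, r
≫ σ), then υ is finite and surjective. -/
theorem result {X S Y : Scheme.{u}} [IsNoetherian S] [S.IsSeparated] [X.IsSeparated] [Y.IsSeparated] (q : X ⟶ S) [IsFinite q] [Surjective q] {G : Type u} [Group G] [Finite G] (ρ : G →* Aut X) (hρ : ∀ g : G, (ρ g).hom ≫ q = q) (htrans : ∀ (Ω : Type u) [Field Ω] [IsAlgClosed Ω] (τ₁ τ₂ : Spec (CommRingCat.of Ω) ⟶ X), τ₁ ≫ q = τ₂ ≫ q → ∃ g : G, τ₁ ≫ (ρ g).hom = τ₂) (r : Y ⟶ X) (υ : (∐ fun _ : G => Y) ⟶ pullback (r ≫ q) q) (hυ₁ : ∀ σ : G, Sigma.ι (fun _ : G => Y) σ ≫ υ ≫ pullback.fst (r ≫ q) q = 𝟙 Y) (hυ₂ : ∀ σ : G, Sigma.ι (fun _ : G => Y) σ ≫ υ ≫ pullback.snd (r ≫ q) q = r ≫ (ρ σ).hom) : IsFinite υ ∧ Surjective υ := by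
  have hfold : υ ≫ pullback.fst (r ≫ q) q = Sigma.desc fun _ : G => 𝟙 Y := by
    apply Sigma.hom_ext
    intro σ
    rw [Sigma.ι_desc]
    exact hυ₁ σ
  have h1 : IsFinite (υ ≫ pullback.fst (r ≫ q) q) := by
    rw [hfold]
    exact Groth.Agent.Lib.Helper89.SplitFold.isFinite_foldOfFinite Y G
  refine ⟨IsFinite.of_comp υ (pullback.fst (r ≫ q) q), ⟨fun z => ?_⟩⟩
  -- a geometric point over `z`
  let κ := (pullback (r ≫ q) q).residueField z
  let Ω := AlgebraicClosure κ
  let zbar : Spec (CommRingCat.of Ω) ⟶ pullback (r ≫ q) q :=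
    Spec.map (CommRingCat.ofHom (algebraMap κ Ω)) ≫ (pullback (r ≫ q) q).fromSpecResidueField z
  let s : Spec (CommRingCat.of Ω) := (⟨⊥, Ideal.isPrime_bot⟩ : PrimeSpectrum Ω)
  have hz : zbar s = z := by
    simp only [zbar, Scheme.Hom.comp_apply]
    exact Scheme.fromSpecResidueField_apply z _
  obtain ⟨g, hg⟩ := htrans Ω (zbar ≫ pullback.fst (r ≫ q) q ≫ r) (zbar ≫ pullback.snd (r ≫ q) q)
    (by simp only [Category.assoc]; rw [pullback.condition])
  have hzbar : zbar = (zbar ≫ pullback.fst (r ≫ q) q) ≫ Sigma.ι (fun _ : G => Y) g ≫ υ := by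
    apply pullback.hom_ext
    · simp only [Category.assoc]
      rw [hυ₁ g, Category.comp_id]
    · simp only [Category.assoc]
      rw [hυ₂ g, ← hg]
      simp only [Category.assoc]
  refine ⟨Sigma.ι (fun _ : G => Y) g ((zbar ≫ pullback.fst (r ≫ q) q) s), ?_⟩
  rw [← Scheme.Hom.comp_apply, ← Scheme.Hom.comp_apply, ← hzbar, hz]

end Groth.Agent.S13739
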