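import Groth.Statements.S1374
import Mathlib
import Groth.Agent.Lib.Helper82.GenFibre3
import Groth.Agent.Lib.Helper21.FibrePoints
import Groth.Agent.Lib.Helper21.FieldDimBC
-- import your own Groth.Agent.* helpers here

set_option autoImplicit false
universe u
open FlatMor

namespace Groth.Agent.S1374

set_option linter.style.haveILetI false

section Helpers
open AlgebraicGeometry CategoryTheory Limits

theorem isClosed_asFiber_iff {X S : Scheme.{u}} (f : X ⟶ S) (x : X) :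
    IsClosed ({f.asFiber x} : Set (f.fiber (f x))) ↔
      IsClosed (Subtype.val ⁻¹' {x} : Set ↑(f ⁻¹' {f x})) := by
  have h0 : f.fiberHomeo (f x) (f.asFiber x) = ⟨x, rfl⟩ :=
    (f.fiberHomeo (f x)).apply_symm_apply ⟨x, rfl⟩
  have h : (Subtype.val ⁻¹' {x} : Set ↑(f ⁻¹' {f x})) =
      (f.fiberHomeo (f x)) '' {f.asFiber x} := by
    rw [Set.image_singleton, h0]
    ext ⟨z, hz⟩
    simp [Subtype.ext_iff]
  rw [h, Homeomorph.isClosed_image]

open Groth.Agent.Lib.Helper82.GenFibre Groth.Agent.Lib.Helper21 Groth.Agent.Lib.Helper21.FieldDim in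
theorem exists_closed_between {X S : Scheme.{u}} (f : X ⟶ S) [LocallyOfFiniteType f] (x' : X)
    (hx' : IsClosed ({f.asFiber x'} : Set (f.fiber (f x')))) :
    ∀ (n : ℕ) (y : X), tdR f y = n → y ⤳ x' → f y ≠ f x' → ∀ U₀ : X.Opens, y ∈ U₀ →
      ∃ x₁ : X, x₁ ∈ U₀ ∧ IsClosed ({f.asFiber x₁} : Set (f.fiber (f x₁))) ∧ y ⤳ x₁ ∧ x₁ ⤳ x' ∧
        f x₁ = f y := by
  have halg' : @Algebra.IsAlgebraic (S.residueField (f x')) (X.residueField x') _ _
      (f.residueFieldMap x').hom.toAlgebra := by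
    have h1 := finite_residueFieldMap_of_isClosed_asFiber f x' hx'
    letI := (f.residueFieldMap x').hom.toAlgebra
    haveI : Module.Finite (S.residueField (f x')) (X.residueField x') := h1
    exact Algebra.IsAlgebraic.of_finite _ _
  intro n
  induction n using Nat.strong_induction_on with
  | _ n ih =>
    intro y hn hsp hne U₀ hy
    by_cases hcf : IsClosed ({f.asFiber y} : Set (f.fiber (f y)))
    · exact ⟨y, hy, hcf, specializes_rfl, hsp, rfl⟩
    · have hnalg : ¬ @Algebra.IsAlgebraic (S.residueField (f y)) (X.residueField y) _ _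
          (f.residueFieldMap y).hom.toAlgebra := fun h => hcf (isClosed_asFiber_of_isAlgebraic f y h)
      obtain ⟨ξ, hξU₀, hξne, hyξ, hξx', hfξ⟩ := core1 f y x' hsp hne halg' hnalg U₀ hy
      have hlt : tdR f ξ < tdR f y := tdR_lt_of_specializes f hyξ (Ne.symm hξne) hfξ.symm
      obtain ⟨x₁, hx₁U₀, hx₁cf, hξx₁, hx₁x', hfx₁⟩ :=
        ih (tdR f ξ) (hn ▸ hlt) ξ rfl hξx' (hfξ ▸ hne) U₀ hξU₀
      exact ⟨x₁, hx₁U₀, hx₁cf, hyξ.trans hξx₁, hx₁x', hfx₁.trans hfξ⟩

end Helpers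

open AlgebraicGeometry CategoryTheory Limits in
/-- Let f : X ⟶ S be locally of finite type and x ⤳ x' a specialization of points of X, with x' a closed
point of its fibre f⁻¹(f(x')) and f(x) ≠ f(x'). Then the points x₁ with f(x₁) = f(x) which are
closed in the fibre f⁻¹(f(x)) and satisfy x ⤳ x₁ ⤳ x' are dense in the closure of {x} intersected
with the fibre f⁻¹(f(x)) (fibres taken as subspaces of X). (The published statement omits the
condition f(x) ≠ f(x'), but the claim fails without it; it is stated here with that condition.) -/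
theorem result {X S : Scheme.{u}} (f : X ⟶ S) [LocallyOfFiniteType f] (x x' : X) (hsp : x ⤳ x') (hne : f x ≠ f x')
    (hcl : IsClosed (Subtype.val ⁻¹' {x'} : Set ↑(f ⁻¹' {f x'}))) :
    Dense (Subtype.val ⁻¹' {x₁ : ↑X | f x₁ = f x ∧ IsClosed (Subtype.val ⁻¹' {x₁} : Set ↑(f ⁻¹' {f x})) ∧ x ⤳ x₁ ∧ x₁ ⤳ x'} :
      Set ↑(closure {x} ∩ f ⁻¹' {f x})) := by
  have hx' := (isClosed_asFiber_iff f x').mpr hcl
  rw [dense_iff_inter_open]
  intro O hO hOne
  obtain ⟨O', hO', rfl⟩ := isOpen_induced_iff.mp hO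
  obtain ⟨⟨z, hzcl, hzf⟩, hzO⟩ := hOne
  have hxO' : x ∈ O' := by
    obtain ⟨w, hwO, hwx⟩ := mem_closure_iff.mp hzcl O' hO' hzO
    rw [Set.mem_singleton_iff] at hwx
    exact hwx ▸ hwO
  obtain ⟨x₁, hx₁O, hx₁cf, hxx₁, hx₁x', hfx₁⟩ :=
    exists_closed_between f x' hx' _ x rfl hsp hne ⟨O', hO'⟩ hxO'
  refine ⟨⟨x₁, specializes_iff_mem_closure.mp hxx₁, hfx₁⟩, hx₁O, hfx₁, ?_, hxx₁, hx₁x'⟩
  have key : ∀ s (hs : f x₁ = s), IsClosed (Subtype.val ⁻¹' {x₁} : Set ↑(f ⁻¹' {s})) := by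
    rintro _ rfl
    exact (isClosed_asFiber_iff f x₁).mp hx₁cf
  exact key _ hfx₁

end Groth.Agent.S1374
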