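import Groth.Statements.S13741
import Mathlib.FieldTheory.Normal.Defs

set_option autoImplicit false
universe u
open SGA1

namespace Groth.Agent.S13741

open CategoryTheory CategoryTheory.Limits AlgebraicGeometry in
/-- A field valued point factors through the residue field of its image point. -/
lemma exists_factor {X : Scheme.{u}} {Ω : Type u} [Field Ω] (τ : Spec (CommRingCat.of Ω) ⟶ X) (x : X)
    (hx : τ (IsLocalRing.closedPoint Ω) = x) :
    ∃ a : X.residueField x ⟶ CommRingCat.of Ω, τ = Spec.map a ≫ X.fromSpecResidueField x := by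
  subst hx
  exact ⟨_, (Scheme.descResidueField_stalkClosedPointTo_fromSpecResidueField Ω X τ).symm⟩

open CategoryTheory CategoryTheory.Limits AlgebraicGeometry in
lemma factor_inj {S : Scheme.{u}} {Ω : Type u} [Field Ω] (s : S)
    (b₁ b₂ : S.residueField s ⟶ CommRingCat.of Ω)
    (h : Spec.map b₁ ≫ S.fromSpecResidueField s = Spec.map b₂ ≫ S.fromSpecResidueField s) :
    b₁ = b₂ := by
  have := (Scheme.SpecToEquivOfField Ω S).symm.injective
    (a₁ := ⟨s, b₁⟩) (a₂ := ⟨s, b₂⟩) h
  exact eq_of_heq (Sigma.mk.inj this).2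

/-- Field theory: two embeddings of a normal extension agreeing on the base differ by an
automorphism. -/
lemma exists_aut_of_normal {K L Ω : Type u} [Field K] [Field L] [Field Ω] (i : K →+* L)
    (hN : @Normal K L _ _ i.toAlgebra) (a₁ a₂ : L →+* Ω) (h : a₁.comp i = a₂.comp i) :
    ∃ σ : L ≃+* L, (σ : L →+* L).comp i = i ∧ a₁.comp (σ : L →+* L) = a₂ := by
  let _ : Algebra K L := i.toAlgebra
  let _ : Algebra L Ω := a₁.toAlgebra
  let _ : Algebra K Ω := (a₁.comp i).toAlgebra
  have : IsScalarTower K L Ω := IsScalarTower.of_algebraMap_eq' rfl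
  let a₂' : L →ₐ[K] Ω := { a₂ with commutes' := fun k => (RingHom.congr_fun h k).symm }
  let σ' : L ≃ₐ[K] L := AlgHom.restrictNormal' a₂' L
  have hσ : (IsScalarTower.toAlgHom K L Ω).comp σ'.toAlgHom = a₂' :=
    (Normal.algHomEquivAut K Ω L).left_inv a₂'
  refine ⟨σ'.toRingEquiv, ?_, ?_⟩
  · ext k
    exact σ'.commutes k
  · ext l
    exact AlgHom.congr_fun hσ l

open CategoryTheory CategoryTheory.Limits AlgebraicGeometry in
/-- Let S be a separated Noetherian scheme, q : X → S finite and surjective with X separated, and G a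
finite group acting on X by S-automorphisms. Assume that G acts transitively on every fibre of q,
that each residue field extension k(x)/k(q x) is normal, and that for each x every k(q
x)-automorphism of k(x) is induced by an element of G fixing x. Then for every algebraically closed
field Ω, any two Ω-points of X with the same composite to S are conjugate under G. -/
theorem result {X S : Scheme.{u}} [IsNoetherian S] [S.IsSeparated] [X.IsSeparated] (q : X ⟶ S) [IsFinite q] [Surjective q] {G : Type u} [Group G] [Finite G] (ρ : G →* Aut X) (hρ : ∀ g : G, (ρ g).hom ≫ q = q) (h1 : ∀ x y : X, q x = q y → ∃ g : G, (ρ g).hom x = y) (h2 : ∀ x : X, @Normal (S.residueField (q x)) (X.residueField x) _ _ (q.residueFieldMap x).hom.toAlgebra) (h3 : ∀ (x : X) (σ : X.residueField x ≅ X.residueField x), q.residueFieldMap x ≫ σ.hom = q.residueFieldMap x → ∃ g : G, X.fromSpecResidueField x ≫ (ρ g).hom = Spec.map σ.hom ≫ X.fromSpecResidueField x) (Ω : Type u) [Field Ω] [IsAlgClosed Ω] (τ₁ τ₂ :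 Spec (CommRingCat.of Ω) ⟶ X) (hτ : τ₁ ≫ q = τ₂ ≫ q) : ∃ g : G, τ₁ ≫ (ρ g).hom = τ₂ := by
  let cp : Spec (CommRingCat.of Ω) := (IsLocalRing.closedPoint Ω : PrimeSpectrum Ω)
  obtain ⟨g₀, hg₀⟩ := h1 (τ₂ cp) (τ₁ cp) (by
    have := congrArg (fun f : Spec (CommRingCat.of Ω) ⟶ S => f cp) hτ
    simpa [Scheme.Hom.comp_apply] using this.symm)
  -- reduce to the case of equal image points
  let x : X := τ₁ cp
  obtain ⟨a₁, ha₁⟩ := exists_factor τ₁ x rfl
  obtain ⟨a₂, ha₂⟩ := exists_factor (τ₂ ≫ (ρ g₀).hom) x (by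
    show (τ₂ ≫ (ρ g₀).hom) cp = x
    rw [Scheme.Hom.comp_apply]; exact hg₀)
  have hq : Spec.map (q.residueFieldMap x ≫ a₁) ≫ S.fromSpecResidueField (q x) =
      Spec.map (q.residueFieldMap x ≫ a₂) ≫ S.fromSpecResidueField (q x) := by
    rw [Spec.map_comp, Spec.map_comp, Category.assoc, Category.assoc,
      Scheme.Hom.SpecMap_residueFieldMap_fromSpecResidueField, ← Category.assoc, ← Category.assoc,
      ← ha₁, ← ha₂, Category.assoc, hρ g₀, hτ]
  have hres := factor_inj (q x) _ _ hq
  obtain ⟨σ', hσ1, hσ2⟩ := exists_aut_of_normal (q.residueFieldMap x).hom (h2 x) a₁.hom a₂.hom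
    (by
      have := congrArg CommRingCat.Hom.hom hres
      simpa using this)
  obtain ⟨g, hg⟩ := h3 x σ'.toCommRingCatIso (by
    ext k
    exact RingHom.congr_fun hσ1 k)
  refine ⟨g₀⁻¹ * g, ?_⟩
  have e1 : τ₁ ≫ (ρ g).hom = τ₂ ≫ (ρ g₀).hom := by
    rw [ha₁, ha₂, Category.assoc, hg, ← Category.assoc, ← Spec.map_comp]
    congr 2
    ext l
    exact RingHom.congr_fun hσ2 l
  have e2 : (ρ (g₀⁻¹ * g)).hom = (ρ g).hom ≫ (ρ g₀⁻¹).hom := by
    rw [map_mul]; rfl
  have e3 : (ρ g₀).hom ≫ (ρ g₀⁻¹).hom = 𝟙 X := by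
    have : ρ g₀⁻¹ * ρ g₀ = 1 := by rw [← map_mul, inv_mul_cancel, map_one]
    exact congrArg Iso.hom this
  rw [e2, ← Category.assoc, e1, Category.assoc, e3, Category.comp_id]

end Groth.Agent.S13741
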