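import Groth.Statements.S13742
import Mathlib
import Groth.Agent.Lib.Helper35.FiberStalk
-- import your own Groth.Agent.* helpers here

set_option autoImplicit false
universe u
open Cyc

namespace Groth.Agent.S13742

section PRE
open CategoryTheory CategoryTheory.Limits AlgebraicGeometry
open IsLocalRing Groth.Agent.Lib.Helper35.FiberStalk

/-- at a generic point of an irreducible component, the maximal ideal of the local ring consists of
nilpotents. -/
lemma max_le_nilradical {S : Scheme.{u}} (s : S) (hs : closure {s} ∈ irreducibleComponents ↥S) :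
    maximalIdeal (S.presheaf.stalk s) ≤ nilradical (S.presheaf.stalk s) := by
  rw [nilradical_eq_sInf]
  refine le_sInf (fun P hP => ?_)
  have hP' : P.IsPrime := hP
  let Q : PrimeSpectrum (S.presheaf.stalk s) := ⟨P, hP'⟩
  have h2 : S.fromSpecStalk s Q ⤳ s := by
    have : S.fromSpecStalk s Q ∈ Set.range (S.fromSpecStalk s) := ⟨Q, rfl⟩
    rw [Scheme.range_fromSpecStalk] at this; exact this
  have hle : closure {s} ≤ closure {S.fromSpecStalk s Q} := h2.closure_subset
  have hirr : IsIrreducible (closure {S.fromSpecStalk s Q}) := isIrreducible_singleton.closure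
  have heq : closure {S.fromSpecStalk s Q} ≤ closure {s} := hs.2 hirr hle
  have h3 : s ⤳ S.fromSpecStalk s Q := by
    rw [specializes_iff_closure_subset]; exact heq
  have h4 : S.fromSpecStalk s Q = s := (h2.antisymm h3).eq
  have h5 : Q = closedPoint (S.presheaf.stalk s) :=
    (S.fromSpecStalk s).isEmbedding.injective
      (h4.trans (Scheme.fromSpecStalk_closedPoint (x := s)).symm)
  have : Q.asIdeal = (closedPoint (S.presheaf.stalk s)).asIdeal := by rw [h5]
  exact this.ge

lemma fiber_stalk_reduced {Z S : Scheme.{u}} [IsReduced Z] (h : Z ⟶ S) (s : S)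
    (hs : closure {s} ∈ irreducibleComponents ↥S) (t : h.fiber s) :
    _root_.IsReduced ((h.fiber s).presheaf.stalk t) := by
  have hker := ker_stalkMap_fiberι h s t
  have hsurj := stalkMap_fiberι_surjective h s t
  have hbase : h.base ((h.fiberι s).base t) = s := fiberι_base_eq h s t
  have hK : RingHom.ker ((h.fiberι s).stalkMap t).hom = ⊥ := by
    rw [hker, eq_bot_iff, Ideal.map_le_iff_le_comap]
    intro a ha
    have hs' : closure {h.base ((h.fiberι s).base t)} ∈ irreducibleComponents ↥S := by
      rw [hbase]; exact hs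
    have hnil : IsNilpotent a := (max_le_nilradical _ hs') ha
    have hn2 : IsNilpotent ((h.stalkMap ((h.fiberι s).base t)).hom a) := hnil.map _
    rw [Ideal.mem_comap, Ideal.mem_bot]
    exact hn2.eq_zero
  refine ⟨fun x hx => ?_⟩
  obtain ⟨a, rfl⟩ := hsurj x
  obtain ⟨n, hn⟩ := hx
  have h1 : a ^ n ∈ RingHom.ker ((h.fiberι s).stalkMap t).hom := by
    rw [RingHom.mem_ker, map_pow]; exact hn
  rw [hK, Ideal.mem_bot] at h1
  have h2 : a = 0 := (IsNilpotent.eq_zero ⟨n, h1⟩)
  rw [h2, map_zero]

theorem main {X S Z : Scheme.{u}} [IsNoetherian S] [S.IsSeparated] [X.IsSeparated] (f : X ⟶ S) [LocallyOfFiniteType f] [QuasiCompact f] (z : X) (hz : closure {f z} ∈ irreducibleComponents ↥S) (ι : Z ⟶ X) [IsClosedImmersion ι] [IsReduced Z] (hZ : Set.range ι = closure {z}) : IsIntegral (pullback (ι ≫ f) (S.fromSpecResidueField (f z))) ∧ ∃ w : ↥(pullback f (S.fromSpecResidueField (f z))), pullback.fst f (S.fromSpecResidueField (f z)) w = z ∧ Set.range (pullback.map (ι ≫ f) (S.fromSpecResidueField (f z)) f (S.fromSpecResidueField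 (f z)) ι (𝟙 _) (𝟙 S) (Category.comp_id _) ((Category.comp_id _).trans (Category.id_comp _).symm)) = closure {w} := by
  -- the generic point of Z
  obtain ⟨z₀, hz₀⟩ : ∃ z₀ : Z, ι z₀ = z := by
    have : z ∈ Set.range ι := by rw [hZ]; exact subset_closure rfl
    exact this
  have hgen : ∀ y : Z, z₀ ⤳ y := by
    intro y
    rw [← ι.isEmbedding.isInducing.specializes_iff, hz₀, specializes_iff_mem_closure, ← hZ]
    exact ⟨y, rfl⟩
  have hz₀s : (ι ≫ f) z₀ = f z := by
    show f (ι z₀) = f z
    rw [hz₀]
  let t₀ : (ι ≫ f).fiber (f z) := ((ι ≫ f).fiberHomeo (f z)).symm ⟨z₀, hz₀s⟩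
  have ht₀ : (ι ≫ f).fiberι (f z) t₀ = z₀ :=
    Scheme.Hom.fiberι_fiberHomeo_symm (ι ≫ f) (f z) ⟨z₀, hz₀s⟩
  have hgenF : ∀ t : (ι ≫ f).fiber (f z), t₀ ⤳ t := by
    intro t
    rw [← ((ι ≫ f).fiberι (f z)).isEmbedding.isInducing.specializes_iff, ht₀]
    exact hgen _
  refine ⟨?_, ?_⟩
  · -- integrality
    show IsIntegral ((ι ≫ f).fiber (f z))
    haveI : IrreducibleSpace ((ι ≫ f).fiber (f z)) := by
      have hcl : closure ({t₀} : Set ((ι ≫ f).fiber (f z))) = Set.univ := by
        ext t
        simp only [Set.mem_univ, iff_true]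
        exact (specializes_iff_mem_closure.mp (hgenF t))
      have hirr : IsIrreducible (Set.univ : Set ((ι ≫ f).fiber (f z))) := by
        rw [← hcl]; exact isIrreducible_singleton.closure
      haveI : PreirreducibleSpace ((ι ≫ f).fiber (f z)) := ⟨hirr.2⟩
      exact ⟨⟨t₀⟩⟩
    haveI : IsReduced ((ι ≫ f).fiber (f z)) := by
      haveI : ∀ t : (ι ≫ f).fiber (f z), _root_.IsReduced (((ι ≫ f).fiber (f z)).presheaf.stalk t) :=
        fun t => fiber_stalk_reduced (ι ≫ f) (f z) hz t
      exact isReduced_of_isReduced_stalk _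
    exact isIntegral_of_irreducibleSpace_of_isReduced _
  · -- the closure
    let w : f.fiber (f z) := (f.fiberHomeo (f z)).symm ⟨z, rfl⟩
    have hw : f.fiberι (f z) w = z := Scheme.Hom.fiberι_fiberHomeo_symm f (f z) ⟨z, rfl⟩
    refine ⟨w, hw, ?_⟩
    let m : (ι ≫ f).fiber (f z) ⟶ f.fiber (f z) :=
      pullback.map (ι ≫ f) (S.fromSpecResidueField (f z)) f (S.fromSpecResidueField (f z)) ι
      (𝟙 _) (𝟙 S) (Category.comp_id _) ((Category.comp_id _).trans (Category.id_comp _).symm)
    have hmfst : m ≫ f.fiberι (f z) = (ι ≫ f).fiberι (f z) ≫ ι := pullback.lift_fst _ _ _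
    have hmapp : ∀ t : (ι ≫ f).fiber (f z), f.fiberι (f z) (m t) = ι ((ι ≫ f).fiberι (f z) t) := by
      intro t
      have e := congrArg (fun φ : (ι ≫ f).fiber (f z) ⟶ X => φ t) hmfst
      simpa only [Scheme.Hom.comp_apply] using e
    show Set.range m = closure ({w} : Set (f.fiber (f z)))
    ext u
    constructor
    · rintro ⟨t, rfl⟩
      have hsp : w ⤳ m t := by
        apply (f.fiberι (f z)).isEmbedding.isInducing.specializes_iff.mp
        rw [hw, hmapp t, specializes_iff_mem_closure, ← hZ]
        exact ⟨_, rfl⟩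
      exact specializes_iff_mem_closure.mp hsp
    · intro hu
      have h1 : w ⤳ u := specializes_iff_mem_closure.mpr hu
      have h2 : z ⤳ f.fiberι (f z) u := by
        have h2' := h1.map (f.fiberι (f z)).continuous
        rwa [hw] at h2'
      have h3 : f.fiberι (f z) u ∈ Set.range ι := by
        rw [hZ]; exact specializes_iff_mem_closure.mp h2
      obtain ⟨y, hy⟩ := h3
      have hys : (ι ≫ f) y = f z := by
        show f (ι y) = f z
        rw [hy]
        have : f.fiberι (f z) u ∈ Set.range (f.fiberι (f z)) := ⟨u, rfl⟩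
        rw [Scheme.Hom.range_fiberι] at this
        exact this
      let t : (ι ≫ f).fiber (f z) := ((ι ≫ f).fiberHomeo (f z)).symm ⟨y, hys⟩
      have ht : (ι ≫ f).fiberι (f z) t = y :=
        Scheme.Hom.fiberι_fiberHomeo_symm (ι ≫ f) (f z) ⟨y, hys⟩
      refine ⟨t, ?_⟩
      apply (f.fiberι (f z)).isEmbedding.injective
      rw [hmapp t, ht, hy]

end PRE

open CategoryTheory CategoryTheory.Limits AlgebraicGeometry in
/-- Let S be a separated Noetherian scheme, f : X → S separated of finite type, z a point of X mapping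
to a generic point of an irreducible component of S, and ι : Z → X a closed immersion from a reduced
scheme with image the closure of z (the closure of z with its reduced structure). Then Z ×_S Spec
k(f z) is an integral scheme, and its image in the fibre X ×_S Spec k(f z) is the closure of the
unique point w of that fibre lying over z: Z ×_S Spec k(f z) is the closure of z in its fibre, with
reduced structure. -/
theorem result {X S Z : Scheme.{u}} [IsNoetherian S] [S.IsSeparated] [X.IsSeparated] (f : X ⟶ S) [LocallyOfFiniteType f] [QuasiCompact f] (z : X) (hz : closure {f z} ∈ irreducibleComponents ↥S) (ι : Z ⟶ X) [IsClosedImmersion ι] [IsReduced Z] (hZ : Set.range ι = closure {z}) : IsIntegral (pullback (ι ≫ f) (S.fromSpecResidueField (f z))) ∧ ∃ w : ↥(pullback f (S.fromSpecResidueField (f z))), pullback.fst f (S.fromSpecResidueField (f z)) w = z ∧ Set.range (pullback.map (ι ≫ f) (S.fromSpecResidueField (f z)) f (S.fromSpecResidueField (f z)) ι (𝟙 _) (𝟙 S) (Category.comp_id _) ((Category.comp_id _).trans (Category.id_comp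 _).symm)) = closure {w} := by
  exact main f z hz ι hZ

end Groth.Agent.S13742
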