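import Groth.Statements.S13744
import Mathlib
import Groth.Agent.Lib.Helper63.TensorLen
-- import your own Groth.Agent.* helpers here

set_option autoImplicit false
universe u
open Cyc

namespace Groth.Agent.S13744

section PRE
open CategoryTheory CategoryTheory.Limits AlgebraicGeometry

/-- the fraction field of a DVR is the localization away from a uniformizer. -/
lemma isLocalization_away_dvr (R : Type u) [CommRing R] [IsDomain R] [IsDiscreteValuationRing R]
    (ϖ : R) (hϖ : Irreducible ϖ) : IsLocalization.Away ϖ (FractionRing R) := by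
  refine (IsLocalization.iff_of_le_of_exists_dvd (M := Submonoid.powers ϖ) (S := FractionRing R)
    (nonZeroDivisors R) ?_ ?_).mpr inferInstance
  · rintro _ ⟨n, rfl⟩
    exact mem_nonZeroDivisors_of_ne_zero (pow_ne_zero n hϖ.ne_zero)
  · intro a ha
    have ha0 : a ≠ 0 := nonZeroDivisors.ne_zero ha
    obtain ⟨n, u, rfl⟩ := IsDiscreteValuationRing.eq_unit_mul_pow_irreducible ha0 hϖ
    refine ⟨ϖ ^ n, ⟨n, rfl⟩, ?_⟩
    exact ⟨(↑u⁻¹ : R), by rw [mul_comm (↑u : R), mul_assoc, Units.mul_inv, mul_one]⟩

instance isOpenImmersion_dvr (R : Type u) [CommRing R] [IsDomain R] [IsDiscreteValuationRing R] :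
    IsOpenImmersion (Spec.map (CommRingCat.ofHom (algebraMap R (FractionRing R)))) := by
  obtain ⟨ϖ, hϖ⟩ := IsDiscreteValuationRing.exists_irreducible R
  haveI := isLocalization_away_dvr R ϖ hϖ
  exact IsOpenImmersion.of_isLocalization ϖ

/-- a Noetherian local ring of positive dimension has infinite length. -/
lemma length_eq_top_of_dim_pos (A : Type u) [CommRing A] [IsNoetherianRing A]
    (h : ¬ ringKrullDim A ≤ 0) : Module.length A A = ⊤ := by
  by_contra hne
  have hfl : IsFiniteLength A A := Module.length_ne_top_iff.mp hne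
  have hart : IsArtinian A A := (isFiniteLength_iff_isNoetherian_isArtinian.mp hfl).2
  haveI : IsArtinianRing A := hart
  have : Ring.KrullDimLE 0 A := inferInstance
  exact h (Ring.krullDimLE_iff.mp this)

/-- in a Noetherian scheme, a dense open subset contains every point whose local ring has
dimension zero. -/
lemma mem_of_dense_open_of_coheight_zero {Y : Scheme.{u}} [IsNoetherian Y] (U : Set Y)
    (hU : IsOpen U) (hd : Dense U) (z : Y) (hz : Order.coheight z = 0) : z ∈ U := by
  -- z is maximal for specialization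
  have hmax : IsMax z := Order.coheight_eq_zero.mp hz
  obtain ⟨γ, hγ⟩ := QuasiSober.sober (isIrreducible_irreducibleComponent (x := z))
    isClosed_irreducibleComponent
  have h1 : γ ⤳ z := by
    rw [specializes_iff_mem_closure, hγ.def]; exact mem_irreducibleComponent
  have h2 : z ⤳ γ := by
    have : z ≤ γ := (Scheme.le_iff_specializes).mpr h1
    exact (Scheme.le_iff_specializes).mp (hmax this)
  have hcl : closure {z} = irreducibleComponent z := by
    rw [← hγ.def]
    exact inseparable_iff_closure_eq.mp (h2.antisymm h1)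
  obtain ⟨o, ho, hne, hsub⟩ :=
    TopologicalSpace.NoetherianSpace.exists_isOpen_nonempty_subset_irreducibleComponent
      (irreducibleComponent z) (irreducibleComponent_mem_irreducibleComponents z)
  obtain ⟨y, hyo, hyU⟩ := hd.inter_open_nonempty o ho hne
  have hy : z ⤳ y := by
    rw [specializes_iff_mem_closure, hcl]; exact hsub hyo
  exact hy.mem_open hU hyU

lemma mono_pullback_map {Z X S T : Scheme.{u}} (ι : Z ⟶ X) [Mono ι] (p : X ⟶ S) (x : T ⟶ S) :
    Mono (pullback.map (ι ≫ p) x p x ι (𝟙 _) (𝟙 S) (Category.comp_id _)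
      ((Category.comp_id _).trans (Category.id_comp _).symm)) := by
  constructor
  intro W u v huv
  apply pullback.hom_ext
  · have := congrArg (· ≫ pullback.fst p x) huv
    simp only [Category.assoc, pullback.lift_fst, pullback.map] at this
    rw [← cancel_mono ι]
    simpa using this
  · have := congrArg (· ≫ pullback.snd p x) huv
    simp only [Category.assoc, pullback.lift_snd, pullback.map, Category.comp_id] at this
    exact this

theorem main {X S Z : Scheme.{u}} [IsNoetherian S] [S.IsSeparated] [X.IsSeparated] (p : X ⟶ S) [LocallyOfFiniteType p] [QuasiCompact p] (ι : Z ⟶ X) [IsClosedImmersion ι] [IsIntegral Z] (R : Type u) [CommRing R] [IsDomain R] [IsDiscreteValuationRing R] (x : Spec (CommRingCat.of R) ⟶ S) (t : ↥(pullback p x)) : Cyc.subschemeFun (fun _ => (0 : ℤ)) 0 ((pullback.map (ι ≫ p) (Spec.map (CommRingCat.ofHom (algebraMap R (FractionRing R))) ≫ x) (ι ≫ p) x (𝟙 Z) (Spec.map (CommRingCat.ofHom (algebraMap R (FractionRing R)))) (𝟙 S) ((Category.comp_id _).trans (Category.id_comp _).symm) (Category.comp_id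 _)).ker.subschemeι ≫ pullback.map (ι ≫ p) x p x ι (𝟙 _) (𝟙 S) (Category.comp_id _) ((Category.comp_id _).trans (Category.id_comp _).symm)) t = ∑ᶠ t' ∈ {t' : ↥(pullback p (Spec.map (CommRingCat.ofHom (algebraMap R (FractionRing R))) ≫ x)) | (pullback.map p (Spec.map (CommRingCat.ofHom (algebraMap R (FractionRing R))) ≫ x) p x (𝟙 X) (Spec.map (CommRingCat.ofHom (algebraMap R (FractionRing R)))) (𝟙 S) ((Category.comp_id _).trans (Category.id_comp _).symm) (Category.comp_id _)) t' = t}, Cyc.subschemeFun (fun _ => (0 : ℤ)) 0 (pullback.map (ι ≫ p) (Spec.map (CommRingCat.ofHom (algebraMap R (FractionRing R))) ≫ x) p (Spec.map (CommRingCat.ofHom (algebraMap R (FractionRing R))) ≫ x) ι (𝟙 _) (𝟙 S) (Category.comp_id _) ((Category.comp_id _).trans (Category.id_comp _).symm)) t' := by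
  obtain ⟨a, ha⟩ : ∃ a : Spec (CommRingCat.of (FractionRing R)) ⟶ Spec (CommRingCat.of R),
      a = Spec.map (CommRingCat.ofHom (algebraMap R (FractionRing R))) := ⟨_, rfl⟩
  haveI : IsOpenImmersion a := ha ▸ isOpenImmersion_dvr R
  rw [← ha]
  obtain ⟨g, hg⟩ : ∃ g : pullback (ι ≫ p) (a ≫ x) ⟶ pullback (ι ≫ p) x,
      g = pullback.map (ι ≫ p) (a ≫ x) (ι ≫ p) x (𝟙 Z) a (𝟙 S)
        ((Category.comp_id _).trans (Category.id_comp _).symm) (Category.comp_id _) := ⟨_, rfl⟩
  obtain ⟨m, hm⟩ : ∃ m : pullback (ι ≫ p) x ⟶ pullback p x,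
      m = pullback.map (ι ≫ p) x p x ι (𝟙 _) (𝟙 S) (Category.comp_id _)
        ((Category.comp_id _).trans (Category.id_comp _).symm) := ⟨_, rfl⟩
  obtain ⟨j, hj⟩ : ∃ j : pullback p (a ≫ x) ⟶ pullback p x,
      j = pullback.map p (a ≫ x) p x (𝟙 X) a (𝟙 S)
        ((Category.comp_id _).trans (Category.id_comp _).symm) (Category.comp_id _) := ⟨_, rfl⟩
  obtain ⟨mK, hmK⟩ : ∃ mK : pullback (ι ≫ p) (a ≫ x) ⟶ pullback p (a ≫ x),
      mK = pullback.map (ι ≫ p) (a ≫ x) p (a ≫ x) ι (𝟙 _) (𝟙 S) (Category.comp_id _)
        ((Category.comp_id _).trans (Category.id_comp _).symm) := ⟨_, rfl⟩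
  rw [← hg, ← hm, ← hj, ← hmK]
  -- basic properties
  haveI : IsOpenImmersion g := hg ▸ inferInstance
  haveI : IsOpenImmersion j := hj ▸ inferInstance
  haveI : Mono m := hm ▸ mono_pullback_map ι p x
  haveI : Mono mK := hmK ▸ mono_pullback_map ι p (a ≫ x)
  have hcomm : g ≫ m = mK ≫ j := by
    rw [hg, hm, hj, hmK]
    apply pullback.hom_ext <;>
      simp only [Category.assoc, pullback.map, pullback.lift_fst, pullback.lift_snd,
        pullback.lift_fst_assoc, pullback.lift_snd_assoc, Category.comp_id, Category.id_comp]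
  -- Noetherianity
  haveI : LocallyOfFiniteType (pullback.snd (ι ≫ p) x) := inferInstance
  haveI : QuasiCompact (pullback.snd (ι ≫ p) x) := inferInstance
  haveI : IsLocallyNoetherian (pullback (ι ≫ p) x) :=
    LocallyOfFiniteType.isLocallyNoetherian (pullback.snd (ι ≫ p) x)
  haveI : CompactSpace ↥(pullback (ι ≫ p) x) :=
    QuasiCompact.compactSpace_of_compactSpace (pullback.snd (ι ≫ p) x)
  haveI : IsNoetherian (pullback (ι ≫ p) x) := {}
  haveI : IsLocallyNoetherian g.image := LocallyOfFiniteType.isLocallyNoetherian g.imageι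
  haveI : CompactSpace ↥g.image := QuasiCompact.compactSpace_of_compactSpace g.imageι
  haveI : IsNoetherian g.image := {}
  haveI : QuasiCompact g := inferInstance
  have hh : g.toImage ≫ g.imageι = g := g.toImage_imageι
  haveI : IsOpenImmersion g.toImage :=
    MorphismProperty.of_postcomp (W := @IsOpenImmersion)
      (W' := MorphismProperty.monomorphisms Scheme) g.toImage g.imageι
      (MorphismProperty.monomorphisms.infer_property _) (by rw [hh]; infer_instance)
  have hdense : Dense (Set.range g.toImage) := g.toImage.denseRange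
  have hopen : IsOpen (Set.range g.toImage) := g.toImage.isOpenEmbedding.isOpen_range
  have hinj1 : Function.Injective (g.imageι ≫ m) := (g.imageι ≫ m).injective
  have hinjK : Function.Injective mK := mK.injective
  have hinjj : Function.Injective j := j.injective
  have hsf : ∀ {Y W : Scheme.{u}} (i : W ⟶ Y) (y : Y),
      Cyc.subschemeFun (fun _ => (0 : ℤ)) 0 i y = ∑ᶠ z ∈ {z : W | i z = y},
        ((Module.length (W.presheaf.stalk z) (W.presheaf.stalk z)).toNat : ℤ) := by
    intro Y W i y
    unfold Cyc.subschemeFun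
    rw [if_pos rfl]
  simp only [hsf]
  by_cases hex : ∃ z' : ↥(pullback (ι ≫ p) (a ≫ x)), (g ≫ m) z' = t
  · obtain ⟨z', hz'⟩ := hex
    have hA : {z : ↥g.image | (g.imageι ≫ m) z = t} = {g.toImage z'} := by
      ext z
      simp only [Set.mem_setOf_eq, Set.mem_singleton_iff]
      constructor
      · intro hz
        apply hinj1
        rw [hz, ← Scheme.Hom.comp_apply, ← Category.assoc, hh]
        exact hz'.symm
      · rintro rfl
        rw [← Scheme.Hom.comp_apply, ← Category.assoc, hh]
        exact hz'
    have hB : {t' : ↥(pullback p (a ≫ x)) | j t' = t} = {mK z'} := by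
      ext t'
      simp only [Set.mem_setOf_eq, Set.mem_singleton_iff]
      constructor
      · intro ht'
        apply hinjj
        rw [ht', ← Scheme.Hom.comp_apply, ← hcomm]
        exact hz'.symm
      · rintro rfl
        rw [← Scheme.Hom.comp_apply, ← hcomm]
        exact hz'
    have hC : {z'' : ↥(pullback (ι ≫ p) (a ≫ x)) | mK z'' = mK z'} = {z'} := by
      ext z''
      simp only [Set.mem_setOf_eq, Set.mem_singleton_iff]
      exact hinjK.eq_iff
    rw [hA, finsum_mem_singleton, hB, finsum_mem_singleton, hC, finsum_mem_singleton]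
    have e := Groth.Agent.Lib.Helper63.TensorLen.length_self_eq_of_ringEquiv
      (asIso (g.toImage.stalkMap z')).commRingCatIsoToRingEquiv
    rw [e]
  · simp only [not_exists] at hex
    have hR : ∀ t' ∈ {t' : ↥(pullback p (a ≫ x)) | j t' = t},
        (∑ᶠ z'' ∈ {z'' : ↥(pullback (ι ≫ p) (a ≫ x)) | mK z'' = t'},
          ((Module.length ((pullback (ι ≫ p) (a ≫ x)).presheaf.stalk z'')
            ((pullback (ι ≫ p) (a ≫ x)).presheaf.stalk z'')).toNat : ℤ)) = 0 := by
      intro t' ht'
      have hempty : {z'' : ↥(pullback (ι ≫ p) (a ≫ x)) | mK z'' = t'} = ∅ := by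
        ext z''
        simp only [Set.mem_setOf_eq, Set.mem_empty_iff_false, iff_false]
        intro h
        apply hex z''
        rw [hcomm, Scheme.Hom.comp_apply, h]
        exact ht'
      rw [hempty, finsum_mem_empty]
    rw [finsum_mem_congr rfl hR, finsum_mem_zero]
    apply finsum_mem_eq_zero_of_forall_eq_zero
    intro z hz
    have hzr : z ∉ Set.range g.toImage := by
      rintro ⟨z', rfl⟩
      apply hex z'
      rw [← hh, Category.assoc]
      exact hz
    have hco : Order.coheight z ≠ 0 := fun h0 =>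
      hzr (mem_of_dense_open_of_coheight_zero _ hopen hdense z h0)
    have hdim : ¬ ringKrullDim (g.image.presheaf.stalk z) ≤ 0 := by
      rw [ringKrullDim_stalk_eq_coheight]
      intro hle
      apply hco
      have : Order.coheight z ≤ 0 := by exact_mod_cast hle
      exact le_antisymm this bot_le
    rw [length_eq_top_of_dim_pos _ hdim]
    simp

end PRE

open CategoryTheory CategoryTheory.Limits AlgebraicGeometry in
/-- Let S be a separated Noetherian scheme, p : X → S separated of finite type, ι : Z → X a closed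
immersion with Z integral, R a discrete valuation ring with fraction field K and x : Spec R → S. Let
φ be the scheme-theoretic image in Z ×_S Spec R of Z ×_S Spec K (the flat closure of the generic
fibre), regarded as a closed subscheme of X ×_S Spec R. Then the cycle of φ (coefficient at t =
length of the local ring of φ above t, an infinite length read as 0) equals the cycle of Z ×_S Spec
K pushed forward along the inclusion X ×_S Spec K → X ×_S Spec R. -/
theorem result {X S Z : Scheme.{u}} [IsNoetherian S] [S.IsSeparated] [X.IsSeparated] (p : X ⟶ S) [LocallyOfFiniteType p] [QuasiCompact p] (ι : Z ⟶ X) [IsClosedImmersion ι] [IsIntegral Z] (R : Type u) [CommRing R] [IsDomain R] [IsDiscreteValuationRing R] (x : Spec (CommRingCat.of R) ⟶ S) (t : ↥(pullback p x)) : Cyc.subschemeFun (fun _ => (0 : ℤ)) 0 ((pullback.map (ι ≫ p) (Spec.map (CommRingCat.ofHom (algebraMap R (FractionRing R))) ≫ x) (ι ≫ p) x (𝟙 Z) (Spec.map (CommRingCat.ofHom (algebraMap R (FractionRing R)))) (𝟙 S) ((Category.comp_id _).trans (Category.id_comp _).symm)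 (Category.comp_id _)).ker.subschemeι ≫ pullback.map (ι ≫ p) x p x ι (𝟙 _) (𝟙 S) (Category.comp_id _) ((Category.comp_id _).trans (Category.id_comp _).symm)) t = ∑ᶠ t' ∈ {t' : ↥(pullback p (Spec.map (CommRingCat.ofHom (algebraMap R (FractionRing R))) ≫ x)) | (pullback.map p (Spec.map (CommRingCat.ofHom (algebraMap R (FractionRing R))) ≫ x) p x (𝟙 X) (Spec.map (CommRingCat.ofHom (algebraMap R (FractionRing R)))) (𝟙 S) ((Category.comp_id _).trans (Category.id_comp _).symm) (Category.comp_id _)) t' = t}, Cyc.subschemeFun (fun _ => (0 : ℤ)) 0 (pullback.map (ι ≫ p) (Spec.map (CommRingCat.ofHom (algebraMap R (FractionRing R))) ≫ x) p (Spec.map (CommRingCat.ofHom (algebraMap R (FractionRing R))) ≫ x) ι (𝟙 _) (𝟙 S) (Category.comp_id _) ((Category.comp_id _).trans (Category.id_comp _).symm)) t' := by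
  exact main p ι R x t

end Groth.Agent.S13744
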