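import Groth.Statements.S13757
import Mathlib.Tactic
import Mathlib.Data.Finset.Max
import Mathlib.Algebra.Order.BigOperators.Group.Finset
-- import your own Groth.Agent.* helpers here

set_option autoImplicit false
universe u
open LabGraph

namespace Groth.Agent.S13757

/-- Let G be a finite connected multigraph (loops and multiple edges allowed) with vertex set V, edge
set E, endpoint map E → V × V and a labelling of the edges by positive integers l. A vertex
labelling φ : V → ℤ is Cartier when l(e) divides the difference of the values of φ at the two
endpoints of every edge e; its multidegree is the vertex labelling whose value at v is the sum, over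
the edge-ends at v, of (value of φ at the other endpoint − φ(v)) / l(e). Then the Cartier vertex
labellings of multidegree zero are exactly the constant ones: the kernel of the multidegree operator
on Cartier labellings is ℤ, embedded as the constants. -/
theorem result
    {V E : Type u} [Fintype V] [Fintype E] [DecidableEq V] [DecidableEq E]
    (ends : E → V × V) (l : E → ℕ) (hl : ∀ e, 0 < l e) (hconn : LabGraph.Connected ends)
    (φ : V → ℤ) (hφ : LabGraph.IsCartier ends l φ) :
    (∀ v : V, LabGraph.mdeg ends l φ v = 0) ↔ ∀ v w : V, φ v = φ w := by
  constructor
  · intro hm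
    obtain ⟨⟨v₁⟩, hc⟩ := hconn
    obtain ⟨v₀, -, hv₀⟩ := Finset.exists_max_image (Finset.univ : Finset V) φ ⟨v₁, Finset.mem_univ _⟩
    have hmax : ∀ v, φ v ≤ φ v₀ := fun v => hv₀ v (Finset.mem_univ v)
    -- the set of maximisers is closed under adjacency
    have hstep : ∀ v w : V, φ v = φ v₀ → LabGraph.Adj ends v w → φ w = φ v₀ := by
      intro v w hv hadj
      have hl' : ∀ e, (0 : ℤ) < (l e : ℤ) := fun e => by exact_mod_cast hl e
      have hT1 : ∀ e : E, (if (ends e).1 = v then (φ (ends e).2 - φ (ends e).1) / (l e : ℤ) else 0) ≤ 0 := by
        intro e
        split_ifs with h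
        · apply Int.ediv_nonpos_of_nonpos_of_neg _ (hl' e)
          rw [h, hv]; linarith [hmax (ends e).2]
        · exact le_rfl
      have hT2 : ∀ e : E, (if (ends e).2 = v then (φ (ends e).1 - φ (ends e).2) / (l e : ℤ) else 0) ≤ 0 := by
        intro e
        split_ifs with h
        · apply Int.ediv_nonpos_of_nonpos_of_neg _ (hl' e)
          rw [h, hv]; linarith [hmax (ends e).1]
        · exact le_rfl
      have hsum := hm v
      unfold LabGraph.mdeg at hsum
      have hzero := (Finset.sum_eq_zero_iff_of_nonpos (fun e _ => add_nonpos (hT1 e) (hT2 e))).1 hsum
      obtain ⟨e, he | he⟩ := hadj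
      · have h0 := hzero e (Finset.mem_univ e)
        have h1 := hT1 e
        have h2 := hT2 e
        have h3 : (if (ends e).1 = v then (φ (ends e).2 - φ (ends e).1) / (l e : ℤ) else 0) = 0 := by omega
        rw [he] at h3
        simp only [if_true] at h3
        have hd : (l e : ℤ) ∣ φ w - φ v := by
          have := hφ e
          rw [he] at this
          exact (dvd_sub_comm).1 this
        have := Int.eq_zero_of_ediv_eq_zero hd h3
        rw [← hv]; omega
      · have h0 := hzero e (Finset.mem_univ e)
        have h1 := hT1 e
        have h2 := hT2 e
        have h3 : (if (ends e).2 = v then (φ (ends e).1 - φ (ends e).2) / (l e : ℤ) else 0) = 0 := by omega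
        rw [he] at h3
        simp only [if_true] at h3
        have hd : (l e : ℤ) ∣ φ w - φ v := by
          have := hφ e
          rw [he] at this
          exact this
        have := Int.eq_zero_of_ediv_eq_zero hd h3
        rw [← hv]; omega
    have hall : ∀ v, φ v = φ v₀ := by
      intro v
      have := hc v₀ v
      induction this with
      | refl => rfl
      | tail _ hab ih => exact hstep _ _ ih hab
    intro v w
    rw [hall v, hall w]
  · intro hconst v
    unfold LabGraph.mdeg
    apply Finset.sum_eq_zero
    intro e _
    rw [hconst (ends e).2 (ends e).1]
    simp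

end Groth.Agent.S13757
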