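import Groth.Statements.S13759
-- import your own Groth.Agent.* helpers here
import Groth.Agent.Lib.Helper72.GraphCycC
open Groth.Agent.Lib.Helper72.GraphCyc

set_option autoImplicit false
universe u
open LabGraph

namespace Groth.Agent.S13759

/-- Let G be a finite connected multigraph with vertex set V, edge set E, endpoint map E → V × V and
positive integer edge labels l, and let G̃ be its total blow-up graph: every edge e is replaced by a
path of l(e) edges through l(e) − 1 new vertices, all new edges labelled 1 (so every vertex
labelling of G̃ is Cartier and its multidegree is the sum over edge-ends of the differences of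
values). Let H, resp. H̃, be the cokernel of the multidegree operator from Cartier vertex labellings
of G to ℤ^V, resp. of G̃ to ℤ^Ṽ, and ε : H → H̃ the map induced by extending vertex labellings of G
by zero on the new vertices. Then ε is injective: if a vertex labelling α of G, extended by zero, is
the multidegree of some vertex labelling of G̃, then α is the multidegree of some Cartier vertex
labelling of G. -/
theorem result
    {V E : Type u} [Fintype V] [Fintype E] [DecidableEq V] [DecidableEq E]
    (ends : E → V × V) (l : E → ℕ) (hl : ∀ e, 0 < l e) (hconn : LabGraph.Connected ends)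
    (α : V → ℤ) (ψ : LabGraph.BlVert V E l → ℤ)
    (hψ : ∀ w : LabGraph.BlVert V E l,
      LabGraph.mdeg (LabGraph.blEnds ends l) (fun _ => 1) ψ w = Sum.elim α (fun _ => (0 : ℤ)) w) :
    ∃ φ : V → ℤ, LabGraph.IsCartier ends l φ ∧ ∀ v : V, LabGraph.mdeg ends l φ v = α v := by
  classical
  -- the sequences along the paths
  have hd : ∀ (e : E) (j : ℕ), j < l e - 1 →
      d2 (fun k => ψ (pathVert ends l e k)) j = 0 := by
    intro e j hj
    have h1 := mdeg_bl_inr ends l ψ e ⟨j, hj⟩
    rw [hψ] at h1
    simp only [Sum.elim_inr] at h1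
    simp only [d2]
    linarith
  have htot : ∀ e : E, ψ (Sum.inl (ends e).2) - ψ (Sum.inl (ends e).1) =
      (l e : ℤ) * (ψ (pathVert ends l e 1) - ψ (Sum.inl (ends e).1)) := by
    intro e
    have hle := hl e
    have h1 := seq_total (fun k => ψ (pathVert ends l e k)) (l e - 1)
    have h2 : l e - 1 + 1 = l e := by omega
    simp only [h2] at h1
    rw [pathVert_last ends l e (l e) (by omega) (lt_irrefl _), pathVert_zero] at h1
    rw [Finset.sum_eq_zero (fun j hj => by
      rw [hd e j (Finset.mem_range.1 hj), mul_zero])] at h1
    have h3 : ((l e - 1 : ℕ) : ℤ) + 1 = (l e : ℤ) := by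
      have : ((l e - 1 + 1 : ℕ) : ℤ) = (l e : ℤ) := by rw [h2]
      push_cast at this; linarith
    rw [h3] at h1
    linarith
  have hlast : ∀ e : E, ψ (pathVert ends l e (l e - 1)) - ψ (Sum.inl (ends e).2) =
      - (ψ (pathVert ends l e 1) - ψ (Sum.inl (ends e).1)) := by
    intro e
    have hle := hl e
    have h1 := seq_diff (fun k => ψ (pathVert ends l e k)) (l e - 1)
    have h2 : l e - 1 + 1 = l e := by omega
    simp only [h2] at h1
    rw [pathVert_last ends l e (l e) (by omega) (lt_irrefl _), pathVert_zero] at h1
    rw [Finset.sum_eq_zero (fun j hj => hd e j (Finset.mem_range.1 hj))] at h1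
    linarith
  refine ⟨fun v => ψ (Sum.inl v), ?_, ?_⟩
  · intro e
    refine ⟨-(ψ (pathVert ends l e 1) - ψ (Sum.inl (ends e).1)), ?_⟩
    have := htot e
    simp only at this ⊢
    linarith
  · intro v
    have h1 := mdeg_bl_inl ends l hl ψ v
    rw [hψ] at h1
    simp only [Sum.elim_inl] at h1
    rw [h1]
    simp only [mdeg]
    refine Finset.sum_congr rfl fun e _ => ?_
    have hle : (l e : ℤ) ≠ 0 := by exact_mod_cast (hl e).ne'
    have e1 : (ψ (Sum.inl (ends e).2) - ψ (Sum.inl (ends e).1)) / (l e : ℤ) =
        ψ (pathVert ends l e 1) - ψ (Sum.inl (ends e).1) := by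
      rw [htot e, Int.mul_ediv_cancel_left _ hle]
    have e2 : (ψ (Sum.inl (ends e).1) - ψ (Sum.inl (ends e).2)) / (l e : ℤ) =
        -(ψ (pathVert ends l e 1) - ψ (Sum.inl (ends e).1)) := by
      have : ψ (Sum.inl (ends e).1) - ψ (Sum.inl (ends e).2) =
          (l e : ℤ) * -(ψ (pathVert ends l e 1) - ψ (Sum.inl (ends e).1)) := by
        have := htot e; linarith
      rw [this, Int.mul_ediv_cancel_left _ hle]
    rw [e1, e2, hlast e]

end Groth.Agent.S13759
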