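import Groth.Statements.S13760
-- import your own Groth.Agent.* helpers here
import Groth.Agent.Lib.Helper72.GraphCycC
open Groth.Agent.Lib.Helper72.GraphCyc

set_option autoImplicit false
universe u
open LabGraph

namespace Groth.Agent.S13760

/-- Let G be a finite connected multigraph with vertex set V, edge set E, endpoint map E → V × V and
positive integer edge labels l, let G̃ be its total blow-up graph (every edge e replaced by a path
of l(e) edges through l(e) − 1 new vertices, all labelled 1), and let ε : H → H̃ be the map from the
cokernel of the multidegree operator on Cartier vertex labellings of G to the cokernel of the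
multidegree operator on vertex labellings of G̃ induced by extension by zero. Then ε is surjective —
every vertex labelling β of G̃ can be corrected by the multidegree of a vertex labelling of G̃ so as
to vanish at all new vertices — if and only if G is circuit-coprime (the labels along every circuit
have greatest common divisor 1). (The published statement is 'ε is an isomorphism if and only if the
labelled graph is circuit-coprime'; injectivity of ε holds for every labelled graph, so the content
is the equivalence for surjectivity, stated here with the cokernels unpacked.) -/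
theorem result
    {V E : Type u} [Fintype V] [Fintype E] [DecidableEq V] [DecidableEq E]
    (ends : E → V × V) (l : E → ℕ) (hl : ∀ e, 0 < l e) (hconn : LabGraph.Connected ends) :
    (∀ β : LabGraph.BlVert V E l → ℤ, ∃ (ψ : LabGraph.BlVert V E l → ℤ) (α : V → ℤ),
        ∀ w : LabGraph.BlVert V E l,
          LabGraph.mdeg (LabGraph.blEnds ends l) (fun _ => 1) ψ w + β w = Sum.elim α (fun _ => (0 : ℤ)) w) ↔
      LabGraph.IsCircuitCoprime ends l := by
  classical
  constructor
  · -- surjectivity of ε implies circuit-coprime
    intro h
    refine circuitCoprime_of_potential_mod ends l hl fun x => ?_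
    obtain ⟨ψ, α, hψ⟩ := h (Sum.elim (fun _ => 0)
      (fun p => if p.2.val + 2 = l p.1 then - x p.1 else 0))
    refine ⟨fun v => ψ (Sum.inl v), fun e => ?_⟩
    have hle := hl e
    have hd : ∀ j : ℕ, j < l e - 1 →
        d2 (fun k => ψ (pathVert ends l e k)) j = if j + 2 = l e then x e else 0 := by
      intro j hj
      have h1 := mdeg_bl_inr ends l ψ e ⟨j, hj⟩
      have h2 := hψ (Sum.inr ⟨e, ⟨j, hj⟩⟩)
      simp only [Sum.elim_inr] at h2
      simp only [d2]
      simp only at h1
      split_ifs at h2 ⊢ <;> linarith
    have h1 := seq_total (fun k => ψ (pathVert ends l e k)) (l e - 1)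
    have h2 : l e - 1 + 1 = l e := by omega
    simp only [h2] at h1
    rw [pathVert_last ends l e (l e) (by omega) (lt_irrefl _), pathVert_zero] at h1
    have h3 : ((l e - 1 : ℕ) : ℤ) + 1 = (l e : ℤ) := by
      have : ((l e - 1 + 1 : ℕ) : ℤ) = (l e : ℤ) := by rw [h2]
      push_cast at this; linarith
    rw [h3] at h1
    have hsum : ∑ j ∈ Finset.range (l e - 1), (((l e - 1 : ℕ) : ℤ) - j) *
        d2 (fun k => ψ (pathVert ends l e k)) j = if 2 ≤ l e then x e else 0 := by
      by_cases h2l : 2 ≤ l e
      · rw [if_pos h2l, Finset.sum_eq_single_of_mem (l e - 2) (Finset.mem_range.2 (by omega))]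
        · have hd' := hd (l e - 2) (by omega)
          rw [if_pos (by omega : l e - 2 + 2 = l e)] at hd'
          rw [hd']
          have : ((l e - 1 : ℕ) : ℤ) - ((l e - 2 : ℕ) : ℤ) = 1 := by
            have : l e - 1 = l e - 2 + 1 := by omega
            rw [this]; push_cast; ring
          rw [this, one_mul]
        · intro j hj hne
          have hj' := Finset.mem_range.1 hj
          rw [hd j hj', if_neg (by omega), mul_zero]
      · rw [if_neg h2l]
        have : l e - 1 = 0 := by omega
        rw [this]; simp
    rw [hsum] at h1
    simp only [cob]
    by_cases h2l : 2 ≤ l e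
    · rw [if_pos h2l] at h1
      refine ⟨-(ψ (pathVert ends l e 1) - ψ (Sum.inl (ends e).1)), ?_⟩
      linarith
    · have : l e = 1 := by omega
      rw [this]; simp
  · -- circuit-coprime implies surjectivity of ε
    intro hc β
    -- the prescribed second differences
    let d : E → ℕ → ℤ := fun e j => if h : j < l e - 1 then - β (Sum.inr ⟨e, ⟨j, h⟩⟩) else 0
    obtain ⟨f, hf⟩ := exists_potential_mod ends l hl hc (fun e => dsum (d e) (l e))
    let s : E → ℤ := fun e => (cob ends f e - dsum (d e) (l e)) / (l e : ℤ)
    have hs : ∀ e, (l e : ℤ) * s e = cob ends f e - dsum (d e) (l e) := by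
      intro e
      have h1 : (l e : ℤ) ∣ cob ends f e - dsum (d e) (l e) := by
        have := hf e
        rw [← dvd_neg] at this
        simpa using this
      exact Int.mul_ediv_cancel' h1
    let u : E → ℕ → ℤ := fun e k => f (ends e).1 + (k : ℤ) * s e + dsum (d e) k
    let ψ : BlVert V E l → ℤ := Sum.elim f (fun p => u p.1 (p.2.val + 1))
    have hu : ∀ (e : E) (k : ℕ), k ≤ l e → ψ (pathVert ends l e k) = u e k := by
      intro e k hk
      have hle := hl e
      by_cases h0 : k = 0
      · subst h0
        rw [pathVert_zero]
        simp [ψ, u, dsum_zero]
      · by_cases hk' : k < l e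
        · rw [pathVert_mid ends l e k h0 hk']
          simp only [ψ, Sum.elim_inr]
          have : k - 1 + 1 = k := by omega
          rw [this]
        · have hkl : k = l e := by omega
          rw [pathVert_last ends l e k h0 hk']
          simp only [ψ, Sum.elim_inl, u]
          rw [hkl]
          have := hs e
          simp only [cob] at this
          linarith
    have hd2 : ∀ (e : E) (j : ℕ), d2 (u e) j = d e j := by
      intro e j
      simp only [d2, u]
      have := dsum_d2 (d e) j
      push_cast
      linarith
    refine ⟨ψ, fun v => mdeg (blEnds ends l) (fun _ => 1) ψ (Sum.inl v) + β (Sum.inl v), ?_⟩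
    intro w
    cases w with
    | inl v => simp
    | inr p =>
      obtain ⟨e, j⟩ := p
      have hj := j.2
      rw [mdeg_bl_inr, hu e j (by omega), hu e (j + 2) (by omega), hu e (j + 1) (by omega)]
      have := hd2 e j
      simp only [d2] at this
      rw [this]
      simp only [d, dif_pos hj, Sum.elim_inr, Fin.eta]
      ring

end Groth.Agent.S13760
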