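import Groth.Statements.S1377
import Mathlib.AlgebraicGeometry.Normalization
import Mathlib.AlgebraicGeometry.IdealSheaf.Functorial
import Mathlib.AlgebraicGeometry.Morphisms.Integral

set_option autoImplicit false
universe u
open FlatMor

namespace Groth.Agent.S1377

open AlgebraicGeometry CategoryTheory Limits in
/-- Let S be a scheme, U ⊆ S an open subscheme whose inclusion U → S is quasi-compact (U retrocompact in
S), and V → U a surjective integral morphism. Then there are a scheme V' and a surjective integral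
morphism V' → S whose base change to U is V → U. (The published statement puts no condition on U,
and in that generality it is false: e.g. S = Spec ∏_i ℤ/4^i with U = D(2) ∪ ⋃_i D(e_i), e_i the
idempotents, and V equal to U except that over D(2) it is cut out by x = (2^i)_i. Stated here with U
→ S quasi-compact, under which hypothesis the published argument applies.) -/
theorem result {S V : Scheme.{u}} (U : S.Opens) [QuasiCompact U.ι]
    (v : V ⟶ (U : Scheme.{u})) [IsIntegralHom v] [Surjective v] :
    ∃ (V' : Scheme.{u}) (π : V' ⟶ S) (i : V ⟶ V'), Surjective π ∧ IsIntegralHom π ∧ IsPullback i v π U.ι := by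
  classical
  haveI : QuasiCompact (v ≫ U.ι) := inferInstance
  haveI : QuasiSeparated (v ≫ U.ι) := inferInstance
  have htπ : (v ≫ U.ι).toNormalization ≫ (v ≫ U.ι).fromNormalization = v ≫ U.ι :=
    (v ≫ U.ι).toNormalization_fromNormalization
  -- Step 1: the normalization restricts to `V` over `U`
  have hpb : IsPullback (v ≫ U.ι).toNormalization v (v ≫ U.ι).fromNormalization U.ι := by
    have hfst_iso : IsIso (pullback.fst (v ≫ U.ι) U.ι) := by
      refine ⟨pullback.lift (𝟙 V) v (by rw [Category.id_comp]), ?_, pullback.lift_fst _ _ _⟩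
      apply pullback.hom_ext
      · rw [Category.assoc, pullback.lift_fst, Category.comp_id, Category.id_comp]
      · rw [Category.assoc, pullback.lift_snd, Category.id_comp, ← cancel_mono U.ι, Category.assoc,
          pullback.condition]
    have hsnd : pullback.snd (v ≫ U.ι) U.ι = pullback.fst (v ≫ U.ι) U.ι ≫ v := by
      rw [← cancel_mono U.ι, Category.assoc, ← pullback.condition]
    haveI : IsIntegralHom (pullback.snd (v ≫ U.ι) U.ι) := by rw [hsnd]; infer_instance
    have hθ1 : ((pullback.snd (v ≫ U.ι) U.ι).toNormalization ≫ (v ≫ U.ι).normalizationPullback U.ι) ≫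
        pullback.fst (v ≫ U.ι).fromNormalization U.ι =
        pullback.fst (v ≫ U.ι) U.ι ≫ (v ≫ U.ι).toNormalization := by
      rw [Category.assoc]
      exact Scheme.Hom.toNormalization_normalizationPullback_fst (v ≫ U.ι) U.ι
    have hθ2 : ((pullback.snd (v ≫ U.ι) U.ι).toNormalization ≫ (v ≫ U.ι).normalizationPullback U.ι) ≫
        pullback.snd (v ≫ U.ι).fromNormalization U.ι = pullback.snd (v ≫ U.ι) U.ι := by
      rw [Category.assoc, Scheme.Hom.normalizationPullback_snd,
        Scheme.Hom.toNormalization_fromNormalization]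
    have h1 : IsPullback (pullback.fst (v ≫ U.ι) U.ι ≫ (v ≫ U.ι).toNormalization)
        (pullback.snd (v ≫ U.ι) U.ι) (v ≫ U.ι).fromNormalization U.ι :=
      IsPullback.of_iso_pullback ⟨by rw [Category.assoc, htπ, pullback.condition]⟩
        (asIso ((pullback.snd (v ≫ U.ι) U.ι).toNormalization ≫
          (v ≫ U.ι).normalizationPullback U.ι)) hθ1 hθ2
    exact IsPullback.of_iso h1 (asIso (pullback.fst (v ≫ U.ι) U.ι)) (Iso.refl _) (Iso.refl _)
      (Iso.refl _) (by simp) (by simp [hsnd]) (by simp) (by simp)
  haveI htopen : IsOpenImmersion (v ≫ U.ι).toNormalization :=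
    MorphismProperty.of_isPullback (P := @IsOpenImmersion) hpb.flip inferInstance
  -- Step 2: the closed complement
  let C : TopologicalSpace.Closeds S := ⟨(U : Set S)ᶜ, U.isOpen.isClosed_compl⟩
  let I := Scheme.IdealSheafData.vanishingIdeal C
  have hz : Set.range I.subschemeι = (U : Set S)ᶜ := by
    rw [Scheme.IdealSheafData.range_subschemeι, Scheme.IdealSheafData.coe_support_vanishingIdeal]
    rfl
  -- Step 3: the disjoint union
  let π : (v ≫ U.ι).normalization ⨿ I.subscheme ⟶ S :=
    coprod.desc (v ≫ U.ι).fromNormalization I.subschemeι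
  let i : V ⟶ (v ≫ U.ι).normalization ⨿ I.subscheme := (v ≫ U.ι).toNormalization ≫ coprod.inl
  have hiπ : i ≫ π = v ≫ U.ι := by
    show ((v ≫ U.ι).toNormalization ≫ coprod.inl) ≫ coprod.desc _ _ = _
    rw [Category.assoc, coprod.inl_desc, htπ]
  have hinl : ∀ n, π ((coprod.inl : (v ≫ U.ι).normalization ⟶ _ ⨿ I.subscheme) n) =
      (v ≫ U.ι).fromNormalization n := by
    intro n
    exact congr($(coprod.inl_desc (v ≫ U.ι).fromNormalization I.subschemeι) n)
  have hinr : ∀ y, π ((coprod.inr : I.subscheme ⟶ (v ≫ U.ι).normalization ⨿ _) y) =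
      I.subschemeι y := by
    intro y
    exact congr($(coprod.inr_desc (v ≫ U.ι).fromNormalization I.subschemeι) y)
  refine ⟨_, π, i, ⟨fun s => ?_⟩, inferInstance, ?_⟩
  · by_cases hs : s ∈ U
    · obtain ⟨x, hx⟩ := v.surjective ⟨s, hs⟩
      refine ⟨i x, ?_⟩
      rw [← Scheme.Hom.comp_apply, hiπ, Scheme.Hom.comp_apply, hx]
      rfl
    · have : s ∈ Set.range I.subschemeι := by rw [hz]; exact hs
      obtain ⟨y, rfl⟩ := this
      exact ⟨(coprod.inr : I.subscheme ⟶ (v ≫ U.ι).normalization ⨿ I.subscheme) y, hinr y⟩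
  · refine (IsOpenImmersion.isPullback v i U.ι π hiπ ?_).flip
    rw [Scheme.Opens.opensRange_ι]
    ext s'
    constructor
    · intro hs'
      have hs'U : π s' ∈ U := hs'
      have hcover := (isCompl_range_inl_inr (v ≫ U.ι).normalization I.subscheme).sup_eq_top
      have hmem : s' ∈ Set.range (coprod.inl : (v ≫ U.ι).normalization ⟶ _ ⨿ I.subscheme) ∪
          Set.range (coprod.inr : I.subscheme ⟶ (v ≫ U.ι).normalization ⨿ _) := by
        have : s' ∈ (⊤ : Set ↥((v ≫ U.ι).normalization ⨿ I.subscheme)) := trivial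
        rw [← hcover] at this
        exact this
      rcases hmem with ⟨n, rfl⟩ | ⟨y, rfl⟩
      · rw [hinl] at hs'U
        obtain ⟨x, hx1, -⟩ := Scheme.exists_preimage_of_isPullback hpb n ⟨_, hs'U⟩ rfl
        exact ⟨x, by rw [← hx1]; rfl⟩
      · rw [hinr] at hs'U
        have : I.subschemeι y ∈ (U : Set S)ᶜ := by rw [← hz]; exact ⟨y, rfl⟩
        exact absurd hs'U this
    · rintro ⟨x, rfl⟩
      show π (i x) ∈ U
      rw [← Scheme.Hom.comp_apply, hiπ, Scheme.Hom.comp_apply]
      exact (v x).2

end Groth.Agent.S1377
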