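import Groth.Statements.S13771
-- import your own Groth.Agent.* helpers here

set_option autoImplicit false
universe u v w
open PLie

namespace Groth.Agent.S13771

section Helpers

variable {R : Type u} [CommRing R] {p : ℕ} [CharP R p]
variable {L : Type v} [LieRing L] [LieAlgebra R L] {L' : Type w} [LieRing L'] [LieAlgebra R L']

theorem PMap_ext {ψ ψ' : PLie.PMap R p L} (h : ∀ x, ψ x = ψ' x) : ψ = ψ' := by
  cases ψ; cases ψ'; congr; funext x; exact h x

theorem map_bracketWord (h : L →ₗ⁅R⁆ L') {ι : Type} (x : ι → L) (x₁ : L) (w : List ι) :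
    h (PLie.bracketWord x x₁ w) = PLie.bracketWord (fun i => h (x i)) (h x₁) w := by
  induction w with
  | nil => rfl
  | cons i w ih => rw [PLie.bracketWord_cons, PLie.bracketWord_cons, LieHom.map_lie, ih]

theorem bracketWord_zero {ι : Type} (x : ι → L) (w : List ι) (hw : w ≠ []) :
    PLie.bracketWord x (0 : L) w = 0 := by
  induction w with
  | nil => exact absurd rfl hw
  | cons i w ih =>
    rw [PLie.bracketWord_cons]
    by_cases h : w = []
    · subst h; simp
    · rw [ih h, lie_zero]

theorem bracketWord_zero' {ι : Type} (x : ι → L) (w : List ι) :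
    PLie.bracketWord x (0 : L) w = 0 := by
  induction w with
  | nil => rfl
  | cons i w ih => rw [PLie.bracketWord_cons, ih, lie_zero]

theorem map_pair (h : L →ₗ⁅R⁆ L') (x₀ x₁ : L) :
    (fun b => h (PLie.pair x₀ x₁ b)) = PLie.pair (h x₀) (h x₁) := by
  funext b
  cases b <;> rfl

theorem map_jacobson (h : L →ₗ⁅R⁆ L') (x₀ x₁ : L) :
    h (PLie.jacobson R p x₀ x₁) = PLie.jacobson R p (h x₀) (h x₁) := by
  unfold PLie.jacobson
  rw [map_sum]
  refine Finset.sum_congr rfl (fun t _ => ?_)
  rw [map_smul, map_bracketWord, map_pair]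

theorem jacobson_zero (x₀ : L) : PLie.jacobson R p x₀ (0 : L) = 0 := by
  unfold PLie.jacobson
  refine Finset.sum_eq_zero (fun t _ => ?_)
  rw [bracketWord_zero', smul_zero]

theorem ad_pow_map (h : L →ₗ⁅R⁆ L') (x : L) :
    ∀ (n : ℕ) (z : L), (LieAlgebra.ad R L' (h x) ^ n) (h z) = h ((LieAlgebra.ad R L x ^ n) z) := by
  intro n
  induction n with
  | zero => intro z; simp
  | succ n ih =>
    intro z
    rw [pow_succ, pow_succ, Module.End.mul_apply, Module.End.mul_apply, LieAlgebra.ad_apply,
      LieAlgebra.ad_apply, ← LieHom.map_lie, ih]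

end Helpers

/-- Let R be a commutative ring of prime characteristic p, L₁ and L₂ Lie algebras over R, φ a p-mapping
on L₁ and f : L₁ → L₂ a morphism of Lie algebras whose kernel is stable under φ (a p-ideal). Then
the image f(L₁), a Lie subalgebra of L₂, carries exactly one p-mapping ψ for which the corestriction
of f to its image is a morphism of p-Lie algebras, i.e. ψ (f x) = f (φ x) for all x. -/
theorem result (R : Type u) [CommRing R] (p : ℕ) [Fact p.Prime] [CharP R p]
    (L₁ : Type v) [LieRing L₁] [LieAlgebra R L₁] (L₂ : Type w) [LieRing L₂] [LieAlgebra R L₂]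
    (φ : PLie.PMap R p L₁) (f : L₁ →ₗ⁅R⁆ L₂) (hker : ∀ x : L₁, f x = 0 → f (φ x) = 0) :
    ∃! ψ : PLie.PMap R p f.range, PLie.IsPHom φ ψ f.rangeRestrict := by
  -- well-definedness
  have hwd : ∀ x x' : L₁, f x = f x' → f (φ x) = f (φ x') := by
    intro x x' hxx'
    have hk : f (x' - x) = 0 := by rw [map_sub, hxx', sub_self]
    have h1 := φ.map_add x (x' - x)
    change φ (x + (x' - x)) = φ x + φ (x' - x) - _ at h1
    rw [add_sub_cancel] at h1
    rw [h1, map_sub, map_add, hker _ hk, map_jacobson, hk, jacobson_zero, add_zero, sub_zero]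
  have hsurj : ∀ y : f.range, ∃ x : L₁, f.rangeRestrict x = y := by
    rintro ⟨y, hy⟩
    obtain ⟨x, rfl⟩ := (LieHom.mem_range f y).1 hy
    exact ⟨x, rfl⟩
  have hrr : ∀ x x' : L₁, f.rangeRestrict x = f.rangeRestrict x' →
      f.rangeRestrict (φ x) = f.rangeRestrict (φ x') := by
    intro x x' h
    apply Subtype.ext
    exact hwd x x' (congrArg Subtype.val h)
  let ψf : f.range → f.range := fun y => f.rangeRestrict (φ (Classical.choose (hsurj y)))
  have hψf : ∀ x : L₁, ψf (f.rangeRestrict x) = f.rangeRestrict (φ x) := by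
    intro x
    exact hrr _ _ (Classical.choose_spec (hsurj (f.rangeRestrict x)))
  let ψ : PLie.PMap R p f.range :=
    { toFun := ψf
      map_smul := by
        intro c y
        obtain ⟨x, rfl⟩ := hsurj y
        rw [← map_smul, hψf, hψf]
        have := φ.map_smul c x
        change φ (c • x) = _ at this
        rw [this, map_smul]
      ad_map := by
        intro y
        obtain ⟨x, rfl⟩ := hsurj y
        ext z
        obtain ⟨x'', rfl⟩ := hsurj z
        rw [hψf, ad_pow_map, LieAlgebra.ad_apply, ← LieHom.map_lie]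
        have := φ.ad_map x
        change LieAlgebra.ad R L₁ (φ x) = _ at this
        rw [← this, LieAlgebra.ad_apply]
      map_add := by
        intro y₀ y₁
        obtain ⟨x₀, rfl⟩ := hsurj y₀
        obtain ⟨x₁, rfl⟩ := hsurj y₁
        rw [← map_add, hψf, hψf, hψf, ← map_jacobson, ← map_add, ← map_sub]
        have := φ.map_add x₀ x₁
        change φ (x₀ + x₁) = _ at this
        rw [this] }
  refine ⟨ψ, fun x => (hψf x).symm, fun ψ' hψ' => PMap_ext (fun y => ?_)⟩
  obtain ⟨x, rfl⟩ := hsurj y
  rw [← hψ' x]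
  exact (hψf x).symm

end Groth.Agent.S13771
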