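import Groth.Statements.S13772
-- import your own Groth.Agent.* helpers here

set_option autoImplicit false
universe u v
open PLie

namespace Groth.Agent.S13772

/-- Let R be a commutative ring of prime characteristic p and L a Lie algebra over R with a p-mapping γ.
For a map g : L → L, there is a p-mapping γ' on L with γ' x = γ x + g x for every x if and only if g
is additive, g (c • x) = c ^ p • g x for all scalars c, and every value g x lies in the centre of L.
(Both parts of the published statement at once: the difference of two p-mappings is a
Frobenius-semilinear map into the centre, and adding such a map to a p-mapping gives a p-mapping.) -/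
theorem result (R : Type u) [CommRing R] (p : ℕ) [Fact p.Prime] [CharP R p]
    (L : Type v) [LieRing L] [LieAlgebra R L] (γ : PLie.PMap R p L) (g : L → L) :
    (∃ γ' : PLie.PMap R p L, ∀ x : L, γ' x = γ x + g x) ↔
      ((∀ x y : L, g (x + y) = g x + g y) ∧ (∀ (c : R) (x : L), g (c • x) = c ^ p • g x) ∧
        ∀ x : L, g x ∈ LieAlgebra.center R L) := by
  constructor
  · rintro ⟨γ', h⟩
    have hg : ∀ x, g x = γ' x - γ x := fun x => by rw [h x]; abel
    refine ⟨fun x y => ?_, fun c x => ?_, fun x => ?_⟩
    · rw [hg, hg x, hg y]
      have h1 := γ'.map_add x y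
      have h2 := γ.map_add x y
      change γ' (x + y) = _ at h1
      change γ (x + y) = _ at h2
      rw [h1, h2]
      change γ' x + γ' y - _ - (γ x + γ y - _) = _
      abel
    · rw [hg, hg x]
      have h1 := γ'.map_smul c x
      have h2 := γ.map_smul c x
      change γ' (c • x) = _ at h1
      change γ (c • x) = _ at h2
      rw [h1, h2, smul_sub]
    · rw [LieAlgebra.center, LieModule.mem_maxTrivSubmodule]
      intro y
      have h1 : LieAlgebra.ad R L (g x) = 0 := by
        rw [hg, map_sub]
        have h2 := γ'.ad_map x
        have h3 := γ.ad_map x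
        change LieAlgebra.ad R L (γ' x) = _ at h2
        change LieAlgebra.ad R L (γ x) = _ at h3
        rw [h2, h3, sub_self]
      have h4 : ⁅g x, y⁆ = 0 := by
        have := congrArg (fun T => T y) h1
        simpa [LieAlgebra.ad_apply] using this
      rw [← lie_skew, h4, neg_zero]
  · rintro ⟨hadd, hsmul, hcen⟩
    have had : ∀ x, LieAlgebra.ad R L (g x) = 0 := by
      intro x
      ext y
      have := hcen x
      rw [LieAlgebra.center, LieModule.mem_maxTrivSubmodule] at this
      rw [LieAlgebra.ad_apply, ← lie_skew, this y, neg_zero]
      rfl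
    refine ⟨⟨fun x => γ x + g x, fun c x => ?_, fun x => ?_, fun x₀ x₁ => ?_⟩, fun x => rfl⟩
    · have h2 := γ.map_smul c x
      change γ (c • x) = _ at h2
      rw [h2, hsmul, smul_add]
    · have h3 := γ.ad_map x
      change LieAlgebra.ad R L (γ x) = _ at h3
      rw [map_add, had, add_zero, h3]
    · have h2 := γ.map_add x₀ x₁
      change γ (x₀ + x₁) = _ at h2
      rw [h2, hadd]
      change γ x₀ + γ x₁ - _ + (g x₀ + g x₁) = γ x₀ + g x₀ + (γ x₁ + g x₁) - _
      abel

end Groth.Agent.S13772
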