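import Groth.Statements.S13773
import Groth.Agent.Lib.Helper26.JacobsonThm

set_option autoImplicit false
universe u v w
open PLie

namespace Groth.Agent.S13773

/-- Let R be a commutative ring of prime characteristic p and L a Lie algebra over R, free as an
R-module with basis b indexed by ι, and let y : ι → L satisfy (ad (b i)) ^ p = ad (y i) in the
R-linear endomorphisms of L for every i. Then L carries exactly one p-mapping φ with φ (b i) = y i
for all i. -/
theorem result (R : Type u) [CommRing R] (p : ℕ) [Fact p.Prime] [CharP R p]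
    (L : Type v) [LieRing L] [LieAlgebra R L] {ι : Type w} (b : Module.Basis ι R L) (y : ι → L)
    (hy : ∀ i : ι, LieAlgebra.ad R L (b i) ^ p = LieAlgebra.ad R L (y i)) :
    ∃! φ : PLie.PMap R p L, ∀ i : ι, φ (b i) = y i := by
  obtain ⟨φ, hφ⟩ := Groth.Agent.Lib.Helper26.JacobsonThm.exists_pmap_of_basis p b y hy
  refine ⟨φ, hφ, ?_⟩
  intro ψ hψ
  apply Groth.Agent.Lib.Helper26.JacobsonThm.pmap_ext_of_basis p b
  intro i
  rw [hψ i, hφ i]

end Groth.Agent.S13773
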