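import Groth.Statements.S13776
import Groth.Agent.Lib.Helper26.PLieSemidirect

set_option autoImplicit false
universe u v
open PLie

namespace Groth.Agent.S13776

/-- Let R be a commutative ring of prime characteristic p, t ∈ R, and L a Lie algebra over R, free as a
module with basis x = bs 0, y = bs 1, z = bs 2 and brackets [x,y] = y, [x,z] = t • z, [y,z] = 0.
Then L carries a p-mapping if and only if t ^ p = t. (The published statement is the corresponding
entry of the classification table over an algebraically closed field of characteristic p, where the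
condition reads: t lies in the prime field; this row states it over every commutative ring of
characteristic p.) -/
theorem result (R : Type u) [CommRing R] (p : ℕ) [Fact p.Prime] [CharP R p] (t : R)
    (L : Type v) [LieRing L] [LieAlgebra R L] (bs : Module.Basis (Fin 3) R L)
    (hxy : ⁅bs 0, bs 1⁆ = bs 1) (hxz : ⁅bs 0, bs 2⁆ = t • bs 2) (hyz : ⁅bs 1, bs 2⁆ = 0) :
    Nonempty (PLie.PMap R p L) ↔ t ^ p = t := by
  have hpP : p.Prime := Fact.out
  constructor
  · rintro ⟨φ⟩
    set w := φ (bs 0) with hw
    set α := bs.repr w 0 with hα
    set β := bs.repr w 1 with hβ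
    set γ := bs.repr w 2 with hγ
    have hwsum : w = α • bs 0 + β • bs 1 + γ • bs 2 := by
      have := (bs.sum_repr w).symm
      rw [Fin.sum_univ_three] at this
      exact this
    have hzy : ⁅bs 2, bs 1⁆ = 0 := by rw [← lie_skew, hyz, neg_zero]
    have hpy : ∀ n : ℕ, ((LieAlgebra.ad R L (bs 0)) ^ n) (bs 1) = bs 1 := by
      intro n
      induction n with
      | zero => simp
      | succ n ih => rw [pow_succ', Module.End.mul_apply, ih, LieAlgebra.ad_apply, hxy]
    have hpz : ∀ n : ℕ, ((LieAlgebra.ad R L (bs 0)) ^ n) (bs 2) = t ^ n • bs 2 := by
      intro n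
      induction n with
      | zero => simp
      | succ n ih =>
        rw [pow_succ', Module.End.mul_apply, ih, LieAlgebra.ad_apply, lie_smul, hxz, smul_smul,
          pow_succ]
    have had := φ.ad_map (bs 0)
    have e1 : ⁅w, bs 1⁆ = bs 1 := by
      have := congrArg (fun f : Module.End R L => f (bs 1)) had
      simp only [LieAlgebra.ad_apply] at this
      rw [hpy] at this
      exact this
    have e2 : ⁅w, bs 2⁆ = t ^ p • bs 2 := by
      have := congrArg (fun f : Module.End R L => f (bs 2)) had
      simp only [LieAlgebra.ad_apply] at this
      rw [hpz] at this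
      exact this
    rw [hwsum] at e1 e2
    simp only [add_lie, smul_lie, hxy, hxz, hyz, hzy, lie_self, smul_zero, add_zero] at e1 e2
    have h1 : α = 1 := by
      have := congrArg (fun v => bs.repr v 1) e1
      simpa using this
    have h2 : α * t = t ^ p := by
      have := congrArg (fun v => bs.repr v 2) e2
      simpa [smul_smul] using this
    rw [h1, one_mul] at h2
    exact h2.symm
  · intro ht
    have hdiag : (!![1, 0; 0, t] : Matrix (Fin 2) (Fin 2) R) = Matrix.diagonal ![1, t] := by
      ext i j
      fin_cases i <;> fin_cases j <;> simp
    obtain ⟨φ, -⟩ := Groth.Agent.Lib.Helper26.PLieSemidirect.exists_pmap p bs 1 0 0 t 1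
      (by rw [hxy]; simp) (by rw [hxz]; simp) hyz
      (by
        rw [hdiag, Matrix.diagonal_pow, one_smul]
        congr 1
        ext i
        fin_cases i <;> simp [ht])
      (by
        intro a ha
        have := congrFun (congrFun ha 0) 0
        simpa using this)
    exact ⟨φ⟩

end Groth.Agent.S13776
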