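import Groth.Statements.S13778
import Groth.Agent.Lib.Helper26.JacobsonThm
import Groth.Agent.Lib.Helper26.Lie3

set_option autoImplicit false
universe u v
open PLie

namespace Groth.Agent.S13778

open Groth.Agent.Lib.Helper26

section helpers

variable {K : Type u} [Field K]

open DualNumber Finset

theorem pow_decomp {n : Type*} [Fintype n] [DecidableEq n]
    (N M : Matrix n n (DualNumber K)) (m : ℕ) :
    (N + (ε : DualNumber K) • M) ^ m
      = N ^ m + (ε : DualNumber K) • ∑ k ∈ range m, N ^ k * M * N ^ (m - 1 - k) := by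
  induction m with
  | zero => simp
  | succ m ih =>
    rw [pow_succ, ih, Finset.sum_range_succ]
    have h1 : ∀ k ∈ range m, N ^ k * M * N ^ (m + 1 - 1 - k) = N ^ k * M * N ^ (m - 1 - k) * N := by
      intro k hk
      rw [Finset.mem_range] at hk
      have : m + 1 - 1 - k = (m - 1 - k) + 1 := by omega
      rw [this, pow_succ, ← mul_assoc]
    rw [Finset.sum_congr rfl h1, ← Finset.sum_mul]
    have h2 : m + 1 - 1 - m = 0 := by omega
    rw [h2, pow_zero, mul_one, add_mul, mul_add, mul_add, smul_mul_assoc, smul_mul_assoc,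
      Matrix.mul_smul, Matrix.mul_smul, smul_smul, DualNumber.eps_mul_eps,
      zero_smul, add_zero, smul_add, pow_succ]
    abel

theorem four_pow_decomp {n : Type*} [Fintype n] [DecidableEq n]
    (N M : Matrix n n (DualNumber K)) (hN : N * N = 0) :
    (N + (ε : DualNumber K) • M) ^ 4 = 0 := by
  have h2 : (N + (ε : DualNumber K) • M) ^ 2 = (ε : DualNumber K) • (N * M + M * N) := by
    rw [pow_two, add_mul, mul_add, mul_add, hN, smul_mul_assoc, Matrix.mul_smul,
      Matrix.mul_smul, smul_mul_assoc, smul_smul, DualNumber.eps_mul_eps, zero_smul, smul_add]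
    abel
  have h4 : (4 : ℕ) = 2 * 2 := rfl
  rw [h4, pow_mul, h2, pow_two, smul_mul_assoc, Matrix.mul_smul, smul_smul,
    DualNumber.eps_mul_eps, zero_smul]

theorem diag_pow_entry {n : Type*} [Fintype n] [DecidableEq n] (ν : n → DualNumber K)
    (M : Matrix n n (DualNumber K)) (m : ℕ) (r s : n) :
    ((Matrix.diagonal ν + (ε : DualNumber K) • M) ^ m) r s
      = (if r = s then ν r ^ m else 0)
        + ε * (M r s * ∑ k ∈ range m, ν r ^ k * ν s ^ (m - 1 - k)) := by
  rw [pow_decomp, Matrix.add_apply, Matrix.diagonal_pow, Matrix.diagonal_apply, Matrix.smul_apply,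
    Matrix.sum_apply, smul_eq_mul]
  congr 2
  rw [Finset.mul_sum]
  apply Finset.sum_congr rfl
  intro k _
  rw [Matrix.diagonal_pow, Matrix.diagonal_pow, Matrix.mul_diagonal, Matrix.diagonal_mul]
  simp only [Pi.pow_apply]
  ring

/-- the geometric-type sums -/
def G (p : ℕ) (u v : K) : K := ∑ k ∈ range p, u ^ k * v ^ (p - 1 - k)

/-- entries of the power of `diag + ε • M` when everything comes from `K` -/
theorem diag_pow_entry' {n : Type*} [Fintype n] [DecidableEq n] (ν : n → K)
    (M : Matrix n n K) (m : ℕ) (r s : n) :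
    ((Matrix.diagonal (fun i => (TrivSqZeroExt.inl (ν i) : DualNumber K))
        + (ε : DualNumber K) • M.map (TrivSqZeroExt.inl : K → DualNumber K)) ^ m) r s
      = TrivSqZeroExt.inl (if r = s then ν r ^ m else 0)
        + (M r s * G m (ν r) (ν s)) • (ε : DualNumber K) := by
  unfold G
  rw [diag_pow_entry]
  apply TrivSqZeroExt.ext
  · by_cases h : r = s <;> simp [h, TrivSqZeroExt.fst_sum]
  · have key : ∑ x ∈ range m, ν r ^ (m - 1 - x) * ν s ^ x
        = ∑ i ∈ range m, ν r ^ i * ν s ^ (m - 1 - i) := by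
      rw [← Finset.sum_range_reflect]
      apply Finset.sum_congr rfl
      intro x hx
      rw [Finset.mem_range] at hx
      have : m - 1 - (m - 1 - x) = x := by omega
      rw [this]
    by_cases h : r = s <;> simp [h, TrivSqZeroExt.fst_sum, TrivSqZeroExt.snd_sum] <;> left
    · rw [h] at key
      exact key
    · exact key

theorem G_zero_left (p : ℕ) (hp : 0 < p) (v : K) : G p 0 v = v ^ (p - 1) := by
  unfold G
  rw [Finset.sum_eq_single 0]
  · simp
  · intro k _ hk
    rw [zero_pow hk, zero_mul]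
  · intro h
    exact absurd (Finset.mem_range.mpr hp) h

theorem G_zero_right (p : ℕ) (hp : 0 < p) (u : K) : G p u 0 = u ^ (p - 1) := by
  unfold G
  rw [Finset.sum_eq_single (p - 1)]
  · simp
  · intro k hk hk'
    rw [Finset.mem_range] at hk
    have : p - 1 - k ≠ 0 := by omega
    rw [zero_pow this, mul_zero]
  · intro h
    exact absurd (Finset.mem_range.mpr (by omega)) h

theorem G_same (p : ℕ) [CharP K p] (u : K) : G p u u = 0 := by
  unfold G
  have : ∀ k ∈ range p, u ^ k * u ^ (p - 1 - k) = u ^ (p - 1) := by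
    intro k hk
    rw [Finset.mem_range] at hk
    rw [← pow_add]
    congr 1
    omega
  rw [Finset.sum_congr rfl this, Finset.sum_const, Finset.card_range, nsmul_eq_mul,
    CharP.cast_eq_zero, zero_mul]

theorem G_one_left (p : ℕ) (v : K) : G p 1 v = ∑ k ∈ range p, v ^ k := by
  unfold G
  simp only [one_pow, one_mul]
  exact Finset.sum_range_reflect (fun k => v ^ k) p

theorem G_one_right (p : ℕ) (u : K) : G p u 1 = ∑ k ∈ range p, u ^ k := by
  unfold G
  simp only [one_pow, mul_one]

theorem geom_eq_one (p : ℕ) (t : K) (ht : t ^ p = t) (h1 : t ≠ 1) :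
    ∑ k ∈ range p, t ^ k = 1 := by
  have h := geom_sum_mul t p
  rw [ht] at h
  have h2 : t - 1 ≠ 0 := sub_ne_zero.mpr h1
  exact mul_right_cancel₀ h2 (by rw [h, one_mul])

theorem geom_eq_zero (p : ℕ) [CharP K p] : ∑ k ∈ range p, (1 : K) ^ k = 0 := by
  simp

/-- matrix of `ad x` -/
def N0 (a b c d e f t : K) : Matrix (Fin 3) (Fin 3) (DualNumber K) :=
  !![0, a • ε, d • ε; 0, 1 + b • ε, e • ε; 0, c • ε, TrivSqZeroExt.inl t + f • ε]

/-- matrix of `ad y` -/
def N1 (a b c g h i : K) : Matrix (Fin 3) (Fin 3) (DualNumber K) :=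
  !![-(a • ε), 0, g • ε; -(1 + b • ε), 0, h • ε; -(c • ε), 0, i • ε]

/-- matrix of `ad z` -/
def N2 (d e f g h i t : K) : Matrix (Fin 3) (Fin 3) (DualNumber K) :=
  !![-(d • ε), -(g • ε), 0; -(e • ε), -(h • ε), 0; -(TrivSqZeroExt.inl t + f • ε), -(i • ε), 0]

theorem N0_decomp (a b c d e f t : K) : N0 a b c d e f t =
    Matrix.diagonal (fun i => (TrivSqZeroExt.inl ((![0, 1, t] : Fin 3 → K) i) : DualNumber K))
      + (ε : DualNumber K) • (!![0, a, d; 0, b, e; 0, c, f] : Matrix (Fin 3) (Fin 3) K).map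
        (TrivSqZeroExt.inl : K → DualNumber K) := by
  apply Matrix.ext
  intro r s
  fin_cases r <;> fin_cases s <;>
    (apply TrivSqZeroExt.ext <;> simp [N0])

theorem N0_pow (p : ℕ) (hp : p.Prime) [CharP K p] (a b c d e f t : K) (ht : t ^ p = t) :
    N0 a b c d e f t ^ p =
      !![0, a • ε, (d * t ^ (p - 1)) • ε;
         0, 1, (e * ∑ k ∈ range p, t ^ k) • ε;
         0, (c * ∑ k ∈ range p, t ^ k) • ε, TrivSqZeroExt.inl t] := by
  have hp0 : 0 < p := hp.pos
  apply Matrix.ext
  intro r s
  rw [N0_decomp, diag_pow_entry']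
  fin_cases r <;> fin_cases s <;>
    simp [G_zero_left p hp0, G_zero_right p hp0, G_same, G_one_left, G_one_right, ht, hp.ne_zero]

theorem N0_pow_eq (p : ℕ) (hp : p.Prime) [CharP K p] (a b c e h t : K) (ht : t ^ p = t)
    (h1 : t = 1 → c = 0 ∧ e = 0) :
    N0 a b c (t * h) e (b * t) t ^ p
      = (1 + (-b) • ε : DualNumber K) • N0 a b c (t * h) e (b * t) t := by
  rw [N0_pow p hp _ _ _ _ _ _ _ ht]
  have hdt : t * h * t ^ (p - 1) = t * h := by
    have : t * t ^ (p - 1) = t := by
      rw [← pow_succ', Nat.sub_add_cancel hp.one_le, ht]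
    rw [mul_right_comm, this]
  have hs : ∀ x : K, (t = 1 → x = 0) → x * ∑ k ∈ range p, t ^ k = x := by
    intro x hx
    by_cases h1' : t = 1
    · rw [hx h1', zero_mul]
    · rw [geom_eq_one p t ht h1', mul_one]
  rw [hdt, hs e (fun h' => (h1 h').2), hs c (fun h' => (h1 h').1)]
  apply Matrix.ext
  intro r s
  fin_cases r <;> fin_cases s <;>
    (apply TrivSqZeroExt.ext <;> simp [N0] <;> ring)

theorem N1_sq (a b c h i : K) :
    N1 a b c 0 h i * N1 a b c 0 h i = ((-a) • ε : DualNumber K) • N1 a b c 0 h i := by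
  apply Matrix.ext
  intro r s
  fin_cases r <;> fin_cases s <;>
    (apply TrivSqZeroExt.ext <;> simp [N1, Matrix.mul_apply, Fin.sum_univ_three] <;> ring)

theorem N2_sq (d e f h i t : K) :
    N2 d e f 0 h i t * N2 d e f 0 h i t = ((-d) • ε : DualNumber K) • N2 d e f 0 h i t := by
  apply Matrix.ext
  intro r s
  fin_cases r <;> fin_cases s <;>
    (apply TrivSqZeroExt.ext <;> simp [N2, Matrix.mul_apply, Fin.sum_univ_three] <;> ring)

theorem N1_cube (a b c g h i : K) :
    N1 a b c g h i * N1 a b c g h i * N1 a b c g h i = 0 := by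
  apply Matrix.ext
  intro r s
  fin_cases r <;> fin_cases s <;>
    (apply TrivSqZeroExt.ext <;> simp [N1, Matrix.mul_apply, Fin.sum_univ_three] <;> ring)

theorem N2_cube (d e f g h i t : K) :
    N2 d e f g h i t * N2 d e f g h i t * N2 d e f g h i t = 0 := by
  apply Matrix.ext
  intro r s
  fin_cases r <;> fin_cases s <;>
    (apply TrivSqZeroExt.ext <;> simp [N2, Matrix.mul_apply, Fin.sum_univ_three] <;> ring)

theorem nec_x (p : ℕ) (hp : p.Prime) [CharP K p] (a b c d e f g h i t : K) (ht : t ^ p = t)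
    (α β γ : DualNumber K)
    (hh : N0 a b c d e f t ^ p
      = α • N0 a b c d e f t + β • N1 a b c g h i + γ • N2 d e f g h i t) :
    b * t = f ∧ (t = 1 → c = 0 ∧ e = 0) := by
  rw [N0_pow p hp _ _ _ _ _ _ _ ht] at hh
  have e10 := congrArg TrivSqZeroExt.fst (congrFun (congrFun hh 1) 0)
  have e20 := congrArg TrivSqZeroExt.fst (congrFun (congrFun hh 2) 0)
  have e11f := congrArg TrivSqZeroExt.fst (congrFun (congrFun hh 1) 1)
  have e11s := congrArg TrivSqZeroExt.snd (congrFun (congrFun hh 1) 1)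
  have e22s := congrArg TrivSqZeroExt.snd (congrFun (congrFun hh 2) 2)
  have e12s := congrArg TrivSqZeroExt.snd (congrFun (congrFun hh 1) 2)
  have e21s := congrArg TrivSqZeroExt.snd (congrFun (congrFun hh 2) 1)
  simp [N0, N1, N2] at e10 e20 e11f e11s e22s e12s e21s
  generalize TrivSqZeroExt.fst α = α0 at *
  generalize TrivSqZeroExt.fst β = β0 at *
  generalize TrivSqZeroExt.fst γ = γ0 at *
  generalize TrivSqZeroExt.snd α = α1 at *
  subst e11f e10
  have e20' : γ0 * t = 0 := by
    rcases e20 with h' | h' <;> simp [h']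
  constructor
  · linear_combination e22s - t * e11s + h * e20'
  · intro ht1
    subst ht1
    have hγ : γ0 = 0 := by simpa using e20'
    subst hγ
    have hsum : ∑ k ∈ range p, (1 : K) ^ k = 0 := geom_eq_zero p
    rw [hsum] at e12s e21s
    constructor
    · linear_combination -e21s
    · linear_combination -e12s

theorem nec_y (a b c d e f g h i t : K) (α β γ : DualNumber K)
    (hh : N1 a b c g h i * N1 a b c g h i
      = α • N0 a b c d e f t + β • N1 a b c g h i + γ • N2 d e f g h i t) : g = 0 := by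
  have e11f := congrArg TrivSqZeroExt.fst (congrFun (congrFun hh 1) 1)
  have e10f := congrArg TrivSqZeroExt.fst (congrFun (congrFun hh 1) 0)
  have e12s := congrArg TrivSqZeroExt.snd (congrFun (congrFun hh 1) 2)
  simp [N0, N1, N2, Matrix.mul_apply, Fin.sum_univ_three] at e11f e10f e12s
  generalize TrivSqZeroExt.fst α = α0 at *
  generalize TrivSqZeroExt.fst β = β0 at *
  subst e11f e10f
  linear_combination -e12s

end helpers

open DualNumber in
/-- Let K be a field of prime characteristic p, K[ε] the ring of dual numbers (taken with its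
characteristic-p structure), t ∈ K with t ^ p = t (an element of the prime field), and a, …, i ∈ K.
Let L be a Lie algebra over K[ε], free as a module with basis x = bs 0, y = bs 1, z = bs 2 and
brackets [x,y] = aε x + (1 + bε) y + cε z, [x,z] = dε x + eε y + (t + fε) z, [y,z] = gε x + hε y +
iε z. Then L carries a p-mapping over K[ε] if and only if b t = f, c = e = 0 when t = 1, and g = 0
when p = 2. (The published statement determines the singular locus of the restrictable locus in the
centreless stratum of the moduli scheme of based three-dimensional Lie algebras, for t non-zero, and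
the rank-one-centre stratum treats t = 0; this row states the restrictability criterion for the
first-order deformations of l_t that the proofs compute, over any field of characteristic p in place
of the prime field and for every t in the prime field.) -/
theorem result (K : Type u) [Field K] (p : ℕ) [Fact p.Prime] [CharP K p]
    [CharP (DualNumber K) p] (t a b c d e f g h i : K) (ht : t ^ p = t)
    (L : Type v) [LieRing L] [LieAlgebra (DualNumber K) L] (bs : Module.Basis (Fin 3) (DualNumber K) L)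
    (hxy : ⁅bs 0, bs 1⁆ = (a • ε : DualNumber K) • bs 0 + (1 + b • ε : DualNumber K) • bs 1 + (c • ε : DualNumber K) • bs 2)
    (hxz : ⁅bs 0, bs 2⁆ = (d • ε : DualNumber K) • bs 0 + (e • ε : DualNumber K) • bs 1 +
      (algebraMap K (DualNumber K) t + f • ε) • bs 2)
    (hyz : ⁅bs 1, bs 2⁆ = (g • ε : DualNumber K) • bs 0 + (h • ε : DualNumber K) • bs 1 + (i • ε : DualNumber K) • bs 2) :
    Nonempty (PLie.PMap (DualNumber K) p L) ↔ (b * t = f ∧ (t = 1 → c = 0 ∧ e = 0) ∧ (p = 2 → g = 0)) := by
  have hpP : p.Prime := Fact.out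
  obtain ⟨A, hA⟩ : ∃ A : Fin 3 → DualNumber K, A = ![a • ε, 1 + b • ε, c • ε] := ⟨_, rfl⟩
  obtain ⟨B, hB⟩ : ∃ B : Fin 3 → DualNumber K,
    B = ![d • ε, e • ε, TrivSqZeroExt.inl t + f • ε] := ⟨_, rfl⟩
  obtain ⟨C, hC⟩ : ∃ C : Fin 3 → DualNumber K, C = ![g • ε, h • ε, i • ε] := ⟨_, rfl⟩
  have hxy' : ⁅bs 0, bs 1⁆ = A 0 • bs 0 + A 1 • bs 1 + A 2 • bs 2 := by simpa [hA] using hxy
  have hxz' : ⁅bs 0, bs 2⁆ = B 0 • bs 0 + B 1 • bs 1 + B 2 • bs 2 := by
    simpa [hB, TrivSqZeroExt.algebraMap_eq_inl] using hxz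
  have hyz' : ⁅bs 1, bs 2⁆ = C 0 • bs 0 + C 1 • bs 1 + C 2 • bs 2 := by simpa [hC] using hyz
  have key := fun j n w => Lie3.ad_pow_eq_ad_iff bs hxy' hxz' hyz' j n w
  have keys := fun j n c m => Lie3.ad_pow_eq_ad_smul_iff bs hxy' hxz' hyz' j n c m
  have key0 := fun j n => Lie3.ad_pow_eq_ad_zero_iff bs hxy' hxz' hyz' j n
  have hT0 : Lie3.T A B C 0 = N0 a b c d e f t := by
    simp [Lie3.T, N0, hA, hB]
  have hT1 : Lie3.T A B C 1 = N1 a b c g h i := by
    simp [Lie3.T, N1, hA, hC]
  have hT2 : Lie3.T A B C 2 = N2 d e f g h i t := by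
    simp [Lie3.T, N2, hB, hC]
  -- the Jacobi identity
  have hd : d = t * h := by
    have hJ := Lie3.jacobi_matrix bs hxy' hxz' hyz'
    rw [Fin.sum_univ_three, hT0, hT1, hT2] at hJ
    have h10 := congrArg TrivSqZeroExt.snd (congrFun (congrFun hJ 1) 0)
    simp [hC, N0, N1, N2, Matrix.mul_apply, Fin.sum_univ_three] at h10
    linear_combination h10
  constructor
  · -- necessity
    rintro ⟨φ⟩
    have h0 := (key 0 p (φ (bs 0))).mp (φ.ad_map (bs 0)).symm
    rw [Fin.sum_univ_three, hT0, hT1, hT2] at h0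
    obtain ⟨hf, h1⟩ := nec_x p hpP a b c d e f g h i t ht _ _ _ h0
    refine ⟨hf, h1, ?_⟩
    intro hp2
    subst hp2
    have h1' := (key 1 2 (φ (bs 1))).mp (φ.ad_map (bs 1)).symm
    rw [Fin.sum_univ_three, hT0, hT1, hT2, pow_two] at h1'
    exact nec_y a b c d e f g h i t _ _ _ h1'
  · -- sufficiency
    rintro ⟨hf, h1, hg⟩
    subst hf hd
    have hy0 : LieAlgebra.ad (DualNumber K) L (bs 0) ^ p =
        LieAlgebra.ad (DualNumber K) L ((1 + (-b) • ε : DualNumber K) • bs 0) := by
      rw [keys, hT0, N0_pow_eq p hpP a b c e h t ht h1]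
    by_cases hp2 : p = 2
    · have hg0 := hg hp2
      subst hp2 hg0
      have hy1 : LieAlgebra.ad (DualNumber K) L (bs 1) ^ 2 =
          LieAlgebra.ad (DualNumber K) L (((-a) • ε : DualNumber K) • bs 1) := by
        rw [keys, hT1, pow_two, N1_sq]
      have hy2 : LieAlgebra.ad (DualNumber K) L (bs 2) ^ 2 =
          LieAlgebra.ad (DualNumber K) L (((-(t * h)) • ε : DualNumber K) • bs 2) := by
        rw [keys, hT2, pow_two, N2_sq]
      obtain ⟨φ, -⟩ := JacobsonThm.exists_pmap_of_basis 2 bs
        ![(1 + (-b) • ε : DualNumber K) • bs 0, ((-a) • ε : DualNumber K) • bs 1,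
          ((-(t * h)) • ε : DualNumber K) • bs 2] (by
          intro j
          fin_cases j
          · exact hy0
          · exact hy1
          · exact hy2)
      exact ⟨φ⟩
    · have hp3 : 3 ≤ p := by
        have h2 := hpP.two_le
        omega
      have hy1 : LieAlgebra.ad (DualNumber K) L (bs 1) ^ p = LieAlgebra.ad (DualNumber K) L 0 := by
        rw [key0, hT1]
        apply pow_eq_zero_of_le hp3
        rw [pow_succ, pow_two, N1_cube]
      have hy2 : LieAlgebra.ad (DualNumber K) L (bs 2) ^ p = LieAlgebra.ad (DualNumber K) L 0 := by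
        rw [key0, hT2]
        apply pow_eq_zero_of_le hp3
        rw [pow_succ, pow_two, N2_cube]
      obtain ⟨φ, -⟩ := JacobsonThm.exists_pmap_of_basis p bs
        ![(1 + (-b) • ε : DualNumber K) • bs 0, 0, 0] (by
          intro j
          fin_cases j
          · exact hy0
          · exact hy1
          · exact hy2)
      exact ⟨φ⟩

end Groth.Agent.S13778
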