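import Groth.Statements.S13779
import Groth.Agent.Lib.Helper26.PLieSemidirect

set_option autoImplicit false
universe u v
open PLie

namespace Groth.Agent.S13779

/-- Let p be an odd prime, R a commutative ring of characteristic p, t ∈ R, and L a Lie algebra over R,
free as a module with basis x = bs 0, y = bs 1, z = bs 2 and brackets [x,y] = z, [x,z] = t • y,
[y,z] = 0. Then L carries a p-mapping φ with φ x = t ^ ((p - 1) / 2) • x, φ y = 0 and φ z = 0. (The
published statement concerns the Lie algebra with these brackets over a field of Laurent series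
k((t)), k algebraically closed of odd characteristic, t the variable; this row states its
restrictability over every commutative ring of odd prime characteristic and every t.) -/
theorem result (R : Type u) [CommRing R] (p : ℕ) [Fact p.Prime] [CharP R p] (hp : p ≠ 2)
    (t : R) (L : Type v) [LieRing L] [LieAlgebra R L] (bs : Module.Basis (Fin 3) R L)
    (hxy : ⁅bs 0, bs 1⁆ = bs 2) (hxz : ⁅bs 0, bs 2⁆ = t • bs 1) (hyz : ⁅bs 1, bs 2⁆ = 0) :
    ∃ φ : PLie.PMap R p L, φ (bs 0) = t ^ ((p - 1) / 2) • bs 0 ∧ φ (bs 1) = 0 ∧ φ (bs 2) = 0 := by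
  have hpP : p.Prime := Fact.out
  have hodd : Odd p := hpP.odd_of_ne_two hp
  obtain ⟨k, hk⟩ := hodd
  have hk2 : (p - 1) / 2 = k := by omega
  rw [hk2]
  have hsq : (!![0, t; 1, 0] : Matrix (Fin 2) (Fin 2) R) ^ 2 = t • (1 : Matrix (Fin 2) (Fin 2) R) := by
    rw [pow_two]
    ext i j
    fin_cases i <;> fin_cases j <;> simp [Matrix.mul_apply, Fin.sum_univ_two]
  refine Groth.Agent.Lib.Helper26.PLieSemidirect.exists_pmap p bs 0 t 1 0 (t ^ k)
    (by rw [hxy]; simp) (by rw [hxz]; simp) hyz ?_ ?_
  · rw [hk, pow_succ, pow_mul, hsq, smul_pow, one_pow, Matrix.smul_mul, Matrix.one_mul]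
  · intro a ha
    have := congrFun (congrFun ha 1) 0
    simpa using this

end Groth.Agent.S13779
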