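import Groth.Statements.S13780
-- import your own Groth.Agent.* helpers here

set_option autoImplicit false
universe u v w
open PLie

namespace Groth.Agent.S13780


theorem ad_pow_equiv (R : Type u) [CommRing R]
    (L : Type v) [LieRing L] [LieAlgebra R L] (L' : Type w) [LieRing L'] [LieAlgebra R L']
    (φ : L ≃ₗ⁅R⁆ L') (x : L) (n : ℕ) (y : L) :
    ((LieAlgebra.ad R L' (φ x)) ^ n) (φ y) = φ (((LieAlgebra.ad R L x) ^ n) y) := by
  induction n generalizing y with
  | zero => simp
  | succ n ih =>
    rw [pow_succ, pow_succ, Module.End.mul_apply, Module.End.mul_apply, LieAlgebra.ad_apply,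
      LieAlgebra.ad_apply, ← LieEquiv.map_lie, ih]

/-- Let R be a commutative ring of prime characteristic p, L and L' Lie algebras over R with p-mappings
γ and γ', the centre of L' being zero, and φ : L ≃ L' an isomorphism of Lie algebras over R. Then φ
(γ x) = γ' (φ x) for every x: φ is an isomorphism of p-Lie algebras. (The published statement is the
case L' = L of a centreless restrictable Lie algebra over a field with its unique p-mapping and a
Lie algebra automorphism; this row allows two algebras and any commutative base ring of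
characteristic p.) -/
theorem result (R : Type u) [CommRing R] (p : ℕ) [Fact p.Prime] [CharP R p]
    (L : Type v) [LieRing L] [LieAlgebra R L] (L' : Type w) [LieRing L'] [LieAlgebra R L']
    (γ : PLie.PMap R p L) (γ' : PLie.PMap R p L') (hZ : LieAlgebra.center R L' = ⊥) (φ : L ≃ₗ⁅R⁆ L') :
    PLie.IsPHom γ γ' φ.toLieHom := by
  intro x
  change φ (γ x) = γ' (φ x)
  have hz : φ (γ x) - γ' (φ x) ∈ LieAlgebra.center R L' := by
    rw [LieAlgebra.center, LieModule.mem_maxTrivSubmodule]
    intro y'
    obtain ⟨y, rfl⟩ := φ.surjective y'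
    have h1 : ⁅φ (γ x), φ y⁆ = ⁅γ' (φ x), φ y⁆ := by
      have e1 : ⁅γ' (φ x), φ y⁆ = (LieAlgebra.ad R L' (γ' (φ x))) (φ y) := rfl
      have e2 : ⁅γ x, y⁆ = (LieAlgebra.ad R L (γ x)) y := rfl
      rw [e1, γ'.ad_map, ad_pow_equiv, ← LieEquiv.map_lie, e2, γ.ad_map]
    rw [← lie_skew, sub_lie]
    change -(⁅φ (γ x), φ y⁆ - ⁅γ' (φ x), φ y⁆) = 0
    rw [h1, sub_self, neg_zero]
  rw [hZ] at hz
  have := (LieSubmodule.mem_bot _).mp hz
  exact sub_eq_zero.mp this

end Groth.Agent.S13780
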