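import Groth.Statements.S13781
import Mathlib
import Groth.Agent.Lib.Helper49.RegularEtale
import Groth.Agent.S0560
import Groth.Agent.S0564
import Groth.Agent.S0558
-- import your own Groth.Agent.* helpers here

set_option autoImplicit false
universe u
open CAlg

namespace Groth.Agent.S13781

open Polynomial IsLocalRing

/-- `A[X]/(X^e - s)` is étale over `A` when `e` and `s` are units. -/
theorem etale_adjoinRoot {A : Type u} [CommRing A] (s : A) (hs : IsUnit s) (e : ℕ) (he0 : e ≠ 0)
    (he : IsUnit (e : A)) : Algebra.Etale A (AdjoinRoot (X ^ e - C s : A[X])) := by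
  obtain ⟨u, hu⟩ := he
  obtain ⟨v, hv⟩ := hs
  have hmonic : (X ^ e - C s : A[X]).Monic := monic_X_pow_sub_C s he0
  let P : StandardEtalePair A :=
    { f := X ^ e - C s
      monic_f := hmonic
      g := 1
      cond := ⟨C ((↑u⁻¹ : A) * (↑v⁻¹ : A)) * X, - C (↑v⁻¹ : A), 0, by
        obtain ⟨e', rfl⟩ := Nat.exists_eq_succ_of_ne_zero he0
        rw [pow_zero, derivative_sub, derivative_C, sub_zero, derivative_X_pow]
        simp only [Nat.succ_eq_add_one, Nat.add_sub_cancel, Nat.cast_add, Nat.cast_one]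
        have h1 : (C ((e' : A) + 1) : A[X]) = C (u : A) := by
          rw [hu]; push_cast; rfl
        have h2 : (C (s) : A[X]) = C (v : A) := by rw [hv]
        rw [h1, h2]
        have h3 : (C (u : A) : A[X]) * C ((↑u⁻¹ : A) * (↑v⁻¹ : A)) = C (↑v⁻¹ : A) := by
          rw [← C_mul, ← mul_assoc, Units.mul_inv, one_mul]
        have h4 : (C (v : A) : A[X]) * C (↑v⁻¹ : A) = 1 := by
          rw [← C_mul, Units.mul_inv, C_1]
        have : C (u : A) * X ^ e' * (C ((↑u⁻¹ : A) * (↑v⁻¹ : A)) * X) + (X ^ (e' + 1) - C (v : A)) * -C (↑v⁻¹ : A)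
            = (C (u : A) * C ((↑u⁻¹ : A) * (↑v⁻¹ : A))) * X ^ (e' + 1) - X ^ (e' + 1) * C (↑v⁻¹ : A)
              + C (v : A) * C (↑v⁻¹ : A) := by ring
        rw [this, h3, h4]
        ring⟩ }
  let e1 : P.Ring ≃ₐ[A] Localization.Away (AdjoinRoot.mk P.f P.g) := P.equivAwayAdjoinRoot
  let e2 : AdjoinRoot P.f ≃ₐ[AdjoinRoot P.f] Localization.Away (AdjoinRoot.mk P.f P.g) :=
    IsLocalization.atUnits (AdjoinRoot P.f) (Submonoid.powers (AdjoinRoot.mk P.f P.g)) (by
      rintro x ⟨n, rfl⟩
      show IsUnit ((AdjoinRoot.mk P.f (1 : A[X])) ^ n)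
      rw [map_one, one_pow]
      exact isUnit_one)
  let e3 : P.Ring ≃ₐ[A] AdjoinRoot P.f := e1.trans (e2.restrictScalars A).symm
  exact Algebra.Etale.of_equiv e3

/-- The case `s ∈ 𝔪`: `A[X]/(X^e - s)` is a regular local ring. -/
theorem isRegularRing_adjoinRoot_of_mem {A : Type u} [CommRing A] [IsLocalRing A] [IsRegularRing A]
    (s : A) (hs : s ≠ 0) (hsm : s ∈ maximalIdeal A)
    (hreg : IsRegularRing (A ⧸ Ideal.span {s})) (e : ℕ) (he0 : e ≠ 0) :
    IsRegularRing (AdjoinRoot (X ^ e - C s : A[X])) := by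
  have hA : IsRegularLocalRing A := IsRegularLocalRing.of_isRegularRing_of_isLocalRing A
  have hdom : IsDomain A := Groth.Agent.S0558.result A
  set f : A[X] := X ^ e - C s with hf
  have hmonic : f.Monic := monic_X_pow_sub_C s he0
  set t : AdjoinRoot f := AdjoinRoot.root f with ht
  have hte : t ^ e = AdjoinRoot.of f s := by
    have h0 : AdjoinRoot.mk f f = 0 := AdjoinRoot.mk_self
    rw [hf, map_sub, map_pow, AdjoinRoot.mk_X, AdjoinRoot.mk_C, sub_eq_zero] at h0
    exact h0
  have hfin : Module.Finite A (AdjoinRoot f) := hmonic.finite_adjoinRoot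
  have hN : IsNoetherianRing (AdjoinRoot f) := Algebra.FiniteType.isNoetherianRing A _
  have hint : Algebra.IsIntegral A (AdjoinRoot f) := Algebra.IsIntegral.of_finite A _
  -- t is in the Jacobson radical
  have htjac : Ideal.span {t} ≤ Ideal.jacobson (⊥ : Ideal (AdjoinRoot f)) := by
    rw [Ideal.span_singleton_le_iff_mem, Ideal.jacobson, Ideal.mem_sInf]
    rintro M ⟨-, hM⟩
    have hMc : (M.comap (algebraMap A (AdjoinRoot f))).IsMaximal :=
      Ideal.isMaximal_comap_of_isIntegral_of_isMaximal M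
    have hMc' : M.comap (algebraMap A (AdjoinRoot f)) = maximalIdeal A :=
      IsLocalRing.eq_maximalIdeal hMc
    have hsM : AdjoinRoot.of f s ∈ M := by
      have : s ∈ M.comap (algebraMap A (AdjoinRoot f)) := by rw [hMc']; exact hsm
      exact this
    rw [← hte] at hsM
    exact hM.isPrime.mem_of_pow_mem e hsM
  -- the quotient by t is A/(s)
  let φ : AdjoinRoot f →+* A ⧸ Ideal.span {s} :=
    AdjoinRoot.lift (Ideal.Quotient.mk _) 0 (by
      rw [hf, eval₂_sub, eval₂_pow, eval₂_X, eval₂_C, zero_pow he0, zero_sub, neg_eq_zero]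
      exact Ideal.Quotient.eq_zero_iff_mem.mpr (Ideal.mem_span_singleton_self s))
  have hφt : φ t = 0 := AdjoinRoot.lift_root _
  have hφof : ∀ a : A, φ (AdjoinRoot.of f a) = Ideal.Quotient.mk _ a := fun a =>
    AdjoinRoot.lift_of _
  have hker : RingHom.ker φ = Ideal.span {t} := by
    apply le_antisymm
    · intro b hb
      obtain ⟨p, rfl⟩ := AdjoinRoot.mk_surjective b
      rw [RingHom.mem_ker, AdjoinRoot.lift_mk, eval₂_at_zero] at hb
      rw [Ideal.Quotient.eq_zero_iff_mem, Ideal.mem_span_singleton'] at hb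
      obtain ⟨c, hc⟩ := hb
      have hp : p = divX p * X + C (c * s) := by
        rw [hc]; exact (divX_mul_X_add p).symm
      rw [hp, map_add, map_mul, AdjoinRoot.mk_X, AdjoinRoot.mk_C, map_mul, ← hte]
      apply Ideal.add_mem
      · exact Ideal.mul_mem_left _ _ (Ideal.mem_span_singleton_self t)
      · apply Ideal.mul_mem_left
        obtain ⟨e', rfl⟩ := Nat.exists_eq_succ_of_ne_zero he0
        rw [pow_succ]
        exact Ideal.mul_mem_left _ _ (Ideal.mem_span_singleton_self t)
    · rw [Ideal.span_singleton_le_iff_mem, RingHom.mem_ker]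
      exact hφt
  have hφsurj : Function.Surjective φ := by
    intro y
    obtain ⟨a, rfl⟩ := Ideal.Quotient.mk_surjective y
    exact ⟨AdjoinRoot.of f a, hφof a⟩
  let ψ : (AdjoinRoot f ⧸ Ideal.span {t}) ≃+* (A ⧸ Ideal.span {s}) :=
    (Ideal.quotEquivOfEq hker.symm).trans (RingHom.quotientKerEquivOfSurjective hφsurj)
  -- locality
  have hsne : Ideal.span {s} ≠ (⊤ : Ideal A) := by
    rw [Ne, Ideal.span_singleton_eq_top]
    exact (mem_maximalIdeal s).mp hsm
  have hnt : Nontrivial (A ⧸ Ideal.span {s}) := Ideal.Quotient.nontrivial_iff.mpr hsne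
  have hlocAs : IsLocalRing (A ⧸ Ideal.span {s}) :=
    IsLocalRing.of_surjective' (Ideal.Quotient.mk _) Ideal.Quotient.mk_surjective
  have hlocQ : IsLocalRing (AdjoinRoot f ⧸ Ideal.span {t}) := ψ.symm.isLocalRing
  have hlh : IsLocalHom (Ideal.Quotient.mk (Ideal.span {t})) := isLocalHom_of_le_jacobson_bot _ htjac
  have hlocB : IsLocalRing (AdjoinRoot f) := RingHom.domain_isLocalRing (Ideal.Quotient.mk (Ideal.span {t}))
  have hRLRAs : IsRegularLocalRing (A ⧸ Ideal.span {s}) :=
    IsRegularLocalRing.of_isRegularRing_of_isLocalRing _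
  have hRLRQ : IsRegularLocalRing (AdjoinRoot f ⧸ Ideal.span {t}) :=
    IsRegularLocalRing.of_ringEquiv ψ.symm
  -- t is a nonzerodivisor
  have htreg : t ∈ nonZeroDivisors (AdjoinRoot f) := by
    rw [mem_nonZeroDivisors_iff_right]
    intro b hb
    obtain ⟨p, rfl⟩ := AdjoinRoot.mk_surjective b
    rw [ht, ← AdjoinRoot.mk_X, ← map_mul, AdjoinRoot.mk_eq_zero] at hb
    obtain ⟨h, hh⟩ := hb
    have h0 : h.coeff 0 = 0 := by
      have := congrArg (fun q => coeff q 0) hh
      simp only [mul_coeff_zero, coeff_X_zero, mul_zero] at this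
      have hf0 : f.coeff 0 = -s := by
        rw [hf, coeff_sub, coeff_X_pow, coeff_C_zero, if_neg (Ne.symm he0), zero_sub]
      rw [hf0] at this
      have : s * h.coeff 0 = 0 := by
        have h2 : -s * h.coeff 0 = 0 := this.symm
        rwa [neg_mul, neg_eq_zero] at h2
      exact (mul_eq_zero.mp this).resolve_left hs
    obtain ⟨h', rfl⟩ := X_dvd_iff.mpr h0
    have : p = f * h' := by
      apply mul_right_cancel₀ (X_ne_zero : (X : A[X]) ≠ 0)
      rw [hh]; ring
    rw [this, map_mul, AdjoinRoot.mk_self, zero_mul]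
  have htm : t ∈ maximalIdeal (AdjoinRoot f) := by
    have h1 : t ∈ Ideal.jacobson (⊥ : Ideal (AdjoinRoot f)) :=
      htjac (Ideal.mem_span_singleton_self t)
    rw [IsLocalRing.jacobson_eq_maximalIdeal ⊥ bot_ne_top] at h1
    exact h1
  have hB : IsRegularLocalRing (AdjoinRoot f) := Groth.Agent.S0560.result _ t htm htreg
  rw [isRegularRing_iff]
  intro q hq
  exact Groth.Agent.S0564.result _ q


/-- Let A be a regular local ring, s a non-zero element of A such that A/(s) is regular, and e a
positive integer invertible in A. Then A[t]/(t^e - s) is regular. (Regularity of a ring is taken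
throughout as: Noetherian, with every localization at a prime ideal a regular local ring; the
hypotheses on A and on A/(s) and the conclusion on A[t]/(t^e - s) are all read this way, which for
the local rings A and A/(s) is the usual notion once localizations of regular local rings are known
to be regular.) -/
theorem result (A : Type u) [CommRing A] [IsLocalRing A]
    [IsRegularRing A] (s : A) (hs : s ≠ 0) (hreg : IsRegularRing (A ⧸ Ideal.span {s}))
    (e : ℕ) (he : 0 < e) (heu : IsUnit (e : A)) :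
    IsRegularRing (AdjoinRoot (Polynomial.X ^ e - Polynomial.C s)) := by
  have he0 : e ≠ 0 := Nat.pos_iff_ne_zero.mp he
  by_cases hsm : s ∈ IsLocalRing.maximalIdeal A
  · exact isRegularRing_adjoinRoot_of_mem s hs hsm hreg e he0
  · have hsu : IsUnit s := by
      by_contra h
      exact hsm ((IsLocalRing.mem_maximalIdeal s).mpr h)
    have := etale_adjoinRoot s hsu e he0 heu
    exact Groth.Agent.Lib.Helper49.RegularEtale.isRegularRing_of_etale A _

end Groth.Agent.S13781
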