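import Groth.Statements.S13782
import Groth.Agent.Lib.Helper62.JacLoc

set_option autoImplicit false
universe u
open CAlg

namespace Groth.Agent.S13782


set_option linter.style.haveILetI false

open Polynomial KaehlerDifferential Function
open Groth.Agent.Lib.Helper62.JacLoc Groth.Agent.Lib.Helper62.SmoothReg

section Gen

variable (k : Type u) [CommRing k] {S S' : Type u} [CommRing S] [CommRing S'] [Algebra k S]
  [Algebra k S'] [Algebra S S'] [IsScalarTower k S S']

/-- functoriality of `I • Ω`. -/
lemma map_mem_smul_top (I : Ideal S) (I' : Ideal S') (hI : I ≤ I'.comap (algebraMap S S'))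
    (ω : Ω[S⁄k]) (hω : ω ∈ I • (⊤ : Submodule S Ω[S⁄k])) :
    KaehlerDifferential.map k k S S' ω ∈ I' • (⊤ : Submodule S' Ω[S'⁄k]) := by
  refine Submodule.smul_induction_on hω (fun r hr n _ => ?_) (fun x y hx hy => ?_)
  · rw [map_smul, ← algebraMap_smul S' r]
    exact Submodule.smul_mem_smul (hI hr) Submodule.mem_top
  · rw [map_add]
    exact add_mem hx hy

end Gen

section Poly

variable (k A : Type u) [Field k] [CommRing A] [Algebra k A] (s : A) (e : ℕ)

/-- if `X ∉ M` then `d(X^e - s)` is nonzero at `M`. -/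
lemma D_notMem_of_X_notMem (hek : (e : k) ≠ 0) (M : Ideal A[X]) [M.IsPrime] (hX : (X : A[X]) ∉ M) :
    D k A[X] (X ^ e - C s) ∉ M • (⊤ : Submodule A[X] Ω[A[X]⁄k]) := by
  intro hmem
  let δ : Derivation k A[X] A[X] := (Polynomial.derivative' (R := A)).restrictScalars k
  have h1 : δ.liftKaehlerDifferential (D k A[X] (X ^ e - C s)) ∈
      Submodule.map δ.liftKaehlerDifferential (M • (⊤ : Submodule A[X] Ω[A[X]⁄k])) :=
    Submodule.mem_map_of_mem hmem
  rw [Submodule.map_smul'', Derivation.liftKaehlerDifferential_comp_D] at h1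
  have h2 : δ (X ^ e - C s) ∈ M := by
    have hle : M • Submodule.map δ.liftKaehlerDifferential (⊤ : Submodule A[X] Ω[A[X]⁄k]) ≤ M := by
      rw [Submodule.smul_le]
      intro r hr n _
      exact M.mul_mem_right _ hr
    exact hle h1
  have h3 : δ (X ^ e - C s) = C (algebraMap k A (e : k)) * X ^ (e - 1) := by
    change Polynomial.derivative (X ^ e - C s) = _
    rw [derivative_sub, derivative_X_pow, derivative_C, sub_zero, map_natCast (algebraMap k A)]
  rw [h3] at h2
  have hu : IsUnit (C (algebraMap k A (e : k))) :=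
    ((isUnit_iff_ne_zero.mpr hek).map (algebraMap k A)).map C
  have h4 : X ^ (e - 1) ∈ M := by
    have := M.mul_mem_left (↑hu.unit⁻¹) h2
    rwa [← mul_assoc, IsUnit.val_inv_mul, one_mul] at this
  exact hX (Ideal.IsPrime.mem_of_pow_mem inferInstance _ h4)

/-- at the maximal ideal `(X, m)`, `d(X^e - s)` vanishes iff `ds` vanishes at `m`. -/
lemma D_mem_iff (he : 2 ≤ e) (m : Ideal A) :
    D k A[X] (X ^ e - C s) ∈ (m.comap (Polynomial.evalRingHom (0 : A))) •
      (⊤ : Submodule A[X] Ω[A[X]⁄k]) ↔ D k A s ∈ m • (⊤ : Submodule A Ω[A⁄k]) := by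
  constructor
  · intro h
    letI : Algebra A[X] A := (Polynomial.evalRingHom (0 : A)).toAlgebra
    haveI : IsScalarTower k A[X] A := by
      refine IsScalarTower.of_algebraMap_eq fun c => ?_
      rw [RingHom.algebraMap_toAlgebra, Polynomial.algebraMap_apply, Polynomial.coe_evalRingHom,
        Polynomial.eval_C]
    have h1 := map_mem_smul_top k (m.comap (Polynomial.evalRingHom (0 : A))) m le_rfl _ h
    rw [KaehlerDifferential.map_D, RingHom.algebraMap_toAlgebra, Polynomial.coe_evalRingHom,
      Polynomial.eval_sub, Polynomial.eval_pow, Polynomial.eval_X, Polynomial.eval_C,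
      zero_pow (by omega), zero_sub, map_neg, neg_mem_iff] at h1
    exact h1
  · intro h
    have hle : m ≤ (m.comap (Polynomial.evalRingHom (0 : A))).comap (algebraMap A A[X]) := by
      intro a ha
      rw [Ideal.mem_comap, Ideal.mem_comap, Polynomial.algebraMap_apply, Polynomial.coe_evalRingHom,
        Algebra.algebraMap_self, RingHom.id_apply, Polynomial.eval_C]
      exact ha
    have h1 := map_mem_smul_top k m (m.comap (Polynomial.evalRingHom (0 : A))) hle _ h
    rw [KaehlerDifferential.map_D] at h1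
    have hXm : (X : A[X]) ^ (e - 1) ∈ m.comap (Polynomial.evalRingHom (0 : A)) := by
      rw [Ideal.mem_comap, Polynomial.coe_evalRingHom, Polynomial.eval_pow, Polynomial.eval_X,
        zero_pow (by omega)]
      exact m.zero_mem
    rw [map_sub, Derivation.leibniz_pow]
    refine sub_mem ?_ h1
    exact Submodule.smul_of_tower_mem _ e (Submodule.smul_mem_smul hXm Submodule.mem_top)

end Poly

/-- Let k be a field, A a smooth k-algebra, s an irreducible element of A and e an integer, at least 2,
that is invertible in k. Then the k-algebra A[t]/(t^e - s) is smooth exactly when the quotient ring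
A/(s) is a smooth k-algebra. (Smooth over k means formally smooth and of finite presentation over
k.) -/
theorem result (k A : Type u) [Field k] [CommRing A] [Algebra k A]
    [Algebra.Smooth k A] (s : A) (hs : Irreducible s) (e : ℕ) (he : 2 ≤ e) (hek : (e : k) ≠ 0) :
    Algebra.Smooth k (AdjoinRoot (Polynomial.X ^ e - Polynomial.C s)) ↔
      Algebra.Smooth k (A ⧸ Ideal.span {s}) := by
  haveI : Algebra.FormallySmooth k A[X] := Algebra.FormallySmooth.comp k A A[X]
  haveI : Algebra.Smooth k A[X] := ⟨inferInstance, inferInstance⟩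
  haveI : IsNoetherianRing A := Algebra.FiniteType.isNoetherianRing k A
  have hdom : ∀ (m : Ideal A) [m.IsMaximal], IsDomain (Localization.AtPrime m) :=
    fun m _ => isDomain_localization_of_smooth k A m
  have hfpB : Algebra.FinitePresentation k (A[X] ⧸ Ideal.span {X ^ e - C s}) :=
    Algebra.FinitePresentation.quotient ⟨{X ^ e - C s}, by simp⟩
  have hfpA : Algebra.FinitePresentation k (A ⧸ Ideal.span {s}) :=
    Algebra.FinitePresentation.quotient ⟨{s}, by simp⟩
  have hmonic : (X ^ e - C s : A[X]) ∈ nonZeroDivisors A[X] :=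
    (monic_X_pow_sub_C s (by omega)).mem_nonZeroDivisors
  have hevs : Surjective (Polynomial.evalRingHom (0 : A)) := fun a => ⟨C a, by simp⟩
  have hevf : Polynomial.evalRingHom (0 : A) (X ^ e - C s) = -s := by
    rw [Polynomial.coe_evalRingHom, Polynomial.eval_sub, Polynomial.eval_pow, Polynomial.eval_X,
      Polynomial.eval_C, zero_pow (by omega), zero_sub]
  have hloc : ∀ (S : Type u) [CommRing S] [Algebra k S] [Algebra.FormallySmooth k S]
      (q : Ideal S) [q.IsPrime], Algebra.IsSmoothAt k q := by
    intro S _ _ _ q _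
    haveI : Algebra.FormallyEtale S (Localization.AtPrime q) := .of_isLocalization q.primeCompl
    exact Algebra.FormallySmooth.comp k S (Localization.AtPrime q)
  change Algebra.Smooth k (A[X] ⧸ Ideal.span {(X ^ e - C s : A[X])}) ↔ _
  constructor
  · intro hB
    refine ⟨?_, hfpA⟩
    apply formallySmooth_of_forall_isMaximal
    intro 𝔫 h𝔫
    have hm : (𝔫.comap (Ideal.Quotient.mk (Ideal.span {s}))).IsMaximal :=
      Ideal.comap_isMaximal_of_surjective _ Ideal.Quotient.mk_surjective
    have hsm : s ∈ 𝔫.comap (Ideal.Quotient.mk (Ideal.span {s})) := by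
      rw [Ideal.mem_comap, Ideal.Quotient.eq_zero_iff_mem.mpr (Ideal.mem_span_singleton_self s)]
      exact 𝔫.zero_mem
    have hM : ((𝔫.comap (Ideal.Quotient.mk (Ideal.span {s}))).comap
        (Polynomial.evalRingHom (0 : A))).IsMaximal :=
      Ideal.comap_isMaximal_of_surjective _ hevs
    have hfM : X ^ e - C s ∈ (𝔫.comap (Ideal.Quotient.mk (Ideal.span {s}))).comap
        (Polynomial.evalRingHom (0 : A)) := by
      rw [Ideal.mem_comap, hevf]
      exact neg_mem hsm
    obtain ⟨𝔑, h𝔑, h𝔑M⟩ := exists_isMaximal_comap_eq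
      (Ideal.Quotient.mk (Ideal.span {X ^ e - C s})) Ideal.Quotient.mk_surjective
      ((𝔫.comap (Ideal.Quotient.mk (Ideal.span {s}))).comap (Polynomial.evalRingHom (0 : A)))
      (by rw [Ideal.mk_ker, Ideal.span_singleton_le_iff_mem]; exact hfM)
    have h1 : Algebra.IsSmoothAt k 𝔑 := hloc _ 𝔑
    rw [isSmoothAt_quotient_span_singleton_iff_of_isMaximal] at h1
    rcases h1 with h0 | hD
    · exact absurd h0 (algebraMap_ne_zero_of_mem_nonZeroDivisors _ _ hmonic)
    rw [h𝔑M, D_mem_iff k A s e he] at hD
    rw [isSmoothAt_quotient_span_singleton_iff_of_isMaximal]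
    exact Or.inr hD
  · intro hA'
    refine ⟨?_, hfpB⟩
    apply formallySmooth_of_forall_isMaximal
    intro 𝔑 h𝔑
    have hM : (𝔑.comap (Ideal.Quotient.mk (Ideal.span {X ^ e - C s}))).IsMaximal :=
      Ideal.comap_isMaximal_of_surjective _ Ideal.Quotient.mk_surjective
    have hfM : X ^ e - C s ∈ 𝔑.comap (Ideal.Quotient.mk (Ideal.span {X ^ e - C s})) := by
      rw [Ideal.mem_comap,
        Ideal.Quotient.eq_zero_iff_mem.mpr (Ideal.mem_span_singleton_self (X ^ e - C s))]
      exact 𝔑.zero_mem
    rw [isSmoothAt_quotient_span_singleton_iff_of_isMaximal]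
    right
    by_cases hX : (X : A[X]) ∈ 𝔑.comap (Ideal.Quotient.mk (Ideal.span {X ^ e - C s}))
    · obtain ⟨m, hm, hmM⟩ := exists_isMaximal_comap_eq (Polynomial.evalRingHom (0 : A)) hevs
        (𝔑.comap (Ideal.Quotient.mk (Ideal.span {X ^ e - C s}))) (by
          intro g hg
          rw [RingHom.mem_ker, Polynomial.coe_evalRingHom, ← Polynomial.coeff_zero_eq_eval_zero,
            ← Polynomial.X_dvd_iff] at hg
          obtain ⟨c, rfl⟩ := hg
          exact Ideal.mul_mem_right _ _ hX)
      have hsm : s ∈ m := by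
        have h2 := hfM
        rw [← hmM, Ideal.mem_comap, hevf, neg_mem_iff] at h2
        exact h2
      obtain ⟨𝔫, h𝔫, h𝔫m⟩ := exists_isMaximal_comap_eq
        (Ideal.Quotient.mk (Ideal.span {s})) Ideal.Quotient.mk_surjective m
        (by rw [Ideal.mk_ker, Ideal.span_singleton_le_iff_mem]; exact hsm)
      have h1 : Algebra.IsSmoothAt k 𝔫 := hloc _ 𝔫
      rw [isSmoothAt_quotient_span_singleton_iff_of_isMaximal] at h1
      rcases h1 with h0 | hD
      · exact absurd h0 (algebraMap_ne_zero_of_irreducible A hdom s hs _)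
      rw [h𝔫m] at hD
      rw [← hmM, D_mem_iff k A s e he]
      exact hD
    · exact D_notMem_of_X_notMem k A s e hek _ hX

end Groth.Agent.S13782
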