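import Groth.Statements.S13784
import Mathlib.RingTheory.IntegralDomain
import Mathlib.RingTheory.LocalRing.ResidueField.Basic
import Mathlib.Algebra.Ring.GeomSum

set_option autoImplicit false
universe u
open CAlg

namespace Groth.Agent.S13784


open Finset in
theorem eq_one_of_residue_eq_one {A : Type u} [CommRing A] [IsLocalRing A] (u : Aˣ) (n : ℕ)
    (hn : IsUnit ((n : ℕ) : A)) (hu : u ^ n = 1) (hres : IsLocalRing.residue A (u : A) = 1) :
    u = 1 := by
  set s : A := ∑ i ∈ range n, (u : A) ^ i with hs
  have hs1 : IsLocalRing.residue A s = IsLocalRing.residue A ((n : ℕ) : A) := by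
    rw [hs, map_sum]
    simp [hres]
  have hsu : IsUnit s := by
    have h1 : IsUnit (IsLocalRing.residue A s) := by
      rw [hs1]; exact hn.map _
    exact isUnit_of_map_unit (IsLocalRing.residue A) s h1
  have h2 : s * ((u : A) - 1) = 0 := by
    rw [hs, geom_sum_mul]
    have : ((u ^ n : Aˣ) : A) = 1 := by rw [hu]; rfl
    rw [Units.val_pow_eq_pow_val] at this
    rw [this, sub_self]
  have h3 : (u : A) - 1 = 0 := by
    exact (hsu.mul_right_eq_zero).mp h2
  ext
  simpa using sub_eq_zero.mp h3

/-- Let A be a commutative local ring and G a finite subgroup of Aˣ. If the order of G is invertible in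
A, then G is cyclic. -/
theorem result {A : Type u} [CommRing A] [IsLocalRing A]
    (G : Subgroup Aˣ) [Finite G] (hG : IsUnit ((Nat.card G : ℕ) : A)) : IsCyclic G := by
  classical
  let f : G →* IsLocalRing.ResidueField A :=
    ((IsLocalRing.residue A : A →* IsLocalRing.ResidueField A).comp (Units.coeHom A)).comp G.subtype
  refine isCyclic_of_injective_ringHom f ?_
  intro g h hgh
  have hgh' : IsLocalRing.residue A ((g : Aˣ) : A) = IsLocalRing.residue A ((h : Aˣ) : A) := hgh
  have hmem : (g * h⁻¹ : G) ^ Nat.card G = 1 := pow_card_eq_one'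
  have h1 : ((g * h⁻¹ : G) : Aˣ) = 1 := by
    refine eq_one_of_residue_eq_one _ (Nat.card G) hG ?_ ?_
    · have := congrArg (fun t : G => (t : Aˣ)) hmem
      simpa only [Subgroup.coe_pow, Subgroup.coe_one] using this
    · have hh : IsLocalRing.residue A ((h : Aˣ) : A) * IsLocalRing.residue A (((h : Aˣ)⁻¹ : Aˣ) : A) = 1 := by
        rw [← map_mul, ← Units.val_mul, mul_inv_cancel, Units.val_one, map_one]
      simp only [Subgroup.coe_mul, Subgroup.coe_inv, Units.val_mul, map_mul]
      rw [hgh', hh]
  have h2 : g * h⁻¹ = 1 := Subtype.ext h1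
  exact mul_inv_eq_one.mp h2

end Groth.Agent.S13784
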