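import Groth.Statements.S13785
import Mathlib.LinearAlgebra.Matrix.Charpoly.Coeff

set_option autoImplicit false
universe u
open CAlg

namespace Groth.Agent.S13785


/-- the substitution `X_ij ↦ X_ij + δ_ij T`. -/
noncomputable def shiftHom (A : Type u) [CommRing A] (n : ℕ) :
    MvPolynomial (Fin n × Fin n) A →+* Polynomial (MvPolynomial (Fin n × Fin n) A) :=
  MvPolynomial.eval₂Hom (Polynomial.C.comp MvPolynomial.C)
    (fun ij => Polynomial.C (MvPolynomial.X ij) + if ij.1 = ij.2 then Polynomial.X else 0)

theorem eval_zero_shiftHom (A : Type u) [CommRing A] (n : ℕ)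
    (q : MvPolynomial (Fin n × Fin n) A) :
    Polynomial.eval 0 (shiftHom A n q) = q := by
  have h : (Polynomial.evalRingHom (0 : MvPolynomial (Fin n × Fin n) A)).comp (shiftHom A n) =
      RingHom.id _ := by
    apply MvPolynomial.ringHom_ext
    · intro r
      simp [shiftHom]
    · intro ij
      by_cases h : ij.1 = ij.2 <;> simp [shiftHom, h]
  have := congrArg (fun f : MvPolynomial (Fin n × Fin n) A →+* MvPolynomial (Fin n × Fin n) A => f q) h
  simpa using this

theorem shiftHom_det (A : Type u) [CommRing A] (n : ℕ) :
    shiftHom A n (Matrix.mvPolynomialX (Fin n) (Fin n) A).det =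
      (Matrix.charpoly (-(Matrix.mvPolynomialX (Fin n) (Fin n) A))) := by
  rw [RingHom.map_det, Matrix.charpoly]
  congr 1
  ext i j
  rw [Matrix.charmatrix_apply]
  by_cases h : i = j
  · subst h
    simp [shiftHom, add_comm]
  · simp [shiftHom, h]

/-- For any commutative ring A, the determinant of the generic n × n matrix is a nonzerodivisor of the
polynomial ring over A in the n² matrix entries. -/
theorem result (A : Type u) [CommRing A] (n : ℕ) :
    (Matrix.mvPolynomialX (Fin n) (Fin n) A).det ∈ nonZeroDivisors (MvPolynomial (Fin n × Fin n) A) := by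
  rw [mem_nonZeroDivisors_iff_right]
  intro Q hQ
  have h1 := congrArg (shiftHom A n) hQ
  rw [map_mul, map_zero, shiftHom_det] at h1
  have h2 : shiftHom A n Q = 0 :=
    (Matrix.charpoly_monic _).mul_left_eq_zero_iff.mp h1
  have h3 := eval_zero_shiftHom A n Q
  rw [h2] at h3
  simpa using h3.symm

end Groth.Agent.S13785
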