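import Groth.Statements.S13786
import Mathlib
import Groth.Agent.S7766

set_option autoImplicit false
universe u
open CAlg


namespace Groth.Agent.S13786

theorem eval_mem_span_coeff {σ A : Type*} [CommRing A] (x : σ → A) (f : MvPolynomial σ A) :
    MvPolynomial.eval x f ∈ Ideal.span (Set.range f.coeff) := by
  rw [MvPolynomial.eval_eq]
  exact Ideal.sum_mem _ fun d _ => Ideal.mul_mem_right _ _ (Ideal.subset_span ⟨d, rfl⟩)

theorem exists_monomialOrder (n : ℕ) : Nonempty (MonomialOrder.{0, 0} (Fin n × Fin n)) := by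
  let inst : LinearOrder (Fin n × Fin n) := LinearOrder.lift' finProdFinEquiv finProdFinEquiv.injective
  have hwf : @WellFoundedGT (Fin n × Fin n) inst.toLT :=
    @Finite.to_wellFoundedGT (Fin n × Fin n) _ inst.toPreorder
  exact ⟨@MonomialOrder.lex (Fin n × Fin n) inst hwf⟩

end Groth.Agent.S13786

namespace Groth.Agent.S13786

/-- For a commutative ring A and n ≥ 1, with det the determinant of the generic n × n matrix in the
polynomial ring A[X] in n² indeterminates, the A-algebra A[X]/(det) is faithfully flat over A. (For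
n = 0 the determinant is 1 and the quotient is the zero ring, so n ≥ 1 is required.) -/
theorem result (A : Type u) [CommRing A] (n : ℕ) (hn : 0 < n) :
    Module.FaithfullyFlat A
      (MvPolynomial (Fin n × Fin n) A ⧸ Ideal.span {(Matrix.mvPolynomialX (Fin n) (Fin n) A).det}) := by
  classical
  obtain ⟨mo⟩ := Groth.Agent.S13786.exists_monomialOrder n
  set f := (Matrix.mvPolynomialX (Fin n) (Fin n) A).det with hf
  have hprim : Ideal.span (Set.range f.coeff) = ⊤ := by
    rw [Ideal.eq_top_iff_one]
    have h1 : MvPolynomial.eval (fun p : Fin n × Fin n => (1 : Matrix (Fin n) (Fin n) A) p.1 p.2) f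
        = 1 := by
      rw [hf, RingHom.map_det, Matrix.mvPolynomialX_mapMatrix_eval, Matrix.det_one]
    rw [← h1]
    exact Groth.Agent.S13786.eval_mem_span_coeff _ _
  have hflat : Module.Flat A (MvPolynomial (Fin n × Fin n) A ⧸ Ideal.span {f}) :=
    Groth.Agent.S7766.flat_quotient_of_primitive mo f hprim
  have : Nonempty (Fin n) := ⟨⟨0, hn⟩⟩
  -- retraction
  have h0 : MvPolynomial.aeval (fun p : Fin n × Fin n => (0 : Matrix (Fin n) (Fin n) A) p.1 p.2) f
      = 0 := by
    rw [hf, ← AlgHom.coe_toRingHom, RingHom.map_det]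
    have := Matrix.mvPolynomialX_mapMatrix_aeval A (0 : Matrix (Fin n) (Fin n) A)
    rw [AlgHom.mapMatrix_apply] at this
    rw [RingHom.mapMatrix_apply]
    erw [this]
    exact Matrix.det_zero
  let ψ : (MvPolynomial (Fin n × Fin n) A ⧸ Ideal.span {f}) →ₐ[A] A :=
    Ideal.Quotient.liftₐ _
      (MvPolynomial.aeval (fun p : Fin n × Fin n => (0 : Matrix (Fin n) (Fin n) A) p.1 p.2))
      (by
        intro a ha
        obtain ⟨c, rfl⟩ := Ideal.mem_span_singleton'.1 ha
        rw [map_mul, h0, mul_zero])
  refine ⟨fun m hm htop => ?_⟩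
  have hmem : ∀ x ∈ m • (⊤ : Submodule A (MvPolynomial (Fin n × Fin n) A ⧸ Ideal.span {f})),
      ψ x ∈ m := by
    intro x hx
    refine Submodule.smul_induction_on hx ?_ ?_
    · intro a ha b _
      rw [map_smul, smul_eq_mul]
      exact m.mul_mem_right _ ha
    · intro x y hx hy
      rw [map_add]
      exact m.add_mem hx hy
  have h1 := hmem 1 (by rw [htop]; exact Submodule.mem_top)
  rw [map_one] at h1
  exact hm.ne_top ((Ideal.eq_top_iff_one _).2 h1)

end Groth.Agent.S13786
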