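import Groth.Statements.S13787
import Groth.Agent.S13785

set_option autoImplicit false
universe u
open CAlg

namespace Groth.Agent.S13787


section
variable (A : Type u) [CommRing A] (n : ℕ)

set_option quotPrecheck false in
local notation "D" => (Matrix.mvPolynomialX (Fin n) (Fin n) A).det
set_option quotPrecheck false in
local notation "P" => MvPolynomial (Fin n × Fin n) A
set_option quotPrecheck false in
local notation "L" => Localization.Away (Matrix.mvPolynomialX (Fin n) (Fin n) A).det

theorem algebraMap_PL_injective : Function.Injective (algebraMap P L) := by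
  refine IsLocalization.injective L (M := Submonoid.powers D) ?_
  exact Submonoid.powers_le.mpr (Groth.Agent.S13785.result A n)

theorem eval_zero_det (hn : 0 < n) : MvPolynomial.eval (0 : Fin n × Fin n → A) D = 0 := by
  haveI : Nonempty (Fin n) := ⟨⟨0, hn⟩⟩
  rw [RingHom.map_det]
  have : (MvPolynomial.eval (0 : Fin n × Fin n → A)).mapMatrix
      (Matrix.mvPolynomialX (Fin n) (Fin n) A) = 0 := by
    ext i j
    simp
  rw [this, Matrix.det_zero]

theorem key [Nontrivial A] (hn : 0 < n) (c : Aˣ) (m : ℕ)
    (h : Units.map (algebraMap A L).toMonoidHom c =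
      (IsLocalization.Away.algebraMap_isUnit (S := L) D).unit ^ (m + 1)) : False := by
  have h1 := congrArg (fun t : (L)ˣ => (t : L)) h
  simp only [Units.coe_map, Units.val_pow_eq_pow_val, IsUnit.unit_spec] at h1
  have h2 : algebraMap P L (algebraMap A P (c : A)) = algebraMap P L (D ^ (m + 1)) := by
    rw [map_pow, ← IsScalarTower.algebraMap_apply A P L]
    exact h1
  have h3 := algebraMap_PL_injective A n h2
  have h4 := congrArg (MvPolynomial.eval (0 : Fin n × Fin n → A)) h3
  rw [map_pow, eval_zero_det A n hn, MvPolynomial.algebraMap_eq, MvPolynomial.eval_C,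
    zero_pow (Nat.succ_ne_zero m)] at h4
  exact c.ne_zero h4

theorem key0 (c : Aˣ)
    (h : Units.map (algebraMap A L).toMonoidHom c = 1) : c = 1 := by
  have h1 := congrArg (fun t : (L)ˣ => (t : L)) h
  simp only [Units.coe_map, Units.val_one] at h1
  have h2 : algebraMap P L (algebraMap A P (c : A)) = algebraMap P L 1 := by
    rw [← IsScalarTower.algebraMap_apply A P L, map_one]
    exact h1
  have h3 := algebraMap_PL_injective A n h2
  rw [MvPolynomial.algebraMap_eq] at h3
  have h4 : (c : A) = 1 := MvPolynomial.C_injective _ _ (by rw [h3, map_one])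
  exact Units.ext h4

theorem key' [Nontrivial A] (hn : 0 < n) (c : Aˣ) (k : ℤ)
    (h : Units.map (algebraMap A L).toMonoidHom c =
      (IsLocalization.Away.algebraMap_isUnit (S := L) D).unit ^ k) : c = 1 ∧ k = 0 := by
  obtain hk | hk | hk := lt_trichotomy k 0
  · exfalso
    obtain ⟨m, hm⟩ : ∃ m : ℕ, k = -((m : ℤ) + 1) := ⟨(-k - 1).toNat, by omega⟩
    apply key A n hn c⁻¹ m
    rw [map_inv, h, hm, zpow_neg, inv_inv]
    norm_cast
  · subst hk
    rw [zpow_zero] at h
    exact ⟨key0 A n c h, rfl⟩
  · exfalso
    obtain ⟨m, hm⟩ : ∃ m : ℕ, k = (m : ℤ) + 1 := ⟨(k - 1).toNat, by omega⟩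
    apply key A n hn c m
    rw [h, hm]
    norm_cast

end

/-- Let A be a nonzero commutative ring and n ≥ 1, let det be the determinant of the generic n × n
matrix in the polynomial ring A[X] in its n² entries, and let A[X, 1/det] be the localization at det
(the coordinate ring of GL_n over A). The homomorphism Aˣ × ℤ → (A[X, 1/det])ˣ sending (a, e) to a ·
det^e is injective. (The published statement takes the exponent in the group of locally constant
ℤ-valued functions on Spec A, which also covers A = 0; with integer exponents as here, A must be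
nonzero and n ≥ 1.) -/
theorem result (A : Type u) [CommRing A] [Nontrivial A] (n : ℕ) (hn : 0 < n) :
    Function.Injective (fun p : Aˣ × ℤ =>
        Units.map (algebraMap A (Localization.Away (Matrix.mvPolynomialX (Fin n) (Fin n) A).det)).toMonoidHom p.1 *
          (IsLocalization.Away.algebraMap_isUnit (S := Localization.Away (Matrix.mvPolynomialX (Fin n) (Fin n) A).det)
            (Matrix.mvPolynomialX (Fin n) (Fin n) A).det).unit ^ p.2) := by
  rintro ⟨a, e⟩ ⟨a', e'⟩ h
  simp only at h
  have h1 : Units.map (algebraMap A (Localization.Away (Matrix.mvPolynomialX (Fin n) (Fin n) A).det)).toMonoidHom (a'⁻¹ * a) =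
      (IsLocalization.Away.algebraMap_isUnit (S := Localization.Away (Matrix.mvPolynomialX (Fin n) (Fin n) A).det)
            (Matrix.mvPolynomialX (Fin n) (Fin n) A).det).unit ^ (e' - e) := by
    rw [map_mul, map_inv, zpow_sub, inv_mul_eq_iff_eq_mul, ← mul_assoc, eq_mul_inv_iff_mul_eq]
    exact h
  obtain ⟨h2, h3⟩ := key' A n hn _ _ h1
  have ha : a = a' := by
    have := inv_mul_eq_one.mp h2
    exact this.symm
  have he : e = e' := by omega
  rw [ha, he]

end Groth.Agent.S13787
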