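import Groth.Statements.S6485
import Mathlib.Algebra.Polynomial.AlgebraMap
import Mathlib.Algebra.MvPolynomial.Monad
import Mathlib.LinearAlgebra.Matrix.Permutation
import Mathlib.Algebra.MvPolynomial.Variables
import Mathlib.Algebra.Polynomial.Degree.Lemmas
import Mathlib.RingTheory.Polynomial.Basic
-- import your own Groth.Agent.* helpers here

set_option autoImplicit false
universe u
open IntMult

namespace Groth.Agent.S6485


section aux
variable {k : Type u} [Field k] {n : ℕ}

/-- the scaling hom -/
noncomputable def rho (w : Fin n × Fin n → Prop) [DecidablePred w] :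
    MvPolynomial (Fin n × Fin n) k →ₐ[k] Polynomial (MvPolynomial (Fin n × Fin n) k) :=
  MvPolynomial.aeval (fun u => if w u then
    (Polynomial.X : Polynomial (MvPolynomial (Fin n × Fin n) k)) * Polynomial.C (MvPolynomial.X u)
    else Polynomial.C (MvPolynomial.X u))

theorem ev1_rho (w : Fin n × Fin n → Prop) [DecidablePred w]
    (p : MvPolynomial (Fin n × Fin n) k) : Polynomial.eval 1 (rho w p) = p := by
  have : ((Polynomial.evalRingHom (1 : MvPolynomial (Fin n × Fin n) k)).comp
      (rho w).toRingHom) = RingHom.id _ := by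
    apply MvPolynomial.ringHom_ext
    · intro c
      simp [rho]
    · intro u
      simp only [rho, RingHom.coe_comp, Function.comp_apply, AlgHom.toRingHom_eq_coe,
        RingHom.coe_coe, MvPolynomial.aeval_X, Polynomial.coe_evalRingHom, RingHom.id_apply]
      split_ifs <;> simp
  exact RingHom.congr_fun this p

theorem ev0_rho (w : Fin n × Fin n → Prop) [DecidablePred w]
    (p : MvPolynomial (Fin n × Fin n) k) : Polynomial.eval 0 (rho w p) =
      MvPolynomial.bind₁ (fun u => if w u then 0 else MvPolynomial.X u) p := by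
  have : ((Polynomial.evalRingHom (0 : MvPolynomial (Fin n × Fin n) k)).comp
      (rho w).toRingHom) =
      (MvPolynomial.bind₁ (fun u => if w u then (0 : MvPolynomial (Fin n × Fin n) k)
        else MvPolynomial.X u)).toRingHom := by
    apply MvPolynomial.ringHom_ext
    · intro c
      simp [rho]
    · intro u
      simp only [rho, RingHom.coe_comp, Function.comp_apply, AlgHom.toRingHom_eq_coe,
        RingHom.coe_coe, MvPolynomial.aeval_X, Polynomial.coe_evalRingHom, MvPolynomial.bind₁_X_right]
      split_ifs <;> simp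
  exact RingHom.congr_fun this p

theorem key (w : Fin n × Fin n → Prop) [DecidablePred w]
    (p : MvPolynomial (Fin n × Fin n) k) (h0 : (rho w p).natDegree = 0) :
    ∀ u, w u → u ∉ p.vars := by
  have hr := Polynomial.eq_C_of_natDegree_eq_zero h0
  set r := (rho w p).coeff 0 with hrdef
  have h1 : p = r := by
    have := ev1_rho w p
    rw [hr, Polynomial.eval_C] at this
    exact this.symm
  have h2 : MvPolynomial.bind₁ (fun u => if w u then (0 : MvPolynomial (Fin n × Fin n) k)
        else MvPolynomial.X u) p = p := by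
    have := ev0_rho w p
    rw [hr, Polynomial.eval_C] at this
    rw [← this, ← h1]
  intro u hu hmem
  rw [← h2] at hmem
  obtain ⟨u', _, hu''⟩ := MvPolynomial.mem_vars_bind₁ _ _ hmem
  split_ifs at hu'' with h
  · simp at hu''
  · rw [MvPolynomial.vars_X, Finset.mem_singleton] at hu''
    subst hu''
    exact h hu

theorem lemmaA (w : Fin n × Fin n → Prop) [DecidablePred w]
    {D f g : MvPolynomial (Fin n × Fin n) k} (hD : D ≠ 0)
    (hw : rho w D = Polynomial.X * Polynomial.C D) (hfg : D = f * g) :
    (∀ u, w u → u ∉ f.vars) ∨ (∀ u, w u → u ∉ g.vars) := by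
  have h1 : rho w f * rho w g = Polynomial.X * Polynomial.C D := by
    rw [← map_mul, ← hfg, hw]
  have hCD : (Polynomial.C D : Polynomial (MvPolynomial (Fin n × Fin n) k)) ≠ 0 := by
    simpa using hD
  have hne : (Polynomial.X * Polynomial.C D : Polynomial (MvPolynomial (Fin n × Fin n) k)) ≠ 0 :=
    mul_ne_zero Polynomial.X_ne_zero hCD
  have hf0 : rho w f ≠ 0 := left_ne_zero_of_mul (h1 ▸ hne)
  have hg0 : rho w g ≠ 0 := right_ne_zero_of_mul (h1 ▸ hne)
  have hdeg : (rho w f).natDegree + (rho w g).natDegree = 1 := by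
    rw [← Polynomial.natDegree_mul hf0 hg0, h1, Polynomial.natDegree_X_mul hCD,
      Polynomial.natDegree_C]
  rcases Nat.add_eq_one_iff.mp hdeg with ⟨h0, _⟩ | ⟨_, h0⟩
  · exact Or.inl (key w f h0)
  · exact Or.inr (key w g h0)

theorem rho_row (i : Fin n) : rho (fun u : Fin n × Fin n => u.1 = i)
      (Matrix.det (Matrix.mvPolynomialX (Fin n) (Fin n) k)) =
    Polynomial.X * Polynomial.C (Matrix.det (Matrix.mvPolynomialX (Fin n) (Fin n) k)) := by
  rw [AlgHom.map_det]
  have : (rho (fun u : Fin n × Fin n => u.1 = i)).mapMatrix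
        (Matrix.mvPolynomialX (Fin n) (Fin n) k) =
      Matrix.of fun a b => (if a = i then
        (Polynomial.X : Polynomial (MvPolynomial (Fin n × Fin n) k)) else 1) *
        (Polynomial.C.mapMatrix (Matrix.mvPolynomialX (Fin n) (Fin n) k)) a b := by
    ext a b
    simp only [rho, AlgHom.mapMatrix_apply, Matrix.map_apply, Matrix.mvPolynomialX_apply,
      MvPolynomial.aeval_X, RingHom.mapMatrix_apply, Matrix.of_apply]
    split_ifs <;> simp
  rw [this, Matrix.det_mul_column, ← RingHom.map_det, Finset.prod_ite_eq' Finset.univ i]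
  simp

theorem rho_col (j : Fin n) : rho (fun u : Fin n × Fin n => u.2 = j)
      (Matrix.det (Matrix.mvPolynomialX (Fin n) (Fin n) k)) =
    Polynomial.X * Polynomial.C (Matrix.det (Matrix.mvPolynomialX (Fin n) (Fin n) k)) := by
  rw [AlgHom.map_det]
  have : (rho (fun u : Fin n × Fin n => u.2 = j)).mapMatrix
        (Matrix.mvPolynomialX (Fin n) (Fin n) k) =
      Matrix.of fun a b => (if b = j then
        (Polynomial.X : Polynomial (MvPolynomial (Fin n × Fin n) k)) else 1) *
        (Polynomial.C.mapMatrix (Matrix.mvPolynomialX (Fin n) (Fin n) k)) a b := by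
    ext a b
    simp only [rho, AlgHom.mapMatrix_apply, Matrix.map_apply, Matrix.mvPolynomialX_apply,
      MvPolynomial.aeval_X, RingHom.mapMatrix_apply, Matrix.of_apply]
    split_ifs <;> simp
  rw [this, Matrix.det_mul_row, ← RingHom.map_det, Finset.prod_ite_eq' Finset.univ j]
  simp

theorem mem_vars_det (u : Fin n × Fin n) :
    u ∈ (Matrix.det (Matrix.mvPolynomialX (Fin n) (Fin n) k)).vars := by
  by_contra hu
  obtain ⟨i, j⟩ := u
  let P : Matrix (Fin n) (Fin n) k := (Equiv.swap i j).permMatrix k
  let x : Fin n × Fin n → k := fun p => P p.1 p.2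
  let x' : Fin n × Fin n → k := fun p => if p = (i, j) then 0 else P p.1 p.2
  have h1 : MvPolynomial.eval x (Matrix.det (Matrix.mvPolynomialX (Fin n) (Fin n) k)) =
      MvPolynomial.eval x' (Matrix.det (Matrix.mvPolynomialX (Fin n) (Fin n) k)) := by
    apply MvPolynomial.hom_congr_vars
    · ext c; simp
    · intro v hv _
      have : v ≠ (i, j) := fun h => hu (h ▸ hv)
      simp [x, x', this]
    · rfl
  have h2 : MvPolynomial.eval x (Matrix.det (Matrix.mvPolynomialX (Fin n) (Fin n) k)) =
      Matrix.det P := by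
    rw [RingHom.map_det]
    congr 1
    exact Matrix.mvPolynomialX_mapMatrix_eval P
  have h3 : MvPolynomial.eval x' (Matrix.det (Matrix.mvPolynomialX (Fin n) (Fin n) k)) = 0 := by
    rw [RingHom.map_det]
    have : (MvPolynomial.eval x').mapMatrix (Matrix.mvPolynomialX (Fin n) (Fin n) k) =
        Matrix.of fun a b => x' (a, b) :=
      Matrix.mvPolynomialX_mapMatrix_eval (Matrix.of fun a b => x' (a, b))
    rw [this]
    apply Matrix.det_eq_zero_of_row_eq_zero i
    intro b
    simp only [Matrix.of_apply, x']
    split_ifs with h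
    · rfl
    · have hb : b ≠ j := fun hb => h (by rw [hb])
      simp only [P, Equiv.Perm.permMatrix, PEquiv.toMatrix_apply, Equiv.toPEquiv_apply,
        Option.mem_def, Option.some.injEq, Equiv.swap_apply_left]
      rw [if_neg]
      exact fun h' => hb h'.symm
  rw [h2, h3, Matrix.det_permutation] at h1
  rcases Int.units_eq_one_or (Equiv.Perm.sign (Equiv.swap i j)) with h | h <;>
    rw [h] at h1 <;> simp at h1

end aux

/-- Let k be a field and n ≥ 1. Then the determinant of the generic matrix (x_{ij})_{1 ≤ i, j ≤ n} is an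
irreducible element of the polynomial ring k[x_{ij}] (Mathlib's Matrix.mvPolynomialX is the generic
matrix over MvPolynomial (Fin n × Fin n) k). -/
theorem result (k : Type u) [Field k] (n : ℕ) (hn : 1 ≤ n) : Irreducible (Matrix.mvPolynomialX (Fin n) (Fin n) k).det := by
  classical
  set D := (Matrix.mvPolynomialX (Fin n) (Fin n) k).det with hDdef
  have hD0 : D ≠ 0 := Matrix.det_mvPolynomialX_ne_zero (Fin n) k
  let i₀ : Fin n := ⟨0, hn⟩
  rw [irreducible_iff]
  refine ⟨?_, ?_⟩
  · intro hU
    have h1 : IsUnit (MvPolynomial.eval (fun _ : Fin n × Fin n => (0 : k)) D) := hU.map _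
    have h2 : MvPolynomial.eval (fun _ : Fin n × Fin n => (0 : k)) D = 0 := by
      rw [hDdef, RingHom.map_det]
      have : (MvPolynomial.eval (fun _ : Fin n × Fin n => (0 : k))).mapMatrix
          (Matrix.mvPolynomialX (Fin n) (Fin n) k) = 0 :=
        Matrix.mvPolynomialX_mapMatrix_eval (0 : Matrix (Fin n) (Fin n) k)
      rw [this]
      haveI : Nonempty (Fin n) := ⟨i₀⟩
      exact Matrix.det_zero
    rw [h2] at h1
    exact not_isUnit_zero h1
  · intro f g hfg
    have hrow : ∀ i : Fin n, (∀ j, (i, j) ∉ f.vars) ∨ (∀ j, (i, j) ∉ g.vars) := by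
      intro i
      rcases lemmaA (fun u : Fin n × Fin n => u.1 = i) hD0 (rho_row i) hfg with h | h
      · exact Or.inl fun j => h (i, j) rfl
      · exact Or.inr fun j => h (i, j) rfl
    have hcol : ∀ j : Fin n, (∀ i, (i, j) ∉ f.vars) ∨ (∀ i, (i, j) ∉ g.vars) := by
      intro j
      rcases lemmaA (fun u : Fin n × Fin n => u.2 = j) hD0 (rho_col j) hfg with h | h
      · exact Or.inl fun i => h (i, j) rfl
      · exact Or.inr fun i => h (i, j) rfl
    have hall : ∀ u : Fin n × Fin n, u ∈ f.vars ∨ u ∈ g.vars := by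
      intro u
      have hu : u ∈ D.vars := mem_vars_det (k := k) u
      rw [hfg] at hu
      have := MvPolynomial.vars_mul f g hu
      exact Finset.mem_union.mp this
    have hconst : ∀ p : MvPolynomial (Fin n × Fin n) k, p ≠ 0 → p.vars = ∅ → IsUnit p := by
      intro p hp hv
      rw [MvPolynomial.vars_eq_empty_iff_eq_C] at hv
      rw [hv]
      apply IsUnit.map
      apply IsUnit.mk0
      intro h0
      rw [h0, map_zero] at hv
      exact hp hv
    have hf0 : f ≠ 0 := left_ne_zero_of_mul (hfg ▸ hD0)
    have hg0 : g ≠ 0 := right_ne_zero_of_mul (hfg ▸ hD0)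
    rcases hall (i₀, i₀) with h | h
    · right
      apply hconst g hg0
      have hr : ∀ j, (i₀, j) ∉ g.vars := by
        rcases hrow i₀ with h' | h'
        · exact absurd h (h' i₀)
        · exact h'
      have hr' : ∀ j, (i₀, j) ∈ f.vars := fun j => (hall (i₀, j)).resolve_right (hr j)
      apply Finset.eq_empty_of_forall_notMem
      rintro ⟨i, j⟩
      rcases hcol j with h' | h'
      · exact absurd (hr' j) (h' i₀)
      · exact h' i
    · left
      apply hconst f hf0
      have hr : ∀ j, (i₀, j) ∉ f.vars := by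
        rcases hrow i₀ with h' | h'
        · exact h'
        · exact absurd h (h' i₀)
      have hr' : ∀ j, (i₀, j) ∈ g.vars := fun j => (hall (i₀, j)).resolve_left (hr j)
      apply Finset.eq_empty_of_forall_notMem
      rintro ⟨i, j⟩
      rcases hcol j with h' | h'
      · exact h' i
      · exact absurd (hr' j) (h' i₀)

end Groth.Agent.S6485
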