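import Groth.Statements.S13788
import Mathlib
import Groth.Agent.S6485
import Groth.Agent.S13787

set_option autoImplicit false
universe u
open CAlg

namespace Groth.Agent.S13788

set_option linter.unusedSectionVars false
open MvPolynomial

theorem uni {A : Type*} [CommRing A] [Nontrivial A] [IsReduced A]
    (hconn : ∀ e : A, IsIdempotentElem e → e = 0 ∨ e = 1) (g : Polynomial A)
    (H : ∀ p : Ideal A, p.IsPrime → ∃ j, g.coeff j ∉ p ∧ ∀ i, i ≠ j → g.coeff i ∈ p) :
    ∃ j, IsUnit (g.coeff j) ∧ ∀ i, i ≠ j → g.coeff i = 0 := by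
  classical
  have hnil : ∀ x : A, (∀ p : Ideal A, p.IsPrime → x ∈ p) → x = 0 := by
    intro x hx
    have : x ∈ nilradical A := by
      rw [nilradical_eq_sInf, Ideal.mem_sInf]
      intro p hp
      exact hx p hp
    rw [nilradical_eq_zero] at this
    exact this
  have ha : ∀ i j, i ≠ j → g.coeff i * g.coeff j = 0 := by
    intro i j hij
    apply hnil
    intro p hp
    obtain ⟨j0, -, h0⟩ := H p hp
    by_cases hi : i = j0
    · exact p.mul_mem_left _ (h0 j (fun h => hij (hi.trans h.symm)))
    · exact p.mul_mem_right _ (h0 i hi)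
  have hb : Ideal.span (Set.range g.coeff) = ⊤ := by
    by_contra hne
    obtain ⟨M, hM, hle⟩ := Ideal.exists_le_maximal _ hne
    obtain ⟨j, hj, -⟩ := H M hM.isPrime
    exact hj (hle (Ideal.subset_span ⟨j, rfl⟩))
  have h1 : (1 : A) ∈ Ideal.span (Set.range g.coeff) := by rw [hb]; trivial
  obtain ⟨r, hr⟩ := (Finsupp.mem_span_range_iff_exists_finsupp).1 h1
  simp only [Finsupp.sum, smul_eq_mul] at hr
  set s := r.support with hs
  let e : ℕ → A := fun i => r i * g.coeff i
  have he : ∀ i j, i ≠ j → e i * e j = 0 := by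
    intro i j hij
    show r i * g.coeff i * (r j * g.coeff j) = 0
    have := ha i j hij
    linear_combination (r i * r j) * this
  have hsum : ∑ i ∈ s, e i = 1 := hr
  have hidem : ∀ i ∈ s, IsIdempotentElem (e i) := by
    intro i hi
    show e i * e i = e i
    have : e i = e i * ∑ j ∈ s, e j := by rw [hsum, mul_one]
    conv_rhs => rw [this]
    rw [Finset.mul_sum, Finset.sum_eq_single i]
    · intro j _ hji
      exact he i j (Ne.symm hji)
    · intro h; exact absurd hi h
  have hex : ∃ j ∈ s, e j = 1 := by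
    by_contra hcon
    push Not at hcon
    have : ∑ i ∈ s, e i = 0 := by
      apply Finset.sum_eq_zero
      intro i hi
      rcases hconn _ (hidem i hi) with h | h
      · exact h
      · exact absurd h (hcon i hi)
    rw [hsum] at this
    exact one_ne_zero this
  obtain ⟨j, -, hj⟩ := hex
  refine ⟨j, IsUnit.of_mul_eq_one (r j) (by rw [mul_comm]; exact hj), ?_⟩
  intro i hij
  have h2 := ha i j hij
  calc g.coeff i = g.coeff i * 1 := (mul_one _).symm
    _ = g.coeff i * (r j * g.coeff j) := by rw [← hj]
    _ = r j * (g.coeff i * g.coeff j) := by ring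
    _ = 0 := by rw [h2, mul_zero]


section
variable (A : Type u) [CommRing A] (n : ℕ)

/-- evaluation at the scalar matrix `t • 1` -/
noncomputable def evt : MvPolynomial (Fin n × Fin n) A →ₐ[A] Polynomial A :=
  MvPolynomial.aeval (fun ij : Fin n × Fin n => if ij.1 = ij.2 then Polynomial.X else 0)

theorem evt_det : evt A n (Matrix.mvPolynomialX (Fin n) (Fin n) A).det = Polynomial.X ^ n := by
  rw [AlgHom.map_det]
  have : (evt A n).mapMatrix (Matrix.mvPolynomialX (Fin n) (Fin n) A) =
      Matrix.diagonal (fun _ => (Polynomial.X : Polynomial A)) := by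
    ext i j
    simp [evt, Matrix.mvPolynomialX_apply, Matrix.diagonal_apply]
  rw [this, Matrix.det_diagonal]
  simp

variable {A} {B : Type u} [CommRing B] (f : A →+* B)

theorem map_det' : MvPolynomial.map f (Matrix.mvPolynomialX (Fin n) (Fin n) A).det =
    (Matrix.mvPolynomialX (Fin n) (Fin n) B).det := by
  rw [RingHom.map_det]
  congr 1
  ext i j
  simp [Matrix.mvPolynomialX_apply]

theorem evt_map (q : MvPolynomial (Fin n × Fin n) A) :
    Polynomial.map f (evt A n q) = evt B n (MvPolynomial.map f q) := by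
  have : (Polynomial.mapRingHom f).comp (evt A n : MvPolynomial (Fin n × Fin n) A →+* Polynomial A) =
      (evt B n : MvPolynomial (Fin n × Fin n) B →+* Polynomial B).comp (MvPolynomial.map f) := by
    apply MvPolynomial.ringHom_ext
    · intro r
      simp [evt]
    · intro ij
      simp only [evt, RingHom.coe_comp, RingHom.coe_coe, Function.comp_apply, aeval_X,
        Polynomial.coe_mapRingHom, map_X]
      split_ifs <;> simp
  exact congrArg (fun φ => φ q) this

end

theorem factor_field (κ : Type u) [Field κ] (n : ℕ) (hn : 0 < n)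
    (p q : MvPolynomial (Fin n × Fin n) κ) (m : ℕ)
    (h : p * q = (Matrix.mvPolynomialX (Fin n) (Fin n) κ).det ^ m) :
    ∃ a ≤ m, ∃ c : κ, c ≠ 0 ∧ p = C c * (Matrix.mvPolynomialX (Fin n) (Fin n) κ).det ^ a := by
  have hirr := Groth.Agent.S6485.result κ n hn
  have hprime : Prime (Matrix.mvPolynomialX (Fin n) (Fin n) κ).det :=
    UniqueFactorizationMonoid.irreducible_iff_prime.1 hirr
  have hdvd : p ∣ (Matrix.mvPolynomialX (Fin n) (Fin n) κ).det ^ m := Dvd.intro q h
  obtain ⟨a, ha, hassoc⟩ := (dvd_prime_pow hprime m).1 hdvd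
  obtain ⟨v, hv⟩ := hassoc.symm
  obtain ⟨r, hr, hvr⟩ := (MvPolynomial.isUnit_iff_eq_C_of_isReduced).1 v.isUnit
  refine ⟨a, ha, r, hr.ne_zero, ?_⟩
  rw [← hv, hvr, mul_comm]

theorem core (A : Type u) [CommRing A] [Nontrivial A] [IsReduced A]
    (hconn : ∀ e : A, IsIdempotentElem e → e = 0 ∨ e = 1) (n : ℕ) (hn : 0 < n)
    (P₁ Q₁ : MvPolynomial (Fin n × Fin n) A) (m : ℕ)
    (h : P₁ * Q₁ = (Matrix.mvPolynomialX (Fin n) (Fin n) A).det ^ m) :
    ∃ (c : Aˣ) (a : ℕ), P₁ = C (c : A) * (Matrix.mvPolynomialX (Fin n) (Fin n) A).det ^ a := by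
  classical
  -- per prime
  have PP : ∀ (p : Ideal A) (hp : p.IsPrime), ∃ (a : ℕ) (c : p.ResidueField), c ≠ 0 ∧
      MvPolynomial.map (algebraMap A p.ResidueField) P₁ =
        C c * (Matrix.mvPolynomialX (Fin n) (Fin n) p.ResidueField).det ^ a := by
    intro p hp
    have h' := congrArg (MvPolynomial.map (algebraMap A p.ResidueField)) h
    rw [map_mul, map_pow, map_det'] at h'
    obtain ⟨a, -, c, hc, hP⟩ := factor_field p.ResidueField n hn _ _ m h'
    exact ⟨a, c, hc, hP⟩
  choose a c hc hP using PP
  set g := evt A n P₁ with hg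
  have hgmap : ∀ (p : Ideal A) (hp : p.IsPrime), Polynomial.map (algebraMap A p.ResidueField) g =
      Polynomial.C (c p hp) * Polynomial.X ^ (n * a p hp) := by
    intro p hp
    rw [hg, evt_map, hP p hp, map_mul, map_pow, evt_det, ← pow_mul]
    congr 1
    simp [evt]
  have hcoeff : ∀ (p : Ideal A) (hp : p.IsPrime) (i : ℕ),
      algebraMap A p.ResidueField (g.coeff i) = if i = n * a p hp then c p hp else 0 := by
    intro p hp i
    rw [← Polynomial.coeff_map, hgmap p hp, Polynomial.coeff_C_mul_X_pow]
  have hmem : ∀ (p : Ideal A) (hp : p.IsPrime) (x : A),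
      algebraMap A p.ResidueField x = 0 ↔ x ∈ p := fun p hp x =>
    Ideal.algebraMap_residueField_eq_zero
  have H : ∀ p : Ideal A, p.IsPrime → ∃ j, g.coeff j ∉ p ∧ ∀ i, i ≠ j → g.coeff i ∈ p := by
    intro p hp
    refine ⟨n * a p hp, ?_, ?_⟩
    · rw [← hmem p hp, hcoeff p hp, if_pos rfl]
      exact hc p hp
    · intro i hi
      rw [← hmem p hp, hcoeff p hp, if_neg hi]
  obtain ⟨j, hju, hj0⟩ := uni hconn g H
  -- j = n * a p for all p
  have hja : ∀ (p : Ideal A) (hp : p.IsPrime), j = n * a p hp := by
    intro p hp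
    by_contra hne
    have h1 := hcoeff p hp j
    rw [if_neg hne, hmem p hp] at h1
    exact hp.ne_top (Ideal.eq_top_of_isUnit_mem _ h1 hju)
  obtain ⟨p0, hp0⟩ := Ideal.exists_maximal A
  refine ⟨hju.unit, a p0 hp0.isPrime, ?_⟩
  -- difference vanishes
  have hnil : ∀ x : A, (∀ p : Ideal A, p.IsPrime → x ∈ p) → x = 0 := by
    intro x hx
    have : x ∈ nilradical A := by
      rw [nilradical_eq_sInf, Ideal.mem_sInf]
      intro p hp
      exact hx p hp
    rw [nilradical_eq_zero] at this
    exact this
  rw [← sub_eq_zero]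
  ext s
  rw [coeff_zero]
  apply hnil
  intro p hp
  rw [← hmem p hp, ← MvPolynomial.coeff_map, map_sub, map_mul, map_pow, map_det', hP p hp,
    MvPolynomial.map_C]
  have ha : a p hp = a p0 hp0.isPrime := by
    have h1 := hja p hp
    have h2 := hja p0 hp0.isPrime
    exact Nat.eq_of_mul_eq_mul_left hn (h1.symm.trans h2)
  have hcp : c p hp = algebraMap A p.ResidueField (g.coeff j) := by
    have := hcoeff p hp j
    rw [if_pos (hja p hp)] at this
    exact this.symm
  rw [ha, hcp, IsUnit.unit_spec, sub_self, coeff_zero]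


section
variable (A : Type u) [CommRing A] (n : ℕ)

set_option quotPrecheck false in
local notation "D" => (Matrix.mvPolynomialX (Fin n) (Fin n) A).det
set_option quotPrecheck false in
local notation "P" => MvPolynomial (Fin n × Fin n) A
set_option quotPrecheck false in
local notation "L" => Localization.Away (Matrix.mvPolynomialX (Fin n) (Fin n) A).det
set_option quotPrecheck false in
local notation "Du" => (IsLocalization.Away.algebraMap_isUnit (S := L) D).unit

theorem surj_of_reduced [Nontrivial A] [IsReduced A]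
    (hconn : ∀ e : A, IsIdempotentElem e → e = 0 ∨ e = 1) (hn : 0 < n) (U : (L)ˣ) :
    ∃ p : Aˣ × ℤ, Units.map (algebraMap A L).toMonoidHom p.1 * Du ^ p.2 = U := by
  obtain ⟨⟨P₁, ⟨_, k, rfl⟩⟩, hP⟩ := IsLocalization.surj (Submonoid.powers D) (U : L)
  obtain ⟨⟨Q₁, ⟨_, l, rfl⟩⟩, hQ⟩ := IsLocalization.surj (Submonoid.powers D) ((U⁻¹ : (L)ˣ) : L)
  simp only at hP hQ
  have hPQ : P₁ * Q₁ = D ^ (k + l) := by
    apply Groth.Agent.S13787.algebraMap_PL_injective A n
    rw [map_mul, ← hP, ← hQ, pow_add, map_mul]
    have : (U : L) * ((U⁻¹ : (L)ˣ) : L) = 1 := by rw [← Units.val_mul, mul_inv_cancel, Units.val_one]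
    linear_combination (algebraMap P L (D ^ k) * algebraMap P L (D ^ l)) * this
  obtain ⟨c, a, hca⟩ := core A hconn n hn P₁ Q₁ (k + l) hPQ
  refine ⟨(c, (a : ℤ) - (k : ℤ)), ?_⟩
  simp only
  rw [zpow_sub, ← mul_assoc, mul_inv_eq_iff_eq_mul]
  apply Units.ext
  simp only [Units.val_mul, Units.coe_map, zpow_natCast, Units.val_pow_eq_pow_val, IsUnit.unit_spec]
  rw [← map_pow, ← map_pow, hP, hca, map_mul, ← MvPolynomial.algebraMap_eq,
    ← IsScalarTower.algebraMap_apply A P L]
  rfl

theorem reduced_of_surj [Nontrivial A] (hn : 0 < n)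
    (hs : ∀ U : (L)ˣ, ∃ p : Aˣ × ℤ, Units.map (algebraMap A L).toMonoidHom p.1 * Du ^ p.2 = U) :
    IsReduced A := by
  rw [isReduced_iff_pow_one_lt 2 (by norm_num)]
  intro ε hε
  let i0 : Fin n × Fin n := (⟨0, hn⟩, ⟨0, hn⟩)
  let u : P := 1 + C ε * X i0
  let u' : P := 1 - C ε * X i0
  have huu' : u * u' = 1 := by
    have : (C ε : P) * C ε = 0 := by rw [← C_mul, ← pow_two, hε, C_0]
    show (1 + C ε * X i0) * (1 - C ε * X i0) = 1
    linear_combination (-(X i0 : P) * X i0) * this
  let uU : (P)ˣ := Units.mkOfMulEqOne u u' huu'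
  obtain ⟨⟨a, e⟩, hae⟩ := hs (Units.map (algebraMap P L).toMonoidHom uU)
  simp only at hae
  have hev0 : MvPolynomial.eval (0 : Fin n × Fin n → A) u = 1 := by
    simp [u]
  have hcoeff : MvPolynomial.coeff (Finsupp.single i0 1) u = ε := by
    simp only [u, coeff_add, coeff_C_mul, coeff_X]
    rw [MvPolynomial.coeff_one, if_neg]
    · simp
    · intro h
      have := congrArg (fun f => f i0) h
      simp at this
  have key : (C (a : A) : P) = u := by
    obtain ⟨j, rfl | rfl⟩ := Int.eq_nat_or_neg e
    · -- e = j ≥ 0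
      have h1 := congrArg (fun t : (L)ˣ => (t : L)) hae
      simp only [Units.val_mul, Units.coe_map, zpow_natCast, Units.val_pow_eq_pow_val,
        IsUnit.unit_spec] at h1
      have h2 : algebraMap P L (C (a : A) * D ^ j) = algebraMap P L u := by
        rw [map_mul, map_pow, ← MvPolynomial.algebraMap_eq, ← IsScalarTower.algebraMap_apply A P L]
        exact h1
      have h3 := Groth.Agent.S13787.algebraMap_PL_injective A n h2
      rcases Nat.eq_zero_or_pos j with rfl | hj
      · simpa using h3
      · exfalso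
        have h4 := congrArg (MvPolynomial.eval (0 : Fin n × Fin n → A)) h3
        rw [map_mul, map_pow, Groth.Agent.S13787.eval_zero_det A n hn, zero_pow hj.ne', mul_zero,
          hev0] at h4
        exact zero_ne_one h4
    · -- e = -j
      rw [zpow_neg, mul_inv_eq_iff_eq_mul] at hae
      have h1 := congrArg (fun t : (L)ˣ => (t : L)) hae
      simp only [Units.val_mul, Units.coe_map, zpow_natCast, Units.val_pow_eq_pow_val,
        IsUnit.unit_spec] at h1
      have h2 : algebraMap P L (C (a : A)) = algebraMap P L (u * D ^ j) := by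
        rw [map_mul, map_pow, ← MvPolynomial.algebraMap_eq, ← IsScalarTower.algebraMap_apply A P L]
        exact h1
      have h3 := Groth.Agent.S13787.algebraMap_PL_injective A n h2
      rcases Nat.eq_zero_or_pos j with rfl | hj
      · simpa using h3
      · exfalso
        have h4 := congrArg (MvPolynomial.eval (0 : Fin n × Fin n → A)) h3
        rw [map_mul, map_pow, Groth.Agent.S13787.eval_zero_det A n hn, zero_pow hj.ne', mul_zero,
          eval_C] at h4
        exact a.ne_zero h4
  have := congrArg (MvPolynomial.coeff (Finsupp.single i0 1)) key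
  rw [hcoeff, coeff_C, if_neg] at this
  · exact this.symm
  · intro h
    have := congrArg (fun f => f i0) h
    simp at this

end

/-- Units of GL_n: let A be a nonzero commutative ring whose only idempotents are 0 and 1, let n ≥ 1,
let det be the determinant of the generic n × n matrix in the polynomial ring A[X] in its n²
entries, and let A[X, 1/det] be the coordinate ring of GL_n over A. The homomorphism Aˣ × ℤ → (A[X,
1/det])ˣ, (a, e) ↦ a · det^e, is bijective if and only if A is reduced. (The published statement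
allows Spec A disconnected, with exponents locally constant ℤ-valued functions on Spec A; this row
is the connected case, to which the published proof reduces.) -/
theorem result (A : Type u) [CommRing A] [Nontrivial A]
    (hconn : ∀ e : A, IsIdempotentElem e → e = 0 ∨ e = 1) (n : ℕ) (hn : 0 < n) :
    Function.Bijective (fun p : Aˣ × ℤ =>
        Units.map (algebraMap A (Localization.Away (Matrix.mvPolynomialX (Fin n) (Fin n) A).det)).toMonoidHom p.1 *
          (IsLocalization.Away.algebraMap_isUnit (S := Localization.Away (Matrix.mvPolynomialX (Fin n) (Fin n) A).det)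
            (Matrix.mvPolynomialX (Fin n) (Fin n) A).det).unit ^ p.2) ↔ IsReduced A := by
  constructor
  · intro h
    exact reduced_of_surj A n hn h.2
  · intro hred
    exact ⟨Groth.Agent.S13787.result A n hn, surj_of_reduced A n hconn hn⟩

end Groth.Agent.S13788
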