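import Groth.Statements.S1379
-- import your own Groth.Agent.* helpers here
import Mathlib
import Groth.Agent.Lib.Helper67.EtaleFiniteFlat

set_option autoImplicit false
universe u
open FlatMor

namespace Groth.Agent.S1379

open CategoryTheory CategoryTheory.Limits AlgebraicGeometry Opposite



open AlgebraicGeometry CategoryTheory Limits in
/-- Let S₁ → S be flat, locally of finite presentation and surjective (an fppf cover by one morphism).
Then for every point s of S there are an étale morphism S' → S whose image contains s and a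
surjective, finite, flat morphism of finite presentation V → S' such that V → S factors through S₁
Zariski locally on V. -/
theorem result {S₁ S : Scheme.{u}} (g : S₁ ⟶ S) [Flat g] [LocallyOfFinitePresentation g] [Surjective g] (s : S) :
    ∃ (S' V : Scheme.{u}) (e : S' ⟶ S) (π : V ⟶ S'), Etale e ∧ s ∈ Set.range ⇑e ∧ Surjective π ∧ IsFinite π ∧ Flat π ∧ LocallyOfFinitePresentation π ∧
      ∀ v : ↑V, ∃ (W : V.Opens) (r : ↑W ⟶ S₁), v ∈ W ∧ r ≫ g = W.ι ≫ π ≫ e := by
  obtain ⟨U, V, e, u, π, r, het, heu, -, hfin, hfl, hlfp, hsurj, hr⟩ :=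
    Groth.Agent.Lib.Helper67.EtaleFiniteFlat.exists_etale_finite_flat g s (g.surjective s)
  refine ⟨U, V, e, π, het, ⟨u, heu⟩, hsurj, hfin, hfl, hlfp, ?_⟩
  intro v
  refine ⟨⊤, (⊤ : V.Opens).ι ≫ r, trivial, ?_⟩
  rw [Category.assoc, hr]

end Groth.Agent.S1379
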