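import Groth.Statements.S13792
import Mathlib
-- import your own Groth.Agent.* helpers here

set_option autoImplicit false
universe u
open CategoryTheory AlgebraicGeometry
open Curves

namespace Groth.Agent.S13792
open CategoryTheory AlgebraicGeometry Limits TopologicalSpace Topology Opposite


lemma dim_le_zero {E G : Scheme.{u}} [AlgebraicGeometry.IsIntegral E]
    (hdim : topologicalKrullDim ↥E = 1)
    (ι : G ⟶ E) [IsClosedImmersion ι] (hns : ¬ Function.Surjective ι) :
    topologicalKrullDim ↥G ≤ 0 := by
  rw [topologicalKrullDim, Order.krullDim_nonpos_iff_forall_isMax]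
  intro T T' hTT'
  have hind : IsInducing ι := ι.isClosedEmbedding.isInducing
  have hmono := IrreducibleCloseds.map_strictMono_of_isInducing hind
  have hE : Order.krullDim (IrreducibleCloseds ↥E) ≤ 1 := by
    have := hdim.le
    rwa [topologicalKrullDim] at this
  rw [Order.krullDim_le_one_iff] at hE
  let top : IrreducibleCloseds ↥E := ⟨Set.univ, (IrreducibleSpace.isIrreducible_univ ↥E), isClosed_univ⟩
  have hlt : IrreducibleCloseds.map ι ι.continuous T' < top := by
    refine lt_of_le_of_ne (fun x _ => trivial) ?_
    intro heq
    apply hns
    rw [← Set.range_eq_univ]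
    have h1 : (IrreducibleCloseds.map ι ι.continuous T' : Set E) = Set.univ := congrArg (fun S : IrreducibleCloseds E => (S : Set E)) heq
    rw [IrreducibleCloseds.coe_map] at h1
    apply Set.eq_univ_of_univ_subset
    rw [← h1]
    exact closure_minimal (Set.image_subset_range _ _) ι.isClosedEmbedding.isClosed_range
  rcases hE (IrreducibleCloseds.map ι ι.continuous T') with hmin | hmax
  · have h2 := hmin (hmono.monotone hTT')
    have h3 : IrreducibleCloseds.map ι ι.continuous T = IrreducibleCloseds.map ι ι.continuous T' :=
      le_antisymm (hmono.monotone hTT') h2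
    exact (IrreducibleCloseds.map_injective_of_isInducing hind h3).ge
  · exact absurd (hmax hlt.le) (not_le_of_gt hlt)


/-- Let k be a field and E an integral k-scheme of finite type whose underlying space has dimension 1,
and let ι : G → E be a closed immersion. Then either ι is an isomorphism or G is finite over k. (The
published statement is about a closed subgroup scheme of an elliptic curve and its proof states this
fact for E geometrically integral; this row assumes only that E is integral.) -/
theorem result {k : Type u} [Field k]
    {E G : Scheme.{u}} (f : E ⟶ Spec (CommRingCat.of k)) [LocallyOfFiniteType f] [QuasiCompact f]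
    [IsIntegral E] (hdim : topologicalKrullDim ↥E = 1) (ι : G ⟶ E) [IsClosedImmersion ι] :
    IsIso ι ∨ IsFinite (ι ≫ f) := by
  by_cases hs : Function.Surjective ι
  · left
    haveI : Surjective ι := ⟨hs⟩
    exact isIso_of_isClosedImmersion_of_surjective ι
  · right
    haveI : IsLocallyNoetherian G := LocallyOfFiniteType.isLocallyNoetherian (ι ≫ f)
    haveI : IsLocallyArtinian G := .of_topologicalKrullDim_le_zero (dim_le_zero hdim ι hs)
    haveI : LocallyQuasiFinite (ι ≫ f) :=
      locallyQuasiFinite_iff_isDiscrete_preimage_singleton.mpr fun x =>
        (isDiscrete_univ_iff.mpr inferInstance).mono (Set.subset_univ _)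
    haveI : IsLocallyArtinian (Spec (CommRingCat.of k)) :=
      Scheme.isLocallyArtinianScheme_Spec.mpr inferInstance
    exact IsFinite.of_locallyQuasiFinite (ι ≫ f)

end Groth.Agent.S13792
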