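import Groth.Statements.S13794
import Mathlib.Tactic.LinearCombination
import Mathlib.Tactic.FieldSimp
import Mathlib.Tactic.Ring
import Mathlib.Algebra.Polynomial.Coeff

set_option autoImplicit false
universe u
open Polynomial
open Curves

namespace Groth.Agent.S13794


theorem cubic_ext {k : Type u} [Field k] (a3 a2 a1 a0 b3 b2 b1 b0 : k)
    (h : C a3 * (X : k[X]) ^ 3 + C a2 * X ^ 2 + C a1 * X + C a0 =
      C b3 * X ^ 3 + C b2 * X ^ 2 + C b1 * X + C b0) :
    a0 = b0 ∧ a1 = b1 ∧ a2 = b2 ∧ a3 = b3 := by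
  have e0 := congrArg (fun p : k[X] => p.coeff 0) h
  have e1 := congrArg (fun p : k[X] => p.coeff 1) h
  have e2 := congrArg (fun p : k[X] => p.coeff 2) h
  have e3 := congrArg (fun p : k[X] => p.coeff 3) h
  simp [coeff_X, coeff_C, coeff_X_pow] at e0 e1 e2 e3
  exact ⟨e0, e1, e2, e3⟩

/-- Let k be a field of characteristic not 3 and β ∈ k. If a line ax + by + c = 0 with a³ ≠ b³ is the
tangent line at a flex point of the affine cubic x³ + y³ + β = 3xy, then β is a cube in k. Here the
line is normalised to b ≠ 0 (the roles of x and y are symmetric) and the flex-tangency is expressed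
by the restriction of the cubic to the line being λ (x − x₀)³. -/
theorem result {k : Type u} [Field k] (h3 : (3 : k) ≠ 0)
    (β a b c : k) (hb : b ≠ 0) (hab : a ^ 3 ≠ b ^ 3) (lam x₀ : k)
    (hflex : (X : k[X]) ^ 3 + (C (-a / b) * X + C (-c / b)) ^ 3 + C β - 3 * X * (C (-a / b) * X + C (-c / b)) =
      C lam * (X - C x₀) ^ 3) :
    ∃ γ : k, β = γ ^ 3 := by
  have hl3 : (1 : k) + (-a / b) ^ 3 ≠ 0 := by
    have : (1 : k) + (-a / b) ^ 3 = (b ^ 3 - a ^ 3) / b ^ 3 := by
      field_simp; ring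
    rw [this]
    exact div_ne_zero (sub_ne_zero.mpr (Ne.symm hab)) (pow_ne_zero _ hb)
  generalize -a / b = l at hflex hl3
  generalize -c / b = m at hflex
  have hL : (X : k[X]) ^ 3 + (C l * X + C m) ^ 3 + C β - 3 * X * (C l * X + C m) =
      C (1 + l ^ 3) * X ^ 3 + C (3 * l ^ 2 * m - 3 * l) * X ^ 2 + C (3 * l * m ^ 2 - 3 * m) * X +
        C (m ^ 3 + β) := by
    simp only [map_add, map_sub, map_mul, map_pow, map_one, map_ofNat]
    ring
  have hR : C lam * ((X : k[X]) - C x₀) ^ 3 =
      C lam * X ^ 3 + C (-3 * lam * x₀) * X ^ 2 + C (3 * lam * x₀ ^ 2) * X + C (-lam * x₀ ^ 3) := by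
    simp only [map_add, map_sub, map_mul, map_pow, map_one, map_ofNat, map_neg]
    ring
  rw [hL, hR] at hflex
  obtain ⟨e0, e1, e2, e3⟩ := cubic_ext _ _ _ _ _ _ _ _ hflex
  -- lam ≠ 0
  have hlam : lam ≠ 0 := by
    rw [← e3]; exact hl3
  have e2' : l ^ 2 * m - l = -lam * x₀ := by
    apply mul_left_cancel₀ h3
    linear_combination e2
  have e1' : l * m ^ 2 - m = lam * x₀ ^ 2 := by
    apply mul_left_cancel₀ h3
    linear_combination e1
  by_cases hw : l * m - 1 = 0
  · have hx0 : x₀ = 0 := by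
      have : lam * x₀ = 0 := by linear_combination (-l) * hw + e2'
      exact (mul_eq_zero.mp this).resolve_left hlam
    refine ⟨-m, ?_⟩
    rw [hx0] at e0
    linear_combination e0
  · have hm' : m = -l * x₀ := by
      apply mul_left_cancel₀ hw
      linear_combination e1' + x₀ * e2'
    have hlx : l = x₀ := by
      rw [hm'] at e2'
      linear_combination (-1 : k) * e2' - x₀ * e3
    refine ⟨-l, ?_⟩
    rw [hm', ← hlx] at e0
    rw [← e3] at e0
    linear_combination e0

end Groth.Agent.S13794
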