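import Groth.Statements.S13796
import Mathlib
import Groth.Agent.Lib.Helper52.AzSplitMain
import Groth.Agent.Lib.Helper52.TPowMain

set_option autoImplicit false
set_option linter.style.haveILetI false
set_option linter.unusedVariables false
universe u
open scoped TensorProduct
open Brauer

namespace Groth.Agent.S13796

/-- In the case of an affine scheme — let R be a commutative ring and A an Azumaya R-algebra of constant
rank n². Then there exist a finitely generated projective R-module E of constant rank n^n and an
R-algebra isomorphism from the n-fold tensor power A ⊗ ⋯ ⊗ A to End_R(E) (existence of an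
isomorphism only), so the Brauer class of A is n-torsion. For n = 0 the hypotheses force R = 0,
where the statement holds trivially. (The published statement is for Azumaya algebras of constant
rank n² on any locally ringed site; this row is the case of the étale site of Spec R, written in
terms of modules: an Azumaya algebra here is one in the usual, étale-local sense.) -/
theorem result (R : Type u) [CommRing R] (A : Type u) [Ring A] [Algebra R A]
    [IsAzumaya R A] (n : ℕ) (hrk : ∀ p : PrimeSpectrum R, Module.rankAtStalk (R := R) A p = n ^ 2) :
    ∃ (E : Type u) (_ : AddCommGroup E) (_ : Module R E), Module.Finite R E ∧ Module.Projective R E ∧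
      (∀ p : PrimeSpectrum R, Module.rankAtStalk (R := R) E p = n ^ n) ∧
      Nonempty ((⨂[R] _ : Fin n, A) ≃ₐ[R] Module.End R E) := by
  classical
  haveI : Module.Finite R A := IsAzumaya.toFinite
  haveI : Module.Projective R A := inferInstance
  rcases Nat.eq_zero_or_pos n with rfl | hn
  · -- `n = 0`: the ring is trivial
    have h0 : Module.rankAtStalk (R := R) A = 0 := by
      funext p
      rw [hrk p]
      rfl
    haveI : Subsingleton A := Module.rankAtStalk_eq_zero_iff_subsingleton.1 h0
    haveI : Subsingleton R := (FaithfulSMul.algebraMap_injective R A).subsingleton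
    haveI : Subsingleton (⨂[R] _ : Fin 0, A) := Module.subsingleton R _
    haveI : Subsingleton (Module.End R PUnit.{u + 1}) := Module.subsingleton R _
    refine ⟨PUnit.{u + 1}, inferInstance, inferInstance, inferInstance, inferInstance, ?_, ?_⟩
    · intro p
      haveI := p.nontrivial
      exact absurd ‹Subsingleton R› (not_subsingleton R)
    · exact ⟨{ toFun := fun _ => 0
               invFun := fun _ => 0
               left_inv := fun _ => Subsingleton.elim _ _
               right_inv := fun _ => Subsingleton.elim _ _
               map_mul' := fun _ _ => Subsingleton.elim _ _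
               map_add' := fun _ _ => Subsingleton.elim _ _
               commutes' := fun _ => Subsingleton.elim _ _ }⟩
  · -- an étale faithfully flat splitting
    have hfix : RInv.IsFixedRing R R (AlgEquiv.refl : R ≃ₐ[R] R).toRingEquiv :=
      ⟨Function.injective_id, fun r => ⟨fun _ => ⟨r, rfl⟩, fun _ => rfl⟩⟩
    obtain ⟨S, _, _, _, hff, ⟨e, he⟩⟩ :=
      Groth.Agent.Lib.Helper52.AzSplitMain.exists_cover_hasMU (AlgEquiv.refl : R ≃ₐ[R] R)
        (fun _ => rfl) hfix A n hn hrk
    haveI := hff
    haveI : IsAzumaya S (TensorProduct R S A) :=
      Groth.Agent.Lib.Helper46.Azumaya.isAzumaya_baseChange R S A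
    haveI : Module.Finite S (TensorProduct R S A) := IsAzumaya.toFinite
    haveI : Module.Projective S (TensorProduct R S A) := inferInstance
    have hrank' : ∀ q : PrimeSpectrum S,
        Module.rankAtStalk (R := S) (TensorProduct R S A) q = n ^ 2 := by
      intro q
      rw [Module.rankAtStalk_baseChange, hrk]
    have hbij := Groth.Agent.Lib.Helper52.AzSplitMU.muHom_bijective (K := S) he
      (FaithfulSMul.algebraMap_injective S (TensorProduct R S A)) hrank' hn
    let θ : TensorProduct R S A ≃ₐ[S] Matrix (Fin n) (Fin n) S :=
      (AlgEquiv.ofBijective (Groth.Agent.Lib.Helper52.AzSplitMU.muHom (K := S) he) hbij).symm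
    obtain ⟨s, hs⟩ := Groth.Agent.Lib.Helper52.TPowDesc.exists_antisymmetrizer hn hrk θ
    have h3 := Groth.Agent.Lib.Helper52.TPowMain.smul_s_eq_zero θ s hs
    have h1 := Groth.Agent.Lib.Helper52.TPowMain.s_mul_mul_s hrk θ s hs
    obtain ⟨F, h2⟩ := Groth.Agent.Lib.Helper52.TPowMain.exists_sum_eq_one hrk θ s hs
    haveI hfin := Groth.Agent.Lib.Helper52.TPowMorita.finite_leftIdeal s h3 h1 F h2
    haveI hproj := Groth.Agent.Lib.Helper52.TPowMorita.projective_leftIdeal s h3 h1 F h2
    exact ⟨Groth.Agent.Lib.Helper52.TPowMorita.leftIdeal R s, inferInstance, inferInstance, hfin,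
      hproj, Groth.Agent.Lib.Helper52.TPowMain.rankAtStalk_leftIdeal hrk θ s hs,
      ⟨AlgEquiv.ofBijective (Groth.Agent.Lib.Helper52.TPowMorita.actHom R s)
        (Groth.Agent.Lib.Helper52.TPowMorita.actHom_bijective s h3 h1 F h2)⟩⟩

end Groth.Agent.S13796
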