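import Groth.Statements.S13797
import Groth.Agent.Lib.Helper98.MatAutTwist

set_option autoImplicit false
universe u
open scoped TensorProduct
open Brauer

namespace Groth.Agent.S13797

/-- In the case of an affine scheme — let A be a commutative ring, n ≥ 1 and α an A-algebra automorphism
of the n × n matrix algebra over A. The A-module L of matrices M with M N = α(N) M for every matrix
N (the module of sections of the line bundle attached to the torsor of liftings of α to GL_n) is
invertible, and its class in the Picard group of A is n-torsion: the n-fold tensor power of L is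
isomorphic to A (existence of an isomorphism only). (The published statement is for an automorphism
of End(O^n) on any locally ringed site, in the form: the sheaf of liftings is a 𝔾_m-torsor whose
class in Pic is n-torsion; this row is the affine case.) -/
theorem result (A : Type u) [CommRing A] (n : ℕ) (hn : 0 < n)
    (α : Matrix (Fin n) (Fin n) A ≃ₐ[A] Matrix (Fin n) (Fin n) A) :
    Module.Invertible A
        (LinearMap.ker (LinearMap.mul A (Matrix (Fin n) (Fin n) A) -
          (LinearMap.lcomp A (Matrix (Fin n) (Fin n) A) α.toLinearMap).comp (LinearMap.mul A (Matrix (Fin n) (Fin n) A)).flip)) ∧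
      Nonempty ((⨂[A] _ : Fin n,
          LinearMap.ker (LinearMap.mul A (Matrix (Fin n) (Fin n) A) -
            (LinearMap.lcomp A (Matrix (Fin n) (Fin n) A) α.toLinearMap).comp (LinearMap.mul A (Matrix (Fin n) (Fin n) A)).flip)) ≃ₗ[A] A) := by
  rcases subsingleton_or_nontrivial A with hA | hA
  · have hsub : ∀ (X : Type u) [AddCommGroup X] [Module A X], Subsingleton X :=
      fun X _ _ => Module.subsingleton A X
    constructor
    · refine ⟨⟨fun a b _ => ?_, fun a => ⟨0, Subsingleton.elim _ _⟩⟩⟩
      have := hsub (Module.Dual A (LinearMap.ker (LinearMap.mul A (Matrix (Fin n) (Fin n) A) -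
          (LinearMap.lcomp A (Matrix (Fin n) (Fin n) A) α.toLinearMap).comp
            (LinearMap.mul A (Matrix (Fin n) (Fin n) A)).flip)) ⊗[A]
          (LinearMap.ker (LinearMap.mul A (Matrix (Fin n) (Fin n) A) -
          (LinearMap.lcomp A (Matrix (Fin n) (Fin n) A) α.toLinearMap).comp
            (LinearMap.mul A (Matrix (Fin n) (Fin n) A)).flip)))
      exact Subsingleton.elim _ _
    · have h1 := hsub (⨂[A] _ : Fin n,
          LinearMap.ker (LinearMap.mul A (Matrix (Fin n) (Fin n) A) -
            (LinearMap.lcomp A (Matrix (Fin n) (Fin n) A) α.toLinearMap).comp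
              (LinearMap.mul A (Matrix (Fin n) (Fin n) A)).flip))
      exact ⟨LinearEquiv.ofSubsingleton _ _⟩
  · exact Groth.Agent.Lib.Helper98.MatAutTwist.invertible_and_tensorPower hn α

end Groth.Agent.S13797
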