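import Groth.Statements.S13801
import Mathlib.Data.Nat.Choose.Multinomial
-- import your own Groth.Agent.* helpers here

set_option autoImplicit false
open ChowMon

namespace Groth.Agent.S13801

theorem sum_le {k : ℕ} (p : ℕ) [Fact p.Prime] (b : Fin k → ℕ) :
    ∑ i, padicValNat p (b i).factorial ≤ padicValNat p (∑ i, b i).factorial := by
  rw [← padicValNat_dvd_iff_le (Nat.factorial_ne_zero _), ← Finset.prod_pow_eq_pow_sum]
  exact (Finset.prod_dvd_prod_of_dvd _ _ (fun i _ => pow_padicValNat_dvd)).trans
    (Nat.prod_factorial_dvd_factorial_sum Finset.univ b)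

theorem val_factorial_pos (p : ℕ) [Fact p.Prime] {n : ℕ} (hn : 0 < n) :
    padicValNat p n.factorial = padicValNat p n + padicValNat p (n - 1).factorial := by
  obtain ⟨m, rfl⟩ : ∃ m, n = m + 1 := ⟨n - 1, by omega⟩
  rw [Nat.factorial_succ, padicValNat.mul (Nat.succ_ne_zero m) (Nat.factorial_ne_zero m)]
  simp

/-- For a prime p and positive natural numbers a_1, ..., a_k with sum n one has v_p(a_1!) + ... +
v_p(a_k!) ≤ v_p(n!), and the inequality is strict whenever some a_i is not divisible by p^(v_p(n)). -/
theorem result {k : ℕ} (p : ℕ) [Fact p.Prime]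
    (a : Fin k → ℕ) (ha : ∀ i, 0 < a i) :
    (∑ i, padicValNat p (a i).factorial ≤ padicValNat p (∑ i, a i).factorial) ∧
      ((∃ i, ¬ p ^ padicValNat p (∑ j, a j) ∣ a i) →
        ∑ i, padicValNat p (a i).factorial < padicValNat p (∑ i, a i).factorial) := by
  refine ⟨sum_le p a, ?_⟩
  rintro ⟨i, hi⟩
  have hai : a i ≠ 0 := (ha i).ne'
  have hlt : padicValNat p (a i) < padicValNat p (∑ j, a j) := by
    rw [padicValNat_dvd_iff_le hai] at hi
    omega
  have hle : a i ≤ ∑ j, a j := Finset.single_le_sum (f := a) (fun _ _ => Nat.zero_le _) (Finset.mem_univ i)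
  have hn : 0 < ∑ j, a j := lt_of_lt_of_le (ha i) hle
  have hb := sum_le p (Function.update a i (a i - 1))
  have hsum : ∑ j, Function.update a i (a i - 1) j = (∑ j, a j) - 1 := by
    rw [Finset.sum_update_of_mem (Finset.mem_univ i)]
    have := Finset.add_sum_erase Finset.univ a (Finset.mem_univ i)
    have h2 : (Finset.univ \ {i} : Finset (Fin k)) = Finset.univ.erase i := by
      ext j; simp
    rw [h2]
    have := ha i
    omega
  have hsum2 : ∑ j, padicValNat p (Function.update a i (a i - 1) j).factorial =
      padicValNat p (a i - 1).factorial + ∑ j ∈ Finset.univ.erase i, padicValNat p (a j).factorial := by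
    have h3 : ∀ j, padicValNat p (Function.update a i (a i - 1) j).factorial =
        Function.update (fun j => padicValNat p (a j).factorial) i (padicValNat p (a i - 1).factorial) j := by
      intro j
      by_cases hj : j = i
      · subst hj; simp
      · simp [Function.update_of_ne hj]
    simp_rw [h3]
    rw [Finset.sum_update_of_mem (Finset.mem_univ i)]
    have h2 : (Finset.univ \ {i} : Finset (Fin k)) = Finset.univ.erase i := by
      ext j; simp
    rw [h2]
  have hsum3 := Finset.add_sum_erase Finset.univ (fun j => padicValNat p (a j).factorial) (Finset.mem_univ i)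
  rw [hsum, hsum2] at hb
  rw [val_factorial_pos p hn, ← hsum3, val_factorial_pos p (ha i)]
  omega

end Groth.Agent.S13801
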