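import Groth.Statements.S13807
import Groth.Agent.Lib.Helper69.EtaPt

set_option autoImplicit false
universe u
open EtaPt

namespace Groth.Agent.S13807

/-- For a field K the pointwise ring M_η(K) is all of N_η(K) = F(k((0))). Here η is a natural
transformation from the identity of the category of fields to an endofunctor F with F(η_K) bijective
and η_K purely inseparable for every field K, N_η(A) is the product of the F(k(p)) over the primes p
of A with diagonal map t_A, and M_η(A) ⊆ N_η(A) is the subring of elements sent into the range of
t_R by every ring map from A to a valuation ring R at whose fraction field η is bijective; q_A : A →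
M_η(A) is the corestriction of t_A. -/
theorem result (η : EtaPt.FieldEndo.{u}) (K : Type u) [Field K] : η.M K = ⊤ := by
  open Groth.Agent.Lib.Helper69.EtaPt in
  rw [eq_top_iff]
  intro x _
  rw [mem_M_iff]
  intro R _ _ _ hR g
  -- the generic value of x
  set y0 : η.obj K := ev η (RingHom.id K) x with hy0
  have hev : ∀ (L : Type u) [Field L] (φ : K →+* L), ev η φ x = η.map φ y0 := by
    intro L _ φ
    rw [hy0, ← ev_comp, RingHom.comp_id]
  obtain ⟨n, z, hz⟩ := η.exists_pow_mem_range_eta K y0
  -- the value at the fraction field of R
  let ι : R →+* FractionRing R := algebraMap R (FractionRing R)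
  obtain ⟨w, hw⟩ := hR.2 (η.map (ι.comp g) y0)
  have hwpow : w ^ ringExpChar K ^ n = ι (g z) := by
    apply eta_injective η
    rw [map_pow, hw, ← map_pow, ← hz, eta_natural_apply]
    rfl
  have hwint : IsIntegral R w := by
    refine ⟨Polynomial.X ^ (ringExpChar K ^ n) - Polynomial.C (g z),
      Polynomial.monic_X_pow_sub_C _ ?_, ?_⟩
    · have : 0 < ringExpChar K := by
        unfold ringExpChar; exact lt_of_lt_of_le Nat.one_pos (le_max_right _ _)
      exact (pow_pos this n).ne'
    · simp [hwpow, ι]
  obtain ⟨r, hr⟩ := IsIntegrallyClosed.isIntegral_iff.mp hwint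
  have hrpow : r ^ ringExpChar K ^ n = g z := by
    apply IsFractionRing.injective R (FractionRing R)
    rw [map_pow, hr, hwpow]
  refine ⟨r, fun L _ ψ => ?_⟩
  rw [hev]
  apply pow_inj_of_ringHom ((η.eta L).comp (ψ.comp g)) n
  rw [← map_pow, ← hz, eta_natural_apply, ← map_pow, ← map_pow, hrpow]
  rfl

end Groth.Agent.S13807
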