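import Groth.Statements.S13808
import Groth.Agent.Lib.Helper69.EtaPt

set_option autoImplicit false
universe u
open EtaPt

namespace Groth.Agent.S13808

/-- For an integral domain A such that η is bijective at the fraction field of A, the projection of
N_η(A) onto its factor F(k((0))) at the generic point is injective on M_η(A). Here η is a natural
transformation from the identity of the category of fields to an endofunctor F with F(η_K) bijective
and η_K purely inseparable for every field K, N_η(A) is the product of the F(k(p)) over the primes p
of A with diagonal map t_A, and M_η(A) ⊆ N_η(A) is the subring of elements sent into the range of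
t_R by every ring map from A to a valuation ring R at whose fraction field η is bijective; q_A : A →
M_η(A) is the corestriction of t_A. -/
theorem result (η : EtaPt.FieldEndo.{u}) (A : Type u) [CommRing A] [IsDomain A] (hA : η.InV A) :
    Set.InjOn (fun x : η.N A => x ⟨⊥, Ideal.isPrime_bot⟩) (η.M A) := by
  open Groth.Agent.Lib.Helper69.EtaPt in
  intro x hx y hy hxy
  have hL : Function.Bijective (η.eta (⊥ : Ideal A).ResidueField) :=
    (inV_iff_of_isFractionRing η A _).mp hA
  funext p'
  refine apply_eq_of_ev_eq η hx hy (algebraMap A (⊥ : Ideal A).ResidueField) hL ?_ p' ?_
  · have h1 := apply_eq_ev η x ⟨⊥, Ideal.isPrime_bot⟩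
    have h2 := apply_eq_ev η y ⟨⊥, Ideal.isPrime_bot⟩
    rw [← h1, ← h2]
    exact hxy
  · rw [Ideal.ker_algebraMap_residueField]
    exact bot_le

end Groth.Agent.S13808
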