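import Groth.Statements.S13809
import Groth.Agent.Lib.Helper69.EtaPt

set_option autoImplicit false
universe u
open EtaPt

namespace Groth.Agent.S13809

/-- For an integrally closed domain A such that η is bijective at the fraction field of A, the map q_A :
A → M_η(A) is bijective. Here η is a natural transformation from the identity of the category of
fields to an endofunctor F with F(η_K) bijective and η_K purely inseparable for every field K,
N_η(A) is the product of the F(k(p)) over the primes p of A with diagonal map t_A, and M_η(A) ⊆
N_η(A) is the subring of elements sent into the range of t_R by every ring map from A to a valuation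
ring R at whose fraction field η is bijective; q_A : A → M_η(A) is the corestriction of t_A. -/
theorem result (η : EtaPt.FieldEndo.{u}) (A : Type u) [CommRing A] [IsDomain A] [IsIntegrallyClosed A]
    (hA : η.InV A) : Function.Bijective (η.q A) := by
  open Groth.Agent.Lib.Helper69.EtaPt in
  have hL : Function.Bijective (η.eta (⊥ : Ideal A).ResidueField) :=
    (inV_iff_of_isFractionRing η A _).mp hA
  let P0 : PrimeSpectrum A := ⟨⊥, Ideal.isPrime_bot⟩
  constructor
  · intro a b hab
    have h1 : η.t A a P0 = η.t A b P0 := by
      have := congrArg (fun z : η.M A => (z : η.N A) P0) hab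
      exact this
    rw [t_apply, t_apply] at h1
    exact IsFractionRing.injective A (⊥ : Ideal A).ResidueField (eta_injective η _ h1)
  · rintro ⟨x, hx⟩
    obtain ⟨z, hz⟩ := hL.2 (x P0)
    have hint : (algebraMap A (⊥ : Ideal A).ResidueField).IsIntegralElem z := by
      apply isIntegralElem_of_mem_M η hx _ hL z
      rw [hz]
      exact apply_eq_ev η x P0
    obtain ⟨a, ha⟩ := IsIntegrallyClosed.isIntegral_iff.mp hint
    refine ⟨a, Subtype.ext ?_⟩
    change η.t A a = x
    funext p'
    refine apply_eq_of_ev_eq η (η.t_mem_M A a) hx (algebraMap A (⊥ : Ideal A).ResidueField) hL ?_ p' ?_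
    · rw [ev_t, ha, hz]
      exact apply_eq_ev η x P0
    · rw [Ideal.ker_algebraMap_residueField]
      exact bot_le

end Groth.Agent.S13809
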