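import Groth.Statements.S13810
import Groth.Agent.Lib.Helper69.EtaPt

set_option autoImplicit false
universe u
open EtaPt

namespace Groth.Agent.S13810

open Groth.Agent.Lib.Helper69.EtaPt

section helpers

variable {A B T : Type u} [CommRing A] [CommRing B] [CommRing T]

/-- A ring map out of `A × B` killing `(0,1)` restricted to `A`. -/
def inlHom (χ : A × B →+* T) (h : χ (0, 1) = 0) : A →+* T where
  toFun a := χ (a, 0)
  map_one' := by
    have h1 : χ ((1 : A), (0 : B)) + χ (0, 1) = 1 := by
      rw [← map_add, Prod.mk_add_mk, add_zero, zero_add]; exact map_one χ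
    rw [h, add_zero] at h1; exact h1
  map_mul' a b := by rw [← map_mul, Prod.mk_mul_mk, mul_zero]
  map_zero' := map_zero χ
  map_add' a b := by rw [← map_add, Prod.mk_add_mk, add_zero]

def inrHom (χ : A × B →+* T) (h : χ (1, 0) = 0) : B →+* T where
  toFun b := χ (0, b)
  map_one' := by
    have h1 : χ ((1 : A), (0 : B)) + χ (0, 1) = 1 := by
      rw [← map_add, Prod.mk_add_mk, add_zero, zero_add]; exact map_one χ
    rw [h, zero_add] at h1; exact h1
  map_mul' a b := by rw [← map_mul, Prod.mk_mul_mk, mul_zero]
  map_zero' := map_zero χ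
  map_add' a b := by rw [← map_add, Prod.mk_add_mk, add_zero]

lemma inlHom_comp_fst (χ : A × B →+* T) (h : χ (0, 1) = 0) :
    (inlHom χ h).comp (RingHom.fst A B) = χ := by
  ext ⟨a, b⟩
  change χ (a, 0) = χ (a, b)
  have : ((a, b) : A × B) = (a, 0) + (0, 1) * (0, b) := by simp
  rw [this, map_add, map_mul, h, zero_mul, add_zero]

lemma inrHom_comp_snd (χ : A × B →+* T) (h : χ (1, 0) = 0) :
    (inrHom χ h).comp (RingHom.snd A B) = χ := by
  ext ⟨a, b⟩
  change χ (0, b) = χ (a, b)
  have : ((a, b) : A × B) = (0, b) + (1, 0) * (a, 0) := by simp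
  rw [this, map_add, map_mul, h, zero_mul, add_zero]

lemma zero_or_zero [IsDomain T] (χ : A × B →+* T) : χ (0, 1) = 0 ∨ χ (1, 0) = 0 := by
  have : χ (0, 1) * χ (1, 0) = 0 := by
    rw [← map_mul, Prod.mk_mul_mk, zero_mul, mul_zero]; exact map_zero χ
  exact mul_eq_zero.mp this

lemma one_zero_of_not {L : Type u} [Field L] (χ : A × B →+* L) (h : ¬ χ (0, 1) = 0) :
    χ (1, 0) = 0 := (zero_or_zero χ).resolve_left h

end helpers

section main

variable (η : EtaPt.FieldEndo.{u}) {A B : Type u} [CommRing A] [CommRing B]

/-- the glued family -/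
noncomputable def glue (a : η.N A) (b : η.N B) : η.N (A × B) := fun P =>
  open Classical in
  if h : algebraMap (A × B) P.asIdeal.ResidueField (0, 1) = 0 then
    ev η (inlHom (algebraMap (A × B) P.asIdeal.ResidueField) h) a
  else ev η (inrHom (algebraMap (A × B) P.asIdeal.ResidueField) (one_zero_of_not _ h)) b

lemma ev_glue_left (a : η.N A) (b : η.N B) {L : Type u} [Field L] (χ : A × B →+* L)
    (h : χ (0, 1) = 0) : ev η χ (glue η a b) = ev η (inlHom χ h) a := by
  have h0 : algebraMap (A × B) (kerPt χ).asIdeal.ResidueField (0, 1) = 0 := by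
    rw [Ideal.algebraMap_residueField_eq_zero]
    exact h
  rw [ev_apply]
  have : glue η a b (kerPt χ) = ev η (inlHom (algebraMap (A × B) _) h0) a := by
    unfold glue
    rw [dif_pos h0]
  rw [this, ← ev_comp]
  apply ev_congr
  ext x
  exact kerLift_algebraMap χ (x, 0)

lemma ev_glue_right (a : η.N A) (b : η.N B) {L : Type u} [Field L] (χ : A × B →+* L)
    (h : χ (1, 0) = 0) : ev η χ (glue η a b) = ev η (inrHom χ h) b := by
  have h1 : ¬ χ (0, 1) = 0 := by
    intro h'
    have h2 : χ ((1 : A), (0 : B)) + χ (0, 1) = 1 := by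
      rw [← map_add, Prod.mk_add_mk, add_zero, zero_add]; exact map_one χ
    rw [h, h', add_zero] at h2
    exact zero_ne_one h2
  have h0 : ¬ algebraMap (A × B) (kerPt χ).asIdeal.ResidueField (0, 1) = 0 := by
    rw [Ideal.algebraMap_residueField_eq_zero]
    exact h1
  rw [ev_apply]
  have : glue η a b (kerPt χ) = ev η (inrHom (algebraMap (A × B) _) (one_zero_of_not _ h0)) b := by
    unfold glue
    rw [dif_neg h0]
  rw [this, ← ev_comp]
  apply ev_congr
  ext x
  exact kerLift_algebraMap χ (0, x)

lemma ev_left (x : η.N (A × B)) {L : Type u} [Field L] (χ : A × B →+* L) (h : χ (0, 1) = 0) :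
    ev η χ x = ev η (inlHom χ h) (η.Nmap (RingHom.fst A B) x) := by
  rw [ev_Nmap, inlHom_comp_fst]

lemma ev_right (x : η.N (A × B)) {L : Type u} [Field L] (χ : A × B →+* L) (h : χ (1, 0) = 0) :
    ev η χ x = ev η (inrHom χ h) (η.Nmap (RingHom.snd A B) x) := by
  rw [ev_Nmap, inrHom_comp_snd]

end main

/-- For commutative rings A and B, the pair of maps N_η of the two projections restricts to a bijection
from M_η(A × B) onto M_η(A) × M_η(B). Here η is a natural transformation from the identity of the
category of fields to an endofunctor F with F(η_K) bijective and η_K purely inseparable for every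
field K, N_η(A) is the product of the F(k(p)) over the primes p of A with diagonal map t_A, and
M_η(A) ⊆ N_η(A) is the subring of elements sent into the range of t_R by every ring map from A to a
valuation ring R at whose fraction field η is bijective; q_A : A → M_η(A) is the corestriction of
t_A. -/
theorem result (η : EtaPt.FieldEndo.{u}) (A B : Type u) [CommRing A] [CommRing B] :
    Set.BijOn (fun x : η.N (A × B) => (η.Nmap (RingHom.fst A B) x, η.Nmap (RingHom.snd A B) x))
      (η.M (A × B)) ((η.M A : Set (η.N A)) ×ˢ (η.M B : Set (η.N B))) := by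
  refine ⟨?_, ?_, ?_⟩
  · intro x hx
    exact ⟨Nmap_mem_M η _ hx, Nmap_mem_M η _ hx⟩
  · intro x _ y _ hxy
    have h1 : η.Nmap (RingHom.fst A B) x = η.Nmap (RingHom.fst A B) y := congrArg Prod.fst hxy
    have h2 : η.Nmap (RingHom.snd A B) x = η.Nmap (RingHom.snd A B) y := congrArg Prod.snd hxy
    apply ext_ev
    intro P
    rcases zero_or_zero (algebraMap (A × B) P.asIdeal.ResidueField) with h | h
    · rw [ev_left η x _ h, ev_left η y _ h, h1]
    · rw [ev_right η x _ h, ev_right η y _ h, h2]
  · rintro ⟨a, b⟩ ⟨ha, hb⟩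
    have ha' : a ∈ η.M A := ha
    have hb' : b ∈ η.M B := hb
    refine ⟨glue η a b, ?_, ?_⟩
    · change glue η a b ∈ η.M (A × B)
      rw [mem_M_iff]
      intro R _ _ _ hR g
      rcases zero_or_zero g with h | h
      · obtain ⟨r, hr⟩ := (mem_M_iff η a).mp ha' R hR (inlHom g h)
        refine ⟨r, fun L _ ψ => ?_⟩
        have hψ : (ψ.comp g) (0, 1) = 0 := by rw [RingHom.comp_apply, h, map_zero]
        rw [ev_glue_left η a b _ hψ, ← hr L ψ]
        apply ev_congr
        ext x
        rfl
      · obtain ⟨r, hr⟩ := (mem_M_iff η b).mp hb' R hR (inrHom g h)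
        refine ⟨r, fun L _ ψ => ?_⟩
        have hψ : (ψ.comp g) (1, 0) = 0 := by rw [RingHom.comp_apply, h, map_zero]
        rw [ev_glue_right η a b _ hψ, ← hr L ψ]
        apply ev_congr
        ext x
        rfl
    · apply Prod.ext
      · apply ext_ev
        intro p
        change ev η _ (η.Nmap (RingHom.fst A B) (glue η a b)) = _
        rw [ev_Nmap]
        have h : ((algebraMap A p.asIdeal.ResidueField).comp (RingHom.fst A B)) (0, 1) = 0 := by
          simp
        rw [ev_glue_left η a b _ h]
        apply ev_congr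
        ext x
        rfl
      · apply ext_ev
        intro p
        change ev η _ (η.Nmap (RingHom.snd A B) (glue η a b)) = _
        rw [ev_Nmap]
        have h : ((algebraMap B p.asIdeal.ResidueField).comp (RingHom.snd A B)) (1, 0) = 0 := by
          simp
        rw [ev_glue_right η a b _ h]
        apply ev_congr
        ext x
        rfl

end Groth.Agent.S13810
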