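import Groth.Statements.S13814
import Groth.Agent.Lib.Helper69.EtaPtVal

set_option autoImplicit false
universe u
open EtaPt

namespace Groth.Agent.S13814

/-- Let R be a valuation ring with fraction field K = k((0)) such that η is bijective at K, or such that
every field of the same characteristic as R at which η is bijective is perfect. Then the ring M_η(R)
is again a valuation ring, every element of F(K) is a quotient of generic components of elements of
M_η(R), and an element of F(K) that is both the generic component of an element of M_η(R) and in the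
image of K comes from R. (The published statement assumes nothing about η beyond the standing
conditions, and then fails: for the endofunctor equal to the perfect closure on the fields of
characteristic 2 and transcendence degree at least 2 over the prime field and to the identity on
every other field, and R = F_2(s)[t] localised at (t), neither of the elements (s^(1/2) t, 0) and
(t, 0) of M_η(R) ⊆ F(K) × F_2(s) divides the other, so M_η(R) is not a valuation ring. This row
assumes that η is bijective at Frac R, or that every field of the same characteristic as R at which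
η is bijective is perfect; both the identity and the perfect closure satisfy this.) Here η is a
natural transformation from the identity of the category of fields to an endofunctor F with F(η_K)
bijective and η_K purely inseparable for every field K, N_η(A) is the product of the F(k(p)) over
the primes p of A with diagonal map t_A, and M_η(A) ⊆ N_η(A) is the subring of elements sent into
the range of t_R by every ring map from A to a valuation ring R at whose fraction field η is
bijective; q_A : A → M_η(A) is the corestriction of t_A. -/
theorem result (η : EtaPt.FieldEndo.{u}) (R : Type u) [CommRing R] [IsDomain R] [ValuationRing R]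
    (hη : η.InV R ∨ ∀ (k : Type u) [Field k], ringChar k = ringChar R →
      Function.Bijective (η.eta k) → PerfectField k) :
    IsDomain (η.M R) ∧ PreValuationRing (η.M R) ∧
      (∀ y : η.obj (⊥ : Ideal R).ResidueField, ∃ a b : η.M R,
        (b : η.N R) ⟨⊥, Ideal.isPrime_bot⟩ ≠ 0 ∧
          y * (b : η.N R) ⟨⊥, Ideal.isPrime_bot⟩ = (a : η.N R) ⟨⊥, Ideal.isPrime_bot⟩) ∧
      (fun x : η.N R => x ⟨⊥, Ideal.isPrime_bot⟩) '' (η.M R : Set (η.N R)) ∩
          Set.range (η.eta (⊥ : Ideal R).ResidueField) =
        Set.range ((η.eta (⊥ : Ideal R).ResidueField).comp (algebraMap R (⊥ : Ideal R).ResidueField)) := by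
  open Groth.Agent.Lib.Helper69.EtaPt in
  let π : η.M R →+* η.obj (botPt R).asIdeal.ResidueField :=
    (Pi.evalRingHom (fun p : PrimeSpectrum R => η.obj p.asIdeal.ResidueField) (botPt R)).comp
      (η.M R).subtype
  have hπ : Function.Injective π := by
    intro a b hab
    exact Subtype.ext (injOn_generic η R a.2 b.2 hab)
  have hsurj : ∀ z : η.obj (botPt R).asIdeal.ResidueField,
      (etaPt η (botPt R)).IsIntegralElem z → ∃ c : η.M R, π c = z := by
    intro z hz
    obtain ⟨x, hx, hxz⟩ := exists_mem_M_generic_eq η hη z hz
    exact ⟨⟨x, hx⟩, hxz⟩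
  have hfr : IsFractionRing R (botPt R).asIdeal.ResidueField :=
    inferInstanceAs (IsFractionRing R (⊥ : Ideal R).ResidueField)
  refine ⟨hπ.isDomain π, ⟨?_⟩, ?_, ?_⟩
  · intro a b
    by_cases hb : b = 0
    · exact ⟨0, Or.inl (by rw [hb, mul_zero])⟩
    by_cases ha : a = 0
    · exact ⟨0, Or.inr (by rw [ha, mul_zero])⟩
    have hπa : π a ≠ 0 := fun h => ha (hπ (by rw [h, map_zero]))
    have hπb : π b ≠ 0 := fun h => hb (hπ (by rw [h, map_zero]))
    rcases isIntegralElem_or_inv η R (π a / π b) with hz | hz
    · obtain ⟨c, hc⟩ := hsurj _ hz
      refine ⟨c, Or.inr (hπ ?_)⟩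
      rw [map_mul, hc, mul_div_cancel₀ _ hπb]
    · obtain ⟨c, hc⟩ := hsurj _ hz
      refine ⟨c, Or.inl (hπ ?_)⟩
      rw [map_mul, hc, inv_div, mul_div_cancel₀ _ hπa]
  · intro y
    rcases isIntegralElem_or_inv η R y with hz | hz
    · obtain ⟨c, hc⟩ := hsurj _ hz
      refine ⟨c, 1, ?_, ?_⟩
      · change π 1 ≠ 0
        rw [map_one]; exact one_ne_zero
      · change y * π 1 = π c
        rw [map_one, mul_one, hc]
    · by_cases hy : y = 0
      · refine ⟨0, 1, ?_, ?_⟩
        · change π 1 ≠ 0
          rw [map_one]; exact one_ne_zero
        · change y * π 1 = π 0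
          rw [hy, zero_mul, map_zero]
      · obtain ⟨c, hc⟩ := hsurj _ hz
        refine ⟨1, c, ?_, ?_⟩
        · change π c ≠ 0
          rw [hc]; exact inv_ne_zero hy
        · change y * π c = π 1
          rw [hc, mul_inv_cancel₀ hy, map_one]
  · ext y
    constructor
    · rintro ⟨⟨x, hx, rfl⟩, ⟨z, hz⟩⟩
      obtain ⟨P, hP, hPz⟩ := isIntegralElem_generic η R hx
      change Polynomial.eval₂ (etaPt η (botPt R)) (x (botPt R)) P = 0 at hPz
      have hz' : x (botPt R) = η.eta (botPt R).asIdeal.ResidueField z := hz.symm
      rw [hz'] at hPz
      have h2 : Polynomial.eval₂ (algebraMap R (botPt R).asIdeal.ResidueField) z P = 0 := by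
        apply eta_injective η
        rw [Polynomial.hom_eval₂, map_zero]
        exact hPz
      obtain ⟨r, hr⟩ := IsIntegrallyClosed.isIntegral_iff.mp (⟨P, hP, h2⟩ : IsIntegral R z)
      refine ⟨r, ?_⟩
      change η.eta _ (algebraMap R _ r) = x (botPt R)
      rw [hr, hz']
    · rintro ⟨r, rfl⟩
      exact ⟨⟨η.t R r, η.t_mem_M R r, rfl⟩, ⟨algebraMap R _ r, rfl⟩⟩

end Groth.Agent.S13814
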