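import Groth.Statements.S13820
import Groth.Agent.Lib.Helper69.EtaPtRel

set_option autoImplicit false
universe u
open EtaPt

namespace Groth.Agent.S13820

/-- Let A have finitely many minimal prime ideals and let B be an A-algebra with Spec B → Spec A
surjective, C the integral closure of A in B; then the inclusion C ⊆ B carries (C/A)_η onto (B/A)_η.
Here η is a natural transformation from the identity of the category of fields to an endofunctor F
with F(η_K) bijective and η_K purely inseparable for every field K, N_η(A) is the product of the
F(k(p)) over the primes p of A with diagonal map t_A, and M_η(A) ⊆ N_η(A) is the subring of elements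
sent into the range of t_R by every ring map from A to a valuation ring R at whose fraction field η
is bijective; q_A : A → M_η(A) is the corestriction of t_A. For a ring map f : A → B, (B/A)_η ⊆ B
denotes the subring of elements b with t_B(b) in N_η(f)(M_η(A)) (the image in B of the fibre product
of M_η(A) and B over M_η(B)), and q_{B/A} : A → (B/A)_η the corestriction of f. -/
theorem result (η : EtaPt.FieldEndo.{u}) (A B : Type u) [CommRing A] [CommRing B] [Algebra A B]
    (hA : (minimalPrimes A).Finite) (hs : Function.Surjective (PrimeSpectrum.comap (algebraMap A B))) :
    (η.rel (algebraMap A (integralClosure A B))).map (integralClosure A B).val.toRingHom =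
      η.rel (algebraMap A B) := by
  open Groth.Agent.Lib.Helper69.EtaPt in
  have hcomp : ((integralClosure A B).val.toRingHom).comp (algebraMap A (integralClosure A B)) =
      algebraMap A B := by
    ext a; rfl
  apply le_antisymm
  · rintro _ ⟨c, ⟨x, hx, hxc⟩, rfl⟩
    refine ⟨x, hx, ?_⟩
    rw [← hcomp, Nmap_comp, hxc, Nmap_t]
  · intro b hb
    -- every element of the relative ring is integral over A
    have hint : ∀ s : η.rel (algebraMap A B), (s : B) ∈ integralClosure A B := by
      intro s
      obtain ⟨p, hp, hps⟩ := isIntegral_qRel η (algebraMap A B) hs hA s
      refine ⟨p, hp, ?_⟩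
      have h1 := congrArg (η.rel (algebraMap A B)).subtype hps
      rw [Polynomial.hom_eval₂, map_zero] at h1
      exact h1
    let i : η.rel (algebraMap A B) →+* integralClosure A B :=
      { toFun := fun s => ⟨s.1, hint s⟩
        map_one' := rfl
        map_mul' := fun _ _ => rfl
        map_zero' := rfl
        map_add' := fun _ _ => rfl }
    have hi : i.comp (η.qRel (algebraMap A B)) = algebraMap A (integralClosure A B) := by
      ext a; rfl
    refine ⟨i ⟨b, hb⟩, ?_, rfl⟩
    refine ⟨(rho η (algebraMap A B) hs ⟨b, hb⟩ : η.M A), Subtype.mem _, ?_⟩
    rw [← hi, Nmap_comp, ← t_rel_eq η (algebraMap A B) hs hA, Nmap_t]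

end Groth.Agent.S13820
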