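import Groth.Statements.S13823
import Groth.Agent.Lib.Helper69.EtaPtRel

set_option autoImplicit false
universe u
open EtaPt

namespace Groth.Agent.S13823

/-- Let A → A' be faithfully flat with A and A' having finitely many minimal prime ideals, and let Ā, Ā'
be the integral closures of A, A' in their total rings of fractions; if q_{Ā'/A'} is bijective then
q_{Ā/A} is bijective. Here η is a natural transformation from the identity of the category of fields
to an endofunctor F with F(η_K) bijective and η_K purely inseparable for every field K, N_η(A) is
the product of the F(k(p)) over the primes p of A with diagonal map t_A, and M_η(A) ⊆ N_η(A) is the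
subring of elements sent into the range of t_R by every ring map from A to a valuation ring R at
whose fraction field η is bijective; q_A : A → M_η(A) is the corestriction of t_A. For a ring map f
: A → B, (B/A)_η ⊆ B denotes the subring of elements b with t_B(b) in N_η(f)(M_η(A)) (the image in B
of the fibre product of M_η(A) and B over M_η(B)), and q_{B/A} : A → (B/A)_η the corestriction of f. -/
theorem result (η : EtaPt.FieldEndo.{u}) (A A' : Type u) [CommRing A] [CommRing A'] [Algebra A A'] [Module.FaithfullyFlat A A']
    (hA : (minimalPrimes A).Finite) (hA' : (minimalPrimes A').Finite)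
    (h : Function.Bijective (η.qRel (algebraMap A' (integralClosure A' (FractionRing A'))))) :
    Function.Bijective (η.qRel (algebraMap A (integralClosure A (FractionRing A)))) := by
  open Groth.Agent.Lib.Helper69.EtaPt in
  classical
  let F := FractionRing A
  let F' := FractionRing A'
  let ι : A →+* F := algebraMap A F
  let ι' : A' →+* F' := algebraMap A' F'
  have hι : Function.Injective ι := IsFractionRing.injective A F
  have hι' : Function.Injective ι' := IsFractionRing.injective A' F'
  -- nonzerodivisors stay nonzerodivisors
  have hle : nonZeroDivisors A ≤ (nonZeroDivisors A').comap (algebraMap A A') := by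
    intro r hr
    have h1 : IsSMulRegular A' r := Module.Flat.isSMulRegular_of_nonZeroDivisors hr
    rw [Submonoid.mem_comap, mem_nonZeroDivisors_iff_right]
    intro z hz
    apply h1
    simp only [smul_zero]
    rw [Algebra.smul_def, mul_comm]
    exact hz
  let j : F →+* F' := IsLocalization.map F' (algebraMap A A') hle
  have hj : ∀ a : A, j (ι a) = ι' (algebraMap A A' a) := fun a => IsLocalization.map_eq hle a
  -- j maps integral elements to integral elements
  have hjint : ∀ c : integralClosure A F, j c ∈ integralClosure A' F' := by
    rintro ⟨c, P, hP, hPc⟩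
    refine ⟨P.map (algebraMap A A'), hP.map _, ?_⟩
    rw [Polynomial.eval₂_map]
    have h1 : Polynomial.eval₂ (j.comp ι) (j c) P = 0 := by
      rw [← Polynomial.hom_eval₂]
      change j (Polynomial.eval₂ ι c P) = 0
      rw [show Polynomial.eval₂ ι c P = 0 from hPc, map_zero]
    have h2 : j.comp ι = (algebraMap A' F').comp (algebraMap A A') := RingHom.ext hj
    rw [h2] at h1
    exact h1
  let u : integralClosure A F →+* integralClosure A' F' :=
    { toFun := fun c => ⟨j c, hjint c⟩
      map_one' := Subtype.ext (map_one j)
      map_mul' := fun a b => Subtype.ext (map_mul j (a : F) (b : F))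
      map_zero' := Subtype.ext (map_zero j)
      map_add' := fun a b => Subtype.ext (map_add j (a : F) (b : F)) }
  have hu : u.comp (algebraMap A (integralClosure A F)) =
      (algebraMap A' (integralClosure A' F')).comp (algebraMap A A') := by
    refine RingHom.ext fun a => Subtype.ext ?_
    exact hj a
  constructor
  · intro a₁ a₂ h12
    have h1 : algebraMap A (integralClosure A F) a₁ = algebraMap A (integralClosure A F) a₂ :=
      congrArg Subtype.val h12
    have h2 : ι a₁ = ι a₂ := congrArg Subtype.val h1
    exact hι h2
  · rintro ⟨c, x, hx, hxc⟩
    have huc : u c ∈ η.rel (algebraMap A' (integralClosure A' F')) := by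
      refine ⟨η.Nmap (algebraMap A A') x, Nmap_mem_M η _ hx, ?_⟩
      rw [← Nmap_comp, ← hu, Nmap_comp, hxc, Nmap_t]
    obtain ⟨a', ha'⟩ := h.2 ⟨u c, huc⟩
    have ha'' : ι' a' = j c := by
      have := congrArg Subtype.val ha'
      exact congrArg Subtype.val this
    obtain ⟨a, ⟨s, hs⟩, hcs⟩ := IsLocalization.exists_mk'_eq (nonZeroDivisors A) (c : F)
    have hspec : (c : F) * ι s = ι a := by
      rw [← hcs]; exact IsLocalization.mk'_spec F a ⟨s, hs⟩
    have h3 : a' * algebraMap A A' s = algebraMap A A' a := by
      apply hι'
      rw [map_mul, ha'', ← hj, ← hj, ← map_mul, hspec]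
    have h4 : a ∈ Ideal.span {s} := by
      rw [← Ideal.comap_map_eq_self_of_faithfullyFlat (B := A') (Ideal.span {s}), Ideal.mem_comap,
        Ideal.map_span, Set.image_singleton, Ideal.mem_span_singleton]
      exact ⟨a', by rw [mul_comm, h3]⟩
    obtain ⟨a₀, ha₀⟩ := Ideal.mem_span_singleton.mp h4
    refine ⟨a₀, Subtype.ext (Subtype.ext ?_)⟩
    change ι a₀ = (c : F)
    have hunit : IsUnit (ι s) := IsLocalization.map_units F ⟨s, hs⟩
    apply hunit.mul_left_injective
    change ι a₀ * ι s = (c : F) * ι s
    rw [hspec, ha₀, map_mul, mul_comm]

end Groth.Agent.S13823
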