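import Groth.Statements.S13826
import Groth.Agent.Lib.Helper69.EtaPtSN

set_option autoImplicit false
universe u
open EtaPt

namespace Groth.Agent.S13826

/-- For the identity endofunctor and a commutative ring A with finitely many minimal prime ideals, q_A :
A → M(A) is a seminormalization of A: Spec(q_A) is a universal homeomorphism with trivial residue
field extensions, final among ring maps out of A with these properties. Here M(A) ⊆ ∏_p k(p) is the
subring of families whose image in ∏_q k(q), for every ring map from A to a valuation ring R, is the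
diagonal image of an element of R. -/
theorem result (A : Type u) [CommRing A] (hA : (minimalPrimes A).Finite) :
    HTop.IsRingSN (EtaPt.FieldEndo.ident.{u}.q A) := by
  open Groth.Agent.Lib.Helper69.EtaPt Groth.Agent.Lib.Helper69 in
  let η := EtaPt.FieldEndo.ident.{u}
  refine ⟨⟨?_, ?_⟩, ?_⟩
  · exact SpecResidue.isUnivHomeo_SpecMap_of (η.q A) (isIntegral_q η hA)
      (comap_q_bijective η hA).2
      (fun K _ χ₁ χ₂ h => fieldPt_ext_of_bijective_Nmap η (η.q A) (bijective_Nmap_q η hA) h)
  · rw [SpecResidue.residueFieldsIso_SpecMap_iff]
    intro Q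
    obtain ⟨φ, hφ, -⟩ := exists_residue_factor η hA Q
    exact bijective_of_comp_eq_id _ φ hφ
  · intro C _ ψ h1 h2
    obtain ⟨hint, hN⟩ := isIntegral_and_bijective_Nmap_of_univHomeo ψ h1 h2
    exact existsUnique_lift_q η ψ hint hN

end Groth.Agent.S13826
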