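import Groth.Statements.S13830
import Groth.Agent.Lib.Helper69.EtaPtSN

set_option autoImplicit false
universe u
open AlgebraicGeometry
open EtaPt

namespace Groth.Agent.S13830

/-- For the identity endofunctor, a commutative ring A with finitely many minimal prime ideals and an
A-algebra B with Spec B → Spec A surjective, the subring (B/A) ⊆ B (elements b whose residue classes
(b mod q)_q come from a family in M(A) ⊆ ∏_p k(p), M(A) being the families that come from an element
of R after any base change to a valuation ring R) is the seminormalization of A in B: Spec (B/A) →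
Spec A is a universal homeomorphism with trivial residue field extensions, and every A-subalgebra C
of B with these two properties is contained in (B/A). -/
theorem result (A B : Type u) [CommRing A] [CommRing B] [Algebra A B] (hA : (minimalPrimes A).Finite)
    (hs : Function.Surjective (PrimeSpectrum.comap (algebraMap A B))) :
    (FlatMor.IsUnivHomeo (Spec.map (CommRingCat.ofHom (EtaPt.FieldEndo.ident.{u}.qRel (algebraMap A B)))) ∧
      HTop.ResidueFieldsIso (Spec.map (CommRingCat.ofHom (EtaPt.FieldEndo.ident.{u}.qRel (algebraMap A B))))) ∧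
    ∀ C : Subalgebra A B,
      FlatMor.IsUnivHomeo (Spec.map (CommRingCat.ofHom (algebraMap A C))) →
      HTop.ResidueFieldsIso (Spec.map (CommRingCat.ofHom (algebraMap A C))) →
      C.toSubring ≤ EtaPt.FieldEndo.ident.{u}.rel (algebraMap A B) := by
  open Groth.Agent.Lib.Helper69.EtaPt Groth.Agent.Lib.Helper69 in
  let η := EtaPt.FieldEndo.ident.{u}
  refine ⟨⟨?_, ?_⟩, ?_⟩
  · exact SpecResidue.isUnivHomeo_SpecMap_of (η.qRel (algebraMap A B))
      (isIntegral_qRel η (algebraMap A B) hs hA)
      (comap_qRel_bijective η (algebraMap A B) hs hA).2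
      (fun K _ χ₁ χ₂ h => fieldPt_ext_of_bijective_Nmap η (η.qRel (algebraMap A B))
        (bijective_Nmap_qRel η (algebraMap A B) hs hA) h)
  · rw [SpecResidue.residueFieldsIso_SpecMap_iff]
    intro Q
    obtain ⟨φ, hφ⟩ := exists_residue_factor_rel η (algebraMap A B) hs hA Q
    exact bijective_of_comp_eq_id _ φ hφ
  · intro C h1 h2
    obtain ⟨hint, hN⟩ := isIntegral_and_bijective_Nmap_of_univHomeo (algebraMap A C) h1 h2
    intro b hb
    obtain ⟨x, hx, hxb⟩ := (bijOn_Nmap_M η (algebraMap A C) hint hN).2.2
      (η.t_mem_M C ⟨b, hb⟩)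
    refine ⟨x, hx, ?_⟩
    have hcomp : (C.val.toRingHom).comp (algebraMap A C) = algebraMap A B := by
      ext a; rfl
    rw [← hcomp, Nmap_comp, hxb, Nmap_t]
    rfl

end Groth.Agent.S13830
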