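import Groth.Statements.S13834
import Groth.Agent.Lib.Helper70.IrrComp
import Groth.Agent.Lib.Helper70.UnramFlat

set_option autoImplicit false
universe u
open AlgebraicGeometry
open EtaPt

namespace Groth.Agent.S13834

open CategoryTheory Groth.Agent.Lib.Helper70.IrrComp Groth.Agent.Lib.Helper70.UnramFlat

lemma finite_irrComp_affine {Y X : Scheme.{u}} (f : Y ⟶ X) [Flat f] [LocallyOfFinitePresentation f]
    {U : X.Opens} (hU : IsAffineOpen U) {W : Y.Opens} (hW : IsAffineOpen W) (e : W ≤ f ⁻¹ᵁ U)
    (hfinU : (irreducibleComponents (U : Type u)).Finite) :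
    (irreducibleComponents (W : Type u)).Finite := by
  have hfinSpec : (irreducibleComponents (PrimeSpectrum Γ(X, U))).Finite :=
    finite_irreducibleComponents_of_isOpenEmbedding
      (f := hU.isoSpec.inv) (hU.isoSpec.inv.homeomorph).isOpenEmbedding hfinU
  have hfinA : (minimalPrimes Γ(X, U)).Finite := by
    rw [← PrimeSpectrum.vanishingIdeal_irreducibleComponents]
    exact hfinSpec.image _
  have h1 := f.finiteType_appLE hU hW e
  have h2 : (f.appLE U W e).hom.Flat :=
    HasRingHomProperty.appLE (P := @Flat) f inferInstance ⟨U, hU⟩ ⟨W, hW⟩ e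
  algebraize [(f.appLE U W e).hom]
  have hfinB : (minimalPrimes Γ(Y, W)).Finite :=
    finite_minimalPrimes_of_flat_of_finiteType (A := Γ(X, U)) (B := Γ(Y, W)) hfinA
  have hfinSpecB : (irreducibleComponents (PrimeSpectrum Γ(Y, W))).Finite := by
    rw [← PrimeSpectrum.zeroLocus_minimalPrimes]
    exact hfinB.image _
  exact finite_irreducibleComponents_of_isOpenEmbedding
    (f := hW.isoSpec.hom) (hW.isoSpec.hom.homeomorph).isOpenEmbedding hfinSpecB

/-- If f : Y → X is faithfully flat and locally of finite presentation and each quasi-compact open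
subset of X has only finitely many irreducible components, the same is true of each quasi-compact
open subset of Y. -/
theorem result {Y X : Scheme.{u}} (f : Y ⟶ X) [Flat f] [LocallyOfFinitePresentation f] [Surjective f]
    (hX : ∀ U : X.Opens, IsCompact (U : Set X) → (irreducibleComponents (U : Type u)).Finite)
    (V : Y.Opens) (hV : IsCompact (V : Set Y)) : (irreducibleComponents (V : Type u)).Finite := by
  -- local affine data
  have key : ∀ y ∈ (V : Set Y), ∃ W : Y.Opens, y ∈ W ∧ W ≤ V ∧
      (irreducibleComponents (W : Type u)).Finite := by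
    intro y hy
    obtain ⟨_, ⟨U, hU, rfl⟩, hxU, -⟩ :=
      X.isBasis_affineOpens.exists_subset_of_mem_open (Set.mem_univ (f y)) isOpen_univ
    obtain ⟨_, ⟨W, hW, rfl⟩, hyW, hWsub⟩ :=
      Y.isBasis_affineOpens.exists_subset_of_mem_open
        (show y ∈ ((V ⊓ f ⁻¹ᵁ U : Y.Opens) : Set Y) from ⟨hy, hxU⟩) (V ⊓ f ⁻¹ᵁ U).2
    refine ⟨W, hyW, fun z hz => (hWsub hz).1, ?_⟩
    exact finite_irrComp_affine f hU hW (fun z hz => (hWsub hz).2) (hX U hU.isCompact)
  choose! W hyW hWV hWfin using key
  obtain ⟨t, htV, hcover⟩ := hV.elim_nhds_subcover (fun y => (W y : Set Y))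
    (fun y hy => (W y).2.mem_nhds (hyW y hy))
  -- apply the finite cover lemma on the subspace `V`
  have : Finite t := inferInstance
  refine finite_irreducibleComponents_of_finite_cover (X := (V : Type u)) (ι := t)
    (fun y => {v : V | v.1 ∈ W y.1}) ?_ ?_
  · intro v
    have := hcover v.2
    simp only [Set.mem_iUnion, exists_prop] at this
    obtain ⟨y, hyt, hvy⟩ := this
    exact ⟨⟨y, hyt⟩, hvy⟩
  · intro y
    have hyV := htV y.1 y.2
    -- the subspace is homeomorphic to `W y`
    let g : {v : V | v.1 ∈ W y.1} → (W y.1 : Type u) := fun v => ⟨v.1.1, v.2⟩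
    have hgc : Continuous g :=
      Continuous.subtype_mk (continuous_subtype_val.comp continuous_subtype_val) _
    have hemb : Topology.IsEmbedding g := by
      refine Topology.IsEmbedding.of_comp hgc continuous_subtype_val ?_
      have h2 := (Topology.IsEmbedding.subtypeVal (p := fun z : ↥Y => z ∈ V)).comp
        (Topology.IsEmbedding.subtypeVal (p := fun v : V => v.1 ∈ W y.1))
      exact h2
    have hsurj : Function.Surjective g := by
      intro w
      exact ⟨⟨⟨w.1, hWV y.1 hyV w.2⟩, w.2⟩, rfl⟩
    have hg : Topology.IsOpenEmbedding g :=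
      ⟨hemb, by rw [hsurj.range_eq]; exact isOpen_univ⟩
    exact finite_irreducibleComponents_of_isOpenEmbedding hg (hWfin y.1 hyV)

end Groth.Agent.S13834
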