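import Groth.Statements.S13838
import Groth.Agent.Lib.Helper69.SpecResidue2

set_option autoImplicit false
universe u
open AlgebraicGeometry
open HTop

namespace Groth.Agent.S13838

/-- Let A ⊆ B be an integral ring extension where A and B have finitely many minimal prime ideals, such
that every prime p of A has a prime q of B above it for which k(p) is closed under extracting
p-power roots inside k(q) (the purely inseparable closure of k(p) in k(q) is k(p)); then the semi-
and weak normalizations of A in B coincide: every A-subalgebra C of B with Spec C → Spec A a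
universal homeomorphism already induces isomorphisms on residue fields. -/
theorem result (A B : Type u) [CommRing A] [CommRing B] [Algebra A B] (hinj : Function.Injective (algebraMap A B))
    [Algebra.IsIntegral A B] (hA : (minimalPrimes A).Finite) (hB : (minimalPrimes B).Finite)
    (hpi : ∀ p : PrimeSpectrum A, ∃ q : PrimeSpectrum B, ∃ hq : p.asIdeal = Ideal.comap (algebraMap A B) q.asIdeal,
      ∀ x : q.asIdeal.ResidueField,
        (∃ n : ℕ, x ^ ringExpChar p.asIdeal.ResidueField ^ n ∈
            Set.range (Ideal.ResidueField.map p.asIdeal q.asIdeal (algebraMap A B) hq)) →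
        x ∈ Set.range (Ideal.ResidueField.map p.asIdeal q.asIdeal (algebraMap A B) hq)) :
    ∀ C : Subalgebra A B, FlatMor.IsUnivHomeo (Spec.map (CommRingCat.ofHom (algebraMap A C))) →
      HTop.ResidueFieldsIso (Spec.map (CommRingCat.ofHom (algebraMap A C))) := by
  intro C hC
  rw [Groth.Agent.Lib.Helper69.SpecResidue.residueFieldsIso_SpecMap_iff]
  intro Q
  obtain ⟨-, hbij⟩ := Groth.Agent.Lib.Helper69.SpecResidue.of_isUnivHomeo_SpecMap _ hC
  have hpts := Groth.Agent.Lib.Helper69.SpecResidue.fieldPts_of_isUnivHomeo_SpecMap _ hC
  obtain ⟨q, hq, hcl⟩ := hpi (PrimeSpectrum.comap (algebraMap A C) Q)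
  have hQ : PrimeSpectrum.comap (C.val : C →+* B) q = Q := by
    apply hbij.1
    apply PrimeSpectrum.ext
    rw [hq]
    rfl
  subst hQ
  exact Groth.Agent.Lib.Helper69.SpecResidue.bijective_map_of_tower (algebraMap A C)
    (C.val : C →+* B) (algebraMap A B) rfl q hq
    (Groth.Agent.Lib.Helper69.SpecResidue.pow_mem_range_map_of_fieldPts _ hpts _) hcl

end Groth.Agent.S13838
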