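import Groth.Statements.S13841
import Groth.Agent.Lib.Helper59.PrimeFactors

set_option autoImplicit false
universe u v
open scoped TensorProduct
open Brauer

namespace Groth.Agent.S13841

/-- Let k be a field and A a finite-dimensional central simple k-algebra of period n. Then A has index n
if and only if there is a finite field extension k' of k of degree coprime to n such that the index
of the k'-algebra k' ⊗_k A divides n. (The published statement is for a class of period n in H²(X,
G_m) on a scheme X over k; this row is the case where X is the spectrum of k.) -/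
theorem result (k : Type u) [Field k] (A : Type v) [Ring A] [Algebra k A]
    [Algebra.IsCentral k A] [IsSimpleRing A] [FiniteDimensional k A] (n : ℕ) (hper : CSAGal.IsPeriod k A n) :
    CSAGal.IsIndex k A n ↔
      ∃ (k' : Type u) (_ : Field k') (_ : Algebra k k') (_ : FiniteDimensional k k'),
        Nat.Coprime n (Module.finrank k k') ∧ ∃ d' : ℕ, CSAGal.IsIndex k' (k' ⊗[k] A) d' ∧ d' ∣ n := by
  have hcsa : Groth.Agent.Lib.Helper59.TPow.IsCSA k A := Groth.Agent.Lib.Helper59.TPow.isCSA_of k A
  have hn0 : 0 < n := hper.1
  have hnS : n ∈ Groth.Agent.Lib.Helper59.BrauerCalc.splitExp k A :=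
    (Groth.Agent.Lib.Helper59.BrauerCalc.isPeriod_iff.mp hper).2.1
  constructor
  · intro hidx
    refine ⟨k, inferInstance, inferInstance, inferInstance, ?_, ?_⟩
    · rw [Module.finrank_self]; exact Nat.coprime_one_right n
    · obtain ⟨d', hd'⟩ := Groth.Agent.Lib.Helper59.PrimeFactors.exists_isIndex (hcsa.baseChange k)
      have := Groth.Agent.Lib.Helper59.PrimeFactors.isIndex_unique
        (Algebra.TensorProduct.lid k A).symm hidx hd'
      exact ⟨d', hd', this ▸ dvd_rfl⟩
  · rintro ⟨k', _, _, _, hcop, d', hd', hdn⟩
    obtain ⟨d, hd⟩ := Groth.Agent.Lib.Helper59.PrimeFactors.exists_isIndex hcsa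
    have h1 := (Groth.Agent.Lib.Helper59.PrimeFactors.index_dvd_index_baseChange hcsa hd hn0 hnS k'
      hcop hd').1.trans hdn
    have h2 : n ∣ d := by
      obtain ⟨hd0, m, D, _, _, hm, hdim, ⟨iso⟩⟩ := hd
      have : FiniteDimensional k D := by
        apply Module.finite_of_finrank_pos
        rw [hdim]; positivity
      exact (Groth.Agent.Lib.Helper59.BrauerCalc.mem_splitExp_iff_dvd hcsa hper d).mp
        (Groth.Agent.Lib.Helper59.PeriodIndex.isSplit_tpow_index hcsa iso hdim)
    have : d = n := Nat.dvd_antisymm h1 h2
    exact this ▸ hd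

end Groth.Agent.S13841
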