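import Groth.Statements.S13843
import Groth.Agent.Lib.Helper70.TraceCoh
import Groth.Agent.Lib.Helper70.TraceCount
import Groth.Agent.Lib.Helper70.HpullComp
import Groth.Agent.Lib.Helper70.GalClosure
import Groth.Agent.S0101

set_option autoImplicit false
universe u
open CategoryTheory CategoryTheory.Limits AlgebraicGeometry
open GalCoh

namespace Groth.Agent.S13843

open Groth.Agent.Lib.Helper70.GalClosure Groth.Agent.Lib.Helper70.HpullComp in
theorem aux (K : Type u) [Field K] (F : EtCoh.Ab (Spec (CommRingCat.of K))) (i : ℕ)
    (α : EtCoh.H (Spec (CommRingCat.of K)) F i) (L : Type u) [Field L] [Algebra K L]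
    [FiniteDimensional K L] [Algebra.IsSeparable K L]
    [PreservesFiniteLimits (EtCoh.pull (Spec.map (CommRingCat.ofHom (algebraMap K L))))]
    (hα : EtCore.Hpull (Spec.map (CommRingCat.ofHom (algebraMap K L))) F i α = 0) (p : ℕ)
    [hp : Fact p.Prime] (hpα : ¬ p ∣ addOrderOf α) :
    ∃ (L' : Type u) (_ : Field L') (_ : Algebra K L') (_ : FiniteDimensional K L')
      (_ : Algebra.IsSeparable K L'),
      ¬ p ∣ Module.finrank K L' ∧
        ∀ [PreservesFiniteLimits (EtCoh.pull (Spec.map (CommRingCat.ofHom (algebraMap K L'))))],
          EtCore.Hpull (Spec.map (CommRingCat.ofHom (algebraMap K L'))) F i α = 0 := by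
  classical
  let P : Sylow p ((NN K L) ≃ₐ[K] (NN K L)) := default
  let L' : IntermediateField K (NN K L) :=
    IntermediateField.fixedField (P : Subgroup ((NN K L) ≃ₐ[K] (NN K L)))
  refine ⟨L', inferInstance, inferInstance, inferInstance, inferInstance, ?_, ?_⟩
  · rw [IntermediateField.finrank_eq_fixingSubgroup_index,
      IntermediateField.fixingSubgroup_fixedField]
    exact P.not_dvd_index
  · intro inst
    -- the four morphisms
    have hexact : ∀ {A B : Scheme.{u}} (f : A ⟶ B), PreservesFiniteLimits (EtCoh.pull f) :=
      fun f => Groth.Agent.S0101.result f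
    haveI := hexact (Spec.map (CommRingCat.ofHom (algebraMap L (NN K L))))
    haveI := hexact (Spec.map (CommRingCat.ofHom (algebraMap L' (NN K L))))
    haveI := hexact (Spec.map (CommRingCat.ofHom (algebraMap L (NN K L))) ≫
      Spec.map (CommRingCat.ofHom (algebraMap K L)))
    haveI := hexact (Spec.map (CommRingCat.ofHom (algebraMap L' (NN K L))) ≫
      Spec.map (CommRingCat.ofHom (algebraMap K L')))
    have hsq : Spec.map (CommRingCat.ofHom (algebraMap L (NN K L))) ≫
        Spec.map (CommRingCat.ofHom (algebraMap K L)) =
        Spec.map (CommRingCat.ofHom (algebraMap L' (NN K L))) ≫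
          Spec.map (CommRingCat.ofHom (algebraMap K L')) := by
      rw [← Spec.map_comp, ← Spec.map_comp, ← CommRingCat.ofHom_comp, ← CommRingCat.ofHom_comp,
        ← IsScalarTower.algebraMap_eq, ← IsScalarTower.algebraMap_eq]
    -- the class dies over the Galois closure
    have h1 : EtCore.Hpull (Spec.map (CommRingCat.ofHom (algebraMap L (NN K L))) ≫
        Spec.map (CommRingCat.ofHom (algebraMap K L))) F i α = 0 := by
      rw [Hpull_comp_eq_zero_iff, hα, map_zero]
    have h2 := (Hpull_congr hsq F i α).mp h1
    rw [Hpull_comp_eq_zero_iff] at h2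
    -- hence its restriction to the fixed field is killed by a power of `p`
    haveI := Groth.Agent.Lib.Helper70.TraceCount.isFinite_specMap_field L' (NN K L)
    haveI := Groth.Agent.Lib.Helper70.TraceCount.etale_specMap_field L' (NN K L)
    have h3 := Groth.Agent.Lib.Helper70.TraceCoh.nsmul_eq_zero_of_Hpull_eq_zero
      (Spec.map (CommRingCat.ofHom (algebraMap L' (NN K L)))) (Module.finrank L' (NN K L))
      (fun Ω _ _ η => Groth.Agent.Lib.Helper70.TraceCount.card_J_field L' (NN K L) η) _ i _ h2
    obtain ⟨k, hk⟩ := (P.2 : IsPGroup p P).exists_card_eq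
    rw [IntermediateField.finrank_fixedField_eq_card, hk] at h3
    -- and by the order of `α`
    have h4 : addOrderOf α •
        EtCore.Hpull (Spec.map (CommRingCat.ofHom (algebraMap K L'))) F i α = 0 := by
      rw [← map_nsmul, addOrderOf_nsmul_eq_zero, map_zero]
    have d1 := addOrderOf_dvd_of_nsmul_eq_zero h3
    have d2 := addOrderOf_dvd_of_nsmul_eq_zero h4
    have hcop : Nat.Coprime (p ^ k) (addOrderOf α) :=
      Nat.Coprime.pow_left k ((Nat.Prime.coprime_iff_not_dvd hp.out).mpr hpα)
    exact AddMonoid.addOrderOf_eq_one_iff.mp (Nat.eq_one_of_dvd_coprimes hcop d1 d2)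

/-- Let K be a field, F an abelian sheaf on the small étale site of Spec K, i > 0 and α a class in
H^i(Spec K, F) which pulls back to zero over some finite separable field extension L of K. If p is a
prime not dividing the order of α, then there is a finite separable field extension L' of K whose
degree is not divisible by p and over which α pulls back to zero. Hence the period and the index of
α have the same prime factors. (Exactness of pullback of abelian sheaves, which always holds, is
carried as an instance hypothesis, in the conclusion for every such instance.) -/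
theorem result (K : Type u) [Field K] (F : EtCoh.Ab (Spec (CommRingCat.of K))) (i : ℕ)
    (hi : 0 < i) (α : EtCoh.H (Spec (CommRingCat.of K)) F i) (L : Type u) [Field L] [Algebra K L] [FiniteDimensional K L]
    [Algebra.IsSeparable K L] [PreservesFiniteLimits (EtCoh.pull (Spec.map (CommRingCat.ofHom (algebraMap K L))))]
    (hα : EtCore.Hpull (Spec.map (CommRingCat.ofHom (algebraMap K L))) F i α = 0) (p : ℕ) (hp : p.Prime) (hpα : ¬ p ∣ addOrderOf α) :
    ∃ (L' : Type u) (_ : Field L') (_ : Algebra K L') (_ : FiniteDimensional K L') (_ : Algebra.IsSeparable K L'),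
      ¬ p ∣ Module.finrank K L' ∧
        ∀ [PreservesFiniteLimits (EtCoh.pull (Spec.map (CommRingCat.ofHom (algebraMap K L'))))],
          EtCore.Hpull (Spec.map (CommRingCat.ofHom (algebraMap K L'))) F i α = 0 := by
  classical
  haveI : Fact p.Prime := ⟨hp⟩
  exact Groth.Agent.S13843.aux K F i α L hα p hpα

end Groth.Agent.S13843
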