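import Groth.Statements.S7605
import Mathlib
import Groth.Agent.Lib.Helper62.BCStalk

set_option autoImplicit false
set_option linter.style.haveILetI false
universe u
open CategoryTheory CategoryTheory.Limits AlgebraicGeometry
open Variety

namespace Groth.Agent.S7605

open TensorProduct Groth.Agent.Lib.Helper62

/-- noetherianity descends along a faithfully flat ring map. -/
theorem isNoetherianRing_of_faithfullyFlat (A B : Type*) [CommRing A] [CommRing B] [Algebra A B]
    [Module.FaithfullyFlat A B] [IsNoetherianRing B] : IsNoetherianRing A := by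
  rw [isNoetherianRing_iff, isNoetherian_iff'] at *
  have hsm : StrictMono (Ideal.map (algebraMap A B)) :=
    Monotone.strictMono_of_injective (fun _ _ h => Ideal.map_mono h)
      Ideal.map_injective_of_faithfullyFlat
  exact hsm.wellFoundedGT

theorem isNoetherianRing_tensor_of_fg (k : Type u) [Field k] (k' : Type u) [Field k']
    [Algebra k k'] (hfg : (⊤ : IntermediateField k k').FG) (A : Type u) [CommRing A] [Algebra k A]
    [IsNoetherianRing A] : IsNoetherianRing (k' ⊗[k] A) := by
  haveI : Algebra.EssFiniteType k k' := IntermediateField.fg_top_iff.mp hfg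
  haveI : Algebra.EssFiniteType A (A ⊗[k] k') := inferInstance
  haveI : IsNoetherianRing (A ⊗[k] k') := Algebra.EssFiniteType.isNoetherianRing A (A ⊗[k] k')
  exact isNoetherianRing_of_ringEquiv _ (Algebra.TensorProduct.comm k A k').toRingEquiv

theorem isNoetherianRing_of_tensor (k : Type u) [Field k] (k' : Type u) [Field k']
    [Algebra k k'] (A : Type u) [CommRing A] [Algebra k A]
    [IsNoetherianRing (k' ⊗[k] A)] : IsNoetherianRing A := by
  haveI : IsNoetherianRing (A ⊗[k] k') :=
    isNoetherianRing_of_ringEquiv _ (Algebra.TensorProduct.comm k k' A).toRingEquiv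
  haveI : Module.FaithfullyFlat A (A ⊗[k] k') := inferInstance
  exact isNoetherianRing_of_faithfullyFlat A (A ⊗[k] k')

theorem main (k : Type u) [Field k] (X : Scheme.{u}) [X.Over (Spec (CommRingCat.of k))]
    (k' : Type u) [Field k'] [Algebra k k'] (hfg : (⊤ : IntermediateField k k').FG) :
    IsLocallyNoetherian X ↔ IsLocallyNoetherian (Curv2.bc k X k') := by
  constructor
  · intro h
    refine isLocallyNoetherian_of_affine_cover (X := Curv2.bc k X k') (ι := X.affineOpens)
      (S := fun U => ⟨(BCStalk.bcπ (X ↘ Spec (CommRingCat.of k)) k') ⁻¹ᵁ U.1,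
        U.2.preimage (BCStalk.bcπ (X ↘ Spec (CommRingCat.of k)) k')⟩) ?_ ?_
    · change (⨆ U : X.affineOpens, (BCStalk.bcπ (X ↘ Spec (CommRingCat.of k)) k') ⁻¹ᵁ U.1) = ⊤
      rw [← Scheme.Hom.preimage_iSup, iSup_affineOpens_eq_top X]
      rfl
    · intro U
      letI : Algebra k Γ(X, U.1) :=
        (BCStalk.toSection (X ↘ Spec (CommRingCat.of k)) U.1).toAlgebra
      obtain ⟨φ, -, -⟩ := BCStalk.exists_ringEquiv_sections
        (f := X ↘ Spec (CommRingCat.of k)) k' U.2
      haveI : IsNoetherianRing Γ(X, U.1) := h.component_noetherian U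
      haveI := isNoetherianRing_tensor_of_fg k k' hfg Γ(X, U.1)
      exact isNoetherianRing_of_ringEquiv _ φ
  · intro h
    constructor
    intro U
    letI : Algebra k Γ(X, U.1) :=
      (BCStalk.toSection (X ↘ Spec (CommRingCat.of k)) U.1).toAlgebra
    obtain ⟨φ, -, -⟩ := BCStalk.exists_ringEquiv_sections
      (f := X ↘ Spec (CommRingCat.of k)) k' U.2
    haveI : IsNoetherianRing Γ(Curv2.bc k X k',
        (BCStalk.bcπ (X ↘ Spec (CommRingCat.of k)) k') ⁻¹ᵁ U.1) :=
      h.component_noetherian ⟨_, U.2.preimage (BCStalk.bcπ (X ↘ Spec (CommRingCat.of k)) k')⟩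
    haveI : IsNoetherianRing (k' ⊗[k] Γ(X, U.1)) := isNoetherianRing_of_ringEquiv _ φ.symm
    exact isNoetherianRing_of_tensor k k' Γ(X, U.1)


/-- For a scheme X over a field k and a finitely generated field extension k' of k, local Noetherianity
of X is equivalent to local Noetherianity of its base change X_{k'}. -/
theorem result (k : Type u) [Field k] (X : Scheme.{u}) [X.Over (Spec (CommRingCat.of k))] (k' : Type u) [Field k'] [Algebra k k']
    (hfg : (⊤ : IntermediateField k k').FG) :
    IsLocallyNoetherian X ↔ IsLocallyNoetherian (Curv2.bc k X k') := by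
  exact main k X k' hfg

end Groth.Agent.S7605
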