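import Groth.Statements.S7606
import Mathlib
import Groth.Agent.Lib.Helper62.BCStalk
import Groth.Agent.Lib.Helper96.GeomRegular
import Groth.Agent.Lib.Helper96.SmoothRegular2
import Groth.Agent.S7605

set_option autoImplicit false
set_option linter.style.haveILetI false
universe u
open CategoryTheory CategoryTheory.Limits AlgebraicGeometry
attribute [local instance] Curv2.stalkAlgebra
open Variety

namespace Groth.Agent.S7606

open TensorProduct IsLocalRing Groth.Agent.Lib.Helper62 Groth.Agent.Lib.Helper96

/-- If `K ⊗ O_{X,x}` is a regular ring, the local rings of `X_K` at points over `x` are regular. -/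
theorem regular_stalk_of_isRegularRing_tensor (k : Type u) [Field k] (X : Scheme.{u})
    [X.Over (Spec (CommRingCat.of k))] (x : X) (K : Type u) [Field K] [Algebra k K]
    (h : IsRegularRing (K ⊗[k] X.presheaf.stalk x)) (x' : Curv2.bc k X K)
    (hx' : Curv2.bcFst k X K x' = x) :
    IsRegularLocalRing ((Curv2.bc k X K).presheaf.stalk x') := by
  obtain ⟨M, hM, -, ⟨e⟩⟩ := BCStalk.exists_prime_of_point (X ↘ Spec (CommRingCat.of k)) K x' x hx'
    rfl
  haveI := h.isRegularLocalRing_localization M
  exact IsRegularLocalRing.of_ringEquiv e.symm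

/-- If `K/k` is algebraic, `K ⊗ O_{X,x}` is Noetherian and the local rings of `X_K` at points over
`x` are regular, then `K ⊗ O_{X,x}` is a regular ring. -/
theorem isRegularRing_tensor_of_regular_stalk (k : Type u) [Field k] (X : Scheme.{u})
    [X.Over (Spec (CommRingCat.of k))] (x : X) (K : Type u) [Field K] [Algebra k K]
    [Algebra.IsAlgebraic k K] [IsNoetherianRing (K ⊗[k] X.presheaf.stalk x)]
    (h : ∀ x' : Curv2.bc k X K, Curv2.bcFst k X K x' = x →
      IsRegularLocalRing ((Curv2.bc k X K).presheaf.stalk x')) :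
    IsRegularRing (K ⊗[k] X.presheaf.stalk x) := by
  refine Groth.Agent.Lib.Helper33.isRegularRing_of_forall_isMaximal _ fun n hn => ?_
  have hint : (Algebra.TensorProduct.includeRight :
      X.presheaf.stalk x →ₐ[k] K ⊗[k] X.presheaf.stalk x).toRingHom.IsIntegral := by
    haveI : Algebra.IsIntegral k K := Algebra.IsAlgebraic.isIntegral
    have hcomp : (Algebra.TensorProduct.includeRight :
        X.presheaf.stalk x →ₐ[k] K ⊗[k] X.presheaf.stalk x).toRingHom =
        ((Algebra.TensorProduct.comm k (X.presheaf.stalk x) K).toRingEquiv :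
          X.presheaf.stalk x ⊗[k] K →+* K ⊗[k] X.presheaf.stalk x).comp
          (algebraMap (X.presheaf.stalk x) (X.presheaf.stalk x ⊗[k] K)) := by
      refine RingHom.ext fun a => ?_
      simp [Algebra.TensorProduct.algebraMap_apply]
    rw [hcomp]
    refine RingHom.IsIntegral.trans _ _ ?_ ?_
    · exact algebraMap_isIntegral_iff.mpr inferInstance
    · exact RingHom.isIntegral_of_surjective _ (Algebra.TensorProduct.comm k _ K).surjective
  have hcomap : n.comap (Algebra.TensorProduct.includeRight :
      X.presheaf.stalk x →ₐ[k] K ⊗[k] X.presheaf.stalk x).toRingHom =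
      maximalIdeal (X.presheaf.stalk x) := by
    have := Ideal.isMaximal_comap_of_isIntegral_of_isMaximal' _ hint n
    exact IsLocalRing.eq_maximalIdeal this
  obtain ⟨x', hx', ⟨e⟩⟩ := BCStalk.exists_point_of_prime (X ↘ Spec (CommRingCat.of k)) K x rfl n
    hcomap
  haveI := h x' hx'
  exact IsRegularLocalRing.of_ringEquiv e

theorem fg_top_of_finite (k k' : Type u) [Field k] [Field k'] [Algebra k k']
    [FiniteDimensional k k'] : (⊤ : IntermediateField k k').FG := by
  rw [IntermediateField.fg_top_iff]
  infer_instance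

/-- (B) ⇒ adic formal smoothness of the local ring. -/
theorem isAdicFormallySmooth_of_purelyInseparable (k : Type u) [Field k] (X : Scheme.{u})
    [X.Over (Spec (CommRingCat.of k))] [IsLocallyNoetherian X] (x : ↥X)
    (hB : ∀ (k' : Type u) [Field k'] [Algebra k k'] [FiniteDimensional k k']
      [IsPurelyInseparable k k'] (x' : ↥(Curv2.bc k X k')),
        Curv2.bcFst k X k' x' = x →
          IsRegularLocalRing ↥((Curv2.bc k X k').presheaf.stalk x')) :
    CAlgX.IsAdicFormallySmooth k (X.presheaf.stalk x) (maximalIdeal (X.presheaf.stalk x)) := by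
  haveI : IsNoetherianRing (X.presheaf.stalk x) := inferInstance
  obtain ⟨p, hp⟩ := ExpChar.exists k
  refine (isAdicFormallySmooth_iff_forall_regular p).mpr ?_
  intro k' _ _ hfin hpow
  haveI : FiniteDimensional k k' := hfin
  haveI : IsPurelyInseparable k k' := by
    rw [isPurelyInseparable_iff_pow_mem k p]
    intro y
    exact ⟨1, by simpa using hpow y⟩
  haveI : IsNoetherianRing (k' ⊗[k] X.presheaf.stalk x) :=
    Groth.Agent.S7605.isNoetherianRing_tensor_of_fg k k' (fg_top_of_finite k k') _
  exact isRegularRing_tensor_of_regular_stalk k X x k' (fun x' hx' => hB k' x' hx')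

/-- (C) ⇒ (A). -/
theorem isGeomRegularAt_of_isGeometricallyRegular (k : Type u) [Field k] (X : Scheme.{u})
    [X.Over (Spec (CommRingCat.of k))] [IsLocallyNoetherian X] (x : ↥X)
    (hC : CAlg.IsGeometricallyRegular k ↥(X.presheaf.stalk x)) : Curv2.IsGeomRegularAt k X x := by
  haveI : IsNoetherianRing (X.presheaf.stalk x) := inferInstance
  intro K _ _ hfg x' hx'
  haveI : IsNoetherianRing (K ⊗[k] X.presheaf.stalk x) :=
    Groth.Agent.S7605.isNoetherianRing_tensor_of_fg k K hfg _
  have hreg := isRegularRing_tensor_of_forall_adicFormallySmooth K (X.presheaf.stalk x)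
    (isGeometricallyRegular_iff_forall_adicFormallySmooth.mp hC)
  exact regular_stalk_of_isRegularRing_tensor k X x K hreg x' hx'

/-- (A) ⇒ (B). -/
theorem purelyInseparable_of_isGeomRegularAt (k : Type u) [Field k] (X : Scheme.{u})
    [X.Over (Spec (CommRingCat.of k))] (x : ↥X) (hA : Curv2.IsGeomRegularAt k X x) :
    ∀ (k' : Type u) [Field k'] [Algebra k k'] [FiniteDimensional k k']
      [IsPurelyInseparable k k'] (x' : ↥(Curv2.bc k X k')),
        Curv2.bcFst k X k' x' = x →
          IsRegularLocalRing ↥((Curv2.bc k X k').presheaf.stalk x') := by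
  intro k' _ _ _ _ x' hx'
  exact hA k' (fg_top_of_finite k k') x' hx'

/-- (A) ⇒ adic formal smoothness of the local ring. -/
theorem isAdicFormallySmooth_of_isGeomRegularAt (k : Type u) [Field k] (X : Scheme.{u})
    [X.Over (Spec (CommRingCat.of k))] [IsLocallyNoetherian X] (x : ↥X)
    (hA : Curv2.IsGeomRegularAt k X x) :
    CAlgX.IsAdicFormallySmooth k (X.presheaf.stalk x) (maximalIdeal (X.presheaf.stalk x)) :=
  isAdicFormallySmooth_of_purelyInseparable k X x (purelyInseparable_of_isGeomRegularAt k X x hA)

theorem main (k : Type u) [Field k] (X : Scheme.{u}) [X.Over (Spec (CommRingCat.of k))]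
    [IsLocallyNoetherian X] (x : ↥X) :
    (Curv2.IsGeomRegularAt k X x ↔
      ∀ (k' : Type u) [Field k'] [Algebra k k'] [FiniteDimensional k k'] [IsPurelyInseparable k k']
        (x' : ↥(Curv2.bc k X k')),
        Curv2.bcFst k X k' x' = x →
          IsRegularLocalRing ↥((Curv2.bc k X k').presheaf.stalk x')) ∧
    ((∀ (k' : Type u) [Field k'] [Algebra k k'] [FiniteDimensional k k'] [IsPurelyInseparable k k']
        (x' : ↥(Curv2.bc k X k')),
        Curv2.bcFst k X k' x' = x →
          IsRegularLocalRing ↥((Curv2.bc k X k').presheaf.stalk x')) ↔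
      CAlg.IsGeometricallyRegular k ↥(X.presheaf.stalk x)) := by
  haveI : IsNoetherianRing (X.presheaf.stalk x) := inferInstance
  have hBC : (∀ (k' : Type u) [Field k'] [Algebra k k'] [FiniteDimensional k k']
      [IsPurelyInseparable k k'] (x' : ↥(Curv2.bc k X k')),
        Curv2.bcFst k X k' x' = x →
          IsRegularLocalRing ↥((Curv2.bc k X k').presheaf.stalk x')) →
      CAlg.IsGeometricallyRegular k ↥(X.presheaf.stalk x) := fun hB =>
    isGeometricallyRegular_of_adicFormallySmooth
      (isAdicFormallySmooth_of_purelyInseparable k X x hB)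
  have hCA := isGeomRegularAt_of_isGeometricallyRegular k X x
  have hAB := purelyInseparable_of_isGeomRegularAt k X x
  exact ⟨⟨hAB, fun hB => hCA (hBC hB)⟩, ⟨hBC, fun hC => hAB (hCA hC)⟩⟩


/-- Let X be a locally Noetherian scheme over a field k and x a point of X. These conditions are
equivalent: (1) the scheme X is geometrically regular at x; (2) whenever k'/k is finite and purely
inseparable, the local ring O_{X_{k'}, x'} is regular at each point x' of X_{k'} lying over x; (3)
the local ring O_{X, x} is geometrically regular over k (k' ⊗_k O_{X, x} is a regular ring for every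
finite extension k' of k). Stated as (1) ↔ (2) together with (2) ↔ (3). -/
theorem result (k : Type u) [Field k] (X : Scheme.{u}) [X.Over (Spec (CommRingCat.of k))] [IsLocallyNoetherian X] (x : ↥X) :
    (Curv2.IsGeomRegularAt k X x ↔
      ∀ (k' : Type u) [Field k'] [Algebra k k'] [FiniteDimensional k k'] [IsPurelyInseparable k k'] (x' : ↥(Curv2.bc k X k')),
        Curv2.bcFst k X k' x' = x → IsRegularLocalRing ↥((Curv2.bc k X k').presheaf.stalk x')) ∧
    ((∀ (k' : Type u) [Field k'] [Algebra k k'] [FiniteDimensional k k'] [IsPurelyInseparable k k'] (x' : ↥(Curv2.bc k X k')),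
        Curv2.bcFst k X k' x' = x → IsRegularLocalRing ↥((Curv2.bc k X k').presheaf.stalk x')) ↔
      CAlg.IsGeometricallyRegular k ↥(X.presheaf.stalk x)) := by
  exact main k X x

end Groth.Agent.S7606
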