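import Groth.Statements.S1562
import Mathlib
import Groth.Agent.S7606
import Groth.Agent.Lib.Helper96.SmoothLocus
import Groth.Agent.Lib.Helper96.PerfectSmooth

set_option autoImplicit false
set_option linter.style.haveILetI false
universe u
open CategoryTheory CategoryTheory.Limits AlgebraicGeometry
open Variety

namespace Groth.Agent.S1562

open TensorProduct IsLocalRing Groth.Agent.Lib.Helper62 Groth.Agent.Lib.Helper96

/-- Transfer of adic formal smoothness along an algebra isomorphism. -/
theorem isAdicFormallySmooth_of_algEquiv {R S S' : Type u} [CommRing R] [CommRing S] [CommRing S']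
    [Algebra R S] [Algebra R S'] (e : S ≃ₐ[R] S') (𝔫 : Ideal S) (𝔫' : Ideal S')
    (h𝔫 : 𝔫.map (e : S →+* S') ≤ 𝔫') (h : CAlgX.IsAdicFormallySmooth R S 𝔫) :
    CAlgX.IsAdicFormallySmooth R S' 𝔫' := by
  intro A _ _ J hJ ψ' ⟨n, hn⟩
  obtain ⟨χ, hχ⟩ := h A J hJ (ψ'.comp e.toAlgHom) ⟨n, fun y hy => by
    have : (e : S →+* S') y ∈ 𝔫' ^ n := by
      have h1 : (𝔫 ^ n).map (e : S →+* S') ≤ 𝔫' ^ n := by
        rw [Ideal.map_pow]
        exact Ideal.pow_right_mono h𝔫 n
      exact h1 (Ideal.mem_map_of_mem _ hy)
    exact hn _ this⟩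
  refine ⟨χ.comp e.symm.toAlgHom, ?_⟩
  rw [← AlgHom.comp_assoc, hχ]
  ext y
  simp

/-- The stalk of `Spec k` at a point is `k` (for a field `k`). -/
theorem bijective_germ_spec_field (k : Type u) [Field k] (y : Spec (CommRingCat.of k)) :
    Function.Bijective ((Spec (CommRingCat.of k)).presheaf.germ ⊤ y trivial).hom := by
  have hT : IsAffineOpen (⊤ : (Spec (CommRingCat.of k)).Opens) := isAffineOpen_top _
  let y' : (⊤ : (Spec (CommRingCat.of k)).Opens) := ⟨y, trivial⟩
  letI : Algebra Γ(Spec (CommRingCat.of k), ⊤) ((Spec (CommRingCat.of k)).presheaf.stalk y) :=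
    (Spec (CommRingCat.of k)).presheaf.algebra_section_stalk y'
  haveI := hT.isLocalization_stalk y'
  let e : Γ(Spec (CommRingCat.of k), ⊤) ≃+* k :=
    (Scheme.ΓSpecIso (CommRingCat.of k)).commRingCatIsoToRingEquiv
  have hF : IsField Γ(Spec (CommRingCat.of k), ⊤) :=
    MulEquiv.isField (Field.toIsField k) e.toMulEquiv
  have hunits : ∀ a ∈ (hT.primeIdealOf y').asIdeal.primeCompl, IsUnit a := by
    intro a ha
    letI := hF.toField
    have : a ≠ 0 := fun h0 => ha (h0 ▸ Ideal.zero_mem _)
    exact this.isUnit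
  exact (IsLocalization.atUnits Γ(Spec (CommRingCat.of k), ⊤)
    (hT.primeIdealOf y').asIdeal.primeCompl hunits
    (S := (Spec (CommRingCat.of k)).presheaf.stalk y)).bijective

theorem formallySmooth_stalkMap_iff_algebra (k : Type u) [Field k] (X : Scheme.{u})
    [X.Over (Spec (CommRingCat.of k))] (x : X) :
    ((X ↘ Spec (CommRingCat.of k)).stalkMap x).hom.FormallySmooth ↔
      @Algebra.FormallySmooth k (X.presheaf.stalk x) _ _ (Curv2.stalkAlgebra k X x) := by
  set f := X ↘ Spec (CommRingCat.of k) with hf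
  let e₀ : CommRingCat.of k ⟶ (Spec (CommRingCat.of k)).presheaf.stalk (f x) :=
    (Scheme.ΓSpecIso (CommRingCat.of k)).inv ≫ (Spec (CommRingCat.of k)).presheaf.germ ⊤ (f x) trivial
  haveI : IsIso ((Spec (CommRingCat.of k)).presheaf.germ ⊤ (f x) trivial) :=
    (ConcreteCategory.isIso_iff_bijective _).mpr (bijective_germ_spec_field k (f x))
  haveI : IsIso e₀ := inferInstance
  have hcomp : (f.stalkMap x).hom.comp e₀.hom = Curv2.stalkMap k X x := by
    rw [← CommRingCat.hom_comp]
    simp only [e₀, Category.assoc]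
    rw [Scheme.Hom.germ_stalkMap]
    rfl
  rw [← RingHom.FormallySmooth.respectsIso.cancel_left_isIso e₀ (f.stalkMap x), hcomp]
  rfl

theorem finiteType_sections (k : Type u) [Field k] (X : Scheme.{u})
    (f : X ⟶ Spec (CommRingCat.of k)) [LocallyOfFiniteType f] {V : X.Opens} (hV : IsAffineOpen V) :
    letI := (BCStalk.toSection f V).toAlgebra
    Algebra.FiniteType k Γ(X, V) := by
  have h1 : RingHom.FiniteType (f.appLE ⊤ V le_top).hom :=
    HasRingHomProperty.appLE @LocallyOfFiniteType f inferInstance ⟨⊤, isAffineOpen_top _⟩ ⟨V, hV⟩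
      le_top
  let e : Γ(Spec (CommRingCat.of k), ⊤) ≃+* k :=
    (Scheme.ΓSpecIso (CommRingCat.of k)).commRingCatIsoToRingEquiv
  have h2 : RingHom.FiniteType ((f.appLE ⊤ V le_top).hom.comp e.symm.toRingHom) :=
    RingHom.finiteType_respectsIso.2 _ e.symm h1
  exact h2

theorem main (k : Type u) [Field k] (X : Scheme.{u}) [X.Over (Spec (CommRingCat.of k))]
    [LocallyOfFinitePresentation (X ↘ (Spec (CommRingCat.of k)))] (x : X) :
    Curv2.IsGeomRegularAt k X x ↔ x ∈ (X ↘ (Spec (CommRingCat.of k))).smoothLocus := by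
  letI := Curv2.stalkAlgebra k X x
  haveI : IsLocallyNoetherian X :=
    LocallyOfFiniteType.isLocallyNoetherian (X ↘ (Spec (CommRingCat.of k)))
  haveI : IsNoetherianRing (X.presheaf.stalk x) := inferInstance
  rw [Scheme.Hom.mem_smoothLocus, formallySmooth_stalkMap_iff_algebra]
  constructor
  · intro hA
    have hfs := Groth.Agent.S7606.isAdicFormallySmooth_of_isGeomRegularAt k X x hA
    set f := X ↘ Spec (CommRingCat.of k) with hf
    obtain ⟨_, ⟨V, hV, rfl⟩, hxV, -⟩ :=
      X.isBasis_affineOpens.exists_subset_of_mem_open (Set.mem_univ x) isOpen_univ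
    letI : Algebra k Γ(X, V) := (BCStalk.toSection f V).toAlgebra
    letI : Algebra Γ(X, V) (X.presheaf.stalk x) := X.presheaf.algebra_section_stalk ⟨x, hxV⟩
    haveI : IsScalarTower k Γ(X, V) (X.presheaf.stalk x) := BCStalk.chart_aux f x hxV rfl
    haveI := hV.isLocalization_stalk ⟨x, hxV⟩
    haveI : Algebra.FiniteType k Γ(X, V) := finiteType_sections k X f hV
    set q := (hV.primeIdealOf ⟨x, hxV⟩).asIdeal with hq
    let e : Localization.AtPrime q ≃ₐ[Γ(X, V)] X.presheaf.stalk x :=
      IsLocalization.algEquiv q.primeCompl _ _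
    let e' : Localization.AtPrime q ≃ₐ[k] X.presheaf.stalk x := e.restrictScalars k
    have hfs' : CAlgX.IsAdicFormallySmooth k (Localization.AtPrime q)
        (maximalIdeal (Localization.AtPrime q)) := by
      refine isAdicFormallySmooth_of_algEquiv e'.symm _ _ ?_ hfs
      rw [Ideal.map_le_iff_le_comap]
      intro a ha
      rw [Ideal.mem_comap, mem_maximalIdeal, mem_nonunits_iff] at *
      intro hu
      apply ha
      have := hu.map e'
      simpa using this
    obtain ⟨Ext, hN, hS⟩ := exists_extension_of_finiteType k k Γ(X, V)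
    obtain ⟨g, hg, hgs⟩ := exists_formallySmooth_away_of_adicFormallySmooth Ext q hfs'
    haveI := hgs
    haveI : Algebra.FormallySmooth k (Localization.AtPrime q) :=
      formallySmooth_atPrime_of_away q g hg
    exact Algebra.FormallySmooth.of_equiv e'
  · intro hS
    haveI := hS
    apply Groth.Agent.S7606.isGeomRegularAt_of_isGeometricallyRegular
    exact isGeometricallyRegular_of_adicFormallySmooth
      (isAdicFormallySmooth_of_formallySmooth (maximalIdeal (X.presheaf.stalk x)))


/-- Let X be locally of finite type over a field k and x a point of X. Then X is geometrically regular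
at x (regular local rings at all points over x after every finitely generated field extension) if
and only if x lies in the smooth locus of X → Spec k. -/
theorem result (k : Type u) [Field k] (X : Scheme.{u}) [X.Over (Spec (CommRingCat.of k))] [LocallyOfFinitePresentation (X ↘ (Spec (CommRingCat.of k)))] (x : X) :
    Curv2.IsGeomRegularAt k X x ↔ x ∈ (X ↘ (Spec (CommRingCat.of k))).smoothLocus := by
  exact main k X x

end Groth.Agent.S1562
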