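import Groth.Statements.S1556
import Mathlib
import Groth.Agent.S1562
import Groth.Agent.S9800
import Groth.Agent.S12049
import Groth.Agent.S2451
import Groth.Agent.S2453

set_option autoImplicit false
set_option linter.style.haveILetI false
universe u
open CategoryTheory CategoryTheory.Limits AlgebraicGeometry
attribute [local instance] Curv2.resAlgebra
open Variety

namespace Groth.Agent.S1556

open IsLocalRing Groth.Agent.Lib.Helper96

/-- a separable residue field is geometrically reduced (for the algebra structure on the residue
field induced from the local ring). -/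
theorem isGeometricallyReduced_residueField (k : Type u) [Field k] (X : Scheme.{u})
    [X.Over (Spec (CommRingCat.of k))] (x : X) [Algebra.IsSeparable k (X.residueField x)] :
    letI := Curv2.stalkAlgebra k X x
    Algebra.IsGeometricallyReduced k (ResidueField (X.presheaf.stalk x)) := by
  letI := Curv2.stalkAlgebra k X x
  have heq : Curv2.resAlgebra k X x =
      (inferInstance : Algebra k (ResidueField (X.presheaf.stalk x))) :=
    Algebra.algebra_ext _ _ (fun r => rfl)
  haveI hsep : Algebra.IsSeparable k (ResidueField (X.presheaf.stalk x)) := by
    have h := ‹Algebra.IsSeparable k (X.residueField x)›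
    rw [heq] at h
    exact h
  haveI : Algebra.FormallyEtale k (ResidueField (X.presheaf.stalk x)) :=
    Algebra.FormallyEtale.of_isSeparable k _
  exact Groth.Agent.S2451.result.mp inferInstance

/-- at a point with separable residue field, a regular local ring is a smooth point. -/
theorem mem_smoothLocus_of_isRegularLocalRing (k : Type u) [Field k] (X : Scheme.{u})
    [X.Over (Spec (CommRingCat.of k))]
    [LocallyOfFinitePresentation (X ↘ (Spec (CommRingCat.of k)))] (x : X)
    [Algebra.IsSeparable k (X.residueField x)]
    (hreg : IsRegularLocalRing (X.presheaf.stalk x)) :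
    x ∈ (X ↘ (Spec (CommRingCat.of k))).smoothLocus := by
  letI := Curv2.stalkAlgebra k X x
  haveI : IsLocallyNoetherian X :=
    LocallyOfFiniteType.isLocallyNoetherian (X ↘ (Spec (CommRingCat.of k)))
  haveI : IsNoetherianRing (X.presheaf.stalk x) := inferInstance
  haveI := isGeometricallyReduced_residueField k X x
  have hfs : CAlgX.IsAdicFormallySmooth k (X.presheaf.stalk x)
      (maximalIdeal (X.presheaf.stalk x)) :=
    ((Groth.Agent.S2453.result (k := k) (A := X.presheaf.stalk x)).out 3 0).mp hreg
  rw [← Groth.Agent.S1562.main k X x]
  exact Groth.Agent.S7606.isGeomRegularAt_of_isGeometricallyRegular k X x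
    (isGeometricallyRegular_of_adicFormallySmooth hfs)

/-- the local ring at a smooth point is regular. -/
theorem isRegularLocalRing_of_mem_smoothLocus (k : Type u) [Field k] (X : Scheme.{u})
    [X.Over (Spec (CommRingCat.of k))]
    [LocallyOfFinitePresentation (X ↘ (Spec (CommRingCat.of k)))] (x : X)
    (hx : x ∈ (X ↘ (Spec (CommRingCat.of k))).smoothLocus) :
    IsRegularLocalRing (X.presheaf.stalk x) := by
  letI := Curv2.stalkAlgebra k X x
  haveI : IsLocallyNoetherian X :=
    LocallyOfFiniteType.isLocallyNoetherian (X ↘ (Spec (CommRingCat.of k)))
  haveI : IsNoetherianRing (X.presheaf.stalk x) := inferInstance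
  rw [← Groth.Agent.S1562.main k X x] at hx
  exact (isRegular_and_completion_of_adicFormallySmooth
    (Groth.Agent.S7606.isAdicFormallySmooth_of_isGeomRegularAt k X x hx)).1

/-- the local ring at a closed point of an integral scheme of dimension one has dimension one. -/
theorem ringKrullDim_stalk_eq_one (X : Scheme.{u}) [IsIntegral X]
    (hdim : topologicalKrullDim X = 1) (x : X) (hx : IsClosed ({x} : Set X)) :
    ringKrullDim (X.presheaf.stalk x) = 1 := by
  apply le_antisymm
  · rw [← hdim]
    exact Groth.Agent.S9800.ringKrullDim_stalk_le X x
  · have hne : genericPoint X ≠ x := by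
      intro h
      have h1 : closure ({x} : Set X) = Set.univ := by
        rw [← h]
        exact genericPoint_spec X
      rw [hx.closure_eq] at h1
      haveI : Subsingleton X := by
        constructor
        intro a b
        have ha : a ∈ ({x} : Set X) := h1 ▸ Set.mem_univ a
        have hb : b ∈ ({x} : Set X) := h1 ▸ Set.mem_univ b
        rw [Set.mem_singleton_iff] at ha hb
        rw [ha, hb]
      haveI : Subsingleton (TopologicalSpace.IrreducibleCloseds X) := by
        constructor
        intro a b
        apply TopologicalSpace.IrreducibleCloseds.ext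
        ext y
        obtain ⟨p, hp⟩ := a.isIrreducible.nonempty
        obtain ⟨p', hp'⟩ := b.isIrreducible.nonempty
        rw [Subsingleton.elim y p]
        constructor
        · intro _
          rw [Subsingleton.elim p p']
          exact hp'
        · intro _
          exact hp
      have h2 : topologicalKrullDim X ≤ 0 := by
        rw [topologicalKrullDim]
        exact Order.krullDim_nonpos_of_subsingleton
      rw [hdim] at h2
      exact absurd h2 (by decide)
    have hsp : genericPoint X ⤳ x := (genericPoint_spec X).specializes (Set.mem_univ x)
    have h3 := Groth.Agent.S12049.dim_lt_of_specializes (genericPoint X) x hsp hne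
    have h4 : (0 : WithBot ℕ∞) ≤ ringKrullDim (X.presheaf.stalk (genericPoint X)) :=
      ringKrullDim_nonneg_of_nontrivial
    calc (1 : WithBot ℕ∞) = 0 + 1 := by simp
      _ ≤ ringKrullDim (X.presheaf.stalk (genericPoint X)) + 1 := by gcongr
      _ ≤ _ := h3

theorem main (k : Type u) [Field k] (X : Scheme.{u}) [X.Over (Spec (CommRingCat.of k))]
    [IsIntegral X]
    [LocallyOfFinitePresentation (X ↘ (Spec (CommRingCat.of k)))]
    (hdim : topologicalKrullDim X = 1) (x : X) (hx : IsClosed ({x} : Set X))
    [Algebra.IsSeparable k (X.residueField x)] :
    IsDiscreteValuationRing (X.presheaf.stalk x) ↔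
      x ∈ (X ↘ (Spec (CommRingCat.of k))).smoothLocus := by
  haveI : IsLocallyNoetherian X :=
    LocallyOfFiniteType.isLocallyNoetherian (X ↘ (Spec (CommRingCat.of k)))
  haveI : IsNoetherianRing (X.presheaf.stalk x) := inferInstance
  constructor
  · intro hdvr
    haveI := hdvr
    exact mem_smoothLocus_of_isRegularLocalRing k X x inferInstance
  · intro hS
    have hreg := isRegularLocalRing_of_mem_smoothLocus k X x hS
    have h1 := (IsRegularLocalRing.iff_finrank_cotangentSpace (X.presheaf.stalk x)).mp hreg
    rw [ringKrullDim_stalk_eq_one X hdim x hx] at h1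
    exact IsLocalRing.finrank_CotangentSpace_eq_one_iff.mp (by exact_mod_cast h1)


/-- Let X be a curve over k (integral, separated, of finite type, of dimension one) and x a closed point
whose residue field is separable over k. Then the local ring at x is a discrete valuation ring if
and only if x lies in the smooth locus of X → Spec k. -/
theorem result (k : Type u) [Field k] (X : Scheme.{u}) [X.Over (Spec (CommRingCat.of k))] [IsIntegral X]
    [IsSeparated (X ↘ (Spec (CommRingCat.of k)))] [LocallyOfFinitePresentation (X ↘ (Spec (CommRingCat.of k)))] [QuasiCompact (X ↘ (Spec (CommRingCat.of k)))]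
    (hdim : topologicalKrullDim X = 1) (x : X) (hx : IsClosed ({x} : Set X))
    [Algebra.IsSeparable k (X.residueField x)] :
    IsDiscreteValuationRing (X.presheaf.stalk x) ↔ x ∈ (X ↘ (Spec (CommRingCat.of k))).smoothLocus := by
  exact main k X hdim x hx

end Groth.Agent.S1556
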