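import Groth.Statements.S13844
import Mathlib
import Groth.Agent.S1556

set_option autoImplicit false
set_option linter.style.haveILetI false
universe u
open CategoryTheory CategoryTheory.Limits AlgebraicGeometry
attribute [local instance] Curv2.resAlgebra
open Curves

namespace Groth.Agent.S13844

open IsLocalRing

theorem main (K : Type u) [Field K] (C : Scheme.{u}) [C.Over (Spec (CommRingCat.of K))]
    [IsIntegral C]
    [LocallyOfFinitePresentation (C ↘ (Spec (CommRingCat.of K)))]
    (hN : ∀ x : C, IsIntegrallyClosed (C.presheaf.stalk x))
    (hdim : topologicalKrullDim C = 1) (S : Set C)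
    (hS : ∀ x ∈ S, IsClosed ({x} : Set C) ∧ Algebra.IsSeparable K (C.residueField x))
    (hsm : ∀ x : C, x ∉ S → x ∈ (C ↘ (Spec (CommRingCat.of K))).smoothLocus) :
    AlgebraicGeometry.Smooth (C ↘ (Spec (CommRingCat.of K))) := by
  haveI : IsLocallyNoetherian C :=
    LocallyOfFiniteType.isLocallyNoetherian (C ↘ (Spec (CommRingCat.of K)))
  rw [← Scheme.Hom.smoothLocus_eq_top_iff, ← top_le_iff]
  rintro x -
  by_cases hxS : x ∈ S
  · obtain ⟨hcl, hsep⟩ := hS x hxS
    haveI := hsep
    haveI : IsNoetherianRing (C.presheaf.stalk x) := inferInstance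
    haveI := hN x
    have hd := Groth.Agent.S1556.ringKrullDim_stalk_eq_one C hdim x hcl
    have hnf : ¬ IsField (C.presheaf.stalk x) := by
      intro hf
      have := ringKrullDim_eq_zero_of_isField hf
      rw [hd] at this
      exact absurd this (by decide)
    have hle : ringKrullDim (C.presheaf.stalk x) ≤ ((1 : ℕ) : WithBot ℕ∞) := by
      rw [hd]
      rfl
    haveI : Ring.KrullDimLE 1 (C.presheaf.stalk x) := Ring.krullDimLE_iff.mpr hle
    haveI : Ring.DimensionLEOne (C.presheaf.stalk x) :=
      ⟨fun {p} hp hpp => hpp.isMaximal_of_ne_bot hp⟩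
    have hded : IsDedekindDomain (C.presheaf.stalk x) := {}
    haveI : IsDiscreteValuationRing (C.presheaf.stalk x) :=
      ((IsDiscreteValuationRing.TFAE (C.presheaf.stalk x) hnf).out 2 0).mp hded
    exact Groth.Agent.S1556.mem_smoothLocus_of_isRegularLocalRing K C x inferInstance
  · exact hsm x hxS


/-- Let K be a field and C a normal curve over K, namely an integral normal separated K-scheme of finite
type of dimension one, and let S be a set of closed points of C whose residue fields are separable
over K. If the structure morphism of C is smooth at every point outside S, then it is smooth. (The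
published statement takes S to be a closed subscheme finite étale over K, that is finitely many such
points; this row allows any set of closed points with separable residue fields.) -/
theorem result (K : Type u) [Field K] (C : Scheme.{u}) [C.Over (Spec (CommRingCat.of K))]
    [IsIntegral C] [IsSeparated (C ↘ (Spec (CommRingCat.of K)))] [LocallyOfFinitePresentation (C ↘ (Spec (CommRingCat.of K)))]
    [QuasiCompact (C ↘ (Spec (CommRingCat.of K)))] (hN : ∀ x : C, IsIntegrallyClosed (C.presheaf.stalk x))
    (hdim : topologicalKrullDim C = 1) (S : Set C)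
    (hS : ∀ x ∈ S, IsClosed ({x} : Set C) ∧ Algebra.IsSeparable K (C.residueField x))
    (hsm : ∀ x : C, x ∉ S → x ∈ (C ↘ (Spec (CommRingCat.of K))).smoothLocus) :
    AlgebraicGeometry.Smooth (C ↘ (Spec (CommRingCat.of K))) := by
  exact main K C hN hdim S hS hsm

end Groth.Agent.S13844
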