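import Groth.Statements.S13846
import Mathlib.LinearAlgebra.GeneralLinearGroup.AlgEquiv
import Mathlib.LinearAlgebra.Dual.Lemmas
import Mathlib.Order.SupIndep
import Mathlib.Algebra.Module.Submodule.Map
-- import your own Groth.Agent.* helpers here

set_option autoImplicit false
universe u v
open TwSh

namespace Groth.Agent.S13846

/-- Let k be a field and V, W finite-dimensional ℤ-graded k-vector spaces, V = ⊕ V_i with V ≠ 0 and W =
⊕ W_i. Let φ : End_k(V) ≃ End_k(W) be a k-algebra isomorphism which sends every endomorphism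
homogeneous of degree d (one mapping V_i into V_{i+d} for all i) to an endomorphism homogeneous of
degree d. Then there are an integer n and a k-linear isomorphism g : V ≅ W with g(V_i) = W_{i+n} for
every i such that φ(f) = g ∘ f ∘ g⁻¹ for all f; moreover n is unique and g is unique up to a nonzero
scalar: if g' : V ≅ W satisfies g'(V_i) = W_{i+n'} for all i and φ(f) = g' ∘ f ∘ g'⁻¹ for all f,
then n' = n and g' = c·g for some c ∈ kˣ. (The published statement is about non-zero perfect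
complexes over k: an isomorphism of their derived endomorphism algebras, as algebra objects of the
derived category, is induced by an isomorphism from the first complex to a shift of the second, for
a unique shift and up to a unit; this row is its form for finite-dimensional ℤ-graded vector spaces,
to which the bounded derived category of a field is equivalent by taking cohomology.) -/
theorem result (k : Type u) [Field k] (V W : Type v) [AddCommGroup V] [Module k V] [FiniteDimensional k V] [Nontrivial V] [AddCommGroup W] [Module k W] [FiniteDimensional k W] (𝒱 : ℤ → Submodule k V) (h𝒱 : DirectSum.IsInternal 𝒱) (𝒲 : ℤ → Submodule k W) (h𝒲 : DirectSum.IsInternal 𝒲) (φ : Module.End k V ≃ₐ[k] Module.End k W) (hφ : ∀ (d : ℤ) (f : Module.End k V), (∀ (i : ℤ) (x : V), x ∈ 𝒱 i → f x ∈ 𝒱 (i + d)) → ∀ (i : ℤ) (y : W), y ∈ 𝒲 i → φ f y ∈ 𝒲 (i + d)) : ∃ (n : ℤ) (g : V ≃ₗ[k] W), (∀ i : ℤ, Submodule.map (g : V →ₗ[k] W) (𝒱 i) =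 𝒲 (i + n)) ∧ (∀ f : Module.End k V, φ f = (g : V →ₗ[k] W) ∘ₗ f ∘ₗ (g.symm : W →ₗ[k] V)) ∧ ∀ (n' : ℤ) (g' : V ≃ₗ[k] W), (∀ i : ℤ, Submodule.map (g' : V →ₗ[k] W) (𝒱 i) = 𝒲 (i + n')) → (∀ f : Module.End k V, φ f = (g' : V →ₗ[k] W) ∘ₗ f ∘ₗ (g'.symm : W →ₗ[k] V)) → n' = n ∧ ∃ c : kˣ, ∀ x : V, g' x = c • g x := by
  classical
  obtain ⟨g, hg⟩ := AlgEquiv.eq_linearEquivConjAlgEquiv φ
  have hφg : ∀ f : Module.End k V, φ f = (g : V →ₗ[k] W) ∘ₗ f ∘ₗ (g.symm : W →ₗ[k] V) := by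
    intro f
    rw [hg]
    rfl
  -- a nonzero homogeneous element
  obtain ⟨i₀, v₀, hv₀, hv₀ne⟩ : ∃ (i₀ : ℤ) (v₀ : V), v₀ ∈ 𝒱 i₀ ∧ v₀ ≠ 0 := by
    by_contra hcon
    have hbot : ∀ i, 𝒱 i = ⊥ := fun i => (Submodule.eq_bot_iff _).2 fun x hx =>
      by_contra fun hx0 => hcon ⟨i, x, hx, hx0⟩
    have h1 := h𝒱.submodule_iSup_eq_top
    have h2 : iSup 𝒱 = ⊥ := iSup_eq_bot.2 hbot
    rw [h2] at h1
    exact bot_ne_top h1
  -- a homogeneous functional with value one at v₀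
  obtain ⟨μ, hμ⟩ := Module.Projective.exists_dual_eq_one k hv₀ne
  let e := LinearEquiv.ofBijective (DirectSum.coeLinearMap 𝒱) h𝒱
  let π : V →ₗ[k] V :=
    (𝒱 i₀).subtype ∘ₗ DirectSum.component k ℤ (fun i => 𝒱 i) i₀ ∘ₗ (e.symm : V →ₗ[k] _)
  let lam : V →ₗ[k] k := μ ∘ₗ π
  have hlam0 : lam v₀ = 1 := by
    have : π v₀ = v₀ := by
      show ((e.symm v₀) i₀ : V) = v₀
      rw [h𝒱.ofBijective_coeLinearMap_of_mem hv₀]
    show μ (π v₀) = 1
    rw [this, hμ]
  have hlam_ne : ∀ j, j ≠ i₀ → ∀ x ∈ 𝒱 j, lam x = 0 := by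
    intro j hj x hx
    have : π x = 0 := by
      show ((e.symm x) i₀ : V) = 0
      rw [h𝒱.ofBijective_coeLinearMap_of_mem_ne hj hx]
      rfl
    show μ (π x) = 0
    rw [this, map_zero]
  -- rank one maps `x ↦ lam x • v` are homogeneous
  have hhom : ∀ (i : ℤ) (v : V), v ∈ 𝒱 i → ∀ (j : ℤ) (x : V), x ∈ 𝒱 j →
      (lam.smulRight v) x ∈ 𝒱 (j + (i - i₀)) := by
    intro i v hv j x hx
    rw [LinearMap.smulRight_apply]
    by_cases hj : j = i₀
    · subst hj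
      rw [show j + (i - j) = i by ring]
      exact Submodule.smul_mem _ _ hv
    · rw [hlam_ne j hj x hx, zero_smul]
      exact Submodule.zero_mem _
  have hφsr : ∀ (v : V) (w : W), φ (lam.smulRight v) w = lam (g.symm w) • g v := by
    intro v w
    rw [hφg]
    simp
  -- g v₀ is homogeneous
  obtain ⟨j₀, w₁, hw₁, hw₁ne⟩ : ∃ (j₀ : ℤ) (w : W), w ∈ 𝒲 j₀ ∧ lam (g.symm w) ≠ 0 := by
    by_contra hcon
    have hle : ∀ j, 𝒲 j ≤ LinearMap.ker (lam ∘ₗ (g.symm : W →ₗ[k] V)) := by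
      intro j w hw
      rw [LinearMap.mem_ker]
      by_contra hne
      exact hcon ⟨j, w, hw, hne⟩
    have htop : (⊤ : Submodule k W) ≤ LinearMap.ker (lam ∘ₗ (g.symm : W →ₗ[k] V)) := by
      rw [← h𝒲.submodule_iSup_eq_top]
      exact iSup_le hle
    have h0 : (lam ∘ₗ (g.symm : W →ₗ[k] V)) (g v₀) = 0 := LinearMap.mem_ker.1 (htop Submodule.mem_top)
    simp [hlam0] at h0
  have hgv₀ : g v₀ ∈ 𝒲 j₀ := by
    have h1 := hφ (i₀ - i₀) (lam.smulRight v₀) (hhom i₀ v₀ hv₀) j₀ w₁ hw₁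
    rw [hφsr, sub_self, add_zero] at h1
    exact (Submodule.smul_mem_iff _ hw₁ne).1 h1
  have hgle : ∀ i, ∀ v ∈ 𝒱 i, g v ∈ 𝒲 (i + (j₀ - i₀)) := by
    intro i v hv
    have h1 := hφ (i - i₀) (lam.smulRight v) (hhom i v hv) j₀ (g v₀) hgv₀
    rw [hφsr, LinearEquiv.symm_apply_apply, hlam0, one_smul] at h1
    rwa [show j₀ + (i - i₀) = i + (j₀ - i₀) by ring] at h1
  -- equality by independence
  have hindep : iSupIndep (fun i => (𝒲 (i + (j₀ - i₀))).comap (g : V →ₗ[k] W)) := by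
    have h1 : iSupIndep (𝒲 ∘ fun i => i + (j₀ - i₀)) :=
      h𝒲.submodule_iSupIndep.comp (add_left_injective _)
    exact h1.map_orderIso (Submodule.orderIsoMapComap g).symm
  have heq : 𝒱 = fun i => (𝒲 (i + (j₀ - i₀))).comap (g : V →ₗ[k] W) :=
    (hindep.le_iff_eq_of_iSup_eq_top h𝒱.submodule_iSup_eq_top).1 fun i v hv => hgle i v hv
  have hmap : ∀ i, Submodule.map (g : V →ₗ[k] W) (𝒱 i) = 𝒲 (i + (j₀ - i₀)) := by
    intro i
    have h1 : 𝒱 i = (𝒲 (i + (j₀ - i₀))).comap (g : V →ₗ[k] W) := congrFun heq i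
    rw [h1]
    exact Submodule.map_comap_eq_of_surjective g.surjective _
  refine ⟨j₀ - i₀, g, hmap, hφg, ?_⟩
  intro n' g' hmap' hφg'
  have hcomm : ∀ (v x : V), lam x • g' v = lam (g.symm (g' x)) • g v := by
    intro v x
    have h1 := hφg (lam.smulRight v)
    rw [hφg' (lam.smulRight v)] at h1
    have h2 := LinearMap.congr_fun h1 (g' x)
    simpa using h2
  have hg' : ∀ v : V, g' v = lam (g.symm (g' v₀)) • g v := by
    intro v
    have h1 := hcomm v v₀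
    rwa [hlam0, one_smul] at h1
  have hg'v₀ : g' v₀ ≠ 0 := fun h => hv₀ne (g'.map_eq_zero_iff.1 h)
  have hc : lam (g.symm (g' v₀)) ≠ 0 := by
    intro h0
    apply hg'v₀
    rw [hg' v₀, h0, zero_smul]
  refine ⟨?_, Units.mk0 _ hc, fun x => by rw [Units.smul_mk0]; exact hg' x⟩
  by_contra hne
  have hd : Disjoint (𝒲 (i₀ + n')) (𝒲 (i₀ + (j₀ - i₀))) :=
    h𝒲.submodule_iSupIndep.pairwiseDisjoint (fun h => hne (add_left_cancel h))
  have hm1 : g' v₀ ∈ 𝒲 (i₀ + n') := by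
    rw [← hmap' i₀]
    exact Submodule.mem_map_of_mem hv₀
  have hm2 : g' v₀ ∈ 𝒲 (i₀ + (j₀ - i₀)) := by
    rw [hg' v₀]
    exact Submodule.smul_mem _ _ (hgle i₀ v₀ hv₀)
  exact hg'v₀ (Submodule.disjoint_def.1 hd _ hm1 hm2)

end Groth.Agent.S13846
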