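import Groth.Statements.S13847
import Mathlib

set_option autoImplicit false
universe u v
open TwSh

namespace Groth.Agent.S13847

section Helpers

variable {A : Type u} [Ring A]

/-- `M / J M` -/
abbrev Bar (A : Type u) [Ring A] (M : Type v) [AddCommGroup M] [Module A M] : Type v :=
  M ⧸ (Ring.jacobson A • (⊤ : Submodule A M))

/-- `A / J` -/
abbrev Abar (A : Type u) [Ring A] : Type u := A ⧸ Ring.jacobson A

variable {M N L : Type v} [AddCommGroup M] [Module A M] [AddCommGroup N] [Module A N]
  [AddCommGroup L] [Module A L]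

theorem jsmul_le_comap (f : M →ₗ[A] N) :
    (Ring.jacobson A • (⊤ : Submodule A M)) ≤
      (Ring.jacobson A • (⊤ : Submodule A N)).comap f := by
  rw [← Submodule.map_le_iff_le_comap, Submodule.map_smul'']
  exact Submodule.smul_mono le_rfl le_top

/-- reduction of a linear map modulo the radical -/
noncomputable def barMap (f : M →ₗ[A] N) : Bar A M →ₗ[Abar A] Bar A N where
  toFun := Submodule.mapQ _ _ f (jsmul_le_comap f)
  map_add' := map_add _
  map_smul' := by
    intro r x
    obtain ⟨a, rfl⟩ := Ideal.Quotient.mk_surjective r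
    exact map_smul (Submodule.mapQ _ _ f (jsmul_le_comap f)) a x

theorem barMap_mk (f : M →ₗ[A] N) (x : M) :
    barMap f (Submodule.Quotient.mk x) = Submodule.Quotient.mk (f x) := rfl

theorem barMap_comp (g : N →ₗ[A] L) (f : M →ₗ[A] N) :
    barMap (g ∘ₗ f) = barMap g ∘ₗ barMap f := by
  refine LinearMap.ext fun x => ?_
  obtain ⟨x, rfl⟩ := Submodule.Quotient.mk_surjective _ x
  rfl

theorem barMap_id : barMap (LinearMap.id : M →ₗ[A] M) = LinearMap.id := by
  refine LinearMap.ext fun x => ?_
  obtain ⟨x, rfl⟩ := Submodule.Quotient.mk_surjective _ x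
  rfl

theorem barMap_add (f g : M →ₗ[A] N) : barMap (f + g) = barMap f + barMap g := by
  refine LinearMap.ext fun x => ?_
  obtain ⟨x, rfl⟩ := Submodule.Quotient.mk_surjective _ x
  rfl

theorem barMap_zero : barMap (0 : M →ₗ[A] N) = 0 := by
  refine LinearMap.ext fun x => ?_
  obtain ⟨x, rfl⟩ := Submodule.Quotient.mk_surjective _ x
  rfl

/-- the ring hom `End P → End P̄` -/
noncomputable def phi (A : Type u) [Ring A] (M : Type v) [AddCommGroup M] [Module A M] :
    Module.End A M →+* Module.End (Abar A) (Bar A M) where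
  toFun := barMap
  map_one' := barMap_id
  map_mul' f g := barMap_comp f g
  map_zero' := barMap_zero
  map_add' := barMap_add

theorem phi_apply (f : Module.End A M) : phi A M f = barMap f := rfl

theorem exists_lift [Module.Projective A M] (g : Bar A M →ₗ[Abar A] Bar A N) :
    ∃ h : M →ₗ[A] N, barMap h = g := by
  let g' : M →ₗ[A] Bar A N :=
    { toFun := fun x => g (Submodule.Quotient.mk x)
      map_add' := by
        intro x y
        rw [Submodule.Quotient.mk_add, map_add]
      map_smul' := by
        intro a x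
        have h1 : (Submodule.Quotient.mk (a • x) : Bar A M) =
            (Ideal.Quotient.mk (Ring.jacobson A) a) • (Submodule.Quotient.mk x : Bar A M) := rfl
        rw [h1, map_smul]
        rfl }
  obtain ⟨h, hh⟩ := Module.projective_lifting_property
    (Submodule.mkQ (Ring.jacobson A • (⊤ : Submodule A N))) g' (Submodule.mkQ_surjective _)
  refine ⟨h, LinearMap.ext fun x => ?_⟩
  obtain ⟨x, rfl⟩ := Submodule.Quotient.mk_surjective _ x
  exact LinearMap.congr_fun hh x

theorem nak_top [Module.Finite A N] (K : Submodule A N)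
    (h : K ⊔ Ring.jacobson A • (⊤ : Submodule A N) = ⊤) : K = ⊤ := by
  have fg : (⊤ : Submodule A (N ⧸ K)).FG := Module.Finite.fg_top
  have h0 : (⊤ : Submodule A (N ⧸ K)) = ⊥ := by
    apply fg.eq_bot_of_le_jacobson_smul
    have h1 : Submodule.map K.mkQ (K ⊔ Ring.jacobson A • (⊤ : Submodule A N)) = ⊤ := by
      rw [h, Submodule.map_top, Submodule.range_mkQ]
    rw [Submodule.map_sup, Submodule.mkQ_map_self, bot_sup_eq, Submodule.map_smul'',
      Submodule.map_top, Submodule.range_mkQ] at h1
    exact h1.ge
  exact Submodule.Quotient.subsingleton_iff.1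
    ((Submodule.subsingleton_iff A).1 (subsingleton_of_bot_eq_top h0.symm))

theorem surj_of_bar_id [Module.Finite A M] (g : M →ₗ[A] M) (hg : barMap g = LinearMap.id) :
    Function.Surjective g := by
  rw [← LinearMap.range_eq_top]
  apply nak_top
  rw [eq_top_iff]
  intro x _
  have h1 : (Submodule.Quotient.mk (g x) : Bar A M) = Submodule.Quotient.mk x := by
    rw [← barMap_mk, hg]; rfl
  have h2 : x - g x ∈ Ring.jacobson A • (⊤ : Submodule A M) := by
    rw [← Submodule.Quotient.mk_eq_zero, Submodule.Quotient.mk_sub, h1, sub_self]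
  have h3 : x = g x + (x - g x) := by abel
  rw [h3]
  exact Submodule.add_mem_sup (LinearMap.mem_range_self g x) h2

theorem core [Module.Finite A M] [Module.Projective A M] (g : M →ₗ[A] M)
    (hg : barMap g = LinearMap.id) : Function.Bijective g := by
  have hs := surj_of_bar_id g hg
  obtain ⟨s, hsg⟩ := Module.projective_lifting_property g (LinearMap.id : M →ₗ[A] M) hs
  have h1 : barMap s = LinearMap.id := by
    have := congrArg barMap hsg
    rw [barMap_comp, hg, barMap_id] at this
    exact this
  have hs' := surj_of_bar_id s h1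
  refine ⟨?_, hs⟩
  rw [injective_iff_map_eq_zero]
  intro x hx
  obtain ⟨y, rfl⟩ := hs' x
  have : g (s y) = y := LinearMap.congr_fun hsg y
  rw [this] at hx
  rw [hx, map_zero]

end Helpers

section Key

variable {A : Type u} [Ring A]
variable {M : Type v} [AddCommGroup M] [Module A M]

instance barFinite [Module.Finite A M] : Module.Finite (Abar A) (Bar A M) := by
  let g : M →ₛₗ[Ideal.Quotient.mk (Ring.jacobson A)] Bar A M :=
    { toFun := fun x => Submodule.Quotient.mk x
      map_add' := fun _ _ => rfl
      map_smul' := fun _ _ => rfl }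
  exact Module.Finite.of_surjective g (Submodule.Quotient.mk_surjective _)

theorem phi_surjective [Module.Projective A M] : Function.Surjective (phi A M) :=
  fun g => exists_lift g

theorem mem_jac_of_phi_eq_zero [Module.Finite A M] [Module.Projective A M]
    (f : Module.End A M) (hf : phi A M f = 0) : f ∈ Ring.jacobson (Module.End A M) := by
  rw [← Ideal.jacobson_bot, Ideal.mem_jacobson_iff]
  intro y
  have hu : barMap (y * f + 1) = LinearMap.id := by
    have : phi A M (y * f + 1) = 1 := by
      rw [map_add, map_mul, hf, mul_zero, zero_add, map_one]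
    exact this
  have hb := core (y * f + 1) hu
  let E := LinearEquiv.ofBijective (y * f + 1) hb
  refine ⟨(E.symm : M →ₗ[A] M), ?_⟩
  have h1 : (E.symm : M →ₗ[A] M) * (y * f + 1) = 1 :=
    LinearMap.ext fun x => E.symm_apply_apply x
  rw [Ideal.mem_bot, mul_assoc, ← mul_add_one, h1, sub_self]

theorem phi_eq_zero_of_mem_jac [IsSimpleRing (A ⧸ Ring.jacobson A)]
    [IsArtinianRing (A ⧸ Ring.jacobson A)] [Module.Finite A M] [Module.Projective A M]
    (f : Module.End A M) (hf : f ∈ Ring.jacobson (Module.End A M)) : phi A M f = 0 := by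
  have : RingHomSurjective (phi A M) := ⟨phi_surjective⟩
  have h := Ring.le_comap_jacobson (phi A M) hf
  rw [Ideal.mem_comap] at h
  have : IsSemisimpleRing (Module.End (Abar A) (Bar A M)) := IsSemisimpleRing.moduleEnd _ _
  have hb : Ring.jacobson (Module.End (Abar A) (Bar A M)) = ⊥ :=
    IsSemisimpleRing.jacobson_eq_bot _
  exact (Ideal.mem_bot).1 (hb.le h)

/-- `k` elements which are nonzero orthogonal idempotents modulo the radical -/
def HasOrth (E : Type*) [Ring E] (k : ℕ) : Prop :=
  ∃ e : Fin k → E, (∀ i, e i ∉ Ring.jacobson E) ∧ (∀ i, e i * e i - e i ∈ Ring.jacobson E) ∧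
    (∀ i j, i ≠ j → e i * e j ∈ Ring.jacobson E)

theorem mem_jac_equiv {E E' : Type*} [Ring E] [Ring E'] (σ : E ≃+* E') (x : E) :
    σ x ∈ Ring.jacobson E' ↔ x ∈ Ring.jacobson E := by
  constructor
  · intro h
    have : RingHomSurjective (σ.symm : E' →+* E) := ⟨σ.symm.surjective⟩
    have := Ring.le_comap_jacobson (σ.symm : E' →+* E) h
    rw [Ideal.mem_comap] at this
    simpa using this
  · intro h
    have : RingHomSurjective (σ : E →+* E') := ⟨σ.surjective⟩
    exact Ring.le_comap_jacobson (σ : E →+* E') h

theorem HasOrth.map {E E' : Type*} [Ring E] [Ring E'] (σ : E ≃+* E') {k : ℕ}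
    (h : HasOrth E k) : HasOrth E' k := by
  obtain ⟨e, h1, h2, h3⟩ := h
  refine ⟨fun i => σ (e i), fun i => ?_, fun i => ?_, fun i j hij => ?_⟩
  · rw [mem_jac_equiv]; exact h1 i
  · rw [← map_mul, ← map_sub, mem_jac_equiv]; exact h2 i
  · rw [← map_mul, mem_jac_equiv]; exact h3 i j hij

theorem hasOrth_of_equiv [IsSimpleRing (A ⧸ Ring.jacobson A)]
    [IsArtinianRing (A ⧸ Ring.jacobson A)] [Module.Finite A M] [Module.Projective A M]
    {S : Type*} [AddCommGroup S] [Module (Abar A) S] [Nontrivial S] (n : ℕ)
    (ε : Bar A M ≃ₗ[Abar A] (Fin n → S)) : HasOrth (Module.End A M) n := by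
  classical
  let q : Fin n → Module.End (Abar A) (Fin n → S) :=
    fun i => LinearMap.single (Abar A) (fun _ : Fin n => S) i ∘ₗ LinearMap.proj i
  let p : Fin n → Module.End (Abar A) (Bar A M) :=
    fun i => (ε.symm : (Fin n → S) →ₗ[Abar A] Bar A M) ∘ₗ q i ∘ₗ (ε : Bar A M →ₗ[Abar A] (Fin n → S))
  choose e he using fun i => phi_surjective (A := A) (M := M) (p i)
  have hqa : ∀ i (x : Fin n → S), q i x = Pi.single i (x i) := fun i x => rfl
  have hq1 : ∀ i (x : Fin n → S), q i (q i x) = q i x := by
    intro i x
    rw [hqa, hqa, Pi.single_eq_same]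
  have hq2 : ∀ i j, i ≠ j → ∀ x : Fin n → S, q i (q j x) = 0 := by
    intro i j hij x
    rw [hqa, hqa, Pi.single_eq_of_ne hij, Pi.single_zero]
  have hpa : ∀ i (x : Bar A M), p i x = ε.symm (q i (ε x)) := fun i x => rfl
  have hp1 : ∀ i, p i * p i = p i := by
    intro i
    refine LinearMap.ext fun x => ?_
    rw [Module.End.mul_apply, hpa, hpa, LinearEquiv.apply_symm_apply, hq1]
  have hp2 : ∀ i j, i ≠ j → p i * p j = 0 := by
    intro i j hij
    refine LinearMap.ext fun x => ?_
    rw [Module.End.mul_apply, hpa, hpa, LinearEquiv.apply_symm_apply, hq2 i j hij, map_zero]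
    rfl
  have hp0 : ∀ i, p i ≠ 0 := by
    intro i h
    obtain ⟨s, hs⟩ := exists_ne (0 : S)
    have h1 : p i (ε.symm (Pi.single i s)) = 0 := by rw [h]; rfl
    rw [hpa, LinearEquiv.apply_symm_apply, hqa, Pi.single_eq_same] at h1
    have h3 : (Pi.single i s : Fin n → S) = 0 := by
      have := congrArg ε h1
      rwa [LinearEquiv.apply_symm_apply, map_zero] at this
    have h4 := congrFun h3 i
    rw [Pi.single_eq_same] at h4
    exact hs h4
  refine ⟨e, fun i hi => ?_, fun i => ?_, fun i j hij => ?_⟩
  · have := phi_eq_zero_of_mem_jac _ hi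
    rw [he] at this
    exact hp0 i this
  · apply mem_jac_of_phi_eq_zero
    rw [map_sub, map_mul, he, hp1, sub_self]
  · apply mem_jac_of_phi_eq_zero
    rw [map_mul, he, he, hp2 i j hij]

theorem le_length_of_hasOrth [IsSimpleRing (A ⧸ Ring.jacobson A)]
    [IsArtinianRing (A ⧸ Ring.jacobson A)] [Module.Finite A M] [Module.Projective A M]
    (k : ℕ) (h : HasOrth (Module.End A M) k) :
    (k : ℕ∞) ≤ Module.length (Abar A) (Bar A M) := by
  obtain ⟨e, h1, h2, h3⟩ := h
  let p : Fin k → Module.End (Abar A) (Bar A M) := fun i => phi A M (e i)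
  have hp0 : ∀ i, p i ≠ 0 := fun i h => h1 i (mem_jac_of_phi_eq_zero _ h)
  have hp1 : ∀ i, p i * p i = p i := by
    intro i
    have := phi_eq_zero_of_mem_jac _ (h2 i)
    rw [map_sub, map_mul, sub_eq_zero] at this
    exact this
  have hp2 : ∀ i j, i ≠ j → p i * p j = 0 := by
    intro i j hij
    have := phi_eq_zero_of_mem_jac _ (h3 i j hij)
    rwa [map_mul] at this
  let Φ : Bar A M →ₗ[Abar A] (Π i, LinearMap.range (p i)) :=
    LinearMap.pi (fun i => (p i).rangeRestrict)
  have hΦ : Function.Surjective Φ := by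
    intro y
    choose z hz using fun i => (y i).2
    refine ⟨∑ i, p i (z i), ?_⟩
    funext j
    apply Subtype.ext
    show p j (∑ i, p i (z i)) = (y j : Bar A M)
    rw [map_sum, Finset.sum_eq_single j]
    · have : p j (p j (z j)) = (p j * p j) (z j) := rfl
      rw [this, hp1, hz]
    · intro i _ hij
      have : p j (p i (z i)) = (p j * p i) (z i) := rfl
      rw [this, hp2 j i (Ne.symm hij)]; rfl
    · intro h; exact absurd (Finset.mem_univ j) h
  have hlen := Module.length_le_of_surjective Φ hΦ
  rw [Module.length_pi_of_fintype] at hlen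
  refine le_trans ?_ hlen
  have hone : ∀ i, (1 : ℕ∞) ≤ Module.length (Abar A) (LinearMap.range (p i)) := by
    intro i
    have : Nontrivial (LinearMap.range (p i)) := by
      rw [Submodule.nontrivial_iff_ne_bot]
      intro hbot
      exact hp0 i (LinearMap.range_eq_bot.1 hbot)
    exact Order.one_le_iff_pos.2 Module.length_pos
  calc (k : ℕ∞) = ∑ _i : Fin k, (1 : ℕ∞) := by simp
    _ ≤ _ := Finset.sum_le_sum fun i _ => hone i

theorem exists_simple (B : Type u) [Ring B] [IsSimpleRing B] [IsArtinianRing B] :
    ∃ I : Ideal B, IsSimpleModule B I := by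
  obtain ⟨I, hI⟩ := IsAtomic.exists_atom (Ideal B)
  exact ⟨I, isSimpleModule_iff_isAtom.2 hI⟩

theorem isotypic_of_type (B : Type u) [Ring B] [IsSimpleRing B] [IsArtinianRing B]
    (S : Type u) [AddCommGroup S] [Module B S] [IsSimpleModule B S]
    (X : Type v) [AddCommGroup X] [Module B X] : IsIsotypicOfType B X S := by
  have hN := IsSimpleRing.isIsotypic B (X × S)
  let m₀ : Submodule B (X × S) := LinearMap.range (LinearMap.inr B X S)
  let e₀ : S ≃ₗ[B] m₀ := LinearEquiv.ofInjective (LinearMap.inr B X S) LinearMap.inr_injective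
  have : IsSimpleModule B m₀ := IsSimpleModule.congr e₀.symm
  have h1 : IsIsotypicOfType B (X × S) m₀ := hN m₀
  have h2 : IsIsotypicOfType B (X × S) S := h1.of_linearEquiv_type e₀.symm
  exact h2.of_injective (LinearMap.inl B X S) LinearMap.inl_injective

end Key

/-- Let A be a ring which is strongly local, that is, the quotient of A by its Jacobson radical J is a
simple left-Artinian ring, and let P and Q be finitely generated projective left A-modules. If
End_A(P) and End_A(Q) are isomorphic as rings, then P ≅ Q as A-modules. (The published assertion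
says more, that every ring isomorphism End_A(P) ≅ End_A(Q) is induced by an isomorphism P ≅ Q; that
is not correct for isomorphisms which are not linear over the centre — complex conjugation is a ring
automorphism of End_ℂ(ℂ) = ℂ induced by no ℂ-linear map — and this row keeps the existence of an
isomorphism P ≅ Q, which is what the first part of the printed proof establishes.) -/
theorem result (A : Type u) [Ring A] [IsSimpleRing (A ⧸ Ring.jacobson A)] [IsArtinianRing (A ⧸ Ring.jacobson A)] (P Q : Type v) [AddCommGroup P] [Module A P] [Module.Finite A P] [Module.Projective A P] [AddCommGroup Q] [Module A Q] [Module.Finite A Q] [Module.Projective A Q] (e : Module.End A P ≃+* Module.End A Q) : Nonempty (P ≃ₗ[A] Q) := by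
  obtain ⟨I₀, hI₀⟩ := exists_simple (Abar A)
  have := hI₀
  have hnt : Nontrivial I₀ := IsSimpleModule.nontrivial (Abar A) I₀
  obtain ⟨n, ⟨εP⟩⟩ := (isotypic_of_type (Abar A) I₀ (Bar A P)).linearEquiv_fun
  obtain ⟨m, ⟨εQ⟩⟩ := (isotypic_of_type (Abar A) I₀ (Bar A Q)).linearEquiv_fun
  have lenP : Module.length (Abar A) (Bar A P) = n := by
    rw [εP.length_eq, Module.length_pi, Module.length_eq_one, mul_one]; simp
  have lenQ : Module.length (Abar A) (Bar A Q) = m := by
    rw [εQ.length_eq, Module.length_pi, Module.length_eq_one, mul_one]; simp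
  have hnm : n ≤ m := by
    have h1 : HasOrth (Module.End A P) n := hasOrth_of_equiv n εP
    have h2 := le_length_of_hasOrth n (h1.map e)
    rw [lenQ] at h2
    exact_mod_cast h2
  have hmn : m ≤ n := by
    have h1 : HasOrth (Module.End A Q) m := hasOrth_of_equiv m εQ
    have h2 := le_length_of_hasOrth m (h1.map e.symm)
    rw [lenP] at h2
    exact_mod_cast h2
  have hEq : n = m := le_antisymm hnm hmn
  subst hEq
  let ε : Bar A P ≃ₗ[Abar A] Bar A Q := εP.trans εQ.symm
  obtain ⟨f, hf⟩ := exists_lift (M := P) (N := Q) (ε : Bar A P →ₗ[Abar A] Bar A Q)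
  obtain ⟨f', hf'⟩ := exists_lift (M := Q) (N := P) (ε.symm : Bar A Q →ₗ[Abar A] Bar A P)
  have h1 : barMap (f' ∘ₗ f) = LinearMap.id := by
    rw [barMap_comp, hf, hf']
    exact LinearMap.ext fun x => ε.symm_apply_apply x
  have h2 : barMap (f ∘ₗ f') = LinearMap.id := by
    rw [barMap_comp, hf, hf']
    exact LinearMap.ext fun x => ε.apply_symm_apply x
  have b1 := core _ h1
  have b2 := core _ h2
  have hinj : Function.Injective f := by
    have := b1.1
    rw [LinearMap.coe_comp] at this
    exact Function.Injective.of_comp this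
  have hsurj : Function.Surjective f := by
    have := b2.2
    rw [LinearMap.coe_comp] at this
    exact Function.Surjective.of_comp this
  exact ⟨LinearEquiv.ofBijective f ⟨hinj, hsurj⟩⟩

end Groth.Agent.S13847
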