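import Groth.Statements.S13848
import Mathlib.RingTheory.Ideal.Quotient.Operations
import Mathlib.RingTheory.Ideal.Maximal
-- import your own Groth.Agent.* helpers here

set_option autoImplicit false
universe u v
open TwSh

namespace Groth.Agent.S13848

/-- The trace ideal of a module: the sum of the images of all linear functionals. -/
def traceIdeal (A : Type u) [Ring A] (P : Type v) [AddCommGroup P] [Module A P] : Ideal A :=
  ⨆ f : P →ₗ[A] A, LinearMap.range f

theorem traceIdeal_mul_mem (A : Type u) [Ring A] (P : Type v) [AddCommGroup P] [Module A P]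
    {a : A} (b : A) (ha : a ∈ traceIdeal A P) : a * b ∈ traceIdeal A P := by
  refine Submodule.iSup_induction (fun f : P →ₗ[A] A => LinearMap.range f)
    (motive := fun a => a * b ∈ traceIdeal A P) ha ?_ ?_ ?_
  · rintro f _ ⟨x, rfl⟩
    exact Submodule.mem_iSup_of_mem ((LinearMap.toSpanSingleton A A b).comp f) ⟨x, by simp⟩
  · simp
  · intro x y hx hy
    rw [add_mul]
    exact add_mem hx hy

instance (A : Type u) [Ring A] (P : Type v) [AddCommGroup P] [Module A P] :
    (traceIdeal A P).IsTwoSided := ⟨fun b ha => traceIdeal_mul_mem A P b ha⟩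

theorem top_le_smul_of_traceIdeal_le (A : Type u) [Ring A] (P : Type v) [AddCommGroup P] [Module A P]
    [Module.Projective A P] (J : Ideal A) (h : traceIdeal A P ≤ J) :
    (⊤ : Submodule A P) ≤ J • (⊤ : Submodule A P) := by
  obtain ⟨s, hs⟩ := (Module.projective_def' (R := A) (P := P)).1 inferInstance
  intro x _
  have hx : x = Finsupp.linearCombination A id (s x) := by
    rw [← LinearMap.comp_apply, hs, LinearMap.id_apply]
  rw [hx, Finsupp.linearCombination_apply]
  refine Submodule.sum_mem _ fun p _ => ?_
  refine Submodule.smul_mem_smul (h ?_) Submodule.mem_top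
  exact Submodule.mem_iSup_of_mem ((Finsupp.lapply p).comp s) ⟨x, rfl⟩

theorem traceIdeal_eq_top (A : Type u) [Ring A] [IsSimpleRing (A ⧸ Ring.jacobson A)]
    (P : Type v) [AddCommGroup P] [Module A P] [Module.Finite A P] [Module.Projective A P]
    [Nontrivial P] : traceIdeal A P = ⊤ := by
  set T := traceIdeal A P with hT
  set J := Ring.jacobson A with hJ
  have hI : (T ⊔ J).IsTwoSided := ⟨fun {a} b ha => by
    obtain ⟨t, ht, j, hj, rfl⟩ := Submodule.mem_sup.1 ha
    rw [add_mul]
    exact Submodule.add_mem_sup (Ideal.mul_mem_right b T ht) (Ideal.mul_mem_right b J hj)⟩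
  rcases IsSimpleRing.injective_ringHom_or_subsingleton_codomain
    (Ideal.Quotient.factor (le_sup_right : J ≤ T ⊔ J)) with hinj | hsub
  · exfalso
    have hTJ : T ≤ J := by
      intro t ht
      have h0 : Ideal.Quotient.factor (le_sup_right : J ≤ T ⊔ J) (Ideal.Quotient.mk J t) = 0 := by
        rw [Ideal.Quotient.factor_mk, Ideal.Quotient.eq_zero_iff_mem]
        exact Submodule.mem_sup_left ht
      rw [← map_zero (Ideal.Quotient.factor (le_sup_right : J ≤ T ⊔ J))] at h0
      exact Ideal.Quotient.eq_zero_iff_mem.1 (hinj h0)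
    have h1 := top_le_smul_of_traceIdeal_le A P J hTJ
    have h2 : (⊤ : Submodule A P) = ⊥ :=
      Submodule.FG.eq_bot_of_le_jacobson_smul Module.Finite.fg_top h1
    exact top_ne_bot h2
  · have hI' : T ⊔ J = ⊤ := Ideal.Quotient.subsingleton_iff.1 hsub
    by_contra hne
    obtain ⟨m, hm, hTm⟩ := Ideal.exists_le_maximal T hne
    have h3 : J ≤ m := Ring.jacobson_le_of_isMaximal m
    have h4 : T ⊔ J ≤ m := sup_le hTm h3
    rw [hI'] at h4
    exact hm.ne_top (top_le_iff.1 h4)

/-- Let A be a ring with A/J a simple left-Artinian ring, J the Jacobson radical, and let P be a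
non-zero finitely generated projective left A-module. An A-linear automorphism u of P which commutes
with every A-linear endomorphism of P (equivalently, induces the identity on End_A(P) by
conjugation) is scalar multiplication by a unique central element a of A: u(x) = a·x for all x ∈ P,
and a is determined by u. (So the automorphisms of P acting trivially on End_A(P) are exactly the
central units of A acting by scalars; the published assertion does not exclude P = 0, where
uniqueness fails.) -/
theorem result (A : Type u) [Ring A] [IsSimpleRing (A ⧸ Ring.jacobson A)] [IsArtinianRing (A ⧸ Ring.jacobson A)] (P : Type v) [AddCommGroup P] [Module A P] [Module.Finite A P] [Module.Projective A P] [Nontrivial P] (u : P ≃ₗ[A] P) (hu : ∀ f : Module.End A P, (u : P →ₗ[A] P) ∘ₗ f = f ∘ₗ (u : P →ₗ[A] P)) : ∃! a : A, (∀ b : A, a * b = b * a) ∧ ∀ x : P, u x = a • x := by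
  have hT := traceIdeal_eq_top A P
  have h1 : (1 : A) ∈ traceIdeal A P := hT ▸ Submodule.mem_top
  have key : ∀ t ∈ traceIdeal A P, ∃ a : A, ∀ x : P, t • u x = a • x := by
    intro t ht
    refine Submodule.iSup_induction (fun f : P →ₗ[A] A => LinearMap.range f)
      (motive := fun t => ∃ a : A, ∀ x : P, t • u x = a • x) ht ?_ ?_ ?_
    · rintro f _ ⟨p, rfl⟩
      refine ⟨f (u p), fun x => ?_⟩
      have := LinearMap.congr_fun (hu (LinearMap.smulRight f x)) p
      simpa using this
    · exact ⟨0, fun x => by simp⟩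
    · rintro t1 t2 ⟨a1, h1⟩ ⟨a2, h2⟩
      exact ⟨a1 + a2, fun x => by rw [add_smul, add_smul, h1, h2]⟩
  have faithful : ∀ t ∈ traceIdeal A P, ∀ c : A, (∀ x : P, c • x = 0) → c * t = 0 := by
    intro t ht
    refine Submodule.iSup_induction (fun f : P →ₗ[A] A => LinearMap.range f)
      (motive := fun t => ∀ c : A, (∀ x : P, c • x = 0) → c * t = 0) ht ?_ ?_ ?_
    · rintro f _ ⟨p, rfl⟩ c hc
      rw [← smul_eq_mul, ← map_smul, hc, map_zero]
    · intro c _
      simp
    · intro t1 t2 h1 h2 c hc
      rw [mul_add, h1 c hc, h2 c hc, add_zero]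
  have faithful' : ∀ c : A, (∀ x : P, c • x = 0) → c = 0 := fun c hc => by
    simpa using faithful 1 h1 c hc
  obtain ⟨a, ha⟩ := key 1 h1
  simp only [one_smul] at ha
  refine ⟨a, ⟨fun b => ?_, ha⟩, ?_⟩
  · have h0 : a * b - b * a = 0 := faithful' _ fun x => by
      rw [sub_smul, mul_smul, mul_smul, ← ha, ← ha, map_smul, sub_self]
    exact sub_eq_zero.1 h0
  · rintro a' ⟨_, ha'⟩
    have h0 : a' - a = 0 := faithful' _ fun x => by
      rw [sub_smul, ← ha, ← ha', sub_self]
    exact sub_eq_zero.1 h0

end Groth.Agent.S13848
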