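import Groth.Statements.S13860
import Mathlib.GroupTheory.Sylow
import Mathlib.GroupTheory.Coset.Card
import Mathlib.Algebra.CharP.Basic
-- import your own Groth.Agent.* helpers here

set_option autoImplicit false
universe u v w
open ModRep

namespace Groth.Agent.S13860

/-- For k a field of characteristic p > 0, G a finite group and P a Sylow p-subgroup of G, a short exact
sequence of k[G]-modules has a k[G]-linear splitting exactly when it has a k[P]-linear one. Stated
here for the surjection of the sequence: a G-equivariant k-linear map g : B → C between k-linear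
representations of G admits a G-equivariant k-linear section if and only if it admits a
P-equivariant k-linear section. -/
theorem result {k : Type u} [Field k] (p : ℕ) [Fact p.Prime]
    [CharP k p] {G : Type v} [Group G] [Finite G] (P : Sylow p G)
    {B C : Type w} [AddCommGroup B] [Module k B] [AddCommGroup C] [Module k C]
    (ρB : Representation k G B) (ρC : Representation k G C)
    (g : B →ₗ[k] C) (hg : ∀ x : G, g ∘ₗ ρB x = ρC x ∘ₗ g) :
    (∃ s : C →ₗ[k] B, g ∘ₗ s = LinearMap.id ∧ ∀ x : G, s ∘ₗ ρC x = ρB x ∘ₗ s) ↔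
      (∃ s : C →ₗ[k] B, g ∘ₗ s = LinearMap.id ∧ ∀ x : G, x ∈ P → s ∘ₗ ρC x = ρB x ∘ₗ s) := by
  classical
  constructor
  · rintro ⟨s, hs, hsG⟩
    exact ⟨s, hs, fun x _ => hsG x⟩
  · rintro ⟨s, hs, hsP⟩
    letI : Fintype (G ⧸ (P : Subgroup G)) := Fintype.ofFinite _
    -- conjugates of the section
    let t : G → (C →ₗ[k] B) := fun y => ρB y ∘ₗ s ∘ₗ ρC y⁻¹
    have ht : ∀ (y : G) (h : G), h ∈ (P : Subgroup G) → t (y * h) = t y := by
      intro y h hh
      have h1 := hsP h⁻¹ (inv_mem hh)
      show ρB (y * h) ∘ₗ s ∘ₗ ρC (y * h)⁻¹ = ρB y ∘ₗ s ∘ₗ ρC y⁻¹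
      rw [mul_inv_rev, map_mul, map_mul]
      ext c
      simp only [LinearMap.comp_apply, Module.End.mul_apply]
      have h2 : s (ρC h⁻¹ (ρC y⁻¹ c)) = ρB h⁻¹ (s (ρC y⁻¹ c)) := LinearMap.congr_fun h1 _
      rw [h2]
      have h3 : ρB h (ρB h⁻¹ (s (ρC y⁻¹ c))) = (ρB (h * h⁻¹)) (s (ρC y⁻¹ c)) := by
        rw [map_mul]; rfl
      rw [h3, mul_inv_cancel, map_one]
      rfl
    let T : G ⧸ (P : Subgroup G) → (C →ₗ[k] B) := fun c =>
      Quotient.liftOn' c t (fun a b hab => by
        have hab' : a⁻¹ * b ∈ (P : Subgroup G) := QuotientGroup.leftRel_apply.1 hab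
        have := ht a (a⁻¹ * b) hab'
        rw [mul_inv_cancel_left] at this
        exact this.symm)
    have hT : ∀ y : G, T (QuotientGroup.mk y) = t y := fun y => rfl
    have hgT : ∀ c, g ∘ₗ T c = LinearMap.id := by
      intro c
      induction c using QuotientGroup.induction_on with
      | H y =>
        rw [hT]
        show g ∘ₗ (ρB y ∘ₗ s ∘ₗ ρC y⁻¹) = LinearMap.id
        ext c
        simp only [LinearMap.comp_apply, LinearMap.id_apply]
        have e1 : g (ρB y (s (ρC y⁻¹ c))) = ρC y (g (s (ρC y⁻¹ c))) := LinearMap.congr_fun (hg y) _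
        have e2 : g (s (ρC y⁻¹ c)) = ρC y⁻¹ c := LinearMap.congr_fun hs _
        rw [e1, e2]
        have : ρC y (ρC y⁻¹ c) = (ρC (y * y⁻¹)) c := by rw [map_mul]; rfl
        rw [this, mul_inv_cancel, map_one]
        rfl
    have hxT : ∀ (x : G) (c : G ⧸ (P : Subgroup G)), ρB x ∘ₗ T c = T (x • c) ∘ₗ ρC x := by
      intro x c
      induction c using QuotientGroup.induction_on with
      | H y =>
        have : x • (QuotientGroup.mk y : G ⧸ (P : Subgroup G)) = QuotientGroup.mk (x * y) := rfl
        rw [this, hT, hT]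
        show ρB x ∘ₗ (ρB y ∘ₗ s ∘ₗ ρC y⁻¹) = (ρB (x * y) ∘ₗ s ∘ₗ ρC (x * y)⁻¹) ∘ₗ ρC x
        ext c
        simp only [LinearMap.comp_apply, mul_inv_rev, map_mul, Module.End.mul_apply]
        have : ρC x⁻¹ (ρC x c) = (ρC (x⁻¹ * x)) c := by rw [map_mul]; rfl
        rw [this, inv_mul_cancel, map_one]
        rfl
    -- the index is invertible in k
    have hn : ((Fintype.card (G ⧸ (P : Subgroup G)) : ℕ) : k) ≠ 0 := by
      rw [Ne, CharP.cast_eq_zero_iff k p]
      have h1 : (P : Subgroup G).index = Fintype.card (G ⧸ (P : Subgroup G)) := by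
        rw [Subgroup.index, Nat.card_eq_fintype_card]
      rw [← h1]
      exact P.not_dvd_index
    set n : k := ((Fintype.card (G ⧸ (P : Subgroup G)) : ℕ) : k) with hn_def
    refine ⟨n⁻¹ • ∑ c : G ⧸ (P : Subgroup G), T c, ?_, ?_⟩
    · ext c
      have h1 : ∀ d : G ⧸ (P : Subgroup G), g (T d c) = c := fun d => LinearMap.congr_fun (hgT d) c
      simp only [LinearMap.comp_apply, LinearMap.smul_apply, LinearMap.sum_apply, map_smul, map_sum,
        h1, Finset.sum_const, Finset.card_univ, LinearMap.id_apply]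
      rw [← Nat.cast_smul_eq_nsmul k, smul_smul, inv_mul_cancel₀ hn, one_smul]
    · intro x
      ext c
      have h1 : ∀ d : G ⧸ (P : Subgroup G), ρB x (T d c) = T (x • d) (ρC x c) :=
        fun d => LinearMap.congr_fun (hxT x d) c
      simp only [LinearMap.comp_apply, LinearMap.smul_apply, LinearMap.sum_apply, map_smul, map_sum,
        h1]
      congr 1
      exact (Equiv.sum_comp (MulAction.toPerm x : Equiv.Perm (G ⧸ (P : Subgroup G)))
        (fun d => T d (ρC x c))).symm

end Groth.Agent.S13860
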