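import Groth.Statements.S13872
import Groth.Agent.Lib.Helper59.PolarGamma

set_option autoImplicit false
universe u
open scoped TensorProduct
open ZeroCyc

namespace Groth.Agent.S13872

/-- Let A be a commutative ring, B an A-algebra and d ≥ 1; let (C, γ) be the degree-d divided power
algebra Γ^d_A(B) with its universal multiplicative law γ : B → C of degree d (every multiplicative
law of degree d out of B factors uniquely through γ), and let φ : Γ^d_A(B) → TS^d_A(B) be the
canonical homomorphism to the symmetric tensors, taken as data characterised by: after any base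
change S, φ ∘ γ sends Σ_j s_j ⊗ b_j to Σ_{c : [d] → [n]} (∏_i s_{c(i)}) ⊗ (b_{c(1)} ⊗ ⋯ ⊗ b_{c(d)}),
i.e. φ corresponds to the law x ↦ x ⊗ ⋯ ⊗ x. Then d!·x = 0 for every x in the kernel of φ, and d!·y
lies in the image of φ for every symmetric tensor y ∈ TS^d_A(B). (The published statement also
asserts x^{d!} = 0 and y^{d!} in the image of φ; those two halves are a separate result and are not
restated here.) -/
theorem result {A B C : Type u} [CommRing A] [CommRing B] [Algebra A B] [CommRing C] [Algebra A C] (d : ℕ) (hd : 0 < d)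
    (γ : PolLaw.MulLaw A B C d) (hγ : PolLaw.IsGammaD γ) (φ : C →ₐ[A] SymTen.TS A B d)
    (hφ : ∀ (S : Type u) [CommSemiring S] [Algebra A S] (n : ℕ) (s : Fin n → S) (b : Fin n → B),
      ((SymTen.TS A B d).val.comp φ).toLinearMap.lTensor S (γ.law.toFun' S (∑ j, s j ⊗ₜ[A] b j)) =
        ∑ c : Fin d → Fin n, (∏ i, s (c i)) ⊗ₜ[A] PiTensorProduct.tprod A (fun i => b (c i))) :
    (∀ x : C, φ x = 0 → d.factorial • x = 0) ∧
      (∀ y : SymTen.TS A B d, d.factorial • y ∈ φ.range) := by
  classical
  let vφ : C →ₗ[A] (⨂[A] _ : Fin d, B) := ((SymTen.TS A B d).val.comp φ).toLinearMap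
  let ψ : (⨂[A] _ : Fin d, B) →ₗ[A] C :=
    PiTensorProduct.lift (Groth.Agent.Lib.Helper59.Polar.pol γ.law (Fin d))
  have key1 : ∀ b : Fin d → B, vφ (Groth.Agent.Lib.Helper59.Polar.pol γ.law (Fin d) b) =
      ∑ σ : Equiv.Perm (Fin d), PiTensorProduct.tprod A (fun i => b (σ i)) := by
    intro b
    exact Groth.Agent.Lib.Helper59.PolarGamma.map_pol γ.law vφ b
      (fun c => PiTensorProduct.tprod A (fun i => b (c i)))
      (hφ (MvPolynomial (Fin d) A) d MvPolynomial.X b)
  refine ⟨?_, ?_⟩
  · -- the kernel is killed by `d!`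
    have hΘ : ∀ x : C, ψ (vφ x) = d.factorial • x := by
      let K : Submodule A C := LinearMap.eqLocus (ψ ∘ₗ vφ) (d.factorial • LinearMap.id)
      have hKtop : K = ⊤ := by
        apply Groth.Agent.Lib.Helper59.PolarGamma.span_coeff γ hγ
        intro S _ _ lam z
        show (ψ ∘ₗ vφ) (Groth.Agent.Lib.Helper59.CHCore.lamT lam _) =
          (d.factorial • LinearMap.id) (Groth.Agent.Lib.Helper59.CHCore.lamT lam _)
        rw [← Groth.Agent.Lib.Helper59.PolarGamma.lamT_lTensor, LinearMap.smul_apply,
          LinearMap.id_apply, ← map_nsmul]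
        congr 1
        obtain ⟨n, s, b, rfl⟩ := Groth.Agent.Lib.Helper59.PolarGamma.exists_fin_repr z
        rw [LinearMap.lTensor_comp, LinearMap.comp_apply, hφ S n s b, map_sum]
        simp only [LinearMap.lTensor_tmul, ψ, PiTensorProduct.lift.tprod]
        rw [← Groth.Agent.Lib.Helper59.Polar.polS_diag_sum,
          Groth.Agent.Lib.Helper59.Polar.polS_diag γ.law (Fintype.card_fin d) γ.homog]
      intro x
      have hx : x ∈ K := hKtop ▸ Submodule.mem_top
      exact hx
    intro x hx
    rw [← hΘ x]
    have h0 : vφ x = 0 := by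
      show ((φ x : SymTen.TS A B d) : ⨂[A] _ : Fin d, B) = 0
      rw [hx]
      rfl
    rw [h0, map_zero]
  · -- the cokernel is killed by `d!`
    intro y
    have hsym : ∀ t : ⨂[A] _ : Fin d, B,
        ∑ σ : Equiv.Perm (Fin d), PiTensorProduct.reindex A (fun _ : Fin d => B) σ t ∈
          LinearMap.range vφ := by
      intro t
      induction t using PiTensorProduct.induction_on with
      | smul_tprod r b =>
        simp only [map_smul, PiTensorProduct.reindex_tprod]
        rw [← Finset.smul_sum]
        apply Submodule.smul_mem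
        have h1 : ∑ σ : Equiv.Perm (Fin d), PiTensorProduct.tprod A (fun i => b (σ.symm i)) =
            ∑ σ : Equiv.Perm (Fin d), PiTensorProduct.tprod A (fun i => b (σ i)) :=
          Equiv.sum_comp (Equiv.inv (Equiv.Perm (Fin d)))
            (fun σ => PiTensorProduct.tprod A (fun i => b (σ i)))
        rw [h1]
        exact ⟨_, key1 b⟩
      | add x y hx hy =>
        simp only [map_add, Finset.sum_add_distrib]
        exact add_mem hx hy
    have h1 := hsym y.1
    have h2 : ∑ σ : Equiv.Perm (Fin d), PiTensorProduct.reindex A (fun _ : Fin d => B) σ y.1 =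
        d.factorial • y.1 := by
      rw [Finset.sum_congr rfl (fun σ _ => y.2 σ), Finset.sum_const, Finset.card_univ,
        Fintype.card_perm, Fintype.card_fin]
    rw [h2] at h1
    obtain ⟨c, hc⟩ := h1
    refine ⟨c, Subtype.ext ?_⟩
    show ((φ c : SymTen.TS A B d) : ⨂[A] _ : Fin d, B) = _
    exact hc

end Groth.Agent.S13872
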