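import Groth.Statements.S13877
import Groth.Agent.Lib.Helper71.LengthDet

set_option autoImplicit false
universe u v
open Crimp

namespace Groth.Agent.S13877

open Groth.Agent.Lib.Helper71.LengthDet Module

section
variable {k : Type u} [Field k]
    {St : Type v} [CommRing St] [Algebra (PowerSeries k) St] (d a b : ℕ)
    (bt : Module.Basis (Fin d) (PowerSeries k) St)
    (S : Subalgebra (PowerSeries k) St) (bS : Module.Basis (Fin d) (PowerSeries k) S)

lemma det_smul_mem (x : St) :
    Matrix.det (bt.toMatrix (fun i => (bS i : St))) • x ∈ S := by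
  set P := bt.toMatrix (fun i => (bS i : St)) with hP
  have hj : ∀ j, P.det • bt j = ∑ i, P.adjugate i j • (bS i : St) := by
    intro j
    have h1 : ∀ i, (bS i : St) = ∑ l, P l i • bt l := fun i =>
      (bt.sum_toMatrix_smul_self (fun i => (bS i : St)) i).symm
    calc P.det • bt j = ∑ l, (P * P.adjugate) l j • bt l := by
          rw [Matrix.mul_adjugate]
          simp [Matrix.smul_apply, Matrix.one_apply, ite_smul, mul_smul]
      _ = ∑ l, ∑ i, (P l i * P.adjugate i j) • bt l := by
          refine Finset.sum_congr rfl fun l _ => ?_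
          rw [Matrix.mul_apply, Finset.sum_smul]
      _ = ∑ i, ∑ l, (P l i * P.adjugate i j) • bt l := Finset.sum_comm
      _ = ∑ i, P.adjugate i j • (bS i : St) := by
          refine Finset.sum_congr rfl fun i _ => ?_
          rw [h1 i, Finset.smul_sum]
          refine Finset.sum_congr rfl fun l _ => ?_
          rw [smul_smul, mul_comm]
  have hx : x = ∑ j, bt.repr x j • bt j := (bt.sum_repr x).symm
  rw [hx, Finset.smul_sum]
  refine Subalgebra.sum_mem _ fun j _ => ?_
  rw [smul_comm, hj j]
  refine Subalgebra.smul_mem _ ?_ _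
  exact Subalgebra.sum_mem _ fun i _ => Subalgebra.smul_mem _ (bS i).2 _

theorem main
    (ha : Ideal.span {Algebra.discr (PowerSeries k) ⇑bt} = Ideal.span {(PowerSeries.X : PowerSeries k) ^ a})
    (hb : Ideal.span {Algebra.discr (PowerSeries k) ⇑bS} = Ideal.span {(PowerSeries.X : PowerSeries k) ^ b}) :
    (∀ q : St ⧸ Subalgebra.toSubmodule S, ((PowerSeries.X : PowerSeries k) ^ b) • q = 0) ∧
    2 * Module.length (PowerSeries k) (St ⧸ Subalgebra.toSubmodule S) + (a : ℕ∞) = (b : ℕ∞) := by
  classical
  set P := bt.toMatrix (fun i => (bS i : St)) with hP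
  have hdisc := discr_subalgebra_eq bt S bS
  rw [← hP] at hdisc
  have hassa : Associated (Algebra.discr (PowerSeries k) ⇑bt) ((PowerSeries.X : PowerSeries k) ^ a) :=
    Ideal.span_singleton_eq_span_singleton.1 ha
  have hassb : Associated (Algebra.discr (PowerSeries k) ⇑bS) ((PowerSeries.X : PowerSeries k) ^ b) :=
    Ideal.span_singleton_eq_span_singleton.1 hb
  have hXirr : Irreducible (PowerSeries.X : PowerSeries k) := PowerSeries.X_prime.irreducible
  have hXne : (PowerSeries.X : PowerSeries k) ≠ 0 := PowerSeries.X_ne_zero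
  -- D divides X^b
  have hdvd : P.det ∣ (PowerSeries.X : PowerSeries k) ^ b := by
    refine Dvd.dvd.trans ?_ hassb.dvd
    rw [hdisc, pow_two, mul_assoc]
    exact dvd_mul_right _ _
  obtain ⟨m, hmb, hm⟩ := (dvd_prime_pow PowerSeries.X_prime b).1 hdvd
  -- orders
  have hordX : ∀ n : ℕ, Ring.ord (PowerSeries k) ((PowerSeries.X : PowerSeries k) ^ n) = n := by
    intro n
    rw [Ring.ord_pow (mem_nonZeroDivisors_of_ne_zero hXne), Ring.ord_of_irreducible hXirr]
    simp
  have hordD : Ring.ord (PowerSeries k) P.det = m := by
    rw [Ring.ord_eq_of_associated hm, hordX]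
  have hbtne : Algebra.discr (PowerSeries k) ⇑bt ≠ 0 := by
    intro h
    rw [h] at hassa
    exact pow_ne_zero a hXne (hassa.symm.eq_zero_iff.2 rfl) |>.elim
  have hord : (2 : ℕ∞) * m + a = b := by
    have h1 : Ring.ord (PowerSeries k) (Algebra.discr (PowerSeries k) ⇑bS) = b := by
      rw [Ring.ord_eq_of_associated hassb, hordX]
    rw [hdisc, Ring.ord_mul _ (mem_nonZeroDivisors_of_ne_zero hbtne),
      Ring.ord_eq_of_associated hassa, hordX,
      Ring.ord_pow (mem_nonZeroDivisors_of_ne_zero (det_toMatrix_ne_zero bt S bS)), hordD] at h1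
    rw [← h1]
    simp [two_mul]
  have hlen : Module.length (PowerSeries k) (St ⧸ Subalgebra.toSubmodule S) = m := by
    have := length_quotient_eq_ord_det bt (Subalgebra.toSubmodule S)
      (bS.map S.toSubmoduleEquiv.symm)
    rw [this, ← hordD]
    rfl
  refine ⟨?_, by rw [hlen]; exact hord⟩
  intro q
  obtain ⟨x, rfl⟩ := Submodule.Quotient.mk_surjective _ q
  rw [← Submodule.Quotient.mk_smul, Submodule.Quotient.mk_eq_zero]
  obtain ⟨u, hu⟩ := hm
  have hX : (PowerSeries.X : PowerSeries k) ^ b =
      ((PowerSeries.X : PowerSeries k) ^ (b - m) * (u : PowerSeries k)) * P.det := by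
    rw [mul_assoc, mul_comm (u : PowerSeries k), hu, ← pow_add]
    congr 1; omega
  rw [hX, mul_smul]
  exact Subalgebra.smul_mem S (det_smul_mem d bt S bS x) _

end


/-- Over R = k⟦t⟧ with k an algebraically closed field of characteristic zero, let S' be a commutative
R-algebra with an R-basis of size d whose discriminant generates the ideal (t ^ a) (a finite cover
of the formal disk of degree d, unramified over the punctured disk, with branch divisor (t ^ a)),
and let S be an R-subalgebra of S' with an R-basis of size d whose discriminant generates (t ^ b) (a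
crimp with branch divisor (t ^ b)). Then t ^ b annihilates S' / S and twice the R-length of S' / S
plus a equals b. (The published statement is for a family of such subalgebras over a k-scheme T and
also asserts T-flatness of the quotient; this row is its restriction to T a point.) -/
theorem result {k : Type u} [Field k] [IsAlgClosed k] [CharZero k]
    {St : Type v} [CommRing St] [Algebra (PowerSeries k) St] (d a b : ℕ)
    (bt : Module.Basis (Fin d) (PowerSeries k) St)
    (ha : Ideal.span {Algebra.discr (PowerSeries k) ⇑bt} = Ideal.span {(PowerSeries.X : PowerSeries k) ^ a})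
    (S : Subalgebra (PowerSeries k) St) (bS : Module.Basis (Fin d) (PowerSeries k) S)
    (hb : Ideal.span {Algebra.discr (PowerSeries k) ⇑bS} = Ideal.span {(PowerSeries.X : PowerSeries k) ^ b}) :
    (∀ q : St ⧸ Subalgebra.toSubmodule S, ((PowerSeries.X : PowerSeries k) ^ b) • q = 0) ∧
    2 * Module.length (PowerSeries k) (St ⧸ Subalgebra.toSubmodule S) + (a : ℕ∞) = (b : ℕ∞) := by
  exact main d a b bt S bS ha hb

end Groth.Agent.S13877
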