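import Groth.Statements.S13878
import Mathlib
-- import your own Groth.Agent.* helpers here

set_option autoImplicit false
universe u
open Crimp

namespace Groth.Agent.S13878

section
variable {k : Type u} [Field k]

local notation "R" => PowerSeries k
local notation "t" => (PowerSeries.X : PowerSeries k)

theorem isUnit_or_dvd (x : R) : IsUnit x ∨ t ∣ x := by
  by_cases h : PowerSeries.constantCoeff x = 0
  · exact Or.inr (PowerSeries.X_dvd_iff.mpr h)
  · exact Or.inl (PowerSeries.isUnit_iff_constantCoeff.mpr (isUnit_iff_ne_zero.mpr h))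

theorem not_X_dvd_one : ¬ t ∣ 1 := by
  intro h
  have := PowerSeries.X_dvd_iff.mp h
  simp at this

theorem not_isUnit_of_X_dvd {x : R} (h : t ∣ x) : ¬ IsUnit x :=
  fun hu => not_X_dvd_one ((isUnit_of_dvd_unit h hu).dvd)

theorem isUnit_one_add_X_mul (c : R) : IsUnit (1 + t * c) := by
  rw [PowerSeries.isUnit_iff_constantCoeff]
  simp

theorem smul_quot_eq_zero {A : Type*} [CommRing A] (I : Ideal A) (r : A) (hr : r ∈ I) (p : A ⧸ I) :
    r • p = 0 := by
  obtain ⟨a, rfl⟩ := Ideal.Quotient.mk_surjective p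
  rw [Algebra.smul_def, Ideal.Quotient.algebraMap_eq, ← map_mul, Ideal.Quotient.eq_zero_iff_mem]
  exact I.mul_mem_right a hr

theorem main (m n : ℕ) (hmn : m ≤ n)
    (S : Submodule R (Fin 3 → R))
    (h1 : (1 : (Fin 3 → R)) ∈ S)
    (e : ((Fin 3 → R) ⧸ S) ≃ₗ[R]
      ((R ⧸ Ideal.span {t ^ m}) × (R ⧸ Ideal.span {t ^ n}))) :
    Ideal.span {t ^ n} • (⊤ : Submodule R (Fin 3 → R)) ≤ S ∧
    ∃ f : (Fin 3 → R),
      f ∉ Submodule.span R {(1 : (Fin 3 → R))} ⊔ Ideal.span {t} • (⊤ : Submodule R (Fin 3 → R)) ∧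
      S = Submodule.span R {(1 : (Fin 3 → R)), (t ^ m) • f} ⊔
        Ideal.span {t ^ n} • (⊤ : Submodule R (Fin 3 → R)) := by
  classical
  obtain ⟨φ, hφ⟩ : ∃ φ : (Fin 3 → R) →ₗ[R]
      ((R ⧸ Ideal.span {t ^ m}) × (R ⧸ Ideal.span {t ^ n})), φ = e.toLinearMap ∘ₗ S.mkQ := ⟨_, rfl⟩
  have hφker : ∀ v, φ v = 0 ↔ v ∈ S := by
    intro v
    rw [hφ, LinearMap.comp_apply, LinearEquiv.coe_coe, e.map_eq_zero_iff, Submodule.mkQ_apply,
      Submodule.Quotient.mk_eq_zero]
  have hφsurj : Function.Surjective φ := by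
    intro p
    obtain ⟨q, rfl⟩ := e.surjective p
    obtain ⟨v, rfl⟩ := S.mkQ_surjective q
    exact ⟨v, by rw [hφ]; rfl⟩
  have part1 : Ideal.span {t ^ n} • (⊤ : Submodule R (Fin 3 → R)) ≤ S := by
    rw [Submodule.smul_le]
    intro r hr v _
    rw [← hφker, map_smul]
    have hr' : r ∈ Ideal.span {t ^ m} :=
      (Ideal.span_singleton_le_span_singleton.mpr (pow_dvd_pow _ hmn)) hr
    rw [Prod.ext_iff]
    exact ⟨smul_quot_eq_zero _ r hr' _, smul_quot_eq_zero _ r hr _⟩
  -- the complement of R·1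
  obtain ⟨ι, hι⟩ : ∃ ι : (Fin 2 → R) →ₗ[R] (Fin 3 → R), ∀ w, ι w = ![0, w 0, w 1] := by
    refine ⟨LinearMap.pi ![0, LinearMap.proj 0, LinearMap.proj 1], ?_⟩
    intro w
    funext i
    fin_cases i <;> rfl
  have hdecomp : ∀ v : Fin 3 → R, v = v 0 • (1 : Fin 3 → R) + ι ![v 1 - v 0, v 2 - v 0] := by
    intro v
    funext i
    fin_cases i <;> simp [hι]
  have hφ1 : φ 1 = 0 := (hφker 1).mpr h1
  obtain ⟨ψ, hψ⟩ : ∃ ψ : (Fin 2 → R) →ₗ[R]
      ((R ⧸ Ideal.span {t ^ m}) × (R ⧸ Ideal.span {t ^ n})), ψ = φ ∘ₗ ι := ⟨_, rfl⟩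
  have hψι : ∀ w, φ (ι w) = ψ w := fun w => by rw [hψ]; rfl
  have hφψ : ∀ v, φ v = ψ ![v 1 - v 0, v 2 - v 0] := by
    intro v
    conv_lhs => rw [hdecomp v]
    rw [map_add, map_smul, hφ1, smul_zero, zero_add, hψι]
  have hψsurj : Function.Surjective ψ := by
    intro p
    obtain ⟨v, rfl⟩ := hφsurj p
    exact ⟨_, (hφψ v).symm⟩
  obtain ⟨qq, hqq⟩ : ∃ qq : (Fin 2 → R) →ₗ[R]
      ((R ⧸ Ideal.span {t ^ m}) × (R ⧸ Ideal.span {t ^ n})),
      ∀ w, qq w = (Ideal.Quotient.mk _ (w 0), Ideal.Quotient.mk _ (w 1)) := by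
    refine ⟨LinearMap.prod ((Algebra.linearMap R (R ⧸ Ideal.span {t ^ m})).comp (LinearMap.proj 0))
      ((Algebra.linearMap R (R ⧸ Ideal.span {t ^ n})).comp (LinearMap.proj 1)), ?_⟩
    intro w
    rfl
  have hqq0 : ∀ w, qq w = 0 ↔ w 0 ∈ Ideal.span {t ^ m} ∧ w 1 ∈ Ideal.span {t ^ n} := by
    intro w
    rw [hqq, Prod.mk_eq_zero, Ideal.Quotient.eq_zero_iff_mem, Ideal.Quotient.eq_zero_iff_mem]
  have hqqsurj : Function.Surjective qq := by
    rintro ⟨p1, p2⟩
    obtain ⟨a, rfl⟩ := Ideal.Quotient.mk_surjective p1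
    obtain ⟨b, rfl⟩ := Ideal.Quotient.mk_surjective p2
    exact ⟨![a, b], by rw [hqq]; rfl⟩
  have hbasis : ∀ w : Fin 2 → R, w = w 0 • ![1, 0] + w 1 • ![0, 1] := by
    intro w
    funext i
    fin_cases i <;> simp
  have stepD : ∃ U : Matrix (Fin 2) (Fin 2) R, IsUnit U.det ∧ ∀ w, ψ (U.mulVec w) = qq w := by
    have hcols : ∀ u0 v0 : Fin 2 → R, ψ u0 = qq ![1, 0] → ψ v0 = qq ![0, 1] →
        ∀ w, ψ ((Matrix.of ![![u0 0, v0 0], ![u0 1, v0 1]]).mulVec w) = qq w := by
      intro u0 v0 hu hv w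
      have h1 : (Matrix.of ![![u0 0, v0 0], ![u0 1, v0 1]]).mulVec w = w 0 • u0 + w 1 • v0 := by
        funext i
        fin_cases i <;> simp [Matrix.mulVec, dotProduct, Fin.sum_univ_two] <;> ring
      rw [h1, map_add, map_smul, map_smul, hu, hv, ← map_smul, ← map_smul, ← map_add, ← hbasis w]
    have hdet : ∀ u0 v0 : Fin 2 → R,
        (Matrix.of ![![u0 0, v0 0], ![u0 1, v0 1]]).det = u0 0 * v0 1 - v0 0 * u0 1 := by
      intro u0 v0
      rw [Matrix.det_fin_two]
      simp
    rcases Nat.eq_zero_or_pos m with hm | hm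
    · subst hm
      haveI : Subsingleton (R ⧸ Ideal.span {t ^ 0}) := by
        rw [pow_zero, Ideal.span_singleton_one]
        exact Ideal.Quotient.subsingleton_iff.mpr rfl
      rcases Nat.eq_zero_or_pos n with hn | hn
      · subst hn
        exact ⟨1, by simp, fun w => Subsingleton.elim _ _⟩
      · obtain ⟨v0, hv0⟩ := hψsurj (qq ![0, 1])
        have hunit : IsUnit (v0 0) ∨ IsUnit (v0 1) := by
          by_contra hcon
          push Not at hcon
          obtain ⟨h0, h1'⟩ := hcon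
          obtain ⟨a0, ha0⟩ := (isUnit_or_dvd (v0 0)).resolve_left h0
          obtain ⟨a1, ha1⟩ := (isUnit_or_dvd (v0 1)).resolve_left h1'
          have hv : v0 = t • ![a0, a1] := by
            funext i
            fin_cases i <;> simp [ha0, ha1]
          rw [hv, map_smul] at hv0
          have h2 := congrArg Prod.snd hv0
          obtain ⟨c, hc⟩ := Ideal.Quotient.mk_surjective (ψ ![a0, a1]).2
          rw [hqq, Prod.smul_snd, ← hc] at h2
          have h2' : Ideal.Quotient.mk (Ideal.span {t ^ n}) (t * c) =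
              Ideal.Quotient.mk (Ideal.span {t ^ n}) (![0, 1] 1) := h2
          rw [Ideal.Quotient.eq, Ideal.mem_span_singleton] at h2'
          replace h2 := h2'
          have hX : t ∣ t * c - ![0, 1] 1 := dvd_trans (dvd_pow_self _ hn.ne') h2
          have : t ∣ (![0, 1] 1 : R) := (dvd_sub_right (dvd_mul_right t c)).mp hX
          simp at this
          exact not_X_dvd_one this
        rcases hunit with hu | hu
        · obtain ⟨c, hc⟩ := Ideal.Quotient.mk_surjective (ψ ![0, 1]).2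
          obtain ⟨u0, hu0def⟩ : ∃ u0 : Fin 2 → R, u0 = ![0, 1] - c • v0 := ⟨_, rfl⟩
          have hu0 : ψ u0 = qq ![1, 0] := by
            apply Prod.ext
            · exact Subsingleton.elim _ _
            · rw [hu0def, map_sub, map_smul, hv0, Prod.snd_sub, Prod.smul_snd, ← hc, hqq, hqq]
              change Ideal.Quotient.mk (Ideal.span {t ^ n}) c -
                Ideal.Quotient.mk (Ideal.span {t ^ n}) (c * 1) =
                Ideal.Quotient.mk (Ideal.span {t ^ n}) 0
              rw [mul_one, sub_self, map_zero]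
          refine ⟨Matrix.of ![![u0 0, v0 0], ![u0 1, v0 1]], ?_, hcols u0 v0 hu0 hv0⟩
          rw [hdet]
          have : u0 0 * v0 1 - v0 0 * u0 1 = -(v0 0) := by
            rw [hu0def]
            simp
            ring
          rw [this]
          exact hu.neg
        · obtain ⟨c, hc⟩ := Ideal.Quotient.mk_surjective (ψ ![1, 0]).2
          obtain ⟨u0, hu0def⟩ : ∃ u0 : Fin 2 → R, u0 = ![1, 0] - c • v0 := ⟨_, rfl⟩
          have hu0 : ψ u0 = qq ![1, 0] := by
            apply Prod.ext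
            · exact Subsingleton.elim _ _
            · rw [hu0def, map_sub, map_smul, hv0, Prod.snd_sub, Prod.smul_snd, ← hc, hqq, hqq]
              change Ideal.Quotient.mk (Ideal.span {t ^ n}) c -
                Ideal.Quotient.mk (Ideal.span {t ^ n}) (c * 1) =
                Ideal.Quotient.mk (Ideal.span {t ^ n}) 0
              rw [mul_one, sub_self, map_zero]
          refine ⟨Matrix.of ![![u0 0, v0 0], ![u0 1, v0 1]], ?_, hcols u0 v0 hu0 hv0⟩
          rw [hdet]
          have : u0 0 * v0 1 - v0 0 * u0 1 = v0 1 := by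
            rw [hu0def]
            simp
            ring
          rw [this]
          exact hu
    · have hn : 0 < n := lt_of_lt_of_le hm hmn
      obtain ⟨u0, hu0⟩ := hψsurj (qq ![1, 0])
      obtain ⟨v0, hv0⟩ := hψsurj (qq ![0, 1])
      refine ⟨_, ?_, hcols u0 v0 hu0 hv0⟩
      rw [hdet]
      obtain ⟨a, ha⟩ := hqqsurj (ψ ![1, 0])
      obtain ⟨b, hb⟩ := hqqsurj (ψ ![0, 1])
      have hψA : ∀ w, ψ w = qq (w 0 • a + w 1 • b) := by
        intro w
        conv_lhs => rw [hbasis w]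
        rw [map_add, map_smul, map_smul, ← ha, ← hb, ← map_smul, ← map_smul, ← map_add]
      have h3 := hψA u0
      rw [hu0] at h3
      have h4 := hψA v0
      rw [hv0] at h4
      have k3 := (hqq0 (![1, 0] - (u0 0 • a + u0 1 • b))).mp (by rw [map_sub, ← h3, sub_self])
      have k4 := (hqq0 (![0, 1] - (v0 0 • a + v0 1 • b))).mp (by rw [map_sub, ← h4, sub_self])
      have hdvdm : ∀ x, x ∈ Ideal.span {t ^ m} → t ∣ x := fun x hx =>
        dvd_trans (dvd_pow_self _ hm.ne') (Ideal.mem_span_singleton.mp hx)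
      have hdvdn : ∀ x, x ∈ Ideal.span {t ^ n} → t ∣ x := fun x hx =>
        dvd_trans (dvd_pow_self _ hn.ne') (Ideal.mem_span_singleton.mp hx)
      obtain ⟨p1, hp1⟩ := hdvdm _ k3.1
      obtain ⟨p2, hp2⟩ := hdvdn _ k3.2
      obtain ⟨p3, hp3⟩ := hdvdm _ k4.1
      obtain ⟨p4, hp4⟩ := hdvdn _ k4.2
      simp only [Pi.sub_apply, Pi.add_apply, Pi.smul_apply, smul_eq_mul, Matrix.cons_val_zero,
        Matrix.cons_val_one] at hp1 hp2 hp3 hp4
      have hprod : (u0 0 * v0 1 - v0 0 * u0 1) * (a 0 * b 1 - b 0 * a 1) =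
          1 + t * (-p1 - p4 + t * p1 * p4 - t * p2 * p3) := by
        linear_combination (-(v0 0 * a 1 + v0 1 * b 1)) * hp1 + (v0 0 * a 0 + v0 1 * b 0) * hp2 -
          (t * p2) * hp3 - (1 - t * p1) * hp4
      exact isUnit_of_mul_isUnit_left (hprod ▸ isUnit_one_add_X_mul _)
  obtain ⟨U, hUdet, hU⟩ := stepD
  obtain ⟨u0, hu0def⟩ : ∃ u0 : Fin 2 → R, u0 = U.mulVec ![1, 0] := ⟨_, rfl⟩
  obtain ⟨v0, hv0def⟩ : ∃ v0 : Fin 2 → R, v0 = U.mulVec ![0, 1] := ⟨_, rfl⟩
  have hu0 : ψ u0 = qq ![1, 0] := hu0def ▸ hU _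
  have hv0 : ψ v0 = qq ![0, 1] := hv0def ▸ hU _
  refine ⟨part1, ι u0, ?_, ?_⟩
  · intro hmem
    obtain ⟨y, hy, z, hz, hyz⟩ := Submodule.mem_sup.mp hmem
    obtain ⟨c, rfl⟩ := Submodule.mem_span_singleton.mp hy
    have hzdvd : ∀ i, t ∣ z i := by
      refine Submodule.smul_induction_on hz ?_ ?_
      · intro r hr v _ i
        obtain ⟨r', rfl⟩ := Ideal.mem_span_singleton'.mp hr
        exact ⟨r' * v i, by simp only [Pi.smul_apply, smul_eq_mul]; ring⟩
      · intro x y hx hy i
        exact dvd_add (hx i) (hy i)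
    have hc : t ∣ c := by
      have h0 := congrFun hyz 0
      rw [hι] at h0
      simp only [Pi.add_apply, Pi.smul_apply, Pi.one_apply, smul_eq_mul, mul_one,
        Matrix.cons_val_zero] at h0
      have : c = -(z 0) := eq_neg_of_add_eq_zero_left h0
      rw [this]
      exact (dvd_neg).mpr (hzdvd 0)
    have hu00 : t ∣ u0 0 := by
      have h0 := congrFun hyz 1
      rw [hι] at h0
      simp only [Pi.add_apply, Pi.smul_apply, Pi.one_apply, smul_eq_mul, mul_one,
        Matrix.cons_val_one, Matrix.cons_val_zero] at h0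
      rw [← h0]
      exact dvd_add hc (hzdvd 1)
    have hu01 : t ∣ u0 1 := by
      have h0 := congrFun hyz 2
      rw [hι] at h0
      simp only [Pi.add_apply, Pi.smul_apply, Pi.one_apply, smul_eq_mul, mul_one] at h0
      have h0' : c + z 2 = u0 1 := h0
      rw [← h0']
      exact dvd_add hc (hzdvd 2)
    have hdvd : t ∣ U.det := by
      rw [Matrix.det_fin_two]
      have e00 : U 0 0 = u0 0 := by
        rw [hu0def]
        simp [Matrix.mulVec, dotProduct, Fin.sum_univ_two]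
      have e10 : U 1 0 = u0 1 := by
        rw [hu0def]
        simp [Matrix.mulVec, dotProduct, Fin.sum_univ_two]
      rw [e00, e10]
      exact dvd_sub (Dvd.dvd.mul_right hu00 _) (Dvd.dvd.mul_left hu01 _)
    exact not_isUnit_of_X_dvd hdvd hUdet
  · apply le_antisymm
    · intro v hv
      have hψ0 : ψ ![v 1 - v 0, v 2 - v 0] = 0 := by
        rw [← hφψ, hφker]
        exact hv
      obtain ⟨w, hw⟩ : ∃ w : Fin 2 → R, w = ![v 1 - v 0, v 2 - v 0] := ⟨_, rfl⟩
      rw [← hw] at hψ0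
      obtain ⟨w', hw'⟩ : ∃ w' : Fin 2 → R, w' = U⁻¹.mulVec w := ⟨_, rfl⟩
      have hww' : w = U.mulVec w' := by
        rw [hw', Matrix.mulVec_mulVec, Matrix.mul_nonsing_inv U hUdet, Matrix.one_mulVec]
      have hq : qq w' = 0 := by rw [← hU, ← hww', hψ0]
      obtain ⟨hq1, hq2⟩ := (hqq0 w').mp hq
      obtain ⟨α, hα⟩ := Ideal.mem_span_singleton'.mp hq1
      obtain ⟨β, hβ⟩ := Ideal.mem_span_singleton'.mp hq2
      have hw'2 : w' = (α * t ^ m) • ![1, 0] + (β * t ^ n) • ![0, 1] := by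
        funext i
        fin_cases i <;> simp [hα, hβ]
      have hwuv : w = (α * t ^ m) • u0 + (β * t ^ n) • v0 := by
        rw [hww', hw'2, Matrix.mulVec_add, Matrix.mulVec_smul, Matrix.mulVec_smul, hu0def, hv0def]
      rw [hdecomp v, ← hw, hwuv, map_add, map_smul, map_smul]
      refine Submodule.add_mem _ (Submodule.mem_sup_left (Submodule.smul_mem _ _
        (Submodule.subset_span (by simp)))) (Submodule.add_mem _ (Submodule.mem_sup_left ?_)
        (Submodule.mem_sup_right ?_))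
      · rw [mul_smul]
        exact Submodule.smul_mem _ _ (Submodule.subset_span (by simp))
      · exact Submodule.smul_mem_smul (Ideal.mem_span_singleton'.mpr ⟨β, rfl⟩) Submodule.mem_top
    · refine sup_le (Submodule.span_le.mpr ?_) part1
      intro x hx
      rcases hx with rfl | rfl
      · exact h1
      · rw [SetLike.mem_coe, ← hφker, map_smul, hψι, hu0, hqq]
        apply Prod.ext
        · exact smul_quot_eq_zero _ _ (Ideal.mem_span_singleton_self _) _
        · simp

end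

/-- Over R = k⟦t⟧ with k an algebraically closed field of characteristic zero, let S' = R × R × R (the
unramified triple cover of the formal disk) and let S be an R-submodule of S' containing 1 such that
S' / S is isomorphic to R / (t ^ m) ⊕ R / (t ^ n) with m ≤ n. Then t ^ n S' is contained in S, and
there is f in S', not lying in R·1 + t S', such that S = R·1 + R·(t ^ m f) + t ^ n S'. -/
theorem result {k : Type u} [Field k] [IsAlgClosed k] [CharZero k] (m n : ℕ) (hmn : m ≤ n)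
    (S : Submodule (PowerSeries k) (Fin 3 → PowerSeries k))
    (h1 : (1 : (Fin 3 → PowerSeries k)) ∈ S)
    (e : ((Fin 3 → PowerSeries k) ⧸ S) ≃ₗ[PowerSeries k]
      ((PowerSeries k ⧸ Ideal.span {(PowerSeries.X : PowerSeries k) ^ m}) × (PowerSeries k ⧸ Ideal.span {(PowerSeries.X : PowerSeries k) ^ n}))) :
    Ideal.span {(PowerSeries.X : PowerSeries k) ^ n} • (⊤ : Submodule (PowerSeries k) (Fin 3 → PowerSeries k)) ≤ S ∧
    ∃ f : (Fin 3 → PowerSeries k),
      f ∉ Submodule.span (PowerSeries k) {(1 : (Fin 3 → PowerSeries k))} ⊔ Ideal.span {(PowerSeries.X : PowerSeries k)} • (⊤ : Submodule (PowerSeries k) (Fin 3 → PowerSeries k)) ∧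
      S = Submodule.span (PowerSeries k) {(1 : (Fin 3 → PowerSeries k)), ((PowerSeries.X : PowerSeries k) ^ m) • f} ⊔
        Ideal.span {(PowerSeries.X : PowerSeries k) ^ n} • (⊤ : Submodule (PowerSeries k) (Fin 3 → PowerSeries k)) := by
  exact main m n hmn S h1 e

end Groth.Agent.S13878
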