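import Groth.Statements.S13880
import Mathlib

set_option autoImplicit false
universe u
open Crimp

namespace Groth.Agent.S13880

open PowerSeries

section
variable {k : Type u} [Field k]


/-- the target submodule `R·1 + t^n (k⟦X⟧ × k⟦X⟧)` -/
noncomputable def T (n : ℕ) : Submodule k⟦X⟧ (Fin 2 → k⟦X⟧) :=
  Submodule.span k⟦X⟧ {(1 : (Fin 2 → k⟦X⟧))} ⊔
    Ideal.span {(PowerSeries.X : k⟦X⟧) ^ n} • (⊤ : Submodule k⟦X⟧ (Fin 2 → k⟦X⟧))

lemma mem_T (n : ℕ) (v : Fin 2 → k⟦X⟧) : v ∈ T n ↔ (X : k⟦X⟧) ^ n ∣ v 1 - v 0 := by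
  constructor
  · intro hv
    rw [T, Submodule.mem_sup] at hv
    obtain ⟨a, ha, w, hw, rfl⟩ := hv
    rw [Submodule.mem_span_singleton] at ha
    obtain ⟨c, rfl⟩ := ha
    have hw' : ∀ i, (X : k⟦X⟧) ^ n ∣ w i := by
      refine Submodule.smul_induction_on hw ?_ ?_
      · intro r hr m _ i
        rw [Ideal.mem_span_singleton] at hr
        exact Dvd.dvd.mul_right hr _
      · intro x y hx hy i
        exact dvd_add (hx i) (hy i)
    have : (c • (1 : Fin 2 → k⟦X⟧) + w) 1 - (c • (1 : Fin 2 → k⟦X⟧) + w) 0 = w 1 - w 0 := by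
      simp
    rw [this]
    exact dvd_sub (hw' 1) (hw' 0)
  · rintro ⟨c, hc⟩
    rw [T, Submodule.mem_sup]
    refine ⟨v 0 • 1, Submodule.smul_mem _ _ (Submodule.subset_span rfl),
      (X : k⟦X⟧) ^ n • ![0, c], Submodule.smul_mem_smul (Ideal.subset_span rfl) trivial, ?_⟩
    ext i
    fin_cases i
    · simp
    · simp only [Fin.mk_one, Fin.isValue, Pi.add_apply, Pi.smul_apply, Pi.one_apply, smul_eq_mul,
        mul_one, Matrix.cons_val_one, Matrix.cons_val_fin_one]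
      rw [← hc]; ring

section basis
variable (S : Subalgebra k⟦X⟧ (Fin 2 → k⟦X⟧)) (n : ℕ) (hS : Subalgebra.toSubmodule S = T n)

include hS in
lemma mem_S_iff (v : Fin 2 → k⟦X⟧) : v ∈ S ↔ (X : k⟦X⟧) ^ n ∣ v 1 - v 0 := by
  rw [← mem_T, ← hS]; rfl

include hS in
lemma e0_mem : (![0, (X : k⟦X⟧) ^ n] : Fin 2 → k⟦X⟧) ∈ S := by
  rw [mem_S_iff S n hS]; simp

/-- the second basis vector -/
noncomputable def e0 : S := ⟨![0, (X : k⟦X⟧) ^ n], e0_mem S n hS⟩

lemma Xpow_ne_zero : (X : k⟦X⟧) ^ n ≠ 0 := pow_ne_zero _ PowerSeries.X_ne_zero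

lemma linindep : LinearIndependent k⟦X⟧ ![(1 : S), e0 S n hS] := by
  rw [LinearIndependent.pair_iff]
  intro s t h
  have h' := congrArg (fun v : S => (v : Fin 2 → k⟦X⟧)) h
  have h0 := congrFun h' 0
  have h1 := congrFun h' 1
  simp [e0] at h0 h1
  refine ⟨h0, ?_⟩
  rw [h0] at h1
  simpa [Xpow_ne_zero] using h1

lemma span_top : ⊤ ≤ Submodule.span k⟦X⟧ (Set.range ![(1 : S), e0 S n hS]) := by
  intro v _
  obtain ⟨c, hc⟩ := (mem_S_iff S n hS v.1).mp v.2
  rw [Submodule.mem_span_range_iff_exists_fun]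
  refine ⟨![v.1 0, c], ?_⟩
  rw [Fin.sum_univ_two]
  apply Subtype.ext
  ext i
  fin_cases i
  · simp [e0]
  · have h1 : v.1 1 = v.1 0 + c * (X : k⟦X⟧) ^ n := by linear_combination hc
    simp [e0, h1]

/-- the explicit basis `(1, (0, t^n))` -/
noncomputable def B0 : Module.Basis (Fin 2) k⟦X⟧ S :=
  Module.Basis.mk (linindep S n hS) (span_top S n hS)

lemma B0_zero : B0 S n hS 0 = 1 := by simp [B0]
lemma B0_one : B0 S n hS 1 = e0 S n hS := by simp [B0]

lemma coord (v : S) : (v : Fin 2 → k⟦X⟧) 0 = (B0 S n hS).repr v 0 ∧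
    (v : Fin 2 → k⟦X⟧) 1 = (B0 S n hS).repr v 0 + (B0 S n hS).repr v 1 * (X : k⟦X⟧) ^ n := by
  have h := (B0 S n hS).sum_repr v
  rw [Fin.sum_univ_two, B0_zero, B0_one] at h
  have h' := congrArg (fun v : S => (v : Fin 2 → k⟦X⟧)) h
  have h0 := congrFun h' 0
  have h1 := congrFun h' 1
  simp [e0] at h0 h1
  exact ⟨h0.symm, h1.symm⟩

include hS in
lemma trace_eq (s : S) : Algebra.trace k⟦X⟧ S s = (s : Fin 2 → k⟦X⟧) 0 + (s : Fin 2 → k⟦X⟧) 1 := by
  rw [Algebra.trace_eq_matrix_trace (B0 S n hS), Matrix.trace_fin_two,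
    Algebra.leftMulMatrix_eq_repr_mul, Algebra.leftMulMatrix_eq_repr_mul, B0_zero, B0_one]
  have c1 := coord S n hS (s * 1)
  have c2 := coord S n hS (s * e0 S n hS)
  rw [← c1.1]
  have h3 : ((s * e0 S n hS : S) : Fin 2 → k⟦X⟧) 0 = 0 := by simp [e0]
  have h4 : ((s * e0 S n hS : S) : Fin 2 → k⟦X⟧) 1 = (s : Fin 2 → k⟦X⟧) 1 * (X : k⟦X⟧) ^ n := by simp [e0]
  rw [h3] at c2
  rw [h4, ← c2.1, zero_add] at c2
  have := mul_right_cancel₀ (Xpow_ne_zero n) c2.2
  rw [← this]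
  simp

lemma discr_B0 : Algebra.discr k⟦X⟧ (B0 S n hS) = (X : k⟦X⟧) ^ (2 * n) := by
  rw [Algebra.discr_def, Matrix.det_fin_two]
  simp only [Algebra.traceMatrix_apply, Algebra.traceForm_apply, trace_eq S n hS, B0_zero, B0_one]
  simp [e0]
  ring

end basis

/-- from a basis of size 2 to the shape of `S` -/
lemma shape (S : Subalgebra k⟦X⟧ (Fin 2 → k⟦X⟧)) (bS : Module.Basis (Fin 2) k⟦X⟧ S) :
    ∃ n : ℕ, Subalgebra.toSubmodule S = T n := by
  let π : S →ₗ[k⟦X⟧] k⟦X⟧ :=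
    ((LinearMap.proj 1 : (Fin 2 → k⟦X⟧) →ₗ[k⟦X⟧] k⟦X⟧) - LinearMap.proj 0).comp
      (Subalgebra.toSubmodule S).subtype
  have hπ : ∀ v : S, π v = (v : Fin 2 → k⟦X⟧) 1 - (v : Fin 2 → k⟦X⟧) 0 := fun v => rfl
  have hdiag : ∀ v : S, π v = 0 → v = algebraMap k⟦X⟧ S ((v : Fin 2 → k⟦X⟧) 0) := by
    intro v hv
    rw [hπ, sub_eq_zero] at hv
    apply Subtype.ext
    ext i
    fin_cases i
    · simp
    · simp [hv]
  by_cases hbot : LinearMap.range π = ⊥
  · exfalso
    have h0 : ∀ v : S, v = algebraMap k⟦X⟧ S ((v : Fin 2 → k⟦X⟧) 0) := by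
      intro v
      apply hdiag
      have : π v ∈ LinearMap.range π := ⟨v, rfl⟩
      rw [hbot] at this
      exact this
    have hli := bS.linearIndependent
    rw [Fintype.linearIndependent_iff] at hli
    have h1 := hli ![((bS 1 : S) : Fin 2 → k⟦X⟧) 0, -((bS 0 : S) : Fin 2 → k⟦X⟧) 0] (by
      rw [Fin.sum_univ_two]
      nth_rewrite 2 [h0 (bS 0)]
      nth_rewrite 3 [h0 (bS 1)]
      simp only [Matrix.cons_val_zero, Matrix.cons_val_one, Matrix.cons_val_fin_one,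
        Algebra.smul_def, ← map_mul, ← map_add, neg_mul]
      rw [mul_comm, add_neg_cancel, map_zero])
    have h2 := h1 1
    simp only [Matrix.cons_val_one, Matrix.cons_val_fin_one, neg_eq_zero] at h2
    have h3 : bS 0 = 0 := by
      rw [h0 (bS 0), h2, RingHom.map_zero]
    exact bS.ne_zero 0 h3
  · obtain ⟨n, hn⟩ := IsDiscreteValuationRing.ideal_eq_span_pow_irreducible
      (s := (LinearMap.range π : Ideal k⟦X⟧)) hbot PowerSeries.X_irreducible
    refine ⟨n, ?_⟩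
    ext v
    rw [mem_T]
    constructor
    · intro hv
      have : π ⟨v, hv⟩ ∈ (LinearMap.range π : Ideal k⟦X⟧) := ⟨⟨v, hv⟩, rfl⟩
      rw [hn, Ideal.mem_span_singleton] at this
      exact this
    · rintro ⟨c, hc⟩
      have hX : (X : k⟦X⟧) ^ n ∈ (LinearMap.range π : Ideal k⟦X⟧) := by
        rw [hn]; exact Ideal.subset_span rfl
      obtain ⟨e, he⟩ := hX
      have hv' : v = (v - c • (e : Fin 2 → k⟦X⟧)) + c • (e : Fin 2 → k⟦X⟧) := by abel
      have he' : (e : Fin 2 → k⟦X⟧) 1 - (e : Fin 2 → k⟦X⟧) 0 = (X : k⟦X⟧) ^ n := he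
      have hdiag' : v - c • (e : Fin 2 → k⟦X⟧) =
          algebraMap k⟦X⟧ (Fin 2 → k⟦X⟧) (v 0 - c * (e : Fin 2 → k⟦X⟧) 0) := by
        funext i
        fin_cases i
        · simp
        · show v 1 - c * (e : Fin 2 → k⟦X⟧) 1 = v 0 - c * (e : Fin 2 → k⟦X⟧) 0
          linear_combination hc - c * he'
      show v ∈ S
      rw [hv', hdiag']
      exact add_mem (S.algebraMap_mem _) (S.smul_mem e.2 c)

lemma discr_span (S : Subalgebra k⟦X⟧ (Fin 2 → k⟦X⟧)) (n : ℕ)
    (hS : Subalgebra.toSubmodule S = T n) (bS : Module.Basis (Fin 2) k⟦X⟧ S) :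
    Ideal.span {Algebra.discr k⟦X⟧ ⇑bS} = Ideal.span {(X : k⟦X⟧) ^ (2 * n)} := by
  let P : Matrix (Fin 2) (Fin 2) k⟦X⟧ := ((B0 S n hS).toMatrix bS).transpose
  have h1 : ⇑bS = (P.map (algebraMap k⟦X⟧ S)).mulVec ⇑(B0 S n hS) := by
    funext j
    simp only [Matrix.mulVec, dotProduct, Matrix.map_apply, P, Matrix.transpose_apply,
      Module.Basis.toMatrix_apply, ← Algebra.smul_def]
    exact ((B0 S n hS).sum_repr (bS j)).symm
  rw [h1, Algebra.discr_of_matrix_mulVec, discr_B0]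
  have hu : IsUnit P.det := by
    rw [Matrix.det_transpose, ← Module.Basis.det_apply]
    exact (B0 S n hS).isUnit_det bS
  exact Ideal.span_singleton_mul_left_unit (hu.pow 2) _

lemma pow_eq_of_span (a b : ℕ) (h : Ideal.span {(X : k⟦X⟧) ^ a} = Ideal.span {(X : k⟦X⟧) ^ b}) :
    a = b := by
  rw [Ideal.span_singleton_eq_span_singleton] at h
  have hX0 : (X : k⟦X⟧) ≠ 0 := PowerSeries.X_ne_zero
  have hXu : ¬ IsUnit (X : k⟦X⟧) := PowerSeries.X_irreducible.not_isUnit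
  have h1 := (pow_dvd_pow_iff hX0 hXu).mp h.dvd
  have h2 := (pow_dvd_pow_iff hX0 hXu).mp h.symm.dvd
  omega

section iso
variable [CharZero k] (S : Subalgebra k⟦X⟧ (Fin 2 → k⟦X⟧)) (n : ℕ)
  (hS : Subalgebra.toSubmodule S = T n)

include hS in
lemma y_mem : (![(X : k⟦X⟧) ^ n, -(X : k⟦X⟧) ^ n] : Fin 2 → k⟦X⟧) ∈ S := by
  rw [mem_S_iff S n hS]
  exact ⟨-2, by simp; ring⟩

/-- the generator `y = (t^n, -t^n)` -/
noncomputable def yy : S := ⟨![(X : k⟦X⟧) ^ n, -(X : k⟦X⟧) ^ n], y_mem S n hS⟩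

lemma yy_sq : yy S n hS * yy S n hS = algebraMap k⟦X⟧ S ((X : k⟦X⟧) ^ (2 * n)) := by
  apply Subtype.ext
  funext i
  fin_cases i
  · simp [yy]; ring
  · simp [yy]; ring

/-- the polynomial `y^2 - t^(2n)` -/
noncomputable abbrev ff : Polynomial k⟦X⟧ :=
  Polynomial.X ^ 2 - Polynomial.C ((X : k⟦X⟧) ^ (2 * n))

lemma ff_monic : (ff (k := k) n).Monic := Polynomial.monic_X_pow_sub_C _ (by norm_num)

lemma ff_natDegree : (ff (k := k) n).natDegree = 2 := Polynomial.natDegree_X_pow_sub_C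

/-- the map `R[y]/(y^2 - t^(2n)) → S` -/
noncomputable def phi : AdjoinRoot (ff (k := k) n) →ₐ[k⟦X⟧] S :=
  AdjoinRoot.liftAlgHom _ (Algebra.ofId k⟦X⟧ S) (yy S n hS) (by
    simp only [ff, Polynomial.eval₂_sub, Polynomial.eval₂_pow, Polynomial.eval₂_X,
      Polynomial.eval₂_C]
    rw [pow_two, yy_sq, sub_eq_zero]
    rfl)

lemma phi_mk (g : Polynomial k⟦X⟧) :
    phi S n hS (AdjoinRoot.mk _ g) = Polynomial.aeval (yy S n hS) g := rfl

lemma phi_lin (a c : k⟦X⟧) :
    ((phi S n hS (AdjoinRoot.mk _ (Polynomial.C c * Polynomial.X + Polynomial.C a)) : S) :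
      Fin 2 → k⟦X⟧) = ![a + c * (X : k⟦X⟧) ^ n, a - c * (X : k⟦X⟧) ^ n] := by
  rw [phi_mk]
  funext i
  fin_cases i
  · simp [yy, Algebra.smul_def]; ring
  · simp [yy, Algebra.smul_def]; ring

lemma two_ne : (2 : k⟦X⟧) ≠ 0 := by
  have : (2 : k⟦X⟧) = PowerSeries.C (2 : k) := (map_ofNat PowerSeries.C 2).symm
  rw [this, Ne, map_eq_zero_iff _ PowerSeries.C_injective]
  norm_num

lemma phi_bij : Function.Bijective (phi S n hS) := by
  constructor
  · rw [injective_iff_map_eq_zero]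
    intro x hx
    obtain ⟨g, rfl⟩ := AdjoinRoot.mk_surjective x
    have hf1 : ff (k := k) n ≠ 1 := by
      intro h
      have := ff_natDegree (k := k) n
      rw [h] at this
      simp at this
    have hdeg : (g %ₘ ff (k := k) n).natDegree < 2 := by
      have := Polynomial.natDegree_modByMonic_lt g (ff_monic n) hf1
      rwa [ff_natDegree] at this
    have hdecomp : g %ₘ ff (k := k) n + ff (k := k) n * (g /ₘ ff (k := k) n) = g :=
      Polynomial.modByMonic_add_div g _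
    have hmk : AdjoinRoot.mk (ff (k := k) n) g = AdjoinRoot.mk _ (g %ₘ ff (k := k) n) := by
      rw [AdjoinRoot.mk_eq_mk]
      exact ⟨g /ₘ ff (k := k) n, by nth_rewrite 1 [← hdecomp]; ring⟩
    have hr := Polynomial.eq_X_add_C_of_natDegree_le_one (p := g %ₘ ff (k := k) n) (by omega)
    rw [hmk] at hx ⊢
    rw [hr] at hx ⊢
    have h := congrArg (fun v : S => (v : Fin 2 → k⟦X⟧)) hx
    simp only [phi_lin] at h
    have h0 := congrFun h 0
    have h1 := congrFun h 1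
    simp only [Matrix.cons_val_zero, Matrix.cons_val_one, Matrix.cons_val_fin_one,
      ZeroMemClass.coe_zero, Pi.zero_apply] at h0 h1
    have ha : (g %ₘ ff (k := k) n).coeff 0 = 0 := by
      have : (2 : k⟦X⟧) * (g %ₘ ff (k := k) n).coeff 0 = 0 := by linear_combination h0 + h1
      exact (mul_eq_zero.mp this).resolve_left two_ne
    have hc : (g %ₘ ff (k := k) n).coeff 1 = 0 := by
      rw [ha, zero_add] at h0
      exact (mul_eq_zero.mp h0).resolve_right (Xpow_ne_zero n)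
    rw [ha, hc]
    simp
  · intro v
    obtain ⟨d, hd⟩ := (mem_S_iff S n hS v.1).mp v.2
    let h2 : k⟦X⟧ := PowerSeries.C (2⁻¹ : k)
    have hh2 : (2 : k⟦X⟧) * h2 = 1 := by
      have : (2 : k⟦X⟧) = PowerSeries.C (2 : k) := (map_ofNat PowerSeries.C 2).symm
      rw [this, ← map_mul, mul_inv_cancel₀ (by norm_num : (2 : k) ≠ 0), map_one]
    refine ⟨AdjoinRoot.mk _ (Polynomial.C (-d * h2) * Polynomial.X +
      Polynomial.C ((v.1 0 + v.1 1) * h2)), ?_⟩
    apply Subtype.ext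
    rw [phi_lin]
    funext i
    fin_cases i
    · show (v.1 0 + v.1 1) * h2 + -d * h2 * (X : k⟦X⟧) ^ n = v.1 0
      linear_combination (v.1 0) * hh2 + h2 * hd
    · show (v.1 0 + v.1 1) * h2 - -d * h2 * (X : k⟦X⟧) ^ n = v.1 1
      linear_combination (v.1 1) * hh2 - h2 * hd

end iso

end

/-- Over R = k⟦t⟧ with k an algebraically closed field of characteristic zero, let S' = R × R, the
trivial double cover of the formal disk (branch divisor (t ^ 0)). An R-subalgebra S of S' admits an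
R-basis of size 2 whose discriminant generates (t ^ b), that is, S is a crimp with branch divisor (t
^ b), if and only if b = 2n for some n and S = R·1 + t ^ n S'. So there is exactly one such crimp
when b is even and none when b is odd; moreover the subalgebra R·1 + t ^ n S' is isomorphic as an
R-algebra to R[y] / (y ^ 2 - t ^ (2n)) (existence of an isomorphism; y ↦ (t ^ n, -t ^ n)). (The
published statement also gives the space of crimps its reduced one-point scheme structure; this row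
classifies its k-points.) -/
theorem result {k : Type u} [Field k] [IsAlgClosed k] [CharZero k] (b : ℕ) (S : Subalgebra (PowerSeries k) (Fin 2 → PowerSeries k)) :
    ((∃ bS : Module.Basis (Fin 2) (PowerSeries k) S,
      Ideal.span {Algebra.discr (PowerSeries k) ⇑bS} = Ideal.span {(PowerSeries.X : PowerSeries k) ^ b}) ↔
    ∃ n : ℕ, b = 2 * n ∧
      Subalgebra.toSubmodule S = Submodule.span (PowerSeries k) {(1 : (Fin 2 → PowerSeries k))} ⊔
        Ideal.span {(PowerSeries.X : PowerSeries k) ^ n} • (⊤ : Submodule (PowerSeries k) (Fin 2 → PowerSeries k))) ∧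
    (∀ n : ℕ, Subalgebra.toSubmodule S = Submodule.span (PowerSeries k) {(1 : (Fin 2 → PowerSeries k))} ⊔
        Ideal.span {(PowerSeries.X : PowerSeries k) ^ n} • (⊤ : Submodule (PowerSeries k) (Fin 2 → PowerSeries k)) →
      Nonempty (S ≃ₐ[PowerSeries k] AdjoinRoot (Polynomial.X ^ 2 - Polynomial.C ((PowerSeries.X : PowerSeries k) ^ (2 * n))))) := by
  refine ⟨⟨?_, ?_⟩, ?_⟩
  · rintro ⟨bS, hdisc⟩
    obtain ⟨n, hn⟩ := shape S bS
    refine ⟨n, ?_, hn⟩
    have := discr_span S n hn bS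
    rw [hdisc] at this
    exact pow_eq_of_span _ _ this
  · rintro ⟨n, rfl, hn⟩
    have hn' : Subalgebra.toSubmodule S = T n := hn
    exact ⟨B0 S n hn', by rw [discr_B0]⟩
  · intro n hn
    have hn' : Subalgebra.toSubmodule S = T n := hn
    exact ⟨(AlgEquiv.ofBijective (phi S n hn') (phi_bij S n hn')).symm⟩

end Groth.Agent.S13880
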