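import Groth.Statements.S13881
import Mathlib
-- import your own Groth.Agent.* helpers here

set_option autoImplicit false
universe u
open Crimp

namespace Groth.Agent.S13881

section PRE
open PowerSeries

variable (k : Type u) [Field k]

/-- the polynomial `x^2 - t` -/
noncomputable abbrev ff0 : Polynomial k⟦X⟧ := Polynomial.X ^ 2 - Polynomial.C (X : k⟦X⟧)

lemma ff0_monic : (ff0 k).Monic := Polynomial.monic_X_pow_sub_C _ (by norm_num)

lemma ff0_natDegree : (ff0 k).natDegree = 2 := Polynomial.natDegree_X_pow_sub_C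

lemma ff0_ne_one : ff0 k ≠ 1 := by
  intro h
  have := ff0_natDegree k
  rw [h] at this
  simp at this

/-- constant coordinate -/
noncomputable def c0 : AdjoinRoot (ff0 k) →ₗ[k⟦X⟧] k⟦X⟧ :=
  (Polynomial.lcoeff k⟦X⟧ 0).comp (AdjoinRoot.modByMonicHom (ff0_monic k))

/-- `x` coordinate -/
noncomputable def c1 : AdjoinRoot (ff0 k) →ₗ[k⟦X⟧] k⟦X⟧ :=
  (Polynomial.lcoeff k⟦X⟧ 1).comp (AdjoinRoot.modByMonicHom (ff0_monic k))

/-- the root -/
noncomputable def xx : AdjoinRoot (ff0 k) := AdjoinRoot.root (ff0 k)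

variable {k}

lemma c0_mk (g : Polynomial k⟦X⟧) : c0 k (AdjoinRoot.mk (ff0 k) g) = (g %ₘ ff0 k).coeff 0 := rfl
lemma c1_mk (g : Polynomial k⟦X⟧) : c1 k (AdjoinRoot.mk (ff0 k) g) = (g %ₘ ff0 k).coeff 1 := rfl

lemma mod_small (g : Polynomial k⟦X⟧) (hg : g.natDegree < 2) : g %ₘ ff0 k = g := by
  rw [Polynomial.modByMonic_eq_self_iff (ff0_monic k)]
  by_cases h0 : g = 0
  · rw [h0, Polynomial.degree_zero]
    exact bot_lt_iff_ne_bot.mpr (Polynomial.degree_ne_bot.mpr (ff0_monic k).ne_zero)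
  · rw [Polynomial.degree_eq_natDegree h0, Polynomial.degree_eq_natDegree (ff0_monic k).ne_zero,
      ff0_natDegree]
    exact_mod_cast hg

lemma lin_eq (a b : k⟦X⟧) : (a • (1 : AdjoinRoot (ff0 k)) + b • xx k) =
    AdjoinRoot.mk (ff0 k) (Polynomial.C b * Polynomial.X + Polynomial.C a) := by
  rw [map_add, map_mul, AdjoinRoot.mk_C, AdjoinRoot.mk_C, AdjoinRoot.mk_X, Algebra.smul_def,
    Algebra.smul_def, mul_one, add_comm]
  rfl

lemma natDeg_lin (a b : k⟦X⟧) :
    (Polynomial.C b * Polynomial.X + Polynomial.C a : Polynomial k⟦X⟧).natDegree < 2 := by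
  have := Polynomial.natDegree_linear_le (a := b) (b := a)
  omega

lemma c0_lin (a b : k⟦X⟧) : c0 k (a • (1 : AdjoinRoot (ff0 k)) + b • xx k) = a := by
  rw [lin_eq, c0_mk, mod_small _ (natDeg_lin a b)]
  simp

lemma c1_lin (a b : k⟦X⟧) : c1 k (a • (1 : AdjoinRoot (ff0 k)) + b • xx k) = b := by
  rw [lin_eq, c1_mk, mod_small _ (natDeg_lin a b)]
  simp

lemma decomp (v : AdjoinRoot (ff0 k)) : v = c0 k v • 1 + c1 k v • xx k := by
  obtain ⟨g, rfl⟩ := AdjoinRoot.mk_surjective v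
  have hdeg : (g %ₘ ff0 k).natDegree < 2 := by
    have := Polynomial.natDegree_modByMonic_lt g (ff0_monic k) (ff0_ne_one k)
    rwa [ff0_natDegree] at this
  have hdecomp : g %ₘ ff0 k + ff0 k * (g /ₘ ff0 k) = g :=
    Polynomial.modByMonic_add_div g _
  have hmk : AdjoinRoot.mk (ff0 k) g = AdjoinRoot.mk _ (g %ₘ ff0 k) := by
    rw [AdjoinRoot.mk_eq_mk]
    exact ⟨g /ₘ ff0 k, by nth_rewrite 1 [← hdecomp]; ring⟩
  have hr := Polynomial.eq_X_add_C_of_natDegree_le_one (p := g %ₘ ff0 k) (by omega)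
  rw [lin_eq, c0_mk, c1_mk, ← hr, hmk]

lemma c0_one : c0 k (1 : AdjoinRoot (ff0 k)) = 1 := by
  have := c0_lin (k := k) 1 0
  simpa using this

lemma c1_one : c1 k (1 : AdjoinRoot (ff0 k)) = 0 := by
  have := c1_lin (k := k) 1 0
  simpa using this

lemma c0_xx : c0 k (xx k) = 0 := by
  have := c0_lin (k := k) 0 1
  simpa using this

lemma c1_xx : c1 k (xx k) = 1 := by
  have := c1_lin (k := k) 0 1
  simpa using this

lemma xx_sq : xx k * xx k = (X : k⟦X⟧) • 1 := by
  have h := AdjoinRoot.mk_self (f := ff0 k)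
  rw [map_sub, map_pow, AdjoinRoot.mk_X, AdjoinRoot.mk_C, sub_eq_zero] at h
  rw [Algebra.smul_def, mul_one, ← pow_two]
  exact h

lemma ext_c (v w : AdjoinRoot (ff0 k)) (h0 : c0 k v = c0 k w) (h1 : c1 k v = c1 k w) : v = w := by
  rw [decomp v, decomp w, h0, h1]

lemma mul_formula (v w : AdjoinRoot (ff0 k)) :
    v * w = (c0 k v * c0 k w + c1 k v * c1 k w * X) • 1 + (c0 k v * c1 k w + c1 k v * c0 k w) • xx k := by
  nth_rewrite 1 [decomp v, decomp w]
  simp only [add_mul, mul_add, smul_mul_smul_comm, one_mul, mul_one, xx_sq, add_smul, smul_smul]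
  abel

lemma c0_mul (v w : AdjoinRoot (ff0 k)) :
    c0 k (v * w) = c0 k v * c0 k w + c1 k v * c1 k w * X := by
  rw [mul_formula v w, c0_lin]

lemma c1_mul (v w : AdjoinRoot (ff0 k)) :
    c1 k (v * w) = c0 k v * c1 k w + c1 k v * c0 k w := by
  rw [mul_formula v w, c1_lin]


/-- the target submodule `R·1 + t^n S'` -/
noncomputable def T (n : ℕ) : Submodule k⟦X⟧ (AdjoinRoot (ff0 k)) :=
  Submodule.span k⟦X⟧ {(1 : AdjoinRoot (ff0 k))} ⊔
    Ideal.span {(PowerSeries.X : k⟦X⟧) ^ n} • (⊤ : Submodule k⟦X⟧ (AdjoinRoot (ff0 k)))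

lemma mem_T (n : ℕ) (v : AdjoinRoot (ff0 k)) : v ∈ T n ↔ (X : k⟦X⟧) ^ n ∣ c1 k v := by
  constructor
  · intro hv
    rw [T, Submodule.mem_sup] at hv
    obtain ⟨a, ha, w, hw, rfl⟩ := hv
    rw [Submodule.mem_span_singleton] at ha
    obtain ⟨c, rfl⟩ := ha
    have hw' : (X : k⟦X⟧) ^ n ∣ c1 k w := by
      refine Submodule.smul_induction_on hw ?_ ?_
      · intro r hr m _
        rw [Ideal.mem_span_singleton] at hr
        rw [map_smul, smul_eq_mul]
        exact Dvd.dvd.mul_right hr _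
      · intro x y hx hy
        rw [map_add]
        exact dvd_add hx hy
    rw [map_add, map_smul, c1_one, smul_zero, zero_add]
    exact hw'
  · rintro ⟨c, hc⟩
    rw [T, Submodule.mem_sup]
    refine ⟨c0 k v • 1, Submodule.smul_mem _ _ (Submodule.subset_span rfl),
      (X : k⟦X⟧) ^ n • (c • xx k), Submodule.smul_mem_smul (Ideal.subset_span rfl) trivial, ?_⟩
    conv_rhs => rw [decomp v]
    rw [hc, smul_smul]

section basis
variable (S : Subalgebra k⟦X⟧ (AdjoinRoot (ff0 k))) (n : ℕ) (hS : Subalgebra.toSubmodule S = T n)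

include hS in
lemma mem_S_iff (v : AdjoinRoot (ff0 k)) : v ∈ S ↔ (X : k⟦X⟧) ^ n ∣ c1 k v := by
  rw [← mem_T, ← hS]; rfl

include hS in
lemma e0_mem : ((X : k⟦X⟧) ^ n • xx k : AdjoinRoot (ff0 k)) ∈ S := by
  rw [mem_S_iff S n hS, map_smul, c1_xx]; simp

/-- the second basis vector -/
noncomputable def e0 : S := ⟨(X : k⟦X⟧) ^ n • xx k, e0_mem S n hS⟩

lemma Xpow_ne_zero : (X : k⟦X⟧) ^ n ≠ 0 := pow_ne_zero _ PowerSeries.X_ne_zero

lemma c0_e0 : c0 k (e0 S n hS : AdjoinRoot (ff0 k)) = 0 := by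
  show c0 k ((X : k⟦X⟧) ^ n • xx k) = 0
  rw [map_smul, c0_xx, smul_zero]

lemma c1_e0 : c1 k (e0 S n hS : AdjoinRoot (ff0 k)) = (X : k⟦X⟧) ^ n := by
  show c1 k ((X : k⟦X⟧) ^ n • xx k) = _
  rw [map_smul, c1_xx, smul_eq_mul, mul_one]

lemma linindep : LinearIndependent k⟦X⟧ ![(1 : S), e0 S n hS] := by
  rw [LinearIndependent.pair_iff]
  intro s t h
  have h' := congrArg (fun v : S => (v : AdjoinRoot (ff0 k))) h
  have h0 := congrArg (c0 k) h'
  have h1 := congrArg (c1 k) h'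
  simp only [Subalgebra.coe_add, Subalgebra.coe_smul, Subalgebra.coe_one, map_add, map_smul,
    c0_one, c1_one, c0_e0, c1_e0, smul_eq_mul, mul_one, mul_zero, add_zero, zero_add,
    Subalgebra.coe_zero, map_zero] at h0 h1
  refine ⟨h0, ?_⟩
  exact (mul_eq_zero.mp h1).resolve_right (Xpow_ne_zero n)

lemma span_top : ⊤ ≤ Submodule.span k⟦X⟧ (Set.range ![(1 : S), e0 S n hS]) := by
  intro v _
  obtain ⟨c, hc⟩ := (mem_S_iff S n hS v.1).mp v.2
  rw [Submodule.mem_span_range_iff_exists_fun]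
  refine ⟨![c0 k v.1, c], ?_⟩
  rw [Fin.sum_univ_two]
  apply Subtype.ext
  apply ext_c
  · simp only [Matrix.cons_val_zero, Matrix.cons_val_one, Matrix.cons_val_fin_one,
      Subalgebra.coe_add, Subalgebra.coe_smul, Subalgebra.coe_one, map_add, map_smul,
      c0_one, c0_e0, smul_eq_mul, mul_one, mul_zero, add_zero]
  · simp only [Matrix.cons_val_zero, Matrix.cons_val_one, Matrix.cons_val_fin_one,
      Subalgebra.coe_add, Subalgebra.coe_smul, Subalgebra.coe_one, map_add, map_smul,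
      c1_one, c1_e0, smul_eq_mul, mul_zero, zero_add]
    rw [hc, mul_comm]

/-- the explicit basis `(1, t^n x)` -/
noncomputable def B0 : Module.Basis (Fin 2) k⟦X⟧ S :=
  Module.Basis.mk (linindep S n hS) (span_top S n hS)

lemma B0_zero : B0 S n hS 0 = 1 := by simp [B0]
lemma B0_one : B0 S n hS 1 = e0 S n hS := by simp [B0]

lemma coord (v : S) : c0 k (v : AdjoinRoot (ff0 k)) = (B0 S n hS).repr v 0 ∧
    c1 k (v : AdjoinRoot (ff0 k)) = (B0 S n hS).repr v 1 * (X : k⟦X⟧) ^ n := by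
  have h := (B0 S n hS).sum_repr v
  rw [Fin.sum_univ_two, B0_zero, B0_one] at h
  have h' := congrArg (fun v : S => (v : AdjoinRoot (ff0 k))) h
  have h0 := congrArg (c0 k) h'
  have h1 := congrArg (c1 k) h'
  simp only [Subalgebra.coe_add, Subalgebra.coe_smul, Subalgebra.coe_one, map_add, map_smul,
    c0_one, c1_one, c0_e0, c1_e0, smul_eq_mul, mul_one, mul_zero, add_zero, zero_add] at h0 h1
  exact ⟨h0.symm, h1.symm⟩

include hS in
lemma trace_eq (s : S) : Algebra.trace k⟦X⟧ S s = 2 * c0 k (s : AdjoinRoot (ff0 k)) := by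
  rw [Algebra.trace_eq_matrix_trace (B0 S n hS), Matrix.trace_fin_two,
    Algebra.leftMulMatrix_eq_repr_mul, Algebra.leftMulMatrix_eq_repr_mul, B0_zero, B0_one]
  have c1' := coord S n hS (s * 1)
  have c2 := coord S n hS (s * e0 S n hS)
  rw [← c1'.1]
  have h4 : c1 k ((s * e0 S n hS : S) : AdjoinRoot (ff0 k)) =
      c0 k (s : AdjoinRoot (ff0 k)) * (X : k⟦X⟧) ^ n := by
    rw [Subalgebra.coe_mul, c1_mul, c0_e0, c1_e0, mul_zero, add_zero]
  rw [h4] at c2
  have := mul_right_cancel₀ (Xpow_ne_zero n) c2.2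
  rw [← this, mul_one]
  ring

lemma discr_B0 : Algebra.discr k⟦X⟧ (B0 S n hS) = 4 * (X : k⟦X⟧) ^ (2 * n + 1) := by
  rw [Algebra.discr_def, Matrix.det_fin_two]
  simp only [Algebra.traceMatrix_apply, Algebra.traceForm_apply, trace_eq S n hS, B0_zero, B0_one,
    Subalgebra.coe_mul, Subalgebra.coe_one, c0_mul, c0_one, c1_one, c0_e0, c1_e0]
  ring

end basis


/-- from a basis of size 2 to the shape of `S` -/
lemma shape (S : Subalgebra k⟦X⟧ (AdjoinRoot (ff0 k))) (bS : Module.Basis (Fin 2) k⟦X⟧ S) :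
    ∃ n : ℕ, Subalgebra.toSubmodule S = T n := by
  let π : S →ₗ[k⟦X⟧] k⟦X⟧ := (c1 k).comp (Subalgebra.toSubmodule S).subtype
  have hπ : ∀ v : S, π v = c1 k (v : AdjoinRoot (ff0 k)) := fun v => rfl
  have hdiag : ∀ v : S, π v = 0 → v = algebraMap k⟦X⟧ S (c0 k (v : AdjoinRoot (ff0 k))) := by
    intro v hv
    rw [hπ] at hv
    apply Subtype.ext
    apply ext_c
    · rw [Subalgebra.coe_algebraMap, Algebra.algebraMap_eq_smul_one, map_smul, c0_one, smul_eq_mul,
        mul_one]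
    · rw [Subalgebra.coe_algebraMap, Algebra.algebraMap_eq_smul_one, map_smul, c1_one, smul_zero, hv]
  by_cases hbot : LinearMap.range π = ⊥
  · exfalso
    have h0 : ∀ v : S, v = algebraMap k⟦X⟧ S (c0 k (v : AdjoinRoot (ff0 k))) := by
      intro v
      apply hdiag
      have : π v ∈ LinearMap.range π := ⟨v, rfl⟩
      rw [hbot] at this
      exact this
    have hli := bS.linearIndependent
    rw [Fintype.linearIndependent_iff] at hli
    have h1 := hli ![c0 k ((bS 1 : S) : AdjoinRoot (ff0 k)), -c0 k ((bS 0 : S) : AdjoinRoot (ff0 k))] (by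
      rw [Fin.sum_univ_two]
      nth_rewrite 2 [h0 (bS 0)]
      nth_rewrite 3 [h0 (bS 1)]
      simp only [Matrix.cons_val_zero, Matrix.cons_val_one, Matrix.cons_val_fin_one,
        Algebra.smul_def, ← map_mul, ← map_add, neg_mul]
      rw [mul_comm, add_neg_cancel, map_zero])
    have h2 := h1 1
    simp only [Matrix.cons_val_one, Matrix.cons_val_fin_one, neg_eq_zero] at h2
    have h3 : bS 0 = 0 := by
      rw [h0 (bS 0), h2, RingHom.map_zero]
    exact bS.ne_zero 0 h3
  · obtain ⟨n, hn⟩ := IsDiscreteValuationRing.ideal_eq_span_pow_irreducible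
      (s := (LinearMap.range π : Ideal k⟦X⟧)) hbot PowerSeries.X_irreducible
    refine ⟨n, ?_⟩
    ext v
    rw [mem_T]
    constructor
    · intro hv
      have : π ⟨v, hv⟩ ∈ (LinearMap.range π : Ideal k⟦X⟧) := ⟨⟨v, hv⟩, rfl⟩
      rw [hn, Ideal.mem_span_singleton] at this
      exact this
    · rintro ⟨c, hc⟩
      have hX : (X : k⟦X⟧) ^ n ∈ (LinearMap.range π : Ideal k⟦X⟧) := by
        rw [hn]; exact Ideal.subset_span rfl
      obtain ⟨e, he⟩ := hX
      have hv' : v = (v - c • (e : AdjoinRoot (ff0 k))) + c • (e : AdjoinRoot (ff0 k)) := by abel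
      have he' : c1 k (e : AdjoinRoot (ff0 k)) = (X : k⟦X⟧) ^ n := he
      have hdiag' : v - c • (e : AdjoinRoot (ff0 k)) =
          algebraMap k⟦X⟧ (AdjoinRoot (ff0 k)) (c0 k v - c * c0 k (e : AdjoinRoot (ff0 k))) := by
        apply ext_c
        · rw [Algebra.algebraMap_eq_smul_one, map_smul, c0_one, smul_eq_mul, mul_one, map_sub,
            map_smul, smul_eq_mul]
        · rw [Algebra.algebraMap_eq_smul_one, map_smul, c1_one, smul_zero, map_sub,
            map_smul, smul_eq_mul, he', hc]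
          ring
      show v ∈ S
      rw [hv', hdiag']
      exact add_mem (S.algebraMap_mem _) (S.smul_mem e.2 c)

lemma four_unit [CharZero k] : IsUnit (4 : k⟦X⟧) := by
  have : (4 : k⟦X⟧) = PowerSeries.C (4 : k) := (map_ofNat PowerSeries.C 4).symm
  rw [this]
  exact (IsUnit.mk0 (4 : k) (by norm_num)).map PowerSeries.C

lemma discr_span [CharZero k] (S : Subalgebra k⟦X⟧ (AdjoinRoot (ff0 k))) (n : ℕ)
    (hS : Subalgebra.toSubmodule S = T n) (bS : Module.Basis (Fin 2) k⟦X⟧ S) :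
    Ideal.span {Algebra.discr k⟦X⟧ ⇑bS} = Ideal.span {(X : k⟦X⟧) ^ (2 * n + 1)} := by
  let P : Matrix (Fin 2) (Fin 2) k⟦X⟧ := ((B0 S n hS).toMatrix bS).transpose
  have h1 : ⇑bS = (P.map (algebraMap k⟦X⟧ S)).mulVec ⇑(B0 S n hS) := by
    funext j
    simp only [Matrix.mulVec, dotProduct, Matrix.map_apply, P, Matrix.transpose_apply,
      Module.Basis.toMatrix_apply, ← Algebra.smul_def]
    exact ((B0 S n hS).sum_repr (bS j)).symm
  rw [h1, Algebra.discr_of_matrix_mulVec, discr_B0]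
  have hu : IsUnit P.det := by
    rw [Matrix.det_transpose, ← Module.Basis.det_apply]
    exact (B0 S n hS).isUnit_det bS
  rw [← mul_assoc]
  exact Ideal.span_singleton_mul_left_unit ((hu.pow 2).mul four_unit) _

lemma pow_eq_of_span (a b : ℕ) (h : Ideal.span {(X : k⟦X⟧) ^ a} = Ideal.span {(X : k⟦X⟧) ^ b}) :
    a = b := by
  rw [Ideal.span_singleton_eq_span_singleton] at h
  have hX0 : (X : k⟦X⟧) ≠ 0 := PowerSeries.X_ne_zero
  have hXu : ¬ IsUnit (X : k⟦X⟧) := PowerSeries.X_irreducible.not_isUnit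
  have h1 := (pow_dvd_pow_iff hX0 hXu).mp h.dvd
  have h2 := (pow_dvd_pow_iff hX0 hXu).mp h.symm.dvd
  omega

section iso
variable (S : Subalgebra k⟦X⟧ (AdjoinRoot (ff0 k))) (n : ℕ)
  (hS : Subalgebra.toSubmodule S = T n)

lemma e0_sq : e0 S n hS * e0 S n hS = algebraMap k⟦X⟧ S ((X : k⟦X⟧) ^ (2 * n + 1)) := by
  apply Subtype.ext
  show ((X : k⟦X⟧) ^ n • xx k) * ((X : k⟦X⟧) ^ n • xx k) =
    algebraMap k⟦X⟧ (AdjoinRoot (ff0 k)) ((X : k⟦X⟧) ^ (2 * n + 1))
  rw [smul_mul_smul_comm, xx_sq, smul_smul, Algebra.algebraMap_eq_smul_one]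
  congr 1
  ring

/-- the polynomial `y^2 - t^(2n+1)` -/
noncomputable abbrev ff (k : Type u) [Field k] (n : ℕ) : Polynomial k⟦X⟧ :=
  Polynomial.X ^ 2 - Polynomial.C ((X : k⟦X⟧) ^ (2 * n + 1))

lemma ff_monic : (ff k n).Monic := Polynomial.monic_X_pow_sub_C _ (by norm_num)

lemma ff_natDegree : (ff k n).natDegree = 2 := Polynomial.natDegree_X_pow_sub_C

/-- the map `R[y]/(y^2 - t^(2n+1)) → S` -/
noncomputable def phi : AdjoinRoot (ff k n) →ₐ[k⟦X⟧] S :=
  AdjoinRoot.liftAlgHom _ (Algebra.ofId k⟦X⟧ S) (e0 S n hS) (by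
    simp only [ff, Polynomial.eval₂_sub, Polynomial.eval₂_pow, Polynomial.eval₂_X,
      Polynomial.eval₂_C]
    rw [pow_two, e0_sq, sub_eq_zero]
    rfl)

lemma phi_mk (g : Polynomial k⟦X⟧) :
    phi S n hS (AdjoinRoot.mk _ g) = Polynomial.aeval (e0 S n hS) g := rfl

lemma phi_lin (a c : k⟦X⟧) :
    phi S n hS (AdjoinRoot.mk _ (Polynomial.C c * Polynomial.X + Polynomial.C a)) =
      a • (1 : S) + c • e0 S n hS := by
  rw [phi_mk]
  simp [Algebra.smul_def, add_comm]

lemma phi_bij : Function.Bijective (phi S n hS) := by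
  constructor
  · rw [injective_iff_map_eq_zero]
    intro x hx
    obtain ⟨g, rfl⟩ := AdjoinRoot.mk_surjective x
    have hf1 : ff k n ≠ 1 := by
      intro h
      have := ff_natDegree (k := k) n
      rw [h] at this
      simp at this
    have hdeg : (g %ₘ ff k n).natDegree < 2 := by
      have := Polynomial.natDegree_modByMonic_lt g (ff_monic n) hf1
      rwa [ff_natDegree] at this
    have hdecomp : g %ₘ ff k n + ff k n * (g /ₘ ff k n) = g :=
      Polynomial.modByMonic_add_div g _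
    have hmk : AdjoinRoot.mk (ff k n) g = AdjoinRoot.mk _ (g %ₘ ff k n) := by
      rw [AdjoinRoot.mk_eq_mk]
      exact ⟨g /ₘ ff k n, by nth_rewrite 1 [← hdecomp]; ring⟩
    have hr := Polynomial.eq_X_add_C_of_natDegree_le_one (p := g %ₘ ff k n) (by omega)
    rw [hmk] at hx ⊢
    rw [hr] at hx ⊢
    rw [phi_lin] at hx
    have hli := linindep S n hS
    rw [LinearIndependent.pair_iff] at hli
    obtain ⟨ha, hc⟩ := hli _ _ hx
    rw [ha, hc]
    simp
  · intro v
    obtain ⟨d, hd⟩ := (mem_S_iff S n hS v.1).mp v.2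
    refine ⟨AdjoinRoot.mk _ (Polynomial.C d * Polynomial.X + Polynomial.C (c0 k v.1)), ?_⟩
    rw [phi_lin]
    apply Subtype.ext
    apply ext_c
    · simp only [Subalgebra.coe_add, Subalgebra.coe_smul, Subalgebra.coe_one, map_add, map_smul,
        c0_one, c0_e0, smul_eq_mul, mul_one, mul_zero, add_zero]
    · simp only [Subalgebra.coe_add, Subalgebra.coe_smul, Subalgebra.coe_one, map_add, map_smul,
        c1_one, c1_e0, smul_eq_mul, mul_zero, zero_add]
      rw [hd, mul_comm]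

end iso

theorem main [CharZero k] (b : ℕ)
    (S : Subalgebra (PowerSeries k) (AdjoinRoot (Polynomial.X ^ 2 - Polynomial.C (PowerSeries.X : PowerSeries k)))) :
    ((∃ bS : Module.Basis (Fin 2) (PowerSeries k) S,
      Ideal.span {Algebra.discr (PowerSeries k) ⇑bS} = Ideal.span {(PowerSeries.X : PowerSeries k) ^ b}) ↔
    ∃ n : ℕ, b = 2 * n + 1 ∧
      Subalgebra.toSubmodule S = Submodule.span (PowerSeries k) {(1 : (AdjoinRoot (Polynomial.X ^ 2 - Polynomial.C (PowerSeries.X : PowerSeries k))))} ⊔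
        Ideal.span {(PowerSeries.X : PowerSeries k) ^ n} • (⊤ : Submodule (PowerSeries k) (AdjoinRoot (Polynomial.X ^ 2 - Polynomial.C (PowerSeries.X : PowerSeries k))))) ∧
    (∀ n : ℕ, Subalgebra.toSubmodule S = Submodule.span (PowerSeries k) {(1 : (AdjoinRoot (Polynomial.X ^ 2 - Polynomial.C (PowerSeries.X : PowerSeries k))))} ⊔
        Ideal.span {(PowerSeries.X : PowerSeries k) ^ n} • (⊤ : Submodule (PowerSeries k) (AdjoinRoot (Polynomial.X ^ 2 - Polynomial.C (PowerSeries.X : PowerSeries k)))) →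
      Nonempty (S ≃ₐ[PowerSeries k] AdjoinRoot (Polynomial.X ^ 2 - Polynomial.C ((PowerSeries.X : PowerSeries k) ^ (2 * n + 1))))) := by
  refine ⟨⟨?_, ?_⟩, ?_⟩
  · rintro ⟨bS, hdisc⟩
    obtain ⟨n, hn⟩ := shape S bS
    refine ⟨n, ?_, hn⟩
    have := discr_span S n hn bS
    rw [hdisc] at this
    exact pow_eq_of_span _ _ this
  · rintro ⟨n, rfl, hn⟩
    have hn' : Subalgebra.toSubmodule S = T n := hn
    refine ⟨B0 S n hn', ?_⟩
    rw [discr_B0]
    exact Ideal.span_singleton_mul_left_unit four_unit _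
  · intro n hn
    have hn' : Subalgebra.toSubmodule S = T n := hn
    exact ⟨(AlgEquiv.ofBijective (phi S n hn') (phi_bij S n hn')).symm⟩

end PRE

/-- Over R = k⟦t⟧ with k an algebraically closed field of characteristic zero, let S' = R[x] / (x ^ 2 -
t), the ramified smooth double cover of the formal disk (branch divisor (t)). An R-subalgebra S of
S' admits an R-basis of size 2 whose discriminant generates (t ^ b), that is, S is a crimp with
branch divisor (t ^ b), if and only if b = 2n + 1 for some n and S = R·1 + t ^ n S'. So there is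
exactly one such crimp when b is odd and none when b is even; moreover the subalgebra R·1 + t ^ n S'
is isomorphic as an R-algebra to R[y] / (y ^ 2 - t ^ (2n+1)) (existence of an isomorphism; y ↦ t ^ n
x). (The published statement describes this algebra as R[y] / (y ^ 2 - t ^ (b - a)) with a = 1, that
is R[y] / (y ^ 2 - t ^ (2n)); that algebra has discriminant ideal (t ^ (b - 1)), not (t ^ b), so
this row uses R[y] / (y ^ 2 - t ^ b) = R[y] / (y ^ 2 - t ^ (2n+1)), which is the algebra R·1 + t ^ n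
S'. The published statement also gives the space of crimps its reduced one-point scheme structure;
this row classifies its k-points.) -/
theorem result {k : Type u} [Field k] [IsAlgClosed k] [CharZero k] (b : ℕ)
    (S : Subalgebra (PowerSeries k) (AdjoinRoot (Polynomial.X ^ 2 - Polynomial.C (PowerSeries.X : PowerSeries k)))) :
    ((∃ bS : Module.Basis (Fin 2) (PowerSeries k) S,
      Ideal.span {Algebra.discr (PowerSeries k) ⇑bS} = Ideal.span {(PowerSeries.X : PowerSeries k) ^ b}) ↔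
    ∃ n : ℕ, b = 2 * n + 1 ∧
      Subalgebra.toSubmodule S = Submodule.span (PowerSeries k) {(1 : (AdjoinRoot (Polynomial.X ^ 2 - Polynomial.C (PowerSeries.X : PowerSeries k))))} ⊔
        Ideal.span {(PowerSeries.X : PowerSeries k) ^ n} • (⊤ : Submodule (PowerSeries k) (AdjoinRoot (Polynomial.X ^ 2 - Polynomial.C (PowerSeries.X : PowerSeries k))))) ∧
    (∀ n : ℕ, Subalgebra.toSubmodule S = Submodule.span (PowerSeries k) {(1 : (AdjoinRoot (Polynomial.X ^ 2 - Polynomial.C (PowerSeries.X : PowerSeries k))))} ⊔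
        Ideal.span {(PowerSeries.X : PowerSeries k) ^ n} • (⊤ : Submodule (PowerSeries k) (AdjoinRoot (Polynomial.X ^ 2 - Polynomial.C (PowerSeries.X : PowerSeries k)))) →
      Nonempty (S ≃ₐ[PowerSeries k] AdjoinRoot (Polynomial.X ^ 2 - Polynomial.C ((PowerSeries.X : PowerSeries k) ^ (2 * n + 1))))) := by
  exact main b S

end Groth.Agent.S13881
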