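import Groth.Statements.S13882
import Mathlib

set_option autoImplicit false
universe u
open FinCov

namespace Groth.Agent.S13882

open W4c1hurwitzcpt MvPolynomial

section
variable (K : Type u) [Field K] (d : ℕ)

/-- variables: structure constants and unit coordinates -/
abbrev Var (d : ℕ) := (Fin d × Fin d × Fin d) ⊕ Fin d

noncomputable def cc (i j k : Fin d) : MvPolynomial (Var d) K := X (Sum.inl (i, j, k))
noncomputable def uu (i : Fin d) : MvPolynomial (Var d) K := X (Sum.inr i)

/-- the relations -/
def Rel : Set (MvPolynomial (Var d) K) :=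
  (Set.range fun p : Fin d × Fin d × Fin d => cc K d p.1 p.2.1 p.2.2 - cc K d p.2.1 p.1 p.2.2) ∪
  (Set.range fun p : Fin d × Fin d × Fin d × Fin d =>
    (∑ k, cc K d p.1 p.2.1 k * cc K d k p.2.2.1 p.2.2.2) -
      ∑ k, cc K d p.2.1 p.2.2.1 k * cc K d p.1 k p.2.2.2) ∪
  (Set.range fun p : Fin d × Fin d =>
    (∑ i, uu K d i * cc K d i p.1 p.2) - if p.1 = p.2 then 1 else 0)

abbrev BB := MvPolynomial (Var d) K ⧸ Ideal.span (Rel K d)

variable {K d}
variable {A : Type u} [CommRing A] [Algebra K A]

/-- evaluation attached to a based algebra -/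
noncomputable def evalOf (s : BasedAlg d A) : MvPolynomial (Var d) K →ₐ[K] A :=
  aeval (Sum.elim (fun p : Fin d × Fin d × Fin d => s.c p.1 p.2.1 p.2.2) s.u)

lemma evalOf_cc (s : BasedAlg d A) (i j k : Fin d) : evalOf s (cc K d i j k) = s.c i j k := by
  simp [evalOf, cc]
lemma evalOf_uu (s : BasedAlg d A) (i : Fin d) : evalOf s (uu K d i) = s.u i := by
  simp [evalOf, uu]

lemma evalOf_rel (s : BasedAlg d A) : ∀ a ∈ Ideal.span (Rel K d), evalOf s a = 0 := by
  intro a ha
  have : Ideal.span (Rel K d) ≤ RingHom.ker (evalOf (K := K) s : MvPolynomial (Var d) K →+* A) := by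
    rw [Ideal.span_le]
    rintro x ((⟨p, rfl⟩ | ⟨p, rfl⟩) | ⟨p, rfl⟩)
    · simp only [SetLike.mem_coe, RingHom.mem_ker, RingHom.coe_coe, map_sub, evalOf_cc]
      rw [s.comm, sub_self]
    · simp only [SetLike.mem_coe, RingHom.mem_ker, RingHom.coe_coe, map_sub, map_sum, map_mul,
        evalOf_cc]
      rw [s.assoc, sub_self]
    · simp only [SetLike.mem_coe, RingHom.mem_ker, RingHom.coe_coe, map_sub, map_sum, map_mul,
        evalOf_cc, evalOf_uu]
      rw [s.unit]
      split_ifs <;> simp
  exact this ha

noncomputable def toHom (s : BasedAlg d A) : BB K d →ₐ[K] A :=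
  Ideal.Quotient.liftₐ (Ideal.span (Rel K d)) (evalOf s) (evalOf_rel s)

lemma toHom_mk (s : BasedAlg d A) (x : MvPolynomial (Var d) K) :
    toHom s (Ideal.Quotient.mk _ x) = evalOf s x := rfl

lemma rel_mem_comm (i j k : Fin d) : cc K d i j k - cc K d j i k ∈ Ideal.span (Rel K d) :=
  Ideal.subset_span (Or.inl (Or.inl ⟨(i, j, k), rfl⟩))
lemma rel_mem_assoc (i j l m : Fin d) : (∑ k, cc K d i j k * cc K d k l m) -
      ∑ k, cc K d j l k * cc K d i k m ∈ Ideal.span (Rel K d) :=
  Ideal.subset_span (Or.inl (Or.inr ⟨(i, j, l, m), rfl⟩))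
lemma rel_mem_unit (j m : Fin d) : (∑ i, uu K d i * cc K d i j m) - (if j = m then 1 else 0) ∈
    Ideal.span (Rel K d) :=
  Ideal.subset_span (Or.inr ⟨(j, m), rfl⟩)

noncomputable def ofHom (g : BB K d →ₐ[K] A) : BasedAlg d A where
  c i j k := g (Ideal.Quotient.mk _ (cc K d i j k))
  u i := g (Ideal.Quotient.mk _ (uu K d i))
  comm i j k := by
    have := Ideal.Quotient.eq.mpr (rel_mem_comm (K := K) i j k)
    rw [this]
  assoc i j l m := by
    have := Ideal.Quotient.eq.mpr (rel_mem_assoc (K := K) i j l m)
    have h2 := congrArg g this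
    simpa only [map_sum, map_mul] using h2
  unit j m := by
    have := Ideal.Quotient.eq.mpr (rel_mem_unit (K := K) j m)
    have h2 := congrArg g this
    simp only [map_sum, map_mul] at h2
    rw [h2]
    split_ifs <;> simp

noncomputable def eta : (BB K d →ₐ[K] A) ≃ BasedAlg d A where
  toFun := ofHom
  invFun := toHom
  left_inv g := by
    apply Ideal.Quotient.algHom_ext
    apply MvPolynomial.algHom_ext
    rintro (⟨i, j, k⟩ | i)
    · change toHom (ofHom g) (Ideal.Quotient.mk _ (cc K d i j k)) = _
      rw [toHom_mk, evalOf_cc]; rfl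
    · change toHom (ofHom g) (Ideal.Quotient.mk _ (uu K d i)) = _
      rw [toHom_mk, evalOf_uu]; rfl
  right_inv s := by
    apply BasedAlg.ext
    · funext i j k
      change toHom s (Ideal.Quotient.mk _ (cc K d i j k)) = _
      rw [toHom_mk, evalOf_cc]
    · funext i
      change toHom s (Ideal.Quotient.mk _ (uu K d i)) = _
      rw [toHom_mk, evalOf_uu]

end
/-- Over a field K of characteristic zero, the functor that sends a K-scheme S to the set of isomorphism
classes of pairs (A, τ) of an O_S-algebra A and an O_S-module isomorphism τ from A to the free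
module of rank d, equivalently to the set of commutative unital algebra structures on the rank-d
free module with its standard basis, is represented by an affine K-scheme of finite type. Stated on
affine K-schemes in one universe: there is a finitely generated commutative K-algebra B with
bijections between K-algebra maps B → A and based algebra structures of rank d over A, natural in
the commutative K-algebra A. -/
theorem result (K : Type u) [Field K] [CharZero K] (d : ℕ) :
    ∃ (B : Type u) (_ : CommRing B) (_ : Algebra K B) (_ : Algebra.FiniteType K B)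
      (η : ∀ (A : Type u) [CommRing A] [Algebra K A], (B →ₐ[K] A) ≃ W4c1hurwitzcpt.BasedAlg d A),
      ∀ (A A' : Type u) [CommRing A] [Algebra K A] [CommRing A'] [Algebra K A']
        (f : A →ₐ[K] A') (g : B →ₐ[K] A),
        η A' (f.comp g) = (η A g).map f.toRingHom := by
  refine ⟨BB K d, inferInstance, inferInstance, inferInstance, fun A _ _ => eta, ?_⟩
  intro A A' _ _ _ _ f g
  apply BasedAlg.ext
  · funext i j k
    simp [eta, ofHom, BasedAlg.map]
  · funext i
    simp [eta, ofHom, BasedAlg.map]

end Groth.Agent.S13882
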