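import Groth.Statements.S13884
import Mathlib
-- import your own Groth.Agent.* helpers here

set_option autoImplicit false
universe u
open Crimp

namespace Groth.Agent.S13884

section PRE
open W4c1hurwitzcpt PowerSeries

variable {k : Type u} [Field k]

theorem h3 : (3 : ℕ) ≠ 0 := by norm_num

theorem val_smul (a : PowerSeries k) (f : RootDisk 3 k) :
    RootDisk.val (a • f) = PowerSeries.expand 3 h3 a * RootDisk.val f := rfl

/-- order of a sum whose nonzero terms have pairwise distinct orders -/
theorem order_sum_distinct {ι : Type*} [DecidableEq ι] (g : ι → PowerSeries k) (s : Finset ι)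
    (hd : ∀ i ∈ s, ∀ j ∈ s, i ≠ j → g i ≠ 0 → g j ≠ 0 → (g i).order ≠ (g j).order)
    (hne : ∃ i ∈ s, g i ≠ 0) :
    ∃ i₀ ∈ s, g i₀ ≠ 0 ∧ (∑ i ∈ s, g i).order = (g i₀).order := by
  induction s using Finset.induction_on with
  | empty => obtain ⟨i, hi, _⟩ := hne; simp at hi
  | insert a s has ih =>
    rw [Finset.sum_insert has]
    by_cases hall : ∃ i ∈ s, g i ≠ 0
    · obtain ⟨i₀, hi₀, hg₀, hord⟩ := ih
        (fun i hi j hj => hd i (Finset.mem_insert_of_mem hi) j (Finset.mem_insert_of_mem hj)) hall
      by_cases ha : g a = 0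
      · exact ⟨i₀, Finset.mem_insert_of_mem hi₀, hg₀, by rw [ha, zero_add, hord]⟩
      · have hne' : (g a).order ≠ (∑ i ∈ s, g i).order := by
          rw [hord]
          exact hd a (Finset.mem_insert_self a s) i₀ (Finset.mem_insert_of_mem hi₀)
            (fun h => has (h ▸ hi₀)) ha hg₀
        rw [order_add_of_order_ne _ _ hne']
        rcases le_total (g a).order (∑ i ∈ s, g i).order with h | h
        · exact ⟨a, Finset.mem_insert_self a s, ha, by rw [min_eq_left h]⟩
        · exact ⟨i₀, Finset.mem_insert_of_mem hi₀, hg₀, by rw [min_eq_right h, hord]⟩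
    · push Not at hall
      have h0 : ∑ i ∈ s, g i = 0 := Finset.sum_eq_zero hall
      obtain ⟨i, hi, hgi⟩ := hne
      rcases Finset.mem_insert.1 hi with rfl | hi'
      · exact ⟨i, Finset.mem_insert_self i s, hgi, by rw [h0, add_zero]⟩
      · exact absurd (hall i hi') hgi

theorem decomp3 (f : PowerSeries k) :
    ∃ c : Fin 3 → PowerSeries k, f = ∑ j : Fin 3, expand 3 h3 (c j) * X ^ (j : ℕ) := by
  refine ⟨fun j => PowerSeries.mk fun n => coeff (3 * n + j) f, ?_⟩
  ext m
  rw [map_sum]
  have key : ∀ j : Fin 3, coeff m (expand 3 h3 (PowerSeries.mk fun n => coeff (3 * n + j) f)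
      * X ^ (j : ℕ)) = if m % 3 = (j : ℕ) then coeff m f else 0 := by
    intro j
    have hj := j.2
    rw [coeff_mul_X_pow', coeff_expand]
    by_cases h1 : (j : ℕ) ≤ m
    · by_cases h2 : 3 ∣ m - (j : ℕ)
      · have h3' : m % 3 = (j : ℕ) := by omega
        have h4 : 3 * ((m - (j : ℕ)) / 3) + (j : ℕ) = m := by omega
        rw [if_pos h1, if_pos h2, if_pos h3', coeff_mk, h4]
      · have h3' : m % 3 ≠ (j : ℕ) := by omega
        rw [if_pos h1, if_neg h2, if_neg h3']
    · have h3' : m % 3 ≠ (j : ℕ) := by omega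
      rw [if_neg h1, if_neg h3']
  rw [Finset.sum_congr rfl fun j _ => key j]
  rw [Fin.sum_univ_three]
  have hm : m % 3 = 0 ∨ m % 3 = 1 ∨ m % 3 = 2 := by omega
  rcases hm with h | h | h <;> simp [h]


theorem val_comb (M : Submodule (PowerSeries k) (RootDisk 3 k))
    (b : Fin 3 → M) (C : Matrix (Fin 3) (Fin 3) (PowerSeries k))
    (hC : ∀ i, RootDisk.val ((b i : M) : RootDisk 3 k)
      = ∑ j : Fin 3, expand 3 h3 (C i j) * X ^ (j : ℕ))
    (a : Fin 3 → PowerSeries k) :
    RootDisk.val (((∑ i, a i • b i : M)) : RootDisk 3 k)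
      = ∑ j : Fin 3, expand 3 h3 (∑ i, a i * C i j) * X ^ (j : ℕ) := by
  rw [Submodule.coe_sum, map_sum]
  simp only [Submodule.coe_smul, val_smul, hC, Finset.mul_sum]
  rw [Finset.sum_comm]
  refine Finset.sum_congr rfl fun j _ => ?_
  rw [map_sum, Finset.sum_mul]
  refine Finset.sum_congr rfl fun i _ => ?_
  rw [map_mul, mul_assoc]

theorem exists_class (M : Submodule (PowerSeries k) (RootDisk 3 k))
    (bM : Module.Basis (Fin 3) (PowerSeries k) M) (r : Fin 3) :
    ∃ f : M, (f : RootDisk 3 k) ≠ 0 ∧
      (order (RootDisk.val ((f : M) : RootDisk 3 k))).toNat % 3 = (r : ℕ) := by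
  classical
  choose C hC using fun i => decomp3 (RootDisk.val ((bM i : M) : RootDisk 3 k))
  let Cm : Matrix (Fin 3) (Fin 3) (PowerSeries k) := Matrix.of C
  have hCm : ∀ i, RootDisk.val ((bM i : M) : RootDisk 3 k)
      = ∑ j : Fin 3, expand 3 h3 (Cm i j) * X ^ (j : ℕ) := hC
  have hdet : Cm.det ≠ 0 := by
    intro h0
    obtain ⟨a, ha, hav⟩ := Matrix.exists_vecMul_eq_zero_iff.2 h0
    have h1 := val_comb M (fun i => bM i) Cm hCm a
    have h2 : ∀ j, ∑ i, a i * Cm i j = 0 := by
      intro j
      have := congrFun hav j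
      simpa [Matrix.vecMul, dotProduct] using this
    simp only [h2, map_zero, zero_mul, Finset.sum_const_zero] at h1
    have h3' : (∑ i, a i • bM i : M) = 0 := by
      apply Subtype.ext
      apply RootDisk.val.injective
      rw [h1]; rfl
    have := Fintype.linearIndependent_iff.1 bM.linearIndependent a h3'
    exact ha (funext this)
  have hval : RootDisk.val (((∑ i, Cm.adjugate r i • bM i : M)) : RootDisk 3 k)
      = expand 3 h3 Cm.det * X ^ (r : ℕ) := by
    have h1 := val_comb M (fun i => bM i) Cm hCm (fun i => Cm.adjugate r i)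
    have h2 : ∀ j, ∑ i, Cm.adjugate r i * Cm i j = if r = j then Cm.det else 0 := by
      intro j
      have := congrFun (congrFun (Matrix.adjugate_mul Cm) r) j
      simpa [Matrix.mul_apply, Matrix.smul_apply, Matrix.one_apply] using this
    have hsum : ∑ j : Fin 3, expand 3 h3 (if r = j then Cm.det else 0) * X ^ (j : ℕ)
        = expand 3 h3 Cm.det * X ^ (r : ℕ) := by
      rw [Finset.sum_eq_single r (by intro j _ hj; simp [hj.symm]) (by simp), if_pos rfl]
    rw [h1]
    simp only [h2]
    exact hsum
  have h7 : Cm.det.order ≠ ⊤ := by rwa [Ne, order_eq_top]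
  obtain ⟨n, hn⟩ := ENat.ne_top_iff_exists.1 h7
  have hord : (RootDisk.val (((∑ i, Cm.adjugate r i • bM i : M)) : RootDisk 3 k)).order
      = ((3 * n + (r : ℕ) : ℕ) : ℕ∞) := by
    rw [hval, order_mul, order_expand, order_X_pow, ← hn, nsmul_eq_mul]
    push_cast; rfl
  refine ⟨∑ i, Cm.adjugate r i • bM i, ?_, ?_⟩
  · intro h0
    have : (RootDisk.val (((∑ i, Cm.adjugate r i • bM i : M)) : RootDisk 3 k)).order = ⊤ := by
      rw [h0]; exact order_zero
    rw [hord] at this
    exact ENat.coe_ne_top _ this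
  · rw [hord, ENat.toNat_coe]
    have := r.2
    omega


theorem order_val_coe {f : RootDisk 3 k} (hf : f ≠ 0) :
    (order (RootDisk.val f)) = (((order (RootDisk.val f)).toNat : ℕ) : ℕ∞) := by
  have : order (RootDisk.val f) ≠ ⊤ := by
    rw [Ne, order_eq_top]
    exact fun h => hf (RootDisk.val.injective (by rw [h]; rfl))
  exact (ENat.coe_toNat this).symm

theorem main (M : Submodule (PowerSeries k) (RootDisk 3 k))
    (bM : Module.Basis (Fin 3) (PowerSeries k) M) :
    ∃ g : Module.Basis (Fin 3) (PowerSeries k) M, ∀ i j : Fin 3, i ≠ j →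
      ¬ Nat.ModEq 3 (PowerSeries.order (RootDisk.val (((g i : M) : (RootDisk 3 k)) : RootDisk 3 k))).toNat
        (PowerSeries.order (RootDisk.val (((g j : M) : (RootDisk 3 k)) : RootDisk 3 k))).toNat := by
  classical
  obtain ⟨v, hv⟩ : ∃ v : M → ℕ, v = fun f : M => (order (RootDisk.val (f : RootDisk 3 k))).toNat :=
    ⟨_, rfl⟩
  have hex : ∀ r : Fin 3, ∃ n, ∃ f : M, (f : RootDisk 3 k) ≠ 0 ∧ v f = n ∧ n % 3 = (r : ℕ) := by
    intro r
    obtain ⟨f, hf0, hfr⟩ := exists_class M bM r
    exact ⟨v f, f, hf0, rfl, by rw [hv]; exact hfr⟩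
  have hn : ∀ r, ∃ f : M, (f : RootDisk 3 k) ≠ 0 ∧ v f = Nat.find (hex r)
      ∧ Nat.find (hex r) % 3 = (r : ℕ) := fun r => Nat.find_spec (hex r)
  choose f hf0 hfv hfr using hn
  have hmin : ∀ (r : Fin 3) (h : M), (h : RootDisk 3 k) ≠ 0 → v h % 3 = (r : ℕ) →
      Nat.find (hex r) ≤ v h := fun r h hh hr => Nat.find_min' (hex r) ⟨h, hh, rfl, hr⟩
  have hvord : ∀ h : M, (h : RootDisk 3 k) ≠ 0 →
      order (RootDisk.val (h : RootDisk 3 k)) = ((v h : ℕ) : ℕ∞) := by
    intro h hh
    rw [hv]; exact order_val_coe hh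
  have hunit : IsUnit (bM.det f) := by
    by_contra hnu
    rw [Module.Basis.det_apply] at hnu
    have hcc : constantCoeff (bM.toMatrix f).det = 0 := by
      by_contra hne
      exact hnu (isUnit_iff_constantCoeff.2 (isUnit_iff_ne_zero.2 hne))
    have hdetbar : ((bM.toMatrix f).map (constantCoeff (R := k))).det = 0 := by
      rw [← RingHom.mapMatrix_apply, ← RingHom.map_det]; exact hcc
    obtain ⟨c, hc0, hc⟩ := Matrix.exists_mulVec_eq_zero_iff.2 hdetbar
    -- coefficients
    have hq : ∀ i, X ∣ ∑ r, bM.toMatrix f i r * C (c r) := by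
      intro i
      rw [X_dvd_iff, map_sum]
      have := congrFun hc i
      simp only [Matrix.mulVec, dotProduct, Matrix.map_apply, Pi.zero_apply] at this
      rw [← this]
      refine Finset.sum_congr rfl fun r _ => ?_
      rw [map_mul, constantCoeff_C]
    choose q' hq' using hq
    have hg : (∑ r, C (c r) • f r : M) = (X : PowerSeries k) • (∑ i, q' i • bM i : M) := by
      have h1 : ∀ r, f r = ∑ i, bM.toMatrix f i r • bM i :=
        fun r => (bM.sum_toMatrix_smul_self f r).symm
      calc (∑ r, C (c r) • f r : M) = ∑ r, C (c r) • ∑ i, bM.toMatrix f i r • bM i := by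
            refine Finset.sum_congr rfl fun r _ => ?_
            rw [← h1 r]
        _ = ∑ i, (∑ r, bM.toMatrix f i r * C (c r)) • bM i := by
            simp only [Finset.smul_sum, smul_smul, Finset.sum_smul]
            rw [Finset.sum_comm]
            refine Finset.sum_congr rfl fun i _ => Finset.sum_congr rfl fun r _ => ?_
            rw [mul_comm]
        _ = (X : PowerSeries k) • (∑ i, q' i • bM i : M) := by
            rw [Finset.smul_sum]
            refine Finset.sum_congr rfl fun i _ => ?_
            rw [hq' i, smul_smul]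
    -- valuations of the left side
    have hterm : ∀ r, RootDisk.val ((C (c r) • f r : M) : RootDisk 3 k)
        = C (c r) * RootDisk.val ((f r : M) : RootDisk 3 k) := by
      intro r
      rw [Submodule.coe_smul, val_smul, expand_C]
    have hterm0 : ∀ r, c r ≠ 0 → C (c r) * RootDisk.val ((f r : M) : RootDisk 3 k) ≠ 0 := by
      intro r hr
      refine mul_ne_zero (by simpa using hr) ?_
      intro h
      exact hf0 r (RootDisk.val.injective (by rw [h]; rfl))
    have htermord : ∀ r, c r ≠ 0 →
        (C (c r) * RootDisk.val ((f r : M) : RootDisk 3 k)).order = ((Nat.find (hex r) : ℕ) : ℕ∞) := by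
      intro r hr
      rw [order_mul, order_zero_of_unit (by simpa using hr), zero_add, hvord _ (hf0 r), hfv]
    obtain ⟨r₁, hr₁⟩ : ∃ r, c r ≠ 0 := by
      by_contra h
      push Not at h
      exact hc0 (funext h)
    obtain ⟨r₀, -, hr₀ne, hr₀ord⟩ := order_sum_distinct
      (fun r => C (c r) * RootDisk.val ((f r : M) : RootDisk 3 k)) Finset.univ
      (by
        intro i _ j _ hij hi hj
        have hci : c i ≠ 0 := fun h => hi (by simp [h])
        have hcj : c j ≠ 0 := fun h => hj (by simp [h])
        show (C (c i) * RootDisk.val ((f i : M) : RootDisk 3 k)).order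
          ≠ (C (c j) * RootDisk.val ((f j : M) : RootDisk 3 k)).order
        rw [htermord i hci, htermord j hcj]
        intro h
        have h' : Nat.find (hex i) = Nat.find (hex j) := by exact_mod_cast h
        have hi3 := hfr i
        have hj3 := hfr j
        rw [h'] at hi3
        exact hij (Fin.ext (by omega)))
      ⟨r₁, Finset.mem_univ _, hterm0 r₁ hr₁⟩
    have hcr₀ : c r₀ ≠ 0 := fun h => hr₀ne (by simp [h])
    have hgval : RootDisk.val (((∑ r, C (c r) • f r : M)) : RootDisk 3 k)
        = ∑ r, C (c r) * RootDisk.val ((f r : M) : RootDisk 3 k) := by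
      rw [Submodule.coe_sum, map_sum]
      exact Finset.sum_congr rfl fun r _ => hterm r
    have hgord : (RootDisk.val (((∑ r, C (c r) • f r : M)) : RootDisk 3 k)).order
        = ((Nat.find (hex r₀) : ℕ) : ℕ∞) := by
      rw [hgval, hr₀ord]
      exact htermord r₀ hcr₀
    -- the right side
    set h : M := ∑ i, q' i • bM i with hh
    have hXh : RootDisk.val (((X : PowerSeries k) • h : M) : RootDisk 3 k)
        = X ^ 3 * RootDisk.val ((h : M) : RootDisk 3 k) := by
      rw [Submodule.coe_smul, val_smul, expand_X]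
    rw [hg, hXh] at hgord
    have hh0 : (h : RootDisk 3 k) ≠ 0 := by
      intro h0
      rw [h0] at hgord
      have : RootDisk.val (0 : RootDisk 3 k) = 0 := map_zero _
      rw [this, mul_zero, order_zero] at hgord
      exact ENat.natCast_ne_top _ hgord.symm
    rw [order_mul, order_X_pow, hvord h hh0] at hgord
    have hnat : 3 + v h = Nat.find (hex r₀) := by exact_mod_cast hgord
    have hmod : v h % 3 = (r₀ : ℕ) := by
      have := hfr r₀
      omega
    have := hmin r₀ h hh0 hmod
    omega
  obtain ⟨hli, hsp⟩ := (bM.is_basis_iff_det).2 hunit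
  refine ⟨Module.Basis.mk hli (by rw [hsp]), ?_⟩
  intro i j hij hmod
  rw [Module.Basis.mk_apply, Module.Basis.mk_apply] at hmod
  unfold Nat.ModEq at hmod
  have hi : v (f i) % 3 = (i : ℕ) := by rw [hfv]; exact hfr i
  have hj : v (f j) % 3 = (j : ℕ) := by rw [hfv]; exact hfr j
  rw [hv] at hi hj
  simp only at hi hj
  exact hij (Fin.ext (by omega))

end PRE

/-- Over R = k⟦t⟧ with k an algebraically closed field of characteristic zero, let S' = k⟦x⟧ regarded as
an R-algebra through t ↦ x ^ 3, that is S' = R[x] / (x ^ 3 - t), the smooth totally ramified triple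
cover of the formal disk. If M is an R-submodule of S' which is free of rank 3, then M has an
R-basis consisting of three power series whose x-adic valuations are pairwise distinct modulo 3.
(Items (2) and (3) of the published proposition, on the base change of M to R[s] / (s ^ 3 - t), are
not restated.) -/
theorem result {k : Type u} [Field k] [IsAlgClosed k] [CharZero k]
    (M : Submodule (PowerSeries k) (W4c1hurwitzcpt.RootDisk 3 k))
    (bM : Module.Basis (Fin 3) (PowerSeries k) M) :
    ∃ g : Module.Basis (Fin 3) (PowerSeries k) M, ∀ i j : Fin 3, i ≠ j →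
      ¬ Nat.ModEq 3 (PowerSeries.order (W4c1hurwitzcpt.RootDisk.val (((g i : M) : (W4c1hurwitzcpt.RootDisk 3 k)) : W4c1hurwitzcpt.RootDisk 3 k))).toNat
        (PowerSeries.order (W4c1hurwitzcpt.RootDisk.val (((g j : M) : (W4c1hurwitzcpt.RootDisk 3 k)) : W4c1hurwitzcpt.RootDisk 3 k))).toNat := by
  exact main M bM

end Groth.Agent.S13884
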