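import Groth.Statements.S13885
import Mathlib
import Groth.Agent.S13884
-- import your own Groth.Agent.* helpers here

set_option autoImplicit false
universe u
open Crimp

namespace Groth.Agent.S13885

section PRE
open W4c1hurwitzcpt PowerSeries
open Groth.Agent.S13884 (order_sum_distinct)

variable {k : Type u} [Field k]

theorem h2 : (2 : ℕ) ≠ 0 := by norm_num

theorem val_smul (a : PowerSeries k) (f : RootDisk 2 k) :
    RootDisk.val (a • f) = PowerSeries.expand 2 h2 a * RootDisk.val f := rfl

theorem decomp2 (f : PowerSeries k) :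
    ∃ c : Fin 2 → PowerSeries k, f = ∑ j : Fin 2, expand 2 h2 (c j) * X ^ (j : ℕ) := by
  refine ⟨fun j => PowerSeries.mk fun n => coeff (2 * n + j) f, ?_⟩
  ext m
  rw [map_sum]
  have key : ∀ j : Fin 2, coeff m (expand 2 h2 (PowerSeries.mk fun n => coeff (2 * n + j) f)
      * X ^ (j : ℕ)) = if m % 2 = (j : ℕ) then coeff m f else 0 := by
    intro j
    have hj := j.2
    rw [coeff_mul_X_pow', coeff_expand]
    by_cases h1 : (j : ℕ) ≤ m
    · by_cases h2' : 2 ∣ m - (j : ℕ)
      · have h3' : m % 2 = (j : ℕ) := by omega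
        have h4 : 2 * ((m - (j : ℕ)) / 2) + (j : ℕ) = m := by omega
        rw [if_pos h1, if_pos h2', if_pos h3', coeff_mk, h4]
      · have h3' : m % 2 ≠ (j : ℕ) := by omega
        rw [if_pos h1, if_neg h2', if_neg h3']
    · have h3' : m % 2 ≠ (j : ℕ) := by omega
      rw [if_neg h1, if_neg h3']
  rw [Finset.sum_congr rfl fun j _ => key j]
  rw [Fin.sum_univ_two]
  have hm : m % 2 = 0 ∨ m % 2 = 1 := by omega
  rcases hm with h | h <;> simp [h]

/-- generic adjugate lemma -/
theorem exists_smul_mem {R S : Type*} [CommRing R] [IsDomain R] [AddCommGroup S] [Module R S]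
    {n : ℕ} (E : Fin n → S) (hE : ∀ s : S, ∃ c : Fin n → R, s = ∑ j, c j • E j)
    (M : Submodule R S) (bM : Module.Basis (Fin n) R M) :
    ∃ d : R, d ≠ 0 ∧ ∀ j, d • E j ∈ M := by
  classical
  choose C hC using fun i => hE ((bM i : M) : S)
  let Cm : Matrix (Fin n) (Fin n) R := Matrix.of C
  have hcomb : ∀ a : Fin n → R, (((∑ i, a i • bM i : M)) : S)
      = ∑ j, (∑ i, a i * Cm i j) • E j := by
    intro a
    rw [Submodule.coe_sum]
    simp only [Submodule.coe_smul]
    have : ∀ i, a i • ((bM i : M) : S) = ∑ j, (a i * Cm i j) • E j := by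
      intro i
      rw [hC i, Finset.smul_sum]
      refine Finset.sum_congr rfl fun j _ => ?_
      rw [smul_smul]; rfl
    rw [Finset.sum_congr rfl fun i _ => this i, Finset.sum_comm]
    refine Finset.sum_congr rfl fun j _ => ?_
    rw [Finset.sum_smul]
  have hdet : Cm.det ≠ 0 := by
    intro h0
    obtain ⟨a, ha, hav⟩ := Matrix.exists_vecMul_eq_zero_iff.2 h0
    have h1 := hcomb a
    have h2' : ∀ j, ∑ i, a i * Cm i j = 0 := by
      intro j
      have := congrFun hav j
      simpa [Matrix.vecMul, dotProduct] using this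
    simp only [h2', zero_smul, Finset.sum_const_zero] at h1
    have h3' : (∑ i, a i • bM i : M) = 0 := Subtype.ext h1
    exact ha (funext (Fintype.linearIndependent_iff.1 bM.linearIndependent a h3'))
  refine ⟨Cm.det, hdet, fun j => ?_⟩
  have h1 := hcomb (fun i => Cm.adjugate j i)
  have h2' : ∀ l, ∑ i, Cm.adjugate j i * Cm i l = if j = l then Cm.det else 0 := by
    intro l
    have := congrFun (congrFun (Matrix.adjugate_mul Cm) j) l
    simpa [Matrix.mul_apply, Matrix.smul_apply, Matrix.one_apply] using this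
  have hsum : ∑ l, (if j = l then Cm.det else 0) • E l = Cm.det • E j := by
    rw [Finset.sum_eq_single j (by intro l _ hl; simp [hl.symm]) (by simp), if_pos rfl]
  simp only [h2'] at h1
  rw [hsum] at h1
  rw [← h1]
  exact Submodule.coe_mem _


theorem order_val_coe {f : RootDisk 2 k} (hf : f ≠ 0) :
    (order (RootDisk.val f)) = (((order (RootDisk.val f)).toNat : ℕ) : ℕ∞) := by
  have : order (RootDisk.val f) ≠ ⊤ := by
    rw [Ne, order_eq_top]
    exact fun h => hf (RootDisk.val.injective (by rw [h]; rfl))
  exact (ENat.coe_toNat this).symm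

/-- the three generators of `S'` -/
noncomputable def EE : Fin 3 → (RootDisk 2 k × PowerSeries k) :=
  ![((1 : RootDisk 2 k), 0), ((RootDisk.val (p := 2) (k := k)).symm X, 0), (0, 1)]

theorem EE_span (s : RootDisk 2 k × PowerSeries k) :
    ∃ c : Fin 3 → PowerSeries k, s = ∑ j, c j • (EE j : RootDisk 2 k × PowerSeries k) := by
  obtain ⟨c, hc⟩ := decomp2 (RootDisk.val s.1)
  refine ⟨![c 0, c 1, s.2], ?_⟩
  rw [Fin.sum_univ_three]
  simp only [EE, Matrix.cons_val_zero, Matrix.cons_val_one, Matrix.cons_val_two, Matrix.head_cons,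
    Matrix.tail_cons]
  apply Prod.ext
  · apply RootDisk.val.injective
    simp only [Prod.fst_add, Prod.smul_fst, map_add, val_smul, smul_zero, add_zero]
    rw [hc, Fin.sum_univ_two]
    simp
  · simp


theorem main (M : Submodule (PowerSeries k) (RootDisk 2 k × PowerSeries k))
    (h1 : (1 : (RootDisk 2 k × PowerSeries k)) ∈ M)
    (bM : Module.Basis (Fin 3) (PowerSeries k) M) :
    ∃ f₁ f₂ : RootDisk 2 k,
      ¬ Nat.ModEq 2 (PowerSeries.order (RootDisk.val (f₁ : RootDisk 2 k))).toNat
        (PowerSeries.order (RootDisk.val (f₂ : RootDisk 2 k))).toNat ∧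
      M = Submodule.span (PowerSeries k)
        {(1 : (RootDisk 2 k × PowerSeries k)), (f₁, 0), (f₂, 0)} := by
  classical
  obtain ⟨v, hv⟩ : ∃ v : RootDisk 2 k → ℕ,
      v = fun f : RootDisk 2 k => (order (RootDisk.val f)).toNat := ⟨_, rfl⟩
  obtain ⟨d, hd0, hdE⟩ := exists_smul_mem (EE (k := k)) EE_span M bM
  have hvord : ∀ h : RootDisk 2 k, h ≠ 0 → order (RootDisk.val h) = ((v h : ℕ) : ℕ∞) := by
    intro h hh
    rw [hv]; exact order_val_coe hh
  have hdord : d.order ≠ ⊤ := by rwa [Ne, order_eq_top]
  obtain ⟨nd, hnd⟩ := ENat.ne_top_iff_exists.1 hdord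
  have hex : ∀ r : Fin 2, ∃ n, ∃ f : RootDisk 2 k,
      ((f, (0 : PowerSeries k)) : RootDisk 2 k × PowerSeries k) ∈ M ∧ f ≠ 0 ∧ v f = n
        ∧ n % 2 = (r : ℕ) := by
    intro r
    have hmem : ((d • (RootDisk.val (p := 2) (k := k)).symm (X ^ (r : ℕ)), (0 : PowerSeries k)) :
        RootDisk 2 k × PowerSeries k) ∈ M := by
      fin_cases r
      · have := hdE 0
        simpa [EE] using this
      · have := hdE 1
        simpa [EE] using this
    have hvalf : RootDisk.val (d • (RootDisk.val (p := 2) (k := k)).symm (X ^ (r : ℕ)))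
        = expand 2 h2 d * X ^ (r : ℕ) := by
      rw [val_smul]; rfl
    have hordf : (RootDisk.val (d • (RootDisk.val (p := 2) (k := k)).symm (X ^ (r : ℕ)))).order
        = ((2 * nd + (r : ℕ) : ℕ) : ℕ∞) := by
      rw [hvalf, order_mul, order_expand, order_X_pow, ← hnd, nsmul_eq_mul]
      push_cast; rfl
    have hne : d • (RootDisk.val (p := 2) (k := k)).symm (X ^ (r : ℕ)) ≠ 0 := by
      intro h0
      rw [h0] at hordf
      have : RootDisk.val (0 : RootDisk 2 k) = 0 := map_zero _
      rw [this, order_zero] at hordf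
      exact ENat.natCast_ne_top _ hordf.symm
    refine ⟨_, _, hmem, hne, rfl, ?_⟩
    rw [hv]
    show (RootDisk.val (d • (RootDisk.val (p := 2) (k := k)).symm (X ^ (r : ℕ)))).order.toNat % 2
      = (r : ℕ)
    rw [hordf, ENat.toNat_natCast]
    have := r.2
    omega
  have hn : ∀ r, ∃ f : RootDisk 2 k,
      ((f, (0 : PowerSeries k)) : RootDisk 2 k × PowerSeries k) ∈ M ∧ f ≠ 0 ∧
      v f = Nat.find (hex r) ∧ Nat.find (hex r) % 2 = (r : ℕ) := fun r => Nat.find_spec (hex r)
  choose f hfM hf0 hfv hfr using hn
  have hmin : ∀ (r : Fin 2) (h : RootDisk 2 k),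
      ((h, (0 : PowerSeries k)) : RootDisk 2 k × PowerSeries k) ∈ M → h ≠ 0 →
      v h % 2 = (r : ℕ) → Nat.find (hex r) ≤ v h :=
    fun r h hhM hh hr => Nat.find_min' (hex r) ⟨h, hhM, hh, rfl, hr⟩
  -- the candidate basis
  let u : Fin 3 → M := ![⟨1, h1⟩, ⟨(f 0, 0), hfM 0⟩, ⟨(f 1, 0), hfM 1⟩]
  have hunit : IsUnit (bM.det u) := by
    by_contra hnu
    rw [Module.Basis.det_apply] at hnu
    have hcc : constantCoeff (bM.toMatrix u).det = 0 := by
      by_contra hne
      exact hnu (isUnit_iff_constantCoeff.2 (isUnit_iff_ne_zero.2 hne))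
    have hdetbar : ((bM.toMatrix u).map (constantCoeff (R := k))).det = 0 := by
      rw [← RingHom.mapMatrix_apply, ← RingHom.map_det]; exact hcc
    obtain ⟨c, hc0, hc⟩ := Matrix.exists_mulVec_eq_zero_iff.2 hdetbar
    have hq : ∀ i, X ∣ ∑ r, bM.toMatrix u i r * C (c r) := by
      intro i
      rw [X_dvd_iff, map_sum]
      have := congrFun hc i
      simp only [Matrix.mulVec, dotProduct, Matrix.map_apply, Pi.zero_apply] at this
      rw [← this]
      refine Finset.sum_congr rfl fun r _ => ?_
      rw [map_mul, constantCoeff_C]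
    choose q' hq' using hq
    have hg : (∑ r, C (c r) • u r : M) = (X : PowerSeries k) • (∑ i, q' i • bM i : M) := by
      have h1' : ∀ r, u r = ∑ i, bM.toMatrix u i r • bM i :=
        fun r => (bM.sum_toMatrix_smul_self u r).symm
      calc (∑ r, C (c r) • u r : M) = ∑ r, C (c r) • ∑ i, bM.toMatrix u i r • bM i := by
            refine Finset.sum_congr rfl fun r _ => ?_
            rw [← h1' r]
        _ = ∑ i, (∑ r, bM.toMatrix u i r * C (c r)) • bM i := by
            simp only [Finset.smul_sum, smul_smul, Finset.sum_smul]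
            rw [Finset.sum_comm]
            refine Finset.sum_congr rfl fun i _ => Finset.sum_congr rfl fun r _ => ?_
            rw [mul_comm]
        _ = (X : PowerSeries k) • (∑ i, q' i • bM i : M) := by
            rw [Finset.smul_sum]
            refine Finset.sum_congr rfl fun i _ => ?_
            rw [hq' i, smul_smul]
    set h : M := ∑ i, q' i • bM i with hh
    -- coordinates
    have hgS : ((∑ r, C (c r) • u r : M) : RootDisk 2 k × PowerSeries k)
        = (C (c 0) • (1 : RootDisk 2 k) + C (c 1) • f 0 + C (c 2) • f 1, C (c 0)) := by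
      rw [Submodule.coe_sum, Fin.sum_univ_three]
      simp only [Submodule.coe_smul, u, Matrix.cons_val_zero, Matrix.cons_val_one,
        Matrix.cons_val_two, Matrix.head_cons, Matrix.tail_cons]
      apply Prod.ext
      · simp
      · simp
    have hXh : (((X : PowerSeries k) • h : M) : RootDisk 2 k × PowerSeries k)
        = ((X : PowerSeries k) • (h : RootDisk 2 k × PowerSeries k).1,
            X * (h : RootDisk 2 k × PowerSeries k).2) := by
      rw [Submodule.coe_smul]; rfl
    rw [hg, hXh] at hgS
    have hsnd := congrArg Prod.snd hgS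
    have hfst := congrArg Prod.fst hgS
    simp only at hsnd hfst
    have hc0' : c 0 = 0 := by
      have := congrArg (constantCoeff (R := k)) hsnd
      simpa using this.symm
    have hh2 : (h : RootDisk 2 k × PowerSeries k).2 = 0 := by
      rw [hc0', map_zero] at hsnd
      rcases mul_eq_zero.1 hsnd with hX | h0
      · exact absurd hX X_ne_zero
      · exact h0
    have hhM : (((h : RootDisk 2 k × PowerSeries k).1, (0 : PowerSeries k)) :
        RootDisk 2 k × PowerSeries k) ∈ M := by
      have := h.2
      rw [← hh2]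
      exact this
    -- first coordinate in power series
    have hfst' : X ^ 2 * RootDisk.val (h : RootDisk 2 k × PowerSeries k).1
        = ∑ r : Fin 2, C (c r.succ) * RootDisk.val (f r) := by
      have := congrArg (RootDisk.val (p := 2) (k := k)) hfst
      rw [val_smul, expand_X, map_add, map_add, val_smul, val_smul, val_smul, expand_C, expand_C,
        expand_C, hc0', map_zero, zero_mul, zero_add] at this
      rw [this, Fin.sum_univ_two]
      rfl
    have hterm0 : ∀ r : Fin 2, c r.succ ≠ 0 → C (c r.succ) * RootDisk.val (f r) ≠ 0 := by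
      intro r hr
      refine mul_ne_zero (by simpa using hr) ?_
      intro h'
      exact hf0 r (RootDisk.val.injective (by rw [h']; rfl))
    have htermord : ∀ r : Fin 2, c r.succ ≠ 0 →
        (C (c r.succ) * RootDisk.val (f r)).order = ((Nat.find (hex r) : ℕ) : ℕ∞) := by
      intro r hr
      rw [order_mul, order_zero_of_unit (by simpa using hr), zero_add, hvord _ (hf0 r), hfv]
    obtain ⟨r₁, hr₁⟩ : ∃ r : Fin 2, c r.succ ≠ 0 := by
      by_contra hcon
      push Not at hcon
      apply hc0
      funext i
      refine Fin.cases ?_ (fun j => ?_) i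
      · exact hc0'
      · exact hcon j
    obtain ⟨r₀, -, hr₀ne, hr₀ord⟩ := order_sum_distinct
      (fun r : Fin 2 => C (c r.succ) * RootDisk.val (f r)) Finset.univ
      (by
        intro i _ j _ hij hi hj
        have hci : c i.succ ≠ 0 := fun h' => hi (by simp [h'])
        have hcj : c j.succ ≠ 0 := fun h' => hj (by simp [h'])
        show (C (c i.succ) * RootDisk.val (f i)).order ≠ (C (c j.succ) * RootDisk.val (f j)).order
        rw [htermord i hci, htermord j hcj]
        intro h'
        have h'' : Nat.find (hex i) = Nat.find (hex j) := by exact_mod_cast h'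
        have hi3 := hfr i
        have hj3 := hfr j
        rw [h''] at hi3
        exact hij (Fin.ext (by omega)))
      ⟨r₁, Finset.mem_univ _, hterm0 r₁ hr₁⟩
    have hcr₀ : c r₀.succ ≠ 0 := fun h' => hr₀ne (by simp [h'])
    have hgord : (X ^ 2 * RootDisk.val (h : RootDisk 2 k × PowerSeries k).1).order
        = ((Nat.find (hex r₀) : ℕ) : ℕ∞) := by
      rw [hfst', hr₀ord]
      exact htermord r₀ hcr₀
    have hh0 : (h : RootDisk 2 k × PowerSeries k).1 ≠ 0 := by
      intro h0
      rw [h0] at hgord
      have : RootDisk.val (0 : RootDisk 2 k) = 0 := map_zero _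
      rw [this, mul_zero, order_zero] at hgord
      exact ENat.natCast_ne_top _ hgord.symm
    rw [order_mul, order_X_pow, hvord _ hh0] at hgord
    have hnat : 2 + v (h : RootDisk 2 k × PowerSeries k).1 = Nat.find (hex r₀) := by
      exact_mod_cast hgord
    have hmod : v (h : RootDisk 2 k × PowerSeries k).1 % 2 = (r₀ : ℕ) := by
      have := hfr r₀
      omega
    have := hmin r₀ _ hhM hh0 hmod
    omega
  obtain ⟨hli, hsp⟩ := (bM.is_basis_iff_det).2 hunit
  refine ⟨f 0, f 1, ?_, ?_⟩
  · intro hmod
    unfold Nat.ModEq at hmod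
    have hi : v (f 0) % 2 = 0 := by rw [hfv]; exact hfr 0
    have hj : v (f 1) % 2 = 1 := by rw [hfv]; exact hfr 1
    rw [hv] at hi hj
    simp only at hi hj
    omega
  · apply le_antisymm
    · have hM : M = Submodule.map M.subtype ⊤ := by simp
      rw [hM, ← hsp, Submodule.map_span_le]
      rintro _ ⟨i, rfl⟩
      apply Submodule.subset_span
      fin_cases i
      · simp [u]
      · simp [u]
      · simp [u]
    · rw [Submodule.span_le]
      intro x hx
      simp only [Set.mem_insert_iff, Set.mem_singleton_iff] at hx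
      rcases hx with rfl | rfl | rfl
      · exact h1
      · exact hfM 0
      · exact hfM 1

end PRE

/-- Over R = k⟦t⟧ with k an algebraically closed field of characteristic zero, let S' = k⟦x⟧ × R, where
k⟦x⟧ is regarded as an R-algebra through t ↦ x ^ 2, that is S' = R[x] / (x ^ 2 - t) ⊕ R, the smooth
simply ramified triple cover of the formal disk, with R embedded diagonally. If M is an R-submodule
of S' containing 1 which is free of rank 3, then M is spanned by 1, (f₁, 0) and (f₂, 0) for some
power series f₁, f₂ whose x-adic valuations are distinct modulo 2. (Items (2) and (3) of the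
published proposition, on the base change of M to R[s] / (s ^ 2 - t), are not restated.) -/
theorem result {k : Type u} [Field k] [IsAlgClosed k] [CharZero k]
    (M : Submodule (PowerSeries k) (W4c1hurwitzcpt.RootDisk 2 k × PowerSeries k))
    (h1 : (1 : (W4c1hurwitzcpt.RootDisk 2 k × PowerSeries k)) ∈ M)
    (bM : Module.Basis (Fin 3) (PowerSeries k) M) :
    ∃ f₁ f₂ : W4c1hurwitzcpt.RootDisk 2 k,
      ¬ Nat.ModEq 2 (PowerSeries.order (W4c1hurwitzcpt.RootDisk.val (f₁ : W4c1hurwitzcpt.RootDisk 2 k))).toNat (PowerSeries.order (W4c1hurwitzcpt.RootDisk.val (f₂ : W4c1hurwitzcpt.RootDisk 2 k))).toNat ∧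
      M = Submodule.span (PowerSeries k) {(1 : (W4c1hurwitzcpt.RootDisk 2 k × PowerSeries k)), (f₁, 0), (f₂, 0)} := by
  exact main M h1 bM

end Groth.Agent.S13885
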