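import Groth.Statements.S13888
-- import your own Groth.Agent.* helpers here

set_option autoImplicit false
universe u
open CategoryTheory CategoryTheory.Limits MonoidalCategory
attribute [local instance] HasDerivedCategory.standard
open DTen

namespace Groth.Agent.S13888

section Aux
variable {A : Type u} [CommRing A] [DTen.HasLTen A] [DTen.HasLTen₃ A]
  [DTen.IsSymMonoidal A] [DTen.HasRHom A]

/-- The associativity isomorphism as an isomorphism of functors of the triple. -/
noncomputable def assocIso : DTen.LTenL A ≅ DTen.LTenR A :=
  asIso (DTen.assocL A) ≪≫ (asIso (DTen.assocR A)).symm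

omit [DTen.HasRHom A] in
theorem associator_hom_eq (a b c : Dual.D A) :
    (DTen.associator a b c).hom = (assocIso (A := A)).hom.app (a, (b, c)) := by
  rfl

/-- The associativity isomorphism as a natural transformation in the first variable. -/
noncomputable def assocNat (K L : Dual.D A) :
    DTen.tensorRightD A K ⋙ DTen.tensorRightD A L ⟶
      DTen.tensorRightD A ((DTen.LTen₂ A).obj (K, L)) where
  app X := (DTen.associator X K L).hom
  naturality X Y f := by
    have h := (assocIso (A := A)).hom.naturality
      (Prod.mkHom f (Prod.mkHom (𝟙 K) (𝟙 L)) : (X, (K, L)) ⟶ (Y, (K, L)))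
    rw [associator_hom_eq, associator_hom_eq]
    dsimp at h ⊢
    have h2 : (DTen.LTenL A).map (Prod.mkHom f (Prod.mkHom (𝟙 K) (𝟙 L))) =
        (DTen.LTen₂ A).map (Prod.mkHom ((DTen.LTen₂ A).map (Prod.mkHom f (𝟙 K))) (𝟙 L)) := rfl
    have h3 : (DTen.LTen₂ A).map (Prod.mkHom (𝟙 K) (𝟙 L)) = 𝟙 ((DTen.LTen₂ A).obj (K, L)) := by
      rw [← prod_id, CategoryTheory.Functor.map_id]
    rw [h2, h3] at h
    exact h

end Aux

/-- For a commutative ring `A` (assuming the derived tensor product on `D(A)` with its triple version
exists, that its symmetry, unit and associativity maps are isomorphisms, and that every `- ⊗^L L`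
has a right adjoint `RHom(L, -)`) and objects `K`, `L`, `M` of `D(A)`, the canonical morphism
`RHom(K ⊗^L L, M) ⟶ RHom(K, RHom(L, M))`, namely the double adjunct of the associativity isomorphism
followed by evaluation at `K ⊗^L L`, is an isomorphism. (Functoriality in the three objects is built
into the construction; the identification on `H^0` with the hom bijection of the adjunction is not
part of this row.) -/
theorem result (A : Type u) [CommRing A] [DTen.HasLTen A] [DTen.HasLTen₃ A]
    [DTen.IsSymMonoidal A] [DTen.HasRHom A] (K L M : Dual.D A) :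
    IsIso (DTen.curryHom K L M) := by
  have hiso : ∀ X, IsIso ((assocNat K L).app X) := fun X => by
    dsimp [assocNat]
    infer_instance
  have : IsIso (assocNat K L) := NatIso.isIso_of_isIso_app _
  let adj₁ := DTen.rhomAdj A ((DTen.LTen₂ A).obj (K, L))
  let adj₂ := (DTen.rhomAdj A K).comp (DTen.rhomAdj A L)
  have hθ : IsIso ((conjugateEquiv adj₁ adj₂ (assocNat K L)).app M) := inferInstance
  have heq : (conjugateEquiv adj₁ adj₂ (assocNat K L)).app M = DTen.curryHom K L M := by
    apply (adj₂.homEquiv _ _).symm.injective
    rw [Adjunction.homEquiv_counit, Adjunction.homEquiv_counit]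
    rw [conjugateEquiv_counit]
    have h := DTen.curryHom_fac K L M
    have hc : adj₂.counit.app M =
        (DTen.tensorRightD A L).map ((DTen.rhomAdj A K).counit.app ((DTen.RHomR A L).obj M)) ≫
          (DTen.rhomAdj A L).counit.app M := Adjunction.comp_counit_app _ _ _
    rw [hc, Functor.comp_map, ← Category.assoc, ← Functor.map_comp]
    exact h.symm
  rw [← heq]
  exact hθ

end Groth.Agent.S13888
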