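import Groth.Statements.S1389
import Mathlib.AlgebraicGeometry.Morphisms.Separated
import Mathlib.AlgebraicGeometry.Morphisms.FormallyUnramified
import Mathlib.CategoryTheory.Limits.Shapes.Pullback.Equalizer
-- import your own Groth.Agent.* helpers here

set_option autoImplicit false
universe u
open FlatMor

namespace Groth.Agent.S1389

open AlgebraicGeometry CategoryTheory Limits in
/-- Let (U, u) and (U', u') be étale neighbourhoods of a point s of S and h₁, h₂ two S-morphisms U → U'
sending u to u' which induce the same map of residue fields κ(u') → κ(u). Then there is an étale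
neighbourhood (U'', u'') of s with an S-morphism h : U'' → U sending u'' to u and with h followed by
h₁ equal to h followed by h₂. -/
theorem result {S U U' : Scheme.{u}} (s : S) (g : U ⟶ S) (g' : U' ⟶ S) [Etale g] [Etale g'] (u : U) (u' : U')
    (hu : g u = s) (hu' : g' u' = s) (h₁ h₂ : U ⟶ U') (w₁ : h₁ ≫ g' = g) (w₂ : h₂ ≫ g' = g) (e₁ : h₁ u = u') (e₂ : h₂ u = u')
    (hres : (U'.residueFieldCongr e₁).inv ≫ h₁.residueFieldMap u = (U'.residueFieldCongr e₂).inv ≫ h₂.residueFieldMap u) :
    ∃ (U'' : Scheme.{u}) (g'' : U'' ⟶ S) (u'' : U'') (h : U'' ⟶ U), Etale g'' ∧ g'' u'' = s ∧ h ≫ g = g'' ∧ h u'' = u ∧ h ≫ h₁ = h ≫ h₂ := by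
  subst e₁
  -- the two composites Spec κ(u) → U' agree
  have key : U.fromSpecResidueField u ≫ h₁ = U.fromSpecResidueField u ≫ h₂ := by
    rw [← Scheme.Hom.SpecMap_residueFieldMap_fromSpecResidueField,
      ← Scheme.Hom.SpecMap_residueFieldMap_fromSpecResidueField]
    have h1 : h₁.residueFieldMap u = (U'.residueFieldCongr e₂).inv ≫ h₂.residueFieldMap u := by
      simpa using hres
    rw [h1, Spec.map_comp, Category.assoc]
    congr 1
    rw [Scheme.residueFieldCongr_inv, Scheme.residueFieldCongr_fromSpecResidueField]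
  -- work in Over S
  let X' : Over S := Over.mk g
  let Y' : Over S := Over.mk g'
  let f₁ : X' ⟶ Y' := Over.homMk h₁ w₁
  let f₂ : X' ⟶ Y' := Over.homMk h₂ w₂
  have hopen : IsOpenImmersion (equalizer.ι f₁ f₂).left := by
    refine MorphismProperty.of_isPullback
      ((Limits.isPullback_equalizer_prod f₁ f₂).map (Over.forget _)).flip ?_
    have hd : IsOpenImmersion (pullback.diagonal Y'.hom) := by
      change IsOpenImmersion (pullback.diagonal g')
      infer_instance
    change IsOpenImmersion (prod.lift (𝟙 Y') (𝟙 Y')).left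
    have e : (prod.lift (𝟙 Y') (𝟙 Y')).left ≫ (Over.prodLeftIsoPullback Y' Y').hom =
        pullback.diagonal Y'.hom := by
      ext1
      · rw [Category.assoc, Over.prodLeftIsoPullback_hom_fst, pullback.diagonal_fst]
        rw [← Over.comp_left, prod.lift_fst]
        rfl
      · rw [Category.assoc, Over.prodLeftIsoPullback_hom_snd, pullback.diagonal_snd]
        rw [← Over.comp_left, prod.lift_snd]
        rfl
    have e' : (prod.lift (𝟙 Y') (𝟙 Y')).left =
        pullback.diagonal Y'.hom ≫ (Over.prodLeftIsoPullback Y' Y').inv :=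
      (Iso.eq_comp_inv _).2 e
    rw [e']
    exact IsOpenImmersion.comp _ _
  let T : Over S := Over.mk (U.fromSpecResidueField u ≫ g)
  let t : T ⟶ X' := Over.homMk (U.fromSpecResidueField u) rfl
  have ht : t ≫ f₁ = t ≫ f₂ := by
    ext1
    exact key
  let l : T ⟶ equalizer f₁ f₂ := equalizer.lift t ht
  have hl : l.left ≫ (equalizer.ι f₁ f₂).left = U.fromSpecResidueField u := by
    rw [← Over.comp_left, equalizer.lift_ι]
    rfl
  refine ⟨(equalizer f₁ f₂).left, (equalizer f₁ f₂).hom, l.left (default : ↥(Spec (U.residueField u))),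
    (equalizer.ι f₁ f₂).left, ?_, ?_, ?_, ?_, ?_⟩
  · have : (equalizer f₁ f₂).hom = (equalizer.ι f₁ f₂).left ≫ g := (Over.w (equalizer.ι f₁ f₂)).symm
    rw [this]
    infer_instance
  · have : (equalizer f₁ f₂).hom = (equalizer.ι f₁ f₂).left ≫ g := (Over.w (equalizer.ι f₁ f₂)).symm
    rw [this, Scheme.Hom.comp_apply, ← Scheme.Hom.comp_apply l.left, hl,
      Scheme.fromSpecResidueField_apply, hu]
  · exact Over.w (equalizer.ι f₁ f₂)
  · rw [← Scheme.Hom.comp_apply, hl, Scheme.fromSpecResidueField_apply]
  · have := congrArg (fun φ => φ.left) (equalizer.condition f₁ f₂)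
    exact this

end Groth.Agent.S1389
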