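import Groth.Statements.S1390
import Groth.Agent.Lib.Helper35.StdEtaleChart
import Groth.Agent.Lib.Helper9.SplitCover

set_option autoImplicit false
universe u
open FlatMor

namespace Groth.Agent.S1390

section Helpers
set_option linter.style.haveILetI false
set_option maxHeartbeats 400000
open AlgebraicGeometry CategoryTheory Limits Groth.Agent.Lib.Helper35.StdEtaleChart
  Groth.Agent.Lib.Helper9.SplitCover

theorem aux {U S : Scheme.{u}} (e : U ⟶ S) [Etale e] (u : U) (s : S) (hu : e u = s) :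
    ∃ (V : S.Opens) (T : Scheme.{u}) (π : T ⟶ (V : Scheme.{u})), s ∈ V ∧ IsAffineOpen V ∧ Surjective π ∧ IsFinite π ∧ Flat π ∧ LocallyOfFinitePresentation π ∧
      ∀ t : T, V.ι (π t) = s → ∃ (W : T.Opens) (h : (W : Scheme.{u}) ⟶ U), t ∈ W ∧ h ≫ e = W.ι ≫ π ≫ V.ι ∧ ∀ ht : t ∈ W, h ⟨t, ht⟩ = u := by
  subst hu
  obtain ⟨_, ⟨V, hV, rfl⟩, hsV, -⟩ :=
    S.isBasis_affineOpens.exists_subset_of_mem_open (Set.mem_univ (e u)) isOpen_univ
  obtain ⟨V, rfl⟩ : ∃ V' : S.Opens, V' = V := ⟨V, rfl⟩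
  have hV : IsAffineOpen V := hV
  have hφ : ∃ W : U.Opens, u ∈ W ∧ Etale (W.ι ≫ e) := ⟨⊤, trivial, inferInstance⟩
  obtain ⟨U₀, hU₀, huU₀, e₀, hstd⟩ := exists_isStandardEtale_chart e u V hV hsV hφ
  letI : Algebra Γ(S, V) Γ(U, U₀) := (e.appLE V U₀ e₀).hom.toAlgebra
  haveI : Algebra.IsStandardEtale Γ(S, V) Γ(U, U₀) := hstd
  obtain ⟨P⟩ := (inferInstance :
    Algebra.IsStandardEtale Γ(S, V) Γ(U, U₀)).nonempty_standardEtalePresentation
  obtain ⟨S', _, _, hfin, hfp, hff, α, hα⟩ :=
    exists_splitting P.f.natDegree Γ(S, V) P.f P.monic_f rfl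
  let T : Scheme.{u} := Spec (.of S')
  let π₀ : T ⟶ Spec Γ(S, V) := Spec.map (CommRingCat.ofHom (algebraMap Γ(S, V) S'))
  let π : T ⟶ (V : Scheme.{u}) := π₀ ≫ hV.isoSpec.inv
  have hπι : π ≫ V.ι = π₀ ≫ hV.fromSpec := by
    simp only [π, Category.assoc]
    rfl
  have h_surj : Surjective π := by
    haveI : Surjective π₀ := ⟨PrimeSpectrum.comap_surjective_of_faithfullyFlat⟩
    infer_instance
  have h_fin : IsFinite π := by
    haveI : IsFinite π₀ := by
      rw [IsFinite.SpecMap_iff]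
      exact RingHom.finite_algebraMap.mpr hfin
    infer_instance
  have h_flat : Flat π := by
    haveI : Flat π₀ := by
      rw [HasRingHomProperty.Spec_iff (P := @Flat)]
      exact RingHom.flat_algebraMap_iff.mpr inferInstance
    infer_instance
  have h_fp : LocallyOfFinitePresentation π := by
    haveI : LocallyOfFinitePresentation π₀ := by
      rw [HasRingHomProperty.Spec_iff (P := @LocallyOfFinitePresentation)]
      exact RingHom.finitePresentation_algebraMap.mpr hfp
    infer_instance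
  refine ⟨V, T, π, hsV, hV, h_surj, h_fin, h_flat, h_fp, ?_⟩
  intro t ht
  -- primes
  let q' : Ideal S' := PrimeSpectrum.asIdeal (R := S') t
  haveI : q'.IsPrime := PrimeSpectrum.isPrime (R := S') t
  let qpt : ↥(Spec Γ(U, U₀)) := hU₀.primeIdealOf ⟨u, huU₀⟩
  let q : Ideal Γ(U, U₀) := PrimeSpectrum.asIdeal (R := Γ(U, U₀)) qpt
  haveI : q.IsPrime := PrimeSpectrum.isPrime (R := Γ(U, U₀)) qpt
  have hqu : hU₀.fromSpec qpt = u := hU₀.fromSpec_primeIdealOf ⟨u, huU₀⟩
  have hqq' : q'.under Γ(S, V) = q.under Γ(S, V) := by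
    have h1 : hV.fromSpec (π₀ t) = e u := by
      rw [← Scheme.Hom.comp_apply, ← hπι]
      exact ht
    have h2 : hV.fromSpec (Spec.map (e.appLE V U₀ e₀) qpt) = e u := by
      rw [← Scheme.Hom.comp_apply, hV.SpecMap_appLE_fromSpec e hU₀ e₀, Scheme.Hom.comp_apply, hqu]
    have h3 : π₀ t = Spec.map (e.appLE V U₀ e₀) qpt :=
      hV.fromSpec.isOpenEmbedding.injective (h1.trans h2.symm)
    exact congrArg PrimeSpectrum.asIdeal h3
  obtain ⟨g', hg', φ', hφ'⟩ := exists_cover P α hα q q' hqq'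
  let ιg : Spec (.of (Localization.Away g')) ⟶ T :=
    Spec.map (CommRingCat.ofHom (algebraMap S' (Localization.Away g')))
  let W : T.Opens := ιg.opensRange
  let h : (W : Scheme.{u}) ⟶ U :=
    ιg.isoOpensRange.inv ≫ Spec.map (CommRingCat.ofHom φ'.toRingHom) ≫ hU₀.fromSpec
  have hdisj : Disjoint (Submonoid.powers g' : Set S') (q' : Set S') :=
    (Ideal.disjoint_powers_iff_notMem_of_isPrime _).mpr hg'
  haveI hq'p : (q'.map (algebraMap S' (Localization.Away g'))).IsPrime :=
    IsLocalization.isPrime_of_isPrime_disjoint (Submonoid.powers g') _ q' inferInstance hdisj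
  let t' : Spec (.of (Localization.Away g')) := ⟨q'.map (algebraMap S' (Localization.Away g')), hq'p⟩
  have ht' : ιg t' = t := by
    apply PrimeSpectrum.ext
    show (q'.map (algebraMap S' (Localization.Away g'))).comap
      (algebraMap S' (Localization.Away g')) = q'
    exact IsLocalization.under_map_of_isPrime_disjoint (Submonoid.powers g') _ inferInstance hdisj
  have htW : t ∈ W := ⟨t', ht'⟩
  refine ⟨W, h, htW, ?_, ?_⟩
  · rw [← cancel_epi ιg.isoOpensRange.hom]
    simp only [h, Category.assoc, Iso.hom_inv_id_assoc]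
    rw [← Category.assoc ιg.isoOpensRange.hom, Scheme.Hom.isoOpensRange_hom_ι, hπι,
      ← hV.SpecMap_appLE_fromSpec e hU₀ e₀]
    simp only [ιg, π₀, ← Category.assoc, ← Spec.map_comp]
    congr 2
    ext r
    show φ' (algebraMap _ _ r) = _
    rw [φ'.commutes]
    rfl
  · intro ht2
    have h4 : ιg.isoOpensRange.inv ⟨t, ht2⟩ = t' := by
      apply ιg.isOpenEmbedding.injective
      rw [ht']
      show (ιg.isoOpensRange.inv ≫ ιg) ⟨t, ht2⟩ = t
      rw [Scheme.Hom.isoOpensRange_inv_comp]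
      rfl
    show hU₀.fromSpec (Spec.map (CommRingCat.ofHom φ'.toRingHom) (ιg.isoOpensRange.inv ⟨t, ht2⟩)) = u
    rw [h4]
    have h5 : Spec.map (CommRingCat.ofHom φ'.toRingHom) t' = qpt := by
      apply PrimeSpectrum.ext
      exact hφ'
    rw [h5, hqu]

end Helpers

open AlgebraicGeometry CategoryTheory Limits in
/-- Let (U, u) be an étale neighbourhood of (S, s), i.e. U → S étale with u over s. Then there are an
affine open neighbourhood V of s and a surjective, finite, flat morphism of finite presentation π :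
T → V such that every point t of T over s has an open neighbourhood W_t with an S-morphism W_t → U
sending t to u. -/
theorem result {U S : Scheme.{u}} (e : U ⟶ S) [Etale e] (u : U) (s : S) (hu : e u = s) :
    ∃ (V : S.Opens) (T : Scheme.{u}) (π : T ⟶ (V : Scheme.{u})), s ∈ V ∧ IsAffineOpen V ∧ Surjective π ∧ IsFinite π ∧ Flat π ∧ LocallyOfFinitePresentation π ∧
      ∀ t : T, V.ι (π t) = s → ∃ (W : T.Opens) (h : (W : Scheme.{u}) ⟶ U), t ∈ W ∧ h ≫ e = W.ι ≫ π ≫ V.ι ∧ ∀ ht : t ∈ W, h ⟨t, ht⟩ = u := by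
  exact aux e u s hu

end Groth.Agent.S1390
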