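import Groth.Statements.S13903
import Mathlib
-- import your own Groth.Agent.* helpers here

set_option autoImplicit false
universe u
open EtAlg

namespace Groth.Agent.S13903

open Polynomial Module

section P
variable {K L : Type u} [Field K] [CommRing L] [Algebra K L] [Module.Finite K L] [IsReduced L]
  [Algebra.IsSeparable K L]

instance quotSep (I : Ideal L) : Algebra.IsSeparable K (L ⧸ I) := by
  refine ⟨fun y => ?_⟩
  obtain ⟨x, rfl⟩ := Ideal.Quotient.mk_surjective y
  have hx : IsSeparable K x := Algebra.IsSeparable.isSeparable K x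
  have hdvd : minpoly K (Ideal.Quotient.mk I x) ∣ minpoly K x := by
    apply minpoly.dvd
    have : aeval ((Ideal.Quotient.mkₐ K I) x) (minpoly K x) = (Ideal.Quotient.mkₐ K I) (aeval x (minpoly K x)) :=
      Polynomial.aeval_algHom_apply _ _ _
    rw [minpoly.aeval, map_zero] at this
    exact this
  exact Polynomial.Separable.of_dvd hx hdvd

variable (K L) in
lemma finrank_le_card (Ω : Type u) [Field Ω] [Algebra K Ω] [IsAlgClosed Ω] :
    finrank K L ≤ Fintype.card (L →ₐ[K] Ω) := by
  classical
  haveI : IsArtinianRing L := IsArtinianRing.of_finite K L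
  haveI : Fintype (MaximalSpectrum L) := Fintype.ofFinite _
  letI : ∀ m : MaximalSpectrum L, Field (L ⧸ m.asIdeal) := fun m => Ideal.Quotient.field _
  -- dimension count
  have h1 : finrank K L = ∑ m : MaximalSpectrum L, finrank K (L ⧸ m.asIdeal) := by
    rw [← Module.finrank_pi_fintype]
    exact ((IsArtinianRing.equivPi L).restrictScalars K).toLinearEquiv.finrank_eq
  have h2 : ∀ m : MaximalSpectrum L, Fintype.card ((L ⧸ m.asIdeal) →ₐ[K] Ω) = finrank K (L ⧸ m.asIdeal) :=
    fun m => AlgHom.card K (L ⧸ m.asIdeal) Ω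
  let ι : (Σ m : MaximalSpectrum L, ((L ⧸ m.asIdeal) →ₐ[K] Ω)) → (L →ₐ[K] Ω) :=
    fun p => p.2.comp (Ideal.Quotient.mkₐ K p.1.asIdeal)
  have hι : Function.Injective ι := by
    rintro ⟨m, σ⟩ ⟨m', τ⟩ h
    have hker : ∀ (m : MaximalSpectrum L) (σ : (L ⧸ m.asIdeal) →ₐ[K] Ω),
        RingHom.ker (σ.comp (Ideal.Quotient.mkₐ K m.asIdeal)).toRingHom = m.asIdeal := by
      intro m σ
      ext x
      rw [RingHom.mem_ker]
      show σ (Ideal.Quotient.mk _ x) = 0 ↔ _
      rw [map_eq_zero_iff σ σ.toRingHom.injective, Ideal.Quotient.eq_zero_iff_mem]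
    have hm : m = m' := by
      apply MaximalSpectrum.ext
      rw [← hker m σ, ← hker m' τ]
      exact congrArg (fun f : L →ₐ[K] Ω => RingHom.ker f.toRingHom) h
    subst hm
    congr 1
    apply AlgHom.ext
    intro y
    obtain ⟨x, rfl⟩ := Ideal.Quotient.mk_surjective y
    exact AlgHom.congr_fun h x
  calc finrank K L = ∑ m : MaximalSpectrum L, finrank K (L ⧸ m.asIdeal) := h1
    _ = ∑ m : MaximalSpectrum L, Fintype.card ((L ⧸ m.asIdeal) →ₐ[K] Ω) := by
        simp only [h2]
    _ = Fintype.card (Σ m : MaximalSpectrum L, ((L ⧸ m.asIdeal) →ₐ[K] Ω)) := by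
        rw [Fintype.card_sigma]
    _ ≤ Fintype.card (L →ₐ[K] Ω) := Fintype.card_le_of_injective ι hι

end P

section P2
variable {K L : Type u} [Field K] [CommRing L] [Algebra K L] [Module.Finite K L] [IsReduced L]
  [Algebra.IsSeparable K L]

lemma adjoin_eq_top_of_inj (Ω : Type u) [Field Ω] [Algebra K Ω] [IsAlgClosed Ω] (w : L)
    (hw : Function.Injective (fun φ : L →ₐ[K] Ω => φ w)) : Algebra.adjoin K {w} = ⊤ := by
  classical
  have hint : IsIntegral K w := Algebra.IsIntegral.isIntegral w
  let Z : Finset Ω := Finset.univ.image (fun φ : L →ₐ[K] Ω => φ w)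
  have hZcard : Z.card = Fintype.card (L →ₐ[K] Ω) := by
    rw [Finset.card_image_of_injective _ hw, Finset.card_univ]
  have hZroots : Z.val ⊆ ((minpoly K w).map (algebraMap K Ω)).roots := by
    intro a ha
    obtain ⟨φ, -, rfl⟩ := Finset.mem_image.mp ha
    rw [mem_roots (Polynomial.map_ne_zero (minpoly.ne_zero hint)), IsRoot, eval_map, ← aeval_def,
      aeval_algHom_apply, minpoly.aeval, map_zero]
  have hdeg : Fintype.card (L →ₐ[K] Ω) ≤ (minpoly K w).natDegree := by
    have := Polynomial.card_le_degree_of_subset_roots hZroots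
    rwa [hZcard, natDegree_map] at this
  have hfr : finrank K (Algebra.adjoin K {w}) = (minpoly K w).natDegree :=
    (Algebra.adjoin.powerBasis hint).finrank
  have hle : finrank K L ≤ finrank K (Algebra.adjoin K {w}) :=
    (finrank_le_card K L Ω).trans (hdeg.trans hfr.ge)
  apply Subalgebra.toSubmodule_injective
  rw [Algebra.top_toSubmodule]
  exact Submodule.eq_top_of_finrank_eq (le_antisymm (Submodule.finrank_le _) hle)

end P2


/-- Let K be a field and L a finite-dimensional reduced commutative K-algebra of dimension d all of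
whose elements are separable over K, generated as a K-algebra by z and t. In any finite set of at
least d^(4d) elements of K there is an element c such that c • z + t generates L as a K-algebra.
(The published statement does not require separability; for K of characteristic p and L obtained by
adjoining p-th roots of two independent indeterminates, L is a reduced finite K-algebra generated by
two elements with no single generator, so separability over K is assumed here, as the counting in
the published proof requires.) -/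
theorem result (K L : Type u) [Field K] [CommRing L]
    [Algebra K L] [Module.Finite K L] [IsReduced L] [Algebra.IsSeparable K L] (z t : L)
    (hgen : Algebra.adjoin K ({z, t} : Set L) = ⊤) (S : Finset K)
    (hS : Module.finrank K L ^ (4 * Module.finrank K L) ≤ S.card) :
    ∃ c ∈ S, Algebra.adjoin K ({c • z + t} : Set L) = ⊤ := by
  classical
  let Ω := AlgebraicClosure K
  set d := Module.finrank K L with hd
  have hcard_le : Fintype.card (L →ₐ[K] Ω) ≤ d := by
    have h1 := (linearIndependent_toLinearMap K L Ω).fintype_card_le_finrank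
    rwa [Module.finrank_linearMap_self] at h1
  rcases Nat.eq_zero_or_pos d with hd0 | hdpos
  · -- trivial algebra
    haveI : Subsingleton L := Module.finrank_zero_iff.mp hd0
    have hSne : S.Nonempty := by
      rw [← Finset.card_pos]
      have h1 : d ^ (4 * d) = 1 := by
        rw [hd0]; rfl
      have h2 : d ^ (4 * d) ≤ S.card := hS
      omega
    obtain ⟨c, hc⟩ := hSne
    refine ⟨c, hc, ?_⟩
    apply SetLike.ext
    intro x
    rw [Subsingleton.elim x 0]
    simp
  · -- bad sets
    let B : (L →ₐ[K] Ω) × (L →ₐ[K] Ω) → Finset K := fun p =>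
      S.filter fun c => p.1 (c • z + t) = p.2 (c • z + t)
    have hB : ∀ p ∈ (Finset.univ : Finset (L →ₐ[K] Ω)).offDiag, (B p).card ≤ 1 := by
      rintro ⟨φ, ψ⟩ hp
      have hne : φ ≠ ψ := (Finset.mem_offDiag.mp hp).2.2
      rw [Finset.card_le_one]
      intro c hc c' hc'
      have e1 : algebraMap K Ω c * φ z + φ t = algebraMap K Ω c * ψ z + ψ t := by
        have := (Finset.mem_filter.mp hc).2
        simpa [Algebra.smul_def] using this
      have e2 : algebraMap K Ω c' * φ z + φ t = algebraMap K Ω c' * ψ z + ψ t := by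
        have := (Finset.mem_filter.mp hc').2
        simpa [Algebra.smul_def] using this
      by_contra hcc
      have hz : φ z = ψ z := by
        have h3 : (algebraMap K Ω c - algebraMap K Ω c') * (φ z - ψ z) = 0 := by
          linear_combination e1 - e2
        rcases mul_eq_zero.mp h3 with h | h
        · exact absurd ((algebraMap K Ω).injective (sub_eq_zero.mp h)) hcc
        · exact sub_eq_zero.mp h
      have ht : φ t = ψ t := by
        rw [hz] at e1
        exact add_left_cancel e1
      apply hne
      apply AlgHom.ext_of_adjoin_eq_top hgen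
      rintro x (rfl | rfl)
      · exact hz
      · exact ht
    let Bad : Finset K := (Finset.univ : Finset (L →ₐ[K] Ω)).offDiag.biUnion B
    have hBad : Bad.card < S.card := by
      have h1 : Bad.card ≤ ∑ p ∈ (Finset.univ : Finset (L →ₐ[K] Ω)).offDiag, (B p).card :=
        Finset.card_biUnion_le
      have h2 : ∑ p ∈ (Finset.univ : Finset (L →ₐ[K] Ω)).offDiag, (B p).card ≤
          ((Finset.univ : Finset (L →ₐ[K] Ω)).offDiag).card := by
        calc _ ≤ ∑ _p ∈ (Finset.univ : Finset (L →ₐ[K] Ω)).offDiag, 1 := Finset.sum_le_sum hB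
          _ = _ := by simp
      have h3 : ((Finset.univ : Finset (L →ₐ[K] Ω)).offDiag).card =
          Fintype.card (L →ₐ[K] Ω) * Fintype.card (L →ₐ[K] Ω) - Fintype.card (L →ₐ[K] Ω) := by
        rw [Finset.offDiag_card, Finset.card_univ]
      have h4 : Fintype.card (L →ₐ[K] Ω) * Fintype.card (L →ₐ[K] Ω) ≤ d * d :=
        Nat.mul_le_mul hcard_le hcard_le
      have h5 : d * d ≤ d ^ (4 * d) := by
        calc d * d = d ^ 2 := (sq d).symm
          _ ≤ d ^ (4 * d) := Nat.pow_le_pow_right hdpos (by omega)
      have h6 : d ≤ Fintype.card (L →ₐ[K] Ω) := finrank_le_card K L Ω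
      have h7 : d ^ (4 * d) ≤ S.card := hS
      have h8 : Fintype.card (L →ₐ[K] Ω) ≤
          Fintype.card (L →ₐ[K] Ω) * Fintype.card (L →ₐ[K] Ω) := Nat.le_mul_self _
      omega
    obtain ⟨c, hcS, hcBad⟩ : ∃ c ∈ S, c ∉ Bad := by
      by_contra hcon
      have : S ⊆ Bad := fun c hc => by
        by_contra h
        exact hcon ⟨c, hc, h⟩
      exact absurd (Finset.card_le_card this) (not_le.mpr hBad)
    refine ⟨c, hcS, adjoin_eq_top_of_inj Ω _ ?_⟩
    intro φ ψ hφψ
    by_contra hne
    apply hcBad
    refine Finset.mem_biUnion.mpr ⟨(φ, ψ), ?_, ?_⟩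
    · exact Finset.mem_offDiag.mpr ⟨Finset.mem_univ _, Finset.mem_univ _, hne⟩
    · exact Finset.mem_filter.mpr ⟨hcS, hφψ⟩

end Groth.Agent.S13903
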