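import Groth.Statements.S13904
import Mathlib.RingTheory.KrullDimension.Polynomial
import Mathlib.RingTheory.KrullDimension.Field
import Mathlib.RingTheory.KrullDimension.NonZeroDivisors
import Mathlib.RingTheory.Ideal.HasGoingUp
import Mathlib.RingTheory.Ideal.GoingUp
-- import your own Groth.Agent.* helpers here

set_option autoImplicit false
universe u
open CAlg

namespace Groth.Agent.S13904

/-- An injective integral ring homomorphism preserves Krull dimension
(same argument as in helper55's S10843). -/
theorem krullDim_eq_of_isIntegral_of_injective {R S : Type*} [CommRing R] [CommRing S]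
    (f : R →+* S) (hf : f.IsIntegral) (hinj : Function.Injective f) :
    ringKrullDim R = ringKrullDim S := by
  algebraize [f]
  apply le_antisymm
  · unfold ringKrullDim
    refine iSup_le fun l => ?_
    have hker : (⊥ : Ideal S).comap (algebraMap R S) ≤ l.head.asIdeal := by
      have hinj' : Function.Injective (algebraMap R S) := hinj
      rw [← RingHom.ker_eq_comap_bot, (RingHom.injective_iff_ker_eq_bot _).mp hinj']
      exact bot_le
    obtain ⟨P, -, hP, hPl⟩ := Ideal.exists_ideal_over_prime_of_isIntegral l.head.asIdeal ⊥ hker
    have : P.LiesOver l.head.asIdeal := ⟨hPl.symm⟩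
    obtain ⟨L, hL, -, -⟩ := Ideal.exists_ltSeries_of_hasGoingUp l P
    rw [← hL]
    exact Order.LTSeries.length_le_krullDim L
  · unfold ringKrullDim
    refine Order.krullDim_le_of_strictMono (PrimeSpectrum.comap (algebraMap R S)) ?_
    intro P Q hPQ
    have := Ideal.IsIntegral.comap_lt_comap (R := R) (I := P.asIdeal) (J := Q.asIdeal) hPQ
    exact this

/-- Let k be a field, A a commutative k-algebra and φ : k[x_1, …, x_r] → A a finite k-algebra map such
that A/p has Krull dimension r for every minimal prime p of A (an equidimensional affine scheme of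
dimension r, finite over affine r-space). Then for every minimal prime p of A and every prime q of
k[x_1, …, x_r] there is a prime P ⊇ p of A with φ⁻¹(P) = q: the finite map restricted to each
irreducible component of Spec A is surjective onto affine r-space. (The published statement is over
an algebraically closed field with φ a Noether normalisation; this row allows any field and any
finite k-algebra map φ.) -/
theorem result (k : Type u) [Field k] (r : ℕ)
    (A : Type u) [CommRing A] [Algebra k A] (φ : MvPolynomial (Fin r) k →ₐ[k] A)
    (hφ : φ.toRingHom.Finite)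
    (hdim : ∀ p ∈ minimalPrimes A, ringKrullDim (A ⧸ p) = r)
    (p : Ideal A) (hp : p ∈ minimalPrimes A)
    (q : Ideal (MvPolynomial (Fin r) k)) [q.IsPrime] :
    ∃ P : Ideal A, P.IsPrime ∧ p ≤ P ∧ P.comap φ.toRingHom = q := by
  have hpprime : p.IsPrime := hp.1.1
  have hint : φ.toRingHom.IsIntegral := hφ.to_isIntegral
  -- the contraction of `p` is zero, by a dimension count
  have hzero : p.comap φ.toRingHom = ⊥ := by
    by_contra hne
    obtain ⟨x, hx, hx0⟩ := Submodule.exists_mem_ne_zero_of_ne_bot hne
    have hxnzd : x ∈ nonZeroDivisors (MvPolynomial (Fin r) k) := mem_nonZeroDivisors_of_ne_zero hx0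
    have h1 : ringKrullDim (MvPolynomial (Fin r) k ⧸ p.comap φ.toRingHom) + 1 ≤
        ringKrullDim (MvPolynomial (Fin r) k) :=
      ringKrullDim_succ_le_of_surjective (Ideal.Quotient.mk (p.comap φ.toRingHom))
        Ideal.Quotient.mk_surjective hxnzd (Ideal.Quotient.eq_zero_iff_mem.2 hx)
    have h2 : ringKrullDim (MvPolynomial (Fin r) k ⧸ p.comap φ.toRingHom) = ringKrullDim (A ⧸ p) :=
      krullDim_eq_of_isIntegral_of_injective (Ideal.quotientMap p φ.toRingHom le_rfl)
        hint.quotient Ideal.quotientMap_injective
    have h3 : ringKrullDim (MvPolynomial (Fin r) k) = r := by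
      rw [MvPolynomial.ringKrullDim_of_isNoetherianRing, ringKrullDim_eq_zero_of_field]
      simp
    rw [h2, hdim p hp, h3] at h1
    have h4 : ((r + 1 : ℕ) : WithBot ℕ∞) ≤ ((r : ℕ) : WithBot ℕ∞) := by exact_mod_cast h1
    have h5 : r + 1 ≤ r := by exact_mod_cast h4
    omega
  algebraize [φ.toRingHom]
  have : Algebra.IsIntegral (MvPolynomial (Fin r) k) A := ⟨hint⟩
  have hle : p.comap (algebraMap (MvPolynomial (Fin r) k) A) ≤ q := by
    change p.comap φ.toRingHom ≤ q
    rw [hzero]
    exact bot_le
  obtain ⟨Q, hQp, hQprime, hQ⟩ := Ideal.exists_ideal_over_prime_of_isIntegral q p hle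
  exact ⟨Q, hQprime, hQp, hQ⟩

end Groth.Agent.S13904
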