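import Groth.Statements.S13905
import Mathlib

set_option autoImplicit false
universe u
open ProjGeom

namespace Groth.Agent.S13905

open W4c1etcurveeff3b in
open W4c1etcurveeff3b

lemma dim_inf_hyperplane {k V : Type*} [Field k] [AddCommGroup V] [Module k V]
    [FiniteDimensional k V] (n : ℕ) (hV : Module.finrank k V = n + 1)
    (H W : Submodule k V) (hH : Module.finrank k H = n) (hW : ¬ W ≤ H) :
    Module.finrank k ↥(H ⊓ W) + 1 = Module.finrank k W := by
  have h1 := Submodule.finrank_sup_add_finrank_inf_eq H W
  have hlt : H < H ⊔ W := by
    refine lt_of_le_of_ne le_sup_left fun h => hW ?_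
    rw [h]; exact le_sup_right
  have h2 := Submodule.finrank_lt_finrank_of_lt hlt
  have h3 : Module.finrank k ↥(H ⊔ W) ≤ Module.finrank k V := Submodule.finrank_le _
  omega

open W4c1etcurveeff3b in
/-- Hyperplanes of projective n-space in general position, in linear-algebra form (V of dimension n + 1
over a field k, hyperplanes as n-dimensional subspaces, points as nonzero vectors): if S is a finite
set of hyperplanes in general position with at least n members and H is a hyperplane containing none
of the lines cut out by n members of S, then S with H added is again in general position. (The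
published statement is for hyperplanes of P^n_k and closed points; a closed point lying on n + 1
members is automatically one of the rational points cut out by n of them, so the condition on
nonzero vectors of V is the same condition.) -/
theorem result (k V : Type u) [Field k]
    [AddCommGroup V] [Module k V] [DecidableEq (Submodule k V)] (n : ℕ) (S : Finset (Submodule k V))
    (hS : InGeneralPosition k V n S) (hn : n ≤ S.card) (H : Submodule k V)
    (hH : Module.finrank k H = n)
    (havoid : ∀ T ⊆ S, T.card = n → ¬ (T.inf id ≤ H)) :
    InGeneralPosition k V n (insert H S) := by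
  obtain ⟨hV, hmem, hdim, hpt⟩ := hS
  haveI : FiniteDimensional k V := Module.finite_of_finrank_pos (by omega)
  -- key: for T' ⊆ S with card ≤ n, inf T' is not ≤ H
  have hnot : ∀ T' ⊆ S, T'.card ≤ n → ¬ (T'.inf id ≤ H) := by
    intro T' hT' hc hle
    obtain ⟨T'', h1, h2, h3⟩ := Finset.exists_subsuperset_card_eq hT' hc hn
    exact havoid T'' h2 h3 ((Finset.inf_mono h1).trans hle)
  refine ⟨hV, ?_, ?_, ?_⟩
  · intro H' hH'
    rcases Finset.mem_insert.mp hH' with rfl | h
    · exact hH
    · exact hmem _ h
  · intro T hT hc
    by_cases hHT : H ∈ T
    · have hT' : T.erase H ⊆ S := by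
        intro x hx
        have := hT (Finset.mem_of_mem_erase hx)
        rcases Finset.mem_insert.mp this with rfl | h
        · exact absurd rfl (Finset.ne_of_mem_erase hx)
        · exact h
      have hcard : (T.erase H).card + 1 = T.card := Finset.card_erase_add_one hHT
      have hd := hdim _ hT' (by omega)
      have hinf : T.inf id = H ⊓ (T.erase H).inf id := by
        conv_lhs => rw [← Finset.insert_erase hHT]
        rw [Finset.inf_insert]; rfl
      have := dim_inf_hyperplane n hV H ((T.erase H).inf id) hH (hnot _ hT' (by omega))
      rw [hinf]
      omega
    · have hT' : T ⊆ S := (Finset.subset_insert_iff_of_notMem hHT).mp hT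
      exact hdim T hT' hc
  · intro v hv T hT hall
    by_cases hHT : H ∈ T
    · have hT' : T.erase H ⊆ S := by
        intro x hx
        have := hT (Finset.mem_of_mem_erase hx)
        rcases Finset.mem_insert.mp this with rfl | h
        · exact absurd rfl (Finset.ne_of_mem_erase hx)
        · exact h
      have hcard : (T.erase H).card + 1 = T.card := Finset.card_erase_add_one hHT
      have hle := hpt v hv _ hT' (fun H' hH' => hall H' (Finset.mem_of_mem_erase hH'))
      by_contra hcon
      have hcn : (T.erase H).card = n := by omega
      have hd := hdim _ hT' hle
      have hd1 : Module.finrank k ↥((T.erase H).inf id) = 1 := by omega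
      have hvmem : v ∈ (T.erase H).inf id := by
        rw [Submodule.mem_finsetInf]
        intro H' hH'
        exact hall H' (Finset.mem_of_mem_erase hH')
      refine havoid _ hT' hcn ?_
      intro w hw
      have hne : (⟨v, hvmem⟩ : ↥((T.erase H).inf id)) ≠ 0 := by
        intro h; exact hv (congrArg Subtype.val h)
      obtain ⟨c, hc⟩ := (finrank_eq_one_iff_of_nonzero' _ hne).mp hd1 ⟨w, hw⟩
      have : w = c • v := by
        have := congrArg Subtype.val hc
        simpa using this.symm
      rw [this]
      exact H.smul_mem c (hall H hHT)
    · have hT' : T ⊆ S := (Finset.subset_insert_iff_of_notMem hHT).mp hT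
      exact hpt v hv T hT' hall

end Groth.Agent.S13905
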