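import Groth.Statements.S13907
import Groth.Agent.Lib.Helper14.PD3

set_option autoImplicit false
universe u
open ProjGeom

namespace Groth.Agent.S13907

namespace HE
open Groth.Agent.Lib.Helper14.PD3 Groth.Agent.Lib.Helper14.PD2 Groth.Agent.Lib.Helper14.PD1
open Groth.Agent.Lib.Helper87.HilbFnG Groth.Agent.Lib.Helper87.HilbFnE
open MvPolynomial Order

variable {k : Type u} [Field k] {n : ℕ}

attribute [local instance] MvPolynomial.gradedAlgebra

local notation "𝒜" => homogeneousSubmodule (Fin (n + 1)) k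

/-- the set of variables `x_1, …, x_i` -/
def T (k : Type u) [Field k] (n i : ℕ) : Set (MvPolynomial (Fin (n + 1)) k) :=
  (fun j : Fin (n + 1) => (MvPolynomial.X j : MvPolynomial (Fin (n + 1)) k)) ''
    {j : Fin (n + 1) | 1 ≤ j.val ∧ j.val ≤ i}

theorem mem_zeroLocus_T (i : ℕ) (y : ProjectiveSpectrum 𝒜) :
    y ∈ ProjectiveSpectrum.zeroLocus 𝒜 (T k n i) ↔
      ∀ j : Fin (n + 1), 1 ≤ j.val → j.val ≤ i →
        (X j : MvPolynomial (Fin (n + 1)) k) ∈ y.asHomogeneousIdeal.toIdeal := by
  rw [ProjectiveSpectrum.mem_zeroLocus]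
  constructor
  · intro h j h1 h2
    exact h ⟨j, ⟨h1, h2⟩, rfl⟩
  · rintro h _ ⟨j, ⟨h1, h2⟩, rfl⟩
    exact h j h1 h2

/-- strict specialization drops the dimension -/
theorem pos_of_lt {z z' : ProjectiveSpectrum 𝒜} (hlt : z < z') :
    0 < topologicalKrullDim ↥{y : ProjectiveSpectrum 𝒜 | z ≤ y} := by
  have hcl : IsClosed {y : ProjectiveSpectrum 𝒜 | z ≤ y} := by
    rw [← closure_singleton_eq specOrd]
    exact isClosed_closure
  rw [topologicalKrullDim_subtype_eq specOrd hcl, Order.krullDim_pos_iff]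
  exact ⟨⟨z, le_refl z⟩, ⟨z', hlt.le⟩, hlt⟩

theorem dim_zero_of_forall {W : Set (ProjectiveSpectrum 𝒜)} (hW : IsClosed W) (hne : W.Nonempty)
    (h : ∀ z ∈ W, topologicalKrullDim ↥{y : ProjectiveSpectrum 𝒜 | z ≤ y} = 0) :
    topologicalKrullDim ↥W = 0 := by
  rw [topologicalKrullDim_subtype_eq specOrd hW]
  have : Nonempty ↥W := hne.to_subtype
  refine le_antisymm ?_ Order.krullDim_nonneg
  rw [Order.krullDim_nonpos_iff_forall_isMax]
  rintro ⟨z, hz⟩ ⟨z', hz'⟩ hle
  by_contra hnot
  have hlt : z < z' := lt_of_le_of_ne hle (fun heq => hnot (by subst heq; exact le_refl _))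
  have := pos_of_lt hlt
  rw [h z hz] at this
  exact lt_irrefl _ this

theorem main
    (C : Set (ProjectiveSpectrum (CohB1.polyGrading n k)))
    (hC : IsClosed C) (hirr : IsIrreducible C) :
    ∃ i : ℕ, i ≤ n ∧
      (C ∩ ProjectiveSpectrum.zeroLocus (CohB1.polyGrading n k)
          ((fun j : Fin (n + 1) => (MvPolynomial.X j : MvPolynomial (Fin (n + 1)) k)) ''
            {j : Fin (n + 1) | 1 ≤ j.val ∧ j.val ≤ i})).Nonempty ∧
      topologicalKrullDim ↥(C ∩ ProjectiveSpectrum.zeroLocus (CohB1.polyGrading n k)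
          ((fun j : Fin (n + 1) => (MvPolynomial.X j : MvPolynomial (Fin (n + 1)) k)) ''
            {j : Fin (n + 1) | 1 ≤ j.val ∧ j.val ≤ i})) = 0 := by
  change ∃ i : ℕ, i ≤ n ∧ (C ∩ ProjectiveSpectrum.zeroLocus 𝒜 (T k n i)).Nonempty ∧
    topologicalKrullDim ↥(C ∩ ProjectiveSpectrum.zeroLocus 𝒜 (T k n i)) = 0
  obtain ⟨x, hx⟩ := exists_point_of_irreducible (k := k) (σ := Fin (n + 1)) hC hirr
  have hWcl : ∀ i, IsClosed (C ∩ ProjectiveSpectrum.zeroLocus 𝒜 (T k n i)) := fun i =>
    hC.inter (ProjectiveSpectrum.isClosed_zeroLocus 𝒜 _)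
  -- the key induction
  have key : ∀ i : ℕ, i ≤ n →
      (∃ i' : ℕ, i' ≤ i ∧ (C ∩ ProjectiveSpectrum.zeroLocus 𝒜 (T k n i')).Nonempty ∧
        topologicalKrullDim ↥(C ∩ ProjectiveSpectrum.zeroLocus 𝒜 (T k n i')) = 0) ∨
      (∃ y ∈ C ∩ ProjectiveSpectrum.zeroLocus 𝒜 (T k n i),
        0 < topologicalKrullDim ↥{z : ProjectiveSpectrum 𝒜 | y ≤ z}) := by
    -- a common closing argument
    have close : ∀ i : ℕ, (C ∩ ProjectiveSpectrum.zeroLocus 𝒜 (T k n i)).Nonempty →
        (∃ i' : ℕ, i' ≤ i ∧ (C ∩ ProjectiveSpectrum.zeroLocus 𝒜 (T k n i')).Nonempty ∧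
          topologicalKrullDim ↥(C ∩ ProjectiveSpectrum.zeroLocus 𝒜 (T k n i')) = 0) ∨
        (∃ y ∈ C ∩ ProjectiveSpectrum.zeroLocus 𝒜 (T k n i),
          0 < topologicalKrullDim ↥{z : ProjectiveSpectrum 𝒜 | y ≤ z}) := by
      intro i hne
      by_cases hex : ∃ y ∈ C ∩ ProjectiveSpectrum.zeroLocus 𝒜 (T k n i),
          0 < topologicalKrullDim ↥{z : ProjectiveSpectrum 𝒜 | y ≤ z}
      · exact Or.inr hex
      · left
        push Not at hex
        refine ⟨i, le_refl i, hne, dim_zero_of_forall (hWcl i) hne (fun z hz => ?_)⟩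
        obtain ⟨e, -, he⟩ := exists_nat_dim_point z
        have := hex z hz
        rw [he] at this ⊢
        have h0 : e ≤ 0 := by exact_mod_cast this
        have : e = 0 := by omega
        rw [this]
        rfl
    intro i
    induction i with
    | zero =>
      intro _
      apply close 0
      refine ⟨x, ?_, ?_⟩
      · rw [hx]; exact le_refl x
      · rw [mem_zeroLocus_T]
        intro j h1 h2
        omega
    | succ i ih =>
      intro hi
      rcases ih (by omega) with ⟨i', hi', h⟩ | ⟨y, ⟨hyC, hyL⟩, hypos⟩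
      · exact Or.inl ⟨i', by omega, h⟩
      · apply close (i + 1)
        set f : MvPolynomial (Fin (n + 1)) k := X (⟨i + 1, by omega⟩ : Fin (n + 1)) with hf
        by_cases hfy : f ∈ y.asHomogeneousIdeal.toIdeal
        · refine ⟨y, hyC, ?_⟩
          rw [mem_zeroLocus_T] at hyL ⊢
          intro j h1 h2
          rcases Nat.lt_or_ge j.val (i + 1) with hlt | hge
          · exact hyL j h1 (by omega)
          · have : j = ⟨i + 1, by omega⟩ := Fin.ext (by simp; omega)
            rw [this]
            exact hfy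
        · have hfh : f.IsHomogeneous 1 := isHomogeneous_X _ _
          have hfirr : f ∈ Groth.Agent.Lib.Helper87.HilbFnI.irr k (Fin (n + 1)) :=
            Groth.Agent.Lib.Helper87.HilbFnI.mem_irr_of_isHomogeneous hfh le_rfl
          obtain ⟨⟨w, hwy, hwf⟩, -⟩ := hauptidealsatz y f 1 hfh hfirr hfy hypos
          have hyw : y ≤ w := hwy
          refine ⟨w, ?_, ?_⟩
          · rw [hx] at hyC ⊢
            exact le_trans hyC hyw
          · rw [mem_zeroLocus_T] at hyL ⊢
            intro j h1 h2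
            rcases Nat.lt_or_ge j.val (i + 1) with hlt | hge
            · exact hyw (hyL j h1 (by omega))
            · have : j = ⟨i + 1, by omega⟩ := Fin.ext (by simp; omega)
              rw [this]
              rw [ProjectiveSpectrum.mem_zeroLocus] at hwf
              exact hwf (Set.mem_singleton f)
  rcases key n (le_refl n) with ⟨i', hi', h⟩ | ⟨y, ⟨hyC, hyL⟩, hypos⟩
  · exact ⟨i', hi', h⟩
  · exfalso
    rw [mem_zeroLocus_T] at hyL
    obtain ⟨e, he, htop⟩ := exists_nat_dim_point y
    rw [htop] at hypos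
    have hepos : 0 < e := by exact_mod_cast hypos
    set f : MvPolynomial (Fin (n + 1)) k := X (0 : Fin (n + 1)) with hf
    by_cases hfy : f ∈ y.asHomogeneousIdeal.toIdeal
    · obtain ⟨j, hj⟩ := exists_X_notMem y
      apply hj
      by_cases hj0 : j = 0
      · rw [hj0]; exact hfy
      · exact hyL j (by
          have : j.val ≠ 0 := fun h => hj0 (Fin.ext h)
          omega) (by omega)
    · have hItop : y.asHomogeneousIdeal.toIdeal ⊔ Ideal.span {f} ≠ ⊤ := sup_span_ne_top y {f} (by
        intro g hg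
        rw [Set.mem_singleton_iff] at hg
        rw [hg]
        exact Groth.Agent.Lib.Helper87.HilbFnI.mem_irr_of_isHomogeneous
          (isHomogeneous_X _ _) le_rfl)
      obtain ⟨q, hq⟩ := Ideal.nonempty_minimalPrimes hItop
      have hqp : q.IsPrime := hq.1.1
      have h1 := dim_drop_prime (k := k) y.asHomogeneousIdeal.toIdeal q f hfy hq
      have h2 : ringKrullDim (MvPolynomial (Fin (n + 1)) k ⧸ q) = 0 := by
        apply dim_eq_zero_of_X_mem
        intro j
        by_cases hj0 : j = 0
        · rw [hj0]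
          exact hq.1.2 (Ideal.mem_sup_right (Ideal.mem_span_singleton_self f))
        · exact hq.1.2 (Ideal.mem_sup_left (hyL j (by
            have : j.val ≠ 0 := fun h => hj0 (Fin.ext h)
            omega) (by omega)))
      rw [he, h2, zero_add] at h1
      have : e + 1 = 1 := by exact_mod_cast h1
      omega

end HE


/-- Over an algebraically closed field k, let C be a nonempty irreducible closed subset of the
underlying space of projective n-space with homogeneous coordinates x_0, …, x_n, and for i ≤ n let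
L_i be the linear subspace where x_1, …, x_i vanish. Then there is an index i ≤ n with C ∩ L_i
nonempty and of topological Krull dimension zero. -/
theorem result (k : Type u) [Field k]
    [IsAlgClosed k] (n : ℕ) (C : Set (ProjectiveSpectrum (CohB1.polyGrading n k)))
    (hC : IsClosed C) (hirr : IsIrreducible C) :
    ∃ i : ℕ, i ≤ n ∧
      (C ∩ ProjectiveSpectrum.zeroLocus (CohB1.polyGrading n k)
          ((fun j : Fin (n + 1) => (MvPolynomial.X j : MvPolynomial (Fin (n + 1)) k)) ''
            {j : Fin (n + 1) | 1 ≤ j.val ∧ j.val ≤ i})).Nonempty ∧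
      topologicalKrullDim ↥(C ∩ ProjectiveSpectrum.zeroLocus (CohB1.polyGrading n k)
          ((fun j : Fin (n + 1) => (MvPolynomial.X j : MvPolynomial (Fin (n + 1)) k)) ''
            {j : Fin (n + 1) | 1 ≤ j.val ∧ j.val ≤ i})) = 0 :=
  HE.main C hC hirr

end Groth.Agent.S13907
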