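import Groth.Statements.S1391
import Mathlib
import Groth.Agent.Lib.Helper31.FibCritH
import Groth.Agent.Lib.Helper35.PullbackChart
import Groth.Agent.Lib.Helper35.StalkChart
import Groth.Agent.Lib.QCoh.Helper74_FlatOverBaseChange

set_option autoImplicit false
universe u
open FlatMor

namespace Groth.Agent.S1391
open AlgebraicGeometry CategoryTheory Limits TensorProduct
open Groth.Agent.Lib.Helper31.FibCrit
open AlgebraicGeometry CategoryTheory Limits TensorProduct
open Groth.Agent.Lib.Helper31.FibCrit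


open AlgebraicGeometry CategoryTheory Limits in
/-- In a cartesian square X' = S' ×_S X with projections g' : X' → X and f' : X' → S', if a
quasi-coherent O_X-module F is flat over S at the image of a point x' of X', then the pullback of F
to X' is flat over S' at x'. -/
theorem result {X S X' S' : Scheme.{u}} (f : X ⟶ S) (f' : X' ⟶ S') (g' : X' ⟶ X) (g : S' ⟶ S) (hc : IsPullback g' f' f g)
    (F : X.Modules) (hF : Coh.IsQCoh F) (x' : X') (h : FlatMod.IsFlatOverAt f F (g' x')) :
    FlatMod.IsFlatOverAt f' ((Scheme.Modules.pullback g').obj F) x' := by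
  haveI : F.IsQuasicoherent := hF
  have hxy : f (g' x') = g (f' x') := by
    simp only [← Scheme.Hom.comp_apply, hc.w]
  obtain ⟨_, ⟨W, hW, rfl⟩, hsW, -⟩ :=
    S.isBasis_affineOpens.exists_subset_of_mem_open (Set.mem_univ (f (g' x'))) isOpen_univ
  obtain ⟨_, ⟨V, hV, rfl⟩, hxV, hVW⟩ :=
    X.isBasis_affineOpens.exists_subset_of_mem_open hsW (W.2.preimage f.continuous)
  have hs'W : g (f' x') ∈ W := hxy ▸ hsW
  obtain ⟨_, ⟨W', hW', rfl⟩, hs'W', hW'W⟩ :=
    S'.isBasis_affineOpens.exists_subset_of_mem_open hs'W (W.2.preimage g.continuous)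
  replace hVW : V ≤ f ⁻¹ᵁ W := hVW
  replace hW'W : W' ≤ g ⁻¹ᵁ W := hW'W
  replace hW : IsAffineOpen W := hW
  replace hV : IsAffineOpen V := hV
  replace hW' : IsAffineOpen W' := hW'
  let V' : X'.Opens := g' ⁻¹ᵁ V ⊓ f' ⁻¹ᵁ W'
  have hV' : IsAffineOpen V' :=
    Groth.Agent.Lib.Helper35.isAffineOpen_pullback_chart hc hW'W hVW rfl hW hW' hV
  have hpush := Groth.Agent.Lib.Helper35.isPushout_appLE_of_isAffineOpen hc (UT := W') hW'W hVW
    (UY := V') rfl hW hW' hV
  have hx'V' : x' ∈ V' := ⟨hxV, hs'W'⟩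
  have hV'V : V' ≤ g' ⁻¹ᵁ V := inf_le_left
  have hV'W' : V' ≤ f' ⁻¹ᵁ W' := inf_le_right
  let a : Γ(S, W) →+* Γ(X, V) := (f.appLE W V hVW).hom
  let b : Γ(S, W) →+* Γ(S', W') := (g.appLE W W' hW'W).hom
  let c : Γ(X, V) →+* Γ(X', V') := (g'.appLE V V' hV'V).hom
  let d : Γ(S', W') →+* Γ(X', V') := (f'.appLE W' V' hV'W').hom
  have hw : c.comp a = d.comp b := congrArg CommRingCat.Hom.hom hpush.w
  letI : Algebra Γ(S, W) Γ(X, V) := a.toAlgebra
  letI : Algebra Γ(S, W) Γ(S', W') := b.toAlgebra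
  letI : Algebra Γ(X, V) Γ(X', V') := c.toAlgebra
  letI : Algebra Γ(S', W') Γ(X', V') := d.toAlgebra
  letI : Algebra Γ(S, W) Γ(X', V') := (d.comp b).toAlgebra
  haveI : IsScalarTower Γ(S, W) Γ(S', W') Γ(X', V') := IsScalarTower.of_algebraMap_eq' rfl
  haveI : IsScalarTower Γ(S, W) Γ(X, V) Γ(X', V') := IsScalarTower.of_algebraMap_eq' hw.symm
  haveI hP : Algebra.IsPushout Γ(S, W) Γ(S', W') Γ(X, V) Γ(X', V') :=
    (CommRingCat.isPushout_iff_isPushout.mp hpush.flip)
  -- stalks
  let x : X := g' x'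
  let A := Γ(S, W)
  let A' := Γ(S', W')
  let C := Γ(X, V)
  let C' := Γ(X', V')
  let B := X.presheaf.stalk x
  let D := X'.presheaf.stalk x'
  letI algCB : Algebra C B := X.presheaf.algebra_section_stalk ⟨x, hxV⟩
  letI algC'D : Algebra C' D := X'.presheaf.algebra_section_stalk ⟨x', hx'V'⟩
  haveI locB : IsLocalization.AtPrime B (hV.primeIdealOf ⟨x, hxV⟩).asIdeal :=
    hV.isLocalization_stalk ⟨x, hxV⟩
  haveI locD : IsLocalization.AtPrime D (hV'.primeIdealOf ⟨x', hx'V'⟩).asIdeal :=
    hV'.isLocalization_stalk ⟨x', hx'V'⟩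
  letI algBD : Algebra B D := (g'.stalkMap x').hom.toAlgebra
  letI algAB : Algebra A B := ((algebraMap C B).comp (algebraMap A C)).toAlgebra
  letI algA'D : Algebra A' D := ((algebraMap C' D).comp (algebraMap A' C')).toAlgebra
  letI algCD : Algebra C D := ((algebraMap B D).comp (algebraMap C B)).toAlgebra
  letI algAD : Algebra A D := ((algebraMap B D).comp (algebraMap A B)).toAlgebra
  haveI tACB : IsScalarTower A C B := IsScalarTower.of_algebraMap_eq' rfl
  haveI tA'C'D : IsScalarTower A' C' D := IsScalarTower.of_algebraMap_eq' rfl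
  haveI tCBD : IsScalarTower C B D := IsScalarTower.of_algebraMap_eq' rfl
  haveI tABD : IsScalarTower A B D := IsScalarTower.of_algebraMap_eq' rfl
  have hgerm : ∀ c : C, algebraMap C' D (algebraMap C C' c) = algebraMap B D (algebraMap C B c) :=
    fun c => Groth.Agent.Lib.QCoh.germ_appLE_apply g' hV'V x' hx'V' c
  haveI tCC'D : IsScalarTower C C' D := IsScalarTower.of_algebraMap_eq (fun c => (hgerm c).symm)
  haveI tAA'D : IsScalarTower A A' D := IsScalarTower.of_algebraMap_eq (fun a => by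
    show algebraMap B D (algebraMap C B (algebraMap A C a)) =
      algebraMap C' D (algebraMap A' C' (algebraMap A A' a))
    rw [← hgerm, ← IsScalarTower.algebraMap_apply A C C', ← IsScalarTower.algebraMap_apply A A' C'])
  haveI : Module.Flat C' D := IsLocalization.flat D (hV'.primeIdealOf ⟨x', hx'V'⟩).asIdeal.primeCompl
  have hcanL : (canL A A' B D).toRingHom.Flat :=
    canL_flat_gen A A' C C' B D (hV.primeIdealOf ⟨x, hxV⟩).asIdeal.primeCompl
  -- the module `F_x` over `A`
  let N := F.presheaf.stalk x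
  letI modAN : Module A N := Module.compHom N (algebraMap A B)
  haveI tABN : IsScalarTower A B N := .of_algebraMap_smul fun _ _ => rfl
  letI modRN := FlatMod.moduleStalkOver f F x
  letI algAR : Algebra A (S.presheaf.stalk (f x)) := S.presheaf.algebra_section_stalk ⟨f x, hsW⟩
  haveI tARN : IsScalarTower A (S.presheaf.stalk (f x)) N := .of_algebraMap_smul fun a m => by
    change (f.stalkMap x (S.presheaf.germ W (f x) hsW a)) • m =
      (X.presheaf.germ V x hxV (f.appLE W V hVW a)) • m
    rw [Groth.Agent.Lib.QCoh.germ_appLE_apply f hVW x hxV a]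
  haveI := hW.isLocalization_stalk ⟨f x, hsW⟩
  haveI hAN : Module.Flat A N :=
    (Module.flat_iff_of_isLocalization (S.presheaf.stalk (f x))
      (hW.primeIdealOf ⟨f x, hsW⟩).asIdeal.primeCompl N).mp h
  -- the target
  let N' := ((Scheme.Modules.pullback g').obj F).presheaf.stalk x'
  letI modA'N' : Module A' N' := Module.compHom N' (algebraMap A' D)
  haveI tA'DN' : IsScalarTower A' D N' := .of_algebraMap_smul fun _ _ => rfl
  letI modR'N' := FlatMod.moduleStalkOver f' ((Scheme.Modules.pullback g').obj F) x'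
  letI algA'R' : Algebra A' (S'.presheaf.stalk (f' x')) :=
    S'.presheaf.algebra_section_stalk ⟨f' x', hs'W'⟩
  haveI tA'R'N' : IsScalarTower A' (S'.presheaf.stalk (f' x')) N' :=
    .of_algebraMap_smul fun a m => by
      change (f'.stalkMap x' (S'.presheaf.germ W' (f' x') hs'W' a)) • m =
        (X'.presheaf.germ V' x' hx'V' (f'.appLE W' V' hV'W' a)) • m
      rw [Groth.Agent.Lib.QCoh.germ_appLE_apply f' hV'W' x' hx'V' a]
  haveI := hW'.isLocalization_stalk ⟨f' x', hs'W'⟩
  refine (Module.flat_iff_of_isLocalization (S'.presheaf.stalk (f' x'))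
      (hW'.primeIdealOf ⟨f' x', hs'W'⟩).asIdeal.primeCompl N').mpr ?_
  obtain ⟨e⟩ := Groth.Agent.Lib.QCoh.nonempty_stalk_pullback_linearEquiv g' F x'
  haveI : Module.Flat A' (D ⊗[B] N) := flat_baseChange_tensor A A' B D N hcanL
  exact Module.Flat.of_linearEquiv (e.restrictScalars A')

end Groth.Agent.S1391
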