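import Groth.Statements.S13913
import Mathlib.RingTheory.MvPolynomial.EulerIdentity
import Mathlib.LinearAlgebra.LinearIndependent.Lemmas
-- import your own Groth.Agent.* helpers here

set_option autoImplicit false
universe u
open PlaneCubic

namespace Groth.Agent.S13913

/-- Over an algebraically closed field of characteristic zero, for linearly independent linear forms z₁,
z₂ and quadratic forms q₁, q₂ in three variables and a nonzero common zero p of z₁ and z₂, the point
p is a singular point of the plane cubic z₁q₂ − z₂q₁ = 0 (all three partial derivatives vanish at p)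
if and only if q₁ and q₂ both vanish at p. -/
theorem result (k : Type u) [Field k] [IsAlgClosed k] [CharZero k]
    (z₁ z₂ q₁ q₂ : MvPolynomial (Fin 3) k) (hz₁ : z₁.IsHomogeneous 1) (hz₂ : z₂.IsHomogeneous 1)
    (hq₁ : q₁.IsHomogeneous 2) (hq₂ : q₂.IsHomogeneous 2) (hind : LinearIndependent k ![z₁, z₂])
    (p : Fin 3 → k) (hp : p ≠ 0) (hp₁ : MvPolynomial.eval p z₁ = 0) (hp₂ : MvPolynomial.eval p z₂ = 0) :
    (∀ i : Fin 3, MvPolynomial.eval p (MvPolynomial.pderiv i (z₁ * q₂ - z₂ * q₁)) = 0) ↔
      (MvPolynomial.eval p q₁ = 0 ∧ MvPolynomial.eval p q₂ = 0) := by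
  have hder : ∀ i : Fin 3, MvPolynomial.eval p (MvPolynomial.pderiv i (z₁ * q₂ - z₂ * q₁)) =
      MvPolynomial.eval p (MvPolynomial.pderiv i z₁) * MvPolynomial.eval p q₂ -
        MvPolynomial.eval p (MvPolynomial.pderiv i z₂) * MvPolynomial.eval p q₁ := by
    intro i
    simp only [map_sub, Derivation.leibniz, smul_eq_mul, map_add, map_mul, hp₁, hp₂, zero_mul,
      zero_add]
    ring
  constructor
  · intro h
    -- the linear form w = q₂(p) z₁ - q₁(p) z₂ has vanishing partial derivatives, hence is zero
    set Q₁ := MvPolynomial.eval p q₁ with hQ₁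
    set Q₂ := MvPolynomial.eval p q₂ with hQ₂
    set w : MvPolynomial (Fin 3) k := Q₂ • z₁ + (-Q₁) • z₂ with hw
    have hwhom : w.IsHomogeneous 1 :=
      ((MvPolynomial.homogeneousSubmodule (Fin 3) k 1).smul_mem Q₂ hz₁ : _).add
        ((MvPolynomial.homogeneousSubmodule (Fin 3) k 1).smul_mem (-Q₁) hz₂ : _)
    have hpd : ∀ i : Fin 3, MvPolynomial.pderiv i w = 0 := by
      intro i
      have h0 : (MvPolynomial.pderiv i w).IsHomogeneous 0 := hwhom.pderiv
      rw [← MvPolynomial.totalDegree_zero_iff_isHomogeneous,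
        MvPolynomial.totalDegree_eq_zero_iff_eq_C] at h0
      have h1 : MvPolynomial.eval p (MvPolynomial.pderiv i w) = 0 := by
        have := h i
        rw [hder i] at this
        simp only [hw, map_add, Derivation.map_smul, MvPolynomial.smul_eval]
        linear_combination this
      rw [h0, MvPolynomial.eval_C] at h1
      rw [h0, h1, map_zero]
    have hw0 : w = 0 := by
      have := hwhom.sum_X_mul_pderiv
      simp only [hpd, mul_zero, Finset.sum_const_zero, one_smul] at this
      exact this.symm
    have := LinearIndependent.pair_iff.1 hind Q₂ (-Q₁) hw0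
    exact ⟨neg_eq_zero.1 this.2, this.1⟩
  · rintro ⟨h1, h2⟩ i
    rw [hder i, h1, h2, mul_zero, mul_zero, sub_zero]

end Groth.Agent.S13913
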