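import Groth.Statements.S13925
import Mathlib.Order.SupIndep
import Mathlib.Tactic.Abel
import Mathlib.LinearAlgebra.Span.Basic
-- import your own Groth.Agent.* helpers here

set_option autoImplicit false
universe u v w x
open W4c1limliniiii

namespace Groth.Agent.S13925

/-- Let k be a field and U, E, W vector spaces over k with linear maps f : U → E, g' : E → U, f₂ : E → W
and g : W → E such that g' ∘ f = 0, the kernel of f₂ is contained in the image of g, and the image
of g meets the kernel of g' only in 0 — the conditions holding at a point of a linked Grassmannian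
at which the linking scalar vanishes. Let V₁ ≤ U and V₂ ≤ E be subspaces and let C' ≤ V₂ be a
subspace contained in the kernel of g' and meeting f(V₁) only in 0. Then the subspaces f(V₁), ker f₂
∩ V₂ and C' of E are independent: their sum is direct. (The published statement is for two
consecutive members V_{i-1}, V_i of a point of a linked Grassmannian at which the linking scalar
vanishes and adds the decomposition V_i = f(V_{i-1}) ⊕ (ker f_i ∩ V_i) ⊕ C with C ⊇ C'; this row
states the independence, with only the three conditions the argument uses.) -/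
theorem result (k : Type u) [Field k]
    (U : Type v) (E : Type w) (W : Type x) [AddCommGroup U] [Module k U] [AddCommGroup E]
    [Module k E] [AddCommGroup W] [Module k W]
    (f : U →ₗ[k] E) (g' : E →ₗ[k] U) (f₂ : E →ₗ[k] W) (g : W →ₗ[k] E)
    (hgf : g'.comp f = 0) (hII : LinearMap.ker f₂ ≤ LinearMap.range g)
    (hIII : LinearMap.range g ⊓ LinearMap.ker g' = ⊥)
    (V₁ : Submodule k U) (V₂ : Submodule k E) (C' : Submodule k E) (hC : C' ≤ V₂)
    (hCg : C' ≤ LinearMap.ker g') (hCf : Submodule.map f V₁ ⊓ C' = ⊥) :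
    iSupIndep ![Submodule.map f V₁, LinearMap.ker f₂ ⊓ V₂, C'] := by
  have key : ∀ a ∈ Submodule.map f V₁, ∀ b ∈ LinearMap.ker f₂ ⊓ V₂, ∀ c ∈ C',
      a + b + c = 0 → a = 0 ∧ b = 0 ∧ c = 0 := by
    intro a ha b hb c hc h
    obtain ⟨v, hv, rfl⟩ := ha
    have hg'a : g' (f v) = 0 := by simpa using LinearMap.congr_fun hgf v
    have hg'c : g' c = 0 := hCg hc
    have hg'b : g' b = 0 := by
      have := congrArg g' h
      simpa [hg'a, hg'c] using this
    have hb0 : b = 0 := by
      have hmem : b ∈ LinearMap.range g ⊓ LinearMap.ker g' := ⟨hII hb.1, hg'b⟩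
      rw [hIII] at hmem
      exact (Submodule.mem_bot k).1 hmem
    subst hb0
    rw [add_zero] at h
    have hac : f v = -c := eq_neg_of_add_eq_zero_left h
    have hmem : f v ∈ Submodule.map f V₁ ⊓ C' :=
      ⟨⟨v, hv, rfl⟩, by rw [hac]; exact C'.neg_mem hc⟩
    rw [hCf] at hmem
    have ha0 : f v = 0 := (Submodule.mem_bot k).1 hmem
    refine ⟨ha0, rfl, ?_⟩
    rw [ha0] at hac
    exact neg_eq_zero.1 hac.symm
  rw [iSupIndep_fin_three]
  simp only [Matrix.cons_val_zero, Matrix.cons_val_one, Matrix.cons_val_two, Matrix.tail_cons,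
    Matrix.head_cons]
  refine ⟨?_, ?_, ?_⟩
  · rw [Submodule.disjoint_def]
    intro x hx hx'
    obtain ⟨b, hb, c, hc, rfl⟩ := Submodule.mem_sup.1 hx'
    have := key (b + c) hx (-b) (Submodule.neg_mem _ hb) (-c) (C'.neg_mem hc) (by abel)
    exact this.1
  · rw [Submodule.disjoint_def]
    intro x hx hx'
    obtain ⟨c, hc, a, ha, rfl⟩ := Submodule.mem_sup.1 hx'
    have := key (-a) (Submodule.neg_mem _ ha) (c + a) hx (-c) (C'.neg_mem hc) (by abel)
    exact this.2.1
  · rw [Submodule.disjoint_def]
    intro x hx hx'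
    obtain ⟨a, ha, b, hb, rfl⟩ := Submodule.mem_sup.1 hx'
    have := key (-a) (Submodule.neg_mem _ ha) (-b) (Submodule.neg_mem _ hb) (a + b) hx (by abel)
    exact this.2.2

end Groth.Agent.S13925
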