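import Groth.Statements.S1393
import Groth.Agent.S2106
import Groth.Agent.Lib.Helper54.StalkEssFP
import Groth.Agent.Lib.Helper54.StalkFP

set_option maxHeartbeats 1000000
set_option linter.style.haveILetI false

set_option autoImplicit false
universe u
open FlatMor

namespace Groth.Agent.S1393

open AlgebraicGeometry CategoryTheory Limits in
/-- Flatness of the stalk over the local ring of `X`, from flatness over the base and flatness of
the fibre. -/
theorem isFlatAt_of_fibre {X S : Scheme.{u}} (f : X ⟶ S) [LocallyOfFinitePresentation f]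
    (F : X.Modules) (hFq : Coh.IsQCoh F) (hFp : CohB1.IsFP F) (x : X)
    (h1 : FlatMod.IsFlatOverAt f F x)
    (h2 : Module.Flat (↑(X.presheaf.stalk x) ⧸ Ideal.map (f.stalkMap x).hom (IsLocalRing.maximalIdeal ↑(S.presheaf.stalk (f x))))
      (↑(F.presheaf.stalk x) ⧸ (Ideal.map (f.stalkMap x).hom (IsLocalRing.maximalIdeal ↑(S.presheaf.stalk (f x))) • (⊤ : Submodule ↑(X.presheaf.stalk x) ↑(F.presheaf.stalk x))))) :
    FlatMod.IsFlatAt F x := by
  haveI : F.IsQuasicoherent := hFq
  haveI : F.IsFinitePresentation := hFp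
  by_cases hne : Nontrivial (F.presheaf.stalk x)
  · letI aRS : Algebra (S.presheaf.stalk (f x)) (X.presheaf.stalk x) := (f.stalkMap x).hom.toAlgebra
    letI mRM : Module (S.presheaf.stalk (f x)) (F.presheaf.stalk x) :=
      FlatMod.moduleStalkOver f F x
    haveI t1 : IsScalarTower (S.presheaf.stalk (f x)) (X.presheaf.stalk x) (F.presheaf.stalk x) :=
      IsScalarTower.of_algebraMap_smul fun _ _ => rfl
    haveI l1 : IsLocalHom (algebraMap (S.presheaf.stalk (f x)) (X.presheaf.stalk x)) :=
      show IsLocalHom (f.stalkMap x).hom from inferInstance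
    haveI l2 : IsLocalHom (algebraMap (X.presheaf.stalk x) (X.presheaf.stalk x)) :=
      ⟨fun a h => h⟩
    haveI fp : Module.FinitePresentation (X.presheaf.stalk x) (F.presheaf.stalk x) :=
      Groth.Agent.Lib.Helper54.StalkFP.finitePresentation_stalk F x
    haveI fl : Module.Flat (S.presheaf.stalk (f x)) (F.presheaf.stalk x) := h1
    have hess : CAlgX.IsEssFinitePresentation (S.presheaf.stalk (f x)) (X.presheaf.stalk x) :=
      Groth.Agent.Lib.Helper54.StalkEssFP.stalk_isEssFinitePresentation f x
    exact (Groth.Agent.S2106.result (R := S.presheaf.stalk (f x)) (S := X.presheaf.stalk x)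
      (S' := X.presheaf.stalk x) (M := F.presheaf.stalk x) hess hess h2).2
  · haveI : Subsingleton (F.presheaf.stalk x) := not_nontrivial_iff_subsingleton.1 hne
    exact (inferInstance : Module.Flat (X.presheaf.stalk x) (F.presheaf.stalk x))

open AlgebraicGeometry CategoryTheory Limits in
/-- Let f : X → S be of finite presentation, F a finitely presented quasi-coherent O_X-module and x a
point with image s. If F is flat over S at x and the stalk at x of the restriction of F to the
fibre, namely F_x / m_s F_x, is flat over the local ring of the fibre at x, namely O_{X,x} / m_s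
O_{X,x}, then F is free of finite rank on some open neighbourhood of x. -/
theorem result {X S : Scheme.{u}} (f : X ⟶ S) [LocallyOfFinitePresentation f] [QuasiCompact f] [QuasiSeparated f]
    (F : X.Modules) (hFq : Coh.IsQCoh F) (hFp : CohB1.IsFP F) (x : X) (h1 : FlatMod.IsFlatOverAt f F x)
    (h2 : Module.Flat (↑(X.presheaf.stalk x) ⧸ Ideal.map (f.stalkMap x).hom (IsLocalRing.maximalIdeal ↑(S.presheaf.stalk (f x))))
      (↑(F.presheaf.stalk x) ⧸ (Ideal.map (f.stalkMap x).hom (IsLocalRing.maximalIdeal ↑(S.presheaf.stalk (f x))) • (⊤ : Submodule ↑(X.presheaf.stalk x) ↑(F.presheaf.stalk x))))) :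
    ∃ (U : X.Opens) (n : ℕ), x ∈ U ∧ Nonempty (F.restrict U.ι ≅ FlatMod.freeMod (↑U) n) := by
  haveI : F.IsQuasicoherent := hFq
  haveI : F.IsFinitePresentation := hFp
  have hflat : FlatMod.IsFlatAt F x := isFlatAt_of_fibre f F hFq hFp x h1 h2
  obtain ⟨U, hxU, hU⟩ := Groth.Agent.Lib.QCoh.exists_isFinLocFree_restrict_of_isFlatAt F x hflat
  exact Groth.Agent.Lib.Helper54.StalkFP.exists_free_of_isFinLocFree_restrict F x hxU hU

end Groth.Agent.S1393
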