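import Groth.Statements.S13936
-- import your own Groth.Agent.* helpers here

set_option autoImplicit false
universe u
open W4c1limliniiii

namespace Groth.Agent.S13936

open scoped TensorProduct

section helpers

variable (R SX : Type u) [CommRing R] [CommRing SX] [Algebra R SX] (σ : SX →ₐ[R] R)

/-- multiplication map -/
noncomputable abbrev mu : SX ⊗[R] SX →ₐ[R] SX := Algebra.TensorProduct.lmul' R

/-- `a ⊗ b ↦ σ(a) b` -/
noncomputable def psi : SX ⊗[R] SX →ₐ[R] SX :=
  Algebra.TensorProduct.lift ((Algebra.ofId R SX).comp σ) (AlgHom.id R SX) (fun _ _ => Commute.all _ _)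

theorem psi_tmul (a b : SX) : psi R SX σ (a ⊗ₜ[R] b) = algebraMap R SX (σ a) * b := by
  simp [psi, Algebra.TensorProduct.lift_tmul, Algebra.ofId_apply]

/-- the ideal generated by `I ⊗ 1` -/
noncomputable abbrev JJ : Ideal (SX ⊗[R] SX) :=
  Ideal.map (Algebra.TensorProduct.includeLeft : SX →ₐ[R] SX ⊗[R] SX) (RingHom.ker σ.toRingHom)

theorem sub_mu_mem (w : SX ⊗[R] SX) :
    w - (mu R SX w) ⊗ₜ[R] (1 : SX) ∈ KaehlerDifferential.ideal R SX := by
  rw [RingHom.mem_ker, map_sub]
  simp [mu]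

theorem sub_algebraMap_mem_ker (a : SX) : a - algebraMap R SX (σ a) ∈ RingHom.ker σ.toRingHom := by
  rw [RingHom.mem_ker, map_sub]
  show σ a - σ (algebraMap R SX (σ a)) = 0
  rw [AlgHom.commutes]
  simp

theorem claimA (w : SX ⊗[R] SX) :
    w - (mu R SX w) ⊗ₜ[R] (1 : SX) -
      ((1 : SX) ⊗ₜ[R] (psi R SX σ w) - (psi R SX σ w) ⊗ₜ[R] (1 : SX)) ∈
      JJ R SX σ * KaehlerDifferential.ideal R SX := by
  induction w using TensorProduct.induction_on with
  | zero => simp
  | tmul a b =>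
    have h1 : (a - algebraMap R SX (σ a)) ⊗ₜ[R] (1 : SX) ∈ JJ R SX σ :=
      Ideal.mem_map_of_mem _ (sub_algebraMap_mem_ker R SX σ a)
    have h2 := KaehlerDifferential.one_smul_sub_smul_one_mem_ideal R b
    have h3 := Ideal.mul_mem_mul h1 h2
    convert h3 using 1
    rw [psi_tmul]
    simp only [mu, Algebra.TensorProduct.lmul'_apply_tmul, mul_sub, sub_mul,
      Algebra.TensorProduct.tmul_mul_tmul, one_mul, mul_one, TensorProduct.sub_tmul]
    have h4 : (1 : SX) ⊗ₜ[R] (algebraMap R SX (σ a) * b) = (algebraMap R SX (σ a)) ⊗ₜ[R] b := by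
      rw [← Algebra.smul_def, TensorProduct.tmul_smul, TensorProduct.smul_tmul', Algebra.smul_def,
        mul_one]
    rw [h4]
    abel
  | add x y hx hy =>
    have := Ideal.add_mem _ hx hy
    convert this using 1
    simp only [map_add, TensorProduct.add_tmul, TensorProduct.tmul_add]
    abel

theorem JJ_le_ker_psi : JJ R SX σ ≤ RingHom.ker (psi R SX σ).toRingHom := by
  rw [Ideal.map_le_iff_le_comap]
  intro i hi
  rw [Ideal.mem_comap, RingHom.mem_ker]
  show psi R SX σ (i ⊗ₜ[R] (1 : SX)) = 0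
  rw [psi_tmul]
  have : σ i = 0 := hi
  rw [this]; simp

theorem claimA'' (w : SX ⊗[R] SX) (hw : w ∈ JJ R SX σ) :
    w - (mu R SX w) ⊗ₜ[R] (1 : SX) ∈ JJ R SX σ * KaehlerDifferential.ideal R SX := by
  have h := claimA R SX σ w
  have h0 : psi R SX σ w = 0 := JJ_le_ker_psi R SX σ hw
  rw [h0] at h
  simpa using h

theorem sup_pow_le {A : Type u} [CommRing A] (K J : Ideal A) (e : ℕ) (he : 1 ≤ e) :
    (K ⊔ J) ^ e ≤ K ^ e ⊔ J := by
  obtain ⟨m, rfl⟩ : ∃ m, e = m + 1 := ⟨e - 1, by omega⟩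
  clear he
  induction m with
  | zero => rw [zero_add, pow_one, pow_one]
  | succ m ih =>
    rw [pow_succ (K ⊔ J) (m + 1)]
    refine le_trans (Ideal.mul_mono ih le_rfl) ?_
    intro x hx
    refine Submodule.mul_induction_on hx ?_ ?_
    · intro a ha b hb
      obtain ⟨a1, ha1, a2, ha2, rfl⟩ := Submodule.mem_sup.1 ha
      obtain ⟨b1, hb1, b2, hb2, rfl⟩ := Submodule.mem_sup.1 hb
      have e1 : (a1 + a2) * (b1 + b2) = a1 * b1 + (a1 * b2 + a2 * (b1 + b2)) := by ring
      rw [e1]
      refine Ideal.add_mem _ (Ideal.mem_sup_left ?_) (Ideal.mem_sup_right ?_)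
      · rw [pow_succ K (m + 1)]
        exact Ideal.mul_mem_mul ha1 hb1
      · exact Ideal.add_mem _ (Ideal.mul_mem_left _ _ hb2) (Ideal.mul_mem_right _ _ ha2)
    · intro a b ha hb
      exact Ideal.add_mem _ ha hb

theorem claimB (e : ℕ) (he : 1 ≤ e) (c : SX) (hc : c ∈ RingHom.ker σ.toRingHom ^ e) :
    (1 : SX) ⊗ₜ[R] c - c ⊗ₜ[R] (1 : SX) ∈
      KaehlerDifferential.ideal R SX ^ e ⊔ JJ R SX σ * KaehlerDifferential.ideal R SX := by
  -- includeRight maps I into Iδ ⊔ J
  have h1 : Ideal.map (Algebra.TensorProduct.includeRight : SX →ₐ[R] SX ⊗[R] SX)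
      (RingHom.ker σ.toRingHom) ≤ KaehlerDifferential.ideal R SX ⊔ JJ R SX σ := by
    rw [Ideal.map_le_iff_le_comap]
    intro i hi
    rw [Ideal.mem_comap]
    show (1 : SX) ⊗ₜ[R] i ∈ _
    have : (1 : SX) ⊗ₜ[R] i = ((1 : SX) ⊗ₜ[R] i - i ⊗ₜ[R] (1 : SX)) + i ⊗ₜ[R] (1 : SX) := by abel
    rw [this]
    exact Ideal.add_mem _
      (Ideal.mem_sup_left (KaehlerDifferential.one_smul_sub_smul_one_mem_ideal R i))
      (Ideal.mem_sup_right (Ideal.mem_map_of_mem _ hi))
  have h2 : (1 : SX) ⊗ₜ[R] c ∈ KaehlerDifferential.ideal R SX ^ e ⊔ JJ R SX σ := by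
    apply sup_pow_le _ _ e he
    apply Ideal.pow_right_mono h1 e
    rw [← Ideal.map_pow]
    exact Ideal.mem_map_of_mem _ hc
  obtain ⟨v, hv, j, hj, hvj⟩ := Submodule.mem_sup.1 h2
  have hcI : c ∈ RingHom.ker σ.toRingHom := Ideal.pow_le_self (by omega) hc
  have hj' : j - c ⊗ₜ[R] (1 : SX) ∈ JJ R SX σ :=
    Ideal.sub_mem _ hj (Ideal.mem_map_of_mem _ hcI)
  have hvI : v ∈ KaehlerDifferential.ideal R SX := Ideal.pow_le_self (by omega) hv
  have hmu : mu R SX (j - c ⊗ₜ[R] (1 : SX)) = 0 := by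
    have hv0 : mu R SX v = 0 := hvI
    have : j = (1 : SX) ⊗ₜ[R] c - v := by rw [← hvj]; abel
    rw [this, map_sub, map_sub, hv0]
    simp [mu]
  have h3 := claimA'' R SX σ _ hj'
  rw [hmu, TensorProduct.zero_tmul, sub_zero] at h3
  have : (1 : SX) ⊗ₜ[R] c - c ⊗ₜ[R] (1 : SX) = v + (j - c ⊗ₜ[R] (1 : SX)) := by
    rw [← hvj]; abel
  rw [this]
  exact Ideal.add_mem _ (Ideal.mem_sup_left hv) (Ideal.mem_sup_right h3)

theorem psi_map_ideal_le :
    Ideal.map (psi R SX σ) (KaehlerDifferential.ideal R SX) ≤ RingHom.ker σ.toRingHom := by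
  rw [← KaehlerDifferential.span_range_eq_ideal, Ideal.map_span, Ideal.span_le]
  rintro _ ⟨_, ⟨b, rfl⟩, rfl⟩
  rw [map_sub, psi_tmul, psi_tmul]
  simp only [map_one, one_mul, mul_one]
  exact sub_algebraMap_mem_ker R SX σ b

end helpers


/-- Let R be a commutative ring, S_Y → S_X a homomorphism of R-algebras (an affine piece of a morphism f
: X → Y of schemes over Spec R) and σ : S_X → R an R-algebra retraction (a section of X over the
base) with kernel I. For e ≥ 1 write T^{e−1} for the augmentation ideal of the ring of principal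
parts of order e − 1 (the kernel of P^{e−1} → the algebra; for e = 2 this is the module of
differentials). Then the natural map T^{e−1}(S_Y/R) → T^{e−1}(S_X/R) takes values in I ·
T^{e−1}(S_X/R) — that is, the induced map f^*T^{e−1}_Y → T^{e−1}_X vanishes at the section σ — if
and only if every element of S_Y whose image in S_X lies in I has image in I^e, which says that the
fibre of f through σ contains the e-th order thickening of σ. (The published statement is for a
morphism of separated schemes over a base and sections over an arbitrary base change; this row is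
the affine computation it reduces to.) -/
theorem result (R SY SX : Type u)
    [CommRing R] [CommRing SY] [CommRing SX] [Algebra R SY] [Algebra R SX] [Algebra SY SX]
    [IsScalarTower R SY SX] (σ : SX →ₐ[R] R) (e : ℕ) (he : 1 ≤ e) :
    (∀ y ∈ PP16.augIdeal (e - 1) R SY,
        PP16.map (e - 1) R SY R SX y ∈
          RingHom.ker σ.toRingHom • (PP16.augIdeal (e - 1) R SX).restrictScalars SX) ↔
      (∀ b : SY, algebraMap SY SX b ∈ RingHom.ker σ.toRingHom →
        algebraMap SY SX b ∈ RingHom.ker σ.toRingHom ^ e) := by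
  obtain ⟨n, rfl⟩ : ∃ n, e = n + 1 := ⟨e - 1, by omega⟩
  change (∀ y ∈ PP16.augIdeal n R SY, PP16.map n R SY R SX y ∈
      RingHom.ker σ.toRingHom • (PP16.augIdeal n R SX).restrictScalars SX) ↔ _
  -- membership in `I • T` in ideal-theoretic terms
  have hsm : ∀ z : PP16.P n R SX,
      z ∈ RingHom.ker σ.toRingHom • (PP16.augIdeal n R SX).restrictScalars SX ↔
      z ∈ Ideal.map (Ideal.Quotient.mk (KaehlerDifferential.ideal R SX ^ (n + 1)))
        (JJ R SX σ * KaehlerDifferential.ideal R SX) := by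
    intro z
    have hJ : Ideal.map (Ideal.Quotient.mk (KaehlerDifferential.ideal R SX ^ (n + 1))) (JJ R SX σ) =
        Ideal.map (algebraMap SX (PP16.P n R SX)) (RingHom.ker σ.toRingHom) := by
      show Ideal.map (Ideal.Quotient.mk (KaehlerDifferential.ideal R SX ^ (n + 1)))
        (Ideal.map (Algebra.TensorProduct.includeLeft : SX →ₐ[R] SX ⊗[R] SX).toRingHom
          (RingHom.ker σ.toRingHom)) = _
      rw [Ideal.map_map]
      rfl
    rw [← Ideal.smul_restrictScalars, Submodule.restrictScalars_mem, smul_eq_mul, Ideal.map_mul, hJ]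
    rfl
  -- values of psi on the generators
  have hpsiδ : ∀ c : SX, psi R SX σ ((1 : SX) ⊗ₜ[R] c - c ⊗ₜ[R] (1 : SX)) =
      c - algebraMap R SX (σ c) := by
    intro c
    rw [map_sub, psi_tmul, psi_tmul]
    simp
  have htm : ∀ b : SY, PP16.tensorMap R SY R SX ((1 : SY) ⊗ₜ[R] b - b ⊗ₜ[R] (1 : SY)) =
      (1 : SX) ⊗ₜ[R] (algebraMap SY SX b) - (algebraMap SY SX b) ⊗ₜ[R] (1 : SX) := by
    intro b
    rw [map_sub, PP16.tensorMap_tmul, PP16.tensorMap_tmul, map_one]
  constructor
  · intro h b hb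
    have hy : Ideal.Quotient.mk (KaehlerDifferential.ideal R SY ^ (n + 1))
        ((1 : SY) ⊗ₜ[R] b - b ⊗ₜ[R] (1 : SY)) ∈ PP16.augIdeal n R SY :=
      Ideal.mem_map_of_mem _ (KaehlerDifferential.one_smul_sub_smul_one_mem_ideal R b)
    have h1 := h _ hy
    rw [hsm, PP16.map_mk, htm] at h1
    obtain ⟨s, hs, hs'⟩ := (Ideal.mem_map_iff_of_surjective _ Ideal.Quotient.mk_surjective).1 h1
    rw [Ideal.Quotient.eq] at hs'
    -- apply psi
    have h2 : psi R SX σ (s - ((1 : SX) ⊗ₜ[R] (algebraMap SY SX b) -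
        (algebraMap SY SX b) ⊗ₜ[R] (1 : SX))) ∈ RingHom.ker σ.toRingHom ^ (n + 1) := by
      have h3 : Ideal.map (psi R SX σ) (KaehlerDifferential.ideal R SX ^ (n + 1)) ≤
          RingHom.ker σ.toRingHom ^ (n + 1) := by
        rw [Ideal.map_pow]
        exact Ideal.pow_right_mono (psi_map_ideal_le R SX σ) _
      exact h3 (Ideal.mem_map_of_mem _ hs')
    have hs1 : s ∈ JJ R SX σ := Ideal.mul_le_left hs
    have hs0 : psi R SX σ s = 0 := (RingHom.mem_ker).1 (JJ_le_ker_psi R SX σ hs1)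
    have hσ : σ (algebraMap SY SX b) = 0 := hb
    rw [map_sub, hs0, hpsiδ, hσ, map_zero, sub_zero, zero_sub] at h2
    exact (Ideal.neg_mem_iff _).1 h2
  · intro h y hy
    obtain ⟨w, hw, rfl⟩ := (Ideal.mem_map_iff_of_surjective _ Ideal.Quotient.mk_surjective).1 hy
    rw [hsm, PP16.map_mk]
    -- psi ∘ tensorMap sends the diagonal ideal into I^(n+1)
    have hgen : ∀ b : SY, algebraMap SY SX b - algebraMap R SX (σ (algebraMap SY SX b)) ∈
        RingHom.ker σ.toRingHom ^ (n + 1) := by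
      intro b
      have hb' : algebraMap SY SX (b - algebraMap R SY (σ (algebraMap SY SX b))) =
          algebraMap SY SX b - algebraMap R SX (σ (algebraMap SY SX b)) := by
        rw [map_sub, ← IsScalarTower.algebraMap_apply]
      rw [← hb']
      apply h
      rw [hb']
      exact sub_algebraMap_mem_ker R SX σ _
    have hle : KaehlerDifferential.ideal R SY ≤
        Ideal.comap ((psi R SX σ).toRingHom.comp (PP16.tensorMap R SY R SX).toRingHom)
          (RingHom.ker σ.toRingHom ^ (n + 1)) := by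
      rw [← KaehlerDifferential.span_range_eq_ideal, Ideal.span_le]
      rintro _ ⟨b, rfl⟩
      show psi R SX σ (PP16.tensorMap R SY R SX ((1 : SY) ⊗ₜ[R] b - b ⊗ₜ[R] (1 : SY))) ∈
        RingHom.ker σ.toRingHom ^ (n + 1)
      rw [htm, hpsiδ]
      exact hgen b
    have hψw : psi R SX σ (PP16.tensorMap R SY R SX w) ∈ RingHom.ker σ.toRingHom ^ (n + 1) :=
      hle hw
    have hw' : PP16.tensorMap R SY R SX w ∈ KaehlerDifferential.ideal R SX :=
      PP16.ideal_map_tensorMap_le R SY R SX (Ideal.mem_map_of_mem _ hw)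
    have hmu : mu R SX (PP16.tensorMap R SY R SX w) = 0 := hw'
    have hA := claimA R SX σ (PP16.tensorMap R SY R SX w)
    rw [hmu, TensorProduct.zero_tmul, sub_zero] at hA
    have hB := claimB R SX σ (n + 1) (by omega) _ hψw
    -- so w' ∈ Iδ^(n+1) ⊔ J * Iδ
    have hsum : PP16.tensorMap R SY R SX w ∈
        KaehlerDifferential.ideal R SX ^ (n + 1) ⊔ JJ R SX σ * KaehlerDifferential.ideal R SX := by
      have := Ideal.add_mem _ (Ideal.mem_sup_right hA) hB
      rwa [sub_add_cancel] at this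
    obtain ⟨v, hv, s, hs, hvs⟩ := Submodule.mem_sup.1 hsum
    rw [← hvs, map_add, Ideal.Quotient.eq_zero_iff_mem.2 hv, zero_add]
    exact Ideal.mem_map_of_mem _ hs


end Groth.Agent.S13936
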