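import Groth.Statements.S13937
import Mathlib

set_option autoImplicit false
universe u
open W4c1limliniiii

namespace Groth.Agent.S13937

section aux

open Polynomial

variable {k : Type u} [Field k]

noncomputable def T (t : k) (n : ℕ) : k[X] →ₗ[k] (Fin n → k) :=
  LinearMap.pi (fun i => (Polynomial.lcoeff k i) ∘ₗ (Polynomial.taylor t))

theorem T_eq_zero_iff (t : k) (n : ℕ) (s : k[X]) : T t n s = 0 ↔ (X - C t) ^ n ∣ s := by
  rw [Polynomial.X_sub_C_pow_dvd_iff, ← Polynomial.taylor_apply, Polynomial.X_pow_dvd_iff]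
  constructor
  · intro h j hj
    have := congrFun h ⟨j, hj⟩
    simpa [T] using this
  · intro h
    ext ⟨j, hj⟩
    simpa [T] using h j hj

noncomputable def W (d : ℕ) (t : k) (n : ℕ) : Submodule k k[X] :=
  LinearMap.ker (T t n) ⊓ Polynomial.degreeLT k (d + 1)

theorem mem_W {d : ℕ} {t : k} {n : ℕ} {s : k[X]} :
    s ∈ W d t n ↔ (X - C t) ^ n ∣ s ∧ s ∈ degreeLT k (d + 1) := by
  rw [W, Submodule.mem_inf, LinearMap.mem_ker, T_eq_zero_iff]

theorem finrank_W_ge (d : ℕ) (t : k) (n : ℕ) : d + 1 ≤ Module.finrank k (W d t n) + n := by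
  let f : degreeLT k (d + 1) →ₗ[k] (Fin n → k) := (T t n) ∘ₗ (degreeLT k (d + 1)).subtype
  have h1 := LinearMap.finrank_range_add_finrank_ker f
  have h2 : Module.finrank k (LinearMap.range f) ≤ n := by
    have := Submodule.finrank_le (LinearMap.range f)
    simpa using this
  have h3 : Module.finrank k (degreeLT k (d + 1)) = d + 1 := by
    rw [Module.finrank_eq_card_basis (Polynomial.degreeLT.basis k (d + 1)), Fintype.card_fin]
  have h4 : W d t n = (LinearMap.ker f).map (degreeLT k (d + 1)).subtype := by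
    rw [LinearMap.ker_comp, Submodule.map_comap_subtype, inf_comm]
    rfl
  have h5 : Module.finrank k (W d t n) = Module.finrank k (LinearMap.ker f) := by
    rw [h4]
    exact (Submodule.equivMapOfInjective _ (degreeLT k (d + 1)).injective_subtype _).finrank_eq.symm
  omega

theorem W_inf_W {d : ℕ} {t t' : k} (htt : t ≠ t') {n n' : ℕ} (hn : d < n + n') (s : k[X])
    (h1 : s ∈ W d t n) (h2 : s ∈ W d t' n') : s = 0 := by
  rw [mem_W] at h1 h2
  have hcop : IsCoprime ((X - C t) ^ n) ((X - C t') ^ n') :=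
    (Polynomial.isCoprime_X_sub_C_of_isUnit_sub (sub_ne_zero.2 htt).isUnit).pow
  have hdvd := hcop.mul_dvd h1.1 h2.1
  by_contra hs
  have hdeg := Polynomial.natDegree_le_of_dvd hdvd hs
  have hm1 : ((X - C t) ^ n).Monic := (monic_X_sub_C t).pow n
  have hm2 : ((X - C t') ^ n').Monic := (monic_X_sub_C t').pow n'
  have hnd : ((X - C t) ^ n * (X - C t') ^ n').natDegree = n + n' := by
    rw [hm1.natDegree_mul hm2, (monic_X_sub_C t).natDegree_pow, (monic_X_sub_C t').natDegree_pow,
      natDegree_X_sub_C, natDegree_X_sub_C, mul_one, mul_one]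
  have hsd : s.natDegree < d + 1 := (natDegree_lt_iff_degree_lt hs).2 (mem_degreeLT.1 h1.2)
  omega

end aux

open Polynomial in
/-- Over an algebraically closed field of characteristic p (zero allowed), fix three distinct points
P_1, P_2, P_3 of the affine line and admissible indices (2 ≤ e_i ≤ d, e_i prime to p, ∑ (e_i − 1) =
2d − 2). The two-dimensional spaces V of polynomials of degree at most d that contain, for each i, a
non-zero member vanishing to order at least e_i at P_i (the intersection of the three Schubert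
cycles in the Grassmannian of pencils) form a projective space of some dimension m ≥ 0: there is a
non-zero linear space L of pairs of polynomials such that sending a non-zero pair (F, G) ∈ L to the
span of F and G is a surjection onto that set of spaces under which two non-zero pairs have the same
image exactly when they are proportional. -/
theorem result (k : Type u) [Field k]
    [IsAlgClosed k] (p : ℕ) [CharP k p] (d : ℕ) (P : Fin 3 → k) (hP : Function.Injective P)
    (e : Fin 3 → ℕ) (he : W4c1limliniiii.Admissible p d e) :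
    ∃ L : Submodule k (k[X] × k[X]), L ≠ ⊥ ∧
      (∀ v ∈ L, v ≠ 0 →
        Submodule.span k {v.1, v.2} ≤ Polynomial.degreeLE k d ∧
          Module.finrank k (Submodule.span k {v.1, v.2}) = 2 ∧
          ∀ i, ∃ s ∈ Submodule.span k {v.1, v.2}, s ≠ 0 ∧
            e i ≤ Polynomial.rootMultiplicity (P i) s) ∧
      (∀ V : Submodule k k[X], V ≤ Polynomial.degreeLE k d → Module.finrank k V = 2 →
        (∀ i, ∃ s ∈ V, s ≠ 0 ∧ e i ≤ Polynomial.rootMultiplicity (P i) s) →
          ∃ v ∈ L, v ≠ 0 ∧ Submodule.span k {v.1, v.2} = V) ∧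
      (∀ v ∈ L, ∀ w ∈ L, v ≠ 0 → w ≠ 0 →
        Submodule.span k {v.1, v.2} = Submodule.span k {w.1, w.2} → ∃ c : k, w = c • v) := by
  classical
  obtain ⟨hE, hsum⟩ := he
  rw [Fin.sum_univ_three] at hsum
  have hP01 : P 0 ≠ P 1 := fun h => by
    have := hP h
    simp at this
  have hP02 : P 0 ≠ P 2 := fun h => by
    have := hP h
    simp at this
  have hP12 : P 1 ≠ P 2 := fun h => by
    have := hP h
    simp at this
  have e0 := hE 0
  have e1 := hE 1
  have e2 := hE 2
  obtain ⟨W0, hW0⟩ : ∃ W0 : Submodule k k[X], W0 = W d (P 0) (e 0) := ⟨_, rfl⟩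
  obtain ⟨W1, hW1⟩ : ∃ W1 : Submodule k k[X], W1 = W d (P 1) (e 1) := ⟨_, rfl⟩
  obtain ⟨W2, hW2⟩ : ∃ W2 : Submodule k k[X], W2 = W d (P 2) (e 2) := ⟨_, rfl⟩
  have h01 : ∀ s, s ∈ W0 → s ∈ W1 → s = 0 := by
    intro s h0 h1
    rw [hW0] at h0
    rw [hW1] at h1
    exact W_inf_W hP01 (by omega) s h0 h1
  have h02 : ∀ s, s ∈ W0 → s ∈ W2 → s = 0 := by
    intro s h0 h1
    rw [hW0] at h0
    rw [hW2] at h1
    exact W_inf_W hP02 (by omega) s h0 h1
  have h12 : ∀ s, s ∈ W1 → s ∈ W2 → s = 0 := by
    intro s h0 h1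
    rw [hW1] at h0
    rw [hW2] at h1
    exact W_inf_W hP12 (by omega) s h0 h1
  have hdeg : Polynomial.degreeLT k (d + 1) = Polynomial.degreeLE k d :=
    Polynomial.degreeLT_succ_eq_degreeLE
  have hWle : ∀ {s : k[X]}, (s ∈ W0 ∨ s ∈ W1 ∨ s ∈ W2) → s ∈ Polynomial.degreeLE k d := by
    intro s hs
    rw [← hdeg]
    rcases hs with h | h | h
    · rw [hW0] at h; exact (mem_W.1 h).2
    · rw [hW1] at h; exact (mem_W.1 h).2
    · rw [hW2] at h; exact (mem_W.1 h).2
  have hind : ∀ F G : k[X], F ∈ W0 → G ∈ W1 → F ≠ 0 → G ≠ 0 → LinearIndependent k ![F, G] := by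
    intro F G hF hG hF0 hG0
    rw [LinearIndependent.pair_iff]
    intro a b hab
    by_cases hb : b = 0
    · subst hb
      rw [zero_smul, add_zero] at hab
      rcases smul_eq_zero.1 hab with h | h
      · exact ⟨h, rfl⟩
      · exact absurd h hF0
    · exfalso
      have h1 : b • G = -(a • F) := eq_neg_of_add_eq_zero_right hab
      have h3 : G ∈ W0 := by
        rw [← Submodule.smul_mem_iff W0 hb, h1]
        exact Submodule.neg_mem _ (Submodule.smul_mem _ _ hF)
      exact hG0 (h01 G h3 hG)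
  let L : Submodule k (k[X] × k[X]) := (W0.prod W1) ⊓
    Submodule.comap (LinearMap.fst k k[X] k[X] + LinearMap.snd k k[X] k[X]) W2
  have hL : ∀ v : k[X] × k[X], v ∈ L ↔ v.1 ∈ W0 ∧ v.2 ∈ W1 ∧ v.1 + v.2 ∈ W2 := by
    intro v
    simp [L, Submodule.mem_prod, and_assoc]
  have hne : ∀ v ∈ L, v ≠ 0 → v.1 ≠ 0 ∧ v.2 ≠ 0 := by
    intro v hv hv0
    rw [hL] at hv
    obtain ⟨hv1, hv2, hv3⟩ := hv
    constructor
    · intro h
      apply hv0
      have h' : v.2 = 0 := h12 v.2 hv2 (by simpa [h] using hv3)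
      exact Prod.ext h h'
    · intro h
      apply hv0
      have h' : v.1 = 0 := h02 v.1 hv1 (by simpa [h] using hv3)
      exact Prod.ext h' h
  have hrange : ∀ F G : k[X], Set.range ![F, G] = {F, G} := by
    intro F G
    ext x
    simp only [Set.mem_range, Fin.exists_fin_two, Matrix.cons_val_zero, Matrix.cons_val_one,
      Set.mem_insert_iff, Set.mem_singleton_iff]
    constructor
    · rintro (h | h)
      · exact Or.inl h.symm
      · exact Or.inr h.symm
    · rintro (h | h)
      · exact Or.inl h.symm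
      · exact Or.inr h.symm
  have hA : ∀ v ∈ L, v ≠ 0 →
      Submodule.span k {v.1, v.2} ≤ Polynomial.degreeLE k d ∧
        Module.finrank k (Submodule.span k {v.1, v.2}) = 2 ∧
        ∀ i, ∃ s ∈ Submodule.span k {v.1, v.2}, s ≠ 0 ∧
          e i ≤ Polynomial.rootMultiplicity (P i) s := by
    intro v hv hv0
    obtain ⟨hF0, hG0⟩ := hne v hv hv0
    rw [hL] at hv
    obtain ⟨hv1, hv2, hv3⟩ := hv
    have hli := hind v.1 v.2 hv1 hv2 hF0 hG0
    refine ⟨?_, ?_, ?_⟩
    · rw [Submodule.span_le]
      intro x hx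
      rcases hx with rfl | rfl
      · exact hWle (Or.inl hv1)
      · exact hWle (Or.inr (Or.inl hv2))
    · have := finrank_span_eq_card hli
      rw [hrange] at this
      simpa using this
    · have hFm : v.1 ∈ Submodule.span k {v.1, v.2} := Submodule.subset_span (by simp)
      have hGm : v.2 ∈ Submodule.span k {v.1, v.2} := Submodule.subset_span (by simp)
      have hS0 : v.1 + v.2 ≠ 0 := by
        intro h
        have := (LinearIndependent.pair_iff.1 hli) 1 1 (by simpa using h)
        exact one_ne_zero this.1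
      have r0 : e 0 ≤ Polynomial.rootMultiplicity (P 0) v.1 := by
        rw [Polynomial.le_rootMultiplicity_iff hF0]
        rw [hW0] at hv1
        exact (mem_W.1 hv1).1
      have r1 : e 1 ≤ Polynomial.rootMultiplicity (P 1) v.2 := by
        rw [Polynomial.le_rootMultiplicity_iff hG0]
        rw [hW1] at hv2
        exact (mem_W.1 hv2).1
      have r2 : e 2 ≤ Polynomial.rootMultiplicity (P 2) (v.1 + v.2) := by
        rw [Polynomial.le_rootMultiplicity_iff hS0]
        rw [hW2] at hv3
        exact (mem_W.1 hv3).1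
      intro i
      fin_cases i
      · exact ⟨v.1, hFm, hF0, r0⟩
      · exact ⟨v.2, hGm, hG0, r1⟩
      · exact ⟨v.1 + v.2, Submodule.add_mem _ hFm hGm, hS0, r2⟩
  refine ⟨L, ?_, hA, ?_, ?_⟩
  · -- dimension count
    have hfin : ∀ (t : k) (n : ℕ), Module.Finite k (W d t n) := fun t n =>
      Module.Finite.of_injective (Submodule.inclusion (inf_le_right : W d t n ≤ degreeLT k (d + 1)))
        (Submodule.inclusion_injective _)
    haveI : Module.Finite k W0 := by rw [hW0]; exact hfin _ _
    haveI : Module.Finite k W1 := by rw [hW1]; exact hfin _ _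
    let Ψ : (↥W0 × ↥W1) →ₗ[k] (Fin (e 2) → k) :=
      (T (P 2) (e 2)) ∘ₗ (W0.subtype.coprod W1.subtype)
    have hd0 : d + 1 ≤ Module.finrank k W0 + e 0 := by rw [hW0]; exact finrank_W_ge d (P 0) (e 0)
    have hd1 : d + 1 ≤ Module.finrank k W1 + e 1 := by rw [hW1]; exact finrank_W_ge d (P 1) (e 1)
    have hlt : Module.finrank k (Fin (e 2) → k) < Module.finrank k (↥W0 × ↥W1) := by
      rw [Module.finrank_prod, Module.finrank_fin_fun]
      omega
    have hker := LinearMap.ker_ne_bot_of_finrank_lt (f := Ψ) hlt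
    obtain ⟨x, hx, hx0⟩ := Submodule.exists_mem_ne_zero_of_ne_bot hker
    intro hLbot
    have hv : ((x.1 : k[X]), (x.2 : k[X])) ∈ L := by
      rw [hL]
      refine ⟨x.1.2, x.2.2, ?_⟩
      rw [hW2, mem_W]
      refine ⟨(T_eq_zero_iff _ _ _).1 ?_, ?_⟩
      · have := LinearMap.mem_ker.1 hx
        simpa [Ψ] using this
      · rw [hdeg]
        exact Submodule.add_mem _ (hWle (Or.inl x.1.2)) (hWle (Or.inr (Or.inl x.2.2)))
    rw [hLbot, Submodule.mem_bot, Prod.mk_eq_zero] at hv
    apply hx0
    exact Prod.ext (Subtype.ext hv.1) (Subtype.ext hv.2)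
  · -- surjectivity
    intro V hVle hV2 hVram
    haveI : Module.Finite k V := Module.finite_of_finrank_pos (by omega)
    obtain ⟨s0, hs0V, hs00, hs0r⟩ := hVram 0
    obtain ⟨s1, hs1V, hs10, hs1r⟩ := hVram 1
    obtain ⟨s2, hs2V, hs20, hs2r⟩ := hVram 2
    have hs0W : s0 ∈ W0 := by
      rw [hW0, mem_W, hdeg]
      exact ⟨(Polynomial.le_rootMultiplicity_iff hs00).1 hs0r, hVle hs0V⟩
    have hs1W : s1 ∈ W1 := by
      rw [hW1, mem_W, hdeg]
      exact ⟨(Polynomial.le_rootMultiplicity_iff hs10).1 hs1r, hVle hs1V⟩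
    have hs2W : s2 ∈ W2 := by
      rw [hW2, mem_W, hdeg]
      exact ⟨(Polynomial.le_rootMultiplicity_iff hs20).1 hs2r, hVle hs2V⟩
    have hli := hind s0 s1 hs0W hs1W hs00 hs10
    have hspanle : Submodule.span k {s0, s1} ≤ V := by
      rw [Submodule.span_le]
      intro x hx
      rcases hx with rfl | rfl
      · exact hs0V
      · exact hs1V
    have hspanrank : Module.finrank k (Submodule.span k {s0, s1}) = 2 := by
      have := finrank_span_eq_card hli
      rw [hrange] at this
      simpa using this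
    have hspan : Submodule.span k {s0, s1} = V :=
      Submodule.eq_of_le_of_finrank_eq hspanle (by rw [hspanrank, hV2])
    have hs2span : s2 ∈ Submodule.span k {s0, s1} := by rw [hspan]; exact hs2V
    obtain ⟨α, β, hαβ⟩ := Submodule.mem_span_pair.1 hs2span
    have hα : α ≠ 0 := by
      intro h
      apply hs20
      rw [h, zero_smul, zero_add] at hαβ
      apply h12 s2 _ hs2W
      rw [← hαβ]
      exact Submodule.smul_mem _ _ hs1W
    have hβ : β ≠ 0 := by
      intro h
      apply hs20
      rw [h, zero_smul, add_zero] at hαβ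
      apply h02 s2 _ hs2W
      rw [← hαβ]
      exact Submodule.smul_mem _ _ hs0W
    have hvL : ((α • s0, β • s1) : k[X] × k[X]) ∈ L := by
      rw [hL]
      refine ⟨Submodule.smul_mem _ _ hs0W, Submodule.smul_mem _ _ hs1W, ?_⟩
      change α • s0 + β • s1 ∈ W2
      rw [hαβ]
      exact hs2W
    have hv0 : ((α • s0, β • s1) : k[X] × k[X]) ≠ 0 := by
      intro h
      have h1 : α • s0 = 0 := (Prod.mk_eq_zero.1 h).1
      rcases smul_eq_zero.1 h1 with h2 | h2
      · exact hα h2
      · exact hs00 h2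
    refine ⟨(α • s0, β • s1), hvL, hv0, ?_⟩
    obtain ⟨-, hr2, -⟩ := hA _ hvL hv0
    apply Submodule.eq_of_le_of_finrank_eq
    · rw [Submodule.span_le]
      intro x hx
      rcases hx with rfl | rfl
      · exact Submodule.smul_mem _ _ hs0V
      · exact Submodule.smul_mem _ _ hs1V
    · rw [hr2, hV2]
  · -- injectivity up to scalars
    intro v hv w hw hv0 hw0 hspan
    obtain ⟨hF0, hG0⟩ := hne v hv hv0
    have hv' := (hL v).1 hv
    have hw' := (hL w).1 hw
    obtain ⟨hv1, hv2, hv3⟩ := hv'
    obtain ⟨hw1, hw2, hw3⟩ := hw'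
    have hF' : w.1 ∈ Submodule.span k {v.1, v.2} := by
      rw [hspan]
      exact Submodule.subset_span (by simp)
    have hG' : w.2 ∈ Submodule.span k {v.1, v.2} := by
      rw [hspan]
      exact Submodule.subset_span (by simp)
    obtain ⟨α, β, hαβ⟩ := Submodule.mem_span_pair.1 hF'
    obtain ⟨γ', γ, hγ⟩ := Submodule.mem_span_pair.1 hG'
    have hβ : β = 0 := by
      by_contra hβ
      apply hG0
      apply h01 v.2 _ hv2
      rw [← Submodule.smul_mem_iff W0 hβ]
      have : β • v.2 = w.1 - α • v.1 := by rw [← hαβ]; abel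
      rw [this]
      exact Submodule.sub_mem _ hw1 (Submodule.smul_mem _ _ hv1)
    have hγ' : γ' = 0 := by
      by_contra hγ'
      apply hF0
      apply h01 v.1 hv1
      rw [← Submodule.smul_mem_iff W1 hγ']
      have : γ' • v.1 = w.2 - γ • v.2 := by rw [← hγ]; abel
      rw [this]
      exact Submodule.sub_mem _ hw2 (Submodule.smul_mem _ _ hv2)
    rw [hβ, zero_smul, add_zero] at hαβ
    rw [hγ', zero_smul, zero_add] at hγ
    have hαγ : γ = α := by
      by_contra hne'
      apply hG0
      apply h12 v.2 hv2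
      rw [← Submodule.smul_mem_iff W2 (sub_ne_zero.2 hne')]
      have : (γ - α) • v.2 = (w.1 + w.2) - α • (v.1 + v.2) := by
        rw [← hαβ, ← hγ, sub_smul, smul_add]
        abel
      rw [this]
      exact Submodule.sub_mem _ hw3 (Submodule.smul_mem _ _ hv3)
    refine ⟨α, ?_⟩
    apply Prod.ext
    · exact hαβ.symm
    · rw [← hγ, hαγ]
      rfl

end Groth.Agent.S13937
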