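import Groth.Statements.S1394
import Mathlib
import Groth.Agent.Lib.Helper82.CurveThrough
import Groth.Agent.Lib.Helper73.ChevalleyGen
-- import your own Groth.Agent.* helpers here

set_option autoImplicit false
universe u
open FlatMor

namespace Groth.Agent.S1394

set_option linter.style.haveILetI false

section Helpers
open IsLocalRing Polynomial
open Groth.Agent.Lib.Helper82.CurveThrough Groth.Agent.Lib.Helper73.DimFormula

/-- monic lift of an integral equation for the residue class -/
theorem exists_monic_aeval_mem {A B : Type u} [CommRing A] [CommRing B] [IsLocalRing A]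
    [IsLocalRing B] [Algebra A B] [IsLocalHom (algebraMap A B)]
    [Module.Finite (ResidueField A) (ResidueField B)] (b : B) :
    ∃ P : A[X], P.Monic ∧ aeval b P ∈ maximalIdeal B := by
  have hint : IsIntegral (ResidueField A) (residue B b) := Algebra.IsIntegral.isIntegral _
  obtain ⟨P, hPm, hP⟩ := hint
  have hl : P ∈ Polynomial.lifts (residue A) := by
    rw [Polynomial.lifts_iff_coeff_lifts]
    intro n
    exact residue_surjective _
  obtain ⟨Q, hQP, -, hQm⟩ := Polynomial.lifts_and_degree_eq_and_monic hl hPm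
  refine ⟨Q, hQm, ?_⟩
  rw [← residue_eq_zero_iff, aeval_def, hom_eval₂]
  rw [← hQP, eval₂_map] at hP
  rw [← hP]
  congr 1

/-- Step A/B: a prime in `V` not over `m_A` whose quotient has only the two obvious primes. -/
theorem exists_prime {A B : Type u} [CommRing A] [CommRing B] [IsLocalRing A] [IsLocalRing B]
    [IsNoetherianRing B] [Algebra A B] [IsLocalHom (algebraMap A B)]
    (V : Set (PrimeSpectrum B)) (hV : IsOpen V)
    (hne : ∃ q ∈ V, q.asIdeal.comap (algebraMap A B) ≠ maximalIdeal A) :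
    ∃ q : PrimeSpectrum B, q ∈ V ∧ (∃ t ∈ maximalIdeal A, algebraMap A B t ∉ q.asIdeal) ∧
      ∀ Q : Ideal B, Q.IsPrime → q.asIdeal < Q → Q = maximalIdeal B := by
  classical
  obtain ⟨q₁, hq₁V, hq₁A⟩ := hne
  obtain ⟨_, ⟨_, ⟨h, rfl⟩, rfl⟩, hq₁h, hhV⟩ :=
    PrimeSpectrum.isBasis_basic_opens.exists_subset_of_mem_open hq₁V hV
  have hq₁h' : h ∉ q₁.asIdeal := hq₁h
  obtain ⟨t, htm, htq₁⟩ : ∃ t ∈ maximalIdeal A, algebraMap A B t ∉ q₁.asIdeal := by
    by_contra hcon
    push_neg at hcon
    apply hq₁A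
    refine le_antisymm (le_maximalIdeal (Ideal.comap_ne_top _ q₁.2.ne_top)) ?_
    intro t ht
    exact hcon t ht
  set a : B := h * algebraMap A B t with ha
  have haq₁ : a ∉ q₁.asIdeal := fun h' =>
    (q₁.2.mem_or_mem h').elim hq₁h' htq₁
  obtain ⟨q, ⟨hqp, haq⟩, hqmax⟩ := set_has_maximal_iff_noetherian.2
    (inferInstance : IsNoetherian B B) {q : Ideal B | q.IsPrime ∧ a ∉ q} ⟨q₁.asIdeal, q₁.2, haq₁⟩
  have hhq : h ∉ q := fun h' => haq (Ideal.mul_mem_right _ q h')
  have htq : algebraMap A B t ∉ q := fun h' => haq (Ideal.mul_mem_left q _ h')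
  refine ⟨⟨q, hqp⟩, hhV hhq, ⟨t, htm, htq⟩, ?_⟩
  intro Q hQ hqQ
  -- work in the quotient
  haveI := hqp
  haveI : IsLocalRing (B ⧸ q) := IsLocalRing.of_surjective' _ Ideal.Quotient.mk_surjective
  haveI : IsLocalHom (Ideal.Quotient.mk q) := .of_surjective _ Ideal.Quotient.mk_surjective
  have ha0 : Ideal.Quotient.mk q a ≠ 0 := by rwa [Ne, Ideal.Quotient.eq_zero_iff_mem]
  have ham : a ∈ maximalIdeal B := by
    apply Ideal.mul_mem_left
    exact map_nonunit (algebraMap A B) t htm
  have ham' : Ideal.Quotient.mk q a ∈ maximalIdeal (B ⧸ q) :=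
    map_nonunit (Ideal.Quotient.mk q) a ham
  have hall : ∀ Q' : Ideal (B ⧸ q), Q'.IsPrime → Q' ≠ ⊥ → Ideal.Quotient.mk q a ∈ Q' := by
    intro Q' hQ' hQ'0
    by_contra hna
    have h1 : (Q'.comap (Ideal.Quotient.mk q)) ∈ {q : Ideal B | q.IsPrime ∧ a ∉ q} :=
      ⟨Ideal.comap_isPrime _ _, hna⟩
    have h2 : q ≤ Q'.comap (Ideal.Quotient.mk q) := by
      intro x hx
      rw [Ideal.mem_comap, Ideal.Quotient.eq_zero_iff_mem.mpr hx]
      exact Q'.zero_mem
    have h3 : q ≠ Q'.comap (Ideal.Quotient.mk q) := by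
      intro heq
      apply hQ'0
      rw [eq_bot_iff]
      intro z hz
      obtain ⟨x, rfl⟩ := Ideal.Quotient.mk_surjective z
      have : x ∈ Q'.comap (Ideal.Quotient.mk q) := hz
      rw [← heq] at this
      rw [Ideal.mem_bot, Ideal.Quotient.eq_zero_iff_mem]
      exact this
    exact hqmax _ h1 (lt_of_le_of_ne h2 h3)
  have hQ' : (Q.map (Ideal.Quotient.mk q)).IsPrime := by
    apply Ideal.map_isPrime_of_surjective Ideal.Quotient.mk_surjective
    rw [Ideal.mk_ker]
    exact hqQ.le
  have hcm : (Q.map (Ideal.Quotient.mk q)).comap (Ideal.Quotient.mk q) = Q := by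
    rw [Ideal.comap_map_of_surjective _ Ideal.Quotient.mk_surjective, ← RingHom.ker_eq_comap_bot,
      Ideal.mk_ker, sup_eq_left]
    exact hqQ.le
  have hQ'0 : Q.map (Ideal.Quotient.mk q) ≠ ⊥ := by
    intro h0
    rw [h0, ← RingHom.ker_eq_comap_bot, Ideal.mk_ker] at hcm
    exact hqQ.ne hcm
  have h4 := eq_maximalIdeal_of_forall_mem (Ideal.Quotient.mk q a) ha0 ham' hall
    (Q.map (Ideal.Quotient.mk q)) hQ'0
  rw [← hcm, h4, IsLocalRing.maximalIdeal_comap]   -- hmm

theorem quasiFinite_quotient {A B : Type u} [CommRing A] [CommRing B] [IsLocalRing A]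
    [IsLocalRing B] [Algebra A B] [IsLocalHom (algebraMap A B)] [Algebra.EssFiniteType A B]
    [Module.Finite (ResidueField A) (ResidueField B)] (q : Ideal B) [hq : q.IsPrime]
    (t : A) (htm : t ∈ maximalIdeal A) (htq : algebraMap A B t ∉ q)
    (hKP : ∀ Q : Ideal B, Q.IsPrime → q < Q → Q = maximalIdeal B) :
    Algebra.QuasiFinite A (B ⧸ q) := by
  haveI : IsLocalRing (B ⧸ q) := IsLocalRing.of_surjective' _ Ideal.Quotient.mk_surjective
  haveI : IsLocalHom (Ideal.Quotient.mk q) := .of_surjective _ Ideal.Quotient.mk_surjective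
  -- primes of the quotient
  have hKP' : ∀ Q' : Ideal (B ⧸ q), Q'.IsPrime → Q' ≠ ⊥ → Q' = maximalIdeal (B ⧸ q) := by
    intro Q' hQ' hQ'0
    have h1 : q < Q'.comap (Ideal.Quotient.mk q) := by
      refine lt_of_le_of_ne ?_ ?_
      · intro x hx
        rw [Ideal.mem_comap, Ideal.Quotient.eq_zero_iff_mem.mpr hx]
        exact Q'.zero_mem
      · intro heq
        apply hQ'0
        rw [eq_bot_iff]
        intro z hz
        obtain ⟨x, rfl⟩ := Ideal.Quotient.mk_surjective z
        have : x ∈ Q'.comap (Ideal.Quotient.mk q) := hz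
        rw [← heq] at this
        rw [Ideal.mem_bot, Ideal.Quotient.eq_zero_iff_mem]
        exact this
    have h2 := hKP _ (Ideal.comap_isPrime _ _) h1
    rw [← Ideal.map_comap_of_surjective _ Ideal.Quotient.mk_surjective Q', h2]
    rw [← IsLocalRing.maximalIdeal_comap (Ideal.Quotient.mk q),
      Ideal.map_comap_of_surjective _ Ideal.Quotient.mk_surjective]
  set D := B ⧸ q with hD
  set D₀ := Algebra.EssFiniteType.subalgebra A D with hD₀
  set M := Algebra.EssFiniteType.submonoid A D with hM
  set 𝔫 : Ideal D₀ := (maximalIdeal D).comap (algebraMap D₀ D) with h𝔫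
  haveI : 𝔫.IsPrime := Ideal.comap_isPrime _ _
  have hMmem : ∀ x : D₀, x ∈ M ↔ x ∉ 𝔫 := by
    intro x
    rw [h𝔫, Ideal.mem_comap, mem_maximalIdeal, mem_nonunits_iff, not_not]
    rfl
  have hMeq : M = 𝔫.primeCompl := by
    ext x
    rw [hMmem]
    rfl
  -- `t` maps into `𝔫`
  have htD : algebraMap A D t ∈ maximalIdeal D := by
    have h1 : algebraMap A D t = Ideal.Quotient.mk q (algebraMap A B t) := rfl
    rw [h1]
    exact map_nonunit (Ideal.Quotient.mk q) _ (map_nonunit (algebraMap A B) t htm)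
  have htD0 : algebraMap A D t ≠ 0 := by
    have h1 : algebraMap A D t = Ideal.Quotient.mk q (algebraMap A B t) := rfl
    rw [h1, Ne, Ideal.Quotient.eq_zero_iff_mem]
    exact htq
  have ht𝔫 : t ∈ 𝔫.under A := by
    rw [Ideal.under_def, Ideal.mem_comap, h𝔫, Ideal.mem_comap, ← IsScalarTower.algebraMap_apply]
    exact htD
  have hqf : Algebra.QuasiFiniteAt A 𝔫 := by
    apply quasiFiniteAt_of_forall_trdeg_eq_zero'
    intro q' hq' hq'le hq'lo
    -- `q'` is disjoint from `M`
    have hdisj : Disjoint (M : Set D₀) (q' : Set D₀) := by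
      rw [Set.disjoint_left]
      intro x hxM hxq'
      exact (hMmem x).mp hxM (hq'le hxq')
    have hQ'p : (q'.map (algebraMap D₀ D)).IsPrime :=
      IsLocalization.isPrime_of_isPrime_disjoint M D q' hq' hdisj
    have hcm : (q'.map (algebraMap D₀ D)).comap (algebraMap D₀ D) = q' :=
      IsLocalization.under_map_of_isPrime_disjoint M D hq' hdisj
    have hq'eq : q' = 𝔫 := by
      by_cases h0 : q'.map (algebraMap D₀ D) = ⊥
      · exfalso
        have h1 : algebraMap A D₀ t ∈ q' := by
          have : t ∈ q'.under A := by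
            rw [← hq'lo.over]; exact ht𝔫
          exact this
        have h2 : algebraMap D₀ D (algebraMap A D₀ t) ∈ q'.map (algebraMap D₀ D) :=
          Ideal.mem_map_of_mem _ h1
        rw [h0, Ideal.mem_bot, ← IsScalarTower.algebraMap_apply] at h2
        exact htD0 h2
      · have h1 := hKP' _ hQ'p h0
        rw [← hcm, h1]
    subst hq'eq
    have hint : Algebra.IsIntegral (A ⧸ Ideal.under A 𝔫) (D₀ ⧸ 𝔫) := by
      constructor
      intro z
      obtain ⟨x, rfl⟩ := Ideal.Quotient.mk_surjective z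
      obtain ⟨b, hb⟩ := Ideal.Quotient.mk_surjective (x : D)
      obtain ⟨P, hPm, hP⟩ := exists_monic_aeval_mem (A := A) b
      have h1 : aeval x P ∈ 𝔫 := by
        rw [h𝔫, Ideal.mem_comap]
        have h2 : algebraMap D₀ D (aeval x P) = aeval (x : D) P := (Subalgebra.aeval_coe D₀ x P).symm
        rw [h2, ← hb]
        have h3 : aeval (Ideal.Quotient.mk q b) P = Ideal.Quotient.mk q (aeval b P) := by
          have : (Ideal.Quotient.mk q b : D) = Ideal.Quotient.mkₐ A q b := rfl
          rw [this, aeval_algHom_apply]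
          rfl
        rw [h3]
        exact map_nonunit (Ideal.Quotient.mk q) _ hP
      refine ⟨P.map (algebraMap A (A ⧸ Ideal.under A 𝔫)), hPm.map _, ?_⟩
      rw [eval₂_map, ← IsScalarTower.algebraMap_eq]
      have h4 : eval₂ (algebraMap A (D₀ ⧸ 𝔫)) (Ideal.Quotient.mk 𝔫 x) P =
          Ideal.Quotient.mk 𝔫 (aeval x P) := by
        rw [aeval_def, hom_eval₂]
        rfl
      rw [h4, Ideal.Quotient.eq_zero_iff_mem]
      exact h1
    have : Algebra.IsAlgebraic (A ⧸ Ideal.under A 𝔫) (D₀ ⧸ 𝔫) := Algebra.IsIntegral.isAlgebraic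
    exact trdeg_eq_zero
  -- transfer to `D`
  haveI : IsLocalization.AtPrime D 𝔫 := by
    change IsLocalization 𝔫.primeCompl D
    rw [← hMeq]
    infer_instance
  let e : Localization.AtPrime 𝔫 ≃ₐ[A] D :=
    (IsLocalization.algEquiv 𝔫.primeCompl (Localization.AtPrime 𝔫) D).restrictScalars A
  exact (Algebra.QuasiFinite.iff_of_algEquiv e).mp hqf

end Helpers

/-- Let A → B be a local homomorphism of local rings with A Noetherian, B essentially of finite type
over A, and the residue field of B finite over that of A. Let V ⊆ Spec B be an open subset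
containing some prime that does not lie over the maximal ideal of A. Then V contains a prime q, not
lying over the maximal ideal of A, such that B/q is quasi-finite over A in the sense that every
fibre ring of A → B/q is finite over the corresponding residue field of A. (The published statement
is stronger: there B/q is moreover a localization of a quasi-finite A-algebra of finite type, which
implies this.) -/
theorem result {A B : Type u} [CommRing A] [CommRing B] [IsLocalRing A] [IsLocalRing B] [IsNoetherianRing A]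
    [Algebra A B] [IsLocalHom (algebraMap A B)] [Algebra.EssFiniteType A B]
    [Module.Finite (IsLocalRing.ResidueField A) (IsLocalRing.ResidueField B)]
    (V : Set (PrimeSpectrum B)) (hV : IsOpen V) (hne : ∃ q ∈ V, q.asIdeal.comap (algebraMap A B) ≠ IsLocalRing.maximalIdeal A) :
    ∃ q ∈ V, q.asIdeal.comap (algebraMap A B) ≠ IsLocalRing.maximalIdeal A ∧ Algebra.QuasiFinite A (B ⧸ q.asIdeal) := by
  haveI : IsNoetherianRing B := Algebra.EssFiniteType.isNoetherianRing A B
  obtain ⟨q, hqV, ⟨t, htm, htq⟩, hKP⟩ := exists_prime V hV hne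
  refine ⟨q, hqV, ?_, ?_⟩
  · intro h
    apply htq
    have : t ∈ q.asIdeal.comap (algebraMap A B) := h ▸ htm
    exact this
  · haveI := q.2
    exact quasiFinite_quotient q.asIdeal t htm htq hKP

end Groth.Agent.S1394
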