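import Groth.Statements.S13951
import Groth.Agent.Lib.Helper69.ReducedSmoothLocal

set_option autoImplicit false
universe u
open TateLoc

namespace Groth.Agent.S13951

open CategoryTheory AlgebraicGeometry CategoryTheory.Limits MonObj in
theorem key (S : Scheme.{u}) [IsReduced S]
    (I : Over S) [GrpObj I] [IsFinite I.hom]
    (hconn : ∀ s : S, ConnectedSpace ↥(I.hom.fiber s))
    (T : Over S) (hT : Etale T.hom) : Subsingleton (T ⟶ I) := by
  haveI : IsReduced T.left := Groth.Agent.Lib.Helper69.ReducedSmoothLocal.isReduced_of_smooth T.hom
  let e : S ⟶ I.left := η[I].left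
  have he : e ≫ I.hom = 𝟙 S := Over.w η[I]
  haveI : IsClosedImmersion (e ≫ I.hom) := by rw [he]; infer_instance
  haveI : IsClosedImmersion e := IsClosedImmersion.of_comp e I.hom
  haveI : Surjective e := by
    constructor
    intro x
    refine ⟨I.hom x, ?_⟩
    set s := I.hom x
    haveI := hconn s
    haveI : Subsingleton ↥(I.hom.fiber s) := PreconnectedSpace.trivial_of_discrete
    have h1 : x ∈ Set.range (I.hom.fiberι s) := by
      rw [Scheme.Hom.range_fiberι]; rfl
    have h2 : e s ∈ Set.range (I.hom.fiberι s) := by
      rw [Scheme.Hom.range_fiberι]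
      show I.hom (e s) = s
      rw [← Scheme.Hom.comp_apply, he]; rfl
    obtain ⟨a, ha⟩ := h1
    obtain ⟨b, hb⟩ := h2
    rw [← hb, ← ha, Subsingleton.elim a b]
  have main : ∀ σ : T ⟶ I, σ.left = T.hom ≫ e := by
    intro σ
    haveI : IsIso (pullback.fst σ.left e) := isIso_of_isClosedImmersion_of_surjective _
    have h1 : σ.left = inv (pullback.fst σ.left e) ≫ pullback.snd σ.left e ≫ e := by
      rw [← pullback.condition, IsIso.inv_hom_id_assoc]
    have h2 : inv (pullback.fst σ.left e) ≫ pullback.snd σ.left e = T.hom := by
      have := congrArg (· ≫ I.hom) h1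
      simp only [Category.assoc, he, Category.comp_id, Over.w] at this
      exact this.symm
    rw [h1, ← Category.assoc, h2]
  constructor
  intro σ τ
  apply Over.OverMorphism.ext
  rw [main σ, main τ]

open CategoryTheory AlgebraicGeometry CategoryTheory.Limits in
/-- Let S be a reduced scheme and I a finite locally free commutative S-group scheme (finite, flat, of
finite presentation) whose fibres over all points of S are connected. Then the restriction of the
sheaf of points of I from the big fppf site of S to the small etale site of S is the zero sheaf. -/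
theorem result (S : Scheme.{u}) [IsReduced S]
    (I : Over S) [GrpObj I] [IsCommMonObj I] [IsFinite I.hom] [Flat I.hom] [LocallyOfFinitePresentation I.hom]
    (hconn : ∀ s : S, ConnectedSpace ↥(I.hom.fiber s)) :
    IsZero ((BigSite.resEt Scheme.fppfPrecoverage S).obj (CGrpSh.pts Scheme.fppfPrecoverage I)) := by
  rw [IsZero.iff_id_eq_zero]
  apply Sheaf.hom_ext
  ext U x
  have hU : Etale ((EtFppf.a S).obj U.unop).hom := U.unop.prop
  haveI := key S I hconn _ hU
  apply ULift.ext
  exact Additive.toMul.injective (Subsingleton.elim (α := ((EtFppf.a S).obj U.unop ⟶ I)) _ _)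

end Groth.Agent.S13951
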