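import Groth.Statements.S13953
-- import your own Groth.Agent.* helpers here

set_option autoImplicit false
universe u
open TateLoc

namespace Groth.Agent.S13953

/-- Let (R_i) be a family of local commutative rings and R = ∏ R_i. Any open cover of Spec R can be
refined by one coming from a finite partition of the index set: there is a map c from the index set
to a finite set such that, for each value m, the basic open subset of Spec R defined by the
idempotent which is 1 at the indices with c i = m and 0 elsewhere (this open is the spectrum of the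
product of the R_i over that class) is contained in some member of the cover. -/
theorem result {ι : Type u} (R : ι → Type u)
    [∀ i, CommRing (R i)] [∀ i, IsLocalRing (R i)] {J : Type u}
    (U : J → TopologicalSpace.Opens (PrimeSpectrum (∀ i, R i))) (hU : ⨆ j, U j = ⊤) :
    ∃ (n : ℕ) (c : ι → Fin n), ∀ m : Fin n, ∃ j : J,
      PrimeSpectrum.basicOpen (fun i => if c i = m then (1 : R i) else 0) ≤ U j := by
  classical
  set A := (∀ i, R i) with hA
  -- for each point a basic open inside a member of the cover
  have hpt : ∀ x : PrimeSpectrum A, ∃ (f : A) (j : J), x ∈ PrimeSpectrum.basicOpen f ∧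
      PrimeSpectrum.basicOpen f ≤ U j := by
    intro x
    have hx : x ∈ (⨆ j, U j : TopologicalSpace.Opens (PrimeSpectrum A)) := by rw [hU]; trivial
    obtain ⟨j, hj⟩ := TopologicalSpace.Opens.mem_iSup.1 hx
    obtain ⟨V, ⟨f, rfl⟩, hxV, hVU⟩ :=
      PrimeSpectrum.isTopologicalBasis_basic_opens.exists_subset_of_mem_open hj (U j).isOpen
    exact ⟨f, j, hxV, hVU⟩
  choose f j hxf hfU using hpt
  obtain ⟨t, ht⟩ := isCompact_univ.elim_finite_subcover
    (fun x : PrimeSpectrum A => (PrimeSpectrum.basicOpen (f x) : Set (PrimeSpectrum A)))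
    (fun x => (PrimeSpectrum.basicOpen (f x)).isOpen)
    (fun x _ => Set.mem_iUnion.2 ⟨x, hxf x⟩)
  -- the f x, x ∈ t, generate the unit ideal
  have hspan : Ideal.span (Set.range fun a : ↥t => f a.1) = ⊤ := by
    rw [← PrimeSpectrum.iSup_basicOpen_eq_top_iff]
    apply top_unique
    intro y _
    have hy := ht (Set.mem_univ y)
    simp only [Set.mem_iUnion] at hy
    obtain ⟨x, hxt, hyx⟩ := hy
    exact TopologicalSpace.Opens.mem_iSup.2 ⟨⟨x, hxt⟩, hyx⟩
  have h1 : (1 : A) ∈ Ideal.span (Set.range fun a : ↥t => f a.1) := by rw [hspan]; trivial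
  obtain ⟨g, hg⟩ := (Ideal.mem_span_range_iff_exists_fun).1 h1
  -- at each index some f a is a unit
  have hunit : ∀ i : ι, ∃ a : ↥t, IsUnit (f a.1 i) := by
    intro i
    by_contra hcon
    push Not at hcon
    have hsum : (∑ a : ↥t, g a * f a.1) i ∈ IsLocalRing.maximalIdeal (R i) := by
      rw [Finset.sum_apply]
      apply Submodule.sum_mem
      intro a _
      rw [Pi.mul_apply]
      exact Ideal.mul_mem_left _ _ ((IsLocalRing.mem_maximalIdeal _).2 (hcon a))
    rw [hg] at hsum
    exact (IsLocalRing.mem_maximalIdeal _).1 hsum isUnit_one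
  choose c' hc' using hunit
  let eq := t.equivFin
  refine ⟨t.card, fun i => eq (c' i), fun m => ⟨j (eq.symm m).1, ?_⟩⟩
  refine le_trans ?_ (hfU (eq.symm m).1)
  -- the idempotent is a multiple of f
  let h : A := fun i => if eq (c' i) = m then ((hc' i).unit⁻¹ : (R i)ˣ) else 0
  have hmul : (fun i => if eq (c' i) = m then (1 : R i) else 0) = f (eq.symm m).1 * h := by
    funext i
    rw [Pi.mul_apply]
    by_cases hi : eq (c' i) = m
    · have hci : c' i = eq.symm m := by rw [← hi, Equiv.symm_apply_apply]
      simp only [h, hi, if_true]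
      rw [← hci]
      exact ((hc' i).mul_val_inv).symm
    · simp only [h, hi, if_false, mul_zero]
  rw [hmul]
  exact PrimeSpectrum.basicOpen_mul_le_left _ _


end Groth.Agent.S13953
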