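import Groth.Statements.S13958
import Mathlib

set_option autoImplicit false
universe u
open TateLoc

namespace Groth.Agent.S13958

theorem exists_finiteIndex_sep {G : Type*} [CommGroup G] [Group.FG G] (A : Subgroup G) (x : G)
    (hx : x ∉ A) : ∃ N : Subgroup G, A ≤ N ∧ x ∉ N ∧ N.FiniteIndex := by
  classical
  obtain ⟨N, hAN, hmax⟩ := zorn_le_nonempty₀ {N : Subgroup G | A ≤ N ∧ x ∉ N} (by
    intro c hc hchain y hy
    refine ⟨sSup c, ⟨?_, ?_⟩, fun z hz => le_sSup hz⟩
    · exact (hc hy).1.trans (le_sSup hy)
    · rw [Subgroup.mem_sSup_of_directedOn ⟨y, hy⟩ hchain.directedOn]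
      rintro ⟨s, hs, hxs⟩
      exact (hc hs).2 hxs) A ⟨le_rfl, hx⟩
  have hN : A ≤ N ∧ x ∉ N := hmax.prop
  refine ⟨N, hN.1, hN.2, ?_⟩
  have hkey : ∀ M : Subgroup G, N < M → x ∈ M := by
    intro M hNM
    by_contra hxM
    have hM : M ∈ {N : Subgroup G | A ≤ N ∧ x ∉ N} := ⟨hN.1.trans hNM.le, hxM⟩
    exact hNM.not_ge (hmax.le_of_ge hM hNM.le)
  have htors : IsMulTorsion (G ⧸ N) := by
    intro y
    by_contra hy
    obtain ⟨g, rfl⟩ := QuotientGroup.mk_surjective y
    have hpow : ∀ k : ℕ, 0 < k → ∃ m : ℤ,
        (QuotientGroup.mk x : G ⧸ N) = ((QuotientGroup.mk g : G ⧸ N) ^ k) ^ m := by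
      intro k hk
      have hgk : g ^ k ∉ N := by
        intro h
        apply hy
        rw [isOfFinOrder_iff_pow_eq_one]
        exact ⟨k, hk, by rw [← QuotientGroup.mk_pow]; exact (QuotientGroup.eq_one_iff _).mpr h⟩
      have hlt : N < N ⊔ Subgroup.zpowers (g ^ k) := by
        refine lt_of_le_of_ne le_sup_left (fun h => hgk ?_)
        rw [h]
        exact Subgroup.mem_sup_right (Subgroup.mem_zpowers _)
      have hxM := hkey _ hlt
      obtain ⟨n, hn, z, hz, rfl⟩ := Subgroup.mem_sup.mp hxM
      obtain ⟨m, rfl⟩ := Subgroup.mem_zpowers_iff.mp hz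
      refine ⟨m, ?_⟩
      rw [QuotientGroup.mk_mul, (QuotientGroup.eq_one_iff n).mpr hn, one_mul,
        QuotientGroup.mk_zpow, QuotientGroup.mk_pow]
    obtain ⟨m, hm⟩ := hpow 1 one_pos
    rw [pow_one] at hm
    have hm0 : m ≠ 0 := by
      rintro rfl
      rw [zpow_zero] at hm
      exact hN.2 ((QuotientGroup.eq_one_iff x).mp hm)
    obtain ⟨m', hm'⟩ := hpow (2 * m.natAbs) (by
      have := Int.natAbs_pos.mpr hm0
      omega)
    rw [hm, ← zpow_natCast, ← zpow_mul] at hm'
    have hinj := (injective_zpow_iff_not_isOfFinOrder.mpr hy) hm'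
    have h1 : m.natAbs = (2 * m.natAbs) * m'.natAbs := by
      have h2 := congrArg Int.natAbs hinj
      rw [Int.natAbs_mul, Int.natAbs_natCast] at h2
      exact h2
    have hpos := Int.natAbs_pos.mpr hm0
    rcases Nat.eq_zero_or_pos m'.natAbs with h0 | h0
    · rw [h0] at h1
      omega
    · nlinarith
  have hfin : Finite (G ⧸ N) := CommGroup.finite_of_fg_isMulTorsion _ htors
  exact Subgroup.finiteIndex_of_finite_quotient

open CategoryTheory in
/-- Let A' be a finitely generated abelian group (written multiplicatively, discrete) and A a subgroup.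
If the image of x ∈ A' in the profinite completion of A' lies in the image of the profinite
completion of A under the map induced by the inclusion, then x ∈ A. (The published statement says
that the square formed by the two completion maps and the two inclusions is Cartesian; given the
injectivity of the induced map on completions, which holds here, that amounts to this membership
criterion.) -/
theorem result (A' : Type u) [CommGroup A'] [Group.FG A']
    (A : Subgroup A') (x : A')
    (hx : ProfiniteGrp.ProfiniteCompletion.etaFn (GrpCat.of A') x ∈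
      Set.range ⇑(ProfiniteGrp.profiniteCompletion.map (GrpCat.ofHom A.subtype)).hom) :
    x ∈ A := by
  by_contra hxA
  obtain ⟨N, hAN, hxN, hfin⟩ := exists_finiteIndex_sep A x hxA
  let Nn : FiniteIndexNormalSubgroup (GrpCat.of A') :=
    { toSubgroup := N, isNormal' := inferInstance, isFiniteIndex' := hfin }
  obtain ⟨z, hz⟩ := hx
  have h1 : (ProfiniteGrp.ProfiniteCompletion.etaFn (GrpCat.of A') x).1 Nn =
      (QuotientGroup.mk x : A' ⧸ N) := rfl
  have h2 : ∀ z, ((ProfiniteGrp.profiniteCompletion.map (GrpCat.ofHom A.subtype)).hom z).1 Nn =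
      (1 : A' ⧸ N) := by
    intro z
    refine (ProfiniteGrp.ProfiniteCompletion.denseRange (G := GrpCat.of A)).induction_on z ?_ ?_
    · apply isClosed_eq
      · exact (continuous_apply Nn).comp (continuous_subtype_val.comp
          (ProfiniteGrp.profiniteCompletion.map (GrpCat.ofHom A.subtype)).hom.continuous_toFun)
      · exact continuous_const
    · intro a
      have hkey : (ProfiniteGrp.profiniteCompletion.map (GrpCat.ofHom A.subtype)).hom
          (ProfiniteGrp.ProfiniteCompletion.etaFn (GrpCat.of A) a) =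
          ProfiniteGrp.ProfiniteCompletion.etaFn (GrpCat.of A') (A.subtype a) := by
        have h4 := ProfiniteGrp.ProfiniteCompletion.lift_eta
          (GrpCat.ofHom A.subtype ≫ ProfiniteGrp.ProfiniteCompletion.eta (GrpCat.of A'))
        exact ConcreteCategory.congr_hom h4 a
      rw [hkey]
      change (QuotientGroup.mk (a : A') : A' ⧸ N) = 1
      exact (QuotientGroup.eq_one_iff _).mpr (hAN a.2)
  have h3 := h2 z
  rw [hz, h1] at h3
  exact hxN ((QuotientGroup.eq_one_iff x).mp h3)

end Groth.Agent.S13958
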