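import Groth.Statements.S13959
import Groth.Agent.Lib.Helper79.FinConnTorsor

set_option autoImplicit false
universe u
open TateLoc

namespace Groth.Agent.S13959

open CategoryTheory AlgebraicGeometry in
/-- Let k be a field, L an extension field of k which is separable over k in the sense that L ⊗_k L is
reduced (not necessarily algebraic), and I an infinitesimal k-group scheme (finite over k with
one-point underlying space). If a k-scheme E with an action of I is an fppf torsor under I and
acquires a point over L, then E already has a k-point. (The published statement is the injectivity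
of H^1(k, I) → H^1(L, I); this row is its torsor form.) -/
theorem result (k : Type u) [Field k] (L : Type u) [Field L] [Algebra k L]
    [IsReduced (TensorProduct k L L)]
    (I E : Over (Spec (CommRingCat.of k))) [GrpObj I] [IsFinite I.hom] [Subsingleton ↥(I.left)]
    (a : AlgGrp.Action I E) (hE : NonAbH1.IsTorsorFor Scheme.fppfPrecoverage a)
    (hL : NonAbH1.HasSectionOver E (Spec.map (CommRingCat.ofHom (algebraMap k L)))) :
    NonAbH1.HasSectionOver E (𝟙 (Spec (CommRingCat.of k))) := by
  have : Nonempty ↥(I.left) := ⟨(MonObj.one (X := I)).left (⊥ : PrimeSpectrum k)⟩
  have : ConnectedSpace ↥(I.left) := inferInstance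
  obtain ⟨x₁, hx₁⟩ := hL
  exact Groth.Agent.Lib.Helper79.FinConnTorsor.hasSection_of_point a hE.1 L x₁ hx₁

end Groth.Agent.S13959
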