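import Groth.Statements.S13963
import Mathlib.Topology.Algebra.Group.OpenMapping
import Mathlib.Topology.Algebra.Group.Pointwise
import Mathlib.Topology.Baire.LocallyCompactRegular
-- import your own Groth.Agent.* helpers here

set_option autoImplicit false
universe u
open TateLoc

namespace Groth.Agent.S13963

/-- Let A' → A → A'' be continuous homomorphisms of locally compact, second-countable, Hausdorff abelian
topological groups which form a short exact sequence of abstract groups (the first injective, the
second surjective, image equal to kernel). If A' and A'' are compact, then A is compact. -/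
theorem result (A' A A'' : Type u)
    [AddCommGroup A'] [TopologicalSpace A'] [IsTopologicalAddGroup A'] [SecondCountableTopology A'] [T2Space A']
    [CompactSpace A']
    [AddCommGroup A] [TopologicalSpace A] [IsTopologicalAddGroup A] [LocallyCompactSpace A]
    [SecondCountableTopology A] [T2Space A]
    [AddCommGroup A''] [TopologicalSpace A''] [IsTopologicalAddGroup A''] [SecondCountableTopology A''] [T2Space A'']
    [CompactSpace A'']
    (f : A' →+ A) (g : A →+ A'') (hf : Continuous f) (hg : Continuous g)
    (hinj : Function.Injective f) (hsurj : Function.Surjective g) (hex : g.ker = f.range) :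
    CompactSpace A := by
  classical
  have : SigmaCompactSpace A := inferInstance
  have : BaireSpace A'' := inferInstance
  have hopen : IsOpenMap g := AddMonoidHom.isOpenMap_of_sigmaCompact g hsurj hg
  -- a compact neighbourhood of 0
  obtain ⟨K, hKc, hK0⟩ := exists_compact_mem_nhds (0 : A)
  -- the kernel is compact
  have hker : IsCompact (Set.range f) := isCompact_range hf
  -- the images of translates of the interior cover A''
  have hcov : ∀ y : A'', ∃ a : A, y ∈ g '' ((fun x => a + x) '' interior K) := by
    intro y
    obtain ⟨a, rfl⟩ := hsurj y
    refine ⟨a, a, ⟨0, mem_interior_iff_mem_nhds.2 hK0, by simp⟩, rfl⟩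
  have hopenU : ∀ a : A, IsOpen (g '' ((fun x => a + x) '' interior K)) := by
    intro a
    apply hopen
    exact (isOpenMap_add_left a) _ isOpen_interior
  obtain ⟨t, ht⟩ := isCompact_univ.elim_finite_subcover
    (fun a : A => g '' ((fun x => a + x) '' interior K)) hopenU
    (by
      intro y _
      obtain ⟨a, ha⟩ := hcov y
      exact Set.mem_iUnion.2 ⟨a, ha⟩)
  -- A is a finite union of compact sets
  have hpiece : ∀ a : A, IsCompact ((fun q : A × A => a + q.1 + q.2) '' (K ×ˢ Set.range f)) := by
    intro a
    apply (hKc.prod hker).image
    fun_prop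
  have hAll : (Set.univ : Set A) ⊆ ⋃ a ∈ t, (fun q : A × A => a + q.1 + q.2) '' (K ×ˢ Set.range f) := by
    intro x _
    have hx := ht (Set.mem_univ (g x))
    simp only [Set.mem_iUnion] at hx
    obtain ⟨a, hat, z, ⟨w, hw, rfl⟩, hz⟩ := hx
    have hmem : x - (a + w) ∈ g.ker := by
      rw [AddMonoidHom.mem_ker, map_sub, hz, sub_self]
    rw [hex] at hmem
    simp only [Set.mem_iUnion]
    refine ⟨a, hat, (w, x - (a + w)), ⟨interior_subset hw, hmem⟩, ?_⟩
    show a + w + (x - (a + w)) = x
    abel
  have : IsCompact (Set.univ : Set A) :=
    (t.isCompact_biUnion (fun a _ => hpiece a)).of_isClosed_subset isClosed_univ hAll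
  exact isCompact_univ_iff.1 this


end Groth.Agent.S13963
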