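import Groth.Statements.S13972
import Groth.Agent.Lib.Helper27.KzLift
import Groth.Agent.Lib.Helper27.KzNak

set_option autoImplicit false
universe u
open LCI

namespace Groth.Agent.S13972

/-- Let A' be an Artinian local ring, I a proper ideal of A', A = A'/I, R' a Noetherian A'-algebra flat
over A' and R = R'/IR'. Let f₁, …, f_r ∈ R be a Koszul-regular sequence (its Koszul complex is
acyclic in nonzero degrees) such that R/(f₁, …, f_r) is flat over A. Then: (1) for every choice of
lifts f'₁, …, f'_r ∈ R' of the f_i, the quotient R'/(f'₁, …, f'_r) is flat over A' and f'₁, …, f'_r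
is a Koszul-regular sequence in R'; (2) if J' ⊆ R' is an ideal with R'/J' flat over A' whose image
in R is the ideal (f₁, …, f_r), then J' is generated by any lifts f'₁, …, f'_r ∈ J' of the f_i. (The
published statement takes R' = R₀ ⊗_Λ A' for a flat Λ-algebra R₀ and a surjection A' → A of Artinian
local Λ-algebras; this row assumes only that R' is Noetherian and flat over A' and that I is a
proper ideal, which is what its proof uses. Regularity of a sequence is taken there in every
localization at a prime containing the ideal it generates, which over a Noetherian ring is the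
Koszul-acyclicity used in the proof and stated here.) -/
theorem result
    {A' : Type u} [CommRing A'] [IsLocalRing A'] [IsArtinianRing A'] (I : Ideal A') (hI : I ≠ ⊤)
    {R' : Type u} [CommRing R'] [Algebra A' R'] [IsNoetherianRing R'] [Module.Flat A' R']
    (r : ℕ) (f : Fin r → R' ⧸ I.map (algebraMap A' R'))
    (hf : LCI.IsKoszulRegularSeq (R' ⧸ I.map (algebraMap A' R')) (List.ofFn f))
    [Module.Flat (A' ⧸ I) ((R' ⧸ I.map (algebraMap A' R')) ⧸ Ideal.span (Set.range f))] :
    (∀ f' : Fin r → R', (∀ i, Ideal.Quotient.mk (I.map (algebraMap A' R')) (f' i) = f i) →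
        Module.Flat A' (R' ⧸ Ideal.span (Set.range f')) ∧ LCI.IsKoszulRegularSeq R' (List.ofFn f')) ∧
    (∀ (J' : Ideal R'), Module.Flat A' (R' ⧸ J') →
        J'.map (Ideal.Quotient.mk (I.map (algebraMap A' R'))) = Ideal.span (Set.range f) →
        ∀ f' : Fin r → R', (∀ i, f' i ∈ J') →
          (∀ i, Ideal.Quotient.mk (I.map (algebraMap A' R')) (f' i) = f i) →
          J' = Ideal.span (Set.range f')) := by
  have hle : I ≤ IsLocalRing.maximalIdeal A' := IsLocalRing.le_maximalIdeal hI
  obtain ⟨m, hm⟩ : ∃ m, I ^ m = ⊥ := by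
    have h := IsArtinianRing.isNilpotent_jacobson_bot (R := A')
    rw [IsLocalRing.jacobson_eq_maximalIdeal ⊥ bot_ne_top] at h
    obtain ⟨m, hm⟩ := h
    refine ⟨m, le_bot_iff.mp ?_⟩
    rw [← Ideal.zero_eq_bot, ← hm]
    exact Ideal.pow_right_mono hle m
  have hlist : ∀ f' : Fin r → R',
      (∀ i, Ideal.Quotient.mk (I.map (algebraMap A' R')) (f' i) = f i) →
      (List.ofFn f').map (Ideal.Quotient.mk (I.map (algebraMap A' R'))) = List.ofFn f := by
    intro f' hf'
    rw [List.map_ofFn]
    congr 1
    funext i
    exact hf' i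
  have hspan : ∀ {S : Type u} [CommRing S] (g : Fin r → S),
      Ideal.ofList (List.ofFn g) = Ideal.span (Set.range g) := by
    intro S _ g
    unfold Ideal.ofList
    congr 1
    ext x
    simp [List.mem_ofFn]
  constructor
  · intro f' hf'
    have hreg' : LCI.IsKoszulRegularSeq (R' ⧸ I.map (algebraMap A' R'))
        ((List.ofFn f').map (Ideal.Quotient.mk (I.map (algebraMap A' R')))) := by
      rw [hlist f' hf']; exact hf
    have hK : Ideal.span (Set.range f) =
        (Ideal.ofList (List.ofFn f')).map (Ideal.Quotient.mk (I.map (algebraMap A' R'))) := by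
      rw [Ideal.map_ofList, hlist f' hf', hspan]
    obtain ⟨h1, h2⟩ := Groth.Agent.Lib.Helper27.KzLift.lift_main (List.ofFn f') I m hm hreg'
      (Ideal.span (Set.range f)) hK
    rw [hspan] at h2
    exact ⟨h2, h1⟩
  · intro J' hJ' hmap f' hmem hf'
    have := hJ'
    refine Groth.Agent.Lib.Helper27.KzNak.ideal_eq_of_flat_quot I m hm
      (Ideal.span (Set.range f')) J' (Ideal.span_le.mpr ?_) ?_
    · rintro _ ⟨i, rfl⟩
      exact hmem i
    · rw [hmap, Ideal.map_span, ← Set.range_comp]
      congr 2
      funext i
      exact (hf' i).symm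

end Groth.Agent.S13972
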