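import Groth.Statements.S13978
import Mathlib.LinearAlgebra.TensorProduct.Basis
import Mathlib.LinearAlgebra.FreeModule.Basic
import Mathlib.LinearAlgebra.Basis.VectorSpace
import Mathlib.LinearAlgebra.Isomorphisms
-- import your own Groth.Agent.* helpers here

set_option autoImplicit false
universe u v
open CategoryTheory
open scoped TensorProduct
open ArtFun ArtFun.ObsTheory

namespace Groth.Agent.S13978

open ArtFun.Art in
theorem mem_range_rTensor_of_forall_functional {k : Type u} [Field k] {V J : Type u}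
    [AddCommGroup V] [Module k V] [AddCommGroup J] [Module k J] (Ω : Submodule k V) (ω : V ⊗[k] J)
    (h : ∀ ψ : J →ₗ[k] k, TensorProduct.rid k V (LinearMap.lTensor V ψ ω) ∈ Ω) :
    ω ∈ LinearMap.range (LinearMap.rTensor J Ω.subtype) := by
  classical
  let b := Module.Basis.ofVectorSpace k J
  set c := TensorProduct.equivFinsuppOfBasisRight b ω with hc
  have hω : ω = c.sum fun i m => m ⊗ₜ b i := by
    rw [← TensorProduct.equivFinsuppOfBasisRight_symm_apply, hc, LinearEquiv.symm_apply_apply]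
  have hci : ∀ i, c i ∈ Ω := fun i => by
    rw [hc, TensorProduct.equivFinsuppOfBasisRight_apply]; exact h _
  rw [hω]
  exact Submodule.sum_mem _ fun i _ => ⟨(⟨c i, hci i⟩ : Ω) ⊗ₜ b i, by simp⟩


/-- For obstruction theories of functors in the vector-space form, let k be a field, F a functor on
Artinian local k-algebras with residue field k and (V, ω) an obstruction theory for F — for each
surjection p : C' → C whose kernel J is killed by the maximal ideal and each u ∈ F(C) an obstruction
ω(p, u) ∈ V ⊗_k J, zero exactly when u lifts, and compatible with replacing C' → C by C'/K → C for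
ideals K ≤ J. Let Ω ⊆ V be the subspace spanned by the obstructions along tiny extensions (those p
whose kernel is one-dimensional), transported into V by the isomorphisms V ⊗ J ≅ V coming from
linear isomorphisms J ≅ k. Then for every p and u the obstruction ω(p, u) lies in the image of Ω ⊗_k
J → V ⊗_k J. (The published statement is for deformation categories and obstruction theories
functorial along all morphisms of extensions; this row assumes functoriality along quotients C'/K
only, which is all its proof uses, and no condition on F.) -/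
theorem result {k : Type u} [Field k]
    {F : ArtFun.Art k k ⥤ Type v} {V : Type u} [AddCommGroup V] [Module k V]
    (T : ArtFun.ObsTheory F V) {C' C : ArtFun.Art k k} (p : C' ⟶ C) (hp : ArtFun.Art.IsSemismallExt p)
    (u : F.obj C) :
    T.obs p hp u ∈ LinearMap.range (LinearMap.rTensor (↥(RingHom.ker p.toAlgHom))
      (Submodule.span k {v : V | ∃ (B' B : ArtFun.Art k k) (t : B' ⟶ B) (ht : ArtFun.Art.IsSmallExt t)
          (w : F.obj B) (φ : ↥(RingHom.ker t.toAlgHom) ≃ₗ[k] k),
          v = TensorProduct.rid k V (LinearMap.lTensor V φ.toLinearMap (T.obs t ht.isSemismallExt w))}).subtype) := by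
  classical
  set J : Ideal C' := RingHom.ker p.toAlgHom with hJ
  apply mem_range_rTensor_of_forall_functional
  intro ψ
  set Ωset : Set V := {v : V | ∃ (B' B : ArtFun.Art k k) (t : B' ⟶ B) (ht : ArtFun.Art.IsSmallExt t)
          (w : F.obj B) (φ : ↥(RingHom.ker t.toAlgHom) ≃ₗ[k] k),
          v = TensorProduct.rid k V (LinearMap.lTensor V φ.toLinearMap (T.obs t ht.isSemismallExt w))}
    with hΩ
  by_cases hψ0 : ψ = 0
  · rw [hψ0]
    simp
  -- an element with ψ j₀ = 1
  obtain ⟨j₀, hj₀⟩ : ∃ j₀ : ↥J, ψ j₀ = 1 := by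
    obtain ⟨j, hj⟩ : ∃ j, ψ j ≠ 0 := by
      by_contra hcon
      push Not at hcon
      exact hψ0 (LinearMap.ext hcon)
    exact ⟨(ψ j)⁻¹ • j, by rw [map_smul, smul_eq_mul, inv_mul_cancel₀ hj]⟩
  have hmJ : IsLocalRing.maximalIdeal C' * J = ⊥ := hp.2
  -- scalars act on J through the residue map
  have key : ∀ (c x : C'), x ∈ J → c * x = algebraMap k C' (C'.res c) * x := by
    intro c x hx
    have h1 : c - algebraMap k C' (C'.res c) ∈ IsLocalRing.maximalIdeal C' := by
      rw [ArtFun.Art.mem_maximalIdeal_iff, map_sub, AlgHom.commutes]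
      simp
    have h2 : (c - algebraMap k C' (C'.res c)) * x ∈ IsLocalRing.maximalIdeal C' * J :=
      Ideal.mul_mem_mul h1 hx
    rw [hmJ, Ideal.mem_bot, sub_mul, sub_eq_zero] at h2
    exact h2
  let K : Ideal C' :=
    { carrier := {x | ∃ h : x ∈ J, ψ ⟨x, h⟩ = 0}
      zero_mem' := ⟨J.zero_mem, map_zero ψ⟩
      add_mem' := by
        rintro a b ⟨ha, ha'⟩ ⟨hb, hb'⟩
        refine ⟨J.add_mem ha hb, ?_⟩
        have : (⟨a + b, J.add_mem ha hb⟩ : ↥J) = ⟨a, ha⟩ + ⟨b, hb⟩ := rfl
        rw [this, map_add, ha', hb', add_zero]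
      smul_mem' := by
        rintro c x ⟨hx, hx'⟩
        refine ⟨J.smul_mem c hx, ?_⟩
        have : (⟨c • x, J.smul_mem c hx⟩ : ↥J) = (C'.res c) • (⟨x, hx⟩ : ↥J) := by
          apply Subtype.ext
          show c * x = (C'.res c) • x
          rw [Algebra.smul_def]
          exact key c x hx
        rw [this, map_smul, hx', smul_zero] }
  have hKJ : K ≤ RingHom.ker p.toAlgHom := fun x hx => hx.1
  have hJm : J ≤ IsLocalRing.maximalIdeal C' := by
    intro x hx
    rw [ArtFun.Art.mem_maximalIdeal_iff]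
    have : p.toAlgHom x = 0 := hx
    have h3 := ArtFun.Art.res_app p x
    rw [← h3]
    show C.res (p.toAlgHom x) = 0
    rw [this, map_zero]
  have hK : K ≤ IsLocalRing.maximalIdeal C' := hKJ.trans hJm
  have hmemK : ∀ (x : C') (hx : x ∈ J), x ∈ K ↔ ψ ⟨x, hx⟩ = 0 := by
    intro x hx
    constructor
    · rintro ⟨_, h⟩; exact h
    · intro h; exact ⟨hx, h⟩
  let q := ArtFun.Art.quotFactor hK p hKJ
  let π : C' →ₐ[k] (ArtFun.Art.quot C' K hK) := (ArtFun.Art.quotMk C' K hK).toAlgHom
  have hπsurj : Function.Surjective π := ArtFun.Art.quotMk_surjective C' K hK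
  have hπ0 : ∀ x : C', π x = 0 ↔ x ∈ K := by
    intro x
    exact (Ideal.Quotient.eq_zero_iff_mem : Ideal.Quotient.mk K x = 0 ↔ x ∈ K)
  have hqmk : ∀ x : C', q.toAlgHom (π x) = p.toAlgHom x := fun x => rfl
  have hqker : ∀ x : C', π x ∈ RingHom.ker q.toAlgHom ↔ x ∈ J := by
    intro x
    rw [hJ]
    constructor
    · intro h
      have h' : q.toAlgHom (π x) = 0 := (RingHom.mem_ker).1 h
      rw [hqmk] at h'
      exact (RingHom.mem_ker).2 h'
    · intro h
      have h' : p.toAlgHom x = 0 := (RingHom.mem_ker).1 h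
      rw [← hqmk] at h'
      exact (RingHom.mem_ker).2 h'
  have hkerq : ∀ y : ArtFun.Art.quot C' K hK, y ∈ RingHom.ker q.toAlgHom →
      ∃ x : C', ∃ hx : x ∈ J, π x = y := by
    intro y hy
    obtain ⟨x, rfl⟩ := hπsurj y
    exact ⟨x, (hqker x).1 hy, rfl⟩
  have hq : ArtFun.Art.IsSmallExt q := by
    refine ⟨?_, ?_, ?_, ?_⟩
    · intro c
      obtain ⟨x, hx⟩ := hp.1 c
      exact ⟨π x, hx⟩
    · intro hbot
      have h1 : π (j₀ : C') ∈ RingHom.ker q.toAlgHom := (hqker _).2 j₀.2
      rw [hbot, Ideal.mem_bot, hπ0, hmemK _ j₀.2] at h1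
      rw [Subtype.coe_eta, hj₀] at h1
      exact one_ne_zero h1
    · refine ⟨⟨π (j₀ : C'), ?_⟩⟩
      apply le_antisymm
      · intro y hy
        obtain ⟨x, hx, rfl⟩ := hkerq y hy
        have hxK : x - algebraMap k C' (ψ ⟨x, hx⟩) * (j₀ : C') ∈ K := by
          have hmem : x - algebraMap k C' (ψ ⟨x, hx⟩) * (j₀ : C') ∈ J :=
            J.sub_mem hx (J.mul_mem_left _ j₀.2)
          rw [hmemK _ hmem]
          have : (⟨x - algebraMap k C' (ψ ⟨x, hx⟩) * (j₀ : C'), hmem⟩ : ↥J)
              = ⟨x, hx⟩ - (ψ ⟨x, hx⟩) • j₀ := by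
            apply Subtype.ext
            show _ = x - (ψ ⟨x, hx⟩) • (j₀ : C')
            rw [Algebra.smul_def]
          rw [this, map_sub, map_smul, hj₀, smul_eq_mul, mul_one, sub_self]
        have : π x = π (algebraMap k C' (ψ ⟨x, hx⟩)) * π (j₀ : C') := by
          rw [← map_mul, ← sub_eq_zero, ← map_sub, hπ0]
          exact hxK
        rw [this]
        exact Ideal.mul_mem_left _ _ (Submodule.mem_span_singleton_self _)
      · rw [Submodule.span_le, Set.singleton_subset_iff]
        exact (hqker _).2 j₀.2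
    · rw [eq_bot_iff, Ideal.mul_le]
      intro y hy z hz
      obtain ⟨x, hx, rfl⟩ := hkerq z hz
      obtain ⟨a, rfl⟩ := hπsurj y
      have ha : a ∈ IsLocalRing.maximalIdeal C' := by
        rw [ArtFun.Art.mem_maximalIdeal_iff] at hy ⊢
        exact hy
      have : a * x ∈ IsLocalRing.maximalIdeal C' * J := Ideal.mul_mem_mul ha hx
      rw [hmJ, Ideal.mem_bot] at this
      rw [Ideal.mem_bot, ← map_mul, this, map_zero]
  -- the map J → ker q
  let κ : ↥J →ₗ[k] ↥(RingHom.ker q.toAlgHom) := (ArtFun.Art.kerToQuot hK p hKJ).restrictScalars k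
  have hκ : ∀ j : ↥J, ((κ j : ↥(RingHom.ker q.toAlgHom)) : ArtFun.Art.quot C' K hK)
      = π (j : C') := fun j => rfl
  have hκsurj : Function.Surjective κ := by
    rintro ⟨y, hy⟩
    obtain ⟨x, hx, rfl⟩ := hkerq y hy
    exact ⟨⟨x, hx⟩, Subtype.ext rfl⟩
  have hψsurj : Function.Surjective ψ := by
    intro r
    exact ⟨r • j₀, by rw [map_smul, hj₀, smul_eq_mul, mul_one]⟩
  have hker : LinearMap.ker κ = LinearMap.ker ψ := by
    ext j
    rw [LinearMap.mem_ker, LinearMap.mem_ker, ← hmemK _ j.2, ← hπ0, ← hκ j]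
    constructor
    · intro h; rw [h]; rfl
    · intro h; exact Subtype.ext h
  let φ : ↥(RingHom.ker q.toAlgHom) ≃ₗ[k] k :=
    (κ.quotKerEquivOfSurjective hκsurj).symm ≪≫ₗ Submodule.quotEquivOfEq _ _ hker ≪≫ₗ
      ψ.quotKerEquivOfSurjective hψsurj
  have hφ : φ.toLinearMap ∘ₗ κ = ψ := by
    ext j
    show (ψ.quotKerEquivOfSurjective hψsurj) ((Submodule.quotEquivOfEq _ _ hker)
      ((κ.quotKerEquivOfSurjective hκsurj).symm (κ j))) = ψ j
    have h1 : (κ.quotKerEquivOfSurjective hκsurj).symm (κ j) = Submodule.Quotient.mk j := by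
      rw [LinearEquiv.symm_apply_eq]
      rfl
    rw [h1, Submodule.quotEquivOfEq_mk]
    rfl
  have hmem : TensorProduct.rid k V (LinearMap.lTensor V ψ (T.obs p hp u)) ∈ Ωset := by
    refine ⟨ArtFun.Art.quot C' K hK, C, q, hq, u, φ, ?_⟩
    rw [T.obs_quot p hp K hK hKJ hq.isSemismallExt u]
    rw [← LinearMap.comp_apply, ← LinearMap.lTensor_comp, hφ]
  exact Submodule.subset_span hmem


end Groth.Agent.S13978
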