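import Groth.Statements.S13981
import Groth.Agent.S12710
import Groth.Agent.Lib.Helper9.ArtVersal
import Groth.Agent.Lib.Helper65.ArtFunBasic
import Groth.Prelude.Def_W4sfdMinVersal
-- import your own Groth.Agent.* helpers here

set_option autoImplicit false
universe u v
open CategoryTheory
open ArtFun

namespace Groth.Agent.S13981

open ArtFun ArtFun.Art Groth.Agent.Lib.Helper63.ArtFunLib in
/-- A surjective morphism of coefficient rings maps powers of the maximal ideal onto powers of the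
maximal ideal. -/
theorem exists_mem_pow_of_surjective {Λ : Type u} {k : Type u} [CommRing Λ] [Field k]
    [Algebra Λ k] {A' A : CRing Λ k} (g : A'.carrier →ₐ[Λ] A.carrier)
    (hg : A.res.comp g = A'.res) (hgs : Function.Surjective g) (n : ℕ) (y : A.carrier)
    (hy : y ∈ IsLocalRing.maximalIdeal A.carrier ^ n) :
    ∃ e ∈ IsLocalRing.maximalIdeal A'.carrier ^ n, g e = y := by
  have hmap : Ideal.map (g : A'.carrier →+* A.carrier) (IsLocalRing.maximalIdeal A'.carrier) =
      IsLocalRing.maximalIdeal A.carrier := by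
    apply le_antisymm
    · rw [Ideal.map_le_iff_le_comap]
      exact CRing.maximalIdeal_le_comap g hg
    · intro z hz
      obtain ⟨x, rfl⟩ := hgs z
      apply Ideal.mem_map_of_mem
      rw [CRing.mem_maximalIdeal_iff] at hz ⊢
      rw [← CRing.res_comp_apply g hg]
      exact hz
  rw [← hmap, ← Ideal.map_pow] at hy
  obtain ⟨e, he, hey⟩ := (Ideal.mem_map_iff_of_surjective (g : A'.carrier →+* A.carrier) hgs).1 hy
  exact ⟨e, he, hey⟩

open ArtFun ArtFun.Art Groth.Agent.Lib.Helper63.ArtFunLib in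
theorem truncMapOfHom_surjective {Λ : Type u} {k : Type u} [CommRing Λ] [Field k]
    [Algebra Λ k] {A' A : CRing Λ k} (g : A'.carrier →ₐ[Λ] A.carrier)
    (hg : A.res.comp g = A'.res) (hgs : Function.Surjective g) (n : ℕ) :
    Function.Surjective (CRing.truncMapOfHom g hg n) := by
  intro a
  obtain ⟨y, rfl⟩ := Ideal.Quotient.mk_surjective a
  obtain ⟨x, rfl⟩ := hgs y
  exact ⟨Ideal.Quotient.mk _ x, rfl⟩

/-- Let F be a functor on Artinian local Λ-algebras with residue field k (Λ Noetherian, Λ → k finite and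
surjective) satisfying (RS) — the comparison map for A₁ ×_A A₂ is bijective whenever A₂ → A is
surjective — and let ξ be a versal family of F over a complete local Noetherian Λ-algebra R with
residue field k. Then the lifting property defining versality also holds along surjections of
complete local Noetherian algebras: if g : A' → A is such a surjection, η' is a formal element of F
over A' (a compatible system over the truncations A'/m^(n+1)) and φ : R → A is a map under which the
formal element of ξ becomes the pushforward of η' along g, then φ lifts to ψ : R → A' with g ∘ ψ = φ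
and with ξ inducing η' along ψ. (The published statement takes Λ complete local Noetherian with
residue field k; its proof does not use completeness of Λ, and this row assumes only Λ Noetherian
with Λ → k surjective.) -/
theorem result {Λ : Type u} {k : Type u} [CommRing Λ] [Field k]
    [Algebra Λ k] [IsNoetherianRing Λ] [Module.Finite Λ k] (hΛ : Function.Surjective (algebraMap Λ k))
    {F : ArtFun.Art Λ k ⥤ Type v}
    (hRS : ∀ ⦃B A A₁ A₂ : ArtFun.Art Λ k⦄ (p₁ : B ⟶ A₁) (p₂ : B ⟶ A₂) (f₁ : A₁ ⟶ A) (f₂ : A₂ ⟶ A)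
        (h : ArtFun.Art.IsFibreProd p₁ p₂ f₁ f₂), Function.Surjective f₂ → Function.Bijective (ArtFun.cmp F h))
    (R : ArtFun.CRing Λ k) (ξ : ArtFun.Family R.carrier R.res F) (hξ : ArtFun.IsVersal ξ)
    (A' A : ArtFun.CRing Λ k) (g : A'.carrier →ₐ[Λ] A.carrier) (hg : A.res.comp g = A'.res)
    (hgs : Function.Surjective g) (η' : ArtFun.FormalElt F A')
    (φ : R.carrier →ₐ[Λ] A.carrier) (hφ : A.res.comp φ = R.res)
    (hsq : (ξ.along φ hφ).toFormalElt = η'.push g hg) :
    ∃ (ψ : R.carrier →ₐ[Λ] A'.carrier) (hψ : A'.res.comp ψ = R.res),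
      g.comp ψ = φ ∧ (ξ.along ψ hψ).toFormalElt = η' := by
  classical
  -- notation
  let gn : ∀ n, A'.trunc n ⟶ A.trunc n := fun n => ArtFun.CRing.truncMapOfHom g hg n
  have hgn : ∀ n, Function.Surjective (gn n) := fun n => truncMapOfHom_surjective g hg hgs n
  let φn : ∀ n, ArtFun.HomSet R.carrier R.res (A.trunc n) := fun n =>
    ⟨(A.truncHom n).1.comp φ, by rw [← AlgHom.comp_assoc, (A.truncHom n).2, hφ]⟩
  have hφn : ∀ n, ArtFun.HomSet.map (A.truncMap n) (φn (n + 1)) = φn n := fun n =>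
    Subtype.ext (AlgHom.ext fun _ => rfl)
  have hsqn : ∀ n, ξ.app _ (φn n) = F.map (gn n) (η'.elt n) := fun n =>
    congrArg (fun t : ArtFun.FormalElt F A => t.elt n) hsq
  -- the inductive step
  have step : ∀ (n : ℕ) (ψn : ArtFun.HomSet R.carrier R.res (A'.trunc n)),
      ArtFun.HomSet.map (gn n) ψn = φn n → ξ.app _ ψn = η'.elt n →
      ∃ ψ' : ArtFun.HomSet R.carrier R.res (A'.trunc (n + 1)),
        ArtFun.HomSet.map (A'.truncMap n) ψ' = ψn ∧
          ArtFun.HomSet.map (gn (n + 1)) ψ' = φn (n + 1) ∧ ξ.app _ ψ' = η'.elt (n + 1) := by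
    intro n ψn h1 h2
    obtain ⟨Q, p₁, p₂, hfp⟩ := Groth.Agent.S12710.result (A.truncMap n) (gn n) (hgn n)
    obtain ⟨c, hc1, hc2⟩ := Groth.Agent.Lib.Helper65.isFibreProd_exists_lift hfp (gn (n + 1))
      (A'.truncMap n) (ArtFun.CRing.truncMapOfHom_truncMap g hg n)
    have hc1' : ∀ a, p₁ (c a) = gn (n + 1) a := fun a => by
      change (c ≫ p₁) a = _; rw [hc1]
    have hc2' : ∀ a, p₂ (c a) = A'.truncMap n a := fun a => by
      change (c ≫ p₂) a = _; rw [hc2]
    have hcsurj : Function.Surjective c := by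
      intro q
      obtain ⟨x', hx'⟩ := Ideal.Quotient.mk_surjective (p₂ q)
      obtain ⟨y, hy⟩ := Ideal.Quotient.mk_surjective (p₁ q)
      obtain ⟨x'', rfl⟩ := hgs y
      have hcomp : A.truncMap n (p₁ q) = gn n (p₂ q) := hfp.w_apply q
      rw [← hx', ← hy] at hcomp
      have hmem : g (x'' - x') ∈ IsLocalRing.maximalIdeal A.carrier ^ (n + 1) := by
        have h0 : Ideal.Quotient.mk (ArtFun.CRing.mpow A n) (g x'') =
            Ideal.Quotient.mk (ArtFun.CRing.mpow A n) (g x') := hcomp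
        rw [map_sub]
        exact (Ideal.Quotient.eq.1 h0)
      obtain ⟨e, he, hge⟩ := exists_mem_pow_of_surjective g hg hgs (n + 1) _ hmem
      let w : (A'.trunc (n + 1)).carrier := Ideal.Quotient.mk (ArtFun.CRing.mpow A' (n + 1)) (x' + e)
      refine ⟨w, ?_⟩
      apply hfp.inj
      · refine (hc1' w).trans ?_
        rw [← hy]
        change Ideal.Quotient.mk (ArtFun.CRing.mpow A (n + 1)) (g (x' + e)) =
          Ideal.Quotient.mk (ArtFun.CRing.mpow A (n + 1)) (g x'')
        rw [map_add, hge, map_sub]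
        congr 1
        ring
      · refine (hc2' w).trans ?_
        rw [← hx']
        change Ideal.Quotient.mk (ArtFun.CRing.mpow A' n) (x' + e) =
          Ideal.Quotient.mk (ArtFun.CRing.mpow A' n) x'
        rw [map_add, Ideal.Quotient.eq_zero_iff_mem.2 he, add_zero]
    obtain ⟨χ, hχ1, hχ2⟩ :=
      Groth.Agent.Lib.Helper63.ArtFunLib.exists_homSet_lift_of_isFibreProd hfp (φn (n + 1)) ψn
        (by rw [hφn, h1])
    have hξχ : F.map c (η'.elt (n + 1)) = ξ.app Q χ := by
      apply (hRS p₁ p₂ _ _ hfp (hgn n)).1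
      apply ArtFun.FibProd.ext
      · change F.map p₁ (F.map c (η'.elt (n + 1))) = F.map p₁ (ξ.app Q χ)
        rw [← Functor.map_comp_apply, hc1, ← ξ.natural, hχ1, hsqn]
      · change F.map p₂ (F.map c (η'.elt (n + 1))) = F.map p₂ (ξ.app Q χ)
        rw [← Functor.map_comp_apply, hc2, ← ξ.natural, hχ2, h2, η'.compat]
    obtain ⟨ψ', hψ'1, hψ'2⟩ := hξ c hcsurj χ (η'.elt (n + 1)) hξχ
    refine ⟨ψ', ?_, ?_, hψ'2⟩
    · rw [← hc2, Groth.Agent.Lib.Helper9.homSet_map_comp, hψ'1, hχ2]
    · rw [← hc1, Groth.Agent.Lib.Helper9.homSet_map_comp, hψ'1, hχ1]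
  -- the base case
  have base : ∃ ψ0 : ArtFun.HomSet R.carrier R.res (A'.trunc 0),
      ArtFun.HomSet.map (gn 0) ψ0 = φn 0 ∧ ξ.app _ ψ0 = η'.elt 0 := by
    obtain ⟨ψ0, h1, h2⟩ := hξ (gn 0) (hgn 0) (φn 0) (η'.elt 0) (hsqn 0).symm
    exact ⟨ψ0, h1, h2⟩
  -- the sequence
  let P : ∀ n, ArtFun.HomSet R.carrier R.res (A'.trunc n) → Prop := fun n ψ =>
    ArtFun.HomSet.map (gn n) ψ = φn n ∧ ξ.app _ ψ = η'.elt n
  let seq : ∀ n, {ψ : ArtFun.HomSet R.carrier R.res (A'.trunc n) // P n ψ} := fun n =>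
    Nat.rec ⟨base.choose, base.choose_spec⟩
      (fun n p => ⟨(step n p.1 p.2.1 p.2.2).choose,
        (step n p.1 p.2.1 p.2.2).choose_spec.2⟩) n
  have hseq : ∀ n, ArtFun.HomSet.map (A'.truncMap n) (seq (n + 1)).1 = (seq n).1 := fun n =>
    (step n (seq n).1 (seq n).2.1 (seq n).2.2).choose_spec.1
  obtain ⟨Ψ, hΨ, hΨn⟩ := Groth.Agent.Lib.Helper63.ArtFunLib.exists_lift_of_compatible A'
    (fun n => (seq n).1) hseq
  refine ⟨Ψ, hΨ, ?_, ?_⟩
  · apply Groth.Agent.Lib.Helper63.ArtFunLib.algHom_ext_of_truncHom A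
    intro n
    have h1 : (gn n).toAlgHom.comp ((A'.truncHom n).1.comp Ψ) = (φn n).1 := by
      rw [hΨn n]
      exact congrArg Subtype.val (seq n).2.1
    refine Eq.trans ?_ h1
    apply AlgHom.ext
    intro r
    rfl
  · apply ArtFun.FormalElt.ext'
    intro n
    rw [Groth.Agent.Lib.Helper63.ArtFunLib.along_toFormalElt_elt]
    have : (⟨(A'.truncHom n).1.comp Ψ, by rw [← AlgHom.comp_assoc, (A'.truncHom n).2, hΨ]⟩ :
        ArtFun.HomSet R.carrier R.res (A'.trunc n)) = (seq n).1 := Subtype.ext (hΨn n)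
    rw [this]
    exact (seq n).2.2

end Groth.Agent.S13981
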