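import Groth.Statements.S13985
-- import your own Groth.Agent.* helpers here

set_option autoImplicit false
universe u
open CategoryTheory
open CohGab

namespace Groth.Agent.S13985

/-- For a ring A, the canonical map from the centre of A to the centre of the category of finitely
generated left A-modules (the endomorphism ring of its identity functor), sending a to
multiplication by a, is bijective: every natural endomorphism of the identity functor acts on each
finitely generated module as multiplication by a unique element of A, and that element is central.
(The published statement calls this map an isomorphism of commutative rings; this row states its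
bijectivity.) -/
theorem result (A : Type u) [Ring A]
    (φ : 𝟭 (FGModuleCat.{u} A) ⟶ 𝟭 (FGModuleCat.{u} A)) :
    ∃! a : A, a ∈ Subring.center A ∧
      ∀ (M : FGModuleCat.{u} A) (x : M), (φ.app M).hom.hom x = a • x := by
  classical
  -- the regular module
  let MA : FGModuleCat.{u} A := FGModuleCat.of A A
  -- key formula
  have key : ∀ (M : FGModuleCat.{u} A) (x : M),
      (φ.app M).hom.hom x = ((φ.app MA).hom.hom (1 : A)) • x := by
    intro M x
    let f : MA ⟶ M := ObjectProperty.homMk
      (ModuleCat.ofHom (LinearMap.toSpanSingleton A M x))
    have hnat := φ.naturality f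
    have h2 := congrArg (fun g => g.hom.hom (1 : A)) hnat
    simp only [Functor.id_map] at h2
    have e1 : (f ≫ φ.app M).hom.hom (1 : A) = (φ.app M).hom.hom x := by
      show (φ.app M).hom.hom ((LinearMap.toSpanSingleton A M x) 1) = _
      simp
    have e2 : (φ.app MA ≫ f).hom.hom (1 : A) = ((φ.app MA).hom.hom (1 : A)) • x := by
      show (LinearMap.toSpanSingleton A M x) ((φ.app MA).hom.hom (1 : A)) = _
      simp
    rw [← e1, ← e2]
    exact h2
  refine ⟨(φ.app MA).hom.hom (1 : A), ⟨?_, key⟩, ?_⟩
  · rw [Subring.mem_center_iff]
    intro r
    have h1 := key MA r
    have h2 : (φ.app MA).hom.hom (r • (1 : A)) = r • (φ.app MA).hom.hom (1 : A) :=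
      map_smul _ _ _
    have h3 : (r • (1 : A) : A) = r := by simp
    rw [h3] at h2
    set a : A := (φ.app MA).hom.hom (1 : A) with ha
    have h4 : (φ.app MA).hom.hom r = a * r := h1
    have h5 : (φ.app MA).hom.hom r = r * a := h2
    rw [← h5, ← h4]
  · rintro b ⟨_, hb⟩
    have := hb MA (1 : A)
    have h6 : b • (1 : A) = b := by simp
    rw [h6] at this
    exact this.symm


end Groth.Agent.S13985
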