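import Groth.Statements.S13988
import Groth.Agent.Lib.Helper20.CohCentre
-- import your own Groth.Agent.* helpers here

set_option autoImplicit false
universe u
open CategoryTheory AlgebraicGeometry
open CohGab

namespace Groth.Agent.S13988

/-- Let X be a Noetherian scheme. The canonical ring map from the global functions Γ(X, O_X) to the
centre of the category of coherent O_X-modules (the endomorphisms of its identity functor), sending
r to multiplication by r, is bijective: for every natural endomorphism φ of the identity functor of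
Coh(X) there is a unique global function r such that, for every coherent module M, φ_M is
multiplication by r (compared as maps of the underlying abelian sheaves). (The published result
builds a ringed space from Coh(X) — irreducible Serre subcategories of finite type, with the centres
of the categories Coh(U) as structure sheaf — and proves it isomorphic to X, for coherent sheaves
twisted by a class in the cohomological Brauer group and with X over a field, a hypothesis its proof
does not use; this row is the ring-theoretic content of that isomorphism on global sections, for the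
trivial class; applied to the open subschemes of X it gives the statement on every open.) -/
theorem result (X : Scheme.{u}) [IsNoetherian X]
    (φ : 𝟭 (ObjectProperty.FullSubcategory (fun M : X.Modules => Coh.IsCoh M)) ⟶ 𝟭 (ObjectProperty.FullSubcategory (fun M : X.Modules => Coh.IsCoh M))) :
    ∃! r : Coh.Γtop X, ∀ M : ObjectProperty.FullSubcategory (fun M : X.Modules => Coh.IsCoh M),
      (SheafOfModules.toSheaf X.ringCatSheaf).map (φ.app M).hom = Coh.smulAb M.obj r := by
  classical
  have hX : ∀ x : X, ∃ U : X.Opens, x ∈ U ∧ TopologicalSpace.NoetherianSpace (U : Set X) := fun x =>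
    ⟨⊤, trivial, inferInstance⟩
  let OX : ObjectProperty.FullSubcategory (fun M : X.Modules => Coh.IsCoh M) :=
    ⟨Coh.structureModule X, Groth.Agent.Lib.QCoh.IsoLocus74.isCoh_structureModule X⟩
  -- naturality unpacked
  have hnat : ∀ (M N : ObjectProperty.FullSubcategory (fun M : X.Modules => Coh.IsCoh M))
      (f : M.obj ⟶ N.obj), f ≫ (φ.app N).hom = (φ.app M).hom ≫ f := by
    intro M N f
    have := congrArg (fun g => g.hom) (φ.naturality (ObjectProperty.homMk f))
    simpa using this
  let r : Coh.Γtop X := (φ.app OX).hom.app ⊤ (1 : Γ(X, ⊤))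
  -- local claim on opens of the form `U.ι ''ᵁ ⊤`
  have hloc : ∀ (M : ObjectProperty.FullSubcategory (fun M : X.Modules => Coh.IsCoh M))
      (U : X.Opens) (m : Γ(M.obj, U.ι ''ᵁ ⊤)),
      (φ.app M).hom.app (U.ι ''ᵁ ⊤) m =
        (X.presheaf.map (homOfLE le_top : U.ι ''ᵁ ⊤ ⟶ ⊤).op r : Γ(X, U.ι ''ᵁ ⊤)) • m := by
    intro M U m
    haveI : M.obj.IsQuasicoherent := M.property.1
    obtain ⟨G, a, b, s, hq, hft, hiso, has, hbs⟩ :=
      Groth.Agent.Lib.Helper20.CohCentre.exists_graph hX M.obj U m
    let G' : ObjectProperty.FullSubcategory (fun M : X.Modules => Coh.IsCoh M) := ⟨G, ⟨hq, hft⟩⟩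
    have ha := hnat G' OX a
    have hb := hnat G' M b
    set rW : Γ(X, U.ι ''ᵁ ⊤) := X.presheaf.map (homOfLE le_top : U.ι ''ᵁ ⊤ ⟶ ⊤).op r with hrW
    have hinj : Function.Injective (a.app (U.ι ''ᵁ ⊤)) := by
      have h1 : IsIso (((Scheme.Modules.restrictFunctor U.ι).map a).app ⊤) := inferInstance
      have h2 := (ConcreteCategory.isIso_iff_bijective _).mp h1
      exact h2.1
    have h1 : a.app (U.ι ''ᵁ ⊤) ((φ.app G').hom.app (U.ι ''ᵁ ⊤) s) = rW := by
      have := congrArg (fun g => g.app (U.ι ''ᵁ ⊤) s) ha
      simp only [Scheme.Modules.Hom.comp_app, ConcreteCategory.comp_apply] at this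
      rw [← this, has]
      have e1 : (1 : Γ(X, U.ι ''ᵁ ⊤)) = (Coh.structureModule X).presheaf.map
          (homOfLE le_top : U.ι ''ᵁ ⊤ ⟶ ⊤).op (1 : Γ(X, ⊤)) :=
        (map_one (X.presheaf.map (homOfLE le_top : U.ι ''ᵁ ⊤ ⟶ ⊤).op).hom).symm
      rw [e1, Groth.Agent.Lib.QCoh.Lift74.app_naturality_apply']
      rfl
    have h2 : a.app (U.ι ''ᵁ ⊤) (rW • s) = rW := by
      rw [Scheme.Modules.Hom.app_smul, has]
      exact mul_one rW
    have h3 : (φ.app G').hom.app (U.ι ''ᵁ ⊤) s = rW • s := hinj (h1.trans h2.symm)
    have := congrArg (fun g => g.app (U.ι ''ᵁ ⊤) s) hb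
    simp only [Scheme.Modules.Hom.comp_app, ConcreteCategory.comp_apply] at this
    rw [hbs, h3, Scheme.Modules.Hom.app_smul, hbs] at this
    exact this
  refine ⟨r, ?_, ?_⟩
  · intro M
    ext V m
    rw [Coh.smulAb_app]
    induction V using Opposite.rec with | _ U => ?_
    have key : ∀ (W W' : X.Opens), W = W' →
        (∀ m : Γ(M.obj, W), (φ.app M).hom.app W m =
          (X.presheaf.map (homOfLE le_top : W ⟶ ⊤).op r : Γ(X, W)) • m) →
        ∀ m : Γ(M.obj, W'), (φ.app M).hom.app W' m =
          (X.presheaf.map (homOfLE le_top : W' ⟶ ⊤).op r : Γ(X, W')) • m := by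
      rintro W _ rfl h
      exact h
    exact key _ U (AlgebraicGeometry.Scheme.Opens.ι_image_top U) (hloc M U) m
  · intro r' hr'
    have h := congrArg (fun g => g.hom.app (Opposite.op ⊤) (1 : Γ(X, ⊤))) (hr' OX)
    simp only [Coh.smulAb_app] at h
    have h1 : (Coh.resTop X (Opposite.op ⊤)) r' = r' := by
      change (X.ringCatSheaf.obj.map (𝟙 _)).hom r' = r'
      rw [CategoryTheory.Functor.map_id]
      rfl
    rw [h1] at h
    have h2 : r = r' * 1 := h
    rw [h2, mul_one]

end Groth.Agent.S13988
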