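import Groth.Statements.S13990
import Groth.Agent.Lib.Helper20.SerreGen
-- import your own Groth.Agent.* helpers here

set_option autoImplicit false
universe u
open CategoryTheory AlgebraicGeometry
open CohGab

namespace Groth.Agent.S13990

/-- Let X be a Noetherian scheme. Then Z ↦ Coh_Z(X), the coherent O_X-modules with support contained in
Z, is a bijection from the closed subsets of X onto the Serre subcategories of finite type of Coh(X)
(those generated, as Serre subcategories, by one object). Spelled out with Serre subcategories of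
Coh(X) as properties P of O_X-modules such that in a short exact sequence of coherent modules the
middle term has P iff both outer terms do: (a) for every closed Z, 'support ⊆ Z' is such a property
and there is a coherent F supported in Z such that every such property containing F contains all
coherent modules supported in Z; (b) for every such property P generated on coherent modules by one
coherent module F, there is exactly one closed Z with P(M) ⟺ Supp(M) ⊆ Z for all coherent M. (The
published statement is about coherent sheaves twisted by a class in the second etale cohomology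
group of the units of the structure sheaf; this row is its case of the trivial class.) -/
theorem result (X : Scheme.{u}) [IsNoetherian X] :
    (∀ Z : TopologicalSpace.Closeds X,
      (∀ S : ShortComplex X.Modules, S.ShortExact → Coh.IsCoh S.X₁ → Coh.IsCoh S.X₂ →
          Coh.IsCoh S.X₃ → (CohB1.support S.X₂ ⊆ (↑Z : Set X) ↔
            CohB1.support S.X₁ ⊆ (↑Z : Set X) ∧ CohB1.support S.X₃ ⊆ (↑Z : Set X))) ∧
      ∃ F : X.Modules, Coh.IsCoh F ∧ CohB1.support F ⊆ (↑Z : Set X) ∧
        ∀ Q : ObjectProperty X.Modules, (∀ S : ShortComplex X.Modules, S.ShortExact → Coh.IsCoh S.X₁ → Coh.IsCoh S.X₂ →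
          Coh.IsCoh S.X₃ → (Q S.X₂ ↔ Q S.X₁ ∧ Q S.X₃)) → Q F →
          ∀ M : X.Modules, Coh.IsCoh M → CohB1.support M ⊆ (↑Z : Set X) → Q M) ∧
    (∀ P : ObjectProperty X.Modules, (∀ S : ShortComplex X.Modules, S.ShortExact → Coh.IsCoh S.X₁ → Coh.IsCoh S.X₂ →
          Coh.IsCoh S.X₃ → (P S.X₂ ↔ P S.X₁ ∧ P S.X₃)) →
      (∃ F : X.Modules, Coh.IsCoh F ∧ P F ∧
        ∀ Q : ObjectProperty X.Modules, (∀ S : ShortComplex X.Modules, S.ShortExact → Coh.IsCoh S.X₁ → Coh.IsCoh S.X₂ →
          Coh.IsCoh S.X₃ → (Q S.X₂ ↔ Q S.X₁ ∧ Q S.X₃)) → Q F →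
          ∀ M : X.Modules, Coh.IsCoh M → P M → Q M) →
      ∃! Z : TopologicalSpace.Closeds X, ∀ M : X.Modules, Coh.IsCoh M →
        (P M ↔ CohB1.support M ⊆ (↑Z : Set X))) := by
  have hserre : ∀ T : Set X, ∀ S : ShortComplex X.Modules, S.ShortExact →
      (CohB1.support S.X₂ ⊆ T ↔ CohB1.support S.X₁ ⊆ T ∧ CohB1.support S.X₃ ⊆ T) := by
    intro T S hS
    rw [Groth.Agent.Lib.QCoh.support_eq_union_of_shortExact S hS, Set.union_subset_iff]
  refine ⟨fun Z => ⟨fun S hS _ _ _ => hserre _ S hS, ?_⟩, ?_⟩
  · obtain ⟨F, hF, hFs⟩ := Groth.Agent.Lib.Helper20.PushO.exists_coh_support_eq X Z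
    refine ⟨F, hF, hFs.le, ?_⟩
    intro Q hQ hQF M hM hMs
    exact Groth.Agent.Lib.Helper20.SerreGen.serre_gen Q hQ F hF hQF M hM (by rw [hFs]; exact hMs)
  · intro P hP hgen
    obtain ⟨F, hF, hPF, hgenF⟩ := hgen
    haveI : F.IsQuasicoherent := hF.1
    haveI : F.IsFiniteType := hF.2
    have hcl : IsClosed (CohB1.support F) := Groth.Agent.Lib.QCoh.isClosed_support_of_isFT F hF.2
    have hchar : ∀ M : X.Modules, Coh.IsCoh M → (P M ↔ CohB1.support M ⊆ CohB1.support F) := by
      intro M hM
      constructor
      · intro hPM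
        exact hgenF (fun N => CohB1.support N ⊆ CohB1.support F)
          (fun S hS _ _ _ => hserre _ S hS) subset_rfl M hM hPM
      · intro hMs
        exact Groth.Agent.Lib.Helper20.SerreGen.serre_gen P hP F hF hPF M hM hMs
    refine ⟨⟨CohB1.support F, hcl⟩, hchar, ?_⟩
    intro Z' hZ'
    apply TopologicalSpace.Closeds.ext
    show (Z' : Set X) = CohB1.support F
    apply Set.Subset.antisymm
    · obtain ⟨F', hF', hF's⟩ := Groth.Agent.Lib.Helper20.PushO.exists_coh_support_eq X Z'
      have h1 : P F' := (hZ' F' hF').2 hF's.le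
      have h2 := (hchar F' hF').1 h1
      rw [hF's] at h2
      exact h2
    · exact (hZ' F hF).1 hPF

end Groth.Agent.S13990
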