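import Groth.Statements.S13991
import Groth.Agent.Lib.Helper20.SerreGen2
-- import your own Groth.Agent.* helpers here

set_option autoImplicit false
universe u
open CategoryTheory AlgebraicGeometry
open CohGab

namespace Groth.Agent.S13991

/-- Let X be a Noetherian scheme and Z ⊆ X a closed subset. Then Z is irreducible (or empty) if and only
if Coh_Z(X), the coherent O_X-modules supported in Z, is an irreducible Serre subcategory of Coh(X),
i.e. it is not generated as a Serre subcategory by two Serre subcategories properly contained in it: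
whenever J₁, J₂ are Serre classes on coherent modules (middle term of a short exact sequence of
coherent modules belongs iff both outer terms do), both contained in Coh_Z, such that every Serre
class on coherent modules containing J₁ and J₂ contains Coh_Z, then J₁ or J₂ contains Coh_Z.
Consequently the points of X correspond to the irreducible Serre subcategories of finite type other
than the zero subcategory. (The published statement says 'Z is irreducible iff Coh_Z is irreducible'
and deduces a bijection between the points of X and all irreducible Serre subcategories of finite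
type; the zero subcategory Coh_∅ is irreducible in this sense while ∅ is not an irreducible space,
so irreducibility of Z is read here as 'irreducible or empty'. The published statement is also about
coherent sheaves twisted by a class in the second etale cohomology group of the units of the
structure sheaf; this row is its case of the trivial class.) -/
theorem result (X : Scheme.{u}) [IsNoetherian X]
    (Z : TopologicalSpace.Closeds X) :
    IsPreirreducible (↑Z : Set X) ↔
    ∀ J₁ J₂ : ObjectProperty X.Modules, (∀ S : ShortComplex X.Modules, S.ShortExact → Coh.IsCoh S.X₁ → Coh.IsCoh S.X₂ →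
        Coh.IsCoh S.X₃ → (J₁ S.X₂ ↔ J₁ S.X₁ ∧ J₁ S.X₃)) → (∀ S : ShortComplex X.Modules, S.ShortExact → Coh.IsCoh S.X₁ → Coh.IsCoh S.X₂ →
        Coh.IsCoh S.X₃ → (J₂ S.X₂ ↔ J₂ S.X₁ ∧ J₂ S.X₃)) →
      (∀ M : X.Modules, Coh.IsCoh M → J₁ M → CohB1.support M ⊆ (↑Z : Set X)) →
      (∀ M : X.Modules, Coh.IsCoh M → J₂ M → CohB1.support M ⊆ (↑Z : Set X)) →
      (∀ Q : ObjectProperty X.Modules, (∀ S : ShortComplex X.Modules, S.ShortExact → Coh.IsCoh S.X₁ → Coh.IsCoh S.X₂ →
        Coh.IsCoh S.X₃ → (Q S.X₂ ↔ Q S.X₁ ∧ Q S.X₃)) →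
        (∀ M : X.Modules, Coh.IsCoh M → J₁ M → Q M) → (∀ M : X.Modules, Coh.IsCoh M → J₂ M → Q M) →
        ∀ M : X.Modules, Coh.IsCoh M → CohB1.support M ⊆ (↑Z : Set X) → Q M) →
      (∀ M : X.Modules, Coh.IsCoh M → CohB1.support M ⊆ (↑Z : Set X) → J₁ M) ∨
        (∀ M : X.Modules, Coh.IsCoh M → CohB1.support M ⊆ (↑Z : Set X) → J₂ M) := by
  have hserre : ∀ T : Set X, ∀ S : ShortComplex X.Modules, S.ShortExact →
      (CohB1.support S.X₂ ⊆ T ↔ CohB1.support S.X₁ ⊆ T ∧ CohB1.support S.X₃ ⊆ T) := by
    intro T S hS
    rw [Groth.Agent.Lib.QCoh.support_eq_union_of_shortExact S hS, Set.union_subset_iff]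
  have hclosed : ∀ M : X.Modules, Coh.IsCoh M → IsClosed (CohB1.support M) :=
    fun M hM => Groth.Agent.Lib.QCoh.isClosed_support_of_isFT M hM.2
  constructor
  · intro hZirr J₁ J₂ hJ₁ hJ₂ hJ₁Z hJ₂Z hgen
    have hclaim : ∃ M : X.Modules, Coh.IsCoh M ∧ (J₁ M ∨ J₂ M) ∧
        (Z : Set X) ⊆ CohB1.support M := by
      by_contra hno
      push_neg at hno
      obtain ⟨F, hF, hFs⟩ := Groth.Agent.Lib.Helper20.PushO.exists_coh_support_eq X Z
      have h1 := hgen (fun M => ¬ ((Z : Set X) ⊆ CohB1.support M)) ?_
        (fun M hM h => hno M hM (Or.inl h)) (fun M hM h => hno M hM (Or.inr h)) F hF hFs.le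
      · exact h1 hFs.ge
      · intro S hS h1 h2 h3
        show ¬ ((Z : Set X) ⊆ CohB1.support S.X₂) ↔
          ¬ ((Z : Set X) ⊆ CohB1.support S.X₁) ∧ ¬ ((Z : Set X) ⊆ CohB1.support S.X₃)
        rw [Groth.Agent.Lib.QCoh.support_eq_union_of_shortExact S hS, ← not_or, not_iff_not]
        constructor
        · intro h
          exact isPreirreducible_iff_isClosed_union_isClosed.1 hZirr _ _ (hclosed _ h1)
            (hclosed _ h3) h
        · rintro (h | h)
          · exact h.trans Set.subset_union_left
          · exact h.trans Set.subset_union_right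
    obtain ⟨M, hM, hJ, hZM⟩ := hclaim
    rcases hJ with hJ | hJ
    · left
      intro N hN hNs
      exact Groth.Agent.Lib.Helper20.SerreGen.serre_gen J₁ hJ₁ M hM hJ N hN (hNs.trans hZM)
    · right
      intro N hN hNs
      exact Groth.Agent.Lib.Helper20.SerreGen.serre_gen J₂ hJ₂ M hM hJ N hN (hNs.trans hZM)
  · intro h
    rw [isPreirreducible_iff_isClosed_union_isClosed]
    intro z₁ z₂ hz₁ hz₂ hZz
    obtain ⟨F, hF, hFs⟩ := Groth.Agent.Lib.Helper20.PushO.exists_coh_support_eq X Z
    have key := h (fun M => CohB1.support M ⊆ (Z : Set X) ∩ z₁)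
      (fun M => CohB1.support M ⊆ (Z : Set X) ∩ z₂)
      (fun S hS _ _ _ => hserre _ S hS) (fun S hS _ _ _ => hserre _ S hS)
      (fun M _ hM => hM.trans Set.inter_subset_left)
      (fun M _ hM => hM.trans Set.inter_subset_left) ?_
    · rcases key with key | key
      · left
        have := key F hF hFs.le
        rw [hFs] at this
        exact this.trans Set.inter_subset_right
      · right
        have := key F hF hFs.le
        rw [hFs] at this
        exact this.trans Set.inter_subset_right
    · intro Q hQ hQ₁ hQ₂ M hM hMs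
      refine Groth.Agent.Lib.Helper20.SerreGen.serre_of_points Q hQ (Z : Set X) ?_ ?_ M hM hMs
      · obtain ⟨F₁, hF₁, hF₁s⟩ := Groth.Agent.Lib.Helper20.PushO.exists_coh_support_eq X
          ⟨(Z : Set X) ∩ z₁, Z.isClosed.inter hz₁⟩
        exact ⟨F₁, hF₁, hQ₁ F₁ hF₁ hF₁s.le⟩
      · intro ξ hξ
        obtain ⟨O', hO', hO's, hO'l⟩ := Groth.Agent.Lib.Helper20.PushO.exists_coh_length_one X ξ
        refine ⟨O', hO', ?_, hO's.le, hO'l⟩
        rcases hZz hξ with hξ₁ | hξ₂
        · apply hQ₁ O' hO'
          show CohB1.support O' ⊆ (Z : Set X) ∩ z₁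
          rw [hO's]
          exact closure_minimal (Set.singleton_subset_iff.2 ⟨hξ, hξ₁⟩) (Z.isClosed.inter hz₁)
        · apply hQ₂ O' hO'
          show CohB1.support O' ⊆ (Z : Set X) ∩ z₂
          rw [hO's]
          exact closure_minimal (Set.singleton_subset_iff.2 ⟨hξ, hξ₂⟩) (Z.isClosed.inter hz₂)

end Groth.Agent.S13991
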