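import Groth.Statements.S13992
import Groth.Agent.Lib.Helper29.MatFac

set_option autoImplicit false
universe u
open CategoryTheory
open CAlg

namespace Groth.Agent.S13992

/-- Let S be a regular local ring of Krull dimension two, f a non-zero element of S and R the quotient
of S by f, assumed reduced (the local ring of a reduced planar curve singularity). Let M and N be
finitely generated R-modules, each admitting a non-zero-divisor in the maximal ideal of R,
annihilated by ideals I and J respectively, where I + J contains a power of the maximal ideal. Then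
Ext²_R(M, N) = 0. (The published statement is global: Ext²(F, F') = 0 for torsion-free coherent
sheaves F and F' on a reduced projective curve over a characteristic-zero algebraically closed
field, supported on subcurves with no common irreducible component that meet only at points with
planar singularities; this row is the vanishing on stalks to which it reduces, stated over an
arbitrary two-dimensional regular local ring.) -/
theorem result (S : Type u) [CommRing S] [IsRegularLocalRing S] (hS : ringKrullDim S = 2) (f : S) (hf : f ≠ 0) (R : Type u) [CommRing R] [IsLocalRing R] [IsReduced R] (π : S →+* R) (hπ : Function.Surjective π) (hker : RingHom.ker π = Ideal.span {f}) (I J : Ideal R) (n : ℕ) (hIJ : IsLocalRing.maximalIdeal R ^ n ≤ I ⊔ J) (M N : Type u) [AddCommGroup M] [Module R M] [Module.Finite R M] [AddCommGroup N] [Module R N] [Module.Finite R N] (hI : I ≤ Module.annihilator R M) (hJ : J ≤ Module.annihilator R N) (x : R) (hx : x ∈ IsLocalRing.maximalIdeal R) (hxM : IsSMulRegular M x) (y : R) (hy : y ∈ IsLocalRing.maximalIdeal R) (hyN : IsSMulRegular N y) : Subsingleton (Abelian.Ext (ModuleCat.of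 R M) (ModuleCat.of R N) 2) := by
  rcases subsingleton_or_nontrivial M with hsub | hnt
  · exact Groth.Agent.Lib.Helper29.Ischebeck.subsingleton_ext_of_subsingleton M N 2
  let _ : Algebra S R := π.toAlgebra
  let _ : Module S M := Module.compHom M π
  have : IsScalarTower S R M := IsScalarTower.of_algebraMap_smul fun _ _ => rfl
  have hdom : IsDomain S := Groth.Agent.S0558.result S
  have hfreg : IsSMulRegular S f := by
    intro s t hst
    exact mul_left_cancel₀ hf hst
  obtain ⟨xt, hxt⟩ := hπ x
  have hxtm : xt ∈ IsLocalRing.maximalIdeal S := by
    by_contra h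
    rw [IsLocalRing.mem_maximalIdeal, mem_nonunits_iff, not_not] at h
    have hu := h.map π
    rw [hxt] at hu
    exact hx hu
  have hregS : IsSMulRegular M xt := by
    intro m1 m2 h
    apply hxM
    have h' : π xt • m1 = π xt • m2 := h
    rwa [hxt] at h'
  obtain ⟨a, b, Λ, Γ, p, hp, h1, h2, h3⟩ :=
    Groth.Agent.Lib.Helper29.MatFac.exists_matFac hS hπ f hker M xt hxtm hregS
  have hHom : ∀ h : M →ₗ[R] N, h = 0 := by
    intro h
    ext m
    have hkill : ∀ z ∈ I ⊔ J, z • h m = 0 := by
      intro z hz
      obtain ⟨i, hi, j, hj, rfl⟩ := Submodule.mem_sup.1 hz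
      rw [add_smul, ← map_smul, Module.mem_annihilator.1 (hI hi) m, map_zero,
        Module.mem_annihilator.1 (hJ hj) (h m), add_zero]
    have hyn : y ^ n • h m = 0 := hkill _ (hIJ (Ideal.pow_mem_pow hy n))
    have := (hyN.pow n) (hyn.trans (smul_zero (y ^ n)).symm)
    rw [this]
    rfl
  exact Groth.Agent.Lib.Helper29.MatFac.subsingleton_ext_two M N (Λ.map π) (Γ.map π) p hp h3
    (Groth.Agent.Lib.Helper29.MatFac.ker_eq_range π hπ f hfreg hker Λ Γ h1 h2)
    (Groth.Agent.Lib.Helper29.MatFac.ker_eq_range π hπ f hfreg hker Γ Λ h2 h1).ge hHom

end Groth.Agent.S13992
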