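import Groth.Statements.S16243
import Mathlib
import Groth.Agent.Lib.Helper46.TorLinear
import Groth.Agent.Lib.Helper46.TorPrime
-- import your own Groth.Agent.* helpers here

set_option autoImplicit false
set_option backward.isDefEq.respectTransparency false
set_option backward.defeqAttrib.useBackward true
universe u
open CategoryTheory
open CAlg

namespace Groth.Agent.S16243

open Groth.Agent.Lib.Helper46 Groth.Agent.Lib.Helper46.TorShift Limits MonoidalCategory

section general

variable {R : Type u} [CommRing R]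

/-- if `a` kills `N` then `a` kills `Tor_n(N, M)` -/
lemma smul_id_tor_left (a : R) (N M : ModuleCat.{u} R) (h : a • 𝟙 N = 0) (n : ℕ) :
    a • 𝟙 (((Tor (ModuleCat.{u} R) n).obj N).obj M) = 0 := by
  rw [← TorLinear.tor_map_smul_id_app a N M n, h, ← zero_smul R (𝟙 N),
    TorLinear.tor_map_smul_id_app, zero_smul]

/-- if `a` kills `N` then `a` kills `Tor_n(M, N)` -/
lemma smul_id_tor_right (a : R) (M N : ModuleCat.{u} R) (h : a • 𝟙 N = 0) (n : ℕ) :
    a • 𝟙 (((Tor (ModuleCat.{u} R) n).obj M).obj N) = 0 := by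
  have e := TorPrime.torSymm M N n
  have h1 := smul_id_tor_left a N M h n
  have : a • 𝟙 (((Tor (ModuleCat.{u} R) n).obj M).obj N) = e.hom ≫ (a • 𝟙 _) ≫ e.inv := by
    rw [Linear.smul_comp, Linear.comp_smul, Category.id_comp, e.hom_inv_id]
  rw [this, h1, zero_comp, comp_zero]

end general

section L0

variable {R : Type u} [CommRing R] (a b : R) (hab : a * b = 0)

/-- multiplication by `a` as a map `R ⧸ (b) → R` (when `a * b = 0`). -/
noncomputable def mulMap : (R ⧸ Ideal.span {b}) →ₗ[R] R :=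
  Submodule.liftQ (Ideal.span {b}) (LinearMap.lsmul R R a)
    ((Ideal.span_singleton_le_iff_mem _).mpr (by
      rw [LinearMap.mem_ker]; simpa using hab))

lemma mulMap_mk (r : R) : mulMap a b hab (Submodule.Quotient.mk r) = a * r := rfl

variable (hann : ∀ r, a * r = 0 → r ∈ Ideal.span {b})

include hann in
lemma mulMap_injective : Function.Injective (mulMap a b hab) := by
  rw [← LinearMap.ker_eq_bot, LinearMap.ker_eq_bot']
  intro x hx
  obtain ⟨r, rfl⟩ := Submodule.Quotient.mk_surjective _ x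
  rw [mulMap_mk] at hx
  exact (Submodule.Quotient.mk_eq_zero _).mpr (hann r hx)

lemma mulMap_exact : Function.Exact (mulMap a b hab) (Submodule.mkQ (Ideal.span {a})) := by
  intro y
  rw [Submodule.mkQ_apply, Submodule.Quotient.mk_eq_zero, Ideal.mem_span_singleton']
  constructor
  · rintro ⟨c, rfl⟩
    exact ⟨Submodule.Quotient.mk c, by rw [mulMap_mk, mul_comm]⟩
  · rintro ⟨x, rfl⟩
    obtain ⟨r, rfl⟩ := Submodule.Quotient.mk_surjective _ x
    exact ⟨r, by rw [mulMap_mk, mul_comm]⟩

variable (N : Type u) [AddCommGroup N] [Module R N] (haN : ∀ x : N, a • x = 0)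

include hab hann haN in
/-- Dimension shifting along `0 → R/(b) --a--> R → R/(a) → 0` for a module killed by `a`. -/
lemma length_tor_succ :
    ∀ n : ℕ, Module.length R (T R (n + 1) (R ⧸ Ideal.span {a}) N) =
      Module.length R (T R n (R ⧸ Ideal.span {b}) N) := by
  intro n
  have hι := mulMap_injective a b hab hann
  have hex := mulMap_exact a b hab
  have hπ : Function.Surjective (Submodule.mkQ (Ideal.span {a})) := Submodule.mkQ_surjective _
  have hS := sesSC_shortExact _ _ hι hex hπ
  have hmono : Mono ((TorLES.δ _ hS n).app (ModuleCat.of R N)) :=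
    (TorLES.exact₃ _ hS (ModuleCat.of R N) n).mono_g
      ((isZero_of_flat_left R N n).eq_of_src _ _)
  have hzero : ((Tor (ModuleCat.{u} R) n).map (sesSC _ _ hex).f).app (ModuleCat.of R N) = 0 := by
    cases n with
    | zero =>
      have h := TorLES.torZeroIso_hom_naturality (sesSC _ _ hex).f (ModuleCat.of R N)
      have hw : (sesSC _ _ hex).f ▷ (ModuleCat.of R N) = 0 := by
        apply ModuleCat.MonoidalCategory.tensor_ext
        intro m x
        obtain ⟨r, rfl⟩ := Submodule.Quotient.mk_surjective _ m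
        change (mulMap a b hab (Submodule.Quotient.mk r)) ⊗ₜ[R] x = 0
        rw [mulMap_mk, ← smul_eq_mul, TensorProduct.smul_tmul, haN, TensorProduct.tmul_zero]
      rw [hw, comp_zero] at h
      have h2 := congrArg (· ≫ (TorLES.torZeroIso (sesSC _ _ hex).X₂).inv.app (ModuleCat.of R N)) h
      simpa using h2
    | succ m => exact (isZero_of_flat_left R N m).eq_of_tgt _ _
  have hepi : Epi ((TorLES.δ _ hS n).app (ModuleCat.of R N)) :=
    (TorLES.exact₁ _ hS (ModuleCat.of R N) n).epi_f hzero
  have := hmono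
  have := hepi
  have : IsIso ((TorLES.δ _ hS n).app (ModuleCat.of R N)) := isIso_of_mono_of_epi _
  exact (asIso ((TorLES.δ _ hS n).app (ModuleCat.of R N))).toLinearEquiv.length_eq

end L0

section L1

variable {R : Type u} [CommRing R]

lemma length_tor_zero (b : R) (N : Type u) [AddCommGroup N] [Module R N]
    (hbN : ∀ x : N, b • x = 0) :
    Module.length R (T R 0 (R ⧸ Ideal.span {b}) N) = Module.length R N := by
  have e1 := torZeroEquiv (R := R) (R ⧸ Ideal.span {b}) N
  have e2 := TensorProduct.quotTensorEquivQuotSMul N (Ideal.span {b})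
  have hbot : (Ideal.span {b} • (⊤ : Submodule R N)) = ⊥ := by
    rw [eq_bot_iff]
    rw [Submodule.smul_le]
    intro r hr x _
    obtain ⟨c, rfl⟩ := Ideal.mem_span_singleton'.mp hr
    rw [Submodule.mem_bot, mul_smul, hbN, smul_zero]
  have e3 := Submodule.quotEquivOfEqBot _ hbot
  rw [e1.length_eq, e2.length_eq, e3.length_eq]

/-- Both `Tor_n(R/(a), N)` and `Tor_n(R/(b), N)` have the length of `N`, when `ann a = (b)`,
`ann b = (a)` and `a`, `b` kill `N`. -/
lemma length_tor_quot_pair (a b : R) (hab : a * b = 0)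
    (hanna : ∀ r, a * r = 0 → r ∈ Ideal.span {b}) (hannb : ∀ r, b * r = 0 → r ∈ Ideal.span {a})
    (N : Type u) [AddCommGroup N] [Module R N] (haN : ∀ x : N, a • x = 0)
    (hbN : ∀ x : N, b • x = 0) :
    ∀ n : ℕ, Module.length R (T R n (R ⧸ Ideal.span {a}) N) = Module.length R N ∧
      Module.length R (T R n (R ⧸ Ideal.span {b}) N) = Module.length R N := by
  intro n
  induction n with
  | zero => exact ⟨length_tor_zero a N haN, length_tor_zero b N hbN⟩
  | succ n ih =>
    refine ⟨?_, ?_⟩
    · rw [length_tor_succ a b hab hanna N haN n]; exact ih.2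
    · rw [length_tor_succ b a (by rw [mul_comm]; exact hab) hannb N hbN n]; exact ih.1

/-- For `0 → B --a--> B → B' → 0` and `N` killed by `a`:
`length Tor_{n+1}(B', N) = length Tor_{n+1}(B, N) + length Tor_n(B, N)`. -/
lemma length_tor_quot_regular {B B' N : Type u} [AddCommGroup B] [Module R B] [AddCommGroup B']
    [Module R B'] [AddCommGroup N] [Module R N] (a : R) (π : B →ₗ[R] B')
    (hreg : IsSMulRegular B a)
    (hex : Function.Exact (a • (LinearMap.id : B →ₗ[R] B)) π) (hπ : Function.Surjective π)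
    (haN : ∀ x : N, a • x = 0) (n : ℕ) :
    Module.length R (T R (n + 1) B' N) =
      Module.length R (T R (n + 1) B N) + Module.length R (T R n B N) := by
  have hι := TorLinear.smulId_injective a hreg
  have hS := sesSC_shortExact _ π hι hex hπ
  have haN' : a • 𝟙 (ModuleCat.of R N) = 0 := by
    ext x
    exact haN x
  have hz : ∀ i, ((Tor (ModuleCat.{u} R) i).map (sesSC _ π hex).f).app (ModuleCat.of R N) = 0 := by
    intro i
    have := TorLinear.tor_map_smul_id_app a (ModuleCat.of R B) (ModuleCat.of R N) i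
    rw [smul_id_tor_right a _ _ haN' i] at this
    exact this
  have hmono : Mono (((Tor (ModuleCat.{u} R) (n + 1)).map (sesSC _ π hex).g).app (ModuleCat.of R N)) :=
    (TorLES.exact₂ _ hS (ModuleCat.of R N) (n + 1)).mono_g (hz (n + 1))
  have hepi : Epi ((TorLES.δ _ hS n).app (ModuleCat.of R N)) :=
    (TorLES.exact₁ _ hS (ModuleCat.of R N) n).epi_f (hz n)
  have hexact := TorLES.exact₃ _ hS (ModuleCat.of R N) n
  exact Module.length_eq_add_of_exact _ _ ((ModuleCat.mono_iff_injective _).mp hmono)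
    ((ModuleCat.epi_iff_surjective _).mp hepi)
    ((ShortComplex.ShortExact.moduleCat_exact_iff_function_exact _).mp hexact)

/-- Tor against a module of projective dimension `< n` vanishes in degrees `≥ max n 1`. -/
lemma isZero_tor_of_hasProjectiveDimensionLT (N : ModuleCat.{u} R) :
    ∀ (n : ℕ) (X : ModuleCat.{u} R), HasProjectiveDimensionLT X n → ∀ i, n ≤ i → 1 ≤ i →
      IsZero (((Tor (ModuleCat.{u} R) i).obj X).obj N) := by
  intro n
  induction n using Nat.strong_induction_on with
  | _ n ih =>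
  intro X hX i hi hi1
  obtain ⟨j, rfl⟩ : ∃ j, i = j + 1 := ⟨i - 1, by omega⟩
  by_cases hn : n ≤ 1
  · have h1 : HasProjectiveDimensionLT X 1 := hasProjectiveDimensionLT_of_ge X n 1 hn
    have h2 : Projective X := projective_iff_hasProjectiveDimensionLT_one.mpr h1
    have := TorLES.flat_of_projective X
    exact TorLES.isZero_tor_succ_of_flat_left X N j
  · obtain ⟨m, rfl⟩ : ∃ m, n = m + 2 := ⟨n - 2, by omega⟩
    have hS := TorLES.presentation_shortExact X
    have hproj : Projective (TorLES.presentation X).X₂ := by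
      dsimp [TorLES.presentation]; infer_instance
    have h1 : HasProjectiveDimensionLT (TorLES.presentation X).X₁ (m + 1) :=
      (hS.hasProjectiveDimensionLT_X₃_iff m hproj).mp hX
    obtain ⟨l, rfl⟩ : ∃ l, j = l + 1 := ⟨j - 1, by omega⟩
    have hz1 := ih (m + 1) (by omega) _ h1 (l + 1) (by omega) (by omega)
    have hz2 : IsZero (((Tor (ModuleCat.{u} R) (l + 1 + 1)).obj (TorLES.presentation X).X₂).obj N) :=
      TorLES.isZero_tor_succ_of_flat_left _ N (l + 1)
    exact (TorLES.exact₃ _ hS N (l + 1)).isZero_X₂ (hz2.eq_of_src _ _) (hz1.eq_of_tgt _ _)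

end L1

section node

open MvPolynomial

variable (k : Type u) [Field k]

lemma ring_facts (I : Ideal (MvPolynomial (Fin 2) k)) (i j : Fin 2) (hij : i ≠ j)
    (hI : I = Ideal.span {(X i * X j : MvPolynomial (Fin 2) k)}) :
    (Ideal.Quotient.mk I (X i) * Ideal.Quotient.mk I (X j) = 0) ∧
    (∀ r : MvPolynomial (Fin 2) k ⧸ I, Ideal.Quotient.mk I (X i) * r = 0 →
      r ∈ Ideal.span {Ideal.Quotient.mk I (X j)}) ∧
    (∀ r : MvPolynomial (Fin 2) k ⧸ I,
      Ideal.Quotient.mk I (X i) * r ∈ Ideal.span {Ideal.Quotient.mk I (X j)} →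
      r ∈ Ideal.span {Ideal.Quotient.mk I (X j)}) := by
  subst hI
  refine ⟨?_, ?_, ?_⟩
  · rw [← map_mul, Ideal.Quotient.eq_zero_iff_mem]; exact Ideal.mem_span_singleton_self _
  · intro r hr
    obtain ⟨p, rfl⟩ := Ideal.Quotient.mk_surjective r
    rw [← map_mul, Ideal.Quotient.eq_zero_iff_mem, Ideal.mem_span_singleton'] at hr
    obtain ⟨q, hq⟩ := hr
    have : p = q * X j := by
      apply mul_left_cancel₀ (X_ne_zero i)
      rw [← hq]; ring
    rw [this, map_mul]
    exact Ideal.mul_mem_left _ _ (Ideal.mem_span_singleton_self _)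
  · intro r hr
    obtain ⟨p, rfl⟩ := Ideal.Quotient.mk_surjective r
    rw [Ideal.mem_span_singleton'] at hr
    obtain ⟨c, hc⟩ := hr
    obtain ⟨q, rfl⟩ := Ideal.Quotient.mk_surjective c
    rw [← map_mul, ← map_mul, Ideal.Quotient.eq, Ideal.mem_span_singleton'] at hc
    obtain ⟨s, hs⟩ := hc
    have hdvd : (X j : MvPolynomial (Fin 2) k) ∣ X i * p :=
      ⟨q - s * X i, by linear_combination hs⟩
    rcases X_dvd_mul_iff.mp hdvd with h | h
    · exact absurd (X_dvd_X.mp h) (Ne.symm hij)
    · obtain ⟨t, rfl⟩ := h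
      rw [map_mul]
      exact Ideal.mul_mem_right _ _ (Ideal.mem_span_singleton_self _)

lemma maximal_vars : (Ideal.span {(X 0 : MvPolynomial (Fin 2) k), X 1}).IsMaximal := by
  have h1 : Ideal.span {(X 0 : MvPolynomial (Fin 2) k), X 1} =
      RingHom.ker (constantCoeff : MvPolynomial (Fin 2) k →+* k) := by
    have h2 : Ideal.span {(X 0 : MvPolynomial (Fin 2) k), X 1} = idealOfVars (Fin 2) k := by
      unfold idealOfVars
      congr 1
      ext p
      simp only [Set.mem_insert_iff, Set.mem_singleton_iff, Set.mem_range, Fin.exists_fin_two]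
      tauto
    ext p
    rw [h2, RingHom.mem_ker, ← pow_one (idealOfVars (Fin 2) k), mem_pow_idealOfVars_iff']
    constructor
    · intro h
      exact h 0 (by simp)
    · intro h x hx
      have : x = 0 := by
        rw [Nat.lt_one_iff] at hx
        exact (Finsupp.degree_eq_zero_iff x).mp hx
      rw [this]; exact h
  rw [h1]
  exact RingHom.ker_isMaximal_of_surjective _ (fun c => ⟨C c, constantCoeff_C _ c⟩)

/-- the node ideal -/
noncomputable abbrev II : Ideal (MvPolynomial (Fin 2) k) :=
  Ideal.span {(MvPolynomial.X 0 * MvPolynomial.X 1 : MvPolynomial (Fin 2) k)}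
/-- the node ring -/
abbrev AA := MvPolynomial (Fin 2) k ⧸ II k
/-- `x` -/
noncomputable abbrev xa : AA k := Ideal.Quotient.mk (II k) (MvPolynomial.X 0)
/-- `y` -/
noncomputable abbrev xb : AA k := Ideal.Quotient.mk (II k) (MvPolynomial.X 1)
/-- the residue field at the origin -/
abbrev KK := AA k ⧸ Ideal.span {xa k, xb k}

lemma maximal_m : (Ideal.span {xa k, xb k}).IsMaximal := by
  have hM := maximal_vars k
  have hmap : Ideal.map (Ideal.Quotient.mk (II k)) (Ideal.span {(X 0 : MvPolynomial (Fin 2) k), X 1})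
      = Ideal.span {xa k, xb k} := by
    rw [Ideal.map_span, Set.image_pair]
  rw [← hmap]
  refine (Ideal.map_eq_top_or_isMaximal_of_surjective _ Ideal.Quotient.mk_surjective hM).resolve_left
    ?_
  intro htop
  have h1 := Ideal.comap_map_of_surjective (Ideal.Quotient.mk (II k)) Ideal.Quotient.mk_surjective
    (Ideal.span {(X 0 : MvPolynomial (Fin 2) k), X 1})
  rw [htop, Ideal.comap_top] at h1
  have hle : Ideal.comap (Ideal.Quotient.mk (II k)) ⊥ ≤
      Ideal.span {(X 0 : MvPolynomial (Fin 2) k), X 1} := by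
    rw [← RingHom.ker_eq_comap_bot, Ideal.mk_ker, Ideal.span_singleton_le_iff_mem]
    exact Ideal.mul_mem_right _ _ (Ideal.subset_span (Set.mem_insert _ _))
  rw [sup_eq_left.mpr hle] at h1
  exact hM.ne_top h1.symm

lemma node_main :
    (∀ i : ℕ, 1 ≤ i → Module.length (AA k) (T (AA k) i (KK k) (KK k)) = 2) ∧
    ∀ n : ℕ, ¬ HasProjectiveDimensionLT (ModuleCat.of (AA k) (KK k)) n := by
  have hf01 := ring_facts k (II k) 0 1 (by decide) rfl
  have hf10 := ring_facts k (II k) 1 0 (by decide) (by rw [mul_comm])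
  have haK : ∀ x : KK k, xa k • x = 0 := by
    intro x
    obtain ⟨r, rfl⟩ := Submodule.Quotient.mk_surjective _ x
    rw [← Submodule.Quotient.mk_smul, Submodule.Quotient.mk_eq_zero, smul_eq_mul]
    exact Ideal.mul_mem_right _ _ (Ideal.subset_span (Set.mem_insert _ _))
  have hbK : ∀ x : KK k, xb k • x = 0 := by
    intro x
    obtain ⟨r, rfl⟩ := Submodule.Quotient.mk_surjective _ x
    rw [← Submodule.Quotient.mk_smul, Submodule.Quotient.mk_eq_zero, smul_eq_mul]
    exact Ideal.mul_mem_right _ _ (Ideal.subset_span (Set.mem_insert_of_mem _ rfl))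
  have hpair := length_tor_quot_pair (xa k) (xb k) hf01.1 hf01.2.1 hf10.2.1 (KK k) haK hbK
  have hlenK : Module.length (AA k) (KK k) = 1 := by
    have : IsSimpleModule (AA k) (KK k) :=
      isSimpleModule_iff_isCoatom.mpr (Ideal.isMaximal_def.mp (maximal_m k))
    exact Module.length_eq_one _ _
  have hle : Ideal.span {xb k} ≤ Ideal.span {xa k, xb k} :=
    Ideal.span_mono (by intro z hz; exact Set.mem_insert_of_mem _ hz)
  let π : (AA k ⧸ Ideal.span {xb k}) →ₗ[AA k] KK k := Submodule.mapQ _ _ LinearMap.id hle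
  have hπ : Function.Surjective π := by
    intro x
    obtain ⟨r, rfl⟩ := Submodule.Quotient.mk_surjective _ x
    exact ⟨Submodule.Quotient.mk r, rfl⟩
  have hreg : IsSMulRegular (AA k ⧸ Ideal.span {xb k}) (xa k) := by
    intro x y hxy
    obtain ⟨r, rfl⟩ := Submodule.Quotient.mk_surjective _ x
    obtain ⟨r', rfl⟩ := Submodule.Quotient.mk_surjective _ y
    simp only [← Submodule.Quotient.mk_smul, smul_eq_mul] at hxy
    rw [Submodule.Quotient.eq] at hxy ⊢
    rw [← mul_sub] at hxy
    exact hf01.2.2 _ hxy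
  have hex : Function.Exact (xa k • (LinearMap.id : (AA k ⧸ Ideal.span {xb k}) →ₗ[AA k] _)) π := by
    intro y
    obtain ⟨r, rfl⟩ := Submodule.Quotient.mk_surjective _ y
    simp only [π, Submodule.mapQ_apply, LinearMap.id_coe, id_eq, Submodule.Quotient.mk_eq_zero,
      Set.mem_range, LinearMap.smul_apply]
    rw [Ideal.mem_span_pair]
    constructor
    · rintro ⟨c, d, hcd⟩
      refine ⟨Submodule.Quotient.mk c, ?_⟩
      rw [← Submodule.Quotient.mk_smul, Submodule.Quotient.eq, smul_eq_mul,
        Ideal.mem_span_singleton']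
      exact ⟨-d, by rw [← hcd]; ring⟩
    · rintro ⟨x, hx⟩
      obtain ⟨c, rfl⟩ := Submodule.Quotient.mk_surjective _ x
      rw [← Submodule.Quotient.mk_smul, Submodule.Quotient.eq, smul_eq_mul,
        Ideal.mem_span_singleton'] at hx
      obtain ⟨d, hd⟩ := hx
      exact ⟨c, -d, by linear_combination (-1 : AA k) * hd⟩
  have hmain := fun n => length_tor_quot_regular (xa k) π hreg hex hπ haK n
  constructor
  · intro i hi
    obtain ⟨n, rfl⟩ : ∃ n, i = n + 1 := ⟨i - 1, by omega⟩
    rw [hmain n, (hpair (n + 1)).2, (hpair n).2, hlenK]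
    rfl
  · intro n hn
    have hz := isZero_tor_of_hasProjectiveDimensionLT (ModuleCat.of (AA k) (KK k)) n _ hn
      (max n 1) (le_max_left _ _) (le_max_right _ _)
    have hsub := ModuleCat.subsingleton_of_isZero hz
    have h0 : Module.length (AA k) (T (AA k) (max n 1) (KK k) (KK k)) = 0 :=
      Module.length_eq_zero_iff.mpr hsub
    obtain ⟨m, hm⟩ : ∃ m, max n 1 = m + 1 := ⟨max n 1 - 1, by omega⟩
    rw [hm, hmain m, (hpair (m + 1)).2, (hpair m).2, hlenK] at h0
    exact absurd h0 (by decide)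

end node

/-- Let k be a field, A = k[x, y]/(xy) (x = X_0, y = X_1) and κ = A/(x, y) the residue field at the
origin, viewed as an A-module. Then for every i ≥ 1 the A-module Tor_i^A(κ, κ) has length 2 (it is a
two-dimensional κ-vector space; Tor_0 is κ), and κ admits no finite projective resolution over A:
for no n is its projective dimension less than n. -/
theorem result (k : Type u) [Field k] :
    (∀ i : ℕ, 1 ≤ i →
      Module.length (MvPolynomial (Fin 2) k ⧸ Ideal.span {(MvPolynomial.X 0 * MvPolynomial.X 1 : MvPolynomial (Fin 2) k)}) ((((Tor (ModuleCat.{u} (MvPolynomial (Fin 2) k ⧸ Ideal.span {(MvPolynomial.X 0 * MvPolynomial.X 1 : MvPolynomial (Fin 2) k)})) i).obj (ModuleCat.of (MvPolynomial (Fin 2) k ⧸ Ideal.span {(MvPolynomial.X 0 * MvPolynomial.X 1 : MvPolynomial (Fin 2) k)}) ((MvPolynomial (Fin 2) k ⧸ Ideal.span {(MvPolynomial.X 0 * MvPolynomial.X 1 : MvPolynomial (Fin 2) k)}) ⧸ Ideal.span {Ideal.Quotient.mk (Ideal.span {(MvPolynomial.X 0 * MvPolynomial.X 1 : MvPolynomial (Fin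 2) k)}) (MvPolynomial.X 0), Ideal.Quotient.mk (Ideal.span {(MvPolynomial.X 0 * MvPolynomial.X 1 : MvPolynomial (Fin 2) k)}) (MvPolynomial.X 1)}))).obj (ModuleCat.of (MvPolynomial (Fin 2) k ⧸ Ideal.span {(MvPolynomial.X 0 * MvPolynomial.X 1 : MvPolynomial (Fin 2) k)}) ((MvPolynomial (Fin 2) k ⧸ Ideal.span {(MvPolynomial.X 0 * MvPolynomial.X 1 : MvPolynomial (Fin 2) k)}) ⧸ Ideal.span {Ideal.Quotient.mk (Ideal.span {(MvPolynomial.X 0 * MvPolynomial.X 1 : MvPolynomial (Fin 2) k)}) (MvPolynomial.X 0), Ideal.Quotient.mk (Ideal.span {(MvPolynomial.X 0 * MvPolynomial.X 1 : MvPolynomial (Fin 2) k)}) (MvPolynomial.X 1)}))) : Type u) = 2) ∧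
    ∀ n : ℕ, ¬ HasProjectiveDimensionLT (ModuleCat.of (MvPolynomial (Fin 2) k ⧸ Ideal.span {(MvPolynomial.X 0 * MvPolynomial.X 1 : MvPolynomial (Fin 2) k)}) ((MvPolynomial (Fin 2) k ⧸ Ideal.span {(MvPolynomial.X 0 * MvPolynomial.X 1 : MvPolynomial (Fin 2) k)}) ⧸ Ideal.span {Ideal.Quotient.mk (Ideal.span {(MvPolynomial.X 0 * MvPolynomial.X 1 : MvPolynomial (Fin 2) k)}) (MvPolynomial.X 0), Ideal.Quotient.mk (Ideal.span {(MvPolynomial.X 0 * MvPolynomial.X 1 : MvPolynomial (Fin 2) k)}) (MvPolynomial.X 1)})) n := by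
  exact node_main k

end Groth.Agent.S16243
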