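import Groth.Statements.S13993
import Mathlib
import Groth.Agent.S16243
-- import your own Groth.Agent.* helpers here

set_option autoImplicit false
set_option backward.isDefEq.respectTransparency false
set_option backward.defeqAttrib.useBackward true
universe u
open CategoryTheory
open CAlg

namespace Groth.Agent.S13993
open Groth.Agent.S16243

section smulId
open ModuleCat
variable {R : Type u} [CommRing R] {k : Type u} [Field k] [Algebra k R]

/-- `c • 𝟙 N` for `c` in the base field. -/
noncomputable def smulId (c : k) (N : ModuleCat.{u} R) : N ⟶ N := c • 𝟙 N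

lemma smulId_apply (c : k) (N : ModuleCat.{u} R) (t : N) :
    (smulId c N).hom t = algebraMap k R c • t := by
  change c • t = _
  exact (algebraMap_smul R c t).symm

lemma mk₀_smulId (c : k) (N : ModuleCat.{u} R) :
    Abelian.Ext.mk₀ (smulId c N) = c • Abelian.Ext.mk₀ (𝟙 N) :=
  Abelian.Ext.mk₀_smul (R := k) c (𝟙 N)

end smulId

section G
open ModuleCat in
lemma finrank_ext_one {R : Type u} [CommRing R] {k : Type u} [Field k] [Algebra k R] (a b : R)
    (hab : a * b = 0)
    (hann : ∀ r, a * r = 0 → r ∈ Ideal.span {b})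
    (hdec : ∀ r : R, ∃ c : k, ∃ r₂ : R, r - algebraMap k R c - a * r₂ ∈ Ideal.span {b})
    (hproper : ∀ s : R, 1 - a * s ∉ Ideal.span {b}) :
    Module.finrank k (Abelian.Ext (ModuleCat.of R (R ⧸ Ideal.span {a}))
      (ModuleCat.of R (R ⧸ Ideal.span {b})) 1) = 1 := by
  classical
  have hι := mulMap_injective a b hab hann
  have hex := mulMap_exact a b hab
  have hπ : Function.Surjective (Submodule.mkQ (Ideal.span {a})) := Submodule.mkQ_surjective _
  let S := ModuleCat.shortComplexOfCompEqZero (mulMap a b hab) (Submodule.mkQ (Ideal.span {a}))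
    hex.linearMap_comp_eq_zero
  have hS : S.ShortExact := ModuleCat.shortComplex_shortExact _ hex hι hπ
  let N : ModuleCat.{u} R := ModuleCat.of R (R ⧸ Ideal.span {b})
  have hproj : Projective S.X₂ := by
    change Projective (ModuleCat.of R R)
    infer_instance
  have hsurj : ∀ w : Abelian.Ext S.X₃ N 1, ∃ x₁ : Abelian.Ext S.X₁ N 0,
      hS.extClass.comp x₁ (by rfl : 1 + 0 = 1) = w := fun w =>
    Abelian.Ext.contravariant_sequence_exact₃ hS N w (Abelian.Ext.eq_zero_of_projective _) rfl
  let v : Abelian.Ext S.X₃ N 1 := hS.extClass.comp (Abelian.Ext.mk₀ (𝟙 N)) (by rfl : 1 + 0 = 1)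
  have hv : v ≠ 0 := by
    intro h0
    obtain ⟨x₂, hx₂⟩ := Abelian.Ext.contravariant_sequence_exact₁ hS N (Abelian.Ext.mk₀ (𝟙 N))
      (by rfl : 1 + 0 = 1) h0
    obtain ⟨φ, rfl⟩ := (Abelian.Ext.mk₀_bijective _ _).2 x₂
    rw [Abelian.Ext.mk₀_comp_mk₀] at hx₂
    have h1 : S.f ≫ φ = 𝟙 N := (Abelian.Ext.mk₀_bijective _ _).1 hx₂
    obtain ⟨s, hs⟩ := Submodule.Quotient.mk_surjective _ (φ.hom (1 : R))
    have h2 := congrArg (fun g => g.hom (Submodule.Quotient.mk (1 : R))) h1
    simp only [ModuleCat.hom_comp, LinearMap.comp_apply, ModuleCat.hom_id, LinearMap.id_apply] at h2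
    change φ.hom (mulMap a b hab (Submodule.Quotient.mk 1)) = _ at h2
    rw [mulMap_mk, mul_one] at h2
    have h3 : φ.hom a = a • φ.hom (1 : R) := by
      rw [← map_smul, smul_eq_mul, mul_one]
    rw [h3, ← hs, ← Submodule.Quotient.mk_smul, smul_eq_mul] at h2
    have h4 := (Submodule.Quotient.eq _).mp h2
    apply hproper s
    have : (1 : R) - a * s = -(a * s - 1) := by ring
    rw [this]
    exact (Ideal.neg_mem_iff _).mpr h4
  rw [finrank_eq_one_iff_of_nonzero' v hv]
  intro w
  obtain ⟨x₁, rfl⟩ := hsurj w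
  obtain ⟨g, rfl⟩ := (Abelian.Ext.mk₀_bijective _ _).2 x₁
  obtain ⟨r, hr⟩ := Submodule.Quotient.mk_surjective _ (g.hom (Submodule.Quotient.mk (1 : R)))
  obtain ⟨c, r₂, hc⟩ := hdec r
  let φ : S.X₂ ⟶ N := ModuleCat.ofHom
    (LinearMap.toSpanSingleton R (R ⧸ Ideal.span {b}) (Submodule.Quotient.mk r₂))
  have hg : g = smulId c N + S.f ≫ φ := by
    apply ModuleCat.hom_ext
    apply LinearMap.ext
    intro t
    obtain ⟨t, rfl⟩ := Submodule.Quotient.mk_surjective _ t
    have h1 : g.hom (Submodule.Quotient.mk t) = Submodule.Quotient.mk (t * r) := by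
      have : (Submodule.Quotient.mk t : R ⧸ Ideal.span {b}) = t • Submodule.Quotient.mk (1 : R) := by
        rw [← Submodule.Quotient.mk_smul, smul_eq_mul, mul_one]
      rw [this, map_smul, ← hr, ← Submodule.Quotient.mk_smul, smul_eq_mul]
    have h2 : (smulId c N + S.f ≫ φ).hom (Submodule.Quotient.mk t) =
        Submodule.Quotient.mk (algebraMap k R c * t + a * t * r₂) := by
      rw [ModuleCat.hom_add, LinearMap.add_apply, ModuleCat.hom_comp, LinearMap.comp_apply]
      change (smulId c N).hom (Submodule.Quotient.mk t) +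
        φ.hom (mulMap a b hab (Submodule.Quotient.mk t)) = _
      rw [mulMap_mk, smulId_apply]
      change algebraMap k R c • (Submodule.Quotient.mk t : R ⧸ Ideal.span {b}) +
        (a * t) • (Submodule.Quotient.mk r₂ : R ⧸ Ideal.span {b}) = _
      rw [← Submodule.Quotient.mk_smul, ← Submodule.Quotient.mk_smul, ← Submodule.Quotient.mk_add,
        smul_eq_mul, smul_eq_mul]
    rw [h1, h2, Submodule.Quotient.eq]
    have : t * r - (algebraMap k R c * t + a * t * r₂) = t * (r - algebraMap k R c - a * r₂) := by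
      ring
    rw [this]
    exact Ideal.mul_mem_left _ _ hc
  refine ⟨c, ?_⟩
  rw [hg, Abelian.Ext.mk₀_add, Abelian.Ext.comp_add, mk₀_smulId,
    Abelian.Ext.comp_smul,
    ← Abelian.Ext.mk₀_comp_mk₀, ShortComplex.ShortExact.extClass_comp_assoc, add_zero]
end G


section Ring
open MvPowerSeries
variable (k : Type u) [Field k]

lemma decomp (g : MvPowerSeries (Fin 2) k) (hg : constantCoeff g = 0) :
    ∃ g₁ g₂ : MvPowerSeries (Fin 2) k, g = X 0 * g₁ + X 1 * g₂ := by
  classical
  let h : MvPowerSeries (Fin 2) k := fun m => if m 0 = 0 then coeff m g else 0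
  have hcoeff : ∀ m, coeff m h = if m 0 = 0 then coeff m g else 0 := fun m => rfl
  have h1 : (X 0 : MvPowerSeries (Fin 2) k) ∣ g - h := by
    rw [X_dvd_iff]
    intro m hm
    rw [map_sub, hcoeff, if_pos hm, sub_self]
  have h2 : (X 1 : MvPowerSeries (Fin 2) k) ∣ h := by
    rw [X_dvd_iff]
    intro m hm
    rw [hcoeff]
    split_ifs with h0
    · have : m = 0 := by
        ext i
        fin_cases i
        · exact h0
        · exact hm
      rw [this, coeff_zero_eq_constantCoeff_apply, hg]
    · rfl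
  obtain ⟨g₁, hg₁⟩ := h1
  obtain ⟨g₂, hg₂⟩ := h2
  exact ⟨g₁, g₂, by rw [← hg₁, ← hg₂]; ring⟩

end Ring

/-- Let k be a field and A = k[[x,y]]/(xy) the complete local ring of a node, with branch rings A/(y)
and A/(x) viewed as A-modules. Then the first Ext group Ext¹_A(A/(y), A/(x)) has dimension one over
k. (The published statement is for the local ring at a node of a reduced curve over an algebraically
closed field of characteristic zero, a node being a point whose complete local ring is A; this row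
states the case of the complete local ring A itself, over an arbitrary field.) -/
theorem result (k : Type u) [Field k] : Module.finrank k (Abelian.Ext (ModuleCat.of (MvPowerSeries (Fin 2) k ⧸ Ideal.span {(MvPowerSeries.X (0 : Fin 2) : MvPowerSeries (Fin 2) k) * MvPowerSeries.X (1 : Fin 2)}) ((MvPowerSeries (Fin 2) k ⧸ Ideal.span {(MvPowerSeries.X (0 : Fin 2) : MvPowerSeries (Fin 2) k) * MvPowerSeries.X (1 : Fin 2)}) ⧸ Ideal.span {Ideal.Quotient.mk (Ideal.span {(MvPowerSeries.X (0 : Fin 2) : MvPowerSeries (Fin 2) k) * MvPowerSeries.X (1 : Fin 2)}) (MvPowerSeries.X (1 : Fin 2))})) (ModuleCat.of (MvPowerSeries (Fin 2) k ⧸ Ideal.span {(MvPowerSeries.X (0 : Fin 2) : MvPowerSeries (Fin 2) k) * MvPowerSeries.X (1 : Fin 2)}) ((MvPowerSeries (Fin 2) k ⧸ Ideal.span {(MvPowerSeries.X (0 : Fin 2) : MvPowerSeries (Fin 2) k) * MvPowerSeries.X (1 : Fin 2)}) ⧸ Ideal.span {Ideal.Quotient.mk (Ideal.span {(MvPowerSeries.X (0 : Fin 2) : MvPowerSeries (Fin 2) k) * MvPowerSeries.X (1 : Fin 2)}) (MvPowerSeries.X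 (0 : Fin 2))})) 1) = 1 := by
  classical
  have hI : ∀ g ∈ Ideal.span {(MvPowerSeries.X (0 : Fin 2) : MvPowerSeries (Fin 2) k) * MvPowerSeries.X (1 : Fin 2)},
      MvPowerSeries.constantCoeff g = 0 := by
    intro g hg
    obtain ⟨h, rfl⟩ := Ideal.mem_span_singleton'.mp hg
    simp
  let ε : (MvPowerSeries (Fin 2) k ⧸ Ideal.span {(MvPowerSeries.X (0 : Fin 2) : MvPowerSeries (Fin 2) k) * MvPowerSeries.X (1 : Fin 2)}) →+* k :=
    Ideal.Quotient.lift _ MvPowerSeries.constantCoeff hI
  apply finrank_ext_one (k := k)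
  · -- a * b = 0
    rw [← map_mul, Ideal.Quotient.eq_zero_iff_mem, mul_comm]
    exact Ideal.subset_span rfl
  · -- annihilator
    intro r hr
    obtain ⟨g, rfl⟩ := Ideal.Quotient.mk_surjective r
    rw [← map_mul, Ideal.Quotient.eq_zero_iff_mem] at hr
    obtain ⟨h, hh⟩ := Ideal.mem_span_singleton'.mp hr
    have hX1 : (MvPowerSeries.X (1 : Fin 2) : MvPowerSeries (Fin 2) k) ≠ 0 := by
      intro h0
      have := congrArg (MvPowerSeries.coeff (Finsupp.single (1 : Fin 2) 1)) h0
      rw [MvPowerSeries.coeff_X, if_pos rfl, map_zero] at this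
      exact one_ne_zero this
    have : g = h * MvPowerSeries.X 0 := by
      apply mul_left_cancel₀ hX1
      rw [← hh]; ring
    rw [this, map_mul]
    exact Ideal.mul_mem_left _ _ (Ideal.subset_span rfl)
  · -- decomposition
    intro r
    obtain ⟨g, rfl⟩ := Ideal.Quotient.mk_surjective r
    obtain ⟨g₁, g₂, hg⟩ := decomp k (g - MvPowerSeries.C (MvPowerSeries.constantCoeff g)) (by simp)
    refine ⟨MvPowerSeries.constantCoeff g, Ideal.Quotient.mk _ g₂, ?_⟩
    have h1 : algebraMap k (MvPowerSeries (Fin 2) k ⧸ Ideal.span {(MvPowerSeries.X (0 : Fin 2) : MvPowerSeries (Fin 2) k) * MvPowerSeries.X (1 : Fin 2)}) (MvPowerSeries.constantCoeff g) =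
        Ideal.Quotient.mk _ (MvPowerSeries.C (MvPowerSeries.constantCoeff g)) := rfl
    rw [h1, ← map_mul, ← map_sub, ← map_sub]
    have h2 : g - MvPowerSeries.C (MvPowerSeries.constantCoeff g) - MvPowerSeries.X 1 * g₂ =
        g₁ * MvPowerSeries.X 0 := by
      rw [hg]; ring
    rw [h2, map_mul]
    exact Ideal.mul_mem_left _ _ (Ideal.subset_span rfl)
  · -- properness
    intro s hs
    obtain ⟨t, ht⟩ := Ideal.mem_span_singleton'.mp hs
    have := congrArg ε ht
    simp only [map_mul, map_sub, map_one, ε, Ideal.Quotient.lift_mk] at this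
    simp at this

end Groth.Agent.S13993
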