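import Groth.Statements.S13994
import Groth.Agent.Lib.Helper29.MatFac2
import Groth.Agent.Lib.Helper29.DepthFinite
import Groth.Agent.Lib.Helper49.Serre
import Groth.Agent.Lib.Helper46.TorShift
import Groth.Agent.Lib.Helper46.TorOne

set_option autoImplicit false
universe u
open CategoryTheory
open CAlg

namespace Groth.Agent.S13994

/-- A reduced Noetherian local ring whose maximal ideal is nonzero has a non-zero-divisor in its
maximal ideal. -/
private theorem exists_regular_of_isReduced (R : Type u) [CommRing R] [IsLocalRing R]
    [IsNoetherianRing R] [IsReduced R] (hm : IsLocalRing.maximalIdeal R ≠ ⊥) :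
    ∃ t ∈ IsLocalRing.maximalIdeal R, IsSMulRegular R t := by
  by_contra hcon
  push Not at hcon
  have hd : LocCoh.idealDepth (IsLocalRing.maximalIdeal R) R = 0 :=
    (Groth.Agent.Lib.Helper29.DepthFinite.idealDepth_eq_zero_iff_forall_not_isSMulRegular _ R
      (Groth.Agent.Lib.Helper29.maximalIdeal_smul_top_ne_top R R)).2 hcon
  have hass : IsLocalRing.maximalIdeal R ∈ associatedPrimes R R :=
    (Groth.Agent.Lib.Helper29.depth_eq_zero_iff_maximalIdeal_mem_ass R R).1 hd
  have hmin := Groth.Agent.Lib.Helper49.Serre.mem_minimalPrimes_of_mem_associatedPrimes_of_isReduced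
    R (IsLocalRing.maximalIdeal R) hass
  apply hm
  have hnil : nilradical R = IsLocalRing.maximalIdeal R := by
    rw [nilradical_eq_sInf]
    apply le_antisymm
    · exact sInf_le (inferInstance : (IsLocalRing.maximalIdeal R).IsPrime)
    · refine le_sInf fun q hq => ?_
      have hq' : q.IsPrime := hq
      have hle : q ≤ IsLocalRing.maximalIdeal R := IsLocalRing.le_maximalIdeal hq'.ne_top
      exact hmin.2 ⟨hq', bot_le⟩ hle
  rw [← hnil, nilradical_eq_zero]
  rfl

/-- Let S be a regular local ring of Krull dimension two, f a non-zero element of S and R the quotient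
of S by f, assumed reduced. Let M and N be finitely generated R-modules, each admitting a
non-zero-divisor in the maximal ideal of R, annihilated by ideals I and J respectively, where I + J
contains a power of the maximal ideal. Then Tor₁^R(M, Hom_R(N, R)) = 0. (The published claim is made
for the stalks at a common point of two subcurves without common component of a reduced projective
curve over a characteristic-zero algebraically closed field, the point being a planar singularity,
and the stalks of torsion-free sheaves supported on them; this row states it over an arbitrary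
two-dimensional regular local ring. Tor is computed by resolving the second argument.) -/
theorem result (S : Type u) [CommRing S] [IsRegularLocalRing S] (hS : ringKrullDim S = 2) (f : S) (hf : f ≠ 0) (R : Type u) [CommRing R] [IsLocalRing R] [IsReduced R] (π : S →+* R) (hπ : Function.Surjective π) (hker : RingHom.ker π = Ideal.span {f}) (I J : Ideal R) (n : ℕ) (hIJ : IsLocalRing.maximalIdeal R ^ n ≤ I ⊔ J) (M N : Type u) [AddCommGroup M] [Module R M] [Module.Finite R M] [AddCommGroup N] [Module R N] [Module.Finite R N] (hI : I ≤ Module.annihilator R M) (hJ : J ≤ Module.annihilator R N) (x : R) (hx : x ∈ IsLocalRing.maximalIdeal R) (hxM : IsSMulRegular M x) (y : R) (hy : y ∈ IsLocalRing.maximalIdeal R) (hyN : IsSMulRegular N y) : Limits.IsZero (((Tor (ModuleCat.{u} R) 1).obj (ModuleCat.of R M)).obj (ModuleCat.of R (Module.Dual R N))) := by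
  rcases subsingleton_or_nontrivial M with hsub | hnt
  · exact Groth.Agent.Lib.Helper46.TorShift.isZero_of_flat_left M (Module.Dual R N) 0
  have hnoeth : IsNoetherianRing R := isNoetherianRing_of_surjective S R π hπ
  let _ : Algebra S R := π.toAlgebra
  let _ : Module S M := Module.compHom M π
  have : IsScalarTower S R M := IsScalarTower.of_algebraMap_smul fun _ _ => rfl
  have hdom : IsDomain S := Groth.Agent.S0558.result S
  have hfreg : IsSMulRegular S f := by
    intro s t hst
    exact mul_left_cancel₀ hf hst
  obtain ⟨xt, hxt⟩ := hπ x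
  have hxtm : xt ∈ IsLocalRing.maximalIdeal S := by
    by_contra h
    rw [IsLocalRing.mem_maximalIdeal, mem_nonunits_iff, not_not] at h
    have hu := h.map π
    rw [hxt] at hu
    exact hx hu
  have hregS : IsSMulRegular M xt := by
    intro m1 m2 h
    apply hxM
    have h' : π xt • m1 = π xt • m2 := h
    rwa [hxt] at h'
  obtain ⟨a, b, Λ, Γ, p, hp, h1, h2, h3⟩ :=
    Groth.Agent.Lib.Helper29.MatFac.exists_matFac hS hπ f hker M xt hxtm hregS
  -- a regular element of `R` in the maximal ideal
  have hm : IsLocalRing.maximalIdeal R ≠ ⊥ := by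
    intro hbot
    have hx0 : x = 0 := by
      have : x ∈ (⊥ : Ideal R) := hbot ▸ hx
      simpa using this
    obtain ⟨m, hm0⟩ := exists_ne (0 : M)
    apply hm0
    apply hxM
    change x • m = x • 0
    rw [hx0, zero_smul, zero_smul]
  obtain ⟨t, htm, htreg⟩ := exists_regular_of_isReduced R hm
  have htX : IsSMulRegular (Module.Dual R N) (t ^ n) := by
    apply IsSMulRegular.pow
    intro φ ψ hφψ
    ext v
    apply htreg
    exact LinearMap.congr_fun hφψ v
  obtain ⟨i, hi, j, hj, hij⟩ := Submodule.mem_sup.1 (hIJ (Ideal.pow_mem_pow htm n))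
  rw [← hij] at htX
  have hjX : j ∈ Module.annihilator R (Module.Dual R N) := by
    rw [Module.mem_annihilator]
    intro φ
    ext v
    change j • φ v = 0
    rw [← map_smul, Module.mem_annihilator.1 (hJ hj) v, map_zero]
  have hk1 := Groth.Agent.Lib.Helper29.MatFac.ker_eq_range π hπ f hfreg hker Λ Γ h1 h2
  have hk2 := Groth.Agent.Lib.Helper29.MatFac.ker_eq_range π hπ f hfreg hker Γ Λ h2 h1
  have hgl : (Γ.map π).mulVecLin ∘ₗ (Λ.map π).mulVecLin = 0 := by
    refine LinearMap.ext fun v => ?_
    have : (Λ.map π).mulVecLin v ∈ LinearMap.ker (Γ.map π).mulVecLin := by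
      rw [hk2]; exact LinearMap.mem_range_self _ v
    exact this
  have hinj := Groth.Agent.Lib.Helper29.MatFac.injective_rTensor_ker M (Module.Dual R N)
    (Λ.map π).mulVecLin (Γ.map π).mulVecLin p h3 hk1 hgl i j (hI hi) hjX htX
  exact (Groth.Agent.Lib.Helper46.TorOne.isZero_tor_one_iff_injective_rTensor
    (LinearMap.ker p).subtype p (Submodule.injective_subtype _)
    (LinearMap.exact_subtype_ker_map p) hp).2 hinj

end Groth.Agent.S13994
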