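import Groth.Statements.S13995
import Mathlib
-- import your own Groth.Agent.* helpers here

set_option autoImplicit false
universe u
open CAlg

namespace Groth.Agent.S13995

/-- Let R be a reduced Noetherian ring, M a finitely generated R-module all of whose associated primes
are minimal primes of R and whose localization at each minimal prime p is one-dimensional over the
field R_p, and let g : M → Q be a surjection onto a finitely generated R-module Q all of whose
associated primes are minimal primes of R. Then the kernel of g is the intersection, over the
minimal primes p of R lying in the support of Q, of the kernels of the localization maps M → M_p.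
(The published statement is for a torsion-free coherent sheaf F of uniform rank one on a reduced
connected projective curve over a characteristic-zero algebraically closed field: its non-zero
torsion-free quotients are exactly the maximal torsion-free quotients F_D of the restrictions of F
to subcurves D; this row is the corresponding statement for modules over a reduced Noetherian ring,
a subcurve being a set of minimal primes, and identifies each torsion-free quotient with F_D for D
the set of generic points of its support.) -/
theorem result (R : Type u) [CommRing R] [IsNoetherianRing R] [IsReduced R] (M : Type u) [AddCommGroup M] [Module R M] [Module.Finite R M] (hM : associatedPrimes R M ⊆ minimalPrimes R) (hrk : ∀ p : PrimeSpectrum R, p.asIdeal ∈ minimalPrimes R → Module.finrank (Localization.AtPrime p.asIdeal) (LocalizedModule p.asIdeal.primeCompl M) = 1) (Q : Type u) [AddCommGroup Q] [Module R Q] [Module.Finite R Q] (hQ : associatedPrimes R Q ⊆ minimalPrimes R) (g : M →ₗ[R] Q) (hg : Function.Surjective g) : LinearMap.ker g = ⨅ p ∈ {p : PrimeSpectrum R | p.asIdeal ∈ minimalPrimes R ∧ p ∈ Module.support R Q}, LinearMap.ker (LocalizedModule.mkLinearMap p.asIdeal.primeCompl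 M) := by
  classical
  ext m
  simp only [LinearMap.mem_ker, Submodule.mem_iInf, Set.mem_ofPred_eq]
  constructor
  · rintro hm p ⟨hpmin, hpsupp⟩
    have : Ring.KrullDimLE 0 (Localization.AtPrime p.asIdeal) := .of_isLocalization _ hpmin _
    let : Field (Localization.AtPrime p.asIdeal) := Ring.KrullDimLE.isField_of_isReduced.toField
    have hnt : Nontrivial (LocalizedModule p.asIdeal.primeCompl Q) := Module.mem_support_iff.mp hpsupp
    set gp := LocalizedModule.map p.asIdeal.primeCompl g with hgp
    have hsurj : Function.Surjective gp := LocalizedModule.map_surjective _ g hg
    have h1 : Module.finrank (Localization.AtPrime p.asIdeal) (LocalizedModule p.asIdeal.primeCompl Q) ≤ 1 := by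
      rw [← hrk p hpmin]
      exact LinearMap.finrank_le_finrank_of_surjective hsurj
    have h2 : 0 < Module.finrank (Localization.AtPrime p.asIdeal) (LocalizedModule p.asIdeal.primeCompl Q) :=
      Module.finrank_pos
    have h3 : Module.finrank (Localization.AtPrime p.asIdeal) (LocalizedModule p.asIdeal.primeCompl M) =
        Module.finrank (Localization.AtPrime p.asIdeal) (LocalizedModule p.asIdeal.primeCompl Q) := by
      rw [hrk p hpmin]; omega
    have hinj : Function.Injective gp :=
      (LinearMap.injective_iff_surjective_of_finrank_eq_finrank h3).mpr hsurj
    apply hinj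
    rw [map_zero, LocalizedModule.mkLinearMap_apply, hgp, LocalizedModule.map_mk, hm,
      LocalizedModule.zero_mk]
  · intro h
    by_contra hq
    set q := g m with hqdef
    let N : Submodule R Q := Submodule.span R {q}
    have hqN : q ∈ N := Submodule.mem_span_singleton_self q
    have : Nontrivial N := ⟨⟨⟨q, hqN⟩, 0, fun h => hq (congrArg Subtype.val h)⟩⟩
    obtain ⟨P, hP⟩ := associatedPrimes.nonempty R N
    have hPQ : P ∈ associatedPrimes R Q :=
      associatedPrimes.subset_of_injective (f := N.subtype) Subtype.val_injective hP
    have hPmin : P ∈ minimalPrimes R := hQ hPQ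
    have hPprime : P.IsPrime := hPmin.1.1
    obtain ⟨_, ⟨y, hy⟩, hPy⟩ := isAssociatedPrime_iff.mp hP
    obtain ⟨r, hr⟩ := Submodule.mem_span_singleton.mp hy
    -- `q` vanishes in the localization at `P`
    have hq0 : LocalizedModule.mkLinearMap P.primeCompl Q q = 0 := by
      by_cases hsupp : (⟨P, hPprime⟩ : PrimeSpectrum R) ∈ Module.support R Q
      · have := h ⟨P, hPprime⟩ ⟨hPmin, hsupp⟩
        have h4 := congrArg (LocalizedModule.map P.primeCompl g) this
        rw [map_zero, LocalizedModule.mkLinearMap_apply, LocalizedModule.map_mk] at h4
        exact h4
      · rw [Module.mem_support_iff, not_nontrivial_iff_subsingleton] at hsupp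
        exact Subsingleton.elim _ _
    obtain ⟨⟨s, hs⟩, hsq⟩ := (IsLocalizedModule.eq_zero_iff P.primeCompl
      (LocalizedModule.mkLinearMap P.primeCompl Q)).mp hq0
    apply hs
    show s ∈ P
    rw [hPy, Submodule.mem_colon_singleton, Submodule.mem_bot]
    apply Subtype.ext
    have hsq' : s • q = 0 := hsq
    simp only [Submodule.coe_smul, ZeroMemClass.coe_zero, ← hr]
    rw [smul_comm, hsq', smul_zero]

end Groth.Agent.S13995
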