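import Groth.Statements.S13996
import Mathlib.RingTheory.Ideal.Height
import Mathlib.RingTheory.Ideal.AssociatedPrime.Basic
import Mathlib.RingTheory.Ideal.MinimalPrime.Localization
import Mathlib.RingTheory.Ideal.MinimalPrime.Noetherian
import Mathlib.RingTheory.Nilpotent.Lemmas
-- import your own Groth.Agent.* helpers here

set_option autoImplicit false
universe u
open CAlg

namespace Groth.Agent.S13996

/-- Let R be a reduced Noetherian local ring of Krull dimension one with maximal ideal m, and M a
non-zero finitely generated R-module. Then M is torsion-free in the sense that no element of m which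
is a non-zero-divisor on R is a zero-divisor on M, if and only if M has depth one, i.e. some element
of m is a non-zero-divisor on M. (The published statement is for a non-zero coherent sheaf F on a
connected reduced projective curve over a characteristic-zero algebraically closed field and asserts
the equivalence of: F torsion-free in the above sense at every closed point; F pure of dimension
one; depth of F_p equal to one at every closed point p. This row is the equivalence of the first and
third conditions at a single closed point p with F_p ≠ 0; at points outside the support the third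
condition as published cannot hold, so the row assumes the stalk non-zero.) -/
theorem result (R : Type u) [CommRing R] [IsLocalRing R] [IsNoetherianRing R] [IsReduced R] (hdim : ringKrullDim R = 1) (M : Type u) [AddCommGroup M] [Module R M] [Module.Finite R M] [Nontrivial M] : (∀ r : R, r ∈ IsLocalRing.maximalIdeal R → IsSMulRegular R r → IsSMulRegular M r) ↔ (∃ x : R, x ∈ IsLocalRing.maximalIdeal R ∧ IsSMulRegular M x) := by
  classical
  have hmht : (IsLocalRing.maximalIdeal R).height = 1 := by
    have h := IsLocalRing.maximalIdeal_height_eq_ringKrullDim (R := R)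
    rw [hdim] at h
    exact_mod_cast h
  constructor
  · intro h
    -- find an `R`-regular element of the maximal ideal by prime avoidance
    have hfin : (minimalPrimes R).Finite := minimalPrimes.finite_of_isNoetherianRing R
    have hnot : ¬ ((IsLocalRing.maximalIdeal R : Set R) ⊆ ⋃ p ∈ (↑hfin.toFinset : Set (Ideal R)), (id p : Ideal R)) := by
      intro hsub
      rw [Ideal.subset_union_prime (R := R) (s := hfin.toFinset) (f := id) ⊥ ⊥
        (fun p hp _ _ => by
          have : p ∈ minimalPrimes R := hfin.mem_toFinset.mp hp
          exact this.1.1)] at hsub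
      obtain ⟨p, hp, hle⟩ := hsub
      have hpmin : p ∈ minimalPrimes R := hfin.mem_toFinset.mp hp
      have hpprime : p.IsPrime := hpmin.1.1
      have hpm : p = IsLocalRing.maximalIdeal R :=
        le_antisymm (IsLocalRing.le_maximalIdeal hpprime.ne_top) hle
      have h0 : (IsLocalRing.maximalIdeal R).height = 0 := by
        rw [Ideal.height_eq_zero_iff, ← hpm]
        exact hpmin
      rw [hmht] at h0
      exact one_ne_zero h0
    rw [Set.not_subset] at hnot
    obtain ⟨x, hxm, hx⟩ := hnot
    refine ⟨x, hxm, h x hxm ?_⟩
    -- `x` lies in no minimal prime, hence is regular since `R` is reduced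
    rw [isSMulRegular_iff_right_eq_zero_of_smul]
    intro y hy
    have hy' : x * y = 0 := hy
    have hymem : y ∈ sInf (minimalPrimes R) := by
      rw [Ideal.mem_sInf]
      intro p hp
      have hpprime : Ideal.IsPrime p := hp.1.1
      have hxy : x * y ∈ p := by rw [hy']; exact p.zero_mem
      rcases hpprime.mem_or_mem hxy with hxp | hyp
      · exfalso
        apply hx
        simp only [Set.mem_iUnion, id]
        exact ⟨p, by simpa using hp, hxp⟩
      · exact hyp
    have hrad : sInf (minimalPrimes R) = ⊥ := by
      show sInf (⊥ : Ideal R).minimalPrimes = ⊥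
      rw [Ideal.sInf_minimalPrimes]
      exact nilradical_eq_zero R
    rw [hrad] at hymem
    exact hymem
  · rintro ⟨x, hxm, hxreg⟩ r hrm hrreg
    rw [isSMulRegular_iff_right_eq_zero_of_smul]
    intro y hy
    by_contra hy0
    have hrz : r ∈ {r : R | ∃ x : M, x ≠ 0 ∧ r • x = 0} := ⟨y, hy0, hy⟩
    rw [← biUnion_associatedPrimes_eq_zero_divisors R M] at hrz
    simp only [Set.mem_iUnion] at hrz
    obtain ⟨P, hP, hrP⟩ := hrz
    have hPprime : P.IsPrime := (AssociatedPrimes.mem_iff.mp hP).isPrime
    by_cases hPm : P = IsLocalRing.maximalIdeal R
    · -- then `x` is a zero divisor on `M`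
      have hxz : x ∈ ⋃ p ∈ associatedPrimes R M, (p : Set R) := by
        simp only [Set.mem_iUnion]
        exact ⟨P, hP, by rw [hPm]; exact hxm⟩
      rw [biUnion_associatedPrimes_eq_zero_divisors R M] at hxz
      obtain ⟨z, hz0, hz⟩ := hxz
      exact hz0 ((isSMulRegular_iff_right_eq_zero_of_smul.mp hxreg) z hz)
    · have hlt : P < IsLocalRing.maximalIdeal R :=
        lt_of_le_of_ne (IsLocalRing.le_maximalIdeal hPprime.ne_top) hPm
      have h1 := Ideal.height_add_one_le_of_lt_of_isPrime hlt
      rw [hmht] at h1
      have h0 : P.height = 0 := by
        have h2 : P.height < 1 := by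
          by_contra hcon
          have h3 : (1 : ℕ∞) ≤ P.height := not_lt.mp hcon
          have h4 : (1 : ℕ∞) + 1 ≤ P.height + 1 := by gcongr
          have h5 : (1 : ℕ∞) + 1 ≤ 1 := h4.trans h1
          exact absurd h5 (by decide)
        exact Order.lt_one_iff.mp h2
      have hPmin : P ∈ minimalPrimes R := Ideal.height_eq_zero_iff.mp h0
      have hrnzd : r ∈ nonZeroDivisors R := by
        rw [mem_nonZeroDivisors_iff_left]
        intro z hz
        exact (isSMulRegular_iff_right_eq_zero_of_smul.mp hrreg) z hz
      exact Set.disjoint_left.mp (Ideal.disjoint_nonZeroDivisors_of_mem_minimalPrimes hPmin) hrP hrnzd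

end Groth.Agent.S13996
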