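import Groth.Statements.S13997
import Groth.Agent.Lib.Helper57.NilpFiniteType
-- import your own Groth.Agent.* helpers here

set_option autoImplicit false
universe u
open FlatMor

namespace Groth.Agent.S13997

open AlgebraicGeometry CategoryTheory in
/-- If `i : Y₀ ⟶ Y` is a closed immersion whose ideal is nilpotent and finitely generated on every
affine open, and `i ≫ F` is locally of finite type, then so is `F`. -/
theorem locallyOfFiniteType_of_comp_thickening {Y₀ Y X : Scheme.{u}} (i : Y₀ ⟶ Y) (F : Y ⟶ X)
    [IsClosedImmersion i] (hinil : ∀ U : Y.affineOpens, IsNilpotent (i.ker.ideal U))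
    (hfg : ∀ U : Y.affineOpens, (i.ker.ideal U).FG) [LocallyOfFiniteType (i ≫ F)] :
    LocallyOfFiniteType F := by
  rw [HasRingHomProperty.iff_appLE (P := @LocallyOfFiniteType)]
  intro U V e
  have hV₀ : IsAffineOpen (i ⁻¹ᵁ V.1) := V.2.preimage i
  have h2 := Scheme.Hom.appLE_comp_appLE i F U.1 V.1 (i ⁻¹ᵁ V.1) e le_rfl
  have h1 : ((i ≫ F).appLE U.1 (i ⁻¹ᵁ V.1)
      (le_rfl.trans ((TopologicalSpace.Opens.map i.base).map (homOfLE e)).le)).hom.FiniteType :=
    HasRingHomProperty.appLE @LocallyOfFiniteType (i ≫ F) inferInstance U ⟨_, hV₀⟩ _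
  rw [← h2] at h1
  have hker : RingHom.ker (i.app V.1).hom = i.ker.ideal V := (Scheme.Hom.ker_apply i V).symm
  refine Groth.Agent.Lib.Helper57.finiteType_of_comp_of_surjective_of_fg_of_isNilpotent
    (F.appLE U.1 V.1 e).hom (i.app V.1).hom (i.app_surjective V.1 V.2) ?_ ?_ ?_
  · rw [hker]; exact hfg V
  · rw [hker]; exact hinil V
  · rw [← i.app_eq_appLE] at h1
    exact h1

open AlgebraicGeometry CategoryTheory in
/-- Consider a commutative square of schemes F₀ ≫ j = i ≫ F in which i : Y₀ ⟶ Y and j : X₀ ⟶ X are
closed immersions surjective on points whose ideals are locally nilpotent (nilpotent on every affine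
open), and suppose moreover that the ideal of i is of finite type (finitely generated on every
affine open of Y). Then F : Y ⟶ X is locally of finite type if and only if F₀ : Y₀ ⟶ X₀ is. The
square is not assumed cartesian and the ideal of j need not be of finite type. (The published
statement also asserts the version for morphisms of finite type; that version follows from this one,
because quasi-compactness of a morphism transfers along closed immersions surjective on points, and
it is not restated here.) -/
theorem result {X X₀ Y Y₀ : Scheme.{u}}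
    (F : Y ⟶ X) (F₀ : Y₀ ⟶ X₀) (i : Y₀ ⟶ Y) (j : X₀ ⟶ X)
    (hi : MoreMor.IsThickening i) (hj : MoreMor.IsThickening j)
    (hinil : ∀ U : Y.affineOpens, IsNilpotent (i.ker.ideal U))
    (hjnil : ∀ U : X.affineOpens, IsNilpotent (j.ker.ideal U))
    (hfg : ∀ U : Y.affineOpens, (i.ker.ideal U).FG)
    (w : F₀ ≫ j = i ≫ F) :
    LocallyOfFiniteType F ↔ LocallyOfFiniteType F₀ := by
  have hic : IsClosedImmersion i := hi.1
  have hjc : IsClosedImmersion j := hj.1
  constructor
  · intro hF
    have h1 : LocallyOfFiniteType (F₀ ≫ j) := by rw [w]; infer_instance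
    exact locallyOfFiniteType_of_comp F₀ j
  · intro hF₀
    have h1 : LocallyOfFiniteType (i ≫ F) := by rw [← w]; infer_instance
    exact locallyOfFiniteType_of_comp_thickening i F hinil hfg

end Groth.Agent.S13997
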