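import Groth.Statements.S14000
import Mathlib
-- import your own Groth.Agent.* helpers here

set_option autoImplicit false
universe u
open Perf

namespace Groth.Agent.S14000

namespace EulerAux


open Module

section step
variable {K : Type u} [CommRing K] [IsLocalRing K]
variable {V W W' : Type u} [AddCommGroup V] [AddCommGroup W] [AddCommGroup W']
  [Module K V] [Module K W] [Module K W'] [Module.Finite K V] [Module.Free K V]

theorem split_step (f : V →ₗ[K] W) (g : W →ₗ[K] W') (hex : Function.Exact f g)
    [Module.Projective K (LinearMap.ker g)] :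
    Module.Projective K (LinearMap.ker f) ∧
      finrank K V = finrank K (LinearMap.ker f) + finrank K (LinearMap.ker g) := by
  let π : V →ₗ[K] LinearMap.ker g :=
    f.codRestrict (LinearMap.ker g) (fun v => hex.apply_apply_eq_zero v)
  have hπ : Function.Surjective π := by
    rintro ⟨w, hw⟩
    obtain ⟨v, hv⟩ := (hex w).mp hw
    exact ⟨v, Subtype.ext hv⟩
  obtain ⟨σ, hσ⟩ := Module.projective_lifting_property π LinearMap.id hπ
  have hσ' : ∀ w, π (σ w) = w := fun w => LinearMap.congr_fun hσ w
  have hπker : ∀ z : LinearMap.ker f, π z.1 = 0 := by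
    intro z
    apply Subtype.ext
    exact z.2
  let ρ : V →ₗ[K] LinearMap.ker f :=
    (LinearMap.id - σ ∘ₗ π).codRestrict (LinearMap.ker f) (by
      intro v
      have h1 : π (v - σ (π v)) = 0 := by rw [map_sub, hσ', sub_self]
      have h2 : f (v - σ (π v)) = 0 := congrArg Subtype.val h1
      simpa using h2)
  let φ : V →ₗ[K] (LinearMap.ker f × LinearMap.ker g) := LinearMap.prod ρ π
  let ψ : (LinearMap.ker f × LinearMap.ker g) →ₗ[K] V :=
    LinearMap.coprod (LinearMap.ker f).subtype σ
  have hρ : ∀ v, (ρ v : V) = v - σ (π v) := fun v => rfl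
  have h12 : φ ∘ₗ ψ = LinearMap.id := by
    apply LinearMap.ext
    rintro ⟨z, w⟩
    have e0 : ψ (z, w) = z.1 + σ w := by simp [ψ]
    have e1 : π (z.1 + σ w) = w := by rw [map_add, hπker, hσ', zero_add]
    show φ (ψ (z, w)) = (z, w)
    rw [e0]
    apply Prod.ext
    · apply Subtype.ext
      show (ρ (z.1 + σ w) : V) = z.1
      rw [hρ, e1]; simp
    · exact e1
  have h21 : ψ ∘ₗ φ = LinearMap.id := by
    apply LinearMap.ext
    intro v
    show ψ (ρ v, π v) = v
    have : ψ (ρ v, π v) = (ρ v : V) + σ (π v) := by simp [ψ]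
    rw [this, hρ]; simp
  let e : V ≃ₗ[K] (LinearMap.ker f × LinearMap.ker g) := LinearEquiv.ofLinearMap φ ψ h12 h21
  have hproj : Module.Projective K (LinearMap.ker f × LinearMap.ker g) :=
    Module.Projective.of_equiv' e
  have hfin : Module.Finite K (LinearMap.ker f × LinearMap.ker g) := Module.Finite.equiv e
  have hP1 : Module.Projective K (LinearMap.ker f) :=
    Module.Projective.of_split (LinearMap.inl K (LinearMap.ker f) (LinearMap.ker g))
      (LinearMap.fst K (LinearMap.ker f) (LinearMap.ker g)) (by ext; simp)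
  have hF1 : Module.Finite K (LinearMap.ker f) :=
    Module.Finite.of_surjective (LinearMap.fst K (LinearMap.ker f) (LinearMap.ker g))
      LinearMap.fst_surjective
  have hF2 : Module.Finite K (LinearMap.ker g) :=
    Module.Finite.of_surjective (LinearMap.snd K (LinearMap.ker f) (LinearMap.ker g))
      LinearMap.snd_surjective
  have : Module.Free K (LinearMap.ker f) := Module.free_of_flat_of_isLocalRing
  have : Module.Free K (LinearMap.ker g) := Module.free_of_flat_of_isLocalRing
  refine ⟨hP1, ?_⟩
  rw [e.finrank_eq, Module.finrank_prod]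

end step

section family
variable {K : Type u} [CommRing K] [IsLocalRing K]
variable (V : ℤ → Type u) [∀ i, AddCommGroup (V i)] [∀ i, Module K (V i)]
  [∀ i, Module.Finite K (V i)] [∀ i, Module.Free K (V i)]
  (D : ∀ i, V i →ₗ[K] V (i+1))

theorem proj_ker (hex : ∀ i, Function.Exact (D i) (D (i+1))) (b : ℤ)
    (hb : ∀ i, b ≤ i → Subsingleton (V i)) :
    ∀ (n : ℕ) (i : ℤ), b ≤ i + n → Module.Projective K (LinearMap.ker (D i)) := by
  intro n
  induction n with
  | zero =>
    intro i hi
    have := hb i (by simpa using hi)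
    infer_instance
  | succ n ih =>
    intro i hi
    have := ih (i+1) (by push_cast at hi; omega)
    exact (split_step (D i) (D (i+1)) (hex i)).1

theorem euler_zero (hex : ∀ i, Function.Exact (D i) (D (i+1))) (s : Finset ℤ)
    (hs : ∀ i, i ∉ s → Subsingleton (V i)) :
    s.sum (fun i => ((i.negOnePow : ℤˣ) : ℤ) * (finrank K (V i) : ℤ)) = 0 := by
  classical
  obtain ⟨M, hM⟩ := s.exists_le
  have hb : ∀ i, M + 1 ≤ i → Subsingleton (V i) := by
    intro i hi
    apply hs
    intro his
    have := hM i his
    omega
  have hproj : ∀ i, Module.Projective K (LinearMap.ker (D i)) := by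
    intro i
    exact proj_ker V D hex (M+1) hb (M + 1 - i).toNat i (by omega)
  set z : ℤ → ℕ := fun i => finrank K (LinearMap.ker (D i)) with hz
  have hrank : ∀ i, finrank K (V i) = z i + z (i+1) := by
    intro i
    have := hproj (i+1)
    exact (split_step (D i) (D (i+1)) (hex i)).2
  have hz0 : ∀ i, i ∉ s → z i = 0 ∧ z (i+1) = 0 := by
    intro i hi
    have := hs i hi
    have h0 : finrank K (V i) = 0 := Module.finrank_zero_of_subsingleton
    have := hrank i
    omega
  set G : ℤ → ℤ := fun j => ((j.negOnePow : ℤˣ) : ℤ) * (z j : ℤ) with hG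
  have hterm : ∀ i, ((i.negOnePow : ℤˣ) : ℤ) * (finrank K (V i) : ℤ) = G i - G (i+1) := by
    intro i
    simp only [hG, hrank i, Int.negOnePow_succ]
    push_cast
    ring
  simp_rw [hterm]
  rw [Finset.sum_sub_distrib]
  set T := s ∪ s.image (· + 1) with hT
  have h1 : s.sum G = T.sum G := by
    apply Finset.sum_subset Finset.subset_union_left
    intro x _ hx
    simp [hG, (hz0 x hx).1]
  have h2 : s.sum (fun i => G (i+1)) = T.sum G := by
    rw [← Finset.sum_image (f := G) (g := fun i : ℤ => i + 1) (s := s)
      (fun a _ b _ h => by simpa using h)]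
    apply Finset.sum_subset Finset.subset_union_right
    intro x _ hx
    have hx' : x - 1 ∉ s := by
      intro h
      apply hx
      exact Finset.mem_image.mpr ⟨x - 1, h, by ring⟩
    have := (hz0 (x-1) hx').2
    rw [sub_add_cancel] at this
    simp [hG, this]
  rw [h1, h2, sub_self]

end family




open CategoryTheory

theorem homology_kills {A : Type u} [CommRing A] (S : ShortComplex (ModuleCat.{u} A))
    (T : Submonoid A) (h : Subsingleton (LocalizedModule T S.homology)) (z : S.X₂)
    (hz : S.g z = 0) : ∃ u ∈ T, ∃ m : S.X₁, S.f m = u • z := by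
  let c : LinearMap.ker S.g.hom ⧸ LinearMap.range S.moduleCatToCycles :=
    Submodule.Quotient.mk ⟨z, hz⟩
  let e : S.homology ≃ₗ[A] (LinearMap.ker S.g.hom ⧸ LinearMap.range S.moduleCatToCycles) :=
    S.moduleCatHomologyIso.toLinearEquiv
  have h0 : LocalizedModule.mkLinearMap T S.homology (e.symm c) = 0 := Subsingleton.elim _ _
  obtain ⟨⟨u, hu⟩, huc⟩ := (IsLocalizedModule.eq_zero_iff T
    (LocalizedModule.mkLinearMap T S.homology)).mp h0
  have huc' : u • e.symm c = 0 := huc
  have h1 : u • c = 0 := by
    have := congrArg e huc'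
    rwa [map_smul, e.apply_symm_apply, map_zero] at this
  have h2 : (Submodule.Quotient.mk (u • (⟨z, hz⟩ : LinearMap.ker S.g.hom)) :
      LinearMap.ker S.g.hom ⧸ LinearMap.range S.moduleCatToCycles) = 0 := h1
  rw [Submodule.Quotient.mk_eq_zero] at h2
  obtain ⟨m, hm⟩ := h2
  exact ⟨u, hu, m, congrArg Subtype.val hm⟩





theorem complex_kills {A : Type u} [CommRing A] (P : CochainComplex (ModuleCat.{u} A) ℤ)
    (T : Submonoid A) (i : ℤ) (h : Subsingleton (LocalizedModule T (P.homology (i+1))))
    (z : P.X (i+1)) (hz : P.d (i+1) (i+1+1) z = 0) :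
    ∃ u ∈ T, ∃ m : P.X i, P.d i (i+1) m = u • z := by
  have hnext : (ComplexShape.up ℤ).next (i+1) = i+1+1 := by simp
  have hprev : (ComplexShape.up ℤ).prev (i+1) = i := by simp
  have hz' : (P.sc (i+1)).g z = 0 := by
    show P.d (i+1) ((ComplexShape.up ℤ).next (i+1)) z = 0
    rw [hnext]; exact hz
  have key : ∀ (u : A) (j : ℤ) (_ : j = i) (m' : P.X j), P.d j (i+1) m' = u • z →
      ∃ m : P.X i, P.d i (i+1) m = u • z := by
    intro u j hj m' hm'
    subst hj
    exact ⟨m', hm'⟩
  obtain ⟨u, hu, m, hm⟩ := homology_kills (P.sc (i+1)) T h z hz'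
  exact ⟨u, hu, key u _ hprev m hm⟩

theorem exact_localized {A : Type u} [CommRing A] (P : CochainComplex (ModuleCat.{u} A) ℤ)
    (T : Submonoid A) (hsupp : ∀ i, Subsingleton (LocalizedModule T (P.homology i))) (i : ℤ) :
    Function.Exact (LocalizedModule.map T (P.d i (i+1)).hom)
      (LocalizedModule.map T (P.d (i+1) (i+1+1)).hom) := by
  intro v
  constructor
  · intro hv
    induction v using LocalizedModule.induction_on with
    | h m t =>
      rw [LocalizedModule.map_mk, ← LocalizedModule.zero_mk t, LocalizedModule.mk_eq] at hv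
      obtain ⟨u, hu⟩ := hv
      have hu' : (u : A) • (t : A) • (P.d (i+1) (i+1+1)).hom m = 0 := by
        have := hu
        simp only [Submonoid.smul_def, smul_zero] at this
        exact this
      have hz : P.d (i+1) (i+1+1) (((u : A) * (t : A)) • m) = 0 := by
        rw [map_smul, mul_smul]
        exact hu'
      obtain ⟨u', hu'T, m', hm'⟩ := complex_kills P T i (hsupp (i+1)) (((u : A) * (t : A)) • m) hz
      refine ⟨LocalizedModule.mk m' (⟨u', hu'T⟩ * (u * t) * t), ?_⟩
      rw [LocalizedModule.map_mk]
      have : (P.d i (i+1)).hom m' = ((⟨u', hu'T⟩ : T) * (u * t) : T) • m := by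
        rw [mul_smul]; exact hm'
      rw [this, LocalizedModule.mk_cancel_common_left]
  · rintro ⟨w, rfl⟩
    induction w using LocalizedModule.induction_on with
    | h m t =>
      rw [LocalizedModule.map_mk, LocalizedModule.map_mk]
      have : (P.d (i+1) (i+1+1)).hom ((P.d i (i+1)).hom m) = 0 := by
        have := P.d_comp_d i (i+1) (i+1+1)
        exact congrArg (fun f => f.hom m) this
      rw [this, LocalizedModule.zero_mk]


end EulerAux

open CategoryTheory CategoryTheory.Limits in
/-- Let A be a commutative ring and P a strictly perfect complex over A, that is a cochain complex of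
finitely generated projective A-modules which is zero outside a finite set s of degrees. Suppose the
cohomological support of P has positive codimension: for every minimal prime q of A and every degree
i the localization at q of the cohomology module H^i(P) is zero. Then the Euler characteristic of P
vanishes identically: at every prime of A the alternating sum over i ∈ s of the ranks of the P^i is
zero. -/
theorem result {A : Type u} [CommRing A]
    (P : CochainComplex (ModuleCat.{u} A) ℤ) (s : Finset ℤ)
    (hP : ∀ i : ℤ, Module.Finite A (P.X i) ∧ Module.Projective A (P.X i))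
    (hs : ∀ i : ℤ, i ∉ s → IsZero (P.X i))
    (hsupp : ∀ q : PrimeSpectrum A, q.asIdeal ∈ minimalPrimes A →
      ∀ i : ℤ, Subsingleton (LocalizedModule q.asIdeal.primeCompl (P.homology i))) :
    ∀ x : PrimeSpectrum A,
      (s.sum fun i => ((i.negOnePow : ℤˣ) : ℤ) * (Module.rankAtStalk (R := A) (P.X i) x : ℤ)) = 0 := by
  intro x
  classical
  haveI : ∀ i, Module.Finite A (P.X i) := fun i => (hP i).1
  haveI : ∀ i, Module.Projective A (P.X i) := fun i => (hP i).2
  obtain ⟨q, hqmin, hqx⟩ := Ideal.exists_minimalPrimes_le (I := ⊥) (J := x.asIdeal) bot_le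
  have hqprime : q.IsPrime := hqmin.1.1
  let q' : PrimeSpectrum A := ⟨q, hqprime⟩
  have hrank : ∀ i, Module.rankAtStalk (R := A) (P.X i) x = Module.rankAtStalk (R := A) (P.X i) q' :=
    fun i => (Module.rankAtStalk_eq_of_le_of_finite_of_flat (P.X i) (p := q') (q := x) hqx).symm
  simp_rw [hrank]
  haveI : ∀ i, Module.Free (Localization.AtPrime q) (LocalizedModule q.primeCompl (P.X i)) :=
    fun i => Module.free_of_flat_of_isLocalRing
  exact EulerAux.euler_zero (K := Localization.AtPrime q)
    (fun i => LocalizedModule q.primeCompl (P.X i))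
    (fun i => LocalizedModule.map q.primeCompl (P.d i (i+1)).hom)
    (EulerAux.exact_localized P q.primeCompl (hsupp q' hqmin)) s
    (fun i hi => by
      have := ModuleCat.subsingleton_of_isZero (hs i hi)
      infer_instance)

end Groth.Agent.S14000
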