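import Groth.Statements.S14005
import Mathlib
-- import your own Groth.Agent.* helpers here

set_option autoImplicit false
universe u
open CategoryTheory AlgebraicGeometry
open CohTop

namespace Groth.Agent.S14005

namespace TopAux
open TopologicalSpace

theorem exists_open_inter_subset_closure {Y : Type*} [TopologicalSpace Y] [NoetherianSpace Y]
    [QuasiSober Y] (Z : Set Y) (hZ : IsClosed Z) (x : Y)
    (h : ∀ η ∈ Z, η ⤳ x → η = x) :
    ∃ V : Set Y, IsOpen V ∧ x ∈ V ∧ Z ∩ V ⊆ closure {x} := by
  obtain ⟨S, hSf, hSc, hSi, rfl⟩ := NoetherianSpace.exists_finite_set_isClosed_irreducible hZ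
  let Sbad : Set (Set Y) := {T ∈ S | x ∉ T}
  have hbadfin : Sbad.Finite := hSf.subset (fun T hT => hT.1)
  have hWclosed : IsClosed (⋃₀ Sbad) := by
    rw [Set.sUnion_eq_biUnion]
    exact hbadfin.isClosed_biUnion (fun T hT => hSc T hT.1)
  refine ⟨(⋃₀ Sbad)ᶜ, hWclosed.isOpen_compl, ?_, ?_⟩
  · rintro ⟨T, hT, hxT⟩
    exact hT.2 hxT
  · rintro u ⟨⟨T, hTS, huT⟩, huW⟩
    have hxT : x ∈ T := by
      by_contra hx
      exact huW ⟨T, ⟨hTS, hx⟩, huT⟩
    obtain ⟨η, hη⟩ := QuasiSober.sober (hSi T hTS) (hSc T hTS)
    have hηT : η ∈ T := hη.mem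
    have hηx : η ⤳ x := by
      rw [specializes_iff_mem_closure, hη.def]
      exact hxT
    have : η = x := h η ⟨T, hTS, hηT⟩ hηx
    rw [← this, hη.def]
    exact huT

end TopAux

-- make `U : X.Opens` coerce to the subtype `↥U` exactly as in the frozen statement
attribute [-instance] AlgebraicGeometry.Scheme.Opens.instCoeOut


/-- Take a scheme X with a locally Noetherian underlying topological space, F a sheaf of abelian groups
on X, x a point of X and s an element of the stalk F_x. Then the following are equivalent: (i) s is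
the germ of a section t over some open neighbourhood U of x whose support in U is contained in the
closure of {x} (that is, s belongs to the subgroup Γ_x(F) of F_x); (ii) for every generization y ≠ x
of x the image of s under the cospecialisation map F_x → F_y is zero (that is, viewed as a global
section of the inverse image of F on Spec O_{X,x}, s is supported at the closed point). -/
theorem result {X : Scheme.{u}}
    (hX : ∀ x : X, ∃ U : X.Opens, x ∈ U ∧ TopologicalSpace.NoetherianSpace U)
    (F : TopCat.Sheaf AddCommGrpCat.{u} X.carrier) (x : X) (s : F.presheaf.stalk x) :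
    (∃ (U : X.Opens) (hx : x ∈ U) (t : F.presheaf.obj (Opposite.op U)),
        F.presheaf.germ U x hx t = s ∧
          ∀ (u : X) (hu : u ∈ U), F.presheaf.germ U u hu t ≠ 0 → u ∈ closure ({x} : Set X)) ↔
      ∀ (y : X) (h : y ⤳ x), y ≠ x → F.presheaf.stalkSpecializes h s = 0 := by
  constructor
  · rintro ⟨U, hx, t, rfl, hsupp⟩ y h hyx
    have hyU : y ∈ U := h.mem_open U.isOpen hx
    have e : F.presheaf.stalkSpecializes h (F.presheaf.germ U x hx t) =
        F.presheaf.germ U y hyU t := by
      rw [← ConcreteCategory.comp_apply, TopCat.Presheaf.germ_stalkSpecializes]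
    rw [e]
    by_contra hne
    have hycl : y ∈ closure {x} := hsupp y hyU hne
    have hxy : x ⤳ y := specializes_iff_mem_closure.mpr hycl
    exact hyx (h.antisymm hxy).eq
  · intro hgen
    obtain ⟨U₁, hxU₁, hN⟩ := hX x
    obtain ⟨U₀, hU₀le, hxU₀, t₀, rfl⟩ := F.presheaf.exists_le_germ_eq s hxU₁
    have hNoeth : TopologicalSpace.NoetherianSpace U₀ := by
      let j : U₀ → U₁ := fun u => ⟨u.1, hU₀le u.2⟩
      have hj : Continuous j := by
        apply Continuous.subtype_mk
        exact continuous_subtype_val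
      have : Topology.IsInducing j :=
        Topology.IsInducing.of_comp hj continuous_subtype_val Topology.IsInducing.subtypeVal
      exact this.noetherianSpace
    have hSober : QuasiSober U₀ := U₀.isOpenEmbedding'.quasiSober
    let x' : U₀ := ⟨x, hxU₀⟩
    let Z : Set U₀ := {u | F.presheaf.germ U₀ u.1 u.2 t₀ ≠ 0}
    have hZ : IsClosed Z := by
      rw [← isOpen_compl_iff, isOpen_iff_forall_mem_open]
      intro u hu
      have hu0 : F.presheaf.germ U₀ u.1 u.2 t₀ = F.presheaf.germ U₀ u.1 u.2 0 := by
        rw [map_zero]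
        by_contra hne
        exact hu hne
      obtain ⟨W, hW, iU, iV, hres⟩ := F.presheaf.germ_eq u.1 u.2 u.2 t₀ 0 hu0
      refine ⟨{v : U₀ | v.1 ∈ W}, ?_, ?_, hW⟩
      · intro v hv
        show ¬ (F.presheaf.germ U₀ v.1 v.2 t₀ ≠ 0)
        rw [not_not]
        have hvW : v.1 ∈ W := hv
        rw [← F.presheaf.germ_res_apply iU v.1 hvW t₀, hres, map_zero, map_zero]
      · exact W.isOpen.preimage continuous_subtype_val
    have hkey : ∀ η ∈ Z, η ⤳ x' → η = x' := by
      intro η hη hsp
      by_contra hne
      have hsp' : η.1 ⤳ x := hsp.map continuous_subtype_val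
      have hne' : η.1 ≠ x := fun h => hne (Subtype.ext h)
      have h0 := hgen η.1 hsp' hne'
      rw [← ConcreteCategory.comp_apply, TopCat.Presheaf.germ_stalkSpecializes] at h0
      exact hη h0
    obtain ⟨V, hVopen, hxV, hVsub⟩ :=
      TopAux.exists_open_inter_subset_closure Z hZ x' hkey
    let U : X.Opens := ⟨Subtype.val '' V, U₀.isOpen.isOpenMap_subtype_val V hVopen⟩
    have hUle : U ≤ U₀ := by
      rintro _ ⟨v, _, rfl⟩
      exact v.2
    have hxU : x ∈ U := ⟨x', hxV, rfl⟩
    refine ⟨U, hxU, F.presheaf.map (homOfLE hUle).op t₀, ?_, ?_⟩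
    · exact F.presheaf.germ_res_apply (homOfLE hUle) x hxU t₀
    · rintro u hu hgerm
      obtain ⟨v, hvV, rfl⟩ := hu
      have hvZ : v ∈ Z := by
        show F.presheaf.germ U₀ v.1 v.2 t₀ ≠ 0
        rw [← F.presheaf.germ_res_apply (homOfLE hUle) v.1 ⟨v, hvV, rfl⟩ t₀]
        exact hgerm
      have hvcl : v ∈ closure {x'} := hVsub ⟨hvZ, hvV⟩
      have hsp : x' ⤳ v := specializes_iff_mem_closure.mpr hvcl
      have hsp' : x ⤳ v.1 := hsp.map continuous_subtype_val
      exact specializes_iff_mem_closure.mp hsp'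

end Groth.Agent.S14005
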