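import Groth.Statements.S14006
import Groth.Agent.Lib.Helper20.SmoothFormalLift2
-- import your own Groth.Agent.* helpers here

set_option autoImplicit false
universe u
open CategoryTheory AlgebraicGeometry
open FSch

namespace Groth.Agent.S14006

/-- Formal schemes are modelled as ℕ-indexed systems of thickenings. Let S be a locally Noetherian
scheme, 𝒥 a quasi-coherent ideal of O_S, 𝔖 the completion of S along 𝒥 (the system of the closed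
subschemes defined by the powers 𝒥^{n+1}) and S₀ its bottom level. Let X₀ and Y₀ be schemes smooth
over S₀ via a and b, f : X₀ ⟶ Y₀ a morphism with f ≫ b = a, and x a point of X₀. Then there are an
open neighbourhood U₀ of x and an open V₀ of Y₀ with f(U₀) ⊆ V₀, systems 𝔘 and 𝔙 with adic morphisms
p : 𝔘 ⟶ 𝔖 and q : 𝔙 ⟶ 𝔖 (all squares cartesian) all of whose levels are smooth, a morphism Φ : 𝔘 ⟶ 𝔙
with Φ ≫ q = p, and isomorphisms of the bottom levels of 𝔘 and 𝔙 with U₀ and V₀, compatible with the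
maps to S₀, under which the bottom level of Φ is the restriction U₀ ⟶ V₀ of f. In words: locally on
X₀ the morphism f has a smooth formal lifting over 𝔖. -/
theorem result (S : Scheme.{u}) [IsLocallyNoetherian S]
    (𝒥 : S.IdealSheafData) {X₀ Y₀ : Scheme.{u}}
    (a : X₀ ⟶ (FSch.completionAlong S 𝒥).X 0) (b : Y₀ ⟶ (FSch.completionAlong S 𝒥).X 0)
    [AlgebraicGeometry.Smooth a] [AlgebraicGeometry.Smooth b] (f : X₀ ⟶ Y₀) (w : f ≫ b = a) (x : X₀) :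
    ∃ (U₀ : X₀.Opens) (V₀ : Y₀.Opens) (hU : x ∈ U₀) (hUV : U₀ ≤ f ⁻¹ᵁ V₀)
      (𝔘 𝔙 : FSch.Sys.{u}) (p : 𝔘 ⟶ FSch.completionAlong S 𝒥) (q : 𝔙 ⟶ FSch.completionAlong S 𝒥)
      (Φ : 𝔘 ⟶ 𝔙) (eU : 𝔘.X 0 ≅ U₀.toScheme) (eV : 𝔙.X 0 ≅ V₀.toScheme),
      Φ ≫ q = p ∧ FSch.IsAdicHom p ∧ FSch.IsAdicHom q ∧
      (∀ n : ℕ, AlgebraicGeometry.Smooth ((p : FSch.Hom 𝔘 _).app n)) ∧
      (∀ n : ℕ, AlgebraicGeometry.Smooth ((q : FSch.Hom 𝔙 _).app n)) ∧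
      eU.hom ≫ U₀.ι ≫ a = (p : FSch.Hom 𝔘 _).app 0 ∧
      eV.hom ≫ V₀.ι ≫ b = (q : FSch.Hom 𝔙 _).app 0 ∧
      (Φ : FSch.Hom 𝔘 𝔙).app 0 ≫ eV.hom = eU.hom ≫ f.resLE V₀ U₀ hUV := by
  classical
  haveI hci : IsClosedImmersion (FSch.completionToX S 𝒥 0) :=
    inferInstanceAs (IsClosedImmersion (𝒥 ^ (0 + 1)).subschemeι)
  open Groth.Agent.Lib.Helper20.SmoothFormalLift in
  obtain ⟨V₀, hyV₀, -, V, hVaff, gV, hgV, jV, hpbV⟩ :=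
    exists_smooth_lift (S₀ := (FSch.completionAlong S 𝒥).X 0) (FSch.completionToX S 𝒥 0) b (f x) ⊤
      trivial
  open Groth.Agent.Lib.Helper20.SmoothFormalLift in
  obtain ⟨U₀, hxU₀, hUV, U, hUaff, gU, hgU, jU, hpbU⟩ :=
    exists_smooth_lift (S₀ := (FSch.completionAlong S 𝒥).X 0) (FSch.completionToX S 𝒥 0) a x
      (f ⁻¹ᵁ V₀) hyV₀
  haveI := hVaff
  haveI := hUaff
  haveI := hgV
  haveI := hgU
  open Groth.Agent.Lib.Helper20.SmoothFormalLift in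
  let 𝔘 : FSch.Sys.{u} := pbSys gU 𝒥
  open Groth.Agent.Lib.Helper20.SmoothFormalLift in
  let 𝔙 : FSch.Sys.{u} := pbSys gV 𝒥
  open Groth.Agent.Lib.Helper20.SmoothFormalLift in
  let p : 𝔘 ⟶ FSch.completionAlong S 𝒥 := pbHom gU 𝒥
  open Groth.Agent.Lib.Helper20.SmoothFormalLift in
  let q : 𝔙 ⟶ FSch.completionAlong S 𝒥 := pbHom gV 𝒥
  let eU : 𝔘.X 0 ≅ U₀.toScheme := hpbU.isoPullback.symm
  let eV : 𝔙.X 0 ≅ V₀.toScheme := hpbV.isoPullback.symm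
  have heU : eU.hom ≫ U₀.ι ≫ a = (p : FSch.Hom 𝔘 _).app 0 := hpbU.isoPullback_inv_snd
  have heV : eV.hom ≫ V₀.ι ≫ b = (q : FSch.Hom 𝔙 _).app 0 := hpbV.isoPullback_inv_snd
  let Φ₀ : 𝔘.X 0 ⟶ 𝔙.X 0 := eU.hom ≫ f.resLE V₀ U₀ hUV ≫ eV.inv
  have hΦ₀ : Φ₀ ≫ (q : FSch.Hom 𝔙 _).app 0 = (p : FSch.Hom 𝔘 _).app 0 := by
    rw [← heU, ← heV]
    simp only [Φ₀, Category.assoc, Iso.inv_hom_id_assoc]
    rw [← Category.assoc (f.resLE V₀ U₀ hUV), Scheme.Hom.resLE_comp_ι, Category.assoc, w]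
  have step : ∀ (n : ℕ) (φ : 𝔘.X n ⟶ 𝔙.X n),
      φ ≫ (q : FSch.Hom 𝔙 _).app n = (p : FSch.Hom 𝔘 _).app n →
      ∃ φ' : 𝔘.X (n + 1) ⟶ 𝔙.X (n + 1), 𝔘.ι n ≫ φ' = φ ≫ 𝔙.ι n ∧
        φ' ≫ (q : FSch.Hom 𝔙 _).app (n + 1) = (p : FSch.Hom 𝔘 _).app (n + 1) := by
    intro n φ hφ
    exact Groth.Agent.Lib.Helper20.SmoothFormalLift.exists_lift_of_smooth
      ((q : FSch.Hom 𝔙 _).app (n + 1)) (𝔘.ι n)
      (Groth.Agent.Lib.Helper20.SmoothFormalLift.pbSys_ι_ker_mul gU 𝒥 n) (φ ≫ 𝔙.ι n)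
      ((p : FSch.Hom 𝔘 _).app (n + 1)) (by
        rw [Category.assoc, ← (q : FSch.Hom 𝔙 _).comm, ← Category.assoc, hφ,
          (p : FSch.Hom 𝔘 _).comm])
  let Ψ : ∀ n, {φ : 𝔘.X n ⟶ 𝔙.X n //
      φ ≫ (q : FSch.Hom 𝔙 _).app n = (p : FSch.Hom 𝔘 _).app n} := fun n =>
    Nat.rec ⟨Φ₀, hΦ₀⟩ (fun n ih => ⟨(step n ih.1 ih.2).choose, (step n ih.1 ih.2).choose_spec.2⟩) n
  let Φ : 𝔘 ⟶ 𝔙 := (⟨fun n => (Ψ n).1,
    fun n => ((step n (Ψ n).1 (Ψ n).2).choose_spec.1).symm⟩ : FSch.Hom 𝔘 𝔙)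
  refine ⟨U₀, V₀, hxU₀, hUV, 𝔘, 𝔙, p, q, Φ, eU, eV, ?_,
    Groth.Agent.Lib.Helper20.SmoothFormalLift.isAdicHom_pbHom _ _,
    Groth.Agent.Lib.Helper20.SmoothFormalLift.isAdicHom_pbHom _ _,
    fun n => inferInstance, fun n => inferInstance, heU, heV, ?_⟩
  · apply FSch.Hom.ext
    funext n
    exact (Ψ n).2
  · change Φ₀ ≫ eV.hom = _
    simp only [Φ₀, Category.assoc, Iso.inv_hom_id, Category.comp_id]

end Groth.Agent.S14006
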