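import Groth.Statements.S14007
import Groth.Agent.S1052
import Groth.Agent.Lib.Helper32.K0Der
import Groth.Agent.Lib.QCoh.Helper18_Support
import Groth.Agent.Lib.Helper99.SPerf13
import Groth.Agent.Lib.Helper99.SPerf5
import Groth.Agent.Lib.Helper99.SPerf17b

set_option autoImplicit false
universe u
open CategoryTheory AlgebraicGeometry
attribute [local instance] HasDerivedCategory.standard
open KZero

namespace Groth.Agent.S14007

namespace W07
open CategoryTheory.Limits CategoryTheory.Pretriangulated DerivedCategory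
open Groth.Agent.Lib.Helper32.K0Der Groth.Agent.Lib.Helper32.EssConstDer
open Groth.Agent.Lib.Helper99.SPerf

/-- coherent and supported in `Y'` -/
abbrev PY (X : Scheme.{u}) (Y' : Set X) : ObjectProperty X.Modules :=
  fun G : X.Modules => Coh.IsCoh G ∧ CohB1.support G ⊆ Y'

instance pyIso (X : Scheme.{u}) (Y' : Set X) : (PY X Y').IsClosedUnderIsomorphisms where
  of_iso e h := ⟨Groth.Agent.Lib.QCoh.isCoh_of_iso e h.1, by
    rw [← Groth.Agent.Lib.QCoh.support_eq_of_iso e]; exact h.2⟩

lemma support_of_isZero {X : Scheme.{u}} {Z : X.Modules} (hZ : IsZero Z) (Y' : Set X) :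
    CohB1.support Z ⊆ Y' := by
  intro x hx
  exact absurd (Groth.Agent.Lib.QCoh.stalk_subsingleton_of_isZero hZ x) hx

instance pyZero (X : Scheme.{u}) (Y' : Set X) : (PY X Y').ContainsZero where
  exists_zero := by
    obtain ⟨Z, hZ, hc⟩ := (Groth.Agent.S1052.cohContainsZero X).exists_zero
    exact ⟨Z, hZ, hc, support_of_isZero hZ Y'⟩

instance pyKer (X : Scheme.{u}) [IsLocallyNoetherian X] (Y' : Set X) :
    (PY X Y').IsClosedUnderKernels where
  kernels_le := by
    rintro _ ⟨f, k, hk, hf⟩
    have e := (kernelIsKernel f).conePointUniqueUpToIso hk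
    refine (PY X Y').prop_of_iso e ⟨Groth.Agent.Lib.QCoh.isCoh_kernel hf.1.1 hf.2.1 f, ?_⟩
    exact (Groth.Agent.Lib.QCoh.support_subset_of_mono (kernel.ι f)).trans hf.1.2

/-- bounded complexes with cohomology in `PY` are perfect, under `hperf`. -/
theorem perfect_aux (X : Scheme.{u}) [IsNoetherian X] (Y' : Set X)
    (hperf : ∀ G : X.Modules, Coh.IsCoh G → CohB1.support G ⊆ Y' → DCoh.IsPerfect (DCoh.inD X G))
    (n : ℕ) : ∀ (a b : ℤ) (K : DerivedCategory X.Modules), b < a + n → PD (PY X Y') K →
    (∀ i, i < a ∨ b < i → IsZero ((homologyFunctor X.Modules i).obj K)) →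
    DCoh.IsPerfect K := by
  induction n with
  | zero =>
    intro a b K hab hK hz
    have h1 : K.IsGE a := (isGE_iff _ _).2 (fun i hi => hz i (Or.inl hi))
    have h2 : K.IsLE b := (isLE_iff _ _).2 (fun i hi => hz i (Or.inr hi))
    have hK0 : IsZero K := TStructure.t.isZero _ b a (by simpa using hab)
    obtain ⟨Z, hZ, hc⟩ := (pyZero X Y').exists_zero
    have hZ' : IsZero ((singleFunctor X.Modules 0).obj Z) := (singleFunctor X.Modules 0).map_isZero hZ
    exact isPerfect_of_iso (hZ'.iso hK0) (hperf Z hc.1 hc.2)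
  | succ n ih =>
    intro a b K hab hK hz
    have hP := hK.1
    have hT := TStructure.t.triangleLTGE_distinguished b K
    have z' : ∀ i, i < a ∨ b - 1 < i →
        IsZero ((homologyFunctor X.Modules i).obj ((TStructure.t.truncLT b).obj K)) :=
      fun i hi => Groth.Agent.Lib.Helper32.ProIsoDer.isZero_homology_truncLT K a b i hz hi
    have iso' : ∀ i, i < b → ((homologyFunctor X.Modules i).obj ((TStructure.t.truncLT b).obj K) ≅
        (homologyFunctor X.Modules i).obj K) := fun i hi => by
      have := isIso_homology_truncLTι K b i hi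
      exact asIso ((homologyFunctor X.Modules i).map ((TStructure.t.truncLTι b).app K))
    have hK' : PD (PY X Y') ((TStructure.t.truncLT b).obj K) :=
      ⟨fun i => by
        by_cases hi : i < b
        · exact (PY X Y').prop_of_iso (iso' i hi).symm (hP i)
        · exact (PY X Y').prop_of_isZero (z' i (by omega)),
        a, b - 1, (isGE_iff _ _).2 (fun i hi => z' i (Or.inl hi)), inferInstance⟩
    have z'' : ∀ i, i ≠ b →
        IsZero ((homologyFunctor X.Modules i).obj ((TStructure.t.truncGE b).obj K)) := by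
      intro i hi
      rcases lt_or_gt_of_ne hi with h | h
      · exact isZero_of_isGE ((TStructure.t.truncGE b).obj K) b i h
      · exact isZero_homology_truncGE K b i h (hz i (Or.inr h))
    have iso'' : (homologyFunctor X.Modules b).obj K ≅
        (homologyFunctor X.Modules b).obj ((TStructure.t.truncGE b).obj K) := by
      have := isIso_homology_truncGEπ K b
      exact asIso ((homologyFunctor X.Modules b).map ((TStructure.t.truncGEπ b).app K))
    have hLE'' : ((TStructure.t.truncGE b).obj K).IsLE b :=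
      (isLE_iff _ _).2 (fun i hi => z'' i (by omega))
    obtain ⟨M, ⟨eM⟩⟩ := exists_iso_singleFunctor_obj_of_isGE_of_isLE
      ((TStructure.t.truncGE b).obj K) b
    have eM' : M ≅ (homologyFunctor X.Modules b).obj K :=
      ((singleFunctorCompHomologyFunctorIso X.Modules b).app M).symm ≪≫
        (homologyFunctor X.Modules b).mapIso eM.symm ≪≫ iso''.symm
    have hM : PY X Y' M := (PY X Y').prop_of_iso eM'.symm (hP b)
    have h3 : DCoh.IsPerfect ((TStructure.t.truncGE b).obj K) := by
      refine isPerfect_of_iso eM.symm ?_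
      have h0 := isPerfect_shift _ (-b) (hperf M hM.1 hM.2)
      refine isPerfect_of_iso ?_ h0
      exact ((singleFunctors X.Modules).shiftIso (-b) b 0 (by omega)).app M
    have h1 : DCoh.IsPerfect ((TStructure.t.truncLT b).obj K) := ih a (b - 1) _ (by omega) hK' z'
    exact (isPerfect_two_out_of_three _ hT).2.1 h1 h3

theorem main14007 (X : Scheme.{u}) [IsNoetherian X]
    (Y' : Set X) (hY' : IsClosed Y')
    (hperf : ∀ G : X.Modules, Coh.IsCoh G → CohB1.support G ⊆ Y' → DCoh.IsPerfect (DCoh.inD X G)) :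
    ∃ φ : KZero.K0sub (fun G : X.Modules => Coh.IsCoh G ∧ CohB1.support G ⊆ Y') ≃+
        KZero.K0tr (fun K : DCoh.D X => DCoh.IsPerfect K ∧ ∀ i : ℤ, CohB1.support (DCoh.HD K i) ⊆ Y'),
      ∀ G : X.Modules, Coh.IsCoh G → CohB1.support G ⊆ Y' →
        φ (KZero.clSub (fun G : X.Modules => Coh.IsCoh G ∧ CohB1.support G ⊆ Y') G) =
          KZero.clTr (fun K : DCoh.D X => DCoh.IsPerfect K ∧ ∀ i : ℤ, CohB1.support (DCoh.HD K i) ⊆ Y')
            (DCoh.inD X G) := by
  have hQ : ∀ K : DCoh.D X, (DCoh.IsPerfect K ∧ ∀ i : ℤ, CohB1.support (DCoh.HD K i) ⊆ Y') ↔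
      PD (PY X Y') K := by
    intro K
    constructor
    · rintro ⟨hp, hs⟩
      exact ⟨fun i => ⟨isCohD_of_isPerfect K hp i, hs i⟩, exists_isGE_isLE_of_isPerfect K hp⟩
    · intro hK
      refine ⟨?_, fun i => (hK.1 i).2⟩
      obtain ⟨a, b, _, _⟩ := hK.2
      obtain ⟨n, hn⟩ : ∃ n : ℕ, b < a + n := ⟨(b - a + 1).toNat, by omega⟩
      refine perfect_aux X Y' hperf n a b K hn hK ?_
      rintro i (hi | hi)
      · exact isZero_of_isGE K a i hi
      · exact isZero_of_isLE K b i hi
  obtain ⟨φ, hφ⟩ := Groth.Agent.Lib.Helper32.K0Der.main_sub (PY X Y')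
    (fun K : DCoh.D X => DCoh.IsPerfect K ∧ ∀ i : ℤ, CohB1.support (DCoh.HD K i) ⊆ Y') hQ
  exact ⟨φ, fun G h1 h2 => hφ G ⟨h1, h2⟩⟩

end W07


/-- Let X be a Noetherian scheme and Y' ⊆ X a closed subset, and suppose that every coherent O_X-module
with support in Y', viewed in degree 0, is a perfect object of D(O_X). Write K_0(C) for the
Grothendieck group of the abelian category C of coherent O_X-modules supported in Y' (objects modulo
short exact sequences) and K_0(D) for that of the full triangulated subcategory D of D(O_X) on the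
perfect complexes all of whose cohomology sheaves are supported in Y' (objects modulo distinguished
triangles with vertices in D). Then the homomorphism K_0(C) → K_0(D) induced by G ↦ G[0] is an
isomorphism: there is an isomorphism of groups carrying the class of every G in C to the class of
G[0]. -/
theorem result (X : Scheme.{u}) [IsNoetherian X]
    (Y' : Set X) (hY' : IsClosed Y')
    (hperf : ∀ G : X.Modules, Coh.IsCoh G → CohB1.support G ⊆ Y' → DCoh.IsPerfect (DCoh.inD X G)) :
    ∃ φ : KZero.K0sub (fun G : X.Modules => Coh.IsCoh G ∧ CohB1.support G ⊆ Y') ≃+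
        KZero.K0tr (fun K : DCoh.D X => DCoh.IsPerfect K ∧ ∀ i : ℤ, CohB1.support (DCoh.HD K i) ⊆ Y'),
      ∀ G : X.Modules, Coh.IsCoh G → CohB1.support G ⊆ Y' →
        φ (KZero.clSub (fun G : X.Modules => Coh.IsCoh G ∧ CohB1.support G ⊆ Y') G) =
          KZero.clTr (fun K : DCoh.D X => DCoh.IsPerfect K ∧ ∀ i : ℤ, CohB1.support (DCoh.HD K i) ⊆ Y')
            (DCoh.inD X G) :=
  W07.main14007 X Y' hY' hperf

end Groth.Agent.S14007
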