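import Groth.Statements.S1401
import Groth.Agent.Lib.Helper38.IndQAff
import Groth.Agent.S1127

set_option autoImplicit false
universe u
open FlatMor

namespace Groth.Agent.S1401

open AlgebraicGeometry CategoryTheory Limits in
/-- Let S' → S be flat, surjective and quasi-compact and let f' be the base change of f : X → S to S'.
If f' is ind-quasi-affine then so is f. -/
theorem result {X S X' S' : Scheme.{u}} (f : X ⟶ S) (f' : X' ⟶ S') (g' : X' ⟶ X) (g : S' ⟶ S)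
    [Flat g] [Surjective g] [QuasiCompact g] (hc : IsPullback g' f' f g) (hf' : MoreMor.IsIndQuasiAffineHom f') : MoreMor.IsIndQuasiAffineHom f := by
  intro V hV U hU
  have i1127 := Groth.Agent.S1127.result.{u}
  haveI : IsAffine V.toScheme := hV
  haveI hUc : CompactSpace ↥U.toScheme := isCompact_iff_compactSpace.mp hU
  -- the morphism `U ⟶ V`
  let h : U.toScheme ⟶ V.toScheme := U.ι ≫ (f ∣_ V)
  let gV : (g ⁻¹ᵁ V).toScheme ⟶ V.toScheme := g ∣_ V
  have hgV : (@Surjective ⊓ @Flat ⊓ @QuasiCompact : MorphismProperty Scheme.{u}) gV :=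
    ⟨⟨MorphismProperty.of_isPullback (P := @Surjective) (isPullback_morphismRestrict g V).flip
      inferInstance, inferInstance⟩, inferInstance⟩
  have hhqc : QuasiCompact h := (quasiCompact_iff_compactSpace h).mpr hUc
  let a := pullback.fst gV h
  let b := pullback.snd gV h
  have sq : IsPullback a b gV h := IsPullback.of_hasPullback gV h
  -- the open immersion of the pullback into `X'`
  have hw : (b ≫ U.ι ≫ (f ⁻¹ᵁ V).ι) ≫ f = (a ≫ (g ⁻¹ᵁ V).ι) ≫ g := by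
    have h1 : (f ⁻¹ᵁ V).ι ≫ f = (f ∣_ V) ≫ V.ι := (morphismRestrict_ι f V).symm
    have h2 : (g ⁻¹ᵁ V).ι ≫ g = (g ∣_ V) ≫ V.ι := (morphismRestrict_ι g V).symm
    simp only [Category.assoc, h1, h2]
    rw [← Category.assoc U.ι, ← Category.assoc b, ← Category.assoc a]
    congr 1
    exact sq.w.symm
  let l : pullback gV h ⟶ X' := hc.lift (b ≫ U.ι ≫ (f ⁻¹ᵁ V).ι) (a ≫ (g ⁻¹ᵁ V).ι) hw
  have hl1 : l ≫ g' = b ≫ U.ι ≫ (f ⁻¹ᵁ V).ι := hc.lift_fst _ _ _
  have hl2 : l ≫ f' = a ≫ (g ⁻¹ᵁ V).ι := hc.lift_snd _ _ _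
  have hUX : (U.ι ≫ (f ⁻¹ᵁ V).ι) ≫ f = h ≫ V.ι := by
    simp only [h, Category.assoc, morphismRestrict_ι]
  have outer : IsPullback (l ≫ f') b g ((U.ι ≫ (f ⁻¹ᵁ V).ι) ≫ f) := by
    rw [hl2, hUX]
    exact sq.paste_horiz (isPullback_morphismRestrict g V).flip
  have left : IsPullback l b g' (U.ι ≫ (f ⁻¹ᵁ V).ι) :=
    IsPullback.of_right outer hl1 hc.flip
  have hlo : IsOpenImmersion l := MorphismProperty.of_isPullback left.flip inferInstance
  -- `a` is quasi-affine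
  have haq : Mor2.IsQuasiAffine a := by
    refine ⟨inferInstance, fun V'' hV'' => ?_⟩
    haveI : CompactSpace ↥(a ⁻¹ᵁ V'').toScheme :=
      isCompact_iff_compactSpace.mp
        (QuasiCompact.isCompact_preimage (f := a) _ V''.isOpen hV''.isCompact)
    refine Groth.Agent.Lib.Helper38.IndQAff.isQuasiAffine_of_isOpenImmersion hf'
      ((a ⁻¹ᵁ V'').ι ≫ l) ((g ⁻¹ᵁ V).ι ''ᵁ V'') (hV''.image_of_isOpenImmersion _) ?_
    rintro _ ⟨x, rfl⟩
    show f' (((a ⁻¹ᵁ V'').ι ≫ l) x) ∈ (g ⁻¹ᵁ V).ι ''ᵁ V''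
    rw [← Scheme.Hom.comp_apply, Category.assoc, hl2, ← Category.assoc, Scheme.Hom.comp_apply]
    exact ⟨_, x.2, rfl⟩
  have hhq : Mor2.IsQuasiAffine h := i1127.of_isPullback sq hgV haq
  have h1 := hhq.2 ⊤ (isAffineOpen_top _)
  have e : (h ⁻¹ᵁ ⊤ : U.toScheme.Opens) = ⊤ := rfl
  rw [e] at h1
  exact Groth.Agent.Lib.Helper97.QAff.isQuasiAffine_of_iso (Scheme.topIso _).symm


end Groth.Agent.S1401
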