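import Groth.Statements.S14017
import Groth.Agent.Lib.Helper4.ProEtFin

set_option autoImplicit false
open CategoryTheory CategoryTheory.Limits AlgebraicGeometry Opposite
universe u
open EtModW

namespace Groth.Agent.S14017

section helpers

variable {Λ : Type (u + 1)} [CommRing Λ] {X : Scheme.{u}}

theorem surj_mod {F G : EtModW.ModP Λ X} (f : F ⟶ G) [Epi f] (W : X.ProEt) (hW : ProEtS.IsWC W) :
    Function.Surjective (f.hom.app (op W)) := by
  have h1 : Sheaf.IsLocallySurjective f := (Sheaf.isLocallySurjective_iff_epi' (φ := f)).2 inferInstance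
  have h2 : Sheaf.IsLocallySurjective
      ((sheafCompose (Scheme.ProEt.topology X) (forget (ModuleCat.{u+1} Λ))).map f) := inferInstance
  have h3 : Epi ((sheafCompose (Scheme.ProEt.topology X) (forget (ModuleCat.{u+1} Λ))).map f) :=
    (Sheaf.isLocallySurjective_iff_epi _).1 h2
  exact hW _ _ _ h3

theorem epi_of_isQuot (I : Ideal Λ) {F Q : EtModW.ModP Λ X} (p : F ⟶ Q) (hp : ARSys.IsQuot I p) :
    Epi p := by
  apply Abelian.epi_of_cokernel_π_eq_zero
  have h := hp.2 (cokernel p) (p ≫ cokernel.π p) (by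
    intro a _
    rw [cokernel.condition, smul_zero])
  exact h.unique rfl (by rw [cokernel.condition, comp_zero])

/-- the sections functor -/
noncomputable abbrev sec (Λ : Type (u + 1)) [CommRing Λ] {X : Scheme.{u}} (U : X.ProEt) :
    EtModW.ModP Λ X ⥤ ModuleCat.{u+1} Λ :=
  sheafToPresheaf (Scheme.ProEt.topology X) (ModuleCat.{u+1} Λ) ⋙ (evaluation _ _).obj (op U)

theorem exists_of_map_eq_zero {F C : EtModW.ModP Λ X} (π : F ⟶ C) (U : X.ProEt)
    (y : F.obj.obj (op U)) (hy : π.hom.app (op U) y = 0) :
    ∃ z : (kernel π).obj.obj (op U), (kernel.ι π).hom.app (op U) z = y := by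
  let S := ShortComplex.mk (kernel.ι π) π (kernel.condition π)
  have hS : S.Exact := ShortComplex.exact_kernel π
  have hm : Mono S.f := inferInstanceAs (Mono (kernel.ι π))
  have hex : (S.map (sec Λ U)).Exact := hS.map_of_mono_of_preservesKernel (sec Λ U) hm inferInstance
  exact (ShortComplex.moduleCat_exact_iff _).1 hex y hy


theorem homKilled_cokernel (I : Ideal Λ) {r : ℕ} (a : Fin r → Λ)
    (hs : Ideal.span (Set.range a) = I) (F : EtModW.ModP Λ X) :
    ARSys.HomKilledBy I
      (cokernel.π (biproduct.desc (fun k : Fin r => (a k • 𝟙 F : F ⟶ F)))) := by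
  intro b hb
  rw [← hs] at hb
  induction hb using Submodule.span_induction with
  | mem b hb =>
    obtain ⟨k, rfl⟩ := hb
    have h1 : biproduct.ι (fun _ : Fin r => F) k ≫
        biproduct.desc (fun k : Fin r => (a k • 𝟙 F : F ⟶ F)) = a k • 𝟙 F := biproduct.ι_desc _ _
    have h2 : (a k • 𝟙 F : F ⟶ F) ≫
        cokernel.π (biproduct.desc (fun k : Fin r => (a k • 𝟙 F : F ⟶ F))) = 0 := by
      rw [← h1, Category.assoc, cokernel.condition, comp_zero]
    rw [Linear.smul_comp, Category.id_comp] at h2
    exact h2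
  | zero => exact zero_smul _ _
  | add b c _ _ hb hc => rw [add_smul, hb, hc, add_zero]
  | smul c b _ hb => rw [smul_eq_mul, mul_smul, hb, smul_zero]

theorem desc_app_mem (I : Ideal Λ) {r : ℕ} (a : Fin r → Λ)
    (hs : Ideal.span (Set.range a) = I)
    (F : EtModW.ModP Λ X) (U : X.ProEt) (w : (⨁ fun _ : Fin r => F).obj.obj (op U)) :
    (biproduct.desc (fun k : Fin r => (a k • 𝟙 F : F ⟶ F))).hom.app (op U) w ∈
      I • (⊤ : Submodule Λ (F.obj.obj (op U))) := by
  have h1 : biproduct.desc (fun k : Fin r => (a k • 𝟙 F : F ⟶ F)) =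
      ∑ k : Fin r, biproduct.π (fun _ : Fin r => F) k ≫ (a k • 𝟙 F : F ⟶ F) := by
    have h0 := congrArg (fun t => t ≫ biproduct.desc (fun k : Fin r => (a k • 𝟙 F : F ⟶ F)))
      (biproduct.total (f := fun _ : Fin r => F))
    simp only [Category.id_comp, Preadditive.sum_comp] at h0
    rw [← h0]
    refine Finset.sum_congr rfl (fun k _ => ?_)
    rw [Category.assoc, biproduct.ι_desc]
  have h2 : (biproduct.desc (fun k : Fin r => (a k • 𝟙 F : F ⟶ F))).hom.app (op U) =
      ∑ k : Fin r, (sec Λ U).map (biproduct.π (fun _ : Fin r => F) k ≫ (a k • 𝟙 F : F ⟶ F)) := by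
    rw [← Functor.map_sum, ← h1]
    rfl
  rw [h2]
  change (ModuleCat.Hom.hom _) w ∈ _
  rw [ModuleCat.hom_sum, LinearMap.sum_apply]
  refine Submodule.sum_mem _ (fun k _ => ?_)
  have hk : a k ∈ I := hs ▸ Ideal.subset_span ⟨k, rfl⟩
  have h3 : ((sec Λ U).map (biproduct.π (fun _ : Fin r => F) k ≫ (a k • 𝟙 F : F ⟶ F))).hom w =
      a k • ((biproduct.π (fun _ : Fin r => F) k).hom.app (op U) w) := by
    rw [Linear.comp_smul, Category.comp_id]
    rfl
  rw [h3]
  exact Submodule.smul_mem_smul hk Submodule.mem_top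

end helpers

/-- Let X be a scheme, Λ a commutative ring and I a finitely generated ideal of Λ; let F be a sheaf of
Λ-modules on the small pro-étale site of X and p : F ⟶ Q a quotient map modulo I (Q is killed by I
and every morphism out of F killed by I factors uniquely through p, so Q = F/IF); let U be a weakly
contractible object of the pro-étale site. Then the map on sections F(U) → Q(U) is surjective and
its kernel is exactly the submodule I·F(U): sections over a weakly contractible object commute with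
forming IF and F/IF. (The published lemma is for sheaves of Λ-modules on an arbitrary site and a
weakly contractible object of it; this row states the case of the small pro-étale site of a scheme.) -/
theorem result
    (Λ : Type (u + 1)) [CommRing Λ] (I : Ideal Λ) (hI : I.FG)
    (X : Scheme.{u}) (F Q : EtModW.ModP Λ X) (p : F ⟶ Q) (hp : ARSys.IsQuot I p)
    (U : X.ProEt) (hU : ProEtS.IsWC U) :
    Function.Surjective (p.hom.app (op U)).hom ∧
      LinearMap.ker (p.hom.app (op U)).hom = I • (⊤ : Submodule Λ (F.obj.obj (op U))) := by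
  have hepi : Epi p := epi_of_isQuot I p hp
  refine ⟨surj_mod p U hU, le_antisymm ?_ ?_⟩
  · obtain ⟨r, a, hs⟩ := Submodule.fg_iff_exists_fin_generating_family.1 hI
    intro y hy
    let α : (⨁ fun _ : Fin r => F) ⟶ F := biproduct.desc (fun k : Fin r => (a k • 𝟙 F : F ⟶ F))
    obtain ⟨ψ, hψ, -⟩ := hp.2 _ (cokernel.π α) (homKilled_cokernel I a hs F)
    have hy' : (cokernel.π α).hom.app (op U) y = 0 := by
      rw [← hψ]
      change (ψ.hom.app (op U)) ((p.hom.app (op U)) y) = 0
      rw [show (p.hom.app (op U)) y = 0 from hy, map_zero]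
    obtain ⟨z, hz⟩ := exists_of_map_eq_zero (cokernel.π α) U y hy'
    let S := ShortComplex.mk α (cokernel.π α) (cokernel.condition α)
    have hS : S.Exact := ShortComplex.exact_cokernel α
    have he : Epi (kernel.lift S.g S.f S.zero) := (S.exact_iff_epi_kernel_lift).1 hS
    obtain ⟨w, hw⟩ := surj_mod (kernel.lift S.g S.f S.zero) U hU z
    have : y = α.hom.app (op U) w := by
      rw [← hz, ← hw]
      have h4 : kernel.lift S.g S.f S.zero ≫ kernel.ι (cokernel.π α) = α := kernel.lift_ι _ _ _
      exact congrArg (fun t : (⨁ fun _ : Fin r => F) ⟶ F => (t.hom.app (op U)) w) h4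
    rw [this]
    exact desc_app_mem I a hs F U w
  · rw [Submodule.smul_le]
    intro a ha y _
    rw [LinearMap.mem_ker, map_smul]
    have h1 : (a • 𝟙 Q : Q ⟶ Q) = 0 := hp.1 a ha
    have h2 : ((a • 𝟙 Q : Q ⟶ Q)).hom.app (op U) ((p.hom.app (op U)).hom y) =
        a • ((p.hom.app (op U)).hom y) := rfl
    rw [← h2, h1]
    rfl

end Groth.Agent.S14017
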