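import Groth.Statements.S14020
import Mathlib
-- import your own Groth.Agent.* helpers here

set_option autoImplicit false
universe u
open CAlg

namespace Groth.Agent.S14020

/-- a finite module killed by `I` is artinian when `R/I` is. -/
lemma isArtinian_of_torsion {R : Type u} [CommRing R] (I : Ideal R) [IsArtinianRing (R ⧸ I)]
    (M : Type u) [AddCommGroup M] [Module R M] [Module.Finite R M]
    (hM : Module.IsTorsionBySet R M I) : IsArtinian R M := by
  let _ := hM.module
  have : IsScalarTower R (R ⧸ I) M := hM.isScalarTower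
  have : Module.Finite (R ⧸ I) M := Module.Finite.of_restrictScalars_finite R (R ⧸ I) M
  have : IsArtinian (R ⧸ I) M := isArtinian_of_fg_of_artinian'
  exact isArtinian_of_surjective_algebraMap (S := R) (R := R ⧸ I) Ideal.Quotient.mk_surjective

lemma isArtinian_quotient_pow {R : Type u} [CommRing R] (I : Ideal R) (hI : I.FG)
    [IsArtinianRing (R ⧸ I)] (n : ℕ) : IsArtinian R (R ⧸ I ^ n) := by
  induction n with
  | zero =>
    have : Subsingleton (R ⧸ I ^ 0) := by
      rw [pow_zero]; exact Ideal.Quotient.subsingleton_iff.mpr Ideal.one_eq_top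
    infer_instance
  | succ n ih =>
    -- the submodule `K = I^n / I^(n+1)` of `R / I^(n+1)`
    let K : Submodule R (R ⧸ I ^ (n + 1)) := Submodule.map (Submodule.mkQ (I ^ (n + 1))) (I ^ n)
    have hKfg : K.FG := Submodule.FG.map _ (Ideal.FG.pow hI)
    have : Module.Finite R K := Module.Finite.iff_fg.mpr hKfg
    have hKtors : Module.IsTorsionBySet R K I := by
      rintro ⟨x, hx⟩ ⟨a, ha⟩
      obtain ⟨y, hy, rfl⟩ := hx
      apply Subtype.ext
      change a • (Submodule.mkQ (I ^ (n + 1)) y) = 0
      rw [← map_smul, Submodule.mkQ_apply, Submodule.Quotient.mk_eq_zero, smul_eq_mul, pow_succ']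
      exact Ideal.mul_mem_mul ha hy
    have : IsArtinian R K := isArtinian_of_torsion I K hKtors
    let g : (R ⧸ I ^ (n + 1)) →ₗ[R] (R ⧸ I ^ n) :=
      Submodule.mapQ (I ^ (n + 1)) (I ^ n) LinearMap.id (by
        intro x hx
        exact Ideal.pow_le_pow_right (Nat.le_succ n) hx)
    refine isArtinian_of_range_eq_ker K.subtype g ?_
    rw [Submodule.range_subtype]
    ext x
    obtain ⟨y, rfl⟩ := Submodule.mkQ_surjective _ x
    constructor
    · rintro ⟨z, hz, hzy⟩
      rw [LinearMap.mem_ker, ← hzy]
      change Submodule.Quotient.mk z = (0 : R ⧸ I ^ n)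
      rw [Submodule.Quotient.mk_eq_zero]; exact hz
    · intro hy
      rw [LinearMap.mem_ker] at hy
      change Submodule.Quotient.mk y = (0 : R ⧸ I ^ n) at hy
      rw [Submodule.Quotient.mk_eq_zero] at hy
      exact ⟨y, hy, rfl⟩

/-- Let R be a commutative ring and I a finitely generated ideal such that the quotient ring R/I is
artinian. Then R/I^n is artinian for every n. -/
theorem result
    (R : Type u) [CommRing R] (I : Ideal R) (hI : I.FG) [IsArtinianRing (R ⧸ I)] (n : ℕ) :
    IsArtinianRing (R ⧸ I ^ n) := by
  have := isArtinian_quotient_pow I hI n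
  exact isArtinian_of_tower R this

end Groth.Agent.S14020
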