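import Groth.Statements.S14023
import Mathlib

set_option autoImplicit false
open CategoryTheory CategoryTheory.Limits Opposite
universe v u
open ARSys

namespace Groth.Agent.S14023

section
variable (A : Type u) [Category.{v} A] [Abelian A]

instance finHom (a b : ℕᵒᵖ) : Finite (a ⟶ b) := Finite.of_subsingleton

instance hasCoprodHom (a b : ℕᵒᵖ) : HasCoproductsOfShape (a ⟶ b) A := inferInstance

instance evalLeftPresMono (c : ℕᵒᵖ) : (evaluationLeftAdjoint A c).PreservesMonomorphisms where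
  preserves {X Y} f hf := by
    have hm : ∀ t, Mono (((evaluationLeftAdjoint A c).map f).app t) := by
      intro t
      have hfb : HasFiniteBiproducts A := Abelian.hasFiniteBiproducts
      have hb1 : HasBiproduct (fun _ : c ⟶ t => X) := inferInstance
      have hb2 : HasBiproduct (fun _ : c ⟶ t => Y) := inferInstance
      have hmm : ∀ _ : c ⟶ t, Mono f := fun _ => hf
      have : (Sigma.desc fun h : c ⟶ t => f ≫ Sigma.ι (fun _ => Y) h) =
          Limits.Sigma.map (fun _ : c ⟶ t => f) := by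
        apply Sigma.hom_ext
        intro b
        simp
      show Mono (Sigma.desc fun h : c ⟶ t => f ≫ Sigma.ι (fun _ => Y) h)
      rw [this]; infer_instance
    exact NatTrans.mono_of_mono_app _

lemma forward [EnoughInjectives (ℕᵒᵖ ⥤ A)] : EnoughInjectives A := by
  refine ⟨fun X => ?_⟩
  let F : ℕᵒᵖ ⥤ A := (Functor.const ℕᵒᵖ).obj X
  let c : ℕᵒᵖ := op 0
  have hinj : Injective (((evaluation ℕᵒᵖ A).obj c).obj (Injective.under F)) :=
    Injective.injective_of_adjoint (evaluationAdjunctionRight A c) (Injective.under F)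
  have hmono : Mono ((Injective.ι F).app c) :=
    (NatTrans.mono_iff_mono_app' A (Injective.ι F)).1 inferInstance c
  exact ⟨⟨(Injective.under F).obj c, hinj, (Injective.ι F).app c, hmono⟩⟩

noncomputable def Ifun (J : ℕ → A) : ℕᵒᵖ ⥤ A where
  obj t := ∏ᶜ (fun i : {n : ℕ // n ≤ t.unop} => J i.1)
  map {s t} f := Pi.lift (fun i : {n : ℕ // n ≤ t.unop} =>
    Pi.π (fun i : {n : ℕ // n ≤ s.unop} => J i.1) ⟨i.1, i.2.trans (leOfHom f.unop)⟩)
  map_id s := by
    apply Pi.hom_ext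
    intro i
    simp
  map_comp f g := by
    apply Pi.hom_ext
    intro i
    simp

noncomputable def πI (J : ℕ → A) (t : ℕᵒᵖ) (i : {n : ℕ // n ≤ t.unop}) :
    (Ifun A J).obj t ⟶ J i.1 :=
  Pi.π (fun i : {n : ℕ // n ≤ t.unop} => J i.1) i

lemma hom_ext_I (J : ℕ → A) (t : ℕᵒᵖ) {X : A} (f g : X ⟶ (Ifun A J).obj t)
    (h : ∀ i, f ≫ πI A J t i = g ≫ πI A J t i) : f = g :=
  Pi.hom_ext _ _ h

lemma Ifun_map_π (J : ℕ → A) {s t : ℕᵒᵖ} (f : s ⟶ t) (i : {n : ℕ // n ≤ t.unop}) :
    (Ifun A J).map f ≫ πI A J t i = πI A J s ⟨i.1, i.2.trans (leOfHom f.unop)⟩ :=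
  Pi.lift_π _ _

noncomputable def appI (J : ℕ → A) (G : ℕᵒᵖ ⥤ A) (ψ : ∀ n, G.obj (op n) ⟶ J n) (t : ℕᵒᵖ) :
    G.obj t ⟶ (Ifun A J).obj t :=
  Pi.lift (fun i : {n : ℕ // n ≤ t.unop} =>
    (G.map (homOfLE i.2).op : G.obj t ⟶ G.obj (op i.1)) ≫ ψ i.1)

lemma appI_π (J : ℕ → A) (G : ℕᵒᵖ ⥤ A) (ψ : ∀ n, G.obj (op n) ⟶ J n) (t : ℕᵒᵖ)
    (i : {n : ℕ // n ≤ t.unop}) :
    appI A J G ψ t ≫ πI A J t i =
      (G.map (homOfLE i.2).op : G.obj t ⟶ G.obj (op i.1)) ≫ ψ i.1 :=
  Pi.lift_π _ _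

noncomputable def toI (J : ℕ → A) (G : ℕᵒᵖ ⥤ A) (ψ : ∀ n, G.obj (op n) ⟶ J n) :
    G ⟶ Ifun A J where
  app t := appI A J G ψ t
  naturality s t f := by
    apply hom_ext_I
    intro i
    rw [Category.assoc, Category.assoc, Ifun_map_π, appI_π, appI_π, ← G.map_comp_assoc]
    congr 1

lemma toI_app_π (J : ℕ → A) (G : ℕᵒᵖ ⥤ A) (ψ : ∀ n, G.obj (op n) ⟶ J n) (t : ℕᵒᵖ)
    (i : {n : ℕ // n ≤ t.unop}) :
    (toI A J G ψ).app t ≫ πI A J t i =
      (G.map (homOfLE i.2).op : G.obj t ⟶ G.obj (op i.1)) ≫ ψ i.1 :=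
  appI_π A J G ψ t i

instance injIfun (J : ℕ → A) [∀ n, Injective (J n)] : Injective (Ifun A J) where
  factors {G G'} φ m hm := by
    have hmono : ∀ t, Mono (m.app t) := fun t => (NatTrans.mono_iff_mono_app' A m).1 hm t
    refine ⟨toI A J G' (fun n => Injective.factorThru
      (φ.app (op n) ≫ πI A J (op n) ⟨n, le_rfl⟩) (m.app (op n))), ?_⟩
    ext t
    apply hom_ext_I
    intro i
    rw [NatTrans.comp_app, Category.assoc, toI_app_π, ← m.naturality_assoc,
      Injective.comp_factorThru, φ.naturality_assoc, Ifun_map_π]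

lemma mono_toI (J : ℕ → A) (G : ℕᵒᵖ ⥤ A) (ψ : ∀ n, G.obj (op n) ⟶ J n) [∀ n, Mono (ψ n)] :
    Mono (toI A J G ψ) := by
  have : ∀ t, Mono ((toI A J G ψ).app t) := by
    intro t
    have h := toI_app_π A J G ψ t ⟨t.unop, le_rfl⟩
    have hid : (G.map (homOfLE (le_refl t.unop)).op : G.obj t ⟶ G.obj (op t.unop)) = 𝟙 _ := by
      rw [← G.map_id]; congr 1
    rw [hid, Category.id_comp] at h
    exact mono_of_mono_fac h
  exact NatTrans.mono_of_mono_app _

lemma backward [EnoughInjectives A] : EnoughInjectives (ℕᵒᵖ ⥤ A) := by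
  refine ⟨fun F => ?_⟩
  exact ⟨⟨Ifun A (fun n => Injective.under (F.obj (op n))), inferInstance,
    toI A _ F (fun n => Injective.ι (F.obj (op n))),
    mono_toI A _ F _⟩⟩

end

/-- For an abelian category A, the category of inverse systems (A_n)_n indexed by ℕ, i.e. of functors
ℕᵒᵖ ⥤ A, has enough injectives if and only if A has enough injectives. (The second assertion of the
published proposition, describing the injective systems, is not part of this row.) -/
theorem result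
    (A : Type u) [Category.{v} A] [Abelian A] :
    EnoughInjectives (ℕᵒᵖ ⥤ A) ↔ EnoughInjectives A := by
  constructor
  · intro h
    exact forward A
  · intro h
    exact backward A

end Groth.Agent.S14023
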