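import Groth.Statements.S14032
import Mathlib
-- import your own Groth.Agent.* helpers here

set_option autoImplicit false
universe u v
open W4c1frobunstiva

namespace Groth.Agent.S14032

open TensorProduct

variable (R : Type u) [CommRing R] (M : Type v) [AddCommGroup M] [Module R M]

/-- every element of `(R/I) ⊗ M` is `1 ⊗ m`. -/
lemma exists_one_tmul (I : Ideal R) (x : (R ⧸ I) ⊗[R] M) : ∃ m : M, x = (1 : R ⧸ I) ⊗ₜ[R] m := by
  obtain ⟨y, rfl⟩ := (quotTensorEquivQuotSMul M I).symm.surjective x
  obtain ⟨m, rfl⟩ := Submodule.Quotient.mk_surjective _ y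
  exact ⟨m, quotTensorEquivQuotSMul_symm_mk I m⟩

lemma one_tmul_eq_zero_iff (I : Ideal R) (m : M) :
    (1 : R ⧸ I) ⊗ₜ[R] m = 0 ↔ m ∈ (I • ⊤ : Submodule R M) := by
  rw [← quotTensorEquivQuotSMul_symm_mk I m, LinearEquiv.map_eq_zero_iff, Submodule.Quotient.mk_eq_zero]

lemma nak (I : Ideal R) (hI : IsNilpotent I) (N : Submodule R M) (h : N ⊔ I • ⊤ = ⊤) : N = ⊤ := by
  obtain ⟨k, hk⟩ := hI
  have key : ∀ j : ℕ, N ⊔ (I ^ j) • (⊤ : Submodule R M) = ⊤ := by
    intro j
    induction j with
    | zero => simp
    | succ j ih =>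
      rw [eq_top_iff]
      calc (⊤ : Submodule R M) = N ⊔ I ^ j • ⊤ := ih.symm
        _ = N ⊔ I ^ j • (N ⊔ I • ⊤) := by rw [h]
        _ = N ⊔ (I ^ j • N ⊔ I ^ j • (I • ⊤)) := by rw [Submodule.smul_sup]
        _ ≤ N ⊔ I ^ (j + 1) • ⊤ := by
          apply sup_le le_sup_left
          apply sup_le
          · exact le_sup_of_le_left Submodule.smul_le_right
          · rw [← Submodule.mul_smul, ← pow_succ]
            exact le_sup_right
  have := key k
  rw [hk, Submodule.zero_eq_bot, Submodule.bot_smul, sup_bot_eq] at this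
  exact this

theorem main [IsNoetherianRing R] (r : ℕ) :
    W4c1frobunstiva.IsNRFree R M r ↔
      Nonempty (Module.Basis (Fin r) (R ⧸ nilradical R) ((R ⧸ nilradical R) ⊗[R] M)) := by
  set n := nilradical R with hn
  constructor
  · rintro ⟨m, hspan, hrel⟩
    refine ⟨Module.Basis.mk (v := fun i => (1 : R ⧸ n) ⊗ₜ[R] m i) ?_ ?_⟩
    · rw [Fintype.linearIndependent_iff]
      intro g hg i
      choose a ha using fun i => Ideal.Quotient.mk_surjective (g i)
      have h1 : ∑ i, g i • ((1 : R ⧸ n) ⊗ₜ[R] m i) = (1 : R ⧸ n) ⊗ₜ[R] (∑ i, a i • m i) := by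
        rw [TensorProduct.tmul_sum]
        refine Finset.sum_congr rfl fun i _ => ?_
        rw [← ha i, TensorProduct.tmul_smul, TensorProduct.smul_tmul', TensorProduct.smul_tmul',
          smul_eq_mul, mul_one, ← Ideal.Quotient.algebraMap_eq, Algebra.smul_def, mul_one]
      rw [h1, one_tmul_eq_zero_iff, ← hspan, Submodule.mem_ideal_smul_span_iff_exists_sum] at hg
      obtain ⟨c, hc, hsum⟩ := hg
      rw [Finsupp.sum_fintype _ _ (fun i => zero_smul R (m i))] at hsum
      have h2 : ∑ i, (a i - c i) • m i = 0 := by
        simp only [sub_smul, Finset.sum_sub_distrib, hsum, sub_self]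
      have h3 := hrel _ h2 i
      have h4 : a i - c i ∈ n := (mem_nilradical).2 h3
      have h5 : a i ∈ n := by
        have := n.add_mem h4 (hc i)
        simpa using this
      rw [← ha i]
      exact Ideal.Quotient.eq_zero_iff_mem.2 h5
    · rw [top_le_iff, eq_top_iff]
      intro x hx0
      clear hx0
      obtain ⟨y, rfl⟩ := exists_one_tmul R M n x
      have hy : y ∈ Submodule.span R (Set.range m) := hspan ▸ Submodule.mem_top
      induction hy using Submodule.span_induction with
      | mem z hz =>
        obtain ⟨i, rfl⟩ := hz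
        exact Submodule.subset_span ⟨i, rfl⟩
      | zero => rw [TensorProduct.tmul_zero]; exact Submodule.zero_mem _
      | add z w _ _ hz hw => rw [TensorProduct.tmul_add]; exact Submodule.add_mem _ hz hw
      | smul c z _ hz =>
        have : (1 : R ⧸ n) ⊗ₜ[R] (c • z) = (Ideal.Quotient.mk n c) • ((1 : R ⧸ n) ⊗ₜ[R] z) := by
          rw [TensorProduct.tmul_smul, TensorProduct.smul_tmul', TensorProduct.smul_tmul',
            smul_eq_mul, mul_one, ← Ideal.Quotient.algebraMap_eq, Algebra.smul_def, mul_one]
        rw [this]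
        exact Submodule.smul_mem _ _ hz
  · rintro ⟨b⟩
    choose m hm using fun i => exists_one_tmul R M n (b i)
    refine ⟨m, ?_, ?_⟩
    · apply nak R M n (IsNoetherianRing.isNilpotent_nilradical R)
      rw [eq_top_iff]
      intro x _
      -- 1 ⊗ x is a combination of the b i
      have hx := b.sum_repr ((1 : R ⧸ n) ⊗ₜ[R] x)
      choose a ha using fun i => Ideal.Quotient.mk_surjective (b.repr ((1 : R ⧸ n) ⊗ₜ[R] x) i)
      have h1 : (1 : R ⧸ n) ⊗ₜ[R] (x - ∑ i, a i • m i) = 0 := by
        rw [TensorProduct.tmul_sub, TensorProduct.tmul_sum, sub_eq_zero]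
        conv_lhs => rw [← hx]
        refine Finset.sum_congr rfl fun i _ => ?_
        rw [← ha i, hm i, TensorProduct.tmul_smul, TensorProduct.smul_tmul', TensorProduct.smul_tmul',
          smul_eq_mul, mul_one, ← Ideal.Quotient.algebraMap_eq, Algebra.smul_def, mul_one]
      rw [one_tmul_eq_zero_iff] at h1
      have h2 : x = ∑ i, a i • m i + (x - ∑ i, a i • m i) := by abel
      rw [h2]
      apply Submodule.add_mem_sup _ h1
      exact Submodule.sum_mem _ fun i _ => Submodule.smul_mem _ _ (Submodule.subset_span ⟨i, rfl⟩)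
    · intro a ha i
      have h1 : ∑ i, (Ideal.Quotient.mk n (a i)) • b i = 0 := by
        have : (1 : R ⧸ n) ⊗ₜ[R] (∑ i, a i • m i) = 0 := by rw [ha, TensorProduct.tmul_zero]
        rw [TensorProduct.tmul_sum] at this
        rw [← this]
        refine Finset.sum_congr rfl fun i _ => ?_
        rw [hm i, TensorProduct.tmul_smul, TensorProduct.smul_tmul', TensorProduct.smul_tmul',
          smul_eq_mul, mul_one, ← Ideal.Quotient.algebraMap_eq, Algebra.smul_def, mul_one]
      have h2 := (Fintype.linearIndependent_iff.1 b.linearIndependent) _ h1 i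
      exact mem_nilradical.1 (Ideal.Quotient.eq_zero_iff_mem.1 h2)



open TensorProduct in
/-- Let R be a commutative Noetherian ring with nilradical n, M an R-module and r a natural number. Then
M is NR-free of rank r — generated by r elements such that every linear relation among them has
nilpotent coefficients — if and only if (R/n) ⊗_R M is free of rank r over R/n, in the sense of
admitting a basis indexed by r elements. (The published statement assumes M finitely generated and
also gives the converse when R is local; over a Noetherian ring the nilradical is nilpotent, the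
case used here, and finite generation is not needed.) -/
theorem result (R : Type u) [CommRing R]
    [IsNoetherianRing R] (M : Type v) [AddCommGroup M] [Module R M] (r : ℕ) :
    W4c1frobunstiva.IsNRFree R M r ↔
      Nonempty (Module.Basis (Fin r) (R ⧸ nilradical R) ((R ⧸ nilradical R) ⊗[R] M)) := by
  exact main R M r

end Groth.Agent.S14032
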