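import Groth.Statements.S14033
import Mathlib
-- import your own Groth.Agent.* helpers here

set_option autoImplicit false
universe u v
open W4c1frobunstiva

namespace Groth.Agent.S14033

open DualNumber Pointwise TrivSqZeroExt

variable {R : Type u} [CommRing R] {M : Type v}
    [AddCommGroup M] [Module R[ε] M] [Module R M] [IsScalarTower R R[ε] M]

lemma eps_smul_eps_smul (m : M) : (ε : R[ε]) • ((ε : R[ε]) • m) = 0 := by
  rw [← mul_smul, eps_mul_eps, zero_smul]

lemma smul_decomp (c : R[ε]) (m : M) : c • m = fst c • m + snd c • ((ε : R[ε]) • m) := by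
  conv_lhs => rw [← inl_fst_add_inr_snd_eq c, add_smul, inr_eq_smul_eps, ← algebraMap_eq_inl, algebraMap_smul,
    smul_assoc]

lemma eps_mul (c : R[ε]) : (ε : R[ε]) * c = fst c • (ε : R[ε]) := by
  conv_lhs => rw [← inl_fst_add_inr_snd_eq c, mul_add, inr_eq_smul_eps, mul_smul_comm, eps_mul_eps, smul_zero,
    add_zero, ← algebraMap_eq_inl, mul_comm, ← Algebra.smul_def]

lemma eps_smul_smul (c : R[ε]) (m : M) : (ε : R[ε]) • (c • m) = fst c • ((ε : R[ε]) • m) := by
  rw [← mul_smul, eps_mul, smul_assoc]

variable (R M) in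
abbrev N : Submodule R[ε] M := (ε : R[ε]) • (⊤ : Submodule R[ε] M)

lemma mem_N (x : M) : x ∈ N R M ↔ ∃ y : M, (ε : R[ε]) • y = x := by
  rw [Submodule.mem_smul_pointwise_iff_exists]
  simp

lemma mk_smul' (a : R) (x : M) : (Submodule.Quotient.mk (a • x) : M ⧸ N R M) = a • Submodule.Quotient.mk x := rfl

theorem forward (r : ℕ) (e : Module.Basis (Fin r) R[ε] M) :
    Nonempty (Module.Basis (Fin r) R (M ⧸ N R M)) ∧
      Nonempty (Module.Basis (Fin r) R ((N R M).restrictScalars R)) := by
  have hrepr : ∀ x : M, x = ∑ i, e.repr x i • e i := fun x => (e.sum_repr x).symm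
  constructor
  · refine ⟨Module.Basis.mk (v := fun i => (Submodule.Quotient.mk (e i) : M ⧸ N R M)) ?_ ?_⟩
    · rw [Fintype.linearIndependent_iff]
      intro a ha i
      have h1 : (Submodule.Quotient.mk (∑ i, a i • e i) : M ⧸ N R M) = 0 := by
        rw [← ha, ← Submodule.mkQ_apply, map_sum]
        rfl
      rw [Submodule.Quotient.mk_eq_zero, mem_N] at h1
      obtain ⟨y, hy⟩ := h1
      have h2 := congrArg (fun z => e.repr z i) hy
      simp only [map_smul, Finsupp.smul_apply, smul_eq_mul, map_sum] at h2
      have h3 : (∑ j, e.repr (a j • e j)) i = algebraMap R R[ε] (a i) := by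
        rw [Finsupp.finsetSum_apply]
        rw [Finset.sum_eq_single i]
        · rw [← algebraMap_smul R[ε] (a i) (e i), map_smul, Module.Basis.repr_self, Finsupp.smul_apply,
            Finsupp.single_eq_same, smul_eq_mul, mul_one]
        · intro j _ hj
          rw [← algebraMap_smul R[ε] (a j) (e j), map_smul, Module.Basis.repr_self, Finsupp.smul_apply,
            Finsupp.single_eq_of_ne hj.symm, smul_zero]
        · intro h; exact absurd (Finset.mem_univ i) h
      rw [h3] at h2
      have h4 := congrArg fst h2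
      rw [eps_mul, algebraMap_eq_inl, fst_inl, fst_smul, fst_eps, smul_zero] at h4
      exact h4.symm
    · rw [top_le_iff, eq_top_iff]
      intro x hx0
      clear hx0
      obtain ⟨x, rfl⟩ := Submodule.Quotient.mk_surjective _ x
      rw [hrepr x, ← Submodule.mkQ_apply, map_sum]
      refine Submodule.sum_mem _ fun i _ => ?_
      rw [Submodule.mkQ_apply, smul_decomp, Submodule.Quotient.mk_add, mk_smul']
      have : (Submodule.Quotient.mk (snd (e.repr x i) • ((ε : R[ε]) • e i)) : M ⧸ N R M) = 0 := by
        rw [Submodule.Quotient.mk_eq_zero, mem_N]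
        exact ⟨snd (e.repr x i) • e i, by rw [smul_comm]⟩
      rw [this, add_zero]
      exact Submodule.smul_mem _ _ (Submodule.subset_span ⟨i, rfl⟩)
  · have hw : ∀ i, (ε : R[ε]) • e i ∈ (N R M).restrictScalars R := fun i => (mem_N _).2 ⟨e i, rfl⟩
    refine ⟨Module.Basis.mk (v := fun i => (⟨(ε : R[ε]) • e i, hw i⟩ : (N R M).restrictScalars R)) ?_ ?_⟩
    · rw [Fintype.linearIndependent_iff]
      intro b hb i
      have h1 : ∑ i, (b i • (ε : R[ε])) • e i = 0 := by
        have := congrArg Subtype.val hb
        simp only [Submodule.coe_sum, Submodule.coe_smul, ZeroMemClass.coe_zero] at this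
        rw [← this]
        refine Finset.sum_congr rfl fun i _ => ?_
        rw [smul_assoc]
      have h2 := (Fintype.linearIndependent_iff.1 e.linearIndependent) _ h1 i
      have h3 := congrArg snd h2
      rw [snd_smul, snd_eps, smul_eq_mul, mul_one, snd_zero] at h3
      exact h3
    · rw [top_le_iff, eq_top_iff]
      rintro ⟨x, hx⟩ hx0
      clear hx0
      obtain ⟨y, rfl⟩ := (mem_N x).1 hx
      have h1 : (ε : R[ε]) • y = ∑ i, fst (e.repr y i) • ((ε : R[ε]) • e i) := by
        conv_lhs => rw [hrepr y, Finset.smul_sum]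
        refine Finset.sum_congr rfl fun i _ => ?_
        rw [eps_smul_smul]
      have h2 : (⟨(ε : R[ε]) • y, hx⟩ : (N R M).restrictScalars R) =
          ∑ i, fst (e.repr y i) • (⟨(ε : R[ε]) • e i, hw i⟩ : (N R M).restrictScalars R) := by
        apply Subtype.ext
        simp only [Submodule.coe_sum, Submodule.coe_smul]
        exact h1
      rw [h2]
      exact Submodule.sum_mem _ fun i _ => Submodule.smul_mem _ _ (Submodule.subset_span ⟨i, rfl⟩)


theorem backward (r : ℕ) (bu : Module.Basis (Fin r) R (M ⧸ N R M))
    (bw : Module.Basis (Fin r) R ((N R M).restrictScalars R)) :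
    Nonempty (Module.Basis (Fin r) R[ε] M) := by
  choose u hu using fun i => Submodule.Quotient.mk_surjective (N R M) (bu i)
  -- every x is an R-combination of the u i modulo ε
  have hmod : ∀ x : M, ∃ (a : Fin r → R) (y : M), x = ∑ i, a i • u i + (ε : R[ε]) • y := by
    intro x
    have h1 := bu.sum_repr (Submodule.Quotient.mk x)
    have h2 : (Submodule.Quotient.mk (x - ∑ i, bu.repr (Submodule.Quotient.mk x) i • u i) : M ⧸ N R M) = 0 := by
      have h3 : (Submodule.Quotient.mk (∑ i, bu.repr (Submodule.Quotient.mk x) i • u i) : M ⧸ N R M) =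
          Submodule.Quotient.mk x := by
        rw [← Submodule.mkQ_apply (N R M) (∑ i, bu.repr (Submodule.Quotient.mk x) i • u i), map_sum]
        rw [← h1]
        refine Finset.sum_congr rfl fun i _ => ?_
        rw [Submodule.mkQ_apply, mk_smul', hu, h1]
      rw [Submodule.Quotient.mk_sub, h3, sub_self]
    rw [Submodule.Quotient.mk_eq_zero, mem_N] at h2
    obtain ⟨y, hy⟩ := h2
    exact ⟨fun i => bu.repr (Submodule.Quotient.mk x) i, y, by rw [hy]; abel⟩
  have hw : ∀ i, (ε : R[ε]) • u i ∈ (N R M).restrictScalars R := fun i => (mem_N _).2 ⟨u i, rfl⟩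
  let G : (Fin r → R) →ₗ[R] (N R M).restrictScalars R :=
    Fintype.linearCombination R (fun i => (⟨(ε : R[ε]) • u i, hw i⟩ : (N R M).restrictScalars R))
  have hGsurj : Function.Surjective G := by
    rintro ⟨x, hx⟩
    obtain ⟨y, rfl⟩ := (mem_N x).1 hx
    obtain ⟨a, z, hz⟩ := hmod y
    refine ⟨a, ?_⟩
    apply Subtype.ext
    simp only [G, Fintype.linearCombination_apply, Submodule.coe_sum, Submodule.coe_smul]
    rw [hz, smul_add, eps_smul_eps_smul, add_zero, Finset.smul_sum]
    refine Finset.sum_congr rfl fun i _ => ?_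
    rw [smul_comm]
  have hGinj : Function.Injective G := by
    let S : (Fin r → R) →ₗ[R] (Fin r → R) := bw.equivFun.toLinearMap ∘ₗ G
    have hS : Function.Surjective S := bw.equivFun.surjective.comp hGsurj
    have hS' : Function.Injective S := OrzechProperty.injective_of_surjective_endomorphism S hS
    intro a b hab
    apply hS'
    simp only [S, LinearMap.comp_apply, hab]
  refine ⟨Module.Basis.mk (v := u) ?_ ?_⟩
  · rw [Fintype.linearIndependent_iff]
    intro c hc
    have h1 : ∑ i, (fst (c i) • u i + snd (c i) • ((ε : R[ε]) • u i)) = 0 := by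
      rw [← hc]
      exact Finset.sum_congr rfl fun i _ => (smul_decomp _ _).symm
    -- reduce mod ε
    have h2 : ∀ i, fst (c i) = 0 := by
      have h3 : (Submodule.Quotient.mk (∑ i, (fst (c i) • u i + snd (c i) • ((ε : R[ε]) • u i))) : M ⧸ N R M) = 0 := by
        rw [h1]; rfl
      rw [← Submodule.mkQ_apply, map_sum] at h3
      have h4 : ∑ i, fst (c i) • bu i = 0 := by
        rw [← h3]
        refine Finset.sum_congr rfl fun i _ => ?_
        rw [Submodule.mkQ_apply, Submodule.Quotient.mk_add, mk_smul', hu]
        have : (Submodule.Quotient.mk (snd (c i) • ((ε : R[ε]) • u i)) : M ⧸ N R M) = 0 := by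
          rw [Submodule.Quotient.mk_eq_zero, mem_N]
          exact ⟨snd (c i) • u i, by rw [smul_comm]⟩
        rw [this, add_zero]
      exact Fintype.linearIndependent_iff.1 bu.linearIndependent _ h4
    have h5 : G (fun i => snd (c i)) = 0 := by
      apply Subtype.ext
      simp only [G, Fintype.linearCombination_apply, Submodule.coe_sum, Submodule.coe_smul, ZeroMemClass.coe_zero]
      rw [← h1]
      refine Finset.sum_congr rfl fun i _ => ?_
      rw [h2 i, zero_smul, zero_add]
    have h6 : (fun i => snd (c i)) = 0 := hGinj (by rw [h5, map_zero])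
    intro i
    apply TrivSqZeroExt.ext
    · rw [h2 i, fst_zero]
    · rw [snd_zero]; exact congrFun h6 i
  · rw [top_le_iff, eq_top_iff]
    intro x hx0
    clear hx0
    obtain ⟨a, y, hy⟩ := hmod x
    obtain ⟨a', y', hy'⟩ := hmod y
    rw [hy, hy', smul_add, eps_smul_eps_smul, add_zero]
    refine Submodule.add_mem _ ?_ ?_
    · refine Submodule.sum_mem _ fun i _ => ?_
      rw [← algebraMap_smul R[ε] (a i) (u i)]
      exact Submodule.smul_mem _ _ (Submodule.subset_span ⟨i, rfl⟩)
    · refine Submodule.smul_mem _ _ (Submodule.sum_mem _ fun i _ => ?_)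
      rw [← algebraMap_smul R[ε] (a' i) (u i)]
      exact Submodule.smul_mem _ _ (Submodule.subset_span ⟨i, rfl⟩)



open DualNumber Pointwise in
/-- Let R be a commutative ring, R[ε] its ring of dual numbers (ε² = 0), M an R[ε]-module and r a
natural number. Then M is free of rank r over R[ε] (admits a basis of r elements) if and only if the
R-modules M/εM and εM are both free of rank r. (The published statement concerns a coherent sheaf on
the product of a scheme S with Spec ℤ[ε] and local freeness of rank r; that assertion is local, and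
this row is its form over one ring, with no finiteness assumption on M and no hypothesis on R.) -/
theorem result (R : Type u) [CommRing R] (M : Type v)
    [AddCommGroup M] [Module R[ε] M] [Module R M] [IsScalarTower R R[ε] M] (r : ℕ) :
    Nonempty (Module.Basis (Fin r) R[ε] M) ↔
      (Nonempty (Module.Basis (Fin r) R (M ⧸ ((ε : R[ε]) • (⊤ : Submodule R[ε] M)))) ∧
        Nonempty (Module.Basis (Fin r) R (((ε : R[ε]) • (⊤ : Submodule R[ε] M)).restrictScalars R))) := by
  constructor
  · rintro ⟨e⟩
    exact forward r e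
  · rintro ⟨⟨bu⟩, ⟨bw⟩⟩
    exact backward r bu bw

end Groth.Agent.S14033
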