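import Groth.Statements.S14034
import Mathlib
-- import your own Groth.Agent.* helpers here

set_option autoImplicit false
universe u
open W4c1frobunstiva

namespace Groth.Agent.S14034

/-- Let R be a Noetherian local ring and f an element of R whose annihilator consists of nilpotent
elements (a f = 0 forces a nilpotent), r, s and l ≤ s natural numbers, N the quotient of the free
module R^s by the submodule spanned by f e_1, …, f e_l (e_i the standard basis vectors), and φ : R^r
→ N a surjective linear map. Then the kernel of φ is NR-free of rank r + l − s: it is generated by r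
+ l − s elements every linear relation among which has nilpotent coefficients; and when l = 0 the
kernel is free of rank r − s. (The published statement takes R Noetherian with irreducible spectrum
and R_red a domain, not necessarily local, and f arbitrary. Over the coordinate ring of the real
2-sphere the kernel of (x, y, z) : R³ → R is not free, and over k[x, y]/(y², xy) localised at (x, y)
with f = y the kernel of R → R/(y) is spanned by y with the non-nilpotent relation x·y = 0. The
published argument uses that the kernel of a surjection of free modules is free, true over a local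
ring, and that a f = 0 forces a nilpotent, which is the hypothesis taken here; it holds when R_red
is a domain and f is not nilpotent, and also for f = ε in A[ε] with A a domain, so primality of the
nilradical is not assumed.) -/
theorem result (R : Type u)
    [CommRing R] [IsNoetherianRing R] [IsLocalRing R] (f : R)
    (hann : ∀ a : R, a * f = 0 → IsNilpotent a) (r s l : ℕ) (hls : l ≤ s)
    (φ : (Fin r → R) →ₗ[R]
      ((Fin s → R) ⧸ Submodule.span R (Set.range fun i : Fin l => (Pi.single (Fin.castLE hls i) f : Fin s → R))))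
    (hφ : Function.Surjective φ) :
    W4c1frobunstiva.IsNRFree R (LinearMap.ker φ) (r + l - s) ∧
      (l = 0 → Nonempty (Module.Basis (Fin (r - s)) R (LinearMap.ker φ))) := by
  classical
  let v : Fin l → (Fin s → R) := fun i => Pi.single (Fin.castLE hls i) f
  let S₀ : Submodule R (Fin s → R) := Submodule.span R (Set.range v)
  obtain ⟨Φ, hΦ⟩ := Module.projective_lifting_property S₀.mkQ φ (Submodule.mkQ_surjective S₀)
  have hφΦ : ∀ x, φ x = S₀.mkQ (Φ x) := fun x => (LinearMap.congr_fun hΦ x).symm
  let G : (Fin l → R) →ₗ[R] (Fin s → R) := Fintype.linearCombination R v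
  have hGapp : ∀ y, G y = ∑ i, y i • v i := fun y => Fintype.linearCombination_apply R v y
  have hGrange : LinearMap.range G = S₀ := Fintype.range_linearCombination R v
  have hGmem : ∀ y, S₀.mkQ (G y) = 0 := by
    intro y
    rw [Submodule.mkQ_apply, Submodule.Quotient.mk_eq_zero, ← hGrange]
    exact ⟨y, rfl⟩
  let Ψ : ((Fin r → R) × (Fin l → R)) →ₗ[R] (Fin s → R) := Φ.coprod G
  have hΨapp : ∀ p, Ψ p = Φ p.1 + G p.2 := fun p => LinearMap.coprod_apply Φ G p
  have hΨ : Function.Surjective Ψ := by
    intro z
    obtain ⟨x, hx⟩ := hφ (S₀.mkQ z)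
    have h1 : S₀.mkQ (z - Φ x) = 0 := by
      rw [map_sub, ← hφΦ, hx, sub_self]
    have h2 : z - Φ x ∈ S₀ := by
      rwa [Submodule.mkQ_apply, Submodule.Quotient.mk_eq_zero] at h1
    rw [← hGrange] at h2
    obtain ⟨y, hy⟩ := h2
    refine ⟨(x, y), ?_⟩
    rw [hΨapp]
    show Φ x + G y = z
    rw [hy]
    abel
  obtain ⟨σ, hσ⟩ := Module.projective_lifting_property Ψ LinearMap.id hΨ
  have hσ' : ∀ z, Ψ (σ z) = z := fun z => LinearMap.congr_fun hσ z
  let K' : Submodule R ((Fin r → R) × (Fin l → R)) := LinearMap.ker Ψ
  have hK'mem : ∀ k : K', Ψ (k : (Fin r → R) × (Fin l → R)) = 0 := fun k => LinearMap.mem_ker.mp k.2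
  let ρ : ((Fin r → R) × (Fin l → R)) →ₗ[R] K' :=
    (LinearMap.id - σ ∘ₗ Ψ).codRestrict K' (by
      intro p
      rw [LinearMap.mem_ker]
      show Ψ (p - σ (Ψ p)) = 0
      rw [map_sub, hσ', sub_self])
  have hρval : ∀ p, ((ρ p : K') : (Fin r → R) × (Fin l → R)) = p - σ (Ψ p) := fun p => rfl
  have hρ : ∀ k : K', ρ k = k := by
    intro k
    apply Subtype.ext
    rw [hρval, hK'mem, map_zero, sub_zero]
  let E : ((Fin r → R) × (Fin l → R)) ≃ₗ[R] (K' × (Fin s → R)) :=
    LinearEquiv.ofLinear (ρ.prod Ψ) (K'.subtype.coprod σ)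
      (by
        apply LinearMap.ext
        rintro ⟨k, z⟩
        have hΨk : Ψ ((k : (Fin r → R) × (Fin l → R)) + σ z) = z := by
          rw [map_add, hK'mem, hσ', zero_add]
        apply Prod.ext
        · apply Subtype.ext
          show ((k : (Fin r → R) × (Fin l → R)) + σ z) -
            σ (Ψ ((k : (Fin r → R) × (Fin l → R)) + σ z)) = k
          rw [hΨk]
          abel
        · exact hΨk)
      (by
        apply LinearMap.ext
        intro p
        show (p - σ (Ψ p)) + σ (Ψ p) = p
        abel)
  have hproj : Module.Projective R K' := Module.Projective.of_split K'.subtype ρ (by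
      apply LinearMap.ext
      intro k
      exact hρ k)
  have hfin : Module.Finite R K' := Module.Finite.of_surjective ρ (fun k => ⟨k, hρ k⟩)
  have hfree : Module.Free R K' := Module.free_of_flat_of_isLocalRing
  have hrank : Module.finrank R K' = r + l - s := by
    have h1 := LinearEquiv.finrank_eq E
    rw [Module.finrank_prod, Module.finrank_prod, Module.finrank_fin_fun, Module.finrank_fin_fun,
      Module.finrank_fin_fun] at h1
    omega
  let b' : Module.Basis (Fin (r + l - s)) R K' := Module.finBasisOfFinrankEq R K' hrank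
  have hK'φ : ∀ k : K', φ (k : (Fin r → R) × (Fin l → R)).1 = 0 := by
    intro k
    have h1 : Φ (k : (Fin r → R) × (Fin l → R)).1 + G (k : (Fin r → R) × (Fin l → R)).2 = 0 := by
      rw [← hΨapp]
      exact hK'mem k
    have h2 : Φ (k : (Fin r → R) × (Fin l → R)).1 = - G (k : (Fin r → R) × (Fin l → R)).2 :=
      eq_neg_of_add_eq_zero_left h1
    rw [hφΦ, h2, map_neg, hGmem, neg_zero]
  let π : K' →ₗ[R] LinearMap.ker φ :=
    ((LinearMap.fst R _ _).comp K'.subtype).codRestrict (LinearMap.ker φ) (fun k => hK'φ k)
  have hπval : ∀ k : K', ((π k : LinearMap.ker φ) : Fin r → R) =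
      (k : (Fin r → R) × (Fin l → R)).1 := fun k => rfl
  have hπsurj : Function.Surjective π := by
    rintro ⟨x, hx⟩
    have hx' : φ x = 0 := hx
    rw [hφΦ, Submodule.mkQ_apply, Submodule.Quotient.mk_eq_zero, ← hGrange] at hx'
    obtain ⟨y, hy⟩ := hx'
    have hmem : ((x, -y) : (Fin r → R) × (Fin l → R)) ∈ K' := by
      rw [LinearMap.mem_ker, hΨapp]
      show Φ x + G (-y) = 0
      rw [map_neg, hy]
      abel
    exact ⟨⟨(x, -y), hmem⟩, Subtype.ext rfl⟩
  have hspan : Submodule.span R (Set.range fun i => π (b' i)) = ⊤ := by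
    have h0 : (fun i => π (b' i)) = π ∘ b' := rfl
    rw [h0, Set.range_comp, ← Submodule.map_span, b'.span_eq, Submodule.map_top,
      LinearMap.range_eq_top.mpr hπsurj]
  have hnil : ∀ a : Fin (r + l - s) → R, (∑ i, a i • π (b' i)) = 0 →
      ∀ i, IsNilpotent (a i) := by
    intro a ha i
    obtain ⟨k, hk⟩ : ∃ k : K', k = ∑ i, a i • b' i := ⟨_, rfl⟩
    have hπk : π k = 0 := by
      rw [hk, map_sum]
      simpa [map_smul] using ha
    have hk1 : (k : (Fin r → R) × (Fin l → R)).1 = 0 := by
      rw [← hπval, hπk]
      rfl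
    obtain ⟨y, hy⟩ : ∃ y, y = (k : (Fin r → R) × (Fin l → R)).2 := ⟨_, rfl⟩
    have hGy : G y = 0 := by
      have h1 := hK'mem k
      rw [hΨapp, hk1, map_zero, zero_add, ← hy] at h1
      exact h1
    have hyn : ∀ j, IsNilpotent (y j) := by
      intro j
      apply hann
      have h2 : ∑ i, y i * v i (Fin.castLE hls j) = 0 := by
        have h3 := congrFun hGy (Fin.castLE hls j)
        rw [hGapp] at h3
        simpa [Finset.sum_apply] using h3
      rw [Finset.sum_eq_single j] at h2
      · have h4 : v j (Fin.castLE hls j) = f := by simp [v]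
        rw [h4] at h2
        exact h2
      · intro i _ hij
        have h5 : Fin.castLE hls j ≠ Fin.castLE hls i :=
          fun h => hij (Fin.castLE_injective hls h).symm
        have h4 : v i (Fin.castLE hls j) = 0 := by simp [v, Pi.single_apply, h5]
        rw [h4, mul_zero]
      · intro h
        exact absurd (Finset.mem_univ j) h
    have hai : a i = b'.repr k i := by
      rw [hk, b'.repr_sum_self]
    have hk0 : (k : (Fin r → R) × (Fin l → R)) = (0, y) := Prod.ext hk1 hy.symm
    have hkρ : k = ρ (0, y) := by
      rw [← hk0, hρ]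
    let L : (Fin l → R) →ₗ[R] R :=
      (Finsupp.lapply i) ∘ₗ b'.repr.toLinearMap ∘ₗ ρ ∘ₗ (LinearMap.inr R (Fin r → R) (Fin l → R))
    have hL : a i = L y := by
      rw [hai, hkρ]
      rfl
    rw [hL, LinearMap.pi_apply_eq_sum_univ L y, ← mem_nilradical]
    apply Ideal.sum_mem
    intro j _
    rw [smul_eq_mul]
    exact Ideal.mul_mem_right _ _ (mem_nilradical.mpr (hyn j))
  refine ⟨⟨fun i => π (b' i), hspan, hnil⟩, ?_⟩
  intro hl
  have hemp : IsEmpty (Fin l) := by
    rw [hl]
    infer_instance
  have hπinj : Function.Injective π := by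
    rw [← LinearMap.ker_eq_bot, LinearMap.ker_eq_bot']
    intro k hk
    apply Subtype.ext
    have hk1 : (k : (Fin r → R) × (Fin l → R)).1 = 0 := by
      rw [← hπval, hk]
      rfl
    apply Prod.ext
    · exact hk1
    · funext j
      exact isEmptyElim j
  let e : K' ≃ₗ[R] LinearMap.ker φ := LinearEquiv.ofBijective π ⟨hπinj, hπsurj⟩
  exact ⟨(b'.map e).reindex (finCongr (by omega))⟩

end Groth.Agent.S14034
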