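import Groth.Statements.S14035
import Mathlib.RingTheory.Flat.Equalizer
import Mathlib.RingTheory.LocalRing.Module
import Mathlib.RingTheory.Support
import Mathlib.Tactic
-- import your own Groth.Agent.* helpers here

set_option autoImplicit false
universe u v
open W4c1frobunstiva

namespace Groth.Agent.S14035

open TensorProduct in
/-- Let A → B be a ring homomorphism with B Noetherian. If B modulo its nilradical is flat over A and
every fibre ring κ(p) ⊗_A B, p a prime of A, is reduced, then B is reduced. (This is the affine form
of the statement for a morphism of schemes X → Y all of whose fibres are reduced and whose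
restriction to the reduced closed subscheme X_red is flat. The published statement does not say X is
locally Noetherian, but its proof applies Nakayama's lemma to the nilradical as a finitely generated
ideal; without it the square-zero extension of a discrete valuation ring A by Frac(A)/A is a
counterexample.) -/
theorem result (A : Type u) (B : Type v)
    [CommRing A] [CommRing B] [Algebra A B] [IsNoetherianRing B]
    [Module.Flat A (B ⧸ nilradical B)]
    (hfib : ∀ p : PrimeSpectrum A, IsReduced (p.asIdeal.ResidueField ⊗[A] B)) :
    IsReduced B := by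
  classical
  rw [← nilradical_eq_bot_iff]
  set N : Ideal B := nilradical B with hN
  haveI : Module.Finite B N := Module.Finite.of_fg (IsNoetherian.noetherian N)
  rw [← Submodule.subsingleton_iff_eq_bot, ← Module.support_eq_empty_iff (R := B),
    Set.eq_empty_iff_forall_notMem]
  intro q
  rw [Module.mem_support_iff_nontrivial_residueField_tensorProduct, not_nontrivial_iff_subsingleton]
  let p : PrimeSpectrum A := q.comap (algebraMap A B)
  haveI := hfib p
  -- Step 1: `κ(p) ⊗[A] N = 0`
  let g : N →ₗ[A] B := (Submodule.subtype N).restrictScalars A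
  let f : B →ₗ[A] B ⧸ N := (Ideal.Quotient.mkₐ A N).toLinearMap
  have hf : Function.Surjective f := Ideal.Quotient.mk_surjective
  have hg : Function.Injective g := Subtype.val_injective
  have hex : Function.Exact g f := by
    intro y
    constructor
    · intro hy
      have : y ∈ N := Ideal.Quotient.eq_zero_iff_mem.1 hy
      exact ⟨⟨y, this⟩, rfl⟩
    · rintro ⟨a, rfl⟩
      exact Ideal.Quotient.eq_zero_iff_mem.2 a.2
  have hinj := LinearMap.lTensor_injective_of_exact_of_flat f hf g hg hex p.asIdeal.ResidueField
  have hzero : ∀ z, g.lTensor p.asIdeal.ResidueField z = 0 := by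
    intro z
    induction z using TensorProduct.induction_on with
    | zero => simp
    | tmul c n =>
      have hn : IsNilpotent (n : B) := n.2
      have h1 : IsNilpotent ((1 : p.asIdeal.ResidueField) ⊗ₜ[A] (n : B)) := by
        have := hn.map (Algebra.TensorProduct.includeRight :
          B →ₐ[A] p.asIdeal.ResidueField ⊗[A] B)
        simpa using this
      have h2 : ((1 : p.asIdeal.ResidueField) ⊗ₜ[A] (n : B)) = 0 := h1.eq_zero
      have h3 : c ⊗ₜ[A] (n : B) = (c ⊗ₜ[A] (1 : B)) * ((1 : p.asIdeal.ResidueField) ⊗ₜ[A] (n : B)) := by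
        simp
      show c ⊗ₜ[A] (n : B) = 0
      rw [h3, h2, mul_zero]
    | add x y hx hy => rw [map_add, hx, hy, add_zero]
  haveI hsub : Subsingleton (p.asIdeal.ResidueField ⊗[A] N) :=
    ⟨fun x y => hinj (by rw [hzero, hzero])⟩
  -- Step 2: transfer to `κ(q) ⊗[B] N`
  let κmap : p.asIdeal.ResidueField →ₐ[A] q.asIdeal.ResidueField :=
    Ideal.ResidueField.mapₐ p.asIdeal q.asIdeal (Algebra.ofId A B) rfl
  let Φ : p.asIdeal.ResidueField ⊗[A] N →ₗ[A] q.asIdeal.ResidueField ⊗[B] N :=
    TensorProduct.lift (LinearMap.mk₂ A (fun c n => κmap c ⊗ₜ[B] n)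
      (fun c c' n => by rw [map_add, TensorProduct.add_tmul])
      (fun a c n => by rw [map_smul, TensorProduct.smul_tmul'])
      (fun c n n' => by rw [TensorProduct.tmul_add])
      (fun a c n => by rw [TensorProduct.tmul_smul]))
  have hΦ : ∀ n : N, (1 : q.asIdeal.ResidueField) ⊗ₜ[B] n = 0 := by
    intro n
    have : Φ ((1 : p.asIdeal.ResidueField) ⊗ₜ[A] n) = (1 : q.asIdeal.ResidueField) ⊗ₜ[B] n := by
      simp [Φ]
    rw [← this, Subsingleton.elim ((1 : p.asIdeal.ResidueField) ⊗ₜ[A] n) 0, map_zero]
  refine ⟨fun x y => ?_⟩
  have h0 : ∀ z : q.asIdeal.ResidueField ⊗[B] N, z = 0 := by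
    intro z
    induction z using TensorProduct.induction_on with
    | zero => rfl
    | tmul d n =>
      have : d ⊗ₜ[B] n = d • ((1 : q.asIdeal.ResidueField) ⊗ₜ[B] n) := by
        rw [TensorProduct.smul_tmul', smul_eq_mul, mul_one]
      rw [this, hΦ, smul_zero]
    | add x y hx hy => rw [hx, hy, add_zero]
  rw [h0 x, h0 y]

end Groth.Agent.S14035
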