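import Groth.Statements.S14039
import Mathlib

set_option autoImplicit false
open W4c1frobunstiva

namespace Groth.Agent.S14039

section
open PowerSeries

/-- generating function of the allowed exponents -/
noncomputable def G (p : ℕ) : PowerSeries ℤ :=
  ∑ a ∈ (Finset.univ : Finset (Fin p)).filter (fun a : Fin p => 1 ≤ (a : ℕ)), (X : PowerSeries ℤ) ^ (a : ℕ)

lemma G_eq (p : ℕ) : G p = ∑ j ∈ Finset.Ico 1 p, (X : PowerSeries ℤ) ^ j := by
  unfold G
  rw [Finset.sum_filter, Fin.sum_univ_eq_sum_range (fun j => if 1 ≤ j then (X : PowerSeries ℤ) ^ j else 0) p,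
    ← Finset.sum_filter]
  congr 1
  ext j
  simp [Finset.mem_Ico, and_comm]

lemma G_mul (p : ℕ) : G p * (1 - X) = X * (1 - X ^ (p - 1)) := by
  rw [G_eq]
  rcases Nat.lt_or_ge p 1 with hp | hp
  · have : p = 0 := by omega
    subst this
    simp
  · have h := geom_sum_Ico_mul (X : PowerSeries ℤ) hp
    have e : (X : PowerSeries ℤ) * X ^ (p - 1) = X ^ p := by
      rw [← pow_succ']; congr 1; omega
    have : (∑ i ∈ Finset.Ico 1 p, (X : PowerSeries ℤ) ^ i) * (1 - X) = X - X ^ p := by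
      have : (1 - X : PowerSeries ℤ) = -(X - 1) := by ring
      rw [this, mul_neg, h]; ring
    rw [this, mul_sub, mul_one, e]

lemma G_pow (p d : ℕ) :
    G p ^ (d + 1) = X ^ (d + 1) * (1 - X ^ (p - 1)) ^ (d + 1) *
      (mk fun m => ((d + m).choose d : ℤ)) := by
  rw [← mk_one_pow_eq_mk_choose_add]
  have h1 : G p ^ (d + 1) * (1 - X) ^ (d + 1) = X ^ (d + 1) * (1 - X ^ (p - 1)) ^ (d + 1) := by
    rw [← mul_pow, G_mul, mul_pow]
  have h2 : ((1 - X) ^ (d + 1) : PowerSeries ℤ) * (mk 1) ^ (d + 1) = 1 := by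
    rw [← mul_pow, mul_comm, mk_one_mul_one_sub_eq_one, one_pow]
  calc G p ^ (d + 1) = G p ^ (d + 1) * ((1 - X) ^ (d + 1) * (mk 1) ^ (d + 1)) := by rw [h2, mul_one]
    _ = _ := by rw [← mul_assoc, h1]

lemma coeff_G_pow (p d s : ℕ) :
    coeff s (G p ^ (d + 1)) = ∑ i ∈ Finset.range (d + 1 + 1),
        (-1 : ℤ) ^ i * ((d + 1).choose i : ℤ) *
          (if i * (p - 1) + (d + 1) ≤ s then (((s - i * (p - 1) - 1).choose d : ℕ) : ℤ) else 0) := by
  rw [G_pow]
  have hb : ((1 : PowerSeries ℤ) - X ^ (p - 1)) ^ (d + 1) =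
      ∑ i ∈ Finset.range (d + 1 + 1), C ((-1 : ℤ) ^ i * ((d + 1).choose i : ℤ)) * X ^ (i * (p - 1)) := by
    have : ((1 : PowerSeries ℤ) - X ^ (p - 1)) = -X ^ (p - 1) + 1 := by ring
    rw [this, add_pow]
    refine Finset.sum_congr rfl fun i _ => ?_
    rw [one_pow, mul_one, neg_pow, ← pow_mul, map_mul, map_pow, map_neg, map_one, map_natCast,
      mul_comm i (p - 1)]
    ring
  rw [hb, Finset.mul_sum, Finset.sum_mul, map_sum]
  refine Finset.sum_congr rfl fun i _ => ?_
  have : (X : PowerSeries ℤ) ^ (d + 1) * (C ((-1 : ℤ) ^ i * ((d + 1).choose i : ℤ)) * X ^ (i * (p - 1))) *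
      (mk fun m => ((d + m).choose d : ℤ)) =
      C ((-1 : ℤ) ^ i * ((d + 1).choose i : ℤ)) *
        (X ^ (i * (p - 1) + (d + 1)) * (mk fun m => ((d + m).choose d : ℤ))) := by
    rw [pow_add]; ring
  rw [this, coeff_C_mul, coeff_X_pow_mul']
  congr 1
  split_ifs with h
  · rw [coeff_mk]
    congr 2
    omega
  · rfl

lemma card_eq_coeff (p n s : ℕ) :
    (Fintype.card {e : Fin n → Fin p // (∀ i, 1 ≤ (e i : ℕ)) ∧ ∑ i, (e i : ℕ) = s} : ℤ) =
      coeff s (G p ^ n) := by
  classical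
  have h1 : G p ^ n = ∑ e ∈ Fintype.piFinset (fun _ : Fin n =>
      (Finset.univ : Finset (Fin p)).filter (fun a : Fin p => 1 ≤ (a : ℕ))),
      (X : PowerSeries ℤ) ^ (∑ i, (e i : ℕ)) := by
    have := Finset.prod_univ_sum (fun _ : Fin n =>
      (Finset.univ : Finset (Fin p)).filter (fun a : Fin p => 1 ≤ (a : ℕ)))
      (fun (_ : Fin n) (a : Fin p) => (X : PowerSeries ℤ) ^ (a : ℕ))
    simp only [Finset.prod_const, Finset.card_univ, Fintype.card_fin] at this
    rw [G, this]
    refine Finset.sum_congr rfl fun e _ => ?_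
    rw [Finset.prod_pow_eq_pow_sum]
  rw [h1, map_sum]
  simp only [coeff_X_pow]
  rw [Finset.sum_ite, Finset.sum_const_zero, add_zero, Finset.sum_const, nsmul_eq_mul, mul_one]
  congr 1
  rw [Fintype.card_subtype]
  congr 1
  ext e
  simp only [Finset.mem_filter, Finset.mem_univ, true_and, Fintype.mem_piFinset]
  constructor
  · rintro ⟨h1, h2⟩; exact ⟨h1, h2.symm⟩
  · rintro ⟨h1, h2⟩; exact ⟨h1, h2.symm⟩

end


/-- For natural numbers p, n ≥ 1 and s, the number of monomials of degree s in n variables in which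
every variable occurs with a positive exponent strictly less than p — that is, of exponent vectors
(e_1, …, e_n) with sum s and 1 ≤ e_i ≤ p − 1 — equals the inclusion–exclusion sum over i from 0 to n
of (−1)^i · C(n, i) · C(s − i(p − 1) − 1, n − 1), the last factor counting monomials of degree s −
i(p − 1) − n in n variables and read as 0 when s < i(p − 1) + n. (A companion count, by how many
exponents lie below p/2, and a remark on polynomiality in s and p are not part of this row.) -/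
theorem result (p n s : ℕ)
    (hn : 1 ≤ n) :
    (Fintype.card {e : Fin n → Fin p // (∀ i, 1 ≤ (e i : ℕ)) ∧ ∑ i, (e i : ℕ) = s} : ℤ) =
      ∑ i ∈ Finset.range (n + 1),
        (-1 : ℤ) ^ i * (n.choose i : ℤ) *
          (if i * (p - 1) + n ≤ s then (((s - i * (p - 1) - 1).choose (n - 1) : ℕ) : ℤ) else 0) := by
  obtain ⟨d, rfl⟩ : ∃ d, n = d + 1 := ⟨n - 1, by omega⟩
  rw [card_eq_coeff, coeff_G_pow]
  rfl

end Groth.Agent.S14039
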