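import Groth.Statements.S14040
import Groth.Agent.S14035
import Mathlib.RingTheory.Flat.TorsionFree
import Mathlib.RingTheory.DedekindDomain.PID
import Mathlib.Tactic
-- import your own Groth.Agent.* helpers here

set_option autoImplicit false
universe u v
open W4c1frobunstiva

namespace Groth.Agent.S14040

open TensorProduct in
/-- Let A be a discrete valuation ring and B a Noetherian A-algebra such that the nilradical of B is
prime and meets the image of A only in 0 — the spectrum of B is irreducible and its generic point
lies over the generic point of A. If every fibre ring κ(p) ⊗_A B, p a prime of A, is reduced, then B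
is reduced and flat over A. (Affine form of the statement for a dominant morphism from an
irreducible scheme to the spectrum of a discrete valuation ring with reduced fibres. The published
statement also covers a scheme that is already reduced and does not assume it locally Noetherian;
this row treats reduced fibres with B Noetherian, without which the square-zero extension A ⊕
Frac(A)/A is a counterexample.) -/
theorem result (A : Type u) [CommRing A]
    [IsDomain A] [IsDiscreteValuationRing A] (B : Type v) [CommRing B] [Algebra A B]
    [IsNoetherianRing B] (hirr : (nilradical B).IsPrime)
    (hdom : (nilradical B).comap (algebraMap A B) = ⊥)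
    (hfib : ∀ p : PrimeSpectrum A, IsReduced (p.asIdeal.ResidueField ⊗[A] B)) :
    IsReduced B ∧ Module.Flat A B := by
  haveI := hirr
  haveI : IsDomain (B ⧸ nilradical B) := Ideal.Quotient.isDomain _
  have hinj : Function.Injective (algebraMap A (B ⧸ nilradical B)) := by
    rw [injective_iff_map_eq_zero]
    intro a ha
    have h1 : algebraMap A B a ∈ nilradical B := by
      rw [← Ideal.Quotient.eq_zero_iff_mem]
      exact ha
    have h2 : a ∈ (nilradical B).comap (algebraMap A B) := h1
    rw [hdom] at h2
    simpa using h2
  haveI : Module.IsTorsionFree A (B ⧸ nilradical B) :=
    Module.isTorsionFree_iff_algebraMap_injective.2 hinj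
  haveI : Module.Flat A (B ⧸ nilradical B) := inferInstance
  have hred : IsReduced B := Groth.Agent.S14035.result A B hfib
  refine ⟨hred, ?_⟩
  have hN : nilradical B = ⊥ := nilradical_eq_bot_iff.2 hred
  rw [hN] at hirr hdom
  haveI : IsDomain B := by
    rw [← Ideal.Quotient.isDomain_iff_prime] at hirr
    exact (RingEquiv.quotientBot B).symm.isDomain
  have hinj' : Function.Injective (algebraMap A B) := by
    rw [injective_iff_map_eq_zero]
    intro a ha
    have h2 : a ∈ (⊥ : Ideal B).comap (algebraMap A B) := by
      simpa using ha
    rw [hdom] at h2
    simpa using h2
  haveI : Module.IsTorsionFree A B := Module.isTorsionFree_iff_algebraMap_injective.2 hinj'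
  infer_instance

end Groth.Agent.S14040
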