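import Groth.Statements.S14043
import Mathlib.LinearAlgebra.Finsupp.LinearCombination
import Mathlib.LinearAlgebra.Matrix.Determinant.Basic
import Mathlib.RingTheory.Nilpotent.Basic
import Mathlib.RingTheory.Nilpotent.Lemmas
import Mathlib.RingTheory.Ideal.Quotient.Defs
import Mathlib.Tactic
-- import your own Groth.Agent.* helpers here

set_option autoImplicit false
universe u v
open W4c1frobunstiva

namespace Groth.Agent.S14043

section aux
variable {R : Type u} [CommRing R] {M : Type v} [AddCommGroup M] [Module R M] {r : ℕ}

/-- action of a matrix on a family of module elements -/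
def act (T : Matrix (Fin r) (Fin r) R) (v : Fin r → M) : Fin r → M :=
  fun j => ∑ i, T j i • v i

theorem act_one (v : Fin r → M) : act (1 : Matrix (Fin r) (Fin r) R) v = v := by
  funext j
  simp [act, Matrix.one_apply, ite_smul]

theorem act_mul (S T : Matrix (Fin r) (Fin r) R) (v : Fin r → M) :
    act (S * T) v = act S (act T v) := by
  funext j
  simp only [act, Matrix.mul_apply, Finset.sum_smul, Finset.smul_sum, smul_smul]
  rw [Finset.sum_comm]

theorem exists_act_eq {e : Fin r → M} (he : Submodule.span R (Set.range e) = ⊤) (m : Fin r → M) :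
    ∃ P : Matrix (Fin r) (Fin r) R, m = act P e := by
  have : ∀ j, ∃ c : Fin r → R, ∑ i, c i • e i = m j := by
    intro j
    have hj : m j ∈ Submodule.span R (Set.range e) := by rw [he]; trivial
    exact (Submodule.mem_span_range_iff_exists_fun R).1 hj
  choose c hc using this
  exact ⟨Matrix.of c, funext fun j => (hc j).symm⟩

/-- if `e` is an NR-basis and `act S e = e` then `S` is invertible -/
theorem isUnit_of_act_eq {e : Fin r → M} (he : W4c1frobunstiva.IsNRBasis R M e)
    (S : Matrix (Fin r) (Fin r) R) (hS : act S e = e) : IsUnit S := by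
  have hnil : ∀ k i, IsNilpotent ((S - 1) k i) := by
    intro k
    apply he.2
    have := congrFun hS k
    simp only [act] at this
    simp only [Matrix.sub_apply, sub_smul, Finset.sum_sub_distrib, this]
    simp [Matrix.one_apply, ite_smul]
  rw [Matrix.isUnit_iff_isUnit_det]
  have hdet : IsNilpotent (S.det - 1) := by
    rw [← mem_nilradical, ← Ideal.Quotient.eq_zero_iff_mem, map_sub, map_one, RingHom.map_det]
    have : (Ideal.Quotient.mk (nilradical R)).mapMatrix S = 1 := by
      ext k i
      have h := hnil k i
      rw [← mem_nilradical, ← Ideal.Quotient.eq_zero_iff_mem, Matrix.sub_apply, map_sub,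
        sub_eq_zero] at h
      simp only [RingHom.mapMatrix_apply, Matrix.map_apply, h, Matrix.one_apply]
      split_ifs <;> simp
    rw [this, Matrix.det_one, sub_self]
  have := hdet.isUnit_add_one
  simpa using this

end aux

/-- Let R be a commutative Noetherian ring, M an R-module that is NR-free of rank r — generated by some
r elements all of whose linear relations have nilpotent coefficients — and m, m' two generating
families of M, each indexed by the same finite set of size r. Then some invertible r × r matrix T
over R expresses m' in terms of m, m'_j = Σ_i T_{ji} m_i; reducing modulo the nilradical n, such a T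
induces the change-of-basis matrix between the bases of M/nM given by the images of m and m' (an
r-element generating family of M is itself an NR-basis), so only the existence of an invertible T is
asserted here. (T is not unique.) -/
theorem result (R : Type u) [CommRing R]
    [IsNoetherianRing R] (M : Type v) [AddCommGroup M] [Module R M] (r : ℕ)
    (hM : W4c1frobunstiva.IsNRFree R M r) (m m' : Fin r → M)
    (hm : Submodule.span R (Set.range m) = ⊤) (hm' : Submodule.span R (Set.range m') = ⊤) :
    ∃ T : Matrix (Fin r) (Fin r) R, IsUnit T ∧ ∀ j, m' j = ∑ i, T j i • m i := by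
  obtain ⟨e, he⟩ := hM
  obtain ⟨P, hP⟩ := exists_act_eq he.1 m
  obtain ⟨Q, hQ⟩ := exists_act_eq hm e
  obtain ⟨P', hP'⟩ := exists_act_eq he.1 m'
  have hQP : IsUnit (Q * P) := by
    apply isUnit_of_act_eq he
    rw [act_mul, ← hP, ← hQ]
  have hPunit : IsUnit P := by
    rw [Matrix.isUnit_iff_isUnit_det] at hQP ⊢
    rw [Matrix.det_mul] at hQP
    exact isUnit_of_mul_isUnit_right hQP
  obtain ⟨Q', hQ'⟩ := exists_act_eq hm' e
  have hQP' : IsUnit (Q' * P') := by
    apply isUnit_of_act_eq he
    rw [act_mul, ← hP', ← hQ']
  have hPunit' : IsUnit P' := by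
    rw [Matrix.isUnit_iff_isUnit_det] at hQP' ⊢
    rw [Matrix.det_mul] at hQP'
    exact isUnit_of_mul_isUnit_right hQP'
  have hdetP : IsUnit P.det := (Matrix.isUnit_iff_isUnit_det _).1 hPunit
  refine ⟨P' * P⁻¹, hPunit'.mul ?_, ?_⟩
  · exact Matrix.isUnit_nonsing_inv_iff.2 hPunit
  · have : m' = act (P' * P⁻¹) m := by
      rw [act_mul, hP, ← act_mul P⁻¹ P, Matrix.nonsing_inv_mul _ hdetP, act_one, hP']
    intro j
    exact congrFun this j

end Groth.Agent.S14043
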