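import Groth.Statements.S14046
import Mathlib.RingTheory.Flat.Equalizer
import Mathlib.LinearAlgebra.TensorProduct.Prod
import Mathlib.RingTheory.Ideal.Quotient.Operations
import Mathlib.Tactic
-- import your own Groth.Agent.* helpers here

set_option autoImplicit false
universe u v w
open W4c1frobunstiva

namespace Groth.Agent.S14046

open TensorProduct in
/-- Let R → A be a homomorphism of commutative rings and I, J ideals of A with I ∩ J = 0 — so that A is
the fibre product of A/I and A/J over A/(I + J), i.e. Spec A is the union of the two closed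
subschemes in the strong sense — and suppose A/(I + J) is flat over R. Then this persists under
every base change: for every commutative R-algebra R', the ideals generated by I and J in R' ⊗_R A
again meet in 0. (This is the ideal-theoretic, affine form of the base-change step; the exact
sequence of unit sheaves deduced from it in the published statement — restriction of units to a
closed subscheme being surjective locally — is not restated. Without flatness of A/(I + J) the
conclusion fails: for A = k[x, y]/(xy) over R = k[u] with u ↦ x + y, I = (x) and J = (y), the base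
change to R/(u) gives k[x]/(x²), in which both ideals become (x).) -/
theorem result (R : Type u) (A : Type v)
    [CommRing R] [CommRing A] [Algebra R A] (I J : Ideal A) (hIJ : I ⊓ J = ⊥)
    [Module.Flat R (A ⧸ (I ⊔ J))] (R' : Type w) [CommRing R'] [Algebra R R'] :
    I.map (Algebra.TensorProduct.includeRight : A →ₐ[R] R' ⊗[R] A) ⊓
      J.map (Algebra.TensorProduct.includeRight : A →ₐ[R] R' ⊗[R] A) = ⊥ := by
  classical
  -- the two quotient maps as `R`-linear maps
  let gI : A →ₗ[R] A ⧸ I := (Ideal.Quotient.mkₐ R I).toLinearMap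
  let gJ : A →ₗ[R] A ⧸ J := (Ideal.Quotient.mkₐ R J).toLinearMap
  let g : A →ₗ[R] (A ⧸ I) × (A ⧸ J) := gI.prod gJ
  let qI : (A ⧸ I) →ₗ[R] A ⧸ (I ⊔ J) :=
    (Ideal.Quotient.factorₐ R (le_sup_left : I ≤ I ⊔ J)).toLinearMap
  let qJ : (A ⧸ J) →ₗ[R] A ⧸ (I ⊔ J) :=
    (Ideal.Quotient.factorₐ R (le_sup_right : J ≤ I ⊔ J)).toLinearMap
  let f : (A ⧸ I) × (A ⧸ J) →ₗ[R] A ⧸ (I ⊔ J) := qI.coprod (-qJ)
  have hgI : ∀ a : A, gI a = Ideal.Quotient.mk I a := fun a => rfl
  have hgJ : ∀ a : A, gJ a = Ideal.Quotient.mk J a := fun a => rfl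
  have hqI : ∀ a : A, qI (Ideal.Quotient.mk I a) = Ideal.Quotient.mk (I ⊔ J) a := fun a => rfl
  have hqJ : ∀ a : A, qJ (Ideal.Quotient.mk J a) = Ideal.Quotient.mk (I ⊔ J) a := fun a => rfl
  have hf : Function.Surjective f := by
    intro y
    obtain ⟨a, rfl⟩ := Ideal.Quotient.mk_surjective y
    refine ⟨(Ideal.Quotient.mk I a, 0), ?_⟩
    simp [f, hqI]
  have hg : Function.Injective g := by
    rw [← LinearMap.ker_eq_bot, LinearMap.ker_eq_bot']
    intro a ha
    have h1 : a ∈ I := by
      have := congrArg Prod.fst ha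
      simpa [g, hgI, Ideal.Quotient.eq_zero_iff_mem] using this
    have h2 : a ∈ J := by
      have := congrArg Prod.snd ha
      simpa [g, hgJ, Ideal.Quotient.eq_zero_iff_mem] using this
    have : a ∈ I ⊓ J := ⟨h1, h2⟩
    rw [hIJ] at this
    simpa using this
  have hex : Function.Exact g f := by
    intro y
    constructor
    · intro hy
      obtain ⟨y1, y2⟩ := y
      obtain ⟨x1, rfl⟩ := Ideal.Quotient.mk_surjective y1
      obtain ⟨x2, rfl⟩ := Ideal.Quotient.mk_surjective y2
      have h0 : Ideal.Quotient.mk (I ⊔ J) (x1 - x2) = 0 := by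
        have : f (Ideal.Quotient.mk I x1, Ideal.Quotient.mk J x2) = 0 := hy
        simp only [f, LinearMap.coprod_apply, LinearMap.neg_apply, hqI, hqJ] at this
        rw [map_sub, sub_eq_add_neg]; exact this
      rw [Ideal.Quotient.eq_zero_iff_mem] at h0
      obtain ⟨i, hi, j, hj, hij⟩ := Submodule.mem_sup.1 h0
      refine ⟨x1 - i, ?_⟩
      apply Prod.ext
      · show gI (x1 - i) = _
        rw [hgI, map_sub, Ideal.Quotient.eq_zero_iff_mem.2 hi, sub_zero]
      · show gJ (x1 - i) = _
        have : x1 - i = x2 + j := by linear_combination hij.symm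
        rw [hgJ, this, map_add, Ideal.Quotient.eq_zero_iff_mem.2 hj, add_zero]
    · rintro ⟨a, rfl⟩
      simp [f, g, hgI, hgJ, hqI, hqJ]
  have hinj := LinearMap.lTensor_injective_of_exact_of_flat f hf g hg hex R'
  -- the two base-changed quotient maps as ring homomorphisms
  let ρI : R' ⊗[R] A →ₐ[R] R' ⊗[R] (A ⧸ I) :=
    Algebra.TensorProduct.map (AlgHom.id R R') (Ideal.Quotient.mkₐ R I)
  let ρJ : R' ⊗[R] A →ₐ[R] R' ⊗[R] (A ⧸ J) :=
    Algebra.TensorProduct.map (AlgHom.id R R') (Ideal.Quotient.mkₐ R J)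
  have hρI : I.map (Algebra.TensorProduct.includeRight : A →ₐ[R] R' ⊗[R] A) ≤ RingHom.ker ρI := by
    rw [Ideal.map_le_iff_le_comap]
    intro i hi
    simp only [Ideal.mem_comap, RingHom.mem_ker]
    simp [ρI, Ideal.Quotient.eq_zero_iff_mem.2 hi]
  have hρJ : J.map (Algebra.TensorProduct.includeRight : A →ₐ[R] R' ⊗[R] A) ≤ RingHom.ker ρJ := by
    rw [Ideal.map_le_iff_le_comap]
    intro j hj
    simp only [Ideal.mem_comap, RingHom.mem_ker]
    simp [ρJ, Ideal.Quotient.eq_zero_iff_mem.2 hj]
  have hcomp : ∀ z : R' ⊗[R] A,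
      TensorProduct.prodRight R R R' (A ⧸ I) (A ⧸ J) (g.lTensor R' z) = (ρI z, ρJ z) := by
    intro z
    induction z using TensorProduct.induction_on with
    | zero => simp only [map_zero]; rfl
    | tmul r a => simp [g, ρI, ρJ, hgI, hgJ]
    | add x y hx hy => simp only [map_add, hx, hy, Prod.mk_add_mk]
  rw [eq_bot_iff]
  intro z hz
  have hzI : ρI z = 0 := hρI hz.1
  have hzJ : ρJ z = 0 := hρJ hz.2
  have h0 : g.lTensor R' z = 0 := by
    apply (TensorProduct.prodRight R R R' (A ⧸ I) (A ⧸ J)).injective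
    rw [hcomp, hzI, hzJ, map_zero]; rfl
  have : z = 0 := hinj (by rw [h0, map_zero])
  simpa using this

end Groth.Agent.S14046
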