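import Groth.Statements.S14048
import Mathlib.RingTheory.Flat.TorsionFree
import Mathlib.RingTheory.DedekindDomain.PID
import Mathlib.Data.Rat.Lemmas
import Mathlib.RingTheory.Finiteness.Basic
import Mathlib.Data.Nat.Prime.Infinite
import Mathlib.Algebra.Polynomial.Div
import Mathlib.RingTheory.Localization.Away.Basic
import Mathlib.Tactic
-- import your own Groth.Agent.* helpers here

set_option autoImplicit false
universe u
open TensorProduct
open CAlg

namespace Groth.Agent.S14048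

open Polynomial

/-- rationals whose denominator is prime to `p`. -/
def Sp (p : ℕ) (hp : p.Prime) : Subring ℚ where
  carrier := {q | ¬ p ∣ q.den}
  zero_mem' := by simpa using hp.one_lt.ne'
  one_mem' := by simpa using hp.one_lt.ne'
  add_mem' := by
    intro a b ha hb h
    rcases (Nat.Prime.dvd_mul hp).1 (h.trans (Rat.add_den_dvd a b)) with h | h
    · exact ha h
    · exact hb h
  mul_mem' := by
    intro a b ha hb h
    rcases (Nat.Prime.dvd_mul hp).1 (h.trans (Rat.mul_den_dvd a b)) with h | h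
    · exact ha h
    · exact hb h
  neg_mem' := by
    intro a ha
    simpa using ha

theorem mem_Sp {p : ℕ} {hp : p.Prime} {q : ℚ} : q ∈ Sp p hp ↔ ¬ p ∣ q.den := Iff.rfl

/-- every element of `ℚ ⊗ A` becomes a pure tensor `1 ⊗ g` after multiplying by a positive integer -/
theorem exists_smul_eq_one_tmul (A : Type u) [CommRing A] (z : ℚ ⊗[ℤ] A) :
    ∃ n : ℕ, 0 < n ∧ ∃ g : A, n • z = (1 : ℚ) ⊗ₜ[ℤ] g := by
  induction z using TensorProduct.induction_on with
  | zero => exact ⟨1, one_pos, 0, by simp⟩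
  | tmul q a =>
    refine ⟨q.den, q.den_pos, q.num • a, ?_⟩
    rw [TensorProduct.smul_tmul', ← TensorProduct.smul_tmul]
    congr 1
    rw [nsmul_eq_mul, mul_comm, Rat.mul_den_eq_num]
    simp
  | add x y hx hy =>
    obtain ⟨n, hn, g, hg⟩ := hx
    obtain ⟨m, hm, g', hg'⟩ := hy
    refine ⟨n * m, Nat.mul_pos hn hm, m • g + n • g', ?_⟩
    rw [smul_add, mul_comm n m, mul_smul, hg, mul_comm m n, mul_smul, hg', TensorProduct.tmul_add,
      TensorProduct.tmul_smul, TensorProduct.tmul_smul]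


section main

set_option linter.unusedSectionVars false
set_option linter.style.haveILetI false

variable (A : Type u) [CommRing A] [IsDomain A] (h2 : IsUnit (2 : A)) (t : A)
    (h1 : Function.Bijective (Polynomial.aeval (R := ℚ) ((1 : ℚ) ⊗ₜ[ℤ] t : ℚ ⊗[ℤ] A)))
    (s : A →+* Localization.Away (2 : ℤ)) (hs : s t = 1)

/-- the canonical map `ℤ[1/2] → ℚ` -/
noncomputable def jmap : Localization.Away (2 : ℤ) →+* ℚ :=
  IsLocalization.Away.lift (2 : ℤ) (g := Int.castRingHom ℚ) (by simp)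

/-- the canonical map `ℤ[1/2] → A` -/
noncomputable def lmap {A : Type u} [CommRing A] (h2 : IsUnit (2 : A)) :
    Localization.Away (2 : ℤ) →+* A :=
  IsLocalization.Away.lift (2 : ℤ) (g := Int.castRingHom A) (by simpa using h2)

theorem ringHom_away_ext {B : Type*} [CommRing B] (f g : Localization.Away (2 : ℤ) →+* B) : f = g := by
  apply IsLocalization.ringHom_ext (Submonoid.powers (2 : ℤ))
  exact RingHom.ext_int _ _

theorem jmap_mem_Sp {p : ℕ} (hp : p.Prime) (hp2 : 2 < p) (z : Localization.Away (2 : ℤ)) :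
    jmap z ∈ Sp p hp := by
  obtain ⟨n, a, h⟩ := IsLocalization.Away.surj (2 : ℤ) z
  have h' := congrArg jmap h
  simp only [map_mul, map_pow] at h'
  have e1 : jmap (algebraMap ℤ (Localization.Away (2 : ℤ)) 2) = 2 := by
    rw [← RingHom.comp_apply, RingHom.ext_int (jmap.comp (algebraMap ℤ _)) (Int.castRingHom ℚ)]; simp
  have e2 : jmap (algebraMap ℤ (Localization.Away (2 : ℤ)) a) = a := by
    rw [← RingHom.comp_apply, RingHom.ext_int (jmap.comp (algebraMap ℤ _)) (Int.castRingHom ℚ)]; simp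
  rw [e1, e2] at h'
  have : jmap z = (a : ℚ) * ((2 : ℕ) : ℚ)⁻¹ ^ n := by
    rw [← h', mul_assoc, ← mul_pow]; norm_num
  rw [this]
  refine Subring.mul_mem _ (intCast_mem _ a) (Subring.pow_mem _ ?_ n)
  rw [mem_Sp, Rat.inv_natCast_den_of_pos (by norm_num)]
  exact Nat.not_dvd_of_pos_of_lt (by norm_num) hp2

/-- the embedding `A → ℚ[X]` -/
noncomputable def phi : A →+* ℚ[X] :=
  ((AlgEquiv.ofBijective _ h1).symm : ℚ ⊗[ℤ] A →+* ℚ[X]).comp
    (Algebra.TensorProduct.includeRight : A →ₐ[ℤ] ℚ ⊗[ℤ] A).toRingHom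

theorem phi_apply (a : A) :
    phi A t h1 a = (AlgEquiv.ofBijective _ h1).symm ((1 : ℚ) ⊗ₜ[ℤ] a) := rfl

theorem psi_phi (a : A) :
    Polynomial.aeval (R := ℚ) ((1 : ℚ) ⊗ₜ[ℤ] t : ℚ ⊗[ℤ] A) (phi A t h1 a) = (1 : ℚ) ⊗ₜ[ℤ] a := by
  rw [phi_apply]
  exact (AlgEquiv.ofBijective _ h1).apply_symm_apply _

theorem phi_t : phi A t h1 t = X := by
  rw [phi_apply, AlgEquiv.symm_apply_eq]
  simp

include s in
theorem charZero_of_s : CharZero A := by
  refine ⟨fun m n h => ?_⟩
  have h' := congrArg (fun x => jmap (s x)) h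
  simpa using h'

include s in
theorem includeRight_inj :
    Function.Injective (fun a : A => ((1 : ℚ) ⊗ₜ[ℤ] a : ℚ ⊗[ℤ] A)) := by
  haveI := charZero_of_s A s
  have := Algebra.TensorProduct.includeRight_injective (R := ℤ) (A := ℚ) (B := A)
    (by exact Int.cast_injective)
  exact this

include s in
theorem phi_injective : Function.Injective (phi A t h1) := by
  intro a b h
  apply includeRight_inj A s
  simp only
  rw [← psi_phi A t h1 a, ← psi_phi A t h1 b, h]

include hs in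
theorem eval_phi (a : A) : (phi A t h1 a).eval 1 = jmap (s a) := by
  let σ : ℚ ⊗[ℤ] A →ₐ[ℚ] ℚ :=
    Algebra.TensorProduct.lift (Algebra.ofId ℚ ℚ) ((jmap.comp s).toIntAlgHom)
      (fun _ _ => Commute.all _ _)
  have hσ : ∀ b : A, σ ((1 : ℚ) ⊗ₜ[ℤ] b) = jmap (s b) := by
    intro b; simp [σ]
  have key : σ.comp (Polynomial.aeval (R := ℚ) ((1 : ℚ) ⊗ₜ[ℤ] t : ℚ ⊗[ℤ] A)) =
      Polynomial.aeval (R := ℚ) (1 : ℚ) := by
    apply Polynomial.algHom_ext
    simp [hσ, hs]
  have := congrArg (fun f => f (phi A t h1 a)) key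
  simp only [AlgHom.comp_apply, psi_phi, hσ] at this
  rw [this]
  simp [Polynomial.aeval_def, Polynomial.eval₂_eq_eval_map]

theorem s_lmap (z : Localization.Away (2 : ℤ)) : s (lmap h2 z) = z := by
  have := ringHom_away_ext (s.comp (lmap h2)) (RingHom.id _)
  exact congrArg (fun f => f z) this

theorem phi_lmap (z : Localization.Away (2 : ℤ)) : phi A t h1 (lmap h2 z) = C (jmap z) := by
  have := ringHom_away_ext ((phi A t h1).comp (lmap h2)) (C.comp jmap)
  exact congrArg (fun f => f z) this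

include hs h1 in
theorem exists_mul_of_s_eq_zero (a : A) (ha : s a = 0) :
    ∃ n : ℕ, 0 < n ∧ ∃ g : A, n • a = (t - 1) * g := by
  have h0 : (phi A t h1 a).IsRoot 1 := by
    rw [Polynomial.IsRoot, eval_phi A t h1 s hs a, ha, map_zero]
  rw [← Polynomial.dvd_iff_isRoot] at h0
  obtain ⟨q, hq⟩ := h0
  obtain ⟨n, hn, g, hg⟩ := exists_smul_eq_one_tmul A
    (Polynomial.aeval (R := ℚ) ((1 : ℚ) ⊗ₜ[ℤ] t : ℚ ⊗[ℤ] A) q)
  refine ⟨n, hn, g, ?_⟩
  apply includeRight_inj A s
  simp only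
  rw [TensorProduct.tmul_smul, ← psi_phi A t h1 a, hq, map_mul, ← mul_smul_comm, hg]
  simp only [map_sub, aeval_X, map_one, Algebra.TensorProduct.one_def]
  rw [← TensorProduct.tmul_sub, Algebra.TensorProduct.tmul_mul_tmul, one_mul]

include hs h1 in
theorem exists_N [IsNoetherianRing A] :
    ∃ N : ℕ, 0 < N ∧ ∀ a : A, s a = 0 → ∃ g : A, N • a = (t - 1) * g := by
  have hfg : (RingHom.ker s).FG := IsNoetherian.noetherian _
  have key : ∀ (I : Ideal A) (_ : I.FG), I ≤ RingHom.ker s →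
      ∃ N : ℕ, 0 < N ∧ ∀ a ∈ I, ∃ g : A, N • a = (t - 1) * g := by
    intro I hI
    induction I, hI using Submodule.fg_induction with
    | singleton x =>
      intro hx
      have hx' : s x = 0 := hx (Submodule.mem_span_singleton_self x)
      obtain ⟨n, hn, g, hg⟩ := exists_mul_of_s_eq_zero A t h1 s hs x hx'
      refine ⟨n, hn, fun a ha => ?_⟩
      obtain ⟨c, rfl⟩ := Submodule.mem_span_singleton.1 ha
      refine ⟨c * g, ?_⟩
      rw [smul_eq_mul, ← mul_smul_comm, hg]; ring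
    | sup I₁ I₂ h₁ h₂ ih₁ ih₂ =>
      intro hle
      obtain ⟨N₁, hN₁, H₁⟩ := ih₁ (le_sup_left.trans hle)
      obtain ⟨N₂, hN₂, H₂⟩ := ih₂ (le_sup_right.trans hle)
      refine ⟨N₁ * N₂, Nat.mul_pos hN₁ hN₂, fun a ha => ?_⟩
      obtain ⟨a₁, ha₁, a₂, ha₂, rfl⟩ := Submodule.mem_sup.1 ha
      obtain ⟨g₁, hg₁⟩ := H₁ a₁ ha₁
      obtain ⟨g₂, hg₂⟩ := H₂ a₂ ha₂
      refine ⟨N₂ • g₁ + N₁ • g₂, ?_⟩
      rw [smul_add, mul_comm N₁ N₂, mul_smul, hg₁, mul_comm N₂ N₁, mul_smul, hg₂]
      simp only [nsmul_eq_mul]; ring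
  obtain ⟨N, hN, H⟩ := key _ hfg le_rfl
  exact ⟨N, hN, fun a ha => H a ha⟩

/-- polynomials with coefficients in `Sp p` -/
noncomputable def Tp (p : ℕ) (hp : p.Prime) : Subring ℚ[X] :=
  (Polynomial.mapRingHom (Sp p hp).subtype).range

theorem C_mem_Tp {p : ℕ} {hp : p.Prime} {q : ℚ} (hq : q ∈ Sp p hp) : C q ∈ Tp p hp :=
  ⟨C ⟨q, hq⟩, by simp⟩

theorem X_mem_Tp {p : ℕ} {hp : p.Prime} : (X : ℚ[X]) ∈ Tp p hp := ⟨X, by simp⟩

theorem coeff_mem_of_mem_Tp {p : ℕ} {hp : p.Prime} {P : ℚ[X]} (h : P ∈ Tp p hp) (i : ℕ) :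
    P.coeff i ∈ Sp p hp := by
  obtain ⟨Q, rfl⟩ := h
  simp [Polynomial.coeff_map]

include hs h2 in
theorem phi_mem_Tp (N : ℕ) (hN : 0 < N) (HN : ∀ a : A, s a = 0 → ∃ g : A, N • a = (t - 1) * g)
    (p : ℕ) (hp : p.Prime) (hpN : 2 * N < p) :
    ∀ (d : ℕ) (f : A), (phi A t h1 f).natDegree ≤ d → phi A t h1 f ∈ Tp p hp := by
  intro d
  induction d with
  | zero =>
    intro f hf
    have hC := Polynomial.eq_C_of_natDegree_le_zero hf
    have : (phi A t h1 f).coeff 0 = (phi A t h1 f).eval 1 := by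
      conv_rhs => rw [hC]
      simp
    rw [hC, this, eval_phi A t h1 s hs]
    exact C_mem_Tp (jmap_mem_Sp hp (by omega) _)
  | succ d ih =>
    intro f hf
    have hsc : s (f - lmap h2 (s f)) = 0 := by rw [map_sub, s_lmap, sub_self]
    obtain ⟨g, hg⟩ := HN _ hsc
    have hg' := congrArg (phi A t h1) hg
    rw [map_nsmul, map_sub, map_mul, map_sub, map_one, phi_t, phi_lmap] at hg'
    have hNQ : (N : ℚ) ≠ 0 := by exact_mod_cast hN.ne'
    have hdeg : (phi A t h1 g).natDegree ≤ d := by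
      by_cases h0 : phi A t h1 g = 0
      · simp [h0]
      have h1' : ((X - 1 : ℚ[X]) * phi A t h1 g).natDegree = 1 + (phi A t h1 g).natDegree := by
        have hX : (X - 1 : ℚ[X]) ≠ 0 := by
          have := X_sub_C_ne_zero (1 : ℚ)
          simpa using this
        rw [Polynomial.natDegree_mul hX h0]
        congr 1
        have := natDegree_X_sub_C (1 : ℚ)
        simpa using this
      have h2' : (N • (phi A t h1 f - C (jmap (s f)))).natDegree ≤ d + 1 := by
        rw [nsmul_eq_mul]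
        refine (Polynomial.natDegree_mul_le).trans ?_
        have e1 : ((N : ℕ) : ℚ[X]).natDegree = 0 := Polynomial.natDegree_natCast N
        have e2 : (phi A t h1 f - C (jmap (s f))).natDegree ≤ d + 1 :=
          (Polynomial.natDegree_sub_le _ _).trans (max_le hf (by simp))
        omega
      rw [hg', h1'] at h2'
      omega
    have hgT := ih g hdeg
    have : phi A t h1 f = C (jmap (s f)) + C ((N : ℚ)⁻¹) * ((X - 1) * phi A t h1 g) := by
      rw [← hg', nsmul_eq_mul, ← mul_assoc]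
      have : C ((N : ℚ)⁻¹) * ((N : ℕ) : ℚ[X]) = 1 := by
        rw [← Polynomial.C_eq_natCast, ← C_mul, inv_mul_cancel₀ hNQ, C_1]
      rw [this]; ring
    rw [this]
    refine Subring.add_mem _ (C_mem_Tp (jmap_mem_Sp hp (by omega) _))
      (Subring.mul_mem _ (C_mem_Tp ?_)
        (Subring.mul_mem _ (Subring.sub_mem _ X_mem_Tp (Subring.one_mem _)) hgT))
    rw [mem_Sp, Rat.inv_natCast_den_of_pos hN]
    exact Nat.not_dvd_of_pos_of_lt hN (by omega)

end main

/-- Let A be an integral domain in which 2 is invertible and let t be an element of A, so that Spec A is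
a scheme over the affine line Spec ℤ[1/2][t]. Assume that (1) the ℚ-algebra map ℚ[X] → ℚ ⊗_ℤ A
sending X to 1 ⊗ t is bijective (the map Spec A → Spec ℤ[1/2][t] becomes an isomorphism after base
change to ℚ); (2) every prime number is invertible in A/(t) (the fibre over t = 0 is of pure
characteristic zero); and (3) there is a ring homomorphism s : A → ℤ[1/2] with s(t) = 1 (the fibre
over t = 1 admits a section). Then A is not Noetherian. -/
theorem result (A : Type u) [CommRing A]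
    [IsDomain A] (h2 : IsUnit (2 : A)) (t : A)
    (h1 : Function.Bijective (Polynomial.aeval (R := ℚ) ((1 : ℚ) ⊗ₜ[ℤ] t : ℚ ⊗[ℤ] A)))
    (h0 : ∀ p : ℕ, p.Prime → IsUnit ((p : ℕ) : A ⧸ Ideal.span ({t} : Set A)))
    (s : A →+* Localization.Away (2 : ℤ)) (hs : s t = 1) :
    ¬ IsNoetherianRing A := by
  intro hNoeth
  obtain ⟨N, hN, HN⟩ := exists_N A t h1 s hs
  obtain ⟨p, hpN, hp⟩ := Nat.exists_infinite_primes (2 * N + 1)
  have hU := h0 p hp
  obtain ⟨a', ha'⟩ := hU.exists_right_inv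
  obtain ⟨a, rfl⟩ := Ideal.Quotient.mk_surjective a'
  have hmem : (p : A) * a - 1 ∈ Ideal.span ({t} : Set A) := by
    rw [← Ideal.Quotient.eq_zero_iff_mem, map_sub, map_mul, map_natCast, map_one, ha', sub_self]
  obtain ⟨b, hb⟩ := Ideal.mem_span_singleton'.1 hmem
  have hφ := congrArg (phi A t h1) hb
  rw [map_mul, phi_t, map_sub, map_mul, map_natCast, map_one] at hφ
  have hc := congrArg (fun P : Polynomial ℚ => P.coeff 0) hφ
  simp only [Polynomial.coeff_mul_X_zero, Polynomial.coeff_sub, Polynomial.coeff_one_zero,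
    Polynomial.coeff_natCast_mul] at hc
  have hmemS := coeff_mem_of_mem_Tp
    (phi_mem_Tp A h2 t h1 s hs N hN HN p hp (by omega) _ a le_rfl) 0
  have hpQ : (p : ℚ) ≠ 0 := by exact_mod_cast hp.ne_zero
  have hval : (phi A t h1 a).coeff 0 = ((p : ℕ) : ℚ)⁻¹ := by
    field_simp
    linarith
  rw [hval, mem_Sp, Rat.inv_natCast_den_of_pos hp.pos] at hmemS
  exact hmemS dvd_rfl


end Groth.Agent.S14048
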