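import Groth.Statements.S14049
import Groth.Agent.Lib.Helper20.ThickAffine2
import Groth.Agent.Lib.Helper20.NilSurj
-- import your own Groth.Agent.* helpers here

set_option autoImplicit false
universe u
open CategoryTheory AlgebraicGeometry
open LocStr

namespace Groth.Agent.S14049

/-- For schemes. Let f : X → Y be a morphism of schemes and let I be a quasi-coherent sheaf of ideals on
X which is nilpotent (some power of I is zero). Let X₁ ⊆ X be the closed subscheme defined by I².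
Then f is a closed immersion as soon as the composite X₁ → X → Y is one. (The published statement is
the same assertion for a morphism of algebraic stacks; it is stated here for schemes.) -/
theorem result (X Y : Scheme.{u}) (f : X ⟶ Y)
    (I : X.IdealSheafData) (hI : IsNilpotent I)
    (h : IsClosedImmersion ((I ^ 2).subschemeι ≫ f)) :
    IsClosedImmersion f := by
  obtain ⟨n, hn⟩ := hI
  have hn : I ^ n = ⊥ := hn
  set t := (I ^ 2).subschemeι with ht
  -- `I ^ (n + 1) = ⊥`
  have hn1 : I ^ (n + 1) = ⊥ := by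
    have h1 : I ^ (n + 1) ≤ I ^ n := pow_le_pow_of_le_one bot_le le_top (Nat.le_succ n)
    rw [hn] at h1
    exact le_bot_iff.1 h1
  -- `t` is surjective
  have hsupp : I.support = ⊤ := by
    rw [← Scheme.IdealSheafData.support_pow I (n + 1) (Nat.succ_ne_zero n), hn1,
      Scheme.IdealSheafData.support_bot]
  have htsurj : Function.Surjective t := by
    rw [← Set.range_eq_univ, ht, Scheme.IdealSheafData.range_subschemeι,
      Scheme.IdealSheafData.support_pow I 2 (by norm_num), hsupp]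
    rfl
  -- kernel of `t` is nilpotent
  have hker : ∀ U : X.affineOpens, t.ker.ideal U ^ (n + 1) = ⊥ := by
    intro U
    rw [ht, Scheme.IdealSheafData.ker_subschemeι]
    have h1 : (I ^ 2).ideal U ^ (n + 1) = ((I ^ (n + 1)) ^ 2).ideal U := by
      show (I.ideal U ^ 2) ^ (n + 1) = (I.ideal U ^ (n + 1)) ^ 2
      rw [← pow_mul, ← pow_mul, mul_comm]
    rw [h1, hn1]
    show (⊥ : Ideal _) ^ 2 = ⊥
    rw [pow_two, Ideal.bot_mul]
  rw [isClosedImmersion_iff_isAffineHom] at h ⊢
  obtain ⟨haff, hs⟩ := h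
  have haffF : IsAffineHom f := by
    constructor
    intro V hV
    refine Groth.Agent.Lib.Helper20.ThickAffine.isAffineOpen_of_preimage t htsurj (n + 1) hker
      (f ⁻¹ᵁ V) ?_
    rw [← Scheme.Hom.comp_preimage]
    exact hV.preimage (t ≫ f)
  refine ⟨haffF, fun V hV => ?_⟩
  have hU : IsAffineOpen (f ⁻¹ᵁ V) := hV.preimage f
  have hcomp : ∀ b, (t.app (f ⁻¹ᵁ V)).hom ((f.app V).hom b) = ((t ≫ f).app V).hom b := by
    intro b
    rw [Scheme.Hom.comp_app]
    rfl
  refine Groth.Agent.Lib.Helper20.NilSurj.surjective_of_surjective_mod_sq (f.app V).hom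
    (I.ideal ⟨f ⁻¹ᵁ V, hU⟩) ⟨n + 1, ?_⟩ ?_
  · have h1 : I.ideal ⟨f ⁻¹ᵁ V, hU⟩ ^ (n + 1) = (I ^ (n + 1)).ideal ⟨f ⁻¹ᵁ V, hU⟩ := rfl
    rw [h1, hn1]; rfl
  · intro a
    obtain ⟨b, hb⟩ := hs V hV ((t.app (f ⁻¹ᵁ V)).hom a)
    refine ⟨b, ?_⟩
    have h2 : (I.ideal ⟨f ⁻¹ᵁ V, hU⟩) ^ 2 = RingHom.ker (t.app (f ⁻¹ᵁ V)).hom := by
      rw [ht, Scheme.IdealSheafData.ker_subschemeι_app (I ^ 2) ⟨f ⁻¹ᵁ V, hU⟩]
      rfl
    rw [h2, RingHom.mem_ker, map_sub, hcomp]
    have hb' : ((t ≫ f).app V).hom b = (t.app (f ⁻¹ᵁ V)).hom a := hb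
    rw [hb', sub_self]

end Groth.Agent.S14049
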