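import Groth.Statements.S1405
import Mathlib
import Groth.Agent.Lib.Helper21.FlatDescentNoeth
-- import your own Groth.Agent.* helpers here

set_option autoImplicit false
universe u
open FlatMor

namespace Groth.Agent.S1405
open CategoryTheory CategoryTheory.Limits AlgebraicGeometry TopologicalSpace Opposite TensorProduct

open CategoryTheory CategoryTheory.Limits AlgebraicGeometry TopologicalSpace Opposite TensorProduct

/-- base change of a locally Noetherian scheme along `Spec` of an essentially finite type ring map -/
theorem isLocallyNoetherian_of_isPullback_essFiniteType {F F' : Scheme.{u}} {K K' : CommRingCat.{u}}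
    (φ : K ⟶ K') (hφ : φ.hom.EssFiniteType)
    {e : F' ⟶ F} {p' : F' ⟶ Spec K'} {p : F ⟶ Spec K} (hpb : IsPullback e p' p (Spec.map φ))
    [IsLocallyNoetherian F] : IsLocallyNoetherian F' := by
  suffices h : IsLocallyNoetherian (pullback p (Spec.map φ)) from
    isLocallyNoetherian_of_isOpenImmersion hpb.isoPullback.hom
  let 𝒱 := F.affineOpenCover
  rw [isLocallyNoetherian_iff_openCover (Scheme.Pullback.openCoverOfLeft 𝒱.openCover p (Spec.map φ))]
  intro i
  show IsLocallyNoetherian (pullback (𝒱.f i ≫ p) (Spec.map φ))
  obtain ⟨ψ, hψ⟩ : ∃ ψ : K ⟶ 𝒱.X i, Spec.map ψ = 𝒱.f i ≫ p :=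
    ⟨Spec.preimage _, Spec.map_preimage _⟩
  rw [← hψ]
  have h1 : IsLocallyNoetherian (Spec (𝒱.X i)) :=
    inferInstanceAs (IsLocallyNoetherian (𝒱.openCover.X i))
  have hA : IsNoetherianRing (𝒱.X i) := isLocallyNoetherian_Spec.mp h1
  algebraize [ψ.hom, φ.hom]
  have : IsNoetherianRing ((𝒱.X i) ⊗[K] K') := Algebra.EssFiniteType.isNoetherianRing (𝒱.X i) _
  have h2 : IsLocallyNoetherian (Spec (.of ((𝒱.X i) ⊗[K] K'))) := inferInstance
  exact isLocallyNoetherian_of_isOpenImmersion (pullbackSpecIso K (𝒱.X i) K').hom



open AlgebraicGeometry CategoryTheory Limits in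
/-- Let Y' → Y be flat, locally of finite presentation and surjective and f' the base change of f : X →
Y. Then all fibres of f are locally Noetherian if and only if all fibres of f' are. -/
theorem result {X Y X' Y' : Scheme.{u}} (f : X ⟶ Y) (f' : X' ⟶ Y') (g' : X' ⟶ X) (g : Y' ⟶ Y) [Flat g] [LocallyOfFinitePresentation g] [Surjective g]
    (hc : IsPullback g' f' f g) :
    (∀ y : Y, IsLocallyNoetherian (f.fiber y)) ↔ ∀ y' : Y', IsLocallyNoetherian (f'.fiber y') := by
  have key : ∀ y' : Y', IsLocallyNoetherian (f.fiber (g y')) ↔ IsLocallyNoetherian (f'.fiber y') := by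
    intro y'
    obtain ⟨e, hpb⟩ : ∃ e : f'.fiber y' ⟶ f.fiber (g y'), IsPullback e
        (f'.fiberToSpecResidueField y') (f.fiberToSpecResidueField (g y'))
        (Spec.map (g.residueFieldMap y')) :=
      ⟨_, isPullback_fiberToSpecResidueField_of_isPullback hc y'⟩
    have hess : (g.residueFieldMap y').hom.EssFiniteType :=
      RingHom.EssFiniteType.residueFieldMap (LocallyOfFiniteType.stalkMap g y')
    constructor
    · intro h
      exact isLocallyNoetherian_of_isPullback_essFiniteType (g.residueFieldMap y') hess hpb
    · intro h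
      have hfl : Flat (Spec.map (g.residueFieldMap y')) := by
        rw [HasRingHomProperty.Spec_iff (P := @Flat)]
        algebraize [(g.residueFieldMap y').hom]
        show Module.Flat _ _
        infer_instance
      have hsurj : Surjective (Spec.map (g.residueFieldMap y')) :=
        ⟨fun x => ⟨IsLocalRing.closedPoint _, Subsingleton.elim (α := PrimeSpectrum _) _ _⟩⟩
      have h1 := MorphismProperty.of_isPullback (P := @Flat) hpb.flip hfl
      have h2 := MorphismProperty.of_isPullback (P := @Surjective) hpb.flip hsurj
      have h3 := MorphismProperty.of_isPullback (P := @QuasiCompact) hpb.flip inferInstance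
      exact Groth.Agent.Lib.Helper21.isLocallyNoetherian_of_flat_surjective_quasiCompact e
  constructor
  · intro h y'
    exact (key y').mp (h (g y'))
  · intro h y
    obtain ⟨y', rfl⟩ := g.surjective y
    exact (key y').mpr (h y')

end Groth.Agent.S1405
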