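import Groth.Statements.S14051
import Mathlib.Algebra.DirectSum.Decomposition
import Mathlib.Tactic
-- import your own Groth.Agent.* helpers here

set_option autoImplicit false
universe u
open CAlg

namespace Groth.Agent.S14051

section aux

variable {R : Type u} [CommRing R] {A : Type u} [CommRing A] [Algebra R A]
    (𝒜 : ℕ → Submodule R A) [GradedAlgebra 𝒜]

theorem grade_add (hA : ∀ n : ℕ, 𝒜 (n + 1) = 𝒜 1 * 𝒜 n) (a b : ℕ) :
    𝒜 (a + b) = 𝒜 a * 𝒜 b := by
  induction a with
  | zero =>
    rw [zero_add]
    apply le_antisymm
    · intro x hx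
      have : x = 1 * x := (one_mul x).symm
      rw [this]
      exact Submodule.mul_mem_mul (SetLike.GradedOne.one_mem) hx
    · rw [Submodule.mul_le]
      intro x hx y hy
      have := SetLike.GradedMul.mul_mem hx hy
      rwa [zero_add] at this
  | succ a ih =>
    rw [show a + 1 + b = (a + b) + 1 by ring, hA, ih, hA a, mul_assoc]

variable {M : Type u} [AddCommGroup M] [Module R M]
    (ℳ : ℕ → Submodule R M) [DirectSum.Decomposition ℳ]

/-- projection to the degree `m` part, as an `R`-linear map -/
noncomputable def proj (m : ℕ) : M →ₗ[R] M :=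
  (ℳ m).subtype ∘ₗ DirectSum.component R ℕ (fun i => ℳ i) m ∘ₗ
    (DirectSum.decomposeLinearEquiv ℳ).toLinearMap

theorem proj_of_mem {m : ℕ} {x : M} (hx : x ∈ ℳ m) : proj ℳ m x = x :=
  DirectSum.decompose_of_mem_same ℳ hx

theorem proj_of_mem_ne {m m' : ℕ} {x : M} (hx : x ∈ ℳ m') (h : m' ≠ m) : proj ℳ m x = 0 :=
  DirectSum.decompose_of_mem_ne ℳ hx h

end aux

/-- Let A be a commutative ℕ-graded algebra over a base ring R which is generated by A_1 as an
A_0-algebra, written as A_{n+1} = A_1 · A_n for every n, and let M be a graded A-module: an A-module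
with R-submodules M_n giving a direct-sum decomposition and A_i · M_j ⊆ M_{i+j}. If M is spanned
over A by a set of homogeneous elements all of degree at most n₀, then for every n ≥ n₀ and every k
≥ 0 the degree-(n+k) part of M is A_k · M_n. -/
theorem result
    (R : Type u) [CommRing R] (A : Type u) [CommRing A] [Algebra R A]
    (𝒜 : ℕ → Submodule R A) [GradedAlgebra 𝒜]
    (hA : ∀ n : ℕ, 𝒜 (n + 1) = 𝒜 1 * 𝒜 n)
    (M : Type u) [AddCommGroup M] [Module R M] [Module A M] [IsScalarTower R A M]
    (ℳ : ℕ → Submodule R M) [DirectSum.Decomposition ℳ] [SetLike.GradedSMul 𝒜 ℳ]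
    (s : Set M) (n₀ : ℕ) (hs : ∀ y ∈ s, ∃ d : ℕ, d ≤ n₀ ∧ y ∈ ℳ d)
    (hspan : Submodule.span A s = ⊤)
    (n k : ℕ) (hn : n₀ ≤ n) :
    ℳ (n + k) = 𝒜 k • ℳ n := by
  classical
  have hadd := grade_add 𝒜 hA
  apply le_antisymm
  · let W : Submodule R M := ⨆ t : Fin (n + 1) × ℕ, 𝒜 t.2 • ℳ t.1
    have hW1 : ∀ (a : A) (w : M), w ∈ W → a • w ∈ W := by
      intro a w hw
      refine Submodule.iSup_induction (p := fun t : Fin (n + 1) × ℕ => 𝒜 t.2 • ℳ t.1)
        (motive := fun w => a • w ∈ W) hw ?_ ?_ ?_
      · intro t x hx
        refine Submodule.smul_induction_on hx ?_ ?_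
        · intro b hb m hm
          rw [← mul_smul]
          induction a using DirectSum.Decomposition.inductionOn 𝒜 with
          | zero => simp
          | @homogeneous i a' =>
            exact Submodule.mem_iSup_of_mem (t.1, i + t.2)
              (Submodule.smul_mem_smul (SetLike.GradedMul.mul_mem a'.2 hb) hm)
          | add a a' ha ha' => rw [add_mul, add_smul]; exact W.add_mem ha ha'
        · intro x y hx hy
          rw [smul_add]; exact W.add_mem hx hy
      · simp
      · intro x y hx hy
        rw [smul_add]; exact W.add_mem hx hy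
    have hW2 : ∀ y ∈ s, y ∈ W := by
      intro y hy
      obtain ⟨d, hd, hyd⟩ := hs y hy
      have : y = (1 : A) • y := (one_smul A y).symm
      rw [this]
      exact Submodule.mem_iSup_of_mem ((⟨d, by omega⟩ : Fin (n + 1)), 0)
        (Submodule.smul_mem_smul SetLike.GradedOne.one_mem hyd)
    have hW3 : ∀ x : M, x ∈ W := by
      intro x
      have hx : x ∈ Submodule.span A s := by rw [hspan]; trivial
      induction hx using Submodule.span_induction with
      | mem y hy => exact hW2 y hy
      | zero => exact W.zero_mem
      | add x y _ _ hx hy => exact W.add_mem hx hy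
      | smul a x _ hx => exact hW1 a x hx
    have key : W ≤ (𝒜 k • ℳ n).comap (proj ℳ (n + k)) := by
      apply iSup_le
      rintro ⟨d, i⟩ z hz
      rw [Submodule.mem_comap]
      have hzdeg : z ∈ ℳ (i + d) := by
        refine Submodule.smul_le.2 ?_ hz
        intro a ha m hm
        exact SetLike.GradedSMul.smul_mem ha hm
      by_cases h : i + d = n + k
      · rw [proj_of_mem ℳ (h ▸ hzdeg)]
        have hdn : (d : ℕ) ≤ n := by have := d.2; omega
        have hi : i = k + (n - d) := by omega
        simp only at hz
        rw [hi, hadd] at hz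
        refine Submodule.smul_induction_on hz ?_ ?_
        · intro c hc m hm
          refine Submodule.mul_induction_on hc ?_ ?_
          · intro b hb b' hb'
            rw [mul_smul]
            refine Submodule.smul_mem_smul hb ?_
            have := SetLike.GradedSMul.smul_mem hb' hm
            have e : (n - (d : ℕ)) +ᵥ (d : ℕ) = n := by
              rw [vadd_eq_add]; omega
            rwa [e] at this
          · intro x y hx hy
            rw [add_smul]; exact add_mem hx hy
        · intro x y hx hy
          exact add_mem hx hy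
      · rw [proj_of_mem_ne ℳ hzdeg h]; exact zero_mem _
    intro x hx
    have hx' : x = proj ℳ (n + k) x := (proj_of_mem ℳ hx).symm
    rw [hx']
    exact key (hW3 x)
  · rw [Submodule.smul_le]
    intro a ha m hm
    have := SetLike.GradedSMul.smul_mem ha hm
    rwa [vadd_eq_add, add_comm] at this

end Groth.Agent.S14051
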