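import Groth.Statements.S14053
import Mathlib.Data.Finsupp.Weight
import Mathlib.Algebra.MvPolynomial.Eval
import Mathlib.Tactic

set_option autoImplicit false
universe u
open CAlg

namespace Groth.Agent.S14053

open MvPolynomial in
/-- the image of a monomial is homogeneous of the weighted degree -/
lemma aeval_monomial_mem {k R ι : Type*} [Field k] [CommRing R] [Algebra k R] [Fintype ι]
    (ℛ : ℕ → Submodule k R) [GradedAlgebra ℛ] (gen : ι → R) (w : ι → ℕ)
    (hgen : ∀ i, gen i ∈ ℛ (w i)) (s : ι →₀ ℕ) :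
    aeval gen (monomial s (1 : k)) ∈ ℛ (Finsupp.weight w s) := by
  rw [aeval_monomial, map_one, one_mul, Finsupp.weight_eq_sum, Finsupp.prod_fintype _ _ (fun i => pow_zero _)]
  exact SetLike.prod_pow_mem_graded ℛ _ _ (fun i => s i) (fun i _ => hgen i)

open MvPolynomial in
/-- every homogeneous element is a combination of monomials of that weight -/
lemma mem_span_monomials {k R ι : Type*} [Field k] [CommRing R] [Algebra k R] [Fintype ι]
    (ℛ : ℕ → Submodule k R) [GradedAlgebra ℛ] (gen : ι → R) (w : ι → ℕ)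
    (hgen : ∀ i, gen i ∈ ℛ (w i)) (hsurj : Function.Surjective (aeval gen : MvPolynomial ι k →ₐ[k] R))
    (n : ℕ) : ℛ n ≤ Submodule.span k
      {r | ∃ s : ι →₀ ℕ, Finsupp.weight w s = n ∧ r = aeval gen (monomial s (1 : k))} := by
  classical
  intro r hr
  obtain ⟨p, rfl⟩ := hsurj r
  have hp : p = ∑ s ∈ p.support, monomial s (coeff s p) := (support_sum_monomial_coeff p).symm
  have h1 : aeval gen p = ∑ s ∈ p.support, coeff s p • aeval gen (monomial s (1 : k)) := by
    conv_lhs => rw [hp]
    rw [map_sum]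
    apply Finset.sum_congr rfl
    intro s _
    rw [← map_smul, smul_monomial, smul_eq_mul, mul_one]
  have h2 : GradedAlgebra.proj ℛ n (aeval gen p) = aeval gen p := by
    rw [GradedAlgebra.proj_apply, DirectSum.decompose_of_mem_same ℛ hr]
  rw [← h2, h1, map_sum]
  apply Submodule.sum_mem
  intro s _
  rw [map_smul]
  apply Submodule.smul_mem
  have hmem := aeval_monomial_mem ℛ gen w hgen s
  by_cases hw : Finsupp.weight w s = n
  · rw [GradedAlgebra.proj_apply, ← hw, DirectSum.decompose_of_mem_same ℛ hmem]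
    exact Submodule.subset_span ⟨s, rfl, rfl⟩
  · rw [GradedAlgebra.proj_apply, DirectSum.decompose_of_mem_ne ℛ hmem hw]
    exact Submodule.zero_mem _


lemma exists_le_sum_eq {ι : Type*} [Fintype ι] [DecidableEq ι] (q : ι → ℕ) :
    ∀ e : ℕ, e ≤ ∑ i, q i → ∃ t : ι → ℕ, (∀ i, t i ≤ q i) ∧ ∑ i, t i = e := by
  intro e
  induction e with
  | zero => intro _; exact ⟨fun _ => 0, fun i => Nat.zero_le _, by simp⟩
  | succ e ih =>
    intro h
    obtain ⟨t, ht, hsum⟩ := ih (by omega)
    have hlt : ∑ i, t i < ∑ i, q i := by omega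
    obtain ⟨i, _, hi⟩ := Finset.exists_lt_of_sum_lt hlt
    refine ⟨Function.update t i (t i + 1), ?_, ?_⟩
    · intro j
      by_cases hj : j = i
      · subst hj; simp; omega
      · rw [Function.update_of_ne hj]; exact ht j
    · rw [Finset.sum_update_of_mem (Finset.mem_univ i)]
      have : ∑ x ∈ Finset.univ \ {i}, t x + t i = ∑ x, t x := by
        have := Finset.sum_sdiff (f := t) (Finset.subset_univ ({i} : Finset ι))
        rw [Finset.sum_singleton] at this
        exact this
      omega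

lemma split {ι : Type*} [Fintype ι] [DecidableEq ι] (w u : ι → ℕ)
    (huw : ∀ i, u i * w i = 6) (e : ℕ) (he : ∑ i, (u i - 1) * w i ≤ e)
    (s : ι →₀ ℕ) (m : ℕ) (hm : 2 ≤ m) (hs : Finsupp.weight w s = m * (6 * e)) :
    ∃ s' s'' : ι →₀ ℕ, s = s' + s'' ∧ Finsupp.weight w s' = 6 * e ∧
      Finsupp.weight w s'' = (m - 1) * (6 * e) := by
  have hu : ∀ i, 0 < u i := by
    intro i
    rcases Nat.eq_zero_or_pos (u i) with h | h
    · have := huw i; rw [h] at this; simp at this
    · exact h
  have hdecomp : ∀ i, s i = u i * (s i / u i) + s i % u i := fun i => (Nat.div_add_mod _ _).symm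
  have hr : ∀ i, s i % u i ≤ u i - 1 := fun i => by
    have := Nat.mod_lt (s i) (hu i); omega
  have hweight : Finsupp.weight w s = 6 * ∑ i, s i / u i + ∑ i, (s i % u i) * w i := by
    rw [Finsupp.weight_eq_sum, Finset.mul_sum, ← Finset.sum_add_distrib]
    apply Finset.sum_congr rfl
    intro i _
    rw [smul_eq_mul]
    conv_lhs => rw [hdecomp i]
    rw [add_mul, mul_comm (u i) (s i / u i), mul_assoc, huw i]
    ring
  have hrem : ∑ i, (s i % u i) * w i ≤ e :=
    le_trans (Finset.sum_le_sum fun i _ => Nat.mul_le_mul_right _ (hr i)) he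
  have hq : e ≤ ∑ i, s i / u i := by
    have h2 : 2 * (6 * e) ≤ m * (6 * e) := Nat.mul_le_mul_right _ hm
    omega
  obtain ⟨t, ht, htsum⟩ := exists_le_sum_eq (fun i => s i / u i) e hq
  let s' : ι →₀ ℕ := Finsupp.equivFunOnFinite.symm (fun i => t i * u i)
  have hs'le : s' ≤ s := by
    intro i
    show t i * u i ≤ s i
    calc t i * u i ≤ (s i / u i) * u i := Nat.mul_le_mul_right _ (ht i)
      _ ≤ s i := Nat.div_mul_le_self _ _
  have hws' : Finsupp.weight w s' = 6 * e := by
    rw [Finsupp.weight_eq_sum, ← htsum, Finset.mul_sum]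
    apply Finset.sum_congr rfl
    intro i _
    show (t i * u i) • w i = 6 * t i
    rw [smul_eq_mul, mul_assoc, huw i, mul_comm]
  refine ⟨s', s - s', (add_tsub_cancel_of_le hs'le).symm, hws', ?_⟩
  have hadd : Finsupp.weight w s = Finsupp.weight w s' + Finsupp.weight w (s - s') := by
    rw [← map_add, add_tsub_cancel_of_le hs'le]
  rw [hs, hws'] at hadd
  have : m * (6 * e) = (m - 1) * (6 * e) + 6 * e := by
    obtain ⟨m', rfl⟩ : ∃ m', m = m' + 1 := ⟨m - 1, by omega⟩
    simp [Nat.succ_mul]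
  omega


lemma mem_subalgebra_of_basis {k R ι' : Type*} [Field k] [CommRing R] [Algebra k R] [Fintype ι']
    (N : Submodule k R) (b : Module.Basis ι' k N) (S : Subalgebra k R) (h : ∀ i, (b i : R) ∈ S) :
    ∀ x ∈ N, x ∈ S := by
  intro x hx
  have h1 := b.sum_repr ⟨x, hx⟩
  have h2 : x = ∑ i, b.repr ⟨x, hx⟩ i • (b i : R) := by
    have := congrArg (fun y : N => (y : R)) h1
    simp only [Submodule.coe_sum, Submodule.coe_smul] at this
    exact this.symm
  rw [h2]
  exact Subalgebra.sum_mem _ (fun i _ => Subalgebra.smul_mem _ (h i) _)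

/-- Let k be a field and R a commutative ℕ-graded k-algebra with R_0 = k · 1 which is generated as a
k-algebra by R_1, R_2 and R_3, each a finite-dimensional k-vector space, of dimensions d_1, d_2,
d_3. Then for every natural number e ≥ 5 d_1 + 4 d_2 + 3 d_3 the (6e)-th Veronese subring of R is
generated in degree one over k: R_{6em} = (R_{6e})^m for every m > 0. -/
theorem result
    (k : Type u) [Field k] (R : Type u) [CommRing R] [Algebra k R]
    (ℛ : ℕ → Submodule k R) [GradedAlgebra ℛ]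
    (h0 : ℛ 0 = 1)
    (hgen : Algebra.adjoin k ((ℛ 1 : Set R) ∪ (ℛ 2 : Set R) ∪ (ℛ 3 : Set R)) = ⊤)
    [Module.Finite k (ℛ 1)] [Module.Finite k (ℛ 2)] [Module.Finite k (ℛ 3)]
    (e : ℕ) (he : 5 * Module.finrank k (ℛ 1) + 4 * Module.finrank k (ℛ 2) + 3 * Module.finrank k (ℛ 3) ≤ e)
    (m : ℕ) (hm : 0 < m) :
    ℛ (m * (6 * e)) = ℛ (6 * e) ^ m := by
  classical
  let b1 := Module.finBasis k (ℛ 1)
  let b2 := Module.finBasis k (ℛ 2)
  let b3 := Module.finBasis k (ℛ 3)
  let gen : (Fin (Module.finrank k (ℛ 1)) ⊕ (Fin (Module.finrank k (ℛ 2)) ⊕ Fin (Module.finrank k (ℛ 3)))) → R :=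
    Sum.elim (fun i => (b1 i : R)) (Sum.elim (fun i => (b2 i : R)) (fun i => (b3 i : R)))
  let w : (Fin (Module.finrank k (ℛ 1)) ⊕ (Fin (Module.finrank k (ℛ 2)) ⊕ Fin (Module.finrank k (ℛ 3)))) → ℕ :=
    Sum.elim (fun _ => 1) (Sum.elim (fun _ => 2) (fun _ => 3))
  let u : (Fin (Module.finrank k (ℛ 1)) ⊕ (Fin (Module.finrank k (ℛ 2)) ⊕ Fin (Module.finrank k (ℛ 3)))) → ℕ :=
    Sum.elim (fun _ => 6) (Sum.elim (fun _ => 3) (fun _ => 2))
  have hgen_mem : ∀ i, gen i ∈ ℛ (w i) := by
    rintro (i | i | i)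
    · exact (b1 i).2
    · exact (b2 i).2
    · exact (b3 i).2
  have huw : ∀ i, u i * w i = 6 := by
    rintro (i | i | i) <;> rfl
  have hsum : ∑ i, (u i - 1) * w i =
      5 * Module.finrank k (ℛ 1) + 4 * Module.finrank k (ℛ 2) + 3 * Module.finrank k (ℛ 3) := by
    simp only [Fintype.sum_sum_type, u, w, Sum.elim_inl, Sum.elim_inr, Finset.sum_const,
      Finset.card_univ, Fintype.card_fin, smul_eq_mul]
    ring
  have hsurj : Function.Surjective (MvPolynomial.aeval gen :
      MvPolynomial (Fin (Module.finrank k (ℛ 1)) ⊕ (Fin (Module.finrank k (ℛ 2)) ⊕ Fin (Module.finrank k (ℛ 3)))) k →ₐ[k] R) := by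
    rw [← AlgHom.range_eq_top, MvPolynomial.aeval_range, eq_top_iff, ← hgen]
    apply Algebra.adjoin_le
    rintro x ((hx | hx) | hx)
    · refine mem_subalgebra_of_basis (ℛ 1) b1 _ (fun i => ?_) x hx
      exact Algebra.subset_adjoin ⟨Sum.inl i, rfl⟩
    · refine mem_subalgebra_of_basis (ℛ 2) b2 _ (fun i => ?_) x hx
      exact Algebra.subset_adjoin ⟨Sum.inr (Sum.inl i), rfl⟩
    · refine mem_subalgebra_of_basis (ℛ 3) b3 _ (fun i => ?_) x hx
      exact Algebra.subset_adjoin ⟨Sum.inr (Sum.inr i), rfl⟩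
  have key : ∀ m : ℕ, 1 ≤ m → ℛ (m * (6 * e)) = ℛ (6 * e) ^ m := by
    intro m hm
    induction m, hm using Nat.le_induction with
    | base => simp
    | succ m hm ih =>
      apply le_antisymm
      · refine (mem_span_monomials ℛ gen w hgen_mem hsurj _).trans ?_
        rw [Submodule.span_le]
        rintro _ ⟨s, hs, rfl⟩
        obtain ⟨s', s'', rfl, hs', hs''⟩ := split w u huw e (hsum ▸ he) s (m + 1) (by omega) hs
        have hmul : MvPolynomial.monomial (s' + s'') (1 : k) =
            MvPolynomial.monomial s' 1 * MvPolynomial.monomial s'' 1 := by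
          rw [MvPolynomial.monomial_mul, mul_one]
        rw [hmul, map_mul, pow_succ']
        apply Submodule.mul_mem_mul
        · rw [← hs']; exact aeval_monomial_mem ℛ gen w hgen_mem s'
        · rw [← ih]
          have : m * (6 * e) = Finsupp.weight w s'' := by rw [hs'']; simp
          rw [this]; exact aeval_monomial_mem ℛ gen w hgen_mem s''
      · rw [pow_succ, ← ih, Submodule.mul_le]
        intro a ha b hb
        have := SetLike.mul_mem_graded ha hb
        have heq : m * (6 * e) + 6 * e = (m + 1) * (6 * e) := by ring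
        rw [heq] at this
        exact this
  exact key m hm

end Groth.Agent.S14053
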