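import Groth.Statements.S1864
import Mathlib
import Groth.Agent.Lib.Helper62.GrpComp
import Groth.Agent.Lib.Helper82.UnivOpenDedekind

set_option autoImplicit false
set_option linter.style.haveILetI false
universe u v
open CategoryTheory MonoidalCategory CartesianMonoidalCategory MonObj GrpObj AlgebraicGeometry
open GrpSch

namespace Groth.Agent.S1864
open CategoryTheory MonoidalCategory CartesianMonoidalCategory MonObj GrpObj AlgebraicGeometry Limits
open TopologicalSpace

section cat

variable {C : Type*} [Category C] [CartesianMonoidalCategory C]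

/-- The map `(f * ·)`. -/
def mulLeft {A : C} [GrpObj A] (f : 𝟙_ C ⟶ A) : A ≅ A where
  hom := lift (toUnit _ ≫ f) (𝟙 _) ≫ μ
  inv := lift (toUnit _ ≫ f ≫ ι) (𝟙 _) ≫ μ
  hom_inv_id := by
    simp only [comp_lift_assoc, Category.comp_id, comp_toUnit_assoc]
    rw [← lift_lift_assoc, ← Category.assoc (toUnit A) f ι, lift_comp_inv_left, lift_comp_one_left]
  inv_hom_id := by
    simp only [comp_lift_assoc, Category.comp_id, comp_toUnit_assoc]
    rw [← lift_lift_assoc, ← Category.assoc (toUnit A) f ι, lift_comp_inv_right,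
      lift_comp_one_left]

theorem comp_mulRight_hom {A : C} [GrpObj A] (f g : 𝟙_ C ⟶ A) :
    f ≫ (mulRight g).hom = g ≫ (mulLeft f).hom := by
  simp [mulLeft, comp_lift_assoc]

theorem one_comp_mulLeft_hom {A : C} [GrpObj A] (f : 𝟙_ C ⟶ A) :
    η[A] ≫ (mulLeft f).hom = f := by
  simp only [mulLeft, comp_lift_assoc, Category.comp_id]
  rw [← Category.assoc, Subsingleton.elim (η[A] ≫ toUnit A) (𝟙 _), Category.id_comp]
  simpa using lift_comp_one_right f (𝟙 _)

theorem one_comp_mulRight_hom {A : C} [GrpObj A] (f : 𝟙_ C ⟶ A) :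
    η[A] ≫ (mulRight f).hom = f := by
  simp only [mulRight_hom, comp_lift_assoc, Category.comp_id]
  rw [← Category.assoc, Subsingleton.elim (η[A] ≫ toUnit A) (𝟙 _), Category.id_comp]
  simpa using lift_comp_one_left (𝟙 _) f

end cat

section main

variable {K : Type u} [Field K] [IsAlgClosed K] (G : Over (Spec (CommRingCat.of K))) [GrpObj G]
  [LocallyOfFiniteType G.hom]

/-- the `K`-point of a closed point. -/
noncomputable def sec (x : G.left) (hx : IsClosed ({x} : Set G.left)) :
    𝟙_ (Over (Spec (CommRingCat.of K))) ⟶ G :=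
  Over.homMk (pointOfClosedPoint G.hom x hx) (by simp)

omit [GrpObj G] in
theorem sec_apply (x : G.left) (hx : IsClosed ({x} : Set G.left)) (a) :
    (sec G x hx).left a = x := by
  simp [sec]

/-- left translation by a closed point -/
noncomputable def Lh (x : G.left) (hx : IsClosed ({x} : Set G.left)) : G.left ≅ G.left :=
  (Over.forget _).mapIso (mulLeft (sec G x hx))

/-- right translation by a closed point -/
noncomputable def Rh (x : G.left) (hx : IsClosed ({x} : Set G.left)) : G.left ≅ G.left :=
  (Over.forget _).mapIso (mulRight (sec G x hx))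

/-- the unit point -/
noncomputable def e₀ : G.left := η[G].left (IsLocalRing.closedPoint K)

theorem Rh_apply (x y : G.left) (hx : IsClosed ({x} : Set G.left))
    (hy : IsClosed ({y} : Set G.left)) : (Rh G y hy).hom x = (Lh G x hx).hom y := by
  have h := congr(($(comp_mulRight_hom (sec G x hx) (sec G y hy))).left)
  rw [Over.comp_left, Over.comp_left] at h
  have h2 := congr(($h) (IsLocalRing.closedPoint K))
  rw [Scheme.Hom.comp_apply, Scheme.Hom.comp_apply, sec_apply, sec_apply] at h2
  exact h2

theorem Lh_unit (x : G.left) (hx : IsClosed ({x} : Set G.left)) : (Lh G x hx).hom (e₀ G) = x := by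
  have h := congr(($(one_comp_mulLeft_hom (sec G x hx))).left)
  rw [Over.comp_left] at h
  have h2 := congr(($h) (IsLocalRing.closedPoint K))
  rw [Scheme.Hom.comp_apply, sec_apply] at h2
  exact h2

omit [IsAlgClosed K] [GrpObj G] [LocallyOfFiniteType G.hom] in
theorem preimage_mem_comps (φ : G.left ≅ G.left) {C : Set G.left}
    (hC : C ∈ irreducibleComponents G.left) : φ.hom ⁻¹' C ∈ irreducibleComponents G.left := by
  refine preimage_mem_irreducibleComponents hC φ.hom.isOpenEmbedding ?_
  obtain ⟨c, hc⟩ := hC.1.nonempty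
  exact ⟨c, hc, φ.inv c, by simp [← Scheme.Hom.comp_apply]⟩

theorem exists_affine_in_comp
    (hUC : ∀ x : G.left, S0350.UniqueComp x)
    (hopen : ∀ C ∈ irreducibleComponents G.left, IsOpen C)
    (n : ℕ) (g : Fin n → G.left) (hg : ∀ i, IsClosed ({g i} : Set G.left))
    (C : Set G.left) :
    ∃ V : G.left.Opens, IsAffineOpen V ∧
      (C ∈ irreducibleComponents G.left → (V : Set G.left) ⊆ C ∧ ∀ i, g i ∈ C → g i ∈ V) := by
  classical
  by_cases hC : C ∈ irreducibleComponents G.left
  swap
  · exact ⟨⊥, isAffineOpen_bot _, fun h => absurd h hC⟩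
  by_cases hne : ∃ r, g r ∈ C
  swap
  · exact ⟨⊥, isAffineOpen_bot _, fun _ => ⟨by simp, fun i hi => absurd ⟨i, hi⟩ hne⟩⟩
  obtain ⟨r, hr⟩ := hne
  have : JacobsonSpace G.left := LocallyOfFiniteType.jacobsonSpace G.hom
  -- affine open nbhd of g r inside C
  obtain ⟨Uc, hUcaff, hrUc, hUcC⟩ := Opens.isBasis_iff_nbhd.mp G.left.isBasis_affineOpens
    (show g r ∈ (⟨C, hopen C hC⟩ : G.left.Opens) from hr)
  have hUcC' : (Uc : Set G.left) ⊆ C := hUcC
  set Z : Set G.left := irreducibleComponent (e₀ G) with hZdef
  have hZ : Z ∈ irreducibleComponents G.left := irreducibleComponent_mem_irreducibleComponents _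
  have heZ : e₀ G ∈ Z := mem_irreducibleComponent
  -- the opens O i
  let O : Fin n → Set G.left := fun i =>
    if g i ∈ C then (Lh G (g i) (hg i)).hom ⁻¹' (Uc : Set G.left) else Set.univ
  have hOopen : ∀ i, IsOpen (O i) := by
    intro i
    by_cases hi : g i ∈ C
    · simp only [O, hi, if_true]
      exact Uc.2.preimage (Lh G (g i) (hg i)).hom.continuous
    · simp only [O, hi, if_false]
      exact isOpen_univ
  have hOne : ∀ i, (Z ∩ O i).Nonempty := by
    intro i
    by_cases hi : g i ∈ C
    · simp only [O, hi, if_true]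
      have h1 : (Lh G (g i) (hg i)).hom ⁻¹' C = Z := by
        refine hUC (e₀ G) _ (preimage_mem_comps G _ hC) _ hZ ?_ heZ
        rw [Set.mem_preimage, Lh_unit]
        exact hi
      refine ⟨(Lh G (g i) (hg i)).inv (g r), ?_, ?_⟩
      · rw [← h1, Set.mem_preimage, ← Scheme.Hom.comp_apply, Iso.inv_hom_id]
        exact hr
      · rw [Set.mem_preimage, ← Scheme.Hom.comp_apply, Iso.inv_hom_id]
        exact hrUc
    · simp only [O, hi, if_false, Set.inter_univ]
      exact ⟨_, heZ⟩
  have hirr := isIrreducible_iff_sInter.mp hZ.1 (Finset.univ.image O)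
    (by
      intro u hu
      obtain ⟨i, -, rfl⟩ := Finset.mem_image.mp hu
      exact hOopen i)
    (by
      intro u hu
      obtain ⟨i, -, rfl⟩ := Finset.mem_image.mp hu
      exact hOne i)
  have hopenI : IsOpen (Z ∩ ⋂₀ (↑(Finset.univ.image O) : Set (Set G.left))) := by
    refine (hopen Z hZ).inter ?_
    refine Set.Finite.isOpen_sInter (Finset.finite_toSet _) ?_
    intro u hu
    obtain ⟨i, -, rfl⟩ := Finset.mem_image.mp (Finset.mem_coe.mp hu)
    exact hOopen i
  obtain ⟨h, ⟨-, hhO⟩, hhcl⟩ := nonempty_inter_closedPoints hirr hopenI.isLocallyClosed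
  have hhcl' : IsClosed ({h} : Set G.left) := hhcl
  have hhO' : ∀ i, g i ∈ C → (Lh G (g i) (hg i)).hom h ∈ Uc := by
    intro i hi
    have : h ∈ O i := hhO (O i) (Finset.mem_coe.mpr (Finset.mem_image_of_mem O (Finset.mem_univ i)))
    simp only [O, hi, if_true] at this
    exact this
  refine ⟨(Rh G h hhcl').hom ⁻¹ᵁ Uc, hUcaff.preimage_of_isIso _, fun _ => ⟨?_, ?_⟩⟩
  · have h1 : (Rh G h hhcl').hom ⁻¹' C = C := by
      refine hUC (g r) _ (preimage_mem_comps G _ hC) _ hC ?_ hr
      rw [Set.mem_preimage, Rh_apply G (g r) h (hg r) hhcl']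
      exact hUcC' (hhO' r hr)
    intro x hx
    rw [← h1]
    exact hUcC' hx
  · intro i hi
    show (Rh G h hhcl').hom (g i) ∈ Uc
    rw [Rh_apply G (g i) h (hg i) hhcl']
    exact hhO' i hi

theorem main (n : ℕ) (g : Fin n → G.left) (hg : ∀ i, IsClosed ({g i} : Set G.left)) :
    ∃ U : G.left.Opens, IsAffineOpen U ∧ ∀ i, g i ∈ U := by
  have hUC : ∀ x : G.left, S0350.UniqueComp x := S0350.uniqueComp_all G
  have : IsLocallyNoetherian G.left := LocallyOfFiniteType.isLocallyNoetherian G.hom
  have hopen : ∀ C ∈ irreducibleComponents G.left, IsOpen C := by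
    intro C hC
    have hcl := Groth.Agent.Lib.Helper82.UnivOpenDedekind.isClosed_sUnion_irreducibleComponents
      (X := G.left) (irreducibleComponents G.left \ {C}) Set.sdiff_subset
    have : C = (⋃₀ (irreducibleComponents G.left \ {C}))ᶜ := by
      ext x
      simp only [Set.mem_compl_iff, Set.mem_sUnion, Set.mem_sdiff, Set.mem_singleton_iff, not_exists,
        not_and]
      constructor
      · intro hx C' hC' hxC'
        exact hC'.2 (hUC x C' hC'.1 C hC hxC' hx)
      · intro hx
        by_contra hxC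
        refine hx (irreducibleComponent x) ⟨irreducibleComponent_mem_irreducibleComponents x, ?_⟩
          mem_irreducibleComponent
        intro heq
        exact hxC (heq ▸ mem_irreducibleComponent)
    rw [this]
    exact hcl.isOpen_compl
  choose V hVaff hV using exists_affine_in_comp G hUC hopen n g hg
  let s : Set (Set G.left) := Set.range (fun i => irreducibleComponent (g i))
  have hs : s.Finite := Set.finite_range _
  have hsC : ∀ C ∈ s, C ∈ irreducibleComponents G.left := by
    rintro C ⟨i, rfl⟩
    exact irreducibleComponent_mem_irreducibleComponents _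
  refine ⟨⨆ C ∈ s, V C, IsAffineOpen.biSup_of_disjoint hs (fun C _ => hVaff C) ?_, ?_⟩
  · intro C hC C' hC' hne
    show Disjoint (V C) (V C')
    rw [← Opens.coe_disjoint, Set.disjoint_left]
    intro x hx hx'
    exact hne (hUC x C (hsC C hC) C' (hsC C' hC') ((hV C (hsC C hC)).1 hx)
      ((hV C' (hsC C' hC')).1 hx'))
  · intro i
    have hi : irreducibleComponent (g i) ∈ s := ⟨i, rfl⟩
    have := (hV _ (hsC _ hi)).2 i mem_irreducibleComponent
    exact Opens.mem_iSup.mpr ⟨_, Opens.mem_iSup.mpr ⟨hi, this⟩⟩

end main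


/-- Let G be a group scheme locally of finite type over an algebraically closed field and g₁, …, g_n
finitely many closed points of G. Then some affine open of G contains all the g_i. -/
theorem result (K : Type u) [Field K] [IsAlgClosed K] (G : Over (Spec (CommRingCat.of K))) [GrpObj G] [LocallyOfFiniteType G.hom] (n : ℕ) (g : Fin n → G.left) (hg : ∀ i, IsClosed ({g i} : Set G.left)) : ∃ U : G.left.Opens, IsAffineOpen U ∧ ∀ i, g i ∈ U := by
  exact main G n g hg

end Groth.Agent.S1864
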