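import Groth.Statements.S14059
import Mathlib
import Groth.Agent.S1864

set_option autoImplicit false
set_option linter.style.haveILetI false
universe u
open CategoryTheory MonoidalCategory CartesianMonoidalCategory MonObj GrpObj AlgebraicGeometry
open GrpSch

namespace Groth.Agent.S14059
open CategoryTheory MonoidalCategory CartesianMonoidalCategory MonObj GrpObj AlgebraicGeometry Limits
open TopologicalSpace

/-- `Spec O_x → X → Spec k` is `Spec` of the structure map `k → O_x`. -/
theorem fromSpecStalk_comp_over (k : Type u) [Field k] (X : Scheme.{u})
    [X.Over (Spec (CommRingCat.of k))] (x : X) :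
    X.fromSpecStalk x ≫ (X ↘ (Spec (CommRingCat.of k))) =
      Spec.map (CommRingCat.ofHom (Curv2.stalkMap k X x)) := by
  have h1 := Scheme.toSpecΓ_naturality (X ↘ (Spec (CommRingCat.of k)))
  rw [← SpecMap_ΓSpecIso_hom] at h1
  have h2 : (X ↘ (Spec (CommRingCat.of k))) = X.toSpecΓ ≫
      Spec.map ((X ↘ (Spec (CommRingCat.of k))).appTop) ≫
        Spec.map (Scheme.ΓSpecIso (CommRingCat.of k)).inv := by
    rw [← Category.assoc, ← h1, Category.assoc, ← Spec.map_comp, Iso.inv_hom_id, Spec.map_id,
      Category.comp_id]
  rw [h2, Scheme.fromSpecStalk_toSpecΓ_assoc, ← Spec.map_comp, ← Spec.map_comp]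
  rfl

section top

/-- a point specializing to a point whose local ring is a field equals it. -/
theorem eq_of_specializes_of_isField {X : Scheme.{u}} {x g : X} (h : x ⤳ g)
    (hf : IsField (X.presheaf.stalk g)) : x = g := by
  have hx : x ∈ Set.range (X.fromSpecStalk g) := by
    rw [Scheme.range_fromSpecStalk]
    exact h
  obtain ⟨p, rfl⟩ := hx
  have hm := IsLocalRing.isField_iff_maximalIdeal_eq.mp hf
  have hp : p = IsLocalRing.closedPoint (X.presheaf.stalk g) := by
    apply PrimeSpectrum.ext
    have h1 : p.asIdeal ≤ IsLocalRing.maximalIdeal (X.presheaf.stalk g) :=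
      IsLocalRing.le_maximalIdeal p.2.ne_top
    rw [hm] at h1
    show p.asIdeal = IsLocalRing.maximalIdeal (X.presheaf.stalk g)
    rw [hm]
    exact le_bot_iff.mp h1
  rw [hp, Scheme.fromSpecStalk_closedPoint]

end top

section main

variable {k : Type u} [Field k] [IsAlgClosed k] (G : Over (Spec (CommRingCat.of k))) [GrpObj G]
  [LocallyOfFiniteType G.hom]

/-- by translation, the local ring at a closed point is a field if the one at the unit is. -/
theorem isField_stalk_of_closed (h : IsField (G.left.presheaf.stalk (S1864.e₀ G)))
    (g : G.left) (hg : IsClosed ({g} : Set G.left)) : IsField (G.left.presheaf.stalk g) := by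
  have e : G.left.presheaf.stalk ((S1864.Lh G g hg).hom (S1864.e₀ G)) ≃+*
      G.left.presheaf.stalk (S1864.e₀ G) :=
    (asIso ((S1864.Lh G g hg).hom.stalkMap (S1864.e₀ G))).commRingCatIsoToRingEquiv
  have h1 : IsField (G.left.presheaf.stalk ((S1864.Lh G g hg).hom (S1864.e₀ G))) :=
    e.toMulEquiv.isField h
  rwa [S1864.Lh_unit] at h1

omit [GrpObj G] in
/-- the structure map `k → O_g` is bijective when `O_g` is a field and `g` is closed. -/
theorem bijective_stalkMap (g : G.left) (hg : IsClosed ({g} : Set G.left))
    (hf : IsField (G.left.presheaf.stalk g)) :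
    letI : G.left.Over (Spec (CommRingCat.of k)) := ⟨G.hom⟩
    Function.Bijective (Curv2.stalkMap k G.left g) := by
  letI : G.left.Over (Spec (CommRingCat.of k)) := ⟨G.hom⟩
  have hcomp : CommRingCat.ofHom (Curv2.stalkMap k G.left g) ≫ G.left.residue g =
      (residueFieldIsoBase G.hom g hg).inv := by
    apply Spec.map_injective
    rw [Spec.map_comp, SpecMap_residueFieldIsoBase_inv, ← fromSpecStalk_comp_over]
    rfl
  have hm := IsLocalRing.isField_iff_maximalIdeal_eq.mp hf
  have hres : Function.Injective (G.left.residue g).hom := by
    rw [injective_iff_map_eq_zero]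
    intro a ha
    have : a ∈ IsLocalRing.maximalIdeal (G.left.presheaf.stalk g) :=
      (IsLocalRing.residue_eq_zero_iff a).mp ha
    rw [hm] at this
    exact this
  have hbij : Function.Bijective (residueFieldIsoBase G.hom g hg).inv.hom :=
    (ConcreteCategory.isIso_iff_bijective _).mp inferInstance
  refine ⟨RingHom.injective _, fun y => ?_⟩
  obtain ⟨c, hc⟩ := hbij.2 ((G.left.residue g).hom y)
  refine ⟨c, hres ?_⟩
  rw [← hc, ← hcomp]
  rfl

theorem main [QuasiCompact G.hom] (e : G.left) (he : e ∈ Set.range (η[G]).left.base) :
    letI : G.left.Over (Spec (CommRingCat.of k)) := ⟨G.hom⟩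
    Subsingleton (IsLocalRing.CotangentSpace (G.left.presheaf.stalk e)) ↔
      (Finite G.left ∧ DiscreteTopology G.left ∧
        ∀ g : G.left, Function.Bijective (Curv2.stalkMap k G.left g)) := by
  letI : G.left.Over (Spec (CommRingCat.of k)) := ⟨G.hom⟩
  have hee : e = S1864.e₀ G := by
    obtain ⟨p, rfl⟩ := he
    have hp : p = IsLocalRing.closedPoint k := Subsingleton.elim (α := PrimeSpectrum k) _ _
    rw [hp]
    rfl
  subst hee
  have : IsLocallyNoetherian G.left := LocallyOfFiniteType.isLocallyNoetherian G.hom
  have : CompactSpace G.left := QuasiCompact.compactSpace_of_compactSpace G.hom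
  have : IsNoetherian G.left := {}
  rw [IsLocalRing.subsingleton_cotangentSpace_iff]
  constructor
  · intro h
    -- every point is closed with field stalk
    have key : ∀ x : G.left, IsClosed ({x} : Set G.left) ∧ IsField (G.left.presheaf.stalk x) := by
      intro x
      obtain ⟨g, hgx, hgcl⟩ := IsClosed.exists_closed_singleton (isClosed_closure (s := {x}))
        ⟨x, subset_closure rfl⟩
      have hfg := isField_stalk_of_closed G h g hgcl
      have hxg : x ⤳ g := specializes_iff_mem_closure.mpr hgx
      obtain rfl := eq_of_specializes_of_isField hxg hfg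
      exact ⟨hgcl, hfg⟩
    have : T1Space G.left := ⟨fun x => (key x).1⟩
    have hcomp : ∀ x : G.left, ({x} : Set G.left) ∈ irreducibleComponents G.left := by
      intro x
      have := S0350.closure_singleton_mem_irreducibleComponents (x := x) (fun z hz => by
        rw [eq_of_specializes_of_isField hz (key x).2])
      rwa [(key x).1.closure_eq] at this
    have hfin : Finite G.left := by
      have hF : (irreducibleComponents G.left).Finite :=
        NoetherianSpace.finite_irreducibleComponents
      have := hF.to_subtype
      refine Finite.of_injective
        (fun x => (⟨{x}, hcomp x⟩ : irreducibleComponents G.left)) ?_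
      intro x y hxy
      exact Set.singleton_injective (congrArg Subtype.val hxy)
    refine ⟨hfin, inferInstance, fun g => bijective_stalkMap G g (key g).1 (key g).2⟩
  · rintro ⟨-, -, h⟩
    exact (RingEquiv.ofBijective _ (h (S1864.e₀ G))).symm.toMulEquiv.isField (Field.toIsField k)

end main


/-- Let k be an algebraically closed field and G a group scheme of finite type over k, with unit point e
(the image of the unit section). Then the tangent space of G at e is zero, that is the cotangent
space m_e/m_e² of the local ring O_{G,e} vanishes, if and only if G is isomorphic over k to a finite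
disjoint union of copies of Spec k, stated as: the underlying space of G is finite and discrete and
the structure map k → O_{G,g} is bijective for every point g. (The published statement is over an
arbitrary field; the group scheme of cube roots of unity over the rationals has zero tangent space
at the unit but a point with residue field larger than the base field, and the printed argument
translates by rational points, so the base field is taken algebraically closed here.) -/
theorem result (k : Type u) [Field k] [IsAlgClosed k]
    (G : Over (Spec (CommRingCat.of k))) [GrpObj G] [LocallyOfFiniteType G.hom] [QuasiCompact G.hom]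
    (e : G.left) (he : e ∈ Set.range (η[G]).left.base) :
    letI : G.left.Over (Spec (CommRingCat.of k)) := ⟨G.hom⟩
    Subsingleton (IsLocalRing.CotangentSpace (G.left.presheaf.stalk e)) ↔
      (Finite G.left ∧ DiscreteTopology G.left ∧
        ∀ g : G.left, Function.Bijective (Curv2.stalkMap k G.left g)) := by
  exact main G e he

end Groth.Agent.S14059
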