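import Groth.Statements.S1406
import Mathlib
import Groth.Agent.S0116
-- import your own Groth.Agent.* helpers here

set_option autoImplicit false
universe u
open FlatMor

namespace Groth.Agent.S1406
open CategoryTheory CategoryTheory.Limits AlgebraicGeometry TopologicalSpace Opposite

open CategoryTheory CategoryTheory.Limits AlgebraicGeometry TopologicalSpace Opposite

/-- the canonical map of fibres, a base change of `a` -/
theorem exists_fiber_map {X X' Y : Scheme.{u}} (f : X ⟶ Y) (a : X' ⟶ X) (y : Y) :
    ∃ b : (a ≫ f).fiber y ⟶ f.fiber y,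
      IsPullback b ((a ≫ f).fiberι y) (f.fiberι y) a := by
  let b : (a ≫ f).fiber y ⟶ f.fiber y :=
    pullback.lift ((a ≫ f).fiberι y ≫ a) ((a ≫ f).fiberToSpecResidueField y)
      (by rw [Category.assoc]; exact pullback.condition)
  refine ⟨b, ?_⟩
  have hright : IsPullback (f.fiberι y) (f.fiberToSpecResidueField y) f
      (Y.fromSpecResidueField y) := IsPullback.of_hasPullback _ _
  have houter : IsPullback ((a ≫ f).fiberι y) ((a ≫ f).fiberToSpecResidueField y) (a ≫ f)
      (Y.fromSpecResidueField y) := IsPullback.of_hasPullback _ _
  have h1 : b ≫ f.fiberι y = (a ≫ f).fiberι y ≫ a := pullback.lift_fst _ _ _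
  have h2 : b ≫ f.fiberToSpecResidueField y = (a ≫ f).fiberToSpecResidueField y :=
    pullback.lift_snd _ _ _
  have := IsPullback.of_right (h₁₁ := b) (h₁₂ := f.fiberToSpecResidueField y)
    (v₁₁ := (a ≫ f).fiberι y) (v₁₂ := f.fiberι y) (v₁₃ := Y.fromSpecResidueField y)
    (h₂₁ := a) (h₂₂ := f) (by rw [h2]; exact houter.flip) h1 hright.flip
  exact this


open AlgebraicGeometry CategoryTheory Limits in
/-- Let a : X' → X be flat, locally of finite presentation and surjective. Then all fibres of f : X → Y
are locally Noetherian if and only if all fibres of a ≫ f are. -/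
theorem result {X X' Y : Scheme.{u}} (f : X ⟶ Y) (a : X' ⟶ X) [Flat a] [LocallyOfFinitePresentation a] [Surjective a] :
    (∀ y : Y, IsLocallyNoetherian (f.fiber y)) ↔ ∀ y : Y, IsLocallyNoetherian ((a ≫ f).fiber y) := by
  constructor
  · intro h y
    obtain ⟨b, hb⟩ := exists_fiber_map f a y
    have := h y
    have : LocallyOfFiniteType b :=
      MorphismProperty.of_isPullback (P := @LocallyOfFiniteType) hb.flip inferInstance
    exact LocallyOfFiniteType.isLocallyNoetherian b
  · intro h y
    obtain ⟨b, hb⟩ := exists_fiber_map f a y
    have := h y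
    have : LocallyOfFinitePresentation b :=
      MorphismProperty.of_isPullback (P := @LocallyOfFinitePresentation) hb.flip inferInstance
    have : Flat b := MorphismProperty.of_isPullback (P := @Flat) hb.flip inferInstance
    have : Surjective b := MorphismProperty.of_isPullback (P := @Surjective) hb.flip inferInstance
    exact Groth.Agent.S0116.result b

end Groth.Agent.S1406
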