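import Groth.Statements.S14060
import Mathlib
-- import your own Groth.Agent.* helpers here

set_option autoImplicit false
universe u
open CategoryTheory CategoryTheory.Limits TopologicalSpace
open CohTop

namespace Groth.Agent.S14060

section PRE
open Abelian Opposite

variable {X : TopCat.{u}} [HasExt.{u} (Sheaf (Opens.grothendieckTopology X) AddCommGrpCat.{u})]

theorem vanish_step (S : ShortComplex (Sheaf (Opens.grothendieckTopology X) AddCommGrpCat.{u}))
    (hS : S.ShortExact) (n : ℕ)
    (h2 : Subsingleton (Sheaf.H S.X₂ n)) (h1 : Subsingleton (Sheaf.H S.X₁ (n + 1))) :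
    Subsingleton (Sheaf.H S.X₃ n) := by
  have key : ∀ x : Sheaf.H S.X₃ n, x = 0 := by
    intro x
    obtain ⟨x₂, hx₂⟩ := Ext.covariant_sequence_exact₃ _ hS x rfl (Subsingleton.elim _ _)
    rw [← hx₂, Subsingleton.elim x₂ 0, Ext.zero_comp]
  exact ⟨fun a b => by rw [key a, key b]⟩

theorem surj_step (S : ShortComplex (Sheaf (Opens.grothendieckTopology X) AddCommGrpCat.{u}))
    (hS : S.ShortExact) (h1 : Subsingleton (Sheaf.H S.X₁ 1)) :
    Function.Surjective (S.g.hom.app (op ⊤)) := by
  intro s
  have hT : IsTerminal (⊤ : Opens X) := isTerminalTop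
  let x₃ := (Sheaf.H.equiv₀ S.X₃ hT).symm s
  obtain ⟨x₂, hx₂⟩ := Ext.covariant_sequence_exact₃ _ hS x₃ rfl (Subsingleton.elim _ _)
  refine ⟨Sheaf.H.equiv₀ S.X₂ hT x₂, ?_⟩
  rw [Sheaf.H.equiv₀_naturality, Sheaf.H.map_apply, hx₂]
  exact (Sheaf.H.equiv₀ S.X₃ hT).apply_symm_apply s

variable (F : ChainComplex (Sheaf (Opens.grothendieckTopology X) AddCommGrpCat.{u}) ℕ)

/-- the short exact sequence of cycles at an exact spot -/
theorem ses_of_exactAt (j : ℕ) (h : F.ExactAt (j + 1)) :
    (ShortComplex.mk (kernel.ι (F.d (j + 2) (j + 1)))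
      (kernel.lift (F.d (j + 1) j) (F.d (j + 2) (j + 1)) (F.d_comp_d _ _ _))
      (by
        apply (cancel_mono (kernel.ι (F.d (j + 1) j))).1
        rw [Category.assoc, kernel.lift_ι, kernel.condition, zero_comp])).ShortExact := by
  have hex : (F.sc' (j + 2) (j + 1) j).Exact :=
    (F.exactAt_iff' (j + 2) (j + 1) j (by simp) (by simp)).mp h
  have hepi : Epi (kernel.lift (F.d (j + 1) j) (F.d (j + 2) (j + 1)) (F.d_comp_d _ _ _)) :=
    (ShortComplex.exact_iff_epi_kernel_lift _).mp hex
  refine ShortComplex.ShortExact.mk' ?_ (by dsimp; infer_instance) hepi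
  refine ShortComplex.exact_of_f_is_kernel _ ?_
  refine KernelFork.IsLimit.ofι _ _
    (fun {W'} g' hg' => kernel.lift (F.d (j + 2) (j + 1)) g' ?_) ?_ ?_
  · have := congrArg (fun t => t ≫ kernel.ι (F.d (j + 1) j)) hg'
    simpa using this
  · intro W' g' hg'
    exact kernel.lift_ι _ _ _
  · intro W' g' hg' m hm
    apply (cancel_mono (kernel.ι (F.d (j + 2) (j + 1)))).1
    rw [kernel.lift_ι]
    exact hm

theorem ses_last (hepi : Epi (F.d 1 0)) :
    (ShortComplex.mk (kernel.ι (F.d 1 0)) (F.d 1 0) (kernel.condition _)).ShortExact :=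
  ShortComplex.ShortExact.mk' (ShortComplex.exact_of_f_is_kernel _ (kernelIsKernel _))
    (by dsimp; infer_instance) hepi

theorem main (r : ℕ) (hr : 1 ≤ r)
    (hmono : Mono (F.d r (r - 1))) (hepi : Epi (F.d 1 0))
    (hex : ∀ j : ℕ, 1 ≤ j → j < r → F.ExactAt j)
    (hvan : ∀ j : ℕ, 2 ≤ j → j ≤ r → Subsingleton (Sheaf.H (F.X j) (j - 1))) :
    Function.Surjective ((F.d 1 0).hom.app (Opposite.op ⊤)) := by
  obtain ⟨r', rfl⟩ : ∃ r', r = r' + 1 := ⟨r - 1, by omega⟩
  change Mono (F.d (r' + 1) r') at hmono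
  have P : ∀ k j : ℕ, j + k = r' →
      Subsingleton (Sheaf.H (kernel (F.d (j + 1) j)) (j + 1)) := by
    intro k
    induction k with
    | zero =>
      intro j hj
      obtain rfl : j = r' := by omega
      exact Sheaf.subsingleton_H_of_isZero (isZero_kernel_of_mono _) _
    | succ k ih =>
      intro j hj
      have h1 := ih (j + 1) (by omega)
      have h2 : Subsingleton (Sheaf.H (F.X (j + 2)) (j + 1)) := hvan (j + 2) (by omega) (by omega)
      have hS := ses_of_exactAt F j (hex (j + 1) (by omega) (by omega))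
      exact vanish_step _ hS (j + 1) h2 h1
  exact surj_step _ (ses_last F hepi) (P r' 0 (by omega))

end PRE

/-- Let X be a topological space, r ≥ 1 an integer and 0 → F_r → ⋯ → F_2 → F_1 → F_0 → 0 an exact
sequence of sheaves of abelian groups on X, presented as a chain complex F of abelian sheaves
indexed by the natural numbers whose differential F_r → F_{r−1} is a monomorphism, whose
differential F_1 → F_0 is an epimorphism of sheaves, and which is exact at F_j for 1 ≤ j ≤ r − 1
(for r = 1 the single map F_1 → F_0 is mono and epi). Assume the sheaf cohomology groups H^{j−1}(X,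
F_j) vanish for 2 ≤ j ≤ r. Then the map on global sections F_1(X) → F_0(X) is surjective. (The
instance hypothesis that the category of abelian sheaves on X has Ext groups in the universe of X
holds for every X, abelian sheaves on a space forming a Grothendieck abelian category; it is the
setting in which sheaf cohomology is defined.) -/
theorem result (X : TopCat.{u})
    [HasExt.{u} (Sheaf (Opens.grothendieckTopology X) AddCommGrpCat.{u})]
    (r : ℕ) (hr : 1 ≤ r)
    (F : ChainComplex (Sheaf (Opens.grothendieckTopology X) AddCommGrpCat.{u}) ℕ)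
    (hmono : Mono (F.d r (r - 1))) (hepi : Epi (F.d 1 0))
    (hex : ∀ j : ℕ, 1 ≤ j → j < r → F.ExactAt j)
    (hvan : ∀ j : ℕ, 2 ≤ j → j ≤ r → Subsingleton (Sheaf.H (F.X j) (j - 1))) :
    Function.Surjective ((F.d 1 0).hom.app (Opposite.op ⊤)) := by
  exact main F r hr hmono hepi hex hvan

end Groth.Agent.S14060
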