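import Groth.Statements.S14069
import Mathlib

set_option autoImplicit false
universe u
open CategoryTheory AlgebraicGeometry
open FamCyc

namespace Groth.Agent.S14069

section Helpers

open Limits

set_option linter.style.haveILetI false

set_option maxHeartbeats 1000000 in
set_option backward.isDefEq.respectTransparency.types false in
theorem finish {X₀ X Y W V : Scheme.{u}} (pr : X₀ ⟶ X) [IsClosedImmersion pr]
    (e₁ : W ⟶ X) [Etale e₁] [IsSeparated e₁] (f₁ : W ⟶ Y) (f₀ : X₀ ⟶ Y)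
    (j₀ : V ⟶ X₀) [IsOpenImmersion j₀] (δ' : V ⟶ W)
    (hδ1 : δ' ≫ e₁ = j₀ ≫ pr) (hδ2 : δ' ≫ f₁ = j₀ ≫ f₀)
    (hrange : ∀ (w : W) (x : X₀), e₁ w = pr x → x ∈ Set.range j₀) :
    ∃ U : W.Opens, IsOpenImmersion (pullback.snd (U.ι ≫ e₁) pr) ∧
      Set.range (pullback.snd (U.ι ≫ e₁) pr) = Set.range j₀ ∧
      pullback.snd (U.ι ≫ e₁) pr ≫ f₀ = pullback.fst (U.ι ≫ e₁) pr ≫ U.ι ≫ f₁ := by
  let k := pullback.fst e₁ pr
  let e₀ := pullback.snd e₁ pr
  haveI : IsClosedImmersion k := inferInstance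
  haveI : Etale e₀ := inferInstance
  haveI : IsSeparated e₀ := inferInstance
  let τ : V ⟶ pullback e₁ pr := pullback.lift δ' j₀ hδ1
  have hτk : τ ≫ k = δ' := pullback.lift_fst _ _ _
  have hτe : τ ≫ e₀ = j₀ := pullback.lift_snd _ _ _
  haveI : Etale (τ ≫ e₀) := by rw [hτe]; infer_instance
  haveI : Etale τ := Etale.of_comp τ e₀
  haveI : Mono τ := mono_of_mono_fac hτe
  haveI : IsOpenImmersion τ := IsOpenImmersion.of_flat_of_mono τ
  have hrange' : Set.range e₀ ⊆ Set.range j₀ := by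
    rintro _ ⟨w, rfl⟩
    refine hrange (k w) (e₀ w) ?_
    rw [← Scheme.Hom.comp_apply, ← Scheme.Hom.comp_apply]
    exact congr($(pullback.condition (f := e₁) (g := pr)) w)
  let e₀' : pullback e₁ pr ⟶ V := IsOpenImmersion.lift j₀ e₀ hrange'
  have he₀' : e₀' ≫ j₀ = e₀ := IsOpenImmersion.lift_fac _ _ _
  have hτe' : τ ≫ e₀' = 𝟙 V := by
    rw [← cancel_mono j₀, Category.assoc, he₀', hτe, Category.id_comp]
  haveI : IsSeparated (e₀' ≫ j₀) := by rw [he₀']; infer_instance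
  haveI : IsSeparated e₀' := IsSeparated.of_comp e₀' j₀
  haveI : IsClosedImmersion (τ ≫ e₀') := by rw [hτe']; infer_instance
  haveI : IsClosedImmersion τ := IsClosedImmersion.of_comp τ e₀'
  have hcl : IsClosed (Set.range τ) := τ.isClosedEmbedding.isClosed_range
  have hop : IsOpen (Set.range τ) := τ.isOpenEmbedding.isOpen_range
  have hZ : IsClosed (k '' (Set.range τ)ᶜ) :=
    k.isClosedEmbedding.isClosedMap _ hop.isClosed_compl
  let U : W.Opens := ⟨_, hZ.isOpen_compl⟩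
  have hkU : ∀ w : ↥(pullback e₁ pr), k w ∈ U ↔ w ∈ Set.range τ := by
    intro w
    constructor
    · intro hw
      by_contra hne
      exact hw ⟨w, hne, rfl⟩
    · rintro hw ⟨w', hw', hww'⟩
      have : w' = w := k.isClosedEmbedding.injective hww'
      rw [this] at hw'
      exact hw' hw
  refine ⟨U, ?_⟩
  let ρ : pullback (U.ι ≫ e₁) pr ⟶ pullback e₁ pr :=
    pullback.map (U.ι ≫ e₁) pr e₁ pr U.ι (𝟙 _) (𝟙 _) (by simp) (by simp)
  have hρk : ρ ≫ k = pullback.fst _ _ ≫ U.ι := pullback.lift_fst _ _ _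
  have hρe : ρ ≫ e₀ = pullback.snd _ _ := by
    have := pullback.lift_snd (f := e₁) (g := pr) (pullback.fst (U.ι ≫ e₁) pr ≫ U.ι)
      (pullback.snd (U.ι ≫ e₁) pr ≫ 𝟙 _)
      (by simp [pullback.condition])
    exact this.trans (Category.comp_id _)
  haveI : IsOpenImmersion ρ := inferInstance
  have hρr : Set.range ρ = Set.range τ := by
    ext w
    rw [← hkU w]
    constructor
    · rintro ⟨z, rfl⟩
      rw [← Scheme.Hom.comp_apply, hρk, Scheme.Hom.comp_apply]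
      exact (pullback.fst (U.ι ≫ e₁) pr z).2
    · intro hw
      rw [Scheme.Pullback.range_map]
      refine ⟨?_, ?_⟩
      · simp only [Set.mem_preimage, Scheme.Opens.range_ι]
        exact hw
      · simp
  let ρ' : pullback (U.ι ≫ e₁) pr ⟶ V := IsOpenImmersion.lift τ ρ hρr.le
  have hρ' : ρ' ≫ τ = ρ := IsOpenImmersion.lift_fac _ _ _
  haveI : IsOpenImmersion (ρ' ≫ τ) := by rw [hρ']; infer_instance
  haveI : IsOpenImmersion ρ' := IsOpenImmersion.of_comp ρ' τ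
  have hρ's : Function.Surjective ρ' := by
    intro v
    have : τ v ∈ Set.range ρ := by rw [hρr]; exact ⟨v, rfl⟩
    obtain ⟨z, hz⟩ := this
    refine ⟨z, τ.isOpenEmbedding.injective ?_⟩
    rw [← Scheme.Hom.comp_apply, hρ']
    exact hz
  have hsnd : pullback.snd (U.ι ≫ e₁) pr = ρ' ≫ j₀ := by
    rw [← hρe, ← hρ', Category.assoc, hτe]
  refine ⟨?_, ?_, ?_⟩
  · rw [hsnd]; infer_instance
  · rw [hsnd]
    ext x
    constructor
    · rintro ⟨z, rfl⟩
      exact ⟨ρ' z, rfl⟩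
    · rintro ⟨v, rfl⟩
      obtain ⟨z, rfl⟩ := hρ's v
      exact ⟨z, rfl⟩
  · rw [hsnd, Category.assoc, ← hδ2, ← hτk]
    simp only [← Category.assoc]
    rw [hρ', hρk]


set_option maxHeartbeats 1000000 in
set_option backward.isDefEq.respectTransparency.types false in
theorem aux {S S₀ X Y : Scheme.{u}} (i : S₀ ⟶ S) [IsClosedImmersion i]
    (p : X ⟶ S) (q : Y ⟶ S) [Smooth q] (f₀ : Limits.pullback p i ⟶ Y)
    (hf₀ : f₀ ≫ q = Limits.pullback.fst p i ≫ p) (x₀ : ↥(Limits.pullback p i)) :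
    ∃ (U : Scheme.{u}) (e : U ⟶ X) (f : U ⟶ Y), Etale e ∧ f ≫ q = e ≫ p ∧
      IsOpenImmersion (Limits.pullback.snd e (Limits.pullback.fst p i)) ∧
      x₀ ∈ Set.range (Limits.pullback.snd e (Limits.pullback.fst p i)).base ∧
      Limits.pullback.snd e (Limits.pullback.fst p i) ≫ f₀ =
        Limits.pullback.fst e (Limits.pullback.fst p i) ≫ f := by
  set pr := pullback.fst p i with hpr
  haveI : IsClosedImmersion pr := inferInstance
  -- charts on `Y` and `S`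
  obtain ⟨S', hS', Y', hY', hy₀Y', hY'S', hsm⟩ := Smooth.exists_isStandardSmooth q (f₀ x₀)
  obtain ⟨n, g, hgC, hg⟩ := hsm.exists_etale_mvPolynomial
  -- an open of `X` whose trace on `X₀` lies in `f₀⁻¹ Y'`
  have hcl : IsClosed (pr '' ((f₀ ⁻¹ᵁ Y' : (pullback p i).Opens) : Set ↥(pullback p i))ᶜ) :=
    pr.isClosedEmbedding.isClosedMap _ (f₀ ⁻¹ᵁ Y').2.isClosed_compl
  let O : X.Opens := ⟨_, hcl.isOpen_compl⟩
  have hxO : pr x₀ ∈ O := by
    rintro ⟨w, hw, hwx⟩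
    have : w = x₀ := pr.isClosedEmbedding.injective hwx
    rw [this] at hw
    exact hw hy₀Y'
  have hOY : ∀ w, pr w ∈ O → f₀ w ∈ Y' := by
    intro w hw
    by_contra hne
    exact hw ⟨w, hne, rfl⟩
  have hxS : pr x₀ ∈ p ⁻¹ᵁ S' := by
    show p (pr x₀) ∈ S'
    rw [← Scheme.Hom.comp_apply, ← hf₀, Scheme.Hom.comp_apply]
    exact hY'S' hy₀Y'
  obtain ⟨_, ⟨X', hX', rfl⟩, hxX', hX'le⟩ :=
    X.isBasis_affineOpens.exists_subset_of_mem_open (show pr x₀ ∈ (O ⊓ p ⁻¹ᵁ S' : X.Opens) from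
      ⟨hxO, hxS⟩) (O ⊓ p ⁻¹ᵁ S').2
  have hX'O : X' ≤ O := fun z hz => (hX'le hz).1
  have hX'S : X' ≤ p ⁻¹ᵁ S' := fun z hz => (hX'le hz).2
  -- the affine open `X₀' = pr⁻¹ X'` of `X₀`
  have hX₀' : IsAffineOpen (pr ⁻¹ᵁ X') := hX'.preimage pr
  have hX₀'Y : pr ⁻¹ᵁ X' ≤ f₀ ⁻¹ᵁ Y' := fun w hw => hOY w (hX'O hw)
  -- ring maps
  let pA := p.appLE S' X' hX'S
  let qA := q.appLE S' Y' hY'S'
  let rB := pr.appLE X' (pr ⁻¹ᵁ X') le_rfl
  let ψ₀ := f₀.appLE Y' (pr ⁻¹ᵁ X') hX₀'Y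
  have hrB : Function.Surjective rB.hom := by
    have h1 := pr.app_surjective X' hX'
    have h2 : rB = pr.app X' := by
      simp [rB, Scheme.Hom.app_eq_appLE]
    rw [h2]
    exact h1
  have hcomm : pA ≫ rB = qA ≫ ψ₀ := by
    simp only [pA, rB, qA, ψ₀]
    rw [Scheme.Hom.appLE_comp_appLE, Scheme.Hom.appLE_comp_appLE]
    have key : ∀ (φ φ' : pullback p i ⟶ S) (_ : φ = φ') (e : pr ⁻¹ᵁ X' ≤ φ ⁻¹ᵁ S')
        (e' : pr ⁻¹ᵁ X' ≤ φ' ⁻¹ᵁ S'), φ.appLE S' (pr ⁻¹ᵁ X') e = φ'.appLE S' (pr ⁻¹ᵁ X') e' := by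
      rintro φ _ rfl _ _
      rfl
    exact key _ _ hf₀.symm _ _
  -- lifting the coordinates
  have hb : ∀ k : Fin n, ∃ b : Γ(X, X'), rB.hom b = ψ₀.hom (g (MvPolynomial.X k)) :=
    fun k => hrB _
  choose b hb using hb
  let lam : MvPolynomial (Fin n) Γ(S, S') →+* Γ(X, X') := MvPolynomial.eval₂Hom pA.hom b
  have hlamC : lam.comp MvPolynomial.C = pA.hom := by
    ext a
    simp [lam]
  have hlam : rB.hom.comp lam = ψ₀.hom.comp g := by
    apply MvPolynomial.ringHom_ext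
    · intro a
      have h1 : rB.hom (pA.hom a) = ψ₀.hom (qA.hom a) := congr($(hcomm).hom a)
      have h2 : g (MvPolynomial.C a) = qA.hom a := congr($hgC a)
      simp only [RingHom.comp_apply]
      rw [h2, ← h1]
      simp [lam]
    · intro k
      simp only [RingHom.comp_apply]
      rw [← hb k]
      simp [lam]
  let PP : CommRingCat.{u} := CommRingCat.of (MvPolynomial (Fin n) Γ(S, S'))
  let gC : PP ⟶ Γ(Y, Y') := CommRingCat.ofHom g
  let lamC : PP ⟶ Γ(X, X') := CommRingCat.ofHom lam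
  let CC : Γ(S, S') ⟶ PP := CommRingCat.ofHom MvPolynomial.C
  have hCg : CC ≫ gC = qA := CommRingCat.hom_ext hgC
  have hCl : CC ≫ lamC = pA := CommRingCat.hom_ext hlamC
  have hlam' : lamC ≫ rB = gC ≫ ψ₀ := CommRingCat.hom_ext hlam
  let D := pushout lamC gC
  let inl : Γ(X, X') ⟶ D := pushout.inl lamC gC
  let inr : Γ(Y, Y') ⟶ D := pushout.inr lamC gC
  have hcond : lamC ≫ inl = gC ≫ inr := pushout.condition
  haveI hgE : Etale (Spec.map gC) := by
    rw [HasRingHomProperty.Spec_iff (P := @Etale)]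
    exact hg
  haveI hinlE : Etale (Spec.map inl) :=
    MorphismProperty.of_isPullback (P := @Etale) (isPullback_SpecMap_pushout lamC gC).flip hgE
  let jX := hX'.fromSpec
  let jY := hY'.fromSpec
  let jS := hS'.fromSpec
  let j₀ := hX₀'.fromSpec
  let e₁ : Spec D ⟶ X := Spec.map inl ≫ jX
  let f₁ : Spec D ⟶ Y := Spec.map inr ≫ jY
  haveI he₁E : Etale e₁ := inferInstance
  have he₁f₁ : f₁ ≫ q = e₁ ≫ p := by
    simp only [e₁, f₁, Category.assoc]
    rw [← IsAffineOpen.SpecMap_appLE_fromSpec q hS' hY' hY'S',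
      ← IsAffineOpen.SpecMap_appLE_fromSpec p hS' hX' hX'S, ← Spec.map_comp_assoc,
      ← Spec.map_comp_assoc]
    congr 2
    show qA ≫ inr = pA ≫ inl
    rw [← hCg, ← hCl, Category.assoc, Category.assoc, hcond]
  let dd : D ⟶ Γ(pullback p i, pr ⁻¹ᵁ X') := pushout.desc rB ψ₀ hlam'
  let δ' : Spec Γ(pullback p i, pr ⁻¹ᵁ X') ⟶ Spec D := Spec.map dd
  have hδ1 : δ' ≫ e₁ = j₀ ≫ pr := by
    simp only [δ', e₁]
    rw [← Spec.map_comp_assoc, pushout.inl_desc]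
    exact IsAffineOpen.SpecMap_appLE_fromSpec pr hX' hX₀' le_rfl
  have hδ2 : δ' ≫ f₁ = j₀ ≫ f₀ := by
    simp only [δ', f₁]
    rw [← Spec.map_comp_assoc, pushout.inr_desc]
    exact IsAffineOpen.SpecMap_appLE_fromSpec f₀ hY' hX₀' hX₀'Y
  haveI : IsOpenImmersion j₀ := hX₀'.isOpenImmersion_fromSpec
  haveI : IsOpenImmersion jX := hX'.isOpenImmersion_fromSpec
  haveI : IsSeparated e₁ := inferInstance
  have hrange : ∀ (w : ↥(Spec D)) (x : ↥(pullback p i)), e₁ w = pr x → x ∈ Set.range j₀ := by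
    intro w x hwx
    rw [hX₀'.range_fromSpec]
    show pr x ∈ X'
    rw [← hwx]
    have : e₁ w ∈ Set.range jX := ⟨Spec.map inl w, rfl⟩
    rw [hX'.range_fromSpec] at this
    exact this
  obtain ⟨U, hU1, hU2, hU3⟩ := finish pr e₁ f₁ f₀ j₀ δ' hδ1 hδ2 hrange
  refine ⟨U, U.ι ≫ e₁, U.ι ≫ f₁, inferInstance, ?_, hU1, ?_, hU3⟩
  · have := congr(U.ι ≫ $he₁f₁)
    simpa only [Category.assoc] using this
  · rw [hU2, hX₀'.range_fromSpec]
    exact hxX'

end Helpers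

/-- Let i : S₀ ⟶ S be a closed immersion, p : X ⟶ S a scheme over S, q : Y ⟶ S a smooth morphism, X₀ = X
×_S S₀, x₀ a point of X₀ and f₀ : X₀ ⟶ Y a morphism over S. Then there are a scheme U, an étale
morphism e : U ⟶ X whose base change U ×_X X₀ ⟶ X₀ is an open immersion whose image contains x₀, and
a morphism f : U ⟶ Y over S whose restriction to U ×_X X₀ equals the restriction of f₀. -/
theorem result {S S₀ X Y : Scheme.{u}} (i : S₀ ⟶ S) [IsClosedImmersion i]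
    (p : X ⟶ S) (q : Y ⟶ S) [Smooth q] (f₀ : Limits.pullback p i ⟶ Y)
    (hf₀ : f₀ ≫ q = Limits.pullback.fst p i ≫ p) (x₀ : ↥(Limits.pullback p i)) :
    ∃ (U : Scheme.{u}) (e : U ⟶ X) (f : U ⟶ Y), Etale e ∧ f ≫ q = e ≫ p ∧
      IsOpenImmersion (Limits.pullback.snd e (Limits.pullback.fst p i)) ∧
      x₀ ∈ Set.range (Limits.pullback.snd e (Limits.pullback.fst p i)).base ∧
      Limits.pullback.snd e (Limits.pullback.fst p i) ≫ f₀ =
        Limits.pullback.fst e (Limits.pullback.fst p i) ≫ f := by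
  exact aux i p q f₀ hf₀ x₀

end Groth.Agent.S14069
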