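import Groth.Statements.S1407
import Mathlib
import Groth.Agent.Lib.Helper33.FibreBC10

set_option autoImplicit false
set_option maxHeartbeats 800000
set_option backward.isDefEq.respectTransparency.types false
universe u
open FlatMor

namespace Groth.Agent.S1407

open AlgebraicGeometry CategoryTheory Limits IsLocalRing Groth.Agent.Lib.Helper33.FibreBC in
theorem noeth_up {X Y X' Y' : Scheme.{u}} (f : X ⟶ Y) (f' : X' ⟶ Y') (g' : X' ⟶ X) (g : Y' ⟶ Y)
    [LocallyOfFiniteType g] (hc : IsPullback g' f' f g) (y' : Y')
    (hN : IsLocallyNoetherian (f.fiber (g.base y'))) : IsLocallyNoetherian (f'.fiber y') := by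
  have hpb := isPullback_fibreMap f g f' g' hc y'
  letI : Algebra (ResidueField (Y.presheaf.stalk (g.base y')))
      (ResidueField (Y'.presheaf.stalk y')) :=
    (g.residueFieldMap y').hom.toAlgebra
  haveI : Algebra.EssFiniteType (ResidueField (Y.presheaf.stalk (g.base y')))
      (ResidueField (Y'.presheaf.stalk y')) :=
    essFiniteType_residueFieldMap g y'
  exact isLocallyNoetherian_of_essFiniteType
    (k := ResidueField (Y.presheaf.stalk (g.base y')))
    (K := ResidueField (Y'.presheaf.stalk y'))
    (f.fiberToSpecResidueField (g.base y')) (f'.fiberToSpecResidueField y')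
    (fibreMap f g f' g' hc y') hpb

open AlgebraicGeometry CategoryTheory Limits IsLocalRing Groth.Agent.Lib.Helper33.FibreBC in
theorem noeth_down {X Y X' Y' : Scheme.{u}} (f : X ⟶ Y) (f' : X' ⟶ Y') (g' : X' ⟶ X) (g : Y' ⟶ Y)
    (hc : IsPullback g' f' f g) (y' : Y')
    (hN : IsLocallyNoetherian (f'.fiber y')) : IsLocallyNoetherian (f.fiber (g.base y')) := by
  have hpb := isPullback_fibreMap f g f' g' hc y'
  haveI : Flat (fibreMap f g f' g' hc y') :=
    flat_of_field_baseChange (k := ResidueField (Y.presheaf.stalk (g.base y')))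
      (K := ResidueField (Y'.presheaf.stalk y'))
      (f.fiberToSpecResidueField (g.base y')) (f'.fiberToSpecResidueField y')
      (fibreMap f g f' g' hc y') (g.residueFieldMap y') hpb
  haveI : Surjective (Spec.map (g.residueFieldMap y')) := by
    refine ⟨fun z => ⟨default, Subsingleton.elim _ _⟩⟩
  haveI : Surjective (fibreMap f g f' g' hc y') :=
    MorphismProperty.of_isPullback hpb.flip inferInstance
  haveI : UniversallyOpen (Spec.map (g.residueFieldMap y')) := inferInstance
  haveI : UniversallyOpen (fibreMap f g f' g' hc y') :=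
    MorphismProperty.of_isPullback hpb.flip inferInstance
  exact isLocallyNoetherian_of_flat_surjective_universallyOpen (fibreMap f g f' g' hc y')

open AlgebraicGeometry CategoryTheory Limits in
/-- Let Y' → Y be flat, locally of finite presentation and surjective and f' the base change of f : X →
Y. Then f has locally Noetherian fibres and is Cohen–Macaulay at every point if and only if the same
holds for f'. -/
theorem result {X Y X' Y' : Scheme.{u}} (f : X ⟶ Y) (f' : X' ⟶ Y') (g' : X' ⟶ X) (g : Y' ⟶ Y) [Flat g] [LocallyOfFinitePresentation g] [Surjective g]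
    (hc : IsPullback g' f' f g) :
    ((∀ y : Y, IsLocallyNoetherian (f.fiber y)) ∧ ∀ x : X, MoreMor.IsCMAt f x) ↔
      (∀ y' : Y', IsLocallyNoetherian (f'.fiber y')) ∧ ∀ x' : X', MoreMor.IsCMAt f' x' := by
  haveI : LocallyOfFiniteType g := inferInstance
  haveI : Surjective g' := MorphismProperty.of_isPullback hc.flip inferInstance
  constructor
  · rintro ⟨hN, hCM⟩
    refine ⟨fun y' => noeth_up f f' g' g hc y' (hN _), fun x' => ?_⟩
    obtain ⟨hfl, h⟩ := hCM (g' x')
    exact ⟨Groth.Agent.Lib.Helper33.FibreBC.flat_stalkMap_baseChange f g f' g' hc x' hfl,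
      (Groth.Agent.Lib.Helper33.FibreBC.fibre_stalk_baseChange_iff' f g f' g' hc x' hN).2.2 h⟩
  · rintro ⟨hN', hCM'⟩
    have hN : ∀ y : Y, IsLocallyNoetherian (f.fiber y) := by
      intro y
      obtain ⟨y', rfl⟩ := g.surjective y
      exact noeth_down f f' g' g hc y' (hN' y')
    refine ⟨hN, fun x => ?_⟩
    obtain ⟨x', rfl⟩ := g'.surjective x
    obtain ⟨hfl', h⟩ := hCM' x'
    exact ⟨Groth.Agent.Lib.Helper33.FibreBC.flat_stalkMap_of_baseChange_of_base_flat f g f' g' hc
      x' (AlgebraicGeometry.Flat.stalkMap g (f' x')) hfl',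
      (Groth.Agent.Lib.Helper33.FibreBC.fibre_stalk_baseChange_iff' f g f' g' hc x' hN).2.1 h⟩

end Groth.Agent.S1407
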