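import Groth.Statements.S14073
import Mathlib

set_option autoImplicit false
universe u
open FamCyc

namespace Groth.Agent.S14073

open IsLocalRing Function

section A

variable {R : Type u} [CommRing R]
variable {K F M : Type u} [AddCommGroup K] [AddCommGroup F] [AddCommGroup M]
  [Module R K] [Module R F] [Module R M]

/-- depth-zero local ring: cokernel of an injection of finite free modules is free. -/
theorem free_of_exact_depth_zero [IsLocalRing R] (x : R) (hx : x ≠ 0)
    (hxm : ∀ y ∈ maximalIdeal R, y * x = 0)
    [Module.Free R K] [Module.Finite R K] [Module.Free R F] [Module.Finite R F]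
    (i : K →ₗ[R] F) (π : F →ₗ[R] M) (hi : Injective i) (hπ : Surjective π)
    (hex : Function.Exact i π) : Module.Free R M := by
  refine Module.free_of_lTensor_residueField_injective i π hπ hex ?_
  rw [injective_iff_map_eq_zero]
  intro z hz
  obtain ⟨u, rfl⟩ := TensorProduct.mk_surjective R K (ResidueField R) Ideal.Quotient.mk_surjective z
  change (LinearMap.lTensor (ResidueField R) i) ((1 : ResidueField R) ⊗ₜ[R] u) = 0 at hz
  rw [LinearMap.lTensor_tmul] at hz
  have h1 : i u ∈ LinearMap.ker (TensorProduct.mk R (R ⧸ maximalIdeal R) F 1) := hz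
  rw [LinearMap.ker_tensorProductMk] at h1
  -- x kills m • ⊤
  have h2 : x • i u = 0 := by
    refine Submodule.smul_induction_on h1 ?_ ?_
    · intro r hr n _
      rw [smul_smul, mul_comm, hxm r hr, zero_smul]
    · intro a b ha hb
      rw [smul_add, ha, hb, add_zero]
  have h3 : x • u = 0 := hi (by rw [map_smul, h2, map_zero])
  -- u ∈ m • ⊤ since K free
  have h4 : u ∈ maximalIdeal R • (⊤ : Submodule R K) := by
    let b := Module.Free.chooseBasis R K
    have hc : ∀ j, b.repr u j ∈ maximalIdeal R := by
      intro j
      by_contra hu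
      have hunit : IsUnit (b.repr u j) := by
        by_contra h'
        exact hu ((IsLocalRing.mem_maximalIdeal _).mpr h')
      have : x * b.repr u j = 0 := by
        have := congrArg (fun w => b.repr w j) h3
        simpa using this
      exact hx (by simpa using (hunit.mul_left_eq_zero).mp this)
    rw [← b.sum_repr u]
    exact Submodule.sum_mem _ fun j _ => Submodule.smul_mem_smul (hc j) trivial
  rw [← LinearMap.ker_tensorProductMk] at h4
  exact h4

end A

section A2

variable {R : Type u} [CommRing R]
variable {K F M : Type u} [AddCommGroup K] [AddCommGroup F] [AddCommGroup M]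
  [Module R K] [Module R F] [Module R M]

theorem exists_prodEquiv [Module.Projective R M]
    (i : K →ₗ[R] F) (π : F →ₗ[R] M) (hi : Injective i) (hπ : Surjective π)
    (hex : Function.Exact i π) :
    ∃ e : (K × M) ≃ₗ[R] F, (∀ k, e (k, 0) = i k) ∧ (∀ x, π (e x) = x.2) := by
  obtain ⟨s, hs⟩ := Module.projective_lifting_property π LinearMap.id hπ
  have hs' : ∀ m, π (s m) = m := fun m => LinearMap.congr_fun hs m
  have hπi : ∀ k, π (i k) = 0 := fun k => (hex (i k)).mpr ⟨k, rfl⟩
  let g : (K × M) →ₗ[R] F := i.coprod s
  have hg : ∀ x : K × M, g x = i x.1 + s x.2 := fun x => LinearMap.coprod_apply i s x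
  have hπg : ∀ x : K × M, π (g x) = x.2 := by
    intro x
    rw [hg, map_add, hπi, hs', zero_add]
  have hinj : Injective g := by
    rw [injective_iff_map_eq_zero]
    rintro ⟨k, m⟩ h
    have hm : m = 0 := by
      have := hπg (k, m)
      rw [h, map_zero] at this
      exact this.symm
    subst hm
    have hk : i k = 0 := by
      have := hg (k, 0)
      rw [h] at this
      simpa using this.symm
    have : k = 0 := hi (by rw [hk, map_zero])
    rw [this]
    rfl
  have hsurj : Surjective g := by
    intro y
    have : π (y - s (π y)) = 0 := by rw [map_sub, hs', sub_self]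
    obtain ⟨k, hk⟩ := (hex _).mp this
    refine ⟨(k, π y), ?_⟩
    rw [hg]
    simp only
    rw [hk]
    abel
  refine ⟨LinearEquiv.ofBijective g ⟨hinj, hsurj⟩, ?_, ?_⟩
  · intro k
    change g (k, 0) = i k
    rw [hg]
    simp
  · intro x
    exact hπg x

theorem free_ker_of_exact [IsLocalRing R] [Module.Free R F] [Module.Finite R F]
    [Module.Projective R M]
    (i : K →ₗ[R] F) (π : F →ₗ[R] M) (hi : Injective i) (hπ : Surjective π)
    (hex : Function.Exact i π) : Module.Free R K ∧ Module.Finite R K := by
  obtain ⟨e, he1, he2⟩ := exists_prodEquiv i π hi hπ hex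
  let r : F →ₗ[R] K := (LinearMap.fst R K M) ∘ₗ e.symm.toLinearMap
  have hr : r ∘ₗ i = LinearMap.id := by
    ext k
    change (e.symm (i k)).1 = k
    rw [← he1 k, LinearEquiv.symm_apply_apply]
  haveI : Module.Projective R K := Module.Projective.of_split i r hr
  haveI : Module.Finite R K := by
    refine Module.Finite.of_surjective r ?_
    intro k
    exact ⟨i k, LinearMap.congr_fun hr k⟩
  exact ⟨Module.free_of_flat_of_isLocalRing, inferInstance⟩

open Matrix in
theorem charpoly_of_exact
    [Module.Free R K] [Module.Finite R K] [Module.Free R F] [Module.Finite R F]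
    [Module.Free R M] [Module.Finite R M]
    (i : K →ₗ[R] F) (π : F →ₗ[R] M) (hi : Injective i) (hπ : Surjective π)
    (hex : Function.Exact i π)
    (φK : K →ₗ[R] K) (φF : F →ₗ[R] F) (φM : M →ₗ[R] M)
    (h1 : ∀ k, i (φK k) = φF (i k)) (h2 : ∀ y, π (φF y) = φM (π y)) :
    φF.charpoly = φK.charpoly * φM.charpoly := by
  classical
  obtain ⟨e, he1, he2⟩ := exists_prodEquiv i π hi hπ hex
  let bK := Module.Free.chooseBasis R K
  let bM := Module.Free.chooseBasis R M
  let b := (bK.prod bM).map e
  rw [← LinearMap.charpoly_toMatrix φF b, ← LinearMap.charpoly_toMatrix φK bK,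
    ← LinearMap.charpoly_toMatrix φM bM]
  have hrepr : ∀ y x, b.repr y x = (bK.prod bM).repr (e.symm y) x := by
    intro y x
    rfl
  have hsnd : ∀ y, (e.symm y).2 = π y := by
    intro y
    have := he2 (e.symm y)
    rw [LinearEquiv.apply_symm_apply] at this
    exact this.symm
  have hbl : ∀ j, b (Sum.inl j) = i (bK j) := by
    intro j
    change e ((bK.prod bM) (Sum.inl j)) = _
    rw [← he1]
    congr 1
    ext
    · exact Module.Basis.prod_apply_inl_fst bK bM j
    · exact Module.Basis.prod_apply_inl_snd bK bM j
  have hbr : ∀ j, π (b (Sum.inr j)) = bM j := by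
    intro j
    change π (e ((bK.prod bM) (Sum.inr j))) = _
    rw [he2]
    exact Module.Basis.prod_apply_inr_snd bK bM j
  have h11 : (LinearMap.toMatrix b b φF).toBlocks₁₁ = LinearMap.toMatrix bK bK φK := by
    ext x j
    rw [toBlocks₁₁, Matrix.of_apply, LinearMap.toMatrix_apply, LinearMap.toMatrix_apply, hrepr,
      Module.Basis.prod_repr_inl, hbl, ← h1, ← he1, LinearEquiv.symm_apply_apply]
  have h21 : (LinearMap.toMatrix b b φF).toBlocks₂₁ = 0 := by
    ext x j
    rw [toBlocks₂₁, Matrix.of_apply, LinearMap.toMatrix_apply, hrepr,
      Module.Basis.prod_repr_inr, hbl, ← h1, ← he1, LinearEquiv.symm_apply_apply]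
    simp
  have h22 : (LinearMap.toMatrix b b φF).toBlocks₂₂ = LinearMap.toMatrix bM bM φM := by
    ext x j
    rw [toBlocks₂₂, Matrix.of_apply, LinearMap.toMatrix_apply, LinearMap.toMatrix_apply, hrepr,
      Module.Basis.prod_repr_inr, hsnd, h2, hbr]
  rw [← Matrix.fromBlocks_toBlocks (LinearMap.toMatrix b b φF), h11, h21, h22,
    Matrix.charpoly_fromBlocks_zero₂₁]

end A2

section B

variable {A : Type u} [CommRing A] (S : Submonoid A)
variable {K F M : Type u} [AddCommGroup K] [AddCommGroup F] [AddCommGroup M]
  [Module A K] [Module A F] [Module A M]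

theorem loc_exact (i : K →ₗ[A] F) (π : F →ₗ[A] M) (hex : Function.Exact i π) :
    Function.Exact (LocalizedModule.map S i) (LocalizedModule.map S π) :=
  LocalizedModule.map_exact S i π hex

instance loc_free [Module.Free A M] : Module.Free (Localization S) (LocalizedModule S M) :=
  Module.Free.of_equiv (LocalizedModule.isBaseChange S M).equiv

instance loc_finite [Module.Finite A M] : Module.Finite (Localization S) (LocalizedModule S M) :=
  Module.Finite.equiv (LocalizedModule.isBaseChange S M).equiv

theorem loc_map_comp (f : K →ₗ[A] F) (g : F →ₗ[A] M) (x : LocalizedModule S K) :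
    LocalizedModule.map S (g ∘ₗ f) x = LocalizedModule.map S g (LocalizedModule.map S f x) := by
  induction x using LocalizedModule.induction_on with
  | h m s => simp [LocalizedModule.map_mk]

theorem loc_charpoly [Module.Free A M] [Module.Finite A M] (φ : M →ₗ[A] M) :
    (LocalizedModule.map S φ).charpoly = φ.charpoly.map (algebraMap A (Localization S)) := by
  let h := LocalizedModule.isBaseChange S M
  let e := h.equiv
  have key : ∀ z, LocalizedModule.map S φ (e z) = e (φ.baseChange (Localization S) z) := by
    intro z
    induction z using TensorProduct.induction_on with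
    | zero => simp
    | tmul a m =>
      rw [LinearMap.baseChange_tmul, h.equiv_tmul, h.equiv_tmul, map_smul]
      congr 1
      exact LocalizedModule.map_mk S φ m 1
    | add x y hx hy => rw [map_add, map_add, hx, hy, map_add, map_add]
  have h2 : LocalizedModule.map S φ = e.conj (φ.baseChange (Localization S)) := by
    ext x
    rw [LinearEquiv.conj_apply_apply, ← key, LinearEquiv.apply_symm_apply]
  rw [h2, LinearEquiv.charpoly_conj, LinearMap.charpoly_baseChange]

end B

section C

variable {A : Type u} [CommRing A] [IsNoetherianRing A]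

theorem exists_depth_zero (p : Ideal A) [hp : p.IsPrime] (hass : p ∈ associatedPrimes A A) :
    ∃ x : Localization.AtPrime p, x ≠ 0 ∧
      ∀ y ∈ maximalIdeal (Localization.AtPrime p), y * x = 0 := by
  obtain ⟨-, a, ha⟩ := (isAssociatedPrime_iff (I := p) (M := A)).mp hass
  have hmem : ∀ r : A, r ∈ p ↔ r * a = 0 := by
    intro r
    rw [ha, Submodule.mem_colon_singleton, Submodule.mem_bot, smul_eq_mul]
  refine ⟨algebraMap A _ a, ?_, ?_⟩
  · intro h0
    rw [IsLocalization.map_eq_zero_iff p.primeCompl] at h0
    obtain ⟨s, hs⟩ := h0
    exact s.2 ((hmem s.1).mpr hs)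
  · intro y hy
    rw [← IsLocalization.AtPrime.map_eq_maximalIdeal p (Localization.AtPrime p)] at hy
    have hle : Ideal.map (algebraMap A (Localization.AtPrime p)) p ≤
        (Submodule.span (Localization.AtPrime p) {algebraMap A (Localization.AtPrime p) a}).annihilator := by
      rw [Ideal.map_le_iff_le_comap]
      intro r hr
      rw [Ideal.mem_comap, Submodule.mem_annihilator_span_singleton, smul_eq_mul, ← map_mul,
        (hmem r).mp hr, map_zero]
    have := hle hy
    rwa [Submodule.mem_annihilator_span_singleton, smul_eq_mul] at this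

theorem eq_zero_of_forall_ass (a : A)
    (h : ∀ (p : Ideal A) [p.IsPrime], p ∈ associatedPrimes A A →
      algebraMap A (Localization.AtPrime p) a = 0) : a = 0 := by
  by_contra ha
  obtain ⟨P, hP, hle⟩ := exists_le_isAssociatedPrime_of_isNoetherianRing (R := A) a ha
  haveI : P.IsPrime := ((isAssociatedPrime_iff (I := P) (M := A)).mp hP).1
  have h0 := h P hP
  rw [IsLocalization.map_eq_zero_iff P.primeCompl] at h0
  obtain ⟨s, hs⟩ := h0
  refine s.2 (hle ?_)
  rw [Submodule.mem_colon_singleton, Submodule.mem_bot, smul_eq_mul]
  exact hs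

theorem finite_of_ffr : ∀ (n : ℕ) (M : Type u) [AddCommGroup M] [Module A M],
    HasFiniteFreeResolutionLE A n M → Module.Finite A M
  | 0, M, _, _, h => h.2
  | n + 1, M, _, _, h => by
    obtain ⟨k, f, hf, -⟩ := h
    exact Module.Finite.of_surjective f hf

theorem free_at_ass : ∀ (n : ℕ) (M : Type u) [AddCommGroup M] [Module A M],
    HasFiniteFreeResolutionLE A n M → ∀ (p : Ideal A) [p.IsPrime], p ∈ associatedPrimes A A →
      Module.Free (Localization.AtPrime p) (LocalizedModule p.primeCompl M)
  | 0, M, _, _, h => by
    intro p _ _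
    haveI := h.1
    exact loc_free p.primeCompl
  | n + 1, M, _, _, h => by
    intro p _ hp
    obtain ⟨k, f, hf, hK⟩ := h
    haveI : Module.Free (Localization.AtPrime p)
        (LocalizedModule p.primeCompl (LinearMap.ker f)) := free_at_ass n _ hK p hp
    haveI : Module.Finite A (LinearMap.ker f) := finite_of_ffr n _ hK
    obtain ⟨x, hx, hxm⟩ := exists_depth_zero p hp
    have hi := LocalizedModule.map_injective p.primeCompl _
      (Submodule.injective_subtype (LinearMap.ker f))
    have hs := LocalizedModule.map_surjective p.primeCompl _ hf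
    have hex := loc_exact p.primeCompl _ _ (LinearMap.exact_subtype_ker_map f)
    exact free_of_exact_depth_zero x hx hxm _ _ hi hs hex

open Polynomial in
theorem exists_poly : ∀ (n : ℕ) (M : Type u) [AddCommGroup M] [Module A M],
    HasFiniteFreeResolutionLE A n M → ∀ φ : M →ₗ[A] M,
      ∃ q : A[X], q.Monic ∧ ∀ (p : Ideal A) [p.IsPrime]
        [Module.Free (Localization.AtPrime p) (LocalizedModule p.primeCompl M)]
        [Module.Finite (Localization.AtPrime p) (LocalizedModule p.primeCompl M)],
        q.map (algebraMap A (Localization.AtPrime p)) =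
          (LocalizedModule.map p.primeCompl φ).charpoly
  | 0, M, _, _, h => by
    intro φ
    haveI := h.1
    haveI := h.2
    refine ⟨φ.charpoly, φ.charpoly_monic, ?_⟩
    intro p _ _ _
    exact (loc_charpoly p.primeCompl φ).symm
  | n + 1, M, _, _, h => by
    intro φ
    have hfree := free_at_ass (n + 1) M h
    obtain ⟨k, f, hf, hK⟩ := h
    haveI : Module.Finite A M := Module.Finite.of_surjective f hf
    haveI : Module.Finite A (LinearMap.ker f) := finite_of_ffr n _ hK
    obtain ⟨φF, hφF⟩ := Module.projective_lifting_property f (φ ∘ₗ f) hf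
    have hφF' : ∀ y, f (φF y) = φ (f y) := fun y => LinearMap.congr_fun hφF y
    have hmaps : ∀ x ∈ LinearMap.ker f, φF x ∈ LinearMap.ker f := by
      intro x hx
      rw [LinearMap.mem_ker] at hx ⊢
      rw [hφF', hx, map_zero]
    let φK : LinearMap.ker f →ₗ[A] LinearMap.ker f := φF.restrict hmaps
    obtain ⟨g, hg, hgloc⟩ := exists_poly n _ hK φK
    -- local claim
    have hloc : ∀ (p : Ideal A) [p.IsPrime]
        [Module.Free (Localization.AtPrime p) (LocalizedModule p.primeCompl M)]
        [Module.Finite (Localization.AtPrime p) (LocalizedModule p.primeCompl M)],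
        (φF.charpoly /ₘ g).map (algebraMap A (Localization.AtPrime p)) =
          (LocalizedModule.map p.primeCompl φ).charpoly ∧
        (φF.charpoly %ₘ g).map (algebraMap A (Localization.AtPrime p)) = 0 := by
      intro p _ _ _
      have hi := LocalizedModule.map_injective p.primeCompl _
        (Submodule.injective_subtype (LinearMap.ker f))
      have hs := LocalizedModule.map_surjective p.primeCompl _ hf
      have hex := loc_exact p.primeCompl _ _ (LinearMap.exact_subtype_ker_map f)
      obtain ⟨hKfree, hKfin⟩ := free_ker_of_exact _ _ hi hs hex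
      have hcp := charpoly_of_exact _ _ hi hs hex
        (LocalizedModule.map p.primeCompl φK) (LocalizedModule.map p.primeCompl φF)
        (LocalizedModule.map p.primeCompl φ)
        (by
          intro x
          rw [← loc_map_comp, ← loc_map_comp]
          congr 1)
        (by
          intro x
          rw [← loc_map_comp, ← loc_map_comp, hφF])
      rw [loc_charpoly, ← hgloc p] at hcp
      have hgm : (g.map (algebraMap A (Localization.AtPrime p))).Monic := hg.map _
      have := Polynomial.div_modByMonic_unique
        (f := φF.charpoly.map (algebraMap A (Localization.AtPrime p)))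
        (LocalizedModule.map p.primeCompl φ).charpoly 0 hgm
        ⟨by rw [zero_add, hcp], by
          rw [Polynomial.degree_zero]
          exact bot_lt_iff_ne_bot.mpr (by
            rw [Ne, Polynomial.degree_eq_bot]
            exact hgm.ne_zero)⟩
      rw [Polynomial.map_divByMonic _ hg, Polynomial.map_modByMonic _ hg]
      exact this
    have hr : φF.charpoly %ₘ g = 0 := by
      ext m
      rw [Polynomial.coeff_zero]
      apply eq_zero_of_forall_ass
      intro p _ hp
      haveI := hfree p hp
      have := (hloc p).2
      have h2 := congrArg (fun P => P.coeff m) this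
      simpa [Polynomial.coeff_map] using h2
    have hmul : g * (φF.charpoly /ₘ g) = φF.charpoly := by
      have := Polynomial.modByMonic_add_div φF.charpoly g
      rw [hr, zero_add] at this
      exact this
    refine ⟨φF.charpoly /ₘ g, ?_, fun p _ _ _ => (hloc p).1⟩
    exact hg.of_mul_monic_left (by rw [hmul]; exact φF.charpoly_monic)

end C

/-- Let A be a Noetherian ring, M an A-module with a finite resolution by finite free modules, and φ an
endomorphism of M. Then there is a unique element of A (the determinant of φ) whose image in A_p is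
the determinant of the localized endomorphism φ_p of the free A_p-module M_p, for every prime p of A
at which M_p is free. -/
theorem result (A : Type u) [CommRing A] [IsNoetherianRing A]
    (M : Type u) [AddCommGroup M] [Module A M] (n : ℕ) (hM : FamCyc.HasFiniteFreeResolutionLE A n M)
    (φ : M →ₗ[A] M) :
    ∃! a : A, ∀ (p : Ideal A) [p.IsPrime],
      Module.Free (Localization.AtPrime p) (LocalizedModule p.primeCompl M) →
        algebraMap A (Localization.AtPrime p) a =
          LinearMap.det (LocalizedModule.map p.primeCompl φ) := by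
  obtain ⟨q, hq, hqloc⟩ := exists_poly n M hM φ
  haveI : Module.Finite A M := finite_of_ffr n M hM
  have hA : ∀ (p : Ideal A) [p.IsPrime],
      Module.Free (Localization.AtPrime p) (LocalizedModule p.primeCompl M) →
        algebraMap A (Localization.AtPrime p) ((-1) ^ q.natDegree * q.coeff 0) =
          LinearMap.det (LocalizedModule.map p.primeCompl φ) := by
    intro p _ hfree
    haveI := hfree
    have h1 := hqloc p
    have h2 : Module.finrank (Localization.AtPrime p) (LocalizedModule p.primeCompl M) =
        q.natDegree := by
      rw [← LinearMap.charpoly_natDegree (LocalizedModule.map p.primeCompl φ), ← h1,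
        hq.natDegree_map]
    rw [LinearMap.det_eq_sign_charpoly_coeff, ← h1, Polynomial.coeff_map, h2]
    simp [map_mul, map_pow]
  refine ⟨(-1) ^ q.natDegree * q.coeff 0, hA, ?_⟩
  intro a' ha'
  have : a' - (-1) ^ q.natDegree * q.coeff 0 = 0 := by
    apply eq_zero_of_forall_ass
    intro p _ hp
    have hfree := free_at_ass n M hM p hp
    rw [map_sub, ha' p hfree, hA p hfree, sub_self]
  exact sub_eq_zero.mp this

end Groth.Agent.S14073
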