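import Groth.Statements.S14075
import Mathlib
import Groth.Agent.Lib.Helper82.ChevalleyFibre
-- import your own Groth.Agent.* helpers here

set_option autoImplicit false
open CategoryTheory AlgebraicGeometry
universe u
open FamCyc

namespace Groth.Agent.S14075
set_option linter.style.haveILetI false
open Groth.Agent.Lib.Helper21 Groth.Agent.Lib.Helper21.FieldDim
  Groth.Agent.Lib.Helper21.FibreClosureDim Groth.Agent.Lib.Helper21.UnivOpenAtDim
open Groth.Agent.Lib.Helper82.ChevalleyPt Groth.Agent.Lib.Helper82.ChevalleyComp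

/-- Let f : X ⟶ S be locally of finite type and universally open. Then every point x of X lies on an
irreducible component W of X, given its reduced subscheme structure, such that W ⟶ S is
equidimensional at x. -/
theorem result {X S : Scheme.{u}} (f : X ⟶ S) [LocallyOfFiniteType f]
    [UniversallyOpen f] (x : X) :
    ∃ W : TopologicalSpace.Closeds X, (W : Set X) ∈ irreducibleComponents (X : Type u) ∧
      ∃ w : ↥((Scheme.IdealSheafData.vanishingIdeal W).subscheme),
        (Scheme.IdealSheafData.vanishingIdeal W).subschemeι.base w = x ∧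
        EGA43.IsEquidimAt ((Scheme.IdealSheafData.vanishingIdeal W).subschemeι ≫ f) w := by
  obtain ⟨ζ, m, hζx, hζf, hζmax, hmζ, hfd⟩ :=
    Groth.Agent.Lib.Helper73.SchemeDim.exists_maximal_in_fibre_trdeg_eq_fibreDimAt f x
  have htdζ : tdR f ζ = m := tdR_eq_of_trdegAt_eq f hmζ
  have hmax' : ∀ x' : X, f.base x' = f.base ζ → x' ⤳ ζ → x' = ζ := fun x' hf hsp => hζmax x' hsp hf
  have hU := Groth.Agent.Lib.Helper70.UnivOpenAt.isUnivOpenAt_of_universallyOpen f ζ
  obtain ⟨η₀, hη₀max, hη₀⟩ :=
    Groth.Agent.Lib.Helper73.SchemeDim.exists_maximal_specializes (f.base ζ)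
  obtain ⟨τ, hτζ, hfτ, hτmax, htd⟩ := exists_maximal_of_dim_le f ζ hmax'
    (fun U hζU y' hy' => dim_le_of_isUnivOpenAt f ζ hmax' hU U hζU y' hy') η₀ hη₀max hη₀
  have htrτ : @Algebra.trdeg (S.residueField (f.base τ)) (X.residueField τ) _ _
      (f.residueFieldMap τ).hom.toAlgebra = m := by
    have := trdegAt_eq_tdR f τ
    rw [htd, htdζ] at this
    exact this
  let W : TopologicalSpace.Closeds X := ⟨closure {τ}, isClosed_closure⟩
  have hW : (W : Set X) ∈ irreducibleComponents (X : Type u) :=
    Groth.Agent.Lib.Helper73.SchemeDim.closure_singleton_mem_irreducibleComponents_of_maximal τ hτmax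
  have hrange : Set.range (Scheme.IdealSheafData.vanishingIdeal W).subschemeι.base = closure {τ} := by
    rw [Scheme.IdealSheafData.range_subschemeι, Scheme.IdealSheafData.coe_support_vanishingIdeal]
    rfl
  obtain ⟨w, hw⟩ : x ∈ Set.range (Scheme.IdealSheafData.vanishingIdeal W).subschemeι.base := by
    rw [hrange]; exact specializes_iff_mem_closure.mp (hτζ.trans hζx)
  refine ⟨W, hW, w, hw, ?_⟩
  exact isEquidimAt_component f x τ (by rw [hfτ]; exact hη₀max) m htrτ hfd _ hrange w hw

end Groth.Agent.S14075
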