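import Groth.Statements.S14076
import Mathlib
import Groth.Agent.Lib.Helper82.EquidimBC
-- import your own Groth.Agent.* helpers here

set_option autoImplicit false
open CategoryTheory AlgebraicGeometry
universe u
open FamCyc

namespace Groth.Agent.S14076

set_option linter.style.haveILetI false
open Groth.Agent.Lib.Helper73.DimFormula Groth.Agent.Lib.Helper73.RelHt
open Groth.Agent.Lib.Helper73.SchemeDim Groth.Agent.Lib.Helper82.EquidimBC

/-- Let f : X ⟶ S be locally of finite type and equidimensional at every point of X. Then every point x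
of X lies on an irreducible component W of X, given its reduced subscheme structure, such that W ⟶ S
is equidimensional at x. -/
theorem result {X S : Scheme.{u}} (f : X ⟶ S) [LocallyOfFiniteType f]
    (h : ∀ x : X, EGA43.IsEquidimAt f x) (x : X) :
    ∃ W : TopologicalSpace.Closeds X, (W : Set X) ∈ irreducibleComponents (X : Type u) ∧
      ∃ w : ↥((Scheme.IdealSheafData.vanishingIdeal W).subscheme),
        (Scheme.IdealSheafData.vanishingIdeal W).subschemeι.base w = x ∧
        EGA43.IsEquidimAt ((Scheme.IdealSheafData.vanishingIdeal W).subschemeι ≫ f) w := by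
  obtain ⟨e, U, hxU, hA, hB⟩ := (isEquidimAt_iff' f x).1 (h x)
  have hfdU : ∀ z : X, z ∈ U → FlatMor.fibreDimAt f z = (e : WithBot ℕ∞) := by
    intro z hz
    obtain ⟨ζ, m, hζsp, hζf, hζmax, hmζ, hF⟩ := exists_maximal_in_fibre_trdeg_eq_fibreDimAt f z
    have hζU : ζ ∈ U := hζsp.mem_open U.isOpen hz
    have h3 := hB ζ hζU hζmax
    have h4 : ((m : ℕ) : Cardinal.{u}) = e := by rw [← hmζ, ← h3]
    have hne : m = e := by exact_mod_cast h4
    rw [hF, hne]
  obtain ⟨ξ, hξmax, hξx⟩ := exists_maximal_specializes x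
  have hξU : ξ ∈ U := hξx.mem_open U.isOpen hxU
  obtain ⟨W, hWdef⟩ : ∃ W : TopologicalSpace.Closeds X, W = ⟨closure {ξ}, isClosed_closure⟩ :=
    ⟨_, rfl⟩
  have hWcoe : (W : Set X) = closure {ξ} := by rw [hWdef]; rfl
  have hW : (W : Set X) ∈ irreducibleComponents (X : Type u) := by
    rw [hWcoe]
    exact closure_singleton_mem_irreducibleComponents_of_maximal ξ hξmax
  obtain ⟨ι, hι⟩ : ∃ ι : (Scheme.IdealSheafData.vanishingIdeal W).subscheme ⟶ X,
      ι = (Scheme.IdealSheafData.vanishingIdeal W).subschemeι := ⟨_, rfl⟩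
  have hrange : Set.range ι.base = closure {ξ} := by
    rw [hι, Scheme.IdealSheafData.range_subschemeι, Scheme.IdealSheafData.coe_support_vanishingIdeal]
    exact hWcoe
  obtain ⟨w, hw⟩ : x ∈ Set.range ι.base := by rw [hrange]; exact hξx.mem_closure
  obtain ⟨ξ', hξ'⟩ : ξ ∈ Set.range ι.base := by rw [hrange]; exact subset_closure rfl
  haveI : IsClosedImmersion ι := by rw [hι]; infer_instance
  refine ⟨W, hW, w, by rw [← hι]; exact hw, ?_⟩
  rw [← hι]
  refine (isEquidimAt_iff' (ι ≫ f) w).2 ⟨e, ι ⁻¹ᵁ U, by change ι.base w ∈ U; rw [hw]; exact hxU, ?_, ?_⟩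
  · intro ζ hζU hζmax
    have hζξ : ι.base ζ = ξ := by
      have h1 : ξ ⤳ ι.base ζ := by
        rw [specializes_iff_mem_closure, ← hrange]; exact Set.mem_range_self ζ
      have h2 : ξ' ⤳ ζ := by
        rw [← ι.isEmbedding.isInducing.specializes_iff, hξ']; exact h1
      rw [← hζmax ξ' h2, hξ']
    obtain ⟨h1, h2⟩ := hA ξ hξU hξmax
    have e1 : (ι ≫ f).base ζ = f.base ξ := by rw [Scheme.Hom.comp_apply, hζξ]
    have e2 : (ι ≫ f).base w = f.base x := by rw [Scheme.Hom.comp_apply, hw]
    rw [e1, e2]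
    exact ⟨h1, h2⟩
  · intro z hzU hzmax
    obtain ⟨m, hm⟩ := exists_trdeg_residueField_eq_nat' (ι ≫ f) z
    have hcomp := trdeg_residueFieldMap_comp ι f z
    have h1 : (m : WithBot ℕ∞) ≤ FlatMor.fibreDimAt f (ι.base z) :=
      trdeg_le_fibreDimAt' f (specializes_refl _) m (by rw [← hcomp]; exact hm)
    rw [hfdU _ hzU] at h1
    have hle : m ≤ e := by exact_mod_cast h1
    have hξ'z : ξ' ⤳ z := by
      rw [← ι.isEmbedding.isInducing.specializes_iff, hξ', specializes_iff_mem_closure, ← hrange]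
      exact Set.mem_range_self z
    have htrξ : @Algebra.trdeg (S.residueField ((ι ≫ f).base ξ'))
        ((Scheme.IdealSheafData.vanishingIdeal W).subscheme.residueField ξ') _ _
        ((ι ≫ f).residueFieldMap ξ').hom.toAlgebra = e := by
      rw [trdeg_residueFieldMap_comp ι f ξ', trdeg_residueFieldMap_congr_pt f hξ']
      exact hB ξ hξU (fun z' hsp _ => hξmax z' hsp)
    have h2 := trdeg_le_fibreDimAt' (ι ≫ f) hξ'z e htrξ
    have h3 := fibreDimAt_eq_trdeg_of_maximal_in_fibre (ι ≫ f) z hzmax m hm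
    rw [h3] at h2
    have hge : e ≤ m := by exact_mod_cast h2
    rw [hm, le_antisymm hle hge]

end Groth.Agent.S14076
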