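import Groth.Statements.S14078
-- import your own Groth.Agent.* helpers here
import Mathlib
import Groth.Agent.S1353

set_option autoImplicit false
open CategoryTheory CategoryTheory.Limits AlgebraicGeometry
universe u
open FamCyc

namespace Groth.Agent.S14078

open CategoryTheory CategoryTheory.Limits AlgebraicGeometry

set_option maxHeartbeats 1000000 in
theorem main {Z X S : Scheme.{u}} (f : X ⟶ S)
    [LocallyOfFiniteType f] (i : Z ⟶ X) [IsImmersion i] [LocallyQuasiFinite (i ≫ f)] (z : Z) :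
    ∃ (T : Scheme.{u}) (g : T ⟶ S) (U : (pullback f g).Opens)
      (u : ↥(pullback (U.ι ≫ pullback.fst f g) i)),
      Etale g ∧
      IsFinite (pullback.fst (U.ι ≫ pullback.fst f g) i ≫ U.ι ≫ pullback.snd f g) ∧
      (pullback.snd (U.ι ≫ pullback.fst f g) i).base u = z ∧
      IsIso ((pullback.snd (U.ι ≫ pullback.fst f g) i).residueFieldMap u) ∧
      ∀ u' : ↥(pullback (U.ι ≫ pullback.fst f g) i),
        (pullback.fst (U.ι ≫ pullback.fst f g) i ≫ U.ι ≫ pullback.snd f g).base u' =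
          (pullback.fst (U.ι ≫ pullback.fst f g) i ≫ U.ι ≫ pullback.snd f g).base u → u' = u := by
  haveI : LocallyOfFiniteType (i ≫ f) := inferInstance
  have hqf : (i ≫ f).QuasiFiniteAt z := (i ≫ f).quasiFiniteAt z
  obtain ⟨T, g, u₀, hnb, V₀, v, hvV₀, hfin, hvu₀, huniq, hvz, hres⟩ :=
    Groth.Agent.S1353.result (i ≫ f) z hqf
  haveI := hnb.etale
  -- the base change of `i`
  obtain ⟨iT, hiT⟩ : ∃ iT : pullback (i ≫ f) g ⟶ pullback f g,
      iT = (pullbackRightPullbackFstIso f g i).inv ≫ pullback.snd i (pullback.fst f g) :=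
    ⟨_, rfl⟩
  haveI : IsImmersion iT := by rw [hiT]; infer_instance
  have hiT1 : iT ≫ pullback.fst f g = pullback.fst (i ≫ f) g ≫ i := by
    rw [hiT, Category.assoc, ← pullback.condition, ← Category.assoc,
      pullbackRightPullbackFstIso_inv_fst]
  have hiT2 : iT ≫ pullback.snd f g = pullback.snd (i ≫ f) g := by
    rw [hiT, Category.assoc, pullbackRightPullbackFstIso_inv_snd_snd]
  obtain ⟨Ω, hΩ, hΩeq⟩ := iT.isEmbedding.isInducing.isOpen_iff.1 V₀.isOpen
  obtain ⟨U, hU⟩ : ∃ U : (pullback f g).Opens, U = ⟨Ω, hΩ⟩ := ⟨_, rfl⟩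
  have hUV₀ : ∀ w : ↥(pullback (i ≫ f) g), iT w ∈ U ↔ w ∈ V₀ := by
    intro w
    rw [hU]
    show w ∈ iT ⁻¹' Ω ↔ _
    rw [hΩeq]
    rfl
  -- the comparison map
  obtain ⟨θ, hθ⟩ : ∃ θ : pullback (U.ι ≫ pullback.fst f g) i ⟶ pullback (i ≫ f) g,
      θ = pullback.lift (pullback.snd _ _) (pullback.fst _ _ ≫ U.ι ≫ pullback.snd f g)
        (by rw [← Category.assoc, ← pullback.condition, Category.assoc, Category.assoc,
          Category.assoc, Category.assoc, pullback.condition]) := ⟨_, rfl⟩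
  have hθ1 : θ ≫ pullback.fst (i ≫ f) g = pullback.snd (U.ι ≫ pullback.fst f g) i := by
    rw [hθ]; exact pullback.lift_fst _ _ _
  have hθ2 : θ ≫ pullback.snd (i ≫ f) g =
      pullback.fst (U.ι ≫ pullback.fst f g) i ≫ U.ι ≫ pullback.snd f g := by
    rw [hθ]; exact pullback.lift_snd _ _ _
  have hθi : θ ≫ iT = pullback.fst (U.ι ≫ pullback.fst f g) i ≫ U.ι := by
    apply pullback.hom_ext
    · rw [Category.assoc, hiT1, ← Category.assoc, hθ1, Category.assoc, pullback.condition]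
    · rw [Category.assoc, hiT2, hθ2, Category.assoc]
  have hθrange : Set.range θ ⊆ Set.range V₀.ι := by
    rintro _ ⟨w, rfl⟩
    rw [Scheme.Opens.range_ι]
    show θ w ∈ V₀
    rw [← hUV₀, ← Scheme.Hom.comp_apply, hθi, Scheme.Hom.comp_apply]
    exact (pullback.fst (U.ι ≫ pullback.fst f g) i w).2
  obtain ⟨Θh, hΘh⟩ : ∃ Θh : pullback (U.ι ≫ pullback.fst f g) i ⟶ (V₀ : Scheme.{u}),
      Θh ≫ V₀.ι = θ := ⟨IsOpenImmersion.lift V₀.ι θ hθrange, IsOpenImmersion.lift_fac _ _ _⟩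
  have hκrange : Set.range (V₀.ι ≫ iT) ⊆ Set.range U.ι := by
    rintro _ ⟨w, rfl⟩
    rw [Scheme.Opens.range_ι, Scheme.Hom.comp_apply]
    show iT (V₀.ι w) ∈ U
    rw [hUV₀]
    exact w.2
  obtain ⟨κ, hκ⟩ : ∃ κ : (V₀ : Scheme.{u}) ⟶ (U : Scheme.{u}), κ ≫ U.ι = V₀.ι ≫ iT :=
    ⟨IsOpenImmersion.lift U.ι (V₀.ι ≫ iT) hκrange, IsOpenImmersion.lift_fac _ _ _⟩
  obtain ⟨Θi, hΘi⟩ : ∃ Θi : (V₀ : Scheme.{u}) ⟶ pullback (U.ι ≫ pullback.fst f g) i,
      Θi = pullback.lift κ (V₀.ι ≫ pullback.fst (i ≫ f) g)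
        (by rw [← Category.assoc, hκ, Category.assoc, hiT1, Category.assoc]) := ⟨_, rfl⟩
  have hΘi1 : Θi ≫ pullback.fst (U.ι ≫ pullback.fst f g) i = κ := by
    rw [hΘi]; exact pullback.lift_fst _ _ _
  have hΘi2 : Θi ≫ pullback.snd (U.ι ≫ pullback.fst f g) i = V₀.ι ≫ pullback.fst (i ≫ f) g := by
    rw [hΘi]; exact pullback.lift_snd _ _ _
  have hinv1 : Θh ≫ Θi = 𝟙 _ := by
    apply pullback.hom_ext
    · rw [Category.assoc, hΘi1, Category.id_comp, ← cancel_mono U.ι, Category.assoc, hκ,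
        ← Category.assoc, hΘh, hθi]
    · rw [Category.assoc, hΘi2, ← Category.assoc, hΘh, hθ1, Category.id_comp]
  have hinv2 : Θi ≫ Θh = 𝟙 _ := by
    rw [← cancel_mono V₀.ι, Category.assoc, hΘh, Category.id_comp]
    apply pullback.hom_ext
    · rw [Category.assoc, hθ1, hΘi2]
    · rw [Category.assoc, hθ2, ← Category.assoc, hΘi1, ← Category.assoc, hκ, Category.assoc, hiT2]
  haveI : IsIso Θh := ⟨Θi, hinv1, hinv2⟩
  have hstruct : pullback.fst (U.ι ≫ pullback.fst f g) i ≫ U.ι ≫ pullback.snd f g =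
      Θh ≫ V₀.ι ≫ pullback.snd (i ≫ f) g := by
    rw [← Category.assoc Θh, hΘh, hθ2]
  have hsnd : pullback.snd (U.ι ≫ pullback.fst f g) i =
      Θh ≫ V₀.ι ≫ pullback.fst (i ≫ f) g := by
    rw [← Category.assoc Θh, hΘh, hθ1]
  have hΘpt : Θh (Θi ⟨v, hvV₀⟩) = ⟨v, hvV₀⟩ := by
    rw [← Scheme.Hom.comp_apply, hinv2]
    rfl
  refine ⟨T, g, U, Θi ⟨v, hvV₀⟩, inferInstance, ?_, ?_, ?_, ?_⟩
  · rw [hstruct]
    haveI := hfin
    infer_instance
  · rw [hsnd]
    show (Θh ≫ V₀.ι ≫ pullback.fst (i ≫ f) g) (Θi ⟨v, hvV₀⟩) = z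
    rw [Scheme.Hom.comp_apply, hΘpt, Scheme.Hom.comp_apply]
    exact hvz
  · rw [hsnd]
    rw [Scheme.residueFieldMap_comp, Scheme.residueFieldMap_comp]
    haveI : IsIso ((pullback.fst (i ≫ f) g).residueFieldMap
        (V₀.ι (Θh (Θi ⟨v, hvV₀⟩)))) := by
      rw [hΘpt]
      exact (ConcreteCategory.isIso_iff_bijective _).2 hres
    haveI h2 : IsIso (V₀.ι.residueFieldMap (Θh (Θi ⟨v, hvV₀⟩))) := inferInstance
    haveI h3 : IsIso (Θh.residueFieldMap (Θi ⟨v, hvV₀⟩)) := inferInstance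
    exact IsIso.comp_isIso' (IsIso.comp_isIso' this h2) h3
  · intro u' hu'
    rw [hstruct] at hu'
    have h1 : (V₀.ι ≫ pullback.snd (i ≫ f) g) (Θh u') =
        (V₀.ι ≫ pullback.snd (i ≫ f) g) (Θh (Θi ⟨v, hvV₀⟩)) := hu'
    rw [hΘpt, Scheme.Hom.comp_apply, Scheme.Hom.comp_apply] at h1
    have h2 : V₀.ι (Θh u') = v := huniq _ (Θh u').2 (h1.trans hvu₀)
    have h3 : Θh u' = ⟨v, hvV₀⟩ := Subtype.ext h2
    rw [← hΘpt] at h3
    exact Θh.isOpenEmbedding.injective h3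

/-- Let f : X ⟶ S be a morphism of schemes locally of finite type, i : Z ⟶ X an immersion such that Z ⟶
S is locally quasi-finite, and z a point of Z. Then there are an étale morphism g : T ⟶ S and an
open subscheme U of X ×_S T such that the preimage U ×_X Z of Z in U is finite over T and contains a
point u over z whose residue field extension κ(z) → κ(u) is an isomorphism, u being moreover the
only point of U ×_X Z in its fibre over T. (The published statement covers algebraic spaces X, with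
U ⟶ X ×_S T étale in general and an open subspace when X is a scheme; this row is the scheme case.) -/
theorem result {Z X S : Scheme.{u}} (f : X ⟶ S)
    [LocallyOfFiniteType f] (i : Z ⟶ X) [IsImmersion i] [LocallyQuasiFinite (i ≫ f)] (z : Z) :
    ∃ (T : Scheme.{u}) (g : T ⟶ S) (U : (pullback f g).Opens)
      (u : ↥(pullback (U.ι ≫ pullback.fst f g) i)),
      Etale g ∧
      IsFinite (pullback.fst (U.ι ≫ pullback.fst f g) i ≫ U.ι ≫ pullback.snd f g) ∧
      (pullback.snd (U.ι ≫ pullback.fst f g) i).base u = z ∧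
      IsIso ((pullback.snd (U.ι ≫ pullback.fst f g) i).residueFieldMap u) ∧
      ∀ u' : ↥(pullback (U.ι ≫ pullback.fst f g) i),
        (pullback.fst (U.ι ≫ pullback.fst f g) i ≫ U.ι ≫ pullback.snd f g).base u' =
          (pullback.fst (U.ι ≫ pullback.fst f g) i ≫ U.ι ≫ pullback.snd f g).base u → u' = u := by
  exact main f i z

end Groth.Agent.S14078
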