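import Groth.Statements.S14079
import Mathlib
import Groth.Agent.Lib.Helper82.EquidimBC
-- import your own Groth.Agent.* helpers here

set_option autoImplicit false
open CategoryTheory AlgebraicGeometry
universe u
open FamCyc

namespace Groth.Agent.S14079

set_option linter.style.haveILetI false
open Groth.Agent.Lib.Helper73.DimFormula Groth.Agent.Lib.Helper73.RelHt
open Groth.Agent.Lib.Helper73.SchemeDim Groth.Agent.Lib.Helper82.EquidimBC

/-- (iv) ⇒ (iii): let f : X ⟶ S be locally of finite type. Suppose that every point x of X which is a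
maximal point of its fibre (no other point of the fibre over f x specializes to x) lies on an
irreducible component W of X, given its reduced subscheme structure, with W ⟶ S equidimensional at
x. Then every point of X lies on such an irreducible component. -/
theorem result {X S : Scheme.{u}} (f : X ⟶ S) [LocallyOfFiniteType f]
    (h : ∀ x : X, (∀ x' : X, f.base x' = f.base x → x ∈ closure ({x'} : Set X) → x' = x) →
      ∃ W : TopologicalSpace.Closeds X, (W : Set X) ∈ irreducibleComponents (X : Type u) ∧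
      ∃ w : ↥((Scheme.IdealSheafData.vanishingIdeal W).subscheme),
        (Scheme.IdealSheafData.vanishingIdeal W).subschemeι.base w = x ∧
        EGA43.IsEquidimAt ((Scheme.IdealSheafData.vanishingIdeal W).subschemeι ≫ f) w)
    (x : X) :
    ∃ W : TopologicalSpace.Closeds X, (W : Set X) ∈ irreducibleComponents (X : Type u) ∧
      ∃ w : ↥((Scheme.IdealSheafData.vanishingIdeal W).subscheme),
        (Scheme.IdealSheafData.vanishingIdeal W).subschemeι.base w = x ∧
        EGA43.IsEquidimAt ((Scheme.IdealSheafData.vanishingIdeal W).subschemeι ≫ f) w := by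
  -- a maximal point `z` of the fibre through `x` realizing the local fibre dimension
  obtain ⟨z, d, hzx, hzf, hzmax, hdz, hFx⟩ := exists_maximal_in_fibre_trdeg_eq_fibreDimAt f x
  obtain ⟨W, hW, wz, hwz, hEq⟩ := h z (by
    intro x' hfx' hcl
    exact hzmax x' (specializes_iff_mem_closure.mpr hcl) hfx')
  obtain ⟨ι, hι⟩ : ∃ ι : (Scheme.IdealSheafData.vanishingIdeal W).subscheme ⟶ X,
      ι = (Scheme.IdealSheafData.vanishingIdeal W).subschemeι := ⟨_, rfl⟩
  rw [← hι] at hwz hEq
  haveI : IsClosedImmersion ι := by rw [hι]; infer_instance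
  have hrange : Set.range ι.base = (W : Set X) := by
    rw [hι, Scheme.IdealSheafData.range_subschemeι, Scheme.IdealSheafData.coe_support_vanishingIdeal]
  obtain ⟨ξ, hξmax, hξW⟩ := exists_maximal_closure_eq_of_mem_irreducibleComponents hW
  obtain ⟨ξ', hξ'⟩ : ξ ∈ Set.range ι.base := by
    rw [hrange, ← hξW]; exact subset_closure rfl
  have hxW : x ∈ (W : Set X) := by
    have : z ∈ (W : Set X) := by rw [← hrange, ← hwz]; exact Set.mem_range_self _
    exact (W.isClosed.closure_subset_iff.mpr (Set.singleton_subset_iff.mpr this)) hzx.mem_closure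
  obtain ⟨wx, hwx⟩ : x ∈ Set.range ι.base := by rw [hrange]; exact hxW
  have hgen : ∀ a : ↥((Scheme.IdealSheafData.vanishingIdeal W).subscheme), ξ' ⤳ a := by
    intro a
    rw [← ι.isEmbedding.isInducing.specializes_iff, hξ', specializes_iff_mem_closure, hξW, ← hrange]
    exact Set.mem_range_self a
  have hξ'max : ∀ a : ↥((Scheme.IdealSheafData.vanishingIdeal W).subscheme), a ⤳ ξ' → a = ξ' := by
    intro a ha
    apply ι.isEmbedding.injective
    rw [hξ']
    apply hξmax
    have := ha.map ι.continuous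
    rwa [hξ'] at this
  obtain ⟨e, U', hwzU', hA, hB⟩ := (isEquidimAt_iff' (ι ≫ f) wz).1 hEq
  have hξ'U' : ξ' ∈ U' := (hgen wz).mem_open U'.isOpen hwzU'
  -- `e = d`
  have hwzmax : ∀ a : ↥((Scheme.IdealSheafData.vanishingIdeal W).subscheme), a ⤳ wz →
      (ι ≫ f).base a = (ι ≫ f).base wz → a = wz := by
    intro a ha hfa
    apply ι.isEmbedding.injective
    rw [hwz]
    apply hzmax
    · have := ha.map ι.continuous
      rwa [hwz] at this
    · have h1 : (ι ≫ f).base a = f.base (ι.base a) := Scheme.Hom.comp_apply _ _ _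
      have h2 : (ι ≫ f).base wz = f.base (ι.base wz) := Scheme.Hom.comp_apply _ _ _
      rw [← h1, hfa, h2, hwz]
  have hed : e = d := by
    have h1 := hB wz hwzU' hwzmax
    rw [trdeg_residueFieldMap_comp ι f wz, trdeg_residueFieldMap_congr_pt f hwz, hdz] at h1
    exact_mod_cast h1.symm
  have htrξ : @Algebra.trdeg (S.residueField ((ι ≫ f).base ξ'))
      ((Scheme.IdealSheafData.vanishingIdeal W).subscheme.residueField ξ') _ _
      ((ι ≫ f).residueFieldMap ξ').hom.toAlgebra = e :=
    hB ξ' hξ'U' (fun a ha _ => hξ'max a ha)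
  -- the open set where the fibre dimension of `W ⟶ S` is at most `e`
  have hopen := isOpen_setOf_fibreDimAt_le (ι ≫ f) e
  have hwxle : FlatMor.fibreDimAt (ι ≫ f) wx ≤ (e : WithBot ℕ∞) := by
    obtain ⟨ζ', m, hζ'sp, hζ'f, -, hmζ', hF'⟩ :=
      exists_maximal_in_fibre_trdeg_eq_fibreDimAt (ι ≫ f) wx
    rw [hF']
    have h1 : ι.base ζ' ⤳ x := by
      have := hζ'sp.map ι.continuous
      rwa [hwx] at this
    have h2 := trdeg_le_fibreDimAt' f h1 m (by
      rw [← trdeg_residueFieldMap_comp ι f ζ']; exact hmζ')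
    rw [hFx, ← hed] at h2
    exact h2
  refine ⟨W, hW, wx, by rw [← hι]; exact hwx, ?_⟩
  rw [← hι]
  refine (isEquidimAt_iff' (ι ≫ f) wx).2
    ⟨e, ⟨{a | FlatMor.fibreDimAt (ι ≫ f) a ≤ (e : WithBot ℕ∞)}, hopen⟩, hwxle, ?_, ?_⟩
  · intro a _ hamax
    have ha : a = ξ' := (hamax ξ' (hgen a)).symm
    subst ha
    refine ⟨(hA _ hξ'U' hamax).1, ?_⟩
    exact (hgen wx).map (ι ≫ f).continuous
  · intro a haU hamax
    obtain ⟨m, hm⟩ := exists_trdeg_residueField_eq_nat' (ι ≫ f) a
    have h3 := fibreDimAt_eq_trdeg_of_maximal_in_fibre (ι ≫ f) a hamax m hm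
    have hle : m ≤ e := by
      have : FlatMor.fibreDimAt (ι ≫ f) a ≤ (e : WithBot ℕ∞) := haU
      rw [h3] at this
      exact_mod_cast this
    have h2 := trdeg_le_fibreDimAt' (ι ≫ f) (hgen a) e htrξ
    rw [h3] at h2
    have hge : e ≤ m := by exact_mod_cast h2
    rw [hm, le_antisymm hle hge]

end Groth.Agent.S14079
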