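import Groth.Statements.S14081
import Groth.Agent.Lib.Helper76.ArInvEven

set_option autoImplicit false
universe u
open ArSing

open Groth.Agent.Lib.Helper76.ArNF Groth.Agent.Lib.Helper76.ArInvNode
  Groth.Agent.Lib.Helper76.ArInvGen Groth.Agent.Lib.Helper76.ArInvEven

namespace Groth.Agent.S14081

section helpers

variable {k : Type u} [Field k]

lemma cc_N (f : PowerSeries k) :
    PowerSeries.constantCoeff (N f) = PowerSeries.constantCoeff f := by
  rw [← PowerSeries.coeff_zero_eq_constantCoeff_apply, coeff_N, pow_zero, one_mul,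
    PowerSeries.coeff_zero_eq_constantCoeff_apply]

/-- compatible roots: the image of the uniformiser under the lifted involution -/
lemma exists_root [IsAlgClosed k] (h2 : (2 : k) ≠ 0) {r : ℕ} (hev : Even r) {S Y : PowerSeries k}
    (hS0 : PowerSeries.constantCoeff S = 0) (hS : S ≠ 0) (hYS : Y ^ 2 = S ^ (r + 1)) :
    ∃ s₁ : PowerSeries k, PowerSeries.constantCoeff s₁ = 0 ∧ s₁ ^ 2 = S ∧ s₁ ^ (r + 1) = Y := by
  have hodd : Odd (r + 1) := hev.add_one
  obtain ⟨n, w, hSw, hw⟩ := exists_X_pow_mul_ps hS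
  have hY : Y ≠ 0 := by
    intro h
    rw [h, zero_pow two_ne_zero] at hYS
    exact pow_ne_zero _ hS hYS.symm
  obtain ⟨l, v, hYv, hv⟩ := exists_X_pow_mul_ps hY
  have h1 : PowerSeries.X ^ (2 * l) * v ^ 2 = PowerSeries.X ^ (n * (r + 1)) * w ^ (r + 1) := by
    calc PowerSeries.X ^ (2 * l) * v ^ 2 = (PowerSeries.X ^ l * v) ^ 2 := by ring
      _ = Y ^ 2 := by rw [← hYv]
      _ = S ^ (r + 1) := hYS
      _ = (PowerSeries.X ^ n * w) ^ (r + 1) := by rw [← hSw]
      _ = PowerSeries.X ^ (n * (r + 1)) * w ^ (r + 1) := by ring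
  have hv2 : PowerSeries.constantCoeff (v ^ 2) ≠ 0 := by
    rw [map_pow]; exact pow_ne_zero _ hv
  have hw2 : PowerSeries.constantCoeff (w ^ (r + 1)) ≠ 0 := by
    rw [map_pow]; exact pow_ne_zero _ hw
  obtain ⟨hnl, hvw⟩ := X_pow_mul_inj hv2 hw2 h1
  have hne : Even n := by
    have : Even (n * (r + 1)) := ⟨l, by rw [← hnl]; ring⟩
    rcases Nat.even_mul.mp this with h | h
    · exact h
    · exact absurd h (Nat.not_even_iff_odd.mpr hodd)
  obtain ⟨a, ha⟩ := hne
  have hl : l = a * (r + 1) := by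
    have : 2 * l = 2 * (a * (r + 1)) := by rw [hnl, ha]; ring
    exact Nat.eq_of_mul_eq_mul_left two_pos this
  have ha1 : a ≠ 0 := by
    rintro rfl
    apply hw
    have : S = w := by rw [hSw, ha]; simp
    rw [← this]
    exact hS0
  obtain ⟨ρ₀, hρ₀⟩ : ∃ ρ₀ : PowerSeries k, ρ₀ ^ 2 = w := by
    obtain ⟨ρ, hρ, -⟩ := Groth.Agent.Lib.Helper76.ArCls.exists_sq_eq h2 (σ := Unit) (ε := w) hw
    exact ⟨ρ, hρ⟩
  have hsq : (v - ρ₀ ^ (r + 1)) * (v + ρ₀ ^ (r + 1)) = 0 := by
    have : (ρ₀ ^ (r + 1)) ^ 2 = w ^ (r + 1) := by rw [← hρ₀]; ring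
    linear_combination hvw - this
  obtain ⟨ρ, hρ2, hρv⟩ : ∃ ρ : PowerSeries k, ρ ^ 2 = w ∧ ρ ^ (r + 1) = v := by
    rcases mul_eq_zero.mp hsq with h | h
    · exact ⟨ρ₀, hρ₀, (sub_eq_zero.mp h).symm⟩
    · refine ⟨-ρ₀, by rw [neg_sq, hρ₀], ?_⟩
      rw [hodd.neg_pow]
      linear_combination -h
  refine ⟨PowerSeries.X ^ a * ρ, ?_, ?_, ?_⟩
  · rw [map_mul, map_pow, PowerSeries.constantCoeff_X, zero_pow ha1, zero_mul]
  · rw [hSw, ha, mul_pow, hρ2]; ring
  · rw [hYv, hl, mul_pow, hρv]; ring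

end helpers

/-- Over an algebraically closed field k of characteristic prime to 2 and to r+1, with r even, every
non-trivial k-algebra involution σ of A_r = k[[x,y]]/(y^2 - x^(r+1)) is conjugate, by a k-algebra
automorphism φ of A_r, to the involution x ↦ x, y ↦ -y (that is, φ⁻¹σφ fixes the class of x and
negates the class of y). -/
theorem result (k : Type u) [Field k] [IsAlgClosed k] (r : ℕ)
    (h2 : (2 : k) ≠ 0) (hr : ((r + 1 : ℕ) : k) ≠ 0) (hev : Even r)
    (σ : ArSing.ring k r ≃ₐ[k] ArSing.ring k r) (hσ : ∀ a, σ (σ a) = a) (hne : σ ≠ AlgEquiv.refl) :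
    ∃ φ : ArSing.ring k r ≃ₐ[k] ArSing.ring k r,
      φ.symm (σ (φ (ArSing.x k r))) = ArSing.x k r ∧
      φ.symm (σ (φ (ArSing.y k r))) = -ArSing.y k r := by
  have hodd : Odd (r + 1) := hev.add_one
  have hinj := nu_injective (k := k) (r := r) h2 hev
  have hYS : nu r (σ (y k r)) ^ 2 = nu r (σ (x k r)) ^ (r + 1) := by
    have h := congrArg (fun z => nu r (σ z)) (y_sq (k := k) (r := r))
    simpa only [map_pow] using h
  have hx_ne : x k r ≠ 0 := by
    intro h
    have := congrArg (nu r) h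
    rw [nu_x, map_zero] at this
    exact pow_ne_zero 2 PowerSeries.X_ne_zero this
  have hS_ne : nu r (σ (x k r)) ≠ 0 := by
    intro h
    have h1 : σ (x k r) = 0 := hinj (by rw [h, map_zero])
    have h3 := congrArg σ h1
    rw [hσ, map_zero] at h3
    exact hx_ne h3
  have hS0 : PowerSeries.constantCoeff (nu r (σ (x k r))) = 0 :=
    constantCoeff_eq_zero_of_not_isUnit ((nu r).comp (σ : ring k r →ₐ[k] ring k r)) not_isUnit_x
  obtain ⟨s₁, hs₁0, hs₁S, hs₁Y⟩ := exists_root h2 hev hS0 hS_ne hYS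
  obtain ⟨Sg, hSg⟩ := exists_sub s₁ hs₁0
  have hc : ∀ a, nu r (σ a) = Sg (nu r a) := by
    have : (nu r).comp (σ : ring k r →ₐ[k] ring k r) = Sg.comp (nu r) := by
      apply algHom_ext_Q
      · show nu r (σ (x k r)) = Sg (nu r (x k r))
        rw [nu_x, map_pow, hSg, hs₁S]
      · show nu r (σ (y k r)) = Sg (nu r (y k r))
        rw [nu_y, map_pow, hSg, hs₁Y]
    exact fun a => AlgHom.congr_fun this a
  have hz2 : Sg (Sg PowerSeries.X) ^ 2 = PowerSeries.X ^ 2 := by
    rw [← map_pow, ← map_pow, ← nu_x (k := k) (r := r), ← hc, ← hc, hσ]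
  have hzr : Sg (Sg PowerSeries.X) ^ (r + 1) = PowerSeries.X ^ (r + 1) := by
    rw [← map_pow, ← map_pow, ← nu_y (k := k) (r := r), ← hc, ← hc, hσ]
  have hz : Sg (Sg PowerSeries.X) = PowerSeries.X := by
    rcases sq_eq_sq_iff_eq_or_eq_neg.mp hz2 with h | h
    · exact h
    · exfalso
      rw [h, hodd.neg_pow] at hzr
      have h3 : (2 : PowerSeries k) * PowerSeries.X ^ (r + 1) = 0 := by linear_combination -hzr
      exact mul_ne_zero (two_ne_zero_ps h2) (pow_ne_zero _ PowerSeries.X_ne_zero) h3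
  have hinv : ∀ f, Sg (Sg f) = f := by
    have hC : ∀ c : k, Sg (PowerSeries.C c) = PowerSeries.C c := fun c => Sg.commutes c
    have := ps_endo_ext ((Sg.comp Sg).toRingHom) (RingHom.id _) (fun c => by
        show Sg (Sg (PowerSeries.C c)) = PowerSeries.C c
        rw [hC, hC]) hz (by show PowerSeries.X ∣ Sg (Sg PowerSeries.X); rw [hz])
    exact fun f => RingHom.congr_fun this f
  obtain ⟨ξ, τ, hξ, hξdef, hτX, hτ, hid⟩ := exists_linearise h2 Sg hinv
  rcases hξ with rfl | rfl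
  · exfalso
    apply hne
    ext a
    apply hinj
    show nu r (σ a) = nu r a
    rw [hc, hid rfl]
  · rw [hSg] at hξdef hτX
    obtain ⟨t, ht⟩ : ∃ t, t = τ PowerSeries.X := ⟨_, rfl⟩
    rw [← ht] at hτX hτ
    have ht_def : t = PowerSeries.C (2⁻¹ : k) * (PowerSeries.X - s₁) := by
      rw [hτX, map_neg, map_one]; ring
    have hSt : Sg t = -t := by rw [hτ, map_neg, map_one, neg_one_mul]
    have ht0 : PowerSeries.constantCoeff t = 0 := by
      rw [ht_def, map_mul, map_sub, hs₁0, PowerSeries.constantCoeff_X, sub_zero, mul_zero]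
    have ht1 : PowerSeries.coeff 1 t = 1 := by
      rw [ht_def, PowerSeries.coeff_C_mul, map_sub, PowerSeries.coeff_one_X, ← hξdef,
        sub_neg_eq_add, one_add_one_eq_two, inv_mul_cancel₀ h2]
    -- `s₁` is odd modulo `X ^ r`
    have hM0 : PowerSeries.constantCoeff (s₁ - N s₁) = 0 := by
      rw [map_sub, cc_N, sub_self]
    obtain ⟨u, hu⟩ := PowerSeries.X_dvd_iff.mpr hM0
    have hu0 : PowerSeries.constantCoeff u ≠ 0 := by
      have : PowerSeries.constantCoeff u = -2 := by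
        rw [← coeff_one_X_mul, ← hu, map_sub, coeff_N, ← hξdef]
        norm_num
      rw [this]
      exact neg_ne_zero.mpr h2
    obtain ⟨u', hu'⟩ :=
      (PowerSeries.isUnit_iff_constantCoeff.mpr (IsUnit.mk0 _ hu0)).exists_right_inv
    have hD : (PowerSeries.X : PowerSeries k) ^ (r + 1) ∣ (s₁ - N s₁) * (s₁ + N s₁) := by
      have h := dvd_nu_sub_N hev (σ (x k r))
      rw [← hs₁S, map_pow] at h
      have e : s₁ ^ 2 - N s₁ ^ 2 = (s₁ - N s₁) * (s₁ + N s₁) := by ring
      rwa [e] at h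
    have hP : (PowerSeries.X : PowerSeries k) ^ r ∣ s₁ + N s₁ := by
      rw [hu, pow_succ', mul_assoc] at hD
      have h1 := (mul_dvd_mul_iff_left (PowerSeries.X_ne_zero (R := k))).mp hD
      have h3 := Dvd.dvd.mul_left h1 u'
      rwa [← mul_assoc, mul_comm u' u, hu', one_mul] at h3
    have hNt : t + N t = -PowerSeries.C (2⁻¹ : k) * (s₁ + N s₁) := by
      rw [ht_def, map_mul, map_sub, N_C, N_X]; ring
    have hD2 : (PowerSeries.X : PowerSeries k) ^ (r + 1) ∣ t ^ 2 - N (t ^ 2) := by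
      have e : t ^ 2 - N (t ^ 2) = (t + N t) * (t - N t) := by rw [map_pow]; ring
      rw [e, pow_succ]
      apply mul_dvd_mul
      · rw [hNt]; exact Dvd.dvd.mul_left hP _
      · rw [PowerSeries.X_dvd_iff, map_sub, cc_N, sub_self]
    have hD1 : (PowerSeries.X : PowerSeries k) ^ (r + 1) ∣ t ^ (r + 1) - N (t ^ (r + 1)) := by
      rw [map_pow]
      apply dvd_sub
      · exact pow_dvd_pow_of_dvd (PowerSeries.X_dvd_iff.mpr ht0) _
      · exact pow_dvd_pow_of_dvd (PowerSeries.X_dvd_iff.mpr (by rw [cc_N, ht0])) _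
    obtain ⟨x', hx'⟩ := exists_nu_eq h2 hev _ hD2
    obtain ⟨y', hy'⟩ := exists_nu_eq h2 hev _ hD1
    have hrel : y' ^ 2 = x' ^ (r + 1) := hinj (by rw [map_pow, map_pow, hx', hy']; ring)
    have hσx : σ x' = x' := hinj (by rw [hc, hx', map_pow, hSt, neg_sq])
    have hσy : σ y' = -y' :=
      hinj (by rw [hc, hy', map_pow, hSt, hodd.neg_pow, map_neg, hy'])
    have hx0 : PowerSeries.constantCoeff (cA k r x') = 0 := by
      rw [← cc_nu, hx', map_pow, ht0, zero_pow two_ne_zero]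
    have hy0 : PowerSeries.constantCoeff (cA k r y') = 0 := by
      rw [← cc_nu, hy', map_pow, ht0, zero_pow (Nat.succ_ne_zero r)]
    have c1 : PowerSeries.coeff 1 (cA k r x') = 1 := by
      rw [← coeff_two_nu hev, hx', coeff_pow_self ht0, ht1, one_pow]
    have c2 : PowerSeries.constantCoeff (cB k r y') = 1 := by
      rw [← coeff_succ_nu hev, hy', coeff_pow_self ht0, ht1, one_pow]
    have c3 : PowerSeries.constantCoeff (cB k r x') * PowerSeries.coeff 1 (cA k r y') = 0 := by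
      rw [← coeff_succ_nu hev, ← coeff_two_nu hev, hx', hy']
      obtain ⟨m, hm⟩ := hev
      rcases Nat.eq_zero_or_pos r with h0 | hpos
      · rw [coeff_pow_of_lt ht0 (n := 2) (j := r + 1) (by omega), zero_mul]
      · rw [coeff_pow_of_lt ht0 (n := r + 1) (j := 2) (by omega), mul_zero]
    obtain ⟨φ, hφx, hφy⟩ := exists_aut x' y' hrel hx0 hy0 (by rw [c3, c1, c2]; norm_num)
    refine ⟨φ, ?_, ?_⟩
    · rw [hφx, hσx, ← hφx, AlgEquiv.symm_apply_apply]
    · rw [hφy, hσy, map_neg, ← hφy, AlgEquiv.symm_apply_apply]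

end Groth.Agent.S14081
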