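import Groth.Statements.S14082
import Groth.Agent.Lib.Helper76.ArInvOdd

set_option autoImplicit false
set_option linter.unusedSimpArgs false
universe u
open ArSing

open Groth.Agent.Lib.Helper76.ArNF Groth.Agent.Lib.Helper76.ArInvNode
  Groth.Agent.Lib.Helper76.ArInvGen Groth.Agent.Lib.Helper76.ArInvOdd

namespace Groth.Agent.S14082

section helpers

variable {k : Type u} [Field k]

/-- the involution exchanges the two branches -/
theorem swap_case (h2 : (2 : k) ≠ 0) {r m : ℕ} (hm : r + 1 = 2 * m) (hm2 : 2 ≤ m)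
    (σ : ring k r ≃ₐ[k] ring k r) (hσ : ∀ a, σ (σ a) = a)
    (hP : bP hm (σ (y k r)) = -bP hm (σ (x k r)) ^ m)
    (hM : bM hm (σ (y k r)) = bM hm (σ (x k r)) ^ m) :
    ∃ φ : ring k r ≃ₐ[k] ring k r,
      (φ.symm (σ (φ (x k r))) = x k r ∧ φ.symm (σ (φ (y k r))) = -y k r) ∨
      (φ.symm (σ (φ (x k r))) = -x k r ∧ φ.symm (σ (φ (y k r))) = y k r) ∨
      (φ.symm (σ (φ (x k r))) = -x k r ∧ φ.symm (σ (φ (y k r))) = -y k r) := by
  have hC : ∀ c : k, algebraMap k (PowerSeries k) c = PowerSeries.C c := fun c => rfl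
  have ha0 : PowerSeries.constantCoeff (bP hm (σ (x k r))) = 0 :=
    constantCoeff_eq_zero_of_not_isUnit ((bP hm).comp (σ : ring k r →ₐ[k] ring k r)) not_isUnit_x
  have hc0 : PowerSeries.constantCoeff (bM hm (σ (x k r))) = 0 :=
    constantCoeff_eq_zero_of_not_isUnit ((bM hm).comp (σ : ring k r →ₐ[k] ring k r)) not_isUnit_x
  obtain ⟨Θ, hΘ⟩ := exists_sub _ ha0
  obtain ⟨Θ', hΘ'⟩ := exists_sub _ hc0
  have hc₁ : ∀ z, bP hm (σ z) = Θ (bM hm z) := by
    have : (bP hm).comp (σ : ring k r →ₐ[k] ring k r) = Θ.comp (bM hm) := by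
      apply algHom_ext_Q
      · show bP hm (σ (x k r)) = Θ (bM hm (x k r))
        rw [bM_x, hΘ]
      · show bP hm (σ (y k r)) = Θ (bM hm (y k r))
        rw [bM_y, map_neg, map_pow, hΘ, hP]
    exact fun z => AlgHom.congr_fun this z
  have hc₂ : ∀ z, bM hm (σ z) = Θ' (bP hm z) := by
    have : (bM hm).comp (σ : ring k r →ₐ[k] ring k r) = Θ'.comp (bP hm) := by
      apply algHom_ext_Q
      · show bM hm (σ (x k r)) = Θ' (bP hm (x k r))
        rw [bP_x, hΘ']
      · show bM hm (σ (y k r)) = Θ' (bP hm (y k r))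
        rw [bP_y, map_pow, hΘ', hM]
    exact fun z => AlgHom.congr_fun this z
  have hy_act : ∀ (ε : k) (x₀ y₀ : ring k r), σ x₀ = algebraMap k (ring k r) ε * x₀ →
      bP hm y₀ = (bP hm x₀) ^ m → bM hm y₀ = -(bM hm x₀) ^ m →
      σ y₀ = algebraMap k (ring k r) (-ε ^ m) * y₀ := by
    intro ε x₀ y₀ hx₀ hPy hMy
    have e1 : Θ (bM hm x₀) = PowerSeries.C ε * bP hm x₀ := by
      rw [← hc₁, hx₀, map_mul, AlgHom.commutes, hC]
    have e2 : Θ' (bP hm x₀) = PowerSeries.C ε * bM hm x₀ := by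
      rw [← hc₂, hx₀, map_mul, AlgHom.commutes, hC]
    apply b_ext h2 hm
    · rw [hc₁, hMy]
      simp only [map_neg, map_pow, map_mul, AlgHom.commutes, hC, e1, hPy]
      ring
    · rw [hc₂, hPy]
      simp only [map_neg, map_pow, map_mul, AlgHom.commutes, hC, e2, hMy]
      ring
  by_cases hθ1 : 1 + PowerSeries.coeff 1 (bP hm (σ (x k r))) = 0
  · have hθ : 1 + (-1 : k) * PowerSeries.coeff 1 (bP hm (σ (x k r))) ≠ 0 := by
      have h5 : PowerSeries.coeff 1 (bP hm (σ (x k r))) = -1 := by linear_combination hθ1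
      rw [h5, neg_mul_neg, one_mul, one_add_one_eq_two]
      exact h2
    obtain ⟨φ, y', hσx, hφy, hPy, hMy⟩ := key h2 hm hm2 σ hσ (-1) (Or.inr rfl) hθ
    have hσy := hy_act (-1) _ _ hσx hPy hMy
    rw [← hφy] at hσy
    obtain ⟨g1, g2⟩ := finish φ σ hσx hσy
    rcases Nat.even_or_odd m with hme | hmo
    · refine ⟨φ, Or.inr (Or.inr ⟨?_, ?_⟩)⟩
      · rw [g1]; simp only [neg_neg, map_neg, map_one]; ring
      · rw [g2, hme.neg_one_pow]; simp only [neg_neg, map_neg, map_one]; ring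
    · refine ⟨φ, Or.inr (Or.inl ⟨?_, ?_⟩)⟩
      · rw [g1]; simp only [neg_neg, map_neg, map_one]; ring
      · rw [g2, hmo.neg_one_pow]; simp only [neg_neg, map_neg, map_one]; ring
  · have hθ : 1 + (1 : k) * PowerSeries.coeff 1 (bP hm (σ (x k r))) ≠ 0 := by rwa [one_mul]
    obtain ⟨φ, y', hσx, hφy, hPy, hMy⟩ := key h2 hm hm2 σ hσ 1 (Or.inl rfl) hθ
    have hσy := hy_act 1 _ _ hσx hPy hMy
    rw [← hφy] at hσy
    obtain ⟨g1, g2⟩ := finish φ σ hσx hσy
    refine ⟨φ, Or.inl ⟨?_, ?_⟩⟩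
    · rw [g1]; simp only [neg_neg, map_neg, map_one]; ring
    · rw [g2, one_pow]; simp only [neg_neg, map_neg, map_one]; ring

/-- the involution preserves each of the two branches -/
theorem preserve_case (h2 : (2 : k) ≠ 0) {r m : ℕ} (hm : r + 1 = 2 * m) (hm2 : 2 ≤ m)
    (σ : ring k r ≃ₐ[k] ring k r) (hσ : ∀ a, σ (σ a) = a) (hne : σ ≠ AlgEquiv.refl)
    (hP : bP hm (σ (y k r)) = bP hm (σ (x k r)) ^ m)
    (hM : bM hm (σ (y k r)) = -bM hm (σ (x k r)) ^ m) :
    ∃ φ : ring k r ≃ₐ[k] ring k r,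
      (φ.symm (σ (φ (x k r))) = x k r ∧ φ.symm (σ (φ (y k r))) = -y k r) ∨
      (φ.symm (σ (φ (x k r))) = -x k r ∧ φ.symm (σ (φ (y k r))) = y k r) ∨
      (φ.symm (σ (φ (x k r))) = -x k r ∧ φ.symm (σ (φ (y k r))) = -y k r) := by
  have hC : ∀ c : k, algebraMap k (PowerSeries k) c = PowerSeries.C c := fun c => rfl
  have ha0 : PowerSeries.constantCoeff (bP hm (σ (x k r))) = 0 :=
    constantCoeff_eq_zero_of_not_isUnit ((bP hm).comp (σ : ring k r →ₐ[k] ring k r)) not_isUnit_x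
  have hc0 : PowerSeries.constantCoeff (bM hm (σ (x k r))) = 0 :=
    constantCoeff_eq_zero_of_not_isUnit ((bM hm).comp (σ : ring k r →ₐ[k] ring k r)) not_isUnit_x
  obtain ⟨S1, hS1⟩ := exists_sub _ ha0
  obtain ⟨S2, hS2⟩ := exists_sub _ hc0
  have hc₁ : ∀ z, bP hm (σ z) = S1 (bP hm z) := by
    have : (bP hm).comp (σ : ring k r →ₐ[k] ring k r) = S1.comp (bP hm) := by
      apply algHom_ext_Q
      · show bP hm (σ (x k r)) = S1 (bP hm (x k r))
        rw [bP_x, hS1]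
      · show bP hm (σ (y k r)) = S1 (bP hm (y k r))
        rw [bP_y, map_pow, hS1, hP]
    exact fun z => AlgHom.congr_fun this z
  have hc₂ : ∀ z, bM hm (σ z) = S2 (bM hm z) := by
    have : (bM hm).comp (σ : ring k r →ₐ[k] ring k r) = S2.comp (bM hm) := by
      apply algHom_ext_Q
      · show bM hm (σ (x k r)) = S2 (bM hm (x k r))
        rw [bM_x, hS2]
      · show bM hm (σ (y k r)) = S2 (bM hm (y k r))
        rw [bM_y, map_neg, map_pow, hS2, hM]
    exact fun z => AlgHom.congr_fun this z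
  have hi₁ : ∀ f, S1 (S1 f) = f := by
    intro f
    rw [← bP_xMap hm f, ← hc₁, ← hc₁, hσ]
  have hi₂ : ∀ f, S2 (S2 f) = f := by
    intro f
    rw [← bM_xMap hm f, ← hc₂, ← hc₂, hσ]
  obtain ⟨ξ₁, τ₁, hξ₁, hξ₁def, -, -, hid₁⟩ := exists_linearise h2 S1 hi₁
  obtain ⟨ξ₂, τ₂, hξ₂, hξ₂def, -, -, hid₂⟩ := exists_linearise h2 S2 hi₂
  rw [hS1] at hξ₁def
  rw [hS2] at hξ₂def
  have hac1 : PowerSeries.coeff 1 (bM hm (σ (x k r))) =
      PowerSeries.coeff 1 (bP hm (σ (x k r))) := by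
    have h := PowerSeries.X_pow_dvd_iff.mp (dvd_bP_sub_bM hm (σ (x k r))) 1 (by omega)
    rw [map_sub] at h
    exact (sub_eq_zero.mp h).symm
  have h12 : ξ₂ = ξ₁ := by rw [hξ₁def, hξ₂def, hac1]
  have hy_act : ∀ (ε : k) (x₀ y₀ : ring k r), σ x₀ = algebraMap k (ring k r) ε * x₀ →
      bP hm y₀ = (bP hm x₀) ^ m → bM hm y₀ = -(bM hm x₀) ^ m →
      σ y₀ = algebraMap k (ring k r) (ε ^ m) * y₀ := by
    intro ε x₀ y₀ hx₀ hPy hMy
    have e1 : S1 (bP hm x₀) = PowerSeries.C ε * bP hm x₀ := by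
      rw [← hc₁, hx₀, map_mul, AlgHom.commutes, hC]
    have e2 : S2 (bM hm x₀) = PowerSeries.C ε * bM hm x₀ := by
      rw [← hc₂, hx₀, map_mul, AlgHom.commutes, hC]
    apply b_ext h2 hm
    · rw [hc₁, hPy]
      simp only [map_neg, map_pow, map_mul, AlgHom.commutes, hC, e1, hPy]
      ring
    · rw [hc₂, hMy]
      simp only [map_neg, map_pow, map_mul, AlgHom.commutes, hC, e2, hMy]
      ring
  rcases hξ₁ with h | h
  · exfalso
    exact hne (AlgEquiv.ext fun z => b_ext h2 hm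
      (by show bP hm (σ z) = bP hm z; rw [hc₁, hid₁ h])
      (by show bM hm (σ z) = bM hm z; rw [hc₂, hid₂ (h12.trans h)]))
  · have hθ : 1 + (-1 : k) * PowerSeries.coeff 1 (bP hm (σ (x k r))) ≠ 0 := by
      rw [← hξ₁def, h, neg_mul_neg, one_mul, one_add_one_eq_two]
      exact h2
    obtain ⟨φ, y', hσx, hφy, hPy, hMy⟩ := key h2 hm hm2 σ hσ (-1) (Or.inr rfl) hθ
    have hσy := hy_act (-1) _ _ hσx hPy hMy
    rw [← hφy] at hσy
    obtain ⟨g1, g2⟩ := finish φ σ hσx hσy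
    rcases Nat.even_or_odd m with hme | hmo
    · refine ⟨φ, Or.inr (Or.inl ⟨?_, ?_⟩)⟩
      · rw [g1]; simp only [neg_neg, map_neg, map_one]; ring
      · rw [g2, hme.neg_one_pow]; simp only [neg_neg, map_neg, map_one]; ring
    · refine ⟨φ, Or.inr (Or.inr ⟨?_, ?_⟩)⟩
      · rw [g1]; simp only [neg_neg, map_neg, map_one]; ring
      · rw [g2, hmo.neg_one_pow]; simp only [neg_neg, map_neg, map_one]; ring

end helpers

/-- Over an algebraically closed field k of characteristic prime to 2 and to r+1, with r odd and r ≥ 3,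
every non-trivial k-algebra involution σ of A_r = k[[x,y]]/(y^2 - x^(r+1)) is conjugate, by a
k-algebra automorphism φ of A_r, to one of the three involutions (x, y) ↦ (x, -y), (x, y) ↦ (-x, y),
(x, y) ↦ (-x, -y). -/
theorem result (k : Type u) [Field k] [IsAlgClosed k] (r : ℕ)
    (h2 : (2 : k) ≠ 0) (hr : ((r + 1 : ℕ) : k) ≠ 0) (hodd : Odd r) (h3 : 3 ≤ r)
    (σ : ArSing.ring k r ≃ₐ[k] ArSing.ring k r) (hσ : ∀ a, σ (σ a) = a) (hne : σ ≠ AlgEquiv.refl) :
    ∃ φ : ArSing.ring k r ≃ₐ[k] ArSing.ring k r,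
      (φ.symm (σ (φ (ArSing.x k r))) = ArSing.x k r ∧ φ.symm (σ (φ (ArSing.y k r))) = -ArSing.y k r) ∨
      (φ.symm (σ (φ (ArSing.x k r))) = -ArSing.x k r ∧ φ.symm (σ (φ (ArSing.y k r))) = ArSing.y k r) ∨
      (φ.symm (σ (φ (ArSing.x k r))) = -ArSing.x k r ∧ φ.symm (σ (φ (ArSing.y k r))) = -ArSing.y k r) := by
  obtain ⟨j, hj⟩ := hodd
  have hm : r + 1 = 2 * (j + 1) := by omega
  have hm2 : 2 ≤ j + 1 := by omega
  have hpow : ∀ z : PowerSeries k, z ^ (r + 1) = (z ^ (j + 1)) ^ 2 := fun z => by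
    rw [hm, pow_mul']
  have hsq : ∀ p : ring k r →ₐ[k] PowerSeries k,
      p (σ (y k r)) = p (σ (x k r)) ^ (j + 1) ∨ p (σ (y k r)) = -p (σ (x k r)) ^ (j + 1) := by
    intro p
    have h := congrArg (fun z => p (σ z)) (y_sq (k := k) (r := r))
    simp only [map_pow] at h
    rw [hpow] at h
    exact sq_eq_sq_iff_eq_or_eq_neg.mp h
  have h2X : (2 : PowerSeries k) * PowerSeries.X ^ (j + 1) ≠ 0 :=
    mul_ne_zero (two_ne_zero_ps h2) (pow_ne_zero _ PowerSeries.X_ne_zero)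
  rcases hsq (bP hm) with hP | hP <;> rcases hsq (bM hm) with hM | hM
  · exfalso
    have h0 : σ (y k r - x k r ^ (j + 1)) = 0 := by
      apply b_ext h2 hm
      · rw [map_sub, map_sub, map_pow, map_pow, hP, sub_self, map_zero]
      · rw [map_sub, map_sub, map_pow, map_pow, hM, sub_self, map_zero]
    have h1 : y k r - x k r ^ (j + 1) = 0 := by
      have := congrArg σ h0
      rwa [hσ, map_zero] at this
    have h3 := congrArg (bM hm) h1
    rw [map_sub, map_pow, bM_y, bM_x, map_zero] at h3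
    exact h2X (by linear_combination -h3)
  · exact preserve_case h2 hm hm2 σ hσ hne hP hM
  · exact swap_case h2 hm hm2 σ hσ hP hM
  · exfalso
    have h0 : σ (y k r + x k r ^ (j + 1)) = 0 := by
      apply b_ext h2 hm
      · rw [map_add, map_add, map_pow, map_pow, hP, neg_add_cancel, map_zero]
      · rw [map_add, map_add, map_pow, map_pow, hM, neg_add_cancel, map_zero]
    have h1 : y k r + x k r ^ (j + 1) = 0 := by
      have := congrArg σ h0
      rwa [hσ, map_zero] at this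
    have h3 := congrArg (bP hm) h1
    rw [map_add, map_pow, bP_y, bP_x, map_zero] at h3
    exact h2X (by linear_combination h3)

end Groth.Agent.S14082
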