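import Groth.Statements.S14083
import Groth.Agent.Lib.Helper76.ArInvNode

set_option autoImplicit false
set_option linter.unusedSimpArgs false
universe u
open ArSing

open Groth.Agent.Lib.Helper76.ArNF Groth.Agent.Lib.Helper76.ArInvNode

namespace Groth.Agent.S14083

section helpers

variable {k : Type u} [Field k]

lemma conj_of_eq {A : Type*} [CommRing A] [Algebra k A] (φ σ : A ≃ₐ[k] A) {a b : A}
    (h : σ (φ a) = φ b) : φ.symm (σ (φ a)) = b := by
  rw [h, AlgEquiv.symm_apply_apply]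

/-- the involution exchanges the two branches -/
theorem swap_case (h2 : (2 : k) ≠ 0) (σ : ring k 1 ≃ₐ[k] ring k 1) (hσ : ∀ a, σ (σ a) = a)
    (hP : brP (σ (y k 1)) = -brP (σ (x k 1))) (hM : brM (σ (y k 1)) = brM (σ (x k 1))) :
    ∃ φ : ring k 1 ≃ₐ[k] ring k 1,
      φ.symm (σ (φ (x k 1))) = x k 1 ∧ φ.symm (σ (φ (y k 1))) = -y k 1 := by
  have hS₁ : PowerSeries.constantCoeff (brP (σ (x k 1))) = 0 :=
    constantCoeff_eq_zero_of_not_isUnit (brP.comp (σ : ring k 1 →ₐ[k] ring k 1)) not_isUnit_x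
  have hS₂ : PowerSeries.constantCoeff (brM (σ (x k 1))) = 0 :=
    constantCoeff_eq_zero_of_not_isUnit (brM.comp (σ : ring k 1 →ₐ[k] ring k 1)) not_isUnit_x
  obtain ⟨Θ, hΘ⟩ := exists_sub _ hS₁
  obtain ⟨Θ', hΘ'⟩ := exists_sub _ hS₂
  have hc₁ : ∀ a, brP (σ a) = Θ (brM a) := by
    have : brP.comp (σ : ring k 1 →ₐ[k] ring k 1) = Θ.comp brM := by
      apply algHom_ext_Q
      · show brP (σ (x k 1)) = Θ (brM (x k 1))
        rw [brM_x, hΘ]
      · show brP (σ (y k 1)) = Θ (brM (y k 1))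
        rw [brM_y, map_neg, hΘ, hP]
    exact fun a => AlgHom.congr_fun this a
  have hc₂ : ∀ a, brM (σ a) = Θ' (brP a) := by
    have : brM.comp (σ : ring k 1 →ₐ[k] ring k 1) = Θ'.comp brP := by
      apply algHom_ext_Q
      · show brM (σ (x k 1)) = Θ' (brP (x k 1))
        rw [brP_x, hΘ']
      · show brM (σ (y k 1)) = Θ' (brP (y k 1))
        rw [brP_y, hΘ', hM]
    exact fun a => AlgHom.congr_fun this a
  have h₁ : ∀ f, Θ (Θ' f) = f := by
    intro f
    rw [← brP_xMap f, ← hc₂, ← hc₁, hσ]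
  have h₂ : ∀ f, Θ' (Θ f) = f := by
    intro f
    rw [← brM_xMap f, ← hc₁, ← hc₂, hσ]
  obtain ⟨ψ, hψP, hψM⟩ := exists_pairAut h2 AlgEquiv.refl
    (AlgEquiv.ofAlgHom Θ' Θ (AlgHom.ext h₂) (AlgHom.ext h₁))
  have hψP' : ∀ a, brP (ψ a) = brP a := hψP
  have hψM' : ∀ a, brM (ψ a) = Θ' (brM a) := hψM
  refine ⟨ψ, conj_of_eq ψ σ ?_, conj_of_eq ψ σ ?_⟩
  · apply br_ext h2
    · rw [hc₁, hψM', hψP', brM_x, brP_x, h₁]
    · rw [hc₂, hψP', hψM', brP_x, brM_x]
  · apply br_ext h2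
    · rw [hc₁, hψM', hψP', brM_y, h₁, map_neg, brP_y]
    · rw [hc₂, hψP', hψM', brP_y, map_neg, brM_y, neg_neg]

/-- the involution preserves each of the two branches -/
theorem preserve_case (h2 : (2 : k) ≠ 0) (σ : ring k 1 ≃ₐ[k] ring k 1) (hσ : ∀ a, σ (σ a) = a)
    (hne : σ ≠ AlgEquiv.refl)
    (hP : brP (σ (y k 1)) = brP (σ (x k 1))) (hM : brM (σ (y k 1)) = -brM (σ (x k 1))) :
    ∃ φ : ring k 1 ≃ₐ[k] ring k 1,
      (φ.symm (σ (φ (x k 1))) = -x k 1 ∧ φ.symm (σ (φ (y k 1))) = -y k 1) ∨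
      (φ.symm (σ (φ (x k 1))) = y k 1 ∧ φ.symm (σ (φ (y k 1))) = x k 1) := by
  have hS₁ : PowerSeries.constantCoeff (brP (σ (x k 1))) = 0 :=
    constantCoeff_eq_zero_of_not_isUnit (brP.comp (σ : ring k 1 →ₐ[k] ring k 1)) not_isUnit_x
  have hS₂ : PowerSeries.constantCoeff (brM (σ (x k 1))) = 0 :=
    constantCoeff_eq_zero_of_not_isUnit (brM.comp (σ : ring k 1 →ₐ[k] ring k 1)) not_isUnit_x
  obtain ⟨S1, hS1⟩ := exists_sub _ hS₁
  obtain ⟨S2, hS2⟩ := exists_sub _ hS₂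
  have hc₁ : ∀ a, brP (σ a) = S1 (brP a) := by
    have : brP.comp (σ : ring k 1 →ₐ[k] ring k 1) = S1.comp brP := by
      apply algHom_ext_Q
      · show brP (σ (x k 1)) = S1 (brP (x k 1))
        rw [brP_x, hS1]
      · show brP (σ (y k 1)) = S1 (brP (y k 1))
        rw [brP_y, hS1, hP]
    exact fun a => AlgHom.congr_fun this a
  have hc₂ : ∀ a, brM (σ a) = S2 (brM a) := by
    have : brM.comp (σ : ring k 1 →ₐ[k] ring k 1) = S2.comp brM := by
      apply algHom_ext_Q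
      · show brM (σ (x k 1)) = S2 (brM (x k 1))
        rw [brM_x, hS2]
      · show brM (σ (y k 1)) = S2 (brM (y k 1))
        rw [brM_y, map_neg, hS2, hM]
    exact fun a => AlgHom.congr_fun this a
  have hi₁ : ∀ f, S1 (S1 f) = f := by
    intro f
    rw [← brP_xMap f, ← hc₁, ← hc₁, hσ]
  have hi₂ : ∀ f, S2 (S2 f) = f := by
    intro f
    rw [← brM_xMap f, ← hc₂, ← hc₂, hσ]
  obtain ⟨ξ₁, τ₁, hξ₁, -, -, hτ₁, hid₁⟩ := exists_linearise h2 S1 hi₁
  obtain ⟨ξ₂, τ₂, hξ₂, -, -, hτ₂, hid₂⟩ := exists_linearise h2 S2 hi₂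
  obtain ⟨ψ, hψP, hψM⟩ := exists_pairAut h2 τ₁ τ₂
  rcases hξ₁ with rfl | rfl <;> rcases hξ₂ with rfl | rfl
  · exfalso
    exact hne (AlgEquiv.ext fun a => br_ext h2
      (by show brP (σ a) = brP a; rw [hc₁, hid₁ rfl])
      (by show brM (σ a) = brM a; rw [hc₂, hid₂ rfl]))
  · refine ⟨ψ, Or.inr ⟨conj_of_eq ψ σ ?_, conj_of_eq ψ σ ?_⟩⟩
    · apply br_ext h2
      · rw [hc₁]
        simp only [hψP, hψM, map_neg, brP_x, brP_y, brM_x, brM_y, hτ₁, hτ₂, map_one, neg_mul,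
          one_mul, neg_neg]
      · rw [hc₂]
        simp only [hψP, hψM, map_neg, brP_x, brP_y, brM_x, brM_y, hτ₁, hτ₂, map_one, neg_mul,
          one_mul, neg_neg]
    · apply br_ext h2
      · rw [hc₁]
        simp only [hψP, hψM, map_neg, brP_x, brP_y, brM_x, brM_y, hτ₁, hτ₂, map_one, neg_mul,
          one_mul, neg_neg]
      · rw [hc₂]
        simp only [hψP, hψM, map_neg, brP_x, brP_y, brM_x, brM_y, hτ₁, hτ₂, map_one, neg_mul,
          one_mul, neg_neg]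
  · obtain ⟨η, hηP, hηM⟩ := exists_swapAut (k := k) h2
    have vP : ∀ a, brP ((η.trans ψ) a) = τ₁ (brM a) := fun a => by
      rw [AlgEquiv.trans_apply, hψP, hηP]
    have vM : ∀ a, brM ((η.trans ψ) a) = τ₂ (brP a) := fun a => by
      rw [AlgEquiv.trans_apply, hψM, hηM]
    refine ⟨η.trans ψ, Or.inr ⟨conj_of_eq _ σ ?_, conj_of_eq _ σ ?_⟩⟩
    · apply br_ext h2
      · rw [hc₁]
        simp only [vP, vM, map_neg, brP_x, brP_y, brM_x, brM_y, hτ₁, hτ₂, map_one, neg_mul,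
          one_mul, neg_neg]
      · rw [hc₂]
        simp only [vP, vM, map_neg, brP_x, brP_y, brM_x, brM_y, hτ₁, hτ₂, map_one, neg_mul,
          one_mul, neg_neg]
    · apply br_ext h2
      · rw [hc₁]
        simp only [vP, vM, map_neg, brP_x, brP_y, brM_x, brM_y, hτ₁, hτ₂, map_one, neg_mul,
          one_mul, neg_neg]
      · rw [hc₂]
        simp only [vP, vM, map_neg, brP_x, brP_y, brM_x, brM_y, hτ₁, hτ₂, map_one, neg_mul,
          one_mul, neg_neg]
  · refine ⟨ψ, Or.inl ⟨conj_of_eq ψ σ ?_, conj_of_eq ψ σ ?_⟩⟩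
    · apply br_ext h2
      · rw [hc₁]
        simp only [hψP, hψM, map_neg, brP_x, brP_y, brM_x, brM_y, hτ₁, hτ₂, map_one, neg_mul,
          one_mul, neg_neg]
      · rw [hc₂]
        simp only [hψP, hψM, map_neg, brP_x, brP_y, brM_x, brM_y, hτ₁, hτ₂, map_one, neg_mul,
          one_mul, neg_neg]
    · apply br_ext h2
      · rw [hc₁]
        simp only [hψP, hψM, map_neg, brP_x, brP_y, brM_x, brM_y, hτ₁, hτ₂, map_one, neg_mul,
          one_mul, neg_neg]
      · rw [hc₂]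
        simp only [hψP, hψM, map_neg, brP_x, brP_y, brM_x, brM_y, hτ₁, hτ₂, map_one, neg_mul,
          one_mul, neg_neg]

end helpers

/-- Over an algebraically closed field k of characteristic different from 2, every non-trivial k-algebra
involution σ of the node algebra A_1 = k[[x,y]]/(y^2 - x^2) is conjugate, by a k-algebra
automorphism φ of A_1, to one of the three involutions (x, y) ↦ (x, -y), (x, y) ↦ (-x, -y), (x, y) ↦
(y, x). -/
theorem result (k : Type u) [Field k] [IsAlgClosed k]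
    (h2 : (2 : k) ≠ 0)
    (σ : ArSing.ring k 1 ≃ₐ[k] ArSing.ring k 1) (hσ : ∀ a, σ (σ a) = a) (hne : σ ≠ AlgEquiv.refl) :
    ∃ φ : ArSing.ring k 1 ≃ₐ[k] ArSing.ring k 1,
      (φ.symm (σ (φ (ArSing.x k 1))) = ArSing.x k 1 ∧ φ.symm (σ (φ (ArSing.y k 1))) = -ArSing.y k 1) ∨
      (φ.symm (σ (φ (ArSing.x k 1))) = -ArSing.x k 1 ∧ φ.symm (σ (φ (ArSing.y k 1))) = -ArSing.y k 1) ∨
      (φ.symm (σ (φ (ArSing.x k 1))) = ArSing.y k 1 ∧ φ.symm (σ (φ (ArSing.y k 1))) = ArSing.x k 1) := by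
  have hsq : ∀ p : ring k 1 →ₐ[k] PowerSeries k,
      p (σ (y k 1)) = p (σ (x k 1)) ∨ p (σ (y k 1)) = -p (σ (x k 1)) := by
    intro p
    have h := congrArg (fun z => p (σ z)) (y_sq (k := k) (r := 1))
    simp only [map_pow] at h
    have h3 : (p (σ (y k 1)) - p (σ (x k 1))) * (p (σ (y k 1)) + p (σ (x k 1))) = 0 := by
      linear_combination h
    rcases mul_eq_zero.mp h3 with h | h
    · exact Or.inl (sub_eq_zero.mp h)
    · exact Or.inr (eq_neg_of_add_eq_zero_left h)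
  have h2X : (2 : PowerSeries k) * PowerSeries.X ≠ 0 :=
    mul_ne_zero (two_ne_zero_ps h2) PowerSeries.X_ne_zero
  rcases hsq brP with hP | hP <;> rcases hsq brM with hM | hM
  · exfalso
    have h0 : σ (y k 1 - x k 1) = 0 := by
      apply br_ext h2
      · rw [map_sub, map_sub, hP, sub_self, map_zero]
      · rw [map_sub, map_sub, hM, sub_self, map_zero]
    have h1 : y k 1 - x k 1 = 0 := by
      have := congrArg σ h0
      rwa [hσ, map_zero] at this
    have h3 := congrArg brM h1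
    rw [map_sub, brM_y, brM_x, map_zero] at h3
    exact h2X (by linear_combination -h3)
  · obtain ⟨φ, h⟩ := preserve_case h2 σ hσ hne hP hM
    exact ⟨φ, Or.inr h⟩
  · obtain ⟨φ, h⟩ := swap_case h2 σ hσ hP hM
    exact ⟨φ, Or.inl h⟩
  · exfalso
    have h0 : σ (y k 1 + x k 1) = 0 := by
      apply br_ext h2
      · rw [map_add, map_add, hP, neg_add_cancel, map_zero]
      · rw [map_add, map_add, hM, neg_add_cancel, map_zero]
    have h1 : y k 1 + x k 1 = 0 := by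
      have := congrArg σ h0
      rwa [hσ, map_zero] at this
    have h3 := congrArg brP h1
    rw [map_add, brP_y, brP_x, map_zero] at h3
    exact h2X (by linear_combination h3)

end Groth.Agent.S14083
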