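import Groth.Statements.S14084
import Groth.Agent.Lib.Helper76.NodeDefB

set_option autoImplicit false
universe u
open ArSing

open Groth.Agent.Lib.Helper76.ArNF Groth.Agent.Lib.Helper76.ArInvNode
open Groth.Agent.Lib.Helper76.NodeDef

namespace Groth.Agent.S14084

set_option linter.unusedSimpArgs false

theorem main {k R S : Type u} [Field k] (h2 : (2 : k) ≠ 0)
    [CommRing R] [IsLocalRing R] [IsNoetherianRing R] [IsAdicComplete (IsLocalRing.maximalIdeal R) R]
    [CommRing S] [IsLocalRing S] [IsNoetherianRing S] [IsAdicComplete (IsLocalRing.maximalIdeal S) S]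
    [Algebra k R] [Algebra R S] [Algebra k S] [IsScalarTower k R S]
    [IsLocalHom (algebraMap R S)] [Module.Flat R S]
    (I : Ideal S) (hI : I = (IsLocalRing.maximalIdeal R).map (algebraMap R S))
    (e : (S ⧸ I) ≃ₐ[k] ring k 1)
    (σ : S ≃ₐ[R] S) (hσ : ∀ s, σ (σ s) = s)
    (hbr : ∀ P ∈ I.minimalPrimes, Ideal.map (σ : S →+* S) P = P) :
    ∃ (t : R) (ξ₁ ξ₂ : k), ξ₁ ^ 2 = 1 ∧ ξ₂ ^ 2 = 1 ∧ (ξ₁ = -ξ₂ → t = 0) ∧
      ∃ f : S ≃ₐ[R] (MvPowerSeries (Fin 2) R ⧸
          Ideal.span {(MvPowerSeries.X 0 * MvPowerSeries.X 1 - MvPowerSeries.C t : MvPowerSeries (Fin 2) R)}),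
        f (σ (f.symm (Ideal.Quotient.mk _ (MvPowerSeries.X 0)))) =
          algebraMap k R ξ₂ • Ideal.Quotient.mk _ (MvPowerSeries.X 0) ∧
        f (σ (f.symm (Ideal.Quotient.mk _ (MvPowerSeries.X 1)))) =
          algebraMap k R ξ₁ • Ideal.Quotient.mk _ (MvPowerSeries.X 1) := by
  classical
  -- the reduction map to the node algebra
  let red : S →ₐ[k] ring k 1 := (e : (S ⧸ I) →ₐ[k] ring k 1).comp (Ideal.Quotient.mkₐ k I)
  have hred : ∀ s, red s = e (Ideal.Quotient.mk I s) := fun s => rfl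
  have hred_surj : Function.Surjective red := by
    intro a
    obtain ⟨s, hs⟩ := Ideal.Quotient.mk_surjective (e.symm a)
    exact ⟨s, by rw [hred, hs, AlgEquiv.apply_symm_apply]⟩
  have hred0 : ∀ s, red s = 0 ↔ s ∈ I := by
    intro s
    rw [hred, map_eq_zero_iff e e.injective, Ideal.Quotient.eq_zero_iff_mem]
  have hσI : ∀ s ∈ I, σ s ∈ I := by
    intro s hs
    rw [hI] at hs ⊢
    exact sigma_mem_map σ _ hs
  -- the induced involution of the node algebra
  let σk : S →ₐ[k] S := ((σ.restrictScalars k : S ≃ₐ[k] S) : S →ₐ[k] S)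
  have hσk : ∀ s, σk s = σ s := fun s => rfl
  let l : (S ⧸ I) →ₐ[k] ring k 1 := Ideal.Quotient.liftₐ I (red.comp σk) (fun s hs => by
    show red (σ s) = 0
    exact (hred0 _).mpr (hσI s hs))
  have hl : ∀ s, l (Ideal.Quotient.mk I s) = red (σ s) := fun s => rfl
  let σ'h : ring k 1 →ₐ[k] ring k 1 := l.comp (e.symm : ring k 1 →ₐ[k] S ⧸ I)
  have hσ'h : ∀ s, σ'h (red s) = red (σ s) := by
    intro s
    show l (e.symm (red s)) = _
    rw [hred, AlgEquiv.symm_apply_apply, hl]
  have hσ'h2 : ∀ a, σ'h (σ'h a) = a := by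
    intro a
    obtain ⟨s, rfl⟩ := hred_surj a
    rw [hσ'h, hσ'h, hσ]
  let σ' : ring k 1 ≃ₐ[k] ring k 1 :=
    AlgEquiv.ofAlgHom σ'h σ'h (AlgHom.ext hσ'h2) (AlgHom.ext hσ'h2)
  have hσ' : ∀ s, σ' (red s) = red (σ s) := hσ'h
  have hσ'2 : ∀ a, σ' (σ' a) = a := hσ'h2
  -- the two branches are preserved
  have hbrK : ∀ (p : ring k 1 →ₐ[k] PowerSeries k) (w' : ring k 1),
      (∀ a, p a = 0 → a * w' = 0) → p w' ≠ 0 → ∀ w, p w = 0 → p (σ' w) = 0 := by
    intro p w' hzero hw' w hw
    let π : S →ₐ[k] PowerSeries k := p.comp red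
    have hπ : ∀ s, π s = p (red s) := fun s => rfl
    have hprime : (RingHom.ker π).IsPrime := RingHom.ker_isPrime π
    have hIle : I ≤ RingHom.ker π := by
      intro s hs
      rw [RingHom.mem_ker, hπ, (hred0 s).mpr hs, map_zero]
    have hmin : RingHom.ker π ∈ I.minimalPrimes := by
      show Minimal (fun q : Ideal S => q.IsPrime ∧ I ≤ q) (RingHom.ker π)
      refine ⟨⟨hprime, hIle⟩, ?_⟩
      rintro q ⟨hq, hIq⟩ hqle a ha
      obtain ⟨s', hs'⟩ := hred_surj w'
      have h1 : a * s' ∈ I := by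
        rw [← hred0, map_mul, hs']
        exact hzero _ (RingHom.mem_ker.mp ha)
      rcases hq.mem_or_mem (hIq h1) with h | h
      · exact h
      · exfalso
        have h3 : π s' = 0 := RingHom.mem_ker.mp (hqle h)
        rw [hπ, hs'] at h3
        exact hw' h3
    have hmap := hbr _ hmin
    obtain ⟨s, rfl⟩ := hred_surj w
    have hs : s ∈ RingHom.ker π := RingHom.mem_ker.mpr hw
    have h2 : (σ : S →+* S) s ∈ Ideal.map (σ : S →+* S) (RingHom.ker π) :=
      Ideal.mem_map_of_mem _ hs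
    rw [hmap] at h2
    have h3 : π (σ s) = 0 := RingHom.mem_ker.mp h2
    rw [hσ']
    exact h3
  have h2X : (2 : PowerSeries k) * PowerSeries.X ≠ 0 :=
    mul_ne_zero (two_ne_zero_ps h2) PowerSeries.X_ne_zero
  have hP : brP (σ' (y k 1)) = brP (σ' (x k 1)) := by
    have hz : ∀ a : ring k 1, brP a = 0 → a * (y k 1 + x k 1) = 0 := by
      intro a ha
      apply br_ext h2
      · rw [map_mul, ha, zero_mul, map_zero]
      · rw [map_mul, map_add, brM_y, brM_x, neg_add_cancel, mul_zero, map_zero]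
    have hne : brP (y k 1 + x k 1) ≠ 0 := by
      rw [map_add, brP_y, brP_x]
      intro h
      exact h2X (by linear_combination h)
    have := hbrK brP (y k 1 + x k 1) hz hne (y k 1 - x k 1)
      (by rw [map_sub, brP_y, brP_x, sub_self])
    rw [map_sub, map_sub] at this
    exact sub_eq_zero.mp this
  have hM : brM (σ' (y k 1)) = -brM (σ' (x k 1)) := by
    have hz : ∀ a : ring k 1, brM a = 0 → a * (y k 1 - x k 1) = 0 := by
      intro a ha
      apply br_ext h2
      · rw [map_mul, map_sub, brP_y, brP_x, sub_self, mul_zero, map_zero]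
      · rw [map_mul, ha, zero_mul, map_zero]
    have hne : brM (y k 1 - x k 1) ≠ 0 := by
      rw [map_sub, brM_y, brM_x]
      intro h
      exact h2X (by linear_combination -h)
    have := hbrK brM (y k 1 - x k 1) hz hne (y k 1 + x k 1)
      (by rw [map_add, brM_y, brM_x, neg_add_cancel])
    rw [map_add, map_add] at this
    exact eq_neg_of_add_eq_zero_left this
  obtain ⟨ξ₁, ξ₂, ub, vb, hsq₁, hsq₂, hubvb, hσub, hσvb, hubm, hvbm, hgenb⟩ :=
    exists_eigen_coords h2 σ' hσ'2 hP hM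
  -- residue fields
  let χ₀ : S →ₐ[k] PowerSeries k := brP.comp red
  have hχ₀ : ∀ s, χ₀ s = brP (red s) := fun s => rfl
  have hccC : ∀ c : k, PowerSeries.constantCoeff (algebraMap k (PowerSeries k) c) = c :=
    fun c => PowerSeries.constantCoeff_C c
  have hunit : ∀ s : S, IsUnit s → PowerSeries.constantCoeff (χ₀ s) ≠ 0 := fun s hs =>
    (PowerSeries.isUnit_iff_constantCoeff.mp (hs.map χ₀)).ne_zero
  have hnonunit : ∀ s : S, ¬ IsUnit s → PowerSeries.constantCoeff (χ₀ s) = 0 := fun s hs =>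
    constantCoeff_eq_zero_of_not_isUnit χ₀ hs
  have hresk : ∀ s : S, s - algebraMap k S (PowerSeries.constantCoeff (χ₀ s)) ∈
      IsLocalRing.maximalIdeal S := by
    intro s
    refine (IsLocalRing.mem_maximalIdeal _).mpr fun hu => ?_
    apply hunit _ hu
    rw [map_sub, AlgHom.commutes, map_sub, hccC, sub_self]
  have hres : ∀ s : S, ∃ c : R, s - algebraMap R S c ∈ IsLocalRing.maximalIdeal S := fun s =>
    ⟨algebraMap k R (PowerSeries.constantCoeff (χ₀ s)), by
      rw [← IsScalarTower.algebraMap_apply k R S]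
      exact hresk s⟩
  let ρ : R →+* k := (PowerSeries.constantCoeff : PowerSeries k →+* k).comp
    ((χ₀ : S →+* PowerSeries k).comp (algebraMap R S))
  have hρdef : ∀ r, ρ r = PowerSeries.constantCoeff (χ₀ (algebraMap R S r)) := fun r => rfl
  have hρ : ∀ r, r - algebraMap k R (ρ r) ∈ IsLocalRing.maximalIdeal R := by
    intro r
    refine (IsLocalRing.mem_maximalIdeal _).mpr fun hu => ?_
    apply hunit _ (hu.map (algebraMap R S))
    rw [map_sub, ← IsScalarTower.algebraMap_apply k R S, map_sub, AlgHom.commutes, map_sub, hccC,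
      hρdef, sub_self]
  -- constants
  obtain ⟨a, ha_def⟩ : ∃ a : R, a = algebraMap k R ξ₂ := ⟨_, rfl⟩
  obtain ⟨b, hb_def⟩ : ∃ b : R, b = algebraMap k R ξ₁ := ⟨_, rfl⟩
  obtain ⟨hf, hf_def⟩ : ∃ hf : R, hf = algebraMap k R 2⁻¹ := ⟨_, rfl⟩
  have haa : a * a = 1 := by rw [ha_def, ← map_mul, ← pow_two, hsq₂, map_one]
  have hbb : b * b = 1 := by rw [hb_def, ← map_mul, ← pow_two, hsq₁, map_one]
  have hhf : 2 * hf = 1 := by
    rw [hf_def, ← map_ofNat (algebraMap k R) 2, ← map_mul, mul_inv_cancel₀ h2, map_one]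
  have hredR : ∀ c : k, red (algebraMap R S (algebraMap k R c)) = algebraMap k (ring k 1) c := by
    intro c
    rw [← IsScalarTower.algebraMap_apply k R S, AlgHom.commutes]
  have hra : red (algebraMap R S a) = algebraMap k (ring k 1) ξ₂ := by rw [ha_def, hredR]
  have hrb : red (algebraMap R S b) = algebraMap k (ring k 1) ξ₁ := by rw [hb_def, hredR]
  have hrh : red (algebraMap R S hf) = algebraMap k (ring k 1) 2⁻¹ := by rw [hf_def, hredR]
  have hx2 : algebraMap k (ring k 1) ξ₂ * algebraMap k (ring k 1) ξ₂ = 1 := by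
    rw [← map_mul, ← pow_two, hsq₂, map_one]
  have hx1 : algebraMap k (ring k 1) ξ₁ * algebraMap k (ring k 1) ξ₁ = 1 := by
    rw [← map_mul, ← pow_two, hsq₁, map_one]
  have hc2 : 2 * algebraMap k (ring k 1) 2⁻¹ = 1 := by
    rw [← map_ofNat (algebraMap k (ring k 1)) 2, ← map_mul, mul_inv_cancel₀ h2, map_one]
  have hAA : algebraMap R S a * algebraMap R S a = 1 := by rw [← map_mul, haa, map_one]
  have hBB : algebraMap R S b * algebraMap R S b = 1 := by rw [← map_mul, hbb, map_one]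
  -- eigen-lifts
  obtain ⟨u₀, hu₀⟩ := hred_surj ub
  obtain ⟨v₀, hv₀⟩ := hred_surj vb
  obtain ⟨u₁, hu₁def⟩ : ∃ u₁ : S, u₁ = algebraMap R S hf * (u₀ + algebraMap R S a * σ u₀) :=
    ⟨_, rfl⟩
  obtain ⟨v₁, hv₁def⟩ : ∃ v₁ : S, v₁ = algebraMap R S hf * (v₀ + algebraMap R S b * σ v₀) :=
    ⟨_, rfl⟩
  have hσu₁ : σ u₁ = algebraMap R S a * u₁ := by
    rw [hu₁def]
    simp only [map_mul, map_add, AlgEquiv.commutes, hσ]
    linear_combination (-(algebraMap R S hf * σ u₀)) * hAA
  have hσv₁ : σ v₁ = algebraMap R S b * v₁ := by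
    rw [hv₁def]
    simp only [map_mul, map_add, AlgEquiv.commutes, hσ]
    linear_combination (-(algebraMap R S hf * σ v₀)) * hBB
  have hredu₁ : red u₁ = ub := by
    rw [hu₁def]
    simp only [map_mul, map_add]
    rw [← hσ', hu₀, hσub, hra, hrh]
    linear_combination (algebraMap k (ring k 1) 2⁻¹ * ub) * hx2 + ub * hc2
  have hredv₁ : red v₁ = vb := by
    rw [hv₁def]
    simp only [map_mul, map_add]
    rw [← hσ', hv₀, hσvb, hrb, hrh]
    linear_combination (algebraMap k (ring k 1) 2⁻¹ * vb) * hx1 + vb * hc2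
  have hccm : ∀ a : ring k 1, a ∈ IsLocalRing.maximalIdeal (ring k 1) →
      PowerSeries.constantCoeff (brP a) = 0 := fun a ha =>
    constantCoeff_eq_zero_of_not_isUnit brP ((IsLocalRing.mem_maximalIdeal _).mp ha)
  have hu₁m : u₁ ∈ IsLocalRing.maximalIdeal S := by
    refine (IsLocalRing.mem_maximalIdeal _).mpr fun hu => hunit _ hu ?_
    rw [hχ₀, hredu₁]
    exact hccm _ hubm
  have hv₁m : v₁ ∈ IsLocalRing.maximalIdeal S := by
    refine (IsLocalRing.mem_maximalIdeal _).mpr fun hu => hunit _ hu ?_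
    rw [hχ₀, hredv₁]
    exact hccm _ hvbm
  have hu₁v₁ : u₁ * v₁ ∈ (IsLocalRing.maximalIdeal R).map (algebraMap R S) := by
    rw [← hI, ← hred0, map_mul, hredu₁, hredv₁, hubvb]
  have hIle : I ≤ IsLocalRing.maximalIdeal S := by
    rw [hI]
    exact map_maximalIdeal_le
  have hgen₁ : IsLocalRing.maximalIdeal S =
      Ideal.span {u₁, v₁} ⊔ (IsLocalRing.maximalIdeal R).map (algebraMap R S) := by
    rw [← hI]
    apply le_antisymm
    · intro s hs
      have hs' : red s ∈ IsLocalRing.maximalIdeal (ring k 1) :=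
        mem_maximalIdeal_of_cc (hnonunit s ((IsLocalRing.mem_maximalIdeal _).mp hs))
      obtain ⟨p, q, hpq⟩ := hgenb _ hs'
      obtain ⟨p', rfl⟩ := hred_surj p
      obtain ⟨q', rfl⟩ := hred_surj q
      have h1 : s - (p' * u₁ + q' * v₁) ∈ I := by
        rw [← hred0, map_sub, map_add, map_mul, map_mul, hredu₁, hredv₁, hpq, sub_self]
      have h2' : p' * u₁ + q' * v₁ ∈ Ideal.span {u₁, v₁} :=
        Ideal.mem_span_pair.mpr ⟨p', q', rfl⟩
      have := Submodule.add_mem_sup h2' h1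
      rwa [add_sub_cancel] at this
    · refine sup_le (Ideal.span_le.mpr ?_) hIle
      intro x hx
      rcases hx with hx | hx
      · rw [hx]
        exact hu₁m
      · rw [Set.mem_singleton_iff.mp hx]
        exact hv₁m
  -- the equivariant approximation
  obtain ⟨u, v, t, hum, hvm, htm, huv, hσu, hσv, hu1, hv1, htab⟩ :=
    exists_eigen_uv hres σ hσ hf hhf a b haa hbb u₁ v₁ hu₁m hv₁m hσu₁ hσv₁ hu₁v₁ hgen₁
  have hgen : IsLocalRing.maximalIdeal S =
      Ideal.span {u, v} ⊔ (IsLocalRing.maximalIdeal R).map (algebraMap R S) := by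
    apply le_antisymm
    · rw [hgen₁]
      refine sup_le (Ideal.span_le.mpr ?_) le_sup_right
      intro x hx
      rcases hx with hx | hx
      · rw [hx]
        have h1 : u ∈ Ideal.span {u, v} ⊔ (IsLocalRing.maximalIdeal R).map (algebraMap R S) :=
          Ideal.mem_sup_left (Ideal.subset_span (Set.mem_insert _ _))
        have h2' : u - u₁ ∈ Ideal.span {u, v} ⊔ (IsLocalRing.maximalIdeal R).map (algebraMap R S) :=
          Ideal.mem_sup_right hu1
        have := Ideal.sub_mem _ h1 h2'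
        rwa [sub_sub_cancel] at this
      · rw [Set.mem_singleton_iff.mp hx]
        have h1 : v ∈ Ideal.span {u, v} ⊔ (IsLocalRing.maximalIdeal R).map (algebraMap R S) :=
          Ideal.mem_sup_left (Ideal.subset_span (Set.mem_insert_of_mem _ rfl))
        have h2' : v - v₁ ∈ Ideal.span {u, v} ⊔ (IsLocalRing.maximalIdeal R).map (algebraMap R S) :=
          Ideal.mem_sup_right hv1
        have := Ideal.sub_mem _ h1 h2'
        rwa [sub_sub_cancel] at this
    · refine sup_le (Ideal.span_le.mpr ?_) map_maximalIdeal_le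
      intro x hx
      rcases hx with hx | hx
      · rw [hx]
        exact hum
      · rw [Set.mem_singleton_iff.mp hx]
        exact hvm
  -- the comparison map and the kernel estimate
  obtain ⟨Λ, hΛ1, hΛ2⟩ := exists_Lambda h2 ρ hρ
  have hfib : ∀ ψ : MvPowerSeries (Fin 2) R →ₐ[R] S, ψ (MvPowerSeries.X 0) = u →
      ψ (MvPowerSeries.X 1) = v → Function.Surjective ψ → ∀ f, ψ f = 0 →
        f ∈ (IsLocalRing.maximalIdeal R).map
            (MvPowerSeries.C : R →+* MvPowerSeries (Fin 2) R) ⊔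
          Ideal.span {(MvPowerSeries.X 0 * MvPowerSeries.X 1 - MvPowerSeries.C t :
            MvPowerSeries (Fin 2) R)} := by
    intro ψ hψ0 hψ1 hψs f hf
    have hψC : ∀ r, ψ (MvPowerSeries.C r) = algebraMap R S r := fun r => by
      have := ψ.commutes r
      rwa [MvPowerSeries.algebraMap_apply, Algebra.algebraMap_self, RingHom.id_apply] at this
    let ψb : MvPowerSeries (Fin 2) R →+* ring k 1 :=
      (red : S →+* ring k 1).comp (ψ : MvPowerSeries (Fin 2) R →+* S)
    have hψb : ∀ p, ψb p = red (ψ p) := fun p => rfl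
    have hΛ1' : Λ (eqn k 1) = MvPowerSeries.X 0 * MvPowerSeries.X 1 := hΛ1
    refine ker_le_of_surjective_endo (eqn k 1) Λ _ ?_ ?_ ψb ?_ ?_ f ?_
    · rw [hΛ1']
      have h3 := Submodule.add_mem_sup
        (Ideal.mem_map_of_mem (MvPowerSeries.C : R →+* MvPowerSeries (Fin 2) R) htm)
        (Ideal.subset_span (Set.mem_singleton
          (MvPowerSeries.X 0 * MvPowerSeries.X 1 - MvPowerSeries.C t : MvPowerSeries (Fin 2) R)))
      rwa [add_sub_cancel] at h3
    · intro p
      obtain ⟨g, hg⟩ := hΛ2 p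
      exact ⟨g, Ideal.mem_sup_left hg⟩
    · intro n
      obtain ⟨s, rfl⟩ := hred_surj n
      obtain ⟨p, rfl⟩ := hψs s
      exact ⟨p, rfl⟩
    · intro p hp
      have hle : (IsLocalRing.maximalIdeal R).map
            (MvPowerSeries.C : R →+* MvPowerSeries (Fin 2) R) ⊔
          Ideal.span {(MvPowerSeries.X 0 * MvPowerSeries.X 1 - MvPowerSeries.C t :
            MvPowerSeries (Fin 2) R)} ≤ RingHom.ker ψb := by
        refine sup_le ?_ ?_
        · rw [Ideal.map_le_iff_le_comap]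
          intro r hr
          rw [Ideal.mem_comap, RingHom.mem_ker, hψb, hψC, hred0, hI]
          exact Ideal.mem_map_of_mem _ hr
        · rw [Ideal.span_singleton_le_iff_mem, RingHom.mem_ker, hψb, map_sub, map_mul, hψ0, hψ1,
            hψC, huv, sub_self, map_zero]
      exact RingHom.mem_ker.mp (hle hp)
    · rw [hψb, hf, map_zero]
  obtain ⟨f, hfu, hfv⟩ := exists_algEquiv hres u v t hum hvm huv hgen hfib
  refine ⟨t, ξ₁, ξ₂, hsq₁, hsq₂, ?_, f, ?_, ?_⟩
  · intro h12
    have hab : a * b = -1 := by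
      rw [ha_def, hb_def, ← map_mul, h12]
      have : ξ₂ * -ξ₂ = -1 := by rw [mul_neg, ← pow_two, hsq₂]
      rw [this, map_neg, map_one]
    rw [hab] at htab
    have h3 : t * (2 * hf) = 0 := by linear_combination hf * htab
    rwa [hhf, mul_one] at h3
  · have h1 : f.symm (Ideal.Quotient.mk _ (MvPowerSeries.X 0)) = u := by
      rw [← hfu, AlgEquiv.symm_apply_apply]
    rw [h1, hσu, ← Algebra.smul_def, map_smul, hfu, ha_def]
  · have h1 : f.symm (Ideal.Quotient.mk _ (MvPowerSeries.X 1)) = v := by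
      rw [← hfv, AlgEquiv.symm_apply_apply]
    rw [h1, hσv, ← Algebra.smul_def, map_smul, hfv, hb_def]


/-- Let k be an algebraically closed field with 2 invertible, R → S a flat local homomorphism of
complete Noetherian local k-algebras whose closed fibre S/m_R S is isomorphic over k to the node
algebra k[[x,y]]/(y^2 - x^2), and σ an R-algebra involution of S whose reduction to the closed fibre
does not exchange the two branches (it maps each minimal prime ideal over m_R S to itself). Then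
there are t in R, signs ξ₁, ξ₂ in k and an R-algebra isomorphism of S with R[[x,y]]/(xy - t)
transporting σ to x ↦ ξ₂ x, y ↦ ξ₁ y; moreover t = 0 when ξ₁ = -ξ₂. -/
theorem result (k R S : Type u) [Field k] [IsAlgClosed k]
    (h2 : (2 : k) ≠ 0)
    [CommRing R] [IsLocalRing R] [IsNoetherianRing R] [IsAdicComplete (IsLocalRing.maximalIdeal R) R]
    [CommRing S] [IsLocalRing S] [IsNoetherianRing S] [IsAdicComplete (IsLocalRing.maximalIdeal S) S]
    [Algebra k R] [Algebra R S] [Algebra k S] [IsScalarTower k R S]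
    [IsLocalHom (algebraMap R S)] [Module.Flat R S]
    (e : (S ⧸ Ideal.map (algebraMap R S) (IsLocalRing.maximalIdeal R)) ≃ₐ[k]
      (MvPowerSeries (Fin 2) k ⧸
        Ideal.span {(MvPowerSeries.X 1 ^ 2 - MvPowerSeries.X 0 ^ 2 : MvPowerSeries (Fin 2) k)}))
    (σ : S ≃ₐ[R] S) (hσ : ∀ s, σ (σ s) = s)
    (hbr : ∀ P ∈ (Ideal.map (algebraMap R S) (IsLocalRing.maximalIdeal R)).minimalPrimes,
      Ideal.map (σ : S →+* S) P = P) :
    ∃ (t : R) (ξ₁ ξ₂ : k), ξ₁ ^ 2 = 1 ∧ ξ₂ ^ 2 = 1 ∧ (ξ₁ = -ξ₂ → t = 0) ∧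
      ∃ f : S ≃ₐ[R] (MvPowerSeries (Fin 2) R ⧸
          Ideal.span {(MvPowerSeries.X 0 * MvPowerSeries.X 1 - MvPowerSeries.C t : MvPowerSeries (Fin 2) R)}),
        f (σ (f.symm (Ideal.Quotient.mk _ (MvPowerSeries.X 0)))) =
          algebraMap k R ξ₂ • Ideal.Quotient.mk _ (MvPowerSeries.X 0) ∧
        f (σ (f.symm (Ideal.Quotient.mk _ (MvPowerSeries.X 1)))) =
          algebraMap k R ξ₁ • Ideal.Quotient.mk _ (MvPowerSeries.X 1) :=
  main h2 _ rfl e σ hσ hbr

end Groth.Agent.S14084
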