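import Groth.Statements.S14086
import Groth.Agent.Lib.Helper71.Flat
import Groth.Agent.Lib.Helper71.Pure
-- import your own Groth.Agent.* helpers here

set_option autoImplicit false
universe u
open FlatMor

namespace Groth.Agent.S14086

/-- Let R be a ring, A and B flat R-algebras, I an ideal of A, B → A/I an injective finite flat map of
R-algebras and P = B ×_{A/I} A the fibre product ring (pairs in B × A with equal image in A/I). For
any R-algebra R' the base change R' ⊗_R P maps injectively to R' ⊗_R A, and any b' in R' ⊗_R B and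
a' in R' ⊗_R A with the same image in R' ⊗_R (A/I) are the two components of some element of R' ⊗_R
P; that is, R' ⊗_R P is the fibre product of R' ⊗_R B and R' ⊗_R A over R' ⊗_R (A/I). -/
theorem result (R A B R' : Type u) [CommRing R] [CommRing A]
    [CommRing B] [CommRing R'] [Algebra R A] [Algebra R B] [Algebra R R'] [Module.Flat R A] [Module.Flat R B]
    (I : Ideal A) [Algebra B (A ⧸ I)] [IsScalarTower R B (A ⧸ I)] [Module.Finite B (A ⧸ I)] [Module.Flat B (A ⧸ I)]
    (hinj : Function.Injective (algebraMap B (A ⧸ I))) :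
    Function.Injective (Algebra.TensorProduct.map (AlgHom.id R' R')
        ((AlgHom.snd R B A).comp (AlgHom.equalizer ((IsScalarTower.toAlgHom R B (A ⧸ I)).comp (AlgHom.fst R B A))
          ((Ideal.Quotient.mkₐ R I).comp (AlgHom.snd R B A))).val)) ∧
    ∀ (b : TensorProduct R R' B) (a : TensorProduct R R' A),
      Algebra.TensorProduct.map (AlgHom.id R' R') (IsScalarTower.toAlgHom R B (A ⧸ I)) b =
        Algebra.TensorProduct.map (AlgHom.id R' R') (Ideal.Quotient.mkₐ R I) a →
      ∃ x : TensorProduct R R' ↥(AlgHom.equalizer ((IsScalarTower.toAlgHom R B (A ⧸ I)).comp (AlgHom.fst R B A))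
          ((Ideal.Quotient.mkₐ R I).comp (AlgHom.snd R B A))),
        Algebra.TensorProduct.map (AlgHom.id R' R') ((AlgHom.fst R B A).comp (AlgHom.equalizer ((IsScalarTower.toAlgHom R B (A ⧸ I)).comp (AlgHom.fst R B A))
          ((Ideal.Quotient.mkₐ R I).comp (AlgHom.snd R B A))).val) x = b ∧
        Algebra.TensorProduct.map (AlgHom.id R' R') ((AlgHom.snd R B A).comp (AlgHom.equalizer ((IsScalarTower.toAlgHom R B (A ⧸ I)).comp (AlgHom.fst R B A))
          ((Ideal.Quotient.mkₐ R I).comp (AlgHom.snd R B A))).val) x = a := by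
  classical
  haveI : Module.Flat R (A ⧸ I) := Module.Flat.trans R B (A ⧸ I)
  haveI : Module.FaithfullyFlat B (A ⧸ I) :=
    Groth.Agent.Lib.Helper71.faithfullyFlat_of_integral_injective B (A ⧸ I) hinj
  let φ : B × A →ₐ[R] A ⧸ I := (IsScalarTower.toAlgHom R B (A ⧸ I)).comp (AlgHom.fst R B A)
  let ψ : B × A →ₐ[R] A ⧸ I := (Ideal.Quotient.mkₐ R I).comp (AlgHom.snd R B A)
  let g : ↥(AlgHom.equalizer φ ψ) →ₗ[R] B × A := (AlgHom.equalizer φ ψ).val.toLinearMap
  let f : B × A →ₗ[R] A ⧸ I := φ.toLinearMap - ψ.toLinearMap
  have hg : Function.Injective g := Subtype.val_injective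
  have hf : Function.Surjective f := by
    intro y
    obtain ⟨a, rfl⟩ := Ideal.Quotient.mk_surjective y
    refine ⟨(0, -a), ?_⟩
    simp [f, φ, ψ]
  have hex : Function.Exact g f := by
    intro x
    constructor
    · intro hx
      have hx' : φ x = ψ x := by
        have : φ x - ψ x = 0 := hx
        exact sub_eq_zero.1 this
      exact ⟨⟨x, hx'⟩, rfl⟩
    · rintro ⟨y, rfl⟩
      have : φ (y : B × A) = ψ (y : B × A) := y.2
      show φ (y : B × A) - ψ (y : B × A) = 0
      rw [this, sub_self]
  have hginj : Function.Injective (g.lTensor R') :=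
    LinearMap.lTensor_injective_of_exact_of_flat f hf g hg hex R'
  have hexT : Function.Exact (g.lTensor R') (f.lTensor R') := lTensor_exact R' hex hf
  let e := TensorProduct.prodRight R R R' B A
  -- formulas
  have hfst : ∀ x, Algebra.TensorProduct.map (AlgHom.id R' R')
      ((AlgHom.fst R B A).comp (AlgHom.equalizer φ ψ).val) x = (e (g.lTensor R' x)).1 := by
    intro x
    induction x using TensorProduct.induction_on with
    | zero => simp
    | tmul r p => simp [e, g]
    | add x y hx hy => simp only [map_add, hx, hy, Prod.fst_add]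
  have hsnd : ∀ x, Algebra.TensorProduct.map (AlgHom.id R' R')
      ((AlgHom.snd R B A).comp (AlgHom.equalizer φ ψ).val) x = (e (g.lTensor R' x)).2 := by
    intro x
    induction x using TensorProduct.induction_on with
    | zero => simp
    | tmul r p => simp [e, g]
    | add x y hx hy => simp only [map_add, hx, hy, Prod.snd_add]
  have hfT : ∀ y, f.lTensor R' y =
      Algebra.TensorProduct.map (AlgHom.id R' R') (IsScalarTower.toAlgHom R B (A ⧸ I)) (e y).1 -
        Algebra.TensorProduct.map (AlgHom.id R' R') (Ideal.Quotient.mkₐ R I) (e y).2 := by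
    intro y
    induction y using TensorProduct.induction_on with
    | zero => simp
    | tmul r p => simp [e, f, φ, ψ, TensorProduct.tmul_sub]
    | add x y hx hy => simp only [map_add, hx, hy, Prod.fst_add, Prod.snd_add]; abel
  have hpure : Function.Injective (Algebra.TensorProduct.map (AlgHom.id R' R')
      (IsScalarTower.toAlgHom R B (A ⧸ I))) := by
    have h1 := Groth.Agent.Lib.Helper71.rTensor_injective_of_faithfullyFlat R B (A ⧸ I) R'
    rw [← LinearMap.lTensor_inj_iff_rTensor_inj] at h1
    intro z z' hzz
    apply h1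
    have h2 : ∀ w, (IsScalarTower.toAlgHom R B (A ⧸ I)).toLinearMap.lTensor R' w =
        Algebra.TensorProduct.map (AlgHom.id R' R') (IsScalarTower.toAlgHom R B (A ⧸ I)) w := by
      intro w
      induction w using TensorProduct.induction_on with
      | zero => simp
      | tmul r b => simp
      | add x y hx hy => simp only [map_add, hx, hy]
    rw [h2, h2, hzz]
  refine ⟨?_, ?_⟩
  · rw [injective_iff_map_eq_zero]
    intro x hx
    have h0 : f.lTensor R' (g.lTensor R' x) = 0 := hexT.apply_apply_eq_zero x
    rw [hfT, ← hsnd, hx, map_zero, sub_zero] at h0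
    have hb : (e (g.lTensor R' x)).1 = 0 := hpure (by rw [h0, map_zero])
    have ha : (e (g.lTensor R' x)).2 = 0 := by rw [← hsnd, hx]
    have : e (g.lTensor R' x) = 0 := Prod.ext hb ha
    have : g.lTensor R' x = 0 := by simpa using this
    exact hginj (by rw [this, map_zero])
  · intro b a hba
    have hy : f.lTensor R' (e.symm (b, a)) = 0 := by
      rw [hfT, LinearEquiv.apply_symm_apply, hba, sub_self]
    obtain ⟨x, hx⟩ := (hexT (e.symm (b, a))).1 hy
    refine ⟨x, ?_, ?_⟩
    · rw [hfst, hx, LinearEquiv.apply_symm_apply]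
    · rw [hsnd, hx, LinearEquiv.apply_symm_apply]

end Groth.Agent.S14086
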