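import Groth.Statements.S14088
import Mathlib.Tactic

set_option autoImplicit false
universe u
open ArSing

namespace Groth.Agent.S14088

section
variable {A : Type u} [CommRing A]

/-- rising product `∏_{i<j} (h + iτ)` -/
def P (h τ : A) (j : ℕ) : A := ∏ i ∈ Finset.range j, (h + (i : A) * τ)

lemma P_succ (h τ : A) (j : ℕ) : P h τ (j + 1) = P h τ j * (h + (j : A) * τ) :=
  Finset.prod_range_succ _ _

/-- coefficient -/
def c (A : Type u) [CommRing A] (m n s : ℕ) : A :=
  (-1 : A) ^ s * (Nat.factorial s : A) * (Nat.choose n s : A) * (Nat.choose m s : A)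

lemma choose_mul_sub (m k : ℕ) :
    (Nat.choose m k : A) * ((m : A) - (k : A)) = (Nat.choose m (k + 1) : A) * ((k : A) + 1) := by
  by_cases hk : k ≤ m
  · have := Nat.choose_succ_right_eq m k
    have h2 : ((Nat.choose m (k + 1) * (k + 1) : ℕ) : A) = ((Nat.choose m k * (m - k) : ℕ) : A) := by
      rw [this]
    push_cast [Nat.cast_sub hk] at h2
    rw [h2]
  · push_neg at hk
    rw [Nat.choose_eq_zero_of_lt hk, Nat.choose_eq_zero_of_lt (by omega : m < k + 1)]
    simp

lemma c_succ (m n s : ℕ) :
    c A m (n + 1) (s + 1) = c A m n (s + 1) - c A m n s * ((m : A) - (s : A)) := by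
  unfold c
  have h1 : (Nat.choose (n + 1) (s + 1) : A) = (Nat.choose n s : A) + (Nat.choose n (s + 1) : A) := by
    rw [Nat.choose_succ_succ]; push_cast; ring
  have h2 := choose_mul_sub (A := A) m s
  have h3 : ((s + 1).factorial : A) = ((s : A) + 1) * (s.factorial : A) := by
    rw [Nat.factorial_succ]; push_cast; ring
  rw [h1, h3, pow_succ]
  have : (-1 : A) ^ s * (s.factorial : A) * (n.choose s : A) * (m.choose s : A) * ((m : A) - (s : A))
      = (-1 : A) ^ s * (s.factorial : A) * (n.choose s : A) * ((m.choose (s + 1) : A) * ((s : A) + 1)) := by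
    rw [← h2]; ring
  rw [this]
  ring

lemma main (h τ : A) (m : ℕ) : ∀ n : ℕ, P h τ n * P h τ m =
    ∑ s ∈ Finset.range (n + 1), c A m n s * τ ^ s * P h τ (m + n - s) := by
  intro n
  induction n with
  | zero => simp [P, c]
  | succ n ih =>
    have hstep : ∀ s ∈ Finset.range (n + 1), (h + (n : A) * τ) * P h τ (m + n - s) =
        P h τ (m + n + 1 - s) - ((m : A) - (s : A)) * τ * P h τ (m + n - s) := by
      intro s hs
      have hs' : s ≤ n := Nat.lt_succ_iff.1 (Finset.mem_range.1 hs)
      have e1 : m + n + 1 - s = (m + n - s) + 1 := by omega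
      rw [e1, P_succ]
      have e2 : ((m + n - s : ℕ) : A) = (m : A) + (n : A) - (s : A) := by
        rw [Nat.cast_sub (by omega)]; push_cast; ring
      rw [e2]; ring
    calc P h τ (n + 1) * P h τ m = (h + (n : A) * τ) * (P h τ n * P h τ m) := by
          rw [P_succ]; ring
      _ = ∑ s ∈ Finset.range (n + 1), c A m n s * τ ^ s *
            (P h τ (m + n + 1 - s) - ((m : A) - (s : A)) * τ * P h τ (m + n - s)) := by
          rw [ih, Finset.mul_sum]
          apply Finset.sum_congr rfl
          intro s hs
          rw [← hstep s hs]; ring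
      _ = ∑ s ∈ Finset.range (n + 2), c A m n s * τ ^ s * P h τ (m + n + 1 - s)
            - ∑ s ∈ Finset.range (n + 1), c A m n s * ((m : A) - (s : A)) * τ ^ (s + 1) * P h τ (m + n - s) := by
          rw [Finset.sum_range_succ _ (n + 1)]
          have hz : c A m n (n + 1) = 0 := by
            unfold c; rw [Nat.choose_succ_self]; simp
          rw [hz, zero_mul, zero_mul, add_zero, ← Finset.sum_sub_distrib]
          apply Finset.sum_congr rfl
          intro s _
          ring
      _ = ∑ s ∈ Finset.range (n + 1 + 1), c A m (n + 1) s * τ ^ s * P h τ (m + (n + 1) - s) := by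
          rw [Finset.sum_range_succ' _ (n + 1), Finset.sum_range_succ' _ (n + 1)]
          have h0 : c A m n 0 = c A m (n + 1) 0 := by unfold c; simp
          rw [h0]
          have : ∀ s : ℕ, m + n + 1 - (s + 1) = m + n - s := fun s => by omega
          simp only [this, ← add_assoc]
          rw [add_sub_right_comm, ← Finset.sum_sub_distrib]
          congr 1
          apply Finset.sum_congr rfl
          intro s _
          rw [c_succ]; ring

end

/-- The identity behind the torus-equivariant classes h_i = h_0 + i τ of the coordinate hyperplanes of a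
projective space of binary forms, stated in an arbitrary commutative ring: for n ≤ m, (h_0 ⋯
h_(n-1))^2 · h_n ⋯ h_(m-1) equals the sum over s = 0, …, n of (-1)^s s! (n choose s) (m choose s)
τ^s h_0 ⋯ h_(m+n-s-1), where h_i = h + i τ. (The published statement is in the equivariant Chow ring
of that projective space; only the relations h_i = h_j + (j - i) τ are used, so it holds in any
commutative ring.) -/
theorem result (A : Type u) [CommRing A] (h τ : A) (n m : ℕ) (hnm : n ≤ m) :
    (∏ i ∈ Finset.range n, (h + (i : A) * τ) ^ 2) * ∏ i ∈ Finset.Ico n m, (h + (i : A) * τ) =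
      ∑ s ∈ Finset.range (n + 1), (-1 : A) ^ s * (Nat.factorial s : A) * (Nat.choose n s : A) *
        (Nat.choose m s : A) * τ ^ s * ∏ i ∈ Finset.range (m + n - s), (h + (i : A) * τ) := by
  have hL : (∏ i ∈ Finset.range n, (h + (i : A) * τ) ^ 2) * ∏ i ∈ Finset.Ico n m, (h + (i : A) * τ)
      = P h τ n * P h τ m := by
    unfold P
    rw [Finset.prod_pow, sq, mul_assoc, Finset.prod_range_mul_prod_Ico _ hnm]
  rw [hL, main h τ m n]
  apply Finset.sum_congr rfl
  intro s _
  unfold c P
  ring

end Groth.Agent.S14088
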