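import Groth.Statements.S1409
import Mathlib

set_option autoImplicit false
universe u
open FlatMor

namespace Groth.Agent.S1409

/-- contraction of a minimal prime along a flat ring map is a minimal prime -/
theorem comap_mem_minimalPrimes {A B : Type*} [CommRing A] [CommRing B] (φ : A →+* B)
    (hflat : letI := φ.toAlgebra; Module.Flat A B) {Q : Ideal B} (hQ : Q ∈ minimalPrimes B) :
    Q.comap φ ∈ minimalPrimes A := by
  letI := φ.toAlgebra
  haveI : Module.Flat A B := hflat
  haveI hQp : Q.IsPrime := hQ.1.1
  haveI : (Q.comap φ).IsPrime := Ideal.comap_isPrime φ Q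
  refine ⟨⟨inferInstance, bot_le⟩, ?_⟩
  rintro p' ⟨hp', -⟩ hle
  haveI := hp'
  haveI : Q.LiesOver (Q.comap φ) := ⟨rfl⟩
  obtain ⟨Q', hQ'le, hQ'p, hQ'over⟩ := Ideal.exists_ideal_le_liesOver_of_le (p := p')
    (q := Q.comap φ) Q hle
  have hQQ' : Q ≤ Q' := hQ.2 ⟨hQ'p, bot_le⟩ hQ'le
  have : Q' = Q := le_antisymm hQ'le hQQ'
  subst this
  rw [hQ'over.over]
  exact le_rfl

/-- every minimal prime is the contraction of a minimal prime, if primes are contracted-extended -/
theorem exists_minimalPrimes_comap {A B : Type*} [CommRing A] [CommRing B] (φ : A →+* B)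
    (hcm : ∀ p : Ideal A, p.IsPrime → (p.map φ).comap φ = p) {p : Ideal A}
    (hp : p ∈ minimalPrimes A) : ∃ Q ∈ minimalPrimes B, Q.comap φ = p := by
  haveI hpp : p.IsPrime := hp.1.1
  obtain ⟨Q0, hQ0p, hQ0⟩ := (Ideal.comap_map_eq_self_iff_of_isPrime p).mp (hcm p hpp)
  haveI := hQ0p
  obtain ⟨Q, hQ, hQle⟩ := Ideal.exists_minimalPrimes_le (I := ⊥) (J := Q0) bot_le
  refine ⟨Q, hQ, ?_⟩
  haveI : Q.IsPrime := hQ.1.1
  have h1 : Q.comap φ ≤ p := hQ0 ▸ Ideal.comap_mono hQle
  exact le_antisymm h1 (hp.2 ⟨Ideal.comap_isPrime φ Q, bot_le⟩ h1)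

theorem encard_le_of_flat {A B : Type*} [CommRing A] [CommRing B] (φ : A →+* B)
    (hcm : ∀ p : Ideal A, p.IsPrime → (p.map φ).comap φ = p) :
    (minimalPrimes A).encard ≤ (minimalPrimes B).encard := by
  have hsub : minimalPrimes A ⊆ Ideal.comap φ '' minimalPrimes B := by
    intro p hp
    obtain ⟨Q, hQ, hQp⟩ := exists_minimalPrimes_comap φ hcm hp
    exact ⟨Q, hQ, hQp⟩
  exact (Set.encard_le_encard hsub).trans (Set.encard_image_le _ _)

theorem result {ι : Type u} [Preorder ι] [IsDirected ι (· ≤ ·)] [Nonempty ι] (G : ι → Type u) [∀ i, CommRing (G i)]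
    (f : ∀ i j, i ≤ j → G i →+* G j) [DirectedSystem G fun i j h => f i j h]
    (hf : ∀ i j (h : i ≤ j), letI := (f i j h).toAlgebra
      Module.FaithfullyFlat (G i) (G j)) :
    (minimalPrimes (Ring.DirectLimit G fun i j h => ⇑(f i j h))).encard = ⨆ i, (minimalPrimes (G i)).encard := by
  classical
  set R := Ring.DirectLimit G fun i j h => ⇑(f i j h) with hR
  let of : ∀ i, G i →+* R := fun i => Ring.DirectLimit.of G (fun i j h => ⇑(f i j h)) i
  have of_f : ∀ i j (h : i ≤ j) (x : G i), of j (f i j h x) = of i x := fun i j h x =>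
    Ring.DirectLimit.of_f h x
  have hff : ∀ i j (h : i ≤ j) (k) (hk : j ≤ k) (x : G i), f j k hk (f i j h x) = f i k (h.trans hk) x :=
    fun i j h k hk x => DirectedSystem.map_map (f := fun i j h => f i j h) h hk x
  -- comap ∘ map = id on the transition maps
  have hcm_f : ∀ i j (h : i ≤ j) (p : Ideal (G i)), (p.map (f i j h)).comap (f i j h) = p := by
    intro i j h p
    letI := (f i j h).toAlgebra
    haveI : Module.FaithfullyFlat (G i) (G j) := hf i j h
    exact Ideal.comap_map_eq_self_of_faithfullyFlat (B := G j) p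
  -- comap ∘ map = id for the maps to the colimit
  have hcm_of : ∀ i (p : Ideal (G i)), (p.map (of i)).comap (of i) = p := by
    intro i p
    apply le_antisymm _ Ideal.le_comap_map
    intro x hx
    rw [Ideal.mem_comap] at hx
    -- write `of i x` as a finite combination
    have : ∀ z ∈ p.map (of i), ∃ (j : ι) (hij : i ≤ j) (w : G j), w ∈ p.map (f i j hij) ∧ of j w = z := by
      intro z hz
      refine Submodule.span_induction (p := fun z _ => ∃ (j : ι) (hij : i ≤ j) (w : G j),
        w ∈ p.map (f i j hij) ∧ of j w = z) ?_ ?_ ?_ ?_ hz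
      · rintro _ ⟨a, ha, rfl⟩
        exact ⟨i, le_rfl, a, by
          have : f i i le_rfl a = a := DirectedSystem.map_self (f := fun i j h => f i j h) a
          rw [← this]; exact Ideal.mem_map_of_mem _ ha, rfl⟩
      · exact ⟨i, le_rfl, 0, Ideal.zero_mem _, map_zero _⟩
      · rintro z1 z2 _ _ ⟨j1, h1, w1, hw1, rfl⟩ ⟨j2, h2, w2, hw2, rfl⟩
        obtain ⟨k, hk1, hk2⟩ := exists_ge_ge j1 j2
        refine ⟨k, h1.trans hk1, f j1 k hk1 w1 + f j2 k hk2 w2, ?_, ?_⟩
        · refine Ideal.add_mem _ ?_ ?_
          · have := Ideal.mem_map_of_mem (f j1 k hk1) hw1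
            rw [Ideal.map_map] at this
            convert this using 2
            ext x; exact (hff i j1 h1 k hk1 x).symm
          · have := Ideal.mem_map_of_mem (f j2 k hk2) hw2
            rw [Ideal.map_map] at this
            convert this using 2
            ext x; exact (hff i j2 h2 k hk2 x).symm
        · rw [map_add, of_f, of_f]
      · rintro c z _ ⟨j1, h1, w1, hw1, rfl⟩
        obtain ⟨j2, c2, rfl⟩ := Ring.DirectLimit.exists_of c
        obtain ⟨k, hk1, hk2⟩ := exists_ge_ge j1 j2
        refine ⟨k, h1.trans hk1, f j2 k hk2 c2 * f j1 k hk1 w1, ?_, ?_⟩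
        · refine Ideal.mul_mem_left _ _ ?_
          have := Ideal.mem_map_of_mem (f j1 k hk1) hw1
          rw [Ideal.map_map] at this
          convert this using 2
          ext x; exact (hff i j1 h1 k hk1 x).symm
        · rw [map_mul, of_f, of_f]; rfl
    obtain ⟨j, hij, w, hw, hwx⟩ := this _ hx
    -- `of j w = of j (f i j x)`, so they agree at a later stage
    have h0 : of j (w - f i j hij x) = 0 := by rw [map_sub, hwx, of_f, sub_self]
    obtain ⟨k, hjk, hk⟩ := Ring.DirectLimit.of.zero_exact h0
    have hk' : f j k hjk w = f i k (hij.trans hjk) x := by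
      have := hk
      rw [map_sub, sub_eq_zero, hff] at this
      exact this
    have hmem : f i k (hij.trans hjk) x ∈ p.map (f i k (hij.trans hjk)) := by
      rw [← hk']
      have := Ideal.mem_map_of_mem (f j k hjk) hw
      rw [Ideal.map_map] at this
      convert this using 2
      ext x; exact (hff i j hij k hjk x).symm
    have := hcm_f i k (hij.trans hjk) p
    rw [← this]
    exact hmem
  -- flatness of the colimit
  have hflat_of : ∀ i, letI := (of i).toAlgebra; Module.Flat (G i) R := by
    intro i
    letI := (of i).toAlgebra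
    have hsmul : ∀ (a : G i) (y : R), a • y = of i a * y := fun a y => Algebra.smul_def a y
    apply Module.Flat.of_forall_isTrivialRelation
    intro l a y hay
    -- bring everything to one stage
    choose jt y' hy' using fun t => Ring.DirectLimit.exists_of (y t)
    obtain ⟨j, hj⟩ := Finset.exists_le (Finset.univ.image jt ∪ {i})
    have hjt : ∀ t, jt t ≤ j := fun t => hj _ (by simp)
    have hij : i ≤ j := hj _ (by simp)
    let y'' : Fin l → G j := fun t => f (jt t) j (hjt t) (y' t)
    have hy'' : ∀ t, of j (y'' t) = y t := fun t => by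
      change of j (f (jt t) j (hjt t) (y' t)) = y t
      rw [of_f]; exact hy' t
    have h0 : of j (∑ t, f i j hij (a t) * y'' t) = 0 := by
      rw [map_sum, ← hay]
      refine Finset.sum_congr rfl fun t _ => ?_
      rw [map_mul, of_f, hy'', hsmul]
    obtain ⟨k, hjk, hk⟩ := Ring.DirectLimit.of.zero_exact h0
    have hik : i ≤ k := hij.trans hjk
    letI algik := (f i k hik).toAlgebra
    haveI : Module.FaithfullyFlat (G i) (G k) := hf i k hik
    have hsmulk : ∀ (a : G i) (z : G k), a • z = f i k hik a * z := fun a z => Algebra.smul_def a z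
    have hrel : ∑ t, a t • f j k hjk (y'' t) = 0 := by
      rw [← hk, map_sum]
      refine Finset.sum_congr rfl fun t _ => ?_
      rw [map_mul, hsmulk, hff i j hij k hjk]
    haveI hfl : Module.Flat (G i) (G k) := Module.FaithfullyFlat.toFlat
    obtain ⟨K, b, z, hz, hb⟩ := Module.Flat.isTrivialRelation_of_sum_smul_eq_zero (R := G i)
      (M := G k) (f := a) (x := fun t => f j k hjk (y'' t)) hrel
    refine ⟨K, b, fun m => of k (z m), ?_, hb⟩
    intro t
    have hzt : f j k hjk (y'' t) = ∑ m, b t m • z m := hz t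
    rw [← hy'' t, ← of_f j k hjk, hzt, map_sum]
    refine Finset.sum_congr rfl fun m _ => ?_
    rw [hsmulk, map_mul, of_f, hsmul]
  apply le_antisymm
  · by_cases htop : (⨆ i, (minimalPrimes (G i)).encard) = ⊤
    · rw [htop]; exact le_top
    · have hlt : (⨆ i, (minimalPrimes (G i)).encard) < ⊤ := lt_top_iff_ne_top.mpr htop
      obtain ⟨i0, hi0⟩ := ENat.exists_eq_iSup_of_lt_top hlt
      rw [← hi0]
      have hinj_f : ∀ k (h : i0 ≤ k),
          Set.InjOn (Ideal.comap (f i0 k h)) (minimalPrimes (G k)) := by
        intro k h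
        have hfin : (minimalPrimes (G k)).Finite := by
          rw [← Set.encard_lt_top_iff]
          exact (le_iSup (fun i => (minimalPrimes (G i)).encard) k).trans_lt hlt
        apply hfin.injOn_of_encard_image_eq
        apply le_antisymm (Set.encard_image_le _ _)
        have hsub : minimalPrimes (G i0) ⊆ Ideal.comap (f i0 k h) '' minimalPrimes (G k) := by
          intro p hp
          obtain ⟨Q, hQ, hQp⟩ := exists_minimalPrimes_comap (f i0 k h)
            (fun p _ => hcm_f i0 k h p) hp
          exact ⟨Q, hQ, hQp⟩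
        calc (minimalPrimes (G k)).encard
            ≤ ⨆ i, (minimalPrimes (G i)).encard :=
              le_iSup (fun i => (minimalPrimes (G i)).encard) k
          _ = (minimalPrimes (G i0)).encard := hi0.symm
          _ ≤ _ := Set.encard_le_encard hsub
      apply Set.encard_le_encard_of_injOn (f := Ideal.comap (of i0))
      · intro P hP
        exact comap_mem_minimalPrimes (of i0) (hflat_of i0) hP
      · intro P hP P' hP' heq
        by_contra hne
        have hnle : ¬ P ≤ P' := fun hle => hne (le_antisymm hle (hP'.2 hP.1 hle))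
        obtain ⟨x, hxP, hxP'⟩ := SetLike.not_le_iff_exists.mp hnle
        obtain ⟨j, xj, rfl⟩ := Ring.DirectLimit.exists_of x
        obtain ⟨k, hik, hjk⟩ := exists_ge_ge i0 j
        have hx' : of k (f j k hjk xj) = of j xj := of_f j k hjk xj
        have hPk : P.comap (of k) ∈ minimalPrimes (G k) :=
          comap_mem_minimalPrimes (of k) (hflat_of k) hP
        have hP'k : P'.comap (of k) ∈ minimalPrimes (G k) :=
          comap_mem_minimalPrimes (of k) (hflat_of k) hP'
        have hcomp : (of k).comp (f i0 k hik) = of i0 := RingHom.ext (of_f i0 k hik)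
        have heqk : P.comap (of k) = P'.comap (of k) := by
          apply hinj_f k hik hPk hP'k
          change Ideal.comap (f i0 k hik) (Ideal.comap (of k) P)
            = Ideal.comap (f i0 k hik) (Ideal.comap (of k) P')
          rw [Ideal.comap_comap, Ideal.comap_comap, hcomp]
          exact heq
        have h1 : f j k hjk xj ∈ P.comap (of k) := by
          rw [Ideal.mem_comap, hx']; exact hxP
        rw [heqk, Ideal.mem_comap, hx'] at h1
        exact hxP' h1
  · apply iSup_le
    intro i
    exact encard_le_of_flat (of i) (fun p _ => hcm_of i p)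

end Groth.Agent.S1409
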