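import Groth.Statements.S14090
import Groth.Agent.Lib.BlowUp.Helper18_AffineBlowUp

set_option autoImplicit false
universe u
open CategoryTheory AlgebraicGeometry
open BlowUp

namespace Groth.Agent.S14090

/-- Let A → B be an injective ring homomorphism and I an ideal of A such that the ideal I·B of B is
contained in the image of I (so I is an ideal of B as well) and I·B is generated by one
nonzerodivisor of B (I is free of rank one over B). Then Spec B → Spec A is a blowing up of Spec A
in I. (This is the affine statement behind recovering a pair (X̃, D̃), D̃ an effective Cartier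
divisor finite flat over D, as the blow-up of the pushout X̃ ⨿_D̃ D along D.) -/
theorem result (A B : Type u) [CommRing A] [CommRing B] [Algebra A B]
    (hinj : Function.Injective (algebraMap A B)) (I : Ideal A)
    (hIB : (Ideal.map (algebraMap A B) I : Set B) ⊆ algebraMap A B '' (I : Set A))
    (f : B) (hf : f ∈ nonZeroDivisors B) (hgen : Ideal.map (algebraMap A B) I = Ideal.span {f}) :
    BlowUp.IsBlowUp (Spec.map (CommRingCat.ofHom (algebraMap A B))) (Curv2.idealSheaf A I) := by
  classical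
  -- algebraic facts
  obtain ⟨a₀, ha₀, hfa₀⟩ : ∃ a₀ ∈ I, algebraMap A B a₀ = f := by
    have h0 : f ∈ (Ideal.map (algebraMap A B) I : Set B) := by
      change f ∈ Ideal.map (algebraMap A B) I
      rw [hgen]; exact Ideal.mem_span_singleton_self f
    obtain ⟨a, ha, h⟩ := hIB h0
    exact ⟨a, ha, h⟩
  have F2 : ∀ b : B, ∃ a ∈ I, algebraMap A B a = b * f := by
    intro b
    have h0 : b * f ∈ (Ideal.map (algebraMap A B) I : Set B) := by
      change b * f ∈ Ideal.map (algebraMap A B) I
      rw [hgen]; exact Ideal.mul_mem_left _ _ (Ideal.mem_span_singleton_self f)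
    obtain ⟨a, ha, h⟩ := hIB h0
    exact ⟨a, ha, h⟩
  have F3 : ∀ i ∈ I, ∃ i₂ ∈ I, i * i = a₀ * i₂ := by
    intro i hi
    have h1 : algebraMap A B i ∈ Ideal.span {f} := hgen ▸ Ideal.mem_map_of_mem _ hi
    obtain ⟨c, hc⟩ := Ideal.mem_span_singleton'.1 h1
    have h2 : c * algebraMap A B i ∈ (Ideal.map (algebraMap A B) I : Set B) :=
      Ideal.mul_mem_left _ _ (Ideal.mem_map_of_mem _ hi)
    obtain ⟨i₂, hi₂, h3⟩ := hIB h2
    refine ⟨i₂, hi₂, hinj ?_⟩
    rw [map_mul, map_mul, hfa₀, h3, ← hc]; ring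
  -- ideal of the pullback on an affine open
  have hideal : ∀ {Y : Scheme.{u}} (g : Y ⟶ Spec (CommRingCat.of A)) (W : Y.affineOpens),
      ((Curv2.idealSheaf A I).comap g).ideal W =
        I.map ((g.appLE ⊤ W.1 (fun _ _ => trivial)).hom.comp
          (Scheme.ΓSpecIso (CommRingCat.of A)).inv.hom) := by
    intro Y g W
    rw [Groth.Agent.Lib.Helper20.ideal_comap g _ W ⟨⊤, isAffineOpen_top _⟩ (fun _ _ => trivial)]
    unfold Curv2.idealSheaf
    rw [Scheme.IdealSheafData.ofIdealTop_ideal, Ideal.map_map, Ideal.map_map]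
    congr 1
  refine ⟨?_, ?_⟩
  · -- the inverse image ideal on `Spec B` is effective Cartier
    intro x
    refine ⟨⟨⊤, isAffineOpen_top _⟩, trivial,
      (Scheme.ΓSpecIso (CommRingCat.of B)).inv.hom f, ?_, ?_⟩
    · -- nonzerodivisor
      let e : B ≃+* Γ(Spec (CommRingCat.of B), ⊤) :=
        (Scheme.ΓSpecIso (CommRingCat.of B)).symm.commRingCatIsoToRingEquiv
      exact (MulEquivClass.map_nonZeroDivisors e) ▸ Submonoid.mem_map_of_mem _ hf
    · rw [hideal]
      have h1 : ((Spec.map (CommRingCat.ofHom (algebraMap A B))).appLE ⊤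
          (⊤ : (Spec (CommRingCat.of B)).Opens) (fun _ _ => trivial)).hom.comp
          (Scheme.ΓSpecIso (CommRingCat.of A)).inv.hom =
          (Scheme.ΓSpecIso (CommRingCat.of B)).inv.hom.comp (algebraMap A B) := by
        have h2 := Scheme.ΓSpecIso_inv_naturality (CommRingCat.ofHom (algebraMap A B))
        have h3 : (Spec.map (CommRingCat.ofHom (algebraMap A B))).appLE ⊤
          (⊤ : (Spec (CommRingCat.of B)).Opens) (fun _ _ => trivial) =
            (Spec.map (CommRingCat.ofHom (algebraMap A B))).appTop :=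
          Scheme.Hom.appLE_eq_app _
        rw [h3, ← CommRingCat.hom_comp, ← h2]
        rfl
      change Ideal.map _ I = _
      rw [h1, ← Ideal.map_map, hgen, Ideal.map_span, Set.image_singleton]
  · intro Y g hg
    let ψ : A →+* Γ(Y, ⊤) := g.appTop.hom.comp (Scheme.ΓSpecIso (CommRingCat.of A)).inv.hom
    have hψW : ∀ W : Y.affineOpens, (g.appLE ⊤ W.1 (fun _ _ => trivial)).hom.comp
        (Scheme.ΓSpecIso (CommRingCat.of A)).inv.hom =
        (Y.presheaf.map (homOfLE (le_top : W.1 ≤ ⊤)).op).hom.comp ψ := by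
      intro W
      rfl
    set e : Γ(Y, ⊤) := ψ a₀ with he_def
    have hloc : ∀ y : Y, ∃ W : Y.affineOpens, y ∈ W.1 ∧
        Y.presheaf.map (homOfLE (le_top : W.1 ≤ ⊤)).op e ∈ nonZeroDivisors Γ(Y, W.1) ∧
        I.map ((Y.presheaf.map (homOfLE (le_top : W.1 ≤ ⊤)).op).hom.comp ψ) =
          Ideal.span {Y.presheaf.map (homOfLE (le_top : W.1 ≤ ⊤)).op e} := by
      intro y
      obtain ⟨W, hyW, t, ht, hIt⟩ := hg y
      rw [hideal g W, hψW W] at hIt
      obtain ⟨v, hv⟩ := Groth.Agent.Lib.BlowUp.exists_unit_mul_eq_of_sq I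
        ((Y.presheaf.map (homOfLE (le_top : W.1 ≤ ⊤)).op).hom.comp ψ) a₀ ha₀ F3 t ht hIt
      have hv' : Y.presheaf.map (homOfLE (le_top : W.1 ≤ ⊤)).op e = ↑v * t := hv
      refine ⟨W, hyW, ?_, ?_⟩
      · rw [hv']
        exact mul_mem (IsUnit.mem_nonZeroDivisors v.isUnit) ht
      · rw [hIt, hv', Ideal.span_singleton_mul_left_unit v.isUnit]
    have he : e ∈ Mero.regSub Y ⊤ := by
      rintro ⟨y, hy⟩
      obtain ⟨W, hyW, hnz, -⟩ := hloc y
      have h1 := Groth.Agent.Lib.BlowUp.mem_regSub_of_mem_nonZeroDivisors W.2 _ hnz ⟨y, hyW⟩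
      change Y.presheaf.germ W.1 y hyW (Y.presheaf.map (homOfLE (le_top : W.1 ≤ ⊤)).op e) ∈ _ at h1
      rw [TopCat.Presheaf.germ_res_apply] at h1
      exact h1
    have he' : e ∈ nonZeroDivisors Γ(Y, ⊤) :=
      Groth.Agent.Lib.BlowUp.mem_nonZeroDivisors_of_mem_regSub e he
    have hcancel : ∀ p q : Γ(Y, ⊤), p * e = q * e → p = q := by
      intro p q hpq
      have h1 : (p - q) * e = 0 := by rw [sub_mul, hpq, sub_self]
      exact sub_eq_zero.1 ((mem_nonZeroDivisors_iff.1 he').2 _ h1)
    have hχ : ∀ b : B, ∃ q : Γ(Y, ⊤), ∀ a ∈ I, algebraMap A B a = b * f → q * e = ψ a := by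
      intro b
      obtain ⟨a, ha, hab⟩ := F2 b
      obtain ⟨q, hq⟩ := Groth.Agent.Lib.BlowUp.exists_mul_eq_of_locally e (ψ a) he (fun y => by
        obtain ⟨W, hyW, -, hI⟩ := hloc y
        have h1 : Y.presheaf.map (homOfLE (le_top : W.1 ≤ ⊤)).op (ψ a) ∈
            Ideal.span {Y.presheaf.map (homOfLE (le_top : W.1 ≤ ⊤)).op e} :=
          hI ▸ Ideal.mem_map_of_mem _ ha
        obtain ⟨q, hq⟩ := Ideal.mem_span_singleton'.1 h1
        exact ⟨W.1, hyW, q, hq⟩)
      refine ⟨q, fun a' ha' hab' => ?_⟩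
      have : a' = a := hinj (hab'.trans hab.symm)
      rw [this, hq]
    choose χ hχ using hχ
    let χr : B →+* Γ(Y, ⊤) :=
      { toFun := χ
        map_one' := by
          apply hcancel
          rw [hχ 1 a₀ ha₀ (by rw [hfa₀, one_mul]), one_mul]
        map_mul' := by
          intro b b'
          obtain ⟨a, ha, hab⟩ := F2 b
          obtain ⟨a', ha', hab'⟩ := F2 b'
          obtain ⟨a'', ha'', hab''⟩ := F2 (b * b')
          apply hcancel
          apply hcancel
          have h1 : a'' * a₀ = a * a' := by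
            apply hinj
            rw [map_mul, map_mul, hab, hab', hab'', hfa₀]; ring
          calc χ (b * b') * e * e = ψ a'' * ψ a₀ := by rw [hχ (b * b') a'' ha'' hab'']
            _ = ψ a * ψ a' := by rw [← map_mul, h1, map_mul]
            _ = (χ b * e) * (χ b' * e) := by rw [hχ b a ha hab, hχ b' a' ha' hab']
            _ = χ b * χ b' * e * e := by ring
        map_zero' := by
          apply hcancel
          rw [hχ 0 0 I.zero_mem (by rw [map_zero, zero_mul]), map_zero, zero_mul]
        map_add' := by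
          intro b b'
          obtain ⟨a, ha, hab⟩ := F2 b
          obtain ⟨a', ha', hab'⟩ := F2 b'
          apply hcancel
          rw [hχ (b + b') (a + a') (I.add_mem ha ha') (by rw [map_add, hab, hab', add_mul]),
            add_mul, hχ b a ha hab, hχ b' a' ha' hab', map_add] }
    have hχφ : χr.comp (algebraMap A B) = ψ := by
      ext a
      apply hcancel
      change χ (algebraMap A B a) * e = ψ a * e
      rw [hχ (algebraMap A B a) (a * a₀) (I.mul_mem_left a ha₀) (by rw [map_mul, hfa₀]), map_mul]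
    have hβ : (Spec.map (CommRingCat.ofHom (algebraMap A B))).appTop.hom.comp
        (Scheme.ΓSpecIso (CommRingCat.of A)).inv.hom =
        (Scheme.ΓSpecIso (CommRingCat.of B)).inv.hom.comp (algebraMap A B) := by
      have h2 := Scheme.ΓSpecIso_inv_naturality (CommRingCat.ofHom (algebraMap A B))
      rw [← CommRingCat.hom_comp, ← h2]
      rfl
    let h : Y ⟶ Spec (CommRingCat.of B) := Y.toSpecΓ ≫ Spec.map (CommRingCat.ofHom χr)
    have happ : h.appTop = (Scheme.ΓSpecIso (CommRingCat.of B)).hom ≫ CommRingCat.ofHom χr := by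
      change (Y.toSpecΓ ≫ Spec.map (CommRingCat.ofHom χr)).appTop = _
      rw [Scheme.Hom.comp_appTop, Scheme.toSpecΓ_appTop, Scheme.ΓSpecIso_naturality]
    have hkey : ∀ h' : Y ⟶ Spec (CommRingCat.of B),
        h' ≫ Spec.map (CommRingCat.ofHom (algebraMap A B)) = g →
        (h'.appTop.hom.comp (Scheme.ΓSpecIso (CommRingCat.of B)).inv.hom).comp
          (algebraMap A B) = ψ := by
      intro h' hh'
      have h1 : g.appTop = (Spec.map (CommRingCat.ofHom (algebraMap A B))).appTop ≫ h'.appTop := by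
        rw [← hh', Scheme.Hom.comp_appTop]
      change _ = g.appTop.hom.comp _
      rw [h1, CommRingCat.hom_comp, RingHom.comp_assoc, RingHom.comp_assoc, hβ]
    have huniq : ∀ h' : Y ⟶ Spec (CommRingCat.of B),
        h' ≫ Spec.map (CommRingCat.ofHom (algebraMap A B)) = g →
        h'.appTop.hom.comp (Scheme.ΓSpecIso (CommRingCat.of B)).inv.hom = χr := by
      intro h' hh'
      have h1 := hkey h' hh'
      ext b
      obtain ⟨a, ha, hab⟩ := F2 b
      apply hcancel
      change _ = χ b * e
      rw [hχ b a ha hab]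
      have h2 : e = (h'.appTop.hom.comp (Scheme.ΓSpecIso (CommRingCat.of B)).inv.hom) f := by
        rw [he_def, ← h1, RingHom.comp_apply, hfa₀]
      rw [h2, ← map_mul, ← hab, ← h1, RingHom.comp_apply]
      rfl
    have hfromχ : ∀ h' : Y ⟶ Spec (CommRingCat.of B),
        h'.appTop.hom.comp (Scheme.ΓSpecIso (CommRingCat.of B)).inv.hom = χr → h' = h := by
      intro h' hh'
      apply ext_of_isAffine
      rw [happ]
      ext x
      have h3 : x = (Scheme.ΓSpecIso (CommRingCat.of B)).inv.hom
          ((Scheme.ΓSpecIso (CommRingCat.of B)).hom.hom x) := by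
        rw [← CommRingCat.comp_apply, Iso.hom_inv_id]; rfl
      change h'.appTop.hom x = χr ((Scheme.ΓSpecIso (CommRingCat.of B)).hom.hom x)
      rw [← hh']
      conv_lhs => rw [h3]
      rfl
    refine ⟨h, ?_, fun h' hh' => hfromχ h' (huniq h' hh')⟩
    apply ext_of_isAffine
    rw [Scheme.Hom.comp_appTop, happ]
    have h4 : g.appTop = (Scheme.ΓSpecIso (CommRingCat.of A)).hom ≫ CommRingCat.ofHom ψ := by
      ext x
      change g.appTop.hom x = g.appTop.hom ((Scheme.ΓSpecIso (CommRingCat.of A)).inv.hom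
        ((Scheme.ΓSpecIso (CommRingCat.of A)).hom.hom x))
      rw [← CommRingCat.comp_apply (Scheme.ΓSpecIso (CommRingCat.of A)).hom, Iso.hom_inv_id]; rfl
    rw [h4, ← hχφ]
    have h5 := Scheme.ΓSpecIso_naturality (CommRingCat.ofHom (algebraMap A B))
    rw [CommRingCat.ofHom_comp, ← reassoc_of% h5]

end Groth.Agent.S14090
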