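import Groth.Statements.S14091
import Mathlib

set_option autoImplicit false
universe u
open ArSing

namespace Groth.Agent.S14091

section
open Polynomial
variable (k B : Type u) [Field k] [IsAlgClosed k]
    [CommRing B] [IsLocalRing B] [Algebra k B] [Module.Finite k B]

include k in
lemma exists_sub_mem (b : B) : ∃ c : k, b - algebraMap k B c ∈ IsLocalRing.maximalIdeal B := by
  have : Algebra.IsIntegral k (IsLocalRing.ResidueField B) := inferInstance
  have hbij := IsAlgClosed.algebraMap_bijective_of_isIntegral (k := k)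
    (K := IsLocalRing.ResidueField B)
  obtain ⟨c, hc⟩ := hbij.2 (IsLocalRing.residue B b)
  refine ⟨c, ?_⟩
  rw [← Ideal.Quotient.eq_zero_iff_mem]
  change IsLocalRing.residue B (b - algebraMap k B c) = 0
  rw [map_sub, ← hc]
  simp [IsScalarTower.algebraMap_apply k B (IsLocalRing.ResidueField B)]

theorem main (hcurv : Module.finrank (IsLocalRing.ResidueField B) (IsLocalRing.CotangentSpace B) ≤ 1) :
    Nonempty (B ≃ₐ[k] (k[X] ⧸ Ideal.span {(X : k[X]) ^ Module.finrank k B})) := by
  have hNoeth : IsNoetherianRing B := IsNoetherianRing.of_finite k B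
  have hArt : IsArtinianRing B := IsArtinianRing.of_finite k B
  obtain ⟨⟨t, ht⟩⟩ := (IsLocalRing.finrank_cotangentSpace_le_one_iff).1 hcurv
  have ht' : IsLocalRing.maximalIdeal B = Ideal.span {t} := ht
  obtain ⟨N, hN⟩ : ∃ N, t ^ N = 0 := by
    obtain ⟨N, hN⟩ := IsArtinianRing.isNilpotent_jacobson_bot (R := B)
    rw [IsLocalRing.jacobson_eq_maximalIdeal ⊥ bot_ne_top, ht', Ideal.span_singleton_pow] at hN
    refine ⟨N, ?_⟩
    have : t ^ N ∈ Ideal.span {t ^ N} := Ideal.mem_span_singleton_self _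
    rw [hN] at this
    simpa using this
  let φ : k[X] →ₐ[k] B := aeval t
  have hφX : φ X = t := aeval_X t
  have hstep : ∀ j : ℕ, ∀ b : B, ∃ p : k[X], b - φ p ∈ Ideal.span {t ^ j} := by
    intro j
    induction j with
    | zero => intro b; exact ⟨0, by simp⟩
    | succ j ih =>
      intro b
      obtain ⟨p, hp⟩ := ih b
      obtain ⟨b₁, hb₁⟩ := Ideal.mem_span_singleton'.1 hp
      obtain ⟨c, hc⟩ := exists_sub_mem k B b₁
      rw [ht'] at hc
      obtain ⟨b₂, hb₂⟩ := Ideal.mem_span_singleton'.1 hc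
      refine ⟨p + C c * X ^ j, Ideal.mem_span_singleton'.2 ⟨b₂, ?_⟩⟩
      rw [map_add, map_mul, map_pow, hφX, aeval_C, pow_succ]
      have e1 : b = φ p + b₁ * t ^ j := by rw [hb₁]; ring
      have e2 : b₁ = algebraMap k B c + b₂ * t := by rw [hb₂]; ring
      rw [e1, e2]; ring
  have hsurj : Function.Surjective φ := by
    intro b
    obtain ⟨p, hp⟩ := hstep N b
    rw [hN, Ideal.span_singleton_zero, Ideal.mem_bot, sub_eq_zero] at hp
    exact ⟨p, hp.symm⟩
  have hXN : (X : k[X]) ^ N ∈ RingHom.ker φ := by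
    rw [RingHom.mem_ker, map_pow, hφX, hN]
  obtain ⟨i, hi⟩ : ∃ i : ℕ, RingHom.ker φ = Ideal.span {(X : k[X]) ^ i} := by
    have hprinc : (RingHom.ker φ).IsPrincipal := inferInstance
    obtain ⟨g, hg⟩ := hprinc
    have hg' : RingHom.ker φ = Ideal.span {g} := hg
    have hdvd : g ∣ X ^ N := by
      rw [hg'] at hXN
      exact Ideal.mem_span_singleton.1 hXN
    obtain ⟨i, -, hi⟩ := (dvd_prime_pow Polynomial.prime_X N).1 hdvd
    exact ⟨i, hg'.trans (Ideal.span_singleton_eq_span_singleton.2 hi)⟩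
  let e₁ : (k[X] ⧸ RingHom.ker φ) ≃ₐ[k] B := Ideal.quotientKerAlgEquivOfSurjective hsurj
  let e₂ : (k[X] ⧸ RingHom.ker φ) ≃ₐ[k] (k[X] ⧸ Ideal.span {(X : k[X]) ^ i}) :=
    Ideal.quotientEquivAlgOfEq k hi
  have hfr : Module.finrank k B = i := by
    rw [← (e₁.toLinearEquiv).finrank_eq, (e₂.toLinearEquiv).finrank_eq,
      finrank_quotient_span_eq_natDegree, natDegree_X_pow]
  rw [hfr]
  exact ⟨e₁.symm.trans e₂⟩

end


open Polynomial in
/-- Over an algebraically closed field k, a finite local k-algebra B whose cotangent space m/m^2 has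
dimension at most one over the residue field is isomorphic, as a k-algebra, to k[t]/(t^n) with n =
dim_k B (curvilinear pointed algebras of degree n have a single isomorphism class). -/
theorem result (k B : Type u) [Field k] [IsAlgClosed k]
    [CommRing B] [IsLocalRing B] [Algebra k B] [Module.Finite k B]
    (hcurv : Module.finrank (IsLocalRing.ResidueField B) (IsLocalRing.CotangentSpace B) ≤ 1) :
    Nonempty (B ≃ₐ[k] (Polynomial k ⧸ Ideal.span {(X : Polynomial k) ^ Module.finrank k B})) := by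
  exact main k B hcurv

end Groth.Agent.S14091
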