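import Groth.Statements.S14093
import Groth.Agent.Lib.Helper76.ArNF

set_option autoImplicit false
universe u
open ArSing
open Groth.Agent.Lib.Helper76.ArNF

namespace Groth.Agent.S14093

/-- For an algebraically closed field k of characteristic prime to 2 and to r+1 and the involution σ of
A_r = k[[x,y]]/(y^2 - x^(r+1)) with σ(x) = x, σ(y) = -y: the invariant subalgebra is k[[x]] (the
image of t ↦ x from k[[t]]), the inclusion k[[x]] → A_r is faithfully flat (flat, and the maximal
ideal of k[[t]] does not generate the unit ideal of A_r), and the fixed locus (the closed subscheme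
cut out by all σ(a) - a) is a Cartier divisor of length r + 1, i.e. its ideal is generated by one
nonzerodivisor and the quotient has length r + 1. -/
theorem result (k : Type u) [Field k] [IsAlgClosed k] (r : ℕ)
    (h2 : (2 : k) ≠ 0) (hr : ((r + 1 : ℕ) : k) ≠ 0)
    (σ : ArSing.ring k r ≃ₐ[k] ArSing.ring k r) (hx : σ (ArSing.x k r) = ArSing.x k r)
    (hy : σ (ArSing.y k r) = -ArSing.y k r) :
    (∀ a : ArSing.ring k r, σ a = a ↔ a ∈ (ArSing.xMap k r).range) ∧
    ((ArSing.xMap k r).toRingHom.Flat ∧
      Ideal.map (ArSing.xMap k r) (IsLocalRing.maximalIdeal (PowerSeries k)) ≠ ⊤) ∧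
    (∃ g : ArSing.ring k r, g ∈ nonZeroDivisors (ArSing.ring k r) ∧
      Ideal.span (Set.range fun a : ArSing.ring k r => σ a - a) = Ideal.span {g}) ∧
    Module.length (ArSing.ring k r)
      (ArSing.ring k r ⧸ Ideal.span (Set.range fun a : ArSing.ring k r => σ a - a)) = r + 1 := by
  have hσx : ∀ α : PowerSeries k, σ (xMap k r α) = xMap k r α := by
    have h := ringHom_ext_X (k := k) (r := r)
      ((σ.toAlgHom.comp (xMap k r)).toRingHom) ((xMap k r).toRingHom)
      (fun c => ?_) ?_ ?_
    · intro α
      exact RingHom.congr_fun h α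
    · show (σ.toAlgHom.comp (xMap k r)) (PowerSeries.C c) = xMap k r (PowerSeries.C c)
      have : (PowerSeries.C c : PowerSeries k) = algebraMap k (PowerSeries k) c := rfl
      rw [this, AlgHom.commutes, AlgHom.commutes]
    · show σ (xMap k r PowerSeries.X) = xMap k r PowerSeries.X
      rw [xMap_X, hx]
    · refine ⟨1, ?_⟩
      show σ (xMap k r PowerSeries.X) = _
      rw [xMap_X, hx, mul_one]
  have hσ : ∀ a : ring k r, σ a = xMap k r (cA k r a) - xMap k r (cB k r a) * y k r := by
    intro a
    conv_lhs => rw [eq_coords k r a]
    rw [map_add, map_mul, hσx, hσx, hy]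
    ring
  have hdiff : ∀ a : ring k r, σ a - a = -2 * (xMap k r (cB k r a) * y k r) := by
    intro a
    rw [hσ a]
    conv_lhs => rhs; rw [eq_coords k r a]
    ring
  have h2' : (-2 : ring k r) = algebraMap k (ring k r) (-2) := by
    rw [map_neg, map_ofNat]
  have hu : IsUnit (-2 : ring k r) := by
    rw [h2']
    exact (IsUnit.mk0 (-2 : k) (neg_ne_zero.mpr h2)).map _
  have hJ : Ideal.span (Set.range fun a : ring k r => σ a - a) = Ideal.span {y k r} := by
    apply le_antisymm
    · rw [Ideal.span_le]
      rintro _ ⟨a, rfl⟩
      show σ a - a ∈ Ideal.span {y k r}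
      rw [hdiff a]
      exact Ideal.mem_span_singleton'.mpr ⟨-2 * xMap k r (cB k r a), by ring⟩
    · rw [Ideal.span_le]
      rintro z (rfl : z = y k r)
      have h1 : σ (y k r) - y k r = -2 * y k r := by
        rw [hy]
        ring
      obtain ⟨w, hw⟩ := hu
      have h3 : y k r = (↑w⁻¹ : ring k r) * (σ (y k r) - y k r) := by
        rw [h1, ← hw, ← mul_assoc, Units.inv_mul, one_mul]
      show y k r ∈ _
      rw [h3]
      exact Ideal.mul_mem_left _ _ (Ideal.subset_span ⟨y k r, rfl⟩)
  refine ⟨fun a => ⟨fun h => ?_, fun h => ?_⟩, ⟨?_, ?_⟩, ⟨y k r, y_mem_nonZeroDivisors, hJ⟩, ?_⟩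
  · have h1 : σ a - a = 0 := sub_eq_zero.mpr h
    rw [hdiff a] at h1
    have h3 : xMap k r (cB k r a) * y k r = 0 := hu.mul_right_eq_zero.mp h1
    have h4 : cB k r a = 0 :=
      (nf_inj k r (α := 0) (β := cB k r a) (by rw [map_zero, zero_add]; exact h3)).2
    refine ⟨cA k r a, ?_⟩
    conv_rhs => rw [eq_coords k r a, h4, map_zero, zero_mul, add_zero]
    rfl
  · obtain ⟨α, rfl⟩ := h
    exact hσx α
  · refine flat_of_bijective_pair (xMap k r).toRingHom (y k r) ⟨?_, ?_⟩
    · intro p q h
      have h' : xMap k r p.1 + xMap k r p.2 * y k r = xMap k r q.1 + xMap k r q.2 * y k r := h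
      have hA := congrArg (cA k r) h'
      have hB := congrArg (cB k r) h'
      rw [cA_mk, cA_mk] at hA
      rw [cB_mk, cB_mk] at hB
      exact Prod.ext hA hB
    · intro q
      exact ⟨(cA k r q, cB k r q), (eq_coords k r q).symm⟩
  · intro htop
    have h1 : Ideal.map (xMap k r) (IsLocalRing.maximalIdeal (PowerSeries k)) ≤
        Ideal.span {x k r, y k r} := by
      rw [Ideal.map_le_iff_le_comap]
      intro α hα
      rw [Ideal.mem_comap, mem_span_xy_iff, cA_xMap, PowerSeries.X_dvd_iff]
      by_contra hne
      exact hα (PowerSeries.isUnit_iff_constantCoeff.mpr (IsUnit.mk0 _ hne))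
    rw [htop] at h1
    exact (isMaximal_span_xy (k := k) (r := r)).ne_top (top_le_iff.mp h1)
  · rw [hJ]
    have key : ∀ i, i ≤ r + 1 →
        Module.length (ring k r) (ring k r ⧸ Ideal.span {y k r, x k r ^ i}) = i := by
      intro i
      induction i with
      | zero =>
        intro _
        have : Ideal.span {y k r, x k r ^ 0} = ⊤ := by
          rw [pow_zero]
          exact Ideal.eq_top_of_isUnit_mem _ (Ideal.subset_span (by simp)) isUnit_one
        rw [this, length_quot_top]
        rfl
      | succ i ih =>
        intro hi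
        haveI := isMaximal_span_xy (k := k) (r := r)
        have hstep := length_step (Ideal.span {x k r, y k r})
          (Ideal.span {y k r, x k r ^ (i + 1)}) (x k r ^ i) ?_ ?_
        · have hsup : Ideal.span {y k r, x k r ^ (i + 1)} ⊔ Ideal.span {x k r ^ i} =
              Ideal.span {y k r, x k r ^ i} := by
            apply le_antisymm
            · refine sup_le (Ideal.span_le.mpr ?_) (Ideal.span_le.mpr ?_)
              · intro z hz
                rcases hz with rfl | hz
                · exact Ideal.subset_span (by simp)
                · rw [Set.mem_singleton_iff] at hz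
                  rw [hz, pow_succ]
                  exact Ideal.mul_mem_right _ _ (Ideal.subset_span (by simp))
              · rintro z (rfl : z = x k r ^ i)
                exact Ideal.subset_span (by simp)
            · refine Ideal.span_le.mpr ?_
              intro z hz
              rcases hz with rfl | hz
              · exact Ideal.mem_sup_left (Ideal.subset_span (by simp))
              · rw [Set.mem_singleton_iff] at hz
                rw [hz]
                exact Ideal.mem_sup_right (Ideal.subset_span rfl)
          rw [hstep, hsup, ih (by omega)]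
          push_cast
          rfl
        · rw [mem_span_y_xpow_iff hi, ← xMap_X_pow, cA_xMap]
          intro h
          have := PowerSeries.X_pow_dvd_iff.mp h i (Nat.lt_succ_self i)
          rw [PowerSeries.coeff_X_pow_self] at this
          exact one_ne_zero this
        · intro a ha
          obtain ⟨u, v, rfl⟩ := Ideal.mem_span_pair.mp ha
          exact Ideal.mem_span_pair.mpr ⟨v * x k r ^ i, u, by ring⟩
    have hy1 : Ideal.span {y k r} = Ideal.span {y k r, x k r ^ (r + 1)} := by
      apply le_antisymm
      · exact Ideal.span_mono (by simp)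
      · refine Ideal.span_le.mpr ?_
        intro z hz
        rcases hz with rfl | hz
        · exact Ideal.subset_span rfl
        · rw [Set.mem_singleton_iff] at hz
          rw [hz, ← y_sq, pow_two]
          exact Ideal.mul_mem_left _ _ (Ideal.subset_span rfl)
    rw [hy1, key (r + 1) le_rfl]
    push_cast
    rfl

end Groth.Agent.S14093
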