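import Groth.Statements.S14094
import Groth.Agent.Lib.Helper76.ArNF2

set_option autoImplicit false
universe u
open ArSing
open Groth.Agent.Lib.Helper76.ArNF

namespace Groth.Agent.S14094

/-- K algebraically closed of characteristic prime to 2 and to r+1, r = 2m - 1 with m ≥ 2, σ the
involution x ↦ -x, y ↦ y of A_r = k[[x,y]]/(y^2 - x^(r+1)), and φ : A_(m-1) → A_r the k-algebra map
x ↦ x^2, y ↦ y. Then the invariant subalgebra of σ is the image of φ (so A_r^σ ≅ A_(m-1)), φ is
faithfully flat (flat, and the maximal ideal of A_(m-1) does not generate the unit ideal), and the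
fixed locus of σ is a Cartier divisor of length 2: its ideal, generated by the elements σ(a) - a, is
generated by one nonzerodivisor and has quotient of length 2. -/
theorem result (k : Type u) [Field k] [IsAlgClosed k] (m r : ℕ)
    (hm : 2 ≤ m) (hr : r = 2 * m - 1) (h2 : (2 : k) ≠ 0) (hr1 : ((r + 1 : ℕ) : k) ≠ 0)
    (σ : ArSing.ring k r ≃ₐ[k] ArSing.ring k r) (hx : σ (ArSing.x k r) = -ArSing.x k r)
    (hy : σ (ArSing.y k r) = ArSing.y k r)
    (φ : ArSing.ring k (m - 1) →ₐ[k] ArSing.ring k r) (hφx : φ (ArSing.x k (m - 1)) = ArSing.x k r ^ 2)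
    (hφy : φ (ArSing.y k (m - 1)) = ArSing.y k r) :
    (∀ a : ArSing.ring k r, σ a = a ↔ a ∈ φ.range) ∧
    (φ.toRingHom.Flat ∧ ∀ I : Ideal (ArSing.ring k (m - 1)), I.IsMaximal → Ideal.map φ I ≠ ⊤) ∧
    (∃ g : ArSing.ring k r, g ∈ nonZeroDivisors (ArSing.ring k r) ∧ Ideal.span (Set.range fun a : ArSing.ring k r => σ a - a) = Ideal.span {g}) ∧
    Module.length (ArSing.ring k r) (ArSing.ring k r ⧸ Ideal.span (Set.range fun a : ArSing.ring k r => σ a - a)) = 2 := by
  have hσx : ∀ α : PowerSeries k, σ (xMap k r α) = xMap k r (N α) :=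
    fun α => comp_xMap_neg (σ : ring k r →ₐ[k] ring k r) hx α
  have hφxm : ∀ α : PowerSeries k, φ (xMap k (m - 1) α) = xMap k r (E α) :=
    fun α => comp_xMap_sq φ hφx α
  have hσ : ∀ a : ring k r,
      σ a = xMap k r (N (cA k r a)) + xMap k r (N (cB k r a)) * y k r := by
    intro a
    conv_lhs => rw [eq_coords k r a]
    rw [map_add, map_mul, hσx, hσx, hy]
  have hφ : ∀ b : ring k (m - 1),
      φ b = xMap k r (E (cA k (m - 1) b)) + xMap k r (E (cB k (m - 1) b)) * y k r := by
    intro b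
    conv_lhs => rw [eq_coords k (m - 1) b]
    rw [map_add, map_mul, hφxm, hφxm, hφy]
  have h2' : (-2 : ring k r) = algebraMap k (ring k r) (-2) := by
    rw [map_neg, map_ofNat]
  have hu : IsUnit (-2 : ring k r) := by
    rw [h2']
    exact (IsUnit.mk0 (-2 : k) (neg_ne_zero.mpr h2)).map _
  have hJ : Ideal.span (Set.range fun a : ring k r => σ a - a) = Ideal.span {x k r} := by
    apply le_antisymm
    · rw [Ideal.span_le]
      rintro _ ⟨a, rfl⟩
      show σ a - a ∈ Ideal.span {x k r}
      rw [mem_span_x_iff, cA_sub, cB_sub, hσ a, cA_mk, cB_mk]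
      exact ⟨X_dvd_N_sub _, X_dvd_N_sub _⟩
    · rw [Ideal.span_le]
      rintro z (rfl : z = x k r)
      have h1 : σ (x k r) - x k r = -2 * x k r := by
        rw [hx]
        ring
      obtain ⟨w, hw⟩ := hu
      have h3 : x k r = (↑w⁻¹ : ring k r) * (σ (x k r) - x k r) := by
        rw [h1, ← hw, ← mul_assoc, Units.inv_mul, one_mul]
      show x k r ∈ _
      rw [h3]
      exact Ideal.mul_mem_left _ _ (Ideal.subset_span ⟨x k r, rfl⟩)
  have hΦ : ∀ p q : ring k (m - 1), φ p + φ q * x k r =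
      xMap k r (E (cA k (m - 1) p) + PowerSeries.X * E (cA k (m - 1) q)) +
        xMap k r (E (cB k (m - 1) p) + PowerSeries.X * E (cB k (m - 1) q)) * y k r := by
    intro p q
    rw [hφ p, hφ q, map_add, map_add, map_mul, map_mul, xMap_X]
    ring
  refine ⟨fun a => ⟨fun h => ?_, fun h => ?_⟩, ⟨?_, ?_⟩, ⟨x k r, x_mem_nonZeroDivisors, hJ⟩, ?_⟩
  · have h1 := coords_unique ((hσ a).symm.trans h).symm
    have hA := N_eq_self h2 h1.1.symm
    have hB := N_eq_self h2 h1.2.symm
    refine ⟨xMap k (m - 1) (ev (cA k r a)) + xMap k (m - 1) (ev (cB k r a)) * y k (m - 1), ?_⟩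
    show φ _ = a
    rw [map_add, map_mul, hφxm, hφxm, hφy, ← hA, ← hB]
    exact (eq_coords k r a).symm
  · obtain ⟨b, rfl⟩ := h
    show σ (φ b) = φ b
    rw [hφ b, map_add, map_mul, hσx, hσx, hy, N_E, N_E]
  · refine flat_of_bijective_pair φ.toRingHom (x k r) ⟨?_, ?_⟩
    · rintro ⟨p, q⟩ ⟨p', q'⟩ h
      have h' : φ p + φ q * x k r = φ p' + φ q' * x k r := h
      rw [hΦ, hΦ] at h'
      have hA := congrArg (cA k r) h'
      have hB := congrArg (cB k r) h'
      rw [cA_mk, cA_mk] at hA
      rw [cB_mk, cB_mk] at hB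
      have e1 := congrArg ev hA
      have e2 := congrArg od hA
      have e3 := congrArg ev hB
      have e4 := congrArg od hB
      rw [ev_eo, ev_eo] at e1 e3
      rw [od_eo, od_eo] at e2 e4
      rw [Prod.mk.injEq]
      exact ⟨coords_ext e1 e3, coords_ext e2 e4⟩
    · intro a
      refine ⟨(xMap k (m - 1) (ev (cA k r a)) + xMap k (m - 1) (ev (cB k r a)) * y k (m - 1),
        xMap k (m - 1) (od (cA k r a)) + xMap k (m - 1) (od (cB k r a)) * y k (m - 1)), ?_⟩
      show φ _ + φ _ * x k r = a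
      rw [hΦ, cA_mk, cA_mk, cB_mk, cB_mk, ← eo_decomp, ← eo_decomp]
      exact (eq_coords k r a).symm
  · intro I hI
    have hI' : I = Ideal.span {x k (m - 1), y k (m - 1)} := by
      rw [← maximalIdeal_eq]
      exact IsLocalRing.eq_maximalIdeal hI
    rw [hI', Ideal.map_span, Set.image_pair, hφx, hφy]
    intro htop
    have h1 : Ideal.span {x k r ^ 2, y k r} ≤ Ideal.span {x k r, y k r} := by
      refine Ideal.span_le.mpr ?_
      intro z hz
      rcases hz with rfl | hz
      · rw [pow_two]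
        exact Ideal.mul_mem_left _ _ (Ideal.subset_span (by simp))
      · rw [Set.mem_singleton_iff] at hz
        rw [hz]
        exact Ideal.subset_span (by simp)
    rw [htop] at h1
    exact (isMaximal_span_xy (k := k) (r := r)).ne_top (top_le_iff.mp h1)
  · rw [hJ]
    haveI := isMaximal_span_xy (k := k) (r := r)
    have hstep := length_step (Ideal.span {x k r, y k r}) (Ideal.span {x k r}) (y k r) ?_ ?_
    · have hsup : Ideal.span {x k r} ⊔ Ideal.span {y k r} = Ideal.span {x k r, y k r} :=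
        (Ideal.span_insert (x k r) {y k r}).symm
      rw [hstep, hsup, length_quot_of_isMaximal]
      rfl
    · rw [mem_span_x_iff, cB_y]
      rintro ⟨-, h⟩
      rw [PowerSeries.X_dvd_iff] at h
      simp at h
    · intro a ha
      obtain ⟨u, v, rfl⟩ := Ideal.mem_span_pair.mp ha
      refine Ideal.mem_span_singleton'.mpr ⟨u * y k r + v * x k r ^ r, ?_⟩
      linear_combination (-v) * (y_sq (k := k) (r := r))

end Groth.Agent.S14094
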