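import Groth.Statements.S14095
import Groth.Agent.Lib.Helper76.ArNF2

set_option autoImplicit false
universe u
open ArSing
open Groth.Agent.Lib.Helper76.ArNF

namespace Groth.Agent.S14095

/-- K algebraically closed of characteristic prime to 2 and to r+1, r = 2m - 1 with m ≥ 1, σ the
involution x ↦ -x, y ↦ -y of A_r = k[[x,y]]/(y^2 - x^(r+1)), and φ : A_m → A_r the k-algebra map x ↦
x^2, y ↦ xy. Then the invariant subalgebra of σ is the image of φ and φ is injective (so A_r^σ ≅
A_m), φ is not flat, and the fixed locus of σ is the reduced closed point and is not a Cartier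
divisor: the ideal generated by the elements σ(a) - a has quotient of length 1 and is not generated
by one nonzerodivisor. -/
theorem result (k : Type u) [Field k] [IsAlgClosed k] (m r : ℕ)
    (hm : 1 ≤ m) (hr : r = 2 * m - 1) (h2 : (2 : k) ≠ 0) (hr1 : ((r + 1 : ℕ) : k) ≠ 0)
    (σ : ArSing.ring k r ≃ₐ[k] ArSing.ring k r) (hx : σ (ArSing.x k r) = -ArSing.x k r)
    (hy : σ (ArSing.y k r) = -ArSing.y k r)
    (φ : ArSing.ring k m →ₐ[k] ArSing.ring k r) (hφx : φ (ArSing.x k m) = ArSing.x k r ^ 2)
    (hφy : φ (ArSing.y k m) = ArSing.x k r * ArSing.y k r) :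
    (∀ a : ArSing.ring k r, σ a = a ↔ a ∈ φ.range) ∧ Function.Injective φ ∧
    ¬ φ.toRingHom.Flat ∧
    Module.length (ArSing.ring k r) (ArSing.ring k r ⧸ Ideal.span (Set.range fun a : ArSing.ring k r => σ a - a)) = 1 ∧
    ¬ (∃ g : ArSing.ring k r, g ∈ nonZeroDivisors (ArSing.ring k r) ∧ Ideal.span (Set.range fun a : ArSing.ring k r => σ a - a) = Ideal.span {g}) := by
  have hσx : ∀ α : PowerSeries k, σ (xMap k r α) = xMap k r (N α) :=
    fun α => comp_xMap_neg (σ : ring k r →ₐ[k] ring k r) hx α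
  have hφxm : ∀ α : PowerSeries k, φ (xMap k m α) = xMap k r (E α) :=
    fun α => comp_xMap_sq φ hφx α
  have hσ : ∀ a : ring k r,
      σ a = xMap k r (N (cA k r a)) + xMap k r (-(N (cB k r a))) * y k r := by
    intro a
    conv_lhs => rw [eq_coords k r a]
    rw [map_add, map_mul, hσx, hσx, hy, map_neg]
    ring
  have hφ : ∀ b : ring k m,
      φ b = xMap k r (E (cA k m b)) + xMap k r (PowerSeries.X * E (cB k m b)) * y k r := by
    intro b
    conv_lhs => rw [eq_coords k m b]
    rw [map_add, map_mul, hφxm, hφxm, hφy, map_mul, xMap_X]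
    ring
  have h2' : (-2 : ring k r) = algebraMap k (ring k r) (-2) := by
    rw [map_neg, map_ofNat]
  have hu : IsUnit (-2 : ring k r) := by
    rw [h2']
    exact (IsUnit.mk0 (-2 : k) (neg_ne_zero.mpr h2)).map _
  have hJ : Ideal.span (Set.range fun a : ring k r => σ a - a) = Ideal.span {x k r, y k r} := by
    apply le_antisymm
    · rw [Ideal.span_le]
      rintro _ ⟨a, rfl⟩
      show σ a - a ∈ Ideal.span {x k r, y k r}
      rw [mem_span_xy_iff, cA_sub, hσ a, cA_mk]
      exact X_dvd_N_sub _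
    · rw [Ideal.span_le]
      obtain ⟨w, hw⟩ := hu
      intro z hz
      rcases hz with rfl | hz
      · have h1 : σ (x k r) - x k r = -2 * x k r := by
          rw [hx]
          ring
        have h3 : x k r = (↑w⁻¹ : ring k r) * (σ (x k r) - x k r) := by
          rw [h1, ← hw, ← mul_assoc, Units.inv_mul, one_mul]
        show x k r ∈ _
        rw [h3]
        exact Ideal.mul_mem_left _ _ (Ideal.subset_span ⟨x k r, rfl⟩)
      · rw [Set.mem_singleton_iff] at hz
        have h1 : σ (y k r) - y k r = -2 * y k r := by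
          rw [hy]
          ring
        have h3 : y k r = (↑w⁻¹ : ring k r) * (σ (y k r) - y k r) := by
          rw [h1, ← hw, ← mul_assoc, Units.inv_mul, one_mul]
        show z ∈ _
        rw [hz, h3]
        exact Ideal.mul_mem_left _ _ (Ideal.subset_span ⟨y k r, rfl⟩)
  refine ⟨fun a => ⟨fun h => ?_, fun h => ?_⟩, ?_, ?_, ?_, ?_⟩
  · have h1 := coords_unique ((hσ a).symm.trans h).symm
    have hA := N_eq_self h2 h1.1.symm
    have hB := N_eq_neg h2 (β := cB k r a) (neg_eq_iff_eq_neg.mpr h1.2).symm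
    refine ⟨xMap k m (ev (cA k r a)) + xMap k m (od (cB k r a)) * y k m, ?_⟩
    show φ _ = a
    rw [hφ, cA_mk, cB_mk, ← hA, ← hB]
    exact (eq_coords k r a).symm
  · obtain ⟨b, rfl⟩ := h
    show σ (φ b) = φ b
    rw [hφ b, map_add, map_mul, hσx, hσx, hy, N_E, N_X_mul_E, map_neg]
    ring
  · rw [injective_iff_map_eq_zero]
    intro b hb
    rw [hφ b] at hb
    have h1 := nf_inj k r hb
    have hA : cA k m b = 0 := E_injective (by rw [h1.1, map_zero])
    have hB : cB k m b = 0 := by
      rcases mul_eq_zero.mp h1.2 with h | h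
      · exact absurd h PowerSeries.X_ne_zero
      · exact E_injective (by rw [h, map_zero])
    exact eq_zero_of_coords hA hB
  · intro hf
    obtain ⟨n, a₁, a₂, yy, -, h2x, h3⟩ := exists_of_flat_of_relation φ.toRingHom hf (x k m)
      (-(y k m)) (y k r) (x k r) (by
        show φ (x k m) * y k r + φ (-(y k m)) * x k r = 0
        rw [map_neg, hφx, hφy]
        ring)
    have hmem : ∀ j, φ (a₂ j) ∈ Ideal.span {x k r ^ 2, x k r * y k r} := by
      intro j
      have h4 := congrArg (cB k m) (h3 j)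
      rw [cB_add, cB_mul, cB_mul, cA_x, cB_x, cA_neg, cB_neg, cA_y, cB_y, cB_zero] at h4
      have h5 : PowerSeries.X ∣ cA k m (a₂ j) := ⟨cB k m (a₁ j), by linear_combination -h4⟩
      obtain ⟨u, v, huv⟩ := Ideal.mem_span_pair.mp (mem_span_xy_iff.mpr h5)
      rw [← huv, map_add, map_mul, map_mul, hφx, hφy]
      exact Ideal.mem_span_pair.mpr ⟨φ u, φ v, rfl⟩
    have hxmem : x k r ∈ Ideal.span {x k r ^ 2, x k r * y k r} := by
      have h9 : ∑ j, φ.toRingHom (a₂ j) * yy j ∈ Ideal.span {x k r ^ 2, x k r * y k r} :=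
        Ideal.sum_mem _ fun j _ => Ideal.mul_mem_right _ _ (hmem j)
      rwa [← h2x] at h9
    obtain ⟨u, v, huv⟩ := Ideal.mem_span_pair.mp hxmem
    have h6 := congrArg (cA k r) huv
    rw [cA_add, cA_mul, cA_mul, pow_two, cA_mul, cB_mul, cA_mul, cB_mul] at h6
    simp only [cA_x, cB_x, cA_y, cB_y] at h6
    have h7 : PowerSeries.X ^ 2 ∣ (PowerSeries.X : PowerSeries k) :=
      ⟨cA k r u + PowerSeries.X ^ r * cB k r v, by linear_combination (-1 : PowerSeries k) * h6⟩
    have h8 := PowerSeries.X_pow_dvd_iff.mp h7 1 (by norm_num)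
    rw [PowerSeries.coeff_one_X] at h8
    exact one_ne_zero h8
  · rw [hJ]
    haveI := isMaximal_span_xy (k := k) (r := r)
    exact length_quot_of_isMaximal _
  · rintro ⟨g, -, hg⟩
    rw [hJ] at hg
    have hg1 : g ∈ Ideal.span {x k r, y k r} := by
      rw [hg]
      exact Ideal.subset_span rfl
    obtain ⟨γ, hγ⟩ := mem_span_xy_iff.mp hg1
    have hx1 : x k r ∈ Ideal.span {g} := by
      rw [← hg]
      exact Ideal.subset_span (by simp)
    have hy1 : y k r ∈ Ideal.span {g} := by
      rw [← hg]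
      exact Ideal.subset_span (by simp)
    obtain ⟨a, ha⟩ := Ideal.mem_span_singleton'.mp hx1
    obtain ⟨b, hb⟩ := Ideal.mem_span_singleton'.mp hy1
    obtain ⟨r₀, hr₀⟩ : ∃ r₀, r + 1 = r₀ + 2 := ⟨r - 1, by omega⟩
    have eAx := congrArg (cA k r) ha
    have eBy := congrArg (cB k r) hb
    have eAy := congrArg (cA k r) hb
    rw [cA_mul, hγ, cA_x, hr₀] at eAx
    rw [cB_mul, hγ, cB_y] at eBy
    rw [cA_mul, hγ, cA_y, hr₀] at eAy
    have e1 : cA k r a * γ + PowerSeries.X ^ (r₀ + 1) * (cB k r a * cB k r g) = 1 := by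
      apply mul_left_cancel₀ (PowerSeries.X_ne_zero (R := k))
      linear_combination eAx
    have e3 : cA k r b * γ + PowerSeries.X ^ (r₀ + 1) * (cB k r b * cB k r g) = 0 := by
      apply mul_left_cancel₀ (PowerSeries.X_ne_zero (R := k))
      linear_combination eAy
    have c1 := congrArg PowerSeries.constantCoeff e1
    have c2 := congrArg PowerSeries.constantCoeff eBy
    have c3 := congrArg PowerSeries.constantCoeff e3
    simp only [map_add, map_mul, map_pow, PowerSeries.constantCoeff_X, map_one, map_zero,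
      zero_pow (Nat.succ_ne_zero r₀), zero_mul, mul_zero, add_zero] at c1 c2 c3
    have hγ0 : PowerSeries.constantCoeff γ ≠ 0 := by
      intro h0
      rw [h0, mul_zero] at c1
      exact zero_ne_one c1
    have hb0 : PowerSeries.constantCoeff (cA k r b) = 0 :=
      (mul_eq_zero.mp c3).resolve_right hγ0
    rw [hb0, zero_mul] at c2
    exact zero_ne_one c2

end Groth.Agent.S14095
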