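import Groth.Statements.S14096
import Groth.Agent.Lib.Helper76.ArNF3

set_option autoImplicit false
universe u
open ArSing
open Groth.Agent.Lib.Helper76.ArNF

namespace Groth.Agent.S14096

/-- K algebraically closed of characteristic ≠ 2, σ the involution of the node algebra A_1 =
k[[x,y]]/(y^2 - x^2) exchanging x and y, and φ : A_1 → A_1 the k-algebra map with φ(x + y) = x + y
and φ(y - x) = (y - x)^2 (in the branch coordinates u = x + y, v = y - x with uv = 0: u ↦ u, v ↦
v^2). Then the invariant subalgebra of σ is the image of φ and φ is injective (so A_1^σ ≅ A_1), and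
the fixed locus of σ is the branch v = 0: the ideal generated by the elements σ(a) - a is the ideal
(y - x), a minimal prime ideal generated by a zero-divisor (so not a Cartier divisor). Moreover φ is
not flat. (The published statement asserts that this extension is faithfully flat; it is not: as a
module over the invariant subalgebra B = k[[u,w]]/(uw), w = v^2, A_1 is B ⊕ (B/uB)·v, and B/uB is
not flat over B — equivalently the fibre length jumps from 1 on the branch w = 0 to 2 at the closed
point.) -/
theorem result (k : Type u) [Field k] [IsAlgClosed k]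
    (h2 : (2 : k) ≠ 0)
    (σ : ArSing.ring k 1 ≃ₐ[k] ArSing.ring k 1) (hx : σ (ArSing.x k 1) = ArSing.y k 1)
    (hy : σ (ArSing.y k 1) = ArSing.x k 1)
    (φ : ArSing.ring k 1 →ₐ[k] ArSing.ring k 1) (hφu : φ (ArSing.x k 1 + ArSing.y k 1) = ArSing.x k 1 + ArSing.y k 1)
    (hφv : φ (ArSing.y k 1 - ArSing.x k 1) = (ArSing.y k 1 - ArSing.x k 1) ^ 2) :
    (∀ a : ArSing.ring k 1, σ a = a ↔ a ∈ φ.range) ∧ Function.Injective φ ∧
    Ideal.span (Set.range fun a : ArSing.ring k 1 => σ a - a) = Ideal.span {ArSing.y k 1 - ArSing.x k 1} ∧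
    (ArSing.y k 1 - ArSing.x k 1) ∉ nonZeroDivisors (ArSing.ring k 1) ∧
    Ideal.span {ArSing.y k 1 - ArSing.x k 1} ∈ minimalPrimes (ArSing.ring k 1) ∧
    ¬ φ.toRingHom.Flat := by
  have h2' := two_ne_zero_ps h2
  have hXX : (PowerSeries.X : PowerSeries k) + PowerSeries.X ≠ 0 := by
    intro e
    have : (2 : PowerSeries k) * PowerSeries.X = 0 := by linear_combination e
    rcases mul_eq_zero.mp this with h | h
    · exact h2' h
    · exact PowerSeries.X_ne_zero h
  have hC2 : (PowerSeries.C (-2 : k)) = -2 := by rw [map_neg, map_ofNat]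
  have hPσ : ∀ a, brP (σ a) = brP a := by
    have key := ringHom_ext_Q
      ((brP.comp (σ : ring k 1 →ₐ[k] ring k 1)).toRingHom) (brP (k := k)).toRingHom
      (fun c => ?_) ?_ ?_ ?_
    · intro a
      exact RingHom.congr_fun key a
    · show brP (σ (algebraMap k _ c)) = brP (algebraMap k _ c)
      rw [AlgEquiv.commutes]
    · show brP (σ (x k 1)) = brP (x k 1)
      rw [hx, brP_y, brP_x]
    · show brP (σ (y k 1)) = brP (y k 1)
      rw [hy, brP_x, brP_y]
    · show PowerSeries.X ∣ brP (σ (x k 1))
      rw [hx, brP_y]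
  have hMσ : ∀ a, brM (σ a) = N (brM a) := by
    have key := ringHom_ext_Q
      ((brM.comp (σ : ring k 1 →ₐ[k] ring k 1)).toRingHom)
      ((N (k := k)).comp (brM (k := k)).toRingHom)
      (fun c => ?_) ?_ ?_ ?_
    · intro a
      exact RingHom.congr_fun key a
    · show brM (σ (algebraMap k _ c)) = N (brM (algebraMap k _ c))
      rw [AlgEquiv.commutes, AlgHom.commutes]
      exact (N_C c).symm
    · show brM (σ (x k 1)) = N (brM (x k 1))
      rw [hx, brM_y, brM_x, N_X]
    · show brM (σ (y k 1)) = N (brM (y k 1))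
      rw [hy, brM_x, brM_y, map_neg, N_X, neg_neg]
    · show PowerSeries.X ∣ brM (σ (x k 1))
      rw [hx, brM_y]
      exact ⟨-1, by ring⟩
  have hPφxy : brP (φ (x k 1)) = PowerSeries.X ∧ brP (φ (y k 1)) = PowerSeries.X := by
    have e1 := congrArg brP hφu
    have e2 := congrArg brP hφv
    simp only [map_add, map_sub, map_pow, brP_x, brP_y] at e1 e2
    constructor
    · apply mul_left_cancel₀ h2'
      linear_combination e1 - e2
    · apply mul_left_cancel₀ h2'
      linear_combination e1 + e2
  have hMφxy : brM (φ (x k 1)) = T PowerSeries.X ∧ brM (φ (y k 1)) = -T PowerSeries.X := by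
    have e1 := congrArg brM hφu
    have e2 := congrArg brM hφv
    simp only [map_add, map_sub, map_pow, brM_x, brM_y] at e1 e2
    rw [T_X, hC2]
    constructor
    · apply mul_left_cancel₀ h2'
      linear_combination e1 - e2
    · apply mul_left_cancel₀ h2'
      linear_combination e1 + e2
  have hPφ : ∀ a, brP (φ a) = brP a := by
    have key := ringHom_ext_Q ((brP.comp φ).toRingHom) (brP (k := k)).toRingHom
      (fun c => ?_) ?_ ?_ ?_
    · intro a
      exact RingHom.congr_fun key a
    · show brP (φ (algebraMap k _ c)) = brP (algebraMap k _ c)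
      rw [AlgHom.commutes]
    · show brP (φ (x k 1)) = brP (x k 1)
      rw [hPφxy.1, brP_x]
    · show brP (φ (y k 1)) = brP (y k 1)
      rw [hPφxy.2, brP_y]
    · show PowerSeries.X ∣ brP (φ (x k 1))
      rw [hPφxy.1]
  have hMφ : ∀ a, brM (φ a) = T (brM a) := by
    have key := ringHom_ext_Q ((brM.comp φ).toRingHom)
      ((T (k := k)).comp (brM (k := k)).toRingHom)
      (fun c => ?_) ?_ ?_ ?_
    · intro a
      exact RingHom.congr_fun key a
    · show brM (φ (algebraMap k _ c)) = T (brM (algebraMap k _ c))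
      rw [AlgHom.commutes, AlgHom.commutes]
      exact (T_C c).symm
    · show brM (φ (x k 1)) = T (brM (x k 1))
      rw [hMφxy.1, brM_x]
    · show brM (φ (y k 1)) = T (brM (y k 1))
      rw [hMφxy.2, brM_y, map_neg]
    · show PowerSeries.X ∣ brM (φ (x k 1))
      rw [hMφxy.1, T_X]
      exact ⟨PowerSeries.C (-2 : k) * PowerSeries.X, by ring⟩
  have huv : (x k 1 + y k 1) * (y k 1 - x k 1) = 0 := by
    linear_combination y_sq (k := k) (r := 1)
  have hu_ne : x k 1 + y k 1 ∉ Ideal.span {y k 1 - x k 1} := by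
    rw [span_v_eq_ker, RingHom.mem_ker]
    show ¬ (brP (x k 1 + y k 1) = 0)
    rw [map_add, brP_x, brP_y]
    exact hXX
  have hJ : Ideal.span (Set.range fun a : ring k 1 => σ a - a) =
      Ideal.span {y k 1 - x k 1} := by
    apply le_antisymm
    · rw [Ideal.span_le]
      rintro _ ⟨a, rfl⟩
      show σ a - a ∈ Ideal.span {y k 1 - x k 1}
      rw [span_v_eq_ker, RingHom.mem_ker]
      show brP (σ a - a) = 0
      rw [map_sub, hPσ, sub_self]
    · rw [Ideal.span_le]
      rintro z (rfl : z = y k 1 - x k 1)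
      refine Ideal.subset_span ⟨x k 1, ?_⟩
      show σ (x k 1) - x k 1 = y k 1 - x k 1
      rw [hx]
  refine ⟨fun a => ⟨fun h => ?_, fun h => ?_⟩, ?_, hJ, ?_, ?_, ?_⟩
  · have e : N (brM a) = brM a := by rw [← hMσ a, h]
    have e' := N_eq_self h2 e
    obtain ⟨f, hf1, hf2⟩ := exists_T_eq h2 (ev (brM a))
    have hcc : PowerSeries.constantCoeff (brP a) = PowerSeries.constantCoeff f := by
      rw [hf2, constantCoeff_brP_eq, ev, ← PowerSeries.coeff_zero_eq_constantCoeff_apply,
        ← PowerSeries.coeff_zero_eq_constantCoeff_apply, PowerSeries.coeff_mk, mul_zero]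
    obtain ⟨b, hb1, hb2⟩ := exists_of_br h2 (brP a) f hcc
    refine ⟨b, ?_⟩
    show φ b = a
    apply br_ext h2
    · rw [hPφ, hb1]
    · rw [hMφ, hb2, hf1, ← e']
  · obtain ⟨b, rfl⟩ := h
    show σ (φ b) = φ b
    apply br_ext h2
    · rw [hPσ]
    · rw [hMσ, hMφ, N_T]
  · rw [injective_iff_map_eq_zero]
    intro b hb
    apply br_ext h2
    · rw [← hPφ b, hb]
    · apply T_injective h2
      rw [← hMφ b, hb, map_zero, map_zero]
  · intro hnz
    have h0 := (mem_nonZeroDivisors_iff_right.mp hnz) (x k 1 + y k 1) huv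
    apply hu_ne
    rw [h0]
    exact zero_mem _
  · rw [minimalPrimes_eq_minimals]
    refine ⟨?_, fun P hP hle => ?_⟩
    · rw [span_v_eq_ker]
      exact RingHom.ker_isPrime _
    · rw [Ideal.span_le]
      rintro z (rfl : z = y k 1 - x k 1)
      have hmem : (x k 1 + y k 1) * (y k 1 - x k 1) ∈ P := by
        rw [huv]
        exact zero_mem _
      rcases hP.mem_or_mem hmem with h | h
      · exact absurd (hle h) hu_ne
      · exact h
  · intro hf
    obtain ⟨n, a₁, a₂, yy, h1, -, h3⟩ := exists_of_flat_of_relation φ.toRingHom hf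
      (x k 1 + y k 1) 0 (y k 1 - x k 1) 0 (by
        show φ (x k 1 + y k 1) * (y k 1 - x k 1) + φ 0 * 0 = 0
        rw [hφu, map_zero, zero_mul, add_zero]
        exact huv)
    have hj : ∀ j, PowerSeries.X ^ 2 ∣ brM (φ (a₁ j)) := by
      intro j
      have e := congrArg brP (h3 j)
      rw [zero_mul, add_zero, map_mul, map_add, brP_x, brP_y, map_zero] at e
      have e0 : brP (a₁ j) = 0 := (mul_eq_zero.mp e).resolve_left hXX
      have e1 : PowerSeries.constantCoeff (brM (a₁ j)) = 0 := by
        rw [← constantCoeff_brP_eq, e0, map_zero]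
      obtain ⟨w, hw⟩ := PowerSeries.X_dvd_iff.mpr e1
      rw [hMφ, hw, map_mul, T_X]
      exact ⟨PowerSeries.C (-2 : k) * T w, by ring⟩
    have e := congrArg brM h1
    rw [map_sub, brM_y, brM_x, map_sum] at e
    have hd : PowerSeries.X ^ 2 ∣ (-PowerSeries.X - PowerSeries.X : PowerSeries k) := by
      rw [e]
      refine Finset.dvd_sum fun j _ => ?_
      rw [map_mul]
      exact Dvd.dvd.mul_right (hj j) _
    have h9 := PowerSeries.X_pow_dvd_iff.mp hd 1 (by norm_num)
    rw [map_sub, map_neg, PowerSeries.coeff_one_X] at h9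
    apply h2
    linear_combination -h9

end Groth.Agent.S14096
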