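import Groth.Statements.S14097
import Mathlib.Tactic
-- import your own Groth.Agent.* helpers here

set_option autoImplicit false
universe u
open ArSing

namespace Groth.Agent.S14097

section aux
variable {A : Type u} [CommRing A]

theorem esymm_zero' (s : Multiset A) : s.esymm 0 = 1 := by
  simp [Multiset.esymm, Multiset.powersetCard_zero_left]

theorem esymm_cons_succ (a : A) (s : Multiset A) (j : ℕ) :
    (a ::ₘ s).esymm (j + 1) = s.esymm (j + 1) + a * s.esymm j := by
  simp only [Multiset.esymm, Multiset.powersetCard_cons, Multiset.map_add, Multiset.sum_add,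
    Multiset.map_map, Function.comp_def, Multiset.prod_cons]
  congr 1
  rw [Multiset.sum_map_mul_left]

theorem esymm_card' (s : Multiset A) : s.esymm (Multiset.card s) = s.prod := by
  simp [Multiset.esymm, Multiset.powersetCard_self]

theorem map_range_succ (h : ℕ → A) (m : ℕ) :
    (Finset.range (m + 1)).val.map h = h m ::ₘ (Finset.range m).val.map h := by
  rw [Finset.range_val, Multiset.range_succ, Multiset.map_cons, ← Finset.range_val]

theorem card_map_range (h : ℕ → A) (m : ℕ) :
    Multiset.card ((Finset.range m).val.map h) = m := by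
  simp

theorem prod_map_range (h : ℕ → A) (m : ℕ) :
    ((Finset.range m).val.map h).prod = ∏ i ∈ Finset.range m, h i := rfl

/-- `P m * h m = h 0 * ... * h m` -/
theorem lemmaA (τ : A) (h : ℕ → A) (m : ℕ) (hrel : ∀ i, i ≤ m → h i ^ 2 + τ * h i = 0) :
    (∏ i ∈ Finset.range m, (h i + h (i + 1) + τ)) * h m = ∏ i ∈ Finset.range (m + 1), h i := by
  induction m with
  | zero => simp
  | succ m ih =>
    rw [Finset.prod_range_succ, Finset.prod_range_succ _ (m + 1),
      ← ih (fun i hi => hrel i (by omega))]
    have := hrel (m + 1) le_rfl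
    linear_combination (∏ i ∈ Finset.range m, (h i + h (i + 1) + τ)) * this

theorem lemmaB (τ : A) (h : ℕ → A) (m : ℕ) (hrel : ∀ i, i ≤ m → h i ^ 2 + τ * h i = 0) :
    ∏ i ∈ Finset.range m, (h i + h (i + 1) + τ) =
      ∑ j ∈ Finset.range (m + 1), τ ^ (m - j) * (((Finset.range (m + 1)).val.map h).esymm j) := by
  induction m with
  | zero => simp [esymm_zero']
  | succ m ih =>
    have ih' := ih (fun i hi => hrel i (by omega))
    have hA := lemmaA τ h m (fun i hi => hrel i (by omega))
    set S := (Finset.range (m + 1)).val.map h with hS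
    rw [Finset.prod_range_succ, map_range_succ h (m + 1), ← hS]
    -- expand the RHS
    rw [Finset.sum_range_succ']
    simp only [esymm_cons_succ, esymm_zero', Nat.succ_sub_succ_eq_sub, Nat.sub_zero, mul_one,
      mul_add, Finset.sum_add_distrib]
    -- `∑ j < m+1, τ^(m-j) * e_{j+1}(S) + τ^(m+1) = τ * E m + ∏ S`
    have h1 : ∑ j ∈ Finset.range (m + 1), τ ^ (m - j) * S.esymm (j + 1) + τ ^ (m + 1) =
        τ * (∑ j ∈ Finset.range (m + 1), τ ^ (m - j) * S.esymm j) +
          ∏ i ∈ Finset.range (m + 1), h i := by
      rw [Finset.sum_range_succ, Nat.sub_self, pow_zero, one_mul,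
        Finset.sum_range_succ' (fun j => τ ^ (m - j) * S.esymm j)]
      have hc : S.esymm (m + 1) = ∏ i ∈ Finset.range (m + 1), h i := by
        have := esymm_card' S
        rw [hS, card_map_range] at this
        rw [hS, this, prod_map_range]
      rw [hc, esymm_zero', Nat.sub_zero, mul_one, mul_add, Finset.mul_sum]
      have : ∀ j ∈ Finset.range m, τ * (τ ^ (m - (j + 1)) * S.esymm (j + 1)) =
          τ ^ (m - j) * S.esymm (j + 1) := by
        intro j hj
        have hj' : j < m := Finset.mem_range.1 hj
        rw [← mul_assoc, ← pow_succ']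
        congr 2
        omega
      rw [Finset.sum_congr rfl this, ← pow_succ']
      ring
    have h2 : ∑ j ∈ Finset.range (m + 1), τ ^ (m - j) * (h (m + 1) * S.esymm j) =
        h (m + 1) * ∑ j ∈ Finset.range (m + 1), τ ^ (m - j) * S.esymm j := by
      rw [Finset.mul_sum]
      refine Finset.sum_congr rfl fun j _ => by ring
    rw [h2, ← ih'] at *
    linear_combination hA - h1

end aux

/-- In any commutative ring, if h_0, …, h_(k-1) (k ≥ 2) and τ satisfy h_i^2 + τ h_i = 0, then ∏_(i ≤
k-2) (h_i + h_(i+1) + τ) = Σ_(j ≤ k-1) τ^(k-1-j) e_j(h), e_j the elementary symmetric functions.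
(The published statement is the resulting formula for the class of the small diagonal in the Chow
ring of (P^1)^k, where the h_i are the hyperplane classes of the factors and satisfy these
relations; only the ring identity is asserted here.) -/
theorem result (A : Type u) [CommRing A] (k : ℕ) (hk : 2 ≤ k) (τ : A)
    (h : ℕ → A) (hrel : ∀ i, i < k → h i ^ 2 + τ * h i = 0) :
    ∏ i ∈ Finset.range (k - 1), (h i + h (i + 1) + τ) =
      ∑ j ∈ Finset.range k, τ ^ (k - 1 - j) * (((Finset.range k).val.map h).esymm j) := by
  obtain ⟨m, rfl⟩ : ∃ m, k = m + 1 := ⟨k - 1, by omega⟩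
  have := lemmaB τ h m (fun i hi => hrel i (by omega))
  simpa using this

end Groth.Agent.S14097
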