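import Groth.Statements.S14100
import Mathlib.Algebra.Homology.DerivedCategory.FullyFaithful
import Mathlib.Algebra.Homology.DerivedCategory.HomologySequence
import Mathlib.CategoryTheory.Triangulated.TStructure.TruncLTGE
import Mathlib.Tactic
-- import your own Groth.Agent.* helpers here

set_option autoImplicit false
universe w v u
open DCoh

namespace Groth.Agent.S14100

section aux

open CategoryTheory Limits Pretriangulated Triangulated DerivedCategory

variable {C : Type u} [Category.{v} C] [Abelian C] [HasDerivedCategory.{w} C]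

/-- maps between objects concentrated in degree `m` are detected by `H^m` -/
theorem eq_zero_of_heart {A B : DerivedCategory C} (m : ℤ) [A.IsLE m] [A.IsGE m] [B.IsLE m]
    [B.IsGE m] (f : A ⟶ B) (hf : (homologyFunctor C m).map f = 0) : f = 0 := by
  obtain ⟨A₀, ⟨eA⟩⟩ := exists_iso_singleFunctor_obj_of_isGE_of_isLE A m
  obtain ⟨B₀, ⟨eB⟩⟩ := exists_iso_singleFunctor_obj_of_isGE_of_isLE B m
  obtain ⟨u, hu⟩ := (singleFunctor C m).map_surjective (eA.inv ≫ f ≫ eB.hom)
  have h1 : (homologyFunctor C m).map ((singleFunctor C m).map u) = 0 := by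
    rw [hu, Functor.map_comp, Functor.map_comp, hf, zero_comp, comp_zero]
  have h2 : u = 0 := by
    have := NatIso.naturality_1 (singleFunctorCompHomologyFunctorIso C m) u
    dsimp at this
    rw [← this, h1]; simp
  have h3 : eA.inv ≫ f ≫ eB.hom = 0 := by rw [← hu, h2, Functor.map_zero]
  have : f = eA.hom ≫ (eA.inv ≫ f ≫ eB.hom) ≫ eB.inv := by simp
  rw [this, h3]; simp

theorem key2 {X Y : DerivedCategory C} (m : ℤ) [X.IsLE m] [Y.IsGE m] (f : X ⟶ Y)
    (hf : (homologyFunctor C m).map f = 0) : f = 0 := by
  let t : TStructure (DerivedCategory C) := DerivedCategory.TStructure.t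
  have hTX := t.triangleLTGE_distinguished m X
  have h1 : (t.truncLTι m).app X ≫ f = 0 := t.zero _ (m - 1) m (by omega)
  obtain ⟨f', hf'⟩ : ∃ f' : (t.truncGE m).obj X ⟶ Y, f = (t.truncGEπ m).app X ≫ f' :=
    Triangle.yoneda_exact₂ _ hTX f h1
  have hTY := t.triangleLTGE_distinguished (m + 1) Y
  haveI : t.IsLE ((t.truncGE m).obj X) m := inferInstance
  have h2 : f' ≫ (t.truncGEπ (m + 1)).app Y = 0 := t.zero _ m (m + 1) (by omega)
  obtain ⟨f'', hf''⟩ : ∃ f'' : (t.truncGE m).obj X ⟶ (t.truncLT (m + 1)).obj Y,
      f' = f'' ≫ (t.truncLTι (m + 1)).app Y :=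
    Triangle.coyoneda_exact₂ _ hTY f' h2
  -- `H^m` of the projection is epi
  have hepi : Epi ((homologyFunctor C m).map ((t.truncGEπ m).app X)) := by
    have := (HomologySequence.epi_homologyMap_mor₂_iff _ hTX m (m + 1) rfl).2
      ((isZero_of_isLE ((t.truncLT m).obj X) (m - 1) (m + 1) (by omega)).eq_of_tgt _ _)
    exact this
  have hmono : Mono ((homologyFunctor C m).map ((t.truncLTι (m + 1)).app Y)) := by
    have := (HomologySequence.mono_homologyMap_mor₁_iff _ hTY (m - 1) m (by omega)).2
      ((isZero_of_isGE ((t.truncGE (m + 1)).obj Y) (m + 1) (m - 1) (by omega)).eq_of_src _ _)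
    exact this
  have h3 : (homologyFunctor C m).map f'' = 0 := by
    rw [hf', hf'', Functor.map_comp, Functor.map_comp] at hf
    rw [← cancel_epi ((homologyFunctor C m).map ((t.truncGEπ m).app X)),
      ← cancel_mono ((homologyFunctor C m).map ((t.truncLTι (m + 1)).app Y))]
    simpa using hf
  haveI : t.IsGE ((t.truncLT (m + 1)).obj Y) m := inferInstance
  haveI : t.IsLE ((t.truncLT (m + 1)).obj Y) m := inferInstance
  haveI : t.IsGE ((t.truncGE m).obj X) m := inferInstance
  have h4 : f'' = 0 := eq_zero_of_heart m f'' h3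
  rw [hf', hf'', h4, zero_comp, comp_zero]

end aux

open CategoryTheory in
/-- Let C be an abelian category, a an integer and n a natural number, and let K_0 → K_1 → ⋯ → K_{n+1}
be composable morphisms in the derived category of C such that each K_i has cohomology concentrated
in degrees a, …, a+n and each map K_i → K_{i+1} induces zero on every cohomology object. Then the
composite K_0 → K_{n+1} is zero. (The chain is given as a functor from the ordered set of natural
numbers; only its values on 0, …, n+1 matter.) -/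
theorem result
    (C : Type u) [Category.{v} C] [Abelian C] [HasDerivedCategory.{w} C]
    (a : ℤ) (n : ℕ) (K : ℕ ⥤ DerivedCategory C)
    (hGE : ∀ i : ℕ, i ≤ n + 1 → (K.obj i).IsGE a)
    (hLE : ∀ i : ℕ, i ≤ n + 1 → (K.obj i).IsLE (a + n))
    (hzero : ∀ i : ℕ, i ≤ n → ∀ q : ℤ,
      (DerivedCategory.homologyFunctor C q).map (K.map (homOfLE (Nat.le_succ i))) = 0) :
    K.map (homOfLE (Nat.zero_le (n + 1))) = 0 := by
  let t : Triangulated.TStructure (DerivedCategory C) := DerivedCategory.TStructure.t
  have key : ∀ j : ℕ, j ≤ n + 1 → ∀ m : ℤ, m + j = a + n + 1 →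
      K.map (homOfLE (Nat.zero_le j)) ≫ (t.truncGEπ m).app (K.obj j) = 0 := by
    intro j
    induction j with
    | zero =>
      intro _ m hm
      haveI := hLE 0 (by omega)
      have hz : Limits.IsZero ((t.truncGE m).obj (K.obj 0)) :=
        t.isZero_truncGE_obj_of_isLE (a + n) m (by omega) (K.obj 0)
      exact hz.eq_of_tgt _ _
    | succ j ih =>
      intro hj m hm
      have ih' := ih (by omega) (m + 1) (by push_cast at hm ⊢; omega)
      have hT := t.triangleLTGE_distinguished (m + 1) (K.obj j)
      obtain ⟨g', hg'⟩ : ∃ g' : K.obj 0 ⟶ (t.truncLT (m + 1)).obj (K.obj j),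
          K.map (homOfLE (Nat.zero_le j)) = g' ≫ (t.truncLTι (m + 1)).app (K.obj j) :=
        Pretriangulated.Triangle.coyoneda_exact₂ _ hT _ ih'
      have hsplit : K.map (homOfLE (Nat.zero_le (j + 1))) =
          K.map (homOfLE (Nat.zero_le j)) ≫ K.map (homOfLE (Nat.le_succ j)) := by
        rw [← K.map_comp]; rfl
      rw [hsplit, hg', Category.assoc, Category.assoc]
      haveI := hGE (j + 1) hj
      haveI : t.IsGE ((t.truncGE m).obj (K.obj (j + 1))) m := inferInstance
      haveI : t.IsLE ((t.truncLT (m + 1)).obj (K.obj j)) m := inferInstance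
      have hzero : (t.truncLTι (m + 1)).app (K.obj j) ≫ K.map (homOfLE (Nat.le_succ j)) ≫
          (t.truncGEπ m).app (K.obj (j + 1)) = 0 := by
        apply key2 m
        rw [Functor.map_comp, Functor.map_comp, hzero j (by omega) m, Limits.zero_comp,
          Limits.comp_zero]
      rw [hzero, Limits.comp_zero]
  have h := key (n + 1) le_rfl a (by push_cast; ring)
  haveI := hGE (n + 1) le_rfl
  haveI : IsIso ((t.truncGEπ a).app (K.obj (n + 1))) := inferInstance
  have := (cancel_mono ((t.truncGEπ a).app (K.obj (n + 1)))).1 (h.trans Limits.zero_comp.symm)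
  exact this

end Groth.Agent.S14100
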