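import Groth.Statements.S14102
import Groth.Agent.Lib.Helper71.ArtinReesTensor
import Groth.Agent.S14100

set_option autoImplicit false
universe w u
open DCoh

namespace Groth.Agent.S14102

section helpers
open CategoryTheory MonoidalCategory Limits

section layerB
open CategoryTheory Limits

variable {R : Type u} [Ring R]

lemma homologyMap_eq_zero_of {S₁ S₂ : ShortComplex (ModuleCat.{u} R)} (φ : S₁ ⟶ S₂)
    (h : ∀ x : S₁.X₂, S₁.g x = 0 → ∃ y : S₂.X₁, S₂.f y = φ.τ₂ x) :
    ShortComplex.homologyMap φ = 0 := by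
  rw [← cancel_epi S₁.homologyπ, ShortComplex.homologyπ_naturality, comp_zero]
  ext z
  obtain ⟨y, hy⟩ := h (S₁.iCycles z) (by
    rw [← ConcreteCategory.comp_apply, S₁.iCycles_g]; rfl)
  have h1 : ShortComplex.cyclesMap φ z = S₂.toCycles y := by
    apply (ModuleCat.mono_iff_injective S₂.iCycles).1 inferInstance
    rw [← ConcreteCategory.comp_apply, ← ConcreteCategory.comp_apply, ShortComplex.cyclesMap_i,
      S₂.toCycles_i, ConcreteCategory.comp_apply, hy]
  rw [ConcreteCategory.comp_apply, h1, ← ConcreteCategory.comp_apply, S₂.toCycles_comp_homologyπ]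
  rfl

lemma exists_of_smul_homology_eq_zero (S : ShortComplex (ModuleCat.{u} R)) (x : R)
    (hx : ∀ c : S.homology, x • c = 0) (z : S.X₂) (hz : S.g z = 0) :
    ∃ y : S.X₁, S.f y = x • z := by
  let zk : S.moduleCatLeftHomologyData.K := (⟨z, hz⟩ : LinearMap.ker S.g.hom)
  have h1 := hx (S.moduleCatHomologyIso.inv (S.moduleCatLeftHomologyData.π zk))
  have h2 : S.moduleCatHomologyIso.hom (x • S.moduleCatHomologyIso.inv (S.moduleCatLeftHomologyData.π zk))
      = 0 := by rw [h1, map_zero]
  rw [map_smul, ← ConcreteCategory.comp_apply, Iso.inv_hom_id] at h2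
  have h3 : S.moduleCatLeftHomologyData.π (x • zk) = 0 := by
    rw [map_smul]; exact h2
  have h4 : (LinearMap.range S.moduleCatToCycles).mkQ (x • (⟨z, hz⟩ : LinearMap.ker S.g.hom)) = 0 := h3
  have h5 : x • (⟨z, hz⟩ : LinearMap.ker S.g.hom) ∈ LinearMap.range S.moduleCatToCycles := by
    rw [← Submodule.Quotient.mk_eq_zero]; exact h4
  obtain ⟨y, hy⟩ := h5
  exact ⟨y, congrArg Subtype.val hy⟩

end layerB

variable {A : Type u} [CommRing A] (K : CochainComplex (ModuleCat.{u} A) ℤ)

noncomputable abbrev TObj (I : Ideal A) : CochainComplex (ModuleCat.{u} A) ℤ :=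
  (((curriedTensor (ModuleCat.{u} A)).obj (ModuleCat.of A I)).mapHomologicalComplex
    (ComplexShape.up ℤ)).obj K

noncomputable abbrev TMap {I I' : Ideal A} (h : I ≤ I') : TObj K I ⟶ TObj K I' :=
  (NatTrans.mapHomologicalComplex
    ((curriedTensor (ModuleCat.{u} A)).map (ModuleCat.ofHom (Submodule.inclusion h)))
    (ComplexShape.up ℤ)).app K

lemma TMap_f {I I' : Ideal A} (h : I ≤ I') (q : ℤ) :
    (TMap K h).f q = ModuleCat.ofHom (Submodule.inclusion h) ▷ K.X q := rfl

open Groth.Agent.Lib.Helper71 in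
lemma perq [IsNoetherianRing A] (J : Ideal A) (q : ℤ) [Module.Finite A (K.X q)]
    [Module.Projective A (K.X q)]
    (hJ : ∀ x ∈ J, ∀ c : ↑(K.homology q), x • c = 0) :
    ∃ k : ℕ, ∀ e c : ℕ, k + 1 ≤ c →
      HomologicalComplex.homologyMap
        (TMap K (Ideal.pow_le_pow_right (Nat.le_add_left e c)) :
          TObj K (J ^ (c + e)) ⟶ TObj K (J ^ e)) q = 0 := by
  obtain ⟨k, hk⟩ := exists_lift_of_artinRees (M := K.X q)
    (K.d ((ComplexShape.up ℤ).prev q) q).hom (K.d q ((ComplexShape.up ℤ).next q)).hom J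
    (fun x hx z hz => exists_of_smul_homology_eq_zero (K.sc q) x (hJ x hx) z hz)
  refine ⟨k, fun e c hc => ?_⟩
  apply homologyMap_eq_zero_of
  intro x hx
  exact hk e c hc x hx

lemma TMap_refl (I : Ideal A) : TMap K (le_refl I) = 𝟙 _ := by
  have h1 : ModuleCat.ofHom (Submodule.inclusion (le_refl I)) = 𝟙 (ModuleCat.of A I) := by
    ext x; rfl
  ext q : 1
  rw [TMap_f, h1, id_whiskerRight]
  rfl

lemma TMap_comp {I I' I'' : Ideal A} (h : I ≤ I') (h' : I' ≤ I'') :
    TMap K h ≫ TMap K h' = TMap K (h.trans h') := by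
  have h1 : ModuleCat.ofHom (Submodule.inclusion (h.trans h')) =
      ModuleCat.ofHom (Submodule.inclusion h) ≫ ModuleCat.ofHom (Submodule.inclusion h') := by
    ext x; rfl
  ext q : 1
  rw [HomologicalComplex.comp_f, TMap_f, TMap_f, TMap_f, h1, comp_whiskerRight]
  rfl

lemma outq (q : ℤ) (hq : IsZero (K.X q)) {I I' : Ideal A} (h : I ≤ I') :
    HomologicalComplex.homologyMap (TMap K h) q = 0 := by
  have h1 : IsZero ((TObj K I).X q) :=
    Functor.map_isZero ((curriedTensor (ModuleCat.{u} A)).obj (ModuleCat.of A I)) hq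
  have h2 : IsZero ((TObj K I).homology q) :=
    ShortComplex.isZero_homology_of_isZero_X₂ _ h1
  exact h2.eq_of_src _ _

lemma layerC [IsNoetherianRing A] (a b : ℤ)
    (hK : ∀ q : ℤ, q < a ∨ b < q → Limits.IsZero (K.X q))
    (hfin : ∀ q : ℤ, Module.Finite A (K.X q)) (hproj : ∀ q : ℤ, Module.Projective A (K.X q))
    (J : Ideal A) (hJ : ∀ q : ℤ, ∀ x ∈ J, ∀ c : ↑(K.homology q), x • c = 0) :
    ∃ c₀ : ℕ, ∀ e c : ℕ, c₀ ≤ c → ∀ q : ℤ,
      HomologicalComplex.homologyMap
        (TMap K (Ideal.pow_le_pow_right (Nat.le_add_left e c)) :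
          TObj K (J ^ (c + e)) ⟶ TObj K (J ^ e)) q = 0 := by
  have hq := fun q : ℤ => perq K J q (hJ q)
  choose k hk using hq
  refine ⟨(Finset.Icc a b).sup (fun q => k q + 1), fun e c hc q => ?_⟩
  by_cases hqab : q < a ∨ b < q
  · exact outq K q (hK q hqab) _
  · have hmem : q ∈ Finset.Icc a b := by
      rw [Finset.mem_Icc]; omega
    have h1 : k q + 1 ≤ (Finset.Icc a b).sup (fun q => k q + 1) :=
      Finset.le_sup (f := fun q => k q + 1) hmem
    exact hk q e c (h1.trans hc)

section layerD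
open DerivedCategory

variable [HasDerivedCategory.{w} (ModuleCat.{u} A)]

lemma isGE_TObj (a : ℤ) (hK : ∀ q : ℤ, q < a → IsZero (K.X q)) (I : Ideal A) :
    (Q.obj (TObj K I)).IsGE a := by
  haveI : (TObj K I).IsStrictlyGE a := by
    rw [CochainComplex.isStrictlyGE_iff]
    intro i hi
    exact Functor.map_isZero ((curriedTensor (ModuleCat.{u} A)).obj (ModuleCat.of A I)) (hK i hi)
  infer_instance

lemma isLE_TObj (b : ℤ) (hK : ∀ q : ℤ, b < q → IsZero (K.X q)) (I : Ideal A) :
    (Q.obj (TObj K I)).IsLE b := by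
  haveI : (TObj K I).IsStrictlyLE b := by
    rw [CochainComplex.isStrictlyLE_iff]
    intro i hi
    exact Functor.map_isZero ((curriedTensor (ModuleCat.{u} A)).obj (ModuleCat.of A I)) (hK i hi)
  infer_instance

lemma homologyFunctor_Q_map_eq_zero {X Y : CochainComplex (ModuleCat.{u} A) ℤ} (φ : X ⟶ Y) (q : ℤ)
    (h : HomologicalComplex.homologyMap φ q = 0) :
    (DerivedCategory.homologyFunctor (ModuleCat.{u} A) q).map (Q.map φ) = 0 := by
  have h1 := NatIso.naturality_2 (homologyFunctorFactors.{w} (ModuleCat.{u} A) q) φ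
  have h2 : (HomologicalComplex.homologyFunctor (ModuleCat.{u} A) (ComplexShape.up ℤ) q).map φ = 0 := h
  rw [h2, zero_comp, comp_zero] at h1
  exact h1.symm

/-- the tower functor -/
noncomputable def tower (J : Ideal A) (e : ℕ → ℕ) (he : Antitone e) :
    ℕ ⥤ DerivedCategory (ModuleCat.{u} A) where
  obj i := Q.obj (TObj K (J ^ (e i)))
  map {i j} f := Q.map (TMap K (Ideal.pow_le_pow_right (he (leOfHom f))))
  map_id i := by
    rw [← Q.map_id]
    congr 1
    exact TMap_refl K _
  map_comp {i j k} f g := by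
    rw [← Q.map_comp]
    congr 1
    exact (TMap_comp K _ _).symm

end layerD

section final
open DerivedCategory

variable [HasDerivedCategory.{w} (ModuleCat.{u} A)]

lemma aux_step (J : Ideal A) (c₀ : ℕ)
    (hc₀ : ∀ e c : ℕ, c₀ ≤ c → ∀ q : ℤ,
      HomologicalComplex.homologyMap
        (TMap K (Ideal.pow_le_pow_right (Nat.le_add_left e c)) :
          TObj K (J ^ (c + e)) ⟶ TObj K (J ^ e)) q = 0)
    (p p' : ℕ) (hp : p = c₀ + p') (h : J ^ p ≤ J ^ p') (q : ℤ) :
    HomologicalComplex.homologyMap (TMap K h) q = 0 := by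
  subst hp
  exact hc₀ p' c₀ le_rfl q

lemma aux_conv (J : Ideal A) (p p' r r' : ℕ) (hp : p = r) (hp' : p' = r')
    (h : J ^ p ≤ J ^ p') (h' : J ^ r ≤ J ^ r')
    (hz : (Q.{w}).map (TMap K h) = 0) : (Q.{w}).map (TMap K h') = 0 := by
  subst hp hp'
  exact hz

end final

end helpers

open CategoryTheory MonoidalCategory in
/-- Affine form — let A be a Noetherian commutative ring, K a bounded cochain complex of finitely
generated projective A-modules and J an ideal of A that annihilates every cohomology module of K.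
Then for some natural number n and every positive integer m, the map J^(n+m) ⊗_A K → J^m ⊗_A K
induced by the inclusion of ideals is zero in the derived category of A-modules. (The published
statement is for a perfect complex on a noetherian scheme or formal scheme with the derived tensor
product; over an affine scheme a perfect complex is represented by a bounded complex of finitely
generated projective modules, for which the derived tensor product with J^m is the termwise tensor
product used here.) -/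
theorem result
    (A : Type u) [CommRing A] [IsNoetherianRing A] [HasDerivedCategory.{w} (ModuleCat.{u} A)]
    (K : CochainComplex (ModuleCat.{u} A) ℤ) (a b : ℤ)
    (hK : ∀ q : ℤ, q < a ∨ b < q → Limits.IsZero (K.X q))
    (hfin : ∀ q : ℤ, Module.Finite A (K.X q)) (hproj : ∀ q : ℤ, Module.Projective A (K.X q))
    (J : Ideal A) (hJ : ∀ q : ℤ, ∀ x ∈ J, ∀ c : ↑(K.homology q), x • c = 0) :
    ∃ n : ℕ, ∀ m : ℕ, 0 < m →
      DerivedCategory.Q.map
        ((NatTrans.mapHomologicalComplex
          ((curriedTensor (ModuleCat.{u} A)).map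
            (ModuleCat.ofHom (Submodule.inclusion (p := J ^ (n + m)) (p' := J ^ m)
              (Ideal.pow_le_pow_right (Nat.le_add_left m n)))))
          (ComplexShape.up ℤ)).app K) = 0 := by
  obtain ⟨c₀, hc₀⟩ := layerC K a b hK hfin hproj J hJ
  obtain ⟨N, hN⟩ : ∃ N : ℕ, N = (b - a).toNat := ⟨_, rfl⟩
  refine ⟨(N + 1) * c₀, fun m _ => ?_⟩
  let e : ℕ → ℕ := fun i => (N + 1 - i) * c₀ + m
  have he : Antitone e := by
    intro i j hij
    show (N + 1 - j) * c₀ + m ≤ (N + 1 - i) * c₀ + m
    have : N + 1 - j ≤ N + 1 - i := by omega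
    have := Nat.mul_le_mul_right c₀ this
    omega
  have hGE : ∀ i : ℕ, i ≤ N + 1 → ((tower.{w} K J e he).obj i).IsGE a :=
    fun i _ => isGE_TObj K a (fun q hq => hK q (Or.inl hq)) _
  have hLE : ∀ i : ℕ, i ≤ N + 1 → ((tower.{w} K J e he).obj i).IsLE (a + N) :=
    fun i _ => isLE_TObj K (a + N) (fun q hq => hK q (Or.inr (by omega))) _
  have hzero : ∀ i : ℕ, i ≤ N → ∀ q : ℤ,
      (DerivedCategory.homologyFunctor (ModuleCat.{u} A) q).map
        ((tower.{w} K J e he).map (homOfLE (Nat.le_succ i))) = 0 := by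
    intro i hi q
    apply homologyFunctor_Q_map_eq_zero
    refine aux_step K J c₀ hc₀ (e i) (e (i + 1)) ?_ _ q
    show (N + 1 - i) * c₀ + m = c₀ + ((N + 1 - (i + 1)) * c₀ + m)
    have : N + 1 - i = (N + 1 - (i + 1)) + 1 := by omega
    rw [this, Nat.add_mul]
    omega
  have hres := Groth.Agent.S14100.result (ModuleCat.{u} A) a N (tower.{w} K J e he) hGE hLE hzero
  refine aux_conv K J (e 0) (e (N + 1)) ((N + 1) * c₀ + m) m ?_ ?_ _ _ hres
  · rfl
  · show (N + 1 - (N + 1)) * c₀ + m = m
    rw [Nat.sub_self, Nat.zero_mul, Nat.zero_add]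

end Groth.Agent.S14102
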