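import Groth.Statements.S14104
-- import your own Groth.Agent.* helpers here
import Mathlib
import Groth.Agent.Lib.Helper67.FibreStalk
import Groth.Agent.Lib.Helper49.FibreSk
import Groth.Agent.Lib.Helper49.Serre4

set_option autoImplicit false
universe u
open CategoryTheory CategoryTheory.Limits AlgebraicGeometry Opposite TopologicalSpace
open CInt

namespace Groth.Agent.S14104

open CategoryTheory CategoryTheory.Limits AlgebraicGeometry Opposite TopologicalSpace
open CInt

open Groth.Agent.Lib.Helper67.FibreStalk in
/-- depth of the fibre local ring is at most the depth of the local ring, for flat morphisms of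
locally noetherian schemes -/
theorem depth_fiberStalk_le {X S : Scheme.{u}} [IsLocallyNoetherian X] [IsLocallyNoetherian S]
    (f : X ⟶ S) [Flat f] (y : X) :
    ∃ _ : IsNoetherianRing (CInt.fiberStalk f y),
    LocCoh.depth ↑(X.presheaf.stalk y) ↑(X.presheaf.stalk y) =
      LocCoh.depth ↑(S.presheaf.stalk (f y)) ↑(S.presheaf.stalk (f y)) +
      LocCoh.depth ↑(CInt.fiberStalk f y) ↑(CInt.fiberStalk f y) := by
  obtain ⟨e⟩ := nonempty_ringEquiv f y
  have hN : IsNoetherianRing (CInt.fiberStalk f y) :=
    isNoetherianRing_of_ringEquiv _ e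
  refine ⟨hN, ?_⟩
  let _ : Algebra (S.presheaf.stalk (f y)) (X.presheaf.stalk y) := (f.stalkMap y).hom.toAlgebra
  have hflat : Module.Flat (S.presheaf.stalk (f y)) (X.presheaf.stalk y) := Flat.stalkMap f y
  have hloc : IsLocalHom (algebraMap (S.presheaf.stalk (f y)) (X.presheaf.stalk y)) := by
    change IsLocalHom (f.stalkMap y).hom
    infer_instance
  have h1 := Groth.Agent.Lib.Helper49.FibreSk.depth_eq_add_depth_fibre
    (S.presheaf.stalk (f y)) (X.presheaf.stalk y) (fibreIdeal f y) rfl
  rw [h1, Groth.Agent.Lib.Helper49.Serre.depth_eq_of_ringEquiv e]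

/-- Let f : X → S be a flat morphism of locally Noetherian schemes, Y a closed subset of X and d a
natural number. If for every point y of Y the local ring at y of the fibre of f through y has depth
at least d (the depth of O_{X_s} along Y_s is at least d for every s), then for every y ∈ Y the
local ring O_{X,y} has depth at least d (the depth of O_X along Y is at least d). -/
theorem result {X S : Scheme.{u}} [IsLocallyNoetherian X] [IsLocallyNoetherian S]
    (f : X ⟶ S) [Flat f] (Y : Set ↥X) (hY : IsClosed Y) (d : ℕ)
    (h : ∀ y : ↥X, y ∈ Y → (d : ℕ∞) ≤ LocCoh.depth ↑(CInt.fiberStalk f y) ↑(CInt.fiberStalk f y)) :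
    ∀ y : ↥X, y ∈ Y → (d : ℕ∞) ≤ LocCoh.depth ↑(X.presheaf.stalk y) ↑(X.presheaf.stalk y) := by
  intro y hy
  obtain ⟨_, h1⟩ := depth_fiberStalk_le f y
  rw [h1]
  exact (h y hy).trans le_add_self

end Groth.Agent.S14104
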