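import Groth.Statements.S14109
import Mathlib
import Groth.Agent.Lib.Helper33.FibreBC10
import Groth.Agent.Lib.Helper33.CMLocusFT

set_option maxHeartbeats 1600000
set_option backward.isDefEq.respectTransparency.types false

set_option autoImplicit false
universe u
open CategoryTheory CategoryTheory.Limits AlgebraicGeometry Opposite TopologicalSpace
open CInt

namespace Groth.Agent.S14109


open IsLocalRing in
/-- Dimension inequality for a local homomorphism whose closed fibre has dimension zero. -/
theorem dim_le_of_fibre_dim_zero {A B F : Type u} [CommRing A] [CommRing B] [CommRing F]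
    [IsLocalRing A] [IsLocalRing B] [IsNoetherianRing A] [IsNoetherianRing B]
    (φ : A →+* B) [IsLocalHom φ] (π : B →+* F) (hπ : Function.Surjective π)
    (hker : RingHom.ker π = (maximalIdeal A).map φ) (h0 : ringKrullDim F = 0) :
    ringKrullDim B ≤ ringKrullDim A := by
  algebraize [φ]
  haveI : IsLocalHom (algebraMap A B) := ‹IsLocalHom φ›
  haveI : (maximalIdeal B).LiesOver (maximalIdeal A) := by
    have h1 : (maximalIdeal B).comap (algebraMap A B) = maximalIdeal A :=
      ((IsLocalRing.local_hom_TFAE (algebraMap A B)).out 0 4).mp ‹IsLocalHom (algebraMap A B)›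
    exact ⟨h1.symm⟩
  have h := Ideal.height_le_height_add_of_liesOver (maximalIdeal A) (maximalIdeal B)
  have hI : (maximalIdeal A).map (algebraMap A B) ≤ maximalIdeal B :=
    IsLocalRing.map_maximalIdeal_le (algebraMap A B)
  have e : (B ⧸ (maximalIdeal A).map (algebraMap A B)) ≃+* F :=
    (Ideal.quotEquivOfEq hker.symm).trans (RingHom.quotientKerEquivOfSurjective hπ)
  have hdimQ : ringKrullDim (B ⧸ (maximalIdeal A).map (algebraMap A B)) = 0 := by
    rw [ringKrullDim_eq_of_ringEquiv e, h0]
  have hne : ((maximalIdeal B).map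
      (Ideal.Quotient.mk ((maximalIdeal A).map (algebraMap A B)))) ≠ ⊤ := by
    intro htop
    have h5 := Ideal.comap_map_of_surjective
      (Ideal.Quotient.mk ((maximalIdeal A).map (algebraMap A B)))
      Ideal.Quotient.mk_surjective (maximalIdeal B)
    rw [htop, Ideal.comap_top, ← RingHom.ker_eq_comap_bot, Ideal.mk_ker, sup_eq_left.2 hI] at h5
    exact (Ideal.IsPrime.ne_top (inferInstance : (maximalIdeal B).IsPrime)) h5.symm
  have hh : ((maximalIdeal B).map
      (Ideal.Quotient.mk ((maximalIdeal A).map (algebraMap A B)))).height = 0 := by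
    have h2 := Ideal.height_le_ringKrullDim_of_ne_top hne
    rw [hdimQ] at h2
    have h3 : ((maximalIdeal B).map
      (Ideal.Quotient.mk ((maximalIdeal A).map (algebraMap A B)))).height ≤ 0 := by
      exact_mod_cast h2
    exact le_antisymm h3 bot_le
  rw [hh, add_zero] at h
  rw [← IsLocalRing.maximalIdeal_height_eq_ringKrullDim,
    ← IsLocalRing.maximalIdeal_height_eq_ringKrullDim]
  exact WithBot.coe_le_coe.2 h

open TopologicalSpace in
/-- A nonempty scheme has a point whose local ring has dimension zero. -/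
theorem exists_stalk_dim_zero (Z : Scheme.{u}) [Nonempty Z] :
    ∃ w : Z, ringKrullDim (Z.presheaf.stalk w) = 0 := by
  obtain ⟨x⟩ := ‹Nonempty Z›
  obtain ⟨U, hU, hxU⟩ : ∃ U : Z.Opens, IsAffineOpen U ∧ x ∈ U := by
    obtain ⟨U, hU, hxU, -⟩ := Opens.isBasis_iff_nbhd.mp Z.isBasis_affineOpens
      (Opens.mem_top x)
    exact ⟨U, hU, hxU⟩
  have : x ∈ Set.range hU.fromSpec.base := by rw [hU.range_fromSpec]; exact hxU
  obtain ⟨q0, rfl⟩ := this
  haveI := q0.isPrime
  obtain ⟨P, hP, -⟩ := Ideal.exists_minimalPrimes_le (bot_le : (⊥ : Ideal Γ(Z, U)) ≤ q0.asIdeal)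
  haveI : P.IsPrime := hP.1.1
  let q : PrimeSpectrum Γ(Z, U) := ⟨P, inferInstance⟩
  refine ⟨hU.fromSpec.base q, ?_⟩
  obtain ⟨e⟩ := Groth.Agent.Lib.Helper33.CMLocusFT.nonempty_stalk_equiv hU q
  rw [ringKrullDim_eq_of_ringEquiv e, IsLocalization.AtPrime.ringKrullDim_eq_height P]
  have : P.height = 0 := Ideal.height_eq_zero_iff.2 hP
  rw [this]; rfl

theorem dim_stalk_congr {Z : Scheme.{u}} {a b : Z} (h : a = b) :
    ringKrullDim (Z.presheaf.stalk a) = ringKrullDim (Z.presheaf.stalk b) := by
  subst h; rfl

/-- For a surjective morphism whose local rings are Noetherian, every point has a preimage whose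
local ring has at most the same dimension. -/
theorem exists_preimage_dim_le {F' F : Scheme.{u}} (h : F' ⟶ F) [Surjective h]
    (hN' : ∀ z' : F', IsNoetherianRing (F'.presheaf.stalk z'))
    (hN : ∀ z : F, IsNoetherianRing (F.presheaf.stalk z)) (z : F) :
    ∃ z' : F', h.base z' = z ∧
      ringKrullDim (F'.presheaf.stalk z') ≤ ringKrullDim (F.presheaf.stalk z) := by
  haveI : Nonempty (h.fiber z) := by
    obtain ⟨z0, hz0⟩ := h.surjective z
    exact ⟨(h.fiberHomeo z).symm ⟨z0, hz0⟩⟩
  obtain ⟨w, hw⟩ := exists_stalk_dim_zero (h.fiber z)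
  have hz' : h.base ((h.fiberι z).base w) = z := (h.fiberHomeo z w).2
  refine ⟨(h.fiberι z).base w, hz', ?_⟩
  obtain ⟨π, hπ, hker⟩ := Groth.Agent.Lib.Helper33.FibreBC.exists_proj_of_fiber_point h z w _ rfl
  haveI := hN' ((h.fiberι z).base w)
  haveI := hN (h.base ((h.fiberι z).base w))
  have := dim_le_of_fibre_dim_zero (h.stalkMap ((h.fiberι z).base w)).hom π hπ hker hw
  rw [← dim_stalk_congr hz']
  exact this

/-- Let f : X → S and g : X' → X be morphisms of locally Noetherian schemes with g surjective, Y a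
closed subset of X and Y' its preimage under g. Then the codimension of Y' relative to the composite
X' → S (the infimum over y' ∈ Y' of the Krull dimension of the local ring at y' of the fibre of that
composite through y') is at most the codimension of Y relative to f (the same infimum over y ∈ Y for
the fibres of f). -/
theorem result {X X' S : Scheme.{u}} [IsLocallyNoetherian X]
    [IsLocallyNoetherian X'] [IsLocallyNoetherian S] (f : X ⟶ S) (g : X' ⟶ X) [Surjective g]
    (Y : Set ↥X) (hY : IsClosed Y) :
    (⨅ y' : (fun x' => g x') ⁻¹' Y, ringKrullDim ↑(CInt.fiberStalk (g ≫ f) y'.1)) ≤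
      ⨅ y : Y, ringKrullDim ↑(CInt.fiberStalk f y.1) := by
  refine le_iInf fun y => ?_
  obtain ⟨y, hy⟩ := y
  have hpb : IsPullback (CInt.fiberMap g f (f.base y))
      ((g ≫ f).fiberι (f.base y)) (f.fiberι (f.base y)) g := by
    refine IsPullback.of_right (h₁₂ := f.fiberToSpecResidueField (f.base y))
      (v₁₃ := S.fromSpecResidueField (f.base y)) (h₂₂ := f) ?_ ?_
      (IsPullback.of_hasPullback f (S.fromSpecResidueField (f.base y))).flip
    · have h1 : CInt.fiberMap g f (f.base y) ≫
          f.fiberToSpecResidueField (f.base y) =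
          (g ≫ f).fiberToSpecResidueField (f.base y) :=
        (pullback.lift_snd _ _ _).trans (Category.comp_id _)
      rw [h1]
      exact (IsPullback.of_hasPullback (g ≫ f) (S.fromSpecResidueField (f.base y))).flip
    · exact pullback.lift_fst _ _ _
  haveI : Surjective (CInt.fiberMap g f (f.base y)) :=
    MorphismProperty.of_isPullback hpb.flip inferInstance
  have hN' : ∀ z' : ↥((g ≫ f).fiber (f.base y)),
      IsNoetherianRing (((g ≫ f).fiber (f.base y)).presheaf.stalk z') := fun z' =>
    isNoetherianRing_of_surjective _ _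
      (((g ≫ f).fiberι (f.base y)).stalkMap z').hom
      (((g ≫ f).fiberι (f.base y)).stalkMap_surjective z')
  have hN : ∀ z : ↥(f.fiber (f.base y)),
      IsNoetherianRing ((f.fiber (f.base y)).presheaf.stalk z) := fun z =>
    isNoetherianRing_of_surjective _ _
      ((f.fiberι (f.base y)).stalkMap z).hom
      ((f.fiberι (f.base y)).stalkMap_surjective z)
  obtain ⟨z', hz', hdim⟩ := exists_preimage_dim_le (CInt.fiberMap g f (f.base y)) hN' hN
    (f.asFiber y)
  have hgy : g.base (((g ≫ f).fiberι (f.base y)).base z') = y := by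
    calc g.base (((g ≫ f).fiberι (f.base y)).base z')
        = ((g ≫ f).fiberι (f.base y) ≫ g).base z' := rfl
      _ = (CInt.fiberMap g f (f.base y) ≫ f.fiberι (f.base y)).base z' := by rw [hpb.w]
      _ = (f.fiberι (f.base y)).base ((CInt.fiberMap g f (f.base y)).base z') := rfl
      _ = (f.fiberι (f.base y)).base (f.asFiber y) := by rw [hz']
      _ = y := f.fiberι_asFiber y
  refine (iInf_le _ (⟨((g ≫ f).fiberι (f.base y)).base z', by
    change g.base _ ∈ Y
    rw [hgy]; exact hy⟩ : (fun x' => g x') ⁻¹' Y)).trans ?_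
  obtain ⟨e⟩ := Groth.Agent.Lib.Helper33.FibreBC.nonempty_stalk_fiber_equiv (g ≫ f) (f.base y) z'
    _ rfl
  change ringKrullDim ↑(CInt.fiberStalk (g ≫ f) (((g ≫ f).fiberι (f.base y)).base z')) ≤
    ringKrullDim ↑(CInt.fiberStalk f y)
  rw [← ringKrullDim_eq_of_ringEquiv e]
  exact hdim

end Groth.Agent.S14109
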