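import Groth.Statements.S14110
import Mathlib
import Groth.Agent.Lib.Helper33.FibreBC10

set_option autoImplicit false
set_option maxHeartbeats 800000
set_option backward.isDefEq.respectTransparency.types false
universe u
open CategoryTheory CategoryTheory.Limits AlgebraicGeometry Opposite TopologicalSpace
open CInt

namespace Groth.Agent.S14110

open IsLocalRing in
theorem dim_le_of_flat_local {A B : Type u} [CommRing A] [CommRing B] [IsLocalRing A]
    [IsLocalRing B] [IsNoetherianRing A] [IsNoetherianRing B] (φ : A →+* B) (hφ : φ.Flat) [IsLocalHom φ] :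
    ringKrullDim A ≤ ringKrullDim B := by
  algebraize [φ]
  haveI : IsLocalHom (algebraMap A B) := ‹IsLocalHom φ›
  haveI : Algebra.HasGoingDown A B := Algebra.HasGoingDown.of_flat
  haveI : (maximalIdeal B).LiesOver (maximalIdeal A) := by
    have h1 : (maximalIdeal B).comap (algebraMap A B) = maximalIdeal A :=
      ((IsLocalRing.local_hom_TFAE (algebraMap A B)).out 0 4).mp ‹IsLocalHom (algebraMap A B)›
    exact ⟨h1.symm⟩
  have h := Ideal.height_eq_height_add_of_liesOver_of_hasGoingDown (maximalIdeal A)
    (maximalIdeal B)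
  rw [← IsLocalRing.maximalIdeal_height_eq_ringKrullDim,
    ← IsLocalRing.maximalIdeal_height_eq_ringKrullDim, h]
  exact WithBot.coe_le_coe.2 le_self_add

/-- Let f : X → S and g : X' → X be morphisms of locally Noetherian schemes with f a Cohen–Macaulay
morphism (flat, every local ring of every fibre a Cohen–Macaulay local ring) and g flat, Y a closed
subset of X and Y' its preimage under g. Then the codimension of Y relative to f (the infimum over y
∈ Y of the Krull dimension of the local ring at y of the fibre of f through y) is at most the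
codimension of Y' relative to the composite X' → S. -/
theorem result {X X' S : Scheme.{u}} [IsLocallyNoetherian X]
    [IsLocallyNoetherian X'] [IsLocallyNoetherian S] (f : X ⟶ S) [Flat f]
    (hCM : ∀ x : ↥X, LocCoh.IsCohenMacaulayLocalRing ↑(CInt.fiberStalk f x)) (g : X' ⟶ X) [Flat g]
    (Y : Set ↥X) (hY : IsClosed Y) :
    (⨅ y : Y, ringKrullDim ↑(CInt.fiberStalk f y.1)) ≤
      ⨅ y' : (fun x' => g x') ⁻¹' Y, ringKrullDim ↑(CInt.fiberStalk (g ≫ f) y'.1) := by
  refine le_iInf fun y' => (iInf_le _ (⟨g.base y'.1, y'.2⟩ : Y)).trans ?_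
  obtain ⟨x', hx'⟩ := y'
  change ringKrullDim ↑(CInt.fiberStalk f (g.base x')) ≤
    ringKrullDim ↑(CInt.fiberStalk (g ≫ f) x')
  -- the map on fibres
  have hpb : IsPullback (CInt.fiberMap g f ((g ≫ f).base x'))
      ((g ≫ f).fiberι ((g ≫ f).base x')) (f.fiberι ((g ≫ f).base x')) g := by
    refine IsPullback.of_right (h₁₂ := f.fiberToSpecResidueField ((g ≫ f).base x'))
      (v₁₃ := S.fromSpecResidueField ((g ≫ f).base x')) (h₂₂ := f) ?_ ?_
      (IsPullback.of_hasPullback f (S.fromSpecResidueField ((g ≫ f).base x'))).flip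
    · have h1 : CInt.fiberMap g f ((g ≫ f).base x') ≫
          f.fiberToSpecResidueField ((g ≫ f).base x') =
          (g ≫ f).fiberToSpecResidueField ((g ≫ f).base x') :=
        (pullback.lift_snd _ _ _).trans (Category.comp_id _)
      rw [h1]
      exact (IsPullback.of_hasPullback (g ≫ f) (S.fromSpecResidueField ((g ≫ f).base x'))).flip
    · exact pullback.lift_fst _ _ _
  haveI : Flat (CInt.fiberMap g f ((g ≫ f).base x')) :=
    MorphismProperty.of_isPullback hpb.flip inferInstance
  have hz : (f.fiberι ((g ≫ f).base x')).base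
      ((CInt.fiberMap g f ((g ≫ f).base x')).base ((g ≫ f).asFiber x')) = g.base x' := by
    calc (f.fiberι ((g ≫ f).base x')).base
          ((CInt.fiberMap g f ((g ≫ f).base x')).base ((g ≫ f).asFiber x'))
        = (CInt.fiberMap g f ((g ≫ f).base x') ≫ f.fiberι ((g ≫ f).base x')).base
          ((g ≫ f).asFiber x') := rfl
      _ = ((g ≫ f).fiberι ((g ≫ f).base x') ≫ g).base ((g ≫ f).asFiber x') := by rw [hpb.w]
      _ = g.base (((g ≫ f).fiberι ((g ≫ f).base x')).base ((g ≫ f).asFiber x')) := rfl
      _ = g.base x' := congrArg g.base ((g ≫ f).fiberι_asFiber x')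
  obtain ⟨e⟩ := Groth.Agent.Lib.Helper33.FibreBC.nonempty_stalk_fiber_equiv f ((g ≫ f).base x')
    ((CInt.fiberMap g f ((g ≫ f).base x')).base ((g ≫ f).asFiber x')) (g.base x') hz
  haveI : IsNoetherianRing ↑(CInt.fiberStalk (g ≫ f) x') :=
    isNoetherianRing_of_surjective _ _
      (((g ≫ f).fiberι ((g ≫ f).base x')).stalkMap ((g ≫ f).asFiber x')).hom
      (((g ≫ f).fiberι ((g ≫ f).base x')).stalkMap_surjective ((g ≫ f).asFiber x'))
  have hfl := AlgebraicGeometry.Flat.stalkMap (CInt.fiberMap g f ((g ≫ f).base x'))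
    ((g ≫ f).asFiber x')
  haveI : IsNoetherianRing ↑(CInt.fiberStalk f (g.base x')) :=
    isNoetherianRing_of_surjective _ _
      ((f.fiberι (f.base (g.base x'))).stalkMap (f.asFiber (g.base x'))).hom
      ((f.fiberι (f.base (g.base x'))).stalkMap_surjective (f.asFiber (g.base x')))
  haveI : IsNoetherianRing ((f.fiber ((g ≫ f).base x')).presheaf.stalk
      ((CInt.fiberMap g f ((g ≫ f).base x')).base ((g ≫ f).asFiber x'))) :=
    isNoetherianRing_of_ringEquiv _ e.symm
  have hdim := dim_le_of_flat_local _ hfl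
  rw [← ringKrullDim_eq_of_ringEquiv e]
  exact hdim

end Groth.Agent.S14110
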