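import Groth.Statements.S14105
import Mathlib
import Groth.Agent.S14109
import Groth.Agent.S14110

set_option maxHeartbeats 1600000
set_option backward.isDefEq.respectTransparency.types false

set_option autoImplicit false
universe u
open CategoryTheory CategoryTheory.Limits AlgebraicGeometry Opposite TopologicalSpace
open CInt

namespace Groth.Agent.S14105


open Groth.Agent.Lib.Helper33.FibreBC in
theorem fibreMap_flat_surjective {X Y X' Y' : Scheme.{u}} (f : X ⟶ Y) (g : Y' ⟶ Y)
    (f' : X' ⟶ Y') (g' : X' ⟶ X) (hsq : IsPullback g' f' f g) (y' : Y') :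
    Flat (fibreMap f g f' g' hsq y') ∧ Surjective (fibreMap f g f' g' hsq y') := by
  have hpb := isPullback_fibreMap f g f' g' hsq y'
  have hflat : Flat (Spec.map (g.residueFieldMap y')) := by
    rw [Flat.SpecMap_iff]
    letI := (g.residueFieldMap y').hom.toAlgebra
    show Module.Flat _ _
    infer_instance
  have hsurj : Surjective (Spec.map (g.residueFieldMap y')) := by
    refine ⟨fun x => ?_⟩
    haveI : Subsingleton ↥(Spec (Y.residueField (g.base y'))) :=
      inferInstanceAs (Subsingleton (PrimeSpectrum (Y.residueField (g.base y'))))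
    haveI : Nonempty ↥(Spec (Y'.residueField y')) :=
      inferInstanceAs (Nonempty (PrimeSpectrum (Y'.residueField y')))
    obtain ⟨x0⟩ := ‹Nonempty ↥(Spec (Y'.residueField y'))›
    exact ⟨x0, Subsingleton.elim _ _⟩
  exact ⟨MorphismProperty.of_isPullback hpb.flip hflat,
    MorphismProperty.of_isPullback hpb.flip hsurj⟩

/-- Let f : X → S be a morphism and g : S' → S a base change, with X, S, S' and X' = X ×_S S' locally
Noetherian, and let Y be a closed subset of X with preimage Y' under the projection X' → X. Writing
the codimension of a closed subset relative to a morphism as the infimum, over its points, of the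
Krull dimension of the local ring of the fibre through that point: the codimension of Y' relative to
X' → S' is at least the codimension of Y relative to f, and the two are equal when the projection X'
→ X maps Y' onto Y. -/
theorem result {X S S' : Scheme.{u}} (f : X ⟶ S) (g : S' ⟶ S)
    [IsLocallyNoetherian X] [IsLocallyNoetherian S] [IsLocallyNoetherian S']
    [IsLocallyNoetherian (pullback f g)] (Y : Set ↥X) (hY : IsClosed Y) :
    ((⨅ y : Y, ringKrullDim ↑(CInt.fiberStalk f y.1)) ≤
      ⨅ y' : (fun x' => (pullback.fst f g) x') ⁻¹' Y,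
        ringKrullDim ↑(CInt.fiberStalk (pullback.snd f g) y'.1)) ∧
    (Y ⊆ Set.range (pullback.fst f g).base →
      (⨅ y' : (fun x' => (pullback.fst f g) x') ⁻¹' Y,
        ringKrullDim ↑(CInt.fiberStalk (pullback.snd f g) y'.1)) =
        ⨅ y : Y, ringKrullDim ↑(CInt.fiberStalk f y.1)) := by
  have hsq : IsPullback (pullback.fst f g) (pullback.snd f g) f g := IsPullback.of_hasPullback f g
  have hN' : ∀ (s' : S') (z' : ↥((pullback.snd f g).fiber s')),
      IsNoetherianRing (((pullback.snd f g).fiber s').presheaf.stalk z') := fun s' z' =>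
    isNoetherianRing_of_surjective _ _
      (((pullback.snd f g).fiberι s').stalkMap z').hom
      (((pullback.snd f g).fiberι s').stalkMap_surjective z')
  have hN : ∀ (s : S) (z : ↥(f.fiber s)),
      IsNoetherianRing ((f.fiber s).presheaf.stalk z) := fun s z =>
    isNoetherianRing_of_surjective _ _
      ((f.fiberι s).stalkMap z).hom ((f.fiberι s).stalkMap_surjective z)
  have part1 : (⨅ y : Y, ringKrullDim ↑(CInt.fiberStalk f y.1)) ≤
      ⨅ y' : (fun x' => (pullback.fst f g) x') ⁻¹' Y,
        ringKrullDim ↑(CInt.fiberStalk (pullback.snd f g) y'.1) := by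
    refine le_iInf fun y' => ?_
    obtain ⟨x', hx'⟩ := y'
    refine (iInf_le _ (⟨(pullback.fst f g).base x', hx'⟩ : Y)).trans ?_
    change ringKrullDim ↑(CInt.fiberStalk f ((pullback.fst f g).base x')) ≤
      ringKrullDim ↑(CInt.fiberStalk (pullback.snd f g) x')
    haveI := (fibreMap_flat_surjective f g _ _ hsq ((pullback.snd f g).base x')).1
    have hz := Groth.Agent.Lib.Helper33.FibreBC.fibreMap_asFiber f g _ _ hsq x'
    obtain ⟨e⟩ := Groth.Agent.Lib.Helper33.FibreBC.nonempty_stalk_fiber_equiv f _ _ _ hz
    haveI := hN' ((pullback.snd f g).base x') ((pullback.snd f g).asFiber x')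
    haveI := hN (g.base ((pullback.snd f g).base x'))
      ((Groth.Agent.Lib.Helper33.FibreBC.fibreMap f g _ _ hsq
        ((pullback.snd f g).base x')).base ((pullback.snd f g).asFiber x'))
    have hfl := AlgebraicGeometry.Flat.stalkMap
      (Groth.Agent.Lib.Helper33.FibreBC.fibreMap f g _ _ hsq ((pullback.snd f g).base x'))
      ((pullback.snd f g).asFiber x')
    have hdim := Groth.Agent.S14110.dim_le_of_flat_local _ hfl
    rw [← ringKrullDim_eq_of_ringEquiv e]
    exact hdim
  refine ⟨part1, fun hsub => le_antisymm ?_ part1⟩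
  refine le_iInf fun y => ?_
  obtain ⟨y, hy⟩ := y
  obtain ⟨x0, hx0⟩ := hsub hy
  have hfy : f.base y = g.base ((pullback.snd f g).base x0) := by
    rw [← hx0]
    have := congrArg (fun h => h.base x0) hsq.w
    exact this
  haveI := (fibreMap_flat_surjective f g _ _ hsq ((pullback.snd f g).base x0)).2
  let w : ↥(f.fiber (g.base ((pullback.snd f g).base x0))) :=
    (f.fiberHomeo (g.base ((pullback.snd f g).base x0))).symm ⟨y, hfy⟩
  have hw : (f.fiberι (g.base ((pullback.snd f g).base x0))).base w = y :=
    f.fiberι_fiberHomeo_symm _ ⟨y, hfy⟩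
  obtain ⟨z', hz', hdim⟩ := Groth.Agent.S14109.exists_preimage_dim_le
    (Groth.Agent.Lib.Helper33.FibreBC.fibreMap f g _ _ hsq ((pullback.snd f g).base x0))
    (hN' _) (hN _) w
  have hpy : (pullback.fst f g).base
      (((pullback.snd f g).fiberι ((pullback.snd f g).base x0)).base z') = y := by
    have h1 := Groth.Agent.Lib.Helper33.FibreBC.fibreMap_fiberι f g _ _ hsq
      ((pullback.snd f g).base x0)
    have h2 := congrArg (fun h => h.base z') h1
    calc (pullback.fst f g).base
          (((pullback.snd f g).fiberι ((pullback.snd f g).base x0)).base z')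
        = (f.fiberι (g.base ((pullback.snd f g).base x0))).base
          ((Groth.Agent.Lib.Helper33.FibreBC.fibreMap f g _ _ hsq
            ((pullback.snd f g).base x0)).base z') := h2.symm
      _ = y := by rw [hz', hw]
  refine (iInf_le _ (⟨((pullback.snd f g).fiberι ((pullback.snd f g).base x0)).base z', by
    change (pullback.fst f g).base _ ∈ Y
    rw [hpy]; exact hy⟩ : (fun x' => (pullback.fst f g) x') ⁻¹' Y)).trans ?_
  obtain ⟨e1⟩ := Groth.Agent.Lib.Helper33.FibreBC.nonempty_stalk_fiber_equiv (pullback.snd f g)
    ((pullback.snd f g).base x0) z' _ rfl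
  obtain ⟨e2⟩ := Groth.Agent.Lib.Helper33.FibreBC.nonempty_stalk_fiber_equiv f _ w y hw
  change ringKrullDim ↑(CInt.fiberStalk (pullback.snd f g)
    (((pullback.snd f g).fiberι ((pullback.snd f g).base x0)).base z')) ≤
    ringKrullDim ↑(CInt.fiberStalk f y)
  rw [← ringKrullDim_eq_of_ringEquiv e1, ← ringKrullDim_eq_of_ringEquiv e2]
  exact hdim

end Groth.Agent.S14105
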