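import Groth.Statements.S14113
import Groth.Agent.Lib.Helper46.SplitAcyclic
import Groth.Agent.Lib.Helper46.LocFreeSplitAffine

set_option autoImplicit false
universe u
open CategoryTheory CategoryTheory.Limits AlgebraicGeometry Opposite TopologicalSpace
attribute [local instance] HasDerivedCategory.standard
open DCoh

namespace Groth.Agent.S14113

/-- Let X be an affine scheme and E a bounded above cochain complex of finite locally free O_X-modules
(a strictly pseudo-coherent complex). Then E is acyclic if and only if the identity of E is null
homotopic. -/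
theorem result {X : Scheme.{u}} [IsAffine X]
    (E : CochainComplex X.Modules ℤ) (b : ℤ) (hEb : ∀ i : ℤ, b < i → IsZero (E.X i))
    (hE : ∀ i : ℤ, FlatMod.IsFinLocFree (E.X i)) :
    E.Acyclic ↔ Nonempty (Homotopy (𝟙 E) 0) := by
  constructor
  · intro hac
    refine Groth.Agent.Lib.Helper46.SplitAcyclic.nonempty_homotopy_id_zero E b hEb hac
      FlatMod.IsFinLocFree
      (fun _ h => Groth.Agent.Lib.Helper46.LocFreeSplitAffine.isFinLocFree_of_isZero h)
      (fun _ _ r h => Groth.Agent.Lib.QCoh.isFinLocFree_of_retract r h) hE ?_
    intro i P φ hφ hP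
    haveI := hφ
    haveI : (E.X i).IsQuasicoherent := Groth.Agent.Lib.QCoh.isQuasicoherent_of_isFinLocFree (hE i)
    exact Groth.Agent.Lib.Helper46.LocFreeSplitAffine.exists_section_of_isAffine hP φ
  · rintro ⟨h⟩ i
    rw [HomologicalComplex.exactAt_iff_isZero_homology]
    rw [IsZero.iff_id_eq_zero]
    have := h.homologyMap_eq i
    rw [HomologicalComplex.homologyMap_id, HomologicalComplex.homologyMap_zero] at this
    exact this

end Groth.Agent.S14113
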