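import Groth.Statements.S14118
import Groth.Agent.S14117
import Mathlib.Tactic
-- import your own Groth.Agent.* helpers here

set_option autoImplicit false
universe u v w
open SuperComm

namespace Groth.Agent.S14118

section aux

variable {R : Type u} [CommRing R] {ι : Type v} [Fintype ι] [DecidableEq ι]
    (deg : ι → ℤ) (M : ι → Type w) [∀ i, AddCommGroup (M i)] [∀ i, Module R (M i)]

/-- the grading involution -/
def eps : (Π k, M k) →ₗ[R] (Π k, M k) :=
  ∑ i : ι, (LinearMap.single R M i) ∘ₗ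
    (((-1 : R) ^ (deg i).natAbs) • (LinearMap.proj i : (Π k, M k) →ₗ[R] M i))

/-- `φ` is homogeneous of degree `a` -/
def HasDeg (φ : (Π k, M k) →ₗ[R] (Π k, M k)) (a : ℤ) : Prop :=
  ∀ i j : ι, deg j ≠ deg i + a → (LinearMap.proj j) ∘ₗ φ ∘ₗ (LinearMap.single R M i) = 0

theorem neg_one_pow_natAbs (x : ℤ) : (-1 : R) ^ x.natAbs = if Even x then 1 else -1 := by
  split_ifs with h
  · exact Even.neg_one_pow (Int.natAbs_even.2 h)
  · exact Odd.neg_one_pow (Int.natAbs_odd.2 (Int.not_even_iff_odd.1 h))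

theorem neg_one_pow_natAbs_add (x y : ℤ) :
    (-1 : R) ^ (x + y).natAbs = (-1 : R) ^ x.natAbs * (-1 : R) ^ y.natAbs := by
  simp only [neg_one_pow_natAbs, Int.even_add]
  by_cases hx : Even x <;> by_cases hy : Even y <;> simp [hx, hy]

theorem eps_apply (x : Π k, M k) (j : ι) :
    (eps (R := R) deg M x) j = ((-1 : R) ^ (deg j).natAbs) • x j := by
  simp only [eps, LinearMap.sum_apply, LinearMap.comp_apply, LinearMap.smul_apply,
    LinearMap.proj_apply, LinearMap.coe_single, Finset.sum_apply]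
  rw [Finset.sum_eq_single j]
  · simp
  · intro b _ hb
    exact Pi.single_eq_of_ne hb.symm _
  · intro h; exact absurd (Finset.mem_univ j) h

theorem proj_eps (j : ι) :
    (LinearMap.proj j) ∘ₗ (eps (R := R) deg M) = ((-1 : R) ^ (deg j).natAbs) • LinearMap.proj j := by
  apply LinearMap.ext
  intro x
  simp [eps_apply]

theorem eps_single (i : ι) :
    (eps (R := R) deg M) ∘ₗ (LinearMap.single R M i) =
      ((-1 : R) ^ (deg i).natAbs) • LinearMap.single R M i := by
  apply LinearMap.ext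
  intro m
  funext j
  simp only [LinearMap.comp_apply, eps_apply, LinearMap.coe_single, LinearMap.smul_apply,
    Pi.smul_apply]
  by_cases h : j = i
  · subst h; rfl
  · rw [Pi.single_eq_of_ne h, smul_zero, smul_zero]

theorem block_ext {f g : (Π k, M k) →ₗ[R] (Π k, M k)}
    (h : ∀ i j : ι, (LinearMap.proj j) ∘ₗ f ∘ₗ (LinearMap.single R M i) =
      (LinearMap.proj j) ∘ₗ g ∘ₗ (LinearMap.single R M i)) : f = g := by
  apply LinearMap.pi_ext'
  intro i
  apply LinearMap.ext
  intro m
  funext j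
  exact LinearMap.congr_fun (h i j) m

theorem sum_single_proj :
    (∑ k : ι, (LinearMap.single R M k) ∘ₗ (LinearMap.proj k : (Π k, M k) →ₗ[R] M k)) =
      LinearMap.id := by
  apply LinearMap.ext
  intro x
  funext j
  simp only [LinearMap.sum_apply, LinearMap.comp_apply, LinearMap.proj_apply,
    LinearMap.coe_single, Finset.sum_apply, LinearMap.id_apply]
  rw [Finset.sum_eq_single j]
  · simp
  · intro b _ hb
    exact Pi.single_eq_of_ne hb.symm _
  · intro h; exact absurd (Finset.mem_univ j) h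

variable {deg M}

theorem HasDeg.comp {φ ψ : (Π k, M k) →ₗ[R] (Π k, M k)} {a b : ℤ}
    (hφ : HasDeg deg M φ a) (hψ : HasDeg deg M ψ b) : HasDeg deg M (φ ∘ₗ ψ) (b + a) := by
  intro i j hij
  have h1 : φ ∘ₗ ψ = φ ∘ₗ (∑ k : ι, (LinearMap.single R M k) ∘ₗ
      (LinearMap.proj k : (Π k, M k) →ₗ[R] M k)) ∘ₗ ψ := by
    rw [sum_single_proj (R := R) M]; rfl
  rw [h1]
  apply LinearMap.ext
  intro m
  simp only [LinearMap.comp_apply, LinearMap.sum_apply, map_sum, LinearMap.zero_apply]
  refine Finset.sum_eq_zero fun k _ => ?_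
  by_cases hk : deg k = deg i + b
  · have := LinearMap.congr_fun (hφ k j (by intro h; apply hij; rw [h, hk]; ring))
      ((ψ ((LinearMap.single R M i) m)) k)
    simpa using this
  · have := LinearMap.congr_fun (hψ i k hk) m
    simp only [LinearMap.comp_apply, LinearMap.zero_apply] at this
    rw [this, map_zero, map_zero, map_zero]

theorem HasDeg.eps_comp {φ : (Π k, M k) →ₗ[R] (Π k, M k)} {a : ℤ} (hφ : HasDeg deg M φ a) :
    (eps deg M) ∘ₗ φ = ((-1 : R) ^ a.natAbs) • (φ ∘ₗ (eps deg M)) := by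
  apply block_ext
  intro i j
  have e1 : (LinearMap.proj j) ∘ₗ ((eps deg M) ∘ₗ φ) ∘ₗ (LinearMap.single R M i) =
      ((-1 : R) ^ (deg j).natAbs) • ((LinearMap.proj j) ∘ₗ φ ∘ₗ (LinearMap.single R M i)) := by
    rw [← LinearMap.comp_assoc, ← LinearMap.comp_assoc, proj_eps, LinearMap.smul_comp,
      LinearMap.smul_comp, LinearMap.comp_assoc]
  have e2 : (LinearMap.proj j) ∘ₗ (((-1 : R) ^ a.natAbs) • (φ ∘ₗ (eps deg M))) ∘ₗ
      (LinearMap.single R M i) =
      ((-1 : R) ^ a.natAbs * (-1 : R) ^ (deg i).natAbs) •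
        ((LinearMap.proj j) ∘ₗ φ ∘ₗ (LinearMap.single R M i)) := by
    rw [LinearMap.smul_comp, LinearMap.comp_smul, LinearMap.comp_assoc, eps_single,
      LinearMap.comp_smul, LinearMap.comp_smul, smul_smul]
  rw [e1, e2]
  by_cases hij : deg j = deg i + a
  · rw [hij, neg_one_pow_natAbs_add, mul_comm]
  · rw [hφ i j hij, smul_zero, smul_zero]

end aux

/-- Let R be a commutative ring and M a finitely ℤ-graded R-module with finitely many nonzero graded
pieces, each finite free, presented as a finite family of finite free R-modules M_i with integer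
degrees deg i (the piece of degree n being the product of the M_i with deg i = n); an endomorphism φ
of the total module Π_i M_i has degree a when its (i, j) block vanishes unless deg j = deg i + a;
the supertrace of an endomorphism is the trace of its composite with the grading involution ε = Σ_i
(-1)^{deg i} pr_i. If φ and ψ have degrees a and b, the supertrace of the supercommutator φψ -
(-1)^{ab} ψφ vanishes. (The published statement allows the graded pieces to be finitely generated
projective; this row takes them finite free, where the trace is the ordinary trace of a free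
module.) -/
theorem result {R : Type u} [CommRing R] {ι : Type v} [Fintype ι] [DecidableEq ι]
    (deg : ι → ℤ) (M : ι → Type w) [∀ i, AddCommGroup (M i)] [∀ i, Module R (M i)]
    [∀ i, Module.Free R (M i)] [∀ i, Module.Finite R (M i)]
    (a b : ℤ) (φ ψ : (Π k, M k) →ₗ[R] (Π k, M k))
    (hφ : ∀ i j : ι, deg j ≠ deg i + a → (LinearMap.proj j) ∘ₗ φ ∘ₗ (LinearMap.single R M i) = 0)
    (hψ : ∀ i j : ι, deg j ≠ deg i + b → (LinearMap.proj j) ∘ₗ ψ ∘ₗ (LinearMap.single R M i) = 0) :
    LinearMap.trace R (Π k, M k)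
      ((∑ i : ι, (LinearMap.single R M i) ∘ₗ (((-1 : R) ^ (deg i).natAbs) • (LinearMap.proj i : (Π k, M k) →ₗ[R] M i))) ∘ₗ (φ ∘ₗ ψ - ((-1 : R) ^ (a * b).natAbs) • (ψ ∘ₗ φ))) = 0 := by
  have hφ' : HasDeg deg M φ a := hφ
  have hψ' : HasDeg deg M ψ b := hψ
  show LinearMap.trace R (Π k, M k)
    ((eps deg M) ∘ₗ (φ ∘ₗ ψ - ((-1 : R) ^ (a * b).natAbs) • (ψ ∘ₗ φ))) = 0
  rw [LinearMap.comp_sub, LinearMap.comp_smul, map_sub, map_smul]
  by_cases hab : b + a = 0
  · -- trace (ε ψ φ) = (-1)^a trace (ε φ ψ)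
    have h1 : LinearMap.trace R (Π k, M k) ((eps deg M) ∘ₗ (ψ ∘ₗ φ)) =
        ((-1 : R) ^ a.natAbs) • LinearMap.trace R (Π k, M k) ((eps deg M) ∘ₗ (φ ∘ₗ ψ)) := by
      have hsq : (-1 : R) ^ a.natAbs * (-1 : R) ^ a.natAbs = 1 := by
        rw [← pow_add, ← two_mul, pow_mul]; simp
      have hc : φ ∘ₗ (eps deg M) = ((-1 : R) ^ a.natAbs) • ((eps deg M) ∘ₗ φ) := by
        rw [hφ'.eps_comp, smul_smul, hsq, one_smul]
      rw [← LinearMap.comp_assoc, LinearMap.trace_comp_comm', ← map_smul, ← LinearMap.comp_assoc,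
        hc, LinearMap.smul_comp, LinearMap.comp_assoc]
    rw [h1, smul_smul]
    have hb : b = -a := by linarith
    have : (-1 : R) ^ (a * b).natAbs * (-1 : R) ^ a.natAbs = 1 := by
      rw [← neg_one_pow_natAbs_add, neg_one_pow_natAbs, if_pos]
      rw [hb]
      have : a * -a + a = a * (1 - a) := by ring
      rw [this]
      rcases Int.even_or_odd a with h | h
      · exact h.mul_right _
      · exact Even.mul_left (by
          rcases h with ⟨k, hk⟩
          exact ⟨-k, by rw [hk]; ring⟩) _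
    rw [this, one_smul, sub_self]
  · have h1 := Groth.Agent.S14117.result deg M (b + a) hab (φ ∘ₗ ψ) (hφ'.comp hψ')
    have h2 := Groth.Agent.S14117.result deg M (a + b) (by rwa [add_comm]) (ψ ∘ₗ φ) (hψ'.comp hφ')
    have h1' : LinearMap.trace R (Π k, M k) ((eps deg M) ∘ₗ (φ ∘ₗ ψ)) = 0 := h1
    have h2' : LinearMap.trace R (Π k, M k) ((eps deg M) ∘ₗ (ψ ∘ₗ φ)) = 0 := h2
    rw [h1', h2', smul_zero, sub_zero]

end Groth.Agent.S14118
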