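import Groth.Statements.S14119
import Mathlib
import Groth.Agent.Lib.Helper91.CatenaryInt

set_option autoImplicit false
universe u
open CategoryTheory CategoryTheory.Limits AlgebraicGeometry Opposite TopologicalSpace
open BlowUp

namespace Groth.Agent.S14119

/-- Let X be a locally Noetherian scheme, Y an effective Cartier divisor on X (a quasi-coherent ideal
sheaf which, near every point, is generated on some affine open by one nonzerodivisor; Y is its
support) and Z a closed integral subscheme (a closed immersion i from an integral scheme with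
generic point ξ). Assume X irreducible with all local rings catenary (the first of the two printed
sufficient conditions), and assume that the inverse image ideal sheaf of Y on Z is the ideal of an
effective Cartier divisor on Z. Then Y and Z intersect properly: every point ζ of Y ∩ Z that is
maximal under generization inside Y ∩ Z satisfies dim O_{X,ζ} = codim(Y,X) + codim(Z,X), where
codim(Y,X) is the infimum over y ∈ Y of dim O_{X,y} and codim(Z,X) = dim O_{X,i(ξ)}. (The published
statement also has a second sufficient condition, X biequidimensional, and a fourth equivalent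
condition, vanishing of the higher Tor sheaves of O_Y against O_Z; neither is included in this row.) -/
theorem result {X Z : Scheme.{u}}
    [IsLocallyNoetherian X] [IrreducibleSpace ↥X] (hcat : ∀ x : ↥X, CAlg.IsCatenary ↑(X.presheaf.stalk x))
    (𝓘 : X.IdealSheafData) (hY : BlowUp.IsEffCartierIdeal 𝓘)
    (i : Z ⟶ X) [IsClosedImmersion i] [IsIntegral Z] (hc : BlowUp.IsEffCartierIdeal (𝓘.comap i)) :
    (∀ ζ : ↥X, ζ ∈ (𝓘.support : Set ↥X) ∩ Set.range i.base →
        (∀ ζ' : ↥X, ζ' ∈ (𝓘.support : Set ↥X) ∩ Set.range i.base → ζ' ⤳ ζ → ζ' = ζ) →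
        ringKrullDim ↑(X.presheaf.stalk ζ) =
          (⨅ y : (𝓘.support : Set ↥X), ringKrullDim ↑(X.presheaf.stalk y.1)) +
            ringKrullDim ↑(X.presheaf.stalk (i (genericPoint ↥Z)))) := by
  classical
  rintro ζ ⟨hζY, z, rfl⟩ hmax
  have hξz : genericPoint ↥Z ⤳ z := (genericPoint_spec ↥Z).specializes trivial
  have hsp : i (genericPoint ↥Z) ⤳ i z := hξz.map i.continuous
  haveI : IsNoetherianRing (X.presheaf.stalk (i z)) := inferInstance
  -- the prime of `Z` in the local ring
  have hP := Lib.Helper91.CatenaryInt.ker_stalkMap_eq_primeOf i z hsp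
  have hKer := Lib.Helper91.CatenaryInt.stalkIdeal_ker i z
  rw [hP] at hKer
  obtain ⟨f, hf, hgen⟩ := Lib.Helper91.StalkIdeal.exists_generator hY (i z)
  have hne_top : Lib.Helper91.StalkIdeal.stalkIdeal 𝓘 (i z) ≠ ⊤ := by
    intro h
    exact (Lib.Helper91.StalkIdeal.stalkIdeal_eq_top_iff 𝓘 (i z)).mp h hζY
  have hfm : Ideal.span {f} ≤ IsLocalRing.maximalIdeal (X.presheaf.stalk (i z)) :=
    IsLocalRing.le_maximalIdeal (hgen ▸ hne_top)
  have hfnu : ¬ IsUnit f := by
    intro hu
    exact hne_top (hgen.trans (Ideal.span_singleton_eq_top.mpr hu))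
  have hrange : (i.ker.support : Set ↥X) = Set.range i := by
    rw [Scheme.Hom.support_ker]
    exact i.isClosedEmbedding.isClosed_range.closure_eq
  -- every prime containing `P + (f)` is the maximal ideal
  have hprime_eq : ∀ Q : Ideal (X.presheaf.stalk (i z)), Q.IsPrime →
      Lib.Helper91.GenPrime.primeOf hsp ≤ Q → Ideal.span {f} ≤ Q →
      Q = IsLocalRing.maximalIdeal (X.presheaf.stalk (i z)) := by
    intro Q hQ hPQ hfQ
    obtain ⟨y, hy, hyQ⟩ := Lib.Helper91.GenPrime.exists_specializes_primeOf_eq (i z) Q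
    have hyY : y ∈ 𝓘.support :=
      Lib.Helper91.CatenaryInt.mem_support_of_stalkIdeal_le_primeOf 𝓘 hy
        (by rw [hgen, hyQ]; exact hfQ)
    have hyZ : y ∈ i.ker.support :=
      Lib.Helper91.CatenaryInt.mem_support_of_stalkIdeal_le_primeOf i.ker hy
        (by rw [hKer, hyQ]; exact hPQ)
    have hyZ' : y ∈ Set.range i := by
      rw [← hrange]
      exact hyZ
    have hyeq : y = i z := hmax y ⟨hyY, hyZ'⟩ hy
    subst hyeq
    rw [← hyQ]
    exact Lib.Helper91.CodimOne.primeOf_self _ _
  have hPm : Lib.Helper91.GenPrime.primeOf hsp ≤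
      IsLocalRing.maximalIdeal (X.presheaf.stalk (i z)) :=
    IsLocalRing.le_maximalIdeal (Ideal.IsPrime.ne_top inferInstance)
  have hmin : IsLocalRing.maximalIdeal (X.presheaf.stalk (i z)) ∈
      (Lib.Helper91.GenPrime.primeOf hsp ⊔ Ideal.span {f}).minimalPrimes := by
    refine ⟨⟨inferInstance, sup_le hPm hfm⟩, ?_⟩
    rintro Q ⟨hQ, hQle⟩ -
    exact (hprime_eq Q hQ (le_sup_left.trans hQle) (le_sup_right.trans hQle)).ge
  -- `P ≠ m`
  have hne : Lib.Helper91.GenPrime.primeOf hsp ≠
      IsLocalRing.maximalIdeal (X.presheaf.stalk (i z)) := by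
    intro heq
    obtain ⟨g, hg, hggen⟩ := Lib.Helper91.StalkIdeal.exists_generator hc z
    rw [Lib.Helper91.StalkIdeal.stalkIdeal_comap, hgen, Ideal.map_span, Set.image_singleton] at hggen
    have hf0 : (i.stalkMap z).hom f = 0 := by
      have : f ∈ RingHom.ker (i.stalkMap z).hom := by
        rw [hP, heq]
        exact hfm (Ideal.subset_span rfl)
      exact this
    rw [hf0] at hggen
    have hg0 : g = 0 := by
      have : g ∈ Ideal.span {(0 : Z.presheaf.stalk z)} := by
        rw [hggen]
        exact Ideal.subset_span rfl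
      rw [Ideal.span_singleton_eq_bot.mpr rfl] at this
      exact this
    rw [hg0] at hg
    exact zero_notMem_nonZeroDivisors hg
  have hcov := Lib.Helper91.CatenaryDim.covBy_of_mem_minimalPrimes hmin hne
  obtain ⟨p₀, hp₀⟩ := Lib.Helper91.CatenaryInt.exists_least_prime (i z)
  have hht := Lib.Helper91.CatenaryDim.height_eq_add_one_of_covBy (hcat (i z)) p₀ hp₀ hcov
  have hdimζ : ringKrullDim (X.presheaf.stalk (i z)) =
      ((IsLocalRing.maximalIdeal (X.presheaf.stalk (i z))).height : WithBot ℕ∞) :=
    IsLocalRing.maximalIdeal_height_eq_ringKrullDim.symm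
  have hdimξ := Lib.Helper91.GenPrime.ringKrullDim_stalk_eq_height hsp
  -- the codimension of `Y` is one
  have hinf : (⨅ y : (𝓘.support : Set ↥X), ringKrullDim ↑(X.presheaf.stalk y.1)) = 1 := by
    apply le_antisymm
    · obtain ⟨q, hq⟩ := Ideal.nonempty_minimalPrimes (I := Ideal.span {f})
        (fun h => hfnu (Ideal.span_singleton_eq_top.mp h))
      haveI := hq.1.1
      have h1 : q.height ≤ 1 :=
        Ideal.height_le_one_of_isPrincipal_of_mem_minimalPrimes (Ideal.span {f}) q hq
      have h2 : 1 ≤ q.height := by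
        rw [← Ideal.height_span_singleton_eq_one_of_mem_nonZeroDivisors hf hfnu]
        exact Ideal.height_mono hq.1.2
      obtain ⟨y, hy, hyq⟩ := Lib.Helper91.GenPrime.exists_specializes_primeOf_eq (i z) q
      have hyY : y ∈ 𝓘.support :=
        Lib.Helper91.CatenaryInt.mem_support_of_stalkIdeal_le_primeOf 𝓘 hy
          (by rw [hgen, hyq]; exact hq.1.2)
      refine (iInf_le _ (⟨y, hyY⟩ : (𝓘.support : Set ↥X))).trans ?_
      show ringKrullDim (X.presheaf.stalk y) ≤ 1
      rw [Lib.Helper91.GenPrime.ringKrullDim_stalk_eq_height hy, hyq, le_antisymm h1 h2]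
      rfl
    · refine le_iInf ?_
      rintro ⟨y, hy⟩
      show 1 ≤ ringKrullDim (X.presheaf.stalk y)
      haveI : IsNoetherianRing (X.presheaf.stalk y) := inferInstance
      obtain ⟨π, hπ, hπgen⟩ := Lib.Helper91.StalkIdeal.exists_generator hY y
      have hπnu : ¬ IsUnit π := by
        intro hu
        have h := hπgen.trans (Ideal.span_singleton_eq_top.mpr hu)
        exact (Lib.Helper91.StalkIdeal.stalkIdeal_eq_top_iff 𝓘 y).mp h hy
      have h1 := Ideal.height_span_singleton_eq_one_of_mem_nonZeroDivisors hπ hπnu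
      have h2 : Ideal.span {π} ≤ IsLocalRing.maximalIdeal (X.presheaf.stalk y) :=
        IsLocalRing.le_maximalIdeal (fun h => hπnu (Ideal.span_singleton_eq_top.mp h))
      have h3 := Ideal.height_mono h2
      rw [h1] at h3
      rw [← IsLocalRing.maximalIdeal_height_eq_ringKrullDim]
      exact_mod_cast h3
  rw [hinf, hdimζ, hdimξ]
  have hht' : (IsLocalRing.maximalIdeal (X.presheaf.stalk (i z))).height =
      (Lib.Helper91.GenPrime.primeOf hsp).height + 1 := hht
  rw [hht', add_comm]
  rfl

end Groth.Agent.S14119
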