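import Groth.Statements.S14122
import Mathlib

set_option autoImplicit false
universe u
open ValCrit

namespace Groth.Agent.S14122

section helpers
open Module

variable (R : Type u) [CommRing R] [IsDomain R] [IsDiscreteValuationRing R]
    (K : Type u) [Field K] [Algebra R K] [IsFractionRing R K] (N : ℕ)

/-- a finitely generated `g`-stable lattice containing the standard basis -/
lemma exists_lattice (g : GL (Fin N) K) (hg : IsOfFinOrder g) :
    ∃ L : Submodule R (Fin N → K), Module.Finite R L ∧ (∀ j, (Pi.single j 1 : Fin N → K) ∈ L) ∧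
      ∀ γ ∈ Subgroup.zpowers g, ∀ v ∈ L, (γ : GL (Fin N) K).val.mulVec v ∈ L := by
  classical
  haveI : Finite (Subgroup.zpowers g) := (finite_zpowers.2 hg).to_subtype
  let S : Set (Fin N → K) := Set.range (fun p : Subgroup.zpowers g × Fin N =>
    (p.1 : GL (Fin N) K).val.mulVec (Pi.single p.2 1))
  have hSfin : S.Finite := Set.finite_range _
  refine ⟨Submodule.span R S, Module.Finite.span_of_finite R hSfin, ?_, ?_⟩
  · intro j
    refine Submodule.subset_span ⟨⟨⟨1, one_mem _⟩, j⟩, ?_⟩
    show (1 : Matrix (Fin N) (Fin N) K).mulVec (Pi.single j 1) = Pi.single j 1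
    rw [Matrix.one_mulVec]
  · intro γ hγ v hv
    have h1 : (Submodule.span R S).map ((Matrix.mulVecLin γ.val).restrictScalars R) ≤
        Submodule.span R S := by
      rw [Submodule.map_span_le]
      rintro _ ⟨⟨γ', j⟩, rfl⟩
      apply Submodule.subset_span
      refine ⟨⟨⟨γ * γ', mul_mem hγ γ'.2⟩, j⟩, ?_⟩
      show (γ.val * (γ' : GL (Fin N) K).val).mulVec (Pi.single j 1) =
        γ.val.mulVec ((γ' : GL (Fin N) K).val.mulVec (Pi.single j 1))
      rw [Matrix.mulVec_mulVec]
    exact h1 ⟨v, hv, rfl⟩

lemma li_of_basis (L : Submodule R (Fin N → K)) {ι : Type*} (b : Basis ι R L) :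
    LinearIndependent K (fun i => (b i : Fin N → K)) := by
  rw [← LinearIndependent.iff_fractionRing R K]
  exact b.linearIndependent.map' L.subtype (Submodule.ker_subtype L)

lemma span_of_basis (L : Submodule R (Fin N → K))
    (he : ∀ j, (Pi.single j 1 : Fin N → K) ∈ L) {ι : Type*} (b : Basis ι R L) :
    ⊤ ≤ Submodule.span K (Set.range fun i => (b i : Fin N → K)) := by
  classical
  rw [← (Pi.basisFun K (Fin N)).span_eq, Submodule.span_le]
  rintro _ ⟨j, rfl⟩
  have hj : (⟨Pi.single j 1, he j⟩ : L) ∈ Submodule.span R (Set.range b) := by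
    rw [b.span_eq]; trivial
  have h2 : Submodule.span R (Set.range b) ≤
      Submodule.comap L.subtype
        ((Submodule.span K (Set.range fun i => (b i : Fin N → K))).restrictScalars R) := by
    rw [Submodule.span_le]
    rintro _ ⟨i, rfl⟩
    exact Submodule.subset_span ⟨i, rfl⟩
  rw [Pi.basisFun_apply]
  exact h2 hj

lemma exists_basis (L : Submodule R (Fin N → K)) [Module.Finite R L]
    (he : ∀ j, (Pi.single j 1 : Fin N → K) ∈ L) : Nonempty (Basis (Fin N) R L) := by
  classical
  let b₀ : Basis (Free.ChooseBasisIndex R L) R L := Free.chooseBasis R L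
  let bK₀ : Basis (Free.ChooseBasisIndex R L) K (Fin N → K) :=
    Basis.mk (li_of_basis R K N L b₀) (span_of_basis R K N L he b₀)
  exact ⟨b₀.reindex (bK₀.indexEquiv (Pi.basisFun K (Fin N)))⟩

end helpers

section helpers2
open Module

variable (R : Type u) [CommRing R] [IsDomain R] [IsDiscreteValuationRing R]
    (K : Type u) [Field K] [Algebra R K] [IsFractionRing R K] (N : ℕ)

lemma key (g : GL (Fin N) K) (hg : IsOfFinOrder g) :
    ∃ (h : GL (Fin N) K) (g' : GL (Fin N) R),
      h * g * h⁻¹ = Matrix.GeneralLinearGroup.map (algebraMap R K) g' := by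
  classical
  obtain ⟨L, hLfin, he, hstab⟩ := exists_lattice R K N g hg
  obtain ⟨b⟩ := exists_basis R K N L he
  have hli := li_of_basis R K N L b
  have hsp := span_of_basis R K N L he b
  obtain ⟨bK, hbK⟩ : ∃ bK : Basis (Fin N) K (Fin N → K), ∀ j, bK j = (b j : Fin N → K) :=
    ⟨Basis.mk hli hsp, fun j => Basis.mk_apply hli hsp j⟩
  obtain ⟨B, hBdef⟩ : ∃ B : Matrix (Fin N) (Fin N) K, B = (Pi.basisFun K (Fin N)).toMatrix bK :=
    ⟨_, rfl⟩
  have hB : ∀ i j, B i j = (b j : Fin N → K) i := by
    intro i j
    rw [hBdef, Basis.toMatrix_apply, hbK]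
    rfl
  obtain ⟨Bu, hBu⟩ : ∃ Bu : (Matrix (Fin N) (Fin N) K)ˣ, (Bu : Matrix (Fin N) (Fin N) K) = B := by
    haveI : Invertible B := by
      rw [hBdef]; exact (Pi.basisFun K (Fin N)).invertibleToMatrix bK
    exact ⟨unitOfInvertible B, rfl⟩
  -- the integral matrices
  obtain ⟨C, hCdef⟩ : ∃ C : Subgroup.zpowers g → Matrix (Fin N) (Fin N) R, ∀ γ i j,
      C γ i j = b.repr ⟨(γ : GL (Fin N) K).val.mulVec (b j), hstab γ γ.2 _ (b j).2⟩ i :=
    ⟨fun γ i j => b.repr ⟨(γ : GL (Fin N) K).val.mulVec (b j), hstab γ γ.2 _ (b j).2⟩ i,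
      fun _ _ _ => rfl⟩
  have hC : ∀ γ : Subgroup.zpowers g,
      B * (C γ).map (algebraMap R K) = (γ : GL (Fin N) K).val * B := by
    intro γ
    ext i j
    rw [Matrix.mul_apply, Matrix.mul_apply]
    have h1 := b.sum_repr ⟨(γ : GL (Fin N) K).val.mulVec (b j), hstab γ γ.2 _ (b j).2⟩
    have h2 := congrArg (fun x : L => (x : Fin N → K) i) h1
    simp only [Submodule.coe_sum, Submodule.coe_smul, Finset.sum_apply, Pi.smul_apply] at h2
    calc ∑ l, B i l * ((C γ).map (algebraMap R K)) l j
        = ∑ l, (b.repr ⟨(γ : GL (Fin N) K).val.mulVec (b j), hstab γ γ.2 _ (b j).2⟩ l) •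
            (b l : Fin N → K) i := by
          apply Finset.sum_congr rfl
          intro l _
          rw [hB, Matrix.map_apply, hCdef, Algebra.smul_def, mul_comm]
      _ = (γ : GL (Fin N) K).val.mulVec (b j) i := h2
      _ = ∑ l, (γ : GL (Fin N) K).val i l * B l j := by
          rw [Matrix.mulVec, dotProduct]
          apply Finset.sum_congr rfl
          intro l _
          rw [hB]
  have hinj : Function.Injective
      (fun M : Matrix (Fin N) (Fin N) R => M.map (algebraMap R K)) :=
    Matrix.map_injective (IsFractionRing.injective R K)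
  have hmul : ∀ γ γ' : Subgroup.zpowers g, C γ * C γ' = C (γ * γ') := by
    intro γ γ'
    apply hinj
    show (C γ * C γ').map (algebraMap R K) = (C (γ * γ')).map (algebraMap R K)
    rw [Matrix.map_mul]
    apply Bu.mul_right_inj.1
    rw [hBu, ← mul_assoc, hC, mul_assoc, hC, hC, ← mul_assoc]
    rfl
  have hone : C 1 = 1 := by
    apply hinj
    show (C 1).map (algebraMap R K) = (1 : Matrix (Fin N) (Fin N) R).map (algebraMap R K)
    apply Bu.mul_right_inj.1
    rw [hBu, hC, Matrix.map_one _ (map_zero _) (map_one _), mul_one]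
    show (1 : Matrix (Fin N) (Fin N) K) * B = B
    rw [one_mul]
  obtain ⟨γg, hγg⟩ : ∃ γg : Subgroup.zpowers g, (γg : GL (Fin N) K) = g :=
    ⟨⟨g, Subgroup.mem_zpowers g⟩, rfl⟩
  let g' : GL (Fin N) R := ⟨C γg, C γg⁻¹, by rw [hmul, mul_inv_cancel, hone],
    by rw [hmul, inv_mul_cancel, hone]⟩
  refine ⟨Bu⁻¹, g', ?_⟩
  rw [inv_inv, mul_assoc, inv_mul_eq_iff_eq_mul]
  apply Units.ext
  show g.val * (Bu : Matrix (Fin N) (Fin N) K) = (Bu : Matrix (Fin N) (Fin N) K) * (C γg).map (algebraMap R K)
  rw [hBu, hC, hγg]

end helpers2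

/-- Let `R` be a discrete valuation ring with fraction field `K` and `g ∈ GL_N(K)` an element of finite
order. Then after passing to a finite extension `K'` of `K` and a discrete valuation ring `R'` of
`K'` dominating `R`, the element `g` becomes conjugate in `GL_N(K')` to an element of `GL_N(R')`.
(The published statement is that the classifying stack of `GL_N` over the integers satisfies a
valuative condition, for discrete valuation rings essentially of finite type over the integers, on
extending finite-order generic automorphisms along nearby modifications; since vector bundles over a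
discrete valuation ring are trivial, that condition is this conjugacy statement for such rings, and
this row states it for every discrete valuation ring, as the printed argument gives.) -/
theorem result
    (R : Type u) [CommRing R] [IsDomain R] [IsDiscreteValuationRing R]
    (K : Type u) [Field K] [Algebra R K] [IsFractionRing R K]
    (N : ℕ) (g : GL (Fin N) K) (hg : IsOfFinOrder g) :
    ∃ (R' : Type u) (_ : CommRing R') (_ : IsDomain R') (_ : IsDiscreteValuationRing R')
      (K' : Type u) (_ : Field K') (_ : Algebra R' K') (_ : IsFractionRing R' K')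
      (_ : Algebra R R') (_ : Algebra K K') (_ : Algebra R K')
      (_ : IsScalarTower R R' K') (_ : IsScalarTower R K K')
      (_ : Module.Finite K K') (_ : IsLocalHom (algebraMap R R'))
      (h : GL (Fin N) K') (g' : GL (Fin N) R'),
      h * Matrix.GeneralLinearGroup.map (algebraMap K K') g * h⁻¹ =
        Matrix.GeneralLinearGroup.map (algebraMap R' K') g' := by
  obtain ⟨h, g', hgg'⟩ := key R K N g hg
  refine ⟨R, inferInstance, inferInstance, inferInstance, K, inferInstance, inferInstance,
    inferInstance, Algebra.id R, Algebra.id K, inferInstance, inferInstance, inferInstance,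
    inferInstance, inferInstance, h, g', ?_⟩
  rw [← hgg']
  congr 2

end Groth.Agent.S14122
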