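import Groth.Statements.S14123
import Mathlib
import Groth.Agent.Lib.Helper95.RootDVR

set_option autoImplicit false
universe u v
open GmQuot

namespace Groth.Agent.S14123

open DirectSum IsLocalRing

section slopes

variable {A : Type u} [CommRing A] (𝒜 : ℤ → AddSubgroup A) [GradedRing 𝒜]

theorem exists_min_slope
    (hfg : (Ideal.span {a : A | ∃ d : ℤ, 0 < d ∧ a ∈ 𝒜 d}).FG)
    (R : Type v) [CommRing R] [IsDomain R] [IsDiscreteValuationRing R]
    (φ : A →+* R)
    (hle : Ideal.map φ (Ideal.span {a : A | ∃ d : ℤ, 0 < d ∧ a ∈ 𝒜 d}) ≤ IsLocalRing.maximalIdeal R)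
    (hne : Ideal.map φ (Ideal.span {a : A | ∃ d : ℤ, 0 < d ∧ a ∈ 𝒜 d}) ≠ ⊥)
    (π : R) (hπ : Irreducible π) :
    ∃ (s : Finset A) (dg : A → ℕ) (nf : A → ℕ) (uf : A → Rˣ) (a₀ : A),
      Ideal.span (s : Set A) = Ideal.span {a : A | ∃ d : ℤ, 0 < d ∧ a ∈ 𝒜 d} ∧
      (∀ b ∈ s, 0 < dg b ∧ b ∈ 𝒜 (dg b : ℤ)) ∧
      (∀ b ∈ s, φ b ≠ 0 → φ b = uf b * π ^ nf b) ∧
      a₀ ∈ s ∧ φ a₀ ≠ 0 ∧ 0 < nf a₀ ∧
      (∀ b ∈ s, φ b ≠ 0 → nf a₀ * dg b ≤ nf b * dg a₀) := by
  classical
  obtain ⟨s, hs1, hs2⟩ := (Submodule.fg_span_iff_fg_span_finset_subset _).mp hfg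
  let dg : A → ℕ := fun b => if h : ∃ d : ℤ, 0 < d ∧ b ∈ 𝒜 d then h.choose.toNat else 1
  have hdg : ∀ b ∈ s, 0 < dg b ∧ b ∈ 𝒜 (dg b : ℤ) := by
    intro b hb
    have h : ∃ d : ℤ, 0 < d ∧ b ∈ 𝒜 d := hs1 hb
    have h1 : dg b = h.choose.toNat := dif_pos h
    have h2 := h.choose_spec
    rw [h1]
    refine ⟨by omega, ?_⟩
    rw [Int.toNat_of_nonneg h2.1.le]
    exact h2.2
  let nf : A → ℕ := fun b => if h : φ b ≠ 0 then
    (IsDiscreteValuationRing.eq_unit_mul_pow_irreducible h hπ).choose else 0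
  let uf : A → Rˣ := fun b => if h : φ b ≠ 0 then
    (IsDiscreteValuationRing.eq_unit_mul_pow_irreducible h hπ).choose_spec.choose else 1
  have hnf : ∀ b, φ b ≠ 0 → φ b = uf b * π ^ nf b := by
    intro b h
    have h1 : nf b = (IsDiscreteValuationRing.eq_unit_mul_pow_irreducible h hπ).choose := dif_pos h
    have h2 : uf b = (IsDiscreteValuationRing.eq_unit_mul_pow_irreducible h hπ).choose_spec.choose :=
      dif_pos h
    rw [h1, h2]
    exact (IsDiscreteValuationRing.eq_unit_mul_pow_irreducible h hπ).choose_spec.choose_spec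
  have hex : ∃ b ∈ s, φ b ≠ 0 := by
    by_contra hcon
    push Not at hcon
    apply hne
    change Ideal.map φ (Submodule.span A _) = ⊥
    rw [hs2]
    change Ideal.map φ (Ideal.span (s : Set A)) = ⊥
    rw [Ideal.map_span, Ideal.span_eq_bot]
    rintro _ ⟨b, hb, rfl⟩
    exact hcon b hb
  have hs'ne : (s.filter (fun b => φ b ≠ 0)).Nonempty := by
    obtain ⟨b, hb, hb'⟩ := hex
    exact ⟨b, Finset.mem_filter.mpr ⟨hb, hb'⟩⟩
  obtain ⟨a₀, ha₀, hmin⟩ := Finset.exists_min_image (s.filter (fun b => φ b ≠ 0))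
    (fun b => (nf b : ℚ) / (dg b : ℚ)) hs'ne
  rw [Finset.mem_filter] at ha₀
  refine ⟨s, dg, nf, uf, a₀, hs2.symm, hdg, fun b _ h => hnf b h, ha₀.1, ha₀.2, ?_, ?_⟩
  · rw [Nat.pos_iff_ne_zero]
    intro h0
    have h1 := hnf a₀ ha₀.2
    rw [h0, pow_zero, mul_one] at h1
    have h2 : φ a₀ ∈ maximalIdeal R :=
      hle (Ideal.mem_map_of_mem φ (Ideal.subset_span (hs1 ha₀.1)))
    rw [mem_maximalIdeal, mem_nonunits_iff] at h2
    apply h2
    rw [h1]
    exact (uf a₀).isUnit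
  · intro b hb hb'
    have h1 := hmin b (Finset.mem_filter.mpr ⟨hb, hb'⟩)
    have h2 : (0 : ℚ) < dg a₀ := by exact_mod_cast (hdg a₀ ha₀.1).1
    have h3 : (0 : ℚ) < dg b := by exact_mod_cast (hdg b hb).1
    rw [div_le_div_iff₀ h2 h3] at h1
    exact_mod_cast h1

end slopes

section divis

variable {A : Type u} [CommRing A] (𝒜 : ℤ → AddSubgroup A) [GradedRing 𝒜]

theorem dvd_claim {R : Type v} [CommRing R] (φ : A →+* R) {R' : Type*} [CommRing R']
    (ι : R →+* R') (π : R) (s : Finset A) (dg nf : A → ℕ) (uf : A → Rˣ) (D e : ℕ)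
    (hspan : Ideal.span (s : Set A) = Ideal.span {a : A | ∃ d : ℤ, 0 < d ∧ a ∈ 𝒜 d})
    (hdg : ∀ b ∈ s, 0 < dg b ∧ b ∈ 𝒜 (dg b : ℤ))
    (hnf : ∀ b ∈ s, φ b ≠ 0 → φ b = uf b * π ^ nf b)
    (hmin : ∀ b ∈ s, φ b ≠ 0 → e * dg b ≤ nf b * D)
    (x : R') (hx : x ^ D = ι π) (n : ℕ) :
    ∀ a ∈ 𝒜 (n : ℤ), x ^ (e * n) ∣ ι (φ a) := by
  classical
  induction n using Nat.strong_induction_on with
  | _ n ih =>
    intro a ha
    rcases Nat.eq_zero_or_pos n with h0 | hpos
    · rw [h0, Nat.mul_zero, pow_zero]; exact one_dvd _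
    have hmem : a ∈ Ideal.span (s : Set A) := by
      rw [hspan]
      exact Ideal.subset_span ⟨n, by exact_mod_cast hpos, ha⟩
    obtain ⟨c, -, hsum⟩ := Submodule.mem_span_finset.mp hmem
    have h1 : a = GradedRing.proj 𝒜 (n : ℤ) (∑ b ∈ s, c b • b) := by
      rw [hsum, GradedRing.proj_apply, DirectSum.decompose_of_mem_same 𝒜 ha]
    rw [map_sum] at h1
    have h2 : ∀ b ∈ s, GradedRing.proj 𝒜 (n : ℤ) (c b • b)
        = (DirectSum.decompose 𝒜 (c b) ((n : ℤ) - dg b) : A) * b := by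
      intro b hb
      have h3 := DirectSum.coe_decompose_mul_add_of_right_mem 𝒜 (i := (n : ℤ) - dg b)
        (j := (dg b : ℤ)) (a := c b) (hdg b hb).2
      rw [sub_add_cancel] at h3
      rw [GradedRing.proj_apply, smul_eq_mul]
      exact h3
    rw [Finset.sum_congr rfl h2] at h1
    rw [h1, map_sum, map_sum]
    apply Finset.dvd_sum
    intro b hb
    rw [map_mul, map_mul]
    by_cases hφb : φ b = 0
    · rw [hφb, map_zero, mul_zero]; exact dvd_zero _
    have h4 : x ^ (nf b * D) ∣ ι (φ b) := by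
      rw [hnf b hb hφb, map_mul, map_pow, ← hx, ← pow_mul, mul_comm D]
      exact dvd_mul_left _ _
    have h5 := hmin b hb hφb
    rcases le_or_gt n (dg b) with hle | hlt
    · refine dvd_mul_of_dvd_right ?_ _
      refine dvd_trans (pow_dvd_pow x ?_) h4
      exact le_trans (Nat.mul_le_mul_left e hle) h5
    · have h6 : ((n : ℤ) - dg b) = ((n - dg b : ℕ) : ℤ) := by
        rw [Nat.cast_sub hlt.le]
      have h7 : (DirectSum.decompose 𝒜 (c b) ((n : ℤ) - dg b) : A) ∈ 𝒜 ((n - dg b : ℕ) : ℤ) := by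
        rw [← h6]; exact SetLike.coe_mem _
      have h8 := ih (n - dg b) (by have := (hdg b hb).1; omega) _ h7
      have h9 : x ^ (e * n) = x ^ (e * (n - dg b)) * x ^ (e * dg b) := by
        rw [← pow_add, ← Nat.mul_add, Nat.sub_add_cancel hlt.le]
      rw [h9]
      refine mul_dvd_mul h8 (dvd_trans (pow_dvd_pow x h5) h4)

end divis

section gK

variable {A : Type u} [CommRing A] (𝒜 : ℤ → AddSubgroup A) [GradedRing 𝒜]
variable {K' : Type*} [Field K'] (ψ : A →+* K') (w : K') (hw : w ≠ 0)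

/-- the rescaled map `a ↦ ψ(a) w^{-deg a}` -/
noncomputable def gK : A →+* K' :=
  (DirectSum.toSemiring (A := fun d => 𝒜 d)
    (fun d => (AddMonoidHom.mulRight (w ^ (-d))).comp (ψ.toAddMonoidHom.comp (𝒜 d).subtype))
    (by simp)
    (by
      intro i j ai aj
      simp only [AddMonoidHom.coe_comp, Function.comp_apply, AddMonoidHom.coe_mulRight,
        RingHom.toAddMonoidHom_eq_coe, AddMonoidHom.coe_coe, AddSubgroup.coe_subtype,
        SetLike.coe_gMul, map_mul, neg_add, zpow_add₀ hw]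
      ring)).comp (DirectSum.decomposeRingEquiv 𝒜).toRingHom

lemma gK_apply_of_mem {d : ℤ} {a : A} (ha : a ∈ 𝒜 d) : gK 𝒜 ψ w hw a = ψ a * w ^ (-d) := by
  unfold gK
  rw [RingHom.comp_apply]
  have h1 : (DirectSum.decomposeRingEquiv 𝒜).toRingHom a = DirectSum.of (fun i => 𝒜 i) d ⟨a, ha⟩ := by
    change DirectSum.decompose 𝒜 a = _
    exact DirectSum.decompose_of_mem 𝒜 ha
  rw [h1, DirectSum.toSemiring_of]
  rfl

end gK


section core

variable {A : Type u} [CommRing A] (𝒜 : ℤ → AddSubgroup A) [GradedRing 𝒜]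

theorem core {R : Type v} [CommRing R] (φ : A →+* R)
    {R' : Type v} [CommRing R'] [IsDomain R'] [Algebra R R']
    {K' : Type v} [Field K'] [Algebra R' K'] [IsFractionRing R' K']
    (π : R) (s : Finset A) (dg nf : A → ℕ) (uf : A → Rˣ) (a₀ : A)
    (hspan : Ideal.span (s : Set A) = Ideal.span {a : A | ∃ d : ℤ, 0 < d ∧ a ∈ 𝒜 d})
    (hdg : ∀ b ∈ s, 0 < dg b ∧ b ∈ 𝒜 (dg b : ℤ))
    (hnf : ∀ b ∈ s, φ b ≠ 0 → φ b = uf b * π ^ nf b)
    (ha₀s : a₀ ∈ s) (ha₀ne : φ a₀ ≠ 0)
    (hmin : ∀ b ∈ s, φ b ≠ 0 → nf a₀ * dg b ≤ nf b * dg a₀)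
    (x : R') (hx0 : x ≠ 0) (hx : x ^ (dg a₀) = algebraMap R R' π) :
    ∃ g : A →+* R',
      (∀ (d : ℤ) (a : A), a ∈ 𝒜 d →
        algebraMap R' K' (g a) * algebraMap R' K' (x ^ nf a₀) ^ d
          = algebraMap R' K' (algebraMap R R' (φ a))) ∧
      Ideal.map g (Ideal.span {a : A | ∃ d : ℤ, 0 < d ∧ a ∈ 𝒜 d}) = ⊤ := by
  have inj : Function.Injective (algebraMap R' K') := IsFractionRing.injective R' K'
  have hϖK : algebraMap R' K' (x ^ nf a₀) ≠ 0 := by
    intro h
    rw [← map_zero (algebraMap R' K')] at h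
    exact pow_ne_zero _ hx0 (inj h)
  set ψ : A →+* K' := ((algebraMap R' K').comp (algebraMap R R')).comp φ with hψ
  have hrange : ∀ a, ∃ y : R', algebraMap R' K' y = gK 𝒜 ψ _ hϖK a := by
    intro a
    refine DirectSum.Decomposition.inductionOn 𝒜 ?_ ?_ ?_ a
    · exact ⟨0, by rw [map_zero, map_zero]⟩
    · intro i m
      rw [gK_apply_of_mem 𝒜 ψ _ hϖK m.2]
      rcases le_or_gt i 0 with hi | hi
      · obtain ⟨k, hk⟩ : ∃ k : ℕ, -i = k := ⟨(-i).toNat, (Int.toNat_of_nonneg (by omega)).symm⟩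
        rw [hk, zpow_natCast]
        exact ⟨algebraMap R R' (φ m) * (x ^ nf a₀) ^ k, by rw [map_mul, map_pow]; rfl⟩
      · obtain ⟨k, hk⟩ : ∃ k : ℕ, i = k := ⟨i.toNat, (Int.toNat_of_nonneg (by omega)).symm⟩
        have hm : (m : A) ∈ 𝒜 (k : ℤ) := hk ▸ m.2
        obtain ⟨y, hy⟩ := dvd_claim 𝒜 φ (algebraMap R R') π s dg nf uf (dg a₀) (nf a₀) hspan hdg
          hnf hmin x hx k _ hm
        refine ⟨y, ?_⟩
        have h1 : ψ m = algebraMap R' K' (x ^ nf a₀) ^ k * algebraMap R' K' y := by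
          rw [hψ]
          change algebraMap R' K' (algebraMap R R' (φ m)) = _
          rw [hy, map_mul, ← map_pow, ← pow_mul]
        rw [h1, hk, zpow_neg, zpow_natCast]
        field_simp
    · rintro m m' ⟨y, hy⟩ ⟨y', hy'⟩
      exact ⟨y + y', by rw [map_add, map_add, hy, hy']⟩
  choose gf hgf using hrange
  let g : A →+* R' :=
    { toFun := gf
      map_one' := inj (by rw [hgf, map_one, map_one])
      map_mul' := fun a b => inj (by rw [hgf, map_mul, map_mul, hgf, hgf])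
      map_zero' := inj (by rw [hgf, map_zero, map_zero])
      map_add' := fun a b => inj (by rw [hgf, map_add, map_add, hgf, hgf]) }
  have hg : ∀ a, algebraMap R' K' (g a) = gK 𝒜 ψ _ hϖK a := hgf
  refine ⟨g, ?_, ?_⟩
  · intro d a ha
    rw [hg, gK_apply_of_mem 𝒜 ψ _ hϖK ha, zpow_neg, mul_assoc,
      inv_mul_cancel₀ (zpow_ne_zero d hϖK), mul_one]
    rfl
  · have hmem : a₀ ∈ 𝒜 (dg a₀ : ℤ) := (hdg a₀ ha₀s).2
    have h1 : algebraMap R R' (φ a₀) = algebraMap R R' (uf a₀) * (x ^ nf a₀) ^ dg a₀ := by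
      rw [hnf a₀ ha₀s ha₀ne, map_mul, map_pow, ← hx, ← pow_mul, ← pow_mul, mul_comm (dg a₀)]
    have h2 : g a₀ = algebraMap R R' (uf a₀) := by
      apply inj
      rw [hg, gK_apply_of_mem 𝒜 ψ _ hϖK hmem, zpow_neg, zpow_natCast]
      have h3 : ψ a₀ = algebraMap R' K' (algebraMap R R' (uf a₀)) *
          algebraMap R' K' (x ^ nf a₀) ^ dg a₀ := by
        rw [hψ]
        change algebraMap R' K' (algebraMap R R' (φ a₀)) = _
        rw [h1, map_mul, map_pow]
      rw [h3, mul_assoc, mul_inv_cancel₀ (pow_ne_zero _ hϖK), mul_one]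
    have hunit : IsUnit (g a₀) := by
      rw [h2]; exact (uf a₀).isUnit.map (algebraMap R R')
    refine Ideal.eq_top_of_isUnit_mem _ (Ideal.mem_map_of_mem g (Ideal.subset_span ?_)) hunit
    exact ⟨(dg a₀ : ℤ), by exact_mod_cast (hdg a₀ ha₀s).1, hmem⟩

end core

/-- Let `A = ⊕_{d ∈ ℤ} A_d` be a graded commutative ring whose ideal `I₊` generated by the homogeneous
elements of positive degree is finitely generated, `R` a discrete valuation ring with fraction field
`K`, and `φ : A → R` a ring map with `φ(I₊) ≠ 0` and `φ(I₊)` inside the maximal ideal. Then after a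
finite extension `K'/K` and a discrete valuation ring `R'` of `K'` dominating `R` there are a
nonzero non-unit `ϖ ∈ R'` and a ring map `g : A → R'` with `g(a) ϖ^d = φ(a)` for every homogeneous
`a` of degree `d` (so `g` is `φ` rescaled through the grading by `ϖ`), such that `g(I₊) R' = R'`.
(The published statement is phrased for the quotient stack of `Spec A` by the multiplicative group
and its closed substack cut out by `I₊`, in a setting where `A` is Noetherian, being of finite type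
over a Noetherian base: an `R`-point whose closed point lies in that substack and whose generic
point does not admits, after a finite extension, an elementary modification avoiding the substack;
this row is the graded-ring statement the printed argument proves, assuming only that `I₊` is
finitely generated, which is all that argument uses, and with `ϖ` not required to be a uniformizer.) -/
theorem result
    {A : Type u} [CommRing A] (𝒜 : ℤ → AddSubgroup A) [GradedRing 𝒜]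
    (hfg : (Ideal.span {a : A | ∃ d : ℤ, 0 < d ∧ a ∈ 𝒜 d}).FG)
    (R : Type v) [CommRing R] [IsDomain R] [IsDiscreteValuationRing R]
    (K : Type v) [Field K] [Algebra R K] [IsFractionRing R K]
    (φ : A →+* R)
    (hle : Ideal.map φ (Ideal.span {a : A | ∃ d : ℤ, 0 < d ∧ a ∈ 𝒜 d}) ≤ IsLocalRing.maximalIdeal R)
    (hne : Ideal.map φ (Ideal.span {a : A | ∃ d : ℤ, 0 < d ∧ a ∈ 𝒜 d}) ≠ ⊥) :
    ∃ (R' : Type v) (_ : CommRing R') (_ : IsDomain R') (_ : IsDiscreteValuationRing R')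
      (K' : Type v) (_ : Field K') (_ : Algebra R' K') (_ : IsFractionRing R' K')
      (_ : Algebra R R') (_ : Algebra K K') (_ : Algebra R K')
      (_ : IsScalarTower R R' K') (_ : IsScalarTower R K K')
      (_ : Module.Finite K K') (_ : IsLocalHom (algebraMap R R'))
      (ϖ : R') (g : A →+* R'),
      ϖ ≠ 0 ∧ ϖ ∈ IsLocalRing.maximalIdeal R' ∧
      (∀ (d : ℤ) (a : A), a ∈ 𝒜 d →
        algebraMap R' K' (g a) * algebraMap R' K' ϖ ^ d = algebraMap R K' (φ a)) ∧
      Ideal.map g (Ideal.span {a : A | ∃ d : ℤ, 0 < d ∧ a ∈ 𝒜 d}) = ⊤ := by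
  classical
  obtain ⟨π, hπ⟩ := IsDiscreteValuationRing.exists_irreducible R
  obtain ⟨s, dg, nf, uf, a₀, hspan, hdg, hnf, ha₀s, ha₀ne, hnpos, hmin⟩ :=
    exists_min_slope 𝒜 hfg R φ hle hne π hπ
  have hDpos : 0 < dg a₀ := (hdg a₀ ha₀s).1
  haveI : Fact (Irreducible π) := ⟨hπ⟩
  haveI : Fact (dg a₀ ≠ 0) := ⟨hDpos.ne'⟩
  let R' := Lib.Helper95.RootDVR.Ext π (dg a₀)
  let K' := FractionRing R'
  let algRK' : Algebra R K' := inferInstance
  have towRR'K' : IsScalarTower R R' K' := inferInstance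
  have hinjRR' : Function.Injective (algebraMap R R') :=
    Lib.Helper95.RootDVR.algebraMap_injective (dg a₀) hDpos.ne'
  have hinj : Function.Injective (algebraMap R K') := by
    rw [IsScalarTower.algebraMap_eq R R' K']
    exact (IsFractionRing.injective R' K').comp hinjRR'
  letI algKK' : Algebra K K' := (IsFractionRing.lift hinj).toAlgebra
  haveI towRKK' : IsScalarTower R K K' :=
    IsScalarTower.of_algebraMap_eq (fun r => (IsFractionRing.lift_algebraMap hinj r).symm)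
  haveI : FaithfulSMul R R' := (faithfulSMul_iff_algebraMap_injective R R').mpr hinjRR'
  haveI : Algebra.IsIntegral R R' := Algebra.IsIntegral.of_finite R R'
  haveI finKK' : Module.Finite K K' := Module.Finite.of_isLocalization R R' (nonZeroDivisors R)
  have hx0 : Lib.Helper95.RootDVR.rt π (dg a₀) ≠ 0 := Lib.Helper95.RootDVR.rt_ne_zero (dg a₀)
  obtain ⟨g, hg1, hg2⟩ := core 𝒜 φ (R' := R') (K' := K') π s dg nf uf a₀ hspan hdg hnf ha₀s ha₀ne
    hmin (Lib.Helper95.RootDVR.rt π (dg a₀)) hx0 (Lib.Helper95.RootDVR.rt_pow π (dg a₀))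
  refine ⟨R', inferInstance, inferInstance, inferInstance, K', inferInstance, inferInstance,
    inferInstance, inferInstance, algKK', algRK', towRR'K', towRKK', finKK', inferInstance,
    Lib.Helper95.RootDVR.rt π (dg a₀) ^ nf a₀, g, ?_, ?_, ?_, hg2⟩
  · exact pow_ne_zero _ hx0
  · exact Ideal.pow_mem_of_mem _ (Lib.Helper95.RootDVR.rt_mem_maximalIdeal (dg a₀)) _ hnpos
  · intro d a ha
    rw [hg1 d a ha, ← IsScalarTower.algebraMap_apply]

end Groth.Agent.S14123
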