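import Groth.Statements.S14128
import Mathlib
import Groth.Agent.Lib.Helper33.MinComplex
import Groth.Agent.Lib.Helper33.ComplexTranslate
import Groth.Agent.S5671

set_option autoImplicit false
universe u
open CategoryTheory CategoryTheory.Limits
open LocAlg

namespace Groth.Agent.S14128

theorem prev_sub (g j : ℕ) : (ComplexShape.up ℕ).prev (g - (j + 1)) = g - (j + 1 + 1) := by
  rcases h : g - (j + 1) with _ | s
  · rw [CochainComplex.prev_nat_zero]; omega
  · rw [CochainComplex.prev_nat_succ]; omega

theorem next_sub (g j : ℕ) (hj : j < g) : (ComplexShape.up ℕ).next (g - (j + 1)) = g - j := by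
  rw [CochainComplex.next]; omega

theorem depth_eq_of_regular (R : Type u) [CommRing R] [IsRegularLocalRing R] (g : ℕ)
    (hg : ringKrullDim R = g) : LocCoh.depth R R = g := by
  have h1 : Module.supportDim R R = ((LocCoh.depth R R : ℕ∞) : WithBot ℕ∞) :=
    Groth.Agent.S5671.isCM_of_regular R
  rw [Module.supportDim_self_eq_ringKrullDim, hg] at h1
  have h2 : ((g : ℕ∞) : WithBot ℕ∞) = ((LocCoh.depth R R : ℕ∞) : WithBot ℕ∞) := by
    rw [← h1]; rfl
  exact (WithBot.coe_injective h2).symm

/-- Let R be a regular local ring of Krull dimension g and M = (M^0 → M^1 → ⋯ → M^g) a perfect complex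
over R, here a cochain complex of finitely generated free R-modules indexed by ℕ with M^i = 0 for i
> g, such that every cohomology module H^i(M) has finite length. Then H^i(M) = 0 for all i < g, so
that M has cohomology at most in degree g. -/
theorem result (R : Type u) [CommRing R]
    [IsRegularLocalRing R] (g : ℕ) (hg : ringKrullDim R = g) (M : CochainComplex (ModuleCat.{u} R) ℕ)
    (hbd : ∀ i, g < i → IsZero (M.X i)) (hfree : ∀ i, Module.Free R (M.X i) ∧ Module.Finite R (M.X i))
    (hfl : ∀ i, IsFiniteLength R (M.homology i)) (i : ℕ) (hi : i < g) :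
    IsZero (M.homology i) := by
  classical
  have hF : ∀ i, Module.Free R (M.X i) := fun i => (hfree i).1
  have hFin : ∀ i, Module.Finite R (M.X i) := fun i => (hfree i).2
  have hd := depth_eq_of_regular R g hg
  have hsq : ∀ t, (M.d (g - (t + 1)) (g - t)).hom ∘ₗ (M.d (g - (t + 1 + 1)) (g - (t + 1))).hom = 0 := by
    intro t
    rw [← ModuleCat.hom_comp, M.d_comp_d]
    rfl
  have hiff : ∀ j, j < g → (IsZero (M.homology (g - (j + 1))) ↔
      LinearMap.ker (M.d (g - (j + 1)) (g - j)).hom ≤
        LinearMap.range (M.d (g - (j + 1 + 1)) (g - (j + 1))).hom) :=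
    fun j hj => Groth.Agent.Lib.Helper33.ComplexTranslate.isZero_homology_iff M
      (g - (j + 1 + 1)) (g - (j + 1)) (g - j) (prev_sub g j) (next_sub g j hj)
  have hk : LinearMap.range (M.d (g - (g + 1)) (g - g)).hom = ⊥ := by
    rw [M.shape _ _ (by simp)]
    rw [LinearMap.range_eq_bot]
    rfl
  have hdepth : ∀ j, j < g →
      ¬ (LinearMap.ker (M.d (g - (j + 1)) (g - j)).hom ≤
        LinearMap.range (M.d (g - (j + 1 + 1)) (g - (j + 1))).hom) →
      LocCoh.depth R (M.X (g - (j + 1)) ⧸
        LinearMap.range (M.d (g - (j + 1 + 1)) (g - (j + 1))).hom) = 0 := by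
    intro j hj hne
    rw [← hiff j hj] at hne
    have hnt : Nontrivial (M.homology (g - (j + 1))) := by
      by_contra hn
      rw [not_nontrivial_iff_subsingleton] at hn
      exact hne (ModuleCat.isZero_of_subsingleton _)
    obtain ⟨f, hf⟩ := Groth.Agent.Lib.Helper33.ComplexTranslate.exists_injective_homology_to_coker
      M (g - (j + 1 + 1)) (g - (j + 1)) (prev_sub g j)
    exact Groth.Agent.Lib.Helper33.MinComplex.depth_eq_zero_of_injective_of_isFiniteLength
      (hfl (g - (j + 1))) f hf
  obtain ⟨j, hj, rfl⟩ : ∃ j, j < g ∧ i = g - (j + 1) := ⟨g - i - 1, by omega, by omega⟩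
  rw [hiff j hj]
  exact Groth.Agent.Lib.Helper33.MinComplex.exact_of_depth_zero (fun t => M.X (g - t))
    (fun t => (M.d (g - (t + 1)) (g - t)).hom) hsq g hk g hd hdepth (g - j - 1) j
    (by omega) (by omega)

end Groth.Agent.S14128
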