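import Groth.Statements.S1415
import Groth.Agent.Lib.Helper7.GeomFibreCount
import Mathlib.AlgebraicGeometry.Fiber

set_option autoImplicit false
universe u
open FlatMor

namespace Groth.Agent.S1415

open AlgebraicGeometry CategoryTheory Limits in
/-- Let f : X → Y be locally quasi-finite. Then (1) for every y the number of irreducible components and
the number of connected components of the geometric fibre over y agree, and (2) if X is
quasi-compact these numbers are bounded by some natural number. -/
theorem result {X Y : Scheme.{u}} (f : X ⟶ Y) [LocallyQuasiFinite f] [LocallyOfFiniteType f] :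
    (∀ y : Y, MoreMor.nGeomIrredComp f y = MoreMor.nGeomConnComp f y) ∧
      (CompactSpace ↑X → ∃ d : ℕ, ∀ y : Y, MoreMor.nGeomConnComp f y ≤ d) := by
  have hdisc : ∀ y : Y, DiscreteTopology ↥(MoreMor.geomFiber f y) := by
    intro y
    have h1 : LocallyQuasiFinite (f.fiberToSpecResidueField y) :=
      inferInstanceAs (LocallyQuasiFinite (pullback.snd f (Y.fromSpecResidueField y)))
    let g : MoreMor.geomFiber f y ⟶ Spec (CommRingCat.of (SeparableClosure (Y.residueField y))) :=
      pullback.snd (f.fiberToSpecResidueField y) (Spec.map (CommRingCat.ofHom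
        (algebraMap (Y.residueField y) (SeparableClosure (Y.residueField y)))))
    have h2 : LocallyQuasiFinite g := inferInstanceAs (LocallyQuasiFinite (pullback.snd _ _))
    have h3 := g.isDiscrete_preimage_singleton
      (IsLocalRing.closedPoint (SeparableClosure (Y.residueField y)))
    have h4 : g ⁻¹' {IsLocalRing.closedPoint (SeparableClosure (Y.residueField y))} = Set.univ := by
      ext z
      simp only [Set.mem_preimage, Set.mem_univ, iff_true]
      exact Subsingleton.elim (α := PrimeSpectrum _) _ _
    have h5 : _root_.IsDiscrete (Set.univ : Set ↥(MoreMor.geomFiber f y)) := by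
      rw [← h4]
      exact h3
    exact isDiscrete_univ_iff.mp h5
  refine ⟨fun y => ?_, fun hX => ?_⟩
  · have := hdisc y
    unfold MoreMor.nGeomIrredComp MoreMor.nGeomConnComp
    rw [Groth.Agent.Lib.Helper7.GeomFibreCount.encard_irreducibleComponents_of_discrete,
      Groth.Agent.Lib.Helper7.GeomFibreCount.card_connectedComponents_of_discrete]
  · obtain ⟨d, hd⟩ := Groth.Agent.Lib.Helper7.GeomFibreCount.exists_bound f
    refine ⟨d, fun y => ?_⟩
    have := hdisc y
    unfold MoreMor.nGeomConnComp
    rw [Groth.Agent.Lib.Helper7.GeomFibreCount.card_connectedComponents_of_discrete]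
    have hZ := IsPullback.of_hasPullback (f.fiberToSpecResidueField y)
      (Spec.map (CommRingCat.ofHom (algebraMap (Y.residueField y)
        (SeparableClosure (Y.residueField y)))))
    have hfib : IsPullback (f.fiberι y) (f.fiberToSpecResidueField y) f
        (Y.fromSpecResidueField y) := IsPullback.of_hasPullback _ _
    exact hd (SeparableClosure (Y.residueField y)) _ _ _ _ (hZ.paste_horiz hfib)

end Groth.Agent.S1415
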