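import Groth.Statements.S1416
import Mathlib
import Groth.Agent.Lib.Helper21.FibreClosureDim
import Groth.Agent.Lib.Helper21.ValTrdegSch
import Groth.Agent.Lib.Helper21.OpenGeneralizing
import Groth.Agent.Lib.QCoh.Helper74_FlatOverBaseChange
import Groth.Agent.Lib.QCoh.Helper18_PullbackSupport
import Groth.Agent.Lib.QCoh.Helper18_StalkQCoh
import Groth.Agent.Lib.QCoh.Helper18_Stalk
-- import your own Groth.Agent.* helpers here

set_option autoImplicit false
set_option linter.style.haveILetI false
set_option linter.unusedSectionVars false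
set_option linter.unusedVariables false
universe u
open FlatMor

namespace Groth.Agent.S1416

open CategoryTheory AlgebraicGeometry Topology
open Groth.Agent.Lib.Helper21.FieldDim Groth.Agent.Lib.Helper21.FibreClosureDim
open Groth.Agent.Lib.Helper21 Groth.Agent.Lib.Helper21.ValTrdeg
open CategoryTheory.Limits
open Groth.Agent.Lib.QCoh

section Helpers

/-- ring lemma: a point of the support of a module which is torsion-free over a domain has a
generization in the support lying over the zero ideal. -/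
theorem exists_prime_le_support {A₀ R N : Type*} [CommRing A₀] [IsDomain A₀] [CommRing R]
    [AddCommGroup N] [Module R N] (φ : A₀ →+* R)
    (htf : ∀ (a : A₀) (n : N), a ≠ 0 → φ a • n = 0 → n = 0) (p : PrimeSpectrum R)
    (hp : p ∈ Module.support R N) :
    ∃ q : PrimeSpectrum R, q ≤ p ∧ q ∈ Module.support R N ∧ q.asIdeal.comap φ = ⊥ := by
  obtain ⟨n, hn⟩ := Module.mem_support_iff_exists_annihilator.mp hp
  let Tm : Submonoid R := p.asIdeal.primeCompl ⊔ Submonoid.map φ (nonZeroDivisors A₀)
  have hdisj : Disjoint (((R ∙ n).annihilator : Ideal R) : Set R) Tm := by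
    rw [Set.disjoint_left]
    intro x hx hxT
    obtain ⟨u, hu, v, hv, rfl⟩ := Submonoid.mem_sup.mp hxT
    obtain ⟨a, ha, rfl⟩ := Submonoid.mem_map.mp hv
    have ha0 : a ≠ 0 := nonZeroDivisors.ne_zero ha
    rw [SetLike.mem_coe, Submodule.mem_annihilator_span_singleton] at hx
    have h1 : φ a • (u • n) = 0 := by
      rw [smul_smul, mul_comm]; exact hx
    have h2 : u • n = 0 := htf a _ ha0 h1
    have h3 : u ∈ (R ∙ n).annihilator := by
      rw [Submodule.mem_annihilator_span_singleton]; exact h2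
    exact hu (hn h3)
  obtain ⟨q, hq, hle, hqd⟩ := Ideal.exists_le_prime_disjoint _ Tm hdisj
  rw [Set.disjoint_left] at hqd
  refine ⟨⟨q, hq⟩, ?_, ?_, ?_⟩
  · intro x hx
    by_contra hxp
    exact hqd hx (Submonoid.mem_sup_left hxp)
  · exact Module.mem_support_iff_exists_annihilator.mpr ⟨n, hle⟩
  · rw [eq_bot_iff]
    intro a ha
    rw [Ideal.mem_bot]
    by_contra ha0
    exact hqd (Ideal.mem_comap.mp ha) (Submonoid.mem_sup_right
      (Submonoid.mem_map.mpr ⟨a, mem_nonZeroDivisors_of_ne_zero ha0, rfl⟩))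

open Scheme.Modules FlatMod in
/-- a point of the support of a quasi-coherent module flat over `Spec A` (`A` a domain) has a
generization in the support lying over the generic point. -/
theorem exists_generization_support {P : Scheme.{u}} {A : Type u} [CommRing A] [IsDomain A]
    (h : P ⟶ Spec (CommRingCat.of A)) (G : P.Modules) [G.IsQuasicoherent]
    (hfl : IsFlatOver h G) (c : P) (hc : c ∈ CohB1.support G) :
    ∃ ζ : P, ζ ⤳ c ∧ (h ζ).asIdeal = ⊥ ∧ ζ ∈ CohB1.support G := by
  obtain ⟨_, ⟨U, hU : IsAffineOpen U, rfl⟩, hcU, -⟩ :=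
    (P.isBasis_affineOpens).exists_subset_of_mem_open (Set.mem_univ c) isOpen_univ
  have e : U ≤ h ⁻¹ᵁ ⊤ := le_top
  have hflat := flat_Γ_of_forall_isFlatOverAt h G e (isAffineOpen_top _) hU (fun y _ => hfl y)
  let _ := sectionsModuleOver h G e
  -- the ring of global sections of `Spec A` is a domain
  haveI : IsDomain Γ(Spec (CommRingCat.of A), ⊤) :=
    MulEquiv.isDomain A (Scheme.ΓSpecIso (CommRingCat.of A)).commRingCatIsoToRingEquiv.toMulEquiv
  have htf : ∀ (a : Γ(Spec (CommRingCat.of A), ⊤)) (n : Γ(G, U)), a ≠ 0 →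
      (h.appLE ⊤ U e).hom a • n = 0 → n = 0 := by
    intro a n ha hn
    have hreg : IsSMulRegular Γ(G, U) a :=
      Module.Flat.isSMulRegular_of_nonZeroDivisors (mem_nonZeroDivisors_of_ne_zero ha)
    apply hreg
    change (h.appLE ⊤ U e).hom a • n = a • (0 : Γ(G, U))
    rw [smul_zero]; exact hn
  have hp : hU.primeIdealOf ⟨c, hcU⟩ ∈ Module.support Γ(P, U) Γ(G, U) :=
    (mem_support_iff_primeIdealOf_mem_support G hU c hcU).mpr hc
  obtain ⟨q, hqp, hqs, hq0⟩ := exists_prime_le_support (h.appLE ⊤ U e).hom htf _ hp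
  let ζ : P := hU.fromSpec q
  have hζU : ζ ∈ U := by
    have : ζ ∈ Set.range hU.fromSpec := ⟨q, rfl⟩
    rwa [hU.range_fromSpec] at this
  have hq : hU.primeIdealOf ⟨ζ, hζU⟩ = q :=
    hU.fromSpec.isOpenEmbedding.injective (hU.fromSpec_primeIdealOf ⟨ζ, hζU⟩)
  refine ⟨ζ, ?_, ?_, ?_⟩
  · have h1 : q ⤳ hU.primeIdealOf ⟨c, hcU⟩ := by
      have : (q : PrimeSpectrum Γ(P, U)) ⤳ (hU.primeIdealOf ⟨c, hcU⟩ : PrimeSpectrum Γ(P, U)) :=
        (PrimeSpectrum.le_iff_specializes _ _).mp hqp
      exact this
    have h2 := h1.map hU.fromSpec.continuous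
    rwa [hU.fromSpec_primeIdealOf ⟨c, hcU⟩] at h2
  · have h1 := IsAffineOpen.SpecMap_appLE_fromSpec h (isAffineOpen_top _) hU e
    rw [IsAffineOpen.fromSpec_top, Scheme.isoSpec_Spec_inv] at h1
    have h2 : h ζ = (Spec.map (h.appLE ⊤ U e) ≫ Spec.map (Scheme.ΓSpecIso (CommRingCat.of A)).inv) q := by
      rw [h1]; rfl
    rw [h2]
    change ((q.asIdeal.comap (h.appLE ⊤ U e).hom).comap (Scheme.ΓSpecIso (CommRingCat.of A)).inv.hom) = ⊥
    rw [hq0]
    apply Ideal.comap_bot_of_injective
    exact (Scheme.ΓSpecIso (CommRingCat.of A)).symm.commRingCatIsoToRingEquiv.injective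
  · rw [← mem_support_iff_primeIdealOf_mem_support G hU ζ hζU, hq]
    exact hqs

end Helpers

open AlgebraicGeometry CategoryTheory Limits in
/-- Let f : X → S be locally of finite type with S irreducible with generic point η, and F a
quasi-coherent O_X-module of finite type which is flat over S. If the support of F in the fibre over
η has dimension ≤ r then the support of F in every fibre has dimension ≤ r (supports in fibres taken
as subspaces of X: the points of the fibre where the stalk of F is nonzero). -/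
theorem result {X S : Scheme.{u}} (f : X ⟶ S) [LocallyOfFiniteType f] [IrreducibleSpace ↑S]
    (F : X.Modules) (hF : Coh.IsCoh F) (hfl : FlatMod.IsFlatOver f F) (r : WithBot ℕ∞)
    (h : topologicalKrullDim ↑(f ⁻¹' {genericPoint ↑S} ∩ CohB1.support F) ≤ r) (s : S) :
    topologicalKrullDim ↑(f ⁻¹' {s} ∩ CohB1.support F) ≤ r := by
  obtain ⟨hqc, hft⟩ := hF
  haveI : F.IsQuasicoherent := hqc
  haveI : F.IsFiniteType := hft
  have hcl : IsClosed (CohB1.support F) := isClosed_support_of_isFT F hft
  rw [dim_fibre_inter_le_iff f _ _ hcl] at h ⊢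
  intro c hc hfc
  have hηs : genericPoint ↑S ⤳ s := (genericPoint_spec ↑S).specializes (by simp)
  obtain ⟨R, _, _, _, φ, hφm, hφη⟩ :=
    Groth.Agent.Lib.Helper21.OpenGeneralizing.exists_valuationRing_of_specializes hηs
  set m : Spec (CommRingCat.of R) := IsLocalRing.closedPoint R with hm
  obtain ⟨c', hc'1, hc'2, hc'3⟩ := exists_tdR_snd_eq f φ c m (hfc.trans hφm.symm)
  have hGqc : ((Scheme.Modules.pullback (pullback.fst f φ)).obj F).IsQuasicoherent :=
    isQuasicoherent_pullback _ F
  have hGfl : FlatMod.IsFlatOver (pullback.snd f φ)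
      ((Scheme.Modules.pullback (pullback.fst f φ)).obj F) :=
    isFlatOver_pullback_of_isPullback f φ (pullback.fst f φ) (pullback.snd f φ)
      (IsPullback.of_hasPullback f φ) F hfl
  have hsupp := support_pullback (pullback.fst f φ) F
  have hc'G : c' ∈ CohB1.support ((Scheme.Modules.pullback (pullback.fst f φ)).obj F) := by
    rw [hsupp]
    change (pullback.fst f φ) c' ∈ CohB1.support F
    rw [hc'1]; exact hc
  obtain ⟨ζ, hζc', hζη, hζG⟩ := exists_generization_support (pullback.snd f φ) _ hGfl c' hc'G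
  have h4 : tdR (pullback.snd f φ) c' ≤ tdR (pullback.snd f φ) ζ :=
    tdR_le_of_valuation' (pullback.snd f φ) hζc'
  have h5 := tdR_snd_le f φ ζ
  have hz1 : f ((pullback.fst f φ) ζ) = genericPoint ↑S := by
    rw [← Scheme.Hom.comp_apply, pullback.condition, Scheme.Hom.comp_apply]
    exact hφη _ hζη
  have hz2 : (pullback.fst f φ) ζ ∈ CohB1.support F := by
    rw [hsupp] at hζG
    exact hζG
  have h8 := h _ hz2 hz1
  refine le_trans ?_ h8
  have : tdR f c ≤ tdR f ((pullback.fst f φ) ζ) := by
    rw [← hc'3]; exact h4.trans h5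
  exact_mod_cast this

end Groth.Agent.S1416
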