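import Groth.Statements.S1417
import Groth.Agent.Lib.Helper35.SpecToAffine
import Groth.Agent.Lib.Helper35.SmallExtFT

set_option autoImplicit false
universe u
open FlatMor

namespace Groth.Agent.S1417

section Helpers
set_option linter.style.haveILetI false
set_option maxHeartbeats 400000
open AlgebraicGeometry CategoryTheory Limits IsLocalRing
open Groth.Agent.Lib.Helper35.SpecToAffine Groth.Agent.Lib.Helper81.ToAffine
open Groth.Agent.Lib.Helper35

theorem ringOf_congr {X : Scheme.{u}} {R : CommRingCat.{u}} {α γ : Spec R ⟶ X} (h : α = γ)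
    (U : X.Opens) (e : ⊤ ≤ α ⁻¹ᵁ U) : ringOf α U e = ringOf γ U (h ▸ e) := by
  subst h; rfl

theorem specMap_closedPoint {B B' : Type u} [CommRing B] [CommRing B'] [IsLocalRing B]
    [IsLocalRing B'] (φ : B' →+* B) (hφ : Function.Surjective φ) :
    (Spec.map (CommRingCat.ofHom φ)) (closedPoint B) = closedPoint B' := by
  haveI : IsLocalHom φ := IsLocalHom.of_surjective φ hφ
  exact IsLocalRing.comap_closedPoint φ

/-- Formal smoothness gives lifts along nilpotent thickenings of local spectra. -/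
theorem forward {X S : Scheme.{u}} (f : X ⟶ S) [Smooth f]
    (B B' : Type u) [CommRing B] [CommRing B'] [IsLocalRing B] [IsLocalRing B']
    (φ : B' →+* B) (hφ : Function.Surjective φ) (hnil : IsNilpotent (RingHom.ker φ))
    (α : Spec (CommRingCat.of B) ⟶ X) (β : Spec (CommRingCat.of B') ⟶ S)
    (hcomm : Spec.map (CommRingCat.ofHom φ) ≫ β = α ≫ f) :
    ∃ γ : Spec (CommRingCat.of B') ⟶ X, Spec.map (CommRingCat.ofHom φ) ≫ γ = α ∧ γ ≫ f = β := by
  obtain ⟨_, ⟨V, hV, rfl⟩, hxV, -⟩ := S.isBasis_affineOpens.exists_subset_of_mem_open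
    (Set.mem_univ (f (α (closedPoint B)))) isOpen_univ
  obtain ⟨V, rfl⟩ : ∃ V' : S.Opens, V' = V := ⟨V, rfl⟩
  replace hV : IsAffineOpen V := hV
  obtain ⟨_, ⟨U, hU, rfl⟩, hxU, hUV⟩ := X.isBasis_affineOpens.exists_subset_of_mem_open
    (show α (closedPoint B) ∈ f ⁻¹ᵁ V from hxV) (f ⁻¹ᵁ V).2
  obtain ⟨U, rfl⟩ : ∃ U' : X.Opens, U' = U := ⟨U, rfl⟩
  replace hU : IsAffineOpen U := hU
  have hUV' : U ≤ f ⁻¹ᵁ V := hUV
  have eα : ⊤ ≤ α ⁻¹ᵁ U := preimage_eq_top_of_closedPoint_mem α U hxU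
  have eβ : ⊤ ≤ β ⁻¹ᵁ V := by
    apply preimage_eq_top_of_closedPoint_mem β V
    have h1 : β (closedPoint B') = (α ≫ f) (closedPoint B) := by
      rw [← hcomm, ← specMap_closedPoint φ hφ]
      rfl
    rw [h1]
    exact hxV
  have eαf : ⊤ ≤ (α ≫ f) ⁻¹ᵁ V := fun p hp => hUV' (eα hp)
  have eφβ : ⊤ ≤ (Spec.map (CommRingCat.ofHom φ) ≫ β) ⁻¹ᵁ V := hcomm ▸ eαf
  have hsq : f.appLE V U hUV' ≫ ringOf α U eα = ringOf β V eβ ≫ CommRingCat.ofHom φ := by
    rw [← ringOf_comp α f V U eα hUV' eαf, ← ringOf_SpecMap_comp (CommRingCat.ofHom φ) β V eβ eφβ]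
    exact (ringOf_congr hcomm V eφβ).symm
  have hsm : (f.appLE V U hUV').hom.Smooth :=
    HasRingHomProperty.appLE @Smooth f ‹_› ⟨V, hV⟩ ⟨U, hU⟩ hUV'
  letI : Algebra Γ(S, V) Γ(X, U) := (f.appLE V U hUV').hom.toAlgebra
  haveI : Algebra.Smooth Γ(S, V) Γ(X, U) := RingHom.smooth_algebraMap.mp hsm
  letI : Algebra Γ(S, V) B' := (ringOf β V eβ).hom.toAlgebra
  letI : Algebra Γ(S, V) B := (φ.comp (ringOf β V eβ).hom).toAlgebra
  let φa : B' →ₐ[Γ(S, V)] B := { φ with commutes' := fun r => rfl }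
  let a : Γ(X, U) →ₐ[Γ(S, V)] B :=
    { (ringOf α U eα).hom with
      commutes' := fun r => by
        have := congr($(hsq).hom r)
        exact this }
  let g := Algebra.FormallySmooth.liftOfSurjective a φa hφ hnil
  have hg : φa.comp g = a := Algebra.FormallySmooth.comp_liftOfSurjective a φa hφ hnil
  let g' : Γ(X, U) ⟶ CommRingCat.of B' := CommRingCat.ofHom g.toRingHom
  have hg1 : g' ≫ CommRingCat.ofHom φ = ringOf α U eα := by
    ext r
    exact congr($hg r)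
  have hg2 : f.appLE V U hUV' ≫ g' = ringOf β V eβ := by
    ext r
    exact g.commutes r
  refine ⟨toV hU (g' ≫ (Scheme.ΓSpecIso _).inv), ?_, ?_⟩
  · have e1 : ⊤ ≤ (Spec.map (CommRingCat.ofHom φ) ≫ toV hU (g' ≫ (Scheme.ΓSpecIso _).inv)) ⁻¹ᵁ U :=
      fun p hp => toV_preimage hU g' (Set.mem_univ _)
    refine ext_of_ringOf hU _ _ e1 eα ?_
    rw [ringOf_SpecMap_comp (CommRingCat.ofHom φ) _ U (toV_preimage hU g') e1, ringOf_toV, hg1]
  · have e2 : ⊤ ≤ (toV hU (g' ≫ (Scheme.ΓSpecIso _).inv) ≫ f) ⁻¹ᵁ V :=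
      fun p hp => hUV' (toV_preimage hU g' (Set.mem_univ _))
    refine ext_of_ringOf hV _ _ e2 eβ ?_
    rw [ringOf_comp _ f V U (toV_preimage hU g') hUV' e2, ringOf_toV, hg2]

/-- The lifting hypothesis of the statement. -/
def Lifts {X S : Scheme.{u}} (f : X ⟶ S) : Prop :=
  ∀ (B B' : Type u) [CommRing B] [CommRing B'] [IsArtinianRing B] [IsArtinianRing B'] [IsLocalRing B] [IsLocalRing B']
      (φ : B' →+* B) (ε : B'), Function.Surjective φ → RingHom.ker φ = Ideal.span {ε} → (∀ m ∈ IsLocalRing.maximalIdeal B', ε * m = 0) →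
      ∀ (α : Spec (CommRingCat.of B) ⟶ X) (β : Spec (CommRingCat.of B') ⟶ S), LocallyOfFiniteType β →
        Spec.map (CommRingCat.ofHom φ) ≫ β = α ≫ f →
        ∃ γ : Spec (CommRingCat.of B') ⟶ X, Spec.map (CommRingCat.ofHom φ) ≫ γ = α ∧ γ ≫ f = β

theorem locallyOfFiniteType_toV {S : Scheme.{u}} {V : S.Opens} (hV : IsAffineOpen V)
    {B' : Type u} [CommRing B'] (ψ : Γ(S, V) ⟶ CommRingCat.of B') (hψ : ψ.hom.FiniteType) :
    LocallyOfFiniteType (toV hV (ψ ≫ (Scheme.ΓSpecIso (CommRingCat.of B')).inv)) := by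
  unfold toV
  haveI : LocallyOfFiniteType (Spec.map (ψ ≫ (Scheme.ΓSpecIso (CommRingCat.of B')).inv)) := by
    rw [HasRingHomProperty.Spec_iff (P := @LocallyOfFiniteType), CommRingCat.hom_comp]
    refine RingHom.FiniteType.comp ?_ hψ
    apply RingHom.FiniteType.of_surjective
    exact (ConcreteCategory.bijective_of_isIso (Scheme.ΓSpecIso (CommRingCat.of B')).inv).2
  infer_instance

theorem isSmoothAt_of_lifts {X S : Scheme.{u}} (f : X ⟶ S) [IsLocallyNoetherian S]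
    [LocallyOfFiniteType f] (H : Lifts f)
    (V : S.Opens) (hV : IsAffineOpen V) (U : X.Opens) (hU : IsAffineOpen U) (hUV : U ≤ f ⁻¹ᵁ V)
    (q : Ideal Γ(X, U)) [q.IsPrime] (hq : q.IsMaximal) :
    letI := (f.appLE V U hUV).hom.toAlgebra
    Algebra.IsSmoothAt Γ(S, V) q := by
  letI : Algebra Γ(S, V) Γ(X, U) := (f.appLE V U hUV).hom.toAlgebra
  haveI : IsNoetherianRing Γ(S, V) := IsLocallyNoetherian.component_noetherian ⟨V, hV⟩
  haveI : Algebra.FiniteType Γ(S, V) Γ(X, U) := RingHom.finiteType_algebraMap.mp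
    (HasRingHomProperty.appLE @LocallyOfFiniteType f ‹_› ⟨V, hV⟩ ⟨U, hU⟩ hUV)
  apply SmallExtFT.backward_ft q hq
  intro B' B _ _ _ _ _ _ _ _ _ π hπ ⟨t, ht1, ht2⟩ g hgq
  let gr : Γ(X, U) ⟶ CommRingCat.of B := CommRingCat.ofHom g.toRingHom
  let ψ : Γ(S, V) ⟶ CommRingCat.of B' := CommRingCat.ofHom (algebraMap Γ(S, V) B')
  let α : Spec (CommRingCat.of B) ⟶ X := toV hU (gr ≫ (Scheme.ΓSpecIso _).inv)
  let β : Spec (CommRingCat.of B') ⟶ S := toV hV (ψ ≫ (Scheme.ΓSpecIso _).inv)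
  have hβ : LocallyOfFiniteType β :=
    locallyOfFiniteType_toV hV ψ (RingHom.finiteType_algebraMap.mpr inferInstance)
  have eα : ⊤ ≤ α ⁻¹ᵁ U := toV_preimage hU gr
  have eβ : ⊤ ≤ β ⁻¹ᵁ V := toV_preimage hV ψ
  have eαf : ⊤ ≤ (α ≫ f) ⁻¹ᵁ V := fun p hp => hUV (eα hp)
  have eπβ : ⊤ ≤ (Spec.map (CommRingCat.ofHom π.toRingHom) ≫ β) ⁻¹ᵁ V :=
    fun p hp => eβ (Set.mem_univ _)
  have hcomm : Spec.map (CommRingCat.ofHom π.toRingHom) ≫ β = α ≫ f := by
    refine ext_of_ringOf hV _ _ eπβ eαf ?_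
    rw [ringOf_SpecMap_comp _ β V eβ eπβ, ringOf_comp α f V U eα hUV eαf, ringOf_toV, ringOf_toV]
    ext r
    show π (algebraMap Γ(S, V) B' r) = g (algebraMap Γ(S, V) Γ(X, U) r)
    rw [AlgHom.commutes, AlgHom.commutes]
  obtain ⟨γ, hγ1, hγ2⟩ := H B B' π.toRingHom t hπ ht1
    (fun m hm => by rw [mul_comm]; exact ht2 m hm) α β hβ hcomm
  have eγ : ⊤ ≤ γ ⁻¹ᵁ U := by
    apply preimage_eq_top_of_closedPoint_mem γ U
    have h1 : γ (closedPoint B') = α (closedPoint B) := by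
      rw [← hγ1, ← specMap_closedPoint π.toRingHom hπ]
      rfl
    rw [h1]
    exact eα (Set.mem_univ _)
  have eπγ : ⊤ ≤ (Spec.map (CommRingCat.ofHom π.toRingHom) ≫ γ) ⁻¹ᵁ U :=
    fun p hp => eγ (Set.mem_univ _)
  have eγf : ⊤ ≤ (γ ≫ f) ⁻¹ᵁ V := fun p hp => hUV (eγ hp)
  have h1 : ringOf γ U eγ ≫ CommRingCat.ofHom π.toRingHom = gr := by
    rw [← ringOf_SpecMap_comp _ γ U eγ eπγ, ringOf_congr hγ1 U eπγ, ringOf_toV]
  have h2 : f.appLE V U hUV ≫ ringOf γ U eγ = ψ := by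
    rw [← ringOf_comp γ f V U eγ hUV eγf, ringOf_congr hγ2 V eγf, ringOf_toV]
  refine ⟨{ (ringOf γ U eγ).hom with commutes' := fun r => congr($(h2).hom r) }, ?_⟩
  ext s
  exact congr($(h1).hom s)

theorem backward {X S : Scheme.{u}} (f : X ⟶ S) [IsLocallyNoetherian S] [LocallyOfFiniteType f]
    (H : Lifts f) : Smooth f := by
  haveI : LocallyOfFinitePresentation f := by
    rw [HasRingHomProperty.iff_appLE (P := @LocallyOfFinitePresentation)]
    intro V U e
    haveI : IsNoetherianRing Γ(S, V.1) := IsLocallyNoetherian.component_noetherian V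
    have hft := HasRingHomProperty.appLE @LocallyOfFiniteType f ‹_› V U e
    exact RingHom.FinitePresentation.of_finiteType.mp hft
  rw [← Scheme.Hom.smoothLocus_eq_top_iff, eq_top_iff]
  by_contra hne
  obtain ⟨z, -, hz⟩ := SetLike.not_le_iff_exists.mp hne
  obtain ⟨_, ⟨V, hV, rfl⟩, hzV, -⟩ := S.isBasis_affineOpens.exists_subset_of_mem_open
    (Set.mem_univ (f z)) isOpen_univ
  obtain ⟨V, rfl⟩ : ∃ V' : S.Opens, V' = V := ⟨V, rfl⟩
  replace hV : IsAffineOpen V := hV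
  obtain ⟨_, ⟨U, hU, rfl⟩, hzU, hUV⟩ := X.isBasis_affineOpens.exists_subset_of_mem_open
    (show z ∈ f ⁻¹ᵁ V from hzV) (f ⁻¹ᵁ V).2
  obtain ⟨U, rfl⟩ : ∃ U' : X.Opens, U' = U := ⟨U, rfl⟩
  replace hU : IsAffineOpen U := hU
  have hUV' : U ≤ f ⁻¹ᵁ V := hUV
  let pz := hU.primeIdealOf ⟨z, hzU⟩
  obtain ⟨m, hm, hpm⟩ := Ideal.exists_le_maximal pz.asIdeal pz.2.ne_top
  haveI := hm.isPrime
  let m' : PrimeSpectrum Γ(X, U) := ⟨m, hm.isPrime⟩
  have hspec : pz ⤳ m' := (PrimeSpectrum.le_iff_specializes (R := Γ(X, U)) pz m').mp hpm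
  let x : X := hU.fromSpec m'
  have hzx : z ⤳ x := by
    have := hspec.map hU.fromSpec.continuous
    rwa [hU.fromSpec_primeIdealOf ⟨z, hzU⟩] at this
  have hx : x ∉ f.smoothLocus := fun hx => hz (hzx.mem_open f.smoothLocus.2 hx)
  have hxU : x ∈ U := by
    have : x ∈ hU.fromSpec.opensRange := ⟨m', rfl⟩
    rwa [hU.opensRange_fromSpec] at this
  have hprime : hU.primeIdealOf ⟨x, hxU⟩ = m' := by
    apply hU.fromSpec.isOpenEmbedding.injective
    exact hU.fromSpec_primeIdealOf ⟨x, hxU⟩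
  apply hx
  rw [Scheme.Hom.mem_smoothLocus, formallySmooth_stalkMap_iff V hV U hU hUV' hxU, hprime]
  exact isSmoothAt_of_lifts f H V hV U hU hUV' m hm


theorem aux {X S : Scheme.{u}} (f : X ⟶ S) [IsLocallyNoetherian S] [LocallyOfFiniteType f] :
    Smooth f ↔ Lifts f := by
  constructor
  · intro hsm B B' _ _ _ _ _ _ φ ε hφ hker hε α β _ hcomm
    have hεm : ε ∈ maximalIdeal B' := by
      have h1 : RingHom.ker φ ≤ maximalIdeal B' := le_maximalIdeal (RingHom.ker_ne_top φ)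
      apply h1
      rw [hker]
      exact Ideal.subset_span rfl
    have hnil : IsNilpotent (RingHom.ker φ) := by
      refine ⟨2, ?_⟩
      rw [hker, Ideal.span_singleton_pow, sq, hε ε hεm, Ideal.zero_eq_bot,
        Ideal.span_singleton_eq_bot]
    exact forward f B B' φ hφ hnil α β hcomm
  · exact backward f

end Helpers

open AlgebraicGeometry CategoryTheory Limits in
/-- Let S be locally Noetherian and f : X → S locally of finite type. Then f is smooth if and only if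
for every small extension B' → B of Artinian local rings (a surjection whose kernel is generated by
one element annihilated by the maximal ideal), every morphism Spec B → X and every morphism Spec B'
→ S locally of finite type making the square commute, there is a lift Spec B' → X. -/
theorem result {X S : Scheme.{u}} (f : X ⟶ S) [IsLocallyNoetherian S] [LocallyOfFiniteType f] :
    Smooth f ↔ ∀ (B B' : Type u) [CommRing B] [CommRing B'] [IsArtinianRing B] [IsArtinianRing B'] [IsLocalRing B] [IsLocalRing B']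
      (φ : B' →+* B) (ε : B'), Function.Surjective φ → RingHom.ker φ = Ideal.span {ε} → (∀ m ∈ IsLocalRing.maximalIdeal B', ε * m = 0) →
      ∀ (α : Spec (CommRingCat.of B) ⟶ X) (β : Spec (CommRingCat.of B') ⟶ S), LocallyOfFiniteType β →
        Spec.map (CommRingCat.ofHom φ) ≫ β = α ≫ f →
        ∃ γ : Spec (CommRingCat.of B') ⟶ X, Spec.map (CommRingCat.ofHom φ) ≫ γ = α ∧ γ ≫ f = β := by
  exact aux f

end Groth.Agent.S1417
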