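import Groth.Statements.S14175
-- import your own Groth.Agent.* helpers here

set_option autoImplicit false
universe u v w
open GalCoh

namespace Groth.Agent.S14175

section helpers
variable {k : Type u} {G : Type v} {V : Type w} [CommRing k] [Group G]
  [AddCommGroup V] [Module k V] (ρ : Representation k G V)

/-- partial norm sum `S i v = Σ_{j<i} ρ(t^j) v`. -/
noncomputable def S (t : G) (i : ℕ) (v : V) : V := ∑ j ∈ Finset.range i, ρ (t ^ j) v

lemma S_zero (t : G) (v : V) : S ρ t 0 v = 0 := by simp [S]

lemma S_add (t : G) (a b : ℕ) (v : V) : S ρ t (a + b) v = S ρ t a v + ρ (t ^ a) (S ρ t b v) := by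
  unfold S
  rw [Finset.sum_range_add, map_sum]
  congr 1
  apply Finset.sum_congr rfl
  intro j _
  rw [pow_add, map_mul]
  rfl

lemma rho_sub (t : G) (i : ℕ) (v : V) : ρ (t ^ i) v - v = ρ t (S ρ t i v) - S ρ t i v := by
  induction i with
  | zero => simp [S]
  | succ n ih =>
    have h1 : S ρ t (n + 1) v = S ρ t n v + ρ (t ^ n) v := by
      unfold S; rw [Finset.sum_range_succ]
    rw [h1, map_add]
    have h2 : ρ t (ρ (t ^ n) v) = ρ (t ^ (n+1)) v := by
      rw [pow_succ', map_mul]; rfl
    rw [h2]
    have : ρ (t ^ n) v = v + (ρ t (S ρ t n v) - S ρ t n v) := by rw [← ih]; abel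
    rw [this]
    abel

lemma S_mul_of_triv (t : G) (d : ℕ) (v : V) (htriv : ∀ c : ℕ, ∀ w : V, ρ ((t ^ d) ^ c) w = w) (c : ℕ) :
    S ρ t (c * d) v = c • S ρ t d v := by
  induction c with
  | zero => simp [S_zero]
  | succ n ih =>
    rw [Nat.succ_mul, S_add, ih, pow_mul', htriv, succ_nsmul]

lemma S_mul_of_zero (t : G) (N : ℕ) (v : V) (hN : t ^ N = 1) (h0 : S ρ t N v = 0) (e : ℕ) :
    S ρ t (e * N) v = 0 := by
  induction e with
  | zero => simp [S_zero]
  | succ n ih =>
    rw [Nat.succ_mul, S_add, ih, h0, map_zero, add_zero]

end helpers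

/-- Let G be a finite cyclic group generated by t, let m be a natural number dividing the order of G,
and let ρ be a linear representation of G on a module V over a commutative ring k such that m·V = 0
and every element of G whose m-th power is the identity acts trivially on V. Then evaluating a
crossed homomorphism at t induces a bijection from the first cohomology of G with values in V
(crossed homomorphisms f, i.e. f(gh) = ρ(g)f(h) + f(g), modulo the principal ones g ↦ ρ(g)x − x)
onto the coinvariants V_G (the quotient of V by the span of all ρ(g)v − v): the class of f(t) in V_G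
vanishes exactly when f is principal, and every class of V_G is the class of f(t) for some crossed
homomorphism f. The bijection depends on the choice of the generator t. -/
theorem result
    {k : Type u} {G : Type v} {V : Type w} [CommRing k] [Group G] [Finite G]
    [AddCommGroup V] [Module k V] (ρ : Representation k G V)
    (t : G) (ht : ∀ g : G, g ∈ Subgroup.zpowers t)
    (m : ℕ) (hm : m ∣ Nat.card G) (htors : ∀ v : V, m • v = 0)
    (htriv : ∀ g : G, g ^ m = 1 → ∀ v : V, ρ g v = v) :
    (∀ f : G → V, (∀ g h : G, f (g * h) = ρ g (f h) + f g) →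
        (Representation.Coinvariants.mk ρ (f t) = 0 ↔ ∃ x : V, ∀ g : G, f g = ρ g x - x)) ∧
    (∀ v : V, ∃ f : G → V, (∀ g h : G, f (g * h) = ρ g (f h) + f g) ∧
        Representation.Coinvariants.mk ρ (f t) = Representation.Coinvariants.mk ρ v) := by
  classical
  have hnat : ∀ g : G, ∃ i : ℕ, t ^ i = g := by
    intro g
    have := (mem_powers_iff_mem_zpowers (x := t) (y := g)).2 (ht g)
    exact (Submonoid.mem_powers_iff g t).1 this
  have hord : orderOf t = Nat.card G := orderOf_eq_card_of_forall_mem_zpowers ht
  refine ⟨?_, ?_⟩
  · intro f hf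
    have hf1 : f 1 = 0 := by
      have h := hf 1 1
      simp only [mul_one, map_one, Module.End.one_apply] at h
      have : f 1 + 0 = f 1 + f 1 := by rw [add_zero]; exact h
      exact (add_left_cancel this).symm
    constructor
    · intro h0
      rw [Representation.Coinvariants.mk_eq_zero] at h0
      have hle : Representation.Coinvariants.ker ρ ≤ LinearMap.range (ρ t - 1 : V →ₗ[k] V) := by
        unfold Representation.Coinvariants.ker
        rw [Submodule.span_le]
        rintro _ ⟨⟨g, w⟩, rfl⟩
        obtain ⟨i, rfl⟩ := hnat g
        refine ⟨S ρ t i w, ?_⟩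
        simp only [LinearMap.sub_apply, Module.End.one_apply]
        exact (rho_sub ρ t i w).symm
      obtain ⟨x, hx⟩ := hle h0
      simp only [LinearMap.sub_apply, Module.End.one_apply] at hx
      refine ⟨x, ?_⟩
      have key : ∀ i : ℕ, f (t ^ i) = ρ (t ^ i) x - x := by
        intro i
        induction i with
        | zero => simp [hf1]
        | succ n ih =>
          rw [pow_succ', hf, ih, ← hx, map_mul, map_sub]
          simp only [Module.End.mul_apply]
          abel
      intro g
      obtain ⟨i, rfl⟩ := hnat g
      exact key i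
    · rintro ⟨x, hx⟩
      rw [Representation.Coinvariants.mk_eq_zero, hx t]
      exact Representation.Coinvariants.sub_mem_ker t x
  · intro v
    obtain ⟨d, hd⟩ := hm
    have htN : t ^ (Nat.card G) = 1 := by rw [← hord]; exact pow_orderOf_eq_one t
    have htrivd : ∀ c : ℕ, ∀ w : V, ρ ((t ^ d) ^ c) w = w := by
      intro c w
      apply htriv
      rw [← pow_mul, ← pow_mul]
      have : d * (c * m) = Nat.card G * c := by rw [hd]; ring
      rw [this, pow_mul, htN, one_pow]
    have hnorm : S ρ t (Nat.card G) v = 0 := by
      rw [hd, S_mul_of_triv ρ t d v htrivd m]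
      exact htors _
    have hwd : ∀ a b : ℕ, t ^ a = t ^ b → S ρ t a v = S ρ t b v := by
      have aux : ∀ a c : ℕ, t ^ a = t ^ (a + c) → S ρ t a v = S ρ t (a + c) v := by
        intro a c h
        have hc : t ^ c = 1 := by
          rw [pow_add] at h
          exact (mul_eq_left.1 h.symm)
        have hdvd : Nat.card G ∣ c := by rw [← hord]; exact orderOf_dvd_of_pow_eq_one hc
        obtain ⟨e, rfl⟩ := hdvd
        rw [S_add, mul_comm, S_mul_of_zero ρ t _ v htN hnorm e, map_zero, add_zero]
      intro a b h
      rcases le_total a b with hab | hab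
      · obtain ⟨c, rfl⟩ := Nat.exists_eq_add_of_le hab
        exact aux a c h
      · obtain ⟨c, rfl⟩ := Nat.exists_eq_add_of_le hab
        exact (aux b c h.symm).symm
    refine ⟨fun g => S ρ t (Classical.choose (hnat g)) v, ?_, ?_⟩
    · intro g h
      have hg := Classical.choose_spec (hnat g)
      have hh := Classical.choose_spec (hnat h)
      have hgh := Classical.choose_spec (hnat (g * h))
      show S ρ t (Classical.choose (hnat (g * h))) v = _
      rw [hwd _ (Classical.choose (hnat g) + Classical.choose (hnat h))
        (by rw [hgh, pow_add, hg, hh]), S_add, hg, add_comm]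
    · have h1 := Classical.choose_spec (hnat t)
      show Representation.Coinvariants.mk ρ (S ρ t (Classical.choose (hnat t)) v) = _
      rw [hwd _ 1 (by rw [h1, pow_one])]
      simp [S]

end Groth.Agent.S14175
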