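import Groth.Statements.S14176
import Mathlib

set_option autoImplicit false
universe u
open Pi1

namespace Groth.Agent.S14176

section helpers
open W4c1etcurveeff2

section basics

variable {G : Type u} [Group G]

/-- the abstract subgroup generated by `n`-th powers and commutators -/
def T (G : Type u) [Group G] (n : ℕ) : Subgroup G :=
  Subgroup.closure (Set.range fun g : G => g ^ n) ⊔ commutator G

lemma T_le_iff (n : ℕ) (H : Subgroup G) :
    T G n ≤ H ↔ (∀ g : G, g ^ n ∈ H) ∧ commutator G ≤ H := by
  unfold T
  rw [sup_le_iff, Subgroup.closure_le]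
  constructor
  · rintro ⟨h1, h2⟩
    exact ⟨fun g => h1 ⟨g, rfl⟩, h2⟩
  · rintro ⟨h1, h2⟩
    refine ⟨?_, h2⟩
    rintro _ ⟨g, rfl⟩
    exact h1 g

lemma pow_mem_T (n : ℕ) (g : G) : g ^ n ∈ T G n := ((T_le_iff n _).1 le_rfl).1 g

lemma commutator_le_T (n : ℕ) : commutator G ≤ T G n := ((T_le_iff n _).1 le_rfl).2

lemma commutator_le_of_comm {H : Type*} [Group H] (f : G →* H)
    (hcomm : ∀ x y : G, f x * f y = f y * f x) : commutator G ≤ f.ker := by
  rw [commutator_def, Subgroup.commutator_le]
  intro x _ y _
  rw [MonoidHom.mem_ker, commutatorElement_def, map_mul, map_mul, map_mul, map_inv, map_inv,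
    hcomm x y, mul_assoc, mul_assoc, mul_inv_cancel_left, mul_inv_cancel]

lemma T_le_ker {H : Type*} [Group H] (n : ℕ) (f : G →* H)
    (hcomm : ∀ x y : G, f x * f y = f y * f x) (hpow : ∀ x : G, f x ^ n = 1) :
    T G n ≤ f.ker := by
  rw [T_le_iff]
  refine ⟨fun g => ?_, commutator_le_of_comm f hcomm⟩
  rw [MonoidHom.mem_ker, map_pow, hpow]

lemma T_map_le (n : ℕ) (φ : G →* G) : (T G n).map φ ≤ T G n := by
  rw [Subgroup.map_le_iff_le_comap, T_le_iff]
  constructor
  · intro g
    rw [Subgroup.mem_comap, map_pow]
    exact pow_mem_T n _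
  · rw [commutator_def, Subgroup.commutator_le]
    intro x _ y _
    rw [Subgroup.mem_comap, map_commutatorElement]
    apply commutator_le_T n
    rw [commutator_def]
    exact Subgroup.commutator_mem_commutator (Subgroup.mem_top _) (Subgroup.mem_top _)

end basics

section top
open scoped commutatorElement
variable {G : Type u} [Group G] [TopologicalSpace G] [IsTopologicalGroup G] (n : ℕ)

lemma isClosed_S : IsClosed ((powCommClosure G n : Subgroup G) : Set G) :=
  Subgroup.isClosed_topologicalClosure _

lemma T_le_S : T G n ≤ powCommClosure G n := Subgroup.le_topologicalClosure _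

instance normal_S : (powCommClosure G n).Normal :=
  Subgroup.Normal.of_commutator_le (h := (commutator_le_T n).trans (T_le_S n))

lemma S_le_of_closed (H : Subgroup G) (hH : IsClosed (H : Set G)) (h : T G n ≤ H) :
    powCommClosure G n ≤ H :=
  Subgroup.topologicalClosure_minimal _ h hH

lemma map_S_le (φ : G ≃* G) (hφ : Continuous φ) :
    (powCommClosure G n).map φ.toMonoidHom ≤ powCommClosure G n := by
  rintro _ ⟨x, hx, rfl⟩
  have hx' : x ∈ closure ((T G n : Subgroup G) : Set G) := hx
  have : φ x ∈ closure ((T G n : Subgroup G) : Set G) :=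
    map_mem_closure hφ hx' (fun y hy => T_map_le n φ.toMonoidHom ⟨y, hy, rfl⟩)
  exact this

lemma map_S_eq (φ : G ≃* G) (hφ : Continuous φ) (hφ' : Continuous φ.symm) :
    (powCommClosure G n).map φ.toMonoidHom = powCommClosure G n := by
  apply le_antisymm (map_S_le n φ hφ)
  intro x hx
  refine ⟨φ.symm x, map_S_le n φ.symm hφ' ⟨x, hx, rfl⟩, ?_⟩
  simp

lemma pow_n_eq_one (x : Multiplicative (ZMod n)) : x ^ n = 1 := by
  apply Multiplicative.toAdd.injective
  rw [toAdd_pow, toAdd_one]
  simp

lemma S_le_ker (χ : G →* Multiplicative (ZMod n)) (hχ : IsOpen ((χ.ker : Subgroup G) : Set G)) :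
    powCommClosure G n ≤ χ.ker := by
  apply S_le_of_closed n _ (Subgroup.isClosed_of_isOpen _ hχ)
  exact T_le_ker n χ (fun x y => mul_comm _ _) (fun x => pow_n_eq_one n _)

/-- the commutative group structure on `G ⧸ S` -/
@[reducible] noncomputable def commQuot : CommGroup (G ⧸ powCommClosure G n) :=
  { (inferInstance : Group (G ⧸ powCommClosure G n)) with
    mul_comm := by
      rintro ⟨a⟩ ⟨b⟩
      show (QuotientGroup.mk (a * b) : G ⧸ powCommClosure G n) = QuotientGroup.mk (b * a)
      rw [QuotientGroup.eq]
      apply T_le_S n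
      apply commutator_le_T n
      have : (a * b)⁻¹ * (b * a) = (⁅b⁻¹, a⁻¹⁆ : G) := by
        rw [commutatorElement_def]; group
      rw [this, commutator_def]
      exact Subgroup.commutator_mem_commutator (Subgroup.mem_top _) (Subgroup.mem_top _) }

lemma quot_pow_eq_one (x : G ⧸ powCommClosure G n) : x ^ n = 1 := by
  obtain ⟨g, rfl⟩ := QuotientGroup.mk_surjective x
  rw [← QuotientGroup.mk_pow, QuotientGroup.eq_one_iff]
  exact T_le_S n (pow_mem_T n g)

lemma finite_quot [NeZero n] (s : Finset G)
    (hs : Dense ((Subgroup.closure (s : Set G) : Subgroup G) : Set G)) :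
    Finite (G ⧸ powCommClosure G n) := by
  letI := commQuot (G := G) n
  haveI : IsClosed ((powCommClosure G n : Subgroup G) : Set G) := isClosed_S n
  set Γ' : Subgroup (G ⧸ powCommClosure G n) :=
    (Subgroup.closure (s : Set G)).map (QuotientGroup.mk' (powCommClosure G n)) with hΓ'
  haveI : Group.FG Γ' := Group.fg_of_surjective
    (f := (QuotientGroup.mk' (powCommClosure G n)).subgroupMap (Subgroup.closure (s : Set G)))
    (MonoidHom.subgroupMap_surjective _ _)
  have htors : IsMulTorsion Γ' := by
    intro g
    rw [isOfFinOrder_iff_pow_eq_one]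
    refine ⟨n, Nat.pos_of_ne_zero (NeZero.ne n), ?_⟩
    apply Subtype.ext
    rw [Subgroup.coe_pow, quot_pow_eq_one]; rfl
  haveI : Finite Γ' := CommGroup.finite_of_fg_isMulTorsion _ htors
  have hfin : (Γ' : Set (G ⧸ powCommClosure G n)).Finite := Set.toFinite _
  have hclosed : IsClosed (Γ' : Set (G ⧸ powCommClosure G n)) := hfin.isClosed
  have hdense : Dense (Γ' : Set (G ⧸ powCommClosure G n)) := by
    have h1 : DenseRange (QuotientGroup.mk : G → G ⧸ powCommClosure G n) :=
      QuotientGroup.mk_surjective.denseRange
    have h2 := h1.dense_image QuotientGroup.continuous_mk hs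
    have h3 : (Γ' : Set (G ⧸ powCommClosure G n)) =
        (QuotientGroup.mk : G → G ⧸ powCommClosure G n) '' (Subgroup.closure (s : Set G) : Subgroup G) := by
      rw [hΓ', Subgroup.coe_map]; rfl
    rw [h3]; exact h2
  have huniv : (Γ' : Set (G ⧸ powCommClosure G n)) = Set.univ := by
    rw [← hclosed.closure_eq, hdense.closure_eq]
  rw [← Set.finite_univ_iff, ← huniv]
  exact hfin

lemma isOpen_S [NeZero n] (s : Finset G)
    (hs : Dense ((Subgroup.closure (s : Set G) : Subgroup G) : Set G)) :
    IsOpen ((powCommClosure G n : Subgroup G) : Set G) := by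
  haveI := finite_quot n s hs
  haveI : (powCommClosure G n).FiniteIndex := Subgroup.finiteIndex_of_finite_quotient
  exact Subgroup.isOpen_of_isClosed_of_finiteIndex _ (isClosed_S n)

end top

section duality
variable {G : Type u} [Group G] [TopologicalSpace G] [IsTopologicalGroup G] (n : ℕ) [NeZero n]

instance hasEnough : HasEnoughRootsOfUnity (Multiplicative (ZMod n)) n where
  prim := ⟨Multiplicative.ofAdd 1, by
    have := IsPrimitiveRoot.orderOf (Multiplicative.ofAdd (1 : ZMod n))
    rwa [orderOf_ofAdd_eq_addOrderOf, ZMod.addOrderOf_one] at this⟩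
  cyc := by
    haveI : IsCyclic (Multiplicative (ZMod n))ˣ :=
      isCyclic_of_surjective (toUnits (G := Multiplicative (ZMod n))) (toUnits.surjective)
    infer_instance

/-- `ContChar G n` is the dual of `G ⧸ S` -/
noncomputable def eD (hSopen : IsOpen ((powCommClosure G n : Subgroup G) : Set G)) :
    ContChar G n ≃* ((G ⧸ powCommClosure G n) →* (Multiplicative (ZMod n))ˣ) where
  toFun χ := (toUnits (G := Multiplicative (ZMod n))).toMonoidHom.comp
    (QuotientGroup.lift (powCommClosure G n) χ.1 (S_le_ker n χ.1 χ.2))
  invFun φ := ⟨((toUnits (G := Multiplicative (ZMod n))).symm.toMonoidHom.comp φ).comp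
      (QuotientGroup.mk' _), by
    show IsOpen _
    refine Subgroup.isOpen_mono (H₁ := powCommClosure G n) ?_ hSopen
    intro g hg
    rw [MonoidHom.mem_ker]
    simp [(QuotientGroup.eq_one_iff g).2 hg]⟩
  left_inv χ := by
    ext g
    simp
  right_inv φ := by
    ext x
    simp
  map_mul' χ ψ := by
    ext x
    simp

end duality

section parts
variable {G : Type u} [Group G] [TopologicalSpace G] [IsTopologicalGroup G] (n : ℕ) [NeZero n]
  (s : Finset G) (hs : Dense ((Subgroup.closure (s : Set G) : Subgroup G) : Set G))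

include hs in
lemma part2 (g : G)
    (hg : ∀ χ : G →* Multiplicative (ZMod n), IsOpen ((χ.ker : Subgroup G) : Set G) → χ g = 1) :
    g ∈ powCommClosure G n := by
  by_contra hgS
  letI := commQuot (G := G) n
  haveI := finite_quot n s hs
  haveI : HasEnoughRootsOfUnity (Multiplicative (ZMod n))
      (Monoid.exponent (G ⧸ powCommClosure G n)) :=
    HasEnoughRootsOfUnity.of_dvd (Multiplicative (ZMod n)) (n := n)
      (Monoid.exponent_dvd_of_forall_pow_eq_one (quot_pow_eq_one n))
  have hne : (QuotientGroup.mk g : G ⧸ powCommClosure G n) ≠ 1 := by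
    rwa [Ne, QuotientGroup.eq_one_iff]
  obtain ⟨φ, hφ⟩ := CommGroup.exists_apply_ne_one_of_hasEnoughRootsOfUnity
    (G ⧸ powCommClosure G n) (Multiplicative (ZMod n)) hne
  let χ := (eD n (isOpen_S n s hs)).symm φ
  have h1 := hg χ.1 χ.2
  have h2 : χ.1 g = (toUnits (G := Multiplicative (ZMod n))).symm (φ (QuotientGroup.mk g)) := rfl
  rw [h2] at h1
  apply hφ
  simpa using h1

include hs in
lemma part3 (F : ContChar G n →* Multiplicative (ZMod n)) :
    ∃ g : G, ∀ χ : ContChar G n, F χ = (χ.1 : G →* Multiplicative (ZMod n)) g := by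
  letI := commQuot (G := G) n
  haveI := finite_quot n s hs
  haveI : HasEnoughRootsOfUnity (Multiplicative (ZMod n))
      (Monoid.exponent (G ⧸ powCommClosure G n)) :=
    HasEnoughRootsOfUnity.of_dvd (Multiplicative (ZMod n)) (n := n)
      (Monoid.exponent_dvd_of_forall_pow_eq_one (quot_pow_eq_one n))
  let e := eD n (isOpen_S n s hs)
  let η : ((G ⧸ powCommClosure G n) →* (Multiplicative (ZMod n))ˣ) →* (Multiplicative (ZMod n))ˣ :=
    ((toUnits (G := Multiplicative (ZMod n))).toMonoidHom.comp F).comp e.symm.toMonoidHom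
  obtain ⟨g, hg⟩ := QuotientGroup.mk_surjective
    (CommGroup.monoidHomMonoidHomEquiv (G ⧸ powCommClosure G n) (Multiplicative (ZMod n)) η)
  refine ⟨g, fun χ => ?_⟩
  have h1 := CommGroup.apply_monoidHomMonoidHomEquiv (Multiplicative (ZMod n)) (e χ) η
  rw [← hg] at h1
  have h2 : (e χ) (QuotientGroup.mk g) = toUnits (χ.1 g) := rfl
  have h3 : η (e χ) = toUnits (F χ) := by simp [η]
  rw [h2, h3] at h1
  exact (toUnits.injective h1).symm

include hs in
lemma card_dual : Nat.card (ContChar G n →* Multiplicative (ZMod n)) =
    Nat.card (G ⧸ powCommClosure G n) := by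
  letI := commQuot (G := G) n
  haveI := finite_quot n s hs
  haveI : HasEnoughRootsOfUnity (Multiplicative (ZMod n))
      (Monoid.exponent (G ⧸ powCommClosure G n)) :=
    HasEnoughRootsOfUnity.of_dvd (Multiplicative (ZMod n)) (n := n)
      (Monoid.exponent_dvd_of_forall_pow_eq_one (quot_pow_eq_one n))
  let e := eD n (isOpen_S n s hs)
  exact Nat.card_congr ((e.monoidHomCongrLeft.trans
    ((toUnits (G := Multiplicative (ZMod n))).monoidHomCongrRight)).trans
    (CommGroup.monoidHomMonoidHomEquiv (G ⧸ powCommClosure G n) (Multiplicative (ZMod n)))).toEquiv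

include hs in
lemma part4 (H : Subgroup G) [H.Normal] (hH : IsClosed (H : Set G))
    (e4 : G ⧸ H ≃* (ContChar G n →* Multiplicative (ZMod n))) : H = powCommClosure G n := by
  haveI := finite_quot n s hs
  -- `S ≤ H`
  have hSH : powCommClosure G n ≤ H := by
    apply S_le_of_closed n H hH
    have h1 := T_le_ker n (e4.toMonoidHom.comp (QuotientGroup.mk' H))
      (fun x y => mul_comm _ _)
      (fun x => by
        ext χ
        rw [MonoidHom.pow_apply, pow_n_eq_one, MonoidHom.one_apply])
    intro g hg
    have h2 := h1 hg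
    rw [MonoidHom.mem_ker, MonoidHom.comp_apply] at h2
    have h3 : (QuotientGroup.mk' H) g = 1 := e4.injective (by rw [map_one]; exact h2)
    exact (QuotientGroup.eq_one_iff g).1 h3
  apply le_antisymm _ hSH
  -- the canonical surjection `G ⧸ S → G ⧸ H`
  let f : G ⧸ powCommClosure G n →* G ⧸ H :=
    QuotientGroup.map (powCommClosure G n) H (MonoidHom.id G) hSH
  have hf : Function.Surjective f := by
    intro x
    obtain ⟨g, rfl⟩ := QuotientGroup.mk_surjective x
    exact ⟨QuotientGroup.mk g, rfl⟩
  have hcard : Nat.card (G ⧸ powCommClosure G n) = Nat.card (G ⧸ H) := by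
    rw [Nat.card_congr e4.toEquiv, card_dual n s hs]
  have hbij : Function.Bijective f := (Nat.bijective_iff_surjective_and_card f).2 ⟨hf, hcard⟩
  intro g hg
  have h1 : f (QuotientGroup.mk g) = 1 := by
    show (QuotientGroup.mk g : G ⧸ H) = 1
    exact (QuotientGroup.eq_one_iff g).2 hg
  have h2 : (QuotientGroup.mk g : G ⧸ powCommClosure G n) = 1 :=
    hbij.1 (by rw [h1, map_one])
  exact (QuotientGroup.eq_one_iff g).1 h2

end parts

end helpers

open W4c1etcurveeff2 in
/-- Let G be a topological group in which some finite subset generates a dense subgroup, let n ≥ 1, and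
let S be the closure of the subgroup generated by all n-th powers and all commutators. Write D for
the group of continuous homomorphisms from G to the discrete cyclic group ℤ/n, that is,
homomorphisms with open kernel (the first cohomology of G with coefficients in the trivial module
ℤ/n), and D^∨ for its ℤ/n-dual, the group of homomorphisms D → ℤ/n. Then: S is carried onto itself
by every group automorphism of G that is a homeomorphism; an element g of G lies in S exactly when
every element of D kills g, and every element of D^∨ is evaluation at some element of G, so that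
evaluation identifies G/S with D^∨; and S is the only closed normal subgroup H of G with G/H
isomorphic to D^∨. (The published statement is for a topologically finitely generated group, calls S
characteristic and does not restrict the competing subgroups H; this row asks the automorphisms to
be homeomorphisms and H to be closed, which is what the argument uses: for the integers with the
p-adic topology times a cyclic group of prime order q ≠ p, the subgroup qℤ × ℤ/q is normal, not
closed, and has quotient isomorphic to D^∨ ≅ ℤ/q, while S = ℤ × 0.) -/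
theorem result
    {G : Type u} [Group G] [TopologicalSpace G] [IsTopologicalGroup G]
    (s : Finset G) (hs : Dense ((Subgroup.closure (s : Set G) : Subgroup G) : Set G))
    (n : ℕ) [NeZero n] (S : Subgroup G) (hS : S = powCommClosure G n) :
    (∀ φ : G ≃* G, Continuous φ → Continuous φ.symm → S.map φ.toMonoidHom = S) ∧
    (∀ g : G, g ∈ S ↔
        ∀ χ : G →* Multiplicative (ZMod n), IsOpen ((χ.ker : Subgroup G) : Set G) → χ g = 1) ∧
    (∀ F : ContChar G n →* Multiplicative (ZMod n), ∃ g : G,
        ∀ χ : ContChar G n, F χ = (χ.1 : G →* Multiplicative (ZMod n)) g) ∧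
    (∀ (H : Subgroup G) [H.Normal], IsClosed (H : Set G) →
        Nonempty (G ⧸ H ≃* (ContChar G n →* Multiplicative (ZMod n))) → H = S) := by
  subst hS
  refine ⟨fun φ hφ hφ' => map_S_eq n φ hφ hφ', fun g => ⟨fun hg χ hχ => ?_, fun hg => part2 n s hs g hg⟩,
    fun F => part3 n s hs F, ?_⟩
  · exact (MonoidHom.mem_ker).1 (S_le_ker n χ hχ hg)
  · intro H _ hH ⟨e4⟩
    exact part4 n s hs H hH e4

end Groth.Agent.S14176
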