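import Groth.Statements.S14178
import Mathlib.FieldTheory.KummerExtension
import Mathlib.RingTheory.DedekindDomain.Factorization
import Mathlib.RingTheory.ClassGroup.Basic
import Mathlib.Tactic

set_option autoImplicit false
universe u v w
open scoped nonZeroDivisors
open EtAlg

namespace Groth.Agent.S14178

open IsDedekindDomain in
lemma fracIdeal_pow_inj {A : Type u} {K : Type v} [CommRing A] [IsDedekindDomain A]
    [Field K] [Algebra A K] [IsFractionRing A K] (J J' : FractionalIdeal A⁰ K)
    (hJ : J ≠ 0) (hJ' : J' ≠ 0) (n : ℕ) (hn : 0 < n) (h : J ^ n = J' ^ n) : J = J' := by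
  rw [← FractionalIdeal.finprod_heightOneSpectrum_factorization' (K := K) hJ,
    ← FractionalIdeal.finprod_heightOneSpectrum_factorization' (K := K) hJ']
  apply finprod_congr
  intro v
  have h1 := congrArg (FractionalIdeal.count K v) h
  rw [FractionalIdeal.count_pow, FractionalIdeal.count_pow] at h1
  have h2 : FractionalIdeal.count K v J = FractionalIdeal.count K v J' := by
    have hn' : (n : ℤ) ≠ 0 := by exact_mod_cast hn.ne'
    exact mul_left_cancel₀ hn' h1
  rw [h2]


/-- Let A be a Dedekind domain with fraction field K, let n be a natural number invertible in A such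
that K contains a primitive n-th root of unity, let f be a nonzero element of K and I an invertible
fractional ideal of A with (f) = I^n whose class in the ideal class group of A has order exactly n
(the divisor of f is n times a divisor whose class has order n), and let L = K(α) be a field
extension of K generated by a single element α with α^n = f. Then L is Galois over K of degree n
with cyclic Galois group. (The published statement is for an integral smooth curve over a perfect
field containing a primitive n-th root of unity, with the Picard group of the curve in place of the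
class group; this row states it for any Dedekind domain.) -/
theorem result
    {A : Type u} {K : Type v} {L : Type w} [CommRing A] [IsDedekindDomain A]
    [Field K] [Algebra A K] [IsFractionRing A K]
    [Field L] [Algebra K L]
    (n : ℕ) (hn : IsUnit (n : A)) (ζ : K) (hζ : IsPrimitiveRoot ζ n) (f : K) (hf : f ≠ 0)
    (I : (FractionalIdeal A⁰ K)ˣ) (hI : FractionalIdeal.spanSingleton A⁰ f = (I : FractionalIdeal A⁰ K) ^ n)
    (hord : orderOf (ClassGroup.mk K I) = n)
    (α : L) (hα : α ^ n = algebraMap K L f) (hgen : IntermediateField.adjoin K {α} = ⊤) :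
    IsGalois K L ∧ IsCyclic (L ≃ₐ[K] L) ∧ Module.finrank K L = n := by
  classical
  have hn0 : 0 < n := by
    rcases Nat.eq_zero_or_pos n with h | h
    · subst h
      simp at hn
    · exact h
  haveI : NeZero n := ⟨hn0.ne'⟩
  have hnK : (n : K) ≠ 0 := by
    have h1 : IsUnit (algebraMap A K (n : A)) := hn.map _
    rw [map_natCast] at h1
    exact h1.ne_zero
  have hαint : IsIntegral K α := by
    refine ⟨Polynomial.X ^ n - Polynomial.C f, Polynomial.monic_X_pow_sub_C f hn0.ne', ?_⟩
    simp [hα]
  have hfd : FiniteDimensional K L := by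
    have h1 := IntermediateField.adjoin.finiteDimensional hαint
    rw [hgen] at h1
    exact (IntermediateField.topEquiv (F := K) (E := L)).toLinearEquiv.finiteDimensional
  have hζL : IsPrimitiveRoot (algebraMap K L ζ) n := hζ.map_of_injective (algebraMap K L).injective
  have hα0 : α ≠ 0 := by
    intro h
    rw [h, zero_pow hn0.ne'] at hα
    exact hf ((map_eq_zero (algebraMap K L)).1 hα.symm)
  have hsplit : Polynomial.IsSplittingField K L (Polynomial.X ^ n - Polynomial.C f) := by
    constructor
    · rw [Polynomial.map_sub, Polynomial.map_pow, Polynomial.map_C, Polynomial.map_X]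
      exact X_pow_sub_C_splits_of_isPrimitiveRoot hζL hα
    · rw [eq_top_iff, ← IntermediateField.top_toSubalgebra, ← hgen,
        IntermediateField.adjoin_simple_toSubalgebra_of_isAlgebraic hαint.isAlgebraic]
      apply Algebra.adjoin_mono
      rw [Set.singleton_subset_iff, Polynomial.mem_rootSet_of_ne (Polynomial.X_pow_sub_C_ne_zero hn0 f),
        Polynomial.aeval_def, Polynomial.eval₂_sub, Polynomial.eval₂_X_pow, Polynomial.eval₂_C, hα, sub_self]
  have hgal : IsGalois K L :=
    IsGalois.of_separable_splitting_field (Polynomial.separable_X_pow_sub_C f hnK hf)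
  have hσ : ∀ σ : L ≃ₐ[K] L, ∃ i : ℕ, σ α = (algebraMap K L ζ) ^ i * α := by
    intro σ
    have h1 : (σ α / α) ^ n = 1 := by
      rw [div_pow, ← map_pow, hα, σ.commutes, div_self]
      rw [← hα]; exact pow_ne_zero _ hα0
    obtain ⟨i, _, hi⟩ := hζL.eq_pow_of_pow_eq_one h1
    exact ⟨i, by rw [hi]; field_simp⟩
  have hcard : Nat.card (L ≃ₐ[K] L) = Module.finrank K L := IsGalois.card_aut_eq_finrank K L
  have hfix : ∀ σ : L ≃ₐ[K] L, σ (α ^ Module.finrank K L) = α ^ Module.finrank K L := by
    intro σ
    obtain ⟨i, hi⟩ := hσ σ
    have hpow : ∀ m : ℕ, (σ ^ m) α = (algebraMap K L ζ) ^ (i * m) * α := by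
      intro m
      induction m with
      | zero => simp
      | succ m ih =>
        rw [pow_succ', AlgEquiv.mul_apply, ih, map_mul, map_pow, σ.commutes, hi]
        ring
    have h1 : σ ^ Module.finrank K L = 1 := by rw [← hcard]; exact pow_card_eq_one'
    have h2 := hpow (Module.finrank K L)
    rw [h1, AlgEquiv.one_apply] at h2
    have h3 : (algebraMap K L ζ) ^ (i * Module.finrank K L) = 1 := by
      have : (algebraMap K L ζ) ^ (i * Module.finrank K L) * α = 1 * α := by rw [one_mul]; exact h2.symm
      exact mul_right_cancel₀ hα0 this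
    rw [map_pow, hi, mul_pow, ← pow_mul, h3, one_mul]
  obtain ⟨b, hb⟩ : ∃ b : K, algebraMap K L b = α ^ Module.finrank K L := by
    have := (IsGalois.mem_bot_iff_fixed (F := K) (E := L) (α ^ Module.finrank K L)).2 hfix
    exact IntermediateField.mem_bot.1 this
  have hbn : b ^ n = f ^ Module.finrank K L := by
    apply (algebraMap K L).injective
    rw [map_pow, hb, map_pow, ← hα]
    ring
  have hb0 : b ≠ 0 := by
    intro h
    rw [h, zero_pow hn0.ne'] at hbn
    exact pow_ne_zero _ hf hbn.symm
  have hI0 : (I : FractionalIdeal A⁰ K) ≠ 0 := I.ne_zero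
  have hid : FractionalIdeal.spanSingleton A⁰ b = (I : FractionalIdeal A⁰ K) ^ Module.finrank K L := by
    apply fracIdeal_pow_inj _ _ _ (pow_ne_zero _ hI0) n hn0
    · rw [FractionalIdeal.spanSingleton_pow, hbn, ← FractionalIdeal.spanSingleton_pow, hI, ← pow_mul,
        ← pow_mul, mul_comm]
    · rw [Ne, FractionalIdeal.spanSingleton_eq_zero_iff]; exact hb0
  have hprin : ClassGroup.mk K (I ^ Module.finrank K L) = 1 := by
    rw [ClassGroup.mk_eq_one_iff]
    refine ⟨⟨b, ?_⟩⟩
    have : ((I ^ Module.finrank K L : (FractionalIdeal A⁰ K)ˣ) : FractionalIdeal A⁰ K) =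
        FractionalIdeal.spanSingleton A⁰ b := by
      rw [Units.val_pow_eq_pow_val, hid]
    rw [this, FractionalIdeal.coe_spanSingleton]
  have hdvd : n ∣ Module.finrank K L := by
    rw [← hord, orderOf_dvd_iff_pow_eq_one, ← map_pow]
    exact hprin
  have hle : Module.finrank K L ≤ n := by
    have h1 : Module.finrank K L = (minpoly K α).natDegree := by
      rw [← IntermediateField.adjoin.finrank hαint, hgen, IntermediateField.finrank_top']
    have h2 : minpoly K α ∣ Polynomial.X ^ n - Polynomial.C f := minpoly.dvd _ _ (by simp [hα])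
    have h3 := Polynomial.natDegree_le_of_dvd h2 (Polynomial.X_pow_sub_C_ne_zero hn0 f)
    rw [Polynomial.natDegree_X_pow_sub_C] at h3
    omega
  have hdpos : 0 < Module.finrank K L := Module.finrank_pos
  have hdn : Module.finrank K L = n := le_antisymm hle (Nat.le_of_dvd hdpos hdvd)
  have hK : (primitiveRoots (Module.finrank K L) K).Nonempty :=
    ⟨ζ, by rw [mem_primitiveRoots Module.finrank_pos, hdn]; exact hζ⟩
  have h31 := (isCyclic_tfae K L hK).out 2 0
  obtain ⟨hG, hC⟩ := h31.1 ⟨α, ⟨f, by rw [hdn]; exact hα.symm⟩, hgen⟩
  exact ⟨hG, hC, hdn⟩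

end Groth.Agent.S14178
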