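import Groth.Statements.S14181
import Mathlib

set_option autoImplicit false
universe u
open CategoryTheory
open GalCoh

namespace Groth.Agent.S14181

open groupCohomology Rep

section helpers

variable {k G : Type u} [CommRing k] [Group G] (A : Rep.{u} k G) (P : Subgroup G) [P.Normal]
  [Finite P] (hP : Function.Bijective fun a : A => (Nat.card P : k) • a)

/-- multiplication by `|P|` as a linear equivalence -/
noncomputable def divP : A ≃ₗ[k] A :=
  LinearEquiv.ofBijective (LinearMap.lsmul k A (Nat.card P : k)) hP

lemma divP_apply (a : A) : divP A P hP a = (Nat.card P : k) • a := rfl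

/-- the sum of the values on `P` -/
noncomputable def sumP : cocycles₁ A →ₗ[k] A :=
  letI := Fintype.ofFinite P
  (∑ p : P, (LinearMap.proj (p : G) : (G → A) →ₗ[k] A)) ∘ₗ (cocycles₁ A).subtype

lemma sumP_apply (x : cocycles₁ A) :
    letI := Fintype.ofFinite P
    sumP A P x = ∑ p : P, x (p : G) := by
  simp [sumP]

/-- the correcting element -/
noncomputable def yMap : cocycles₁ A →ₗ[k] A :=
  -((divP A P hP).symm.toLinearMap ∘ₗ sumP A P)

lemma card_smul_yMap (x : cocycles₁ A) : (Nat.card P : k) • yMap A P hP x = - sumP A P x := by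
  rw [← divP_apply A P hP]
  simp [yMap]

lemma yMap_spec (x : cocycles₁ A) (s : G) (hs : s ∈ P) :
    x s = A.ρ s (yMap A P hP x) - yMap A P hP x := by
  letI := Fintype.ofFinite P
  apply hP.1
  show (Nat.card P : k) • x s = (Nat.card P : k) • (A.ρ s (yMap A P hP x) - yMap A P hP x)
  have hy := card_smul_yMap A P hP x
  have hS := sumP_apply A P x
  have h1 := (mem_cocycles₁_iff x).1 x.2
  have h2 : ∑ p : P, x ((s : G) * (p : G)) = ∑ p : P, x (p : G) :=
    Equiv.sum_comp (Equiv.mulLeft (⟨s, hs⟩ : P)) (fun p : P => x (p : G))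
  have h3 : ∑ p : P, x ((s : G) * (p : G)) =
      A.ρ s (∑ p : P, x (p : G)) + (Nat.card P : k) • x s := by
    simp_rw [h1 s]
    rw [Finset.sum_add_distrib, Finset.sum_const, Finset.card_univ, ← Nat.card_eq_fintype_card,
      Nat.cast_smul_eq_nsmul, map_sum]
  rw [h2, ← hS] at h3
  have h4 : (Nat.card P : k) • A.ρ s (yMap A P hP x) = - A.ρ s (sumP A P x) := by
    rw [← (A.ρ s).map_smul, hy, map_neg]
  rw [smul_sub, h4, hy]
  have h5 : (Nat.card P : k) • x s = sumP A P x - A.ρ s (sumP A P x) := by
    rw [eq_sub_iff_add_eq, add_comm]; exact h3.symm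
  rw [h5]
  abel

end helpers

section helpers2

variable {k G : Type u} [CommRing k] [Group G] (A : Rep.{u} k G) (P : Subgroup G) [P.Normal]

lemma mem_inv_of (x : cocycles₁ A) (y : A) (h2 : ∀ s ∈ P, x s = A.ρ s y - y) (g : G) :
    x g - A.ρ g y + y ∈ Representation.invariants (A.ρ.comp P.subtype) := by
  have h1 := (mem_cocycles₁_iff x).1 x.2
  intro s
  calc
      _ = x (s * g) - x s - A.ρ s (A.ρ g y) + (x s + y) := by
        simp [add_eq_of_eq_sub (h2 s s.2), sub_eq_of_eq_add (h1 s g)]
      _ = x (g * (g⁻¹ * s * g)) - A.ρ g (A.ρ (g⁻¹ * s * g) y - y) - A.ρ g y + y := by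
        simp only [mul_assoc, mul_inv_cancel_left, map_mul, Module.End.mul_apply, map_sub,
          Representation.self_inv_apply]
        abel
      _ = x g - A.ρ g y + y := by
        simp [eq_sub_of_add_eq' (h1 g (g⁻¹ * s * g)).symm,
          h2 (g⁻¹ * s * g) (Subgroup.Normal.conj_mem' ‹_› _ s.2 _)]

/-- the descended function `G ⧸ P → A^P` -/
noncomputable def descFun (x : cocycles₁ A) (y : A) (h2 : ∀ s ∈ P, x s = A.ρ s y - y) :
    G ⧸ P → A.quotientToInvariants P :=
  fun g => Quotient.liftOn' g (fun g => ⟨x g - A.ρ g y + y, mem_inv_of A P x y h2 g⟩) (by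
    intro g h hgh
    have h1 := (mem_cocycles₁_iff x).1 x.2
    have := congr(A.ρ g $(h2 (g⁻¹ * h) <| QuotientGroup.leftRel_apply.1 hgh))
    simp_all [← sub_eq_add_neg, sub_eq_sub_iff_sub_eq_sub])

lemma descFun_mk (x : cocycles₁ A) (y : A) (h2 : ∀ s ∈ P, x s = A.ρ s y - y) (g : G) :
    (descFun A P x y h2 (QuotientGroup.mk g) : A) = x g - A.ρ g y + y := rfl

lemma descFun_mem (x : cocycles₁ A) (y : A) (h2 : ∀ s ∈ P, x s = A.ρ s y - y) :
    descFun A P x y h2 ∈ cocycles₁ (A.quotientToInvariants P) := by
  have h1 := (mem_cocycles₁_iff x).1 x.2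
  rw [mem_cocycles₁_iff]
  intro g h
  induction g using QuotientGroup.induction_on with | @H g =>
  induction h using QuotientGroup.induction_on with | @H h =>
  apply Subtype.ext
  simp [descFun, ← QuotientGroup.mk_mul, h1 g h, sub_add_eq_add_sub, add_assoc]

end helpers2

section helpers3

variable {k G : Type u} [CommRing k] [Group G] (A : Rep.{u} k G) (P : Subgroup G) [P.Normal]
  [Finite P] (hP : Function.Bijective fun a : A => (Nat.card P : k) • a)

/-- the retraction on elements -/
noncomputable def rFun (x : cocycles₁ A) : cocycles₁ (A.quotientToInvariants P) :=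
  ⟨descFun A P x (yMap A P hP x) (yMap_spec A P hP x), descFun_mem A P x _ _⟩

lemma rFun_mk (x : cocycles₁ A) (g : G) :
    ((rFun A P hP x) (QuotientGroup.mk g) : A) =
      x g - A.ρ g (yMap A P hP x) + yMap A P hP x := rfl

/-- the retraction as a linear map -/
noncomputable def rMap : cocycles₁ A →ₗ[k] cocycles₁ (A.quotientToInvariants P) where
  toFun x := rFun A P hP x
  map_add' x x' := by
    apply cocycles₁_ext
    intro g
    induction g using QuotientGroup.induction_on with | @H g =>
    apply Subtype.ext
    show ((rFun A P hP (x + x')) (QuotientGroup.mk g) : A) =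
      ((rFun A P hP x) (QuotientGroup.mk g) : A) + ((rFun A P hP x') (QuotientGroup.mk g) : A)
    rw [rFun_mk, rFun_mk, rFun_mk, map_add, map_add]
    show (x g + x' g) - _ + _ = _
    abel
  map_smul' c x := by
    apply cocycles₁_ext
    intro g
    induction g using QuotientGroup.induction_on with | @H g =>
    apply Subtype.ext
    show ((rFun A P hP (c • x)) (QuotientGroup.mk g) : A) =
      c • ((rFun A P hP x) (QuotientGroup.mk g) : A)
    rw [rFun_mk, rFun_mk, map_smul, map_smul]
    show c • x g - _ + _ = _
    rw [smul_add, smul_sub]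

lemma rMap_apply_mk (x : cocycles₁ A) (g : G) :
    ((rMap A P hP x) (QuotientGroup.mk g) : A) =
      x g - A.ρ g (yMap A P hP x) + yMap A P hP x := rfl

end helpers3

/-- Let G be a group with a finite normal subgroup P, k a commutative ring and A a k-linear
representation of G such that multiplication by the order of P is a bijection of A. Then the
inflation map on 1-cocycles (crossed homomorphisms) Z¹(G/P, A^P) → Z¹(G, A) has a k-linear left
inverse. (The published statement is for the inertia group of a Galois cover of smooth curves at a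
point, its normal Sylow p-subgroup P and a module of n-torsion with n prime to p; the argument uses
only that the order of P acts invertibly, which is the hypothesis taken here.) -/
theorem result
    {k G : Type u} [CommRing k] [Group G] (A : Rep.{u} k G) (P : Subgroup G) [P.Normal] [Finite P]
    (hP : Function.Bijective fun a : A => (Nat.card P : k) • a) :
    ∃ r : ModuleCat.of k (groupCohomology.cocycles₁ A) ⟶
        ModuleCat.of k (groupCohomology.cocycles₁ (A.quotientToInvariants P)),
      (groupCohomology.mapCocycles₁ (QuotientGroup.mk' P) (Rep.ofHom (A.ρ.quotientToInvariants_lift P)) :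
          ModuleCat.of k (groupCohomology.cocycles₁ (A.quotientToInvariants P)) ⟶
            ModuleCat.of k (groupCohomology.cocycles₁ A)) ≫ r = 𝟙 _ := by
  refine ⟨ModuleCat.ofHom (rMap A P hP), ?_⟩
  ext x g
  induction g using QuotientGroup.induction_on with | @H g =>
  set z : cocycles₁ A := (groupCohomology.mapCocycles₁ (QuotientGroup.mk' P)
    (Rep.ofHom (A.ρ.quotientToInvariants_lift P))) x with hz
  have hzg : ∀ g : G, z g = (x (QuotientGroup.mk g) : A) := fun g => rfl
  have hy : yMap A P hP z = 0 := by
    letI := Fintype.ofFinite P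
    have : sumP A P z = 0 := by
      rw [sumP_apply]
      apply Finset.sum_eq_zero
      intro p _
      rw [hzg, (QuotientGroup.eq_one_iff (p : G)).2 p.2, cocycles₁_map_one]
      rfl
    simp [yMap, this]
  show ((rMap A P hP z) (QuotientGroup.mk g) : A) = (x (QuotientGroup.mk g) : A)
  rw [rMap_apply_mk, hy, map_zero, sub_zero, add_zero, hzg]

end Groth.Agent.S14181
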