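import Groth.Statements.S14188
-- import your own Groth.Agent.* helpers here
import Mathlib
import Groth.Agent.Lib.Helper67.GenFibre

set_option autoImplicit false
universe u
open CategoryTheory CategoryTheory.Limits AlgebraicGeometry
open FlatMor

namespace Groth.Agent.S14188

open Groth.Agent.Lib.Helper67.GenFibre

lemma aux {T Y Z E : Scheme.{u}} (η : E ⟶ T) [QuasiCompact η] [IsSchemeTheoreticallyDominant η]
    (pY : Y ⟶ T) (pZ : Z ⟶ T) [Flat pY] [IsSeparated pZ]
    (ψ : pullback pY η ⟶ Z)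
    (gr : pullback pY η ⟶ pullback pY pZ)
    (hgr₁ : gr ≫ pullback.fst pY pZ = pullback.fst pY η)
    (hgr₂ : gr ≫ pullback.snd pY pZ = ψ) :
    (∃ φ : Y ⟶ Z, φ ≫ pZ = pY ∧ pullback.fst pY η ≫ φ = ψ) ↔
      IsIso (gr.imageι ≫ pullback.fst pY pZ) := by
  constructor
  · rintro ⟨φ, hφ1, hφ2⟩
    subst hφ1
    haveI : IsSchemeTheoreticallyDominant (pullback.fst (φ ≫ pZ) η) := inferInstance
    set Γφ : Y ⟶ pullback (φ ≫ pZ) pZ := pullback.lift (𝟙 _) φ (Category.id_comp (φ ≫ pZ)) with hΓ
    haveI : IsClosedImmersion Γφ := inferInstance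
    have hgr : gr = pullback.fst (φ ≫ pZ) η ≫ Γφ := by
      apply pullback.hom_ext
      · rw [hgr₁, Category.assoc, hΓ, pullback.lift_fst, Category.comp_id]
      · rw [hgr₂, Category.assoc, hΓ, pullback.lift_snd, hφ2]
    have hk : gr.ker = Γφ.ker := by
      rw [hgr, Scheme.Hom.ker_comp, (pullback.fst (φ ≫ pZ) η).ker_eq_bot,
        Scheme.IdealSheafData.map_bot]
    have h2 : Γφ.imageι ≫ pullback.fst (φ ≫ pZ) pZ = inv Γφ.toImage := by
      rw [← cancel_epi Γφ.toImage, IsIso.hom_inv_id, ← Category.assoc, Γφ.toImage_imageι, hΓ,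
        pullback.lift_fst]
    have h3 : IsIso (Γφ.imageι ≫ pullback.fst (φ ≫ pZ) pZ) := by rw [h2]; infer_instance
    change IsIso (gr.ker.subschemeι ≫ pullback.fst (φ ≫ pZ) pZ)
    rw [hk]
    exact h3
  · intro hπ
    refine ⟨inv (gr.imageι ≫ pullback.fst pY pZ) ≫ gr.imageι ≫ pullback.snd pY pZ, ?_, ?_⟩
    · rw [Category.assoc, Category.assoc, ← pullback.condition, ← Category.assoc gr.imageι,
        IsIso.inv_hom_id_assoc]
    · have h1 : pullback.fst pY η = gr.toImage ≫ (gr.imageι ≫ pullback.fst pY pZ) := by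
        rw [← Category.assoc, gr.toImage_imageι, hgr₁]
      rw [h1, Category.assoc, IsIso.hom_inv_id_assoc, ← Category.assoc, gr.toImage_imageι, hgr₂]


/-- Let T be an integral scheme with generic point η, let Y and Z be schemes flat over T with Z
separated over T, and let ψ : Y_η → Z be a T-morphism from the generic fibre Y_η = Y ×_T Spec
O_{T,η} (equivalently, an η-morphism Y_η → Z_η). Let gr : Y_η → Y ×_T Z be the graph of ψ, the
morphism whose components are the projection Y_η → Y and ψ, and let Γ ⊆ Y ×_T Z be the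
scheme-theoretic image of gr (the schematic closure of the graph). Then ψ extends to a T-morphism φ
: Y → Z, meaning that the composite Y_η → Y → Z is ψ, if and only if the composite of the inclusion
Γ → Y ×_T Z with the first projection is an isomorphism Γ ≅ Y. -/
theorem result (T Y Z : Scheme.{u}) [IsIntegral T]
    (pY : Y ⟶ T) (pZ : Z ⟶ T) [Flat pY] [Flat pZ] [IsSeparated pZ]
    (ψ : pullback pY (T.fromSpecStalk (genericPoint T)) ⟶ Z)
    (hψ : ψ ≫ pZ = pullback.fst pY (T.fromSpecStalk (genericPoint T)) ≫ pY)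
    (gr : pullback pY (T.fromSpecStalk (genericPoint T)) ⟶ pullback pY pZ)
    (hgr₁ : gr ≫ pullback.fst pY pZ = pullback.fst pY (T.fromSpecStalk (genericPoint T)))
    (hgr₂ : gr ≫ pullback.snd pY pZ = ψ) :
    (∃ φ : Y ⟶ Z, φ ≫ pZ = pY ∧ pullback.fst pY (T.fromSpecStalk (genericPoint T)) ≫ φ = ψ) ↔
      IsIso (gr.imageι ≫ pullback.fst pY pZ) :=
  aux (T.fromSpecStalk (genericPoint T)) pY pZ ψ gr hgr₁ hgr₂

end Groth.Agent.S14188
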