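import Groth.Statements.S14189
-- import your own Groth.Agent.* helpers here
import Mathlib
import Groth.Agent.Lib.Helper67.GenFibre
import Groth.Agent.Lib.Helper67.SchDense

set_option autoImplicit false
universe u
open CategoryTheory CategoryTheory.Limits AlgebraicGeometry
open FlatMor

namespace Groth.Agent.S14189

open Groth.Agent.Lib.Helper67.GenFibre Groth.Agent.Lib.Helper67.SchDense

lemma aux {T Y Z T' E : Scheme.{u}} (η : E ⟶ T) [QuasiCompact η] [IsSchemeTheoreticallyDominant η]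
    (pY : Y ⟶ T) (pZ : Z ⟶ T) [Flat pY] [IsSeparated pZ]
    (ψ : pullback pY η ⟶ Z)
    (g : T' ⟶ T) [Flat g] [Surjective g] [QuasiCompact g]
    (γ' : pullback pY g ⟶ Z) (hγ'Z : γ' ≫ pZ = pullback.fst pY g ≫ pY)
    (hagree : pullback.fst (pullback.fst pY g) (pullback.fst pY η) ≫ γ' =
      pullback.snd (pullback.fst pY g) (pullback.fst pY η) ≫ ψ) :
    ∃ φ : Y ⟶ Z, φ ≫ pZ = pY ∧ pullback.fst pY η ≫ φ = ψ := by
  obtain ⟨pr, hpr⟩ : ∃ pr, pr = pullback.fst pY g := ⟨_, rfl⟩
  obtain ⟨fη, hfη⟩ : ∃ fη, fη = pullback.fst pY η := ⟨_, rfl⟩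
  rw [← hpr] at hγ'Z
  rw [← hpr, ← hfη] at hagree
  rw [← hfη]
  haveI : Flat pr := by rw [hpr]; exact MorphismProperty.pullback_fst (P := @Flat) _ _ ‹_›
  haveI : Surjective pr := by
    rw [hpr]; exact MorphismProperty.pullback_fst (P := @Surjective) _ _ ‹_›
  haveI : QuasiCompact pr := by
    rw [hpr]; exact MorphismProperty.pullback_fst (P := @QuasiCompact) _ _ ‹_›
  obtain ⟨p₁, hp₁⟩ : ∃ p₁, p₁ = pullback.fst pr pr := ⟨_, rfl⟩
  obtain ⟨p₂, hp₂⟩ : ∃ p₂, p₂ = pullback.snd pr pr := ⟨_, rfl⟩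
  haveI : Flat p₁ := by rw [hp₁]; exact MorphismProperty.pullback_fst (P := @Flat) _ _ ‹_›
  obtain ⟨s'', hs''⟩ : ∃ s'', s'' = p₁ ≫ pr ≫ pY := ⟨_, rfl⟩
  haveI : Flat s'' := by rw [hs'']; infer_instance
  obtain ⟨ι'', hι''⟩ : ∃ ι'', ι'' = pullback.fst s'' η := ⟨_, rfl⟩
  haveI : IsSchemeTheoreticallyDominant ι'' := by rw [hι'']; infer_instance
  have hcondP : p₁ ≫ pr = p₂ ≫ pr := by rw [hp₁, hp₂]; exact pullback.condition
  have hn : (ι'' ≫ p₁ ≫ pr) ≫ pY = pullback.snd s'' η ≫ η := by
    rw [Category.assoc, Category.assoc, ← hs'', hι'', pullback.condition]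
  obtain ⟨n, hn1⟩ : ∃ n : pullback s'' η ⟶ pullback pY η, n ≫ fη = ι'' ≫ p₁ ≫ pr :=
    ⟨pullback.lift (ι'' ≫ p₁ ≫ pr) (pullback.snd s'' η) hn, by rw [hfη]; exact pullback.lift_fst _ _ _⟩
  have hm₁ : (ι'' ≫ p₁) ≫ pr = n ≫ fη := by rw [hn1, Category.assoc]
  have hm₂ : (ι'' ≫ p₂) ≫ pr = n ≫ fη := by rw [hn1, Category.assoc, hcondP]
  have key : ∀ (q : pullback s'' η ⟶ pullback pY g) (hq : q ≫ pr = n ≫ fη), q ≫ γ' = n ≫ ψ := by
    intro q hq
    have h1 : pullback.lift q n hq ≫ pullback.fst pr fη = q := pullback.lift_fst _ _ _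
    have h2 : pullback.lift q n hq ≫ pullback.snd pr fη = n := pullback.lift_snd _ _ _
    rw [← h1, Category.assoc, hagree, ← Category.assoc, h2]
  have hcond : p₁ ≫ γ' = p₂ ≫ γ' := by
    refine ext_of_ker_eq_bot_of_isSeparated pZ ?_ ι'' ι''.ker_eq_bot ?_
    · rw [Category.assoc, Category.assoc, hγ'Z, ← Category.assoc, ← Category.assoc, hcondP]
    · rw [← Category.assoc, ← Category.assoc, key _ hm₁, key _ hm₂]
  -- descend
  let φ : Y ⟶ Z := EffectiveEpi.desc pr γ' (by
    intro W g₁ g₂ h12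
    have h1 : g₁ = pullback.lift g₁ g₂ h12 ≫ p₁ := by rw [hp₁]; exact (pullback.lift_fst _ _ _).symm
    have h2 : g₂ = pullback.lift g₁ g₂ h12 ≫ p₂ := by rw [hp₂]; exact (pullback.lift_snd _ _ _).symm
    rw [h1, Category.assoc, hcond, ← Category.assoc, ← h2])
  have hφ : pr ≫ φ = γ' := EffectiveEpi.fac pr γ' _
  refine ⟨φ, ?_, ?_⟩
  · rw [← cancel_epi pr, ← Category.assoc, hφ, hγ'Z]
  · haveI : Flat (pullback.snd pr fη) := MorphismProperty.pullback_snd (P := @Flat) _ _ ‹_›
    haveI : Surjective (pullback.snd pr fη) :=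
      MorphismProperty.pullback_snd (P := @Surjective) _ _ ‹_›
    haveI : QuasiCompact (pullback.snd pr fη) :=
      MorphismProperty.pullback_snd (P := @QuasiCompact) _ _ ‹_›
    haveI : Epi (pullback.snd pr fη) := by
      haveI : EffectiveEpi (pullback.snd pr fη) := inferInstance
      infer_instance
    rw [← cancel_epi (pullback.snd pr fη), ← Category.assoc, ← pullback.condition, Category.assoc,
      hφ, hagree]


/-- Let T be an integral scheme with generic point η, let Y and Z be schemes flat over T with Z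
separated over T, and let ψ : Y_η → Z be a T-morphism from the generic fibre Y_η = Y ×_T Spec
O_{T,η}. Let g : T' → T be flat, surjective and quasi-compact, and let φ' : Y_{T'} → Z_{T'} be a
T'-morphism which agrees with ψ over T' ×_T η, in the sense that on Y_{T'} ×_Y Y_η = Y ×_T T' ×_T
Spec O_{T,η} the composite of the first projection with φ' and with Z_{T'} → Z equals the composite
of the second projection with ψ. Then ψ extends to a T-morphism φ : Y → Z, one whose composite with
Y_η → Y is ψ. (The published statement is an equivalence and also records that an extension, when it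
exists, is unique; the converse direction, that an extension over T base-changes to such a φ' over
any such T', is immediate, and this row states the existence direction only.) -/
theorem result (T Y Z T' : Scheme.{u}) [IsIntegral T]
    (pY : Y ⟶ T) (pZ : Z ⟶ T) [Flat pY] [Flat pZ] [IsSeparated pZ]
    (ψ : pullback pY (T.fromSpecStalk (genericPoint T)) ⟶ Z)
    (hψ : ψ ≫ pZ = pullback.fst pY (T.fromSpecStalk (genericPoint T)) ≫ pY)
    (g : T' ⟶ T) [Flat g] [Surjective g] [QuasiCompact g]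
    (φ' : pullback pY g ⟶ pullback pZ g) (hφ' : φ' ≫ pullback.snd pZ g = pullback.snd pY g)
    (hagree : pullback.fst (pullback.fst pY g) (pullback.fst pY (T.fromSpecStalk (genericPoint T))) ≫ φ' ≫ pullback.fst pZ g =
      pullback.snd (pullback.fst pY g) (pullback.fst pY (T.fromSpecStalk (genericPoint T))) ≫ ψ) :
    ∃ φ : Y ⟶ Z, φ ≫ pZ = pY ∧ pullback.fst pY (T.fromSpecStalk (genericPoint T)) ≫ φ = ψ := by
  refine aux (T.fromSpecStalk (genericPoint T)) pY pZ ψ g (φ' ≫ pullback.fst pZ g) ?_ hagree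
  rw [Category.assoc, pullback.condition, ← Category.assoc, hφ', pullback.condition]


end Groth.Agent.S14189
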