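import Groth.Statements.S14192
import Mathlib

set_option autoImplicit false
open PowerSeries
open StackCount

namespace Groth.Agent.S14192

section helpers

/-- `exp ∘ f` -/
noncomputable abbrev E (f : PowerSeries ℚ) : PowerSeries ℚ := (PowerSeries.exp ℚ).subst f

lemma hasSubst_of (f : PowerSeries ℚ) (hf : constantCoeff f = 0) : HasSubst f :=
  HasSubst.of_constantCoeff_zero' hf

lemma deriv_E (f : PowerSeries ℚ) (hf : constantCoeff f = 0) :
    d⁄dX ℚ (E f) = E f * d⁄dX ℚ f := by
  rw [E, derivative_subst (hasSubst_of f hf), derivative_exp]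

lemma constantCoeff_E (f : PowerSeries ℚ) (hf : constantCoeff f = 0) :
    constantCoeff (E f) = 1 := by
  have h1 : constantCoeff (((PowerSeries.exp ℚ) - 1).subst f) = 0 :=
    constantCoeff_subst_eq_zero hf _ (by simp [constantCoeff_exp])
  rw [subst_sub (hasSubst_of f hf)] at h1
  have h2 : (1 : PowerSeries ℚ).subst f = (1 : PowerSeries ℚ) := by
    rw [← coe_substAlgHom (hasSubst_of f hf), map_one]
  rw [h2, map_sub, map_one, sub_eq_zero] at h1
  exact h1

/-- uniqueness for the ODE `Y' = Y h` -/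
lemma ode_unique (h Y Z : PowerSeries ℚ) (hY : d⁄dX ℚ Y = Y * h) (hZ : d⁄dX ℚ Z = Z * h)
    (h0 : constantCoeff Y = constantCoeff Z) : Y = Z := by
  rw [← sub_eq_zero]
  set D := Y - Z with hD
  have hD' : d⁄dX ℚ D = D * h := by rw [hD, map_sub, hY, hZ, sub_mul]
  have hD0 : constantCoeff D = 0 := by rw [hD, map_sub, h0, sub_self]
  ext n
  rw [map_zero]
  induction n using Nat.strong_induction_on with
  | _ n ih =>
    rcases n with _ | n
    · rw [coeff_zero_eq_constantCoeff]; exact hD0
    · have h1 : coeff n (d⁄dX ℚ D) = coeff n (D * h) := by rw [hD']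
      have h2 : coeff n (D * h) = 0 := by
        rw [coeff_mul]
        apply Finset.sum_eq_zero
        intro p hp
        rw [Finset.HasAntidiagonal.mem_antidiagonal] at hp
        rw [ih p.1 (by omega), zero_mul]
      rw [coeff_derivative, h2] at h1
      have h3 : ((n : ℚ) + 1) ≠ 0 := by positivity
      exact (mul_eq_zero.1 h1).resolve_right h3

lemma E_add (f g : PowerSeries ℚ) (hf : constantCoeff f = 0) (hg : constantCoeff g = 0) :
    E (f + g) = E f * E g := by
  have hfg : constantCoeff (f + g) = 0 := by rw [map_add, hf, hg, add_zero]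
  apply ode_unique (d⁄dX ℚ f + d⁄dX ℚ g)
  · rw [deriv_E _ hfg, map_add]
  · rw [Derivation.leibniz, deriv_E _ hf, deriv_E _ hg]
    simp only [smul_eq_mul]
    ring
  · rw [constantCoeff_E _ hfg, map_mul, constantCoeff_E _ hf, constantCoeff_E _ hg, mul_one]

lemma E_zero : E 0 = 1 := by
  apply ode_unique 0
  · rw [deriv_E _ (map_zero _), map_zero]
  · simp
  · rw [constantCoeff_E _ (map_zero _), map_one]

lemma E_nsmul (f : PowerSeries ℚ) (hf : constantCoeff f = 0) (n : ℕ) :
    E (n • f) = E f ^ n := by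
  induction n with
  | zero => rw [zero_smul, E_zero, pow_zero]
  | succ n ih =>
    rw [succ_nsmul, E_add _ _ (by rw [map_nsmul, hf, smul_zero]) hf, ih, pow_succ]

lemma E_sum {ι : Type*} (s : Finset ι) (f : ι → PowerSeries ℚ)
    (hf : ∀ i ∈ s, constantCoeff (f i) = 0) :
    E (∑ i ∈ s, f i) = ∏ i ∈ s, E (f i) := by
  classical
  induction s using Finset.induction_on with
  | empty => rw [Finset.sum_empty, Finset.prod_empty, E_zero]
  | insert a s ha ih =>
    rw [Finset.sum_insert ha, Finset.prod_insert ha,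
      E_add _ _ (hf a (Finset.mem_insert_self a s))
        (by rw [map_sum]; exact Finset.sum_eq_zero fun i hi => hf i (Finset.mem_insert_of_mem hi)),
      ih (fun i hi => hf i (Finset.mem_insert_of_mem hi))]

/-- `-log(1 - a t)` -/
noncomputable def L (a : ℚ) : PowerSeries ℚ :=
  PowerSeries.mk fun v : ℕ => if v = 0 then (0 : ℚ) else a ^ v / (v : ℚ)

lemma constantCoeff_L (a : ℚ) : constantCoeff (L a) = 0 := by
  rw [← coeff_zero_eq_constantCoeff_apply, L, coeff_mk]; simp

lemma deriv_L_mul (a : ℚ) : d⁄dX ℚ (L a) * (1 - C a * X) = C a := by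
  have h1 : d⁄dX ℚ (L a) = PowerSeries.mk fun v : ℕ => a ^ (v + 1) := by
    ext v
    rw [coeff_derivative, L, coeff_mk, coeff_mk, if_neg (Nat.succ_ne_zero v)]
    have : ((v : ℚ) + 1) ≠ 0 := by positivity
    push_cast
    field_simp
  rw [h1]
  ext n
  rw [mul_sub, mul_one, map_sub, ← mul_assoc, mul_comm _ (C a), mul_assoc, coeff_C_mul]
  rcases n with _ | n
  · simp
  · rw [coeff_succ_mul_X, coeff_mk, coeff_mk, coeff_C, if_neg (Nat.succ_ne_zero n)]
    ring

lemma E_L_mul (a : ℚ) : E (L a) * (1 - C a * X) = 1 := by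
  apply derivative.ext
  · rw [Derivation.leibniz, deriv_E _ (constantCoeff_L a), PowerSeries.derivative_one]
    have h1 : d⁄dX ℚ (1 - C a * X : PowerSeries ℚ) = - C a := by
      rw [map_sub, Derivation.leibniz]
      simp
    rw [h1]
    simp only [smul_eq_mul]
    have h2 := deriv_L_mul a
    calc E (L a) * -C a + (1 - C a * X) * (E (L a) * d⁄dX ℚ (L a))
        = E (L a) * (d⁄dX ℚ (L a) * (1 - C a * X) - C a) := by ring
      _ = 0 := by rw [h2, sub_self, mul_zero]
  · rw [map_mul, constantCoeff_E _ (constantCoeff_L a)]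
    simp

end helpers

section main

lemma series_eq (c : ℤ →₀ ℤ) (q : ℤ) :
    (PowerSeries.mk fun v : ℕ => if v = 0 then (0 : ℚ)
          else (c.sum fun (n : ℤ) (r : ℤ) => (r : ℚ) * (q : ℚ) ^ (n * (v : ℤ))) / (v : ℚ))
      = ∑ n ∈ c.support, ((c n : ℤ) : ℚ) • L ((q : ℚ) ^ n) := by
  ext v
  rw [coeff_mk, map_sum]
  by_cases hv : v = 0
  · subst hv
    rw [if_pos rfl]
    symm
    apply Finset.sum_eq_zero
    intro n _
    rw [coeff_smul, coeff_zero_eq_constantCoeff_apply, constantCoeff_L, smul_zero]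
  · rw [if_neg hv, Finsupp.sum, Finset.sum_div]
    apply Finset.sum_congr rfl
    intro n _
    rw [coeff_smul, L, coeff_mk, if_neg hv, smul_eq_mul, zpow_mul, zpow_natCast, mul_div_assoc]

/-- the factor for one exponent -/
lemma factor (a : ℚ) (r : ℤ) :
    E ((r : ℚ) • L a) * (1 - C a * X) ^ r.toNat = (1 - C a * X) ^ (-r).toNat := by
  have hL := constantCoeff_L a
  rcases le_or_gt 0 r with hr | hr
  · obtain ⟨m, rfl⟩ := Int.eq_ofNat_of_zero_le hr
    have h1 : ((m : ℤ) : ℚ) • L a = m • L a := by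
      rw [Int.cast_natCast, Nat.cast_smul_eq_nsmul]
    have h2 : (-(m : ℤ)).toNat = 0 := by omega
    rw [h1, E_nsmul _ hL, Int.toNat_natCast, h2, pow_zero, ← mul_pow, E_L_mul, one_pow]
  · obtain ⟨m, hm⟩ : ∃ m : ℕ, r = -(m : ℤ) := ⟨(-r).toNat, by omega⟩
    subst hm
    have h1 : ((-(m : ℤ) : ℤ) : ℚ) • L a = -(m • L a) := by
      rw [Int.cast_neg, Int.cast_natCast, neg_smul, Nat.cast_smul_eq_nsmul]
    have h2 : (-(m : ℤ)).toNat = 0 := by omega
    have h3 : (- -(m : ℤ)).toNat = m := by omega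
    rw [h1, h2, h3, pow_zero, mul_one]
    have hmL : constantCoeff (m • L a) = 0 := by rw [map_nsmul, hL, smul_zero]
    have h4 : E (-(m • L a)) * E (m • L a) = 1 := by
      rw [← E_add _ _ (by rw [map_neg, hmL, neg_zero]) hmL, neg_add_cancel, E_zero]
    have h5 : E (m • L a) * (1 - C a * X) ^ m = 1 := by
      rw [E_nsmul _ hL, ← mul_pow, E_L_mul, one_pow]
    calc E (-(m • L a)) = E (-(m • L a)) * (E (m • L a) * (1 - C a * X) ^ m) := by
          rw [h5, mul_one]
      _ = (E (-(m • L a)) * E (m • L a)) * (1 - C a * X) ^ m := by ring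
      _ = (1 - C a * X) ^ m := by rw [h4, one_mul]

end main

/-- Let R = Σ_n r_n X^n be a Laurent polynomial with integer coefficients and q > 1 an integer. In the
ring of formal power series in t over ℚ, the exponential of Σ_{v ≥ 1} R(q^v) t^v / v equals the
finite product Π_n (1 - q^n t)^(-r_n). Stated here with denominators cleared: the exponential series
multiplied by Π_{n : r_n > 0} (1 - q^n t)^(r_n) equals Π_{n : r_n < 0} (1 - q^n t)^(-r_n) (each
factor 1 - q^n t is a unit, so this is equivalent). -/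
theorem result (R : LaurentPolynomial ℤ) (q : ℤ) (hq : 1 < q) :
    (PowerSeries.exp ℚ).subst
        (PowerSeries.mk fun v : ℕ => if v = 0 then (0 : ℚ)
          else (R.coeff.sum fun (n : ℤ) (r : ℤ) => (r : ℚ) * (q : ℚ) ^ (n * (v : ℤ))) / (v : ℚ))
      * ∏ n ∈ R.coeff.support, (1 - PowerSeries.C ((q : ℚ) ^ n) * PowerSeries.X) ^ (R.coeff n).toNat
    = ∏ n ∈ R.coeff.support, (1 - PowerSeries.C ((q : ℚ) ^ n) * PowerSeries.X) ^ (-(R.coeff n)).toNat := by
  rw [series_eq]
  have h1 : ∀ n ∈ R.coeff.support, constantCoeff (((R.coeff n : ℤ) : ℚ) • L ((q : ℚ) ^ n)) = 0 := by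
    intro n _
    rw [← coeff_zero_eq_constantCoeff_apply, coeff_smul, coeff_zero_eq_constantCoeff_apply,
      constantCoeff_L, smul_zero]
  have h2 := E_sum R.coeff.support (fun n => ((R.coeff n : ℤ) : ℚ) • L ((q : ℚ) ^ n)) h1
  unfold E at h2
  rw [h2, ← Finset.prod_mul_distrib]
  apply Finset.prod_congr rfl
  intro n _
  exact factor _ _

end Groth.Agent.S14192
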