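import Groth.Statements.S14195
import Mathlib

set_option autoImplicit false
universe u v
open StackCount

namespace Groth.Agent.S14195

section helpers
open GpH1

section abstract

variable {Γ : Type u} [Group Γ] [TopologicalSpace Γ] [IsTopologicalGroup Γ]
  {A : Type v} [Group A] [MulDistribMulAction Γ A]

lemma cocycle_one (z : OneCocycle Γ A) : z 1 = 1 := by
  have h := z.2 1 1
  rw [one_mul, one_smul] at h
  exact (mul_eq_left.1 h.symm)

lemma cocycle_inv (z : OneCocycle Γ A) (σ : Γ) : z σ⁻¹ = (σ⁻¹ • z σ)⁻¹ := by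
  have h := z.2 σ⁻¹ σ
  rw [inv_mul_cancel, cocycle_one] at h
  exact eq_inv_of_mul_eq_one_left h.symm

/-- Injectivity: two locally constant cocycles agreeing at a topological generator agree. -/
lemma eq_of_eq_at (π : Γ) (hdense : Dense ((Subgroup.zpowers π : Subgroup Γ) : Set Γ))
    (z z' : OneCocycle Γ A) (hz : IsLocallyConstant (z : Γ → A))
    (hz' : IsLocallyConstant (z' : Γ → A)) (h : z π = z' π) (σ : Γ) : z σ = z' σ := by
  -- the agreement subgroup
  let E : Subgroup Γ :=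
    { carrier := {τ | z τ = z' τ}
      one_mem' := by show z 1 = z' 1; rw [cocycle_one, cocycle_one]
      mul_mem' := by
        intro x y hx hy
        show z (x * y) = z' (x * y)
        rw [z.2, z'.2, show z x = z' x from hx, show z y = z' y from hy]
      inv_mem' := by
        intro x hx
        show z x⁻¹ = z' x⁻¹
        rw [cocycle_inv, cocycle_inv, show z x = z' x from hx] }
  have hπ : Subgroup.zpowers π ≤ E := by
    rw [Subgroup.zpowers_le]; exact h
  obtain ⟨W, hW, hσW, hWz⟩ := (IsLocallyConstant.iff_exists_open _).1 hz σ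
  obtain ⟨W', hW', hσW', hWz'⟩ := (IsLocallyConstant.iff_exists_open _).1 hz' σ
  obtain ⟨d, ⟨hdW, hdW'⟩, hd⟩ := hdense.inter_open_nonempty (W ∩ W') (hW.inter hW') ⟨σ, hσW, hσW'⟩
  rw [← hWz d hdW, ← hWz' d hdW']
  exact hπ hd

end abstract

section abstract2

variable {Γ : Type u} [Group Γ] [TopologicalSpace Γ] [IsTopologicalGroup Γ]
  {A : Type v} [Group A] [MulDistribMulAction Γ A]

lemma isLocallyConstant_smul (hcont : ∀ a : A, IsOpen {σ : Γ | σ • a = a}) (g : A) :
    IsLocallyConstant (fun σ : Γ => σ • g) := by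
  rw [IsLocallyConstant.iff_exists_open]
  intro σ
  refine ⟨(fun τ : Γ => σ⁻¹ * τ) ⁻¹' {ρ : Γ | ρ • g = g},
    (hcont g).preimage (continuous_mul_left σ⁻¹), ?_, ?_⟩
  · show (σ⁻¹ * σ) • g = g
    rw [inv_mul_cancel, one_smul]
  · intro τ hτ
    have h : (σ⁻¹ * τ) • g = g := hτ
    show τ • g = σ • g
    have : τ = σ * (σ⁻¹ * τ) := by group
    rw [this, mul_smul, h]

/-- the twist of a cocycle by `g` -/
def twist (z : OneCocycle Γ A) (g : A) : OneCocycle Γ A :=
  ⟨fun σ => g⁻¹ * z σ * σ • g, by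
    intro σ τ
    show g⁻¹ * z (σ * τ) * (σ * τ) • g = g⁻¹ * z σ * σ • g * σ • (g⁻¹ * z τ * τ • g)
    rw [z.2, smul_mul', smul_mul', smul_inv', mul_smul]
    group⟩

lemma twist_apply (z : OneCocycle Γ A) (g : A) (σ : Γ) : twist z g σ = g⁻¹ * z σ * σ • g := rfl

lemma isLocallyConstant_twist (hcont : ∀ a : A, IsOpen {σ : Γ | σ • a = a})
    (z : OneCocycle Γ A) (hz : IsLocallyConstant (z : Γ → A)) (g : A) :
    IsLocallyConstant (twist z g : Γ → A) := by
  have h1 : IsLocallyConstant (fun σ : Γ => g⁻¹ * z σ) := hz.comp (fun x => g⁻¹ * x)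
  exact IsLocallyConstant.comp₂ h1 (isLocallyConstant_smul hcont g) (fun x y => x * y)

/-- part 2 of the statement, from injectivity. -/
lemma cl_eq_iff (π : Γ) (hdense : Dense ((Subgroup.zpowers π : Subgroup Γ) : Set Γ))
    (hcont : ∀ a : A, IsOpen {σ : Γ | σ • a = a}) (z z' : OneCocycleLC Γ A) :
    z.cl = z'.cl ↔ ∃ g : A, z'.1 π = g * z.1 π * (π • g)⁻¹ := by
  rw [OneCocycleLC.cl_eq_cl_iff]
  constructor
  · rintro ⟨c, hc⟩
    refine ⟨c, ?_⟩
    rw [hc π]
    group
  · rintro ⟨g, hg⟩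
    refine ⟨g, fun σ => ?_⟩
    have := eq_of_eq_at π hdense z.1 (twist z'.1 g) z.2 (isLocallyConstant_twist hcont z'.1 z'.2 g)
      (by rw [twist_apply, hg]; group) σ
    rw [this, twist_apply]

end abstract2

section surj

variable {Γ : Type u} [Group Γ] [TopologicalSpace Γ] [IsTopologicalGroup Γ]
  {A : Type v} [Group A] [MulDistribMulAction Γ A]

/-- partial norms `a · π(a) ⋯ π^{j-1}(a)` -/
def bseq (π : Γ) (a : A) : ℕ → A
  | 0 => 1
  | (j + 1) => bseq π a j * π ^ j • a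

lemma bseq_mem (π : Γ) (a : A) (H : Subgroup A) (ha : a ∈ H)
    (hstab : ∀ (σ : Γ) (x : A), x ∈ H → σ • x ∈ H) (j : ℕ) : bseq π a j ∈ H := by
  induction j with
  | zero => exact H.one_mem
  | succ j ih => exact H.mul_mem ih (hstab _ _ ha)

lemma bseq_add (π : Γ) (a : A) (i j : ℕ) :
    bseq π a (i + j) = bseq π a i * π ^ i • bseq π a j := by
  induction j with
  | zero => simp [bseq]
  | succ j ih =>
    show bseq π a (i + j) * π ^ (i + j) • a = bseq π a i * π ^ i • (bseq π a j * π ^ j • a)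
    rw [ih, smul_mul', ← mul_smul, ← pow_add, mul_assoc]

/-- pointwise stabilizer of a subgroup -/
def ptStab (H : Subgroup A) : Subgroup Γ where
  carrier := {σ | ∀ h ∈ H, σ • h = h}
  one_mem' := fun h _ => one_smul _ _
  mul_mem' := by
    intro x y hx hy h hh
    rw [mul_smul, hy h hh, hx h hh]
  inv_mem' := by
    intro x hx h hh
    rw [inv_smul_eq_iff]
    exact (hx h hh).symm

lemma mem_ptStab {H : Subgroup A} {σ : Γ} : σ ∈ (ptStab H : Subgroup Γ) ↔ ∀ h ∈ H, σ • h = h :=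
  Iff.rfl

lemma ptStab_normal (H : Subgroup A) (hstab : ∀ (σ : Γ) (x : A), x ∈ H → σ • x ∈ H) :
    (ptStab H : Subgroup Γ).Normal :=
  ⟨fun u hu σ h hh => by
    rw [mul_smul, mul_smul, hu _ (hstab σ⁻¹ h hh), smul_inv_smul]⟩

lemma ptStab_isOpen (hcont : ∀ a : A, IsOpen {σ : Γ | σ • a = a}) (H : Subgroup A)
    (hfin : (H : Set A).Finite) : IsOpen ((ptStab H : Subgroup Γ) : Set Γ) := by
  have : ((ptStab H : Subgroup Γ) : Set Γ) = ⋂ h ∈ (H : Set A), {σ : Γ | σ • h = h} := by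
    ext σ
    simp [ptStab]
  rw [this]
  exact hfin.isOpen_biInter (fun h _ => hcont h)

lemma exists_pow_mem_ptStab (π : Γ) (H : Subgroup A) (hfin : (H : Set A).Finite)
    (hstab : ∀ (σ : Γ) (x : A), x ∈ H → σ • x ∈ H) :
    ∃ r : ℕ, 0 < r ∧ π ^ r ∈ (ptStab H : Subgroup Γ) := by
  haveI : IsStable Γ H := ⟨hstab⟩
  letI : MulDistribMulAction Γ H := subgroupAction H
  haveI : Finite H := hfin.to_subtype
  obtain ⟨r, hr, hr1⟩ := (isOfFinOrder_of_finite (MulAction.toPermHom Γ H π)).exists_pow_eq_one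
  refine ⟨r, hr, fun h hh => ?_⟩
  rw [← map_pow] at hr1
  have := congrArg (fun f : Equiv.Perm H => (f ⟨h, hh⟩ : A)) hr1
  exact this

end surj

section surj2

variable {Γ : Type u} [Group Γ] [TopologicalSpace Γ] [IsTopologicalGroup Γ]
  {A : Type v} [Group A] [MulDistribMulAction Γ A]

lemma exists_cocycle (π : Γ) (hdense : Dense ((Subgroup.zpowers π : Subgroup Γ) : Set Γ))
    (hquot : ∀ N : ℕ, 0 < N → ∃ V : Subgroup Γ, V.Normal ∧ IsOpen (V : Set Γ) ∧
      ∀ j : ℤ, π ^ j ∈ V ↔ (N : ℤ) ∣ j)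
    (hcont : ∀ a : A, IsOpen {σ : Γ | σ • a = a})
    (a : A) (H : Subgroup A) (hHfin : (H : Set A).Finite) (ha : a ∈ H)
    (hstab : ∀ (σ : Γ) (x : A), x ∈ H → σ • x ∈ H) :
    ∃ z : OneCocycle Γ A, IsLocallyConstant (z : Γ → A) ∧ z π = a := by
  obtain ⟨r, hr, hrU⟩ := exists_pow_mem_ptStab π H hHfin hstab
  set b := bseq π a with hb
  have hbmem : ∀ j, b j ∈ H := bseq_mem π a H ha hstab
  have hbadd : ∀ i j, b (i + j) = b i * π ^ i • b j := bseq_add π a
  -- order of `b r`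
  obtain ⟨s, hs, hs1⟩ : ∃ s : ℕ, 0 < s ∧ b r ^ s = 1 := by
    haveI : Finite H := hHfin.to_subtype
    obtain ⟨s, hs, hs1⟩ := (isOfFinOrder_of_finite (⟨b r, hbmem r⟩ : H)).exists_pow_eq_one
    refine ⟨s, hs, ?_⟩
    have := congrArg (Subtype.val) hs1
    simpa using this
  have hUpow : ∀ m : ℕ, π ^ (r * m) ∈ (ptStab H : Subgroup Γ) := by
    intro m
    rw [pow_mul]
    exact Subgroup.pow_mem _ hrU m
  have hbrm : ∀ m : ℕ, b (r * m) = b r ^ m := by
    intro m
    induction m with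
    | zero => simp [hb, bseq]
    | succ m ih =>
      rw [Nat.mul_succ, hbadd, ih, hUpow m _ (hbmem r), pow_succ]
  set N := r * s with hN
  have hNpos : 0 < N := Nat.mul_pos hr hs
  have hbN : b N = 1 := by rw [hN, hbrm, hs1]
  have hπN : π ^ N ∈ (ptStab H : Subgroup Γ) := hUpow s
  have hper : ∀ j t : ℕ, b (j + N * t) = b j := by
    intro j t
    induction t with
    | zero => simp
    | succ t ih =>
      rw [Nat.mul_succ, ← add_assoc, hbadd, ih, hbN, smul_one, mul_one]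
  have hmod : ∀ j : ℕ, b j = b (j % N) := by
    intro j
    conv_lhs => rw [← Nat.mod_add_div j N]
    exact hper _ _
  obtain ⟨V₀, hV₀n, hV₀o, hV₀⟩ := hquot N hNpos
  haveI := hV₀n
  haveI : (ptStab H : Subgroup Γ).Normal := ptStab_normal H hstab
  set V : Subgroup Γ := V₀ ⊓ ptStab H with hV
  have hVn : V.Normal := inferInstance
  have hVo : IsOpen (V : Set Γ) := by
    rw [hV, Subgroup.coe_inf]
    exact hV₀o.inter (ptStab_isOpen hcont H hHfin)
  have hVU : ∀ v ∈ V, ∀ h ∈ H, v • h = h := fun v hv => (Subgroup.mem_inf.1 hv).2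
  have hVN : ∀ t : ℤ, π ^ ((N : ℤ) * t) ∈ V := by
    intro t
    refine Subgroup.mem_inf.2 ⟨(hV₀ _).2 (dvd_mul_right _ _), ?_⟩
    rw [zpow_mul, zpow_natCast]
    exact Subgroup.zpow_mem _ hπN t
  have hVπ : ∀ i j : ℕ, (π ^ i)⁻¹ * π ^ j ∈ V → b i = b j := by
    intro i j hij
    have h1 : (π ^ i)⁻¹ * π ^ j = π ^ ((j : ℤ) - i) := by
      rw [zpow_sub, zpow_natCast, zpow_natCast]
      exact (Commute.pow_pow (Commute.refl π) j i).inv_right.eq.symm ▸ rfl
    rw [h1] at hij
    have h2 : (N : ℤ) ∣ (j : ℤ) - i := (hV₀ _).1 (Subgroup.mem_inf.1 hij).1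
    have h3 : i % N = j % N := (Nat.modEq_iff_dvd.2 h2)
    rw [hmod i, hmod j, h3]
  have hF1 : ∀ σ : Γ, ∃ j : ℕ, (π ^ j)⁻¹ * σ ∈ V := by
    intro σ
    have hWo : IsOpen ((fun τ : Γ => σ⁻¹ * τ) ⁻¹' (V : Set Γ)) :=
      hVo.preimage (continuous_mul_left σ⁻¹)
    obtain ⟨d, hdW, hd⟩ := hdense.inter_open_nonempty _ hWo
      ⟨σ, by show σ⁻¹ * σ ∈ V; rw [inv_mul_cancel]; exact V.one_mem⟩
    obtain ⟨j', rfl⟩ := Subgroup.mem_zpowers_iff.1 hd
    have hv : σ⁻¹ * π ^ j' ∈ V := hdW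
    refine ⟨(j' % (N : ℤ)).toNat, ?_⟩
    have hj : ((j' % (N : ℤ)).toNat : ℤ) = j' % (N : ℤ) :=
      Int.toNat_of_nonneg (Int.emod_nonneg _ (by exact_mod_cast hNpos.ne'))
    have h1 : (π ^ (j' % (N : ℤ)).toNat)⁻¹ * σ =
        π ^ ((N : ℤ) * (j' / (N : ℤ))) * (σ⁻¹ * π ^ j')⁻¹ := by
      rw [← zpow_natCast, hj, mul_inv_rev, inv_inv, ← mul_assoc]
      congr 1
      rw [← zpow_neg, ← zpow_neg, ← zpow_add]
      congr 1
      have := Int.emod_add_mul_ediv j' (N : ℤ)
      omega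
    rw [h1]
    exact V.mul_mem (hVN _) (V.inv_mem hv)
  choose jf hjf using hF1
  have hF3 : ∀ (σ : Γ) (j : ℕ), (π ^ j)⁻¹ * σ ∈ V → b (jf σ) = b j := by
    intro σ j hj
    apply hVπ
    have : (π ^ jf σ)⁻¹ * π ^ j = ((π ^ jf σ)⁻¹ * σ) * ((π ^ j)⁻¹ * σ)⁻¹ := by group
    rw [this]
    exact V.mul_mem (hjf σ) (V.inv_mem hj)
  refine ⟨⟨fun σ => b (jf σ), ?_⟩, ?_, ?_⟩
  · -- cocycle
    intro σ τ
    show b (jf (σ * τ)) = b (jf σ) * σ • b (jf τ)
    have h1 : (π ^ (jf σ + jf τ))⁻¹ * (σ * τ) ∈ V := by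
      have : (π ^ (jf σ + jf τ))⁻¹ * (σ * τ) =
          ((π ^ jf τ)⁻¹ * ((π ^ jf σ)⁻¹ * σ) * (π ^ jf τ)⁻¹⁻¹) * ((π ^ jf τ)⁻¹ * τ) := by
        rw [pow_add]; group
      rw [this]
      exact V.mul_mem (hVn.conj_mem _ (hjf σ) _) (hjf τ)
    rw [hF3 _ _ h1, hbadd]
    congr 1
    have h2 : σ = π ^ jf σ * ((π ^ jf σ)⁻¹ * σ) := by group
    conv_rhs => rw [h2, mul_smul, hVU _ (hjf σ) _ (hbmem _)]
  · -- locally constant
    rw [IsLocallyConstant.iff_exists_open]
    intro σ
    refine ⟨(fun τ : Γ => σ⁻¹ * τ) ⁻¹' (V : Set Γ), hVo.preimage (continuous_mul_left σ⁻¹), ?_, ?_⟩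
    · show σ⁻¹ * σ ∈ V
      rw [inv_mul_cancel]; exact V.one_mem
    · intro τ hτ
      have hτ' : σ⁻¹ * τ ∈ V := hτ
      show b (jf τ) = b (jf σ)
      apply hF3
      have : (π ^ jf σ)⁻¹ * τ = ((π ^ jf σ)⁻¹ * σ) * (σ⁻¹ * τ) := by group
      rw [this]
      exact V.mul_mem (hjf σ) hτ'
  · -- value at π
    show b (jf π) = a
    have h1 : (π ^ 1)⁻¹ * π ∈ V := by
      rw [pow_one, inv_mul_cancel]; exact V.one_mem
    rw [hF3 π 1 h1]
    show bseq π a 0 * π ^ 0 • a = a
    simp [bseq]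

end surj2

section galois

variable (k : Type u) [Field k] [Finite k]
  (π : AlgebraicClosure k ≃ₐ[k] AlgebraicClosure k)
  (hπ : ∀ x : AlgebraicClosure k, π x = x ^ Nat.card k)

include hπ in
/-- restriction of `π` to a finite intermediate field is the Frobenius -/
lemma restrict_eq_frob (E : IntermediateField k (AlgebraicClosure k)) [FiniteDimensional k E] :
    letI := Fintype.ofFinite k
    haveI : Finite E := Module.finite_of_finite k
    AlgEquiv.restrictNormalHom E π = FiniteField.frobeniusAlgEquivOfAlgebraic k E := by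
  letI := Fintype.ofFinite k
  haveI : Finite E := Module.finite_of_finite k
  ext x
  rw [AlgEquiv.restrictNormalHom_apply, hπ, FiniteField.coe_frobeniusAlgEquivOfAlgebraic]
  simp [Nat.card_eq_fintype_card]

include hπ in
lemma dense_zpowers : Dense ((Subgroup.zpowers π : Subgroup _) : Set (AlgebraicClosure k ≃ₐ[k] AlgebraicClosure k)) := by
  letI := Fintype.ofFinite k
  intro σ
  rw [mem_closure_iff_nhds]
  intro t ht
  have h1 : (fun x => σ * x) ⁻¹' t ∈ nhds (1 : AlgebraicClosure k ≃ₐ[k] AlgebraicClosure k) := by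
    apply (continuous_const_mul σ).continuousAt
    show t ∈ nhds (σ * 1)
    rwa [mul_one]
  obtain ⟨E, hE, hEt⟩ := (krullTopology_mem_nhds_one_iff k (AlgebraicClosure k) _).1 h1
  haveI : Finite E := Module.finite_of_finite k
  obtain ⟨⟨i, hi⟩, hi'⟩ := (FiniteField.bijective_frobeniusAlgEquivOfAlgebraic_pow k E).2
    (AlgEquiv.restrictNormalHom E σ)
  have h2 : AlgEquiv.restrictNormalHom E (σ⁻¹ * π ^ i) = 1 := by
    rw [map_mul, map_inv, map_pow, restrict_eq_frob k π hπ E]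
    simp only at hi'
    rw [hi', inv_mul_cancel]
  have h3 : σ⁻¹ * π ^ i ∈ E.fixingSubgroup := by
    rw [← IntermediateField.restrictNormalHom_ker]
    exact h2
  refine ⟨π ^ i, ?_, ⟨(i : ℤ), by simp⟩⟩
  have h4 := hEt h3
  have h5 : σ * (σ⁻¹ * π ^ i) ∈ t := h4
  rwa [mul_inv_cancel_left] at h5

end galois

section galois2

variable (k : Type u) [Field k] [Finite k]
  (π : AlgebraicClosure k ≃ₐ[k] AlgebraicClosure k)
  (hπ : ∀ x : AlgebraicClosure k, π x = x ^ Nat.card k)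

include hπ in
lemma exists_quot (N : ℕ) (hN : 0 < N) :
    ∃ V : Subgroup (AlgebraicClosure k ≃ₐ[k] AlgebraicClosure k), V.Normal ∧
      IsOpen (V : Set (AlgebraicClosure k ≃ₐ[k] AlgebraicClosure k)) ∧
      ∀ j : ℤ, π ^ j ∈ V ↔ (N : ℤ) ∣ j := by
  letI := Fintype.ofFinite k
  obtain ⟨p, hp⟩ := CharP.exists k
  haveI : CharP k p := hp
  haveI : Fact p.Prime := ⟨CharP.char_is_prime k p⟩
  haveI : NeZero N := ⟨hN.ne'⟩
  let f : FiniteField.Extension k p N →ₐ[k] AlgebraicClosure k := IsAlgClosed.lift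
  let E : IntermediateField k (AlgebraicClosure k) := f.fieldRange
  have hEN : Module.finrank k E = N := by
    rw [← FiniteField.finrank_extension k p N]
    exact (LinearEquiv.finrank_eq (AlgEquiv.ofInjectiveField f).toLinearEquiv).symm
  haveI : FiniteDimensional k E := Module.finite_of_finrank_pos (by rw [hEN]; exact hN)
  haveI : Finite E := Module.finite_of_finite k
  refine ⟨(AlgEquiv.restrictNormalHom E).ker, MonoidHom.normal_ker _, ?_, ?_⟩
  · rw [IntermediateField.restrictNormalHom_ker]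
    exact E.fixingSubgroup_isOpen
  · intro j
    rw [MonoidHom.mem_ker, map_zpow, restrict_eq_frob k π hπ E, ← orderOf_dvd_iff_zpow_eq_one,
      FiniteField.orderOf_frobeniusAlgEquivOfAlgebraic, hEN]

end galois2

end helpers

/-- Let k be a finite field, k̄ an algebraic closure, Γ = Aut(k̄/k) with the Krull topology and π ∈ Γ
the Frobenius x ↦ x^(#k). Let A be a group on which Γ acts by group automorphisms, with open
stabilisers, such that every element of A lies in a finite Γ-stable subgroup. Then z ↦ z(π) is a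
bijection from the locally constant 1-cocycles Γ → A (the continuous cocycles for discrete A) onto
A, and two such cocycles z, z' are cohomologous if and only if z'(π) = g · z(π) · (π g)^(-1) for
some g in A; hence it induces a bijection of the continuous first cohomology set with the quotient
of A by the twisted conjugation g · x = g x (π g)^(-1). (The published statement takes A to be the
group of k̄-points of a smooth algebraic group over k with its Galois action; this row assumes only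
the two properties of that action which the proof uses.) -/
theorem result (k : Type u) [Field k] [Finite k]
    (π : AlgebraicClosure k ≃ₐ[k] AlgebraicClosure k)
    (hπ : ∀ x : AlgebraicClosure k, π x = x ^ Nat.card k)
    (A : Type v) [Group A] [MulDistribMulAction (AlgebraicClosure k ≃ₐ[k] AlgebraicClosure k) A]
    (hcont : ∀ a : A, IsOpen {σ : AlgebraicClosure k ≃ₐ[k] AlgebraicClosure k | σ • a = a})
    (hfin : ∀ a : A, ∃ H : Subgroup A, (H : Set A).Finite ∧ a ∈ H ∧
      ∀ (σ : AlgebraicClosure k ≃ₐ[k] AlgebraicClosure k) (x : A), x ∈ H → σ • x ∈ H) :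
    Function.Bijective
        (fun z : GpH1.OneCocycleLC (AlgebraicClosure k ≃ₐ[k] AlgebraicClosure k) A => z.1 π) ∧
      ∀ z z' : GpH1.OneCocycleLC (AlgebraicClosure k ≃ₐ[k] AlgebraicClosure k) A,
        z.cl = z'.cl ↔ ∃ g : A, z'.1 π = g * z.1 π * (π • g)⁻¹ := by
  have hdense := dense_zpowers k π hπ
  have hquot := exists_quot k π hπ
  refine ⟨⟨?_, ?_⟩, fun z z' => cl_eq_iff π hdense hcont z z'⟩
  · intro z z' h
    apply Subtype.ext
    apply GpH1.OneCocycle.ext
    intro σ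
    exact eq_of_eq_at π hdense z.1 z'.1 z.2 z'.2 h σ
  · intro a
    obtain ⟨H, hHfin, ha, hstab⟩ := hfin a
    obtain ⟨z, hz, hza⟩ := exists_cocycle π hdense hquot hcont a H hHfin ha hstab
    exact ⟨⟨z, hz⟩, hza⟩

end Groth.Agent.S14195
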