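import Groth.Statements.S1421
import Mathlib
import Groth.Agent.Lib.Helper22.FinFlatDeg
import Groth.Agent.Lib.Helper22.EtInv
import Groth.Agent.Lib.Helper22.QFStalk
-- import your own Groth.Agent.* helpers here

set_option autoImplicit false
universe u
open FlatMor

namespace Groth.Agent.S1421

section PRE
open AlgebraicGeometry CategoryTheory Limits IsLocalRing
open Groth.Agent.Lib.Helper22.FinFlatGeo Groth.Agent.Lib.Helper22.FinFlatDeg
  Groth.Agent.Lib.Helper22.EtInv Groth.Agent.Lib.Helper22.QFStalk

/-- the weight `length(O_x / m_y O_x) * [κ(x) : κ(y)]_i`. -/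
noncomputable def wt {X Y : Scheme.{u}} (f : X ⟶ Y) (x : X) : ℤ :=
  (Module.length ↑(X.presheaf.stalk x) (↑(X.presheaf.stalk x) ⧸ Ideal.map (f.stalkMap x).hom
    (IsLocalRing.maximalIdeal ↑(Y.presheaf.stalk (f x))))).toNat *
      (letI := (f.residueFieldMap x).hom.toAlgebra
       (Field.finInsepDegree (Y.residueField (f x)) (X.residueField x) : ℤ))

lemma wt_eq {X Y : Scheme.{u}} (f : X ⟶ Y) (x : X) :
    wt f x = ((Module.length ↑(X.presheaf.stalk x) (↑(X.presheaf.stalk x) ⧸
      Ideal.map (f.stalkMap x).hom
        (IsLocalRing.maximalIdeal ↑(Y.presheaf.stalk (f x))))).toNat : ℤ) *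
      (insepOf (f.residueFieldMap x).hom : ℤ) := rfl

lemma wt_pos {X Y : Scheme.{u}} (f : X ⟶ Y) [LocallyQuasiFinite f] (x : X) : 0 < wt f x := by
  obtain ⟨h1, h2⟩ := stalk_finite f x
  rw [wt_eq]
  apply mul_pos
  · have h0 : Module.length ↑(X.presheaf.stalk x) (↑(X.presheaf.stalk x) ⧸
        Ideal.map (f.stalkMap x).hom
          (IsLocalRing.maximalIdeal ↑(Y.presheaf.stalk (f x)))) ≠ 0 := by
      rw [← pos_iff_ne_zero, Module.length_pos_iff]
      exact Ideal.Quotient.nontrivial_iff.mpr (map_maximalIdeal_lt_top (f.stalkMap x).hom).ne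
    have h9 : (Module.length ↑(X.presheaf.stalk x) (↑(X.presheaf.stalk x) ⧸
        Ideal.map (f.stalkMap x).hom
          (IsLocalRing.maximalIdeal ↑(Y.presheaf.stalk (f x))))).toNat ≠ 0 := by
      rw [Ne, ENat.toNat_eq_zero]
      rintro (h | h)
      · exact h0 h
      · exact h1 h
    exact_mod_cast Nat.pos_of_ne_zero h9
  · letI := (f.residueFieldMap x).hom.toAlgebra
    haveI : FiniteDimensional (Y.residueField (f x)) (X.residueField x) := h2
    have : 0 < Field.finInsepDegree (Y.residueField (f x)) (X.residueField x) :=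
      Nat.pos_of_ne_zero (NeZero.ne _)
    exact_mod_cast this

theorem main {X Y : Scheme.{u}} (f : X ⟶ Y) [LocallyQuasiFinite f] [Flat f]
    [LocallyOfFinitePresentation f] : MoreMor.IsWeighting f (wt f) := by
  intro V g _ U hfin
  set h : (U : Scheme.{u}) ⟶ V := U.ι ≫ pullback.snd f g with hh
  set π : (U : Scheme.{u}) ⟶ X := U.ι ≫ pullback.fst f g with hπ
  haveI : IsFinite h := hfin
  have hsq : π ≫ f = h ≫ g := by
    rw [hπ, hh, Category.assoc, Category.assoc, pullback.condition]
  haveI : Flat h := by rw [hh]; infer_instance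
  haveI : LocallyOfFinitePresentation h := by rw [hh]; infer_instance
  haveI : Etale π := by rw [hπ]; infer_instance
  have hlc : IsLocallyConstant h.finrank := Scheme.Hom.isLocallyConstant_finrank h
  have key : ∀ u : (U : Scheme.{u}),
      wt f (pullback.fst f g (U.ι u)) * (letI := (h.residueFieldMap u).hom.toAlgebra
        (Field.finSepDegree (V.residueField (h u)) ((U : Scheme.{u}).residueField u) : ℤ)) =
      (locNum h u : ℤ) := by
    intro u
    have hx : pullback.fst f g (U.ι u) = π u := rfl
    rw [hx, wt_eq]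
    have halg : (letI := (f.residueFieldMap (π u)).hom.toAlgebra
        Algebra.IsAlgebraic (Y.residueField (f (π u))) (X.residueField (π u))) := by
      letI := (f.residueFieldMap (π u)).hom.toAlgebra
      haveI : Module.Finite (Y.residueField (f (π u))) (X.residueField (π u)) :=
        (stalk_finite f (π u)).2
      exact Algebra.IsAlgebraic.of_finite _ _
    rw [← length_eq π f h g hsq u, ← insep_eq π f h g hsq u halg]
    unfold locNum Scheme.Hom.residueDegree
    have h5 := sepOf_mul_insepOf (h.residueFieldMap u).hom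
    have h6 : (letI := (h.residueFieldMap u).hom.toAlgebra
        (Field.finSepDegree (V.residueField (h u)) ((U : Scheme.{u}).residueField u) : ℤ)) =
        (sepOf (h.residueFieldMap u).hom : ℤ) := rfl
    rw [h6]
    have h7 : (letI := (h.residueFieldMap u).hom.toAlgebra
        Module.finrank (V.residueField (h u)) ((U : Scheme.{u}).residueField u)) =
        rankOf (h.residueFieldMap u).hom := rfl
    push_cast
    rw [h7, ← h5]
    push_cast
    ring
  have hfun : MoreMor.fibreIntegral h (fun u => wt f (pullback.fst f g (U.ι u))) =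
      fun v => (h.finrank v : ℤ) := by
    funext v
    unfold MoreMor.fibreIntegral
    simp only [key]
    have hfinv : (h ⁻¹' {v}).Finite := h.finite_preimage_singleton v
    rw [← sum_locNum h v, Nat.cast_finsum_mem hfinv]
    exact finsum_set_coe_eq_finsum_mem (s := h ⁻¹' {v}) (f := fun u => (locNum h u : ℤ))
  show IsLocallyConstant (MoreMor.fibreIntegral h (fun u => wt f (pullback.fst f g (U.ι u))))
  rw [hfun]
  exact hlc.comp _

end PRE

open AlgebraicGeometry CategoryTheory Limits in
/-- Let f : X → Y be flat, locally quasi-finite and locally of finite presentation. Then the function w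
sending a point x over y to length(O_{X,x} / m_y O_{X,x}) · [κ(x) : κ(y)]_i (inseparable degree) is
a weighting of f with positive values. -/
theorem result {X Y : Scheme.{u}} (f : X ⟶ Y) [LocallyQuasiFinite f] [Flat f] [LocallyOfFinitePresentation f] :
    let w : ↑X → ℤ := fun x =>
      (Module.length ↑(X.presheaf.stalk x) (↑(X.presheaf.stalk x) ⧸ Ideal.map (f.stalkMap x).hom (IsLocalRing.maximalIdeal ↑(Y.presheaf.stalk (f x))))).toNat *
      (letI := (f.residueFieldMap x).hom.toAlgebra
       (Field.finInsepDegree (Y.residueField (f x)) (X.residueField x) : ℤ))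
    MoreMor.IsWeighting f w ∧ ∀ x, 0 < w x := by
  intro w
  exact ⟨main f, wt_pos f⟩

end Groth.Agent.S1421
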