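import Groth.Statements.S14211
import Groth.Agent.Lib.Helper59.Quat

set_option autoImplicit false
universe u v
open scoped TensorProduct
open Brauer

namespace Groth.Agent.S14211

/-- Let k be a field in which 2 ≠ 0 and A a finite-dimensional central simple k-algebra. Then A has
period 2 and index 2 (its Severi–Brauer variety has type (2, 2, 2m)) if and only if A is isomorphic
over k to a matrix algebra M_m(Q), m ≥ 1, over a quaternion algebra Q = (a, b)_k (the k-algebra with
basis 1, i, j, ij, i² = a, j² = b, ij = −ji) which is a division ring; moreover such a quaternion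
algebra is unique up to k-isomorphism. -/
theorem result (k : Type u) [Field k] (h2 : (2 : k) ≠ 0)
    (A : Type v) [Ring A] [Algebra k A] [Algebra.IsCentral k A] [IsSimpleRing A]
    [FiniteDimensional k A] :
    ((CSAGal.IsPeriod k A 2 ∧ CSAGal.IsIndex k A 2) ↔
      ∃ (a b : k) (m : ℕ), 0 < m ∧ (∀ x : QuaternionAlgebra k a 0 b, x ≠ 0 → IsUnit x) ∧
        Nonempty (A ≃ₐ[k] Matrix (Fin m) (Fin m) (QuaternionAlgebra k a 0 b))) ∧
    (∀ (a b a' b' : k) (m m' : ℕ),
      (∀ x : QuaternionAlgebra k a 0 b, x ≠ 0 → IsUnit x) →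
      (∀ x : QuaternionAlgebra k a' 0 b', x ≠ 0 → IsUnit x) →
      Nonempty (A ≃ₐ[k] Matrix (Fin m) (Fin m) (QuaternionAlgebra k a 0 b)) →
      Nonempty (A ≃ₐ[k] Matrix (Fin m') (Fin m') (QuaternionAlgebra k a' 0 b')) →
      Nonempty (QuaternionAlgebra k a 0 b ≃ₐ[k] QuaternionAlgebra k a' 0 b')) := by
  have hA : Groth.Agent.Lib.Helper59.TPow.IsCSA k A := Groth.Agent.Lib.Helper59.TPow.isCSA_of k A
  refine ⟨⟨?_, ?_⟩, ?_⟩
  · rintro ⟨-, -, m, D, _, _, hm, hdim, ⟨iso⟩⟩
    haveI : FiniteDimensional k D := by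
      apply Module.finite_of_finrank_pos
      rw [hdim]; norm_num
    obtain ⟨-, hD⟩ := Groth.Agent.Lib.Helper59.BrauerCalc.isCSA_division hA iso
    obtain ⟨a, b, ⟨ψ⟩⟩ := Groth.Agent.Lib.Helper59.Quat.exists_quaternion_of_division h2 hD hdim
    refine ⟨a, b, m, hm, ?_, ⟨iso.trans (AlgEquiv.mapMatrix ψ.symm)⟩⟩
    intro x hx
    have hne : ψ x ≠ 0 := fun h => hx ((map_eq_zero_iff ψ ψ.injective).mp h)
    have hu : IsUnit (ψ x) := isUnit_iff_ne_zero.mpr hne
    exact (isUnit_map_iff ψ x).mp hu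
  · rintro ⟨a, b, m, -, hdiv, ⟨e⟩⟩
    exact Groth.Agent.Lib.Helper59.Quat.period_index_of_matrix h2 hA hdiv e
  · intro a b a' b' m m' hdiv hdiv' ⟨e⟩ ⟨e'⟩
    have hm : m ≠ 0 := by
      rintro rfl
      have : Subsingleton A := e.toEquiv.subsingleton
      exact not_subsingleton A this
    have hm' : m' ≠ 0 := by
      rintro rfl
      have : Subsingleton A := e'.toEquiv.subsingleton
      exact not_subsingleton A this
    have hQ := Groth.Agent.Lib.Helper59.Quat.isCSA_of_division h2 hdiv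
    have hQ' := Groth.Agent.Lib.Helper59.Quat.isCSA_of_division h2 hdiv'
    refine Groth.Agent.Lib.Helper59.Brauer.BrEq.nonempty_algEquiv hQ hQ' ?_ ?_
    · exact ((Groth.Agent.Lib.Helper59.Brauer.BrEq.matrix m hm).symm.trans
        (Groth.Agent.Lib.Helper59.Brauer.BrEq.of_algEquiv e.symm)).trans
        ((Groth.Agent.Lib.Helper59.Brauer.BrEq.of_algEquiv e').trans
          (Groth.Agent.Lib.Helper59.Brauer.BrEq.matrix m' hm'))
    · rw [QuaternionAlgebra.finrank_eq_four, QuaternionAlgebra.finrank_eq_four]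

end Groth.Agent.S14211
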