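import Groth.Statements.S14230
-- import your own Groth.Agent.* helpers here
import Groth.Agent.Lib.Helper72.ChamberFacet

set_option autoImplicit false
universe u v w x
open RootCh RootCh.Facet

namespace Groth.Agent.S14230

/-- For a finite reduced crystallographic root system over a linearly ordered field and a facet F, the
vectors of F are exactly the linear combinations of the corners of F in which every corner of F
occurs with a strictly positive coefficient (written with a finitely supported coefficient function
supported inside the set of corners). -/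
theorem result {ι : Type u} {R : Type v} {M : Type w} {N : Type x}
    [Field R] [LinearOrder R] [IsStrictOrderedRing R]
    [AddCommGroup M] [Module R M] [AddCommGroup N] [Module R N] [Finite ι]
    (P : RootPairing ι R M N) [P.IsRootSystem] [P.IsCrystallographic] [P.IsReduced] (F : RootCh.Facet P) :
    F.carrier = {ξ : M | ∃ c : M →₀ R, (c.support : Set M) ⊆ F.corners ∧
      (∀ m ∈ F.corners, 0 < c m) ∧ c.sum (fun m r => r • m) = ξ} := by
  classical
  obtain ⟨b, hb⟩ := Groth.Agent.Lib.Helper72.Chamber.Facet.exists_mem_cham F
  ext ξ
  simp only [Set.mem_ofPred_eq]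
  constructor
  · intro hξ
    have hc := (Groth.Agent.Lib.Helper72.Chamber.Facet.mem_carrier_iff hb ξ).mp hξ
    let a : b.support →₀ R := Finsupp.equivFunOnFinite.symm (fun i => P.coroot' i ξ)
    have ha : ∀ i, a i = P.coroot' i ξ := fun i => rfl
    refine ⟨a.mapDomain (RootCh.fundWeight b), ?_, ?_, ?_⟩
    · intro m hm
      have := Finsupp.mapDomain_support hm
      obtain ⟨i, hi, rfl⟩ := Finset.mem_image.mp this
      apply Groth.Agent.Lib.Helper72.Chamber.Facet.fundWeight_mem_corners hb
      by_contra h1
      have h0 := (hc i i.2).2 h1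
      rw [Finsupp.mem_support_iff, ha] at hi
      exact hi h0
    · intro m hm
      obtain ⟨i, hi, rfl⟩ := Groth.Agent.Lib.Helper72.Chamber.Facet.exists_of_mem_corners hb hm
      rw [Finsupp.mapDomain_apply (Groth.Agent.Lib.Helper72.Chamber.fundWeight_injective b), ha]
      exact (hc i i.2).1 hi
    · rw [Finsupp.sum_mapDomain_index (by simp) (by intros; simp [add_smul])]
      rw [Finsupp.sum_fintype _ _ (by simp)]
      exact (Groth.Agent.Lib.Helper72.RootChLib.eq_sum_fundWeight b ξ).symm
  · rintro ⟨c, hsupp, hpos, rfl⟩
    rw [Groth.Agent.Lib.Helper72.Chamber.Facet.mem_carrier_iff hb]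
    intro k hk
    have hval : P.coroot' k (c.sum fun m r => r • m) =
        ∑ m ∈ c.support, c m * P.coroot' k m := by
      rw [Finsupp.sum, map_sum]
      simp
    have hoff : ∀ m ∈ c.support, m ≠ RootCh.fundWeight b ⟨k, hk⟩ →
        c m * P.coroot' k m = 0 := by
      intro m hm hne
      obtain ⟨i, hi, rfl⟩ :=
        Groth.Agent.Lib.Helper72.Chamber.Facet.exists_of_mem_corners hb (hsupp hm)
      have hik : (⟨k, hk⟩ : b.support) ≠ i := by
        rintro rfl; exact hne rfl
      have := RootCh.coroot'_fundWeight_of_ne b i ⟨k, hk⟩ hik
      change P.coroot' k _ = 0 at this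
      rw [this, mul_zero]
    rw [hval]
    constructor
    · intro h1
      have hm₀ := Groth.Agent.Lib.Helper72.Chamber.Facet.fundWeight_mem_corners hb
        (i := ⟨k, hk⟩) h1
      rw [Finset.sum_eq_single (RootCh.fundWeight b ⟨k, hk⟩) hoff]
      · have := RootCh.coroot'_fundWeight_self b ⟨k, hk⟩
        change P.coroot' k _ = 1 at this
        rw [this, mul_one]
        exact hpos _ hm₀
      · intro h
        rw [Finsupp.notMem_support_iff.mp h, zero_mul]
    · intro h1
      apply Finset.sum_eq_zero
      intro m hm
      apply hoff m hm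
      rintro rfl
      obtain ⟨i, hi, hi'⟩ :=
        Groth.Agent.Lib.Helper72.Chamber.Facet.exists_of_mem_corners hb (hsupp hm)
      have := Groth.Agent.Lib.Helper72.Chamber.fundWeight_injective b hi'
      subst this
      exact h1 hi

end Groth.Agent.S14230
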