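import Groth.Statements.S14234
-- import your own Groth.Agent.* helpers here
import Groth.Agent.Lib.Helper72.ChamberDual

set_option autoImplicit false
universe u v w x
open RootCh RootCh.Facet

namespace Groth.Agent.S14234

/-- For a finite reduced crystallographic root system over a linearly ordered field and a facet F, let
R(F) be the parabolic set of roots of F, the roots whose pairing with the vectors of F is not
negative (equivalently, the roots pairing non-negatively with the fundamental coweights
corresponding to the corners of F). Then a fundamental weight is a corner of F if and only if its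
corresponding fundamental coweight pairs non-negatively with every root of R(F). -/
theorem result {ι : Type u} {R : Type v} {M : Type w} {N : Type x}
    [Field R] [LinearOrder R] [IsStrictOrderedRing R]
    [AddCommGroup M] [Module R M] [AddCommGroup N] [Module R N] [Finite ι]
    (P : RootPairing ι R M N) [P.IsRootSystem] [P.IsCrystallographic] [P.IsReduced] (F : RootCh.Facet P) :
    F.corners = {m : M | m ∈ RootCh.fundWeights P ∧
      ∀ y : N, RootCh.Corr P m y → ∀ i ∈ F.parab, 0 ≤ P.root' i y} := by
  obtain ⟨b, hb⟩ := Groth.Agent.Lib.Helper72.Chamber.Facet.exists_mem_cham F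
  ext m
  simp only [Set.mem_ofPred_eq]
  constructor
  · intro hm
    refine ⟨hm.1, ?_⟩
    obtain ⟨i₀, hi₀, rfl⟩ := Groth.Agent.Lib.Helper72.Chamber.Facet.exists_of_mem_corners hb hm
    intro y hy i hi
    have hy' := Groth.Agent.Lib.Helper72.Chamber.eq_fundCoweight_of_corr hy
    subst hy'
    have hmem : RootCh.fundCoweight b i₀ ∈ F.dualCorners := by
      rw [Groth.Agent.Lib.Helper72.Chamber.Facet.dualCorners_eq hb]; exact ⟨i₀, hi₀, rfl⟩
    have hcl := hmem.2 i
    by_contra hneg
    rw [not_le] at hneg
    have h1 : RootCh.cosgnVec P (RootCh.fundCoweight b i₀) i = -1 := sign_neg hneg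
    rcases hcl with h | h
    · rw [h1] at h; exact absurd h (by decide)
    · rw [h1] at h; exact hi h.symm
  · rintro ⟨⟨b', i', rfl⟩, hcond⟩
    have hy := hcond (RootCh.fundCoweight b' i')
      (Groth.Agent.Lib.Helper72.Chamber.corr_self b' i')
    have hmem : RootCh.fundCoweight b' i' ∈ F.dualCorners := by
      refine ⟨⟨b'.flip, i', rfl⟩, fun i => ?_⟩
      have hnegi : P.root' (P.reflectionPerm i i) (RootCh.fundCoweight b' i') =
          -(P.root' i (RootCh.fundCoweight b' i')) := by
        change P.toLinearMap (P.root (P.reflectionPerm i i)) _ = -(P.toLinearMap (P.root i) _)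
        rw [Groth.Agent.Lib.Helper72.Chamber.root_reflectionPerm_self', map_neg,
          LinearMap.neg_apply]
      have hsn := Groth.Agent.Lib.Helper72.Chamber.Facet.sgn_neg F i
      change SignType.sign (P.root' i (RootCh.fundCoweight b' i')) = 0 ∨
        SignType.sign (P.root' i (RootCh.fundCoweight b' i')) = F.sgn i
      rcases h : F.sgn i with _ | _ | _
      · left
        rw [sign_eq_zero_iff]
        have h1 := hy i (by change F.sgn i ≠ -1; rw [h]; decide)
        have h2 := hy (P.reflectionPerm i i) (by change F.sgn _ ≠ -1; rw [hsn, h]; decide)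
        rw [hnegi] at h2
        linarith
      · have h2 := hy (P.reflectionPerm i i) (by change F.sgn _ ≠ -1; rw [hsn, h]; decide)
        rw [hnegi] at h2
        have h3 : P.root' i (RootCh.fundCoweight b' i') ≤ 0 := by linarith
        rcases h3.eq_or_lt with h4 | h4
        · left; rw [h4, sign_zero]
        · right; rw [sign_neg h4]; rfl
      · have h1 := hy i (by change F.sgn i ≠ -1; rw [h]; decide)
        rcases h1.eq_or_lt with h4 | h4
        · left; rw [← h4, sign_zero]
        · right; rw [sign_pos h4]; rfl
    rw [Groth.Agent.Lib.Helper72.Chamber.Facet.dualCorners_eq hb] at hmem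
    obtain ⟨i₀, hi₀, h⟩ := hmem
    have hc : RootCh.Corr P (RootCh.fundWeight b' i') (RootCh.fundCoweight b i₀) :=
      h ▸ Groth.Agent.Lib.Helper72.Chamber.corr_self b' i'
    rw [Groth.Agent.Lib.Helper72.Chamber.eq_fundWeight_of_corr hc]
    exact Groth.Agent.Lib.Helper72.Chamber.Facet.fundWeight_mem_corners hb hi₀

end Groth.Agent.S14234
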