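import Groth.Statements.S14249
-- import your own Groth.Agent.* helpers here
import Groth.Agent.Lib.Helper72.RootChLib

set_option autoImplicit false
universe u v w x
open RootCh RootCh.Facet

namespace Groth.Agent.S14249

/-- For a finite reduced crystallographic root system over a linearly ordered field with a complementary
convex solid d (a vector d(b) of N for every Weyl chamber b, subject to (B1): a common corner of two
chambers pairs equally with their d-values, and (B2): across a wall, the root that changes sign from
positive to negative does not pair more with d on the positive side) and a facet F, the degree of F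
computed at a chamber b whose closure contains F, namely the sum of ⟨α, d(b)⟩ over the roots α of
the parabolic set of F (the roots whose sign on F is not negative), does not depend on the choice of
such a chamber b. -/
theorem result {ι : Type u} {R : Type v} {M : Type w} {N : Type x}
    [Field R] [LinearOrder R] [IsStrictOrderedRing R]
    [AddCommGroup M] [Module R M] [AddCommGroup N] [Module R N] [Finite ι]
    (P : RootPairing ι R M N) [P.IsRootSystem] [P.IsCrystallographic] [P.IsReduced] (d : P.Base → N) (hd : RootCh.IsCCS d) (F : RootCh.Facet P)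
    (b b' : P.Base) (hb : b ∈ F.cham) (hb' : b' ∈ F.cham) :
    F.deg d b = F.deg d b' := by
  classical
  set S := (Set.toFinite F.parab).toFinset with hS
  set v : M := ∑ i ∈ S, P.root i with hv
  have hdeg : ∀ c : P.Base, F.deg d c = P.toLinearMap v (d c) := by
    intro c
    simp only [RootCh.Facet.deg, hv, map_sum, LinearMap.sum_apply]
    rfl
  obtain ⟨ξ, hξ⟩ := F.exists_sgnVec_eq
  have hξF : ξ ∈ F.carrier := hξ
  have hξb : ξ ∈ RootCh.closedChamber b := hb hξF
  have hξb' : ξ ∈ RootCh.closedChamber b' := hb' hξF
  have hsgn : ∀ j, F.sgn j = SignType.sign (P.coroot' j ξ) := fun j ↦ by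
    rw [← hξ]; rfl
  rw [hdeg b, hdeg b',
    Groth.Agent.Lib.Helper72.RootChLib.toLinearMap_eq_sum_fundWeight b v (d b),
    Groth.Agent.Lib.Helper72.RootChLib.toLinearMap_eq_sum_fundWeight b v (d b')]
  refine Finset.sum_congr rfl fun i _ => ?_
  by_cases hi : F.sgn i = 0
  · -- the coefficient vanishes
    have hξi : P.coroot' i ξ = 0 := by
      rw [hsgn] at hi
      exact sign_eq_zero_iff.mp hi
    have hinv : ∀ j, F.sgn (P.reflectionPerm i j) = F.sgn j := by
      intro j
      rw [hsgn, hsgn, RootPairing.coroot'_reflectionPerm, LinearMap.comp_apply,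
        LinearEquiv.coe_coe, RootPairing.reflection_apply, hξi, zero_smul, sub_zero]
    have hmem : ∀ j, j ∈ S ↔ P.reflectionPerm i j ∈ S := by
      intro j
      simp only [hS, Set.Finite.mem_toFinset, RootCh.Facet.parab, Set.mem_ofPred_eq, hinv]
    have hrefl : P.reflection i v = v := by
      rw [hv, map_sum]
      have := Finset.sum_equiv (s := S) (t := S) (P.reflectionPerm i) hmem
        (f := fun j ↦ P.root (P.reflectionPerm i j)) (g := fun j ↦ P.root j) (fun j _ ↦ rfl)
      rw [← this]
      exact Finset.sum_congr rfl fun j _ ↦ (P.root_reflectionPerm i j).symm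
    rw [RootPairing.reflection_apply, sub_eq_self, smul_eq_zero] at hrefl
    have hcoef : P.coroot' i v = 0 := hrefl.resolve_right (P.ne_zero i)
    rw [hcoef, zero_mul, zero_mul]
  · congr 1
    have hpos : 0 < P.coroot' i ξ := by
      have h1 : 0 ≤ P.coroot' i ξ := hξb i i.2
      rw [hsgn] at hi
      have h2 : P.coroot' i ξ ≠ 0 := fun h ↦ hi (by rw [h, sign_zero])
      exact lt_of_le_of_ne h1 (Ne.symm h2)
    refine hd.corner_eq b b' _
      (Groth.Agent.Lib.Helper72.RootChLib.fundWeight_mem_baseCorners b i) ⟨⟨b, i, rfl⟩, ?_⟩
    intro j hj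
    have hw := Groth.Agent.Lib.Helper72.RootChLib.fundWeight_mem_closedChamber b i
    rcases b.coroot_mem_or_neg_mem j with h | h
    · exact Groth.Agent.Lib.Helper72.RootChLib.nonneg_of_mem_closure hw h
    · have h1 := Groth.Agent.Lib.Helper72.RootChLib.fundWeight_mul_le i hξb h
      have h2 : 0 ≤ P.toLinearMap ξ (P.coroot j) := hξb' j hj
      have h3 := Groth.Agent.Lib.Helper72.RootChLib.nonneg_of_mem_closure hw h
      rw [map_neg] at h1 h3
      rw [map_neg] at h1
      change 0 ≤ P.toLinearMap (RootCh.fundWeight b i) (P.coroot j)
      by_contra hneg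
      rw [not_le] at hneg
      have h4 : 0 < -P.toLinearMap (RootCh.fundWeight b i) (P.coroot j) := neg_pos.mpr hneg
      have h5 := mul_pos h4 hpos
      linarith

end Groth.Agent.S14249
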