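import Groth.Statements.S1425
import Groth.Agent.Lib.Helper70.UniquePoint

set_option autoImplicit false
universe u
open FlatMor

namespace Groth.Agent.S1425

open AlgebraicGeometry CategoryTheory Limits in
/-- A weighting of a locally quasi-finite morphism taking positive values is upper semicontinuous on X. -/
theorem result {X Y : Scheme.{u}} (f : X ⟶ Y) [LocallyQuasiFinite f] [LocallyOfFiniteType f] (w : ↑X → ℤ) (hw : MoreMor.IsWeighting f w) (hpos : ∀ x, 0 < w x) :
    UpperSemicontinuous w := by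
  classical
  intro x
  obtain ⟨Ω, _, _, s, rfl⟩ := Groth.Agent.Lib.Helper70.GeomPts.exists_geometric_point x
  obtain ⟨V, g, hg, W, k, hk, t, hfin, hts, huniq⟩ :=
    Groth.Agent.Lib.Helper70.UniquePoint.exists_etale_unique_gpt f s
  have hlc := Groth.Agent.Lib.Helper70.UniquePoint.isLocallyConstant_of_isWeighting f w hw g k hfin
  obtain ⟨q, hq⟩ : ∃ q : W ⟶ V, q = k ≫ pullback.snd f g := ⟨_, rfl⟩
  obtain ⟨p, hp⟩ : ∃ p : W ⟶ X, p = k ≫ pullback.fst f g := ⟨_, rfl⟩
  rw [← hq] at hlc hfin huniq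
  have hw' : (fun u => w (pullback.fst f g (k u))) = w ∘ ⇑p := by
    funext u; rw [hp]; rfl
  rw [hw'] at hlc
  rw [← hp] at hts
  haveI : IsFinite q := hfin
  haveI : Etale p := by rw [hp]; infer_instance
  have hfib : ∀ v : V, (q ⁻¹' {v}).Finite := fun v => Scheme.Hom.finite_preimage_singleton q v
  -- the value at the distinguished point
  have hval : MoreMor.fibreIntegral q (w ∘ ⇑p) ((t ≫ q) (IsLocalRing.closedPoint Ω)) =
      w (s (IsLocalRing.closedPoint Ω)) := by
    rw [Groth.Agent.Lib.Helper70.GeomPts.fibreIntegral_eq_finsum_gpts Ω q _ (t ≫ q) (hfib _)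
      (fun u _ => Groth.Agent.Lib.Helper70.GeomPts.finite_residueFieldMap q u)]
    letI : Unique (Groth.Agent.Lib.Helper70.GeomPts.GPts Ω q (t ≫ q)) :=
      ⟨⟨⟨t, rfl⟩⟩, fun t' => Subtype.ext (huniq t'.1 t'.2)⟩
    rw [finsum_unique]
    change w ((t ≫ p) (IsLocalRing.closedPoint Ω)) = _
    rw [hts]
  -- a single term is bounded by the integral
  have hle : ∀ u : W, w (p u) ≤ MoreMor.fibreIntegral q (w ∘ ⇑p) (q u) := by
    intro u
    unfold MoreMor.fibreIntegral
    haveI : Finite {u' : W // q u' = q u} := (hfib (q u)).to_subtype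
    have := Fintype.ofFinite {u' : W // q u' = q u}
    rw [finsum_eq_sum_of_fintype]
    refine le_trans ?_ (Finset.single_le_sum (f := fun u' : {u' : W // q u' = q u} =>
      (w ∘ ⇑p) u'.1 * (letI := (q.residueFieldMap u'.1).hom.toAlgebra
        (Field.finSepDegree (V.residueField (q u'.1)) (W.residueField u'.1) : ℤ)))
      (fun i _ => mul_nonneg (hpos _).le (Int.natCast_nonneg _)) (Finset.mem_univ ⟨u, rfl⟩))
    letI := (q.residueFieldMap u).hom.toAlgebra
    haveI : Module.Finite (V.residueField (q u)) (W.residueField u) :=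
      Groth.Agent.Lib.Helper70.GeomPts.finite_residueFieldMap q u
    have h1 : 1 ≤ Field.finSepDegree (V.residueField (q u)) (W.residueField u) :=
      Nat.one_le_iff_ne_zero.mpr (NeZero.ne _)
    have h2 : (1 : ℤ) ≤ (Field.finSepDegree (V.residueField (q u)) (W.residueField u) : ℤ) := by
      exact_mod_cast h1
    have h3 := (hpos (p u)).le
    change w (p u) ≤ w (p u) * _
    nlinarith
  intro c hc
  rw [Filter.eventually_iff_exists_mem]
  let N : Set V := {v | MoreMor.fibreIntegral q (w ∘ ⇑p) v =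
    MoreMor.fibreIntegral q (w ∘ ⇑p) ((t ≫ q) (IsLocalRing.closedPoint Ω))}
  have hN : IsOpen N := hlc.isOpen_fiber _
  refine ⟨p '' (q ⁻¹' N), ?_, ?_⟩
  · apply IsOpen.mem_nhds
    · exact p.isOpenMap _ (hN.preimage q.continuous)
    · refine ⟨t (IsLocalRing.closedPoint Ω), ?_, ?_⟩
      · change MoreMor.fibreIntegral q (w ∘ ⇑p) (q (t (IsLocalRing.closedPoint Ω))) = _
        rfl
      · rw [← hts]; rfl
  · rintro _ ⟨u, hu, rfl⟩
    have h1 := hle u
    have h2 : MoreMor.fibreIntegral q (w ∘ ⇑p) (q u) = _ := hu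
    rw [h2, hval] at h1
    exact lt_of_le_of_lt h1 hc

end Groth.Agent.S1425
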