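import Groth.Statements.S14918
import Groth.Agent.Lib.Helper25.PerfScheme2

set_option autoImplicit false
universe u
open CategoryTheory AlgebraicGeometry
open PerfSch

namespace Groth.Agent.S14918

/-- Let p be a prime and let X, Y, X', Y' be schemes of characteristic p (p = 0 in the structure sheaf).
Let π_X : X' ⟶ X and π_Y : Y' ⟶ Y be perfections: X' is perfect (its absolute Frobenius is an
isomorphism) and every morphism from a perfect scheme of characteristic p to X factors uniquely
through π_X, and likewise for π_Y. Let f : X ⟶ Y be a morphism and f' : X' ⟶ Y' the induced morphism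
of perfections, the one with f' ≫ π_Y = π_X ≫ f. Then f is a universal homeomorphism (every base
change is a homeomorphism of underlying spaces) if and only if f' is a universal homeomorphism
(every base change is a homeomorphism of underlying spaces). -/
theorem result (p : ℕ) [Fact p.Prime] {X Y XP YP : Scheme.{u}}
    [FrobSch.IsCharP X p] [FrobSch.IsCharP Y p] [FrobSch.IsCharP XP p] [FrobSch.IsCharP YP p]
    (πX : XP ⟶ X) (πY : YP ⟶ Y) (hX : FrobSch.IsPerfection πX p) (hY : FrobSch.IsPerfection πY p)
    (f : X ⟶ Y) (fP : XP ⟶ YP) (w : fP ≫ πY = πX ≫ f) :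
    FlatMor.IsUnivHomeo f ↔ FlatMor.IsUnivHomeo fP := by
  have hπX : IsIntegralHom πX := Lib.Helper25.IsPerfection.isIntegralHom hX
  have hπY : IsIntegralHom πY := Lib.Helper25.IsPerfection.isIntegralHom hY
  have hsX : Surjective πX := Lib.Helper25.IsPerfection.surjective hX
  have hsY : Surjective πY := Lib.Helper25.IsPerfection.surjective hY
  have hiX : UniversallyInjective πX := Lib.Helper25.IsPerfection.universallyInjective hX
  have hiY : UniversallyInjective πY := Lib.Helper25.IsPerfection.universallyInjective hY
  have hiX' := ((tfae_universallyInjective πX).out 0 1).mp hiX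
  have hiY' := ((tfae_universallyInjective πY).out 0 1).mp hiY
  rw [Lib.Helper25.isUnivHomeo_iff, Lib.Helper25.isUnivHomeo_iff]
  constructor
  · rintro ⟨hc, hi, hs⟩
    refine ⟨?_, ?_, ?_⟩
    · have : UniversallyClosed (fP ≫ πY) := by
        rw [w]
        infer_instance
      exact UniversallyClosed.of_comp_of_isSeparated fP πY
    · refine ((tfae_universallyInjective fP).out 0 1).mpr ?_
      intro K _ g₁ g₂ hg
      dsimp only at hg
      apply hiX' K
      dsimp only
      have hi' := ((tfae_universallyInjective f).out 0 1).mp hi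
      apply hi' K
      dsimp only
      rw [Category.assoc, Category.assoc, ← w, ← Category.assoc, ← Category.assoc, hg]
    · constructor
      intro y'
      obtain ⟨x, hx⟩ := hs.surj (πY y')
      obtain ⟨x', rfl⟩ := hsX.surj x
      refine ⟨x', ?_⟩
      apply (Scheme.Hom.injective πY)
      rw [← Scheme.Hom.comp_apply, w, Scheme.Hom.comp_apply, hx]
  · rintro ⟨hc, hi, hs⟩
    refine ⟨?_, ?_, ?_⟩
    · have : UniversallyClosed (πX ≫ f) := by
        rw [← w]
        infer_instance
      exact UniversallyClosed.of_comp_surjective πX f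
    · refine ((tfae_universallyInjective f).out 0 1).mpr ?_
      intro K _ g₁ g₂ hg
      dsimp only at hg
      have : FrobSch.IsCharP (Spec (.of K)) p := FrobSch.IsCharP.of_hom g₁ p
      have hK : (p : K) = 0 := Lib.Helper25.natCast_eq_zero_of_isCharP_Spec (p := p) (.of K)
      obtain ⟨K', _, ι, _, hT, hepi⟩ := Lib.Helper25.exists_perfect_field_ext (p := p) K hK
      rw [← cancel_epi (Spec.map ι)]
      obtain ⟨h₁, hh₁⟩ := (hX.2 _ hT).2 (Spec.map ι ≫ g₁)
      obtain ⟨h₂, hh₂⟩ := (hX.2 _ hT).2 (Spec.map ι ≫ g₂)
      dsimp only at hh₁ hh₂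
      have h12 : h₁ = h₂ := by
        have hi' := ((tfae_universallyInjective fP).out 0 1).mp hi
        apply hi' K'
        dsimp only
        apply hiY' K'
        dsimp only
        rw [Category.assoc, Category.assoc, w, ← Category.assoc, ← Category.assoc, hh₁, hh₂,
          Category.assoc, Category.assoc, hg]
      rw [← hh₁, ← hh₂, h12]
    · constructor
      intro y
      obtain ⟨y', rfl⟩ := hsY.surj y
      obtain ⟨x', rfl⟩ := hs.surj y'
      refine ⟨πX x', ?_⟩
      rw [← Scheme.Hom.comp_apply, ← w, Scheme.Hom.comp_apply]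

end Groth.Agent.S14918
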