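import Groth.Statements.S14254
import Groth.Agent.Lib.Helper25.PerfIso2
import Groth.Agent.Lib.Helper25.PerfScheme2
import Groth.Agent.S14918
import Groth.Agent.S0415

set_option autoImplicit false
universe u
open CategoryTheory AlgebraicGeometry
open FrobAlg

namespace Groth.Agent.S14254

/-- Let p be a prime, φ : A → B a map of commutative rings of characteristic p, i : A → A' and j : B →
B' perfect closures (A' and B' are perfect rings of characteristic p, every element of A' resp. B'
has a p^n-th power in the image of i resp. j, and the kernels of i and j consist of nilpotent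
elements), and φ' : A' → B' the induced map, φ' ∘ i = j ∘ φ. Then Spec φ : Spec B ⟶ Spec A is a
universal homeomorphism if and only if φ' is bijective. (The published statement is for an arbitrary
morphism of schemes over the prime field and its perfection; this row is the case of affine schemes,
the perfection of Spec A being Spec of the perfect closure of A.) -/
theorem result (p : ℕ) [Fact p.Prime]
    {A B A' B' : Type u} [CommRing A] [CommRing B] [CommRing A'] [CommRing B']
    [CharP A p] [CharP B p] [CharP A' p] [CharP B' p] [PerfectRing A' p] [PerfectRing B' p]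
    (φ : A →+* B) (i : A →+* A') (j : B →+* B') [IsPerfectClosure i p] [IsPerfectClosure j p]
    (φ' : A' →+* B') (hφ : φ'.comp i = j.comp φ) :
    FlatMor.IsUnivHomeo (Spec.map (CommRingCat.ofHom φ)) ↔ Function.Bijective φ' := by
  classical
  open Groth.Agent.Lib.Helper25 in
  have hA0 : (p : A) = 0 := CharP.cast_eq_zero A p
  have hB0 : (p : B) = 0 := CharP.cast_eq_zero B p
  have hA'0 : (p : A') = 0 := CharP.cast_eq_zero A' p
  have hB'0 : (p : B') = 0 := CharP.cast_eq_zero B' p
  have hpi : IsPRadical i p := inferInstance
  have hpj : IsPRadical j p := inferInstance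
  have hcX : FrobSch.IsCharP (Spec (CommRingCat.of B)) p := inferInstance
  have hcY : FrobSch.IsCharP (Spec (CommRingCat.of A)) p := inferInstance
  have hcXP : FrobSch.IsCharP (Spec (CommRingCat.of B')) p := inferInstance
  have hcYP : FrobSch.IsCharP (Spec (CommRingCat.of A')) p := inferInstance
  have hX : FrobSch.IsPerfection (Spec.map (CommRingCat.ofHom j)) p :=
    Groth.Agent.Lib.Helper25.isPerfection_SpecMap (p := p)
      (A := CommRingCat.of B) (B := CommRingCat.of B') (CommRingCat.ofHom j) hB0 hB'0
  have hY : FrobSch.IsPerfection (Spec.map (CommRingCat.ofHom i)) p :=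
    Groth.Agent.Lib.Helper25.isPerfection_SpecMap (p := p)
      (A := CommRingCat.of A) (B := CommRingCat.of A') (CommRingCat.ofHom i) hA0 hA'0
  have w : Spec.map (CommRingCat.ofHom φ') ≫ Spec.map (CommRingCat.ofHom i) =
      Spec.map (CommRingCat.ofHom j) ≫ Spec.map (CommRingCat.ofHom φ) := by
    rw [← Spec.map_comp, ← Spec.map_comp, ← CommRingCat.ofHom_comp, ← CommRingCat.ofHom_comp, hφ]
  rw [Groth.Agent.S14918.result p (Spec.map (CommRingCat.ofHom j)) (Spec.map (CommRingCat.ofHom i))
    hX hY (Spec.map (CommRingCat.ofHom φ)) (Spec.map (CommRingCat.ofHom φ')) w]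
  constructor
  · intro h
    obtain ⟨h1, h2, h3⟩ := (Groth.Agent.S0415.result _).mp h
    have hredA : IsReduced (CommRingCat.of A') := Groth.Agent.Lib.Helper25.isReduced_of_perfectRing (p := p) A'
    have hredB : IsReduced (CommRingCat.of B') := Groth.Agent.Lib.Helper25.isReduced_of_perfectRing (p := p) B'
    have hsurj : ∀ a : (CommRingCat.of A'), ∃ c : (CommRingCat.of A'), c ^ p = a := fun a =>
      ⟨(frobeniusEquiv A' p).symm a, frobeniusEquiv_symm_pow_p A' p a⟩
    exact Groth.Agent.Lib.Helper25.bijective_of_spec_radicial (p := p)
      (R := CommRingCat.of A') (S := CommRingCat.of B') (CommRingCat.ofHom φ') hsurj hB'0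
  · intro hbij
    have hiso : IsIso (CommRingCat.ofHom φ') :=
      (ConcreteCategory.isIso_iff_bijective (CommRingCat.ofHom φ')).mpr hbij
    have : IsIso (Spec.map (CommRingCat.ofHom φ')) := inferInstance
    rw [Groth.Agent.Lib.Helper25.isUnivHomeo_iff]
    exact ⟨inferInstance, inferInstance, inferInstance⟩

end Groth.Agent.S14254
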