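import Groth.Statements.S14255
-- import your own Groth.Agent.* helpers here
import Groth.Agent.Lib.Helper72.Perfect

set_option autoImplicit false
universe u
open FrobAlg

namespace Groth.Agent.S14255

/-- Let p be a prime, φ : A → B a flat map of commutative rings of characteristic p, i : A → A' and j :
B → B' perfect closures (A', B' perfect rings of characteristic p, every element of A' resp. B' has
a p^n-th power in the image of i resp. j, the kernels of i and j consist of nilpotent elements), and
φ' : A' → B' the induced map, φ' ∘ i = j ∘ φ. Then φ' is flat. (The published statement is that the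
perfection of a flat morphism of schemes over the prime field is flat; this row is its affine case,
to which the published proof reduces.) -/
theorem result (p : ℕ) [Fact p.Prime]
    {A B A' B' : Type u} [CommRing A] [CommRing B] [CommRing A'] [CommRing B']
    [CharP A p] [CharP B p] [CharP A' p] [CharP B' p] [PerfectRing A' p] [PerfectRing B' p]
    (φ : A →+* B) (hflat : φ.Flat) (i : A →+* A') (j : B →+* B') [IsPerfectClosure i p] [IsPerfectClosure j p]
    (φ' : A' →+* B') (hφ : φ'.comp i = j.comp φ) : φ'.Flat := by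
  classical
  have hp : p.Prime := Fact.out
  let algφ : Algebra A B := φ.toAlgebra
  let algφ' : Algebra A' B' := φ'.toAlgebra
  have hflat' : Module.Flat A B := hflat
  change Module.Flat A' B'
  have hcomm : ∀ a : A, φ' (i a) = j (φ a) := fun a => by
    have := congrArg (fun g : A →+* B' => g a) hφ
    simpa using this
  refine Module.Flat.of_forall_isTrivialRelation ?_
  intro l f' x' hrel
  replace hrel : ∑ k, φ' (f' k) * x' k = 0 := by
    simpa [Algebra.smul_def, RingHom.algebraMap_toAlgebra] using hrel
  -- uniform exponents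
  obtain ⟨n₁, f₁, hf₁⟩ := Lib.Helper72.exists_uniform_pow i p f'
  obtain ⟨n, x, hn, hx⟩ := Lib.Helper72.exists_uniform_pow_ge j p x' n₁
  let f : Fin l → A := fun k => f₁ k ^ p ^ (n - n₁)
  have hf : ∀ k, i (f k) = f' k ^ p ^ n := fun k => by
    simp only [f, map_pow, hf₁ k]
    rw [← pow_mul, ← pow_add, Nat.add_sub_cancel' hn]
  -- z = ∑ φ (f k) * x k is killed by j
  have hz : j (∑ k, φ (f k) * x k) = 0 := by
    rw [map_sum]
    have h2 : (∑ k, φ' (f' k) * x' k) ^ p ^ n = 0 := by rw [hrel, zero_pow (pow_ne_zero _ hp.ne_zero)]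
    rw [sum_pow_char_pow] at h2
    rw [← h2]
    refine Finset.sum_congr rfl fun k _ => ?_
    rw [map_mul, ← hcomm, hf k, hx k, map_pow, mul_pow]
  have hz' : (∑ k, φ (f k) * x k) ∈ pNilradical B p :=
    IsPRadical.ker_le j p ((RingHom.mem_ker).mpr hz)
  obtain ⟨m, hm⟩ := mem_pNilradical.mp hz'
  rw [sum_pow_char_pow] at hm
  have hrelB : ∑ k, (f k ^ p ^ m) • (x k ^ p ^ m) = 0 := by
    rw [← hm]
    refine Finset.sum_congr rfl fun k _ => ?_
    rw [Algebra.smul_def, RingHom.algebraMap_toAlgebra, map_pow, mul_pow]
  obtain ⟨K, a, y, hxy, hfa⟩ := Module.Flat.isTrivialRelation_of_sum_smul_eq_zero hrelB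
  replace hxy : ∀ k, x k ^ p ^ m = ∑ t, a k t • y t := hxy
  replace hfa : ∀ t, ∑ k, f k ^ p ^ m * a k t = 0 := hfa
  -- take roots
  let N := n + m
  refine ⟨K, fun k t => Lib.Helper72.proot A' p N (i (a k t)),
    fun t => Lib.Helper72.proot B' p N (j (y t)), fun k => ?_, fun t => ?_⟩
  · apply Lib.Helper72.pow_p_pow_injective p N
    simp only
    rw [sum_pow_char_pow]
    have h1 : x' k ^ p ^ N = j (x k ^ p ^ m) := by
      rw [map_pow, hx k, ← pow_mul, ← pow_add]
    rw [h1, hxy k, map_sum]
    refine Finset.sum_congr rfl fun t _ => ?_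
    rw [Algebra.smul_def, RingHom.algebraMap_toAlgebra, Algebra.smul_def,
      RingHom.algebraMap_toAlgebra, map_mul, mul_pow, ← map_pow, Lib.Helper72.proot_pow,
      Lib.Helper72.proot_pow, hcomm]
  · apply Lib.Helper72.pow_p_pow_injective p N
    simp only
    rw [sum_pow_char_pow, zero_pow (pow_ne_zero _ hp.ne_zero)]
    have := congrArg i (hfa t)
    rw [map_sum, map_zero] at this
    rw [← this]
    refine Finset.sum_congr rfl fun k _ => ?_
    rw [mul_pow, Lib.Helper72.proot_pow, map_mul, map_pow, hf k, ← pow_mul, ← pow_add]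

end Groth.Agent.S14255
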