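import Groth.Statements.S14256
-- import your own Groth.Agent.* helpers here
import Mathlib.RingTheory.IntegralClosure.IsIntegralClosure.Basic

set_option autoImplicit false
universe u
open FrobAlg

namespace Groth.Agent.S14256

/-- Let p be a prime, φ : A → B a map of commutative rings of characteristic p, i : A → A' and j : B →
B' perfect closures (A', B' perfect rings of characteristic p, every element of A' resp. B' has a
p^n-th power in the image of i resp. j, the kernels of i and j consist of nilpotent elements), and
φ' : A' → B' the induced map, φ' ∘ i = j ∘ φ. Then φ is integral if and only if φ' is integral. (The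
published statement is that a morphism of schemes over the prime field is integral exactly when its
perfection is; this row is its affine case, to which the published proof reduces.) -/
theorem result (p : ℕ) [Fact p.Prime]
    {A B A' B' : Type u} [CommRing A] [CommRing B] [CommRing A'] [CommRing B']
    [CharP A p] [CharP B p] [CharP A' p] [CharP B' p] [PerfectRing A' p] [PerfectRing B' p]
    (φ : A →+* B) (i : A →+* A') (j : B →+* B') [IsPerfectClosure i p] [IsPerfectClosure j p]
    (φ' : A' →+* B') (hφ : φ'.comp i = j.comp φ) : φ.IsIntegral ↔ φ'.IsIntegral := by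
  classical
  have hp : p.Prime := Fact.out
  have hcomm : ∀ a : A, φ' (i a) = j (φ a) := fun a => by
    have := congrArg (fun g : A →+* B' => g a) hφ
    simpa using this
  constructor
  · intro hint b'
    obtain ⟨n, b, hb⟩ := IsPRadical.pow_mem j p b'
    obtain ⟨P, hPm, hP⟩ := hint b
    have h1 : Polynomial.eval₂ (j.comp φ) (j b) P = 0 := by
      rw [← Polynomial.hom_eval₂, hP, map_zero]
    rw [← hφ, ← Polynomial.eval₂_map] at h1
    have h2 : φ'.IsIntegralElem (b' ^ p ^ n) := ⟨P.map i, hPm.map i, by rw [← hb]; exact h1⟩
    let _ := φ'.toAlgebra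
    exact IsIntegral.of_pow (pow_pos hp.pos n) h2
  · intro hint b
    -- i is integral
    have hi : i.IsIntegral := by
      intro a'
      obtain ⟨n, a, ha⟩ := IsPRadical.pow_mem i p a'
      let _ := i.toAlgebra
      have : IsIntegral A (a' ^ p ^ n) := by
        rw [← ha]
        exact isIntegral_algebraMap (R := A) (A := A') (x := a)
      exact IsIntegral.of_pow (pow_pos hp.pos n) this
    have hcomp : (j.comp φ).IsIntegral := hφ ▸ RingHom.IsIntegral.trans i φ' hi hint
    obtain ⟨P, hPm, hP⟩ := hcomp (j b)
    rw [← Polynomial.hom_eval₂] at hP
    have hker : Polynomial.eval₂ φ b P ∈ pNilradical B p :=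
      IsPRadical.ker_le j p ((RingHom.mem_ker).mpr hP)
    obtain ⟨m, hm⟩ := mem_pNilradical.mp hker
    exact ⟨P ^ p ^ m, hPm.pow _, by rw [Polynomial.eval₂_pow, hm]⟩

end Groth.Agent.S14256
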