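import Groth.Statements.S14257
import Groth.Agent.Lib.Helper25.PerfScheme2
import Groth.Agent.S14922
import Mathlib.AlgebraicGeometry.Morphisms.Etale
import Mathlib.AlgebraicGeometry.Morphisms.IsIso

set_option autoImplicit false
universe u
open TensorProduct
open FrobAlg

namespace Groth.Agent.S14257

/-- Let p be a prime, A a commutative ring of characteristic p, B an etale A-algebra of characteristic
p, A → A' and B → B' perfect closures (A', B' perfect rings of characteristic p, every element of A'
resp. B' has a p^n-th power in the image of A resp. B, and the structure maps have kernels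
consisting of nilpotent elements), B' viewed as an A-algebra through B, and φ' : A' → B' a map of
A-algebras. Then the natural map A' ⊗_A B → B', a ⊗ b ↦ φ'(a) b, is bijective. (The published
statement is for an etale morphism X → Y of schemes over the prime field, where X_perf → X ×_Y
Y_perf is an isomorphism; this row is the affine case.) -/
theorem result (p : ℕ) [Fact p.Prime]
    (A B A' B' : Type u) [CommRing A] [CommRing B] [CommRing A'] [CommRing B']
    [CharP A p] [CharP B p] [CharP A' p] [CharP B' p] [PerfectRing A' p] [PerfectRing B' p]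
    [Algebra A B] [Algebra.Etale A B] [Algebra A A'] [Algebra B B'] [Algebra A B'] [IsScalarTower A B B']
    [IsPerfectClosure (algebraMap A A') p] [IsPerfectClosure (algebraMap B B') p]
    (φ' : A' →ₐ[A] B') :
    Function.Bijective (Algebra.TensorProduct.lift φ' (IsScalarTower.toAlgHom A B B')
      (fun a b => Commute.all (φ' a) (IsScalarTower.toAlgHom A B B' b))) := by
  classical
  open CategoryTheory CategoryTheory.Limits AlgebraicGeometry in
  have hA0 : (p : A) = 0 := CharP.cast_eq_zero A p
  have hB0 : (p : B) = 0 := CharP.cast_eq_zero B p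
  have hA'0 : (p : A') = 0 := CharP.cast_eq_zero A' p
  have hB'0 : (p : B') = 0 := CharP.cast_eq_zero B' p
  have hpi : IsPRadical (algebraMap A A') p := inferInstance
  have hpj : IsPRadical (algebraMap B B') p := inferInstance
  have hcX : FrobSch.IsCharP (Spec (CommRingCat.of B)) p := inferInstance
  have hcY : FrobSch.IsCharP (Spec (CommRingCat.of A)) p := inferInstance
  have hcXP : FrobSch.IsCharP (Spec (CommRingCat.of B')) p := inferInstance
  have hcYP : FrobSch.IsCharP (Spec (CommRingCat.of A')) p := inferInstance
  have hX : FrobSch.IsPerfection (Spec.map (CommRingCat.ofHom (algebraMap B B'))) p :=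
    Groth.Agent.Lib.Helper25.isPerfection_SpecMap (p := p)
      (A := CommRingCat.of B) (B := CommRingCat.of B') (CommRingCat.ofHom (algebraMap B B')) hB0 hB'0
  have hY : FrobSch.IsPerfection (Spec.map (CommRingCat.ofHom (algebraMap A A'))) p :=
    Groth.Agent.Lib.Helper25.isPerfection_SpecMap (p := p)
      (A := CommRingCat.of A) (B := CommRingCat.of A') (CommRingCat.ofHom (algebraMap A A')) hA0 hA'0
  have w : Spec.map (CommRingCat.ofHom (φ' : A' →+* B')) ≫
      Spec.map (CommRingCat.ofHom (algebraMap A A')) =
      Spec.map (CommRingCat.ofHom (algebraMap B B')) ≫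
        Spec.map (CommRingCat.ofHom (algebraMap A B)) := by
    rw [← Spec.map_comp, ← Spec.map_comp, ← CommRingCat.ofHom_comp, ← CommRingCat.ofHom_comp]
    congr 2
    ext a
    simp only [RingHom.coe_comp, Function.comp_apply, RingHom.coe_coe, AlgHom.commutes]
    exact (IsScalarTower.algebraMap_apply A B B' a)
  have het : AlgebraicGeometry.Etale (Spec.map (CommRingCat.ofHom (algebraMap A B))) := by
    rw [HasRingHomProperty.Spec_iff (P := @AlgebraicGeometry.Etale)]
    exact RingHom.etale_algebraMap.mpr inferInstance
  have hpb := Groth.Agent.S14922.result p (Spec.map (CommRingCat.ofHom (algebraMap B B')))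
    (Spec.map (CommRingCat.ofHom (algebraMap A A'))) hX hY
    (Spec.map (CommRingCat.ofHom (algebraMap A B)))
    (Spec.map (CommRingCat.ofHom (φ' : A' →+* B'))) w
  -- the lift map
  set L : A' ⊗[A] B →ₐ[A] B' := Algebra.TensorProduct.lift φ' (IsScalarTower.toAlgHom A B B')
      (fun a b => Commute.all (φ' a) (IsScalarTower.toAlgHom A B B' b)) with hL
  have key : Spec.map (CommRingCat.ofHom (L : A' ⊗[A] B →+* B')) ≫
      (pullbackSpecIso A A' B).inv = hpb.isoPullback.hom := by
    apply pullback.hom_ext
    · rw [Category.assoc, pullbackSpecIso_inv_fst, IsPullback.isoPullback_hom_fst,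
        ← Spec.map_comp, ← CommRingCat.ofHom_comp]
      congr 2
      ext a
      simp [hL]
    · rw [Category.assoc, pullbackSpecIso_inv_snd, IsPullback.isoPullback_hom_snd,
        ← Spec.map_comp, ← CommRingCat.ofHom_comp]
      congr 2
      ext b
      simp [hL]
  have hiso : IsIso (Spec.map (CommRingCat.ofHom (L : A' ⊗[A] B →+* B'))) := by
    have h1 : Spec.map (CommRingCat.ofHom (L : A' ⊗[A] B →+* B')) =
        hpb.isoPullback.hom ≫ (pullbackSpecIso A A' B).hom := by
      rw [← key, Category.assoc, Iso.inv_hom_id, Category.comp_id]
    rw [h1]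
    infer_instance
  exact isIso_SpecMap_iff.mp hiso

end Groth.Agent.S14257
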