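import Groth.Statements.S14275
import Groth.Agent.Lib.Helper65.ComplBdd

set_option autoImplicit false
universe u
open CAlg

namespace Groth.Agent.S14275

open Groth.Agent.Lib.Helper65.ComplSplit Groth.Agent.Lib.Helper65.ComplBdd

variable {A : Type u} [CommRing A]

theorem map_mkQ_eq_zero_of_mem (I J : Ideal A) (x : AdicCompletion I A)
    (hx : x ∈ J.map (algebraMap A (AdicCompletion I A))) :
    AdicCompletion.map I J.mkQ x = 0 := by
  unfold Ideal.map at hx
  refine Submodule.span_induction ?_ ?_ ?_ ?_ hx
  · rintro _ ⟨j, hj, rfl⟩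
    rw [AdicCompletion.algebraMap_apply, AdicCompletion.map_of]
    have : J.mkQ ((algebraMap A A) j) = 0 := by
      simpa [Ideal.Quotient.eq_zero_iff_mem] using hj
    rw [this, map_zero]
  · exact map_zero _
  · intro x y _ _ hx hy
    rw [map_add, hx, hy, add_zero]
  · intro c x _ hx
    have : AdicCompletion.map I J.mkQ (c • x) = c • AdicCompletion.map I J.mkQ x :=
      map_smul _ c x
    rw [this, hx, smul_zero]

theorem map_smul_id (I : Ideal A) {M : Type*} [AddCommGroup M] [Module A M] (r : A)
    (z : AdicCompletion I M) :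
    AdicCompletion.map I (r • (LinearMap.id : M →ₗ[A] M)) z = r • z := by
  apply AdicCompletion.ext
  intro n
  obtain ⟨k, hk⟩ := Submodule.Quotient.mk_surjective _ (z.val n)
  rw [map_val_mk I _ z n k hk, AdicCompletion.val_smul_apply, ← hk]
  rfl

theorem step (a : A) (J : Ideal A) (r : A) (J₁ : Ideal A) (hJ₁ : J₁ = J ⊔ Ideal.span {r})
    (hreg : ∀ x : A, r * x ∈ J → x ∈ J) (N : ℕ)
    (hN : ∀ x : A ⧸ J₁, (∃ m : ℕ, a ^ m • x = 0) → a ^ N • x = 0)
    (hJ : ∀ x : AdicCompletion (Ideal.span {a}) A,
      AdicCompletion.map (Ideal.span {a}) J.mkQ x = 0 →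
        x ∈ J.map (algebraMap A (AdicCompletion (Ideal.span {a}) A))) :
    (∀ x : AdicCompletion (Ideal.span {a}) A,
      AdicCompletion.map (Ideal.span {a}) J₁.mkQ x = 0 →
        x ∈ J₁.map (algebraMap A (AdicCompletion (Ideal.span {a}) A))) ∧
    (∀ x : AdicCompletion (Ideal.span {a}) A,
      algebraMap A (AdicCompletion (Ideal.span {a}) A) r * x ∈
        J.map (algebraMap A (AdicCompletion (Ideal.span {a}) A)) →
        x ∈ J.map (algebraMap A (AdicCompletion (Ideal.span {a}) A))) := by
  subst hJ₁
  set I := Ideal.span {a} with hI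
  set J' := J ⊔ Ideal.span {r} with hJ'
  have hle : J ≤ LinearMap.ker J'.mkQ := by
    rw [Submodule.ker_mkQ]
    exact le_sup_left
  let μ : (A ⧸ J) →ₗ[A] (A ⧸ J) := r • LinearMap.id
  let q : (A ⧸ J) →ₗ[A] (A ⧸ J') := Submodule.liftQ J J'.mkQ hle
  have hμ : Function.Injective μ := by
    rw [injective_iff_map_eq_zero]
    intro y hy
    obtain ⟨z, rfl⟩ := Submodule.Quotient.mk_surjective _ y
    have h1 : μ (Submodule.Quotient.mk z) = Submodule.Quotient.mk (r * z) := rfl
    rw [h1, Submodule.Quotient.mk_eq_zero] at hy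
    rw [Submodule.Quotient.mk_eq_zero]
    exact hreg z hy
  have hq : Function.Surjective q := by
    intro y
    obtain ⟨z, rfl⟩ := Submodule.Quotient.mk_surjective _ y
    exact ⟨Submodule.Quotient.mk z, rfl⟩
  have hex : Function.Exact μ q := by
    intro y
    obtain ⟨z, rfl⟩ := Submodule.Quotient.mk_surjective _ y
    have h1 : q (Submodule.Quotient.mk z) = Submodule.Quotient.mk z := rfl
    rw [h1, Submodule.Quotient.mk_eq_zero]
    constructor
    · intro hz
      obtain ⟨j, hj, s, hs, rfl⟩ := Submodule.mem_sup.mp hz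
      obtain ⟨c, rfl⟩ := Ideal.mem_span_singleton'.mp hs
      refine ⟨Submodule.Quotient.mk c, ?_⟩
      have h2 : μ (Submodule.Quotient.mk c) = Submodule.Quotient.mk (r * c) := rfl
      rw [h2, Submodule.Quotient.eq]
      have : r * c - (j + c * r) = -j := by ring
      rw [this]
      exact Submodule.neg_mem _ hj
    · rintro ⟨w, hw⟩
      obtain ⟨c, rfl⟩ := Submodule.Quotient.mk_surjective _ w
      have h2 : μ (Submodule.Quotient.mk c) = Submodule.Quotient.mk (r * c) := rfl
      rw [h2, Submodule.Quotient.eq] at hw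
      have : z = r * c - (r * c - z) := by ring
      rw [this]
      refine Submodule.sub_mem _ ?_ (le_sup_left (a := J) hw)
      exact le_sup_right (a := J) (Ideal.mem_span_singleton'.mpr ⟨c, mul_comm _ _⟩)
  have hμinj := map_injective_of_bdd a μ q hμ hex N hN
  have hexact := map_exact_of_bdd a μ q hμ hq hex N hN
  have hcomp : q ∘ₗ J.mkQ = J'.mkQ := Submodule.liftQ_mkQ _ _ _
  have hπsurj : Function.Surjective (AdicCompletion.map I J.mkQ) :=
    AdicCompletion.map_surjective I J.mkQ_surjective
  have hμr : ∀ z, AdicCompletion.map I μ z = r • z := fun z => map_smul_id I r z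
  have hlin : ∀ (w : AdicCompletion I A),
      AdicCompletion.map I J.mkQ (algebraMap A (AdicCompletion I A) r * w) =
        r • AdicCompletion.map I J.mkQ w := by
    intro w
    have : AdicCompletion.map I J.mkQ (algebraMap A (AdicCompletion I A) r • w) =
      algebraMap A (AdicCompletion I A) r • AdicCompletion.map I J.mkQ w := map_smul _ _ _
    rw [algebraMap_smul] at this
    exact this
  constructor
  · intro x hx
    rw [← hcomp, ← AdicCompletion.map_comp_apply] at hx
    obtain ⟨z, hz⟩ := (hexact _).mp hx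
    obtain ⟨w, rfl⟩ := hπsurj z
    rw [hμr, ← hlin, ← sub_eq_zero, ← map_sub] at hz
    have h3 := hJ _ hz
    have h4 : x = algebraMap A (AdicCompletion I A) r * w -
        (algebraMap A (AdicCompletion I A) r * w - x) := by ring
    rw [h4]
    refine Ideal.sub_mem _ (Ideal.mul_mem_right _ _ (Ideal.mem_map_of_mem _ ?_))
      (Ideal.map_mono le_sup_left h3)
    exact le_sup_right (a := J) (Ideal.subset_span rfl)
  · intro x hx
    apply hJ
    have h5 := map_mkQ_eq_zero_of_mem I J _ hx
    rw [hlin, ← hμr] at h5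
    exact hμinj (by rw [h5, map_zero])

open RingTheory.Sequence in
theorem result (A : Type u) [CommRing A] (a : A) (rs : List A)
    (hreg : IsWeaklyRegular A rs)
    (hbd : ∀ i ≤ rs.length, ∃ N : ℕ, ∀ x : A ⧸ Ideal.ofList (rs.take i), (∃ m : ℕ, a ^ m • x = 0) → a ^ N • x = 0) :
    IsWeaklyRegular (AdicCompletion (Ideal.span {a}) A)
        (rs.map (algebraMap A (AdicCompletion (Ideal.span {a}) A))) ∧
      Function.Surjective (AdicCompletion.map (Ideal.span {a}) (Ideal.ofList rs).mkQ) ∧
      LinearMap.ker (AdicCompletion.map (Ideal.span {a}) (Ideal.ofList rs).mkQ) =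
        (Ideal.ofList rs).map (algebraMap A (AdicCompletion (Ideal.span {a}) A)) := by
  set I := Ideal.span {a} with hI
  -- elementwise regularity
  have hreg' : ∀ i (h : i < rs.length) (x : A), rs[i] * x ∈ Ideal.ofList (rs.take i) →
      x ∈ Ideal.ofList (rs.take i) := by
    intro i h x hx
    have h1 := (isSMulRegular_quotient_iff_mem_of_smul_mem _ _).mp (hreg.regular_mod_prev i h) x
    rw [smul_eq_mul, smul_eq_mul, Ideal.mul_top] at h1
    exact h1 hx
  have hsucc : ∀ i (h : i < rs.length), Ideal.ofList (rs.take (i + 1)) =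
      Ideal.ofList (rs.take i) ⊔ Ideal.span {rs[i]} := by
    intro i h
    rw [List.take_succ_eq_append_getElem h, Ideal.ofList_append, Ideal.ofList_singleton]
  -- the key claim
  have key : ∀ i, i ≤ rs.length → ∀ x : AdicCompletion I A,
      AdicCompletion.map I (Ideal.ofList (rs.take i)).mkQ x = 0 →
        x ∈ (Ideal.ofList (rs.take i)).map (algebraMap A (AdicCompletion I A)) := by
    intro i
    induction i with
    | zero =>
      intro _ x hx
      rw [List.take_zero, Ideal.ofList_nil, Ideal.map_bot, Ideal.mem_bot]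
      rw [List.take_zero, Ideal.ofList_nil] at hx
      have hinj : Function.Injective (AdicCompletion.map I (⊥ : Ideal A).mkQ) := by
        apply map_injective_of_levelwise
        intro n y hy
        have h2 : (⊥ : Ideal A).mkQ y ∈ Submodule.map (⊥ : Ideal A).mkQ
            (I ^ n • ⊤ : Submodule A A) := by
          rw [Submodule.map_smul'', Submodule.map_top,
            LinearMap.range_eq_top.mpr (Submodule.mkQ_surjective _)]
          exact hy
        obtain ⟨y', hy', hyy⟩ := h2
        have h3 : y' - y ∈ (⊥ : Ideal A) := by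
          rw [← Submodule.ker_mkQ (⊥ : Ideal A), LinearMap.mem_ker, map_sub, hyy, sub_self]
        rw [Ideal.mem_bot, sub_eq_zero] at h3
        rw [← h3]
        exact hy'
      exact hinj (by rw [hx, map_zero])
    | succ i ih =>
      intro hi
      have hi' : i < rs.length := hi
      obtain ⟨N, hN⟩ := hbd (i + 1) hi
      exact (step a (Ideal.ofList (rs.take i)) rs[i] _ (hsucc i hi') (hreg' i hi') N hN
        (ih hi'.le)).1
  refine ⟨?_, AdicCompletion.map_surjective I (Submodule.mkQ_surjective _), ?_⟩
  · rw [isWeaklyRegular_iff]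
    intro i h
    have hi' : i < rs.length := by simpa using h
    rw [isSMulRegular_quotient_iff_mem_of_smul_mem]
    intro x hx
    rw [List.getElem_map, ← List.map_take, ← Ideal.map_ofList, smul_eq_mul, smul_eq_mul,
      Ideal.mul_top] at hx
    rw [← List.map_take, ← Ideal.map_ofList, smul_eq_mul, Ideal.mul_top]
    obtain ⟨N, hN⟩ := hbd (i + 1) hi'
    exact (step a (Ideal.ofList (rs.take i)) rs[i] _ (hsucc i hi') (hreg' i hi') N hN
        (key i hi'.le)).2 x hx
  · have hk := key rs.length le_rfl
    rw [List.take_length] at hk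
    apply le_antisymm
    · intro x hx
      exact hk x hx
    · intro x hx
      exact map_mkQ_eq_zero_of_mem I _ x hx

end Groth.Agent.S14275
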