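import Groth.Statements.S14276
import Groth.Agent.S0412
import Groth.Agent.Lib.Helper40.FpqcLocal
import Groth.Agent.Lib.Helper98.GrpUnivOpen

set_option autoImplicit false
universe u
open CategoryTheory AlgebraicGeometry
open NonAbH1

namespace Groth.Agent.S14276

open CategoryTheory.Limits MonoidalCategory CartesianMonoidalCategory

/-- Let X be a scheme and G a group scheme over X which is smooth over X. Then every G-torsor for the
fppf topology is locally trivial for the étale topology on X. Here a torsor is an X-scheme with an
action of G which is a pseudo-torsor and acquires sections on the members of some fppf covering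
family of X, and the conclusion says that it acquires sections on the members of some étale covering
family of X. (The published statement is about torsors in the sense of fppf sheaves; this row states
it for torsors that are schemes.) -/
theorem result {X : Scheme.{u}}
    (G : Over X) [GrpObj G] [Smooth G.hom] (P : Over X) (a : AlgGrp.Action G P)
    (h : NonAbH1.IsTorsorFor Scheme.fppfPrecoverage a) :
    NonAbH1.IsLocallyTrivialFor Scheme.etalePrecoverage P := by
  obtain ⟨hpt, R, hR, hsec⟩ := h
  have hΦ : IsIso (lift a.act (snd G P)) := hpt
  -- the second projection `P ×_X P ⟶ P` is smooth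
  have hsndPP : Smooth (snd P P).left := by
    have e : snd P P = inv (lift a.act (snd G P)) ≫ snd G P := by
      rw [IsIso.eq_inv_comp, lift_snd]
    rw [e, Over.comp_left]
    have h1 : IsIso (inv (lift a.act (snd G P))).left :=
      inferInstanceAs (IsIso ((Over.forget _).map (inv (lift a.act (snd G P)))))
    have h2 : Smooth (snd G P).left := by rw [Over.snd_left]; infer_instance
    infer_instance
  -- `P ⟶ X` is smooth, by fppf descent
  have hsm : Smooth P.hom := by
    refine Groth.Agent.Lib.Helper40.FpqcLocal.of_fpqc_cover @Smooth P.hom
      (Scheme.fppfPrecoverage_le_fpqcPrecoverage _ hR) ?_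
    intro U g hg
    obtain ⟨s, hs⟩ := hsec g hg
    let T : Over X := Over.mk g
    let σ : T ⟶ P := Over.homMk s hs
    have hpb := Groth.Agent.Lib.Helper98.GrpUnivOpen.isPullback_whiskerLeft' P σ
    have h3 : Smooth (snd P T).left := MorphismProperty.of_isPullback (P := @Smooth) hpb hsndPP
    rw [Over.snd_left] at h3
    exact h3
  -- `P ⟶ X` is surjective
  have hsurj : ∀ x : X, x ∈ Set.range P.hom := by
    intro x
    have hR' : R ∈ Scheme.precoverage (@Flat ⊓ @LocallyOfFinitePresentation) X := hR
    obtain ⟨Y, f, hf, y, hy⟩ :=
      (Presieve.mem_comap_jointlySurjectivePrecoverage_iff (F := Scheme.forget)).mp hR'.1 x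
    obtain ⟨s, hs⟩ := hsec f hf
    refine ⟨s y, ?_⟩
    rw [← Scheme.Hom.comp_apply, hs]
    exact hy
  -- etale-local sections of the smooth surjective morphism `P ⟶ X`
  choose S' g s' hg hgs hh using fun x => Groth.Agent.S0412.result P.hom x (hsurj x)
  refine ⟨Presieve.ofArrows S' g, ?_, ?_⟩
  · exact (Scheme.ofArrows_mem_precoverage_iff (P := @Etale)).2
      ⟨fun x => ⟨x, s' x, hgs x⟩, hg⟩
  · rintro _ _ ⟨x⟩
    exact hh x

end Groth.Agent.S14276
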