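import Groth.Statements.S14286
-- import your own Groth.Agent.* helpers here
import Groth.Agent.Lib.Helper15.EllLift

set_option linter.style.haveILetI false

set_option autoImplicit false
universe u
open EllLift

namespace Groth.Agent.S14286


open Polynomial in
theorem isIntegral_of_rel4 {R L : Type*} [CommRing R] [CommRing L] [Algebra R L] (x c2 c1 c0 : L)
    (h2 : IsIntegral R c2) (h1 : IsIntegral R c1) (h0 : IsIntegral R c0)
    (h : x ^ 4 = c2 * x ^ 2 + c1 * x + c0) : IsIntegral R x := by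
  let A' := integralClosure R L
  let c2' : A' := ⟨c2, h2⟩
  let c1' : A' := ⟨c1, h1⟩
  let c0' : A' := ⟨c0, h0⟩
  have hx : IsIntegral A' x := by
    refine ⟨X ^ (3 + 1) - (C c2' * X ^ 2 + C c1' * X + C c0'), ?_, ?_⟩
    · apply Polynomial.monic_X_pow_sub
      compute_degree
      all_goals norm_num
    · simp only [eval₂_sub, eval₂_add, eval₂_mul, eval₂_pow, eval₂_X, eval₂_C]
      show x ^ (3 + 1) - (c2 * x ^ 2 + c1 * x + c0) = 0
      rw [← h]; ring
  exact isIntegral_trans x hx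

open Polynomial in
theorem isIntegral_of_rel2 {R L : Type*} [CommRing R] [CommRing L] [Algebra R L] (x c1 c0 : L)
    (h1 : IsIntegral R c1) (h0 : IsIntegral R c0)
    (h : x ^ 2 = c1 * x + c0) : IsIntegral R x := by
  let A' := integralClosure R L
  let c1' : A' := ⟨c1, h1⟩
  let c0' : A' := ⟨c0, h0⟩
  have hx : IsIntegral A' x := by
    refine ⟨X ^ (1 + 1) - (C c1' * X + C c0'), ?_, ?_⟩
    · apply Polynomial.monic_X_pow_sub
      compute_degree
      all_goals norm_num
    · simp only [eval₂_sub, eval₂_add, eval₂_mul, eval₂_pow, eval₂_X, eval₂_C]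
      show x ^ (1 + 1) - (c1 * x + c0) = 0
      rw [← h]; ring
  exact isIntegral_trans x hx

open WeierstrassCurve IsLocalRing in
theorem main (R : Type u) [CommRing R] [IsDomain R] [IsLocalRing R]
    [IsAdicComplete (IsLocalRing.maximalIdeal R) R]
    [IsAlgClosed (IsLocalRing.ResidueField R)]
    (W₁ W₂ : WeierstrassCurve R) [W₁.IsElliptic] [W₂.IsElliptic] (hj : W₁.j = W₂.j) :
    ∃ C : WeierstrassCurve.VariableChange R, C • W₁ = W₂ := by
  haveI : HenselianLocalRing R :=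
    { is_henselian := fun f hf a₀ h₁ h₂ => by
        refine HenselianRing.is_henselian (I := maximalIdeal R) f hf a₀ h₁ ?_
        exact h₂.map (Ideal.Quotient.mk (maximalIdeal R)) }
  let K := FractionRing R
  let L := AlgebraicClosure K
  set φ : R →+* L := algebraMap R L with hφdef
  have hφ : Function.Injective φ := by
    rw [hφdef, IsScalarTower.algebraMap_eq R K L]
    exact (algebraMap K L).injective.comp (IsFractionRing.injective R K)
  obtain ⟨CL, hCL⟩ := exists_variableChange_of_j_eq (W₁.map φ) (W₂.map φ)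
    (by rw [map_j, map_j, hj])
  set u : L := (CL.u : L) with hu
  set v : L := ((CL.u⁻¹ : Lˣ) : L) with hv
  set r : L := CL.r with hr
  set s : L := CL.s with hs
  set t : L := CL.t with ht
  have huv : u * v = 1 := CL.u.mul_inv
  have iR : ∀ x : R, IsIntegral R (φ x) := fun x => isIntegral_algebraMap
  -- integrality of u and v
  have hΔ : (W₂.map φ).Δ = v ^ 12 * (W₁.map φ).Δ := by rw [← hCL, variableChange_Δ]
  rw [map_Δ, map_Δ] at hΔ
  have h1inv : φ W₁.Δ * φ ((W₁.Δ'⁻¹ : Rˣ) : R) = 1 := by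
    rw [← map_mul, ← W₁.coe_Δ', Units.mul_inv, map_one]
  have h2inv : φ W₂.Δ * φ ((W₂.Δ'⁻¹ : Rˣ) : R) = 1 := by
    rw [← map_mul, ← W₂.coe_Δ', Units.mul_inv, map_one]
  have hv12 : v ^ 12 = φ (W₂.Δ * ((W₁.Δ'⁻¹ : Rˣ) : R)) := by
    rw [map_mul]
    linear_combination (-(φ ((W₁.Δ'⁻¹ : Rˣ) : R))) * hΔ + (-(v ^ 12)) * h1inv
  have hu12 : u ^ 12 = φ (W₁.Δ * ((W₂.Δ'⁻¹ : Rˣ) : R)) := by
    rw [map_mul]
    have huv12 : u ^ 12 * v ^ 12 = 1 := by rw [← mul_pow, huv, one_pow]
    linear_combination (u ^ 12 * φ ((W₂.Δ'⁻¹ : Rˣ) : R)) * hΔ + (-(u ^ 12)) * h2inv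
      + (φ W₁.Δ * φ ((W₂.Δ'⁻¹ : Rˣ) : R)) * huv12
  have hvint : IsIntegral R v := IsIntegral.of_pow (by norm_num : 0 < 12) (hv12 ▸ iR _)
  have huint : IsIntegral R u := IsIntegral.of_pow (by norm_num : 0 < 12) (hu12 ▸ iR _)
  -- integrality of r
  have hb6 : (W₂.map φ).b₆ = v ^ 6 * ((W₁.map φ).b₆ + 2 * r * (W₁.map φ).b₄
      + r ^ 2 * (W₁.map φ).b₂ + 4 * r ^ 3) := by rw [← hCL, variableChange_b₆]
  have hb8 : (W₂.map φ).b₈ = v ^ 8 * ((W₁.map φ).b₈ + 3 * r * (W₁.map φ).b₆
      + 3 * r ^ 2 * (W₁.map φ).b₄ + r ^ 3 * (W₁.map φ).b₂ + 3 * r ^ 4) := by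
    rw [← hCL, variableChange_b₈]
  have huv6 : u ^ 6 * v ^ 6 = 1 := by rw [← mul_pow, huv, one_pow]
  have huv8 : u ^ 8 * v ^ 8 = 1 := by rw [← mul_pow, huv, one_pow]
  have hr4 : r ^ 4 = (W₁.map φ).b₄ * r ^ 2 + (2 * (W₁.map φ).b₆ + u ^ 6 * (W₂.map φ).b₆) * r
      + ((W₁.map φ).b₈ - u ^ 8 * (W₂.map φ).b₈) := by
    linear_combination (u ^ 8) * hb8 - (r * u ^ 6) * hb6
      + ((W₁.map φ).b₈ + 3 * r * (W₁.map φ).b₆
      + 3 * r ^ 2 * (W₁.map φ).b₄ + r ^ 3 * (W₁.map φ).b₂ + 3 * r ^ 4) * huv8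
      - (r * ((W₁.map φ).b₆ + 2 * r * (W₁.map φ).b₄
      + r ^ 2 * (W₁.map φ).b₂ + 4 * r ^ 3)) * huv6
  have ib : ∀ (W : WeierstrassCurve R), IsIntegral R (W.map φ).b₄ ∧ IsIntegral R (W.map φ).b₆ ∧
      IsIntegral R (W.map φ).b₈ := by
    intro W
    rw [map_b₄, map_b₆, map_b₈]
    exact ⟨iR _, iR _, iR _⟩
  have i2 : IsIntegral R (2 : L) := by
    have := iR 2
    rwa [map_ofNat] at this
  have i3 : IsIntegral R (3 : L) := by
    have := iR 3
    rwa [map_ofNat] at this
  have hrint : IsIntegral R r := by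
    refine isIntegral_of_rel4 r _ _ _ (ib W₁).1 ?_ ?_ hr4
    · exact (i2.mul (ib W₁).2.1).add ((huint.pow 6).mul (ib W₂).2.1)
    · exact (ib W₁).2.2.sub ((huint.pow 8).mul (ib W₂).2.2)
  -- integrality of s and t
  have ha2 : (W₂.map φ).a₂ = v ^ 2 * ((W₁.map φ).a₂ - s * (W₁.map φ).a₁ + 3 * r - s ^ 2) := by
    rw [← hCL, variableChange_a₂]
  have ha6 : (W₂.map φ).a₆ = v ^ 6 * ((W₁.map φ).a₆ + r * (W₁.map φ).a₄ + r ^ 2 * (W₁.map φ).a₂
      + r ^ 3 - t * (W₁.map φ).a₃ - t ^ 2 - r * t * (W₁.map φ).a₁) := by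
    rw [← hCL, variableChange_a₆]
  have huv2 : u ^ 2 * v ^ 2 = 1 := by rw [← mul_pow, huv, one_pow]
  have hs2 : s ^ 2 = (-(W₁.map φ).a₁) * s + ((W₁.map φ).a₂ + 3 * r - u ^ 2 * (W₂.map φ).a₂) := by
    linear_combination (u ^ 2) * ha2
      + ((W₁.map φ).a₂ - s * (W₁.map φ).a₁ + 3 * r - s ^ 2) * huv2
  have ht2 : t ^ 2 = (-((W₁.map φ).a₃ + r * (W₁.map φ).a₁)) * t + ((W₁.map φ).a₆
      + r * (W₁.map φ).a₄ + r ^ 2 * (W₁.map φ).a₂ + r ^ 3 - u ^ 6 * (W₂.map φ).a₆) := by
    linear_combination (u ^ 6) * ha6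
      + ((W₁.map φ).a₆ + r * (W₁.map φ).a₄ + r ^ 2 * (W₁.map φ).a₂
      + r ^ 3 - t * (W₁.map φ).a₃ - t ^ 2 - r * t * (W₁.map φ).a₁) * huv6
  have ia : ∀ (W : WeierstrassCurve R), IsIntegral R (W.map φ).a₁ ∧ IsIntegral R (W.map φ).a₂ ∧
      IsIntegral R (W.map φ).a₃ ∧ IsIntegral R (W.map φ).a₄ ∧ IsIntegral R (W.map φ).a₆ :=
    fun W => ⟨iR _, iR _, iR _, iR _, iR _⟩
  have hsint : IsIntegral R s := by
    refine isIntegral_of_rel2 s _ _ ?_ ?_ hs2
    · exact (ia W₁).1.neg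
    · exact (((ia W₁).2.1).add (i3.mul hrint)).sub ((huint.pow 2).mul (ia W₂).2.1)
  have htint : IsIntegral R t := by
    refine isIntegral_of_rel2 t _ _ ?_ ?_ ht2
    · exact (((ia W₁).2.2.1).add (hrint.mul (ia W₁).1)).neg
    · exact (((((ia W₁).2.2.2.2).add (hrint.mul (ia W₁).2.2.2.1)).add
        ((hrint.pow 2).mul (ia W₁).2.1)).add (hrint.pow 3)).sub
        ((huint.pow 6).mul (ia W₂).2.2.2.2)
  -- the finite subalgebra
  set gens : Set L := {u, v, r, s, t} with hgens
  have hgfin : gens.Finite := Set.toFinite _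
  have hgint : ∀ x ∈ gens, IsIntegral R x := by
    intro x hx
    simp only [hgens, Set.mem_insert_iff, Set.mem_singleton_iff] at hx
    rcases hx with rfl | rfl | rfl | rfl | rfl
    exacts [huint, hvint, hrint, hsint, htint]
  set B : Subalgebra R L := Algebra.adjoin R gens with hB
  haveI : Module.Finite R B := Module.Finite.iff_fg.mpr (fg_adjoin_of_finite hgfin hgint)
  have hmem : ∀ x ∈ gens, x ∈ B := fun x hx => Algebra.subset_adjoin hx
  have mu : u ∈ B := hmem _ (by simp [hgens])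
  have mv : v ∈ B := hmem _ (by simp [hgens])
  have mr : r ∈ B := hmem _ (by simp [hgens])
  have ms : s ∈ B := hmem _ (by simp [hgens])
  have mt : t ∈ B := hmem _ (by simp [hgens])
  let uB : Bˣ := ⟨⟨u, mu⟩, ⟨v, mv⟩, Subtype.ext huv, Subtype.ext (by rw [mul_comm] at huv; exact huv)⟩
  let Cb : VariableChange B := ⟨uB, ⟨r, mr⟩, ⟨s, ms⟩, ⟨t, mt⟩⟩
  have hval : (B.val : B →+* L).comp (algebraMap R B) = φ := RingHom.ext fun x => rfl
  have hinjB : Function.Injective (algebraMap R B) := by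
    intro x y hxy
    apply hφ
    rw [← hval]
    show (B.val : B →+* L) (algebraMap R B x) = (B.val : B →+* L) (algebraMap R B y)
    rw [hxy]
  have hCbmap : Cb.map (B.val : B →+* L) = CL := by
    ext <;> rfl
  have hCb : Cb • W₁.map (algebraMap R B) = W₂.map (algebraMap R B) := by
    apply WeierstrassCurve.map_injective (f := (B.val : B →+* L)) Subtype.val_injective
    dsimp only
    rw [← map_variableChange, hCbmap, map_map, map_map, hval, hCL]
  have hgenB : Algebra.adjoin R {(Cb.u : B), ((Cb.u⁻¹ : Bˣ) : B), Cb.r, Cb.s, Cb.t} = ⊤ := by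
    have h := Algebra.adjoin_adjoin_coe_preimage (R := R) (s := gens)
    have hset : ({(Cb.u : B), ((Cb.u⁻¹ : Bˣ) : B), Cb.r, Cb.s, Cb.t} : Set B) =
        ((↑) : B → L) ⁻¹' gens := by
      ext x
      simp only [Set.mem_insert_iff, Set.mem_singleton_iff, Set.mem_preimage, hgens,
        Subtype.ext_iff]
      rfl
    rw [hset]
    exact h
  exact Groth.Agent.Lib.Helper15.EllLift.descend B hinjB W₁ W₂ Cb hCb hgenB

/-- Let R be a complete Noetherian local domain with algebraically closed residue field, and let W₁, W₂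
be Weierstrass cubics over R whose discriminants are units (elliptic curves over R; over a local
ring every elliptic curve has such an equation and isomorphisms of elliptic curves are the
admissible changes of variables). If W₁ and W₂ have the same j-invariant, then some change of
variables over R carries W₁ to W₂. (The published statement does not require R to be a domain. That
hypothesis is needed: over the dual numbers k[e], e² = 0, of an algebraically closed field k of
characteristic neither 2 nor 3, the cubics y² = x³ + x + e and y² = x³ + x both have j = 1728 and no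
change of variables relates them.) -/
theorem result (R : Type u) [CommRing R] [IsDomain R]
    [IsNoetherianRing R] [IsLocalRing R] [IsAdicComplete (IsLocalRing.maximalIdeal R) R]
    [IsAlgClosed (IsLocalRing.ResidueField R)]
    (W₁ W₂ : WeierstrassCurve R) [W₁.IsElliptic] [W₂.IsElliptic] (hj : W₁.j = W₂.j) :
    ∃ C : WeierstrassCurve.VariableChange R, C • W₁ = W₂ := by
  exact main R W₁ W₂ hj

end Groth.Agent.S14286
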