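import Groth.Statements.S14292
-- import your own Groth.Agent.* helpers here
import Groth.Agent.Lib.Helper15.EllIsom

set_option linter.style.haveILetI false

set_option autoImplicit false
universe u
open EllLift

namespace Groth.Agent.S14292

/-- Let A be a commutative ring and W₁, W₂ Weierstrass cubics over A with unit discriminants and the
same j-invariant j, such that j and j - 1728 are both units of A (the modular invariant avoids the
special values 0 and 1728 at every point). Then for every prime ideal p of A there exist an étale
A-algebra B with a prime lying over p and a change of variables over B carrying the base change of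
W₁ to that of W₂; that is, the two elliptic curves become isomorphic on an étale neighbourhood of
every point of Spec A. (The published statement is about Weierstrass curves with possibly nodal,
geometrically irreducible fibres over an arbitrary base scheme whose modular invariant avoids 0,
1728 and ∞; this row is the case of unit discriminant over an affine base.) -/
theorem result (A : Type u) [CommRing A]
    (W₁ W₂ : WeierstrassCurve A) [W₁.IsElliptic] [W₂.IsElliptic] (hj : W₁.j = W₂.j)
    (h0 : IsUnit W₁.j) (h1728 : IsUnit (W₁.j - 1728)) (p : PrimeSpectrum A) :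
    ∃ (B : Type u) (_ : CommRing B) (_ : Algebra A B), Algebra.Etale A B ∧
      p ∈ Set.range (PrimeSpectrum.comap (algebraMap A B)) ∧
      ∃ C : WeierstrassCurve.VariableChange B, C • (W₁.map (algebraMap A B)) = W₂.map (algebraMap A B) := by
  open Groth.Agent.Lib.Helper15 in
  refine ⟨EllIsom.B W₁ W₂, inferInstance, inferInstance, EllIsom.etale W₁ W₂ hj h0 h1728, ?_,
    EllIsom.Ct W₁ W₂, EllIsom.hCt W₁ W₂⟩
  -- surjectivity on spectra: a point over the algebraic closure of the residue field
  let K := p.asIdeal.ResidueField
  let κ := AlgebraicClosure K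
  obtain ⟨Cκ, hCκ⟩ := WeierstrassCurve.exists_variableChange_of_j_eq
    (W₁.map (algebraMap A κ)) (W₂.map (algebraMap A κ))
    (by rw [WeierstrassCurve.map_j, WeierstrassCurve.map_j, hj])
  let f : EllIsom.B W₁ W₂ →ₐ[A] κ := EllIsom.homOf Cκ hCκ
  haveI : (RingHom.ker (f : EllIsom.B W₁ W₂ →+* κ)).IsPrime := RingHom.ker_isPrime _
  refine ⟨⟨RingHom.ker (f : EllIsom.B W₁ W₂ →+* κ), inferInstance⟩, ?_⟩
  apply PrimeSpectrum.ext
  show Ideal.comap (algebraMap A (EllIsom.B W₁ W₂)) (RingHom.ker (f : EllIsom.B W₁ W₂ →+* κ))
    = p.asIdeal
  ext x
  rw [Ideal.mem_comap, RingHom.mem_ker]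
  have h1 : (f : EllIsom.B W₁ W₂ →+* κ) (algebraMap A (EllIsom.B W₁ W₂) x) = algebraMap A κ x :=
    f.commutes x
  rw [h1, IsScalarTower.algebraMap_apply A K κ, map_eq_zero_iff _ (algebraMap K κ).injective,
    ← RingHom.mem_ker, Ideal.ker_algebraMap_residueField]

end Groth.Agent.S14292
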