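import Groth.Statements.S14294
-- import your own Groth.Agent.* helpers here
import Groth.Agent.Lib.Helper72.Cube

set_option autoImplicit false
universe u v
open PtDeg

namespace Groth.Agent.S14294

/-- Let A and G be abelian groups, written additively, and f : A → G a map which is pointed of degree 2,
that is f(x+y+z) + f(x) + f(y) + f(z) = f(x+y) + f(x+z) + f(y+z) for all x, y, z in A. If an integer
n satisfies n·x = 0 for every x in A, then 2n·f(x) = 0 for every x in A, and if moreover n is odd
then n·f(x) = 0 for every x in A. -/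
theorem result {A : Type u} {G : Type v} [AddCommGroup A] [AddCommGroup G]
    (f : A → G) (hf : ∀ x y z : A, f (x + y + z) + f x + f y + f z = f (x + y) + f (x + z) + f (y + z))
    (n : ℤ) (hn : ∀ x : A, n • x = 0) :
    (∀ x : A, (2 * n) • f x = 0) ∧ (Odd n → ∀ x : A, n • f x = 0) := by
  open Lib.Helper72.Cube in
  -- n • (f x + f (-x)) = 0
  have h1 : ∀ x : A, n • (f x + f (-x)) = 0 := by
    intro x
    rw [add_neg_eq_defect f hf, ← defect_zsmul_left f hf, hn, defect_zero_left f hf]
  -- n • (f x - f (-x)) = 0
  have h2 : ∀ x : A, n • (f x - f (-x)) = 0 := by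
    intro x
    have e1 := formula f hf n x
    have e2 := formula f hf n (-x)
    rw [hn, map_zero' f hf] at e1 e2
    rw [neg_neg] at e2
    have hA := two_mul_ediv n
    have hB := two_mul_ediv' n
    have hAB : n * (n + 1) / 2 - n * (n - 1) / 2 = n := by
      have : 2 * (n * (n + 1) / 2 - n * (n - 1) / 2) = 2 * n := by linear_combination hA - hB
      omega
    have : (n * (n + 1) / 2 - n * (n - 1) / 2) • (f x - f (-x)) = 0 := by
      have e3 : (n * (n + 1) / 2 - n * (n - 1) / 2) • (f x - f (-x)) =
          ((n * (n + 1) / 2) • f x + (n * (n - 1) / 2) • f (-x)) -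
          ((n * (n + 1) / 2) • f (-x) + (n * (n - 1) / 2) • f x) := by module
      rw [e3, ← e1, ← e2, sub_zero]
    rwa [hAB] at this
  constructor
  · intro x
    have : (2 * n) • f x = n • (f x + f (-x)) + n • (f x - f (-x)) := by module
    rw [this, h1, h2, add_zero]
  · rintro ⟨k, hk⟩ x
    have e1 := formula f hf n x
    rw [hn, map_zero' f hf] at e1
    have hA : n * (n + 1) / 2 = n * (k + 1) := by
      have := two_mul_ediv n
      have h2 : 2 * (n * (n + 1) / 2) = 2 * (n * (k + 1)) := by rw [this, hk]; ring
      omega
    have hB : n * (n - 1) / 2 = n * k := by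
      have := two_mul_ediv' n
      have h2 : 2 * (n * (n - 1) / 2) = 2 * (n * k) := by rw [this, hk]; ring
      omega
    rw [hA, hB] at e1
    have : n • f x = (n * (k + 1)) • f x + (n * k) • f (-x) - k • (n • (f x + f (-x))) := by module
    rw [this, ← e1, h1, smul_zero, sub_zero]

end Groth.Agent.S14294
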