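import Groth.Statements.S14305
-- import your own Groth.Agent.* helpers here
import Groth.Agent.Lib.Helper72.Deviation

set_option autoImplicit false
universe u v
open PtDeg

namespace Groth.Agent.S14305

open Lib.Helper72.Deviation in
/-- The key identity on `Fin (n+1)`. -/
theorem key {A : Type u} {G : Type v} [AddCommGroup A] [AddCommGroup G]
    (f : A → G) (n : ℕ) (x : Fin (n + 1) → A) (j : Fin n) :
    R f (Finset.univ : Finset (Fin (n + 1))) (n + 1) x 0 =
      - R f (Finset.univ : Finset (Fin n)) n (x ∘ Fin.castSucc) 0
      + R f (Finset.univ : Finset (Fin n)) n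
          (Function.update (x ∘ Fin.castSucc) j (x j.castSucc + x (Fin.last n))) 0
      - R f (Finset.univ : Finset (Fin n)) n
          (Function.update (x ∘ Fin.castSucc) j (x (Fin.last n))) 0 := by
  classical
  have huniv : (Finset.univ : Finset (Fin (n + 1))) =
      insert (Fin.last n) ((Finset.univ : Finset (Fin n)).image Fin.castSucc) := by
    ext i
    simp only [Finset.mem_univ, Finset.mem_insert, Finset.mem_image, true_and, true_iff]
    rcases Fin.eq_castSucc_or_eq_last i with ⟨i', rfl⟩ | rfl
    · exact Or.inr ⟨i', rfl⟩
    · exact Or.inl rfl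
  have hk : Fin.last n ∉ (Finset.univ : Finset (Fin n)).image Fin.castSucc := by
    simp only [Finset.mem_image, Finset.mem_univ, true_and, not_exists]
    intro i hi
    exact (Fin.castSucc_lt_last i).ne hi
  have hj : j.castSucc ∈ (Finset.univ : Finset (Fin n)).image Fin.castSucc :=
    Finset.mem_image_of_mem _ (Finset.mem_univ j)
  have hinj : Function.Injective (Fin.castSucc : Fin n → Fin (n + 1)) := Fin.castSucc_injective n
  rw [huniv, R_key f _ n x (Fin.last n) j.castSucc hk hj, R_image f _ n _ hinj,
    R_image f _ n _ hinj, R_image f _ n _ hinj,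
    Function.update_comp_eq_of_injective _ hinj, Function.update_comp_eq_of_injective _ hinj]


/-- Let A and G be abelian groups, written additively, f : A → G a map and n ≥ 1. For k ≥ 0 the k-th
deviation of f is the map A^k → G, (y_1, …, y_k) ↦ Σ_{∅ ≠ I ⊆ {1,…,k}} (−1)^{k+|I|} f(Σ_{i ∈ I}
y_i). Then f is pointed of degree n, meaning that its (n+1)-st deviation vanishes identically, if
and only if its n-th deviation is additive in each variable separately (with the other variables
fixed). -/
theorem result {A : Type u} {G : Type v} [AddCommGroup A] [AddCommGroup G]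
    (f : A → G) (n : ℕ) (hn : 1 ≤ n) :
    (∀ x : Fin (n + 1) → A, ∑ I ∈ ((Finset.univ : Finset (Fin (n + 1))).powerset.erase ∅), ((-1 : ℤ) ^ (n + 1 + I.card)) • f (∑ i ∈ I, x i) = 0) ↔
      (∀ (j : Fin n) (y : Fin n → A) (a b : A),
        ∑ I ∈ ((Finset.univ : Finset (Fin n)).powerset.erase ∅), ((-1 : ℤ) ^ (n + I.card)) • f (∑ i ∈ I, (Function.update y j (a + b)) i) =
          ∑ I ∈ ((Finset.univ : Finset (Fin n)).powerset.erase ∅), ((-1 : ℤ) ^ (n + I.card)) • f (∑ i ∈ I, (Function.update y j a) i) + ∑ I ∈ ((Finset.univ : Finset (Fin n)).powerset.erase ∅), ((-1 : ℤ) ^ (n + I.card)) • f (∑ i ∈ I, (Function.update y j b) i)) := by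
  classical
  open Lib.Helper72.Deviation in
  constructor
  · intro h j y a b
    have hx := h (Fin.snoc (Function.update y j a) b)
    rw [sum_erase_empty_eq, key f n _ j] at hx
    have e1 : (Fin.snoc (α := fun _ => A) (Function.update y j a) b : Fin (n + 1) → A) ∘
        Fin.castSucc = Function.update y j a := by
      funext i
      exact Fin.snoc_castSucc (α := fun _ => A) b (Function.update y j a) i
    have e3 : (Fin.snoc (α := fun _ => A) (Function.update y j a) b : Fin (n + 1) → A)
        j.castSucc = a := by
      rw [Fin.snoc_castSucc (α := fun _ => A)]; simp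
    have e4 : (Fin.snoc (α := fun _ => A) (Function.update y j a) b : Fin (n + 1) → A)
        (Fin.last n) = b := Fin.snoc_last (α := fun _ => A) _ _
    rw [e1, e3, e4, Function.update_idem, Function.update_idem] at hx
    rw [sum_erase_empty_eq, sum_erase_empty_eq, sum_erase_empty_eq]
    rw [pow_succ] at hx
    have : R f Finset.univ n (Function.update y j (a + b)) 0 =
        R f Finset.univ n (Function.update y j a) 0 + R f Finset.univ n (Function.update y j b) 0
          - ((-1 : ℤ) ^ n) • f 0 := by
      have h2 : R f Finset.univ n (Function.update y j (a + b)) 0 =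
          (-R f Finset.univ n (Function.update y j a) 0 +
            R f Finset.univ n (Function.update y j (a + b)) 0 -
            R f Finset.univ n (Function.update y j b) 0 - ((-1 : ℤ) ^ n * -1) • f 0)
          + (R f Finset.univ n (Function.update y j a) 0 +
            R f Finset.univ n (Function.update y j b) 0 - ((-1 : ℤ) ^ n) • f 0) := by module
      rw [h2, hx, zero_add]
    rw [this]; abel
  · intro h x
    have hn' : 0 < n := hn
    let j : Fin n := ⟨0, hn'⟩
    have hadd := h j (x ∘ Fin.castSucc) (x j.castSucc) (x (Fin.last n))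
    rw [sum_erase_empty_eq, sum_erase_empty_eq, sum_erase_empty_eq] at hadd
    have e2 : Function.update (x ∘ Fin.castSucc) j (x j.castSucc) = x ∘ Fin.castSucc := by
      ext i
      by_cases hi : i = j
      · subst hi; simp
      · simp [Function.update_of_ne hi]
    rw [e2] at hadd
    rw [sum_erase_empty_eq, key f n x j, pow_succ]
    have : R f Finset.univ n
        (Function.update (x ∘ Fin.castSucc) j (x j.castSucc + x (Fin.last n))) 0 =
        R f Finset.univ n (x ∘ Fin.castSucc) 0 +
        R f Finset.univ n (Function.update (x ∘ Fin.castSucc) j (x (Fin.last n))) 0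
          - ((-1 : ℤ) ^ n) • f 0 := by
      have h3 := hadd
      rw [sub_eq_iff_eq_add] at h3
      rw [h3]; abel
    rw [this]; module

end Groth.Agent.S14305
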