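import Groth.Statements.S14309
-- import your own Groth.Agent.* helpers here

set_option autoImplicit false
universe u v w x y
open CAlg

namespace Groth.Agent.S14309

/-- Every polynomial in the variables `Option σ` is of the form `f₀ + Z * F₁` with `f₀` not
involving `Z = X none`. -/
theorem exists_decomp {R : Type u} [CommRing R] {σ : Type y} (F : MvPolynomial (Option σ) R) :
    ∃ (f₀ : MvPolynomial σ R) (F₁ : MvPolynomial (Option σ) R),
      F = MvPolynomial.rename (Option.some : σ → Option σ) f₀ + MvPolynomial.X none * F₁ := by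
  induction F using MvPolynomial.induction_on with
  | C r => exact ⟨MvPolynomial.C r, 0, by simp⟩
  | add F G hF hG =>
    obtain ⟨f₀, F₁, rfl⟩ := hF
    obtain ⟨g₀, G₁, rfl⟩ := hG
    exact ⟨f₀ + g₀, F₁ + G₁, by rw [map_add]; ring⟩
  | mul_X F s hF =>
    obtain ⟨f₀, F₁, rfl⟩ := hF
    cases s with
    | none => exact ⟨0, MvPolynomial.rename (Option.some : σ → Option σ) f₀ + MvPolynomial.X none * F₁,
        by rw [map_zero]; ring⟩
    | some s => exact ⟨f₀ * MvPolynomial.X s, F₁ * MvPolynomial.X (some s), by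
        rw [map_mul, MvPolynomial.rename_X]; ring⟩

/-- multiplying the span by a fixed element -/
theorem mul_mem_span_image {S : Type*} [CommRing S] (z : S) (T : Set S) (x : S)
    (hx : x ∈ Ideal.span T) : z * x ∈ Ideal.span ((fun t => z * t) '' T) := by
  induction hx using Submodule.span_induction with
  | mem t ht => exact Ideal.subset_span ⟨t, ht, rfl⟩
  | zero => rw [mul_zero]; exact Ideal.zero_mem _
  | add x y _ _ hx hy => rw [mul_add]; exact Ideal.add_mem _ hx hy
  | smul r x _ hx =>
    rw [smul_eq_mul, mul_left_comm]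
    exact Ideal.mul_mem_left _ _ hx


/-- Let R be a commutative ring; A, B, C commutative R-algebras; i : A → B and j : A → C jointly
injective R-algebra maps; c a non-zero-divisor of B; u : C → B/(c) a ring map with u ∘ j equal to i
followed by reduction modulo c; ζ in A with i ζ = c and j ζ = 0; η : R[X_σ, Z] → A an R-algebra map
with η(Z) = ζ; a : R[Y_τ] → B a surjective R-algebra map; η_Z : R[X_σ, Z] → R[Y_τ] a surjective
R-algebra map with a ∘ η_Z = i ∘ η. Fix c̃ in R[Y_τ] with a(c̃) = c, a family (p_h) generating the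
kernel of the composite R[X_σ] → R[X_σ, Z] → A → C, a family (q'_h) generating the kernel of a
together with lifts q_h along η_Z, a family (v_h) generating the kernel of η_Z, and elements g'_h of
R[Y_τ] with η_Z(p_h) + g'_h c̃ in the ideal (q'_h), together with lifts g_h along η_Z. Then the
kernel of η is the ideal generated by the elements Z q_h, Z v_h and p_h + Z g_h. (The published
statement is for the rings of cycle classes, with coefficients ℤ[1/6], of a smooth quotient stack, a
smooth closed substack whose normal bundle has top Chern class c a non-zero-divisor, and the open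
complement; this row states the ring-theoretic content for any such square of commutative rings in
which A embeds in B × C.) -/
theorem result
    {R : Type u} [CommRing R] {A : Type v} {B : Type w} {C : Type x}
    [CommRing A] [CommRing B] [CommRing C] [Algebra R A] [Algebra R B] [Algebra R C]
    (i : A →ₐ[R] B) (j : A →ₐ[R] C)
    (hinj : ∀ t : A, i t = 0 → j t = 0 → t = 0)
    (c : B) (hc : c ∈ nonZeroDivisors B) (u : C →+* B ⧸ Ideal.span ({c} : Set B))
    (hu : ∀ t : A, u (j t) = Ideal.Quotient.mk (Ideal.span ({c} : Set B)) (i t))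
    (ζ : A) (hiζ : i ζ = c) (hjζ : j ζ = 0)
    {σ τ ιp ιq ιv : Type y}
    (η : MvPolynomial (Option σ) R →ₐ[R] A) (hη : η (MvPolynomial.X none) = ζ)
    (a : MvPolynomial τ R →ₐ[R] B) (ha : Function.Surjective a)
    (ηZ : MvPolynomial (Option σ) R →ₐ[R] MvPolynomial τ R)
    (hcomm : ∀ t, a (ηZ t) = i (η t)) (hηZ : Function.Surjective ηZ)
    (cZ : MvPolynomial τ R) (hcZ : a cZ = c)
    (p : ιp → MvPolynomial σ R)
    (hp : Ideal.span (Set.range p) =
      RingHom.ker ((j.comp η).comp (MvPolynomial.rename (Option.some : σ → Option σ))))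
    (q' : ιq → MvPolynomial τ R) (hq' : Ideal.span (Set.range q') = RingHom.ker a)
    (q : ιq → MvPolynomial (Option σ) R) (hq : ∀ h, ηZ (q h) = q' h)
    (v : ιv → MvPolynomial (Option σ) R) (hv : Ideal.span (Set.range v) = RingHom.ker ηZ)
    (g' : ιp → MvPolynomial τ R)
    (hg' : ∀ h, ηZ (MvPolynomial.rename (Option.some : σ → Option σ) (p h)) + g' h * cZ ∈
      Ideal.span (Set.range q'))
    (g : ιp → MvPolynomial (Option σ) R) (hg : ∀ h, ηZ (g h) = g' h) :
    RingHom.ker η = Ideal.span
      (Set.range (fun h : ιq => MvPolynomial.X none * q h) ∪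
        Set.range (fun h : ιv => MvPolynomial.X none * v h) ∪
        Set.range (fun h : ιp =>
          MvPolynomial.rename (Option.some : σ → Option σ) (p h) + MvPolynomial.X none * g h)) := by
  classical
  set Z : MvPolynomial (Option σ) R := MvPolynomial.X none with hZ
  set ren := MvPolynomial.rename (R := R) (Option.some : σ → Option σ) with hren
  set J : Ideal (MvPolynomial (Option σ) R) := Ideal.span
      (Set.range (fun h : ιq => Z * q h) ∪ Set.range (fun h : ιv => Z * v h) ∪
        Set.range (fun h : ιp => ren (p h) + Z * g h)) with hJ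
  have hjZ : ∀ F, j (η (Z * F)) = 0 := fun F => by rw [map_mul, map_mul, hη, hjζ, zero_mul]
  have hiZ : ∀ F, i (η (Z * F)) = c * a (ηZ F) := fun F => by
    rw [map_mul, map_mul, hη, hiζ, hcomm]
  -- J ≤ ker η
  have hle : J ≤ RingHom.ker η := by
    rw [hJ, Ideal.span_le]
    rintro x ((⟨h, rfl⟩ | ⟨h, rfl⟩) | ⟨h, rfl⟩)
    · apply hinj
      · rw [hiZ, hq]
        have : q' h ∈ RingHom.ker a := hq' ▸ Ideal.subset_span ⟨h, rfl⟩
        rw [(RingHom.mem_ker).mp this, mul_zero]
      · exact hjZ _
    · apply hinj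
      · rw [hiZ]
        have : v h ∈ RingHom.ker ηZ := hv ▸ Ideal.subset_span ⟨h, rfl⟩
        rw [(RingHom.mem_ker).mp this, map_zero, mul_zero]
      · exact hjZ _
    · apply hinj
      · rw [map_add, map_add, hiZ, ← hcomm, hg, ← hcZ, ← map_mul, ← map_add, mul_comm]
        have := hg' h
        rw [hq'] at this
        exact (RingHom.mem_ker).mp this
      · rw [map_add, map_add, hjZ, add_zero]
        have : p h ∈ RingHom.ker ((j.comp η).comp ren) := hp ▸ Ideal.subset_span ⟨h, rfl⟩
        exact (RingHom.mem_ker).mp this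
  refine le_antisymm ?_ hle
  intro F hF
  obtain ⟨f₀, F₁, rfl⟩ := exists_decomp F
  change ren f₀ + Z * F₁ ∈ J
  -- f₀ lies in span (range p)
  have hf₀ : f₀ ∈ Ideal.span (Set.range p) := by
    rw [hp, RingHom.mem_ker]
    have h1 : j (η (ren f₀ + Z * F₁)) = 0 := by rw [(RingHom.mem_ker).mp hF, map_zero]
    rw [map_add, map_add, hjZ, add_zero] at h1
    exact h1
  -- so ren f₀ + Z * G ∈ J for some G
  have hGall : ∀ f ∈ Ideal.span (Set.range p), ∃ G, ren f + Z * G ∈ J := by
    intro f hf
    induction hf using Submodule.span_induction with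
    | mem t ht =>
      obtain ⟨h, rfl⟩ := ht
      exact ⟨g h, Ideal.subset_span (Or.inr ⟨h, rfl⟩)⟩
    | zero => exact ⟨0, by rw [map_zero, mul_zero, add_zero]; exact Ideal.zero_mem _⟩
    | add x y _ _ hx hy =>
      obtain ⟨Gx, hGx⟩ := hx
      obtain ⟨Gy, hGy⟩ := hy
      refine ⟨Gx + Gy, ?_⟩
      have : ren (x + y) + Z * (Gx + Gy) = (ren x + Z * Gx) + (ren y + Z * Gy) := by
        rw [map_add]; ring
      rw [this]; exact Ideal.add_mem _ hGx hGy
    | smul r x _ hx =>
      obtain ⟨Gx, hGx⟩ := hx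
      refine ⟨ren r * Gx, ?_⟩
      have : ren (r • x) + Z * (ren r * Gx) = ren r * (ren x + Z * Gx) := by
        rw [smul_eq_mul, map_mul]; ring
      rw [this]; exact Ideal.mul_mem_left _ _ hGx
  have hG := hGall f₀ hf₀
  obtain ⟨G, hG⟩ := hG
  -- reduce to Z * F₂
  have hsplit : ren f₀ + Z * F₁ = (ren f₀ + Z * G) + Z * (F₁ - G) := by ring
  rw [hsplit]
  refine Ideal.add_mem _ hG ?_
  have hF₂ : Z * (F₁ - G) ∈ RingHom.ker η := by
    have : Z * (F₁ - G) = (ren f₀ + Z * F₁) - (ren f₀ + Z * G) := by ring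
    rw [this]
    exact Ideal.sub_mem _ hF (hle hG)
  set F₂ := F₁ - G with hF₂def
  -- ηZ F₂ ∈ ker a
  have hker : ηZ F₂ ∈ RingHom.ker a := by
    rw [RingHom.mem_ker]
    have h1 : i (η (Z * F₂)) = 0 := by rw [(RingHom.mem_ker).mp hF₂, map_zero]
    rw [hiZ] at h1
    exact (mul_left_mem_nonZeroDivisors_eq_zero_iff hc).mp h1
  -- F₂ ∈ span (range q) ⊔ span (range v)
  have hmem : F₂ ∈ Ideal.span (Set.range q) ⊔ Ideal.span (Set.range v) := by
    have hmap : Ideal.map ηZ (Ideal.span (Set.range q)) = RingHom.ker a := by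
      rw [Ideal.map_span, ← hq']
      congr 1
      ext y
      simp only [Set.mem_image, Set.mem_range, exists_exists_eq_and]
      constructor
      · rintro ⟨h, rfl⟩; exact ⟨h, (hq h).symm⟩
      · rintro ⟨h, rfl⟩; exact ⟨h, hq h⟩
    have h2 : F₂ ∈ Ideal.comap ηZ (Ideal.map ηZ (Ideal.span (Set.range q))) := by
      rw [Ideal.mem_comap, hmap]; exact hker
    rw [Ideal.comap_map_of_surjective _ hηZ] at h2
    rw [hv]
    exact h2
  obtain ⟨x, hx, y, hy, hxy⟩ := Submodule.mem_sup.mp hmem
  rw [← hxy, mul_add]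
  refine Ideal.add_mem _ ?_ ?_
  · refine Ideal.span_mono ?_ (mul_mem_span_image Z _ x hx)
    rintro _ ⟨_, ⟨h, rfl⟩, rfl⟩
    exact Or.inl (Or.inl ⟨h, rfl⟩)
  · refine Ideal.span_mono ?_ (mul_mem_span_image Z _ y hy)
    rintro _ ⟨_, ⟨h, rfl⟩, rfl⟩
    exact Or.inl (Or.inr ⟨h, rfl⟩)

end Groth.Agent.S14309
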