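import Groth.Statements.S14311
import Groth.Agent.Lib.Helper76.ArCls2
import Mathlib.RingTheory.MvPowerSeries.Derivative
import Mathlib.Algebra.MvPolynomial.PDeriv

set_option autoImplicit false
universe u
open ArSing

namespace Groth.Agent.S14311

open Groth.Agent.Lib.Helper76.LT Groth.Agent.Lib.Helper76.ArNF Groth.Agent.Lib.Helper76.ArCls

section part0

variable {k : Type u} [Field k]

/-- recentring at `a` -/
noncomputable def tau (a : Fin 2 → k) : MvPolynomial (Fin 2) k →ₐ[k] MvPolynomial (Fin 2) k :=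
  MvPolynomial.aeval (fun i : Fin 2 => MvPolynomial.X i + MvPolynomial.C (a i))

lemma constantCoeff_tau (a : Fin 2 → k) (g : MvPolynomial (Fin 2) k) :
    MvPolynomial.constantCoeff (tau a g) = MvPolynomial.eval a g := by
  induction g using MvPolynomial.induction_on with
  | C c => simp [tau]
  | add p q hp hq => simp only [map_add, hp, hq]
  | mul_X p i hp =>
    simp only [map_mul, hp]
    simp [tau]

lemma pderiv_tau (a : Fin 2 → k) (i : Fin 2) (g : MvPolynomial (Fin 2) k) :
    MvPolynomial.pderiv i (tau a g) = tau a (MvPolynomial.pderiv i g) := by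
  classical
  induction g using MvPolynomial.induction_on with
  | C c => simp [tau]
  | add p q hp hq => simp only [map_add, hp, hq]
  | mul_X p j hp =>
    have hX : tau a (MvPolynomial.X j) = MvPolynomial.X j + MvPolynomial.C (a j) := by
      simp [tau]
    have hdX : MvPolynomial.pderiv i (MvPolynomial.X j + MvPolynomial.C (a j)) =
        tau a (MvPolynomial.pderiv i (MvPolynomial.X j : MvPolynomial (Fin 2) k)) := by
      rw [map_add, MvPolynomial.pderiv_C, add_zero, MvPolynomial.pderiv_X, Pi.single_apply]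
      split_ifs <;> simp
    rw [map_mul, hX, Derivation.leibniz, Derivation.leibniz, hp, hdX]
    simp only [smul_eq_mul, map_add, map_mul, hX]

lemma coeff_eq_c2 (F : MvPowerSeries (Fin 2) k) (m : Fin 2 →₀ ℕ) :
    MvPowerSeries.coeff m F = c2 F (m 0) (m 1) := by
  unfold c2
  rw [← eq_pr m]

lemma eval_pderiv (a : Fin 2 → k) (i : Fin 2) (f : MvPolynomial (Fin 2) k) :
    MvPolynomial.eval a (MvPolynomial.pderiv i f) =
      MvPowerSeries.coeff (Finsupp.single i 1) ((tau a f : MvPolynomial (Fin 2) k) :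
        MvPowerSeries (Fin 2) k) := by
  rw [← constantCoeff_tau, ← pderiv_tau, MvPolynomial.coeff_coe, MvPolynomial.constantCoeff_eq,
    MvPolynomial.coeff_pderiv]
  simp

lemma eval_pderiv_pderiv (a : Fin 2 → k) (i j : Fin 2) (f : MvPolynomial (Fin 2) k) :
    MvPolynomial.eval a (MvPolynomial.pderiv i (MvPolynomial.pderiv j f)) =
      MvPowerSeries.coeff (Finsupp.single i 1 + Finsupp.single j 1)
        ((tau a f : MvPolynomial (Fin 2) k) : MvPowerSeries (Fin 2) k) *
        (((Finsupp.single i 1 : Fin 2 →₀ ℕ) j : k) + 1) := by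
  rw [← constantCoeff_tau, ← pderiv_tau, ← pderiv_tau, MvPolynomial.coeff_coe,
    MvPolynomial.constantCoeff_eq, MvPolynomial.coeff_pderiv, MvPolynomial.coeff_pderiv]
  simp

theorem lhs_iff (h2 : (2 : k) ≠ 0) (f : MvPolynomial (Fin 2) k) (a : Fin 2 → k)
    (hfa : MvPolynomial.eval a f = 0) :
    ((∀ i : Fin 2, MvPolynomial.eval a (MvPolynomial.pderiv i f) = 0) ∧
      ∀ i j : Fin 2, MvPolynomial.eval a (MvPolynomial.pderiv i (MvPolynomial.pderiv j f)) = 0) ↔
    Ord 3 ((tau a f : MvPolynomial (Fin 2) k) : MvPowerSeries (Fin 2) k) := by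
  have h00 : c2 ((tau a f : MvPolynomial (Fin 2) k) : MvPowerSeries (Fin 2) k) 0 0 = 0 := by
    have : MvPowerSeries.coeff 0 ((tau a f : MvPolynomial (Fin 2) k) :
        MvPowerSeries (Fin 2) k) = 0 := by
      rw [MvPolynomial.coeff_coe, ← MvPolynomial.constantCoeff_eq, constantCoeff_tau, hfa]
    rw [coeff_eq_c2] at this
    simpa using this
  have e10 := eval_pderiv a 0 f
  have e01 := eval_pderiv a 1 f
  have e20 := eval_pderiv_pderiv a 0 0 f
  have e11 := eval_pderiv_pderiv a 0 1 f
  have e11' := eval_pderiv_pderiv a 1 0 f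
  have e02 := eval_pderiv_pderiv a 1 1 f
  rw [coeff_eq_c2] at e10 e01 e20 e11 e11' e02
  simp at e10 e01 e20 e11 e11' e02
  have h11 : (1 + 1 : k) ≠ 0 := by rwa [one_add_one_eq_two]
  constructor
  · rintro ⟨hg, hh⟩
    rw [ord_iff_c2]
    intro i j hij
    have hc : (i = 0 ∧ j = 0) ∨ (i = 1 ∧ j = 0) ∨ (i = 0 ∧ j = 1) ∨ (i = 2 ∧ j = 0) ∨
        (i = 1 ∧ j = 1) ∨ (i = 0 ∧ j = 2) := by omega
    rcases hc with ⟨rfl, rfl⟩ | ⟨rfl, rfl⟩ | ⟨rfl, rfl⟩ | ⟨rfl, rfl⟩ | ⟨rfl, rfl⟩ | ⟨rfl, rfl⟩
    · exact h00
    · rw [← e10]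
      exact hg 0
    · rw [← e01]
      exact hg 1
    · have := hh 0 0
      rw [e20] at this
      exact (mul_eq_zero.mp this).resolve_right h11
    · rw [← e11]
      exact hh 0 1
    · have := hh 1 1
      rw [e02] at this
      exact (mul_eq_zero.mp this).resolve_right h11
  · intro h3
    have h := ord_iff_c2.mp h3
    refine ⟨fun i => ?_, fun i j => ?_⟩
    · fin_cases i
      · exact e10.trans (h 1 0 (by norm_num))
      · exact e01.trans (h 0 1 (by norm_num))
    · fin_cases i <;> fin_cases j
      · exact e20.trans (by rw [h 2 0 (by norm_num), zero_mul])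
      · exact e11.trans (h 1 1 (by norm_num))
      · exact e11'.trans (h 1 1 (by norm_num))
      · exact e02.trans (by rw [h 0 2 (by norm_num), zero_mul])

end part0

end Groth.Agent.S14311

namespace Groth.Agent.S14311

/-- Let k be an algebraically closed field in which 2 ≠ 0, f a polynomial in x = X_0, y = X_1 over k and
a a zero of f in k². Then the gradient and all second partial derivatives of f vanish at a if and
only if the completed local ring k[[x,y]]/(f recentred at a) of the plane curve f = 0 at a is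
isomorphic as a k-algebra neither to k[[x,y]]/(y^2 - x^(n+1)) for any natural number n nor to
k[[x,y]]/(y^2). (Here n = 0, a smooth point, is allowed; with n ≥ 1 only, as in the published
definition of an A-singularity, the equivalence fails at smooth points of the curve. Only 2 ≠ 0 is
assumed of the characteristic; the published setting assumes a characteristic different from 2, 3, 5
and 7.) -/
theorem result
    {k : Type u} [Field k] [IsAlgClosed k] (h2 : (2 : k) ≠ 0) (f : MvPolynomial (Fin 2) k) (a : Fin 2 → k)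
    (hfa : MvPolynomial.eval a f = 0) :
    ((∀ i : Fin 2, MvPolynomial.eval a (MvPolynomial.pderiv i f) = 0) ∧
      ∀ i j : Fin 2, MvPolynomial.eval a (MvPolynomial.pderiv i (MvPolynomial.pderiv j f)) = 0) ↔
    ¬ ((∃ n : ℕ, Nonempty ((MvPowerSeries (Fin 2) k ⧸ Ideal.span
        ({(MvPolynomial.aeval (fun i : Fin 2 => MvPolynomial.X i + MvPolynomial.C (a i)) f).toMvPowerSeries} :
          Set (MvPowerSeries (Fin 2) k))) ≃ₐ[k] ArSing.ring k n)) ∨
        Nonempty ((MvPowerSeries (Fin 2) k ⧸ Ideal.span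
        ({(MvPolynomial.aeval (fun i : Fin 2 => MvPolynomial.X i + MvPolynomial.C (a i)) f).toMvPowerSeries} :
          Set (MvPowerSeries (Fin 2) k))) ≃ₐ[k]
          (MvPowerSeries (Fin 2) k ⧸ Ideal.span ({MvPowerSeries.X 1 ^ 2} : Set (MvPowerSeries (Fin 2) k))))) := by
  have hF0 : MvPowerSeries.constantCoeff ((tau a f : MvPolynomial (Fin 2) k) :
      MvPowerSeries (Fin 2) k) = 0 := by
    rw [← MvPowerSeries.coeff_zero_eq_constantCoeff_apply, MvPolynomial.coeff_coe,
      ← MvPolynomial.constantCoeff_eq, constantCoeff_tau, hfa]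
  rw [lhs_iff h2 f a hfa]
  exact Groth.Agent.Lib.Helper76.ArCls.main h2 _ hF0

end Groth.Agent.S14311
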