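import Groth.Statements.S14310
import Groth.Agent.S14311
import Groth.Agent.Lib.Helper76.DblLine

set_option autoImplicit false
universe u
open ArSing

namespace Groth.Agent.S14310

lemma tau_tau_neg {k : Type u} [Field k] (a : Fin 2 → k) (g : MvPolynomial (Fin 2) k) :
    Groth.Agent.S14311.tau a (Groth.Agent.S14311.tau (-a) g) = g := by
  have h : (Groth.Agent.S14311.tau a).comp (Groth.Agent.S14311.tau (-a)) =
      AlgHom.id k (MvPolynomial (Fin 2) k) := by
    apply MvPolynomial.algHom_ext
    intro i
    simp [Groth.Agent.S14311.tau]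
  exact DFunLike.congr_fun h g

lemma tau_neg_tau {k : Type u} [Field k] (a : Fin 2 → k) (g : MvPolynomial (Fin 2) k) :
    Groth.Agent.S14311.tau (-a) (Groth.Agent.S14311.tau a g) = g := by
  have := tau_tau_neg (-a) g
  rwa [neg_neg] at this

end Groth.Agent.S14310


namespace Groth.Agent.S14310

/-- Let k be an algebraically closed field, f a polynomial in two variables x = X_0, y = X_1 over k, and
a a point of k². The quotient of the power series ring k[[x,y]] by the polynomial f recentred at a
(which is the completed local ring at a of the plane curve f = 0) is isomorphic as a k-algebra to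
k[[x,y]]/(y^2) if and only if f = g^2 h for polynomials g and h with h(a) ≠ 0, g(a) = 0 and some
first partial derivative of g non-zero at a. (The published statement asks for the component through
a to be the square of a smooth plane curve; only smoothness at a matters and is what is stated here
— for the square of a nodal cubic the completed local ring at a smooth point of the cubic is still
k[[x,y]]/(y^2). No hypothesis on the characteristic of k is imposed; the published setting assumes a
characteristic different from 2, 3, 5 and 7, which the argument does not use.) -/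
theorem result
    {k : Type u} [Field k] [IsAlgClosed k] (f : MvPolynomial (Fin 2) k) (a : Fin 2 → k) :
    Nonempty ((MvPowerSeries (Fin 2) k ⧸ Ideal.span
        ({(MvPolynomial.aeval (fun i : Fin 2 => MvPolynomial.X i + MvPolynomial.C (a i)) f).toMvPowerSeries} :
          Set (MvPowerSeries (Fin 2) k))) ≃ₐ[k]
      (MvPowerSeries (Fin 2) k ⧸ Ideal.span ({MvPowerSeries.X 1 ^ 2} : Set (MvPowerSeries (Fin 2) k)))) ↔
    ∃ g h : MvPolynomial (Fin 2) k, f = g ^ 2 * h ∧ MvPolynomial.eval a h ≠ 0 ∧ MvPolynomial.eval a g = 0 ∧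
      ∃ i : Fin 2, MvPolynomial.eval a (MvPolynomial.pderiv i g) ≠ 0 := by
  classical
  have hdef : MvPolynomial.aeval (fun i : Fin 2 => MvPolynomial.X i + MvPolynomial.C (a i)) f =
      Groth.Agent.S14311.tau a f := rfl
  rw [hdef]
  constructor
  · rintro ⟨E⟩
    obtain ⟨u, G, hu, hF, hG0, hG1⟩ := Groth.Agent.Lib.Helper76.DblLine.exists_sq_of_equiv E
    have hGp := Groth.Agent.Lib.Helper76.DblLine.prime_of_lin hG0 hG1
    obtain ⟨g0, h0, hfg, hh0, w, hw, hgw⟩ :=
      Groth.Agent.Lib.Helper76.DblLine.exists_poly_sq hu hGp hF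
    refine ⟨Groth.Agent.S14311.tau (-a) g0, Groth.Agent.S14311.tau (-a) h0, ?_, ?_, ?_, ?_⟩
    · rw [← map_pow, ← map_mul, ← hfg]
      exact (tau_neg_tau a f).symm
    · rw [← Groth.Agent.S14311.constantCoeff_tau, tau_tau_neg]
      exact hh0
    · rw [← Groth.Agent.S14311.constantCoeff_tau, tau_tau_neg]
      have h1 : MvPowerSeries.constantCoeff ((g0 : MvPolynomial (Fin 2) k) :
          MvPowerSeries (Fin 2) k) = 0 := by
        rw [hgw, map_mul, hG0, zero_mul]
      rwa [← MvPowerSeries.coeff_zero_eq_constantCoeff_apply, MvPolynomial.coeff_coe,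
        ← MvPolynomial.constantCoeff_eq] at h1
    · obtain ⟨s, hs⟩ := hG1
      refine ⟨s, ?_⟩
      rw [Groth.Agent.S14311.eval_pderiv, tau_tau_neg, hgw,
        Groth.Agent.Lib.Helper76.PSInv.coeff_single_mul, hG0, zero_mul, zero_add]
      have hw0 : MvPowerSeries.constantCoeff w ≠ 0 :=
        (MvPowerSeries.isUnit_iff_constantCoeff.mp hw).ne_zero
      exact mul_ne_zero hs hw0
  · rintro ⟨g, h, hf, hh, hg, i, hi⟩
    refine Groth.Agent.Lib.Helper76.DblLine.equiv_of_sq
      (G := ((Groth.Agent.S14311.tau a g : MvPolynomial (Fin 2) k) : MvPowerSeries (Fin 2) k))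
      (H := ((Groth.Agent.S14311.tau a h : MvPolynomial (Fin 2) k) : MvPowerSeries (Fin 2) k))
      ?_ ?_ ?_ ⟨i, ?_⟩
    · rw [hf, map_mul, map_pow, MvPolynomial.coe_mul, MvPolynomial.coe_pow]
    · rw [MvPowerSeries.isUnit_iff_constantCoeff,
        ← MvPowerSeries.coeff_zero_eq_constantCoeff_apply, MvPolynomial.coeff_coe,
        ← MvPolynomial.constantCoeff_eq, Groth.Agent.S14311.constantCoeff_tau]
      exact IsUnit.mk0 _ hh
    · rw [← MvPowerSeries.coeff_zero_eq_constantCoeff_apply, MvPolynomial.coeff_coe,
        ← MvPolynomial.constantCoeff_eq, Groth.Agent.S14311.constantCoeff_tau]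
      exact hg
    · rw [← Groth.Agent.S14311.eval_pderiv]
      exact hi

end Groth.Agent.S14310
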