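import Groth.Statements.S1432
-- import your own Groth.Agent.* helpers here

set_option autoImplicit false
universe u
open FlatMor

namespace Groth.Agent.S1432

open AlgebraicGeometry CategoryTheory Limits

/-- The lifting property against injective ring maps. -/
def Lift {X Y : Scheme.{u}} (f : X ⟶ Y) : Prop :=
  ∀ (A B : Type u) [CommRing A] [CommRing B] (φ : A →+* B), Function.Injective φ →
      ∀ (a : Spec (CommRingCat.of B) ⟶ X) (b : Spec (CommRingCat.of A) ⟶ Y), Spec.map (CommRingCat.ofHom φ) ≫ b = a ≫ f →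
        ∃ l : Spec (CommRingCat.of A) ⟶ X, Spec.map (CommRingCat.ofHom φ) ≫ l = a ∧ l ≫ f = b

theorem Lift.baseChange {X Y Y' : Scheme.{u}} (f : X ⟶ Y) (g : Y' ⟶ Y) (h : Lift f) :
    Lift (pullback.snd f g) := by
  intro A B _ _ φ hφ a b hab
  obtain ⟨l, hl1, hl2⟩ := h A B φ hφ (a ≫ pullback.fst f g) (b ≫ g) (by
    rw [← Category.assoc, hab, Category.assoc, Category.assoc, pullback.condition])
  refine ⟨pullback.lift l b hl2, ?_, pullback.lift_snd _ _ _⟩
  apply pullback.hom_ext
  · rw [Category.assoc, pullback.lift_fst, hl1]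
  · rw [Category.assoc, pullback.lift_snd, hab]

theorem affine_case {X Y : Scheme.{u}} (f : X ⟶ Y) [QuasiCompact f] [IsAffine Y] (h : Lift f) :
    IsClosedImmersion f := by
  have : CompactSpace X := QuasiCompact.compactSpace_of_compactSpace f
  let 𝒰 : X.OpenCover := X.affineCover.finiteSubcover
  let W : Scheme.{u} := ∐ 𝒰.X
  let c : W ⟶ X := Sigma.desc 𝒰.f
  have hc : ∀ i, Sigma.ι 𝒰.X i ≫ c = 𝒰.f i := fun i => Sigma.ι_desc _ _
  let ψ : Γ(Y, ⊤) →+* Γ(X, ⊤) := f.appTop.hom
  let I : Ideal Γ(Y, ⊤) := RingHom.ker ψ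
  let ψ' : Γ(Y, ⊤) ⧸ I →+* Γ(X, ⊤) := ψ.kerLift
  have hψ' : Function.Injective ψ' := ψ.kerLift_injective
  have hψ'mk : ψ'.comp (Ideal.Quotient.mk I) = ψ := by ext; rfl
  have hcinj : Function.Injective c.appTop.hom := by
    rw [injective_iff_map_eq_zero]
    intro s hs
    apply Scheme.zero_of_zero_cover s 𝒰
    intro i
    have h1 : (𝒰.f i).appTop = c.appTop ≫ (Sigma.ι 𝒰.X i).appTop := by
      rw [← Scheme.Hom.comp_appTop, hc i]
    show (𝒰.f i).appTop.hom s = 0
    rw [h1, CommRingCat.hom_comp, RingHom.comp_apply, hs, map_zero]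
  let φ : Γ(Y, ⊤) ⧸ I →+* Γ(W, ⊤) := c.appTop.hom.comp ψ'
  have hφ : Function.Injective φ := hcinj.comp hψ'
  let a : Spec (CommRingCat.of Γ(W, ⊤)) ⟶ X := W.isoSpec.inv ≫ c
  let b : Spec (CommRingCat.of (Γ(Y, ⊤) ⧸ I)) ⟶ Y :=
    Spec.map (CommRingCat.ofHom (Ideal.Quotient.mk I)) ≫ Y.isoSpec.inv
  let f' : X ⟶ Spec (CommRingCat.of (Γ(Y, ⊤) ⧸ I)) := X.toSpecΓ ≫ Spec.map (CommRingCat.ofHom ψ')
  have hf'b : f' ≫ b = f := by
    simp only [f', b, Category.assoc]
    rw [← Spec.map_comp_assoc, ← CommRingCat.ofHom_comp, hψ'mk]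
    show X.toSpecΓ ≫ Spec.map f.appTop ≫ Y.isoSpec.inv = f
    rw [← Scheme.toSpecΓ_naturality_assoc, Scheme.toSpecΓ_isoSpec_inv, Category.comp_id]
  have sq : Spec.map (CommRingCat.ofHom φ) ≫ b = a ≫ f := by
    simp only [a, b, Category.assoc]
    rw [← Spec.map_comp_assoc, ← CommRingCat.ofHom_comp]
    have : CommRingCat.ofHom (φ.comp (Ideal.Quotient.mk I)) = (c ≫ f).appTop := by
      rw [Scheme.Hom.comp_appTop]
      ext x
      rfl
    rw [this, Scheme.isoSpec_inv_naturality]
  obtain ⟨l, hl1, hl2⟩ := h _ _ φ hφ a b sq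
  have h1 : l ≫ f' = 𝟙 _ := by
    rw [← cancel_mono b, Category.assoc, hf'b, hl2, Category.id_comp]
  have h2 : f' ≫ l = 𝟙 _ := by
    apply 𝒰.hom_ext
    intro i
    have h3 : a ≫ f' ≫ l = a := by
      rw [← hl1, Category.assoc, reassoc_of% h1]
    have h4 : c ≫ f' ≫ l = c := by
      rw [← cancel_epi W.isoSpec.inv]
      exact h3
    rw [← hc i, Category.assoc, h4, Category.comp_id]
  have : IsIso f' := ⟨l, h2, h1⟩
  rw [← hf'b]
  infer_instance

open AlgebraicGeometry CategoryTheory Limits in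
/-- For a quasi-compact morphism f : X → Y, being a closed immersion is equivalent to the following
lifting property: for each injective ring map A → B and each commutative square with Spec B → X on
top and Spec A → Y at the bottom there is a lift Spec A → X making both triangles commute. -/
theorem result {X Y : Scheme.{u}} (f : X ⟶ Y) [QuasiCompact f] :
    IsClosedImmersion f ↔ ∀ (A B : Type u) [CommRing A] [CommRing B] (φ : A →+* B), Function.Injective φ →
      ∀ (a : Spec (CommRingCat.of B) ⟶ X) (b : Spec (CommRingCat.of A) ⟶ Y), Spec.map (CommRingCat.ofHom φ) ≫ b = a ≫ f →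
        ∃ l : Spec (CommRingCat.of A) ⟶ X, Spec.map (CommRingCat.ofHom φ) ≫ l = a ∧ l ≫ f = b := by
  constructor
  · intro hf A B _ _ φ hφ a b sq
    let s : Spec (CommRingCat.of B) ⟶ pullback f b :=
      pullback.lift a (Spec.map (CommRingCat.ofHom φ)) sq.symm
    have hs : s ≫ pullback.snd f b = Spec.map (CommRingCat.ofHom φ) := pullback.lift_snd _ _ _
    have hinj : Function.Injective (pullback.snd f b).appTop.hom := by
      have h1 : Function.Injective (Spec.map (CommRingCat.ofHom φ)).appTop.hom := by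
        have := Scheme.ΓSpecIso_naturality (CommRingCat.ofHom φ)
        have h2 : (Spec.map (CommRingCat.ofHom φ)).appTop =
            (Scheme.ΓSpecIso _).hom ≫ CommRingCat.ofHom φ ≫ (Scheme.ΓSpecIso _).inv := by
          rw [← reassoc_of% this, Iso.hom_inv_id, Category.comp_id]
        rw [h2]
        simp only [CommRingCat.hom_comp, RingHom.coe_comp]
        exact ((ConcreteCategory.bijective_of_isIso (Scheme.ΓSpecIso _).inv).1.comp hφ).comp
          (ConcreteCategory.bijective_of_isIso (Scheme.ΓSpecIso _).hom).1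
      rw [← hs, Scheme.Hom.comp_appTop, CommRingCat.hom_comp, RingHom.coe_comp] at h1
      exact Function.Injective.of_comp h1
    have : IsIso (pullback.snd f b) :=
      IsClosedImmersion.isIso_of_injective_of_isAffine hinj
    refine ⟨inv (pullback.snd f b) ≫ pullback.fst f b, ?_, ?_⟩
    · rw [← hs, Category.assoc, IsIso.hom_inv_id_assoc]
      exact pullback.lift_fst _ _ _
    · rw [Category.assoc, pullback.condition, IsIso.inv_hom_id_assoc]
  · intro h
    apply IsZariskiLocalAtTarget.of_openCover (P := @IsClosedImmersion) Y.affineCover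
    intro i
    have : QuasiCompact (pullback.snd f (Y.affineCover.f i)) := inferInstance
    have : IsAffine (Y.affineCover.X i) := inferInstance
    exact affine_case (pullback.snd f (Y.affineCover.f i)) (Lift.baseChange f _ h)

end Groth.Agent.S1432
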