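import Groth.Statements.S14337
-- import your own Groth.Agent.* helpers here
import Mathlib.RingTheory.Flat.EquationalCriterion
import Mathlib.Algebra.Module.FinitePresentation

set_option autoImplicit false
universe u
open scoped TensorProduct
open CAlg

namespace Groth.Agent.S14337

/-- Let B be a Noetherian ring, K and K' finitely generated flat B-modules and φ : K → K' a B-linear
map; for a prime y of B write κ(y) for its residue field and φ_y for the base change κ(y) ⊗ K → κ(y)
⊗ K'. If the cokernel K'/Im φ is a projective (locally free) B-module, then Im φ is projective, and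
the formation of Im φ commutes with every base change: for every commutative B-algebra B' the map B'
⊗ Im φ → B' ⊗ K' induced by the inclusion is injective and its range is the range of the base change
B' ⊗ K → B' ⊗ K' of φ. -/
theorem result (B : Type u) [CommRing B] [IsNoetherianRing B] (K K' : Type u) [AddCommGroup K] [Module B K] [Module.Finite B K] [Module.Flat B K] [AddCommGroup K'] [Module B K'] [Module.Finite B K'] [Module.Flat B K'] (φ : K →ₗ[B] K') (hc : Module.Projective B (K' ⧸ LinearMap.range φ)) : Module.Projective B ↥(LinearMap.range φ) ∧ ∀ (B' : Type u) [CommRing B'] [Algebra B B'], Function.Injective ((LinearMap.range φ).subtype.baseChange B') ∧ LinearMap.range ((LinearMap.range φ).subtype.baseChange B') = LinearMap.range (φ.baseChange B') := by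
  classical
  have hfp : Module.FinitePresentation B K' := Module.finitePresentation_of_finite B K'
  have hK' : Module.Projective B K' := Module.Flat.projective_of_finitePresentation
  set R := LinearMap.range φ with hR
  -- a section of K' → K'/R
  obtain ⟨s, hs⟩ := R.mkQ.exists_rightInverse_of_surjective (Submodule.range_mkQ R)
  -- the retraction K' → R
  let r : K' →ₗ[B] R := LinearMap.codRestrict R (LinearMap.id - s ∘ₗ R.mkQ) (fun x => by
    have hmem : ∀ y : K', R.mkQ y = 0 → y ∈ R := fun y hy => by
      rwa [Submodule.mkQ_apply, Submodule.Quotient.mk_eq_zero] at hy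
    apply hmem
    have := LinearMap.congr_fun hs (R.mkQ x)
    simp only [LinearMap.coe_comp, Function.comp_apply, LinearMap.id_coe, id_eq] at this
    rw [LinearMap.sub_apply, map_sub, LinearMap.id_apply, LinearMap.comp_apply, this, sub_self])
  have hr : r ∘ₗ R.subtype = LinearMap.id := by
    ext ⟨x, hx⟩
    have : R.mkQ x = 0 := by rwa [Submodule.mkQ_apply, Submodule.Quotient.mk_eq_zero]
    simp [r, this]
  refine ⟨Module.Projective.of_split R.subtype r hr, fun B' _ _ => ⟨?_, ?_⟩⟩
  · have h1 : (r.baseChange B') ∘ₗ (R.subtype.baseChange B') = LinearMap.id := by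
      rw [← LinearMap.baseChange_comp, hr, LinearMap.baseChange_id]
    exact Function.LeftInverse.injective (g := r.baseChange B') (fun x => LinearMap.congr_fun h1 x)
  · have h2 : φ = R.subtype ∘ₗ φ.rangeRestrict := rfl
    conv_rhs => rw [h2, LinearMap.baseChange_comp]
    rw [LinearMap.range_comp_of_range_eq_top]
    rw [LinearMap.range_eq_top]
    exact LinearMap.lTensor_surjective _ φ.surjective_rangeRestrict

end Groth.Agent.S14337
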