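import Groth.Statements.S14338
import Mathlib
import Groth.Agent.Lib.Helper45.FibreDim
import Groth.Agent.S14337

set_option autoImplicit false
universe u
open CAlg

namespace Groth.Agent.S14338

/-- Let B be a Noetherian ring, K and K' finitely generated flat B-modules and φ : K → K' a B-linear
map; for a prime y of B write κ(y) for its residue field and φ_y for the base change κ(y) ⊗ K → κ(y)
⊗ K'. Assume B is reduced and the number dim_{κ(y)} Im(φ_y) is the same for all primes y of B. Then
the cokernel K'/Im φ and the image Im φ are projective (locally free) B-modules. -/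
theorem result (B : Type u) [CommRing B] [IsNoetherianRing B] (K K' : Type u) [AddCommGroup K] [Module B K] [Module.Finite B K] [Module.Flat B K] [AddCommGroup K'] [Module B K'] [Module.Finite B K'] [Module.Flat B K'] (φ : K →ₗ[B] K') [IsReduced B] (hconst : ∃ c : ℕ, ∀ y : PrimeSpectrum B, Module.finrank y.asIdeal.ResidueField ↥(LinearMap.range (φ.baseChange y.asIdeal.ResidueField)) = c) : Module.Projective B (K' ⧸ LinearMap.range φ) ∧ Module.Projective B ↥(LinearMap.range φ) := by
  open Groth.Agent.Lib.Helper45.Fitting in
  have hfp : Module.FinitePresentation B K' := Module.finitePresentation_of_finite B K'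
  obtain ⟨c, hc⟩ := hconst
  have hK' : IsLocallyConstant (fibreDim B K') := isLocallyConstant_fibreDim_of_flat
  have hC : IsLocallyConstant (fibreDim B (K' ⧸ LinearMap.range φ)) := by
    rw [IsLocallyConstant.iff_exists_open]
    intro y₀
    refine ⟨fibreDim B K' ⁻¹' {fibreDim B K' y₀}, hK'.isOpen_fiber _, rfl, ?_⟩
    intro y hy
    simp only [Set.mem_preimage, Set.mem_singleton_iff] at hy
    have h1 := fibreDim_coker_add φ y
    have h2 := fibreDim_coker_add φ y₀
    rw [hc y] at h1
    rw [hc y₀] at h2
    omega
  have hproj : Module.Projective B (K' ⧸ LinearMap.range φ) := projective_of_isLocallyConstant_fibreDim hC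
  exact ⟨hproj, (Groth.Agent.S14337.result B K K' φ hproj).1⟩

end Groth.Agent.S14338
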