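import Groth.Statements.S1434
-- import your own Groth.Agent.* helpers here

set_option autoImplicit false
universe u
open FlatMor

namespace Groth.Agent.S1434

open AlgebraicGeometry CategoryTheory Limits in
/-- Sections killed by a first order thickening multiply to zero (over any open). -/
lemma sq_zero {T T' : Scheme.{u}} (t : T ⟶ T') [IsClosedImmersion t] (ht : t.ker * t.ker = ⊥)
    (W : T'.Opens) (x y : Γ(T', W)) (hx : (t.app W).hom x = 0) (hy : (t.app W).hom y = 0) :
    x * y = 0 := by
  refine TopCat.Presheaf.section_ext T'.sheaf W (x * y) 0 fun p hp => ?_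
  obtain ⟨_, ⟨V, hV, rfl⟩, hpV, hVW⟩ :=
    T'.isBasis_affineOpens.exists_subset_of_mem_open hp W.isOpen
  have hVW' : V ≤ W := hVW
  have hres : ∀ z : Γ(T', W), (t.app W).hom z = 0 →
      (T'.presheaf.map (homOfLE hVW').op).hom z ∈ t.ker.ideal ⟨V, hV⟩ := by
    intro z hz
    rw [Scheme.Hom.ker_apply, RingHom.mem_ker]
    have := congr($(t.naturality (homOfLE hVW').op).hom z)
    simp only [CommRingCat.hom_comp, RingHom.comp_apply] at this
    erw [this, hz, map_zero]
  have h1 : (T'.presheaf.map (homOfLE hVW').op).hom (x * y) ∈ (t.ker * t.ker).ideal ⟨V, hV⟩ := by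
    rw [map_mul, Scheme.IdealSheafData.ideal_mul]
    exact Ideal.mul_mem_mul (hres x hx) (hres y hy)
  rw [ht, Scheme.IdealSheafData.ideal_bot] at h1
  have h2 : (T'.presheaf.map (homOfLE hVW').op).hom (x * y) = 0 := h1
  have h3 := TopCat.Presheaf.germ_res_apply T'.presheaf (homOfLE hVW') p hpV (x * y)
  erw [h2] at h3
  rw [map_zero] at h3
  rw [map_zero]
  exact h3.symm

open AlgebraicGeometry CategoryTheory Limits in
/-- Part (1), for a closed subscheme: let Z ⊂ X be the closed subscheme cut out by an ideal sheaf I and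
Z' the one cut out by I², its first order infinitesimal neighbourhood. Given a first order
thickening T → T', a morphism a : T → Z and a morphism b : T' → X compatible with them, there is a
unique morphism T' → Z' through which b factors (compatibility with a is then automatic). -/
theorem result {X T T' : Scheme.{u}} (I : X.IdealSheafData) (t : T ⟶ T') (ht : MoreMor.IsFirstOrderThickening t)
    (a : T ⟶ I.subscheme) (b : T' ⟶ X) (w : a ≫ I.subschemeι = t ≫ b) :
    ∃! a' : T' ⟶ (I ^ 2).subscheme, a' ≫ (I ^ 2).subschemeι = b := by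
  obtain ⟨⟨hci, hsurj⟩, hsq⟩ := ht
  have hle : (I ^ 2) ≤ b.ker := by
    rw [Scheme.Hom.ker, Scheme.IdealSheafData.le_ofIdeals_iff]
    intro U
    rw [Scheme.IdealSheafData.ideal_pow, Pi.pow_apply, pow_two, Ideal.mul_le]
    have hI : ∀ r ∈ I.ideal U, (t.app (b ⁻¹ᵁ U)).hom ((b.app U).hom r) = 0 := by
      intro r hr
      have h1 : I ≤ (t ≫ b).ker := by
        rw [← w]
        conv_lhs => rw [← I.ker_subschemeι]
        exact Scheme.Hom.le_ker_comp _ _
      have h2 := (t ≫ b).ideal_ker_le U (h1 U hr)
      rw [RingHom.mem_ker, Scheme.Hom.comp_app] at h2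
      exact h2
    intro r hr r' hr'
    rw [RingHom.mem_ker, map_mul]
    exact sq_zero t hsq _ _ _ (hI r hr) (hI r' hr')
  have hk : ((I ^ 2).subschemeι).ker ≤ b.ker := by rwa [Scheme.IdealSheafData.ker_subschemeι]
  refine ⟨IsClosedImmersion.lift (I ^ 2).subschemeι b hk, IsClosedImmersion.lift_fac _ _ _, ?_⟩
  intro a' ha'
  rw [← cancel_mono (I ^ 2).subschemeι, ha', IsClosedImmersion.lift_fac]

end Groth.Agent.S1434
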