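import Groth.Statements.S14347
import Mathlib
import Groth.Agent.Lib.Helper45.FittingMatrix

set_option autoImplicit false
universe u
open QuotLF

namespace Groth.Agent.S14347

/-- Let R be a commutative ring and σ : R^m → R^n an injective linear map with cokernel M, so that M has
a length-one resolution by finite free modules and rank δ = n − m; let K be the cokernel of the dual
map (R^n)^∨ → (R^m)^∨, which is the module Ext¹_R(M, R). Then the Fitting ideals satisfy Fit_{δ +
j}(M) = Fit_j(K) for all j ≥ 0, and Fit_i(M) = 0 for i < δ (the degeneracy loci of M and of K agree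
after the shift by δ). -/
theorem result (R : Type u) [CommRing R] (m n : ℕ)
    (σ : (Fin m → R) →ₗ[R] (Fin n → R)) (hσ : Function.Injective σ) :
    (∀ j : ℕ, Fitt.ideal R ((Fin n → R) ⧸ LinearMap.range σ) (n - m + j) =
        Fitt.ideal R (Module.Dual R (Fin m → R) ⧸ LinearMap.range σ.dualMap) j) ∧
      ∀ i : ℕ, i < n - m → Fitt.ideal R ((Fin n → R) ⧸ LinearMap.range σ) i = ⊥ := by
  open Groth.Agent.Lib.Helper45.Fitting in
  obtain ⟨A, rfl⟩ : ∃ A : Matrix (Fin n) (Fin m) R, σ = A.mulVecLin :=
    ⟨LinearMap.toMatrix' σ, by rw [← Matrix.toLin'_apply', Matrix.toLin'_toMatrix']⟩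
  rcases subsingleton_or_nontrivial R with hsub | hnt
  · have : Subsingleton (Ideal R) := ⟨fun I J => by ext x; simp [Subsingleton.elim x 0]⟩
    exact ⟨fun j => Subsingleton.elim _ _, fun i _ => Subsingleton.elim _ _⟩
  · have hmn : m ≤ n := by
      have := LinearMap.finrank_le_finrank_of_injective hσ
      simpa using this
    constructor
    · intro j
      rw [fitt_coker_eq_minorIdeal, fitt_cokerDual_eq_minorIdeal]
      congr 1
      omega
    · intro i hi
      rw [fitt_coker_eq_minorIdeal]
      exact minorIdeal_eq_bot_of_lt_col A (by omega)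

end Groth.Agent.S14347
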