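import Groth.Statements.S1435
import Groth.Agent.Lib.Helper8.AffStrat

set_option autoImplicit false
universe u
open FlatMor

namespace Groth.Agent.S1435

open AlgebraicGeometry CategoryTheory Limits in
/-- A scheme has a finite affine stratification if and only if it is quasi-compact and quasi-separated. -/
theorem result (X : Scheme.{u}) :
    (∃ n : ℕ, MoreMor.HasAffineStratification X n) ↔ CompactSpace ↑X ∧ QuasiSeparatedSpace ↑X := by
  classical
  constructor
  · rintro ⟨n, s, -, hstr⟩
    choose Z ι h1 h2 h3 h4 using hstr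
    constructor
    · rw [← isCompact_univ_iff]
      have : (Set.univ : Set X) = ⋃ i, Set.range (ι i) := by
        ext x
        simp only [Set.mem_univ, Set.mem_iUnion, true_iff]
        exact ⟨s x, by rw [h4]; rfl⟩
      rw [this]
      exact isCompact_iUnion fun i => haveI := h2 i; isCompact_range (ι i).continuous
    · rw [quasiSeparatedSpace_iff_forall_affineOpens]
      intro U V
      have : ((U : X.Opens) : Set X) ∩ ((V : X.Opens) : Set X) =
          ⋃ i, (ι i) '' (((ι i) ⁻¹ᵁ (U : X.Opens) : Set (Z i)) ∩ ((ι i) ⁻¹ᵁ (V : X.Opens) : Set (Z i))) := by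
        ext x
        simp only [Set.mem_inter_iff, SetLike.mem_coe, Set.mem_iUnion, Set.mem_image,
          Scheme.Hom.coe_preimage, Set.mem_preimage]
        constructor
        · rintro ⟨hU, hV⟩
          have hx : x ∈ Set.range (ι (s x)) := by rw [h4]; rfl
          obtain ⟨z, hz⟩ := hx
          exact ⟨s x, z, ⟨by rw [hz]; exact hU, by rw [hz]; exact hV⟩, hz⟩
        · rintro ⟨i, z, ⟨hU, hV⟩, rfl⟩
          exact ⟨hU, hV⟩
      rw [this]
      refine isCompact_iUnion fun i => IsCompact.image ?_ (ι i).continuous
      have := h2 i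
      have := h3 i
      exact QuasiSeparatedSpace.inter_isCompact _ _ ((ι i) ⁻¹ᵁ (U : X.Opens)).isOpen
        ((U.2.preimage (ι i)).isCompact) ((ι i) ⁻¹ᵁ (V : X.Opens)).isOpen
        ((V.2.preimage (ι i)).isCompact)
  · rintro ⟨h1, h2⟩
    exact Groth.Agent.Lib.Helper8.AffStrat.exists_hasAffineStratification_of_qcqs X

end Groth.Agent.S1435
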