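import Groth.Statements.S14351
-- import your own Groth.Agent.* helpers here
import Mathlib.RingTheory.Flat.FaithfullyFlat.Algebra
import Mathlib.RingTheory.Flat.Stability

set_option autoImplicit false
universe u
open CAlg

namespace Groth.Agent.S14351

/-- For ring maps A → B → C with C faithfully flat over B and C faithfully flat over A, the ring B is
faithfully flat over A. -/
theorem result (A B C : Type u) [CommRing A] [CommRing B]
    [CommRing C] [Algebra A B] [Algebra B C] [Algebra A C] [IsScalarTower A B C]
    [Module.FaithfullyFlat B C] [Module.FaithfullyFlat A C] : Module.FaithfullyFlat A B := by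
  -- flatness
  have hflat : Module.Flat A B := by
    rw [Module.Flat.iff_lTensor_preserves_injective_linearMap]
    intro M N _ _ _ _ f hf
    have h1 : Function.Injective (f.baseChange C) :=
      Module.Flat.lTensor_preserves_injective_linearMap f hf
    change Function.Injective (f.baseChange B)
    rw [← Module.FaithfullyFlat.lTensor_injective_iff_injective B C]
    let eM := TensorProduct.AlgebraTensorModule.cancelBaseChange A B C C M
    let eN := TensorProduct.AlgebraTensorModule.cancelBaseChange A B C C N
    have hcomm : ∀ z, eN ((f.baseChange B).lTensor C z) = (f.baseChange C) (eM z) := by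
      intro z
      induction z using TensorProduct.induction_on with
      | zero => simp
      | add x y hx hy => simp only [map_add, hx, hy]
      | tmul c y =>
        induction y using TensorProduct.induction_on with
        | zero => simp
        | add x y hx hy => simp only [TensorProduct.tmul_add, map_add, hx, hy]
        | tmul b m =>
          simp [eM, eN, TensorProduct.AlgebraTensorModule.cancelBaseChange_tmul]
    intro z w hzw
    apply eM.injective
    apply h1
    rw [← hcomm, ← hcomm, hzw]
  exact Module.FaithfullyFlat.of_comap_surjective (fun p => by
    obtain ⟨q, hq⟩ := PrimeSpectrum.comap_surjective_of_faithfullyFlat (A := A) (B := C) p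
    refine ⟨PrimeSpectrum.comap (algebraMap B C) q, ?_⟩
    rw [← hq, ← PrimeSpectrum.comap_comp_apply, IsScalarTower.algebraMap_eq A B C])

end Groth.Agent.S14351
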