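import Groth.Statements.S14353
import Mathlib
import Groth.Agent.Lib.Helper95.MLLift

set_option autoImplicit false
universe u
open CategoryTheory CategoryTheory.Limits CategoryTheory.MonoidalCategory
open CAlg

namespace Groth.Agent.S14353

open TensorProduct Opposite
open Groth.Agent.Lib.Helper95.MLLift

section abstract_

variable {R : Type u} [CommRing R]
  (Mn : ℕ → Type u) [∀ n, AddCommGroup (Mn n)] [∀ n, Module R (Mn n)]
  (T : ∀ n m, n ≤ m → (Mn m →ₗ[R] Mn n))

/-- compatible families in `Mn n ⊗ X` -/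
def IsCompat (X : Type u) [AddCommGroup X] [Module R X] (w : ∀ n, Mn n ⊗[R] X) : Prop :=
  ∀ n m (h : n ≤ m), (T n m h).rTensor X (w m) = w n

variable (hT0 : ∀ n (x : Mn n), T n n le_rfl x = x)
  (hT : ∀ n m k (h1 : n ≤ m) (h2 : m ≤ k) (x : Mn k),
      T n m h1 (T m k h2 x) = T n k (h1.trans h2) x)

include hT0 hT in
/-- general lifting through a compatible family of maps `Mn n ⊗ X → Mn n ⊗ Y` induced by `f` -/
theorem lift_compat {X Y : Type u} [AddCommGroup X] [Module R X] [AddCommGroup Y] [Module R Y]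
    [∀ n, IsArtinian R (Mn n ⊗[R] X)] (f : X →ₗ[R] Y)
    (w : ∀ n, Mn n ⊗[R] Y) (hw : IsCompat Mn T Y w)
    (hr : ∀ n, ∃ x, f.lTensor (Mn n) x = w n) :
    ∃ w' : ∀ n, Mn n ⊗[R] X, IsCompat Mn T X w' ∧ ∀ n, f.lTensor (Mn n) (w' n) = w n := by
  refine ml_lift (R := R) (P := fun n => Mn n ⊗[R] X) (Z := fun n => Mn n ⊗[R] Y)
    (fun n m h => (T n m h).rTensor X) ?_ ?_ (fun n m h => (T n m h).rTensor Y)
    (fun n => f.lTensor (Mn n)) ?_ w hw hr
  · intro n x
    have : T n n le_rfl = LinearMap.id := LinearMap.ext (hT0 n)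
    rw [this, LinearMap.rTensor_id, LinearMap.id_apply]
  · intro n m k h1 h2 x
    have : (T n m h1).comp (T m k h2) = T n k (h1.trans h2) := LinearMap.ext (hT n m k h1 h2)
    rw [← this, LinearMap.rTensor_comp, LinearMap.comp_apply]
  · intro n m h x
    rw [← LinearMap.comp_apply, ← LinearMap.comp_apply, LinearMap.lTensor_comp_rTensor,
      LinearMap.rTensor_comp_lTensor]

variable (L : Type u) [AddCommGroup L] [Module R L] (π : ∀ n, L →ₗ[R] Mn n)
  (hπ : ∀ n m (h : n ≤ m) (x : L), T n m h (π m x) = π n x)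
  (F1 : ∀ x : L, (∀ n, π n x = 0) → x = 0)
  (F2 : ∀ s : ∀ n, Mn n, (∀ n m (h : n ≤ m), T n m h (s m) = s n) → ∃ x : L, ∀ n, π n x = s n)

include hπ in
lemma phi_compat (X : Type u) [AddCommGroup X] [Module R X] (z : L ⊗[R] X) :
    IsCompat Mn T X (fun n => (π n).rTensor X z) := by
  intro n m h
  have : (T n m h).comp (π m) = π n := LinearMap.ext (hπ n m h)
  rw [← LinearMap.comp_apply, ← LinearMap.rTensor_comp, this]

lemma piScalarRight_natural {K K' : Type u} [AddCommGroup K] [Module R K] [AddCommGroup K']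
    [Module R K'] (c : ℕ) (h : K →ₗ[R] K') (z : K ⊗[R] (Fin c → R)) (i : Fin c) :
    TensorProduct.piScalarRight R R K' (Fin c) (h.rTensor _ z) i
      = h (TensorProduct.piScalarRight R R K (Fin c) z i) := by
  induction z using TensorProduct.induction_on with
  | zero => simp
  | tmul x f =>
    rw [LinearMap.rTensor_tmul, TensorProduct.piScalarRight_apply,
      TensorProduct.piScalarRight_apply, TensorProduct.piScalarRightHom_tmul,
      TensorProduct.piScalarRightHom_tmul, map_smul]
  | add x y hx hy =>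
    rw [map_add, map_add, Pi.add_apply, hx, hy, map_add, Pi.add_apply, map_add]

include hπ F1 F2 in
/-- the comparison is bijective for finite free modules -/
theorem phi_free (c : ℕ) :
    (∀ z : L ⊗[R] (Fin c → R), (∀ n, (π n).rTensor _ z = 0) → z = 0) ∧
    (∀ w : ∀ n, Mn n ⊗[R] (Fin c → R), IsCompat Mn T _ w →
      ∃ z : L ⊗[R] (Fin c → R), ∀ n, (π n).rTensor _ z = w n) := by
  constructor
  · intro z hz
    apply (TensorProduct.piScalarRight R R L (Fin c)).injective
    rw [map_zero]
    funext i
    apply F1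
    intro n
    rw [← piScalarRight_natural, hz n, map_zero]
    rfl
  · intro w hw
    have h1 : ∀ i : Fin c, ∃ l : L, ∀ n,
        π n l = TensorProduct.piScalarRight R R (Mn n) (Fin c) (w n) i := by
      intro i
      apply F2
      intro n m h
      rw [← piScalarRight_natural, hw n m h]
    choose l hl using h1
    refine ⟨(TensorProduct.piScalarRight R R L (Fin c)).symm l, ?_⟩
    intro n
    apply (TensorProduct.piScalarRight R R (Mn n) (Fin c)).injective
    funext i
    rw [piScalarRight_natural, LinearEquiv.apply_symm_apply, hl]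

include hT0 hT hπ F1 F2 in
/-- the comparison is bijective for finitely presented modules -/
theorem phi_fp [∀ n, IsArtinian R (Mn n)] (N : Type u) [AddCommGroup N] [Module R N]
    [Module.FinitePresentation R N] :
    (∀ z : L ⊗[R] N, (∀ n, (π n).rTensor _ z = 0) → z = 0) ∧
    (∀ w : ∀ n, Mn n ⊗[R] N, IsCompat Mn T _ w →
      ∃ z : L ⊗[R] N, ∀ n, (π n).rTensor _ z = w n) := by
  classical
  obtain ⟨b, g, hg⟩ := Module.Finite.exists_fin' R N
  have hker : (LinearMap.ker g).FG := Module.FinitePresentation.fg_ker g hg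
  haveI : Module.Finite R (LinearMap.ker g) := Module.Finite.iff_fg.mpr hker
  obtain ⟨a, f', hf'⟩ := Module.Finite.exists_fin' R (LinearMap.ker g)
  let f : (Fin a → R) →ₗ[R] (Fin b → R) := (LinearMap.ker g).subtype.comp f'
  have hfg : Function.Exact f g := by
    intro y
    constructor
    · intro hy
      obtain ⟨x, hx⟩ := hf' ⟨y, hy⟩
      exact ⟨x, by change ((f' x : LinearMap.ker g) : Fin b → R) = y; rw [hx]⟩
    · rintro ⟨x, rfl⟩
      exact (f' x).2
  have hart : ∀ (c : ℕ) n, IsArtinian R (Mn n ⊗[R] (Fin c → R)) := fun c n =>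
    isArtinian_of_linearEquiv (TensorProduct.piScalarRight R R (Mn n) (Fin c)).symm
  haveI := hart a
  haveI := hart b
  obtain ⟨inj_b, surj_b⟩ := phi_free Mn T L π hπ F1 F2 b
  obtain ⟨-, surj_a⟩ := phi_free Mn T L π hπ F1 F2 a
  have natl : ∀ {X Y : Type u} [AddCommGroup X] [Module R X] [AddCommGroup Y] [Module R Y]
      (k : X →ₗ[R] Y) (n : ℕ) (z : L ⊗[R] X),
      k.lTensor (Mn n) ((π n).rTensor X z) = (π n).rTensor Y (k.lTensor L z) := by
    intro X Y _ _ _ _ k n z
    rw [← LinearMap.comp_apply, ← LinearMap.comp_apply, LinearMap.lTensor_comp_rTensor,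
      LinearMap.rTensor_comp_lTensor]
  constructor
  · intro z hz
    obtain ⟨z', rfl⟩ := LinearMap.lTensor_surjective L hg z
    -- the family attached to z' dies in N, hence comes from a compatible family over R^a
    have h1 : ∀ n, ∃ x, f.lTensor (Mn n) x = (π n).rTensor _ z' := by
      intro n
      have hex := lTensor_exact (Mn n) hfg hg
      apply (hex _).mp
      rw [natl, hz n]
    obtain ⟨x, hxc, hx⟩ := lift_compat Mn T hT0 hT f _ (phi_compat Mn T L π hπ _ z') h1
    obtain ⟨x', hx'⟩ := surj_a x hxc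
    have h2 : z' = f.lTensor L x' := by
      have h3 : z' - f.lTensor L x' = 0 := by
        apply inj_b
        intro n
        rw [map_sub, ← natl, hx' n, hx n, sub_self]
      exact sub_eq_zero.mp h3
    rw [h2, ← LinearMap.comp_apply, ← LinearMap.lTensor_comp]
    have : g.comp f = 0 := by
      apply LinearMap.ext
      intro x
      exact (hfg (f x)).mpr ⟨x, rfl⟩
    rw [this, LinearMap.lTensor_zero, LinearMap.zero_apply]
  · intro w hw
    have h1 : ∀ n, ∃ x, g.lTensor (Mn n) x = w n := fun n =>
      LinearMap.lTensor_surjective (Mn n) hg (w n)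
    obtain ⟨w', hw'c, hw'⟩ := lift_compat Mn T hT0 hT g w hw h1
    obtain ⟨z', hz'⟩ := surj_b w' hw'c
    refine ⟨g.lTensor L z', ?_⟩
    intro n
    rw [← natl, hz' n, hw' n]

end abstract_


section lims

variable {R : Type u} [CommRing R] (F : ℕᵒᵖ ⥤ ModuleCat.{u} R)

lemma lim_ext (x y : (limit F : ModuleCat.{u} R))
    (h : ∀ n : ℕ, limit.π F (op n) x = limit.π F (op n) y) : x = y := by
  apply Concrete.limit_ext F x y
  intro j
  exact h j.unop

lemma lim_exists (s : ∀ n : ℕ, F.obj (op n))
    (hs : ∀ n m (h : n ≤ m), F.map (homOfLE h).op (s m) = s n) :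
    ∃ x : (limit F : ModuleCat.{u} R), ∀ n : ℕ, limit.π F (op n) x = s n := by
  let s' : ∀ j : ℕᵒᵖ, (F ⋙ forget (ModuleCat.{u} R)).obj j := fun j => s j.unop
  have hs' : s' ∈ (F ⋙ forget (ModuleCat.{u} R)).sections := by
    intro j j' f
    have h := leOfHom f.unop
    have hf : f = (homOfLE h).op := by
      apply Quiver.Hom.unop_inj
      exact Subsingleton.elim _ _
    rw [hf]
    exact hs _ _ h
  let e := Types.isLimitEquivSections
    (isLimitOfPreserves (forget (ModuleCat.{u} R)) (limit.isLimit F))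
  refine ⟨e.symm ⟨s', hs'⟩, ?_⟩
  intro n
  have h1 := Types.isLimitEquivSections_symm_apply
    (isLimitOfPreserves (forget (ModuleCat.{u} R)) (limit.isLimit F)) ⟨s', hs'⟩ (op n)
  exact h1

end lims

/-- For a commutative ring R, an inverse system (M_n)_{n ∈ ℕ} of R-modules of finite length and a
finitely presented R-module N, the canonical comparison map (lim_n M_n) ⊗_R N ⟶ lim_n (M_n ⊗_R N) is
an isomorphism. (The published statement takes N = R/I for a finitely generated ideal I; the
argument covers every finitely presented N, which is the form stated here.) -/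
theorem result (R : Type u) [CommRing R]
    (M : ℕᵒᵖ ⥤ ModuleCat.{u} R) (hM : ∀ n : ℕᵒᵖ, IsFiniteLength R (M.obj n))
    (N : Type u) [AddCommGroup N] [Module R N] [Module.FinitePresentation R N] :
    IsIso (limit.post M (tensorRight (ModuleCat.of R N))) := by
  haveI hart : ∀ n : ℕ, IsArtinian R (M.obj (op n)) := fun n =>
    (isFiniteLength_iff_isNoetherian_isArtinian.mp (hM (op n))).2
  let T : ∀ n m : ℕ, n ≤ m → (M.obj (op m) →ₗ[R] M.obj (op n)) :=
    fun n m h => (M.map (homOfLE h).op).hom
  have hT0 : ∀ n (x : M.obj (op n)), T n n le_rfl x = x := by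
    intro n x
    have : (homOfLE (le_refl n)).op = 𝟙 (op n) := Subsingleton.elim _ _
    change (M.map (homOfLE (le_refl n)).op).hom x = x
    rw [this, M.map_id]
    rfl
  have hT : ∀ n m k (h1 : n ≤ m) (h2 : m ≤ k) (x : M.obj (op k)),
      T n m h1 (T m k h2 x) = T n k (h1.trans h2) x := by
    intro n m k h1 h2 x
    have : (homOfLE (h1.trans h2)).op = (homOfLE h2).op ≫ (homOfLE h1).op :=
      Subsingleton.elim _ _
    change (M.map (homOfLE h1).op).hom ((M.map (homOfLE h2).op).hom x)
      = (M.map (homOfLE (h1.trans h2)).op).hom x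
    rw [this, M.map_comp]
    rfl
  let π : ∀ n : ℕ, (limit M : ModuleCat.{u} R) →ₗ[R] M.obj (op n) := fun n => (limit.π M (op n)).hom
  have hπ : ∀ n m (h : n ≤ m) (x : (limit M : ModuleCat.{u} R)), T n m h (π m x) = π n x := by
    intro n m h x
    have := limit.w M (homOfLE h).op
    exact congrArg (fun φ => φ.hom x) this
  have F1 : ∀ x : (limit M : ModuleCat.{u} R), (∀ n, π n x = 0) → x = 0 := by
    intro x hx
    apply lim_ext M
    intro n
    rw [map_zero]
    exact hx n
  have F2 : ∀ s : ∀ n : ℕ, M.obj (op n), (∀ n m (h : n ≤ m), T n m h (s m) = s n) →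
      ∃ x : (limit M : ModuleCat.{u} R), ∀ n, π n x = s n := by
    intro s hs
    exact lim_exists M s hs
  obtain ⟨hinj, hsurj⟩ := phi_fp (fun n => M.obj (op n)) T hT0 hT (limit M : ModuleCat.{u} R) π
    hπ F1 F2 N
  set G := tensorRight (ModuleCat.of R N) with hG
  have key : ∀ (n : ℕ) (z : (limit M : ModuleCat.{u} R) ⊗[R] N),
      limit.π (M ⋙ G) (op n) ((limit.post M G).hom z) = (π n).rTensor N z := by
    intro n z
    have := limit.post_π M G (op n)
    exact congrArg (fun φ => φ.hom z) this
  rw [ConcreteCategory.isIso_iff_bijective]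
  constructor
  · intro z z' hzz'
    have h1 : z - z' = 0 := by
      apply hinj
      intro n
      rw [map_sub, ← key, ← key]
      have : (limit.post M G).hom z = (limit.post M G).hom z' := hzz'
      rw [this, sub_self]
    exact sub_eq_zero.mp h1
  · intro w
    let ws : ∀ n : ℕ, M.obj (op n) ⊗[R] N := fun n => limit.π (M ⋙ G) (op n) w
    have hws : IsCompat (fun n => M.obj (op n)) T N ws := by
      intro n m h
      have := limit.w (M ⋙ G) (homOfLE h).op
      exact congrArg (fun φ => φ.hom w) this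
    obtain ⟨z, hz⟩ := hsurj ws hws
    refine ⟨z, ?_⟩
    apply lim_ext (M ⋙ G)
    intro n
    exact (key n z).trans (hz n)

end Groth.Agent.S14353
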