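import Groth.Statements.S14357
import Mathlib
import Groth.Agent.Lib.Proj.Helper56_Gamma
-- import your own Groth.Agent.* helpers here

set_option autoImplicit false
universe u
open AlgebraicGeometry
open Proj

namespace Groth.Agent.S14357


open CategoryTheory AlgebraicGeometry Groth.Agent.Lib.Proj in

/-- For a field k the projective line over k is not an affine scheme. (The projective line is taken here
as Proj of the polynomial ring in two variables over k with its standard grading; the book builds it
by gluing two affine lines and identifies the two constructions later.) -/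
theorem result (k : Type u) [Field k] :
    ¬ IsAffine (CohB1.ProjSpace 1 k) := by
  intro haff
  have h1 : IsIso (CohB1.ProjSpace.toSpec 1 k).appTop := isIso_toSpec_appTop 1 k
  have h2 : IsIso (CohB1.ProjSpace.toSpec 1 k) := by
    have := (HasAffineProperty.iff_of_isAffine (P := MorphismProperty.isomorphisms Scheme)
      (f := CohB1.ProjSpace.toSpec 1 k)).2 ⟨haff, h1⟩
    exact this
  -- the underlying space is a subsingleton
  have hsub : Subsingleton (CohB1.ProjSpace 1 k) := by
    have hinj : Function.Injective (CohB1.ProjSpace.toSpec 1 k) :=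
      (TopCat.homeoOfIso (Scheme.forgetToTop.mapIso (asIso (CohB1.ProjSpace.toSpec 1 k)))).injective
    have : Subsingleton (Spec (CommRingCat.of k)) :=
      inferInstanceAs (Subsingleton (PrimeSpectrum k))
    exact hinj.subsingleton
  -- but the chart has two points
  let A := MvPolynomial {j : Fin 2 // j ≠ 0} k
  have hinj2 : Function.Injective (chart 1 k 0) := (chart 1 k 0).isOpenEmbedding.injective
  have hsubA : Subsingleton (PrimeSpectrum A) := hinj2.subsingleton
  let p1 : PrimeSpectrum A := ⟨⊥, Ideal.isPrime_bot⟩
  let φ : A →+* k := (MvPolynomial.aeval (fun _ => (0 : k)) : A →ₐ[k] k).toRingHom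
  let p2 : PrimeSpectrum A := ⟨RingHom.ker φ, RingHom.ker_isPrime φ⟩
  have h12 : p1 = p2 := Subsingleton.elim _ _
  have hX : (MvPolynomial.X ⟨1, by decide⟩ : A) ∈ p2.asIdeal := by
    show φ _ = 0
    exact MvPolynomial.aeval_X (R := k) (fun _ : {j : Fin 2 // j ≠ 0} => (0 : k)) _
  rw [← h12] at hX
  exact MvPolynomial.X_ne_zero _ ((Ideal.mem_bot).1 hX)

end Groth.Agent.S14357
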