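import Groth.Statements.S14359
import Mathlib
-- import your own Groth.Agent.* helpers here

set_option autoImplicit false
universe u
open CAlg

namespace Groth.Agent.S14359



/-- Let A be a Noetherian integrally closed integral domain and b a nonzero element of A. Then every
associated prime of the A-module A/(b) has height one, so that A/(b) has no embedded associated
primes. -/
theorem result
    (A : Type u) [CommRing A] [IsDomain A] [IsNoetherianRing A] [IsIntegrallyClosed A]
    (b : A) (hb : b ≠ 0) (p : Ideal A) (hp : p ∈ associatedPrimes A (A ⧸ Ideal.span {b})) :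
    p.height = 1 := by
  obtain ⟨hpp, xbar, hx⟩ := (isAssociatedPrime_iff (I := p) (M := A ⧸ Ideal.span {b})).1 hp
  obtain ⟨x, rfl⟩ := Ideal.Quotient.mk_surjective xbar
  have hmem : ∀ a, a ∈ p ↔ ∃ r, a * x = b * r := by
    intro a
    rw [hx, Submodule.mem_colon_singleton, Submodule.mem_bot]
    have e1 : a • (Ideal.Quotient.mk (Ideal.span {b})) x = Ideal.Quotient.mk (Ideal.span {b}) (a * x) := by
      rw [map_mul]; rfl
    rw [e1, Ideal.Quotient.eq_zero_iff_mem, Ideal.mem_span_singleton']
    constructor
    · rintro ⟨r, hr⟩
      exact ⟨r, by rw [← hr, mul_comm]⟩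
    · rintro ⟨r, hr⟩
      exact ⟨r, by rw [hr, mul_comm]⟩
  have hbp : b ∈ p := (hmem b).2 ⟨x, rfl⟩
  have hxb : ¬ ∃ r, x = b * r := by
    rintro ⟨r, hr⟩
    apply hpp.ne_top
    rw [Ideal.eq_top_iff_one, hmem]
    exact ⟨r, by rw [one_mul, hr]⟩
  have hpbot : p ≠ ⊥ := fun h => hb (by simpa [h] using hbp)
  refine le_antisymm ?_ ?_
  · -- height ≤ 1
    by_cases hcase : ∀ a ∈ p, ∀ r, a * x = b * r → r ∈ p
    · -- integral case: contradiction
      exfalso
      let K := FractionRing A
      let y : K := algebraMap A K x / algebraMap A K b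
      have hbK : algebraMap A K b ≠ 0 := by
        simpa using hb
      let N : Submodule A K := Submodule.map (Algebra.linearMap A K) p
      have hN : N ≠ ⊥ := by
        intro h
        apply hpbot
        have h' : Submodule.map (Algebra.linearMap A K) p = ⊥ := h
        rw [eq_bot_iff]
        intro a ha
        have h2 : Algebra.linearMap A K a ∈ Submodule.map (Algebra.linearMap A K) p := ⟨a, ha, rfl⟩
        rw [h', Submodule.mem_bot, Algebra.linearMap_apply] at h2
        rw [Submodule.mem_bot]
        exact IsFractionRing.injective A K (by rw [h2, map_zero])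
      have hN' : N.FG := Submodule.FG.map _ (IsNoetherian.noetherian p)
      have hy : ∀ n ∈ N, y • n ∈ N := by
        rintro _ ⟨a, ha, rfl⟩
        obtain ⟨r, hr⟩ := (hmem a).1 ha
        refine ⟨r, hcase a ha r hr, ?_⟩
        simp only [Algebra.linearMap_apply, smul_eq_mul, y]
        rw [div_mul_eq_mul_div, eq_div_iff hbK, ← map_mul, ← map_mul, mul_comm r b, ← hr, mul_comm]
      have hint : IsIntegral A y := isIntegral_of_smul_mem_submodule N hN hN' y hy
      obtain ⟨y', hy'⟩ := IsIntegrallyClosed.algebraMap_eq_of_integral hint
      apply hxb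
      refine ⟨y', ?_⟩
      apply IsFractionRing.injective A K
      rw [map_mul, hy']
      simp only [y]
      rw [mul_div_cancel₀ _ hbK]
    · push Not at hcase
      obtain ⟨π, hπp, u, hπu, hup⟩ := hcase
      have hmin : p ∈ (Ideal.span {π}).minimalPrimes := by
        refine ⟨⟨hpp, (Ideal.span_singleton_le_iff_mem _).2 hπp⟩, ?_⟩
        rintro q ⟨hq, hπq⟩ hqp
        intro a ha
        obtain ⟨r, hr⟩ := (hmem a).1 ha
        -- u * a = r * π
        have h1 : u * a = r * π := by
          have : b * (u * a) = b * (r * π) := by
            calc b * (u * a) = (b * u) * a := by ring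
              _ = (π * x) * a := by rw [hπu]
              _ = π * (a * x) := by ring
              _ = π * (b * r) := by rw [hr]
              _ = b * (r * π) := by ring
          exact mul_left_cancel₀ hb this
        have h2 : u * a ∈ q := by
          rw [h1]
          exact q.mul_mem_left _ ((Ideal.span_singleton_le_iff_mem _).1 hπq)
        exact (hq.mem_or_mem h2).resolve_left (fun h => hup (hqp h))
      exact Ideal.height_le_one_of_isPrincipal_of_mem_minimalPrimes _ p hmin
  · -- 1 ≤ height
    rw [Order.one_le_iff_pos, pos_iff_ne_zero, Ne, Ideal.height_eq_zero_iff_eq_bot]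
    exact hpbot

end Groth.Agent.S14359
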