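import Groth.Statements.S14360
import Mathlib

set_option autoImplicit false
universe u
open AlgebraicGeometry
open Variety

set_option linter.style.haveILetI false
set_option linter.unusedVariables false
open CategoryTheory AlgebraicGeometry
open AlgebraicGeometry.Scheme

namespace Groth.Agent.S14360

variable {X Y : Scheme.{u}}

theorem exists_pt {X : Scheme.{u}} (W : X.Opens) (x : X) (hx : x ∈ W) :
    ∃ x' : (W : Scheme.{u}), W.ι x' = x := ⟨⟨x, hx⟩, rfl⟩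

theorem ι_mem {X : Scheme.{u}} (W : X.Opens) (x' : (W : Scheme.{u})) : W.ι x' ∈ W := x'.2

theorem mem_image_iff {X : Scheme.{u}} (W : X.Opens) (P : (W : Scheme.{u}).Opens) (x : X) :
    x ∈ W.ι ''ᵁ P ↔ ∃ x' : (W : Scheme.{u}), x' ∈ P ∧ W.ι x' = x := Iff.rfl

/-- pointwise key fact -/
theorem key {X Y : Scheme.{u}} (U : X.Opens) (V : Y.Opens)
    (a : (U : Scheme.{u}) ⟶ Y) (b : (V : Scheme.{u}) ⟶ X)
    (W₁ : X.Opens) (h₁ : W₁ ≤ U)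
    (W₂ : Y.Opens) (h₂ : W₂ ≤ V)
    (α₁ : (W₁ : Scheme.{u}) ⟶ V) (α₂ : (W₂ : Scheme.{u}) ⟶ U)
    (e₁ : α₁ ≫ V.ι = X.homOfLE h₁ ≫ a) (e₁' : α₁ ≫ b = W₁.ι)
    (e₂ : α₂ ≫ U.ι = Y.homOfLE h₂ ≫ b)
    (x' : (W₁ : Scheme.{u})) (hx' : (α₁ ≫ V.ι) x' ∈ W₂) :
    (α₁ ≫ V.ι) x' ∈ W₂.ι ''ᵁ ((α₂ ≫ U.ι) ⁻¹ᵁ W₁) := by
  obtain ⟨y', hy'⟩ := exists_pt W₂ _ hx'
  rw [mem_image_iff]
  refine ⟨y', ?_, hy'⟩
  change (α₂ ≫ U.ι) y' ∈ W₁
  have h3 : Y.homOfLE h₂ y' = α₁ x' := by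
    apply V.ι.isOpenEmbedding.injective
    rw [← Scheme.Hom.comp_apply, Scheme.homOfLE_ι, hy', Scheme.Hom.comp_apply]
  rw [e₂, Scheme.Hom.comp_apply, h3, ← Scheme.Hom.comp_apply, e₁']
  exact ι_mem W₁ x'

/-- the lifted morphism -/
theorem exists_lift {X Y : Scheme.{u}} (U : X.Opens) (V : Y.Opens)
    (a : (U : Scheme.{u}) ⟶ Y) (b : (V : Scheme.{u}) ⟶ X)
    (W₁ : X.Opens) (h₁ : W₁ ≤ U)
    (W₂ : Y.Opens) (h₂ : W₂ ≤ V)
    (α₁ : (W₁ : Scheme.{u}) ⟶ V) (α₂ : (W₂ : Scheme.{u}) ⟶ U)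
    (e₁ : α₁ ≫ V.ι = X.homOfLE h₁ ≫ a) (e₁' : α₁ ≫ b = W₁.ι)
    (e₂ : α₂ ≫ U.ι = Y.homOfLE h₂ ≫ b) :
    ∃ A : ((W₁.ι ''ᵁ ((α₁ ≫ V.ι) ⁻¹ᵁ W₂) : X.Opens) : Scheme.{u}) ⟶
        ((W₂.ι ''ᵁ ((α₂ ≫ U.ι) ⁻¹ᵁ W₁) : Y.Opens) : Scheme.{u}),
      A ≫ (W₂.ι ''ᵁ ((α₂ ≫ U.ι) ⁻¹ᵁ W₁)).ι =
        X.homOfLE (W₁.ι_image_le _) ≫ α₁ ≫ V.ι := by
  refine ⟨IsOpenImmersion.lift (W₂.ι ''ᵁ ((α₂ ≫ U.ι) ⁻¹ᵁ W₁)).ι
    (X.homOfLE (W₁.ι_image_le _) ≫ α₁ ≫ V.ι) ?_, IsOpenImmersion.lift_fac _ _ _⟩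
  rintro _ ⟨x₀, rfl⟩
  rw [Scheme.Opens.range_ι]
  have hx₀ := ι_mem _ x₀
  rw [mem_image_iff] at hx₀
  obtain ⟨x', hx'P, hx'⟩ := hx₀
  have h4 : X.homOfLE (W₁.ι_image_le ((α₁ ≫ V.ι) ⁻¹ᵁ W₂)) x₀ = x' := by
    apply W₁.ι.isOpenEmbedding.injective
    rw [← Scheme.Hom.comp_apply, Scheme.homOfLE_ι, hx']
  rw [Scheme.Hom.comp_apply, h4]
  exact key U V a b W₁ h₁ W₂ h₂ α₁ α₂ e₁ e₁' e₂ x' hx'P


theorem comp_eq_id {X Y : Scheme.{u}} (U : X.Opens) (V : Y.Opens)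
    (b : (V : Scheme.{u}) ⟶ X)
    (W₁ : X.Opens)
    (W₂ : Y.Opens) (h₂ : W₂ ≤ V)
    (α₁ : (W₁ : Scheme.{u}) ⟶ V) (α₂ : (W₂ : Scheme.{u}) ⟶ U)
    (e₁' : α₁ ≫ b = W₁.ι)
    (e₂ : α₂ ≫ U.ι = Y.homOfLE h₂ ≫ b)
    (U₀ : X.Opens) (V₀ : Y.Opens) (hU₀ : U₀ ≤ W₁) (hV₀ : V₀ ≤ W₂)
    (A : (U₀ : Scheme.{u}) ⟶ V₀)
    (hA : A ≫ V₀.ι = X.homOfLE hU₀ ≫ α₁ ≫ V.ι)
    (B : (V₀ : Scheme.{u}) ⟶ U₀)
    (hB : B ≫ U₀.ι = Y.homOfLE hV₀ ≫ α₂ ≫ U.ι) :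
    A ≫ B = 𝟙 _ := by
  rw [← cancel_mono U₀.ι, Category.assoc, hB, Category.id_comp]
  have h5 : A ≫ Y.homOfLE (hV₀.trans h₂) = X.homOfLE hU₀ ≫ α₁ := by
    rw [← cancel_mono V.ι, Category.assoc, Category.assoc, Scheme.homOfLE_ι, hA]
  rw [e₂, Scheme.homOfLE_homOfLE_assoc, reassoc_of% h5, e₁', Scheme.homOfLE_ι]

theorem exists_partialIso [IrreducibleSpace X] [IrreducibleSpace Y] (U : X.Opens) (V : Y.Opens)
    (a : (U : Scheme.{u}) ⟶ Y) (b : (V : Scheme.{u}) ⟶ X)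
    (W₁ : X.Opens) (hW₁ : Dense (W₁ : Set X)) (h₁ : W₁ ≤ U)
    (W₂ : Y.Opens) (hW₂ : Dense (W₂ : Set Y)) (h₂ : W₂ ≤ V)
    [IsDominant (X.homOfLE h₁ ≫ a)] [IsDominant (Y.homOfLE h₂ ≫ b)]
    (α₁ : (W₁ : Scheme.{u}) ⟶ V) (α₂ : (W₂ : Scheme.{u}) ⟶ U)
    (e₁ : α₁ ≫ V.ι = X.homOfLE h₁ ≫ a) (e₁' : α₁ ≫ b = W₁.ι)
    (e₂ : α₂ ≫ U.ι = Y.homOfLE h₂ ≫ b) (e₂' : α₂ ≫ a = W₂.ι) :
    Nonempty (X.PartialIso Y) := by
  obtain ⟨A, hA⟩ := exists_lift U V a b W₁ h₁ W₂ h₂ α₁ α₂ e₁ e₁' e₂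
  obtain ⟨B, hB⟩ := exists_lift V U b a W₂ h₂ W₁ h₁ α₂ α₁ e₂ e₂' e₁
  have hAB : A ≫ B = 𝟙 _ := comp_eq_id U V b W₁ W₂ h₂ α₁ α₂ e₁' e₂ _ _ (W₁.ι_image_le _) (W₂.ι_image_le _) A hA B hB
  have hBA : B ≫ A = 𝟙 _ := comp_eq_id V U a W₂ W₁ h₁ α₂ α₁ e₂' e₁ _ _ (W₂.ι_image_le _) (W₁.ι_image_le _) B hB A hA
  have dU : Dense ((W₁.ι ''ᵁ ((α₁ ≫ V.ι) ⁻¹ᵁ W₂) : X.Opens) : Set X) := by
    apply IsOpen.dense (TopologicalSpace.Opens.isOpen _)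
    obtain ⟨y, hy, x', hx'⟩ := (X.homOfLE h₁ ≫ a).denseRange.inter_open_nonempty W₂ W₂.2 hW₂.nonempty
    refine ⟨W₁.ι x', ?_⟩
    rw [SetLike.mem_coe, mem_image_iff]
    refine ⟨x', ?_, rfl⟩
    change (α₁ ≫ V.ι) x' ∈ W₂
    rw [e₁, hx']
    exact hy
  have dV : Dense ((W₂.ι ''ᵁ ((α₂ ≫ U.ι) ⁻¹ᵁ W₁) : Y.Opens) : Set Y) := by
    apply IsOpen.dense (TopologicalSpace.Opens.isOpen _)
    obtain ⟨y, hy, x', hx'⟩ := (Y.homOfLE h₂ ≫ b).denseRange.inter_open_nonempty W₁ W₁.2 hW₁.nonempty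
    refine ⟨W₂.ι x', ?_⟩
    rw [SetLike.mem_coe, mem_image_iff]
    refine ⟨x', ?_, rfl⟩
    change (α₂ ≫ U.ι) x' ∈ W₁
    rw [e₂, hx']
    exact hy
  exact ⟨⟨_, dU, _, dV, ⟨A, B, hAB, hBA⟩⟩⟩


theorem lemU [IrreducibleSpace X] [Nonempty Y] (a : X.PartialMap Y) [IsDominant a.hom]
    (b : Y.PartialMap X) (h : (a.comp b).equiv (PartialMap.id X)) :
    ∃ (W : X.Opens) (_ : Dense (W : Set X)) (h₁ : W ≤ a.domain)
      (α : (W : Scheme.{u}) ⟶ b.domain),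
      α ≫ b.domain.ι = X.homOfLE h₁ ≫ a.hom ∧ α ≫ b.hom = W.ι := by
  obtain ⟨W, hW, hWl, hWr, e⟩ := h
  have hWl' : W ≤ a.domain.ι ''ᵁ a.hom ⁻¹ᵁ b.domain := hWl
  have hWa : W ≤ a.domain := hWl'.trans (a.domain.ι_image_le _)
  have e' : X.homOfLE hWl' ≫ (a.domain.ι.isoImage _).inv ≫ a.hom ∣_ b.domain ≫ b.hom =
      X.homOfLE hWr ≫ (PartialMap.id X).hom := e
  clear e
  refine ⟨W, hW, hWa,
    X.homOfLE hWl' ≫ (a.domain.ι.isoImage _).inv ≫ (a.hom ∣_ b.domain), ?_, ?_⟩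
  · rw [Category.assoc, Category.assoc, morphismRestrict_ι, ← Category.assoc, ← Category.assoc]
    congr 1
    rw [← cancel_mono a.domain.ι, Category.assoc, Category.assoc, Scheme.Hom.isoImage_inv_ι,
      Scheme.homOfLE_ι, Scheme.homOfLE_ι]
  · simp only [Category.assoc] at e' ⊢
    rw [e']
    simp only [Hom.toPartialMap_hom, Category.comp_id, topIso_hom]
    exact Scheme.homOfLE_ι X hWr


theorem backward (X Y : Scheme.{u}) [IsIntegral X] [IsIntegral Y]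
    (f : X ⤏ Y) (g : Y ⤏ X) [f.IsDominant] [g.IsDominant]
    (h₁ : f.comp g = Scheme.RationalMap.id X) (h₂ : g.comp f = Scheme.RationalMap.id Y) :
    Scheme.Birational X Y := by
  have ha : (f.representative.comp g.representative).equiv (PartialMap.id X) := by
    rw [← PartialMap.toRationalMap_eq_iff, ← RationalMap.toRationalMap_comp]
    simp only [RationalMap.toRationalMap_representative]
    exact h₁
  have hb : (g.representative.comp f.representative).equiv (PartialMap.id Y) := by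
    rw [← PartialMap.toRationalMap_eq_iff, ← RationalMap.toRationalMap_comp]
    simp only [RationalMap.toRationalMap_representative]
    exact h₂
  obtain ⟨W₁, hW₁, k₁, α₁, e₁, e₁'⟩ := lemU _ _ ha
  obtain ⟨W₂, hW₂, k₂, α₂, e₂, e₂'⟩ := lemU _ _ hb
  have : IsDominant (X.homOfLE k₁ ≫ f.representative.hom) :=
    PartialMap.isDominant_restrict_hom f.representative W₁ hW₁ k₁
  have : IsDominant (Y.homOfLE k₂ ≫ g.representative.hom) :=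
    PartialMap.isDominant_restrict_hom g.representative W₂ hW₂ k₂
  exact exists_partialIso _ _ _ _ W₁ hW₁ k₁ W₂ hW₂ k₂ α₁ α₂ e₁ e₁' e₂ e₂'

theorem comp_equiv_id [IrreducibleSpace X] [Nonempty Y]
    (a : X.PartialMap Y) [IsDominant a.hom] (b : Y.PartialMap X)
    (i : (a.domain : Scheme.{u}) ⟶ b.domain) (hi : a.hom = i ≫ b.domain.ι)
    (hi' : i ≫ b.hom = a.domain.ι) :
    (a.comp b).equiv (PartialMap.id X) := by
  refine ⟨a.domain.ι ''ᵁ a.hom ⁻¹ᵁ b.domain, (a.comp b).dense_domain, le_rfl, le_top, ?_⟩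
  have h1 : a.hom ∣_ b.domain = (a.hom ⁻¹ᵁ b.domain).ι ≫ i := by
    rw [← cancel_mono b.domain.ι, morphismRestrict_ι, Category.assoc, ← hi]
  change X.homOfLE _ ≫ (a.domain.ι.isoImage _).inv ≫ a.hom ∣_ b.domain ≫ b.hom =
    X.homOfLE _ ≫ (PartialMap.id X).hom
  rw [h1, Category.assoc, hi', Scheme.Hom.isoImage_inv_ι]
  simp only [Hom.toPartialMap_hom, Category.comp_id, topIso_hom]
  rw [Scheme.homOfLE_ι]
  exact (Scheme.homOfLE_ι X _).symm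

theorem forward (X Y : Scheme.{u}) [IsIntegral X] [IsIntegral Y] (φ : X.PartialIso Y) :
    ∃ (f : X ⤏ Y) (g : Y ⤏ X) (_ : f.IsDominant) (_ : g.IsDominant),
        f.comp g = Scheme.RationalMap.id X ∧ g.comp f = Scheme.RationalMap.id Y := by
  have d1 : IsDominant φ.toPartialMap.hom := by
    have := Opens.isDominant_ι φ.dense_target
    dsimp only [PartialIso.toPartialMap]
    infer_instance
  have d2 : IsDominant φ.symm.toPartialMap.hom := by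
    have := Opens.isDominant_ι φ.dense_source
    dsimp only [PartialIso.toPartialMap, PartialIso.symm]
    infer_instance
  refine ⟨φ.toPartialMap.toRationalMap, φ.symm.toPartialMap.toRationalMap,
    inferInstance, inferInstance, ?_, ?_⟩
  · rw [RationalMap.toRationalMap_comp, RationalMap.id, PartialMap.toRationalMap_eq_iff]
    exact comp_equiv_id _ _ φ.iso.hom rfl (Iso.hom_inv_id_assoc φ.iso _)
  · rw [RationalMap.toRationalMap_comp, RationalMap.id, PartialMap.toRationalMap_eq_iff]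
    exact comp_equiv_id _ _ φ.iso.inv rfl (Iso.inv_hom_id_assoc φ.iso _)

theorem main (X Y : Scheme.{u})
    [IsIntegral X] [IsIntegral Y] :
    Scheme.Birational X Y ↔
      ∃ (f : X ⤏ Y) (g : Y ⤏ X) (_ : f.IsDominant) (_ : g.IsDominant),
        f.comp g = Scheme.RationalMap.id X ∧ g.comp f = Scheme.RationalMap.id Y := by
  constructor
  · rintro ⟨φ⟩
    exact forward X Y φ
  · rintro ⟨f, g, hf, hg, h₁, h₂⟩
    exact backward X Y f g h₁ h₂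

end Groth.Agent.S14360

namespace Groth.Agent.S14360

/-- Let X and Y be integral schemes. Then X and Y have isomorphic dense open subschemes if and only if
they are birational in the sense of rational maps, i.e. there exist dominant rational maps f : X ⤏ Y
and g : Y ⤏ X such that the composites g ∘ f and f ∘ g are the identity rational maps of X and of Y. -/
theorem result (X Y : Scheme.{u})
    [IsIntegral X] [IsIntegral Y] :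
    Scheme.Birational X Y ↔
      ∃ (f : X ⤏ Y) (g : Y ⤏ X) (_ : f.IsDominant) (_ : g.IsDominant),
        f.comp g = Scheme.RationalMap.id X ∧ g.comp f = Scheme.RationalMap.id Y := by

  exact Groth.Agent.S14360.main X Y

end Groth.Agent.S14360
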