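import Groth.Statements.S14361
import Mathlib.AlgebraicGeometry.IdealSheaf.Functorial
-- import your own Groth.Agent.* helpers here

set_option autoImplicit false
universe u
open AlgebraicGeometry
open SchImage

namespace Groth.Agent.S14361

/-- Let π : X → Y be a morphism of schemes with X reduced. Then the scheme-theoretic image of π is
computed affine-locally: on every affine open U of Y, the ideal of the kernel ideal sheaf of π (the
largest quasi-coherent ideal sheaf contained in the componentwise kernels) equals the ideal of those
sections over U which pull back to zero on π⁻¹(U). (The published statement allows, as an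
alternative to X being reduced, that π be quasi-compact; this row is the reduced case and assumes no
quasi-compactness.) -/
theorem result (X Y : Scheme.{u}) [IsReduced X]
    (π : X ⟶ Y) (U : Y.affineOpens) :
    π.ker.ideal U = RingHom.ker (π.app U).hom := by
  refine le_antisymm (π.ideal_ker_le U) ?_
  have h1 : π.ker = Scheme.IdealSheafData.vanishingIdeal (.closure (π '' (⊤ : TopologicalSpace.Closeds X))) := by
    rw [← Scheme.IdealSheafData.map_vanishingIdeal, Scheme.IdealSheafData.vanishingIdeal_top,
      Scheme.nilradical_eq_bot, Scheme.IdealSheafData.map_bot]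
  rw [h1, Scheme.IdealSheafData.vanishingIdeal_ideal]
  intro s hs
  rw [PrimeSpectrum.mem_vanishingIdeal]
  intro p hp
  by_contra hsp
  have hp1 : U.2.fromSpec p ∈ Y.basicOpen s := by
    have : p ∈ U.2.fromSpec ⁻¹ᵁ Y.basicOpen s := by
      rw [U.2.fromSpec_preimage_basicOpen]
      exact hsp
    exact this
  have hp2 : U.2.fromSpec p ∈ closure (π '' (Set.univ : Set X)) := by
    simpa using hp
  obtain ⟨y, hy1, hy2⟩ := mem_closure_iff.mp hp2 _ (Y.basicOpen s).isOpen hp1
  obtain ⟨x, -, rfl⟩ := hy2
  have : x ∈ π ⁻¹ᵁ Y.basicOpen s := hy1
  rw [Scheme.preimage_basicOpen, RingHom.mem_ker.mp hs, Scheme.basicOpen_zero] at this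
  exact this

end Groth.Agent.S14361
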