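import Groth.Statements.S14363
import Mathlib
-- import your own Groth.Agent.* helpers here

set_option autoImplicit false
universe u
open CAlg

namespace Groth.Agent.S14363

/-- Let A be a Noetherian ring and 0 → M' → M → M'' → 0 a short exact sequence of A-modules. If a prime
p of A is an associated prime of M'' and is not in the support of M', then p is an associated prime
of M. -/
theorem result (A : Type u) [CommRing A] [IsNoetherianRing A]
    (M' M M'' : Type u) [AddCommGroup M'] [Module A M'] [AddCommGroup M] [Module A M]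
    [AddCommGroup M''] [Module A M'']
    (f : M' →ₗ[A] M) (g : M →ₗ[A] M'') (hf : Function.Injective f) (hg : Function.Surjective g)
    (hfg : Function.Exact f g)
    (p : PrimeSpectrum A) (hp : p.asIdeal ∈ associatedPrimes A M'') (hsupp : p ∉ Module.support A M') :
    p.asIdeal ∈ associatedPrimes A M := by
  classical
  rw [AssociatedPrimes.mem_iff, isAssociatedPrime_iff] at hp ⊢
  obtain ⟨hprime, m'', hm''⟩ := hp
  refine ⟨hprime, ?_⟩
  obtain ⟨m, rfl⟩ := hg m''
  -- p is finitely generated
  obtain ⟨t, ht⟩ := (isNoetherianRing_iff_ideal_fg A).mp inferInstance p.asIdeal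
  -- each generator sends m into the image of f
  have hmem : ∀ a ∈ p.asIdeal, ∃ m' : M', f m' = a • m := by
    intro a ha
    have h1 : a ∈ (⊥ : Submodule A M'').colon {g m} := hm'' ▸ ha
    rw [Submodule.mem_colon_singleton, Submodule.mem_bot, ← map_smul] at h1
    exact (hfg (a • m)).mp h1
  have hkill : ∀ m' : M', ∃ r : A, r ∉ p.asIdeal ∧ r • m' = 0 :=
    Module.notMem_support_iff'.mp hsupp
  have h : ∀ a : A, ∃ s : A, a ∈ p.asIdeal → s ∉ p.asIdeal ∧ s • (a • m) = 0 := by
    intro a
    by_cases ha : a ∈ p.asIdeal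
    · obtain ⟨m', hm'⟩ := hmem a ha
      obtain ⟨r, hr, hr0⟩ := hkill m'
      exact ⟨r, fun _ => ⟨hr, by rw [← hm', ← map_smul, hr0, map_zero]⟩⟩
    · exact ⟨0, fun h => absurd h ha⟩
  choose s hs using h
  have htsub : ∀ a ∈ t, a ∈ p.asIdeal := fun a ha => ht ▸ Ideal.subset_span ha
  set S := ∏ a ∈ t, s a with hS
  have hSp : S ∉ p.asIdeal := by
    rw [hS, hprime.prod_mem_iff]
    rintro ⟨a, hat, ha⟩
    exact (hs a (htsub a hat)).1 ha
  have hSkill : ∀ a ∈ t, a • (S • m) = 0 := by
    intro a hat
    rw [hS, ← Finset.mul_prod_erase t s hat, smul_comm, mul_comm, mul_smul, (hs a (htsub a hat)).2,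
      smul_zero]
  refine ⟨S • m, le_antisymm ?_ ?_⟩
  · rw [← ht, Ideal.span_le]
    intro a hat
    rw [SetLike.mem_coe, Submodule.mem_colon_singleton, Submodule.mem_bot]
    exact hSkill a hat
  · intro c hc
    rw [Submodule.mem_colon_singleton, Submodule.mem_bot] at hc
    have h1 : (c * S) ∈ (⊥ : Submodule A M'').colon {g m} := by
      rw [Submodule.mem_colon_singleton, Submodule.mem_bot, ← map_smul, mul_smul, hc, map_zero]
    rw [← hm''] at h1
    exact (hprime.mem_or_mem h1).resolve_right hSp

end Groth.Agent.S14363
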