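import Groth.Statements.S14371
import Mathlib
import Groth.Agent.Lib.Helper83.RegQuot

set_option autoImplicit false
universe u
open CAlg

namespace Groth.Agent.S14371

/-- Let R be a regular local ring of dimension n with maximal ideal m and residue field κ, and I, J
ideals of R such that R/I and R/J are regular local rings of dimensions a and b (two subvarieties
smooth at the point). Suppose the quotient R/(I + J) is local with cotangent space m/(m² + I + J) of
dimension a + b − n over κ (the tangent spaces of the two subvarieties meet in the expected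
dimension, i.e. they intersect transversally at the point). Then R/(I + J) is a regular local ring
of dimension a + b − n; in particular I + J is a prime ideal. (The published statement is about the
local rings of a smooth variety over an algebraically closed field at a point where two smooth
closed subvarieties meet transversally, and also states the resulting equalities of tangent spaces
and of ideals; this row is the local-ring form, for an arbitrary regular local ring.) -/
theorem result {R : Type u} [CommRing R] [IsRegularLocalRing R]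
    (I J : Ideal R) [IsRegularLocalRing (R ⧸ I)] [IsRegularLocalRing (R ⧸ J)] [IsLocalRing (R ⧸ (I ⊔ J))]
    (n a b : ℕ) (hn : ringKrullDim R = n) (ha : ringKrullDim (R ⧸ I) = a) (hb : ringKrullDim (R ⧸ J) = b)
    (ht : Module.finrank (IsLocalRing.ResidueField (R ⧸ (I ⊔ J))) (IsLocalRing.CotangentSpace (R ⧸ (I ⊔ J))) + n = a + b) :
    IsRegularLocalRing (R ⧸ (I ⊔ J)) ∧ ringKrullDim (R ⧸ (I ⊔ J)) = ((a + b - n : ℕ) : WithBot ℕ∞) := by
  classical
  have hμR : ((IsLocalRing.maximalIdeal R).spanFinrank : WithBot ℕ∞) = ringKrullDim R :=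
    IsRegularLocalRing.spanFinrank_maximalIdeal
  have hμI : ((IsLocalRing.maximalIdeal (R ⧸ I)).spanFinrank : WithBot ℕ∞) = ringKrullDim (R ⧸ I) :=
    IsRegularLocalRing.spanFinrank_maximalIdeal
  have hμJ : ((IsLocalRing.maximalIdeal (R ⧸ J)).spanFinrank : WithBot ℕ∞) = ringKrullDim (R ⧸ J) :=
    IsRegularLocalRing.spanFinrank_maximalIdeal
  have hn' : (IsLocalRing.maximalIdeal R).spanFinrank = n := by
    rw [hn] at hμR; exact_mod_cast hμR
  have ha' : (IsLocalRing.maximalIdeal (R ⧸ I)).spanFinrank = a := by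
    rw [ha] at hμI; exact_mod_cast hμI
  have hb' : (IsLocalRing.maximalIdeal (R ⧸ J)).spanFinrank = b := by
    rw [hb] at hμJ; exact_mod_cast hμJ
  have hI := Groth.Agent.Lib.Helper83.RegQuot.spanFinrank_add_le_of_isRegularLocalRing_quotient I
  have hJ := Groth.Agent.Lib.Helper83.RegQuot.spanFinrank_add_le_of_isRegularLocalRing_quotient J
  -- generators of `I ⊔ J`
  have hsup : (I ⊔ J).spanFinrank ≤ I.spanFinrank + J.spanFinrank := by
    obtain ⟨s, hs, hsI⟩ := Submodule.FG.exists_span_finset_card_eq_spanFinrank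
      (I.fg_of_isNoetherianRing)
    obtain ⟨t, ht, htJ⟩ := Submodule.FG.exists_span_finset_card_eq_spanFinrank
      (J.fg_of_isNoetherianRing)
    have h1 : Submodule.span R ((s ∪ t : Finset R) : Set R) = I ⊔ J := by
      rw [Finset.coe_union, Submodule.span_union, hsI, htJ]
    have h2 := Submodule.spanFinrank_span_le_ncard_of_finite (R := R)
      (Finset.finite_toSet (s ∪ t))
    rw [Set.ncard_coe_finset, h1] at h2
    have h3 := Finset.card_union_le s t
    omega
  have hne : I ⊔ J ≠ ⊤ := by
    intro h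
    have : Subsingleton (R ⧸ (I ⊔ J)) := Ideal.Quotient.subsingleton_iff.2 h
    exact not_subsingleton (R ⧸ (I ⊔ J)) this
  have hkrull : ringKrullDim R ≤ ringKrullDim (R ⧸ (I ⊔ J)) + (I ⊔ J).spanFinrank := by
    apply ringKrullDim_le_ringKrullDim_quotient_add_spanFinrank
    rw [IsLocalRing.ringJacobson_eq_maximalIdeal]
    exact IsLocalRing.le_maximalIdeal hne
  have hle : ringKrullDim (R ⧸ (I ⊔ J)) ≤
      (IsLocalRing.maximalIdeal (R ⧸ (I ⊔ J))).spanFinrank :=
    ringKrullDim_le_spanFinrank_maximalIdeal _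
  have hcot : (IsLocalRing.maximalIdeal (R ⧸ (I ⊔ J))).spanFinrank =
      Module.finrank (IsLocalRing.ResidueField (R ⧸ (I ⊔ J)))
        (IsLocalRing.CotangentSpace (R ⧸ (I ⊔ J))) :=
    IsLocalRing.spanFinrank_maximalIdeal_eq_finrank_cotangentSpace _
  obtain ⟨δ, hδ⟩ : ∃ δ : ℕ, ringKrullDim (R ⧸ (I ⊔ J)) = δ := by
    have hfin : ringKrullDim (R ⧸ (I ⊔ J)) ≠ ⊤ := ringKrullDim_ne_top
    have hbot : ringKrullDim (R ⧸ (I ⊔ J)) ≠ ⊥ := ringKrullDim_ne_bot
    obtain ⟨m, hm⟩ := WithBot.ne_bot_iff_exists.1 hbot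
    have hm' : m ≠ ⊤ := by
      intro h; apply hfin; rw [← hm, h]; rfl
    obtain ⟨k, hk⟩ := ENat.ne_top_iff_exists.1 hm'
    exact ⟨k, by rw [← hm, ← hk]; rfl⟩
  rw [hδ] at hkrull hle
  rw [hn] at hkrull
  have hk' : n ≤ δ + (I ⊔ J).spanFinrank := by exact_mod_cast hkrull
  have hle' : δ ≤ (IsLocalRing.maximalIdeal (R ⧸ (I ⊔ J))).spanFinrank := by exact_mod_cast hle
  have hδeq : δ = a + b - n := by omega
  refine ⟨?_, ?_⟩
  · apply IsRegularLocalRing.of_spanFinrank_maximalIdeal_le
    rw [hδ]
    have : (IsLocalRing.maximalIdeal (R ⧸ (I ⊔ J))).spanFinrank ≤ δ := by omega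
    exact_mod_cast this
  · rw [hδ, hδeq]

end Groth.Agent.S14371
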