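import Groth.Statements.S14372
-- import your own Groth.Agent.* helpers here
import Groth.Agent.S0209
import Groth.Agent.Lib.Helper72.TaylorOne

set_option autoImplicit false
universe u
open Fano

namespace Groth.Agent.S14372

/-- Over an algebraically closed field k of arbitrary characteristic, let f be a homogeneous form of
degree d ≥ 2 in n + 1 variables and U a linear subspace of k^(n+1) on which f vanishes, such that at
every nonzero vector of U some partial derivative of f does not vanish (the hypersurface f = 0 in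
P^n contains the r-plane P(U), r + 1 = dim U, and is smooth at every point of it). Then 2 · dim U ≤
n + 1, i.e. r ≤ (n − 1)/2. (The published statement assumes the hypersurface smooth everywhere; this
row assumes smoothness only along P(U).) -/
theorem result (k : Type u) [Field k] [IsAlgClosed k]
    (n d : ℕ) (hd : 2 ≤ d) (f : MvPolynomial (Fin (n + 1)) k) (hf : f.IsHomogeneous d)
    (U : Submodule k (Fin (n + 1) → k)) (hU : ∀ u ∈ U, MvPolynomial.eval u f = 0)
    (hsm : ∀ u ∈ U, u ≠ 0 → ∃ i : Fin (n + 1), MvPolynomial.eval u (MvPolynomial.pderiv i f) ≠ 0) :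
    2 * Module.finrank k ↥U ≤ n + 1 := by
  classical
  by_contra hcon
  push Not at hcon
  have : Infinite k := IsAlgClosed.instInfinite
  obtain ⟨V, hV⟩ := Submodule.exists_isCompl U
  obtain ⟨m, hm⟩ : ∃ m, m = Module.finrank k ↥U := ⟨_, rfl⟩
  obtain ⟨r, hr⟩ : ∃ r, r = Module.finrank k ↥V := ⟨_, rfl⟩
  have hsum : m + r = n + 1 := by
    have := Submodule.finrank_add_eq_of_isCompl hV
    rw [Module.finrank_fintype_fun_eq_card, Fintype.card_fin] at this
    rw [hm, hr]
    exact this
  rw [← hm] at hcon
  have hrm : r < m := by omega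
  let b : Module.Basis (Fin m) k ↥U := Module.finBasisOfFinrankEq k ↥U hm.symm
  let c : Module.Basis (Fin r) k ↥V := Module.finBasisOfFinrankEq k ↥V hr.symm
  -- the forms
  let lin : Fin (n + 1) → MvPolynomial (Fin m) k := fun i =>
    ∑ j, MvPolynomial.C ((b j : Fin (n + 1) → k) i) * MvPolynomial.X j
  let g : Fin r → MvPolynomial (Fin m) k := fun l =>
    MvPolynomial.aeval lin
      (∑ i, MvPolynomial.C ((c l : Fin (n + 1) → k) i) * MvPolynomial.pderiv i f)
  have hlin : ∀ i, (lin i).IsHomogeneous 1 := by
    intro i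
    refine MvPolynomial.IsHomogeneous.sum _ _ _ fun j _ => ?_
    have := (MvPolynomial.isHomogeneous_C (Fin m) ((b j : Fin (n + 1) → k) i)).mul
      (MvPolynomial.isHomogeneous_X k j)
    simpa using this
  have hg : ∀ l, (g l).IsHomogeneous (1 * (d - 1)) := by
    intro l
    refine MvPolynomial.IsHomogeneous.aeval ?_ lin hlin
    refine MvPolynomial.IsHomogeneous.sum _ _ _ fun i _ => ?_
    have := (MvPolynomial.isHomogeneous_C (Fin (n + 1)) ((c l : Fin (n + 1) → k) i)).mul
      (hf.pderiv (i := i))
    simpa using this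
  obtain ⟨y, hy0, hy⟩ := Groth.Agent.S0209.result k r m g (fun _ => 1 * (d - 1)) hg
    (fun _ => by omega) (by simpa using hrm)
  -- the point
  obtain ⟨u, hu⟩ : ∃ u : Fin (n + 1) → k, u = ∑ j, y j • (b j : Fin (n + 1) → k) := ⟨_, rfl⟩
  have huU : u ∈ U := by
    rw [hu]
    exact U.sum_mem fun j _ => U.smul_mem _ (b j).2
  have hu0 : u ≠ 0 := by
    intro h0
    apply hy0
    have h1 : (∑ j, y j • b j : ↥U) = 0 := by
      apply Subtype.ext
      rw [Submodule.coe_sum]
      simp only [Submodule.coe_smul]
      rw [← hu, h0]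
      rfl
    have h2 := (Fintype.linearIndependent_iff.1 b.linearIndependent) y h1
    funext j
    exact h2 j
  have hevlin : (fun i => MvPolynomial.eval y (lin i)) = u := by
    funext i
    simp only [lin, map_sum, map_mul, MvPolynomial.eval_C, MvPolynomial.eval_X]
    rw [hu, Finset.sum_apply]
    refine Finset.sum_congr rfl fun j _ => ?_
    rw [Pi.smul_apply, smul_eq_mul, mul_comm]
  have hgev : ∀ l, ∑ i, (c l : Fin (n + 1) → k) i * MvPolynomial.eval u (MvPolynomial.pderiv i f) = 0 := by
    intro l
    have h1 := hy l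
    simp only [g] at h1
    rw [MvPolynomial.aeval_def, MvPolynomial.eval₂_comp_left (MvPolynomial.eval y)] at h1
    have h2 : (MvPolynomial.eval y).comp (algebraMap k (MvPolynomial (Fin m) k)) = RingHom.id k := by
      ext z; simp
    rw [h2] at h1
    have h3 : MvPolynomial.eval₂ (RingHom.id k) (⇑(MvPolynomial.eval y) ∘ lin)
        (∑ i, MvPolynomial.C ((c l : Fin (n + 1) → k) i) * MvPolynomial.pderiv i f) =
        MvPolynomial.eval u (∑ i, MvPolynomial.C ((c l : Fin (n + 1) → k) i) * MvPolynomial.pderiv i f) := by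
      rw [← hevlin]
      rfl
    rw [h3, map_sum] at h1
    simpa using h1
  -- the gradient functional vanishes
  let φ : (Fin (n + 1) → k) →ₗ[k] k :=
    ∑ i, MvPolynomial.eval u (MvPolynomial.pderiv i f) • LinearMap.proj i
  have hφ : ∀ x, φ x = ∑ i, x i * MvPolynomial.eval u (MvPolynomial.pderiv i f) := by
    intro x
    simp only [φ, LinearMap.sum_apply, LinearMap.smul_apply, LinearMap.proj_apply, smul_eq_mul]
    exact Finset.sum_congr rfl fun i _ => mul_comm _ _
  have hφU : U ≤ LinearMap.ker φ := by
    intro x hx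
    rw [LinearMap.mem_ker, hφ]
    exact Groth.Agent.Lib.Helper72.TaylorOne.tangent_of_vanish f U hU huU hx
  have hφV : V ≤ LinearMap.ker φ := by
    intro x hx
    rw [LinearMap.mem_ker]
    have h1 := c.sum_repr ⟨x, hx⟩
    have h2 : x = ∑ l, (c.repr ⟨x, hx⟩ l) • (c l : Fin (n + 1) → k) := by
      have := congrArg Subtype.val h1
      rw [Submodule.coe_sum] at this
      simp only [Submodule.coe_smul] at this
      exact this.symm
    rw [h2, map_sum]
    refine Finset.sum_eq_zero fun l _ => ?_
    rw [map_smul, hφ, hgev l, smul_zero]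
  have hφtop : LinearMap.ker φ = ⊤ := by
    rw [eq_top_iff, ← hV.sup_eq_top]
    exact sup_le hφU hφV
  obtain ⟨i, hi⟩ := hsm u huU hu0
  apply hi
  have h1 : φ (Pi.single i 1) = 0 := by
    have : (Pi.single i 1 : Fin (n + 1) → k) ∈ LinearMap.ker φ := by rw [hφtop]; trivial
    exact this
  rw [hφ] at h1
  rw [Finset.sum_eq_single i] at h1
  · simpa using h1
  · intro j _ hj
    rw [Pi.single_apply, if_neg hj, zero_mul]
  · intro h
    exact absurd (Finset.mem_univ i) h

end Groth.Agent.S14372
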