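import Groth.Statements.S14375
import Groth.Agent.Lib.Helper21.IrrCover
import Groth.Agent.Lib.Helper21.FieldTower
-- import your own Groth.Agent.* helpers here

set_option autoImplicit false
universe u
open CategoryTheory CategoryTheory.Limits AlgebraicGeometry
open Variety

namespace Groth.Agent.S14375

/-- Let k be an algebraically closed field, F an irreducible scheme of finite type over k, and f : X → Y
a k-morphism of schemes of finite type over k with Y irreducible which is locally trivial with fibre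
F: every point of Y has an open neighbourhood V such that f⁻¹(V) is isomorphic over V to V ×_k F.
Then X is irreducible. (The published statement is for varieties, i.e. reduced separated schemes;
this row assumes neither.) -/
theorem result (k : Type u) [Field k] [IsAlgClosed k]
    {X Y F : Scheme.{u}} (qX : X ⟶ Spec (CommRingCat.of k)) (qY : Y ⟶ Spec (CommRingCat.of k))
    (qF : F ⟶ Spec (CommRingCat.of k))
    [LocallyOfFiniteType qX] [QuasiCompact qX] [LocallyOfFiniteType qY] [QuasiCompact qY]
    [LocallyOfFiniteType qF] [QuasiCompact qF] [IrreducibleSpace ↥F] [IrreducibleSpace ↥Y]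
    (f : X ⟶ Y) (hf : f ≫ qY = qX)
    (htriv : ∀ y : ↥Y, ∃ V : Y.Opens, y ∈ V ∧
      ∃ e : (↑(f ⁻¹ᵁ V) : Scheme.{u}) ≅ pullback (V.ι ≫ qY) qF, e.hom ≫ pullback.fst (V.ι ≫ qY) qF = f ∣_ V) :
    IrreducibleSpace ↥X := by
  -- geometric irreducibility of `qF`
  have hiso : IsIso (pullback.fst qF (Spec.map (CommRingCat.ofHom (algebraMap k k)))) := by
    have h1 : IsIso (Spec.map (CommRingCat.ofHom (algebraMap k k))) := by
      have : algebraMap k k = RingHom.id k := rfl
      rw [this]
      have h2 : CommRingCat.ofHom (RingHom.id k) = 𝟙 (CommRingCat.of k) := rfl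
      rw [h2, Spec.map_id]
      infer_instance
    infer_instance
  have hpb : IrreducibleSpace ↥(pullback qF (Spec.map (CommRingCat.ofHom (algebraMap k k)))) :=
    ((asIso (pullback.fst qF (Spec.map (CommRingCat.ofHom (algebraMap k k))))).hom.homeomorph.irreducibleSpace_iff).2
      inferInstance
  have hgi : GeometricallyIrreducible qF :=
    Groth.Agent.Lib.Helper21.geometricallyIrreducible_of_irreducibleSpace_isAlgClosed qF k
  have huo : UniversallyOpen qF := inferInstance
  choose V hyV e he using htriv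
  -- each `f⁻¹ V_y` is irreducible and surjects onto `V_y`
  have hVirr : ∀ y, IrreducibleSpace ↥(↑(V y) : Scheme.{u}) := fun y =>
    have : Nonempty ↥(↑(V y) : Scheme.{u}) := ⟨⟨y, hyV y⟩⟩
    (V y).ι.isOpenEmbedding.irreducibleSpace
  have hpirr : ∀ y, IrreducibleSpace ↥(pullback ((V y).ι ≫ qY) qF) := fun y =>
    have := hVirr y
    inferInstance
  have hUirr : ∀ y, IrreducibleSpace ↥(f ⁻¹ᵁ V y) := fun y =>
    ((e y).hom.homeomorph.irreducibleSpace_iff).2 (hpirr y)
  have hsurj : ∀ y, ∀ z ∈ V y, ∃ x, f x = z := by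
    intro y z hz
    have h1 : Surjective (pullback.fst ((V y).ι ≫ qY) qF) := inferInstance
    obtain ⟨w, hw⟩ := h1.surj ⟨z, hz⟩
    obtain ⟨x, hx⟩ := (e y).hom.homeomorph.surjective w
    have h2 : (f ∣_ V y) x = ⟨z, hz⟩ := by
      rw [← he y, Scheme.Hom.comp_apply]
      rw [← hw]
      exact congrArg _ hx
    refine ⟨x.1, ?_⟩
    have h3 := congrArg Subtype.val h2
    simpa using h3
  obtain ⟨y₀⟩ : Nonempty ↥Y := inferInstance
  obtain ⟨x₀, _⟩ := hsurj y₀ y₀ (hyV y₀)
  have : Nonempty ↥X := ⟨x₀⟩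
  refine Groth.Agent.Lib.Helper21.irreducibleSpace_of_open_cover (fun y : ↥Y => ((f ⁻¹ᵁ V y : X.Opens) : Set ↥X))
    (fun y => (f ⁻¹ᵁ V y).isOpen) (fun y => ?_) (fun x => ⟨f x, hyV (f x)⟩) (fun y y' => ?_)
  · have := hUirr y
    exact (isIrreducible_iff_irreducibleSpace.2 (hUirr y)).isPreirreducible
  · obtain ⟨z, hz, hz'⟩ := nonempty_preirreducible_inter (V y).isOpen (V y').isOpen ⟨y, hyV y⟩ ⟨y', hyV y'⟩
    obtain ⟨x, hx⟩ := hsurj y z hz
    refine ⟨x, ?_, ?_⟩
    · change f x ∈ V y
      rw [hx]; exact hz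
    · change f x ∈ V y'
      rw [hx]; exact hz'

end Groth.Agent.S14375
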