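import Groth.Statements.S14379
import Groth.Agent.Lib.Helper86.RelNN2

set_option autoImplicit false
set_option linter.style.haveILetI false
open scoped TensorProduct
universe u
open CAlg

namespace Groth.Agent.S14379

/-- Let V be a discrete valuation ring with residue field k and fraction field K, let R be a flat
V-algebra of finite type such that both fibre rings k ⊗_V R and K ⊗_V R have Krull dimension at most
d, let x_1, …, x_d be elements of R and let N ≥ 1 be an integer. Then there are elements y_1, …, y_d
of the subring of R generated by the N-th powers of elements of R such that, setting f_i = x_i +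
y_i, the fibre ring k ⊗_V R is finite over the polynomial ring k[T_1, …, T_d] via T_i ↦ 1 ⊗ f_i and
K ⊗_V R is finite over K[T_1, …, T_d] via T_i ↦ 1 ⊗ f_i; in other words the morphism (f_1, …, f_d)
to affine d-space over V is finite on both fibres. -/
theorem result (V : Type u) [CommRing V] [IsDomain V]
    [IsDiscreteValuationRing V] (R : Type u) [CommRing R] [Algebra V R] [Module.Flat V R]
    [Algebra.FiniteType V R] (d : ℕ)
    (hs : ringKrullDim (IsLocalRing.ResidueField V ⊗[V] R) ≤ d)
    (hη : ringKrullDim (FractionRing V ⊗[V] R) ≤ d)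
    (x : Fin d → R) (N : ℕ) (hN : 1 ≤ N) :
    ∃ y : Fin d → R, (∀ i, y i ∈ Subring.closure (Set.range fun r : R => r ^ N)) ∧
      (MvPolynomial.aeval (fun i => (1 : IsLocalRing.ResidueField V) ⊗ₜ[V] (x i + y i)) :
          MvPolynomial (Fin d) (IsLocalRing.ResidueField V) →ₐ[IsLocalRing.ResidueField V]
            IsLocalRing.ResidueField V ⊗[V] R).toRingHom.Finite ∧
      (MvPolynomial.aeval (fun i => (1 : FractionRing V) ⊗ₜ[V] (x i + y i)) :
          MvPolynomial (Fin d) (FractionRing V) →ₐ[FractionRing V] FractionRing V ⊗[V] R).toRingHom.Finite := by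
  classical
  obtain ⟨s, hsgen⟩ := (Algebra.FiniteType.out : (⊤ : Subalgebra V R).FG)
  have depk := fun z => Groth.Agent.Lib.Helper86.RelNN.dep_dim
    (k := IsLocalRing.ResidueField V) (S := IsLocalRing.ResidueField V ⊗[V] R) d hs z
  have depK := fun z => Groth.Agent.Lib.Helper86.RelNN.dep_dim
    (k := FractionRing V) (S := FractionRing V ⊗[V] R) d hη z
  obtain ⟨y, hy, hk, hK⟩ := Groth.Agent.Lib.Helper86.RelNN.exists_pow_modification₂
    (Algebra.TensorProduct.includeRight (R := V) (A := IsLocalRing.ResidueField V)
      (B := R)).toRingHom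
    (Algebra.TensorProduct.includeRight (R := V) (A := FractionRing V) (B := R)).toRingHom
    depk depK x N hN s
  refine ⟨y, hy, ?_, ?_⟩
  · exact Groth.Agent.Lib.Helper86.RelNN.finite_of_generators (fun i => x i + y i) s hsgen hk
  · exact Groth.Agent.Lib.Helper86.RelNN.finite_of_generators (fun i => x i + y i) s hsgen hK

end Groth.Agent.S14379
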