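import Groth.Statements.S1438
import Mathlib.AlgebraicGeometry.IdealSheaf.Subscheme
import Mathlib.AlgebraicGeometry.Morphisms.Immersion
import Mathlib.AlgebraicGeometry.Morphisms.Affine

set_option autoImplicit false
universe u
open FlatMor

namespace Groth.Agent.S1438

open AlgebraicGeometry CategoryTheory Limits in
/-- A separated scheme with an open covering by n + 1 affine opens has affine stratification number at
most n: it admits an affine stratification with index set {0, …, n}. -/
theorem result (X : Scheme.{u}) [X.IsSeparated] (n : ℕ) (U : Fin (n + 1) → X.Opens)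
    (hU : ∀ i, IsAffineOpen (U i)) (hcov : ⨆ i, U i = ⊤) :
    MoreMor.HasAffineStratification X n := by
  classical
  have hne : ∀ x : X, (Finset.univ.filter (fun j : Fin (n + 1) => x ∈ U j)).Nonempty := by
    intro x
    have hx : x ∈ (⨆ i, U i : X.Opens) := by rw [hcov]; trivial
    obtain ⟨i, hi⟩ := TopologicalSpace.Opens.mem_iSup.mp hx
    exact ⟨i, by simp [hi]⟩
  let s : X → Fin (n + 1) := fun x => (Finset.univ.filter (fun j : Fin (n + 1) => x ∈ U j)).max' (hne x)
  have hs_mem : ∀ x, x ∈ U (s x) := by
    intro x
    have := Finset.max'_mem _ (hne x)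
    simpa using this
  have hs_le : ∀ x j, x ∈ U j → j ≤ s x := by
    intro x j hj
    exact Finset.le_max' _ j (by simp [hj])
  -- the open set of points with s x > i
  let V : Fin (n + 1) → X.Opens := fun i => ⨆ j : {j : Fin (n + 1) // i < j}, U j.1
  have hV : ∀ i x, x ∈ V i ↔ i < s x := by
    intro i x
    constructor
    · intro hx
      obtain ⟨⟨j, hj⟩, hxj⟩ := TopologicalSpace.Opens.mem_iSup.mp hx
      exact lt_of_lt_of_le hj (hs_le x j hxj)
    · intro hx
      exact TopologicalSpace.Opens.mem_iSup.mpr ⟨⟨s x, hx⟩, hs_mem x⟩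
  refine ⟨s, fun i => ?_, fun i => ?_⟩
  · have : {x : X | s x ≤ i} = ((V i : Set X))ᶜ := by
      ext x
      simp only [Set.mem_ofPred_eq, Set.mem_compl_iff, SetLike.mem_coe, hV, not_lt]
    rw [this]
    exact (V i).isOpen.isClosed_compl
  · -- the closed subset of `U i`
    have hUi : IsAffine (U i).toScheme := hU i
    let C : TopologicalSpace.Closeds (U i).toScheme :=
      ⟨(U i).ι ⁻¹' ((V i : Set X))ᶜ, ((V i).isOpen.isClosed_compl).preimage (U i).ι.continuous⟩
    let I := Scheme.IdealSheafData.vanishingIdeal C
    have h1 : IsAffineHom (U i).ι := by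
      have : IsAffineHom ((U i).ι ≫ terminal.from X) := by
        rw [terminal.comp_from]
        infer_instance
      exact IsAffineHom.of_comp (U i).ι (terminal.from X)
    refine ⟨I.subscheme, I.subschemeι ≫ (U i).ι, inferInstance, ?_, inferInstance, ?_⟩
    · exact isAffine_of_isAffineHom I.subschemeι
    · rw [Scheme.Hom.comp_base, TopCat.coe_comp, Set.range_comp, Scheme.IdealSheafData.range_subschemeι,
        Scheme.IdealSheafData.coe_support_vanishingIdeal]
      ext x
      simp only [Set.mem_image, Set.mem_ofPred_eq]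
      constructor
      · rintro ⟨y, hy, rfl⟩
        have hy' : ¬ (i < s ((U i).ι y)) := by
          rw [← hV]; exact hy
        exact le_antisymm (not_lt.mp hy') (hs_le _ i y.2)
      · intro hx
        have hxU : x ∈ U i := hx ▸ hs_mem x
        refine ⟨⟨x, hxU⟩, ?_, rfl⟩
        show (U i).ι ⟨x, hxU⟩ ∈ ((V i : Set X))ᶜ
        simp only [Set.mem_compl_iff, SetLike.mem_coe, hV]
        rw [show (U i).ι ⟨x, hxU⟩ = x from rfl, hx]
        exact lt_irrefl _

end Groth.Agent.S1438
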