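import Groth.Statements.S14383
import Groth.Agent.Lib.Helper86.EtaEt1
import Groth.Agent.Lib.Helper86.EtaEt8
import Groth.Agent.Lib.Helper86.EtaEt9

set_option autoImplicit false
set_option linter.style.haveILetI false
open scoped TensorProduct
open AlgebraicGeometry
universe u
open CAlg

namespace Groth.Agent.S14383

/-- Let V be a discrete valuation ring of characteristic zero with uniformizer ϖ, whose residue field k
is perfect of characteristic p > 0, and let A → R be a homomorphism of V-algebras of finite type,
viewed as a morphism f : Spec R → Spec A of schemes of finite type over Spec V. Say f is η-étale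
when there is an open neighbourhood of the closed fibre of Spec R on whose generic fibre f is étale;
for affine Spec R this means: some a ∈ R with (a) + (ϖ) = R has R[1/(aϖ)] étale over A. First: if f
is η-étale then for some n ≥ 0 the submodule p^n Ω_{R/A} of the module of differentials is contained
in ϖ p^n Ω_{R/A} (that is, p^n Ω_{R/A} vanishes along the closed fibre). Conversely: if the generic
fibres Spec(K ⊗_V A) and Spec(K ⊗_V R) are both smooth over K of the same relative dimension d, K
the fraction field of V, then such an n forces f to be η-étale. (The published statement is for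
arbitrary schemes X → Y of finite type over V and also lists an intermediate equivalent condition,
that the restriction of p^n Ω_{X/Y} to the closed fibre as an abelian sheaf vanishes for some n;
this row is the case of affine schemes and states the other two conditions.) -/
theorem result (V : Type u) [CommRing V] [IsDomain V] [IsDiscreteValuationRing V] [CharZero V]
    (ϖ : V) (hϖ : Irreducible ϖ) (p : ℕ) [Fact p.Prime] [CharP (IsLocalRing.ResidueField V) p]
    [PerfectField (IsLocalRing.ResidueField V)]
    (A : Type u) [CommRing A] [Algebra V A] [Algebra.FiniteType V A]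
    (R : Type u) [CommRing R] [Algebra V R] [Algebra.FiniteType V R] [Algebra A R] [IsScalarTower V A R] :
    ((∃ a : R, Ideal.span {a} ⊔ Ideal.span {algebraMap V R ϖ} = ⊤ ∧
        ((algebraMap R (Localization.Away (a * algebraMap V R ϖ))).comp (algebraMap A R)).Etale) →
      ∃ n : ℕ, Ideal.span {((p : R)) ^ n} • (⊤ : Submodule R (Ω[R⁄A])) ≤
        Ideal.span {algebraMap V R ϖ * (p : R) ^ n} • (⊤ : Submodule R (Ω[R⁄A]))) ∧
    (∀ d : ℕ, SmoothOfRelativeDimension d
        (Spec.map (CommRingCat.ofHom (algebraMap (FractionRing V) (FractionRing V ⊗[V] A)))) →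
      SmoothOfRelativeDimension d
        (Spec.map (CommRingCat.ofHom (algebraMap (FractionRing V) (FractionRing V ⊗[V] R)))) →
      (∃ n : ℕ, Ideal.span {((p : R)) ^ n} • (⊤ : Submodule R (Ω[R⁄A])) ≤
        Ideal.span {algebraMap V R ϖ * (p : R) ^ n} • (⊤ : Submodule R (Ω[R⁄A]))) →
      ∃ a : R, Ideal.span {a} ⊔ Ideal.span {algebraMap V R ϖ} = ⊤ ∧
        ((algebraMap R (Localization.Away (a * algebraMap V R ϖ))).comp (algebraMap A R)).Etale) := by
  classical
  haveI : Algebra.FiniteType A R := Algebra.FiniteType.of_restrictScalars_finiteType V A R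
  haveI : Module.Finite R Ω[R⁄A] := inferInstance
  have hpmem : (p : V) ∈ IsLocalRing.maximalIdeal V := by
    rw [← IsLocalRing.ker_residue, RingHom.mem_ker, map_natCast]
    exact CharP.cast_eq_zero _ p
  rw [hϖ.maximalIdeal_eq] at hpmem
  obtain ⟨c, hc⟩ := Ideal.mem_span_singleton'.mp hpmem
  have hPR : (p : R) = algebraMap V R ϖ * algebraMap V R c := by
    rw [← map_mul, mul_comm, hc, map_natCast]
  have hP : ∃ c : R, ∃ e : ℕ, (p : R) * c = algebraMap V R ϖ ^ e := by
    have hp0 : (p : V) ≠ 0 := Nat.cast_ne_zero.mpr (Fact.out : p.Prime).ne_zero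
    obtain ⟨e, u, hu⟩ := IsDiscreteValuationRing.eq_unit_mul_pow_irreducible hp0 hϖ
    refine ⟨algebraMap V R ((u⁻¹ : Vˣ) : V), e, ?_⟩
    rw [← map_natCast (algebraMap V R) p, ← map_mul, ← map_pow, hu]
    congr 1
    rw [mul_comm, ← mul_assoc, Units.inv_mul, one_mul]
  refine ⟨?_, ?_⟩
  · rintro ⟨a, hcop, het⟩
    have hcopR : IsCoprime a (algebraMap V R ϖ) :=
      (Ideal.isCoprime_span_singleton_iff _ _).mp (Ideal.isCoprime_iff_sup_eq.mpr hcop)
    rw [← IsScalarTower.algebraMap_eq A R (Localization.Away (a * algebraMap V R ϖ)),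
      RingHom.etale_algebraMap] at het
    haveI : Algebra.FormallyUnramified A (Localization.Away (a * algebraMap V R ϖ)) :=
      inferInstance
    obtain ⟨m, hm⟩ := Groth.Agent.Lib.Helper86.EtaEt.exists_pow_smul_eq_zero (A := A) (R := R)
      (T := Localization.Away (a * algebraMap V R ϖ)) (a * algebraMap V R ϖ)
    refine ⟨m, ?_⟩
    have hA := Groth.Agent.Lib.Helper86.EtaEt.omega_condition_of_pow
      (⊥ : Submodule R Ω[R⁄A]) a (algebraMap V R ϖ) (algebraMap V R c) (p : R) m hcopR hPR
      (fun ω => by rw [hm ω]; exact zero_mem _)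
    rwa [sup_bot_eq] at hA
  · intro d hsmA hsmR ⟨n, hn⟩
    have hlocA : RingHom.Locally (RingHom.IsStandardSmoothOfRelativeDimension d)
        (algebraMap (FractionRing V) (FractionRing V ⊗[V] A)) :=
      (AlgebraicGeometry.HasRingHomProperty.Spec_iff
        (P := @AlgebraicGeometry.SmoothOfRelativeDimension d)).mp hsmA
    have hlocR : RingHom.Locally (RingHom.IsStandardSmoothOfRelativeDimension d)
        (algebraMap (FractionRing V) (FractionRing V ⊗[V] R)) :=
      (AlgebraicGeometry.HasRingHomProperty.Spec_iff
        (P := @AlgebraicGeometry.SmoothOfRelativeDimension d)).mp hsmR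
    obtain ⟨a₀, ha₀, hcond⟩ := Groth.Agent.Lib.Helper86.EtaEt.exists_unit_mod_smul_mem
      (⊥ : Submodule R Ω[R⁄A]) (algebraMap V R ϖ) (p : R) n (by rwa [sup_bot_eq])
    have hcop0 : IsCoprime a₀ (algebraMap V R ϖ) := by
      obtain ⟨c0, hc0⟩ := Ideal.mem_span_singleton'.mp ha₀
      exact ⟨1, -c0, by rw [one_mul, neg_mul, hc0]; ring⟩
    refine ⟨a₀, Ideal.isCoprime_iff_sup_eq.mp
      ((Ideal.isCoprime_span_singleton_iff _ _).mpr hcop0), ?_⟩
    have hsunit : IsUnit (algebraMap R (Localization.Away (a₀ * algebraMap V R ϖ))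
        (a₀ * algebraMap V R ϖ)) := IsLocalization.Away.algebraMap_isUnit _
    have hua : IsUnit (algebraMap R (Localization.Away (a₀ * algebraMap V R ϖ)) a₀) :=
      isUnit_of_dvd_unit (map_dvd _ (Dvd.intro _ rfl)) hsunit
    have huϖ : IsUnit (algebraMap R (Localization.Away (a₀ * algebraMap V R ϖ))
        (algebraMap V R ϖ)) :=
      isUnit_of_dvd_unit (map_dvd _ (Dvd.intro_left _ rfl)) hsunit
    have huP : IsUnit (algebraMap R (Localization.Away (a₀ * algebraMap V R ϖ)) (p : R)) := by
      obtain ⟨c', e, hce⟩ := hP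
      refine isUnit_of_dvd_unit (map_dvd _ (Dvd.intro c' hce)) ?_
      rw [map_pow]
      exact huϖ.pow e
    have hunit : ∀ v ∈ nonZeroDivisors V,
        IsUnit (algebraMap R (Localization.Away (a₀ * algebraMap V R ϖ)) (algebraMap V R v)) := by
      intro v hv
      obtain ⟨e, u, hu⟩ := IsDiscreteValuationRing.eq_unit_mul_pow_irreducible
        (nonZeroDivisors.ne_zero hv) hϖ
      rw [hu, map_mul, map_mul, map_pow, map_pow]
      exact ((u.isUnit.map (algebraMap V R)).map _).mul (huϖ.pow e)
    have hunr : ((algebraMap R (Localization.Away (a₀ * algebraMap V R ϖ))).comp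
        (algebraMap A R)).FormallyUnramified := by
      rw [← IsScalarTower.algebraMap_eq A R (Localization.Away (a₀ * algebraMap V R ϖ)),
        RingHom.formallyUnramified_algebraMap]
      exact Groth.Agent.Lib.Helper86.EtaEt.formallyUnramified_of_smul_eq_zero
        (a₀ * algebraMap V R ϖ) (a₀ * (p : R) ^ n)
        (by rw [map_mul, map_pow]; exact hua.mul (huP.pow n))
        (fun ω => by simpa using hcond ω)
    exact Groth.Agent.Lib.Helper86.EtaEt.etale_of_unramified_generic_smooth V d hlocA hlocR
      (a₀ * algebraMap V R ϖ) hunit hunr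

end Groth.Agent.S14383
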