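import Groth.Statements.S14385
import Groth.Agent.S14384
import Groth.Agent.Lib.Helper86.RelNN2
import Groth.Agent.Lib.Helper86.EtaEt1
import Groth.Agent.Lib.Helper86.EtaEt3
import Groth.Agent.Lib.Helper86.EtaEt4
import Groth.Agent.Lib.Helper86.EtaEt5

set_option autoImplicit false
set_option linter.style.haveILetI false
open scoped TensorProduct
open AlgebraicGeometry
universe u
open CAlg

namespace Groth.Agent.S14385

/-- Let V be a discrete valuation ring of characteristic zero with uniformizer ϖ, whose residue field k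
is perfect of characteristic p > 0, with fraction field K; let R be a flat V-algebra of finite type
such that the generic fibre Spec(K ⊗_V R) → Spec K is smooth of relative dimension d; and suppose
some d-tuple x' of elements of R defines a morphism f' from Spec R to affine d-space over V which is
η-étale, meaning that for some a ∈ R with (a) + (ϖ) = R the localisation R[1/(aϖ)] is étale over
V[T_1, …, T_d] via T_i ↦ x'_i (f' is étale on the generic fibre of an open neighbourhood of the
closed fibre). Then there is a d-tuple x in R whose morphism f is η-étale in the same sense and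
finite on each fibre: k ⊗_V R is finite over k[T_1, …, T_d] and K ⊗_V R is finite over K[T_1, …,
T_d] via T_i ↦ 1 ⊗ x_i. -/
theorem result (V : Type u) [CommRing V] [IsDomain V] [IsDiscreteValuationRing V] [CharZero V]
    (ϖ : V) (hϖ : Irreducible ϖ) (p : ℕ) [Fact p.Prime] [CharP (IsLocalRing.ResidueField V) p]
    [PerfectField (IsLocalRing.ResidueField V)]
    (R : Type u) [CommRing R] [Algebra V R] [Module.Flat V R] [Algebra.FiniteType V R] (d : ℕ)
    (hsm : SmoothOfRelativeDimension d
      (Spec.map (CommRingCat.ofHom (algebraMap (FractionRing V) (FractionRing V ⊗[V] R)))))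
    (x' : Fin d → R) (hx' : (∃ a : R, Ideal.span {a} ⊔ Ideal.span {algebraMap V R ϖ} = ⊤ ∧
        ((algebraMap R (Localization.Away (a * algebraMap V R ϖ))).comp
          (MvPolynomial.aeval x' : MvPolynomial (Fin d) V →ₐ[V] R).toRingHom).Etale)) :
    ∃ x : Fin d → R, (∃ a : R, Ideal.span {a} ⊔ Ideal.span {algebraMap V R ϖ} = ⊤ ∧
        ((algebraMap R (Localization.Away (a * algebraMap V R ϖ))).comp
          (MvPolynomial.aeval x : MvPolynomial (Fin d) V →ₐ[V] R).toRingHom).Etale) ∧
      (MvPolynomial.aeval (fun i => (1 : IsLocalRing.ResidueField V) ⊗ₜ[V] x i) :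
          MvPolynomial (Fin d) (IsLocalRing.ResidueField V) →ₐ[IsLocalRing.ResidueField V]
            IsLocalRing.ResidueField V ⊗[V] R).toRingHom.Finite ∧
      (MvPolynomial.aeval (fun i => (1 : FractionRing V) ⊗ₜ[V] x i) :
          MvPolynomial (Fin d) (FractionRing V) →ₐ[FractionRing V] FractionRing V ⊗[V] R).toRingHom.Finite := by
  classical
  obtain ⟨a', hcop', hx'et⟩ := hx'
  obtain ⟨m, hm⟩ := Groth.Agent.Lib.Helper86.EtaEt.exists_pow_smul_mem_span (V := V)
    (T := Localization.Away (a' * algebraMap V R ϖ)) (a' * algebraMap V R ϖ) x'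
    hx'et.formallyUnramified
  have hpmem : (p : V) ∈ IsLocalRing.maximalIdeal V := by
    rw [← IsLocalRing.ker_residue, RingHom.mem_ker, map_natCast]
    exact CharP.cast_eq_zero _ p
  rw [hϖ.maximalIdeal_eq] at hpmem
  obtain ⟨c, hc⟩ := Ideal.mem_span_singleton'.mp hpmem
  have hPR : (p : R) = algebraMap V R ϖ * algebraMap V R c := by
    rw [← map_mul, mul_comm, hc, map_natCast]
  have hcopR : IsCoprime a' (algebraMap V R ϖ) :=
    (Ideal.isCoprime_span_singleton_iff _ _).mp (Ideal.isCoprime_iff_sup_eq.mpr hcop')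
  have hA := Groth.Agent.Lib.Helper86.EtaEt.omega_condition_of_pow
    (Submodule.span R (Set.range fun i => KaehlerDifferential.D V R (x' i))) a'
    (algebraMap V R ϖ) (algebraMap V R c) (p : R) m hcopR hPR hm
  have hlocK : RingHom.Locally (RingHom.IsStandardSmoothOfRelativeDimension d)
      (algebraMap (FractionRing V) (FractionRing V ⊗[V] R)) :=
    (AlgebraicGeometry.HasRingHomProperty.Spec_iff
      (P := @AlgebraicGeometry.SmoothOfRelativeDimension d)).mp hsm
  have depK := fun z => Groth.Agent.Lib.Helper86.EtaEt.dep_of_locally_standardSmooth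
    (K := FractionRing V) (S := FractionRing V ⊗[V] R) d hlocK z
  have depk := fun z => Groth.Agent.Lib.Helper86.EtaEt.dep_residue V R depK z
  obtain ⟨s, hsgen⟩ := (Algebra.FiniteType.out : (⊤ : Subalgebra V R).FG)
  obtain ⟨y, hy, hk, hK⟩ := Groth.Agent.Lib.Helper86.RelNN.exists_pow_modification₂
    (Algebra.TensorProduct.includeRight (R := V) (A := IsLocalRing.ResidueField V)
      (B := R)).toRingHom
    (Algebra.TensorProduct.includeRight (R := V) (A := FractionRing V) (B := R)).toRingHom
    depk depK x' (p ^ (m + 1)) (Nat.one_le_pow _ _ (Fact.out : p.Prime).pos) s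
  have hB := Groth.Agent.S14384.result V ϖ hϖ p R d m x' hA y hy
  obtain ⟨a₀, ha₀, hcond⟩ := Groth.Agent.Lib.Helper86.EtaEt.exists_unit_mod_smul_mem
    (Submodule.span R (Set.range fun i => KaehlerDifferential.D V R (x' i + y i)))
    (algebraMap V R ϖ) (p : R) m hB
  have hcop0 : IsCoprime a₀ (algebraMap V R ϖ) := by
    obtain ⟨c0, hc0⟩ := Ideal.mem_span_singleton'.mp ha₀
    exact ⟨1, -c0, by rw [one_mul, neg_mul, hc0]; ring⟩
  have hcop : IsCoprime (a₀ * a') (algebraMap V R ϖ) := hcop0.mul_left hcopR
  have hP : ∃ c : R, ∃ e : ℕ, (p : R) * c = algebraMap V R ϖ ^ e := by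
    have hp0 : (p : V) ≠ 0 := Nat.cast_ne_zero.mpr (Fact.out : p.Prime).ne_zero
    obtain ⟨e, u, hu⟩ := IsDiscreteValuationRing.eq_unit_mul_pow_irreducible hp0 hϖ
    refine ⟨algebraMap V R ((u⁻¹ : Vˣ) : V), e, ?_⟩
    rw [← map_natCast (algebraMap V R) p, ← map_mul, ← map_pow, hu]
    congr 1
    rw [mul_comm, ← mul_assoc, Units.inv_mul, one_mul]
  refine ⟨fun i => x' i + y i, ⟨a₀ * a', ?_, ?_⟩, ?_, ?_⟩
  · exact Ideal.isCoprime_iff_sup_eq.mp ((Ideal.isCoprime_span_singleton_iff _ _).mpr hcop)
  · exact Groth.Agent.Lib.Helper86.EtaEt.etale_assemble x' _ a' a₀ (algebraMap V R ϖ) (p : R) m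
      hx'et hP hcond
  · exact Groth.Agent.Lib.Helper86.RelNN.finite_of_generators (fun i => x' i + y i) s hsgen hk
  · exact Groth.Agent.Lib.Helper86.RelNN.finite_of_generators (fun i => x' i + y i) s hsgen hK

end Groth.Agent.S14385
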