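import Groth.Statements.S14389
import Groth.Agent.Lib.Cohomology.helper5_HpullSq

set_option autoImplicit false
open CategoryTheory CategoryTheory.Limits AlgebraicGeometry Opposite
universe u
open EtLim

namespace Groth.Agent.S14389

/-- For small étale sites of schemes: let g' ≫ f = f' ≫ g be a commutative square of schemes with f : X
→ Y, g : Y' → Y, f' : X' → Y', g' : X' → X, and let F be an abelian sheaf on the small étale site of
X. For every q and every class ζ in H^q(Y_ét, f_*F), the pullback along g' of the image of ζ under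
the canonical map H^q(Y, f_*F) → H^q(X, F) (pull back along f, then apply the counit f⁻¹f_*F → F)
equals the image of g^*ζ ∈ H^q(Y', g⁻¹f_*F) under the map induced by the base-change morphism
g⁻¹f_*F → f'_*g'⁻¹F followed by the canonical map H^q(Y', f'_*g'⁻¹F) → H^q(X', g'⁻¹F). (The
published statement is for a commutative square of topoi with a chosen isomorphism f_*g'_* ≅
g_*f'_*; this row is the square of étale topoi of schemes. Exactness of pullback of abelian sheaves,
which always holds, is carried as instance hypotheses.) -/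
theorem result {X Y X' Y' : Scheme.{u}} (f : X ⟶ Y)
    (g : Y' ⟶ Y) (f' : X' ⟶ Y') (g' : X' ⟶ X) (w : g' ≫ f = f' ≫ g) (F : EtCoh.Ab X) (q : ℕ)
    [PreservesFiniteLimits (EtCoh.pull f)] [PreservesFiniteLimits (EtCoh.pull g)]
    [PreservesFiniteLimits (EtCoh.pull f')] [PreservesFiniteLimits (EtCoh.pull g')]
    (ζ : EtCoh.H Y ((EtCoh.push f).obj F) q) :
    EtCore.Hpull g' F q (EtLim.HofPush f F q ζ) =
      EtLim.HofPush f' ((EtCoh.pull g').obj F) q
        (((EtCoh.HF Y' q).map (EtCoh.baseChange0 f g f' g' w F)).hom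
          (EtCore.Hpull g ((EtCoh.push f).obj F) q ζ)) := by
  open Groth.Agent.Lib.Cohomology.HpullComp Groth.Agent.Lib.Cohomology.ExtFunct in
  have hL : EtCore.Hpull g' F q (EtLim.HofPush f F q ζ) =
      conjMap (EtCoh.pull f ⋙ EtCoh.pull g')
        ((EtCore.pullConst g' ℤ).inv ≫ (EtCoh.pull g').map (EtCore.pullConst f ℤ).inv)
        ((EtCoh.pull g').map ((EtCoh.pullPushAdj f).counit.app F) ≫ 𝟙 _) q ζ := by
    rw [HofPush_eq_conjMap, Hpull_eq_conjMap, conjMap_comp]
    all_goals rfl
  open Groth.Agent.Lib.Cohomology.HpullComp Groth.Agent.Lib.Cohomology.ExtFunct in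
  have hR : EtLim.HofPush f' ((EtCoh.pull g').obj F) q
        (((EtCoh.HF Y' q).map (EtCoh.baseChange0 f g f' g' w F)).hom
          (EtCore.Hpull g ((EtCoh.push f).obj F) q ζ)) =
      conjMap (EtCoh.pull g ⋙ EtCoh.pull f')
        ((EtCore.pullConst f' ℤ).inv ≫ (EtCoh.pull f').map (EtCore.pullConst g ℤ).inv)
        ((EtCoh.pull f').map (𝟙 _ ≫ EtCoh.baseChange0 f g f' g' w F) ≫
          (EtCoh.pullPushAdj f').counit.app ((EtCoh.pull g').obj F)) q ζ := by
    rw [HofPush_eq_conjMap, HF_map_apply, Hpull_eq_conjMap, conjMap_comp_mk₀, conjMap_comp]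
  open Groth.Agent.Lib.Cohomology.HpullComp Groth.Agent.Lib.Cohomology.ExtFunct in
  rw [hL, hR, conjMap_natIso _ _ (sqIso f g f' g' w)]
  open Groth.Agent.Lib.Cohomology.HpullComp Groth.Agent.Lib.Cohomology.ExtFunct in
  refine conjMap_congr _ (sqIso_const f g f' g' w) ?_ q ζ
  rw [Category.comp_id, Category.id_comp]
  exact Groth.Agent.Lib.Cohomology.HpullComp.sqIso_counit f g f' g' w F

end Groth.Agent.S14389
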