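import Groth.Statements.S14397
import Mathlib
-- import your own Groth.Agent.* helpers here

set_option autoImplicit false
universe u
open DualGr

namespace Groth.Agent.S14397

/-- Let (V, E) with endpoint map E → V × V be a finite multigraph (loops and parallel edges allowed; the
order of the two endpoints is an auxiliary orientation), and let D_1, …, D_n be finite sets of edges
such that every edge lies outside at least one D_i. For each i let Γ_i be the multigraph obtained by
contracting the edges of D_i, and let H₁(Γ, ℤ) → H₁(Γ_i, ℤ) be the map of cycle lattices (integer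
edge vectors with zero boundary) given by restriction to the surviving edges. Then the map H₁(Γ, ℤ)
→ ⊕_i H₁(Γ_i, ℤ) has torsion-free cokernel. (The published statement is about the connected labelled
dual graph of the closed fibre of a nodal curve, smooth outside a normal crossing divisor with
components D_1, …, D_n, over a Noetherian regular strictly local base; Γ_i is the dual graph of the
fibre over the generic point of D_i, the lattices are identified with the character groups of the
toric parts of the Picard schemes of these fibres, and the map is the generization map of character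
groups; this row states the assertion about cycle lattices, for any finite multigraph, which is what
the argument establishes.) -/
theorem result
    {V E : Type u} [Fintype V] [Fintype E] [DecidableEq V] [DecidableEq E]
    (ends : E → V × V) {n : ℕ} (D : Fin n → Finset E) (hcover : ∀ e : E, ∃ i : Fin n, e ∉ D i) :
    IsAddTorsionFree (((i : Fin n) → ↥(DualGr.cycleLattice (DualGr.ctrEnds ends (D i)))) ⧸
      LinearMap.range (LinearMap.pi fun i : Fin n => DualGr.genMap ends (D i))) := by
  refine ⟨fun m hm x y hxy => ?_⟩
  obtain ⟨c, rfl⟩ := Submodule.Quotient.mk_surjective _ x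
  obtain ⟨c', rfl⟩ := Submodule.Quotient.mk_surjective _ y
  have h1 : m • (c - c') ∈ LinearMap.range (LinearMap.pi fun i : Fin n => DualGr.genMap ends (D i)) := by
    rw [← Submodule.Quotient.mk_eq_zero, Submodule.Quotient.mk_smul, Submodule.Quotient.mk_sub,
      smul_sub, sub_eq_zero]
    exact hxy
  obtain ⟨γ, hγ⟩ := h1
  set z := c - c' with hz
  have hγe : ∀ (i : Fin n) (e : E) (he : e ∉ D i), γ.1 e = (m : ℤ) * (z i).1 ⟨e, he⟩ := by
    intro i e he
    have := congrArg (fun w => (w i).1 ⟨e, he⟩) hγ
    simpa [DualGr.genMap, DualGr.resE] using this
  let γ' : E → ℤ := fun e => (z (Classical.choose (hcover e))).1 ⟨e, Classical.choose_spec (hcover e)⟩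
  have hγ' : ∀ e, γ.1 e = (m : ℤ) * γ' e := fun e => hγe _ e _
  have hnz : (m : ℤ) ≠ 0 := by exact_mod_cast hm
  have hγ'i : ∀ (i : Fin n) (e : E) (he : e ∉ D i), γ' e = (z i).1 ⟨e, he⟩ := by
    intro i e he
    have := (hγ' e).symm.trans (hγe i e he)
    exact mul_left_cancel₀ hnz this
  have hb : DualGr.boundaryHom ends γ' = 0 := by
    have h2 : (m : ℤ) • DualGr.boundaryHom ends γ' = 0 := by
      rw [← map_smul]
      have : (m : ℤ) • γ' = γ.1 := by
        funext e
        simp [hγ' e]
      rw [this]
      exact γ.2
    funext v
    have := congrFun h2 v
    simp only [Pi.smul_apply, smul_eq_mul, Pi.zero_apply, mul_eq_zero] at this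
    rcases this with h | h
    · exact absurd h hnz
    · exact h
  rw [Submodule.Quotient.eq]
  refine ⟨⟨γ', hb⟩, ?_⟩
  funext i
  apply Subtype.ext
  funext e
  have := hγ'i i e.1 e.2
  simp only [DualGr.genMap, DualGr.resE, LinearMap.pi_apply, LinearMap.codRestrict_apply,
    LinearMap.coe_comp, Function.comp_apply, Submodule.subtype_apply, LinearMap.coe_mk, AddHom.coe_mk]
  exact this

end Groth.Agent.S14397
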