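import Groth.Statements.S1440
-- import your own Groth.Agent.* helpers here
import Mathlib
import Groth.Agent.Lib.Helper24.ConsCompact
import Groth.Agent.Lib.Helper67.SectionSpread

set_option autoImplicit false
universe u
open FlatMor

namespace Groth.Agent.S1440

open AlgebraicGeometry CategoryTheory Limits Topology

open Groth.Agent.Lib.Helper67.SectionSpread

/-- Per point: a finitely presented immersion through `f x` with a lift to `X`, when the residue field
extension at `x` is trivial. -/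
theorem exists_immersion_section {X Y : Scheme.{u}} (f : X ⟶ Y) [LocallyOfFinitePresentation f]
    (x : X) (hx : Function.Bijective (f.residueFieldMap x)) :
    ∃ (Z : Scheme.{u}) (z : Z ⟶ Y) (σ : Z ⟶ X), σ ≫ f = z ∧ IsAffine Z ∧ IsImmersion z ∧
      LocallyOfFinitePresentation z ∧ f x ∈ Set.range z := by
  obtain ⟨_, ⟨V, hV, rfl⟩, hyV, -⟩ :=
    Y.isBasis_affineOpens.exists_subset_of_mem_open (Set.mem_univ (f x)) isOpen_univ
  obtain ⟨_, ⟨U, hU, rfl⟩, hxU, hUV⟩ :=
    X.isBasis_affineOpens.exists_subset_of_mem_open (show x ∈ f ⁻¹ᵁ V from hyV) (f ⁻¹ᵁ V).isOpen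
  let φ := f.appLE V U hUV
  have hφ : φ.hom.FinitePresentation :=
    HasRingHomProperty.appLE (P := @LocallyOfFinitePresentation) f inferInstance ⟨V, hV⟩ ⟨U, hU⟩ hUV
  letI : Algebra Γ(Y, V) Γ(X, U) := φ.hom.toAlgebra
  haveI : Algebra.FinitePresentation Γ(Y, V) Γ(X, U) := hφ
  let evx := X.evaluation U x hxU
  letI : Algebra Γ(Y, V) (X.residueField x) := (φ ≫ evx).hom.toAlgebra
  let ψ : Γ(X, U) →ₐ[Γ(Y, V)] X.residueField x := { evx.hom with commutes' := fun r => rfl }
  have hnat : φ ≫ evx = Y.evaluation V (f x) hyV ≫ f.residueFieldMap x := by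
    rw [Scheme.evaluation_naturality]
    simp only [φ, evx, Scheme.Hom.appLE, Category.assoc]
    congr 1
    rw [← Scheme.germ_residue, ← Scheme.germ_residue, ← Category.assoc, TopCat.Presheaf.germ_res]
  have halg : ∀ t : Γ(Y, V), algebraMap Γ(Y, V) (X.residueField x) t =
      f.residueFieldMap x (Y.residue (f x) (Y.presheaf.germ V (f x) hyV t)) := by
    intro t
    change (φ ≫ evx) t = _
    rw [hnat]
    rfl
  letI := Y.presheaf.algebra_section_stalk ⟨f x, hyV⟩
  haveI hloc := hV.isLocalization_stalk ⟨f x, hyV⟩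
  have hinj : Function.Injective (f.residueFieldMap x) := hx.1
  have hKer : RingHom.ker (algebraMap Γ(Y, V) (X.residueField x)) =
      (hV.primeIdealOf ⟨f x, hyV⟩).asIdeal := by
    ext t
    rw [RingHom.mem_ker, halg, map_eq_zero_iff _ hinj]
    rw [← IsLocalization.AtPrime.to_map_mem_maximal_iff (Y.presheaf.stalk (f x))
      (hV.primeIdealOf ⟨f x, hyV⟩).asIdeal t]
    exact IsLocalRing.residue_eq_zero_iff _
  have hK : ∀ k : X.residueField x, ∃ r s : Γ(Y, V),
      algebraMap Γ(Y, V) (X.residueField x) s ≠ 0 ∧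
      algebraMap Γ(Y, V) (X.residueField x) s * k = algebraMap Γ(Y, V) (X.residueField x) r := by
    intro k
    obtain ⟨k', rfl⟩ := hx.2 k
    obtain ⟨l, rfl⟩ := IsLocalRing.residue_surjective (R := Y.presheaf.stalk (f x)) k'
    obtain ⟨⟨r, s⟩, hrs⟩ := IsLocalization.surj (hV.primeIdealOf ⟨f x, hyV⟩).asIdeal.primeCompl l
    refine ⟨r, s.1, ?_, ?_⟩
    · intro h0
      have : s.1 ∈ RingHom.ker (algebraMap Γ(Y, V) (X.residueField x)) := h0
      rw [hKer] at this
      exact s.2 this
    · rw [halg, halg]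
      have h2 : l * (Y.presheaf.germ V (f x) hyV) s.1 = (Y.presheaf.germ V (f x) hyV) r := hrs
      rw [← h2, map_mul, map_mul, mul_comm]
      rfl
  obtain ⟨a, J, hJ, ⟨σr⟩, P, hP, hPcomap⟩ := exists_section_ring ψ hK
  let A := Localization.Away a
  let ρ : Γ(Y, V) ⟶ CommRingCat.of (A ⧸ J) := CommRingCat.ofHom (algebraMap Γ(Y, V) (A ⧸ J))
  let ρ₁ : Γ(Y, V) ⟶ CommRingCat.of A := CommRingCat.ofHom (algebraMap Γ(Y, V) A)
  let ρ₂ : CommRingCat.of A ⟶ CommRingCat.of (A ⧸ J) := CommRingCat.ofHom (Ideal.Quotient.mk J)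
  have hρ : ρ = ρ₁ ≫ ρ₂ := rfl
  let σc : Γ(X, U) ⟶ CommRingCat.of (A ⧸ J) := CommRingCat.ofHom σr.toRingHom
  have hσc : φ ≫ σc = ρ := by
    ext t
    exact σr.commutes t
  haveI : IsOpenImmersion (Spec.map ρ₁) :=
    IsOpenImmersion.of_isLocalization (S := A) a
  haveI : IsClosedImmersion (Spec.map ρ₂) :=
    IsClosedImmersion.spec_of_surjective ρ₂ Ideal.Quotient.mk_surjective
  refine ⟨Spec (CommRingCat.of (A ⧸ J)), Spec.map ρ ≫ hV.fromSpec, Spec.map σc ≫ hU.fromSpec, ?_,
    inferInstance, ?_, ?_, ?_⟩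
  · rw [Category.assoc, ← IsAffineOpen.SpecMap_appLE_fromSpec f hV hU hUV, ← Category.assoc,
      ← Spec.map_comp, hσc]
  · rw [hρ, Spec.map_comp]
    infer_instance
  · haveI : LocallyOfFinitePresentation (Spec.map ρ) := by
      rw [HasRingHomProperty.Spec_iff (P := @LocallyOfFinitePresentation)]
      have h1 : ρ₁.hom.FinitePresentation :=
        RingHom.finitePresentation_algebraMap.mpr (IsLocalization.Away.finitePresentation a)
      have h2 : ρ₂.hom.FinitePresentation := by
        refine RingHom.FinitePresentation.of_surjective _ Ideal.Quotient.mk_surjective ?_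
        change (RingHom.ker (Ideal.Quotient.mk J)).FG
        rw [Ideal.mk_ker]
        exact hJ
      exact h2.comp h1
    infer_instance
  · refine ⟨⟨P, hP⟩, ?_⟩
    rw [Scheme.Hom.comp_apply]
    have : (Spec.map ρ) ⟨P, hP⟩ = hV.primeIdealOf ⟨f x, hyV⟩ := by
      apply PrimeSpectrum.ext
      change P.comap (algebraMap Γ(Y, V) (A ⧸ J)) = _
      rw [hPcomap, hKer]
    rw [this]
    exact hV.fromSpec_primeIdealOf ⟨f x, hyV⟩

open AlgebraicGeometry CategoryTheory Limits in
/-- Let f : X → Y be locally of finite presentation with Y quasi-compact and quasi-separated, and assume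
f is completely decomposed: every point y of Y is the image of a point x at which the residue field
extension is trivial. Then there are finitely many immersions Z_i → Y of finite presentation,
jointly surjective, such that each base change X ×_Y Z_i → Z_i admits a section. -/
theorem result {X Y : Scheme.{u}} (f : X ⟶ Y) [LocallyOfFinitePresentation f] [CompactSpace ↑Y] [QuasiSeparatedSpace ↑Y]
    (hcd : ∀ y : Y, ∃ x : X, f x = y ∧ Function.Bijective (f.residueFieldMap x)) :
    ∃ (n : ℕ) (Z : Fin n → Scheme.{u}) (z : ∀ i, Z i ⟶ Y), (∀ y : Y, ∃ i, y ∈ Set.range ⇑(z i)) ∧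
      ∀ i, IsImmersion (z i) ∧ LocallyOfFinitePresentation (z i) ∧ QuasiCompact (z i) ∧ QuasiSeparated (z i) ∧
        ∃ s : Z i ⟶ pullback f (z i), s ≫ pullback.snd f (z i) = 𝟙 (Z i) := by
  classical
  choose x hxy hxb using hcd
  choose Z z σ hσ hZaff himm hlfp hmem using fun y => exists_immersion_section f (x y) (hxb y)
  have hmem' : ∀ y, y ∈ Set.range (z y) := fun y => by
    have := hmem y
    rwa [hxy y] at this
  have hqc : ∀ y, QuasiCompact (z y) := fun y => by
    haveI := hZaff y
    infer_instance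
  have hqs : ∀ y, QuasiSeparated (z y) := fun y => by
    haveI := himm y
    infer_instance
  have hC : ∀ y, IsConstructible (Set.range (z y)) := by
    intro y
    haveI := hqc y
    haveI := hlfp y
    rw [← Set.image_univ]
    exact (z y).isConstructible_image IsConstructible.univ
  obtain ⟨t, ht⟩ := Groth.Agent.Lib.Helper24.ConsCompact.exists_finite_subcover
    (Z := ↥Y) (fun y => Set.range (z y)) hC (fun y => ⟨y, hmem' y⟩)
  let e : Fin t.card ≃ {y // y ∈ t} := t.equivFin.symm
  refine ⟨t.card, fun i => Z (e i).1, fun i => z (e i).1, ?_, ?_⟩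
  · intro w
    obtain ⟨y, hyt, hw⟩ := ht w
    refine ⟨e.symm ⟨y, hyt⟩, ?_⟩
    change w ∈ Set.range ⇑(z (e (e.symm ⟨y, hyt⟩)).1)
    rw [Equiv.apply_symm_apply]
    exact hw
  · intro i
    refine ⟨himm _, hlfp _, hqc _, hqs _, pullback.lift (σ (e i).1) (𝟙 _) ?_, pullback.lift_snd _ _ _⟩
    rw [hσ, Category.id_comp]

end Groth.Agent.S1440
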