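import Groth.Statements.S14400
import Mathlib
import Groth.Agent.Lib.Helper81.GalSplitSch
-- import your own Groth.Agent.* helpers here

set_option autoImplicit false
universe u
open CategoryTheory CategoryTheory.Limits AlgebraicGeometry
open Desc

namespace Groth.Agent.S14400

open Groth.Agent.Lib.Helper81.GalSplit Groth.Agent.Lib.Helper81.GalSplitSch
open Groth.Agent.Lib.Helper81.DescZ

lemma galAct_fst (k : Type u) [Field k] (K : Type u) [Field K] [Algebra k K]
    (X : Scheme.{u}) [X.Over (Spec (CommRingCat.of k))] (σ : K ≃ₐ[k] K) :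
    Curv2.galAct k X K σ ≫ Curv2.bcFst k X K = Curv2.bcFst k X K := by
  exact (pullback.lift_fst _ _ _).trans (Category.comp_id _)

lemma galAct_snd (k : Type u) [Field k] (K : Type u) [Field K] [Algebra k K]
    (X : Scheme.{u}) [X.Over (Spec (CommRingCat.of k))] (σ : K ≃ₐ[k] K) :
    Curv2.galAct k X K σ ≫ Curv2.bcSnd k X K =
      Curv2.bcSnd k X K ≫ Spec.map (CommRingCat.ofHom (σ : K →ₐ[k] K).toRingHom) := by
  exact pullback.lift_snd _ _ _

instance surj_e (k : Type u) [Field k] (K : Type u) [Field K] [Algebra k K] :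
    Surjective (Spec.map (CommRingCat.ofHom (algebraMap k K))) := by
  constructor
  intro x
  obtain ⟨y⟩ : Nonempty (Spec (CommRingCat.of K)) := inferInstance
  exact ⟨y, Subsingleton.elim _ _⟩

instance flat_e (k : Type u) [Field k] (K : Type u) [Field K] [Algebra k K] :
    Flat (Spec.map (CommRingCat.ofHom (algebraMap k K))) := by
  infer_instance


/-- Let K/k be a finite Galois extension of fields, X and Y schemes over k with base changes X_K and
Y_K, and g : X_K ⟶ Y_K a morphism over Spec K. Then g is the base change of a k-morphism f : X ⟶ Y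
(that is, g followed by the projection Y_K ⟶ Y is the projection X_K ⟶ X followed by f) if and only
if g commutes with the action of every k-automorphism σ of K on X_K and on Y_K (the identity on X,
resp. Y, and Spec σ on the factor Spec K). In other words the image of the k-morphisms X ⟶ Y among
the K-morphisms X_K ⟶ Y_K is exactly the set of Galois-invariant ones. -/
theorem result (k : Type u) [Field k] (K : Type u) [Field K]
    [Algebra k K] [FiniteDimensional k K] [IsGalois k K]
    (X Y : Scheme.{u}) [X.Over (Spec (CommRingCat.of k))] [Y.Over (Spec (CommRingCat.of k))]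
    (g : Curv2.bc k X K ⟶ Curv2.bc k Y K) (hg : g ≫ Curv2.bcSnd k Y K = Curv2.bcSnd k X K) :
    (∃ f : X ⟶ Y, f ≫ (Y ↘ Spec (CommRingCat.of k)) = X ↘ Spec (CommRingCat.of k) ∧
        g ≫ Curv2.bcFst k Y K = Curv2.bcFst k X K ≫ f) ↔
      ∀ σ : K ≃ₐ[k] K, Curv2.galAct k X K σ ≫ g = g ≫ Curv2.galAct k Y K σ := by
  constructor
  · rintro ⟨f, hf1, hf2⟩ σ
    apply pullback.hom_ext
    · have h1 : (Curv2.galAct k X K σ ≫ g) ≫ Curv2.bcFst k Y K = Curv2.bcFst k X K ≫ f := by
        rw [Category.assoc, hf2, ← Category.assoc, galAct_fst]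
      have h2 : (g ≫ Curv2.galAct k Y K σ) ≫ Curv2.bcFst k Y K = Curv2.bcFst k X K ≫ f := by
        rw [Category.assoc, galAct_fst, hf2]
      exact h1.trans h2.symm
    · have h1 : (Curv2.galAct k X K σ ≫ g) ≫ Curv2.bcSnd k Y K = Curv2.bcSnd k X K ≫
          Spec.map (CommRingCat.ofHom (σ : K →ₐ[k] K).toRingHom) := by
        rw [Category.assoc, hg, galAct_snd]
      have h2 : (g ≫ Curv2.galAct k Y K σ) ≫ Curv2.bcSnd k Y K = Curv2.bcSnd k X K ≫
          Spec.map (CommRingCat.ofHom (σ : K →ₐ[k] K).toRingHom) := by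
        rw [Category.assoc, galAct_snd, ← Category.assoc, hg]
      exact h1.trans h2.symm
  · intro hσ
    have hinv : ∀ σ : K ≃ₐ[k] K, Curv2.galAct k X K σ ≫ g ≫ Curv2.bcFst k Y K =
        g ≫ Curv2.bcFst k Y K := by
      intro σ
      rw [← Category.assoc, hσ σ, Category.assoc, galAct_fst]
    have hcX : Curv2.bcFst k X K ≫ (X ↘ Spec (CommRingCat.of k)) =
        Curv2.bcSnd k X K ≫ e k K := pullback.condition
    have hcY : Curv2.bcFst k Y K ≫ (Y ↘ Spec (CommRingCat.of k)) =
        Curv2.bcSnd k Y K ≫ e k K := pullback.condition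
    have hcP : pullback.fst (Curv2.bcFst k X K) (Curv2.bcFst k X K) ≫ Curv2.bcFst k X K =
        pullback.snd (Curv2.bcFst k X K) (Curv2.bcFst k X K) ≫ Curv2.bcFst k X K :=
      pullback.condition
    have key : pullback.fst (Curv2.bcFst k X K) (Curv2.bcFst k X K) ≫ g ≫ Curv2.bcFst k Y K =
        pullback.snd (Curv2.bcFst k X K) (Curv2.bcFst k X K) ≫ g ≫ Curv2.bcFst k Y K := by
      let r : pullback (Curv2.bcFst k X K) (Curv2.bcFst k X K) ⟶ Q k K :=
        (isPullback k K).lift
          (pullback.fst (Curv2.bcFst k X K) (Curv2.bcFst k X K) ≫ Curv2.bcSnd k X K)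
          (pullback.snd (Curv2.bcFst k X K) (Curv2.bcFst k X K) ≫ Curv2.bcSnd k X K)
          (by rw [Category.assoc, Category.assoc, ← hcX, reassoc_of% hcP])
      have hr1 : r ≫ p₁ k K =
          pullback.fst (Curv2.bcFst k X K) (Curv2.bcFst k X K) ≫ Curv2.bcSnd k X K :=
        (isPullback k K).lift_fst _ _ _
      have hr2 : r ≫ p₂ k K =
          pullback.snd (Curv2.bcFst k X K) (Curv2.bcFst k X K) ≫ Curv2.bcSnd k X K :=
        (isPullback k K).lift_snd _ _ _
      apply hom_ext_of_fpqc_family (fun σ => pullback.fst r (d k K σ))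
        (Precoverage.mem_coverings_of_isPullback (d k K) (d_mem k K) r _
          (fun σ => pullback.snd r (d k K σ)) (fun σ => IsPullback.of_hasPullback r (d k K σ)))
      intro σ
      have hc : pullback.fst r (d k K σ) ≫ r = pullback.snd r (d k K σ) ≫ d k K σ :=
        pullback.condition
      have e1 : pullback.fst r (d k K σ) ≫
            pullback.snd (Curv2.bcFst k X K) (Curv2.bcFst k X K) =
          (pullback.fst r (d k K σ) ≫ pullback.fst (Curv2.bcFst k X K) (Curv2.bcFst k X K)) ≫
            Curv2.galAct k X K σ := by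
        apply pullback.hom_ext
        · rw [Category.assoc, Category.assoc, Category.assoc, galAct_fst]
          exact congrArg (fun m => pullback.fst r (d k K σ) ≫ m) hcP.symm
        · rw [Category.assoc, Category.assoc, Category.assoc, galAct_snd]
          have a1 : pullback.fst r (d k K σ) ≫
              pullback.snd (Curv2.bcFst k X K) (Curv2.bcFst k X K) ≫ Curv2.bcSnd k X K =
              pullback.snd r (d k K σ) ≫
                Spec.map (CommRingCat.ofHom (σ : K →ₐ[k] K).toRingHom) := by
            rw [← hr2, ← Category.assoc, hc, Category.assoc, d_p₂]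
          have a2 : pullback.fst r (d k K σ) ≫
              pullback.fst (Curv2.bcFst k X K) (Curv2.bcFst k X K) ≫ Curv2.bcSnd k X K =
              pullback.snd r (d k K σ) := by
            rw [← hr1, ← Category.assoc, hc, Category.assoc, d_p₁, Category.comp_id]
          rw [a1, ← Category.assoc, ← Category.assoc]
          rw [Category.assoc (pullback.fst r (d k K σ)), a2]
      rw [← Category.assoc (pullback.fst r (d k K σ)) (pullback.snd _ _), e1, Category.assoc,
        hinv σ, Category.assoc]
    let f : X ⟶ Y := EffectiveEpi.desc (Curv2.bcFst k X K) (g ≫ Curv2.bcFst k Y K) (by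
      intro Z g₁ g₂ h12
      have h3 := congrArg (fun m => pullback.lift g₁ g₂ h12 ≫ m) key
      simp only [← Category.assoc] at h3
      rw [pullback.lift_fst, pullback.lift_snd] at h3
      simpa only [Category.assoc] using h3)
    have hf : Curv2.bcFst k X K ≫ f = g ≫ Curv2.bcFst k Y K := EffectiveEpi.fac _ _ _
    refine ⟨f, ?_, hf.symm⟩
    rw [← cancel_epi (Curv2.bcFst k X K), ← Category.assoc, hf, Category.assoc, hcY,
      ← Category.assoc, hg, hcX]

end Groth.Agent.S14400
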