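import Groth.Statements.S14401
import Mathlib
-- import your own Groth.Agent.* helpers here

set_option autoImplicit false
universe u
open CategoryTheory AlgebraicGeometry
open Props

namespace Groth.Agent.S14401



/-- Let X be a Noetherian scheme all of whose local rings are integral domains. Then each irreducible
component of X is an open subset of X, and each point of X lies on exactly one irreducible component
(so the irreducible components of X are pairwise disjoint, open and closed, and coincide with the
connected components). (The published statement assumes X regular and Noetherian; its argument uses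
only that the local rings of X are domains, which is the hypothesis taken here.) -/
theorem result (X : Scheme.{u}) [AlgebraicGeometry.IsNoetherian X]
    (hX : ∀ x : X, IsDomain (X.presheaf.stalk x)) :
    (∀ Z ∈ irreducibleComponents (X : Type u), IsOpen Z) ∧
      ∀ x : X, ∃! Z, Z ∈ irreducibleComponents (X : Type u) ∧ x ∈ Z := by
  have huniq : ∀ x : X, ∀ Z₁ ∈ irreducibleComponents (X : Type u),
      ∀ Z₂ ∈ irreducibleComponents (X : Type u), x ∈ Z₁ → x ∈ Z₂ → Z₁ = Z₂ := by
    intro x Z₁ h₁ Z₂ h₂ hx₁ hx₂
    haveI := hX x
    have hc₁ := isClosed_of_mem_irreducibleComponents Z₁ h₁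
    have hc₂ := isClosed_of_mem_irreducibleComponents Z₂ h₂
    have hi₁ : IsIrreducible Z₁ := h₁.prop
    have hi₂ : IsIrreducible Z₂ := h₂.prop
    obtain ⟨η₁, hη₁⟩ := QuasiSober.sober hi₁ hc₁
    obtain ⟨η₂, hη₂⟩ := QuasiSober.sober hi₂ hc₂
    have s₁ : η₁ ⤳ x := hη₁.specializes hx₁
    have s₂ : η₂ ⤳ x := hη₂.specializes hx₂
    obtain ⟨P₁, hP₁⟩ : η₁ ∈ Set.range (X.fromSpecStalk x) := by
      rw [Scheme.range_fromSpecStalk]; exact s₁
    obtain ⟨P₂, hP₂⟩ : η₂ ∈ Set.range (X.fromSpecStalk x) := by
      rw [Scheme.range_fromSpecStalk]; exact s₂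
    let ξ0 : PrimeSpectrum (X.presheaf.stalk x) := ⟨⊥, Ideal.isPrime_bot⟩
    have hb : ∀ P : PrimeSpectrum (X.presheaf.stalk x), ξ0 ⤳ P := by
      intro P
      rw [← PrimeSpectrum.le_iff_specializes]
      exact bot_le (a := P.asIdeal)
    have key : ∀ (Z : Set X) (hZ : Z ∈ irreducibleComponents (X : Type u)) (η : X)
        (hη : IsGenericPoint η Z) (P : PrimeSpectrum (X.presheaf.stalk x))
        (hP : X.fromSpecStalk x P = η), closure {X.fromSpecStalk x ξ0} = Z := by
      intro Z hZ η hη P hP
      have t : X.fromSpecStalk x ξ0 ⤳ η := by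
        rw [← hP]
        exact (hb P).map (X.fromSpecStalk x).continuous
      have hle : Z ≤ closure {X.fromSpecStalk x ξ0} := by
        rw [← hη.def]
        exact specializes_iff_closure_subset.mp t
      exact le_antisymm (hZ.le_of_ge isIrreducible_singleton.closure hle) hle
    exact (key Z₁ h₁ η₁ hη₁ P₁ hP₁).symm.trans (key Z₂ h₂ η₂ hη₂ P₂ hP₂)
  refine ⟨?_, ?_⟩
  · intro Z hZ
    have hfin : (irreducibleComponents (X : Type u)).Finite :=
      TopologicalSpace.NoetherianSpace.finite_irreducibleComponents
    have hcl : IsClosed (⋃ Z' ∈ irreducibleComponents (X : Type u) \ {Z}, Z') := by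
      apply (hfin.subset Set.sdiff_subset).isClosed_biUnion
      intro Z' hZ'
      exact isClosed_of_mem_irreducibleComponents Z' hZ'.1
    have heq : Z = (⋃ Z' ∈ irreducibleComponents (X : Type u) \ {Z}, Z')ᶜ := by
      ext y
      simp only [Set.mem_compl_iff, Set.mem_iUnion, not_exists]
      constructor
      · intro hy Z' hZ' hy'
        exact hZ'.2 (huniq y Z' hZ'.1 Z hZ hy' hy)
      · intro h
        by_contra hy
        refine h (irreducibleComponent y) ⟨irreducibleComponent_mem_irreducibleComponents y, ?_⟩
          mem_irreducibleComponent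
        intro he
        rw [Set.mem_singleton_iff] at he
        exact hy (he ▸ mem_irreducibleComponent)
    rw [heq]
    exact hcl.isOpen_compl
  · intro x
    refine ⟨irreducibleComponent x, ⟨irreducibleComponent_mem_irreducibleComponents x,
      mem_irreducibleComponent⟩, ?_⟩
    intro Z ⟨hZ, hx⟩
    exact huniq x Z hZ _ (irreducibleComponent_mem_irreducibleComponents x) hx
      mem_irreducibleComponent

end Groth.Agent.S14401
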