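import Groth.Statements.S14402
import Mathlib
import Groth.Agent.S0459
-- import your own Groth.Agent.* helpers here

set_option autoImplicit false
universe u
open CategoryTheory CategoryTheory.Limits
open CohTop

namespace Groth.Agent.S14402
open CategoryTheory.Limits


theorem isZero_rightDerived_succ_of_exact {C D : Type*} [Category C] [Category D] [Abelian C]
    [Abelian D] [EnoughInjectives C] (F : C ⥤ D) [F.Additive]
    (hF : ∀ (S : ShortComplex C), S.Exact → (S.map F).Exact) (X : C) (n : ℕ) :
    IsZero ((F.rightDerived (n + 1)).obj X) := by
  let I : InjectiveResolution X := Classical.choice (HasInjectiveResolution.out (Z := X))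
  refine IsZero.of_iso ?_ (I.isoRightDerivedObj F (n + 1))
  have h1 := I.cocomplex_exactAt_succ n
  have h2 : ((F.mapHomologicalComplex _).obj I.cocomplex).ExactAt (n + 1) := hF _ h1
  exact (HomologicalComplex.exactAt_iff_isZero_homology _ _).1 h2


/-- If a continuous map f : X → Y is a closed embedding (a homeomorphism onto a closed subset), then for
every abelian sheaf F on X and every q ≥ 0 the higher direct image R^{q+1} f_* F is zero. (The
published statement is for modules over a sheaf of rings on X along a morphism of ringed spaces;
this row is the case of abelian sheaves, the sheaf of rings being the constant sheaf ℤ.) -/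
theorem result {X Y : TopCat.{u}} (f : X ⟶ Y)
    (hf : Topology.IsClosedEmbedding f) (F : CohTop.Ab X) (q : ℕ) :
    IsZero ((CohTop.Rpush f (q + 1)).obj F) := by
  refine isZero_rightDerived_succ_of_exact (CohTop.push f) ?_ F q
  exact ((Functor.exact_tfae (CohTop.push f)).out 0 1).1 (Groth.Agent.S0459.push_shortExact f hf)

end Groth.Agent.S14402
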