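import Groth.Statements.S14404
import Mathlib
import Groth.Agent.Lib.Helper21.FlatFibreDimField
-- import your own Groth.Agent.* helpers here

set_option autoImplicit false
universe u
open CategoryTheory AlgebraicGeometry
open FlatMor

namespace Groth.Agent.S14404

/-- Let k be a field, X and Y irreducible schemes of finite type over k and f : X ⟶ Y a flat k-morphism.
Then dim Y ≤ dim X, and for every point y of Y every irreducible component Z of the scheme-theoretic
fibre of f over y has dim Z + dim Y = dim X; that is, every non-empty fibre has all its irreducible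
components of dimension dim X − dim Y. -/
theorem result (k : Type u) [Field k]
    {X Y : Scheme.{u}} (qX : X ⟶ Spec (CommRingCat.of k)) (qY : Y ⟶ Spec (CommRingCat.of k))
    [LocallyOfFiniteType qX] [QuasiCompact qX] [LocallyOfFiniteType qY] [QuasiCompact qY]
    [IrreducibleSpace X] [IrreducibleSpace Y] (f : X ⟶ Y) (hf : f ≫ qY = qX) [Flat f] :
    topologicalKrullDim Y ≤ topologicalKrullDim X ∧
      ∀ (y : Y), ∀ Z ∈ irreducibleComponents (f.fiber y : Type u),
        topologicalKrullDim Z + topologicalKrullDim Y = topologicalKrullDim X := by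
  have hfl := Groth.Agent.Lib.Helper21.FieldDim.locallyOfFiniteType_of_comp_eq qX qY f hf
  have hdimX : topologicalKrullDim ↥X =
      ((Groth.Agent.Lib.Helper21.FieldDim.td qX (genericPoint ↥X) : ℕ) : WithBot ℕ∞) :=
    Groth.Agent.Lib.Helper21.FieldDim.dim_eq_td_genericPoint qX
  have hdimY : topologicalKrullDim ↥Y =
      ((Groth.Agent.Lib.Helper21.FieldDim.td qY (genericPoint ↥Y) : ℕ) : WithBot ℕ∞) :=
    Groth.Agent.Lib.Helper21.FieldDim.dim_eq_td_genericPoint qY
  set dX := Groth.Agent.Lib.Helper21.FieldDim.td qX (genericPoint ↥X) with hdX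
  set dY := Groth.Agent.Lib.Helper21.FieldDim.td qY (genericPoint ↥Y) with hdY
  have hX : ∀ Z ∈ irreducibleComponents (X : Type u), topologicalKrullDim ↥Z =
      ((dX : ℕ) : WithBot ℕ∞) := by
    intro Z hZ
    rw [irreducibleComponents_eq_singleton, Set.mem_singleton_iff] at hZ
    subst hZ
    rw [← hdimX]
    exact (Homeomorph.Set.univ ↥X).isHomeomorph.topologicalKrullDim_eq
  have hY : ∀ Z ∈ irreducibleComponents (Y : Type u), topologicalKrullDim ↥Z =
      ((dY : ℕ) : WithBot ℕ∞) := by
    intro Z hZ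
    rw [irreducibleComponents_eq_singleton, Set.mem_singleton_iff] at hZ
    subst hZ
    rw [← hdimY]
    exact (Homeomorph.Set.univ ↥Y).isHomeomorph.topologicalKrullDim_eq
  obtain ⟨x₀⟩ : Nonempty ↥X := inferInstance
  obtain ⟨ζ, -, -, hζ⟩ := Groth.Agent.Lib.Helper73.SchemeDim.exists_maximal_in_fibre f x₀
  have h1 := Groth.Agent.Lib.Helper21.FieldDim.localDim_eq_add_tdR_of_maximal qX qY f hf ζ hζ
  rw [Groth.Agent.Lib.Helper21.FieldDim.localDim_eq_of_equidim qX _ hX ζ,
    Groth.Agent.Lib.Helper21.FieldDim.localDim_eq_of_equidim qY _ hY (f.base ζ)] at h1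
  have h2 : dX = dY + Groth.Agent.Lib.Helper21.FieldDim.tdR f ζ := by exact_mod_cast h1
  have hrel := (Groth.Agent.Lib.Helper21.FieldDim.flat_equidim_iff qX qY f hf dY
    (Groth.Agent.Lib.Helper21.FieldDim.tdR f ζ) hY).mp (by rw [← h2]; exact hX)
  rw [hdimX, hdimY]
  refine ⟨by exact_mod_cast (h2 ▸ Nat.le_add_right _ _), ?_⟩
  intro y Z hZ
  rw [hrel y Z hZ, h2]
  push_cast
  rw [add_comm]

end Groth.Agent.S14404
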