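import Groth.Statements.S14405
import Mathlib
-- import your own Groth.Agent.* helpers here

set_option autoImplicit false
open Polynomial
open HilbNum

namespace Groth.Agent.S14405

-- Δ S = S - S.comp (X - 1)
theorem delta_degree_lt (S : ℚ[X]) (hS : S.natDegree ≠ 0) :
    (S - S.comp (X - C 1)).degree < S.degree := by
  have hS0 : S ≠ 0 := by rintro rfl; simp at hS
  apply degree_sub_lt_left
  · rw [degree_eq_natDegree hS0, degree_eq_natDegree]
    · rw [natDegree_comp, natDegree_X_sub_C, mul_one]
    · intro h
      have := congrArg natDegree h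
      rw [natDegree_comp, natDegree_X_sub_C, mul_one, natDegree_zero] at this
      exact hS this
  · exact hS0
  · rw [leadingCoeff_comp (by rw [natDegree_X_sub_C]; exact one_ne_zero), leadingCoeff_X_sub_C, one_pow, mul_one]

theorem exists_antidiff (d : ℕ) : ∀ Q : ℚ[X], Q.natDegree ≤ d →
    ∃ S : ℚ[X], S.natDegree ≤ d + 1 ∧ S - S.comp (X - C 1) = Q := by
  induction d with
  | zero =>
    intro Q hQ
    refine ⟨C (Q.coeff 0) * X, ?_, ?_⟩
    · exact (natDegree_C_mul_le _ _).trans (by simp)
    · rw [eq_C_of_natDegree_le_zero hQ]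
      simp only [mul_comp, C_comp, X_comp, coeff_C_zero, C_1]
      ring
  | succ d ih =>
    intro Q hQ
    set a := Q.coeff (d + 1) with ha
    set T : ℚ[X] := X ^ (d + 2) - (X - C 1) ^ (d + 2) with hT
    have hTdeg : T.natDegree ≤ d + 1 := by
      have h1 : T.degree < ((X : ℚ[X]) ^ (d + 2)).degree := by
        apply degree_sub_lt_left
        · rw [degree_X_pow, degree_pow, degree_X_sub_C]; simp
        · exact pow_ne_zero _ X_ne_zero
        · rw [leadingCoeff_X_pow, leadingCoeff_pow, leadingCoeff_X_sub_C, one_pow]
      rw [degree_X_pow] at h1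
      have : T.natDegree < d + 2 := by
        by_cases hT0 : T = 0
        · rw [hT0]; simp
        · exact (natDegree_lt_iff_degree_lt hT0).mpr (by exact_mod_cast h1)
      omega
    have hTcoeff : T.coeff (d + 1) = (d + 2 : ℚ) := by
      rw [hT, coeff_sub, coeff_X_pow, if_neg (by omega), sub_eq_add_neg (X : ℚ[X]), ← C_neg,
        coeff_X_add_C_pow]
      have : d + 2 - (d + 1) = 1 := by omega
      rw [this]
      have h2 : (d + 2).choose (d + 1) = d + 2 := by
        rw [show d + 2 = (d + 1) + 1 from rfl, Nat.choose_succ_self_right]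
      rw [h2]; push_cast; ring
    set Q' := Q - C (a / (d + 2)) * T with hQ'
    have hQ'deg : Q'.natDegree ≤ d := by
      have h1 : Q'.natDegree ≤ d + 1 := by
        refine (natDegree_sub_le _ _).trans (max_le hQ ?_)
        exact (natDegree_C_mul_le _ _).trans hTdeg
      have h2 : Q'.coeff (d + 1) = 0 := by
        rw [hQ', coeff_sub, coeff_C_mul, hTcoeff]
        have : (d + 2 : ℚ) ≠ 0 := by positivity
        field_simp
        rw [← ha]; ring
      by_contra hlt
      have h3 : Q'.natDegree = d + 1 := by omega
      have h4 : Q' ≠ 0 := by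
        intro h; rw [h] at h3; simp at h3
      have := leadingCoeff_ne_zero.mpr h4
      rw [leadingCoeff, h3] at this
      exact this h2
    obtain ⟨S', hS'deg, hS'⟩ := ih Q' hQ'deg
    refine ⟨S' + C (a / (d + 2)) * X ^ (d + 2), ?_, ?_⟩
    · refine (natDegree_add_le _ _).trans (max_le (by omega) ?_)
      exact (natDegree_C_mul_le _ _).trans (by simp)
    · have : Q = Q' + C (a / (d + 2)) * T := by rw [hQ']; ring
      rw [this, ← hS', hT]
      simp only [add_comp, mul_comp, C_comp, pow_comp, X_comp]
      ring


/-- Let φ be a function from the integers to the rationals and Q a nonzero polynomial with rational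
coefficients of degree d such that φ(m) - φ(m-1) = Q(m) for every integer m. Then there is a
polynomial P with rational coefficients, of degree d + 1, such that φ(m) = P(m) for every integer m.
(The explicit form of P in the binomial basis is not part of this statement.) -/
theorem result (φ : ℤ → ℚ) (d : ℕ) (Q : ℚ[X]) (hQ : Q ≠ 0)
    (hd : Q.natDegree = d) (h : ∀ m : ℤ, φ m - φ (m - 1) = Q.eval (m : ℚ)) :
    ∃ P : ℚ[X], P.natDegree = d + 1 ∧ ∀ m : ℤ, φ m = P.eval (m : ℚ) := by
  obtain ⟨S, hSdeg, hS⟩ := exists_antidiff d Q hd.le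
  have hSd : S.natDegree = d + 1 := by
    by_contra hne
    have hle : S.natDegree ≤ d := by omega
    by_cases h0 : S.natDegree = 0
    · rw [eq_C_of_natDegree_le_zero h0.le] at hS
      simp at hS
      exact hQ hS.symm
    · have h1 := delta_degree_lt S h0
      rw [hS] at h1
      have h2 : Q.natDegree < S.natDegree := natDegree_lt_natDegree hQ h1
      omega
  have hSeval : ∀ m : ℤ, S.eval (m : ℚ) - S.eval ((m : ℚ) - 1) = Q.eval (m : ℚ) := by
    intro m
    rw [← hS]
    simp [eval_comp]
  have key : ∀ m : ℤ, φ m - S.eval (m : ℚ) = φ 0 - S.eval 0 := by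
    intro m
    induction m using Int.induction_on with
    | zero => simp
    | succ n ih =>
      have h1 := h (n + 1)
      have h2 := hSeval (n + 1)
      simp only [add_sub_cancel_right] at h1
      push_cast at h1 h2 ih ⊢
      simp only [add_sub_cancel_right] at h2
      linarith
    | pred n ih =>
      have h1 := h (-n)
      have h2 := hSeval (-n)
      push_cast at h1 h2 ih ⊢
      linarith
  refine ⟨S + C (φ 0 - S.eval 0), ?_, ?_⟩
  · rw [natDegree_add_C, hSd]
  · intro m
    have := key m
    simp only [eval_add, eval_C]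
    linarith

end Groth.Agent.S14405
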