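import Groth.Statements.S14410
import Mathlib.Topology.Sheaves.Flasque
-- import your own Groth.Agent.* helpers here

set_option autoImplicit false
universe u
open CategoryTheory TopologicalSpace
open CohTop

namespace Groth.Agent.S14410

/-- Let X be a topological space and 0 → F₁ → F₂ → F₃ → 0 a short exact sequence of sheaves of abelian
groups on X. If F₁ and F₃ are flasque (every restriction map is surjective), then F₂ is flasque.
(The published statement is for O_X-modules on a ringed space and is an equivalence; this row states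
the implication from the outer terms to the middle term, for the underlying abelian sheaves.) -/
theorem result (X : TopCat.{u})
    (S : ShortComplex (TopCat.Sheaf AddCommGrpCat.{u} X)) (hS : S.ShortExact)
    [S.X₁.IsFlasque] [S.X₃.IsFlasque] : S.X₂.IsFlasque := by
  refine ⟨fun {U V} i => ?_⟩
  refine (AddCommGrpCat.epi_iff_surjective _).mpr (fun t => ?_)
  -- lift g(t) to U via flasqueness of X₃
  obtain ⟨s₃, hs₃⟩ := (AddCommGrpCat.epi_iff_surjective (S.X₃.obj.map i)).mp inferInstance
    (S.g.hom.app V t)
  -- lift s₃ to X₂(U)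
  have hepi : Epi (S.g.hom.app U) := by
    have := TopCat.Sheaf.IsFlasque.epi_of_shortExact (U := U.unop) hS
    exact this
  obtain ⟨s₂, hs₂⟩ := (AddCommGrpCat.epi_iff_surjective _).mp hepi s₃
  have hnat : S.g.hom.app V (S.X₂.obj.map i s₂) = S.X₃.obj.map i (S.g.hom.app U s₂) := by
    have := S.g.hom.naturality i
    exact congr($(this).hom s₂)
  have hzero : S.g.hom.app V (t - S.X₂.obj.map i s₂) = 0 := by
    rw [map_sub, hnat, hs₂, hs₃, sub_self]
  obtain ⟨t₁, ht₁⟩ := TopCat.Sheaf.sections_exact_of_left_exact (U := V.unop) hS.1 hS.2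
    (t - S.X₂.obj.map i s₂) hzero
  obtain ⟨s₁, hs₁⟩ := (AddCommGrpCat.epi_iff_surjective (S.X₁.obj.map i)).mp inferInstance t₁
  refine ⟨s₂ + S.f.hom.app U s₁, ?_⟩
  have hnat1 : S.X₂.obj.map i (S.f.hom.app U s₁) = S.f.hom.app V (S.X₁.obj.map i s₁) := by
    have := S.f.hom.naturality i
    exact congr($(this).hom s₁).symm
  rw [map_add, hnat1, hs₁, ht₁]
  abel

end Groth.Agent.S14410
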