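import Groth.Statements.S14413
import Mathlib
-- import your own Groth.Agent.* helpers here

set_option autoImplicit false
universe u
open CategoryTheory CategoryTheory.Limits
open CAlg

namespace Groth.Agent.S14413

universe v


section Cons
variable {C : Type u} [Category.{v} C] [Abelian C]
variable (S : ShortComplex C) (hS : S.ShortExact) (Q : ProjectiveResolution S.X₁)

/-- augmentation map of `Q` with the right target type -/
noncomputable def p₀ : Q.complex.X 0 ⟶ S.X₁ := (ChainComplex.toSingle₀Equiv _ _ Q.π).1

lemma d_p₀ : Q.complex.d 1 0 ≫ p₀ S Q = 0 := (ChainComplex.toSingle₀Equiv _ _ Q.π).2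

lemma exact_p₀ : (ShortComplex.mk _ _ (d_p₀ S Q)).Exact := Q.exact₀

instance epi_p₀ : Epi (p₀ S Q) := by
  have : Epi (Q.π.f 0) := inferInstance
  exact this

lemma cons_w : Q.complex.d 1 0 ≫ (p₀ S Q ≫ S.f) = 0 := by
  rw [← Category.assoc, d_p₀, zero_comp]

/-- the spliced complex -/
noncomputable def consComplex : ChainComplex C ℕ :=
  Q.complex.augment (p₀ S Q ≫ S.f) (cons_w S Q)

lemma cons_d_comp_g : (consComplex S Q).d 1 0 ≫ S.g = 0 := by
  change (p₀ S Q ≫ S.f) ≫ S.g = 0
  rw [Category.assoc, S.zero, comp_zero]

noncomputable def consπ : consComplex S Q ⟶ (ChainComplex.single₀ C).obj S.X₃ :=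
  (ChainComplex.toSingle₀Equiv _ _).symm ⟨S.g, cons_d_comp_g S Q⟩

include hS in
lemma exact_one : (ShortComplex.mk (Q.complex.d 1 0) (p₀ S Q ≫ S.f) (cons_w S Q)).Exact := by
  have hmono : Mono S.f := hS.mono_f
  let φ : ShortComplex.mk _ _ (d_p₀ S Q) ⟶ ShortComplex.mk (Q.complex.d 1 0) (p₀ S Q ≫ S.f) (cons_w S Q) :=
    { τ₁ := 𝟙 _
      τ₂ := 𝟙 _
      τ₃ := S.f
      comm₁₂ := by simp
      comm₂₃ := by simp }
  have h1 : Epi φ.τ₁ := by dsimp [φ]; infer_instance
  have h2 : IsIso φ.τ₂ := by dsimp [φ]; infer_instance
  have h3 : Mono φ.τ₃ := hmono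
  exact (ShortComplex.exact_iff_of_epi_of_isIso_of_mono φ).mp (exact_p₀ S Q)

include hS in
lemma cons_exactAt_succ (n : ℕ) : (consComplex S Q).ExactAt (n + 1) := by
  rw [HomologicalComplex.exactAt_iff' _ (n + 1 + 1) (n + 1) n (by simp) (by simp)]
  cases n with
  | zero => exact exact_one S hS Q
  | succ n =>
    have h := Q.complex_exactAt_succ n
    rw [HomologicalComplex.exactAt_iff' _ (n + 1 + 1) (n + 1) n (by simp) (by simp)] at h
    exact h


include hS in
lemma cons_quasiIso : QuasiIso (consπ S Q) := by
  refine ⟨fun n => ?_⟩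
  cases n with
  | zero =>
    rw [ChainComplex.quasiIsoAt₀_iff, ShortComplex.quasiIso_iff_of_zeros']
    · have hepi : Epi S.g := hS.epi_g
      -- exactness of Q₀ → P₀ → M
      have hex : (ShortComplex.mk (p₀ S Q ≫ S.f) S.g (by rw [Category.assoc, S.zero, comp_zero])).Exact := by
        let φ : ShortComplex.mk (p₀ S Q ≫ S.f) S.g (by rw [Category.assoc, S.zero, comp_zero]) ⟶ S :=
          { τ₁ := p₀ S Q
            τ₂ := 𝟙 _
            τ₃ := 𝟙 _
            comm₁₂ := by simp
            comm₂₃ := by simp }
        have h1 : Epi φ.τ₁ := by dsimp [φ]; infer_instance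
        have h2 : IsIso φ.τ₂ := by dsimp [φ]; infer_instance
        have h3 : Mono φ.τ₃ := by dsimp [φ]; infer_instance
        exact (ShortComplex.exact_iff_of_epi_of_isIso_of_mono φ).mpr hS.exact
      refine (ShortComplex.exact_and_epi_g_iff_of_iso ?_).2 ⟨hex, hepi⟩
      exact ShortComplex.isoMk (Iso.refl _) (Iso.refl _) (Iso.refl _)
        (by
          simp only [consComplex]
          exact (Category.id_comp _).trans (Category.comp_id _).symm)
        (by
          have h0 : (consπ S Q).f 0 = S.g := ChainComplex.toSingle₀Equiv_symm_apply_f_zero _ _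
          change 𝟙 _ ≫ S.g = (consπ S Q).f 0 ≫ 𝟙 _
          rw [h0]
          exact (Category.id_comp _).trans (Category.comp_id _).symm)
    all_goals rfl
  | succ n =>
    rw [quasiIsoAt_iff_exactAt' (consπ S Q) (n + 1) (ChainComplex.exactAt_succ_single_obj _ _)]
    exact cons_exactAt_succ S hS Q n

/-- the spliced resolution -/
noncomputable def consRes [Projective S.X₂] : ProjectiveResolution S.X₃ where
  complex := consComplex S Q
  projective n := by
    cases n with
    | zero => exact inferInstanceAs (Projective S.X₂)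
    | succ n => exact inferInstanceAs (Projective (Q.complex.X n))
  π := consπ S Q
  quasiIso := cons_quasiIso S hS Q

lemma consRes_X_succ [Projective S.X₂] (n : ℕ) : (consRes S hS Q).complex.X (n + 1) = Q.complex.X n := rfl

end Cons

section Main
variable {C : Type u} [Category.{v} C] [Abelian C] [EnoughProjectives C]

theorem exists_res (d : ℕ) : ∀ (M : C), HasProjectiveDimensionLE M d →
    ∃ P : ProjectiveResolution M, ∀ i : ℕ, d < i → IsZero (P.complex.X i) := by
  induction d with
  | zero =>
    intro M hM
    have : Projective M := (projective_iff_hasProjectiveDimensionLE_zero M).mpr hM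
    refine ⟨ProjectiveResolution.self M, fun i hi => ?_⟩
    exact HomologicalComplex.isZero_single_obj_X (ComplexShape.down ℕ) 0 M i (by omega)
  | succ d ih =>
    intro M hM
    let S : ShortComplex C := ShortComplex.mk (kernel.ι (Projective.π M)) (Projective.π M) (kernel.condition _)
    have hS : S.ShortExact :=
      { exact := ShortComplex.exact_kernel _
        mono_f := inferInstanceAs (Mono (kernel.ι (Projective.π M)))
        epi_g := inferInstanceAs (Epi (Projective.π M)) }
    have hP : Projective S.X₂ := inferInstanceAs (Projective (Projective.over M))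
    have hK : HasProjectiveDimensionLE S.X₁ d := by
      have h2 : HasProjectiveDimensionLT S.X₂ (d + 1) := hasProjectiveDimensionLT_of_ge _ 1 (d + 1) (by omega)
      exact hS.hasProjectiveDimensionLT_X₁ (d + 1) h2 hM
    obtain ⟨Q, hQ⟩ := ih S.X₁ hK
    refine ⟨consRes S hS Q, fun i hi => ?_⟩
    obtain ⟨j, rfl⟩ := Nat.exists_eq_succ_of_ne_zero (by omega : i ≠ 0)
    exact hQ j (by omega)

omit [EnoughProjectives C] in
theorem pd_of_res (M : C) (d : ℕ) (P : ProjectiveResolution M)
    (hP : ∀ i : ℕ, d < i → IsZero (P.complex.X i)) : HasProjectiveDimensionLE M d := by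
  let := HasExt.standard C
  change HasProjectiveDimensionLT M (d + 1)
  rw [hasProjectiveDimensionLT_iff]
  intro i hi Y e
  obtain ⟨f, hf, rfl⟩ := P.extMk_surjective e (i + 1) rfl
  have hf0 : f = 0 := (hP i (by omega)).eq_of_src f 0
  subst hf0
  exact P.extMk_zero (i + 1) rfl

end Main

/-- Let R be a commutative ring, M an R-module and d ≥ 0. Then M has projective dimension at most d in
the sense that Ext^i_R(M, N) = 0 for every i > d and every R-module N (Mathlib's Ext-vanishing
definition) if and only if M has a projective resolution of length at most d, i.e. a projective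
resolution P whose terms P_i are zero for all i > d (the definition of pd_R(M) ≤ d by resolutions). -/
theorem result (R : Type u) [CommRing R]
    (M : ModuleCat.{u} R) (d : ℕ) :
    HasProjectiveDimensionLE M d ↔
      ∃ P : ProjectiveResolution M, ∀ i : ℕ, d < i → IsZero (P.complex.X i) := by
  exact ⟨fun h => exists_res d M h, fun ⟨P, hP⟩ => pd_of_res M d P hP⟩

end Groth.Agent.S14413
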