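import Groth.Statements.S14414
import Groth.Agent.Lib.Helper46.TorShift
import Mathlib
-- import your own Groth.Agent.* helpers here

set_option autoImplicit false
universe u
open CategoryTheory CategoryTheory.Limits
open CAlg

namespace Groth.Agent.S14414
open Groth.Agent.Lib.Helper46 Groth.Agent.Lib.Helper46.TorShift


variable {R : Type u} [CommRing R]

theorem key (q : ℕ) : ∀ (N : Type u) [AddCommGroup N] [Module R N],
    HasProjectiveDimensionLE (ModuleCat.of R N) q → ∀ (M : Type u) [AddCommGroup M] [Module R M] (i : ℕ), q < i →
    IsZero (T R i M N) := by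
  induction q with
  | zero =>
    intro N _ _ hN M _ _ i hi
    have hproj : Projective (ModuleCat.of R N) := (projective_iff_hasProjectiveDimensionLE_zero _).mpr hN
    have : Module.Projective R N := (IsProjective.iff_projective (R := R) (P := N)).mpr hproj
    obtain ⟨n, rfl⟩ := Nat.exists_eq_succ_of_ne_zero (Nat.pos_iff_ne_zero.mp hi)
    exact isZero_of_flat_right M N n
  | succ q ih =>
    intro N _ _ hN M _ _ i hi
    obtain ⟨n, rfl⟩ := Nat.exists_eq_succ_of_ne_zero (Nat.pos_iff_ne_zero.mp (Nat.zero_lt_of_lt hi))
    have hn : q < n := by omega
    let π : (N →₀ R) →ₗ[R] N := Finsupp.linearCombination R id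
    have hπ : Function.Surjective π := Finsupp.linearCombination_id_surjective R N
    let ι : LinearMap.ker π →ₗ[R] (N →₀ R) := (LinearMap.ker π).subtype
    have hι : Function.Injective ι := Submodule.subtype_injective _
    have hex : Function.Exact ι π := LinearMap.exact_subtype_ker_map π
    have hS := sesSC_shortExact (R := R) (X := LinearMap.ker π) (Y := N →₀ R) (Z := N) ι π hι hex hπ
    have hK : HasProjectiveDimensionLE (ModuleCat.of R (LinearMap.ker π)) q := by
      have h2 : HasProjectiveDimensionLT (sesSC (R := R) (X := LinearMap.ker π) (Y := N →₀ R) (Z := N) ι π hex).X₂ (q + 1) := by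
        have : Projective (sesSC (R := R) (X := LinearMap.ker π) (Y := N →₀ R) (Z := N) ι π hex).X₂ := by
          change Projective (ModuleCat.of R (N →₀ R))
          exact (IsProjective.iff_projective (R := R) (P := (N →₀ R))).mp inferInstance
        exact hasProjectiveDimensionLT_of_ge _ 1 (q + 1) (by omega)
      exact hS.hasProjectiveDimensionLT_X₁ (q + 1) h2 hN
    exact isZero_right₂ (R := R) (X := LinearMap.ker π) (Y := N →₀ R) (Z := N) ι π hι hex hπ n (isZero_of_flat_right M (N →₀ R) n) (ih _ hK M n hn)


/-- Let R be a commutative ring and N an R-module of projective dimension at most q, in the sense that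
Ext^i_R(N, N′) = 0 for all i > q and all N′ (equivalently, N has a projective resolution of length
at most q). Then for every R-module M and every i > q, Tor_i^R(M, N) — the value at N of the i-th
left derived functor of M ⊗_R (-) — is zero. -/
theorem result (R : Type u) [CommRing R]
    (M N : ModuleCat.{u} R) (q : ℕ) [HasProjectiveDimensionLE N q] (i : ℕ) (hi : q < i) :
    IsZero (((CategoryTheory.Tor (ModuleCat.{u} R) i).obj M).obj N) := by
  exact key q N (inferInstanceAs (HasProjectiveDimensionLE N q)) M i hi

end Groth.Agent.S14414
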