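import Groth.Statements.S14415
import Groth.Agent.S0558
import Groth.Agent.Lib.QCoh.Helper74_TorsionFreeDimOne
import Groth.Agent.Lib.QCoh.Helper18_AssPushFinite
import Groth.Agent.Lib.QCoh.Helper50_FinitePush
import Groth.Agent.Lib.QCoh.Helper74_IsoLocus

set_option autoImplicit false
universe u
open CategoryTheory AlgebraicGeometry
open FlatMor

namespace Groth.Agent.S14415

/-- Let f : C → C' be a finite morphism of schemes, with C' locally Noetherian and all local rings of C'
regular of dimension at most one, such that every associated point x of C (a point whose maximal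
ideal is an associated prime of O_{C,x}) maps to a point of C' whose local ring is zero-dimensional,
that is, to a generic point of an irreducible component of C'. Then f_* O_C is finite locally free.
(The published statement takes C' regular Noetherian of pure dimension one and C Noetherian of pure
dimension one without embedded points; these hypotheses imply that every associated point of C maps
to a generic point of C'. This row assumes only that condition, allows C' locally Noetherian with
regular local rings of dimension at most one, and puts no condition on the dimension of C; the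
argument is local on C'.) -/
theorem result
    (C C' : Scheme.{u}) (f : C ⟶ C') [IsFinite f] [IsLocallyNoetherian C']
    (hreg : ∀ y : C', IsRegularLocalRing (C'.presheaf.stalk y))
    (hdim : ∀ y : C', ringKrullDim (C'.presheaf.stalk y) ≤ 1)
    (hass : ∀ x : C, Curv2.IsAssPoint (Coh.structureModule C) x →
      ringKrullDim (C'.presheaf.stalk (f.base x)) = 0) :
    FlatMod.IsFinLocFree ((Coh.push f).obj (Coh.structureModule C)) := by
  classical
  obtain ⟨hqO, hftO⟩ := Groth.Agent.Lib.QCoh.IsoLocus74.isCoh_structureModule C
  have : (Coh.structureModule C).IsQuasicoherent := hqO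
  have : (Coh.structureModule C).IsFiniteType := hftO
  have hq : ((Scheme.Modules.pushforward f).obj (Coh.structureModule C)).IsQuasicoherent :=
    Groth.Agent.Lib.QCoh.isQuasicoherent_pushforward_of_isAffineHom f _
  have hft : ((Scheme.Modules.pushforward f).obj (Coh.structureModule C)).IsFiniteType :=
    Groth.Agent.Lib.QCoh.isFiniteType_pushforward_of_isFinite f _
  have hfp := Groth.Agent.Lib.QCoh.isFinitePresentation_of_isLocallyNoetherian
    ((Scheme.Modules.pushforward f).obj (Coh.structureModule C))
  apply Groth.Agent.Lib.QCoh.isFinLocFree_of_isFlat_of_isFinitePresentation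
    ((Scheme.Modules.pushforward f).obj (Coh.structureModule C))
  intro y
  have := hreg y
  have hdom : IsDomain (C'.presheaf.stalk y) := Groth.Agent.S0558.result _
  have hpid : IsPrincipalIdealRing (C'.presheaf.stalk y) :=
    Groth.Agent.Lib.QCoh.TFDimOne74.isPrincipalIdealRing_of_isRegularLocalRing _ (hdim y)
  have hfin : Module.Finite (C'.presheaf.stalk y)
      (((Scheme.Modules.pushforward f).obj (Coh.structureModule C)).presheaf.stalk y) :=
    Groth.Agent.Lib.QCoh.finite_stalk _ y
  have htf : NoZeroSMulDivisors (C'.presheaf.stalk y)
      (((Scheme.Modules.pushforward f).obj (Coh.structureModule C)).presheaf.stalk y) := by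
    refine ⟨fun {c m} hcm => ?_⟩
    by_contra hcon
    push Not at hcon
    obtain ⟨hc, hm⟩ := hcon
    -- `y` is weakly associated to the pushforward
    have hweak : Curv2.IsWeakAssPoint
        ((Scheme.Modules.pushforward f).obj (Coh.structureModule C)) y := by
      refine ⟨m, ?_⟩
      set I : Ideal (C'.presheaf.stalk y) := LinearMap.ker (LinearMap.toSpanSingleton (C'.presheaf.stalk y)
        (((Scheme.Modules.pushforward f).obj (Coh.structureModule C)).presheaf.stalk y) m) with hI
      have hcI : c ∈ I := by
        rw [hI, LinearMap.mem_ker, LinearMap.toSpanSingleton_apply]; exact hcm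
      have hIne : I ≠ ⊤ := by
        intro htop
        have h1 : (1 : C'.presheaf.stalk y) ∈ I := htop ▸ Submodule.mem_top
        rw [hI, LinearMap.mem_ker, LinearMap.toSpanSingleton_apply, one_smul] at h1
        exact hm h1
      apply le_antisymm
      · have h1 : I ≤ IsLocalRing.maximalIdeal (C'.presheaf.stalk y) :=
          IsLocalRing.le_maximalIdeal hIne
        calc I.radical ≤ (IsLocalRing.maximalIdeal (C'.presheaf.stalk y)).radical :=
              Ideal.radical_mono h1
          _ = _ := (IsLocalRing.maximalIdeal.isMaximal _).isPrime.radical
      · rw [Ideal.radical_eq_sInf]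
        refine le_sInf ?_
        rintro p ⟨hIp, hp⟩
        have hpne : p ≠ ⊥ := by
          intro hbot
          exact hc ((Submodule.mem_bot _).1 (hbot ▸ hIp hcI))
        have hpmax : p.IsMaximal := hp.isMaximal hpne
        rw [IsLocalRing.eq_maximalIdeal hpmax]
    obtain ⟨x, hxy, hx⟩ := Groth.Agent.Lib.QCoh.exists_isWeakAssPoint_of_pushforward f
      (Coh.structureModule C) y hweak
    have h0 := hass x ((Groth.Agent.Lib.QCoh.isAssPoint_iff_isWeakAssPoint _ x).2 hx)
    have hxy' : f.base x = y := hxy
    rw [hxy'] at h0
    -- dimension zero domain is a field: `c` is a unit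
    have hfield : IsField (C'.presheaf.stalk y) := by
      have : Ring.KrullDimLE 0 (C'.presheaf.stalk y) := by
        rw [Ring.krullDimLE_iff, h0]; rfl
      exact Ring.KrullDimLE.isField_of_isDomain
    obtain ⟨d, hd⟩ := hfield.mul_inv_cancel hc
    apply hm
    calc m = (d * c) • m := by rw [mul_comm, hd, one_smul]
      _ = d • c • m := mul_smul _ _ _
      _ = 0 := by rw [hcm, smul_zero]
  have hfree : Module.Free (C'.presheaf.stalk y)
      (((Scheme.Modules.pushforward f).obj (Coh.structureModule C)).presheaf.stalk y) :=
    Module.free_of_finite_type_torsion_free'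
  exact inferInstanceAs (Module.Flat (C'.presheaf.stalk y)
    (((Scheme.Modules.pushforward f).obj (Coh.structureModule C)).presheaf.stalk y))

end Groth.Agent.S14415
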