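import Groth.Statements.S14416
-- import your own Groth.Agent.* helpers here
import Mathlib.RingTheory.LocalRing.Module
import Mathlib.RingTheory.Support
import Mathlib.LinearAlgebra.FiniteDimensional.Basic
import Mathlib.RingTheory.TensorProduct.Finite

set_option autoImplicit false
universe u
open scoped TensorProduct
open CAlg

namespace Groth.Agent.S14416

/-- Let B → A be a ring map with A a finitely generated B-module such that for every prime ideal p of B
the fibre κ(p) ⊗_B A has dimension at most one over the residue field κ(p). Then B → A is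
surjective. In scheme language: a finite morphism whose degree at every point of the target is 0 or
1 is a closed immersion. (The published statement assumes the two schemes Noetherian; that
hypothesis plays no role and is dropped here.) -/
theorem result
    (B A : Type u) [CommRing B] [CommRing A] [Algebra B A] [Module.Finite B A]
    (h : ∀ p : PrimeSpectrum B,
      Module.finrank p.asIdeal.ResidueField (p.asIdeal.ResidueField ⊗[B] A) ≤ 1) :
    Function.Surjective (algebraMap B A) := by
  classical
  -- the cokernel of `B → A` as a `B`-module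
  let N : Submodule B A := LinearMap.range (Algebra.linearMap B A)
  suffices hC : Subsingleton (A ⧸ N) by
    intro a
    have : N.mkQ a = 0 := Subsingleton.elim _ _
    rw [Submodule.mkQ_apply, Submodule.Quotient.mk_eq_zero] at this
    obtain ⟨b, hb⟩ := this
    exact ⟨b, hb⟩
  rw [← Module.support_eq_empty_iff (R := B)]
  rw [Set.eq_empty_iff_forall_notMem]
  intro p
  rw [Module.mem_support_iff_nontrivial_residueField_tensorProduct, not_nontrivial_iff_subsingleton]
  set κ := p.asIdeal.ResidueField with hκ
  -- every element of κ ⊗ A is a multiple of 1 ⊗ 1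
  have hspan : ∀ w : κ ⊗[B] A, ∃ c : κ, w = c • ((1 : κ) ⊗ₜ[B] (1 : A)) := by
    obtain ⟨v, hv⟩ := finrank_le_one_iff.mp (h p)
    obtain ⟨c₀, hc₀⟩ := hv ((1 : κ) ⊗ₜ[B] (1 : A))
    intro w
    by_cases h0 : c₀ = 0
    · -- the algebra is trivial
      have h1 : ((1 : κ) ⊗ₜ[B] (1 : A)) = 0 := by rw [← hc₀, h0, zero_smul]
      refine ⟨0, ?_⟩
      rw [zero_smul]
      have : w = w * 1 := (mul_one w).symm
      rw [this, Algebra.TensorProduct.one_def, h1, mul_zero]
    · obtain ⟨c, hc⟩ := hv w
      refine ⟨c * c₀⁻¹, ?_⟩
      rw [← hc, ← hc₀, smul_smul, mul_assoc, inv_mul_cancel₀ h0, mul_one]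
  refine ⟨fun x y => ?_⟩
  have hzero : ∀ x : κ ⊗[B] (A ⧸ N), x = 0 := by
    intro x
    obtain ⟨w, rfl⟩ := LinearMap.lTensor_surjective κ (Submodule.mkQ_surjective N) x
    obtain ⟨c, rfl⟩ := hspan w
    have h1 : N.mkQ (1 : A) = 0 := by
      rw [Submodule.mkQ_apply, Submodule.Quotient.mk_eq_zero]
      exact ⟨1, by simp⟩
    rw [TensorProduct.smul_tmul', LinearMap.lTensor_tmul, h1, TensorProduct.tmul_zero]
  rw [hzero x, hzero y]

end Groth.Agent.S14416
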