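import Groth.Statements.S14418
-- import your own Groth.Agent.* helpers here
import Mathlib.RingTheory.Ideal.AssociatedPrime.Finiteness
import Mathlib.RingTheory.Support
import Mathlib.RingTheory.Nakayama
import Mathlib.Algebra.Homology.ShortComplex.ModuleCat
import Mathlib.CategoryTheory.Limits.Preserves.Shapes.Zero

set_option autoImplicit false
universe u
open CategoryTheory
open CAlg

namespace Groth.Agent.S14418

open CategoryTheory

section
variable {B A : Type u} [CommRing B] [CommRing A] [IsNoetherianRing B]
  (T : ModuleCat.{u} B ⥤ ModuleCat.{u} A) [T.Additive]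

/-- dévissage: if `T` kills `B ⧸ q` for all `q` in the support of a finite module `N`, and `T` is
half exact on finite modules, then `T` kills `N`. -/
theorem devissage
    (hex : ∀ S : ShortComplex (ModuleCat.{u} B), S.ShortExact → Module.Finite B S.X₁ →
      Module.Finite B S.X₂ → Module.Finite B S.X₃ → (S.map T).Exact)
    (N : Type u) [AddCommGroup N] [Module B N] [hN : Module.Finite B N]
    (h : ∀ q ∈ Module.support B N, Limits.IsZero (T.obj (ModuleCat.of B (B ⧸ q.asIdeal)))) :
    Limits.IsZero (T.obj (ModuleCat.of B N)) := by
  induction hN using IsNoetherianRing.induction_on_isQuotientEquivQuotientPrime B with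
  | subsingleton N =>
    exact T.map_isZero (ModuleCat.isZero_of_subsingleton _)
  | quotient N p f =>
    have hp : p ∈ Module.support B N := by
      rw [f.support_eq, Module.mem_support_iff_of_finite, Ideal.annihilator_quotient]
    exact (h p hp).of_iso (T.mapIso f.toModuleIso)
  | exact N₁ N₂ N₃ f g hf hg hfg h₁ h₃ =>
    have hsupp := Module.support_of_exact hfg hf hg
    have z₁ := h₁ (fun q hq => h q (hsupp ▸ Or.inl hq))
    have z₃ := h₃ (fun q hq => h q (hsupp ▸ Or.inr hq))
    let S : ShortComplex (ModuleCat.{u} B) :=
      ModuleCat.shortComplexOfCompEqZero f g hfg.linearMap_comp_eq_zero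
    have hS : S.ShortExact := ModuleCat.shortComplex_shortExact S hfg hf hg
    have hTS := hex S hS (inferInstanceAs (Module.Finite B N₁)) (inferInstanceAs (Module.Finite B N₂))
      (inferInstanceAs (Module.Finite B N₃))
    exact hTS.isZero_X₂ (z₁.eq_of_src _ _) (z₃.eq_of_tgt _ _)

end

/-- Let B → A be a local homomorphism of Noetherian local rings, n the maximal ideal of B, and T an
additive functor from B-modules to A-modules which is B-linear (T applied to multiplication by b ∈ B
is multiplication by the image of b in A), carries finitely generated B-modules to finitely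
generated A-modules, and is half-exact on finitely generated modules (every short exact sequence of
finitely generated B-modules goes to a sequence exact at its middle term). If T(B/n) = 0 then T(N) =
0 for every finitely generated B-module N. (The published statement takes T defined on finitely
generated modules only; here T is defined on all B-modules while every hypothesis and the conclusion
concern finitely generated modules.) -/
theorem result {B A : Type u} [CommRing B] [CommRing A]
    [IsNoetherianRing B] [IsLocalRing B] [IsNoetherianRing A] [IsLocalRing A] [Algebra B A]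
    [IsLocalHom (algebraMap B A)] (T : ModuleCat.{u} B ⥤ ModuleCat.{u} A) [T.Additive]
    (hlin : ∀ (N : ModuleCat.{u} B) (b : B),
      T.map (ModuleCat.ofHom (b • (LinearMap.id : N →ₗ[B] N))) =
        ModuleCat.ofHom (algebraMap B A b • (LinearMap.id : T.obj N →ₗ[A] T.obj N)))
    (hfin : ∀ N : ModuleCat.{u} B, Module.Finite B N → Module.Finite A (T.obj N))
    (hex : ∀ S : ShortComplex (ModuleCat.{u} B), S.ShortExact → Module.Finite B S.X₁ →
      Module.Finite B S.X₂ → Module.Finite B S.X₃ → (S.map T).Exact)
    (h0 : Limits.IsZero (T.obj (ModuleCat.of B (B ⧸ IsLocalRing.maximalIdeal B))))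
    (N : ModuleCat.{u} B) [Module.Finite B N] : Limits.IsZero (T.obj N) := by
  classical
  -- Step 1: T kills B ⧸ p for every prime p, by Noetherian induction
  have hprime : ∀ I : Ideal B, ∀ p : PrimeSpectrum B, p.asIdeal = I →
      Limits.IsZero (T.obj (ModuleCat.of B (B ⧸ p.asIdeal))) := by
    intro I
    induction I using WellFoundedGT.induction with
    | ind I ih =>
    intro p hpI
    by_cases hpm : p.asIdeal = IsLocalRing.maximalIdeal B
    · rw [hpm]; exact h0
    · -- pick x ∈ m \ p
      have hlt : p.asIdeal < IsLocalRing.maximalIdeal B :=
        lt_of_le_of_ne (IsLocalRing.le_maximalIdeal p.2.ne_top) hpm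
      obtain ⟨x, hxm, hxp⟩ := Set.exists_of_ssubset hlt
      let N₂ := B ⧸ p.asIdeal
      let f : N₂ →ₗ[B] N₂ := x • LinearMap.id
      have hf : Function.Injective f := by
        rw [injective_iff_map_eq_zero]
        intro y hy
        obtain ⟨y, rfl⟩ := Ideal.Quotient.mk_surjective y
        have : Ideal.Quotient.mk p.asIdeal (x * y) = 0 := hy
        rw [Ideal.Quotient.eq_zero_iff_mem] at this ⊢
        exact (p.2.mem_or_mem this).resolve_left hxp
      let N₃ := N₂ ⧸ LinearMap.range f
      let g : N₂ →ₗ[B] N₃ := (LinearMap.range f).mkQ
      have hg : Function.Surjective g := Submodule.mkQ_surjective _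
      have hfg : Function.Exact f g := LinearMap.exact_map_mkQ_range f
      -- T kills N₃
      have hN₃ : Limits.IsZero (T.obj (ModuleCat.of B N₃)) := by
        apply devissage T hex N₃
        intro q hq
        have hq₂ : q ∈ Module.support B N₂ := Module.support_subset_of_surjective g hg hq
        rw [Module.mem_support_iff_of_finite, Ideal.annihilator_quotient] at hq₂
        have hpq : p.asIdeal ≤ q.asIdeal := hq₂
        have hxq : x ∈ q.asIdeal := by
          apply Module.annihilator_le_of_mem_support hq
          rw [Module.mem_annihilator]
          intro n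
          obtain ⟨n, rfl⟩ := hg n
          rw [← map_smul]
          exact (hfg _).mpr ⟨n, rfl⟩
        have hlt' : p.asIdeal < q.asIdeal :=
          lt_of_le_of_ne hpq (fun h => hxp (h ▸ hxq))
        exact ih q.asIdeal (hpI ▸ hlt') q rfl
      let S : ShortComplex (ModuleCat.{u} B) :=
        ModuleCat.shortComplexOfCompEqZero f g hfg.linearMap_comp_eq_zero
      have hS : S.ShortExact := ModuleCat.shortComplex_shortExact S hfg hf hg
      have hTS := hex S hS (inferInstanceAs (Module.Finite B N₂))
        (inferInstanceAs (Module.Finite B N₂)) (inferInstanceAs (Module.Finite B N₃))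
      have hepi : Epi (T.map (ModuleCat.ofHom f)) := hTS.epi_f (hN₃.eq_of_tgt _ _)
      rw [hlin (ModuleCat.of B N₂) x, ModuleCat.epi_iff_surjective] at hepi
      have hfinA : Module.Finite A (T.obj (ModuleCat.of B N₂)) :=
        hfin _ (inferInstanceAs (Module.Finite B N₂))
      rw [ModuleCat.isZero_iff_subsingleton]
      rw [← Submodule.subsingleton_iff A, ← subsingleton_iff_bot_eq_top, eq_comm]
      apply Submodule.eq_bot_of_le_smul_of_le_jacobson_bot (Ideal.span {algebraMap B A x}) ⊤
        Module.Finite.fg_top
      · intro y _
        obtain ⟨y', rfl⟩ := hepi y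
        simp only [ModuleCat.hom_ofHom, LinearMap.smul_apply, LinearMap.id_coe, id_eq]
        exact Submodule.smul_mem_smul (Ideal.subset_span rfl) Submodule.mem_top
      · rw [IsLocalRing.jacobson_eq_maximalIdeal ⊥ bot_ne_top, Ideal.span_singleton_le_iff_mem]
        exact map_nonunit (algebraMap B A) x hxm
  exact devissage T hex N (fun q _ => hprime q.asIdeal q rfl)

end Groth.Agent.S14418
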