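import Groth.Statements.S14421
-- import your own Groth.Agent.* helpers here
import Mathlib.Algebra.Homology.ShortComplex.ModuleCat

set_option autoImplicit false
universe u v
open CategoryTheory
open HomAlg

namespace Groth.Agent.S14421

/-- Let φ : K → J be a morphism of cochain complexes of modules over a ring which is surjective in
degree p − 1. Then the map induced on cohomology in degree p is surjective if and only if the map
induced on cocycles in degree p is surjective. (Stated for cochain complexes indexed by the
integers; the published statement is for three-term complexes in degrees p − 1, p, p + 1, which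
embed as such complexes.) -/
theorem result {R : Type u} [Ring R]
    (K J : CochainComplex (ModuleCat.{v} R) ℤ) (φ : K ⟶ J) (p : ℤ) [Epi (φ.f (p - 1))] :
    Epi (HomologicalComplex.homologyMap φ p) ↔ Epi (HomologicalComplex.cyclesMap φ p) := by
  have hprev : (ComplexShape.up ℤ).prev p = p - 1 := by simp
  -- naturality of toCycles
  have hnat : K.toCycles (p - 1) p ≫ HomologicalComplex.cyclesMap φ p =
      φ.f (p - 1) ≫ J.toCycles (p - 1) p := by
    rw [← cancel_mono (J.iCycles p)]
    simp
  -- exactness of X(p-1) → cycles p → homology p for J
  have hexJ : (ShortComplex.mk (J.toCycles (p - 1) p) (J.homologyπ p)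
      (J.toCycles_comp_homologyπ (p - 1) p)).Exact :=
    ShortComplex.exact_of_g_is_cokernel _ (J.homologyIsCokernel (p - 1) p hprev)
  constructor
  · intro hH
    rw [ModuleCat.epi_iff_surjective] at hH ⊢
    have hφ : Function.Surjective (φ.f (p - 1)) := (ModuleCat.epi_iff_surjective _).mp inferInstance
    have hπK : Function.Surjective (K.homologyπ p) := (ModuleCat.epi_iff_surjective _).mp inferInstance
    intro z
    obtain ⟨h', hh'⟩ := hH (J.homologyπ p z)
    obtain ⟨z', rfl⟩ := hπK h'
    have h1 : J.homologyπ p (z - HomologicalComplex.cyclesMap φ p z') = 0 := by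
      rw [map_sub, ← hh', sub_eq_zero]
      have := congrArg (fun f => f.hom z') (HomologicalComplex.homologyπ_naturality φ p)
      simp only [ModuleCat.hom_comp, LinearMap.coe_comp, Function.comp_apply] at this
      exact this
    obtain ⟨w, hw⟩ := (ShortComplex.moduleCat_exact_iff _).mp hexJ _ h1
    obtain ⟨w', rfl⟩ := hφ w
    refine ⟨z' + K.toCycles (p - 1) p w', ?_⟩
    rw [map_add]
    have h2 : HomologicalComplex.cyclesMap φ p (K.toCycles (p - 1) p w') =
        J.toCycles (p - 1) p (φ.f (p - 1) w') := by
      have := congrArg (fun f => f.hom w') hnat
      simp only [ModuleCat.hom_comp, LinearMap.coe_comp, Function.comp_apply] at this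
      exact this
    rw [h2]
    change _ + J.toCycles (p - 1) p (φ.f (p - 1) w') = z
    have hw' : J.toCycles (p - 1) p (φ.f (p - 1) w') = z - HomologicalComplex.cyclesMap φ p z' := hw
    rw [hw']; abel
  · intro hZ
    have h1 : Epi (K.homologyπ p ≫ HomologicalComplex.homologyMap φ p) := by
      rw [HomologicalComplex.homologyπ_naturality]
      infer_instance
    exact epi_of_epi (K.homologyπ p) _

end Groth.Agent.S14421
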