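import Groth.Statements.S14423
import Mathlib
import Groth.Agent.Lib.Helper10.TorAux
-- import your own Groth.Agent.* helpers here

set_option autoImplicit false
universe u
open CategoryTheory
open CAlg

namespace Groth.Agent.S14423

open MvPolynomial DirectSum TensorProduct
open Groth.Agent.Lib.Helper46.TorShift (T)


section graded
variable {k : Type*} [CommRing k] {σ : Type*} {M : Type*} [AddCommGroup M]
  [Module (MvPolynomial σ k) M] (ℳ : ℕ → AddSubgroup M)
  [SetLike.GradedSMul (MvPolynomial.homogeneousSubmodule σ k) ℳ]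
  [DirectSum.Decomposition ℳ]

theorem comp_smul_mem (N : AddSubgroup M) (a : MvPolynomial σ k) (e d : ℕ) (m : M)
    (hm : m ∈ ℳ e) (h : ∀ j, j + e = d → homogeneousComponent j a • m ∈ N) :
    (decompose ℳ (a • m) d : M) ∈ N := by
  have ha : a • m = ∑ j ∈ Finset.range (a.totalDegree + 1), homogeneousComponent j a • m := by
    rw [← Finset.sum_smul, sum_homogeneousComponent]
  rw [ha, decompose_sum, DFinsupp.finset_sum_apply, AddSubmonoidClass.coe_finsetSum]
  refine AddSubgroup.sum_mem _ fun j _ => ?_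
  have hmem : homogeneousComponent j a • m ∈ ℳ (j + e) :=
    SetLike.GradedSMul.smul_mem (homogeneousComponent_mem j a) hm
  by_cases hje : j + e = d
  · subst hje
    rw [decompose_of_mem_same ℳ hmem]
    exact h j rfl
  · rw [decompose_of_mem_ne ℳ hmem hje]
    exact N.zero_mem

open Classical in
theorem span_graded {ι : Type*} (m : ι → M) (deg : ι → ℕ) (hm : ∀ i, m i ∈ ℳ (deg i)) (x : M)
    (hx : x ∈ Submodule.span (MvPolynomial σ k) (Set.range m)) (d : ℕ) :
    (decompose ℳ x d : M) ∈ Submodule.span (MvPolynomial σ k) (Set.range m) := by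
  induction hx using Submodule.span_induction generalizing d with
  | mem x hx =>
    obtain ⟨i, rfl⟩ := hx
    by_cases hd : deg i = d
    · subst hd
      rw [decompose_of_mem_same ℳ (hm i)]
      exact Submodule.subset_span ⟨i, rfl⟩
    · rw [decompose_of_mem_ne ℳ (hm i) hd]
      exact Submodule.zero_mem _
  | zero =>
    rw [decompose_zero, DirectSum.zero_apply, ZeroMemClass.coe_zero]
    exact Submodule.zero_mem _
  | add x y _ _ hx hy =>
    rw [decompose_add, DirectSum.add_apply, AddMemClass.coe_add]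
    exact Submodule.add_mem _ (hx d) (hy d)
  | smul a x _ IH =>
    have hax : a • x = ∑ e ∈ (decompose ℳ x).support, a • (decompose ℳ x e : M) := by
      rw [← Finset.smul_sum, sum_support_decompose]
    rw [hax, decompose_sum, DFinsupp.finset_sum_apply, AddSubmonoidClass.coe_finsetSum]
    refine Submodule.sum_mem _ fun e _ => ?_
    exact comp_smul_mem ℳ (Submodule.span (MvPolynomial σ k) (Set.range m)).toAddSubgroup a e d _
      (decompose ℳ x e).2 (fun j _ => Submodule.smul_mem _ _ (IH e))

open Classical in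
theorem graded_nakayama (N : Submodule (MvPolynomial σ k) M)
    (hN : ∀ x ∈ N, ∀ d, (decompose ℳ x d : M) ∈ N)
    (h : N ⊔ (RingHom.ker (constantCoeff : MvPolynomial σ k →+* k)) •
      (⊤ : Submodule (MvPolynomial σ k) M) = ⊤) : N = ⊤ := by
  have key : ∀ d, ∀ x ∈ ℳ d, x ∈ N := by
    intro d
    induction d using Nat.strong_induction_on with
    | _ d IH =>
      intro x hx
      have hw : ∀ w ∈ (RingHom.ker (constantCoeff : MvPolynomial σ k →+* k)) •
          (⊤ : Submodule (MvPolynomial σ k) M), (decompose ℳ w d : M) ∈ N := by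
        intro w hw
        refine Submodule.smul_induction_on hw ?_ ?_
        · intro a ha z _
          have haz : a • z = ∑ e ∈ (decompose ℳ z).support, a • (decompose ℳ z e : M) := by
            rw [← Finset.smul_sum, sum_support_decompose]
          rw [haz, decompose_sum, DFinsupp.finset_sum_apply, AddSubmonoidClass.coe_finsetSum]
          refine Submodule.sum_mem _ fun e _ => ?_
          refine comp_smul_mem ℳ N.toAddSubgroup a e d _ (decompose ℳ z e).2 (fun j hj => ?_)
          rcases Nat.eq_zero_or_pos j with rfl | hjpos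
          · have : homogeneousComponent 0 a = 0 := by
              rw [homogeneousComponent_zero]
              have : coeff 0 a = 0 := by
                have := (RingHom.mem_ker).1 ha
                rwa [constantCoeff_eq] at this
              rw [this, map_zero]
            rw [this, zero_smul]
            exact N.zero_mem
          · exact Submodule.smul_mem _ _ (IH e (by omega) _ (decompose ℳ z e).2)
        · intro w w' h1 h2
          rw [decompose_add, DirectSum.add_apply, AddMemClass.coe_add]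
          exact N.add_mem h1 h2
      have hx' : x ∈ N ⊔ (RingHom.ker (constantCoeff : MvPolynomial σ k →+* k)) •
          (⊤ : Submodule (MvPolynomial σ k) M) := by rw [h]; trivial
      obtain ⟨y, hy, w, hw', rfl⟩ := Submodule.mem_sup.1 hx'
      have e1 : (decompose ℳ (y + w) d : M) = y + w := decompose_of_mem_same ℳ hx
      rw [← e1, decompose_add, DirectSum.add_apply, AddMemClass.coe_add]
      exact N.add_mem (hN y hy d) (hw w hw')
  rw [eq_top_iff]
  rintro x -
  rw [← sum_support_decompose ℳ x]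
  exact Submodule.sum_mem _ fun e _ => key e _ (decompose ℳ x e).2

end graded



section
variable {S : Type u} [CommRing S] (𝔪 : Ideal S) {M : Type u} [AddCommGroup M] [Module S M]

theorem one_tmul_eq_zero_iff (y : M) :
    ((1 : S ⧸ 𝔪) ⊗ₜ[S] y = 0) ↔ y ∈ 𝔪 • (⊤ : Submodule S M) := by
  rw [← (TensorProduct.quotTensorEquivQuotSMul M 𝔪).map_eq_zero_iff,
    TensorProduct.quotTensorEquivQuotSMul_mk_one_tmul, Submodule.Quotient.mk_eq_zero]

theorem one_tmul_smul (a : S) (y : M) :
    (1 : S ⧸ 𝔪) ⊗ₜ[S] (a • y) = (Ideal.Quotient.mk 𝔪 a) • ((1 : S ⧸ 𝔪) ⊗ₜ[S] y) := by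
  rw [TensorProduct.smul_tmul', smul_eq_mul, mul_one, ← TensorProduct.smul_tmul]
  congr 1
  rw [Algebra.smul_def, mul_one]
  rfl

/-- choose a basis of `M/𝔪M` made of classes of elements of a given spanning family -/
theorem exists_basis_of_span [𝔪.IsMaximal] [Module.Finite S M] (s : Set M)
    (hs : Submodule.span S s = ⊤) :
    ∃ (ι : Type u) (_ : Fintype ι) (m : ι → M), (∀ i, m i ∈ s) ∧
      (Submodule.span S (Set.range m) ⊔ 𝔪 • (⊤ : Submodule S M) = ⊤) ∧
      (∀ a : ι → S, ∑ i, a i • m i ∈ 𝔪 • (⊤ : Submodule S M) → ∀ i, a i ∈ 𝔪) := by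
  letI := Ideal.Quotient.field 𝔪
  let V := (S ⧸ 𝔪) ⊗[S] M
  let s' : Set V := (fun x => (1 : S ⧸ 𝔪) ⊗ₜ[S] x) '' s
  have key : ∀ x ∈ Submodule.span S s, (1 : S ⧸ 𝔪) ⊗ₜ[S] x ∈ Submodule.span (S ⧸ 𝔪) s' := by
    intro x hx
    induction hx using Submodule.span_induction with
    | mem x hx => exact Submodule.subset_span ⟨x, hx, rfl⟩
    | zero => rw [TensorProduct.tmul_zero]; exact Submodule.zero_mem _
    | add x y _ _ hx hy => rw [TensorProduct.tmul_add]; exact Submodule.add_mem _ hx hy
    | smul a x _ hx => rw [one_tmul_smul]; exact Submodule.smul_mem _ _ hx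
  have hs' : ⊤ ≤ Submodule.span (S ⧸ 𝔪) s' := by
    rintro v -
    induction v using TensorProduct.induction_on with
    | zero => exact Submodule.zero_mem _
    | add x y hx hy => exact Submodule.add_mem _ hx hy
    | tmul c x =>
      have hx : x ∈ Submodule.span S s := by rw [hs]; trivial
      have : c ⊗ₜ[S] x = c • ((1 : S ⧸ 𝔪) ⊗ₜ[S] x) := by
        rw [TensorProduct.smul_tmul', smul_eq_mul, mul_one]
      rw [this]
      exact Submodule.smul_mem _ _ (key x hx)
  let b := Module.Basis.ofSpan hs'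
  haveI : Module.Finite (S ⧸ 𝔪) V := inferInstance
  haveI : Finite ((linearIndepOn_empty (S ⧸ 𝔪) id).extend (Set.empty_subset s')) :=
    Module.Finite.finite_basis b
  have hb : ∀ i, ∃ x ∈ s, b i = (1 : S ⧸ 𝔪) ⊗ₜ[S] x := by
    intro i
    obtain ⟨x, hx, hxi⟩ := Module.Basis.ofSpan_subset hs' ⟨i, rfl⟩
    exact ⟨x, hx, hxi.symm⟩
  choose m hm hbm using hb
  refine ⟨_, Fintype.ofFinite _, m, hm, ?_, ?_⟩
  · rw [eq_top_iff]
    rintro x -
    -- expand `1 ⊗ x` in the basis
    have h1 := b.sum_repr ((1 : S ⧸ 𝔪) ⊗ₜ[S] x)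
    choose a ha using fun i => Ideal.Quotient.mk_surjective (I := 𝔪) (b.repr ((1 : S ⧸ 𝔪) ⊗ₜ[S] x) i)
    have h2 : (1 : S ⧸ 𝔪) ⊗ₜ[S] (x - ∑ i, a i • m i) = 0 := by
      rw [TensorProduct.tmul_sub, TensorProduct.tmul_sum, sub_eq_zero, ← h1]
      refine Finset.sum_congr rfl fun i _ => ?_
      rw [one_tmul_smul, ha, hbm]
    have h3 := (one_tmul_eq_zero_iff 𝔪 _).1 h2
    have h4 : x = ∑ i, a i • m i + (x - ∑ i, a i • m i) := by abel
    rw [h4]
    refine Submodule.add_mem_sup (Submodule.sum_mem _ fun i _ => ?_) h3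
    exact Submodule.smul_mem _ _ (Submodule.subset_span ⟨i, rfl⟩)
  · intro a ha i
    have h2 := (one_tmul_eq_zero_iff 𝔪 _).2 ha
    rw [TensorProduct.tmul_sum] at h2
    have h3 : ∑ i, (Ideal.Quotient.mk 𝔪 (a i)) • b i = 0 := by
      rw [← h2]
      refine Finset.sum_congr rfl fun i _ => ?_
      rw [one_tmul_smul, hbm]
    have h4 := Fintype.linearIndependent_iff.1 b.linearIndependent _ h3 i
    exact Ideal.Quotient.eq_zero_iff_mem.1 h4

end



theorem basis_of_tor {S : Type u} [CommRing S] [IsDomain S] [IsNoetherianRing S] (𝔪 : Ideal S)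
    (h𝔪 : 𝔪 ≠ ⊤) {M : Type u} [AddCommGroup M] [Module S M] {ι : Type u} [Fintype ι]
    (m : ι → M) (hspan : Submodule.span S (Set.range m) = ⊤)
    (hind : ∀ a : ι → S, ∑ i, a i • m i ∈ 𝔪 • (⊤ : Submodule S M) → ∀ i, a i ∈ 𝔪)
    (hz : Limits.IsZero (T S 1 M (S ⧸ 𝔪))) : LinearIndependent S m := by
  classical
  let π : (ι → S) →ₗ[S] M := Fintype.linearCombination S m
  have hπ : Function.Surjective π := by
    rw [← LinearMap.range_eq_top, Fintype.range_linearCombination, hspan]
  let K := LinearMap.ker π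
  have hinj := Groth.Agent.Lib.Helper10.TorAux.injective_rTensor_of_isZero_tor_one
    K.subtype π (Submodule.injective_subtype _) (LinearMap.exact_subtype_ker_map π) hπ hz
  have hK𝔪 : ∀ x : K, ∀ i, x.1 i ∈ 𝔪 := by
    intro x i
    apply hind x.1
    have : π x.1 = 0 := x.2
    change π x.1 ∈ _
    rw [this]
    exact Submodule.zero_mem _
  have hzero : ∀ w, K.subtype.rTensor (S ⧸ 𝔪) w = 0 := by
    intro w
    induction w using TensorProduct.induction_on with
    | zero => rw [map_zero]
    | add x y hx hy => rw [map_add, hx, hy, add_zero]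
    | tmul x c =>
      rw [LinearMap.rTensor_tmul]
      change x.1 ⊗ₜ[S] c = 0
      have hx : x.1 = ∑ i, x.1 i • (Pi.single i (1 : S) : ι → S) := by
        ext j
        simp [Finset.sum_apply, Pi.single_apply]
      rw [hx, TensorProduct.sum_tmul]
      refine Finset.sum_eq_zero fun i _ => ?_
      rw [TensorProduct.smul_tmul]
      have : x.1 i • c = 0 := by
        obtain ⟨c, rfl⟩ := Ideal.Quotient.mk_surjective c
        rw [Algebra.smul_def]
        change Ideal.Quotient.mk 𝔪 (x.1 i) * _ = 0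
        rw [Ideal.Quotient.eq_zero_iff_mem.2 (hK𝔪 x i), zero_mul]
      rw [this, TensorProduct.tmul_zero]
  haveI : Subsingleton (K ⊗[S] (S ⧸ 𝔪)) :=
    ⟨fun w w' => hinj (by rw [hzero, hzero])⟩
  haveI : Subsingleton (K ⧸ (𝔪 • (⊤ : Submodule S K))) :=
    (TensorProduct.tensorQuotEquivQuotSMul K 𝔪).symm.toEquiv.subsingleton
  have htop : 𝔪 • (⊤ : Submodule S K) = ⊤ := Submodule.Quotient.subsingleton_iff.1 ‹_›
  obtain ⟨r, hr1, hr⟩ := Submodule.exists_sub_one_mem_and_smul_eq_zero_of_fg_of_le_smul 𝔪
    (⊤ : Submodule S K) (Module.Finite.fg_top) (by rw [htop])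
  have hr0 : r ≠ 0 := by
    rintro rfl
    apply h𝔪
    rw [Ideal.eq_top_iff_one]
    have : (1 : S) = -(0 - 1) := by ring
    rw [this]
    exact 𝔪.neg_mem hr1
  rw [Fintype.linearIndependent_iff]
  intro g hg i
  have hgK : g ∈ K := hg
  have h0 := hr ⟨g, hgK⟩ trivial
  have h1 : r • g = 0 := congrArg Subtype.val h0
  have h2 : r * g i = 0 := congrFun h1 i
  exact (mul_eq_zero.1 h2).resolve_left hr0


theorem result' (k : Type u) [Field k] (n : ℕ)
    (M : Type u) [AddCommGroup M] [Module (MvPolynomial (Fin (n + 1)) k) M]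
    [Module.Finite (MvPolynomial (Fin (n + 1)) k) M]
    (ℳ : ℕ → AddSubgroup M)
    [SetLike.GradedSMul (MvPolynomial.homogeneousSubmodule (Fin (n + 1)) k) ℳ]
    [DirectSum.Decomposition ℳ]
    (h : Limits.IsZero (T (MvPolynomial (Fin (n + 1)) k) 1 M
        (MvPolynomial (Fin (n + 1)) k ⧸
          RingHom.ker (MvPolynomial.constantCoeff : MvPolynomial (Fin (n + 1)) k →+* k)))) :
    ∃ (ι : Type u) (b : Module.Basis ι (MvPolynomial (Fin (n + 1)) k) M),
      ∀ i, SetLike.IsHomogeneousElem ℳ (b i) := by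
  classical
  set 𝔪 : Ideal (MvPolynomial (Fin (n + 1)) k) :=
    RingHom.ker (MvPolynomial.constantCoeff : MvPolynomial (Fin (n + 1)) k →+* k) with h𝔪
  haveI : 𝔪.IsMaximal := RingHom.ker_isMaximal_of_surjective _
    (fun c => ⟨MvPolynomial.C c, MvPolynomial.constantCoeff_C _ c⟩)
  let s : Set M := {x | ∃ d, x ∈ ℳ d}
  have hs : Submodule.span (MvPolynomial (Fin (n + 1)) k) s = ⊤ := by
    rw [eq_top_iff]
    rintro x -
    rw [← sum_support_decompose ℳ x]
    exact Submodule.sum_mem _ fun e _ => Submodule.subset_span ⟨e, (decompose ℳ x e).2⟩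
  obtain ⟨ι, _, m, hm, hsup, hind⟩ := exists_basis_of_span 𝔪 s hs
  choose deg hdeg using hm
  have hN := fun x hx d => span_graded (k := k) (σ := Fin (n + 1)) ℳ m deg hdeg x hx d
  have htop := graded_nakayama (k := k) (σ := Fin (n + 1)) ℳ _ hN hsup
  have hli := basis_of_tor 𝔪 (Ideal.IsMaximal.ne_top ‹_›) m htop hind h
  refine ⟨ι, Module.Basis.mk hli htop.ge, fun i => ⟨deg i, ?_⟩⟩
  rw [Module.Basis.mk_apply]
  exact hdeg i

/-- Graded freeness criterion: let k be a field, S = k[x_0, …, x_n] with its standard grading by degree,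
and M a finitely generated graded S-module. If Tor_1^S(M, k) = 0, where k = S/S_+ (S modulo the
ideal of polynomials with zero constant term) and Tor_1^S(M, ·) is the first left derived functor of
M ⊗_S ·, then M is free with a basis of homogeneous elements, i.e. M is isomorphic as a graded
module to a finite direct sum of shifted copies S(−d_i). (Here the module is graded in non-negative
degrees; the published statement allows any integer degrees.) -/
theorem result (k : Type u) [Field k] (n : ℕ)
    (M : Type u) [AddCommGroup M] [Module (MvPolynomial (Fin (n + 1)) k) M]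
    [Module.Finite (MvPolynomial (Fin (n + 1)) k) M]
    (ℳ : ℕ → AddSubgroup M)
    [SetLike.GradedSMul (MvPolynomial.homogeneousSubmodule (Fin (n + 1)) k) ℳ]
    [DirectSum.Decomposition ℳ]
    (h : Limits.IsZero (((Tor (ModuleCat.{u} (MvPolynomial (Fin (n + 1)) k)) 1).obj
      (ModuleCat.of (MvPolynomial (Fin (n + 1)) k) M)).obj
      (ModuleCat.of (MvPolynomial (Fin (n + 1)) k)
        (MvPolynomial (Fin (n + 1)) k ⧸
          RingHom.ker (MvPolynomial.constantCoeff : MvPolynomial (Fin (n + 1)) k →+* k))))) :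
    ∃ (ι : Type u) (b : Module.Basis ι (MvPolynomial (Fin (n + 1)) k) M),
      ∀ i, SetLike.IsHomogeneousElem ℳ (b i) :=
  result' k n M ℳ h

end Groth.Agent.S14423
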