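import Groth.Statements.S14425
import Groth.Agent.Lib.Helper29.DepthGen

set_option autoImplicit false
universe u
open LocCoh

namespace Groth.Agent.S14425

/-- Let (R, m) be a Noetherian local ring, M a nonzero finitely generated R-module and x_1, …, x_n
elements of m generating the ideal a. Then depth(a, M) = n if and only if x_1, …, x_n is an
M-regular sequence (each x_i a non-zero-divisor on M/(x_1, …, x_{i-1})M; the condition (x)M ≠ M is
automatic here). -/
theorem result {R : Type u} [CommRing R] [IsNoetherianRing R] [IsLocalRing R]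
    {M : Type u} [AddCommGroup M] [Module R M] [Module.Finite R M] [Nontrivial M]
    (xs : List R) (hxs : ∀ x ∈ xs, x ∈ IsLocalRing.maximalIdeal R) :
    LocCoh.idealDepth (Ideal.span {x | x ∈ xs}) M = xs.length ↔ RingTheory.Sequence.IsWeaklyRegular M xs := by
  have hIeq : Ideal.span {x | x ∈ xs} = Ideal.ofList xs := rfl
  rw [hIeq]
  have hI : Ideal.ofList xs ≤ IsLocalRing.maximalIdeal R := by
    rw [Ideal.ofList, Ideal.span_le]
    exact fun r hr => hxs r hr
  have hIM := Groth.Agent.Lib.Helper29.DepthGen.smul_top_ne_top_of_le _ hI M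
  constructor
  · intro h
    exact Groth.Agent.Lib.Helper29.DepthGen.isWeaklyRegular_of_length_le_idealDepth M xs hxs
      (le_of_eq h.symm)
  · intro hreg
    have hnt := Groth.Agent.Lib.Helper29.DepthGen.nontrivial_quotient_ofList M xs hxs
    have h2 := Groth.Agent.Lib.Helper29.CMRing.idealDepth_quotient_ofList_add_length
      (Ideal.ofList xs) xs M hIM hreg (fun r hr => Ideal.subset_span hr)
    have hIM' := Groth.Agent.Lib.Helper29.DepthGen.smul_top_ne_top_of_le _ hI
      (M ⧸ (Ideal.ofList xs • (⊤ : Submodule R M)))
    have h0 : LocCoh.idealDepth (Ideal.ofList xs)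
        (M ⧸ (Ideal.ofList xs • (⊤ : Submodule R M))) = 0 := by
      rw [Groth.Agent.Lib.Helper29.DepthFinite.idealDepth_eq_zero_iff_forall_not_isSMulRegular _ _
        hIM']
      intro x hx hreg'
      obtain ⟨a, b, hab⟩ := hnt
      apply hab
      apply hreg'
      have hk : ∀ m : M ⧸ (Ideal.ofList xs • (⊤ : Submodule R M)), x • m = 0 := by
        intro m
        obtain ⟨m, rfl⟩ := Submodule.mkQ_surjective _ m
        change x • Submodule.Quotient.mk m = 0
        rw [← Submodule.Quotient.mk_smul, Submodule.Quotient.mk_eq_zero]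
        exact Submodule.smul_mem_smul hx Submodule.mem_top
      change x • a = x • b
      rw [hk, hk]
    rw [← h2, h0, zero_add]

end Groth.Agent.S14425
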