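import Groth.Statements.S14426
import Mathlib
import Groth.Agent.Lib.Helper33.KoszulDepth
import Groth.Agent.S2423

set_option autoImplicit false
universe u
open Koszul3

namespace Groth.Agent.S14426

open CategoryTheory CategoryTheory.Limits in
/-- Let (R, m) be a Noetherian local ring, M a nonzero finitely generated R-module and x_1, …, x_n
elements of m generating the ideal a. Then depth(a, M) ≤ n; the Koszul cohomology H^p(x; M) vanishes
for every p < depth(a, M); and H^r(x; M) is nonzero for r = depth(a, M). (Cohomological indexing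
with H^n(x; M) = M/(x)M; in homological indexing this reads H_i = 0 for i > n − r and H_{n−r} ≠ 0.
Koszul complex realised by iterated mapping cones, as in the prelude.) -/
theorem result {R : Type u} [CommRing R] [IsNoetherianRing R] [IsLocalRing R]
    (M : Type u) [AddCommGroup M] [Module R M] [Module.Finite R M] [Nontrivial M]
    (xs : List R) (hxs : ∀ x ∈ xs, x ∈ IsLocalRing.maximalIdeal R) :
    LocCoh.idealDepth (Ideal.span {x | x ∈ xs}) M ≤ xs.length ∧
      (∀ p : ℕ, (p : ℕ∞) < LocCoh.idealDepth (Ideal.span {x | x ∈ xs}) M → IsZero (CohIII.koszulH xs (ModuleCat.of R M) p)) ∧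
      (∀ r : ℕ, LocCoh.idealDepth (Ideal.span {x | x ∈ xs}) M = r → ¬ IsZero (CohIII.koszulH xs (ModuleCat.of R M) r)) := by
  open Groth.Agent.Lib.Helper33.KoszulDepth Groth.Agent.Lib.Helper94.KoszulReg in
  classical
  set a := Ideal.span {x | x ∈ xs} with ha
  have hale : a ≤ IsLocalRing.maximalIdeal R := by
    rw [ha, Ideal.span_le]
    intro x hx
    exact hxs x hx
  have haM : a • (⊤ : Submodule R M) ≠ ⊤ := by
    intro h
    apply Groth.Agent.Lib.Helper29.maximalIdeal_smul_top_ne_top R M
    have h2 : a • (⊤ : Submodule R M) ≤ IsLocalRing.maximalIdeal R • (⊤ : Submodule R M) :=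
      Submodule.smul_mono_left hale
    rw [h] at h2
    exact top_le_iff.mp h2
  have hne := Groth.Agent.Lib.Helper29.DepthLib.idealDepth_ne_top a M haM
  obtain ⟨r, hr⟩ := ENat.ne_top_iff_exists.1 hne
  have hKeq := Groth.Agent.S2423.koszulCx_eq (ModuleCat.of R M) xs
  have key : ∀ (K : CochainComplex (ModuleCat.{u} R) ℤ),
      K = kz (sg R (ModuleCat.of R M)) xs →
      (∀ p : ℕ, (p : ℕ∞) < LocCoh.idealDepth a M → IsZero (K.homology ((p : ℤ) - xs.length))) ∧
      (∀ r : ℕ, LocCoh.idealDepth a M = r → ¬ IsZero (K.homology ((r : ℤ) - xs.length))) ∧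
      (∀ r : ℕ, xs.length < r → IsZero (K.homology ((r : ℤ) - xs.length))) := by
    rintro K rfl
    refine ⟨?_, ?_, ?_⟩
    · intro p hp
      refine isZero_homology_of_lt_depth xs (p + 1) M haM ?_ _ (by push_cast; omega)
      push_cast
      exact Order.add_one_le_of_lt hp
    · intro r hr
      exact not_isZero_homology_depth xs r M haM hr
    · intro r hlt
      exact isZero_homology_of_lt _ xs _ (Or.inr (by omega))
  obtain ⟨hV, hN, hT⟩ := key _ hKeq
  refine ⟨?_, hV, hN⟩
  rw [← hr]
  by_contra hlt
  push Not at hlt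
  have hlt' : xs.length < r := by exact_mod_cast hlt
  exact hN r hr.symm (hT r hlt')

end Groth.Agent.S14426
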