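import Groth.Statements.S14427
-- import your own Groth.Agent.* helpers here
import Groth.Agent.Lib.Helper72.PlanePoints

set_option autoImplicit false
universe u
open CAlgX

namespace Groth.Agent.S14427

open Groth.Agent.Lib.Helper72.PlanePoints

/-- linear independence of a pair gives a separating functional. -/
theorem exists_sep (k : Type u) [Field k] {v w : Fin 3 → k} (h : LinearIndependent k ![v, w]) :
    ∃ ℓ : (Fin 3 → k) →ₗ[k] k, ℓ v ≠ 0 ∧ ℓ w = 0 := by
  have hnotin : v ∉ Submodule.span k {w} := by
    intro hv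
    obtain ⟨c, hc⟩ := Submodule.mem_span_singleton.mp hv
    have := (LinearIndependent.pair_iff.mp h) 1 (-c) (by rw [one_smul, neg_smul, hc, add_neg_cancel])
    exact one_ne_zero this.1
  obtain ⟨f, hfv, hf⟩ := Submodule.exists_le_ker_of_notMem hnotin
  exact ⟨f, hfv, hf (Submodule.mem_span_singleton_self w)⟩

/-- Let k be a field and Λ a set of n ≥ 3 nonzero vectors of k^3 which are pairwise linearly
independent, i.e. n distinct k-rational points of the projective plane. Then the space of
homogeneous forms of degree n − 1 in k[x_0, x_1, x_2] vanishing at every point of Λ — the global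
sections of I_Λ(n − 1) — has dimension C(n+1, 2) − n over k, the same for all such Λ. (The published
statement is over an algebraically closed field; this row allows any field and k-rational points,
which is all its argument uses.) -/
theorem result (k : Type u) [Field k] (n : ℕ) (hn : 3 ≤ n)
    (Λ : Finset (Fin 3 → k)) (hcard : Λ.card = n) (h0 : ∀ v ∈ Λ, v ≠ 0)
    (hdist : ∀ v ∈ Λ, ∀ w ∈ Λ, v ≠ w → LinearIndependent k ![v, w]) :
    Module.finrank k ↥(MvPolynomial.homogeneousSubmodule (Fin 3) k (n - 1) ⊓ ⨅ v ∈ Λ, LinearMap.ker (MvPolynomial.aeval v).toLinearMap) = Nat.choose (n + 1) 2 - n := by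
  classical
  have hsurj : Function.Surjective (evalMap (n - 1) Λ) := by
    apply evalMap_surjective
    intro v hv
    have hex : ∀ w ∈ Λ.erase v, ∃ ℓ : (Fin 3 → k) →ₗ[k] k, ℓ v ≠ 0 ∧ ℓ w = 0 := by
      intro w hw
      have hne : v ≠ w := (Finset.ne_of_mem_erase hw).symm
      exact exists_sep k (hdist v hv w (Finset.mem_of_mem_erase hw) hne)
    choose! ℓ hℓ1 hℓ2 using hex
    refine ⟨∏ w ∈ Λ.erase v, linPoly (ℓ w), ?_, ?_, ?_⟩
    · have := isHomogeneous_prod_linPoly (Λ.erase v) ℓ
      rwa [Finset.card_erase_of_mem hv, hcard] at this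
    · rw [aeval_prod_linPoly]
      exact Finset.prod_ne_zero_iff.mpr (fun w hw => hℓ1 w hw)
    · intro w hw hwv
      rw [aeval_prod_linPoly]
      exact Finset.prod_eq_zero (Finset.mem_erase.mpr ⟨hwv, hw⟩)
        (hℓ2 w (Finset.mem_erase.mpr ⟨hwv, hw⟩))
  have h1 := LinearMap.finrank_range_add_finrank_ker (evalMap (n - 1) Λ)
  rw [LinearMap.range_eq_top.mpr hsurj, finrank_top, Module.finrank_fintype_fun_eq_card,
    Fintype.card_coe, hcard, finrank_homogeneousSubmodule] at h1
  change Module.finrank k (vanishing (n - 1) Λ) = _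
  rw [finrank_vanishing]
  have h2 : (3 + (n - 1) - 1).choose (n - 1) = (n + 1).choose 2 := by
    have : 3 + (n - 1) - 1 = n + 1 := by omega
    rw [this, ← Nat.choose_symm (by omega : n - 1 ≤ n + 1)]
    congr 1
    omega
  rw [h2] at h1
  omega

end Groth.Agent.S14427
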