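import Groth.Statements.S14428
-- import your own Groth.Agent.* helpers here
import Groth.Agent.Lib.Helper72.PlanePoints

set_option autoImplicit false
universe u
open CAlgX

namespace Groth.Agent.S14428

open Groth.Agent.Lib.Helper72.PlanePoints MvPolynomial

/-- one half of the statement: every point of `Λ` is proportional to a point of `Λ'`. -/
theorem half (k : Type u) [Field k] (n : ℕ) (hn : 3 ≤ n)
    (Λ Λ' : Finset (Fin 3 → k)) (hcard' : Λ'.card = n)
    (hline' : ¬ ∃ ℓ : (Fin 3 → k) →ₗ[k] k, ℓ ≠ 0 ∧ ∀ v ∈ Λ', ℓ v = 0)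
    (hle : vanishing (n - 1) Λ' ≤ vanishing (n - 1) Λ) :
    ∀ v ∈ Λ, ∃ w ∈ Λ', ∃ c : k, v = c • w := by
  classical
  intro v hvΛ
  by_contra hcon
  push Not at hcon
  have hnot : ∀ w ∈ Λ', v ∉ Submodule.span k {w} := by
    intro w hw hv
    obtain ⟨c, hc⟩ := Submodule.mem_span_singleton.mp hv
    exact hcon w hw c hc.symm
  -- Step 1: a pair of points of Λ' whose span misses v
  have hpair : ∃ w1 ∈ Λ', ∃ w2 ∈ Λ', w1 ≠ w2 ∧ v ∉ Submodule.span k {w1, w2} := by
    by_contra hno
    push Not at hno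
    have hne : Λ'.Nonempty := by
      rw [← Finset.card_pos]; omega
    obtain ⟨w1, hw1⟩ := hne
    let P : Submodule k (Fin 3 → k) := Submodule.span k {w1, v}
    have hP : ∀ w ∈ Λ', w ∈ P := by
      intro w hw
      by_cases hww : w = w1
      · subst hww
        exact Submodule.subset_span (by simp)
      · have hv := hno w1 hw1 w hw (Ne.symm hww)
        obtain ⟨a, b, hab⟩ := Submodule.mem_span_pair.mp hv
        have hb : b ≠ 0 := by
          rintro rfl
          rw [zero_smul, add_zero] at hab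
          exact hnot w1 hw1 (Submodule.mem_span_singleton.mpr ⟨a, hab⟩)
        have hw' : w = b⁻¹ • v - (b⁻¹ * a) • w1 := by
          rw [← hab, smul_add, smul_smul, smul_smul, inv_mul_cancel₀ hb, one_smul]
          abel
        rw [hw']
        exact P.sub_mem (P.smul_mem _ (Submodule.subset_span (by simp)))
          (P.smul_mem _ (Submodule.subset_span (by simp)))
    have hPlt : P < ⊤ := by
      rw [lt_top_iff_ne_top]
      intro htop
      have h1 : Module.finrank k P ≤ 2 := by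
        have := finrank_span_le_card (R := k) ({w1, v} : Set (Fin 3 → k))
        refine this.trans ?_
        rw [Set.toFinset_card]
        have : Fintype.card ({w1, v} : Set (Fin 3 → k)) ≤ 2 := by
          rw [← Set.toFinset_card]
          have : ({w1, v} : Set (Fin 3 → k)).toFinset = {w1, v} := by ext; simp
          rw [this]
          exact Finset.card_le_two
        exact this
      rw [htop, finrank_top, Module.finrank_fintype_fun_eq_card, Fintype.card_fin] at h1
      omega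
    obtain ⟨ℓ, hℓ0, hℓ⟩ := Submodule.exists_le_ker_of_lt_top P hPlt
    exact hline' ⟨ℓ, hℓ0, fun w hw ↦ hℓ (hP w hw)⟩
  obtain ⟨w1, hw1, w2, hw2, hw12, hvnot⟩ := hpair
  obtain ⟨ℓ12, hℓ12v, hℓ12⟩ := Submodule.exists_le_ker_of_notMem hvnot
  have hex : ∀ w ∈ (Λ'.erase w1).erase w2, ∃ ℓ : (Fin 3 → k) →ₗ[k] k, ℓ v ≠ 0 ∧ ℓ w = 0 := by
    intro w hw
    have hwΛ : w ∈ Λ' := Finset.mem_of_mem_erase (Finset.mem_of_mem_erase hw)
    obtain ⟨f, hfv, hf⟩ := Submodule.exists_le_ker_of_notMem (hnot w hwΛ)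
    exact ⟨f, hfv, hf (Submodule.mem_span_singleton_self w)⟩
  choose! ℓ hℓ1 hℓ2 using hex
  let F : MvPolynomial (Fin 3) k := linPoly ℓ12 * ∏ w ∈ (Λ'.erase w1).erase w2, linPoly (ℓ w)
  have hcardE : ((Λ'.erase w1).erase w2).card = n - 2 := by
    rw [Finset.card_erase_of_mem (Finset.mem_erase.mpr ⟨hw12.symm, hw2⟩),
      Finset.card_erase_of_mem hw1, hcard']
    omega
  have hFhom : F.IsHomogeneous (n - 1) := by
    have h1 := (isHomogeneous_linPoly ℓ12).mul
      (isHomogeneous_prod_linPoly ((Λ'.erase w1).erase w2) ℓ)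
    rw [hcardE] at h1
    have : 1 + (n - 2) = n - 1 := by omega
    rwa [this] at h1
  have hFeval : ∀ u : Fin 3 → k, aeval u F = ℓ12 u * ∏ w ∈ (Λ'.erase w1).erase w2, ℓ w u := by
    intro u
    simp only [F, map_mul, aeval_linPoly, aeval_prod_linPoly]
  have hFmem : F ∈ vanishing (n - 1) Λ' := by
    rw [mem_vanishing]
    refine ⟨hFhom, fun w hw ↦ ?_⟩
    rw [hFeval]
    by_cases h1 : w = w1
    · subst h1
      have : ℓ12 w = 0 := hℓ12 (Submodule.subset_span (by simp))
      rw [this, zero_mul]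
    by_cases h2 : w = w2
    · subst h2
      have : ℓ12 w = 0 := hℓ12 (Submodule.subset_span (by simp))
      rw [this, zero_mul]
    have hwE : w ∈ (Λ'.erase w1).erase w2 :=
      Finset.mem_erase.mpr ⟨h2, Finset.mem_erase.mpr ⟨h1, hw⟩⟩
    have hz : ∏ w' ∈ (Λ'.erase w1).erase w2, (ℓ w') w = 0 :=
      Finset.prod_eq_zero hwE (hℓ2 w hwE)
    rw [hz, mul_zero]
  have hFv : aeval v F ≠ 0 := by
    rw [hFeval]
    exact mul_ne_zero hℓ12v (Finset.prod_ne_zero_iff.mpr fun w hw ↦ hℓ1 w hw)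
  exact hFv ((mem_vanishing.mp (hle hFmem)).2 v hvΛ)

/-- Let k be a field, n ≥ 3, and let Λ and Λ' be two sets of n nonzero, pairwise linearly independent
vectors of k^3 (n distinct k-rational points of the projective plane each), neither lying on a line
(no nonzero linear form vanishes on all of Λ, resp. Λ'). If the spaces of homogeneous forms of
degree n − 1 vanishing on Λ and on Λ' coincide, then Λ and Λ' define the same set of points of the
plane: the assignment Λ ↦ H^0(P^2, I_Λ(n − 1)), with values in a Grassmannian, is injective on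
non-collinear sets. (The published statement is over an algebraically closed field; this row allows
any field and k-rational points, which is all its argument uses.) -/
theorem result (k : Type u) [Field k] (n : ℕ) (hn : 3 ≤ n)
    (Λ Λ' : Finset (Fin 3 → k)) (hcard : Λ.card = n) (hcard' : Λ'.card = n)
    (h0 : ∀ v ∈ Λ, v ≠ 0) (h0' : ∀ v ∈ Λ', v ≠ 0)
    (hdist : ∀ v ∈ Λ, ∀ w ∈ Λ, v ≠ w → LinearIndependent k ![v, w])
    (hdist' : ∀ v ∈ Λ', ∀ w ∈ Λ', v ≠ w → LinearIndependent k ![v, w])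
    (hline : ¬ ∃ ℓ : (Fin 3 → k) →ₗ[k] k, ℓ ≠ 0 ∧ ∀ v ∈ Λ, ℓ v = 0)
    (hline' : ¬ ∃ ℓ : (Fin 3 → k) →ₗ[k] k, ℓ ≠ 0 ∧ ∀ v ∈ Λ', ℓ v = 0)
    (heq : (MvPolynomial.homogeneousSubmodule (Fin 3) k (n - 1) ⊓ ⨅ v ∈ Λ, LinearMap.ker (MvPolynomial.aeval v).toLinearMap) = (MvPolynomial.homogeneousSubmodule (Fin 3) k (n - 1) ⊓ ⨅ v ∈ Λ', LinearMap.ker (MvPolynomial.aeval v).toLinearMap)) :
    (∀ v ∈ Λ, ∃ w ∈ Λ', ∃ c : k, v = c • w) ∧ (∀ w ∈ Λ', ∃ v ∈ Λ, ∃ c : k, w = c • v) := by
  exact ⟨half k n hn Λ Λ' hcard' hline' heq.ge, half k n hn Λ' Λ hcard hline heq.le⟩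

end Groth.Agent.S14428
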