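import Groth.Statements.S14433
import Groth.Agent.S2424

set_option autoImplicit false
universe u
open Koszul3

namespace Groth.Agent.S14433

open CategoryTheory CategoryTheory.Limits in
/-- Let R be a commutative ring, M an R-module, x = (x_1, …, x_n) elements of R and a an element of the
ideal (x_1, …, x_n). Then multiplication by a on the Koszul complex K(x; M) is homotopic to the zero
map (so a annihilates every Koszul cohomology module, and K(x; M) is exact when the x_i generate the
unit ideal). (The published statement is for the Koszul complex of a linear form φ : E → R and a ∈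
φ(E); stated here for E free of finite rank, with the Koszul complex realised by iterated mapping
cones as in the prelude, which is isomorphic to the exterior-algebra complex.) -/
theorem result {R : Type u} [CommRing R] (M : Type u) [AddCommGroup M] [Module R M]
    (xs : List R) (a : R) (ha : a ∈ Ideal.span {x | x ∈ xs}) :
    Nonempty (Homotopy (a • 𝟙 (CohIII.koszulCx (ModuleCat.of R M) xs)) 0) := by
  have hle : Ideal.span {x | x ∈ xs} ≤
      Groth.Agent.S2424.nullIdeal (CohIII.koszulCx (ModuleCat.of R M) xs) := by
    rw [Ideal.span_le]
    intro b hb
    obtain ⟨H⟩ := Groth.Agent.S2424.smul_id_nullHomotopic (ModuleCat.of R M) xs b hb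
    exact HomotopyCategory.eq_of_homotopy _ _ H |>.trans (by simp)
  have h1 : (HomotopyCategory.quotient _ _).map
      (a • 𝟙 (CohIII.koszulCx (ModuleCat.of R M) xs)) = 0 := hle ha
  refine ⟨HomotopyCategory.homotopyOfEq _ _ ?_⟩
  rw [h1, Functor.map_zero]

end Groth.Agent.S14433
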