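import Groth.Statements.S14434
import Groth.Agent.Lib.Helper46.TorShift

set_option autoImplicit false
universe u
open CAlg

namespace Groth.Agent.S14434

/-- Let R be a commutative ring, M an R-module and x ∈ R a non-zero-divisor on R and on M. Then
Tor_i^R(M, R/(x)) = 0 for all i ≥ 1 (Tor computed as the left derived functors of the tensor product
on R-modules). -/
theorem result {R : Type u} [CommRing R] (M : Type u) [AddCommGroup M] [Module R M]
    (x : R) (hxR : IsSMulRegular R x) (hxM : IsSMulRegular M x) (i : ℕ) (hi : 1 ≤ i) :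
    Subsingleton (DRing.Tor R i M (R ⧸ Ideal.span {x})) := by
  have hflat : ∀ n, CategoryTheory.Limits.IsZero (Groth.Agent.Lib.Helper46.TorShift.T R (n + 1) M R) := fun n =>
    Groth.Agent.Lib.Helper46.TorShift.isZero_of_flat_right M R n
  -- the sequence `0 → R --x--> R → R/(x) → 0`
  let ι : R →ₗ[R] R := LinearMap.lsmul R R x
  let π : R →ₗ[R] R ⧸ Ideal.span {x} := Submodule.mkQ (Ideal.span {x})
  have hι : Function.Injective ι := hxR
  have hπ : Function.Surjective π := Submodule.mkQ_surjective _
  have hex : Function.Exact ι π := by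
    intro r
    simp only [π, Submodule.mkQ_apply, Submodule.Quotient.mk_eq_zero, Set.mem_range, ι,
      LinearMap.lsmul_apply, smul_eq_mul]
    rw [Ideal.mem_span_singleton']
    constructor
    · rintro ⟨a, ha⟩; exact ⟨a, by rw [mul_comm]; exact ha⟩
    · rintro ⟨a, ha⟩; exact ⟨a, by rw [mul_comm]; exact ha⟩
  suffices h : CategoryTheory.Limits.IsZero (Groth.Agent.Lib.Helper46.TorShift.T R i M (R ⧸ Ideal.span {x})) from
    ModuleCat.subsingleton_of_isZero h
  obtain ⟨j, rfl⟩ := Nat.exists_eq_succ_of_ne_zero (by omega : i ≠ 0)
  cases j with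
  | zero =>
    refine (Groth.Agent.Lib.Helper46.TorOne.isZero_tor_one_iff_injective_lTensor (N := M)
      ι π hι hex hπ).mpr ?_
    have key : ∀ t : TensorProduct R M R, (ι.lTensor M) t = x • t := by
      intro t
      induction t using TensorProduct.induction_on with
      | zero => simp
      | tmul m r =>
        simp only [ι, LinearMap.lTensor_tmul, LinearMap.lsmul_apply]
        rw [TensorProduct.tmul_smul]
      | add a b ha hb => simp [ha, hb]
    have hreg : IsSMulRegular (TensorProduct R M R) x :=
      ((TensorProduct.rid R M).isSMulRegular_congr x).mpr hxM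
    intro a b hab
    rw [key, key] at hab
    exact hreg hab
  | succ j =>
    exact Groth.Agent.Lib.Helper46.TorShift.isZero_right₂ (N := M) ι π hι hex hπ (j + 1)
      (hflat (j + 1)) (hflat j)

end Groth.Agent.S14434
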