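import Groth.Statements.S14436
import Mathlib.RingTheory.Smooth.Field
import Mathlib.RingTheory.Etale.Kaehler
import Mathlib.RingTheory.Kaehler.Polynomial
-- import your own Groth.Agent.* helpers here

set_option autoImplicit false
universe u
open CAlg

namespace Groth.Agent.S14436

open TensorProduct in
/-- Kähler differentials of a formally étale extension of the top ring: freeness is preserved. -/
theorem free_kaehler_of_formallyEtale (R S T : Type u) [CommRing R] [CommRing S] [CommRing T]
    [Algebra R S] [Algebra R T] [Algebra S T] [IsScalarTower R S T] [Algebra.FormallyEtale S T]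
    [Module.Free S (Ω[S⁄R])] : Module.Free T (Ω[T⁄R]) :=
  Module.Free.of_equiv (KaehlerDifferential.tensorKaehlerEquivOfFormallyEtale R S T)

open TensorProduct in
/-- Kähler differentials of a formally étale extension of the top ring: the rank is preserved. -/
theorem finrank_kaehler_of_formallyEtale (R S T : Type u) [CommRing R] [CommRing S] [CommRing T]
    [Nontrivial S] [Nontrivial T]
    [Algebra R S] [Algebra R T] [Algebra S T] [IsScalarTower R S T] [Algebra.FormallyEtale S T]
    [Module.Free S (Ω[S⁄R])] : Module.finrank T (Ω[T⁄R]) = Module.finrank S (Ω[S⁄R]) := by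
  rw [← (KaehlerDifferential.tensorKaehlerEquivOfFormallyEtale R S T).finrank_eq,
    Module.finrank_baseChange]

/-- Let L/K be a finitely generated field extension which is separable in the sense that it has a
transcendence basis a_1, …, a_n over which L is a (finite) separable extension of K(a_1, …, a_n).
Then dim_L Ω_{L/K} = n, the transcendence degree of L over K. -/
theorem result (K L : Type u) [Field K] [Field L] [Algebra K L]
    (hfg : ∃ s : Finset L, IntermediateField.adjoin K (s : Set L) = ⊤)
    (n : ℕ) (a : Fin n → L) (ha : IsTranscendenceBasis K a)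
    (hsep : Algebra.IsSeparable ↥(IntermediateField.adjoin K (Set.range a)) L) :
    Module.finrank L (Ω[L⁄K]) = n := by
  open scoped IntermediateField.algebraAdjoinAdjoin in
  classical
  have hb : AlgebraicIndependent K a := ha.1
  -- the polynomial ring, the subalgebra generated by `a`, and the subfield generated by `a`
  let e : MvPolynomial (Fin n) K ≃ₐ[K] Algebra.adjoin K (Set.range a) := hb.aevalEquiv
  let : Algebra (MvPolynomial (Fin n) K) (Algebra.adjoin K (Set.range a)) :=
    (e : MvPolynomial (Fin n) K →ₐ[K] Algebra.adjoin K (Set.range a)).toRingHom.toAlgebra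
  have : IsScalarTower K (MvPolynomial (Fin n) K) (Algebra.adjoin K (Set.range a)) :=
    IsScalarTower.of_algebraMap_eq fun x => (e.commutes x).symm
  have : Algebra.FormallyEtale (MvPolynomial (Fin n) K) (Algebra.adjoin K (Set.range a)) :=
    Algebra.FormallyEtale.of_equiv
      (AlgEquiv.ofRingEquiv (R := MvPolynomial (Fin n) K) (f := e.toRingEquiv) (fun x => rfl))
  have : Algebra.FormallyEtale (Algebra.adjoin K (Set.range a))
      (IntermediateField.adjoin K (Set.range a)) :=
    Algebra.FormallyEtale.of_isLocalization (nonZeroDivisors _)
  have : Algebra.FormallyEtale (IntermediateField.adjoin K (Set.range a)) L :=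
    Algebra.FormallyEtale.of_isSeparable _ L
  have h1 : Module.Free (Algebra.adjoin K (Set.range a)) (Ω[Algebra.adjoin K (Set.range a)⁄K]) :=
    free_kaehler_of_formallyEtale K (MvPolynomial (Fin n) K) _
  have h2 : Module.Free (IntermediateField.adjoin K (Set.range a))
      (Ω[IntermediateField.adjoin K (Set.range a)⁄K]) :=
    free_kaehler_of_formallyEtale K (Algebra.adjoin K (Set.range a)) _
  rw [finrank_kaehler_of_formallyEtale K (IntermediateField.adjoin K (Set.range a)) L,
    finrank_kaehler_of_formallyEtale K (Algebra.adjoin K (Set.range a))
      (IntermediateField.adjoin K (Set.range a)),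
    finrank_kaehler_of_formallyEtale K (MvPolynomial (Fin n) K) (Algebra.adjoin K (Set.range a)),
    Module.finrank_eq_card_basis (KaehlerDifferential.mvPolynomialBasis K (Fin n)),
    Fintype.card_fin]

end Groth.Agent.S14436
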