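import Groth.Statements.S14437
import Mathlib
-- import your own Groth.Agent.* helpers here

set_option autoImplicit false
universe u
open CAlg

namespace Groth.Agent.S14437

open IsLocalRing TensorProduct

/-- finrank is unchanged along a bijective field map. -/
theorem finrank_eq_of_bijective (k K V : Type*) [Field k] [Field K] [Algebra k K]
    (h : Function.Bijective (algebraMap k K)) [AddCommGroup V] [Module k V] [Module K V]
    [IsScalarTower k K V] : Module.finrank k V = Module.finrank K V := by
  have h1 : Module.finrank k K = 1 := by
    let e : k ≃ₗ[k] K := LinearEquiv.ofBijective (Algebra.linearMap k K) h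
    rw [← e.finrank_eq, Module.finrank_self]
  rw [← Module.finrank_mul_finrank k K V, h1, one_mul]

section

variable (k : Type u) [Field k]
    (A B : Type u) [CommRing A] [CommRing B] [IsLocalRing A] [IsLocalRing B]
    [Algebra k A] [Algebra k B] [Algebra A B] [IsScalarTower k A B]

theorem isScalarTower_cotangent : IsScalarTower k (ResidueField B) (CotangentSpace B) := by
  apply IsScalarTower.of_algebraMap_smul
  intro c t
  rw [IsScalarTower.algebraMap_apply k B (ResidueField B), algebraMap_smul, algebraMap_smul]

variable (hB : Function.Bijective (algebraMap k (IsLocalRing.ResidueField B)))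

/-- the retraction `B → k`. -/
noncomputable def rho : B →+* k :=
  ((RingEquiv.ofBijective (algebraMap k (ResidueField B)) hB).symm : ResidueField B →+* k).comp
    (IsLocalRing.residue B)

theorem algebraMap_rho (b : B) : algebraMap k (ResidueField B) (rho k B hB b) = residue B b := by
  show (RingEquiv.ofBijective (algebraMap k (ResidueField B)) hB)
    ((RingEquiv.ofBijective (algebraMap k (ResidueField B)) hB).symm (residue B b)) = _
  rw [RingEquiv.apply_symm_apply]

theorem rho_algebraMap (c : k) : rho k B hB (algebraMap k B c) = c := by
  apply hB.1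
  rw [algebraMap_rho, IsScalarTower.algebraMap_apply k B (ResidueField B)]
  rfl

theorem rho_eq_zero {x : B} (hx : x ∈ maximalIdeal B) : rho k B hB x = 0 := by
  apply hB.1
  rw [algebraMap_rho, map_zero]
  exact (IsLocalRing.residue_eq_zero_iff x).mpr hx

theorem sub_mem (b : B) : b - algebraMap k B (rho k B hB b) ∈ maximalIdeal B := by
  rw [← IsLocalRing.residue_eq_zero_iff, map_sub, sub_eq_zero, ← algebraMap_rho k B hB b,
    IsScalarTower.algebraMap_apply k B (ResidueField B)]
  rfl

/-- the universal `k`-derivation `B → m_B / m_B²`. -/
noncomputable def theta (b : B) : CotangentSpace B :=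
  (maximalIdeal B).toCotangent ⟨b - algebraMap k B (rho k B hB b), sub_mem k B hB b⟩

theorem theta_add (b b' : B) : theta k B hB (b + b') = theta k B hB b + theta k B hB b' := by
  unfold theta
  rw [← map_add]
  congr 1
  ext
  simp only [map_add, Submodule.coe_add]
  ring

theorem theta_mul (b b' : B) :
    theta k B hB (b * b') = b • theta k B hB b' + b' • theta k B hB b := by
  unfold theta
  rw [← map_smul, ← map_smul, ← map_add, Ideal.toCotangent_eq]
  have : (b * b' - algebraMap k B (rho k B hB (b * b'))) -
      ((b • (⟨b' - algebraMap k B (rho k B hB b'), sub_mem k B hB b'⟩ : maximalIdeal B) +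
        b' • (⟨b - algebraMap k B (rho k B hB b), sub_mem k B hB b⟩ : maximalIdeal B) :
          maximalIdeal B) : B) =
      - ((b - algebraMap k B (rho k B hB b)) * (b' - algebraMap k B (rho k B hB b'))) := by
    simp only [map_mul, Submodule.coe_add, Submodule.coe_smul, smul_eq_mul]
    ring
  rw [this, pow_two]
  exact neg_mem (Ideal.mul_mem_mul (sub_mem k B hB b) (sub_mem k B hB b'))

theorem theta_of_mem {x : B} (hx : x ∈ maximalIdeal B) :
    theta k B hB x = (maximalIdeal B).toCotangent ⟨x, hx⟩ := by
  unfold theta
  congr 1
  ext
  simp [rho_eq_zero k B hB hx]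

theorem smul_cotangent (b : B) (t : CotangentSpace B) : b • t = rho k B hB b • t := by
  have := isScalarTower_cotangent k B
  rw [← algebraMap_smul (ResidueField B) b t, ← algebraMap_smul (ResidueField B) (rho k B hB b) t,
    algebraMap_rho]
  rfl

end

section

variable (k : Type u) [Field k]
    (A B : Type u) [CommRing A] [CommRing B] [IsLocalRing A] [IsLocalRing B]
    [Algebra k A] [Algebra k B] [Algebra A B] [IsScalarTower k A B]
    (hB : Function.Bijective (algebraMap k (IsLocalRing.ResidueField B)))

/-- the `A`-derivation `B → k_B` attached to a functional on the cotangent space killing the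
image of `A`. -/
noncomputable def derivOf (lam : CotangentSpace B →ₗ[k] k)
    (hlam : ∀ a : A, lam (theta k B hB (algebraMap A B a)) = 0) :
    Derivation A B (ResidueField B) := by
  have hleib : ∀ b b' : B, algebraMap k (ResidueField B) (lam (theta k B hB (b * b'))) =
      b • algebraMap k (ResidueField B) (lam (theta k B hB b')) +
        b' • algebraMap k (ResidueField B) (lam (theta k B hB b)) := by
    intro b b'
    rw [theta_mul, smul_cotangent k B hB b, smul_cotangent k B hB b', map_add, map_smul, map_smul,
      smul_eq_mul, smul_eq_mul, map_add, map_mul, map_mul, algebraMap_rho, algebraMap_rho,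
      Algebra.smul_def, Algebra.smul_def]
    rfl
  refine Derivation.mk'
    { toFun := fun b => algebraMap k (ResidueField B) (lam (theta k B hB b))
      map_add' := fun b b' => by rw [theta_add, map_add, map_add]
      map_smul' := fun a b => by
        rw [Algebra.smul_def, hleib, hlam, map_zero, smul_zero, add_zero, RingHom.id_apply,
          algebraMap_smul] } hleib

omit [IsLocalRing A] [Algebra k A] [IsScalarTower k A B] in
theorem derivOf_apply (lam : CotangentSpace B →ₗ[k] k)
    (hlam : ∀ a : A, lam (theta k B hB (algebraMap A B a)) = 0) (b : B) :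
    derivOf k A B hB lam hlam b = algebraMap k (ResidueField B) (lam (theta k B hB b)) := rfl

end

/-- Let k be a field and A → B a local homomorphism of Noetherian local k-algebras with residue fields k
(k → A/m_A and k → B/m_B bijective) — for instance the local rings at a closed point x and at its
image y under a morphism of schemes of finite type over an algebraically closed k. Then dim_k
(Ω_{B/A} ⊗_B B/m_B) + rank(m_A/m_A² → m_B/m_B²) = dim_k (m_B/m_B²): the fibre at x of the sheaf of
relative differentials is dual to the kernel of the tangent map T_x X → T_y Y. (The published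
statement is the canonical isomorphism (Ω_{X/Y})_(x)^∨ ≅ ker(df_x); stated here as the resulting
equality of dimensions. Its second assertion, dim (Ω_{X/Y})_(x) ≥ r when the fibre has an
r-dimensional component through x, is not included.) -/
theorem result (k : Type u) [Field k]
    (A B : Type u) [CommRing A] [CommRing B] [IsLocalRing A] [IsLocalRing B] [IsNoetherianRing A] [IsNoetherianRing B]
    [Algebra k A] [Algebra k B] [Algebra A B] [IsScalarTower k A B]
    (hle : IsLocalRing.maximalIdeal A ≤ Ideal.comap (IsScalarTower.toAlgHom k A B) (IsLocalRing.maximalIdeal B))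
    (hA : Function.Bijective (algebraMap k (IsLocalRing.ResidueField A)))
    (hB : Function.Bijective (algebraMap k (IsLocalRing.ResidueField B))) :
    Module.finrank (IsLocalRing.ResidueField B) (TensorProduct B (IsLocalRing.ResidueField B) (Ω[B⁄A])) +
      Module.finrank k ↥(LinearMap.range (Ideal.mapCotangent (IsLocalRing.maximalIdeal A) (IsLocalRing.maximalIdeal B)
        (IsScalarTower.toAlgHom k A B) hle)) =
      Module.finrank k (IsLocalRing.CotangentSpace B) := by
  classical
  have htower := isScalarTower_cotangent k B
  have hfin1 : Module.Finite k (ResidueField B) :=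
    Module.Finite.equiv (LinearEquiv.ofBijective (Algebra.linearMap k (ResidueField B)) hB)
  have hfin2 : Module.Finite k (CotangentSpace B) :=
    Module.Finite.trans (ResidueField B) (CotangentSpace B)
  -- the map `φ`
  have hker : maximalIdeal B ≤
      (RingHom.ker (algebraMap B (ResidueField B))).comap (AlgHom.id B B) := by
    intro x hx
    rw [Ideal.mem_comap, RingHom.mem_ker]
    exact (residue_eq_zero_iff x).mpr hx
  let φB : CotangentSpace B →ₗ[B] TensorProduct B (ResidueField B) (Ω[B⁄A]) :=
    (KaehlerDifferential.kerCotangentToTensor A B (ResidueField B)) ∘ₗ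
      (Ideal.mapCotangent (maximalIdeal B) (RingHom.ker (algebraMap B (ResidueField B)))
        (AlgHom.id B B) hker)
  let φ : CotangentSpace B →ₗ[k] TensorProduct B (ResidueField B) (Ω[B⁄A]) :=
    φB.restrictScalars k
  have hφ : ∀ (x : B) (hx : x ∈ maximalIdeal B),
      φ ((maximalIdeal B).toCotangent ⟨x, hx⟩) = (1 : ResidueField B) ⊗ₜ[B] KaehlerDifferential.D A B x :=
    fun x hx => rfl
  -- surjectivity
  have hsurjA : Function.Surjective (algebraMap A (ResidueField B)) := by
    intro c
    obtain ⟨c0, rfl⟩ := hB.2 c
    refine ⟨algebraMap k A c0, ?_⟩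
    rw [IsScalarTower.algebraMap_apply A B (ResidueField B), ← IsScalarTower.algebraMap_apply k A B,
      ← IsScalarTower.algebraMap_apply k B (ResidueField B)]
  have hsub : Subsingleton (Ω[ResidueField B⁄A]) :=
    KaehlerDifferential.subsingleton_of_surjective A (ResidueField B) hsurjA
  have hex := KaehlerDifferential.exact_kerCotangentToTensor_mapBaseChange A B (ResidueField B)
    IsLocalRing.residue_surjective
  have hφsurj : Function.Surjective φ := by
    intro v
    obtain ⟨t', ht'⟩ := (hex v).mp (Subsingleton.elim _ _)
    obtain ⟨⟨x, hx⟩, rfl⟩ := Ideal.toCotangent_surjective _ t'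
    have hx' : x ∈ maximalIdeal B := by
      rw [RingHom.mem_ker] at hx
      exact (residue_eq_zero_iff x).mp hx
    refine ⟨(maximalIdeal B).toCotangent ⟨x, hx'⟩, ?_⟩
    rw [hφ, ← ht']
    rfl
  -- the kernel
  have hkerφ : LinearMap.ker φ = LinearMap.range (Ideal.mapCotangent (maximalIdeal A)
      (maximalIdeal B) (IsScalarTower.toAlgHom k A B) hle) := by
    apply le_antisymm
    · intro t ht
      by_contra hnot
      obtain ⟨lam, hlamt, hlamW⟩ := Submodule.exists_dual_map_eq_bot_of_notMem hnot inferInstance
      have hlamW' : ∀ w ∈ LinearMap.range (Ideal.mapCotangent (maximalIdeal A)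
          (maximalIdeal B) (IsScalarTower.toAlgHom k A B) hle), lam w = 0 := by
        intro w hw
        have : lam w ∈ Submodule.map lam (LinearMap.range (Ideal.mapCotangent (maximalIdeal A)
          (maximalIdeal B) (IsScalarTower.toAlgHom k A B) hle)) := ⟨w, hw, rfl⟩
        rw [hlamW] at this
        exact this
      -- `lam ∘ theta` kills the image of `A`
      have hlam : ∀ a : A, lam (theta k B hB (algebraMap A B a)) = 0 := by
        intro a
        apply hlamW'
        obtain ⟨c, hc⟩ := hA.2 (residue A a)
        have ha0 : a - algebraMap k A c ∈ maximalIdeal A := by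
          rw [← residue_eq_zero_iff, map_sub, sub_eq_zero, ← hc,
            IsScalarTower.algebraMap_apply k A (ResidueField A)]
          rfl
        have hb0 : algebraMap A B (a - algebraMap k A c) ∈ maximalIdeal B := hle ha0
        have hρ : rho k B hB (algebraMap A B a) = c := by
          have h1 : algebraMap A B a = algebraMap A B (a - algebraMap k A c) + algebraMap k B c := by
            rw [map_sub, ← IsScalarTower.algebraMap_apply k A B]
            ring
          rw [h1, map_add, rho_eq_zero k B hB hb0, rho_algebraMap, zero_add]
        refine ⟨(maximalIdeal A).toCotangent ⟨a - algebraMap k A c, ha0⟩, ?_⟩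
        rw [Ideal.mapCotangent_toCotangent]
        unfold theta
        congr 1
        ext
        simp only [hρ, IsScalarTower.coe_toAlgHom', map_sub]
        rw [← IsScalarTower.algebraMap_apply k A B]
      -- apply the induced functional to `φ t = 0`
      obtain ⟨⟨x, hx⟩, rfl⟩ := Ideal.toCotangent_surjective _ t
      rw [LinearMap.mem_ker, hφ] at ht
      let Ψ : TensorProduct B (ResidueField B) (Ω[B⁄A]) →ₗ[ResidueField B] ResidueField B :=
        LinearMap.liftBaseChange (ResidueField B) (derivOf k A B hB lam hlam).liftKaehlerDifferential
      have h1 := congrArg Ψ ht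
      rw [map_zero] at h1
      have h2 : Ψ ((1 : ResidueField B) ⊗ₜ[B] KaehlerDifferential.D A B x) =
          derivOf k A B hB lam hlam x := by
        simp [Ψ]
      rw [h2, derivOf_apply, theta_of_mem k B hB hx] at h1
      exact hlamt (hB.1 (by rw [h1, map_zero]))
    · rintro _ ⟨s, rfl⟩
      obtain ⟨⟨a, ha⟩, rfl⟩ := Ideal.toCotangent_surjective _ s
      rw [LinearMap.mem_ker, Ideal.mapCotangent_toCotangent]
      refine (hφ (algebraMap A B a) (hle ha)).trans ?_
      simp
  have h1 := LinearMap.finrank_range_add_finrank_ker φ
  rw [LinearMap.range_eq_top.mpr hφsurj, finrank_top, hkerφ] at h1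
  rw [← finrank_eq_of_bijective k (ResidueField B) _ hB]
  exact h1

end Groth.Agent.S14437
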