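import Groth.Statements.S14438
import Mathlib

set_option autoImplicit false
universe u
open CAlg


namespace Groth.Agent.S14438

/-- The length of the localized quotient `(B/I)_q` over `B_q` equals the length of `B_q / I B_q`. -/
theorem length_localized_quotient {B : Type*} [CommRing B] (q : Ideal B) [q.IsPrime] (I : Ideal B) :
    Module.length (Localization.AtPrime q) (LocalizedModule q.primeCompl (B ⧸ I)) =
      Module.length (Localization.AtPrime q)
        (Localization.AtPrime q ⧸ I.map (algebraMap B (Localization.AtPrime q))) := by
  have h1 := (localizedQuotientEquiv q.primeCompl (I : Submodule B B)).length_eq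
  rw [← h1]
  have h2 : Submodule.localized q.primeCompl (I : Submodule B B) =
      I.map (algebraMap B (Localization.AtPrime q)) := by
    rw [Submodule.localized, Submodule.localized'_eq_span, Ideal.map, Ideal.span]
    congr 1
  rw [h2]

end Groth.Agent.S14438

namespace Groth.Agent.S14438

/-- Let (A, m) be a local ring, B a commutative A-algebra which is free of finite rank d as an A-module,
and assume that for every maximal ideal n of B containing mB the induced map of residue fields A/m →
B/n is bijective (as for the points of a fibre of a finite flat morphism of varieties over an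
algebraically closed field). Then the multiplicities of the points of the fibre add up to the
degree: the sum over all such n of the length of the B_n-module (B/mB)_n equals d. -/
theorem result (A B : Type u) [CommRing A] [IsLocalRing A] [CommRing B] [Algebra A B]
    [Module.Free A B] [Module.Finite A B] (d : ℕ) (hd : Module.finrank A B = d)
    (hres : ∀ (n : Ideal B) [n.IsMaximal] (h : Ideal.map (algebraMap A B) (IsLocalRing.maximalIdeal A) ≤ n),
      Function.Bijective (Ideal.quotientMap n (algebraMap A B) (Ideal.map_le_iff_le_comap.mp h))) :
    finsum (fun n : {n : MaximalSpectrum B // Ideal.map (algebraMap A B) (IsLocalRing.maximalIdeal A) ≤ n.asIdeal} =>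
      Module.length (Localization.AtPrime n.1.asIdeal)
        (LocalizedModule n.1.asIdeal.primeCompl (B ⧸ Ideal.map (algebraMap A B) (IsLocalRing.maximalIdeal A)))) = (d : ℕ∞) := by
  classical
  haveI : Fintype ((IsLocalRing.maximalIdeal A).primesOver B) :=
    (Algebra.QuasiFinite.finite_primesOver (IsLocalRing.maximalIdeal A)).fintype
  have hsum := Ideal.sum_ramification_inertia_eq_finrank_fiber (IsLocalRing.maximalIdeal A) B
  have hfr : Module.finrank (IsLocalRing.maximalIdeal A).ResidueField
      ((IsLocalRing.maximalIdeal A).Fiber B) = d := by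
    rw [Module.finrank_baseChange, hd]
  have hmaxq : ∀ q : (IsLocalRing.maximalIdeal A).primesOver B, q.1.IsMaximal := by
    intro q
    haveI := q.2.1
    haveI := q.2.2
    exact Ideal.IsMaximal.of_liesOver_isMaximal q.1 (IsLocalRing.maximalIdeal A)
  let e : (IsLocalRing.maximalIdeal A).primesOver B ≃
      {n : MaximalSpectrum B //
        Ideal.map (algebraMap A B) (IsLocalRing.maximalIdeal A) ≤ n.asIdeal} :=
    { toFun := fun q => ⟨⟨q.1, hmaxq q⟩, by
        haveI := q.2.2
        rw [Ideal.map_le_iff_le_comap]
        exact le_of_eq (Ideal.over_def q.1 (IsLocalRing.maximalIdeal A))⟩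
      invFun := fun n => ⟨n.1.asIdeal, n.1.isMaximal.isPrime, ⟨by
        have h1 : IsLocalRing.maximalIdeal A ≤ n.1.asIdeal.comap (algebraMap A B) :=
          Ideal.map_le_iff_le_comap.mp n.2
        have h2 : n.1.asIdeal.comap (algebraMap A B) ≠ ⊤ :=
          (Ideal.comap_isPrime _ _).ne_top
        exact ((IsLocalRing.maximalIdeal.isMaximal A).eq_of_le h2 h1)⟩⟩
      left_inv := fun q => rfl
      right_inv := fun n => rfl }
  rw [← finsum_comp_equiv e, finsum_eq_sum_of_fintype]
  have hterm : ∀ q : (IsLocalRing.maximalIdeal A).primesOver B,
      Module.length (Localization.AtPrime (e q).1.asIdeal)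
        (LocalizedModule (e q).1.asIdeal.primeCompl
          (B ⧸ Ideal.map (algebraMap A B) (IsLocalRing.maximalIdeal A))) =
      ((q.1.ramificationIdx A * q.1.inertiaDeg A : ℕ) : ℕ∞) := by
    intro q
    haveI := q.2.1
    haveI := q.2.2
    haveI := hmaxq q
    change Module.length (Localization.AtPrime q.1) (LocalizedModule q.1.primeCompl
          (B ⧸ Ideal.map (algebraMap A B) (IsLocalRing.maximalIdeal A))) = _
    rw [Groth.Agent.S14438.length_localized_quotient, Ideal.map_map,
      ← IsScalarTower.algebraMap_eq]
    have hpos := Ideal.ramificationIdx_pos q.1 A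
    rw [Ideal.ramificationIdx_eq (IsLocalRing.maximalIdeal A) q.1] at hpos ⊢
    have hne : Module.length (Localization.AtPrime q.1) (Localization.AtPrime q.1 ⧸
        Ideal.map (algebraMap A (Localization.AtPrime q.1)) (IsLocalRing.maximalIdeal A)) ≠ ⊤ := by
      intro htop
      rw [htop, ENat.toNat_top] at hpos
      exact lt_irrefl _ hpos
    have hin : q.1.inertiaDeg A = 1 := by
      rw [Ideal.inertiaDeg_eq_of_isMaximal (IsLocalRing.maximalIdeal A) q.1]
      have hbij : Function.Bijective (algebraMap (A ⧸ IsLocalRing.maximalIdeal A) (B ⧸ q.1)) :=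
        hres q.1 (e q).2
      rw [← (LinearEquiv.ofBijective (Algebra.linearMap (A ⧸ IsLocalRing.maximalIdeal A)
        (B ⧸ q.1)) hbij).finrank_eq]
      exact Module.finrank_self _
    rw [hin, mul_one, ENat.coe_toNat hne]
  rw [Finset.sum_congr rfl (fun q _ => hterm q), ← Nat.cast_sum, hsum, hfr]

end Groth.Agent.S14438
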