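import Groth.Statements.S14442
-- import your own Groth.Agent.* helpers here

set_option autoImplicit false
universe u
open GrNak

namespace Groth.Agent.S14442

/-- Let R be a commutative ℕ-graded ring with irrelevant ideal R_+ = ⊕_{i>0} R_i, M an ℕ-graded R-module
and N a graded submodule of M (closed under taking homogeneous components). If M = R_+ M + N then N
= M. (The published statement is for finitely generated ℤ-graded modules over a graded quotient of a
polynomial ring, whose degrees are then bounded below; stated here for non-negatively graded modules
over any ℕ-graded commutative ring, where the same lowest-degree argument applies without finite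
generation.) -/
theorem result {R : Type u} [CommRing R] {σ : Type u} [SetLike σ R] [AddSubmonoidClass σ R]
    (𝒜 : ℕ → σ) [GradedRing 𝒜]
    {M : Type u} [AddCommGroup M] [Module R M] {τ : Type u} [SetLike τ M] [AddSubmonoidClass τ M]
    (ℳ : ℕ → τ) [DirectSum.Decomposition ℳ] [SetLike.GradedSMul 𝒜 ℳ]
    (N : Submodule R M) (hN : ∀ x ∈ N, ∀ i : ℕ, (DirectSum.decompose ℳ x i : M) ∈ N)
    (h : (HomogeneousIdeal.irrelevant 𝒜).toIdeal • (⊤ : Submodule R M) ⊔ N = ⊤) :
    N = ⊤ := by
  classical
  -- every homogeneous element lies in `N`, by strong induction on the degree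
  have key : ∀ n : ℕ, ∀ m ∈ ℳ n, m ∈ N := by
    intro n
    induction n using Nat.strong_induction_on with
    | _ n ih =>
      intro m hm
      have aux : ∀ y ∈ (HomogeneousIdeal.irrelevant 𝒜).toIdeal • (⊤ : Submodule R M),
          (DirectSum.decompose ℳ y n : M) ∈ N := by
        intro y hy
        refine Submodule.smul_induction_on hy ?_ ?_
        · intro r hr m' _
          have hr0 : (DirectSum.decompose 𝒜 r 0 : R) = 0 := by
            have := (HomogeneousIdeal.mem_irrelevant_iff 𝒜 r).mp hr
            simpa [GradedRing.proj_apply] using this
          have e1 : r • m' = ∑ i ∈ (DirectSum.decompose 𝒜 r).support,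
              ∑ j ∈ (DirectSum.decompose ℳ m').support,
                (DirectSum.decompose 𝒜 r i : R) • (DirectSum.decompose ℳ m' j : M) := by
            conv_lhs => rw [← DirectSum.sum_support_decompose 𝒜 r,
              ← DirectSum.sum_support_decompose ℳ m']
            rw [Finset.sum_smul]
            refine Finset.sum_congr rfl fun i _ => ?_
            rw [Finset.smul_sum]
          rw [e1, DirectSum.decompose_sum, DFinsupp.finsetSum_apply, AddSubmonoidClass.coe_finsetSum]
          refine Submodule.sum_mem _ fun i _ => ?_
          rw [DirectSum.decompose_sum, DFinsupp.finsetSum_apply, AddSubmonoidClass.coe_finsetSum]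
          refine Submodule.sum_mem _ fun j _ => ?_
          have hmem : (DirectSum.decompose 𝒜 r i : R) • (DirectSum.decompose ℳ m' j : M) ∈ ℳ (i + j) := by
            have := SetLike.GradedSMul.smul_mem (A := 𝒜) (B := ℳ)
              (DirectSum.decompose 𝒜 r i).2 (DirectSum.decompose ℳ m' j).2
            simpa using this
          by_cases hij : i + j = n
          · subst hij
            rw [DirectSum.decompose_of_mem_same ℳ hmem]
            rcases Nat.eq_zero_or_pos i with hi | hi
            · subst hi
              rw [hr0, zero_smul]
              exact N.zero_mem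
            · exact N.smul_mem _ (ih j (by omega) _ (DirectSum.decompose ℳ m' j).2)
          · rw [DirectSum.decompose_of_mem_ne ℳ hmem hij]
            exact N.zero_mem
        · intro a b ha hb
          rw [DirectSum.decompose_add, DirectSum.add_apply, AddMemClass.coe_add]
          exact N.add_mem ha hb
      have hm' : m ∈ (HomogeneousIdeal.irrelevant 𝒜).toIdeal • (⊤ : Submodule R M) ⊔ N := by
        rw [h]; trivial
      obtain ⟨y, hy, z, hz, rfl⟩ := Submodule.mem_sup.mp hm'
      have e : y + z = (DirectSum.decompose ℳ y n : M) + (DirectSum.decompose ℳ z n : M) := by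
        conv_lhs => rw [← DirectSum.decompose_of_mem_same ℳ hm]
        rw [DirectSum.decompose_add, DirectSum.add_apply, AddMemClass.coe_add]
      rw [e]
      exact N.add_mem (aux y hy) (hN z hz n)
  rw [eq_top_iff]
  intro x _
  rw [← DirectSum.sum_support_decompose ℳ x]
  exact Submodule.sum_mem _ fun i _ => key i _ (DirectSum.decompose ℳ x i).2

end Groth.Agent.S14442
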