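import Groth.Statements.S14447
import Mathlib.CategoryTheory.Limits.Types.Products
import Mathlib.CategoryTheory.Limits.Constructions.FiniteProductsOfBinaryProducts
import Mathlib.CategoryTheory.Limits.Preserves.Shapes.Terminal
import Mathlib.CategoryTheory.Limits.Preserves.Shapes.BinaryProducts
-- import your own Groth.Agent.* helpers here

set_option autoImplicit false
universe w v u
open AlgGrp

namespace Groth.Agent.S14447

open CategoryTheory CategoryTheory.Limits in
/-- Let C be a category with finite products and with all coproducts indexed by sets, and assume that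
for every set I and every object U the canonical arrow ∐_{i∈I} U → (∐_{i∈I} pt) × U, whose i-th
component pairs U → pt → ∐_{i∈I} pt (i-th coprojection) with the identity of U, is an isomorphism.
Then the discrete-object functor from sets to C, I ↦ ∐_{i∈I} pt, preserves finite products. (Sets
are the types of one fixed universe, the one indexing the coproducts. The published statement asks
only for the coproducts of copies of one object; this row assumes that C has all coproducts indexed
by sets, which Mathlib's discrete-object functor sigmaConst requires.) -/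
theorem result {C : Type u} [Category.{v} C]
    [HasFiniteProducts C] [HasCoproducts.{w} C]
    (h : ∀ (I : Type w) (U : C), IsIso (Sigma.desc fun i : I =>
      prod.lift (terminal.from U ≫ Sigma.ι (fun _ : I => ⊤_ C) i) (𝟙 U))) :
    PreservesFiniteProducts (sigmaConst.{w}.obj (⊤_ C)) := by
  -- terminal object
  have hT : PreservesLimitsOfShape (Discrete.{0} PEmpty) (sigmaConst.{w}.obj (⊤_ C)) := by
    have : PreservesLimit (Functor.empty.{0} (Type w)) (sigmaConst.{w}.obj (⊤_ C)) :=
      preservesTerminal_of_iso _ (coproductUniqueIso (fun _ : (⊤_ (Type w)) => ⊤_ C))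
    exact preservesLimitsOfShape_pempty_of_preservesTerminal _
  -- binary products
  have hB : PreservesLimitsOfShape (Discrete WalkingPair) (sigmaConst.{w}.obj (⊤_ C)) := by
    refine ⟨fun {K} => ?_⟩
    suffices H : ∀ I J : Type w, PreservesLimit (pair I J) (sigmaConst.{w}.obj (⊤_ C)) by
      have := H (K.obj ⟨WalkingPair.left⟩) (K.obj ⟨WalkingPair.right⟩)
      exact preservesLimit_of_iso_diagram _ (diagramIsoPair K).symm
    intro I J
    refine preservesLimit_of_preserves_limit_cone (Types.binaryProductLimit I J) ?_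
    refine (isLimitMapConeBinaryFanEquiv _ _ _).symm ?_
    -- notation
    let θ : (∐ fun _ : I => ∐ fun _ : J => ⊤_ C) ⟶ (∐ fun _ : I => ⊤_ C) ⨯ (∐ fun _ : J => ⊤_ C) :=
      Sigma.desc fun i : I =>
        prod.lift (terminal.from (∐ fun _ : J => ⊤_ C) ≫ Sigma.ι (fun _ : I => ⊤_ C) i)
          (𝟙 (∐ fun _ : J => ⊤_ C))
    have hθ : IsIso θ := h I (∐ fun _ : J => ⊤_ C)
    let τ : (∐ fun _ : I × J => ⊤_ C) ⟶ ∐ fun _ : I => ∐ fun _ : J => ⊤_ C :=
      Sigma.desc fun x : I × J =>
        Sigma.ι (fun _ : J => ⊤_ C) x.2 ≫ Sigma.ι (fun _ : I => ∐ fun _ : J => ⊤_ C) x.1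
    let σ : (∐ fun _ : I => ∐ fun _ : J => ⊤_ C) ⟶ (∐ fun _ : I × J => ⊤_ C) :=
      Sigma.desc fun i : I => Sigma.desc fun j : J => Sigma.ι (fun _ : I × J => ⊤_ C) (i, j)
    have hτσ : τ ≫ σ = 𝟙 _ := by
      apply Sigma.hom_ext; intro x
      simp [τ, σ]
    have hστ : σ ≫ τ = 𝟙 _ := by
      apply Sigma.hom_ext; intro i
      apply Sigma.hom_ext; intro j
      simp [τ, σ]
    have hτ : IsIso τ := ⟨σ, hτσ, hστ⟩
    have hcomp : prod.lift ((sigmaConst.{w}.obj (⊤_ C)).map (↾(Prod.fst : I × J → I)))
        ((sigmaConst.{w}.obj (⊤_ C)).map (↾(Prod.snd : I × J → J))) = τ ≫ θ := by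
      apply Sigma.hom_ext; intro x
      apply Limits.prod.hom_ext
      · simp [τ, θ]
        rw [prod.lift_fst, prod.lift_fst, Subsingleton.elim (terminal.from (⊤_ C)) (𝟙 _),
          Category.id_comp]
      · simp [τ, θ]
        rw [prod.lift_snd, prod.lift_snd]
    have hiso : IsIso (prod.lift ((sigmaConst.{w}.obj (⊤_ C)).map (↾(Prod.fst : I × J → I)))
        ((sigmaConst.{w}.obj (⊤_ C)).map (↾(Prod.snd : I × J → J)))) := by
      rw [hcomp]; infer_instance
    have hiso' : IsIso ((limit.isLimit (pair (∐ fun _ : I => ⊤_ C) (∐ fun _ : J => ⊤_ C))).lift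
        (BinaryFan.mk ((sigmaConst.{w}.obj (⊤_ C)).map (↾(Prod.fst : I × J → I)))
          ((sigmaConst.{w}.obj (⊤_ C)).map (↾(Prod.snd : I × J → J))))) := hiso
    exact @IsLimit.ofPointIso _ _ _ _ _ _ _ (limit.isLimit _) hiso'
  exact PreservesFiniteProducts.of_preserves_binary_and_terminal _

end Groth.Agent.S14447
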