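import Groth.Statements.S14448
import Mathlib
import Groth.Agent.Lib.Helper95.MatesHorizontal

set_option autoImplicit false
universe u
open Coherent

namespace Groth.Agent.S14448

open AlgebraicGeometry CategoryTheory Scheme.Modules in
/-- Take two commutative squares of schemes side by side, f : X → Y over φ : U → V (vertical maps ξ : X
→ U and η : Y → V, f ≫ η = ξ ≫ φ) and g : Y → Z over ψ : V → W (vertical map ζ : Z → W, g ≫ ζ = η ≫
ψ), and an O_Z-module L. For a commutative square the base change map β_{f,φ}(M) : φ^* η_* M → ξ_*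
f^* M is the adjoint of η_*(unit) : η_* M → η_* f_* f^* M = φ_* ξ_* f^* M, and α denotes the
composition isomorphisms of module pullbacks. Then the composite of α_{φ,ψ}(ζ_* L) : φ^* ψ^* ζ_* L →
(φ ≫ ψ)^* ζ_* L with β_{f ≫ g, φ ≫ ψ}(L) equals the composite of φ^* β_{g,ψ}(L), β_{f,φ}(g^* L) and
ξ_* α_{f,g}(L), as maps φ^* ψ^* ζ_* L → ξ_* (f ≫ g)^* L. No cartesian or finiteness hypothesis is
made; the outer square is used through any proof hw of its commutativity. -/
theorem result {X Y Z U V W : Scheme.{u}} (f : X ⟶ Y) (g : Y ⟶ Z)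
    (ξ : X ⟶ U) (η : Y ⟶ V) (ζ : Z ⟶ W) (φ : U ⟶ V) (ψ : V ⟶ W)
    (h₁ : f ≫ η = ξ ≫ φ) (h₂ : g ≫ ζ = η ≫ ψ) (hw : (f ≫ g) ≫ ζ = ξ ≫ (φ ≫ ψ)) (L : Z.Modules) :
    (pullbackComp φ ψ).hom.app ((pushforward ζ).obj L) ≫
        (((pullbackPushforwardAdjunction (φ ≫ ψ)).homEquiv ((pushforward ζ).obj L)
            ((pushforward ξ).obj ((pullback (f ≫ g)).obj L))).symm
          ((pushforward ζ).map ((pullbackPushforwardAdjunction (f ≫ g)).unit.app L) ≫
            (pushforwardComp (f ≫ g) ζ).hom.app ((pullback (f ≫ g)).obj L) ≫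
            (pushforwardCongr hw).hom.app ((pullback (f ≫ g)).obj L) ≫
            (pushforwardComp ξ (φ ≫ ψ)).inv.app ((pullback (f ≫ g)).obj L))) =
      (pullback φ).map (((pullbackPushforwardAdjunction ψ).homEquiv ((pushforward ζ).obj L)
            ((pushforward η).obj ((pullback g).obj L))).symm
          ((pushforward ζ).map ((pullbackPushforwardAdjunction g).unit.app L) ≫
            (pushforwardComp g ζ).hom.app ((pullback g).obj L) ≫
            (pushforwardCongr h₂).hom.app ((pullback g).obj L) ≫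
            (pushforwardComp η ψ).inv.app ((pullback g).obj L))) ≫
        (((pullbackPushforwardAdjunction φ).homEquiv ((pushforward η).obj ((pullback g).obj L))
            ((pushforward ξ).obj ((pullback f).obj ((pullback g).obj L)))).symm
          ((pushforward η).map ((pullbackPushforwardAdjunction f).unit.app ((pullback g).obj L)) ≫
            (pushforwardComp f η).hom.app ((pullback f).obj ((pullback g).obj L)) ≫
            (pushforwardCongr h₁).hom.app ((pullback f).obj ((pullback g).obj L)) ≫
            (pushforwardComp ξ φ).inv.app ((pullback f).obj ((pullback g).obj L)))) ≫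
        (pushforward ξ).map ((pullbackComp f g).hom.app L) := by
  let θ₁ : pushforward f ⋙ pushforward η ⟶ pushforward ξ ⋙ pushforward φ :=
    (pushforwardComp f η).hom ≫ (pushforwardCongr h₁).hom ≫ (pushforwardComp ξ φ).inv
  let θ₂ : pushforward g ⋙ pushforward ζ ⟶ pushforward η ⋙ pushforward ψ :=
    (pushforwardComp g ζ).hom ≫ (pushforwardCongr h₂).hom ≫ (pushforwardComp η ψ).inv
  let θ₃ : pushforward (f ≫ g) ⋙ pushforward ζ ⟶ pushforward ξ ⋙ pushforward (φ ≫ ψ) :=
    (pushforwardComp (f ≫ g) ζ).hom ≫ (pushforwardCongr hw).hom ≫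
      (pushforwardComp ξ (φ ≫ ψ)).inv
  have hθ : ∀ N : X.Modules, (pushforward ζ).map ((pushforwardComp f g).hom.app N) ≫
      θ₃.app N ≫ (pushforwardComp φ ψ).inv.app ((pushforward ξ).obj N) =
      θ₂.app ((pushforward f).obj N) ≫ (pushforward ψ).map (θ₁.app N) := by
    intro N
    refine Scheme.Modules.hom_ext _ _ (fun U => ?_)
    have key : ∀ {A B : (TopologicalSpace.Opens Y)ᵒᵖ} (i : A ⟶ B),
        ((pushforward f).obj N).presheaf.map i =
          N.presheaf.map ((TopologicalSpace.Opens.map f.base).op.map i) := fun i => rfl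
    simp [θ₁, θ₂, θ₃]
    first
      | (rw [key, ← Functor.map_comp]; rfl)
      | (rw [← Functor.map_comp]; rfl)
  exact Groth.Agent.Lib.Helper95.MatesHorizontal.main
    (pullbackPushforwardAdjunction f) (pullbackPushforwardAdjunction g)
    (pullbackPushforwardAdjunction (f ≫ g)) (pullbackPushforwardAdjunction φ)
    (pullbackPushforwardAdjunction ψ) (pullbackPushforwardAdjunction (φ ≫ ψ))
    (pullbackComp f g) (pushforwardComp f g) (conjugateEquiv_pullbackComp_inv f g)
    (pullbackComp φ ψ) (pushforwardComp φ ψ) (conjugateEquiv_pullbackComp_inv φ ψ)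
    (pushforward ξ) (pushforward η) (pushforward ζ) θ₁ θ₂ θ₃ hθ L

end Groth.Agent.S14448
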