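import Groth.Statements.S14449
import Groth.Agent.Lib.Helper70.RecollEquiv
import Groth.Agent.Lib.Helper70.Recoll
import Groth.Agent.Lib.Helper70.OpenRecoll

set_option autoImplicit false
universe u
open CategoryTheory CategoryTheory.Limits AlgebraicGeometry
open EtCore

namespace Groth.Agent.S14449

/-- Let X be a scheme, i : Z ⟶ X a closed immersion and j : U ⟶ X an open immersion whose image is the
complement of the image of i. Then the functor from abelian sheaves on the small étale site of X to
the category of triples (G on Z, H on U, φ : G ⟶ i⁻¹ j_* H), sending F to (i⁻¹ F, j⁻¹ F, i⁻¹ of the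
unit F ⟶ j_* j⁻¹ F), is an equivalence of categories. The category of triples is the comma category
of the identity functor of Ab(Z) over j_* ⋙ i⁻¹. -/
theorem result {X Z U : Scheme.{u}}
    (i : Z ⟶ X) [IsClosedImmersion i] (j : U ⟶ X) [IsOpenImmersion j]
    (hZU : Set.range j.base = (Set.range i.base)ᶜ) :
    (EtCore.recollTriple i j).IsEquivalence := by
  have hc : Set.range i.base = (Set.range j.base)ᶜ := by rw [hZU, compl_compl]
  haveI := (Groth.Agent.S0067.result i).1
  haveI := (Groth.Agent.S0067.result i).2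
  haveI : IsIso (EtCoh.pullPushAdj i).counit := inferInstance
  haveI : IsIso (EtCoh.pullPushAdj j).counit := NatIso.isIso_of_isIso_app _
  have hJI : ∀ C : EtCoh.Ab Z, IsZero ((EtCoh.pull j).obj ((EtCoh.push i).obj C)) := by
    intro C
    exact IsZero.of_iso (Groth.Agent.Lib.Helper70.Recoll.isZero_restr_push j i hc C)
      ((Groth.Agent.Lib.Helper47.EtRestr.pullIsoRestr j).app ((EtCoh.push i).obj C))
  have hz : ∀ G : EtCoh.Ab X, IsZero ((EtCoh.pull j).obj G) → IsZero ((EtCoh.pull i).obj G) →
      IsZero G := by
    intro G h1 h2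
    exact Groth.Agent.Lib.Helper70.Recoll.isZero_of_restr_of_pull j i hc G
      (IsZero.of_iso h1 ((Groth.Agent.Lib.Helper47.EtRestr.pullIsoRestr j).app G).symm) h2
  have hcons : ∀ {F G : EtCoh.Ab X} (f : F ⟶ G), IsIso ((EtCoh.pull i).map f) →
      IsIso ((EtCoh.pull j).map f) → IsIso f := by
    intro F G f h1 h2
    exact Groth.Agent.Lib.Helper70.Recoll.isIso_of_jointly (EtCoh.pull j) (EtCoh.pull i) hz f h2 h1
  exact Groth.Agent.Lib.Helper70.RecollEquiv.isEquivalence_T (EtCoh.pullPushAdj i) (EtCoh.pullPushAdj j) hJI hcons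

end Groth.Agent.S14449
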