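import Groth.Statements.S14451
import Groth.Agent.Lib.Cohomology.helper5_AdjEdge

set_option autoImplicit false
universe u
open CategoryTheory CategoryTheory.Limits AlgebraicGeometry
open EtCore

namespace Groth.Agent.S14451

open Groth.Agent.Lib.Cohomology Groth.Agent.Lib.Cohomology.ExtShift

instance {X Y : Scheme.{u}} (f : X ⟶ Y) : PreservesFiniteLimits (EtCoh.push f) := by
  have : PreservesLimitsOfSize.{0, 0} (EtCoh.push f) :=
    (EtCoh.pullPushAdj f).rightAdjoint_preservesLimits
  exact PreservesLimitsOfSize.preservesFiniteLimits _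


/-- Let f : X ⟶ Y be a morphism of schemes and F an abelian sheaf on the small étale site of X whose
higher direct images R^q f_* F vanish for all q > 0. Then for every p the canonical map H^p(Y, f_*
F) → H^p(X, F) (pull back along f, then apply the counit f⁻¹ f_* F ⟶ F) is bijective. (Exactness of
f⁻¹, which always holds, is carried as an instance hypothesis.) -/
theorem result {X Y : Scheme.{u}} (f : X ⟶ Y)
    [PreservesFiniteLimits (EtCoh.pull f)] (F : EtCoh.Ab X)
    (hR : ∀ q : ℕ, 0 < q → IsZero ((EtCoh.Rpush f q).obj F)) (p : ℕ) :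
    Function.Bijective (EtLim.HofPush f F p) := by
  have hb := AdjEdge.E_bijective.{u+1, u+1} (EtCoh.pullPushAdj f) (pullConst f ℤ).inv
    (fun G => ∀ q : ℕ, IsZero ((EtCoh.Rpush f (q + 1)).obj G))
    (fun G hG => ⟨RDShift.map_shortExact_of_isZero (injSES_shortExact G) (EtCoh.push f) (hG 0),
      fun q => RDShift.isZero_rightDerived_X₃ (injSES_shortExact G) (EtCoh.push f) q (hG (q + 1))⟩)
    F (fun q => hR (q + 1) (Nat.succ_pos q)) p
  exact hb

end Groth.Agent.S14451
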