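import Groth.Statements.S14453
import Mathlib
import Groth.Agent.Lib.Helper11.SmallEtOpens

set_option autoImplicit false
set_option linter.style.haveILetI false
set_option linter.unusedSimpArgs false
universe w u
open CategoryTheory AlgebraicGeometry
open EtCore

namespace Groth.Agent.S14453

open Groth.Agent.Lib.Helper11.SmallEtOpens CategoryTheory.Limits

variable {X : Scheme.{u}}

section Pb

variable {U V Y : X.Etale} (g : V ⟶ U) (f : Y ⟶ U)

/-- a by-hand fibre product in `X.Etale` -/
noncomputable def pb : X.Etale :=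
  Scheme.Etale.mk (pullback.snd g.left f.left ≫ Y.hom)

noncomputable def pbSnd : pb g f ⟶ Y :=
  MorphismProperty.Over.homMk (pullback.snd g.left f.left) rfl trivial

lemma pbSnd_left : (pbSnd g f).left = pullback.snd g.left f.left := rfl

lemma pbFst_w : pullback.fst g.left f.left ≫ V.hom = pullback.snd g.left f.left ≫ Y.hom := by
  have hg : g.left ≫ U.hom = V.hom := Over.w g.hom
  have hf : f.left ≫ U.hom = Y.hom := Over.w f.hom
  have hc : pullback.fst g.left f.left ≫ g.left = pullback.snd g.left f.left ≫ f.left :=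
    pullback.condition
  have e1 : pullback.fst g.left f.left ≫ V.hom =
      (pullback.fst g.left f.left ≫ g.left) ≫ U.hom := by
    rw [Category.assoc, hg]
  have e2 : pullback.snd g.left f.left ≫ Y.hom =
      (pullback.snd g.left f.left ≫ f.left) ≫ U.hom := by
    rw [Category.assoc, hf]
  exact e1.trans ((congrArg (fun t => t ≫ U.hom) hc).trans e2.symm)

noncomputable def pbFst : pb g f ⟶ V :=
  MorphismProperty.Over.homMk (pullback.fst g.left f.left) (pbFst_w g f) trivial

lemma pb_condition : pbFst g f ≫ g = pbSnd g f ≫ f :=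
  hom_ext' pullback.condition

variable {g f} in
lemma left_eq {W : X.Etale} {a : W ⟶ V} {h : W ⟶ Y} (e : a ≫ g = h ≫ f) :
    a.left ≫ g.left = h.left ≫ f.left :=
  congrArg (fun t => t.left) e

variable {g f} in
lemma pbLift_w {W : X.Etale} (a : W ⟶ V) (h : W ⟶ Y) (e : a ≫ g = h ≫ f) :
    pullback.lift a.left h.left (left_eq e) ≫ pullback.snd g.left f.left ≫ Y.hom = W.hom := by
  have e1 : pullback.lift a.left h.left (left_eq e) ≫ pullback.snd g.left f.left = h.left :=
    pullback.lift_snd _ _ _
  have hh : h.left ≫ Y.hom = W.hom := Over.w h.hom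
  have e2 : pullback.lift a.left h.left (left_eq e) ≫ pullback.snd g.left f.left ≫ Y.hom =
      (pullback.lift a.left h.left (left_eq e) ≫ pullback.snd g.left f.left) ≫ Y.hom := by
    rw [Category.assoc]
  exact e2.trans ((congrArg (fun t => t ≫ Y.hom) e1).trans hh)

variable {g f} in
noncomputable def pbLift {W : X.Etale} (a : W ⟶ V) (h : W ⟶ Y) (e : a ≫ g = h ≫ f) : W ⟶ pb g f :=
  MorphismProperty.Over.homMk (pullback.lift a.left h.left (left_eq e)) (pbLift_w a h e) trivial

variable {g f} in
lemma pbLift_snd {W : X.Etale} (a : W ⟶ V) (h : W ⟶ Y) (e : a ≫ g = h ≫ f) :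
    pbLift a h e ≫ pbSnd g f = h :=
  hom_ext' (pullback.lift_snd _ _ _)

lemma pullback_generate_singleton :
    (Sieve.generate (Presieve.singleton g)).pullback f =
      Sieve.generate (Presieve.singleton (pbSnd g f)) := by
  apply le_antisymm
  · intro W h hh
    obtain ⟨Z, a, b, ⟨⟩, e⟩ := hh
    exact ⟨pb g f, pbLift a h e, pbSnd g f, Presieve.singleton.mk, pbLift_snd a h e⟩
  · rw [Sieve.generate_le_iff]
    rintro W h ⟨⟩
    exact ⟨V, pbFst g f, g, Presieve.singleton.mk, pb_condition g f⟩

end Pb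

section Main

variable (F : X.Etaleᵒᵖ ⥤ Type w)

theorem mem_finest_of_affine (hzar : Presieve.IsSheaf (zar X) F)
    (hff : ∀ (U V : X.Etale) [IsAffine U.left] [IsAffine V.left] (f : V ⟶ U) [Surjective f.left],
      Presieve.IsSheafFor F (Presieve.singleton f))
    {U V : X.Etale} [IsAffine U.left] [IsAffine V.left] (g : V ⟶ U) [Surjective g.left] :
    Sieve.generate (Presieve.singleton g) ∈ Sheaf.finestTopologySingle F U := by
  intro Y f
  apply (affHC Y).isSheafFor_sieve_of_pullback hzar
  · intro i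
    rw [← Sieve.pullback_comp, pullback_generate_singleton, ← Presieve.isSheafFor_iff_generate]
    haveI : IsAffine ((affHC Y).X i).left := isAffine_affHC_X Y i
    haveI : IsAffine (pb g ((affHC Y).f i ≫ f)).left :=
      (inferInstance : IsAffine (pullback g.left ((affHC Y).f i ≫ f).left))
    haveI : Surjective (pbSnd g ((affHC Y).f i ≫ f)).left :=
      (inferInstance : Surjective (pullback.snd g.left ((affHC Y).f i ≫ f).left))
    exact hff _ _ (pbSnd g ((affHC Y).f i ≫ f))
  · intro i j k
    rw [← Sieve.pullback_comp, pullback_generate_singleton, ← Presieve.isSeparatedFor_iff_generate]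
    apply Presieve.IsSheafFor.isSeparatedFor
    haveI : IsAffine ((affHC Y).Y k).left := isAffine_affHC_Y Y k
    haveI : IsAffine (pb g (((affHC Y).p₁ k ≫ (affHC Y).f i) ≫ f)).left :=
      (inferInstance : IsAffine (pullback g.left (((affHC Y).p₁ k ≫ (affHC Y).f i) ≫ f).left))
    haveI : Surjective (pbSnd g (((affHC Y).p₁ k ≫ (affHC Y).f i) ≫ f)).left :=
      (inferInstance : Surjective (pullback.snd g.left (((affHC Y).p₁ k ≫ (affHC Y).f i) ≫ f).left))
    exact hff _ _ (pbSnd g (((affHC Y).p₁ k ≫ (affHC Y).f i) ≫ f))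

theorem mem_finest_of_affine_et (hzar : Presieve.IsSheaf (zar X) F)
    (hff : ∀ (U V : X.Etale) [IsAffine U.left] [IsAffine V.left] (f : V ⟶ U) [Surjective f.left],
      Presieve.IsSheafFor F (Presieve.singleton f))
    (U : X.Etale) [IsAffine U.left] (R : Sieve U) (hR : R ∈ X.smallEtaleTopology U) :
    R ∈ Sheaf.finestTopologySingle F U := by
  set T := Sheaf.finestTopologySingle F with hT
  have hzT : zar X ≤ T := fun U S hS Y f => hzar _ ((zar X).pullback_stable f hS)
  rw [mem_et_iff] at hR
  choose Y f y hRf hy using hR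
  have hA : ∀ x, ∃ A : (Y x).left.Opens, IsAffineOpen A ∧ y x ∈ A := fun x => by
    obtain ⟨_, ⟨V, hV, rfl⟩, hxV, -⟩ :=
      (Y x).left.isBasis_affineOpens.exists_subset_of_mem_open (Set.mem_univ (y x)) isOpen_univ
    exact ⟨V, hV, hxV⟩
  choose A hAaff hyA using hA
  let O : U.left → Set U.left := fun x => (f x).left '' (A x : Set (Y x).left)
  have hO : ∀ x, IsOpen (O x) := fun x => (f x).left.isOpenMap _ (A x).2
  have hxO : ∀ x, x ∈ O x := fun x => ⟨y x, hyA x, hy x⟩
  obtain ⟨t, ht⟩ := isCompact_univ.elim_finite_subcover O hO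
    (fun x _ => Set.mem_iUnion.2 ⟨x, hxO x⟩)
  let Ym : (↥t) → X.Etale := fun m => opn (Y m.1) (A m.1)
  let fm : ∀ m : ↥t, Ym m ⟶ U := fun m => opnι (Y m.1) (A m.1) ≫ f m.1
  haveI : Etale (Sigma.desc fun m : ↥t => (Ym m).hom) :=
    IsZariskiLocalAtSource.sigmaDesc (fun m => inferInstance)
  let V : X.Etale := Scheme.Etale.mk (Sigma.desc fun m : ↥t => (Ym m).hom)
  let ιm : ∀ m : ↥t, Ym m ⟶ V := fun m =>
    MorphismProperty.Over.homMk (Sigma.ι (fun m : ↥t => (Ym m).left) m)
      (Sigma.ι_desc _ _) trivial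
  have hgw : Sigma.desc (fun m : ↥t => (fm m).left) ≫ U.hom = V.hom := by
    apply Sigma.hom_ext
    intro m
    rw [Sigma.ι_desc_assoc]
    have h1 : (fm m).left ≫ U.hom = (Ym m).hom := Over.w (fm m).hom
    have h2 : Sigma.ι (fun m : ↥t => (Ym m).left) m ≫ V.hom = (Ym m).hom := Sigma.ι_desc _ _
    rw [h1, h2]
  let g : V ⟶ U := MorphismProperty.Over.homMk (Sigma.desc fun m : ↥t => (fm m).left) hgw trivial
  have hιg : ∀ m, ιm m ≫ g = fm m := fun m => hom_ext' (Sigma.ι_desc _ _)
  haveI : ∀ m : ↥t, IsAffine (Ym m).left := fun m => hAaff m.1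
  haveI : IsAffine V.left := (inferInstance : IsAffine (∐ fun m : ↥t => (Ym m).left))
  haveI : Surjective g.left := ⟨fun x => by
    have hx := ht (Set.mem_univ x)
    simp only [Set.mem_iUnion] at hx
    obtain ⟨m, hm, yy, hyy, rfl⟩ := hx
    refine ⟨(ιm ⟨m, hm⟩).left ⟨yy, hyy⟩, ?_⟩
    have e := congrArg (fun t => t.left) (hιg ⟨m, hm⟩)
    have e2 : (ιm ⟨m, hm⟩).left ≫ g.left = (fm ⟨m, hm⟩).left := e
    have e3 := congrArg (fun φ => φ.base (⟨yy, hyy⟩ : ((Ym ⟨m, hm⟩).left))) e2
    exact e3⟩
  have hSg : Sieve.generate (Presieve.singleton g) ∈ T U := mem_finest_of_affine F hzar hff g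
  apply T.transitive hSg
  intro W h hh
  obtain ⟨Z, a, b, ⟨⟩, rfl⟩ := hh
  rw [Sieve.pullback_comp]
  apply T.pullback_stable
  have hcov : Sieve.ofArrows Ym ιm ∈ zar X V := by
    rw [mem_zar_iff]
    intro v
    obtain ⟨m, yy, hyy⟩ := (sigmaOpenCover fun m : ↥t => (Ym m).left).exists_eq v
    exact ⟨Ym m, ιm m, yy, Sieve.ofArrows_mk _ _ m,
      (inferInstance : IsOpenImmersion (Sigma.ι (fun m : ↥t => (Ym m).left) m)), hyy⟩
  apply T.transitive (hzT _ hcov)
  intro W' h' hh'
  obtain ⟨Z', a', b', ⟨m⟩, rfl⟩ := hh'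
  rw [Sieve.pullback_comp]
  apply T.pullback_stable
  rw [← Sieve.pullback_comp, hιg]
  have hRm : R (fm m) := R.downward_closed (hRf m.1) _
  rw [Sieve.pullback_eq_top_of_mem _ hRm]
  exact T.top_mem _

theorem et_le_finest (hzar : Presieve.IsSheaf (zar X) F)
    (hff : ∀ (U V : X.Etale) [IsAffine U.left] [IsAffine V.left] (f : V ⟶ U) [Surjective f.left],
      Presieve.IsSheafFor F (Presieve.singleton f)) :
    X.smallEtaleTopology ≤ Sheaf.finestTopologySingle F := by
  set T := Sheaf.finestTopologySingle F with hT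
  have hzT : zar X ≤ T := fun U S hS Y f => hzar _ ((zar X).pullback_stable f hS)
  intro U R hR
  apply T.transitive (hzT _ (affHC U).mem₀)
  intro Y h hh
  obtain ⟨Z, a, b, ⟨i⟩, rfl⟩ := hh
  rw [Sieve.pullback_comp]
  apply T.pullback_stable
  haveI : IsAffine ((affHC U).X i).left := isAffine_affHC_X U i
  exact mem_finest_of_affine_et F hzar hff _ _ (X.smallEtaleTopology.pullback_stable _ hR)

end Main

/-- Let X be a scheme and F a presheaf of sets on the small étale site of X. Then F is an étale sheaf if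
and only if F is a sheaf for the Zariski topology on the same category (coverings are jointly
surjective families of open immersions between étale X-schemes) and, for every morphism f : V ⟶ U of
étale X-schemes with U and V affine and f surjective, F satisfies the sheaf condition for the single
arrow f. -/
theorem result (X : Scheme.{u})
    (F : X.Etaleᵒᵖ ⥤ Type w) :
    Presieve.IsSheaf X.smallEtaleTopology F ↔
      Presieve.IsSheaf (X.smallGrothendieckTopology (P := @IsOpenImmersion)) F ∧
        ∀ (U V : X.Etale) [IsAffine U.left] [IsAffine V.left] (f : V ⟶ U) [Surjective f.left],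
          Presieve.IsSheafFor F (Presieve.singleton f) := by
  constructor
  · intro hF
    refine ⟨Presieve.isSheaf_of_le F zar_le_et hF, ?_⟩
    intro U V _ _ f _
    rw [Presieve.isSheafFor_iff_generate]
    apply hF
    rw [mem_et_iff]
    intro x
    obtain ⟨y, hy⟩ := f.left.surjective x
    exact ⟨V, f, y, ⟨V, 𝟙 V, f, Presieve.singleton.mk, Category.id_comp f⟩, hy⟩
  · rintro ⟨hzar, hff⟩
    have hle := et_le_finest F hzar hff
    intro U S hS
    have h := hle U hS U (𝟙 U)
    rwa [Sieve.pullback_id] at h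

end Groth.Agent.S14453
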