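import Groth.Statements.S14456
import Mathlib
-- import your own Groth.Agent.* helpers here

set_option autoImplicit false
universe u
open CAlg

namespace Groth.Agent.S14456

section
open TensorProduct

variable {A B : Type u} [CommRing A] [CommRing B] [Algebra A B]
  (M : Type u) [AddCommGroup M] [Module B M] [Module A M] [IsScalarTower A B M]

/-- `M ⊗[A] N` is a finite `B`-module when `M` is finite over `B` and `N` finite over `A`. -/
theorem finite_tensor [Module.Finite B M] (N : Type u) [AddCommGroup N] [Module A N]
    [Module.Finite A N] : Module.Finite B (M ⊗[A] N) := by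
  classical
  obtain ⟨k, π, hπ⟩ := Module.Finite.exists_fin' A N
  have h1 : Module.Finite B (M ⊗[A] (Fin k → A)) :=
    Module.Finite.equiv (TensorProduct.piScalarRight A B M (Fin k)).symm
  refine Module.Finite.of_surjective (AlgebraTensorModule.lTensor B M π) ?_
  exact LinearMap.lTensor_surjective M hπ

end

/-- Take a local homomorphism A → B between Noetherian local rings, M a finitely generated B-module and
f an element of the maximal ideal of B. If M/f^(n+1)M is flat over A for every n ≥ 0, then M is flat
over A. -/
theorem result {A B : Type u} [CommRing A] [CommRing B]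
    [IsNoetherianRing A] [IsNoetherianRing B] [IsLocalRing A] [IsLocalRing B] [Algebra A B]
    [IsLocalHom (algebraMap A B)] (M : Type u) [AddCommGroup M] [Module B M] [Module A M]
    [IsScalarTower A B M] [Module.Finite B M] (f : B) (hf : f ∈ IsLocalRing.maximalIdeal B)
    (hflat : ∀ n : ℕ, Module.Flat A (M ⧸ (Ideal.span {f ^ (n + 1)} • (⊤ : Submodule B M)))) :
    Module.Flat A M := by
  rw [Module.Flat.iff_lTensor_injective]
  intro I hI
  rw [injective_iff_map_eq_zero]
  intro x hx
  have hfinI : Module.Finite A I := Module.Finite.iff_fg.2 hI
  have hfin : Module.Finite B (TensorProduct A M I) := finite_tensor M I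
  have hne : (Ideal.span {f} : Ideal B) ≠ ⊤ := by
    intro h
    have : (Ideal.span {f} : Ideal B) ≤ IsLocalRing.maximalIdeal B :=
      (Ideal.span_singleton_le_iff_mem _).2 hf
    rw [h] at this
    exact (IsLocalRing.maximalIdeal.isMaximal B).ne_top (top_le_iff.1 this)
  have hkrull := Ideal.iInf_pow_smul_eq_bot_of_isLocalRing (M := TensorProduct A M I)
    (Ideal.span {f} : Ideal B) hne
  have hmem : x ∈ (⨅ i : ℕ, (Ideal.span {f} : Ideal B) ^ i • ⊤ :
      Submodule B (TensorProduct A M I)) := by
    rw [Submodule.mem_iInf]
    intro n
    cases n with
    | zero => simp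
    | succ n =>
      set Kn : Submodule B M := Ideal.span {f ^ (n + 1)} • (⊤ : Submodule B M) with hKn
      have hflatn := hflat n
      let qn : M →ₗ[A] M ⧸ Kn := Kn.mkQ.restrictScalars A
      let jn : Kn →ₗ[A] M := Kn.subtype.restrictScalars A
      have hy : LinearMap.rTensor I qn x = 0 := by
        have hinj := Module.Flat.lTensor_preserves_injective_linearMap (M := M ⧸ Kn) I.subtype
          (Submodule.subtype_injective I)
        apply hinj
        rw [map_zero, ← LinearMap.comp_apply, LinearMap.lTensor_comp_rTensor,
          ← LinearMap.rTensor_comp_lTensor, LinearMap.comp_apply, hx, map_zero]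
      have hex : Function.Exact jn qn := LinearMap.exact_subtype_mkQ Kn
      have hsurj : Function.Surjective qn := Kn.mkQ_surjective
      have hall : ∀ z : TensorProduct A Kn I, LinearMap.rTensor I jn z ∈
          ((Ideal.span {f} : Ideal B) ^ (n + 1) • ⊤ : Submodule B (TensorProduct A M I)) := by
        intro z
        induction z using TensorProduct.induction_on with
        | zero => rw [map_zero]; exact Submodule.zero_mem _
        | tmul k i =>
          rw [LinearMap.rTensor_tmul]
          obtain ⟨k, hk⟩ := k
          rw [hKn, Submodule.ideal_span_singleton_smul,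
            Submodule.mem_smul_pointwise_iff_exists] at hk
          obtain ⟨m, -, rfl⟩ := hk
          change (f ^ (n + 1) • m) ⊗ₜ[A] i ∈ _
          rw [← TensorProduct.smul_tmul']
          exact Submodule.smul_mem_smul (Ideal.pow_mem_pow (Ideal.mem_span_singleton_self f) _)
            Submodule.mem_top
        | add z w hz hw =>
          rw [map_add]
          exact Submodule.add_mem _ hz hw
      obtain ⟨z, rfl⟩ := (rTensor_exact I hex hsurj x).1 hy
      exact hall z
  rw [hkrull] at hmem
  exact hmem

end Groth.Agent.S14456
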