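import Groth.Statements.S14457
import Mathlib
-- import your own Groth.Agent.* helpers here

set_option autoImplicit false
universe u
open CAlg

namespace Groth.Agent.S14457

open Polynomial

theorem cond_of_unit {A : Type u} [CommRing A] (a : A) (n : ℕ) (hn : 1 ≤ n)
    (h : n = 1 ∨ IsUnit ((n : A) * a)) :
    ∃ p₁ p₂ : A[X], derivative ((X : A[X]) ^ n - C a) * p₁ + (X ^ n - C a) * p₂ = 1 := by
  rcases h with rfl | ⟨u, hu⟩
  · exact ⟨1, 0, by simp⟩
  · refine ⟨C (↑u⁻¹ : A) * X, - (C (↑u⁻¹ : A) * C (n : A)), ?_⟩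
    have hu' : (↑u⁻¹ : A) * ((n : A) * a) = 1 := by rw [← hu]; exact u.inv_mul
    have h1 : C (↑u⁻¹ : A) * (C (n : A) * C a) = 1 := by rw [← C_mul, ← C_mul, hu', C_1]
    obtain ⟨m, rfl⟩ : ∃ m, n = m + 1 := ⟨n - 1, by omega⟩
    simp only [derivative_sub, derivative_X_pow, derivative_C, sub_zero, Nat.add_sub_cancel]
    linear_combination h1

theorem etale_of_cond {A : Type u} [CommRing A] (f : A[X]) (hf : f.Monic)
    (h : ∃ p₁ p₂ : A[X], derivative f * p₁ + f * p₂ = 1) : Algebra.Etale A (AdjoinRoot f) := by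
  obtain ⟨p₁, p₂, e⟩ := h
  let P : StandardEtalePair A := ⟨f, hf, 1, ⟨p₁, p₂, 0, by simpa using e⟩⟩
  have hmap : P.HasMap (AdjoinRoot.root f) :=
    ⟨by change aeval (AdjoinRoot.root f) f = 0; rw [AdjoinRoot.aeval_eq, AdjoinRoot.mk_self],
     by change IsUnit (aeval (AdjoinRoot.root f) (1 : A[X])); simp⟩
  let φ : P.Ring →ₐ[A] AdjoinRoot f := P.lift _ hmap
  let ψ : AdjoinRoot f →ₐ[A] P.Ring := AdjoinRoot.liftAlgHom _ _ P.X P.hasMap_X.1
  have hψ : ψ (AdjoinRoot.root f) = P.X := AdjoinRoot.liftAlgHom_root _ _ _ _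
  have hφ : φ P.X = AdjoinRoot.root f := P.lift_X _ hmap
  have e : P.Ring ≃ₐ[A] AdjoinRoot f :=
    AlgEquiv.ofAlgHom φ ψ
      (AdjoinRoot.algHom_ext (by rw [AlgHom.comp_apply, hψ, hφ]; rfl))
      (P.hom_ext (by rw [AlgHom.comp_apply, hφ, hψ]; rfl))
  exact Algebra.Etale.of_equiv e

theorem ker_sq {R : Type u} [CommRing R] (y z : DualNumber R) (hy : TrivSqZeroExt.fst y = 0)
    (hz : TrivSqZeroExt.fst z = 0) : y * z = 0 := by
  ext <;> simp [hy, hz]

theorem dual_aux {R : Type u} [CommRing R] (t : R)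
    (h : (TrivSqZeroExt.inl t : DualNumber R) = TrivSqZeroExt.inl t + DualNumber.eps) :
    (1 : R) = 0 := by
  have := congrArg TrivSqZeroExt.snd h
  simpa using this.symm

theorem isUnit_deriv_of_unramified {A : Type u} [CommRing A] (f : A[X])
    [Algebra.FormallyUnramified A (AdjoinRoot f)] :
    IsUnit (AdjoinRoot.mk f (derivative f)) := by
  obtain ⟨J, hJ⟩ : ∃ J : Ideal (AdjoinRoot f), J = Ideal.span {AdjoinRoot.mk f (derivative f)} :=
    ⟨_, rfl⟩
  let T : AdjoinRoot f ⧸ J := Ideal.Quotient.mk J (AdjoinRoot.root f)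
  have hT0 : aeval T f = 0 := by
    have : aeval T f = Ideal.Quotient.mkₐ A J (aeval (AdjoinRoot.root f) f) :=
      (aeval_algHom_apply (Ideal.Quotient.mkₐ A J) (AdjoinRoot.root f) f)
    rw [this, AdjoinRoot.aeval_eq, AdjoinRoot.mk_self, map_zero]
  have hT1 : aeval T (derivative f) = 0 := by
    have : aeval T (derivative f)
        = Ideal.Quotient.mkₐ A J (aeval (AdjoinRoot.root f) (derivative f)) :=
      (aeval_algHom_apply (Ideal.Quotient.mkₐ A J) (AdjoinRoot.root f) (derivative f))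
    rw [this, AdjoinRoot.aeval_eq, Ideal.Quotient.mkₐ_eq_mk, Ideal.Quotient.eq_zero_iff_mem, hJ]
    exact Ideal.subset_span rfl
  let S := DualNumber (AdjoinRoot f ⧸ J)
  let x₁ : S := TrivSqZeroExt.inl T
  let x₂ : S := TrivSqZeroExt.inl T + DualNumber.eps
  have hx₁ : aeval x₁ f = 0 := by
    have : aeval x₁ f = TrivSqZeroExt.inlAlgHom A _ _ (aeval T f) :=
      (aeval_algHom_apply (TrivSqZeroExt.inlAlgHom A (AdjoinRoot f ⧸ J) (AdjoinRoot f ⧸ J)) T f)
    rw [this, hT0, map_zero]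
  have hx₁' : aeval x₁ (derivative f) = 0 := by
    have : aeval x₁ (derivative f) = TrivSqZeroExt.inlAlgHom A _ _ (aeval T (derivative f)) :=
      (aeval_algHom_apply (TrivSqZeroExt.inlAlgHom A (AdjoinRoot f ⧸ J) (AdjoinRoot f ⧸ J)) T _)
    rw [this, hT1, map_zero]
  have hx₂ : aeval x₂ f = 0 := by
    have := Polynomial.aeval_add_of_sq_eq_zero (R := A) f x₁ (DualNumber.eps : S)
      (by rw [sq, DualNumber.eps_mul_eps])
    rw [this, hx₁, hx₁', zero_mul, add_zero]
  let g₁ : AdjoinRoot f →ₐ[A] S := AdjoinRoot.liftAlgHom f (Algebra.ofId A S) x₁ hx₁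
  let g₂ : AdjoinRoot f →ₐ[A] S := AdjoinRoot.liftAlgHom f (Algebra.ofId A S) x₂ hx₂
  have hker : IsNilpotent (RingHom.ker
      (TrivSqZeroExt.fstHom A (AdjoinRoot f ⧸ J) (AdjoinRoot f ⧸ J) : S →+* (AdjoinRoot f ⧸ J))) := by
    refine ⟨2, ?_⟩
    rw [Ideal.zero_eq_bot, eq_bot_iff]
    rw [show (2 : ℕ) = 1 + 1 from rfl, Submodule.pow_succ, Submodule.pow_one]
    rw [Ideal.mul_le]
    intro y hy z hz
    rw [RingHom.mem_ker] at hy hz
    have hy' : y.fst = 0 := hy
    have hz' : z.fst = 0 := hz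
    rw [Ideal.mem_bot]
    exact ker_sq y z hy' hz'
  have hg₁ : g₁ (AdjoinRoot.root f) = x₁ := AdjoinRoot.liftAlgHom_root _ _ _ _
  have hg₂ : g₂ (AdjoinRoot.root f) = x₂ := AdjoinRoot.liftAlgHom_root _ _ _ _
  have hcomp : (TrivSqZeroExt.fstHom A (AdjoinRoot f ⧸ J) (AdjoinRoot f ⧸ J)).comp g₁
      = (TrivSqZeroExt.fstHom A (AdjoinRoot f ⧸ J) (AdjoinRoot f ⧸ J)).comp g₂ := by
    apply AdjoinRoot.algHom_ext
    rw [AlgHom.comp_apply, AlgHom.comp_apply, hg₁, hg₂]
    change T = TrivSqZeroExt.fst (TrivSqZeroExt.inl T + DualNumber.eps : DualNumber (AdjoinRoot f ⧸ J))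
    simp
  have hg : g₁ = g₂ :=
    Algebra.FormallyUnramified.ext' _ hker g₁ g₂ (fun b => AlgHom.congr_fun hcomp b)
  have h12 : x₁ = x₂ := by
    have := AlgHom.congr_fun hg (AdjoinRoot.root f)
    rwa [hg₁, hg₂] at this
  have h10 : (1 : AdjoinRoot f ⧸ J) = 0 := by
    exact dual_aux T h12
  have : J = ⊤ := by
    rw [← Ideal.Quotient.subsingleton_iff]
    exact subsingleton_of_zero_eq_one h10.symm
  rw [hJ, Ideal.span_singleton_eq_top] at this
  exact this

theorem isUnit_of_isUnit_algebraMap {A : Type u} [CommRing A] (f : A[X]) (hf : f.Monic)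
    (hd : f.natDegree ≠ 0) (c : A) (hc : IsUnit (algebraMap A (AdjoinRoot f) c)) : IsUnit c := by
  have h1 := hc.map (Algebra.norm A)
  rw [Algebra.norm_algebraMap_of_basis (AdjoinRoot.powerBasis' hf).basis] at h1
  simp only [Fintype.card_fin, AdjoinRoot.powerBasis'_dim] at h1
  exact (isUnit_pow_iff hd).mp h1

open Polynomial in
/-- Let A be a commutative ring, a an element of A and n ≥ 1 an integer. The A-algebra A[T]/(T^n − a) is
etale exactly when either n = 1 or the product n·a is a unit of A. (The exponent n is a positive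
integer here; for n = 0 the quotient is (A/(1 − a))[T] and the equivalence fails.) -/
theorem result (A : Type u) [CommRing A] (a : A) (n : ℕ) (hn : 1 ≤ n) :
    Algebra.Etale A (AdjoinRoot ((X : A[X]) ^ n - C a)) ↔ n = 1 ∨ IsUnit ((n : A) * a) := by
  have hmonic : ((X : A[X]) ^ n - C a).Monic := monic_X_pow_sub_C a (by omega)
  constructor
  · intro hE
    by_cases h1 : n = 1
    · exact Or.inl h1
    · right
      rcases subsingleton_or_nontrivial A with hA | hA
      · exact isUnit_of_subsingleton _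
      have hdeg : ((X : A[X]) ^ n - C a).natDegree = n := natDegree_X_pow_sub_C
      have hU := isUnit_deriv_of_unramified ((X : A[X]) ^ n - C a)
      apply isUnit_of_isUnit_algebraMap _ hmonic (by rw [hdeg]; omega)
      obtain ⟨m, rfl⟩ : ∃ m, n = m + 2 := ⟨n - 2, by omega⟩
      have hder : derivative ((X : A[X]) ^ (m + 2) - C a) = C ((m + 2 : ℕ) : A) * X ^ (m + 1) := by
        rw [derivative_sub, derivative_X_pow, derivative_C, sub_zero]
        rfl
      rw [hder] at hU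
      have hroot : AdjoinRoot.mk ((X : A[X]) ^ (m + 2) - C a) (X ^ (m + 2))
          = AdjoinRoot.mk _ (C a) := by
        rw [← sub_eq_zero, ← map_sub, AdjoinRoot.mk_self]
      -- algebraMap (n a) = mk f' * root
      have key : algebraMap A (AdjoinRoot ((X : A[X]) ^ (m + 2) - C a)) (((m + 2 : ℕ) : A) * a)
          = AdjoinRoot.mk _ (C ((m + 2 : ℕ) : A) * X ^ (m + 1)) * AdjoinRoot.mk _ X := by
        rw [← map_mul (AdjoinRoot.mk _), mul_assoc, ← pow_succ, map_mul (AdjoinRoot.mk _), hroot,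
          ← map_mul (AdjoinRoot.mk _), ← C_mul]
        rfl
      rw [key]
      have hdvd : AdjoinRoot.mk ((X : A[X]) ^ (m + 2) - C a) X
          ∣ AdjoinRoot.mk _ (C ((m + 2 : ℕ) : A) * X ^ (m + 1)) := by
        refine ⟨AdjoinRoot.mk _ (C ((m + 2 : ℕ) : A) * X ^ m), ?_⟩
        rw [← map_mul]
        congr 1
        rw [pow_succ]
        ring
      exact hU.mul (isUnit_of_dvd_unit hdvd hU)
  · intro h
    exact etale_of_cond _ hmonic (cond_of_unit a n hn h)

end Groth.Agent.S14457
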