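import Groth.Statements.S14458
import Mathlib.LinearAlgebra.TensorProduct.Quotient
import Mathlib.RingTheory.Ideal.Cotangent
-- import your own Groth.Agent.* helpers here

set_option autoImplicit false
universe u
open CAlg

namespace Groth.Agent.S14458

open TensorProduct in
/-- Let R be an Artinian local ring with residue field k and M an R-module, not necessarily finitely
generated. If M ⊗_R k = 0 then M = 0. -/
theorem result {R : Type u} [CommRing R]
    [IsArtinianRing R] [IsLocalRing R] (M : Type u) [AddCommGroup M] [Module R M]
    (h : Subsingleton ((IsLocalRing.ResidueField R) ⊗[R] M)) : Subsingleton M := by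
  classical
  -- M = 𝔪 M
  have h1 : (IsLocalRing.maximalIdeal R) • (⊤ : Submodule R M) = ⊤ := by
    have e := TensorProduct.quotTensorEquivQuotSMul M (IsLocalRing.maximalIdeal R)
    have : Subsingleton (M ⧸ (IsLocalRing.maximalIdeal R • (⊤ : Submodule R M))) := by
      have h' : Subsingleton ((R ⧸ IsLocalRing.maximalIdeal R) ⊗[R] M) := h
      exact e.symm.toEquiv.subsingleton
    exact Submodule.Quotient.subsingleton_iff.1 this
  -- hence M = 𝔪^n M for all n
  have h2 : ∀ n : ℕ, (IsLocalRing.maximalIdeal R) ^ n • (⊤ : Submodule R M) = ⊤ := by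
    intro n
    induction n with
    | zero => simp
    | succ n ih => rw [pow_succ, mul_smul, h1, ih]
  -- the maximal ideal is nilpotent
  obtain ⟨n, hn⟩ : IsNilpotent (IsLocalRing.maximalIdeal R) := by
    have := IsArtinianRing.isNilpotent_jacobson_bot (R := R)
    rwa [IsLocalRing.jacobson_eq_maximalIdeal _ bot_ne_top] at this
  have h3 := h2 n
  rw [hn] at h3
  have h4 : (⊤ : Submodule R M) = ⊥ := by
    rw [← h3]
    simp
  exact (Submodule.subsingleton_iff R).1 (subsingleton_of_bot_eq_top h4.symm)

end Groth.Agent.S14458
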