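import Groth.Statements.S14460
import Groth.Agent.Lib.Helper89.FiberFinite

set_option autoImplicit false
universe u
open CategoryTheory CategoryTheory.Limits AlgebraicGeometry
open Pi1

namespace Groth.Agent.S14460

/-- Let Y → X be finite étale with Y nonempty and all geometric fibres of the same cardinality n, and
let a finite group G act on Y over X without fixed points (no point of Y with values in a field is
fixed by a non-identity element). Then G has at most n elements, and it has exactly n elements if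
and only if the morphism from the disjoint union of copies of Y indexed by G to Y ×_X Y, given on
the copy indexed by g by the identity and g, is an isomorphism. (For Y empty the bound fails, since
every finite group acts without fixed points on the empty cover, whose fibres have cardinality 0;
this row assumes Y nonempty.) -/
theorem result {X : Scheme.{u}} (Y : FEt.Cat X)
    [Nonempty ↥Y.left] (n : ℕ)
    (hn : ∀ (Ω : Type u) [Field Ω] [IsSepClosed Ω] (ξ : Spec (CommRingCat.of Ω) ⟶ X), Nat.card (FEt.fiberObj ξ Y) = n)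
    (G : Type u) [Group G] [Finite G] (ρ : G →* Aut Y)
    (hfree : ∀ g : G, g ≠ 1 → ∀ (K : Type u) [Field K] (y : Spec (CommRingCat.of K) ⟶ Y.left),
      y ≫ (ρ g).hom.left ≠ y) :
    Nat.card G ≤ n ∧
      (Nat.card G = n ↔ IsIso (Limits.Sigma.desc fun g : G =>
        pullback.lift (𝟙 Y.left) (ρ g).hom.left
          ((Category.id_comp Y.hom).trans (Over.w (ρ g).hom.hom).symm) : (∐ fun _ : G => Y.left) ⟶ pullback Y.hom Y.hom)) := by
  have hfin : IsFinite Y.hom := Y.prop.1
  have het : Etale Y.hom := Y.prop.2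
  have hρmul : ∀ a b : G, (ρ (a * b)).hom.left = (ρ b).hom.left ≫ (ρ a).hom.left := by
    intro a b; rw [map_mul]; rfl
  have hρone : (ρ 1).hom.left = 𝟙 Y.left := by rw [map_one]; rfl
  have hρw : ∀ g : G, (ρ g).hom.left ≫ Y.hom = Y.hom := fun g => Over.w (ρ g).hom.hom
  have hfree' : ∀ (K : Type u) [Field K] (y : Spec (CommRingCat.of K) ⟶ Y.left) (g h : G),
      y ≫ (ρ g).hom.left = y ≫ (ρ h).hom.left → g = h := by
    intro K _ y g h hgh
    by_contra hne
    have hne' : h⁻¹ * g ≠ 1 := fun e => hne (inv_mul_eq_one.mp e).symm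
    apply hfree (h⁻¹ * g) hne' K y
    rw [hρmul, ← Category.assoc, hgh, Category.assoc, ← hρmul, inv_mul_cancel, hρone,
      Category.comp_id]
  -- orbit maps
  let orb : ∀ {Ω : Type u} [Field Ω] (ξ : Spec (CommRingCat.of Ω) ⟶ X) (s₀ : FEt.fiberObj ξ Y),
      G → FEt.fiberObj ξ Y := fun ξ s₀ g =>
    ⟨s₀.1 ≫ (ρ g).hom.left, by rw [Category.assoc, hρw, s₀.2]⟩
  have horb_inj : ∀ {Ω : Type u} [Field Ω] (ξ : Spec (CommRingCat.of Ω) ⟶ X)
      (s₀ : FEt.fiberObj ξ Y), Function.Injective (orb ξ s₀) := by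
    intro Ω _ ξ s₀ g h hgh
    exact hfree' Ω s₀.1 g h (congrArg Subtype.val hgh)
  -- a geometric point with nonempty fibre
  obtain ⟨y₀⟩ := (inferInstance : Nonempty ↥Y.left)
  obtain ⟨Ω₀, _, _, a₀, -, -⟩ := Groth.Agent.Lib.Helper89.SplitSections.exists_geom_point Y.left y₀
  let ξ₀ : Spec (CommRingCat.of Ω₀) ⟶ X := a₀ ≫ Y.hom
  let s₀ : FEt.fiberObj ξ₀ Y := ⟨a₀, rfl⟩
  have hfin₀ : Finite (FEt.fiberObj ξ₀ Y) :=
    Groth.Agent.Lib.Helper89.FiberFinite.finite_fiberObj ξ₀ Y
  refine ⟨?_, ?_, ?_⟩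
  · rw [← hn Ω₀ ξ₀]
    exact Nat.card_le_card_of_injective _ (horb_inj ξ₀ s₀)
  · intro hcard
    apply Groth.Agent.Lib.Helper89.SplitSections.isIso_sigmaDesc_of_sections
      (pullback.fst Y.hom Y.hom)
    · intro g
      exact pullback.lift_fst _ _ _
    · intro Ω _ _ y g h hgh
      apply hfree' Ω y g h
      have := congr($hgh ≫ pullback.snd Y.hom Y.hom)
      simpa only [Category.assoc, pullback.lift_snd] using this
    · intro Ω _ _ z
      let ξ : Spec (CommRingCat.of Ω) ⟶ X := (z ≫ pullback.fst Y.hom Y.hom) ≫ Y.hom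
      let s₁ : FEt.fiberObj ξ Y := ⟨z ≫ pullback.fst Y.hom Y.hom, rfl⟩
      let s₂ : FEt.fiberObj ξ Y := ⟨z ≫ pullback.snd Y.hom Y.hom, by
        simp only [ξ, Category.assoc]; rw [pullback.condition]⟩
      have hfinξ : Finite (FEt.fiberObj ξ Y) :=
        Groth.Agent.Lib.Helper89.FiberFinite.finite_fiberObj ξ Y
      have hbij : Function.Bijective (orb ξ s₁) :=
        (horb_inj ξ s₁).bijective_of_nat_card_le (by rw [hn Ω ξ, hcard])
      obtain ⟨g, hg⟩ := hbij.2 s₂
      refine ⟨g, ?_⟩
      apply pullback.hom_ext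
      · rw [Category.assoc, pullback.lift_fst]
        exact (Category.comp_id _).symm
      · rw [Category.assoc, pullback.lift_snd]
        exact (congrArg Subtype.val hg).symm
  · intro hiso
    rw [← hn Ω₀ ξ₀]
    refine Nat.card_eq_of_bijective (orb ξ₀ s₀) ⟨horb_inj ξ₀ s₀, fun s => ?_⟩
    let D : (∐ fun _ : G => Y.left) ⟶ pullback Y.hom Y.hom :=
      Limits.Sigma.desc fun g : G => pullback.lift (𝟙 Y.left) (ρ g).hom.left
        ((Category.id_comp Y.hom).trans (Over.w (ρ g).hom.hom).symm)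
    have hD : IsIso D := hiso
    let z : Spec (CommRingCat.of Ω₀) ⟶ pullback Y.hom Y.hom :=
      pullback.lift s₀.1 s.1 (s₀.2.trans s.2.symm)
    let w : Spec (CommRingCat.of Ω₀) ⟶ ∐ fun _ : G => Y.left := z ≫ inv D
    let cp : Spec (CommRingCat.of Ω₀) := (IsLocalRing.closedPoint Ω₀ : PrimeSpectrum Ω₀)
    obtain ⟨g, y, hy⟩ := (sigmaOpenCover (fun _ : G => Y.left)).exists_eq (w cp)
    have hsub : Set.range w ⊆ Set.range (Sigma.ι (fun _ : G => Y.left) g) :=
      Groth.Agent.Lib.Helper89.SplitCover.range_subset_of_mem w _ cp ⟨y, hy⟩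
    let c := IsOpenImmersion.lift (Sigma.ι (fun _ : G => Y.left) g) w hsub
    have hc : c ≫ Sigma.ι (fun _ : G => Y.left) g = w := IsOpenImmersion.lift_fac _ _ _
    have hz : z = c ≫ pullback.lift (𝟙 Y.left) (ρ g).hom.left
        ((Category.id_comp Y.hom).trans (Over.w (ρ g).hom.hom).symm) := by
      have : z = w ≫ D := by simp only [w, Category.assoc, IsIso.inv_hom_id, Category.comp_id]
      rw [this, ← hc, Category.assoc]
      congr 1
      exact Sigma.ι_desc _ _
    have h1 : s₀.1 = c := by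
      have := congr($hz ≫ pullback.fst Y.hom Y.hom)
      simpa only [z, Category.assoc, pullback.lift_fst, Category.comp_id] using this
    have h2 : s.1 = c ≫ (ρ g).hom.left := by
      have := congr($hz ≫ pullback.snd Y.hom Y.hom)
      simpa only [z, Category.assoc, pullback.lift_snd] using this
    refine ⟨g, Subtype.ext ?_⟩
    show s₀.1 ≫ (ρ g).hom.left = s.1
    rw [h2, h1]

end Groth.Agent.S14460
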