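import Groth.Statements.S14461
import Groth.Agent.Lib.Helper89.FEtFF
import Groth.Agent.Lib.Helper89.ClopenCC
import Mathlib.AlgebraicGeometry.Noetherian

set_option autoImplicit false
universe u
open CategoryTheory CategoryTheory.Limits AlgebraicGeometry
open Pi1

namespace Groth.Agent.S14461

/-- Let X be a Noetherian scheme and X₀ → X a closed immersion such that, for every finite étale Y → X,
the projection Y ×_X X₀ → Y induces a bijection on connected components. Then restriction of finite
étale covers from X to X₀ is full and faithful. -/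
theorem result {X X₀ : Scheme.{u}} [IsNoetherian X]
    (i : X₀ ⟶ X) [IsClosedImmersion i]
    (h : ∀ Y : FEt.Cat X, Function.Bijective (pullback.fst Y.hom i).continuous.connectedComponentsMap) :
    (FEt.restrict i).Full ∧ (FEt.restrict i).Faithful := by
  refine Groth.Agent.Lib.Helper89.FEtFF.full_faithful_of_clopen i
    (Groth.Agent.Lib.Helper89.FEtFF.clopenInj_of_pullback i ?_)
    (Groth.Agent.Lib.Helper89.FEtFF.clopenSurj_of_pullback i ?_)
  · intro W p _ _ R hR hpre
    exact Groth.Agent.Lib.Helper89.ClopenCC.eq_univ_of_preimage_eq_univ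
      (pullback.fst p i).continuous
      (h (MorphismProperty.Over.mk ⊤ p ⟨‹_›, ‹_›⟩)).2 hR hpre
  · intro W p _ _ T hT
    have : IsLocallyNoetherian W := LocallyOfFiniteType.isLocallyNoetherian p
    have : CompactSpace W := QuasiCompact.compactSpace_of_compactSpace p
    have : IsNoetherian W := {}
    exact Groth.Agent.Lib.Helper89.ClopenCC.exists_isClopen_preimage_eq
      (pullback.fst p i).continuous
      (h (MorphismProperty.Over.mk ⊤ p ⟨‹_›, ‹_›⟩)).1 hT

end Groth.Agent.S14461
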