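import Groth.Statements.S14478
-- import your own Groth.Agent.* helpers here
import Mathlib
import Groth.Agent.Lib.Helper72.CommonCompl

set_option autoImplicit false
universe u
open CharCyc

namespace Groth.Agent.S14478

/-- Let V be a finite-dimensional vector space over a field k, let W = V × V^∨ with V^∨ the dual space,
and let T ⊆ W be a subspace with dim T = dim V; put V₁ = V ∩ T, where V sits in W as V × 0. Then
there is a complement V₂ of V₁ in V with the following property: for every injective linear map A₁ :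
V₁ → V₁^∨, the map A : V → V^∨ extending A₁ by zero along the decompositions V = V₁ ⊕ V₂ and V^∨ =
V₁^∨ ⊕ V₂^∨ (so A v = A₁(p v) ∘ p, with p : V → V₁ the projection along V₂) has graph Γ ⊆ W with Γ ∩
T = 0. -/
theorem result (k V : Type u) [Field k] [AddCommGroup V] [Module k V]
    [FiniteDimensional k V] (T : Submodule k (V × Module.Dual k V))
    (hT : Module.finrank k T = Module.finrank k V) :
    ∃ (V₂ : Submodule k V) (h : IsCompl (T.comap (LinearMap.inl k V (Module.Dual k V))) V₂),
      ∀ A₁ : T.comap (LinearMap.inl k V (Module.Dual k V)) →ₗ[k]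
          Module.Dual k (T.comap (LinearMap.inl k V (Module.Dual k V))),
        Function.Injective A₁ →
          LinearMap.graph ((Submodule.projectionOnto _ V₂ h).dualMap ∘ₗ A₁ ∘ₗ
              Submodule.projectionOnto _ V₂ h) ⊓ T = ⊥ := by
  classical
  obtain ⟨V₁, hV₁⟩ : ∃ V₁ : Submodule k V,
      V₁ = T.comap (LinearMap.inl k V (Module.Dual k V)) := ⟨_, rfl⟩
  rw [← hV₁]
  have hmemV₁ : ∀ v, v ∈ V₁ ↔ (v, (0 : Module.Dual k V)) ∈ T := by
    intro v
    rw [hV₁, Submodule.mem_comap, LinearMap.inl_apply]
  -- the image of `T` in the dual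
  obtain ⟨T₂, hT₂⟩ : ∃ T₂ : Submodule k (Module.Dual k V),
      T₂ = T.map (LinearMap.snd k V (Module.Dual k V)) := ⟨_, rfl⟩
  have hfrT₂ : Module.finrank k T₂ + Module.finrank k V₁ = Module.finrank k V := by
    let s : ↥T →ₗ[k] Module.Dual k V := (LinearMap.snd k V (Module.Dual k V)).comp T.subtype
    have h1 := LinearMap.finrank_range_add_finrank_ker (K := k) (V := ↥T) s
    have h2 : LinearMap.range s = T₂ := by
      rw [hT₂, LinearMap.range_comp, Submodule.range_subtype]
    have h3 : Module.finrank k (LinearMap.ker s) = Module.finrank k V₁ := by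
      let e : ↥V₁ →ₗ[k] ↥(LinearMap.ker s) :=
        { toFun := fun v => ⟨⟨(v.1, 0), (hmemV₁ v.1).1 v.2⟩, by
            rw [LinearMap.mem_ker]; rfl⟩
          map_add' := fun a b => by
            apply Subtype.ext; apply Subtype.ext
            simp
          map_smul' := fun c a => by
            apply Subtype.ext; apply Subtype.ext
            simp }
      have hinj : Function.Injective e := by
        intro a b hab
        have := congrArg (fun z : ↥(LinearMap.ker s) => (z.1.1).1) hab
        exact Subtype.ext this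
      have hsurj : Function.Surjective e := by
        rintro ⟨⟨⟨v, ψ⟩, hT'⟩, hker⟩
        have hψ : ψ = 0 := by
          rw [LinearMap.mem_ker] at hker
          exact hker
        subst hψ
        exact ⟨⟨v, (hmemV₁ v).2 hT'⟩, rfl⟩
      exact (LinearEquiv.ofBijective e ⟨hinj, hsurj⟩).finrank_eq.symm
    rw [h2, h3, hT] at h1
    exact h1
  have hfrAnn := Subspace.finrank_add_finrank_dualAnnihilator_eq V₁
  obtain ⟨Z, hZT, hZA⟩ := Groth.Agent.Lib.Helper72.CommonCompl.exists_common_compl' T₂
    V₁.dualAnnihilator (by omega)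
  have hfrZ : Module.finrank k V₁.dualAnnihilator + Module.finrank k Z = Module.finrank k V := by
    have := Submodule.finrank_add_eq_of_isCompl hZA
    rw [Subspace.dual_finrank_eq] at this
    exact this
  have hfrV₂ := Subspace.finrank_add_finrank_dualCoannihilator_eq Z
  have hdisj : Disjoint V₁ Z.dualCoannihilator := by
    rw [Submodule.disjoint_def]
    intro v hv1 hv2
    rw [← Module.forall_dual_apply_eq_zero_iff k]
    intro φ
    have hφ : φ ∈ V₁.dualAnnihilator ⊔ Z := by
      rw [hZA.sup_eq_top]; trivial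
    obtain ⟨α, hα, ζ, hζ, rfl⟩ := Submodule.mem_sup.1 hφ
    rw [LinearMap.add_apply, (Submodule.mem_dualAnnihilator α).1 hα v hv1,
      (Submodule.mem_dualCoannihilator v).1 hv2 ζ hζ, add_zero]
  have hcompl : IsCompl V₁ Z.dualCoannihilator := by
    refine ⟨hdisj, ?_⟩
    rw [codisjoint_iff]
    apply Submodule.eq_top_of_finrank_eq
    have h1 := Submodule.finrank_sup_add_finrank_inf_eq V₁ Z.dualCoannihilator
    rw [hdisj.eq_bot, finrank_bot] at h1
    omega
  refine ⟨Z.dualCoannihilator, hcompl, ?_⟩
  intro A₁ hA₁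
  rw [eq_bot_iff]
  rintro ⟨v, ψ⟩ hmem
  obtain ⟨hgr, hT'⟩ := Submodule.mem_inf.1 hmem
  rw [LinearMap.mem_graph_iff] at hgr
  simp only at hgr
  have hψZ : ψ ∈ Z := by
    rw [← Subspace.dualCoannihilator_dualAnnihilator_eq (W := Z), Submodule.mem_dualAnnihilator]
    intro w hw
    rw [hgr]
    simp only [LinearMap.comp_apply, LinearMap.dualMap_apply]
    rw [(Submodule.projectionOnto_apply_eq_zero_iff hcompl).2 hw, map_zero]
  have hψT : ψ ∈ T₂ := by
    rw [hT₂]
    exact Submodule.mem_map.2 ⟨(v, ψ), hT', rfl⟩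
  have hψ0 : ψ = 0 := (Submodule.disjoint_def.1 hZT.disjoint) ψ hψT hψZ
  have hpv : Submodule.projectionOnto V₁ Z.dualCoannihilator hcompl v = 0 := by
    apply hA₁
    rw [map_zero]
    have hinj : Function.Injective
        (Submodule.projectionOnto V₁ Z.dualCoannihilator hcompl).dualMap :=
      LinearMap.dualMap_injective_of_surjective (Submodule.projectionOnto_surjective hcompl)
    apply hinj
    rw [map_zero, ← hψ0, hgr]
    rfl
  have hv2 : v ∈ Z.dualCoannihilator := (Submodule.projectionOnto_apply_eq_zero_iff hcompl).1 hpv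
  have hv1 : v ∈ V₁ := by
    rw [hmemV₁, ← hψ0]
    exact hT'
  have hv0 : v = 0 := (Submodule.disjoint_def.1 hdisj) v hv1 hv2
  rw [Submodule.mem_bot, hv0, hψ0]
  rfl

end Groth.Agent.S14478
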