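import Groth.Statements.S14479
import Mathlib.LinearAlgebra.Matrix.BilinearForm
import Mathlib.LinearAlgebra.Matrix.SchurComplement
import Mathlib.LinearAlgebra.Dimension.Free
import Mathlib.LinearAlgebra.FreeModule.Finite.Basic
import Mathlib.Algebra.CharP.Lemmas
-- import your own Groth.Agent.* helpers here

set_option autoImplicit false
universe u
open CharCyc

namespace Groth.Agent.S14479

open Module in
/-- If `M + Mᵀ` is invertible, the bilinear form with matrix `M` in a basis `b` works. -/
theorem exists_of_det_ne_zero {k V : Type u} [Field k] [AddCommGroup V] [Module k V]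
    {ι : Type*} [Fintype ι] [DecidableEq ι] (b : Basis ι k V) (M : Matrix ι ι k)
    (hM : (M + M.transpose).det ≠ 0) :
    ∃ B : LinearMap.BilinForm k V, (B + B.flip).Nondegenerate := by
  refine ⟨Matrix.toBilin b M, LinearMap.BilinForm.nondegenerate_of_det_ne_zero _ b ?_⟩
  have hM' : ∀ i j, (Matrix.toBilin b M) (b i) (b j) = M i j := by
    intro i j
    rw [← LinearMap.BilinForm.toMatrix_apply b, LinearMap.BilinForm.toMatrix_toBilin]
  have : LinearMap.BilinForm.toMatrix b (Matrix.toBilin b M + (Matrix.toBilin b M).flip) =
      M + M.transpose := by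
    ext i j
    rw [LinearMap.BilinForm.toMatrix_apply, LinearMap.add_apply, LinearMap.add_apply,
      LinearMap.BilinForm.flip_apply, hM', hM', Matrix.add_apply, Matrix.transpose_apply]
  rwa [this]

/-- Let V be a finite-dimensional vector space over a field k. If dim V is even or the characteristic of
k is different from 2, there is a bilinear form B on V such that the bilinear form (v, w) ↦ B(v, w)
+ B(w, v) (B plus its transpose, as a map V → V^∨) is nondegenerate. -/
theorem result (k V : Type u) [Field k] [AddCommGroup V] [Module k V]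
    [FiniteDimensional k V] (h : Even (Module.finrank k V) ∨ ringChar k ≠ 2) :
    ∃ B : LinearMap.BilinForm k V, (B + B.flip).Nondegenerate := by
  classical
  rcases h with h | h
  · -- even dimension: hyperbolic form
    obtain ⟨m, hm⟩ := h
    have hcard : Module.finrank k V = Fintype.card (Fin m ⊕ Fin m) := by
      simp [hm]
    let b : Module.Basis (Fin m ⊕ Fin m) k V :=
      (Module.finBasisOfFinrankEq k V hm).reindex finSumFinEquiv.symm
    refine exists_of_det_ne_zero b
      (Matrix.fromBlocks (0 : Matrix (Fin m) (Fin m) k) (1 : Matrix (Fin m) (Fin m) k)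
        (0 : Matrix (Fin m) (Fin m) k) (0 : Matrix (Fin m) (Fin m) k)) ?_
    have e : (Matrix.fromBlocks (0 : Matrix (Fin m) (Fin m) k) (1 : Matrix (Fin m) (Fin m) k)
        (0 : Matrix (Fin m) (Fin m) k) (0 : Matrix (Fin m) (Fin m) k) +
        (Matrix.fromBlocks (0 : Matrix (Fin m) (Fin m) k) (1 : Matrix (Fin m) (Fin m) k)
        (0 : Matrix (Fin m) (Fin m) k) (0 : Matrix (Fin m) (Fin m) k)).transpose) =
        Matrix.fromBlocks (0 : Matrix (Fin m) (Fin m) k) (1 : Matrix (Fin m) (Fin m) k)
        (1 : Matrix (Fin m) (Fin m) k) (0 : Matrix (Fin m) (Fin m) k) := by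
      rw [Matrix.fromBlocks_transpose, Matrix.fromBlocks_add]
      simp
    rw [e]
    intro h0
    have hsq : (Matrix.fromBlocks (0 : Matrix (Fin m) (Fin m) k) (1 : Matrix (Fin m) (Fin m) k)
        (1 : Matrix (Fin m) (Fin m) k) (0 : Matrix (Fin m) (Fin m) k)) *
        (Matrix.fromBlocks (0 : Matrix (Fin m) (Fin m) k) (1 : Matrix (Fin m) (Fin m) k)
        (1 : Matrix (Fin m) (Fin m) k) (0 : Matrix (Fin m) (Fin m) k)) = 1 := by
      rw [Matrix.fromBlocks_multiply]
      simp [Matrix.fromBlocks_one]
    have := congrArg Matrix.det hsq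
    rw [Matrix.det_mul, h0, Matrix.det_one, mul_zero] at this
    exact zero_ne_one this
  · -- characteristic different from two: the standard dot product
    let b := Module.finBasis k V
    refine exists_of_det_ne_zero b 1 ?_
    have h2 : (2 : k) ≠ 0 := by
      intro h2
      apply h
      have : ringChar k ∣ 2 := (ringChar.spec k 2).mp (by exact_mod_cast h2)
      rcases (Nat.dvd_prime Nat.prime_two).mp this with h1 | h1
      · exfalso
        have : (1 : k) = 0 := by
          have := (ringChar.spec k 1).mpr (by rw [h1])
          simp at this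
        exact one_ne_zero this
      · exact h1
    have e : (1 + (1 : Matrix (Fin (Module.finrank k V)) (Fin (Module.finrank k V)) k).transpose) =
        (2 : k) • 1 := by
      rw [Matrix.transpose_one, two_smul]
    rw [e, Matrix.det_smul, Matrix.det_one, mul_one]
    exact pow_ne_zero _ h2

end Groth.Agent.S14479
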