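import Groth.Statements.S14480
import Groth.Agent.Lib.Helper73.FieldDim2
-- import your own Groth.Agent.* helpers here

set_option autoImplicit false
universe u
open CategoryTheory AlgebraicGeometry
open CharCyc

namespace Groth.Agent.S14480
open Groth.Agent.Lib.Helper73.FieldDim Groth.Agent.Lib.Helper73.SchemeDim Groth.Agent.Lib.Helper73.RelHt

/-- Let k be a field, let π : C → X be a morphism between k-schemes of finite type, and let n be a
natural number. For j ≥ 0 let B_j ⊆ X be the set of points x whose fibre π⁻¹(x) has dimension at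
least j (so B_0 is the image of π). Then dim C ≤ n if and only if, for every j, the closure of B_j
in X has dimension at most n − j. Dimensions are topological Krull dimensions with the empty space
of dimension ⊥, and the inequality is written additively as dim cl(B_j) + j ≤ n. -/
theorem result (k : Type u) [Field k] (C X : Scheme.{u})
    (q : X ⟶ Spec (CommRingCat.of k)) (π : C ⟶ X)
    [LocallyOfFiniteType q] [CompactSpace X] [LocallyOfFiniteType π] [CompactSpace C] (n : ℕ) :
    topologicalKrullDim C ≤ n ↔
      ∀ j : ℕ, topologicalKrullDim (closure {x : X | (j : WithBot ℕ∞) ≤ topologicalKrullDim (π.fiber x)}) +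
        (j : WithBot ℕ∞) ≤ n := by
  haveI : IsLocallyNoetherian X := LocallyOfFiniteType.isLocallyNoetherian q
  haveI : IsLocallyNoetherian C := LocallyOfFiniteType.isLocallyNoetherian π
  haveI : IsNoetherian C := {}
  have hsub : ∀ a b : Spec (CommRingCat.of k), a = b := fun a b => Subsingleton.elim a b
  -- (a): trdeg ≤ dim for C
  have hA : ∀ (c : C) (m : ℕ), @Algebra.trdeg _ (C.residueField c) _ _
      ((π ≫ q).residueFieldMap c).hom.toAlgebra = m → (m : WithBot ℕ∞) ≤ topologicalKrullDim C := by
    intro c m hm
    obtain ⟨l, hlen, -, -, -⟩ := exists_ltSeries_fibre_mem (π ≫ q) c ⊤ trivial m hm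
    rw [← krullDim_eq_topologicalKrullDim, ← hlen]
    exact Order.LTSeries.length_le_krullDim l
  -- additivity in ℕ
  have hadd : ∀ (c : C) (a j m : ℕ),
      @Algebra.trdeg _ (X.residueField (π.base c)) _ _ (q.residueFieldMap (π.base c)).hom.toAlgebra = a →
      @Algebra.trdeg _ (C.residueField c) _ _ (π.residueFieldMap c).hom.toAlgebra = j →
      @Algebra.trdeg _ (C.residueField c) _ _ ((π ≫ q).residueFieldMap c).hom.toAlgebra = m →
      a + j = m := by
    intro c a j m ha hj hm
    have := trdeg_residueFieldMap_comp_add π q c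
    rw [ha, hj, hm] at this
    exact_mod_cast this
  constructor
  · intro h j
    set B := {x : X | (j : WithBot ℕ∞) ≤ topologicalKrullDim (π.fiber x)} with hB
    set T := closure B with hT
    haveI : QuasiSober ↥T := isClosed_closure.isClosedEmbedding_subtypeVal.quasiSober
    set E := {c : C | (j : WithBot ℕ∞) ≤ FlatMor.fibreDimAt π c} with hE
    have hEcl : IsClosed E := isClosed_setOf_le_fibreDimAt π j
    have hBE : B = π.base '' E := by
      ext x
      simp only [hB, hE, Set.mem_ofPred_eq, Set.mem_image]
      rw [natCast_le_topologicalKrullDim_fiber_iff]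
      constructor
      · rintro ⟨c, hc, hj⟩; exact ⟨c, hj, hc⟩
      · rintro ⟨c, hj, hc⟩; exact ⟨c, hc, hj⟩
    have key : ∀ l : LTSeries X, (∀ i, l i ∈ T) → l.length + j ≤ n := by
      intro l hl
      have hlast : l.last ∈ closure (π.base '' E) := by rw [← hBE]; exact hl _
      obtain ⟨ε, hεE, hεsp⟩ := exists_specializes_of_mem_closure_image π.base π.continuous E hEcl _ hlast
      obtain ⟨c', j', hc'sp, hc'f, hj', hfd⟩ := exists_specializes_trdeg_eq_fibreDimAt π ε
      have hjj' : j ≤ j' := by
        have : (j : WithBot ℕ∞) ≤ (j' : WithBot ℕ∞) := by rw [← hfd]; exact hεE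
        exact_mod_cast this
      obtain ⟨a, ha⟩ := exists_trdeg_residueField_eq_nat' q (π.base c')
      obtain ⟨m, hm⟩ := exists_trdeg_residueField_eq_nat' (π ≫ q) c'
      have h1 := hadd c' a j' m ha hj' hm
      have h2 : (m : WithBot ℕ∞) ≤ n := (hA c' m hm).trans h
      have h2' : m ≤ n := by exact_mod_cast h2
      have h3 : l.length ≤ a := by
        refine length_le_trdeg_of_fibre q l (π.base c') ?_ (hsub _ _) a ha
        rw [hc'f]
        exact hεsp
      omega
    set d : WithBot ℕ∞ := if j ≤ n then ((n - j : ℕ) : WithBot ℕ∞) else ⊥ with hd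
    have h1 : topologicalKrullDim ↥T ≤ d := by
      refine topologicalKrullDim_subtype_le T d (fun l hl => ?_)
      have := key l hl
      rw [hd, if_pos (by omega)]
      have h' : l.length ≤ n - j := by omega
      exact_mod_cast h'
    refine le_trans (add_le_add_left h1 _) ?_
    rw [hd]
    split_ifs with hjn
    · have : (n - j) + j = n := by omega
      exact_mod_cast this.le
    · simp
  · intro h
    rw [← krullDim_eq_topologicalKrullDim]
    apply iSup_le
    intro l
    set c := l.last with hc
    obtain ⟨m, hm⟩ := exists_trdeg_residueField_eq_nat' (π ≫ q) c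
    have h1 : l.length ≤ m := length_le_trdeg_of_fibre (π ≫ q) l c le_rfl (hsub _ _) m hm
    obtain ⟨a, ha⟩ := exists_trdeg_residueField_eq_nat' q (π.base c)
    obtain ⟨j, hj⟩ := exists_trdeg_residueField_eq_nat' π c
    have h2 := hadd c a j m ha hj hm
    set B := {x : X | (j : WithBot ℕ∞) ≤ topologicalKrullDim (π.fiber x)} with hB
    set T := closure B with hT
    haveI : QuasiSober ↥T := isClosed_closure.isClosedEmbedding_subtypeVal.quasiSober
    have hx : π.base c ∈ B := by
      change (j : WithBot ℕ∞) ≤ topologicalKrullDim (π.fiber (π.base c))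
      rw [natCast_le_topologicalKrullDim_fiber_iff]
      exact ⟨c, rfl, trdeg_le_fibreDimAt_of_fibre' π (specializes_refl c) rfl j hj⟩
    have hxT : π.base c ∈ T := subset_closure hx
    obtain ⟨l', hl'len, hl'last, -, -⟩ := exists_ltSeries_fibre_mem q (π.base c) ⊤ trivial a ha
    have hl'T : ∀ i, l' i ∈ T := by
      intro i
      have : l' i ≤ l'.last := l'.monotone (Fin.le_last i)
      rw [hl'last] at this
      exact (show π.base c ⤳ l' i from this).mem_closed isClosed_closure hxT
    have h3 := length_le_topologicalKrullDim_subtype T l' hl'T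
    rw [hl'len] at h3
    have h4 : (a : WithBot ℕ∞) + (j : WithBot ℕ∞) ≤ n := (add_le_add_left h3 _).trans (h j)
    have h5 : a + j ≤ n := by exact_mod_cast h4
    have : l.length ≤ n := by omega
    exact_mod_cast this

end Groth.Agent.S14480
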