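import Groth.Statements.S14483
import Mathlib
import Groth.Agent.Lib.Helper21.WellIntersect
import Groth.Agent.Lib.Helper21.PIOfDiag
-- import your own Groth.Agent.* helpers here

set_option autoImplicit false
universe u
open CategoryTheory CategoryTheory.Limits AlgebraicGeometry
open CharCyc

namespace Groth.Agent.S14483

/-- Let k be a field and let f : X → S be a morphism between separated k-schemes of finite type. Two
closed subsets Y, Z of X are said to well intersect with respect to f when dim(Y ×_S Z ∖ Y ×_X Z) ≤
dim Y + dim Z − dim S; here Y ×_S Z ∖ Y ×_X Z is taken as the subspace of X ×_S X of points whose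
two projections lie in Y and in Z and which are not in the image of the diagonal, and the inequality
is written additively as dim(Y ×_S Z ∖ Y ×_X Z) + dim S ≤ dim Y + dim Z (topological Krull
dimensions, the empty space having dimension ⊥). Let Y ⊆ X be closed and irreducible with dim Y <
dim S, and suppose that the pair Y, Y well intersects with respect to f. Then Y → S is generically
radicial onto its image: there is an open subset V of X meeting Y such that f is injective on V ∩ Y
and, at every point of V ∩ Y, the residue field extension induced by f is purely inseparable. -/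
theorem result (k : Type u) [Field k] (X S : Scheme.{u})
    (q : S ⟶ Spec (CommRingCat.of k)) (f : X ⟶ S)
    [LocallyOfFiniteType q] [CompactSpace S] [IsSeparated q] [LocallyOfFiniteType f] [CompactSpace X] [IsSeparated f]
    (Y : Set X) (hYc : IsClosed Y) (hYi : IsIrreducible Y)
    (hWI : topologicalKrullDim {p : ↥(pullback f f) | pullback.fst f f p ∈ Y ∧ pullback.snd f f p ∈ Y ∧ p ∉ Set.range (pullback.diagonal f)} + topologicalKrullDim S ≤ topologicalKrullDim Y + topologicalKrullDim Y)
    (hYS : topologicalKrullDim Y < topologicalKrullDim S) :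
    ∃ V : Set X, IsOpen V ∧ (V ∩ Y).Nonempty ∧ Set.InjOn f.base (V ∩ Y) ∧
      ∀ x ∈ V ∩ Y, (f.residueFieldMap x).hom.IsPurelyInseparable := by
  have hlftp : LocallyOfFiniteType (f ≫ q) := inferInstance
  have hlnS : IsLocallyNoetherian S := LocallyOfFiniteType.isLocallyNoetherian q
  have hlnX : IsLocallyNoetherian X := LocallyOfFiniteType.isLocallyNoetherian (f ≫ q)
  have hqc : QuasiCompact f := inferInstance
  have hlnP : IsLocallyNoetherian ↑(pullback f f) :=
    LocallyOfFiniteType.isLocallyNoetherian (pullback.fst f f ≫ f ≫ q)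
  have hcP : CompactSpace ↑(pullback f f) :=
    QuasiCompact.compactSpace_of_compactSpace (pullback.fst f f)
  have hNP : AlgebraicGeometry.IsNoetherian ↑(pullback f f) := AlgebraicGeometry.IsNoetherian.mk
  have hNSP : TopologicalSpace.NoetherianSpace ↑(pullback f f) := inferInstance
  have hη : IsGenericPoint hYi.genericPoint Y := hYi.isGenericPoint_genericPoint hYc
  have hdY := Groth.Agent.Lib.Helper21.FieldDim.dim_eq_td_of_isGenericPoint (f ≫ q) hη
  -- the off-diagonal set
  have hWlc := Groth.Agent.Lib.Helper21.WellIntersect.isLocallyClosed_offDiag f hYc hYc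
  obtain ⟨U₀, C₀, hU₀, hC₀, hWeq⟩ := hWlc
  have hWcon : Topology.IsConstructible
      (Groth.Agent.Lib.Helper21.WellIntersect.offDiag f Y Y) := by
    rw [hWeq]
    exact ((TopologicalSpace.NoetherianSpace.isCompact U₀).isConstructible hU₀).inter
      ((TopologicalSpace.NoetherianSpace.isCompact C₀ᶜ).isConstructible hC₀.isOpen_compl).of_compl
  have hEcon : Topology.IsConstructible ((pullback.fst f f) ''
      (Groth.Agent.Lib.Helper21.WellIntersect.offDiag f Y Y)) :=
    (pullback.fst f f).isConstructible_image hWcon
  -- every off-diagonal point has first projection of small transcendence degree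
  have hsmall : ∀ w ∈ Groth.Agent.Lib.Helper21.WellIntersect.offDiag f Y Y,
      pullback.fst f f w ≠ hYi.genericPoint := by
    intro w hw e
    have h1 := Groth.Agent.Lib.Helper21.WellIntersect.td_fst_le_dim_offDiag q f hYc hYc hw
    rw [e] at h1
    rw [hdY] at hWI hYS
    have h2 : ((Groth.Agent.Lib.Helper21.FieldDim.td (f ≫ q) hYi.genericPoint : ℕ) : WithBot ℕ∞) +
        topologicalKrullDim S ≤
        ((Groth.Agent.Lib.Helper21.FieldDim.td (f ≫ q) hYi.genericPoint : ℕ) : WithBot ℕ∞) +
        ((Groth.Agent.Lib.Helper21.FieldDim.td (f ≫ q) hYi.genericPoint : ℕ) : WithBot ℕ∞) :=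
      (add_le_add h1 le_rfl).trans hWI
    exact absurd (Groth.Agent.Lib.Helper21.WellIntersect.le_of_nat_add_le_nat_add h2)
      (not_le_of_gt hYS)
  have hEsub : (pullback.fst f f) '' (Groth.Agent.Lib.Helper21.WellIntersect.offDiag f Y Y) ⊆
      closure {hYi.genericPoint} := by
    rintro _ ⟨w, hw, rfl⟩
    rw [hη.def]
    exact hw.1
  have hηE : hYi.genericPoint ∉ closure ((pullback.fst f f) ''
      (Groth.Agent.Lib.Helper21.WellIntersect.offDiag f Y Y)) := by
    intro hmem
    obtain ⟨w, hw, e⟩ :=
      Groth.Agent.Lib.Helper21.WellIntersect.mem_of_mem_closure_of_isConstructible hEcon hEsub hmem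
    exact hsmall w hw e
  refine ⟨(closure ((pullback.fst f f) ''
      (Groth.Agent.Lib.Helper21.WellIntersect.offDiag f Y Y)))ᶜ, isClosed_closure.isOpen_compl,
    ⟨hYi.genericPoint, hηE, hη.mem⟩, ?_, ?_⟩
  · intro x₁ hx₁ x₂ hx₂ e
    by_contra hne
    obtain ⟨w, hw, hw1, -⟩ := Groth.Agent.Lib.Helper21.WellIntersect.exists_mem_offDiag f
      hx₁.2 hx₂.2 e hne
    exact hx₁.1 (subset_closure ⟨w, hw, hw1⟩)
  · intro x hx
    apply Groth.Agent.Lib.Helper21.PIOfDiag.isPurelyInseparable_residueFieldMap_of_forall_mem_range_diagonal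
    intro w hw1 hw2
    by_contra hnr
    have hw : w ∈ Groth.Agent.Lib.Helper21.WellIntersect.offDiag f Y Y :=
      ⟨by rw [hw1]; exact hx.2, by rw [hw2]; exact hx.2, hnr⟩
    exact hx.1 (subset_closure ⟨w, hw, hw1⟩)

end Groth.Agent.S14483
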