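import Groth.Statements.S14484
import Mathlib
import Groth.Agent.Lib.Helper21.WellIntersect
-- import your own Groth.Agent.* helpers here

set_option autoImplicit false
universe u
open CategoryTheory CategoryTheory.Limits AlgebraicGeometry
open CharCyc

namespace Groth.Agent.S14484

/-- Let k be a field and let f : X → S be a morphism between separated k-schemes of finite type. Two
closed subsets Y, Z of X are said to well intersect with respect to f when dim(Y ×_S Z ∖ Y ×_X Z) ≤
dim Y + dim Z − dim S; here Y ×_S Z ∖ Y ×_X Z is taken as the subspace of X ×_S X of points whose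
two projections lie in Y and in Z and which are not in the image of the diagonal, and the inequality
is written additively as dim(Y ×_S Z ∖ Y ×_X Z) + dim S ≤ dim Y + dim Z (topological Krull
dimensions, the empty space having dimension ⊥). Let Y, Z ⊆ X be closed irreducible subsets that
well intersect with respect to f, with dim Y < dim S and dim Z < dim S, and assume Y ⊄ Z. Then f(Y)
is not contained in the closure of f(Y) ∩ f(Z); in particular f(Y) ⊄ f(Z). -/
theorem result (k : Type u) [Field k] (X S : Scheme.{u})
    (q : S ⟶ Spec (CommRingCat.of k)) (f : X ⟶ S)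
    [LocallyOfFiniteType q] [CompactSpace S] [IsSeparated q] [LocallyOfFiniteType f] [CompactSpace X] [IsSeparated f]
    (Y Z : Set X) (hYc : IsClosed Y) (hYi : IsIrreducible Y) (hZc : IsClosed Z) (hZi : IsIrreducible Z)
    (hWI : topologicalKrullDim {p : ↥(pullback f f) | pullback.fst f f p ∈ Y ∧ pullback.snd f f p ∈ Z ∧ p ∉ Set.range (pullback.diagonal f)} + topologicalKrullDim S ≤ topologicalKrullDim Y + topologicalKrullDim Z)
    (hYS : topologicalKrullDim Y < topologicalKrullDim S) (hZS : topologicalKrullDim Z < topologicalKrullDim S)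
    (hYZ : ¬ Y ⊆ Z) :
    ¬ (f.base '' Y ⊆ closure (f.base '' Y ∩ f.base '' Z)) ∧ ¬ (f.base '' Y ⊆ f.base '' Z) := by
  have hlftp : LocallyOfFiniteType (f ≫ q) := inferInstance
  have hlnS : IsLocallyNoetherian S := LocallyOfFiniteType.isLocallyNoetherian q
  have hlnX : IsLocallyNoetherian X := LocallyOfFiniteType.isLocallyNoetherian (f ≫ q)
  have hNX : AlgebraicGeometry.IsNoetherian X := AlgebraicGeometry.IsNoetherian.mk
  have hNSX : TopologicalSpace.NoetherianSpace X := inferInstance
  have hqc : QuasiCompact f := inferInstance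
  have hη : IsGenericPoint hYi.genericPoint Y := hYi.isGenericPoint_genericPoint hYc
  have hζ : IsGenericPoint hZi.genericPoint Z := hZi.isGenericPoint_genericPoint hZc
  have hdY := Groth.Agent.Lib.Helper21.FieldDim.dim_eq_td_of_isGenericPoint (f ≫ q) hη
  have hdZ := Groth.Agent.Lib.Helper21.FieldDim.dim_eq_td_of_isGenericPoint (f ≫ q) hζ
  have key : ¬ (f.base '' Y ⊆ closure (f.base '' Y ∩ f.base '' Z)) := by
    intro hsub
    have hYcon : Topology.IsConstructible Y :=
      ((TopologicalSpace.NoetherianSpace.isCompact Yᶜ).isConstructible hYc.isOpen_compl).of_compl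
    have hZcon : Topology.IsConstructible Z :=
      ((TopologicalSpace.NoetherianSpace.isCompact Zᶜ).isConstructible hZc.isOpen_compl).of_compl
    have hE : Topology.IsConstructible (f.base '' Y ∩ f.base '' Z) :=
      (f.isConstructible_image hYcon).inter (f.isConstructible_image hZcon)
    have hEsub : f.base '' Y ∩ f.base '' Z ⊆ closure {f hYi.genericPoint} := by
      rintro _ ⟨⟨y, hy, rfl⟩, -⟩
      exact ((hη.specializes hy).map f.continuous).mem_closure
    have ht : f hYi.genericPoint ∈ closure (f.base '' Y ∩ f.base '' Z) :=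
      hsub ⟨hYi.genericPoint, hη.mem, rfl⟩
    have hmem := Groth.Agent.Lib.Helper21.WellIntersect.mem_of_mem_closure_of_isConstructible
      hE hEsub ht
    obtain ⟨z, hz, hfz⟩ := hmem.2
    have hne : hYi.genericPoint ≠ z := by
      intro e
      apply hYZ
      rw [← hη.def]
      exact closure_minimal (Set.singleton_subset_iff.mpr (e ▸ hz)) hZc
    have h1 := Groth.Agent.Lib.Helper21.WellIntersect.td_le_dim_offDiag q f hYc hZc hη.mem hz
      hfz.symm hne
    rw [hdY, hdZ] at hWI
    rw [hdZ] at hZS
    have h2 : ((Groth.Agent.Lib.Helper21.FieldDim.td (f ≫ q) hYi.genericPoint : ℕ) : WithBot ℕ∞) +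
        topologicalKrullDim S ≤
        ((Groth.Agent.Lib.Helper21.FieldDim.td (f ≫ q) hYi.genericPoint : ℕ) : WithBot ℕ∞) +
        ((Groth.Agent.Lib.Helper21.FieldDim.td (f ≫ q) hZi.genericPoint : ℕ) : WithBot ℕ∞) :=
      (add_le_add h1 le_rfl).trans hWI
    exact absurd (Groth.Agent.Lib.Helper21.WellIntersect.le_of_nat_add_le_nat_add h2)
      (not_le_of_gt hZS)
  refine ⟨key, ?_⟩
  intro h
  apply key
  intro t ht
  exact subset_closure ⟨ht, h ht⟩

end Groth.Agent.S14484
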