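import Groth.Statements.S14485
import Mathlib
import Groth.Agent.Lib.Helper21.RelDimBC
-- import your own Groth.Agent.* helpers here

set_option autoImplicit false
universe u
open CategoryTheory CategoryTheory.Limits AlgebraicGeometry
open CharCyc

namespace Groth.Agent.S14485
open CategoryTheory CategoryTheory.Limits AlgebraicGeometry Groth.Agent.Lib.Helper21.RelDimBC Groth.Agent.Lib.Helper21.WellIntersect Groth.Agent.Lib.Helper21.FieldDim

/-- Let k be a field and let f : X → S be a morphism between separated k-schemes of finite type. Two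
closed subsets Y, Z of X are said to well intersect with respect to f when dim(Y ×_S Z ∖ Y ×_X Z) ≤
dim Y + dim Z − dim S; here Y ×_S Z ∖ Y ×_X Z is taken as the subspace of X ×_S X of points whose
two projections lie in Y and in Z and which are not in the image of the diagonal, and the inequality
is written additively as dim(Y ×_S Z ∖ Y ×_X Z) + dim S ≤ dim Y + dim Z (topological Krull
dimensions, the empty space having dimension ⊥). Let Y, Z ⊆ X be closed subsets, and let g : S' → S
be faithfully flat with every fibre of dimension d (relative constant dimension d), where S' is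
again a separated k-scheme of finite type. Write f' : X' = X ×_S S' → S' for the base change and Y',
Z' ⊆ X' for the preimages of Y, Z. Then well-intersection of Y, Z with respect to f is equivalent to
well-intersection of Y', Z' with respect to f'. -/
theorem result (k : Type u) [Field k] (X S S' : Scheme.{u})
    (q : S ⟶ Spec (CommRingCat.of k)) (f : X ⟶ S) (g : S' ⟶ S)
    [LocallyOfFiniteType q] [CompactSpace S] [IsSeparated q] [LocallyOfFiniteType f] [CompactSpace X] [IsSeparated f]
    [LocallyOfFiniteType g] [CompactSpace S'] [IsSeparated g] [Flat g] [Surjective g]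
    (d : ℕ) (hd : ∀ s : S, topologicalKrullDim (g.fiber s) = d)
    (Y Z : Set X) (hYc : IsClosed Y) (hZc : IsClosed Z) :
    (topologicalKrullDim {p : ↥(pullback f f) | pullback.fst f f p ∈ Y ∧ pullback.snd f f p ∈ Z ∧ p ∉ Set.range (pullback.diagonal f)} + topologicalKrullDim S ≤ topologicalKrullDim Y + topologicalKrullDim Z) ↔
      (topologicalKrullDim {p : ↥(pullback (pullback.snd f g) (pullback.snd f g)) | pullback.fst (pullback.snd f g) (pullback.snd f g) p ∈ ((pullback.fst f g) ⁻¹' Y) ∧ pullback.snd (pullback.snd f g) (pullback.snd f g) p ∈ ((pullback.fst f g) ⁻¹' Z) ∧ p ∉ Set.range (pullback.diagonal (pullback.snd f g))} + topologicalKrullDim S' ≤ topologicalKrullDim ((pullback.fst f g) ⁻¹' Y) + topologicalKrullDim ((pullback.fst f g) ⁻¹' Z)) := by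
  have hlftp : LocallyOfFiniteType (f ≫ q) := inferInstance
  have hg := hasTdR_of_dim_fiber g d hd
  have sq0 : IsPullback (pullback.fst f g) (pullback.snd f g) f g := IsPullback.of_hasPullback f g
  have hpXT : HasTdR (pullback.fst f g) d := hasTdR_of_isPullback sq0 d hg
  have sqH := isPullback_prodMap f g (pullback.fst f g) (pullback.snd f g) sq0
  have sqD := isPullback_diagonal f g (pullback.fst f g) (pullback.snd f g) sq0
  have hH1 := prodMap_fst f g (pullback.fst f g) (pullback.snd f g) sq0
  have hH2 := prodMap_snd f g (pullback.fst f g) (pullback.snd f g) sq0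
  generalize prodMap f g (pullback.fst f g) (pullback.snd f g) sq0 = H at sqH sqD hH1 hH2
  have : LocallyOfFiniteType H :=
    MorphismProperty.of_isPullback (P := @LocallyOfFiniteType) sqH.flip inferInstance
  have hHT : HasTdR H d := hasTdR_of_isPullback sqH d hg
  -- identification of the off-diagonal set upstairs
  have hE' : {p : ↥(pullback (pullback.snd f g) (pullback.snd f g)) |
      pullback.fst (pullback.snd f g) (pullback.snd f g) p ∈ ((pullback.fst f g) ⁻¹' Y) ∧
      pullback.snd (pullback.snd f g) (pullback.snd f g) p ∈ ((pullback.fst f g) ⁻¹' Z) ∧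
      p ∉ Set.range (pullback.diagonal (pullback.snd f g))} = H ⁻¹' (offDiag f Y Z) := by
    ext p
    have e1 : pullback.fst f f (H p) =
        pullback.fst f g (pullback.fst (pullback.snd f g) (pullback.snd f g) p) :=
      congrArg (fun k : pullback (pullback.snd f g) (pullback.snd f g) ⟶ X => k p) hH1
    have e2 : pullback.snd f f (H p) =
        pullback.fst f g (pullback.snd (pullback.snd f g) (pullback.snd f g) p) :=
      congrArg (fun k : pullback (pullback.snd f g) (pullback.snd f g) ⟶ X => k p) hH2
    have e3 : H p ∈ Set.range (pullback.diagonal f) ↔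
        p ∈ Set.range (pullback.diagonal (pullback.snd f g)) := by
      constructor
      · rintro ⟨x, hx⟩
        obtain ⟨x', hx'1, -⟩ := Scheme.exists_preimage_of_isPullback sqD p x hx.symm
        exact ⟨x', hx'1⟩
      · rintro ⟨x', rfl⟩
        exact ⟨pullback.fst f g x',
          (congrArg (fun k : pullback f g ⟶ pullback f f => k x') sqD.w).symm⟩
    simp only [Set.mem_ofPred_eq, Set.mem_preimage, offDiag]
    rw [e1, e2, e3]
  have hEloc : IsLocallyClosed (offDiag f Y Z) := isLocallyClosed_offDiag f hYc hZc
  have dE := dim_preimage (pullback.fst f f ≫ f ≫ q) H d hHT (offDiag f Y Z) hEloc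
  have dY := dim_preimage (f ≫ q) (pullback.fst f g) d hpXT Y hYc.isLocallyClosed
  have dZ := dim_preimage (f ≫ q) (pullback.fst f g) d hpXT Z hZc.isLocallyClosed
  have dS : topologicalKrullDim S' = topologicalKrullDim S + (d : WithBot ℕ∞) := by
    have h1 := dim_preimage q g d hg Set.univ isClosed_univ.isLocallyClosed
    rw [Set.preimage_univ] at h1
    rwa [(Homeomorph.Set.univ S').isHomeomorph.topologicalKrullDim_eq,
      (Homeomorph.Set.univ S).isHomeomorph.topologicalKrullDim_eq] at h1
  rw [hE', dE, dY, dZ, dS]
  change topologicalKrullDim ↥(offDiag f Y Z) + topologicalKrullDim S ≤ _ ↔ _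
  have a1 : ∀ a b : WithBot ℕ∞, (a + (d : WithBot ℕ∞)) + (b + (d : WithBot ℕ∞)) =
      ((d + d : ℕ) : WithBot ℕ∞) + (a + b) := by
    intro a b
    rw [Nat.cast_add]
    ac_rfl
  rw [a1, a1]
  constructor
  · intro h
    exact add_le_add le_rfl h
  · intro h
    exact le_of_nat_add_le_nat_add h

end Groth.Agent.S14485
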