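import Groth.Statements.S14497
import Mathlib

set_option autoImplicit false
universe v u
open IndCof

namespace Groth.Agent.S14497

open CategoryTheory CategoryTheory.Limits

section
variable {V : Type u} [Category.{v} V] [Abelian V]

lemma nsmul_id_comm {X Y : V} (f : X ⟶ Y) (k : ℕ) : (k • 𝟙 X) ≫ f = f ≫ (k • 𝟙 Y) := by
  simp

lemma comp_coker_image {X Y : V} (f : X ⟶ Y) :
    f ≫ cokernel.π (imageSubobject f).arrow = 0 := by
  calc f ≫ cokernel.π (imageSubobject f).arrow
      = (factorThruImageSubobject f ≫ (imageSubobject f).arrow) ≫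
          cokernel.π (imageSubobject f).arrow := by rw [imageSubobject_arrow_comp]
    _ = 0 := by rw [Category.assoc, cokernel.condition, comp_zero]

lemma exists_lift {B : V} (S : Subobject B) {W : V} (g : W ⟶ B)
    (hg : g ≫ cokernel.π S.arrow = 0) : ∃ t : W ⟶ (S : V), t ≫ S.arrow = g :=
  ⟨Abelian.monoLift S.arrow g hg, Abelian.monoLift_comp _ _ _⟩

lemma image_eq (B : V) (B' : Subobject B) (hdiv : ∀ k : ℕ, 0 < k → Epi (k • 𝟙 (B' : V)))
    (M : ℕ) (hM : M • 𝟙 (cokernel B'.arrow) = 0) (c : ℕ) (hc : 0 < M * c) :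
    imageSubobject ((M * c) • 𝟙 B) = B' := by
  apply le_antisymm
  · have h0 : ((M * c) • 𝟙 B) ≫ cokernel.π B'.arrow = 0 := by
      rw [nsmul_id_comm, mul_nsmul, hM]; simp
    obtain ⟨t, ht⟩ := exists_lift B' _ h0
    exact imageSubobject_le _ t ht
  · have hepi : Epi ((M * c) • 𝟙 (B' : V)) := hdiv _ hc
    have h0 : B'.arrow ≫ cokernel.π (imageSubobject ((M * c) • 𝟙 B)).arrow = 0 := by
      rw [← cancel_epi ((M * c) • 𝟙 (B' : V))]
      rw [← Category.assoc, nsmul_id_comm, Category.assoc]
      rw [comp_coker_image]; simp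
    obtain ⟨t, ht⟩ := exists_lift _ _ h0
    exact Subobject.le_of_comm t ht

lemma forward (B : V) (m : ℕ) (hm : 0 < m)
    (h : ∀ m' : ℕ, 0 < m' → m ∣ m' → imageSubobject (m' • 𝟙 B) = imageSubobject (m • 𝟙 B)) :
    (∀ k : ℕ, 0 < k → Epi (k • 𝟙 ((imageSubobject (m • 𝟙 B) : Subobject B) : V))) ∧
      m • 𝟙 (cokernel (imageSubobject (m • 𝟙 B)).arrow) = 0 := by
  refine ⟨?_, ?_⟩
  · intro k hk
    rw [epi_iff_surjective_up_to_refinements]
    intro A y
    have hS : imageSubobject ((m * k) • 𝟙 B) = imageSubobject (m • 𝟙 B) :=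
      h _ (by positivity) (dvd_mul_right _ _)
    obtain ⟨A', π, hπ, x, hx⟩ :=
      (epi_iff_surjective_up_to_refinements
        (factorThruImageSubobject ((m * k) • 𝟙 B))).1 inferInstance
        (y ≫ Subobject.ofLE _ _ (le_of_eq hS.symm))
    refine ⟨A', π, hπ, x ≫ factorThruImageSubobject (m • 𝟙 B), ?_⟩
    rw [← cancel_mono (imageSubobject (m • 𝟙 B)).arrow]
    have h1 := congrArg (· ≫ (imageSubobject ((m * k) • 𝟙 B)).arrow) hx
    simp only [Category.assoc, Subobject.ofLE_arrow, imageSubobject_arrow_comp] at h1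
    rw [Category.assoc, h1, Category.assoc, Category.assoc, nsmul_id_comm,
      ← Category.assoc (factorThruImageSubobject (m • 𝟙 B)), imageSubobject_arrow_comp]
    rw [mul_nsmul, Preadditive.comp_nsmul, Preadditive.comp_nsmul, Preadditive.comp_nsmul]
    simp
  · rw [← cancel_epi (cokernel.π (imageSubobject (m • 𝟙 B)).arrow)]
    rw [← nsmul_id_comm, comp_zero, comp_coker_image]

end

open CategoryTheory CategoryTheory.Limits in
/-- Let B be an object of an abelian category and consider the inverse system, indexed by the positive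
integers ordered by divisibility, with every term equal to B and transition map from the m-th to the
n-th term (n ∣ m) given by multiplication by m/n. This system is Mittag-Leffler, i.e. for every n
the images in the n-th term of the transition maps are eventually constant, if and only if B has a
divisible sub-object B' (multiplication by every positive integer is an epimorphism of B') with B/B'
killed by some positive integer. Moreover such a B' is the largest divisible sub-object of B. -/
theorem result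
    {V : Type u} [Category.{v} V] [Abelian V] (B : V) :
    ((∀ n : ℕ, 0 < n → ∃ m : ℕ, 0 < m ∧ n ∣ m ∧ ∀ m' : ℕ, 0 < m' → m ∣ m' →
        imageSubobject ((m' / n) • 𝟙 B) = imageSubobject ((m / n) • 𝟙 B)) ↔
      ∃ B' : Subobject B, (∀ k : ℕ, 0 < k → Epi (k • 𝟙 (B' : V))) ∧
        ∃ M : ℕ, 0 < M ∧ M • 𝟙 (cokernel B'.arrow) = 0) ∧
    (∀ B' : Subobject B, (∀ k : ℕ, 0 < k → Epi (k • 𝟙 (B' : V))) →
      (∃ M : ℕ, 0 < M ∧ M • 𝟙 (cokernel B'.arrow) = 0) →
      ∀ D : Subobject B, (∀ k : ℕ, 0 < k → Epi (k • 𝟙 (D : V))) → D ≤ B') := by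
  refine ⟨⟨?_, ?_⟩, ?_⟩
  · intro h
    obtain ⟨m, hm, -, hmm⟩ := h 1 one_pos
    simp only [Nat.div_one] at hmm
    obtain ⟨h1, h2⟩ := forward B m hm hmm
    exact ⟨imageSubobject (m • 𝟙 B), h1, m, hm, h2⟩
  · rintro ⟨B', hdiv, M, hM, hM0⟩ n hn
    refine ⟨n * M, by positivity, dvd_mul_right _ _, ?_⟩
    rintro m' hm' ⟨c, rfl⟩
    have hc : 0 < c := by
      rcases Nat.eq_zero_or_pos c with rfl | h
      · simp at hm'
      · exact h
    rw [mul_assoc, Nat.mul_div_cancel_left _ hn, Nat.mul_div_cancel_left _ hn]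
    rw [image_eq B B' hdiv M hM0 c (by positivity)]
    have := image_eq B B' hdiv M hM0 1 (by simpa using hM)
    rw [mul_one] at this
    exact this.symm
  · rintro B' hdiv ⟨M, hM, hM0⟩ D hD
    have hepi : Epi (M • 𝟙 (D : V)) := hD M hM
    have h0 : D.arrow ≫ cokernel.π B'.arrow = 0 := by
      rw [← cancel_epi (M • 𝟙 (D : V)), ← Category.assoc, nsmul_id_comm, Category.assoc,
        nsmul_id_comm, hM0]
      simp
    obtain ⟨t, ht⟩ := exists_lift B' _ h0
    exact Subobject.le_of_comm t ht

end Groth.Agent.S14497
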