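import Groth.Statements.S14498
import Mathlib.CategoryTheory.Abelian.Refinements
-- import your own Groth.Agent.* helpers here

set_option autoImplicit false
universe v u
open AbDiag

namespace Groth.Agent.S14498

open CategoryTheory CategoryTheory.Limits in
/-- In an abelian category, let 0 → F → W → E' → 0 (maps a, b) and 0 → E → W → F' → G → G' → 0 (maps c,
d, e, g) be exact sequences such that the composite F → W → F' is a monomorphism. Then the composite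
E → W → E' is a monomorphism, and there is a short exact sequence 0 → Coker(E → E') → Coker(F → F')
→ Ker(G → G') → 0 whose first map is induced by d (through the quotient map b) and whose second map
is induced by e. -/
theorem result
    {V : Type u} [Category.{v} V] [Abelian V] {F W E' E F' G G' : V}
    (a : F ⟶ W) (b : W ⟶ E') (c : E ⟶ W) (d : W ⟶ F') (e : F' ⟶ G) (g : G ⟶ G')
    [Mono a] [Epi b] (wab : a ≫ b = 0) (hab : (ShortComplex.mk a b wab).Exact)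
    [Mono c] (wcd : c ≫ d = 0) (hcd : (ShortComplex.mk c d wcd).Exact)
    (wde : d ≫ e = 0) (hde : (ShortComplex.mk d e wde).Exact)
    (weg : e ≫ g = 0) (heg : (ShortComplex.mk e g weg).Exact) [Epi g]
    (hmono : Mono (a ≫ d)) :
    Mono (c ≫ b) ∧
      ∃ (φ : cokernel (c ≫ b) ⟶ cokernel (a ≫ d)) (ψ : cokernel (a ≫ d) ⟶ kernel g)
        (w : φ ≫ ψ = 0),
        b ≫ cokernel.π (c ≫ b) ≫ φ = d ≫ cokernel.π (a ≫ d) ∧
        cokernel.π (a ≫ d) ≫ ψ ≫ kernel.ι g = e ∧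
        (ShortComplex.mk φ ψ w).ShortExact := by
  have hmono_cb : Mono (c ≫ b) := by
    rw [Preadditive.mono_iff_cancel_zero]
    intro Z z hz
    have hz' : (z ≫ c) ≫ b = 0 := by simpa using hz
    obtain ⟨y, hy⟩ : ∃ y : Z ⟶ F, y ≫ a = z ≫ c := hab.lift' (z ≫ c) hz'
    have hy0 : y = 0 := by
      rw [← cancel_mono (a ≫ d), zero_comp, ← Category.assoc, hy, Category.assoc, wcd, comp_zero]
    have : z ≫ c = 0 := by rw [← hy, hy0, zero_comp]
    rwa [← cancel_mono c, zero_comp]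
  refine ⟨hmono_cb, ?_⟩
  -- the map φ
  have h1 : a ≫ (d ≫ cokernel.π (a ≫ d)) = 0 := by
    rw [← Category.assoc, cokernel.condition]
  let φ₀ : E' ⟶ cokernel (a ≫ d) := hab.desc (d ≫ cokernel.π (a ≫ d)) h1
  have hφ₀ : b ≫ φ₀ = d ≫ cokernel.π (a ≫ d) := hab.g_desc _ h1
  have h2 : (c ≫ b) ≫ φ₀ = 0 := by
    rw [Category.assoc, hφ₀, ← Category.assoc, wcd, zero_comp]
  let φ : cokernel (c ≫ b) ⟶ cokernel (a ≫ d) := cokernel.desc (c ≫ b) φ₀ h2
  have hφ : b ≫ cokernel.π (c ≫ b) ≫ φ = d ≫ cokernel.π (a ≫ d) := by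
    rw [cokernel.π_desc, hφ₀]
  -- the map ψ
  have h3 : (a ≫ d) ≫ kernel.lift g e weg = 0 := by
    rw [← cancel_mono (kernel.ι g), zero_comp, Category.assoc, kernel.lift_ι, Category.assoc, wde,
      comp_zero]
  let ψ : cokernel (a ≫ d) ⟶ kernel g := cokernel.desc (a ≫ d) (kernel.lift g e weg) h3
  have hψ : cokernel.π (a ≫ d) ≫ ψ ≫ kernel.ι g = e := by
    rw [← Category.assoc, cokernel.π_desc, kernel.lift_ι]
  have hψ' : cokernel.π (a ≫ d) ≫ ψ = kernel.lift g e weg := cokernel.π_desc _ _ _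
  have w : φ ≫ ψ = 0 := by
    rw [← cancel_epi (cokernel.π (c ≫ b)), ← cancel_epi b, comp_zero, comp_zero,
      ← cancel_mono (kernel.ι g), zero_comp]
    calc (b ≫ cokernel.π (c ≫ b) ≫ φ ≫ ψ) ≫ kernel.ι g
        = (b ≫ cokernel.π (c ≫ b) ≫ φ) ≫ ψ ≫ kernel.ι g := by simp only [Category.assoc]
      _ = d ≫ (cokernel.π (a ≫ d) ≫ ψ ≫ kernel.ι g) := by rw [hφ, Category.assoc]
      _ = 0 := by rw [hψ, wde]
  refine ⟨φ, ψ, w, hφ, hψ, ?_⟩
  -- short exactness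
  have hepi : Epi ψ := by
    have : Epi (kernel.lift g e weg) := heg.epi_kernelLift
    exact epi_of_epi_fac hψ'
  have hmono : Mono φ := by
    rw [Preadditive.mono_iff_cancel_zero]
    intro Z z hz
    obtain ⟨Z₁, π₁, hπ₁, w₁, hw₁⟩ :=
      surjective_up_to_refinements_of_epi (b ≫ cokernel.π (c ≫ b)) z
    have hw₁d : (w₁ ≫ d) ≫ cokernel.π (a ≫ d) = 0 := by
      rw [Category.assoc, ← hφ]
      calc w₁ ≫ b ≫ cokernel.π (c ≫ b) ≫ φ = (w₁ ≫ b ≫ cokernel.π (c ≫ b)) ≫ φ := by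
            simp only [Category.assoc]
        _ = 0 := by rw [← hw₁, Category.assoc, hz, comp_zero]
    obtain ⟨Z₂, π₂, hπ₂, y, hy⟩ :=
      (CokernelCofork.IsColimit.comp_π_eq_zero_iff_up_to_refinements
        (cokernelIsCokernel (a ≫ d)) (w₁ ≫ d)).mp hw₁d
    have hker : (π₂ ≫ w₁ - y ≫ a) ≫ d = 0 := by
      rw [Preadditive.sub_comp, Category.assoc, hy, Category.assoc, sub_self]
    obtain ⟨Z₃, π₃, hπ₃, x, hx⟩ := hcd.exact_up_to_refinements (π₂ ≫ w₁ - y ≫ a) hker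
    dsimp at x hx
    have hfin : (π₃ ≫ π₂ ≫ π₁) ≫ z = 0 := by
      have e1 : π₃ ≫ π₂ ≫ w₁ = x ≫ c + π₃ ≫ y ≫ a := by
        rw [← hx, Preadditive.comp_sub, sub_add_cancel]
      calc (π₃ ≫ π₂ ≫ π₁) ≫ z = π₃ ≫ π₂ ≫ (π₁ ≫ z) := by simp only [Category.assoc]
        _ = (π₃ ≫ π₂ ≫ w₁) ≫ b ≫ cokernel.π (c ≫ b) := by rw [hw₁]; simp only [Category.assoc]
        _ = 0 := by
          rw [e1, Preadditive.add_comp]
          simp only [Category.assoc]
          rw [reassoc_of% wab, zero_comp, comp_zero, comp_zero, add_zero]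
          rw [← Category.assoc c b, cokernel.condition, comp_zero]
    have : Epi (π₃ ≫ π₂ ≫ π₁) := epi_comp' hπ₃ (epi_comp' hπ₂ hπ₁)
    rwa [← cancel_epi (π₃ ≫ π₂ ≫ π₁), comp_zero]
  refine { exact := ?_, mono_f := hmono, epi_g := hepi }
  rw [ShortComplex.exact_iff_exact_up_to_refinements]
  intro Z z hz
  dsimp at z hz
  obtain ⟨Z₁, π₁, hπ₁, v, hv⟩ := surjective_up_to_refinements_of_epi (cokernel.π (a ≫ d)) z
  have hve : v ≫ e = 0 := by
    rw [← hψ]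
    calc v ≫ cokernel.π (a ≫ d) ≫ ψ ≫ kernel.ι g = (v ≫ cokernel.π (a ≫ d)) ≫ ψ ≫ kernel.ι g := by
          simp only [Category.assoc]
      _ = 0 := by rw [← hv, Category.assoc, reassoc_of% hz, zero_comp, comp_zero]
  obtain ⟨Z₂, π₂, hπ₂, w₂, hw₂⟩ := hde.exact_up_to_refinements v hve
  dsimp at w₂ hw₂
  refine ⟨Z₂, π₂ ≫ π₁, epi_comp' hπ₂ hπ₁, w₂ ≫ b ≫ cokernel.π (c ≫ b), ?_⟩
  dsimp
  calc (π₂ ≫ π₁) ≫ z = π₂ ≫ (π₁ ≫ z) := by simp only [Category.assoc]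
    _ = (π₂ ≫ v) ≫ cokernel.π (a ≫ d) := by rw [hv, Category.assoc]
    _ = w₂ ≫ (d ≫ cokernel.π (a ≫ d)) := by rw [hw₂, Category.assoc]
    _ = (w₂ ≫ b ≫ cokernel.π (c ≫ b)) ≫ φ := by rw [← hφ]; simp only [Category.assoc]

end Groth.Agent.S14498
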