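import Groth.Statements.S1450
import Groth.Agent.Lib.Helper7.GUSchDich

set_option autoImplicit false
universe u
open FlatMor

namespace Groth.Agent.S1450

open AlgebraicGeometry CategoryTheory Limits in
/-- Let Y be integral with all local rings geometrically unibranch, X connected, and f : X → Y
unramified (formally unramified and locally of finite type) such that some point of X maps to the
generic point of Y. Then f is étale and X is irreducible. -/
theorem result {X Y : Scheme.{u}} (f : X ⟶ Y) [IsIntegral Y] (hY : ∀ y : Y, CAlg2.IsGeomUnibranch (Y.presheaf.stalk y))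
    [ConnectedSpace ↑X] [FormallyUnramified f] [LocallyOfFiniteType f] (hdom : genericPoint ↑Y ∈ Set.range ⇑f) :
    Etale f ∧ IrreducibleSpace ↑X := by
  obtain ⟨x₀, hx₀⟩ := hdom
  obtain ⟨het, ξ, -, hgen⟩ := Groth.Agent.Lib.Helper7.GUSch.global f hY ⟨x₀, hx₀⟩
  refine ⟨het, ?_⟩
  have hcl : closure {ξ} = (Set.univ : Set X) :=
    Set.eq_univ_of_forall fun w => specializes_iff_mem_closure.mp (hgen w)
  have hirr : IsIrreducible (Set.univ : Set X) := hcl ▸ isIrreducible_singleton.closure
  haveI : PreirreducibleSpace X := ⟨hirr.isPreirreducible⟩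
  exact ⟨⟨ξ⟩⟩

end Groth.Agent.S1450
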