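import Groth.Statements.S14503
import Groth.Agent.Lib.Helper26.Lat7

set_option autoImplicit false
universe u
open IntTh

namespace Groth.Agent.S14503

open Groth.Agent.Lib.Helper26.Lat

/-- Let A ⊆ B be a module-finite extension of domains with A Noetherian local of Krull dimension one, K
⊆ L their fraction fields, and r ∈ B nonzero. Then B/rB has finite length as an A-module and
length_A(B/rB) equals the order at the closed point of A of the norm N_{L/K}(r), i.e.
length_A(A/(a)) − length_A(A/(b)) for N_{L/K}(r) = a/b. -/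
theorem result (A : Type u) [CommRing A] [IsDomain A]
    [IsNoetherianRing A] [IsLocalRing A] (hA : ringKrullDim A = 1) (B : Type u) [CommRing B]
    [IsDomain B] [Algebra A B] (hinj : Function.Injective (algebraMap A B)) [Module.Finite A B]
    (K L : Type u) [Field K] [Field L] [Algebra A K] [IsFractionRing A K] [Algebra B L]
    [IsFractionRing B L] [Algebra K L] [Algebra A L] [IsScalarTower A B L] [IsScalarTower A K L]
    [FiniteDimensional K L] (r : B) (hr : r ≠ 0) :
    Module.length A (B ⧸ Ideal.span {r}) < ⊤ ∧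
      ((Module.length A (B ⧸ Ideal.span {r})).toNat : ℤ) =
        CycAlg.ordFrac A K (Algebra.norm K (algebraMap B L r)) := by
  have : Ring.KrullDimLE 1 A := Ring.krullDimLE_iff.mpr (le_of_eq (by exact_mod_cast hA))
  let f : B →ₗ[A] L := (Algebra.linearMap B L).restrictScalars A
  have hf : Function.Injective f := IsFractionRing.injective B L
  have hfapp : ∀ b, f b = algebraMap B L b := fun b => rfl
  let M : Submodule A L := LinearMap.range f
  set r' := algebraMap B L r with hr'
  have hr'0 : r' ≠ 0 := by
    rw [hr', Ne, map_eq_zero_iff _ (IsFractionRing.injective B L)]; exact hr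
  -- `M` is a lattice
  have hspan : Submodule.span K (M : Set L) = ⊤ := by
    refine top_le_iff.mp ?_
    intro x _
    obtain ⟨b, s, rfl⟩ := IsLocalization.exists_mk'_eq (nonZeroDivisors B) x
    have hs0 : (s : B) ≠ 0 := nonZeroDivisors.ne_zero s.2
    have hsint : IsIntegral A (s : B) := Algebra.IsIntegral.isIntegral _
    have hne : (Ideal.span {(s : B)}).comap (algebraMap A B) ≠ ⊥ :=
      Ideal.comap_ne_bot_of_integral_mem hs0 (Ideal.mem_span_singleton_self _) hsint
    obtain ⟨a, haI, hc0⟩ := Submodule.exists_mem_ne_zero_of_ne_bot hne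
    obtain ⟨c, hcs⟩ := Ideal.mem_span_singleton'.mp (Ideal.mem_comap.mp haI)
    have haK : algebraMap A K a ≠ 0 := by
      rw [Ne, map_eq_zero_iff _ (IsFractionRing.injective A K)]; exact hc0
    have hsL : algebraMap B L (s : B) ≠ 0 := by
      rw [Ne, map_eq_zero_iff _ (IsFractionRing.injective B L)]; exact hs0
    have hx : IsLocalization.mk' L b s = ((algebraMap A K a)⁻¹) • f (b * c) := by
      rw [IsFractionRing.mk'_eq_div, hfapp, Algebra.smul_def, map_inv₀]
      have h2 : algebraMap K L (algebraMap A K a) = algebraMap B L c * algebraMap B L (s : B) := by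
        rw [← map_mul, hcs, ← IsScalarTower.algebraMap_apply,
          IsScalarTower.algebraMap_apply A B L]
      have h3 : algebraMap B L c ≠ 0 := by
        intro h0
        rw [h0, zero_mul] at h2
        exact haK ((map_eq_zero_iff _ (algebraMap K L).injective).mp h2)
      rw [h2, map_mul]
      field_simp
    rw [hx]
    exact Submodule.smul_mem _ _ (Submodule.subset_span ⟨b * c, rfl⟩)
  have hfg : M.FG := by
    have : M = (⊤ : Submodule A B).map f := (Submodule.map_top f).symm
    rw [this]
    exact (Module.Finite.fg_top).map f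
  have : Submodule.IsLattice K M := ⟨hfg, hspan⟩
  -- the automorphism
  let φ : L ≃ₗ[K] L := LinearEquiv.ofLinearMap (LinearMap.mulLeft K r') (LinearMap.mulLeft K r'⁻¹)
    (by ext x; simp [hr'0]) (by ext x; simp [hr'0])
  have hφdet : LinearMap.det φ.toLinearMap = Algebra.norm K r' := by
    rw [Algebra.norm_apply]
    congr 1
  have hmain := Groth.Agent.Lib.Helper26.Lat.main (K := K) M φ
  set φ' := φ.toLinearMap.restrictScalars A with hφ'
  let P : Submodule A B := (Ideal.span {r}).restrictScalars A
  have hPmap : M.map φ' = P.map f := by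
    ext y
    simp only [Submodule.mem_map, M, LinearMap.mem_range, P, Submodule.restrictScalars_mem,
      Ideal.mem_span_singleton']
    constructor
    · rintro ⟨_, ⟨b, rfl⟩, rfl⟩
      refine ⟨b * r, ⟨b, rfl⟩, ?_⟩
      show f (b * r) = r' * f b
      rw [hfapp, hfapp, map_mul, mul_comm]
    · rintro ⟨_, ⟨b, rfl⟩, rfl⟩
      refine ⟨f b, ⟨b, rfl⟩, ?_⟩
      show r' * f b = f (b * r)
      rw [hfapp, hfapp, map_mul, mul_comm]
  have hle : M.map φ' ≤ M := by
    rw [hPmap]
    rintro _ ⟨b, _, rfl⟩
    exact ⟨b, rfl⟩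
  have hrl : rl M (M ⊓ M.map φ') = Module.length A (B ⧸ Ideal.span {r}) := by
    rw [rl_inf_right, hPmap]
    have : M = (⊤ : Submodule A B).map f := (Submodule.map_top f).symm
    rw [this, rl_map f hf, rl_top]
    exact (Submodule.Quotient.restrictScalarsEquiv A (Ideal.span {r})).length_eq
  have hrl0 : rl (M.map φ') (M ⊓ M.map φ') = 0 := by
    rw [rl_inf_left]; exact rl_of_le hle
  obtain ⟨_, h1, _, h3⟩ := hmain
  change rl M (M ⊓ M.map φ') < ⊤ at h1
  change ((rl M (M ⊓ M.map φ')).toNat : ℤ) - ((rl (M.map φ') (M ⊓ M.map φ')).toNat : ℤ) = _ at h3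
  rw [hrl] at h1
  rw [hrl, hrl0, hφdet] at h3
  refine ⟨h1, ?_⟩
  rw [← h3]
  simp


end Groth.Agent.S14503
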