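import Groth.Statements.S14504
-- import your own Groth.Agent.* helpers here
import Mathlib
import Groth.Agent.Lib.Helper72.SchubertPluck

set_option autoImplicit false
universe u
open IntTh

namespace Groth.Agent.S14504

/-- Let K be a field, d ≤ n, λ = (λ₁ ≥ ⋯ ≥ λ_d) a non-increasing sequence of natural numbers, d_i = n −
d + i − λ_i, and V_j ⊆ K^n the span of the first j standard basis vectors. For a d × n matrix A over
K with linearly independent rows spanning the subspace W: one has dim(W ∩ V_{d_i}) ≥ i for every i =
1, …, d if and only if every d × d minor of A taken on strictly increasing columns j₁ < ⋯ < j_d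
(1-indexed) with j_i > d_i for some i vanishes. (Indices are 0-based in the formal statement: row i
: Fin d stands for i + 1 and column l : Fin n for l + 1.) -/
theorem result (K : Type u) [Field K] (n d : ℕ)
    (hdn : d ≤ n) (V : ℕ → Submodule K (Fin n → K))
    (hV : ∀ (j : ℕ) (v : Fin n → K), v ∈ V j ↔ ∀ l : Fin n, j ≤ (l : ℕ) → v l = 0)
    (lam : Fin d → ℕ) (hlam : Antitone lam) (A : Matrix (Fin d) (Fin n) K)
    (hA : LinearIndependent K (fun i : Fin d => A i)) :
    (∀ i : Fin d, (i : ℕ) + 1 ≤
        Module.finrank K ↥(Submodule.span K (Set.range fun i : Fin d => A i) ⊓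
          V (n - d + ((i : ℕ) + 1) - lam i))) ↔
      ∀ J : Fin d → Fin n, StrictMono J →
        (∃ i : Fin d, n - d + ((i : ℕ) + 1) - lam i < (J i : ℕ) + 1) →
          (A.submatrix id J).det = 0 := by
  classical
  have hWrank : Module.finrank K ↥(Submodule.span K (Set.range fun i : Fin d => A i)) = d := by
    rw [finrank_span_eq_card hA, Fintype.card_fin]
  constructor
  · -- (→)
    intro hdim J hJ ⟨i, hi⟩
    obtain ⟨S, hS⟩ : ∃ S, S = Submodule.span K (Set.range fun i : Fin d => A i) ⊓
          V (n - d + ((i : ℕ) + 1) - lam i) := ⟨_, rfl⟩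
    have hSdim : (i : ℕ) + 1 ≤ Module.finrank K ↥S := by rw [hS]; exact hdim i
    let φ : ↥S →ₗ[K] (Fin (i : ℕ) → K) :=
      { toFun := fun v l => v.1 (J ⟨l, lt_trans l.2 i.2⟩)
        map_add' := fun v w => by funext l; rfl
        map_smul' := fun c v => by funext l; rfl }
    have hker : LinearMap.ker φ ≠ ⊥ := by
      apply LinearMap.ker_ne_bot_of_finrank_lt
      rw [Module.finrank_pi, Fintype.card_fin]
      omega
    obtain ⟨v, hvker, hv0⟩ := Submodule.exists_mem_ne_zero_of_ne_bot hker
    have hvS : v.1 ∈ Submodule.span K (Set.range fun i : Fin d => A i) ⊓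
          V (n - d + ((i : ℕ) + 1) - lam i) := hS ▸ v.2
    obtain ⟨x, hx⟩ := (Submodule.mem_span_range_iff_exists_fun K).mp hvS.1
    have hx0 : x ≠ 0 := by
      intro h
      apply hv0
      apply Subtype.ext
      rw [← hx, h]
      simp
    have hvJ : ∀ l : Fin d, v.1 (J l) = 0 := by
      intro l
      by_cases hl : (l : ℕ) < (i : ℕ)
      · have := LinearMap.mem_ker.mp hvker
        exact congrFun this ⟨l, hl⟩
      · have hil : i ≤ l := by rw [Fin.le_def]; omega
        have hJil : J i ≤ J l := hJ.monotone hil
        apply (hV _ _).mp hvS.2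
        have : (J i : ℕ) ≤ (J l : ℕ) := hJil
        omega
    apply Matrix.exists_vecMul_eq_zero_iff.mp
    refine ⟨x, hx0, ?_⟩
    funext l
    have := hvJ l
    rw [← hx, Finset.sum_apply] at this
    rw [Pi.zero_apply, ← this]
    simp [Matrix.vecMul, dotProduct]
  · -- (←)
    intro hminor i
    obtain ⟨q, hq, hqn, hq1, hq2⟩ :=
      Groth.Agent.Lib.Helper72.SchubertPluck.exists_pivots V hV
        (Submodule.span K (Set.range fun i : Fin d => A i)) d hWrank
    obtain ⟨N, hN, hNspan⟩ := Groth.Agent.Lib.Helper72.SchubertCell.exists_nf q hq hqn V hV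
      (Submodule.span K (Set.range fun i : Fin d => A i)) hWrank hq1 hq2
    -- the minor at pivot columns is nonzero
    have hdet : (A.submatrix id (Groth.Agent.Lib.Helper72.SchubertCell.c q hqn)).det ≠ 0 := by
      intro hdet0
      obtain ⟨x, hx0, hx⟩ := Matrix.exists_vecMul_eq_zero_iff.mpr hdet0
      apply hx0
      have hvmem : (∑ r, x r • A r) ∈ Submodule.span K (Set.range N) := by
        rw [hNspan]
        apply Submodule.sum_mem
        intro r _
        exact Submodule.smul_mem _ _ (Submodule.subset_span ⟨r, rfl⟩)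
      obtain ⟨y, hy⟩ := (Submodule.mem_span_range_iff_exists_fun K).mp hvmem
      have hy0 : ∀ j, y j = 0 := by
        intro j
        have h1 := Groth.Agent.Lib.Helper72.SchubertCell.comb_apply_pivot q hqn hN y j
        rw [hy] at h1
        rw [← h1]
        have := congrFun hx j
        rw [Pi.zero_apply] at this
        rw [← this]
        simp [Matrix.vecMul, dotProduct, Finset.sum_apply]
      have hv0 : (∑ r, x r • A r) = 0 := by
        rw [← hy]
        simp [hy0]
      funext r
      exact (Fintype.linearIndependent_iff.mp hA x hv0 r)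
    have hstrict : StrictMono (Groth.Agent.Lib.Helper72.SchubertCell.c q hqn) := by
      intro a b hab
      exact hq hab
    have hle : ∀ i : Fin d, q i + 1 ≤ n - d + ((i : ℕ) + 1) - lam i := by
      intro i
      by_contra hcon
      apply hdet
      apply hminor _ hstrict
      refine ⟨i, ?_⟩
      show _ < q i + 1
      omega
    calc (i : ℕ) + 1 ≤ Module.finrank K ↥(Submodule.span K (Set.range fun i : Fin d => A i) ⊓
            V (q i + 1)) := hq1 i
      _ ≤ _ := Submodule.finrank_mono (inf_le_inf_left _
          (Groth.Agent.Lib.Helper72.SchubertPluck.V_mono V hV (hle i)))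

end Groth.Agent.S14504
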