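import Groth.Statements.S14505
import Mathlib
-- import your own Groth.Agent.* helpers here

set_option autoImplicit false
universe u
open IntTh

namespace Groth.Agent.S14505

variable {R : Type u} [CommRing R]

lemma coeff_succ_lin (a : R) (F : PowerSeries R) (m : ℕ) :
    PowerSeries.coeff (m + 1) ((1 + PowerSeries.C a * PowerSeries.X) * F)
      = PowerSeries.coeff (m + 1) F + a * PowerSeries.coeff m F := by
  rw [add_mul, one_mul, map_add, mul_assoc, PowerSeries.coeff_C_mul, PowerSeries.coeff_succ_X_mul]

lemma coeff_zero_lin (a : R) (F : PowerSeries R) :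
    PowerSeries.coeff 0 ((1 + PowerSeries.C a * PowerSeries.X) * F) = PowerSeries.coeff 0 F := by
  rw [add_mul, one_mul, map_add, mul_assoc, PowerSeries.coeff_C_mul, PowerSeries.coeff_zero_X_mul,
    mul_zero, add_zero]

lemma lin_mul_geom (a : R) :
    (1 + PowerSeries.C a * PowerSeries.X) * PowerSeries.mk (fun m => (-a) ^ m) = 1 := by
  ext m
  cases m with
  | zero => rw [coeff_zero_lin]; simp
  | succ m =>
    rw [coeff_succ_lin]
    simp only [PowerSeries.coeff_mk, PowerSeries.coeff_one, Nat.succ_ne_zero, if_false]
    ring

lemma coeff_prod_lin_geom : ∀ (e : ℕ) (β : Fin e → R) (a : R) (k : ℕ),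
    PowerSeries.coeff (e + k) ((∏ j : Fin e, (1 + PowerSeries.C (β j) * PowerSeries.X)) *
        PowerSeries.mk (fun m => (-a) ^ m)) = (-a) ^ k * ∏ j : Fin e, (β j - a) := by
  intro e
  induction e with
  | zero => intro β a k; simp [PowerSeries.coeff_mk]
  | succ e ih =>
    intro β a k
    rw [Fin.prod_univ_succ, Fin.prod_univ_succ, mul_assoc, show e + 1 + k = (e + k) + 1 by ring,
      coeff_succ_lin, show e + k + 1 = e + (k + 1) by ring, ih (fun j => β j.succ) a (k + 1),
      ih (fun j => β j.succ) a k]
    ring

lemma entry_shift (a : R) (P : PowerSeries R) (e i j : ℕ) :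
    (if i + 1 ≤ e + (j + 1) then PowerSeries.coeff (e + (j + 1) - (i + 1)) P else 0) +
      a * (if i + 1 ≤ e + j then PowerSeries.coeff (e + j - (i + 1)) P else 0) =
    if i ≤ e + j then
      PowerSeries.coeff (e + j - i) ((1 + PowerSeries.C a * PowerSeries.X) * P) else 0 := by
  by_cases h : i ≤ e + j
  · obtain ⟨m, hm⟩ : ∃ m, e + j = i + m := ⟨e + j - i, by omega⟩
    have h1 : e + (j + 1) - (i + 1) = m := by omega
    have h2 : e + j - i = m := by omega
    rw [if_pos (by omega), if_pos h, h1, h2]
    cases m with
    | zero => rw [if_neg (by omega), coeff_zero_lin]; simp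
    | succ m =>
      have h3 : e + j - (i + 1) = m := by omega
      rw [if_pos (by omega), h3, coeff_succ_lin]
  · rw [if_neg (by omega), if_neg (by omega), if_neg h]; simp

/-- Let R be a commutative ring, α₁, …, α_d, β₁, …, β_e ∈ R, b(t) = ∏ (1 + β_j t), and for k = 1, …, d
let P_k(t) = b(t)/∏_{i ≤ k} (1 + α_i t) ∈ R⟦t⟧, each factor 1 + α_i t being inverted by its
geometric series; write (P_k)_m for the coefficient of t^m, with (P_k)_m = 0 for m < 0. Then ∏_{i,j}
(β_j − α_i) = det((P_i)_{e+j−i})_{1 ≤ i,j ≤ d}, the d × d determinant whose i-th row is built from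
the coefficients of the i-th partial quotient. (Rows and columns are 0-based in the formal
statement, which does not change j − i; the row of index i inverts the factors of index at most i.
The companion form with every row built from the full quotient b/a is stated separately.) -/
theorem result (R : Type u) [CommRing R] (d e : ℕ)
    (α : Fin d → R) (β : Fin e → R) :
    ∏ i : Fin d, ∏ j : Fin e, (β j - α i) =
      (Matrix.of fun i j : Fin d =>
        if (i : ℕ) ≤ e + (j : ℕ) then
          PowerSeries.coeff (e + (j : ℕ) - (i : ℕ))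
            ((∏ j : Fin e, (1 + PowerSeries.C (β j) * PowerSeries.X)) *
              ∏ l : Fin d, if l ≤ i then PowerSeries.mk (fun m => (-α l) ^ m) else 1)
        else 0).det := by
  induction d with
  | zero => simp [Matrix.det_isEmpty]
  | succ d ih =>
    have ih' := ih (fun l => α l.succ)
    have key : ∀ M : Matrix (Fin (d + 1)) (Fin (d + 1)) R,
        (∀ i j : Fin (d + 1), M i j = if (i : ℕ) ≤ e + (j : ℕ) then
          PowerSeries.coeff (e + (j : ℕ) - (i : ℕ))
            ((∏ j : Fin e, (1 + PowerSeries.C (β j) * PowerSeries.X)) *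
              ∏ l : Fin (d + 1), if l ≤ i then PowerSeries.mk (fun m => (-α l) ^ m) else 1)
        else 0) →
        ∏ i : Fin (d + 1), ∏ j : Fin e, (β j - α i) = M.det := by
      intro M hM
      have hrow0 : ∀ j : Fin (d + 1),
          M 0 j = (-α 0) ^ (j : ℕ) * ∏ j : Fin e, (β j - α 0) := by
        intro j
        have hprod : (∏ l : Fin (d + 1), if l ≤ (0 : Fin (d + 1)) then
            PowerSeries.mk (fun m => (-α l) ^ m) else (1 : PowerSeries R)) =
            PowerSeries.mk (fun m => (-α 0) ^ m) := by
          rw [Fin.prod_univ_succ]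
          simp [Fin.succ_ne_zero]
        rw [hM, hprod, Fin.val_zero, if_pos (Nat.zero_le _), Nat.sub_zero]
        exact coeff_prod_lin_geom e β (α 0) j
      let M' : Matrix (Fin (d + 1)) (Fin (d + 1)) R := Matrix.of fun i j =>
        Fin.cases (M i 0) (fun j' => M i j'.succ + α 0 * M i j'.castSucc) j
      have hdet : M.det = M'.det := by
        refine Matrix.det_eq_of_forall_col_eq_smul_add_pred (fun _ => -α 0) ?_ ?_
        · intro i; simp only [M', Matrix.of_apply, Fin.cases_zero]
        · intro i j
          simp only [M', Matrix.of_apply, Fin.cases_succ]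
          ring
      have hz : ∀ j : Fin d, M' 0 j.succ = 0 := by
        intro j
        simp only [M', Matrix.of_apply, Fin.cases_succ]
        rw [hrow0, hrow0, Fin.val_succ, Fin.val_castSucc]
        ring
      have h00 : M' 0 0 = ∏ j : Fin e, (β j - α 0) := by
        simp only [M', Matrix.of_apply, Fin.cases_zero]
        rw [hrow0]; simp
      rw [hdet, Matrix.det_succ_row_zero, Fin.sum_univ_succ]
      simp only [hz, mul_zero, zero_mul, Finset.sum_const_zero, add_zero, Fin.val_zero, pow_zero,
        one_mul, h00, Fin.succAbove_zero]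
      rw [Fin.prod_univ_succ]
      congr 1
      rw [ih']
      congr 1
      ext i' j'
      simp only [Matrix.submatrix_apply, Matrix.of_apply, M', Fin.cases_succ]
      rw [hM, hM, Fin.val_succ, Fin.val_succ, Fin.val_castSucc, entry_shift]
      have hP : (1 + PowerSeries.C (α 0) * PowerSeries.X) *
          ((∏ j : Fin e, (1 + PowerSeries.C (β j) * PowerSeries.X)) *
            ∏ l : Fin (d + 1), if l ≤ i'.succ then PowerSeries.mk (fun m => (-α l) ^ m) else 1) =
          (∏ j : Fin e, (1 + PowerSeries.C (β j) * PowerSeries.X)) *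
            ∏ l : Fin d, if l ≤ i' then PowerSeries.mk (fun m => (-α l.succ) ^ m) else 1 := by
        rw [Fin.prod_univ_succ]
        simp only [Fin.zero_le, if_true, Fin.succ_le_succ_iff]
        rw [show ∀ (x y z w : PowerSeries R), x * (y * (z * w)) = y * ((x * z) * w) from
          fun x y z w => by ring, lin_mul_geom, one_mul]
      rw [hP]
    exact key _ (fun i j => rfl)

end Groth.Agent.S14505
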