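import Groth.Statements.S14506
import Mathlib
-- import your own Groth.Agent.* helpers here

set_option autoImplicit false
open IntTh

namespace Groth.Agent.S14506

lemma exp_sub_one_eq : ∃ u : PowerSeries ℚ, PowerSeries.constantCoeff u = 1 ∧
    PowerSeries.exp ℚ - 1 = PowerSeries.X * u := by
  refine ⟨PowerSeries.mk (fun n => (1 : ℚ) / ((n + 1).factorial : ℚ)), ?_, ?_⟩
  · rw [← PowerSeries.coeff_zero_eq_constantCoeff_apply, PowerSeries.coeff_mk]; simp
  · ext n
    cases n with
    | zero => simp
    | succ n =>
      rw [PowerSeries.coeff_succ_X_mul, PowerSeries.coeff_mk, map_sub, PowerSeries.coeff_exp,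
        PowerSeries.coeff_one]
      simp

lemma todd_back (g : PowerSeries ℚ)
    (hg : g * (PowerSeries.exp ℚ - 1) = PowerSeries.X * PowerSeries.exp ℚ) :
    ∀ n : ℕ, PowerSeries.coeff n (g ^ (n + 1)) = 1 := by
  obtain ⟨u, hu0, hu⟩ := exp_sub_one_eq
  have hE1 : PowerSeries.exp ℚ - 1 ≠ 0 := by
    rw [hu]
    apply mul_ne_zero PowerSeries.X_ne_zero
    intro h0
    rw [h0, map_zero] at hu0
    exact zero_ne_one hu0
  have hg0 : PowerSeries.constantCoeff g = 1 := by
    have hg' := hg
    rw [hu, mul_left_comm] at hg'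
    have h1 := mul_left_cancel₀ PowerSeries.X_ne_zero hg'
    have h2 := congrArg PowerSeries.constantCoeff h1
    rw [map_mul, hu0, mul_one, PowerSeries.constantCoeff_exp] at h2
    exact h2
  have h1 := congrArg (PowerSeries.derivative ℚ) hg
  simp only [Derivation.leibniz, map_sub, PowerSeries.derivative_exp, PowerSeries.derivative_one,
    PowerSeries.derivative_X, smul_eq_mul, sub_zero, mul_one] at h1
  have hode : PowerSeries.X * PowerSeries.derivative ℚ g = g * (1 + PowerSeries.X - g) := by
    apply mul_left_cancel₀ hE1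
    linear_combination PowerSeries.X * h1 - (1 + PowerSeries.X - g) * hg
  intro n
  induction n with
  | zero => rw [zero_add, pow_one, PowerSeries.coeff_zero_eq_constantCoeff_apply]; exact hg0
  | succ n ih =>
    have e : PowerSeries.X * PowerSeries.derivative ℚ (g ^ (n + 1)) =
        PowerSeries.C ((n : ℚ) + 1) *
          (g ^ (n + 1) + PowerSeries.X * g ^ (n + 1) - g ^ (n + 1 + 1)) := by
      have hc : ((n + 1 : ℕ) : PowerSeries ℚ) = PowerSeries.C ((n : ℚ) + 1) := by
        simp
      rw [PowerSeries.derivative_pow, Nat.add_sub_cancel, hc]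
      linear_combination PowerSeries.C ((n : ℚ) + 1) * g ^ n * hode
    have e2 := congrArg (PowerSeries.coeff (n + 1)) e
    rw [PowerSeries.coeff_succ_X_mul, PowerSeries.coeff_derivative, PowerSeries.coeff_C_mul,
      map_sub, map_add, PowerSeries.coeff_succ_X_mul, ih] at e2
    have hn : ((n : ℚ) + 1) ≠ 0 := by positivity
    have e3 : ((n : ℚ) + 1) * (PowerSeries.coeff (n + 1) (g ^ (n + 1 + 1)) - 1) = 0 := by
      linear_combination e2
    rcases mul_eq_zero.mp e3 with h | h
    · exact absurd h hn
    · linarith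

lemma todd_uniq (g h : PowerSeries ℚ) (hg : ∀ n : ℕ, PowerSeries.coeff n (g ^ (n + 1)) = 1)
    (hh : ∀ n : ℕ, PowerSeries.coeff n (h ^ (n + 1)) = 1) : g = h := by
  have hg0 : PowerSeries.constantCoeff g = 1 := by
    have h1 := hg 0
    rwa [zero_add, pow_one, PowerSeries.coeff_zero_eq_constantCoeff_apply] at h1
  have hh0 : PowerSeries.constantCoeff h = 1 := by
    have h1 := hh 0
    rwa [zero_add, pow_one, PowerSeries.coeff_zero_eq_constantCoeff_apply] at h1
  ext n
  induction n using Nat.strong_induction_on with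
  | _ n ih =>
    have hdvd : PowerSeries.X ^ n ∣ g - h := by
      rw [PowerSeries.X_pow_dvd_iff]
      intro m hm
      rw [map_sub, ih m hm, sub_self]
    obtain ⟨r, hr⟩ := hdvd
    have hgeom := geom_sum₂_mul g h (n + 1)
    obtain ⟨S, hS⟩ : ∃ S, S = ∑ i ∈ Finset.range (n + 1), g ^ i * h ^ (n + 1 - 1 - i) :=
      ⟨_, rfl⟩
    rw [← hS, hr] at hgeom
    have hS0 : PowerSeries.constantCoeff S = (n : ℚ) + 1 := by
      rw [hS, map_sum]
      simp only [map_mul, map_pow, hg0, hh0, one_pow, mul_one, Finset.sum_const,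
        Finset.card_range, nsmul_eq_mul]
      push_cast; ring
    have h3 := congrArg (PowerSeries.coeff n) hgeom
    rw [map_sub, hg n, hh n, sub_self, mul_left_comm] at h3
    have h4 := PowerSeries.coeff_X_pow_mul (S * r) n 0
    rw [zero_add] at h4
    rw [h4, PowerSeries.coeff_zero_eq_constantCoeff_apply, map_mul, hS0] at h3
    have hr0 : PowerSeries.constantCoeff r = 0 := by
      rcases mul_eq_zero.mp h3 with h | h
      · exfalso
        have : (0 : ℚ) < (n : ℚ) + 1 := by positivity
        linarith
      · exact h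
    have h5 := congrArg (PowerSeries.coeff n) hr
    have h6 := PowerSeries.coeff_X_pow_mul r n 0
    rw [zero_add] at h6
    rw [h6, PowerSeries.coeff_zero_eq_constantCoeff_apply, hr0, map_sub] at h5
    exact sub_eq_zero.mp h5

/-- A formal power series f(t) ∈ ℚ⟦t⟧ satisfies, for every n ≥ 0, that the coefficient of t^n in
f(t)^(n+1) is 1, if and only if f(t)·(e^t − 1) = t·e^t, that is f(t) = t/(1 − e^(−t)) = 1 + t/2 +
t²/12 − ⋯. (The published statement is the existence and uniqueness of the Todd class of vector
bundles normalised by multiplicativity, td(O) = 1 and the Riemann–Roch identity for the structure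
sheaf of every projective space; this row is the power-series fact its proof establishes: the
normalisation forces exactly these coefficient conditions on the one-variable series.) -/
theorem result (f : PowerSeries ℚ) :
    (∀ n : ℕ, PowerSeries.coeff n (f ^ (n + 1)) = 1) ↔
      f * (PowerSeries.exp ℚ - 1) = PowerSeries.X * PowerSeries.exp ℚ := by
  constructor
  · intro hcoef
    obtain ⟨u, hu0, hu⟩ := exp_sub_one_eq
    have hunit : u * u⁻¹ = 1 := PowerSeries.mul_inv_cancel u (by rw [hu0]; exact one_ne_zero)
    obtain ⟨T, hT⟩ : ∃ T : PowerSeries ℚ, T = PowerSeries.exp ℚ * u⁻¹ := ⟨_, rfl⟩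
    have hTeq : T * (PowerSeries.exp ℚ - 1) = PowerSeries.X * PowerSeries.exp ℚ := by
      rw [hu, hT]
      linear_combination (PowerSeries.X * PowerSeries.exp ℚ) * hunit
    have h1 := todd_uniq f T hcoef (todd_back T hTeq)
    rw [h1]; exact hTeq
  · exact todd_back f

end Groth.Agent.S14506
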