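import Groth.Statements.S14509
import Mathlib
import Groth.Agent.S14506
-- import your own Groth.Agent.* helpers here

set_option autoImplicit false
open IntTh

namespace Groth.Agent.S14509

/-- Let f(t) ∈ ℚ⟦t⟧ be the Todd series, characterised by f(t)·(e^t − 1) = t·e^t, i.e. f(t) = t/(1 −
e^(−t)). Then for every m ∈ ℤ and n ∈ ℕ the coefficient of t^n in e^(mt)·f(t)^(n+1) is the binomial
coefficient C(m+n, n), understood as the polynomial (m+n)(m+n−1)⋯(m+1)/n! in m (so for all integers
m). (The published statement is the Hirzebruch–Riemann–Roch formula χ(E) = ∫ ch(E)·td for vector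
bundles on projective n-space; this row is the identity of formal power series to which its proof
reduces it for E = O(m): the degree-n part of ch(O(m))·td(P^n) = e^(mζ)(ζ/(1 − e^(−ζ)))^(n+1)
against χ(P^n, O(m)) = C(m+n, n).) -/
theorem result (f : PowerSeries ℚ)
    (hf : f * (PowerSeries.exp ℚ - 1) = PowerSeries.X * PowerSeries.exp ℚ) (m : ℤ) (n : ℕ) :
    PowerSeries.coeff n (PowerSeries.rescale (m : ℚ) (PowerSeries.exp ℚ) * f ^ (n + 1)) =
      ((Ring.choose (m + n : ℤ) n : ℤ) : ℚ) := by
  have hf0 : PowerSeries.constantCoeff f = 1 := by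
    have h1 := Groth.Agent.S14506.todd_back f hf 0
    rwa [zero_add, pow_one, PowerSeries.coeff_zero_eq_constantCoeff_apply] at h1
  have hE : ∀ q : ℚ, PowerSeries.rescale (q + 1) (PowerSeries.exp ℚ) =
      PowerSeries.rescale q (PowerSeries.exp ℚ) * PowerSeries.exp ℚ := by
    intro q
    have h1 := PowerSeries.exp_mul_exp_eq_exp_add (A := ℚ) q 1
    rw [PowerSeries.rescale_one, RingHom.id_apply] at h1
    exact h1.symm
  have hrec : ∀ (q : ℚ) (n : ℕ),
      PowerSeries.coeff (n + 1)
        (PowerSeries.rescale (q + 1) (PowerSeries.exp ℚ) * f ^ (n + 1 + 1)) =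
      PowerSeries.coeff (n + 1) (PowerSeries.rescale q (PowerSeries.exp ℚ) * f ^ (n + 1 + 1)) +
      PowerSeries.coeff n (PowerSeries.rescale (q + 1) (PowerSeries.exp ℚ) * f ^ (n + 1)) := by
    intro q n
    have h1 : PowerSeries.rescale (q + 1) (PowerSeries.exp ℚ) * f ^ (n + 1 + 1) =
        PowerSeries.rescale q (PowerSeries.exp ℚ) * f ^ (n + 1 + 1) +
        PowerSeries.X * (PowerSeries.rescale (q + 1) (PowerSeries.exp ℚ) * f ^ (n + 1)) := by
      rw [hE q]
      linear_combination (PowerSeries.rescale q (PowerSeries.exp ℚ) * f ^ (n + 1)) * hf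
    rw [h1, map_add, PowerSeries.coeff_succ_X_mul]
  have main : ∀ (n : ℕ) (m : ℤ) (q : ℚ), q = (m : ℚ) →
      PowerSeries.coeff n (PowerSeries.rescale q (PowerSeries.exp ℚ) * f ^ (n + 1)) =
        ((Ring.choose (m + n : ℤ) n : ℤ) : ℚ) := by
    intro n
    induction n with
    | zero =>
      intro m q hq
      rw [zero_add, pow_one, PowerSeries.coeff_zero_eq_constantCoeff_apply, map_mul, hf0, mul_one,
        ← PowerSeries.coeff_zero_eq_constantCoeff_apply, PowerSeries.coeff_rescale, pow_zero,
        one_mul, PowerSeries.coeff_exp, Ring.choose_zero_right]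
      simp
    | succ n ih =>
      intro m
      refine Int.induction_on m ?_ ?_ ?_
      · intro q hq
        rw [hq, Int.cast_zero, PowerSeries.rescale_zero_apply, PowerSeries.constantCoeff_exp,
          map_one, one_mul, Groth.Agent.S14506.todd_back f hf (n + 1), zero_add,
          Ring.choose_natCast, Nat.choose_self]
        simp
      · intro i hi q hq
        have h1 := hrec (q - 1) n
        rw [sub_add_cancel] at h1
        rw [h1, hi (q - 1) (by rw [hq]; push_cast; ring), ih ((i : ℤ) + 1) q hq]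
        have e1 : ((i : ℤ) + 1 + ((n + 1 : ℕ) : ℤ)) = ((i : ℤ) + ((n + 1 : ℕ) : ℤ)) + 1 := by ring
        have e2 : ((i : ℤ) + 1 + (n : ℤ)) = (i : ℤ) + ((n + 1 : ℕ) : ℤ) := by push_cast; ring
        rw [e1, e2, Ring.choose_succ_succ]
        push_cast
        ring
      · intro i hi q hq
        have h1 := hrec q n
        rw [hi (q + 1) (by rw [hq]; push_cast; ring),
          ih (-(i : ℤ)) (q + 1) (by rw [hq]; push_cast; ring)] at h1
        have e1 : (-(i : ℤ) + ((n + 1 : ℕ) : ℤ)) = (-(i : ℤ) - 1 + ((n + 1 : ℕ) : ℤ)) + 1 := by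
          ring
        have e2 : (-(i : ℤ) + (n : ℤ)) = -(i : ℤ) - 1 + ((n + 1 : ℕ) : ℤ) := by push_cast; ring
        rw [e1, e2, Ring.choose_succ_succ] at h1
        push_cast at h1 ⊢
        linarith
  exact main n m (m : ℚ) rfl

end Groth.Agent.S14509
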