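import Groth.Statements.S1451
import Groth.Agent.Lib.Helper7.GUSchUnram

set_option autoImplicit false
universe u
open FlatMor

namespace Groth.Agent.S1451

open AlgebraicGeometry CategoryTheory Limits in
/-- Let Y be integral and f : X → Y locally of finite type; let x be a point such that the local ring of
Y at f x is geometrically unibranch, f is unramified on an open neighbourhood of x, and some
generization of x maps to the generic point of Y. Then f is étale on an open neighbourhood of x. -/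
theorem result {X Y : Scheme.{u}} (f : X ⟶ Y) [IsIntegral Y] [LocallyOfFiniteType f] (x : X)
    (hY : CAlg2.IsGeomUnibranch (Y.presheaf.stalk (f x))) (hsp : ∃ x' : X, x' ⤳ x ∧ f x' = genericPoint ↑Y)
    (hunr : ∃ U : X.Opens, x ∈ U ∧ FormallyUnramified (U.ι ≫ f)) :
    ∃ U : X.Opens, x ∈ U ∧ Etale (U.ι ≫ f) := by
  obtain ⟨x', hsp, hx'⟩ := hsp
  obtain ⟨U, hxU, hunr⟩ := hunr
  obtain ⟨V, W, hxW, -, e, hQ⟩ := Groth.Agent.Lib.Helper7.LocalAt.exists_appLE_of_open
    (P := @FormallyUnramified) f x Groth.Agent.Lib.Helper7.GUSch.formallyUnramified_stable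
    U hxU hunr
  have hft : (f.appLE V.1 W.1 e).hom.FiniteType :=
    HasRingHomProperty.appLE (P := @LocallyOfFiniteType) f inferInstance V W e
  haveI : Nonempty V.1 := ⟨⟨f x, e hxW⟩⟩
  haveI hdomV : IsDomain Γ(Y, V.1) := inferInstance
  refine Groth.Agent.Lib.Helper7.GUSch.exists_etale_of_appLE f x V W hxW e hft hQ inferInstance hY
    ?_ (Or.inr hdomV)
  intro r hr
  -- `x'` lies in `W` and the germ of `φ r` at `x'` vanishes
  have hx'W : x' ∈ W.1 := hsp.mem_open W.1.isOpen hxW
  have hr' : X.presheaf.germ W.1 x' hx'W ((f.appLE V.1 W.1 e).hom r) = 0 := by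
    have h1 := TopCat.Presheaf.germ_stalkSpecializes_apply X.presheaf hxW hsp
      ((f.appLE V.1 W.1 e).hom r)
    rw [← h1, hr, map_zero]
  -- hence `r` lies in the prime of `f x'`, which is zero
  have hmem : (f.appLE V.1 W.1 e).hom r ∈ (W.2.primeIdealOf ⟨x', hx'W⟩).asIdeal := by
    by_contra hcon
    rw [Groth.Agent.Lib.Helper7.GUSch.notMem_primeIdealOf_iff x' W.2 hx'W, hr'] at hcon
    exact not_isUnit_zero hcon
  have hcomap := IsAffineOpen.comap_primeIdealOf_appLE V.1 V.2 W.1 W.2 e hx'W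
  have hmem' : r ∈ (V.2.primeIdealOf ⟨f x', e hx'W⟩).asIdeal := by
    rw [← hcomap]
    exact hmem
  have hgen : V.2.primeIdealOf ⟨f x', e hx'W⟩ = (⊥ : PrimeSpectrum Γ(Y, V.1)) := by
    have h2 := V.2.primeIdealOf_genericPoint
    rw [genericPoint_eq_bot_of_affine] at h2
    rw [← h2]
    congr 1
    exact Subtype.ext hx'
  rw [hgen] at hmem'
  have hr0 : r = 0 := hmem'
  rw [hr0, map_zero]

end Groth.Agent.S1451
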