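import Groth.Statements.S14511
-- import your own Groth.Agent.* helpers here

set_option autoImplicit false
universe u
open CAlgX

namespace Groth.Agent.S14511

/-- The key inclusion–exclusion identity for a single exponent vector of degree at most `r`. -/
theorem key (R : Type u) [CommRing R] (r : ℕ) (d : Fin r →₀ ℕ) (hd : ∑ i, d i ≤ r) :
    ∑ J : Finset (Fin r), (-1 : R) ^ J.card * ∏ i, (if i ∈ J then (-1 : R) else 0) ^ d i =
      if d = ∑ i : Fin r, Finsupp.single i 1 then 1 else 0 := by
  classical
  have h1 : ∀ J : Finset (Fin r),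
      (-1 : R) ^ J.card * ∏ i, (if i ∈ J then (-1 : R) else 0) ^ d i =
        (∏ i ∈ J, (-((-1 : R) ^ d i))) * ∏ i ∈ Finset.univ \ J, (0 : R) ^ d i := by
    intro J
    rw [← Finset.prod_sdiff (Finset.subset_univ J)]
    have e1 : ∏ i ∈ Finset.univ \ J, (if i ∈ J then (-1 : R) else 0) ^ d i =
        ∏ i ∈ Finset.univ \ J, (0 : R) ^ d i :=
      Finset.prod_congr rfl fun i hi => by
        rw [if_neg (Finset.mem_sdiff.mp hi).2]
    have e2 : ∏ i ∈ J, (if i ∈ J then (-1 : R) else 0) ^ d i = ∏ i ∈ J, (-1 : R) ^ d i :=
      Finset.prod_congr rfl fun i hi => by rw [if_pos hi]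
    rw [e1, e2, Finset.prod_neg]
    ring
  rw [Finset.sum_congr rfl fun J _ => h1 J]
  have h2 := Finset.prod_add (fun i : Fin r => -((-1 : R) ^ d i)) (fun i => (0 : R) ^ d i)
    Finset.univ
  rw [Finset.powerset_univ] at h2
  rw [← h2]
  split_ifs with hd1
  · refine Finset.prod_eq_one fun i _ => ?_
    have : d i = 1 := by
      rw [hd1]
      simp [Finset.sum_apply', Finsupp.single_apply]
    rw [this]; ring
  · -- some exponent vanishes
    have : ∃ i, d i = 0 := by
      by_contra hne
      push Not at hne
      apply hd1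
      have hge : ∀ i, 1 ≤ d i := fun i => Nat.one_le_iff_ne_zero.mpr (hne i)
      have hsum : ∑ i : Fin r, (d i - 1) = 0 := by
        have : ∑ i : Fin r, d i = ∑ i : Fin r, ((d i - 1) + 1) :=
          Finset.sum_congr rfl fun i _ => (Nat.sub_add_cancel (hge i)).symm
        rw [Finset.sum_add_distrib] at this
        simp at this
        omega
      ext i
      have hi : d i - 1 = 0 := (Finset.sum_eq_zero_iff.mp hsum) i (Finset.mem_univ i)
      have : d i = 1 := by have := hge i; omega
      rw [this]
      simp [Finset.sum_apply', Finsupp.single_apply]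
    obtain ⟨i, hi⟩ := this
    refine Finset.prod_eq_zero (Finset.mem_univ i) ?_
    rw [hi]; ring

/-- Let R be a commutative ring and P ∈ R[x_1, …, x_r] a polynomial of total degree at most r. Then the
coefficient of the monomial x_1 ⋯ x_r in P equals Σ_J (−1)^{|J|} P(δ_J), the sum over all subsets J
⊆ {1, …, r} (the empty one included), where δ_J is the point with coordinate −1 at the indices in J
and 0 at the others. -/
theorem result (R : Type u) [CommRing R] (r : ℕ)
    (P : MvPolynomial (Fin r) R) (hP : P.totalDegree ≤ r) :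
    MvPolynomial.coeff (∑ i : Fin r, Finsupp.single i 1) P =
      ∑ J : Finset (Fin r), (-1 : R) ^ J.card * MvPolynomial.eval (fun j => if j ∈ J then (-1 : R) else 0) P := by
  classical
  have h1 : ∀ J : Finset (Fin r),
      (-1 : R) ^ J.card * MvPolynomial.eval (fun j => if j ∈ J then (-1 : R) else 0) P =
        ∑ d ∈ P.support, MvPolynomial.coeff d P *
          ((-1 : R) ^ J.card * ∏ i, (if i ∈ J then (-1 : R) else 0) ^ d i) := by
    intro J
    rw [MvPolynomial.eval_eq', Finset.mul_sum]
    refine Finset.sum_congr rfl fun d _ => ?_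
    ring
  rw [Finset.sum_congr rfl fun J _ => h1 J, Finset.sum_comm]
  have h2 : ∀ d ∈ P.support, ∑ J : Finset (Fin r), MvPolynomial.coeff d P *
      ((-1 : R) ^ J.card * ∏ i, (if i ∈ J then (-1 : R) else 0) ^ d i) =
        if d = ∑ i : Fin r, Finsupp.single i 1 then MvPolynomial.coeff d P else 0 := by
    intro d hd
    rw [← Finset.mul_sum, key R r d]
    · split_ifs <;> simp
    · have := MvPolynomial.le_totalDegree hd
      rw [Finsupp.sum_fintype _ _ (fun _ => rfl)] at this
      exact this.trans hP
  rw [Finset.sum_congr rfl h2, Finset.sum_ite_eq']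
  split_ifs with h
  · rfl
  · exact MvPolynomial.notMem_support_iff.mp h

end Groth.Agent.S14511
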